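import Mathlib

/-!
# Base change of modules along a ring homomorphism, unbundled (lead)
-/

set_option autoImplicit false
universe u
open TensorProduct

namespace Groth.Agent.Lead.BCU

section Alg

variable {A A' : Type u} [CommRing A] [CommRing A'] (φ : A →+* A')
  {M N : Type u} [AddCommGroup M] [Module A M] [AddCommGroup N] [Module A' N]

/-- `l : M → N` exhibits the `A'`-module `N` as the base change of the `A`-module `M` along `φ` -/
def IsBC (l : M → N) : Prop :=
  letI := φ.toAlgebra
  letI : Module A N := Module.compHom N φ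
  haveI : IsScalarTower A A' N := ⟨fun a a' n => by
    change (φ a * a') • n = φ a • a' • n
    exact mul_smul _ _ _⟩
  ∃ l' : M →ₗ[A] N, (∀ m, l' m = l m) ∧ IsBaseChange A' l'

/-- the standard example -/
theorem isBC_tmul :
    letI := φ.toAlgebra
    IsBC φ (fun m : M => (1 : A') ⊗ₜ[A] m) := by
  letI := φ.toAlgebra
  refine ⟨(TensorProduct.mk A A' M 1), fun m => rfl, ?_⟩
  exact TensorProduct.isBaseChange A M A'

variable {φ}

theorem IsBC.of_equiv {M₀ N₀ : Type u} [AddCommGroup M₀] [Module A M₀] [AddCommGroup N₀]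
    [Module A' N₀] (μ : M ≃ₗ[A] M₀) (ν : N ≃ₗ[A'] N₀) {l : M → N} {l₀ : M₀ → N₀}
    (hc : ∀ m, ν (l m) = l₀ (μ m)) (h : IsBC φ l₀) : IsBC φ l := by
  letI := φ.toAlgebra
  letI : Module A N := Module.compHom N φ
  letI : Module A N₀ := Module.compHom N₀ φ
  haveI : IsScalarTower A A' N := ⟨fun a a' n => by
    change (φ a * a') • n = φ a • a' • n
    exact mul_smul _ _ _⟩
  haveI : IsScalarTower A A' N₀ := ⟨fun a a' n => by
    change (φ a * a') • n = φ a • a' • n
    exact mul_smul _ _ _⟩
  obtain ⟨l₀', hl₀, hb⟩ := h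
  let l' : M →ₗ[A] N :=
    ((ν.symm.restrictScalars A).toLinearMap.comp l₀').comp μ.toLinearMap
  have hl' : ∀ m, l' m = l m := by
    intro m
    change ν.symm (l₀' (μ m)) = l m
    rw [hl₀, ← hc, LinearEquiv.symm_apply_apply]
  refine ⟨l', hl', ?_⟩
  refine (IsBaseChange.iff_of_equiv_comm (S := A') μ ν ?_).2 hb
  ext m
  change l₀' (μ m) = ν (l' m)
  rw [hl', hc, hl₀]

/-- only the underlying function matters -/
theorem IsBC.congr {l l₁ : M → N} (h : IsBC φ l) (e : ∀ m, l m = l₁ m) : IsBC φ l₁ := by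
  obtain rfl : l = l₁ := funext e
  exact h

end Alg

section Pushout

open CategoryTheory

variable {R R' B B' : Type u} [CommRing R] [CommRing R'] [CommRing B] [CommRing B']
  (φR : R →+* R') (φB : B →+* B') (α : R →+* B) (α' : R' →+* B')

/-- two base changes of the same module, along the two parallel sides of a pushout square of
rings, are identified by any semilinear map compatible with them -/
theorem bijective_of_isBC_pushout
    (hpo : IsPushout (CommRingCat.ofHom φR) (CommRingCat.ofHom α) (CommRingCat.ofHom α')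
      (CommRingCat.ofHom φB))
    {M N1 N2 : Type u} [AddCommGroup M] [Module R M] [Module B M]
    (hM : ∀ (r : R) (m : M), r • m = α r • m)
    [AddCommGroup N1] [Module R' N1] [AddCommGroup N2] [Module B' N2]
    {l1 : M → N1} {l2 : M → N2} (h1 : IsBC φR l1) (h2 : IsBC φB l2)
    (υ : N1 →+ N2) (hυ : ∀ (r' : R') (n : N1), υ (r' • n) = α' r' • υ n)
    (hl : ∀ m, υ (l1 m) = l2 m) : Function.Bijective υ := by
  have comm : α'.comp φR = φB.comp α := by
    have := hpo.w
    exact congrArg CommRingCat.Hom.hom this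
  letI : Algebra R R' := φR.toAlgebra
  letI : Algebra R B := α.toAlgebra
  letI : Algebra B B' := φB.toAlgebra
  letI : Algebra R' B' := α'.toAlgebra
  letI : Algebra R B' := (φB.comp α).toAlgebra
  haveI : IsScalarTower R B B' := IsScalarTower.of_algebraMap_eq' rfl
  haveI : IsScalarTower R R' B' := IsScalarTower.of_algebraMap_eq' comm.symm
  haveI : IsScalarTower R B M := ⟨fun r b m => by
    change (α r * b) • m = r • b • m
    rw [mul_smul, hM]⟩
  haveI hP : Algebra.IsPushout R R' B B' := CommRingCat.isPushout_iff_isPushout.1 hpo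
  letI : Module R N1 := Module.compHom N1 φR
  haveI : IsScalarTower R R' N1 := ⟨fun a a' n => by
    change (φR a * a') • n = φR a • a' • n
    exact mul_smul _ _ _⟩
  letI : Module B N2 := Module.compHom N2 φB
  haveI : IsScalarTower B B' N2 := ⟨fun a a' n => by
    change (φB a * a') • n = φB a • a' • n
    exact mul_smul _ _ _⟩
  letI : Module R' N2 := Module.compHom N2 α'
  haveI : IsScalarTower R' B' N2 := ⟨fun a a' n => by
    change (α' a * a') • n = α' a • a' • n
    exact mul_smul _ _ _⟩
  letI : Module R N2 := Module.compHom N2 (φB.comp α)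
  haveI : IsScalarTower R R' N2 := ⟨fun a a' n => by
    change α' (φR a * a') • n = (φB.comp α) a • α' a' • n
    rw [map_mul, mul_smul, ← comm]
    rfl⟩
  obtain ⟨l1', hl1, hb1⟩ := h1
  obtain ⟨l2', hl2, hb2⟩ := h2
  let e1 : R' ⊗[R] M ≃ₗ[R'] N1 := hb1.equiv
  let e2 : B' ⊗[B] M ≃ₗ[B'] N2 := hb2.equiv
  let c : B' ⊗[B] M ≃ₗ[R'] R' ⊗[R] M := Algebra.IsPushout.cancelBaseChange R R' B B' M
  let e2' : R' ⊗[R] M ≃ₗ[R'] N2 := c.symm ≪≫ₗ (e2.restrictScalars R')
  let υ' : N1 →ₗ[R'] N2 := { toFun := υ, map_add' := υ.map_add, map_smul' := hυ }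
  have key : υ'.comp e1.toLinearMap = e2'.toLinearMap := by
    apply TensorProduct.AlgebraTensorModule.curry_injective
    ext m
    change υ (e1 (1 ⊗ₜ m)) = e2 (c.symm (1 ⊗ₜ m))
    rw [Algebra.IsPushout.cancelBaseChange_symm_tmul, map_one]
    have h3 : e1 (1 ⊗ₜ m) = l1' m := by
      rw [IsBaseChange.equiv_tmul, one_smul]
    have h4 : e2 (1 ⊗ₜ m) = l2' m := by
      rw [IsBaseChange.equiv_tmul, one_smul]
    rw [h3, h4, hl1, hl2, hl]
  have h5 : (υ : N1 → N2) = e2' ∘ e1.symm := by
    funext n
    have := congrArg (fun f => f (e1.symm n)) key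
    simp only [LinearMap.comp_apply, LinearEquiv.coe_coe, LinearEquiv.apply_symm_apply] at this
    exact this
  rw [h5]
  exact e2'.bijective.comp e1.symm.bijective

end Pushout

end Groth.Agent.Lead.BCU
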