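import Mathlib

/-!
# Units of the pullback–pushforward adjunction on sections: open immersions, composites and
base change along open immersions (lead)
-/

set_option autoImplicit false
universe u
open CategoryTheory AlgebraicGeometry TopologicalSpace
set_option backward.isDefEq.respectTransparency.types false

namespace Groth.Agent.Lead.CIU

open Scheme.Modules

section OpenImm

variable {U X : Scheme.{u}} (j : U ⟶ X) [IsOpenImmersion j]

/-- restriction maps between equal opens are bijective -/
theorem map_bijective_of_le_le (G : X.Modules) {A B : X.Opens} (h : A ≤ B) (h' : B ≤ A) :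
    Function.Bijective (G.presheaf.map (homOfLE h).op) := by
  obtain rfl : A = B := le_antisymm h h'
  have : (homOfLE h).op = 𝟙 _ := rfl
  rw [this, CategoryTheory.Functor.map_id]
  exact Function.bijective_id

/-- the unit of `pullback ⊣ pushforward` for an open immersion is bijective on sections over
opens contained in the range -/
theorem unit_app_bijective_of_le_range (G : X.Modules) (O : X.Opens) (hO : O ≤ j.opensRange) :
    Function.Bijective (((pullbackPushforwardAdjunction j).unit.app G).app O) := by
  have h := Adjunction.unit_leftAdjointUniq_hom_app (restrictAdjunction j)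
    (pullbackPushforwardAdjunction j) G
  have h2 : ((pullbackPushforwardAdjunction j).unit.app G).app O =
      ((restrictAdjunction j).unit.app G).app O ≫
        ((pushforward j).map ((restrictFunctorIsoPullback j).hom.app G)).app O := by
    rw [← h]; rfl
  rw [h2]
  have hb1 : Function.Bijective (((restrictAdjunction j).unit.app G).app O) := by
    rw [restrictAdjunction_unit_app_app]
    refine map_bijective_of_le_le G _ ?_
    intro x hx
    obtain ⟨y, rfl⟩ := hO hx
    exact ⟨y, hx, rfl⟩
  have hb2 : Function.Bijective
      (((pushforward j).map ((restrictFunctorIsoPullback j).hom.app G)).app O) := by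
    rw [pushforward_map_app]
    haveI : IsIso ((restrictFunctorIsoPullback j).hom.app G) := inferInstance
    haveI : IsIso (((restrictFunctorIsoPullback j).hom.app G).app (j ⁻¹ᵁ O)) := inferInstance
    exact (ConcreteCategory.isIso_iff_bijective _).1 this
  exact hb2.comp hb1

end OpenImm

section Comp

variable {A B C : Scheme.{u}} (f : A ⟶ B) (g : B ⟶ C)

/-- the unit of the composite, as a morphism of modules -/
theorem unit_comp (G : C.Modules) :
    (pullbackPushforwardAdjunction g).unit.app G ≫
      (pushforward g).map ((pullbackPushforwardAdjunction f).unit.app ((pullback g).obj G)) ≫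
      (pushforwardComp f g).hom.app ((pullback f).obj ((pullback g).obj G)) =
    (pullbackPushforwardAdjunction (f ≫ g)).unit.app G ≫
      (pushforward (f ≫ g)).map ((pullbackComp f g).inv.app G) := by
  have h := unit_conjugateEquiv
    ((pullbackPushforwardAdjunction g).comp (pullbackPushforwardAdjunction f))
    (pullbackPushforwardAdjunction (f ≫ g)) (pullbackComp f g).inv G
  rw [conjugateEquiv_pullbackComp_inv, Adjunction.comp_unit_app] at h
  simpa using h

/-- the unit of the composite on sections -/
theorem unit_comp_app (G : C.Modules) (O : C.Opens) :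
    ((pullbackPushforwardAdjunction g).unit.app G).app O ≫
      ((pullbackPushforwardAdjunction f).unit.app ((pullback g).obj G)).app (g ⁻¹ᵁ O) =
    ((pullbackPushforwardAdjunction (f ≫ g)).unit.app G).app O ≫
      ((pullbackComp f g).inv.app G).app ((f ≫ g) ⁻¹ᵁ O) := by
  have h := congrArg (fun φ => Hom.app φ O) (unit_comp f g G)
  simp only [Hom.comp_app, pushforward_map_app, pushforwardComp_hom_app_app] at h
  refine Eq.trans ?_ h
  congr 1

theorem bijective_comp_iff_left (G : C.Modules) (O : C.Opens)
    (hf : Function.Bijective
      (((pullbackPushforwardAdjunction f).unit.app ((pullback g).obj G)).app (g ⁻¹ᵁ O))) :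
    Function.Bijective (((pullbackPushforwardAdjunction g).unit.app G).app O) ↔
      Function.Bijective (((pullbackPushforwardAdjunction (f ≫ g)).unit.app G).app O) := by
  have h := unit_comp_app f g G O
  haveI : IsIso ((pullbackComp f g).inv.app G) := inferInstance
  haveI : IsIso (((pullbackComp f g).inv.app G).app ((f ≫ g) ⁻¹ᵁ O)) := inferInstance
  have hiso : Function.Bijective (((pullbackComp f g).inv.app G).app ((f ≫ g) ⁻¹ᵁ O)) :=
    (ConcreteCategory.isIso_iff_bijective _).1 this
  have h' : (((pullbackPushforwardAdjunction f).unit.app ((pullback g).obj G)).app (g ⁻¹ᵁ O)) ∘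
      (((pullbackPushforwardAdjunction g).unit.app G).app O) =
      (((pullbackComp f g).inv.app G).app ((f ≫ g) ⁻¹ᵁ O)) ∘
      (((pullbackPushforwardAdjunction (f ≫ g)).unit.app G).app O) := by
    funext x
    exact congrArg (fun φ => φ x) h
  constructor
  · intro hg
    have : Function.Bijective ((((pullbackComp f g).inv.app G).app ((f ≫ g) ⁻¹ᵁ O)) ∘
      (((pullbackPushforwardAdjunction (f ≫ g)).unit.app G).app O)) := by
      rw [← h']; exact hf.comp hg
    exact (Function.Bijective.of_comp_iff' hiso _).1 this
  · intro hfg
    have : Function.Bijective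
      ((((pullbackPushforwardAdjunction f).unit.app ((pullback g).obj G)).app (g ⁻¹ᵁ O)) ∘
      (((pullbackPushforwardAdjunction g).unit.app G).app O)) := by
      rw [h']; exact hiso.comp hfg
    exact (Function.Bijective.of_comp_iff' hf _).1 this

theorem bijective_comp_iff_right (G : C.Modules) (O : C.Opens)
    (hg : Function.Bijective (((pullbackPushforwardAdjunction g).unit.app G).app O)) :
    Function.Bijective
      (((pullbackPushforwardAdjunction f).unit.app ((pullback g).obj G)).app (g ⁻¹ᵁ O)) ↔
      Function.Bijective (((pullbackPushforwardAdjunction (f ≫ g)).unit.app G).app O) := by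
  have h := unit_comp_app f g G O
  haveI : IsIso ((pullbackComp f g).inv.app G) := inferInstance
  haveI : IsIso (((pullbackComp f g).inv.app G).app ((f ≫ g) ⁻¹ᵁ O)) := inferInstance
  have hiso : Function.Bijective (((pullbackComp f g).inv.app G).app ((f ≫ g) ⁻¹ᵁ O)) :=
    (ConcreteCategory.isIso_iff_bijective _).1 this
  have h' : (((pullbackPushforwardAdjunction f).unit.app ((pullback g).obj G)).app (g ⁻¹ᵁ O)) ∘
      (((pullbackPushforwardAdjunction g).unit.app G).app O) =
      (((pullbackComp f g).inv.app G).app ((f ≫ g) ⁻¹ᵁ O)) ∘
      (((pullbackPushforwardAdjunction (f ≫ g)).unit.app G).app O) := by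
    funext x
    exact congrArg (fun φ => φ x) h
  constructor
  · intro hf
    have : Function.Bijective ((((pullbackComp f g).inv.app G).app ((f ≫ g) ⁻¹ᵁ O)) ∘
      (((pullbackPushforwardAdjunction (f ≫ g)).unit.app G).app O)) := by
      rw [← h']; exact hf.comp hg
    exact (Function.Bijective.of_comp_iff' hiso _).1 this
  · intro hfg
    have : Function.Bijective
      ((((pullbackPushforwardAdjunction f).unit.app ((pullback g).obj G)).app (g ⁻¹ᵁ O)) ∘
      (((pullbackPushforwardAdjunction g).unit.app G).app O)) := by
      rw [h']; exact hiso.comp hfg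
    exact (Function.Bijective.of_comp_iff _ hg).1 this

end Comp

section BaseChange

theorem unit_congr {A C : Scheme.{u}} {h h' : A ⟶ C} (e : h = h') (G : C.Modules) (O : C.Opens) :
    Function.Bijective (((pullbackPushforwardAdjunction h).unit.app G).app O) ↔
      Function.Bijective (((pullbackPushforwardAdjunction h').unit.app G).app O) := by
  subst e; rfl

variable {Z X V U : Scheme.{u}} (i : Z ⟶ X) (j : U ⟶ X) (j' : V ⟶ Z) (i' : V ⟶ U)
  [IsOpenImmersion j] [IsOpenImmersion j']

/-- base change of the unit along open immersions, on sections -/
theorem bijective_unit_iff_baseChange (comm : j' ≫ i = i' ≫ j) (F : X.Modules) (O : X.Opens)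
    (hO : O ≤ j.opensRange) (hO' : i ⁻¹ᵁ O ≤ j'.opensRange) :
    Function.Bijective (((pullbackPushforwardAdjunction i).unit.app F).app O) ↔
      Function.Bijective
        (((pullbackPushforwardAdjunction i').unit.app ((pullback j).obj F)).app (j ⁻¹ᵁ O)) := by
  rw [bijective_comp_iff_left j' i F O (unit_app_bijective_of_le_range j' _ _ hO'),
    bijective_comp_iff_right i' j F O (unit_app_bijective_of_le_range j F O hO)]
  exact unit_congr comm F O

/-- the unit is natural: bijectivity on sections is invariant under isomorphism of the module -/
theorem bijective_unit_of_iso {A C : Scheme.{u}} (h : A ⟶ C) {G G' : C.Modules} (e : G ≅ G')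
    (O : C.Opens)
    (hb : Function.Bijective (((pullbackPushforwardAdjunction h).unit.app G).app O)) :
    Function.Bijective (((pullbackPushforwardAdjunction h).unit.app G').app O) := by
  have hnat := (pullbackPushforwardAdjunction h).unit.naturality e.hom
  have h1 := congrArg (fun φ => Hom.app φ O) hnat
  simp only [Hom.comp_app, Functor.id_map] at h1
  haveI : IsIso (e.hom.app O) := inferInstance
  have he : Function.Bijective (e.hom.app O) := (ConcreteCategory.isIso_iff_bijective _).1 this
  haveI : IsIso ((pullback h ⋙ pushforward h).map e.hom) := inferInstance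
  haveI : IsIso (((pullback h ⋙ pushforward h).map e.hom).app O) := inferInstance
  have he' : Function.Bijective (((pullback h ⋙ pushforward h).map e.hom).app O) :=
    (ConcreteCategory.isIso_iff_bijective _).1 this
  have h2 : (((pullbackPushforwardAdjunction h).unit.app G').app O) ∘ (e.hom.app O) =
      (((pullback h ⋙ pushforward h).map e.hom).app O) ∘
        (((pullbackPushforwardAdjunction h).unit.app G).app O) := by
    funext x
    exact congrArg (fun φ => φ x) h1
  have h3 : Function.Bijective ((((pullbackPushforwardAdjunction h).unit.app G').app O) ∘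
      (e.hom.app O)) := by
    rw [h2]; exact he'.comp hb
  exact (Function.Bijective.of_comp_iff _ he).1 h3

end BaseChange

end Groth.Agent.Lead.CIU
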