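import Mathlib
import Groth.Prelude.Def_FlatMod2

/-!
# Finite locally free modules: transport lemmas (lead)
-/

set_option autoImplicit false
universe u
open CategoryTheory CategoryTheory.Limits AlgebraicGeometry TopologicalSpace
set_option backward.isDefEq.respectTransparency.types false

namespace Groth.Agent.Lead.FLF

open Scheme.Modules

/-- restriction of a free module along an open immersion is free -/
noncomputable def freeRestrictIso {W Z : Scheme.{u}} (c : W ⟶ Z) [IsOpenImmersion c] (k : ℕ) :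
    (FlatMod.freeMod Z k).restrict c ≅ FlatMod.freeMod W k :=
  PreservesCoproduct.iso (restrictFunctor c) (fun _ : Fin k => Coh.structureModule Z) ≪≫
    Sigma.mapIso (fun _ => restrictUnitIso c)

/-- restricting a trivialisation further -/
noncomputable def freeOfComp {W Z X : Scheme.{u}} (c : W ⟶ Z) (a : Z ⟶ X) (a' : W ⟶ X)
    [IsOpenImmersion c] [IsOpenImmersion a] [IsOpenImmersion a'] (h : c ≫ a = a')
    (M : X.Modules) (k : ℕ) (e : M.restrict a ≅ FlatMod.freeMod Z k) :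
    M.restrict a' ≅ FlatMod.freeMod W k :=
  (restrictFunctorCongr h.symm).app M ≪≫ (restrictFunctorComp c a).app M ≪≫
    (restrictFunctor c).mapIso e ≪≫ freeRestrictIso c k

variable {X : Scheme.{u}}

theorem isFinLocFree_of_iso {M M' : X.Modules} (e : M ≅ M') (h : FlatMod.IsFinLocFree M) :
    FlatMod.IsFinLocFree M' := by
  intro x
  obtain ⟨U, n, hx, ⟨i⟩⟩ := h x
  exact ⟨U, n, hx, ⟨(restrictFunctor U.ι).mapIso e.symm ≪≫ i⟩⟩

theorem isFinLocFree_of_charts (M : X.Modules)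
    (h : ∀ x : X, ∃ (Y : Scheme.{u}) (j : Y ⟶ X) (_ : IsOpenImmersion j),
      x ∈ j.opensRange ∧ FlatMod.IsFinLocFree (M.restrict j)) :
    FlatMod.IsFinLocFree M := by
  intro x
  obtain ⟨Y, j, hj, ⟨y, rfl⟩, hM⟩ := h x
  obtain ⟨V, k, hyV, ⟨e⟩⟩ := hM y
  refine ⟨j ''ᵁ V, k, ⟨y, hyV, rfl⟩, ⟨?_⟩⟩
  have e' : M.restrict (V.ι ≫ j) ≅ FlatMod.freeMod (↑V) k :=
    (restrictFunctorComp V.ι j).app M ≪≫ e
  exact freeOfComp (j.isoImage V).inv (V.ι ≫ j) (j ''ᵁ V).ι (j.isoImage_inv_ι V) M k e'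

theorem isFinLocFree_restrict {Y : Scheme.{u}} (j : Y ⟶ X) [IsOpenImmersion j] (M : X.Modules)
    (h : FlatMod.IsFinLocFree M) : FlatMod.IsFinLocFree (M.restrict j) := by
  intro y
  obtain ⟨U, k, hxU, ⟨e⟩⟩ := h (j y)
  refine ⟨j ⁻¹ᵁ U, k, hxU, ⟨?_⟩⟩
  have e' : M.restrict ((j ⁻¹ᵁ U).ι ≫ j) ≅ FlatMod.freeMod (↑(j ⁻¹ᵁ U)) k :=
    freeOfComp (j ∣_ U) U.ι ((j ⁻¹ᵁ U).ι ≫ j) (morphismRestrict_ι j U) M k e
  exact ((restrictFunctorComp (j ⁻¹ᵁ U).ι j).app M).symm ≪≫ e'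

end Groth.Agent.Lead.FLF
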