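import Mathlib
import Groth.Prelude.Def_FlatMod2
import Groth.Agent.Lib.Lead.FLF1
import Groth.Agent.Lib.Helper1.TildeBC

/-!
# Finite locally free modules on `Spec R` (lead)
-/

set_option autoImplicit false
universe u
open CategoryTheory CategoryTheory.Limits AlgebraicGeometry TopologicalSpace
set_option backward.isDefEq.respectTransparency.types false

namespace Groth.Agent.Lead.FLF

open Scheme.Modules TensorProduct

theorem isFinLocFree_freeMod (Z : Scheme.{u}) (k : ℕ) :
    FlatMod.IsFinLocFree (FlatMod.freeMod Z k) :=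
  fun _ => ⟨⊤, k, trivial, ⟨freeRestrictIso _ k⟩⟩

noncomputable def tildeFreeIso (R : CommRingCat.{u}) (k : ℕ) :
    tilde (ModuleCat.of R (ULift.{u} (Fin k) →₀ R)) ≅ FlatMod.freeMod (Spec R) k :=
  tildeFinsupp (ULift.{u} (Fin k)) ≪≫
    Sigma.reindex Equiv.ulift (fun _ : Fin k => Coh.structureModule (Spec R))

noncomputable def tildeRestrictIso {R S : CommRingCat.{u}} (φ : R ⟶ S)
    [IsOpenImmersion (Spec.map φ)] (M : ModuleCat.{u} R) :
    (tilde M).restrict (Spec.map φ) ≅ tilde ((ModuleCat.extendScalars φ.hom).obj M) :=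
  (restrictFunctorIsoPullback (Spec.map φ)).app (tilde M) ≪≫
    (Groth.Agent.Helper1.TildeBC.pullbackTildeIso φ).app M

/-- a module iso gives an iso of tildes -/
noncomputable def tildeCongr {R : CommRingCat.{u}} {M N : ModuleCat.{u} R} (e : M ≅ N) :
    tilde M ≅ tilde N := (tilde.functor R).mapIso e

theorem tilde_isFinLocFree_of_free {R : CommRingCat.{u}} (M : ModuleCat.{u} R)
    [Module.Free R M] [Module.Finite R M] : FlatMod.IsFinLocFree (tilde M) := by
  rcases subsingleton_or_nontrivial R with hR | hR
  · intro x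
    exact (x.isPrime.ne_top (Subsingleton.elim _ _)).elim
  let b := Module.finBasis R M
  let e : M ≃ₗ[R] (ULift.{u} (Fin (Module.finrank R M)) →₀ R) :=
    b.repr ≪≫ₗ Finsupp.domLCongr Equiv.ulift.symm
  exact isFinLocFree_of_iso ((tildeCongr e.toModuleIso) ≪≫ tildeFreeIso R _).symm
    (isFinLocFree_freeMod _ _)

/-- extension of scalars to a localization is the localized module -/
noncomputable def extendScalarsAwayEquiv {R : CommRingCat.{u}} (M : ModuleCat.{u} R) (r : R) :
    ((ModuleCat.extendScalars (algebraMap R (Localization.Away r))).obj M) ≃ₗ[Localization.Away r]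
      LocalizedModule.Away r M :=
  Groth.Agent.Helper8.extScalEquiv (R := R) (S := Localization.Away r) M ≪≫ₗ
    (IsLocalizedModule.isBaseChange (Submonoid.powers r) (Localization.Away r)
      (LocalizedModule.mkLinearMap (Submonoid.powers r) M)).equiv

theorem tilde_isFinLocFree_of_projective {R : CommRingCat.{u}} (M : ModuleCat.{u} R)
    [Module.Finite R M] [Module.Projective R M] : FlatMod.IsFinLocFree (tilde M) := by
  apply isFinLocFree_of_charts
  intro p
  haveI : Module.FinitePresentation R M := Module.finitePresentation_of_projective R M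
  let P : Ideal R := p.asIdeal
  haveI : P.IsPrime := p.isPrime
  haveI : Module.Finite (Localization.AtPrime P) (LocalizedModule P.primeCompl M) :=
    Module.Finite.of_isLocalizedModule P.primeCompl (LocalizedModule.mkLinearMap P.primeCompl M)
  haveI : Module.Free (Localization.AtPrime P) (LocalizedModule P.primeCompl M) :=
    Module.free_of_flat_of_isLocalRing
  obtain ⟨r, hr, hfree, -⟩ := Module.FinitePresentation.exists_free_localizedModule_powers
    P.primeCompl (LocalizedModule.mkLinearMap P.primeCompl M) (Localization.AtPrime P)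
  let S : CommRingCat.{u} := .of (Localization.Away r)
  let φ : R ⟶ S := CommRingCat.ofHom (algebraMap R (Localization.Away r))
  refine ⟨Spec S, Spec.map φ, inferInstance, ?_, ?_⟩
  · rw [Scheme.Hom.opensRange_localizationAway]
    exact hr
  · haveI : Module.Finite (Localization.Away r) (LocalizedModule.Away r M) :=
      Module.Finite.of_isLocalizedModule (Submonoid.powers r)
        (LocalizedModule.mkLinearMap (Submonoid.powers r) M)
    let N : ModuleCat.{u} S := ModuleCat.of S (LocalizedModule.Away r M)
    haveI : Module.Free S N := hfree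
    haveI : Module.Finite S N := ‹Module.Finite (Localization.Away r) (LocalizedModule.Away r M)›
    have e1 : (ModuleCat.extendScalars φ.hom).obj M ≅ N :=
      (extendScalarsAwayEquiv M r).toModuleIso
    exact isFinLocFree_of_iso ((tildeRestrictIso φ M) ≪≫ tildeCongr e1).symm
      (tilde_isFinLocFree_of_free N)

/-- algebra: locally free of finite rank on a principal open cover implies finite projective -/
theorem finite_projective_of_locally_free {R : Type u} [CommRing R] {M : Type u} [AddCommGroup M]
    [Module R M]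
    (h : ∀ p : PrimeSpectrum R, ∃ r : R, r ∉ p.asIdeal ∧
      Module.Free (Localization.Away r) (LocalizedModule.Away r M) ∧
      Module.Finite (Localization.Away r) (LocalizedModule.Away r M)) :
    Module.Finite R M ∧ Module.Projective R M := by
  let T : Set R := {r | Module.Free (Localization.Away r) (LocalizedModule.Away r M) ∧
      Module.Finite (Localization.Away r) (LocalizedModule.Away r M)}
  have hT : Ideal.span T = ⊤ := by
    by_contra hne
    obtain ⟨m, hm, hle⟩ := Ideal.exists_le_maximal _ hne
    obtain ⟨r, hr, hf⟩ := h ⟨m, hm.isPrime⟩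
    exact hr (hle (Ideal.subset_span hf))
  haveI hfp : Module.FinitePresentation R M := by
    refine Module.FinitePresentation.of_localizationSpan T hT ?_
    rintro ⟨g, hg1, hg2⟩
    exact Module.finitePresentation_of_projective _ _
  refine ⟨inferInstance, ?_⟩
  rw [← Module.freeLocus_eq_univ_iff]
  ext p
  simp only [Set.mem_univ, iff_true]
  obtain ⟨r, hr, hf1, hf2⟩ := h p
  have hsub : (PrimeSpectrum.basicOpen r : Set (PrimeSpectrum R)) ⊆ Module.freeLocus R M := by
    rw [Module.basicOpen_subset_freeLocus_iff]
    infer_instance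
  exact hsub hr

theorem free_away_of_tilde_isFinLocFree {R : CommRingCat.{u}} (M : ModuleCat.{u} R)
    (h : FlatMod.IsFinLocFree (tilde M)) (p : PrimeSpectrum R) :
    ∃ r : R, r ∉ p.asIdeal ∧
      Module.Free (Localization.Away r) (LocalizedModule.Away r M) ∧
      Module.Finite (Localization.Away r) (LocalizedModule.Away r M) := by
  obtain ⟨U, k, hpU, ⟨e⟩⟩ := h p
  obtain ⟨_, ⟨r, rfl⟩, hpr, hrU⟩ :=
    PrimeSpectrum.isTopologicalBasis_basic_opens.exists_subset_of_mem_open hpU U.2
  refine ⟨r, hpr, ?_⟩
  let S : CommRingCat.{u} := .of (Localization.Away r)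
  let φ : R ⟶ S := CommRingCat.ofHom (algebraMap R (Localization.Away r))
  have hrange : Set.range (Spec.map φ) ⊆ Set.range U.ι := by
    have h1 : Set.range (Spec.map φ) = (PrimeSpectrum.basicOpen r : Set (PrimeSpectrum R)) :=
      congrArg (fun W : (Spec R).Opens => (W : Set (Spec R)))
        (Scheme.Hom.opensRange_localizationAway r)
    rw [h1, Scheme.Opens.range_ι]
    exact hrU
  let c : Spec S ⟶ ↑U := IsOpenImmersion.lift U.ι (Spec.map φ) hrange
  have hc : c ≫ U.ι = Spec.map φ := IsOpenImmersion.lift_fac _ _ _
  haveI : IsOpenImmersion (c ≫ U.ι) := by rw [hc]; infer_instance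
  haveI : IsOpenImmersion c := IsOpenImmersion.of_comp c U.ι
  have e1 : (tilde M).restrict (Spec.map φ) ≅ FlatMod.freeMod (Spec S) k :=
    freeOfComp c U.ι (Spec.map φ) hc (tilde M) k e
  have e2 : tilde ((ModuleCat.extendScalars φ.hom).obj M) ≅
      tilde (ModuleCat.of S (ULift.{u} (Fin k) →₀ S)) :=
    (tildeRestrictIso φ M).symm ≪≫ e1 ≪≫ (tildeFreeIso S k).symm
  have e3 : (ModuleCat.extendScalars φ.hom).obj M ≅ ModuleCat.of S (ULift.{u} (Fin k) →₀ S) :=
    (tilde.fullyFaithfulFunctor (R := S)).preimageIso e2
  let e4 : LocalizedModule.Away r M ≃ₗ[Localization.Away r] (ULift.{u} (Fin k) →₀ S) :=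
    (extendScalarsAwayEquiv M r).symm ≪≫ₗ e3.toLinearEquiv
  exact ⟨Module.Free.of_equiv e4.symm, Module.Finite.equiv e4.symm⟩

theorem tilde_isFinLocFree_iff {R : CommRingCat.{u}} (M : ModuleCat.{u} R) :
    FlatMod.IsFinLocFree (tilde M) ↔ Module.Finite R M ∧ Module.Projective R M := by
  constructor
  · intro h
    exact finite_projective_of_locally_free (free_away_of_tilde_isFinLocFree M h)
  · rintro ⟨h1, h2⟩
    exact tilde_isFinLocFree_of_projective M

end Groth.Agent.Lead.FLF
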