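import Mathlib
import Groth.Prelude.Def_FlatMod2
import Groth.Agent.Lib.Lead.FLF2

/-!
# Finite locally free modules: retracts of free modules, affine charts (lead)
-/

set_option autoImplicit false
universe u
open CategoryTheory CategoryTheory.Limits AlgebraicGeometry TopologicalSpace
set_option backward.isDefEq.respectTransparency.types false

namespace Groth.Agent.Lead.FLF

open Scheme.Modules

/-- on `Spec R`, a retract of a finite free module is finite locally free -/
theorem isFinLocFree_of_retract_spec {R : CommRingCat.{u}} (n : ℕ) (M : (Spec R).Modules)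
    (i : M ⟶ FlatMod.freeMod (Spec R) n) (q : FlatMod.freeMod (Spec R) n ⟶ M)
    (h : i ≫ q = 𝟙 M) : FlatMod.IsFinLocFree M := by
  let F : ModuleCat.{u} R := ModuleCat.of R (ULift.{u} (Fin n) →₀ R)
  obtain ⟨i', q', h'⟩ : ∃ (i' : M ⟶ (tilde.functor R).obj F) (q' : (tilde.functor R).obj F ⟶ M),
      i' ≫ q' = 𝟙 M := by
    refine ⟨i ≫ (tildeFreeIso R n).inv, (tildeFreeIso R n).hom ≫ q, ?_⟩
    rw [Category.assoc, Iso.inv_hom_id_assoc]; exact h
  obtain ⟨π₀, hπ₀⟩ : ∃ π₀ : F ⟶ F, (tilde.functor R).map π₀ = q' ≫ i' :=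
    ⟨(tilde.functor R).preimage (q' ≫ i'), (tilde.functor R).map_preimage _⟩
  have hidem : π₀ ≫ π₀ = π₀ := by
    apply (tilde.functor R).map_injective
    rw [Functor.map_comp, hπ₀, Category.assoc, reassoc_of% h']
  obtain ⟨M₀, i₀, q₀, h1, h2⟩ := IsIdempotentComplete.idempotents_split F π₀ hidem
  have ha : (i' ≫ (tilde.functor R).map q₀) ≫ ((tilde.functor R).map i₀ ≫ q') = 𝟙 M := by
    rw [Category.assoc, ← Category.assoc ((tilde.functor R).map q₀), ← Functor.map_comp, h2, hπ₀]
    simp only [Category.assoc]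
    rw [reassoc_of% h', h']
  have hb : ((tilde.functor R).map i₀ ≫ q') ≫ (i' ≫ (tilde.functor R).map q₀) =
      𝟙 ((tilde.functor R).obj M₀) := by
    rw [Category.assoc, ← Category.assoc q', ← hπ₀, ← Functor.map_comp, ← Functor.map_comp, ← h2]
    have h3 : i₀ ≫ (q₀ ≫ i₀) ≫ q₀ = 𝟙 M₀ := by
      rw [Category.assoc, h1, Category.comp_id, h1]
    rw [h3]
    exact (tilde.functor R).map_id M₀
  let e : M ≅ tilde M₀ := ⟨i' ≫ (tilde.functor R).map q₀, (tilde.functor R).map i₀ ≫ q', ha, hb⟩
  haveI : Module.Finite R M₀ := by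
    refine Module.Finite.of_surjective q₀.hom ?_
    intro m
    refine ⟨i₀.hom m, ?_⟩
    have := congrArg (fun f : M₀ ⟶ M₀ => f.hom m) h1
    simpa using this
  haveI : Module.Projective R M₀ := by
    refine Module.Projective.of_split i₀.hom q₀.hom ?_
    have := congrArg ModuleCat.Hom.hom h1
    simpa using this
  exact isFinLocFree_of_iso e.symm (tilde_isFinLocFree_of_projective M₀)

/-- a retract of a finite free module is finite locally free -/
theorem isFinLocFree_of_retract {X : Scheme.{u}} (n : ℕ) (M : X.Modules)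
    (i : M ⟶ FlatMod.freeMod X n) (q : FlatMod.freeMod X n ⟶ M) (h : i ≫ q = 𝟙 M) :
    FlatMod.IsFinLocFree M := by
  apply isFinLocFree_of_charts
  intro x
  obtain ⟨_, ⟨U, hU, rfl⟩, hxU, -⟩ := X.isBasis_affineOpens.exists_subset_of_mem_open
    (Set.mem_univ x) isOpen_univ
  refine ⟨Spec Γ(X, U), hU.fromSpec, inferInstance, ?_, ?_⟩
  · rw [hU.opensRange_fromSpec]; exact hxU
  · refine isFinLocFree_of_retract_spec n (M.restrict hU.fromSpec)
      ((restrictFunctor hU.fromSpec).map i ≫ (freeRestrictIso hU.fromSpec n).hom)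
      ((freeRestrictIso hU.fromSpec n).inv ≫ (restrictFunctor hU.fromSpec).map q) ?_
    rw [Category.assoc, Iso.hom_inv_id_assoc, ← CategoryTheory.Functor.map_comp, h]
    exact (restrictFunctor hU.fromSpec).map_id M

end Groth.Agent.Lead.FLF
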