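import Mathlib
import Groth.Prelude.Def_FlatMod2
import Groth.Agent.Lib.Lead.FLF3
import Groth.Agent.Lib.Helper1.QcLoc

/-!
# Finite locally free modules: affine-open criterion (lead)
-/

set_option autoImplicit false
universe u
open CategoryTheory CategoryTheory.Limits AlgebraicGeometry TopologicalSpace
set_option backward.isDefEq.respectTransparency.types false

namespace Groth.Agent.Lead.FLF

open Scheme.Modules Groth.Agent.Helper1

theorem isFinLocFree_spec_iff {R : CommRingCat.{u}} (N : (Spec R).Modules) [N.IsQuasicoherent] :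
    FlatMod.IsFinLocFree N ↔ Module.Finite R Γ(N, ⊤) ∧ Module.Projective R Γ(N, ⊤) := by
  haveI : IsIso N.fromTildeΓ := inferInstance
  let G : ModuleCat.{u} R := (modulesSpecToSheaf.obj N).presheaf.obj (.op ⊤)
  have e : tilde G ≅ N := asIso N.fromTildeΓ
  have h := tilde_isFinLocFree_iff G
  exact ⟨fun hN => h.1 (isFinLocFree_of_iso e.symm hN), fun hG => isFinLocFree_of_iso e (h.2 hG)⟩

variable {X : Scheme.{u}}

lemma map_map_self (M : X.Modules) {A B : X.Opens} (h : A ≤ B) (h' : B ≤ A) (x : Γ(M, A)) :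
    M.presheaf.map (homOfLE h).op (M.presheaf.map (homOfLE h').op x) = x := by
  rw [← ConcreteCategory.comp_apply, ← Functor.map_comp]
  have : (homOfLE h').op ≫ (homOfLE h).op = 𝟙 _ := Subsingleton.elim _ _
  rw [this, CategoryTheory.Functor.map_id]
  rfl

lemma ring_map_map_self {A B : X.Opens} (h : A ≤ B) (h' : B ≤ A) (r : Γ(X, A)) :
    X.presheaf.map (homOfLE h).op (X.presheaf.map (homOfLE h').op r) = r := by
  rw [← ConcreteCategory.comp_apply, ← Functor.map_comp]
  have : (homOfLE h').op ≫ (homOfLE h).op = 𝟙 _ := Subsingleton.elim _ _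
  rw [this, CategoryTheory.Functor.map_id]
  rfl

/-- sections over an affine open, as a module over its coordinate ring, are the global sections of
the restriction to the chart -/
noncomputable def sectionsLinearEquiv {U : X.Opens} (hU : IsAffineOpen U) (M : X.Modules) :
    Γ(M.restrict hU.fromSpec, ⊤) ≃ₗ[Γ(X, U)] Γ(M, U) where
  toFun x := M.presheaf.map (homOfLE (QcLoc.image_top hU).ge).op x
  invFun y := M.presheaf.map (homOfLE (QcLoc.image_top hU).le).op y
  map_add' x y := map_add _ x y
  map_smul' r x := by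
    simp only [RingHom.id_apply]
    rw [QcLoc.smul_eq hU M ⊤ r x]
    erw [Scheme.Modules.map_smul M (homOfLE (QcLoc.image_top hU).ge)]
    congr 1
    exact ring_map_map_self (QcLoc.image_top hU).ge (QcLoc.image_le hU ⊤) r
  left_inv x := map_map_self M (QcLoc.image_top hU).le (QcLoc.image_top hU).ge x
  right_inv y := map_map_self M (QcLoc.image_top hU).ge (QcLoc.image_top hU).le y

theorem isFinLocFree_of_affine_nhds (M : X.Modules) [M.IsQuasicoherent]
    (h : ∀ x : X, ∃ U : X.Opens, IsAffineOpen U ∧ x ∈ U ∧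
      Module.Finite Γ(X, U) Γ(M, U) ∧ Module.Projective Γ(X, U) Γ(M, U)) :
    FlatMod.IsFinLocFree M := by
  apply isFinLocFree_of_charts
  intro x
  obtain ⟨U, hU, hxU, h1, h2⟩ := h x
  refine ⟨_, hU.fromSpec, inferInstance, by rw [hU.opensRange_fromSpec]; exact hxU, ?_⟩
  rw [isFinLocFree_spec_iff]
  exact ⟨Module.Finite.equiv (sectionsLinearEquiv hU M).symm,
    Module.Projective.of_equiv (sectionsLinearEquiv hU M).symm⟩

theorem isFinLocFree_iff_affineOpens (M : X.Modules) [M.IsQuasicoherent] :
    FlatMod.IsFinLocFree M ↔ ∀ U : X.Opens, IsAffineOpen U →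
      Module.Finite Γ(X, U) Γ(M, U) ∧ Module.Projective Γ(X, U) Γ(M, U) := by
  constructor
  · intro h U hU
    have h1 := isFinLocFree_restrict hU.fromSpec M h
    obtain ⟨h2, h3⟩ := (isFinLocFree_spec_iff (M.restrict hU.fromSpec)).1 h1
    exact ⟨Module.Finite.equiv (sectionsLinearEquiv hU M),
      Module.Projective.of_equiv (sectionsLinearEquiv hU M)⟩
  · intro h
    apply isFinLocFree_of_affine_nhds
    intro x
    obtain ⟨_, ⟨U, hU, rfl⟩, hxU, -⟩ := X.isBasis_affineOpens.exists_subset_of_mem_open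
      (Set.mem_univ x) isOpen_univ
    exact ⟨U, hU, hxU, h U hU⟩

end Groth.Agent.Lead.FLF
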