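import Mathlib
import Groth.Prelude.Def_FlatMod2
import Groth.Agent.Lib.Lead.FLF4

/-!
# Finite locally free modules: sections of a free restriction; rank of a finite flat morphism (lead)
-/

set_option autoImplicit false
universe u
open CategoryTheory CategoryTheory.Limits AlgebraicGeometry TopologicalSpace
set_option backward.isDefEq.respectTransparency.types false

namespace Groth.Agent.Lead.FLF

open Scheme.Modules Groth.Agent.Helper1

variable {X : Scheme.{u}}

/-- global sections of a module on `Spec R` isomorphic to a free module of rank `n` -/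
noncomputable def specSectionsFreeEquiv {R : CommRingCat.{u}} (N : (Spec R).Modules) (n : ℕ)
    (e : N ≅ FlatMod.freeMod (Spec R) n) :
    Γ(N, ⊤) ≃ₗ[R] (ULift.{u} (Fin n) →₀ R) :=
  ((moduleSpecΓFunctor (R := R)).mapIso (e ≪≫ (tildeFreeIso R n).symm) ≪≫
    (tilde.isoTop (ModuleCat.of R (ULift.{u} (Fin n) →₀ R))).symm).toLinearEquiv

/-- if `M` restricted to an affine open `U` is free of rank `n`, its sections over `U` are free of
rank `n` over the coordinate ring -/
noncomputable def sectionsFreeEquiv {U : X.Opens} (hU : IsAffineOpen U) (M : X.Modules) (n : ℕ)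
    (e : M.restrict U.ι ≅ FlatMod.freeMod (↑U) n) :
    Γ(M, U) ≃ₗ[Γ(X, U)] (ULift.{u} (Fin n) →₀ Γ(X, U)) :=
  (sectionsLinearEquiv hU M).symm ≪≫ₗ
    specSectionsFreeEquiv (M.restrict hU.fromSpec) n
      (freeOfComp hU.isoSpec.inv U.ι hU.fromSpec rfl M n e)

/-- shrinking a trivialisation to a smaller open -/
noncomputable def freeOfLE {U V : X.Opens} (h : V ≤ U) (M : X.Modules) (n : ℕ)
    (e : M.restrict U.ι ≅ FlatMod.freeMod (↑U) n) :
    M.restrict V.ι ≅ FlatMod.freeMod (↑V) n :=
  freeOfComp (X.homOfLE h) U.ι V.ι (X.homOfLE_ι h) M n e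

/-- a trivialisation near a point can be taken over an affine open -/
theorem exists_affine_free (M : X.Modules) (x : X) (U : X.Opens) (hx : x ∈ U) (n : ℕ)
    (e : M.restrict U.ι ≅ FlatMod.freeMod (↑U) n) :
    ∃ V : X.Opens, IsAffineOpen V ∧ x ∈ V ∧ V ≤ U ∧
      Nonempty (M.restrict V.ι ≅ FlatMod.freeMod (↑V) n) := by
  obtain ⟨_, ⟨V, hV, rfl⟩, hxV, hVU⟩ := X.isBasis_affineOpens.exists_subset_of_mem_open hx U.2
  exact ⟨V, hV, hxV, hVU, ⟨freeOfLE hVU M n e⟩⟩


/-- the rank of a finite flat morphism at a point of an affine open is the rank of the ring map -/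
theorem finrank_fromSpec {X Y : Scheme.{u}} (f : X ⟶ Y) [Flat f] [IsFinite f] {V : Y.Opens}
    (hV : IsAffineOpen V) (p : Spec Γ(Y, V)) :
    f.finrank (hV.fromSpec p) = (f.app V).hom.finrank p := by
  have hV' : IsAffineOpen (f ⁻¹ᵁ V) := hV.preimage f
  have hpb : IsPullback (Spec.map (f.app V)) hV'.fromSpec hV.fromSpec f := by
    apply IsOpenImmersion.isPullback
    · rw [Scheme.Hom.app_eq_appLE]
      exact (hV.SpecMap_appLE_fromSpec f hV' le_rfl).symm
    · rw [hV.opensRange_fromSpec, hV'.opensRange_fromSpec]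
  have h1 := Scheme.Hom.finrank_of_isPullback _ _ _ _ hpb.flip p
  rw [← h1, Scheme.Hom.finrank_SpecMap_eq_finrank (f.finite_app V hV)]
  rw [Scheme.Hom.app_eq_appLE]
  exact f.flat_appLE hV hV' le_rfl

end Groth.Agent.Lead.FLF
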