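import Mathlib
import Groth.Prelude.Def_FlatMod2
import Groth.Agent.Lib.Helper1.QcLoc

/-!
# Stalk dictionary: the stalk of a quasi-coherent module at a point of an affine open is the
localization of the module of sections (lead)
-/

set_option autoImplicit false
universe u
open CategoryTheory CategoryTheory.Limits AlgebraicGeometry TopologicalSpace
set_option backward.isDefEq.respectTransparency.types false

namespace Groth.Agent.Lead.SD

open Scheme.Modules Groth.Agent.Helper1

variable {X : Scheme.{u}} (M : X.Modules) {U : X.Opens} (hU : IsAffineOpen U) (x : U)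

theorem germ_smul (x : X) (U : X.Opens) (hx : x ∈ U)
    (r : Γ(X, U)) (m : Γ(M, U)) :
    M.presheaf.germ U x hx (r • m) = X.presheaf.germ U x hx r • M.presheaf.germ U x hx m :=
  PresheafOfModules.germ_smul (R := X.presheaf)
    (show PresheafOfModules (X.presheaf ⋙ forget₂ CommRingCat RingCat) from M.val) x U hx r m

/-- the stalk at a point of `U` as a module over `Γ(X, U)` -/
noncomputable abbrev stalkModule : Module Γ(X, U) (M.presheaf.stalk x.1) :=
  Module.compHom _ (algebraMap Γ(X, U) (X.presheaf.stalk x.1))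

attribute [local instance] stalkModule

theorem smul_stalk_def (r : Γ(X, U)) (y : M.presheaf.stalk x.1) :
    r • y = X.presheaf.germ U x.1 x.2 r • y := rfl

instance : IsScalarTower Γ(X, U) (X.presheaf.stalk x.1) (M.presheaf.stalk x.1) :=
  IsScalarTower.of_compHom _ _ _

/-- the germ map as a linear map over `Γ(X, U)` -/
noncomputable def germₗ : Γ(M, U) →ₗ[Γ(X, U)] M.presheaf.stalk x.1 where
  toFun m := M.presheaf.germ U x.1 x.2 m
  map_add' a b := map_add _ a b
  map_smul' r m := by
    simp only [RingHom.id_apply]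
    rw [germ_smul]
    rfl

theorem germₗ_apply (m : Γ(M, U)) : germₗ M x m = M.presheaf.germ U x.1 x.2 m := rfl

include hU in
theorem isUnit_germ_iff (f : Γ(X, U)) :
    IsUnit (X.presheaf.germ U x.1 x.2 f) ↔ f ∈ (hU.primeIdealOf x).asIdeal.primeCompl := by
  haveI := hU.isLocalization_stalk x
  exact IsLocalization.AtPrime.isUnit_to_map_iff (X.presheaf.stalk x.1)
    (hU.primeIdealOf x).asIdeal f

include hU in
theorem mem_basicOpen_iff (f : Γ(X, U)) :
    x.1 ∈ X.basicOpen f ↔ f ∈ (hU.primeIdealOf x).asIdeal.primeCompl := by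
  rw [Scheme.mem_basicOpen X f x.1 x.2]
  exact isUnit_germ_iff hU x f

theorem isLocalizedModule_germ [M.IsQuasicoherent] :
    IsLocalizedModule (hU.primeIdealOf x).asIdeal.primeCompl (germₗ M x) where
  map_units s := by
    have hu : IsUnit (X.presheaf.germ U x.1 x.2 s.1) := (isUnit_germ_iff hU x s.1).2 s.2
    rw [Module.End.isUnit_iff]
    obtain ⟨u, hu'⟩ := hu
    refine ⟨fun a b hab => ?_, fun b => ⟨(↑u⁻¹ : X.presheaf.stalk x.1) • b, ?_⟩⟩
    · have h1 : (u : X.presheaf.stalk x.1) • a = (u : X.presheaf.stalk x.1) • b := by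
        rw [hu']; exact hab
      have := congrArg (fun z => (↑u⁻¹ : X.presheaf.stalk x.1) • z) h1
      simpa [smul_smul] using this
    · change s.1 • ((↑u⁻¹ : X.presheaf.stalk x.1) • b) = b
      rw [smul_stalk_def, ← hu', smul_smul, Units.mul_inv, one_smul]
  surj y := by
    obtain ⟨V, hxV, t, rfl⟩ := TopCat.Presheaf.exists_germ_eq M.presheaf y
    obtain ⟨f, hfV, hxf⟩ := hU.exists_basicOpen_le ⟨x.1, hxV⟩ x.2
    let s : Γ(M, X.basicOpen f) := M.presheaf.map (homOfLE hfV).op t
    obtain ⟨n, t', ht'⟩ := QcLoc.exists_extend hU M f s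
    have hf : f ∈ (hU.primeIdealOf x).asIdeal.primeCompl := (mem_basicOpen_iff hU x f).1 hxf
    refine ⟨⟨t', ⟨f ^ n, Submonoid.pow_mem _ hf n⟩⟩, ?_⟩
    change (f ^ n) • M.presheaf.germ V x.1 hxV t = M.presheaf.germ U x.1 x.2 t'
    have h1 := congrArg (fun z => M.presheaf.germ (X.basicOpen f) x.1 hxf z) ht'
    simp only at h1
    rw [TopCat.Presheaf.germ_res_apply, germ_smul, map_pow, TopCat.Presheaf.germ_res_apply,
      TopCat.Presheaf.germ_res_apply] at h1
    rw [h1, smul_stalk_def, map_pow]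
  exists_of_eq {m₁ m₂} h := by
    change M.presheaf.germ U x.1 x.2 m₁ = M.presheaf.germ U x.1 x.2 m₂ at h
    obtain ⟨W, hxW, i₁, i₂, hW⟩ := TopCat.Presheaf.germ_eq M.presheaf x.1 x.2 x.2 m₁ m₂ h
    obtain ⟨f, hfW, hxf⟩ := hU.exists_basicOpen_le ⟨x.1, hxW⟩ x.2
    have hf : f ∈ (hU.primeIdealOf x).asIdeal.primeCompl := (mem_basicOpen_iff hU x f).1 hxf
    have h0 : M.presheaf.map (homOfLE (X.basicOpen_le f)).op (m₁ - m₂) = 0 := by
      rw [map_sub, sub_eq_zero]
      have e1 : ∀ (i : W ⟶ U) (m : Γ(M, U)), M.presheaf.map (homOfLE (X.basicOpen_le f)).op m =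
          M.presheaf.map (homOfLE hfW).op (M.presheaf.map i.op m) := by
        intro i m
        rw [← ConcreteCategory.comp_apply, ← Functor.map_comp]
        rfl
      rw [e1 i₁ m₁, e1 i₂ m₂, hW]
    obtain ⟨n, hn⟩ := QcLoc.exists_kill hU M f (m₁ - m₂) h0
    refine ⟨⟨f ^ n, Submonoid.pow_mem _ hf n⟩, ?_⟩
    change f ^ n • m₁ = f ^ n • m₂
    rw [← sub_eq_zero, ← smul_sub]
    exact hn

/-! ### consequences not mentioning the auxiliary module structure -/

include hU in
theorem flat_stalk_of_flat_sections [M.IsQuasicoherent] (h : Module.Flat Γ(X, U) Γ(M, U)) :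
    Module.Flat (X.presheaf.stalk x.1) (M.presheaf.stalk x.1) := by
  haveI := isLocalizedModule_germ M hU x
  haveI := hU.isLocalization_stalk x
  exact Module.Flat.of_isLocalizedModule (X.presheaf.stalk x.1)
    (hU.primeIdealOf x).asIdeal.primeCompl (germₗ M x)

include hU in
theorem finite_stalk_of_finite_sections [M.IsQuasicoherent] (h : Module.Finite Γ(X, U) Γ(M, U)) :
    Module.Finite (X.presheaf.stalk x.1) (M.presheaf.stalk x.1) := by
  haveI := isLocalizedModule_germ M hU x
  haveI := hU.isLocalization_stalk x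
  exact Module.Finite.of_isLocalizedModule (hU.primeIdealOf x).asIdeal.primeCompl (germₗ M x)

include hU in
theorem free_stalk_of_projective_sections [M.IsQuasicoherent]
    (h1 : Module.Finite Γ(X, U) Γ(M, U)) (h2 : Module.Projective Γ(X, U) Γ(M, U)) :
    Module.Free (X.presheaf.stalk x.1) (M.presheaf.stalk x.1) := by
  haveI := flat_stalk_of_flat_sections M hU x inferInstance
  haveI := finite_stalk_of_finite_sections M hU x h1
  exact Module.free_of_flat_of_isLocalRing

include hU in
theorem fromSpec_mem (y : PrimeSpectrum Γ(X, U)) : hU.fromSpec y ∈ U := by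
  have : hU.fromSpec y ∈ Set.range hU.fromSpec := ⟨y, rfl⟩
  rwa [hU.range_fromSpec] at this

theorem primeIdealOf_fromSpec (y : PrimeSpectrum Γ(X, U)) :
    hU.primeIdealOf ⟨hU.fromSpec y, fromSpec_mem hU y⟩ = y := by
  have h1 := hU.fromSpec_primeIdealOf ⟨hU.fromSpec y, fromSpec_mem hU y⟩
  exact hU.fromSpec.isOpenEmbedding.injective h1

include hU in
theorem flat_sections_of_flat_stalks [M.IsQuasicoherent]
    (h : ∀ z : U, Module.Flat (X.presheaf.stalk z.1) (M.presheaf.stalk z.1)) :
    Module.Flat Γ(X, U) Γ(M, U) := by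
  apply Module.flat_of_localized_maximal
  intro P hP
  obtain ⟨z, hz⟩ : ∃ z : U, hU.primeIdealOf z = ⟨P, hP.isPrime⟩ :=
    ⟨_, primeIdealOf_fromSpec hU ⟨P, hP.isPrime⟩⟩
  haveI hloc : IsLocalizedModule P.primeCompl (germₗ M z) := by
    have := isLocalizedModule_germ M hU z
    rw [hz] at this
    exact this
  haveI hlocR : IsLocalization.AtPrime (X.presheaf.stalk z.1) P := by
    have := hU.isLocalization_stalk z
    rw [hz] at this
    exact this
  have hflat : Module.Flat Γ(X, U) (M.presheaf.stalk z.1) :=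
    (Module.flat_iff_of_isLocalization (X.presheaf.stalk z.1) P.primeCompl
      (M.presheaf.stalk z.1)).1 (h z)
  exact Module.Flat.of_linearEquiv (IsLocalizedModule.iso P.primeCompl (germₗ M z))

end Groth.Agent.Lead.SD
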