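import Mathlib
import Groth.Prelude.Def_FlatMod2
import Groth.Agent.Lib.Helper1.QcLoc

/-!
# Sections of a quasi-coherent module over a basic open of an affine open are the localization
of the sections over the affine open (lead)
-/

set_option autoImplicit false
universe u
open CategoryTheory CategoryTheory.Limits AlgebraicGeometry TopologicalSpace
set_option backward.isDefEq.respectTransparency.types false

namespace Groth.Agent.Lead.SD

open Scheme.Modules Groth.Agent.Helper1

variable {X : Scheme.{u}} (M : X.Modules) {U : X.Opens} (hU : IsAffineOpen U) (f : Γ(X, U))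

/-- sections over the basic open as a module over the sections of the ambient open -/
noncomputable abbrev basicOpenModule : Module Γ(X, U) Γ(M, X.basicOpen f) :=
  Module.compHom _ (algebraMap Γ(X, U) Γ(X, X.basicOpen f))

attribute [local instance] basicOpenModule

theorem smul_basicOpen_def (r : Γ(X, U)) (y : Γ(M, X.basicOpen f)) :
    r • y = (X.presheaf.map (homOfLE (X.basicOpen_le f)).op).hom r • y := rfl

instance : IsScalarTower Γ(X, U) Γ(X, X.basicOpen f) Γ(M, X.basicOpen f) :=
  IsScalarTower.of_compHom _ _ _

/-- restriction to the basic open as a linear map -/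
noncomputable def resₗ : Γ(M, U) →ₗ[Γ(X, U)] Γ(M, X.basicOpen f) where
  toFun m := M.presheaf.map (homOfLE (X.basicOpen_le f)).op m
  map_add' a b := map_add _ a b
  map_smul' r m := by
    simp only [RingHom.id_apply]
    erw [Scheme.Modules.map_smul M (homOfLE (X.basicOpen_le f))]
    rfl

theorem resₗ_apply (m : Γ(M, U)) :
    resₗ M f m = M.presheaf.map (homOfLE (X.basicOpen_le f)).op m := rfl

include hU in
theorem isLocalizedModule_res [M.IsQuasicoherent] : IsLocalizedModule.Away f (resₗ M f) := by
  refine IsLocalizedModule.Away.mk_of_addCommGroup ?_ ?_ ?_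
  · have hu : IsUnit ((X.presheaf.map (homOfLE (X.basicOpen_le f)).op).hom f) :=
      X.toRingedSpace.isUnit_res_basicOpen f
    rw [Module.End.isUnit_iff]
    obtain ⟨u, hu'⟩ := hu
    refine ⟨fun a b hab => ?_, fun b => ⟨(↑u⁻¹ : Γ(X, X.basicOpen f)) • b, ?_⟩⟩
    · have h1 : (u : Γ(X, X.basicOpen f)) • a = (u : Γ(X, X.basicOpen f)) • b := by
        rw [hu']; exact hab
      have := congrArg (fun z => (↑u⁻¹ : Γ(X, X.basicOpen f)) • z) h1
      simpa [smul_smul] using this
    · change f • ((↑u⁻¹ : Γ(X, X.basicOpen f)) • b) = b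
      rw [smul_basicOpen_def, ← hu', smul_smul, Units.mul_inv, one_smul]
  · intro s
    obtain ⟨n, t, ht⟩ := QcLoc.exists_extend hU M f s
    refine ⟨n, t, ?_⟩
    rw [resₗ_apply, ht, smul_basicOpen_def, map_pow]
  · intro t ht
    exact QcLoc.exists_kill hU M f t ht

include hU in
theorem isBaseChange_res [M.IsQuasicoherent] :
    IsBaseChange Γ(X, X.basicOpen f) (resₗ M f) := by
  haveI := hU.isLocalization_basicOpen f
  haveI := isLocalizedModule_res M hU f
  exact IsLocalizedModule.isBaseChange (Submonoid.powers f) Γ(X, X.basicOpen f) (resₗ M f)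

end Groth.Agent.Lead.SD
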