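import Mathlib
import Groth.Prelude.Def_FlatMod2
import Groth.Agent.Lib.Lead.FLF5
import Groth.Agent.Lib.Lead.SD1
import Groth.Agent.Lib.Lead.SD2
import Groth.Agent.Lib.Helper1.QCohLib

/-!
# Finite locally free modules: quasi-coherence, rank dictionary, retracts (lead)
-/

set_option autoImplicit false
universe u
open CategoryTheory CategoryTheory.Limits AlgebraicGeometry TopologicalSpace
set_option backward.isDefEq.respectTransparency.types false

namespace Groth.Agent.Lead.FLF

open Scheme.Modules Groth.Agent.Helper1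

variable {X : Scheme.{u}}

/-- a finite locally free module is quasi-coherent -/
theorem isQuasicoherent_of_isFinLocFree (M : X.Modules) (h : FlatMod.IsFinLocFree M) :
    M.IsQuasicoherent := by
  have key : ∀ x : X, ∃ (V : X.Opens) (hV : IsAffineOpen V), x ∈ V ∧
      IsIso (M.restrict hV.fromSpec).fromTildeΓ := by
    intro x
    obtain ⟨U, n, hxU, ⟨e⟩⟩ := h x
    obtain ⟨V, hV, hxV, -, ⟨e'⟩⟩ := exists_affine_free M x U hxU n e
    refine ⟨V, hV, hxV, ?_⟩
    rw [isIso_fromTildeΓ_iff]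
    exact ⟨_, ⟨tildeFreeIso _ n ≪≫
      (freeOfComp hV.isoSpec.inv V.ι hV.fromSpec rfl M n e').symm⟩⟩
  choose V hV hxV hiso using key
  refine QCohLib.isQuasicoherent_of_affine_charts M (fun x => Γ(X, V x))
    (fun x => (hV x).fromSpec) ?_ hiso
  rw [eq_top_iff]
  intro x _
  exact Opens.mem_iSup.2 ⟨x, by rw [(hV x).opensRange_fromSpec]; exact hxV x⟩


open Groth.Agent.Lead.SD in
/-- the rank of the sections over an affine open at a point near which the module is free -/
theorem rankAtStalk_of_free_nhds (M : X.Modules) [M.IsQuasicoherent]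
    (hM : FlatMod.IsFinLocFree M) {U : X.Opens}
    (hU : IsAffineOpen U) (x : U) (V : X.Opens) (hxV : x.1 ∈ V) (n : ℕ)
    (e : M.restrict V.ι ≅ FlatMod.freeMod (↑V) n) :
    Module.rankAtStalk (R := Γ(X, U)) Γ(M, U) (hU.primeIdealOf x) = n := by
  obtain ⟨f, hfV, hxf⟩ := hU.exists_basicOpen_le ⟨x.1, hxV⟩ x.2
  have hD : IsAffineOpen (X.basicOpen f) := hU.basicOpen f
  have e' := freeOfLE hfV M n e
  let E := sectionsFreeEquiv hD M n e'
  haveI := hU.isLocalization_basicOpen f
  have hmem : hU.primeIdealOf x ∈ (PrimeSpectrum.basicOpen f : Set (PrimeSpectrum Γ(X, U))) :=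
    (mem_basicOpen_iff hU x f).1 hxf
  rw [← PrimeSpectrum.localization_away_comap_range Γ(X, X.basicOpen f) f] at hmem
  obtain ⟨p', hp'⟩ := hmem
  letI := basicOpenModule M f
  obtain ⟨hfin, hproj⟩ := (isFinLocFree_iff_affineOpens M).1 hM U hU
  have h1 := Module.rankAtStalk_isBaseChange (isBaseChange_res M hU f) p'
  rw [hp'] at h1
  rw [← h1]
  haveI : Nontrivial Γ(X, X.basicOpen f) := p'.nontrivial
  rw [Module.rankAtStalk_eq_of_equiv E, Module.rankAtStalk_eq_finrank_of_free]
  simp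


theorem isFinLocFree_of_isFinLocFreeOfRank (M : X.Modules) (d : ℕ)
    (h : FlatMod.IsFinLocFreeOfRank d M) : FlatMod.IsFinLocFree M := fun x => by
  obtain ⟨U, hxU, he⟩ := h x
  exact ⟨U, d, hxU, he⟩

/-- rank criterion -/
theorem isFinLocFreeOfRank_iff (M : X.Modules) (d : ℕ) :
    FlatMod.IsFinLocFreeOfRank d M ↔ FlatMod.IsFinLocFree M ∧
      ∀ (U : X.Opens), IsAffineOpen U → ∀ p : PrimeSpectrum Γ(X, U),
        Module.rankAtStalk (R := Γ(X, U)) Γ(M, U) p = d := by
  constructor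
  · intro h
    have hM := isFinLocFree_of_isFinLocFreeOfRank M d h
    haveI := isQuasicoherent_of_isFinLocFree M hM
    refine ⟨hM, fun U hU p => ?_⟩
    obtain ⟨V, hxV, ⟨e⟩⟩ := h (hU.fromSpec p)
    have := rankAtStalk_of_free_nhds M hM hU ⟨hU.fromSpec p, SD.fromSpec_mem hU p⟩ V hxV d e
    rwa [SD.primeIdealOf_fromSpec] at this
  · rintro ⟨hM, hr⟩ x
    haveI := isQuasicoherent_of_isFinLocFree M hM
    obtain ⟨V, n, hxV, ⟨e⟩⟩ := hM x
    obtain ⟨_, ⟨U, hU, rfl⟩, hxU, -⟩ := X.isBasis_affineOpens.exists_subset_of_mem_open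
      (Set.mem_univ x) isOpen_univ
    have := rankAtStalk_of_free_nhds M hM hU ⟨x, hxU⟩ V hxV n e
    rw [hr U hU] at this
    subst this
    exact ⟨V, hxV, ⟨e⟩⟩

/-- a retract of a finite locally free module is finite locally free -/
theorem isFinLocFree_of_retract_of_isFinLocFree {K M : X.Modules} (i : K ⟶ M) (q : M ⟶ K)
    (h : i ≫ q = 𝟙 K) (hM : FlatMod.IsFinLocFree M) : FlatMod.IsFinLocFree K := by
  apply isFinLocFree_of_charts
  intro x
  obtain ⟨U, n, hxU, ⟨e⟩⟩ := hM x
  refine ⟨U, U.ι, inferInstance, by simpa using hxU, ?_⟩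
  refine isFinLocFree_of_retract n (K.restrict U.ι) ((restrictFunctor U.ι).map i ≫ e.hom)
    (e.inv ≫ (restrictFunctor U.ι).map q) ?_
  rw [Category.assoc, Iso.hom_inv_id_assoc, ← CategoryTheory.Functor.map_comp, h,
    CategoryTheory.Functor.map_id]

end Groth.Agent.Lead.FLF
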