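import Mathlib

/-!
# Commutative algebra: finite modules with constant fibre dimension are locally free (lead)
-/

set_option autoImplicit false
universe u
open TensorProduct

namespace Groth.Agent.Lead.LFA

variable {R : Type u} [CommRing R] (P : Type u) [AddCommGroup P] [Module R P]

/-- the dimension of the fibre of `P` at the prime `q`, computed on the localization -/
noncomputable def fibreDim (q : PrimeSpectrum R) : ℕ :=
  Module.finrank (IsLocalRing.ResidueField (Localization.AtPrime q.asIdeal))
    (IsLocalRing.ResidueField (Localization.AtPrime q.asIdeal) ⊗[Localization.AtPrime q.asIdeal]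
      LocalizedModule q.asIdeal.primeCompl P)

variable {P}

/-- a uniform multiplier for a finite module -/
lemma exists_smul_mem_of_forall [Module.Finite R P] (q : PrimeSpectrum R) (Q : Submodule R P)
    (h : ∀ y : P, ∃ t : R, t ∉ q.asIdeal ∧ t • y ∈ Q) :
    ∃ r : R, r ∉ q.asIdeal ∧ ∀ y : P, r • y ∈ Q := by
  classical
  obtain ⟨s, hs⟩ := (Module.Finite.fg_top : (⊤ : Submodule R P).FG)
  choose t ht1 ht2 using h
  refine ⟨∏ y ∈ s, t y, ?_, ?_⟩
  · have : ∏ y ∈ s, t y ∈ q.asIdeal.primeCompl :=
      Submonoid.prod_mem _ (fun y _ => ht1 y)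
    exact this
  · intro y
    have hy : y ∈ Submodule.span R (s : Set P) := by rw [hs]; trivial
    induction hy using Submodule.span_induction with
    | mem y hy =>
      rw [← Finset.mul_prod_erase s t hy, mul_comm, mul_smul]
      exact Q.smul_mem _ (ht2 y)
    | zero => simp
    | add a b _ _ ha hb => rw [smul_add]; exact Q.add_mem ha hb
    | smul c a _ ha => rw [smul_comm]; exact Q.smul_mem _ ha


/-- Nakayama: near `q`, a finite module is generated by `fibreDim P q` elements -/
theorem exists_generators [Module.Finite R P] (q : PrimeSpectrum R) :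
    ∃ (κ : Type u) (_ : Fintype κ) (x : κ → P) (r : R), r ∉ q.asIdeal ∧
      Fintype.card κ = fibreDim P q ∧ ∀ y : P, r • y ∈ Submodule.span R (Set.range x) := by
  classical
  let S := q.asIdeal.primeCompl
  let A := Localization.AtPrime q.asIdeal
  let N := LocalizedModule S P
  let k := IsLocalRing.ResidueField A
  let g : P →ₗ[R] N := LocalizedModule.mkLinearMap S P
  haveI : Module.Finite A N := Module.Finite.of_isLocalizedModule S (Rₚ := A) g
  -- the images of the elements of `P` span `N`
  have hv : Submodule.span A (Set.range g) = ⊤ := by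
    rw [eq_top_iff]
    rintro z -
    obtain ⟨⟨y, s⟩, rfl⟩ := IsLocalizedModule.mk'_surjective S g z
    have : IsLocalizedModule.mk' g y s = (IsLocalization.mk' A (1 : R) s) • g y := by
      rw [IsLocalizedModule.mk'_eq_iff, ← smul_assoc]
      have : (s : R) • IsLocalization.mk' A (1 : R) s = (1 : A) := by
        rw [Algebra.smul_def, mul_comm, IsLocalization.mk'_spec, map_one]
      rw [Submonoid.smul_def, this, one_smul]
    change IsLocalizedModule.mk' g y s ∈ _
    rw [this]
    exact Submodule.smul_mem _ _ (Submodule.subset_span ⟨y, rfl⟩)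
  have hspan : Submodule.span k (Set.range (TensorProduct.mk A k N 1 ∘ g)) = ⊤ := by
    have := (IsLocalRing.map_tensorProduct_mk_eq_top
      (N := Submodule.span A (Set.range g))).mpr hv
    rw [← Submodule.span_image, ← Set.range_comp, eq_top_iff, ← SetLike.coe_subset_coe,
      Submodule.top_coe] at this
    rw [eq_top_iff]
    exact Set.Subset.trans this (Submodule.span_subset_span _ _ _)
  obtain ⟨κ, a, ha, hsp, hli⟩ := exists_linearIndependent' k (TensorProduct.mk A k N 1 ∘ g)
  rw [hspan] at hsp
  let b : Module.Basis κ k (k ⊗[A] N) := Module.Basis.mk hli (by rw [hsp])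
  haveI : Finite κ := Module.Finite.finite_basis b
  letI : Fintype κ := Fintype.ofFinite κ
  have hcard : Fintype.card κ = fibreDim P q := (Module.finrank_eq_card_basis b).symm
  have htop : Submodule.span A (Set.range (g ∘ a)) = ⊤ :=
    IsLocalRing.span_eq_top_of_tmul_eq_basis (R := A) (f := g ∘ a) b (fun i => by simp [b])
  have hloc : (Submodule.span R (Set.range a)).localized' A S g = ⊤ := by
    rw [Submodule.localized'_span, ← Set.range_comp]
    exact htop
  have hy : ∀ y : P, ∃ t : R, t ∉ q.asIdeal ∧ t • y ∈ Submodule.span R (Set.range a) := by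
    intro y
    have : g y ∈ (Submodule.span R (Set.range a)).localized' A S g := by rw [hloc]; trivial
    obtain ⟨m, hm, s, hms⟩ := this
    rw [IsLocalizedModule.mk'_eq_iff, Submonoid.smul_def, ← map_smul] at hms
    obtain ⟨c, hc⟩ := (IsLocalizedModule.eq_iff_exists S g).1 hms
    refine ⟨c.1 * s.1, (c * s).2, ?_⟩
    rw [mul_smul]
    have : (c : R) • (s : R) • y = c • m := hc.symm
    rw [this]
    exact Submodule.smul_mem _ _ hm
  obtain ⟨r, hr, hr'⟩ := exists_smul_mem_of_forall q _ hy
  exact ⟨κ, inferInstance, a, r, hr, hcard, hr'⟩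


section locMap

variable (S : Submonoid R) {κ : Type u} (x : κ → P)

/-- the localization map on finitely supported functions -/
noncomputable abbrev fS (κ : Type u) : (κ →₀ R) →ₗ[R] (κ →₀ Localization S) :=
  Finsupp.mapRange.linearMap (α := κ) (Algebra.linearMap R (Localization S))

/-- the localization map on `P` -/
noncomputable abbrev gS (P : Type u) [AddCommGroup P] [Module R P] :
    P →ₗ[R] LocalizedModule S P := LocalizedModule.mkLinearMap S P

/-- the localization of the map `R^κ → P` given by a family `x` -/
noncomputable def locMap : (κ →₀ Localization S) →ₗ[Localization S] LocalizedModule S P :=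
  (IsLocalizedModule.map S (fS S κ) (gS S P)
    (Finsupp.linearCombination R x)).extendScalarsOfIsLocalization S (Localization S)

lemma locMap_mk' (c : κ →₀ R) (s : S) :
    locMap S x (IsLocalizedModule.mk' (fS S κ) c s) =
    IsLocalizedModule.mk' (gS S P) (Finsupp.linearCombination R x c) s :=
  IsLocalizedModule.map_mk' (S := S) (f := fS S κ) (g := gS S P) _ _ _

lemma locMap_surjective (h : R) (hS : h ∈ S)
    (ha : ∀ y : P, h • y ∈ Submodule.span R (Set.range x)) :
    Function.Surjective (locMap S x) := by
  intro z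
  obtain ⟨⟨y, s⟩, rfl⟩ := IsLocalizedModule.mk'_surjective S (gS S P) z
  have hy := ha y
  rw [← Finsupp.range_linearCombination] at hy
  obtain ⟨c, hc⟩ := hy
  refine ⟨IsLocalizedModule.mk' (fS S κ) c (⟨h, hS⟩ * s), ?_⟩
  rw [locMap_mk', hc]
  change IsLocalizedModule.mk' (gS S P) ((⟨h, hS⟩ : S) • y) _ = _
  exact IsLocalizedModule.mk'_cancel_left (S := S) (f := gS S P) y ⟨h, hS⟩ s

lemma locMap_injective
    (hb : ∀ c : κ →₀ R, Finsupp.linearCombination R x c = 0 → ∃ s : S, s • c = 0) :
    Function.Injective (locMap S x) := by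
  rw [← LinearMap.ker_eq_bot, LinearMap.ker_eq_bot']
  intro z hz
  obtain ⟨⟨c, s⟩, rfl⟩ := IsLocalizedModule.mk'_surjective S (fS S κ) z
  change locMap S x (IsLocalizedModule.mk' (fS S κ) c s) = 0 at hz
  rw [locMap_mk', IsLocalizedModule.mk'_eq_zero' (S := S) (gS S P)] at hz
  obtain ⟨t, ht⟩ := hz
  have : Finsupp.linearCombination R x (t • c) = 0 := by
    rw [Submonoid.smul_def, map_smul]; exact ht
  obtain ⟨s', hs'⟩ := hb _ this
  change IsLocalizedModule.mk' (fS S κ) c s = 0
  rw [IsLocalizedModule.mk'_eq_zero' (S := S) (fS S κ)]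
  exact ⟨s' * t, by rw [mul_smul]; exact hs'⟩

lemma exists_smul_eq_zero_of_locMap_injective (hinj : Function.Injective (locMap S x))
    (c : κ →₀ R) (hc : Finsupp.linearCombination R x c = 0) : ∃ s : S, s • c = 0 := by
  have h1 : locMap S x (IsLocalizedModule.mk' (fS S κ) c (1 : S)) = 0 := by
    rw [locMap_mk', hc, IsLocalizedModule.mk'_zero]
  have h2 := hinj (h1.trans (map_zero _).symm)
  rwa [IsLocalizedModule.mk'_eq_zero' (S := S) (fS S κ)] at h2

end locMap


/-- if a finite family generates `P` up to `h` and its relations are killed by powers of `h`,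
then `P[1/h]` is free -/
theorem free_away {κ : Type u} (x : κ → P) (h : R)
    (ha : ∀ y : P, h • y ∈ Submodule.span R (Set.range x))
    (hb : ∀ c : κ →₀ R, Finsupp.linearCombination R x c = 0 → ∃ k : ℕ, h ^ k • c = 0) :
    Module.Free (Localization.Away h) (LocalizedModule.Away h P) := by
  have h1 : Function.Surjective (locMap (Submonoid.powers h) x) :=
    locMap_surjective _ x h (Submonoid.mem_powers h) ha
  have h2 : Function.Injective (locMap (Submonoid.powers h) x) := by
    apply locMap_injective
    intro c hc
    obtain ⟨k, hk⟩ := hb c hc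
    exact ⟨⟨h ^ k, k, rfl⟩, hk⟩
  exact Module.Free.of_equiv (LinearEquiv.ofBijective (locMap (Submonoid.powers h) x) ⟨h2, h1⟩)

/-- at a prime where the stalk is free of the right rank, relations are locally killed -/
theorem exists_smul_eq_zero_of_free_stalk [Module.Finite R P] {κ : Type u} [Fintype κ]
    (x : κ → P) (h : R)
    (ha : ∀ y : P, h • y ∈ Submodule.span R (Set.range x)) (q : PrimeSpectrum R)
    (hq : h ∉ q.asIdeal)
    (hfree : Module.Free (Localization.AtPrime q.asIdeal)
      (LocalizedModule q.asIdeal.primeCompl P))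
    (hrank : Module.finrank (Localization.AtPrime q.asIdeal)
      (LocalizedModule q.asIdeal.primeCompl P) = Fintype.card κ)
    (c : κ →₀ R) (hc : Finsupp.linearCombination R x c = 0) :
    ∃ u : R, u ∉ q.asIdeal ∧ u • c = 0 := by
  let S := q.asIdeal.primeCompl
  have h1 : Function.Surjective (locMap S x) := locMap_surjective S x h hq ha
  haveI : Module.Finite (Localization.AtPrime q.asIdeal) (LocalizedModule S P) :=
    Module.Finite.of_isLocalizedModule S (Rₚ := Localization.AtPrime q.asIdeal)
      (LocalizedModule.mkLinearMap S P)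
  have hfr : Module.finrank (Localization.AtPrime q.asIdeal)
      (κ →₀ Localization.AtPrime q.asIdeal) =
      Module.finrank (Localization.AtPrime q.asIdeal) (LocalizedModule S P) := by
    rw [hrank, Module.finrank_finsupp_self]
  let e : (κ →₀ Localization.AtPrime q.asIdeal) ≃ₗ[Localization.AtPrime q.asIdeal]
      LocalizedModule S P := LinearEquiv.ofFinrankEq _ _ hfr
  have h2 : Function.Injective (locMap S x) :=
    OrzechProperty.injective_of_surjective_of_injective e.toLinearMap (locMap S x) e.injective h1
  obtain ⟨s, hs⟩ := exists_smul_eq_zero_of_locMap_injective S x h2 c hc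
  exact ⟨s.1, s.2, hs⟩

/-- if an element is killed locally at every prime not containing `h`, it is killed by a power
of `h` -/
theorem exists_pow_smul_eq_zero {N : Type u} [AddCommGroup N] [Module R N] (h : R) (c : N)
    (H : ∀ q : PrimeSpectrum R, h ∉ q.asIdeal → ∃ u : R, u ∉ q.asIdeal ∧ u • c = 0) :
    ∃ k : ℕ, h ^ k • c = 0 := by
  let I : Ideal R := LinearMap.ker (LinearMap.toSpanSingleton R N c)
  have hI : ∀ u : R, u ∈ I ↔ u • c = 0 := fun u => by
    simp [I, LinearMap.mem_ker, LinearMap.toSpanSingleton_apply]
  have hrad : h ∈ I.radical := by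
    rw [Ideal.radical_eq_sInf, Ideal.mem_sInf]
    rintro J ⟨hIJ, hJ⟩
    by_contra hh
    obtain ⟨u, hu, huc⟩ := H ⟨J, hJ⟩ hh
    exact hu (hIJ ((hI u).2 huc))
  obtain ⟨k, hk⟩ := hrad
  exact ⟨k, (hI _).1 hk⟩


lemma fibreDim_eq_finrank_of_free (q : PrimeSpectrum R)
    [Module.Free (Localization.AtPrime q.asIdeal) (LocalizedModule q.asIdeal.primeCompl P)] :
    fibreDim P q = Module.finrank (Localization.AtPrime q.asIdeal)
      (LocalizedModule q.asIdeal.primeCompl P) :=
  Module.finrank_baseChange

/-- a finite module with free stalks and locally constant fibre dimension is locally free -/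
theorem exists_free_away_of_free_stalks [Module.Finite R P]
    (hfree : ∀ q : PrimeSpectrum R, Module.Free (Localization.AtPrime q.asIdeal)
      (LocalizedModule q.asIdeal.primeCompl P))
    (hlc : IsLocallyConstant (fibreDim (R := R) P)) (p : PrimeSpectrum R) :
    ∃ h : R, h ∉ p.asIdeal ∧ Module.Free (Localization.Away h) (LocalizedModule.Away h P) := by
  obtain ⟨κ, _, x, r, hr, hcard, hx⟩ := exists_generators (P := P) p
  have hopen : IsOpen {q : PrimeSpectrum R | fibreDim P q = fibreDim P p} :=
    hlc.isOpen_fiber _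
  obtain ⟨_, ⟨g, rfl⟩, hpg, hgsub⟩ :=
    PrimeSpectrum.isTopologicalBasis_basic_opens.exists_subset_of_mem_open
      (show p ∈ {q : PrimeSpectrum R | fibreDim P q = fibreDim P p} from rfl) hopen
  refine ⟨r * g, ?_, ?_⟩
  · exact p.isPrime.mul_notMem hr hpg
  · have ha : ∀ y : P, (r * g) • y ∈ Submodule.span R (Set.range x) := fun y => by
      rw [mul_comm, mul_smul]
      exact Submodule.smul_mem _ _ (hx y)
    refine free_away x (r * g) ha (fun c hc => ?_)
    refine exists_pow_smul_eq_zero (r * g) c (fun q hq => ?_)
    have hqg : g ∉ q.asIdeal := fun hg => hq (q.asIdeal.mul_mem_left r hg)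
    haveI := hfree q
    have hrank : Module.finrank (Localization.AtPrime q.asIdeal)
        (LocalizedModule q.asIdeal.primeCompl P) = Fintype.card κ := by
      rw [← fibreDim_eq_finrank_of_free q, hcard]
      exact hgsub hqg
    exact exists_smul_eq_zero_of_free_stalk x (r * g) ha q hq (hfree q) hrank c hc


/-- the rank at a prime can be computed on any model of the localization -/
theorem finrank_eq_rankAtStalk (p : PrimeSpectrum R)
    (Rₚ Mₚ : Type u) [CommRing Rₚ] [Algebra R Rₚ] [IsLocalization.AtPrime Rₚ p.asIdeal]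
    [AddCommGroup Mₚ] [Module R Mₚ] (f : P →ₗ[R] Mₚ) [IsLocalizedModule p.asIdeal.primeCompl f]
    [Module Rₚ Mₚ] [IsScalarTower R Rₚ Mₚ] :
    Module.finrank Rₚ Mₚ = Module.rankAtStalk P p := by
  set e := (IsLocalization.algEquiv p.asIdeal.primeCompl
      (Localization.AtPrime p.asIdeal) Rₚ).toRingEquiv with he
  have hsmul : ∀ (r : Localization.AtPrime p.asIdeal)
      (x : LocalizedModule p.asIdeal.primeCompl P),
      IsLocalizedModule.iso p.asIdeal.primeCompl f (r • x) =
        e r • IsLocalizedModule.iso p.asIdeal.primeCompl f x := by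
    intro r x
    obtain ⟨r, s, rfl⟩ := IsLocalization.exists_mk'_eq p.asIdeal.primeCompl r
    apply ((Module.End.isUnit_iff _).mp (IsLocalizedModule.map_units f s)).1
    simp [e, ← map_smul, ← smul_assoc]
  have := rank_eq_of_equiv_equiv e (IsLocalizedModule.iso p.asIdeal.primeCompl f).toAddEquiv
    e.bijective hsmul
  unfold Module.rankAtStalk Module.finrank
  rw [this]

end Groth.Agent.Lead.LFA
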