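import Mathlib
import Groth.Prelude.Def_FlatMod2
import Groth.Prelude.Def_CohB1
import Groth.Agent.Lib.Lead.FLF6
import Groth.Agent.Lib.Lead.LFA
import Groth.Agent.Lib.Helper1.AffFin
import Groth.Agent.Lib.Helper1.FtLocal

/-!
# Finite type dictionary and fibre rank (lead)
-/

set_option autoImplicit false
universe u
open CategoryTheory CategoryTheory.Limits AlgebraicGeometry TopologicalSpace
set_option backward.isDefEq.respectTransparency.types false

namespace Groth.Agent.Lead.FLF

open Scheme.Modules Groth.Agent.Helper1 Groth.Agent.Lead.SD Groth.Agent.Lead.LFA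

variable {X : Scheme.{u}}

theorem ft_sections (M : X.Modules) [M.IsQuasicoherent] (hft : CohB1.IsFT M) {U : X.Opens}
    (hU : IsAffineOpen U) : Module.Finite Γ(X, U) Γ(M, U) := by
  haveI := AffFin.finite_restrict M inferInstance hft hU.fromSpec
  exact Module.Finite.equiv (sectionsLinearEquiv hU M)

theorem isFT_of_ft_sections (M : X.Modules) [M.IsQuasicoherent]
    (h : ∀ U : X.Opens, IsAffineOpen U → Module.Finite Γ(X, U) Γ(M, U)) : CohB1.IsFT M := by
  apply FtLocal.isFiniteType_of_affineOpens
  intro V hV
  haveI := h V hV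
  exact Module.Finite.equiv (sectionsLinearEquiv hV M).symm

/-- the fibre rank of a module at a point -/
noncomputable def fibreRank (M : X.Modules) (x : X) : ℕ :=
  Module.finrank (IsLocalRing.ResidueField (X.presheaf.stalk x))
    (TensorProduct (X.presheaf.stalk x) (IsLocalRing.ResidueField (X.presheaf.stalk x))
      (M.presheaf.stalk x))

attribute [local instance] stalkModule

theorem free_localized_iff (M : X.Modules) [M.IsQuasicoherent] {U : X.Opens}
    (hU : IsAffineOpen U) (x : U) :
    Module.Free (Localization.AtPrime (hU.primeIdealOf x).asIdeal)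
      (LocalizedModule (hU.primeIdealOf x).asIdeal.primeCompl Γ(M, U)) ↔
    Module.Free (X.presheaf.stalk x.1) (M.presheaf.stalk x.1) := by
  haveI := isLocalizedModule_germ M hU x
  haveI := hU.isLocalization_stalk x
  exact Module.mem_freeLocus_of_isLocalization (hU.primeIdealOf x) (X.presheaf.stalk x.1)
    (M.presheaf.stalk x.1) (germₗ M x)

theorem fibreRank_eq_rankAtStalk (M : X.Modules) [M.IsQuasicoherent] {U : X.Opens}
    (hU : IsAffineOpen U) (x : U)
    (hfree : Module.Free (X.presheaf.stalk x.1) (M.presheaf.stalk x.1)) :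
    fibreRank M x.1 = Module.rankAtStalk (R := Γ(X, U)) Γ(M, U) (hU.primeIdealOf x) := by
  haveI := isLocalizedModule_germ M hU x
  haveI := hU.isLocalization_stalk x
  rw [← finrank_eq_rankAtStalk (hU.primeIdealOf x) (X.presheaf.stalk x.1)
    (M.presheaf.stalk x.1) (germₗ M x)]
  exact Module.finrank_baseChange

end Groth.Agent.Lead.FLF
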