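import Mathlib
set_option autoImplicit false
open CategoryTheory AlgebraicGeometry
universe u
set_option backward.isDefEq.respectTransparency.types false
namespace Groth.Agent.Lead.PB

open TensorProduct

section family
variable (A : Type u) [CommRing A] {ι : Type*} [Finite ι] (B : ι → Type u) [∀ i, CommRing (B i)]
  [∀ i, Algebra A (B i)]

/-- a finite family of flat algebras, jointly surjective on spectra -/
structure IsFFFamily : Prop where
  flat : ∀ i, Module.Flat A (B i)
  surj : ∀ p : PrimeSpectrum A, ∃ i, ∃ q : PrimeSpectrum (B i),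
    PrimeSpectrum.comap (algebraMap A (B i)) q = p

variable {A B}

theorem IsFFFamily.flat_pi (h : IsFFFamily A B) : Module.Flat A (Π i, B i) := by
  classical
  cases nonempty_fintype ι
  haveI := h.flat
  exact Module.Flat.of_linearEquiv (DFinsupp.linearEquivFunOnFintype (R := A) (M := B)).symm

theorem IsFFFamily.faithfullyFlat_pi (h : IsFFFamily A B) : Module.FaithfullyFlat A (Π i, B i) := by
  haveI := h.flat_pi
  refine Module.FaithfullyFlat.of_comap_surjective ?_
  intro p
  obtain ⟨i, q, hq⟩ := h.surj p
  refine ⟨PrimeSpectrum.comap (Pi.evalRingHom B i) q, ?_⟩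
  rw [← hq]
  rfl

theorem IsFFFamily.subsingleton (h : IsFFFamily A B) (Q : Type u) [AddCommGroup Q] [Module A Q]
    (hQ : ∀ i, Subsingleton (B i ⊗[A] Q)) : Subsingleton Q := by
  classical
  cases nonempty_fintype ι
  haveI := h.faithfullyFlat_pi
  haveI : Subsingleton ((Π i, B i) ⊗[A] Q) :=
    (TensorProduct.piLeft A Q B).toEquiv.subsingleton
  exact Module.FaithfullyFlat.lTensor_reflects_triviality A (Π i, B i) Q

theorem IsFFFamily.surjective (h : IsFFFamily A B) {P N : Type u} [AddCommGroup P] [AddCommGroup N]
    [Module A P] [Module A N] (g : P →ₗ[A] N)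
    (hg : ∀ i, Function.Surjective (g.lTensor (B i))) : Function.Surjective g := by
  rw [← LinearMap.range_eq_top, ← Submodule.Quotient.subsingleton_iff]
  refine h.subsingleton _ fun i => ?_
  refine ⟨fun z w => ?_⟩
  have key : ∀ z : B i ⊗[A] (N ⧸ LinearMap.range g), z = 0 := by
    intro z
    obtain ⟨w, rfl⟩ := LinearMap.lTensor_surjective (B i)
      (Submodule.mkQ_surjective (LinearMap.range g)) z
    obtain ⟨v, rfl⟩ := hg i w
    rw [← LinearMap.comp_apply, ← LinearMap.lTensor_comp]
    have : (LinearMap.range g).mkQ ∘ₗ g = 0 := by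
      ext x
      simp
    rw [this, LinearMap.lTensor_zero, LinearMap.zero_apply]
  rw [key z, key w]

theorem IsFFFamily.finite (h : IsFFFamily A B) (N : Type u) [AddCommGroup N] [Module A N]
    (hN : ∀ i, Module.Finite (B i) (B i ⊗[A] N)) : Module.Finite A N := by
  classical
  cases nonempty_fintype ι
  -- generators
  have h1 : ∀ i, ∃ S : Finset (B i ⊗[A] N), Submodule.span (B i) (S : Set (B i ⊗[A] N)) = ⊤ :=
    fun i => (hN i).fg_top
  choose S hS using h1
  have h2 : ∀ i (s : B i ⊗[A] N), ∃ T : Finset (B i × N), s = ∑ p ∈ T, p.1 ⊗ₜ[A] p.2 := by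
    intro i s
    obtain ⟨T, hT⟩ := TensorProduct.exists_finset s
    exact ⟨T, hT⟩
  choose T hT using h2
  let W : Finset N := Finset.univ.biUnion fun i => (S i).biUnion fun s => (T i s).image Prod.snd
  let N' : Submodule A N := Submodule.span A (W : Set N)
  haveI : Module.Finite A N' := Module.Finite.span_of_finite A W.finite_toSet
  have hsurj : Function.Surjective N'.subtype := by
    refine h.surjective N'.subtype fun i => ?_
    have hr : LinearMap.range (N'.subtype.baseChange (B i)) = ⊤ := by
      rw [← top_le_iff, ← hS i, Submodule.span_le]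
      intro s hs
      rw [hT i s]
      refine Submodule.sum_mem _ fun p hp => ?_
      have hpW : p.2 ∈ N' := by
        apply Submodule.subset_span
        simp only [W, Finset.coe_biUnion, Finset.coe_image, Set.mem_iUnion, Set.mem_image,
          Finset.mem_coe, Finset.mem_univ, exists_prop, true_and]
        exact ⟨i, s, hs, p, hp, rfl⟩
      exact ⟨p.1 ⊗ₜ[A] ⟨p.2, hpW⟩, by simp⟩
    intro z
    have hz : z ∈ LinearMap.range (N'.subtype.baseChange (B i)) := by rw [hr]; trivial
    obtain ⟨w, hw⟩ := hz
    exact ⟨w, hw⟩
  exact Module.Finite.of_surjective N'.subtype hsurj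

theorem IsFFFamily.flat_of_flat (h : IsFFFamily A B) (N : Type u) [AddCommGroup N] [Module A N]
    (hN : ∀ i, Module.Flat (B i) (B i ⊗[A] N)) : Module.Flat A N := by
  classical
  cases nonempty_fintype ι
  haveI := h.faithfullyFlat_pi
  haveI := h.flat
  haveI : ∀ i, Module.Flat A (B i ⊗[A] N) := fun i => Module.Flat.trans A (B i) (B i ⊗[A] N)
  haveI : Module.Flat A ((Π i, B i) ⊗[A] N) := by
    have e := TensorProduct.piLeft A N B
    haveI : Module.Flat A (Π i, B i ⊗[A] N) :=
      Module.Flat.of_linearEquiv (DFinsupp.linearEquivFunOnFintype (R := A)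
        (M := fun i => B i ⊗[A] N)).symm
    exact Module.Flat.of_linearEquiv e
  -- descent
  rw [Module.Flat.iff_lTensor_preserves_injective_linearMap]
  intro P' P _ _ _ _ u hu
  -- (T ⊗ N) ⊗ P' → (T ⊗ N) ⊗ P injective
  have h0 : Function.Injective (u.lTensor ((Π i, B i) ⊗[A] N)) :=
    Module.Flat.lTensor_preserves_injective_linearMap u hu
  have h1 : Function.Injective ((u.lTensor N).lTensor (Π i, B i)) := by
    intro w w' hww'
    have k : ∀ (z : ((Π i, B i) ⊗[A] N) ⊗[A] P'),
        (TensorProduct.assoc A (Π i, B i) N P) (u.lTensor ((Π i, B i) ⊗[A] N) z) =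
          ((u.lTensor N).lTensor (Π i, B i)) (TensorProduct.assoc A (Π i, B i) N P' z) := by
      intro z
      induction z using TensorProduct.induction_on with
      | zero => simp
      | add a b ha hb => simp only [map_add, ha, hb]
      | tmul y p =>
        induction y using TensorProduct.induction_on with
        | zero => simp
        | add a b ha hb => simp only [add_tmul, map_add, ha, hb]
        | tmul c n => simp
    obtain ⟨z, rfl⟩ := (TensorProduct.assoc A (Π i, B i) N P').surjective w
    obtain ⟨z', rfl⟩ := (TensorProduct.assoc A (Π i, B i) N P').surjective w'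
    rw [← k, ← k] at hww'
    rw [h0 ((TensorProduct.assoc A (Π i, B i) N P).injective hww')]
  exact (Module.FaithfullyFlat.lTensor_injective_iff_injective A (Π i, B i) (u.lTensor N)).1 h1

theorem IsFFFamily.finitePresentation (h : IsFFFamily A B) (N : Type u) [AddCommGroup N]
    [Module A N] (hN : ∀ i, Module.FinitePresentation (B i) (B i ⊗[A] N)) :
    Module.FinitePresentation A N := by
  haveI : Module.Finite A N := h.finite N fun i => inferInstance
  obtain ⟨n, π, hπ⟩ := Module.Finite.exists_fin' A N
  haveI := h.flat
  have hK : Module.Finite A (LinearMap.ker π) := by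
    refine h.finite _ fun i => ?_
    have e := LinearMap.tensorKerEquiv (B i) (B i) π
    have hs : Function.Surjective (AlgebraTensorModule.lTensor (B i) (B i) π) := by
      rw [AlgebraTensorModule.coe_lTensor]
      exact LinearMap.lTensor_surjective (B i) hπ
    have hfg := Module.FinitePresentation.fg_ker (AlgebraTensorModule.lTensor (B i) (B i) π) hs
    haveI : Module.Finite (B i) (LinearMap.ker (AlgebraTensorModule.lTensor (B i) (B i) π)) :=
      Module.Finite.iff_fg.2 hfg
    exact Module.Finite.equiv e.symm
  exact Module.finitePresentation_of_surjective π hπ (Module.Finite.iff_fg.1 hK)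

end family

end Groth.Agent.Lead.PB
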