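import Mathlib
import Groth.Agent.Lib.Helper1.TildeBC
import Groth.Agent.Lib.Lead.PB2
set_option autoImplicit false
open CategoryTheory AlgebraicGeometry
universe u
set_option backward.isDefEq.respectTransparency.types false
namespace Groth.Agent.Lead.PB

open Scheme.Modules TensorProduct

variable {X' X : Scheme.{u}} (f : X' ⟶ X) (M : X.Modules) {U : X.Opens} {U' : X'.Opens}
  (hU : IsAffineOpen U) (hU' : IsAffineOpen U') (hUU' : U' ≤ f ⁻¹ᵁ U)

/-- restriction of a pullback to an affine chart, as a pullback between spectra -/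
noncomputable def restrictPullbackIso :
    ((pullback f).obj M).restrict hU'.fromSpec ≅
      (pullback (Spec.map (f.appLE U U' hUU'))).obj (M.restrict hU.fromSpec) :=
  (restrictFunctorIsoPullback hU'.fromSpec).app _ ≪≫
    (pullbackComp hU'.fromSpec f).app M ≪≫
    (pullbackCongr (hU.SpecMap_appLE_fromSpec f hU' hUU').symm).app M ≪≫
    ((pullbackComp (Spec.map (f.appLE U U' hUU')) hU.fromSpec).app M).symm ≪≫
    (pullback (Spec.map (f.appLE U U' hUU'))).mapIso
      ((restrictFunctorIsoPullback hU.fromSpec).app M).symm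

/-- sections of a pullback of a quasi-coherent module over an affine chart -/
noncomputable def sectionsPullbackIso [M.IsQuasicoherent] :
    moduleSpecΓFunctor.obj (((pullback f).obj M).restrict hU'.fromSpec) ≅
      (ModuleCat.extendScalars (f.appLE U U' hUU').hom).obj
        (moduleSpecΓFunctor.obj (M.restrict hU.fromSpec)) :=
  moduleSpecΓFunctor.mapIso (restrictPullbackIso f M hU hU' hUU' ≪≫
    (pullback (Spec.map (f.appLE U U' hUU'))).mapIso
      (asIso (M.restrict hU.fromSpec).fromTildeΓ).symm ≪≫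
    (Groth.Agent.Helper1.TildeBC.pullbackTildeIso (f.appLE U U' hUU')).app _) ≪≫
  (tilde.toTildeΓNatIso.app _).symm

/-- sections of a pullback of a quasi-coherent module over an affine chart, as a tensor product -/
noncomputable def sectionsPullbackEquiv [M.IsQuasicoherent] :
    letI : Algebra Γ(X, U) Γ(X', U') := (f.appLE U U' hUU').hom.toAlgebra
    Γ(((pullback f).obj M).restrict hU'.fromSpec, ⊤) ≃ₗ[Γ(X', U')]
      Γ(X', U') ⊗[Γ(X, U)] Γ(M.restrict hU.fromSpec, ⊤) :=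
  letI : Algebra Γ(X, U) Γ(X', U') := (f.appLE U U' hUU').hom.toAlgebra
  (sectionsPullbackIso f M hU hU' hUU').toLinearEquiv ≪≫ₗ
    Groth.Agent.Helper8.extScalEquiv (R := Γ(X, U)) (S := Γ(X', U'))
      (moduleSpecΓFunctor.obj (M.restrict hU.fromSpec))

theorem exists_cover [QuasiCompact f] {V : X.Opens} (hV : IsAffineOpen V) :
    ∃ I : Set X'.affineOpens, I.Finite ∧ f ⁻¹ᵁ V = ⨆ i ∈ I, (i : X'.Opens) :=
  isCompact_iff_finite_and_eq_biUnion_affineOpens.mp (f.isCompact_preimage hV.isCompact)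

theorem isFFFamily_of_cover [Flat f] [Surjective f] {V : X.Opens} (hV : IsAffineOpen V)
    (I : Set X'.affineOpens) [Finite I] (hle : ∀ i : I, i.1.1 ≤ f ⁻¹ᵁ V)
    (hcov : f ⁻¹ᵁ V ≤ ⨆ i ∈ I, (i : X'.Opens)) :
    letI : ∀ i : I, Algebra Γ(X, V) Γ(X', i.1.1) :=
      fun i => (f.appLE V i.1.1 (hle i)).hom.toAlgebra
    IsFFFamily Γ(X, V) (fun i : I => Γ(X', i.1.1)) := by
  letI : ∀ i : I, Algebra Γ(X, V) Γ(X', i.1.1) :=
    fun i => (f.appLE V i.1.1 (hle i)).hom.toAlgebra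
  refine ⟨fun i => f.flat_appLE hV i.1.2 (hle i), fun p => ?_⟩
  obtain ⟨x', hx'⟩ := f.surjective (hV.fromSpec p)
  have hx'V : x' ∈ f ⁻¹ᵁ V := by
    show f x' ∈ V
    rw [hx']
    have : hV.fromSpec p ∈ Set.range hV.fromSpec := ⟨p, rfl⟩
    rwa [hV.range_fromSpec] at this
  have h2 := hcov hx'V
  simp only [TopologicalSpace.Opens.mem_iSup] at h2
  obtain ⟨i, hiI, hxi⟩ := h2
  refine ⟨⟨i, hiI⟩, i.2.primeIdealOf ⟨x', hxi⟩, ?_⟩
  apply hV.fromSpec.isOpenEmbedding.injective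
  have h3 := hV.SpecMap_appLE_fromSpec f i.2 (hle ⟨i, hiI⟩)
  have h4 := congrArg (fun g => g (i.2.primeIdealOf ⟨x', hxi⟩)) h3
  simp only [Scheme.Hom.comp_apply] at h4
  rw [i.2.fromSpec_primeIdealOf ⟨x', hxi⟩] at h4
  rw [← hx']
  exact h4

section descent
variable [Flat f] [Surjective f] [QuasiCompact f] [M.IsQuasicoherent] {V : X.Opens}
  (hV : IsAffineOpen V)

include hV in
theorem finite_descent
    (h : ∀ (U' : X'.Opens) (hU' : IsAffineOpen U'), U' ≤ f ⁻¹ᵁ V →
      Module.Finite Γ(X', U') Γ(((pullback f).obj M).restrict hU'.fromSpec, ⊤)) :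
    Module.Finite Γ(X, V) Γ(M.restrict hV.fromSpec, ⊤) := by
  obtain ⟨I, hI, hcov⟩ := exists_cover f hV
  haveI := hI.to_subtype
  have hle : ∀ i : I, i.1.1 ≤ f ⁻¹ᵁ V := fun i => by
    rw [hcov]; exact le_iSup₂ (f := fun (i : X'.affineOpens) (_ : i ∈ I) => (i : X'.Opens)) i.1 i.2
  letI : ∀ i : I, Algebra Γ(X, V) Γ(X', i.1.1) :=
    fun i => (f.appLE V i.1.1 (hle i)).hom.toAlgebra
  have hFF := isFFFamily_of_cover f hV I hle hcov.le
  refine hFF.finite _ fun i => ?_
  haveI := h i.1.1 i.1.2 (hle i)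
  exact Module.Finite.equiv (sectionsPullbackEquiv f M hV i.1.2 (hle i))

include hV in
theorem finitePresentation_descent
    (h : ∀ (U' : X'.Opens) (hU' : IsAffineOpen U'), U' ≤ f ⁻¹ᵁ V →
      Module.FinitePresentation Γ(X', U') Γ(((pullback f).obj M).restrict hU'.fromSpec, ⊤)) :
    Module.FinitePresentation Γ(X, V) Γ(M.restrict hV.fromSpec, ⊤) := by
  obtain ⟨I, hI, hcov⟩ := exists_cover f hV
  haveI := hI.to_subtype
  have hle : ∀ i : I, i.1.1 ≤ f ⁻¹ᵁ V := fun i => by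
    rw [hcov]; exact le_iSup₂ (f := fun (i : X'.affineOpens) (_ : i ∈ I) => (i : X'.Opens)) i.1 i.2
  letI : ∀ i : I, Algebra Γ(X, V) Γ(X', i.1.1) :=
    fun i => (f.appLE V i.1.1 (hle i)).hom.toAlgebra
  have hFF := isFFFamily_of_cover f hV I hle hcov.le
  refine hFF.finitePresentation _ fun i => ?_
  haveI := h i.1.1 i.1.2 (hle i)
  exact Module.FinitePresentation.of_equiv (sectionsPullbackEquiv f M hV i.1.2 (hle i))

include hV in
theorem flat_descent
    (h : ∀ (U' : X'.Opens) (hU' : IsAffineOpen U'), U' ≤ f ⁻¹ᵁ V →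
      Module.Flat Γ(X', U') Γ(((pullback f).obj M).restrict hU'.fromSpec, ⊤)) :
    Module.Flat Γ(X, V) Γ(M.restrict hV.fromSpec, ⊤) := by
  obtain ⟨I, hI, hcov⟩ := exists_cover f hV
  haveI := hI.to_subtype
  have hle : ∀ i : I, i.1.1 ≤ f ⁻¹ᵁ V := fun i => by
    rw [hcov]; exact le_iSup₂ (f := fun (i : X'.affineOpens) (_ : i ∈ I) => (i : X'.Opens)) i.1 i.2
  letI : ∀ i : I, Algebra Γ(X, V) Γ(X', i.1.1) :=
    fun i => (f.appLE V i.1.1 (hle i)).hom.toAlgebra
  have hFF := isFFFamily_of_cover f hV I hle hcov.le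
  refine hFF.flat_of_flat _ fun i => ?_
  haveI := h i.1.1 i.1.2 (hle i)
  exact Module.Flat.of_linearEquiv (sectionsPullbackEquiv f M hV i.1.2 (hle i)).symm

end descent

end Groth.Agent.Lead.PB
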