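import Mathlib
import Groth.Prelude.Def_CohB1
import Groth.Agent.Lib.Lead.PB1
import Groth.Agent.Lib.Lead.FLF7
import Groth.Agent.Lib.Helper1.QCohLib
import Groth.Agent.Lib.Helper1.FtLocal

/-!
# Pullbacks of quasi-coherent modules are quasi-coherent; same for finite type (lead)
-/

set_option autoImplicit false
open CategoryTheory AlgebraicGeometry TopologicalSpace
universe u
set_option backward.isDefEq.respectTransparency.types false
namespace Groth.Agent.Lead.PB

open Scheme.Modules TensorProduct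

variable {X' X : Scheme.{u}} (f : X' ⟶ X) (M : X.Modules)

/-- every point of the source has an affine neighbourhood mapping into an affine open -/
theorem exists_affine_pair (x : X') : ∃ (U : X.Opens) (U' : X'.Opens), IsAffineOpen U ∧
    IsAffineOpen U' ∧ x ∈ U' ∧ U' ≤ f ⁻¹ᵁ U := by
  obtain ⟨_, ⟨U, hU, rfl⟩, hxU, -⟩ :=
    X.isBasis_affineOpens.exists_subset_of_mem_open (Set.mem_univ (f x)) isOpen_univ
  obtain ⟨_, ⟨U', hU', rfl⟩, hxU', hle⟩ :=
    X'.isBasis_affineOpens.exists_subset_of_mem_open (show x ∈ f ⁻¹ᵁ U from hxU) (f ⁻¹ᵁ U).2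
  exact ⟨U, U', hU, hU', hxU', hle⟩

/-- the chart of a pullback is a tilde -/
noncomputable def restrictPullbackTildeIso [M.IsQuasicoherent] {U : X.Opens} {U' : X'.Opens}
    (hU : IsAffineOpen U) (hU' : IsAffineOpen U') (hUU' : U' ≤ f ⁻¹ᵁ U) :
    ((pullback f).obj M).restrict hU'.fromSpec ≅
      tilde ((ModuleCat.extendScalars (f.appLE U U' hUU').hom).obj
        (moduleSpecΓFunctor.obj (M.restrict hU.fromSpec))) :=
  restrictPullbackIso f M hU hU' hUU' ≪≫
    (pullback (Spec.map (f.appLE U U' hUU'))).mapIso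
      (asIso (M.restrict hU.fromSpec).fromTildeΓ).symm ≪≫
    (Groth.Agent.Helper1.TildeBC.pullbackTildeIso (f.appLE U U' hUU')).app _

theorem isQuasicoherent_pullback [M.IsQuasicoherent] : ((pullback f).obj M).IsQuasicoherent := by
  choose U U' hU hU' hxU' hle using exists_affine_pair f
  refine Groth.Agent.Helper1.QCohLib.isQuasicoherent_of_affine_charts _ (fun x => Γ(X', U' x))
    (fun x => (hU' x).fromSpec) ?_ (fun x => ?_)
  · rw [eq_top_iff]
    intro x _
    exact Opens.mem_iSup.2 ⟨x, by rw [(hU' x).opensRange_fromSpec]; exact hxU' x⟩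
  · rw [isIso_fromTildeΓ_iff]
    exact ⟨_, ⟨(restrictPullbackTildeIso f M (hU x) (hU' x) (hle x)).symm⟩⟩

theorem isFT_pullback [M.IsQuasicoherent] (hft : CohB1.IsFT M) :
    CohB1.IsFT ((pullback f).obj M) := by
  haveI := isQuasicoherent_pullback f M
  choose U U' hU hU' hxU' hle using exists_affine_pair f
  refine Groth.Agent.Helper1.FtLocal.isFiniteType_of_affine_charts _ (fun x => Γ(X', U' x))
    (fun x => (hU' x).fromSpec) ?_ (fun x => ?_)
  · rw [eq_top_iff]
    intro x _
    exact Opens.mem_iSup.2 ⟨x, by rw [(hU' x).opensRange_fromSpec]; exact hxU' x⟩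
  · letI : Algebra Γ(X, U x) Γ(X', U' x) := (f.appLE (U x) (U' x) (hle x)).hom.toAlgebra
    haveI : Module.Finite Γ(X, U x) Γ(M.restrict (hU x).fromSpec, ⊤) :=
      Groth.Agent.Helper1.AffFin.finite_restrict M inferInstance hft (hU x).fromSpec
    exact Module.Finite.equiv (sectionsPullbackEquiv f M (hU x) (hU' x) (hle x)).symm

end Groth.Agent.Lead.PB
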