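import Mathlib
import Groth.Agent.Lib.Helper1.TildeBC
import Groth.Agent.Lib.Lead.CIU1
import Groth.Agent.Lib.Lead.PBQc

/-!
# The unit of pullback–pushforward along `Spec B ⟶ Spec A` for a surjection `A ⟶ B` is an
isomorphism on quasi-coherent modules killed by the kernel (lead)
-/

set_option autoImplicit false
universe u
open CategoryTheory AlgebraicGeometry TopologicalSpace
set_option backward.isDefEq.respectTransparency.types false

namespace Groth.Agent.Lead.CIU

open Scheme.Modules TensorProduct ChangeOfRings

section Algebra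

variable {R S : Type u} [CommRing R] [CommRing S] (f : R →+* S)

theorem smul_eq_of_map_eq (M : ModuleCat.{u} R)
    (hk : ∀ a ∈ RingHom.ker f, ∀ m : M, a • m = 0) {a b : R} (h : f a = f b) (m : M) :
    a • m = b • m := by
  have : (a - b) • m = 0 := hk _ (by rw [RingHom.mem_ker, map_sub, h, sub_self]) m
  rw [sub_smul] at this
  exact sub_eq_zero.1 this

/-- the backward map `S ⊗ M → M`, `s ⊗ m ↦ r • m` for any lift `r` of `s` -/
noncomputable def extBack (hf : Function.Surjective f) (M : ModuleCat.{u} R)
    (hk : ∀ a ∈ RingHom.ker f, ∀ m : M, a • m = 0) :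
    ((ModuleCat.extendScalars f).obj M) →+ M :=
  @TensorProduct.liftAddHom R _ S M M _ _ _ (Module.compHom S f) _
    (AddMonoidHom.mk' (fun s => AddMonoidHom.mk' (fun m => (Classical.choose (hf s)) • m)
        (by intro a b; exact smul_add _ _ _))
      (by
        intro a b; ext m
        show (Classical.choose (hf (a + b))) • m =
          (Classical.choose (hf a)) • m + (Classical.choose (hf b)) • m
        rw [← add_smul]
        refine smul_eq_of_map_eq f M hk ?_ m
        rw [map_add, Classical.choose_spec (hf (a + b)), Classical.choose_spec (hf a),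
          Classical.choose_spec (hf b)]))
    (by
      intro r s m
      show (Classical.choose (hf (f r * s))) • m = (Classical.choose (hf s)) • (r • m)
      rw [smul_smul]
      refine smul_eq_of_map_eq f M hk ?_ m
      rw [map_mul, Classical.choose_spec (hf (f r * s)), Classical.choose_spec (hf s), mul_comm])

theorem extBack_tmul (hf : Function.Surjective f) (M : ModuleCat.{u} R)
    (hk : ∀ a ∈ RingHom.ker f, ∀ m : M, a • m = 0) (s : S) (m : M) :
    extBack f hf M hk (s ⊗ₜ[R,f] m) = (Classical.choose (hf s)) • m := rfl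

/-- `m ↦ 1 ⊗ m` is bijective when `R → S` is surjective and its kernel kills `M` -/
theorem unit_extendScalars_bijective (hf : Function.Surjective f) (M : ModuleCat.{u} R)
    (hk : ∀ a ∈ RingHom.ker f, ∀ m : M, a • m = 0) :
    Function.Bijective ((ModuleCat.extendRestrictScalarsAdj f).unit.app M) := by
  constructor
  · intro m m' h
    have h1 : ∀ m : M, extBack f hf M hk ((ModuleCat.extendRestrictScalarsAdj f).unit.app M m) = m := by
      intro m
      have e1 : extBack f hf M hk ((ModuleCat.extendRestrictScalarsAdj f).unit.app M m) =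
          (Classical.choose (hf 1)) • m := rfl
      rw [e1]
      have e2 : (Classical.choose (hf 1)) • m = (1 : R) • m := by
        refine smul_eq_of_map_eq f M hk ?_ m
        rw [Classical.choose_spec (hf 1), map_one]
      rw [e2, one_smul]
    rw [← h1 m, ← h1 m']
    exact congrArg _ h
  · intro z
    induction z using TensorProduct.induction_on with
    | zero => exact ⟨0, map_zero _⟩
    | tmul s m =>
      obtain ⟨r, rfl⟩ := hf s
      refine ⟨r • m, ?_⟩
      rw [ModuleCat.extendRestrictScalarsAdj_unit_app_apply]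
      letI mS : Module R S := Module.compHom S f
      have h1 : (r • (1 : S)) ⊗ₜ[R] (m : M) = (1 : S) ⊗ₜ[R] (r • m) := smul_tmul r (1 : S) m
      have h2 : r • (1 : S) = f r := by
        show f r * 1 = f r
        rw [mul_one]
      rw [h2] at h1
      exact h1.symm
    | add a b ha hb =>
      obtain ⟨x, hx⟩ := ha
      obtain ⟨y, hy⟩ := hb
      exact ⟨x + y, by rw [map_add, hx, hy]; rfl⟩

end Algebra

section Affine

open Groth.Agent.Helper1.TildeBC

variable {A B : CommRingCat.{u}} (ψ : A ⟶ B)

theorem ofNatIsoRight_unit_app {C D : Type*} [Category C] [Category D] {F : C ⥤ D} {G H : D ⥤ C}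
    (adj : F ⊣ G) (iso : G ≅ H) (X : C) :
    (adj.ofNatIsoRight iso).unit.app X = adj.unit.app X ≫ iso.hom.app (F.obj X) := by
  have h := Adjunction.homEquiv_ofNatIsoRight_apply adj iso (𝟙 (F.obj X))
  rw [Adjunction.homEquiv_id, Adjunction.homEquiv_id] at h
  exact h

/-- global sections of the unit at `tilde M` -/
theorem isIso_Γ_unit_tilde (M : ModuleCat.{u} A)
    (hb : Function.Bijective ((ModuleCat.extendRestrictScalarsAdj ψ.hom).unit.app M)) :
    IsIso (moduleSpecΓFunctor.map
      ((pullbackPushforwardAdjunction (Spec.map ψ)).unit.app ((tilde.functor A).obj M))) := by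
  let adj1 := (tilde.adjunction (R := A)).comp (pullbackPushforwardAdjunction (Spec.map ψ))
  let adj2 := (ModuleCat.extendRestrictScalarsAdj ψ.hom).comp (tilde.adjunction (R := B))
  let adj2' := adj2.ofNatIsoRight (gammaPushforwardIso ψ).symm
  have h := Adjunction.unit_leftAdjointUniq_hom_app adj1 adj2' M
  have h1 : adj1.unit.app M = tilde.adjunction.unit.app M ≫ moduleSpecΓFunctor.map
      ((pullbackPushforwardAdjunction (Spec.map ψ)).unit.app ((tilde.functor A).obj M)) :=
    Adjunction.comp_unit_app _ _ _
  have h2 : adj2'.unit.app M = adj2.unit.app M ≫ (gammaPushforwardIso ψ).symm.hom.app _ :=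
    ofNatIsoRight_unit_app _ _ _
  have h3 : adj2.unit.app M = (ModuleCat.extendRestrictScalarsAdj ψ.hom).unit.app M ≫
      (ModuleCat.restrictScalars ψ.hom).map (tilde.adjunction.unit.app _) :=
    Adjunction.comp_unit_app _ _ _
  haveI : IsIso ((ModuleCat.extendRestrictScalarsAdj ψ.hom).unit.app M) :=
    (ConcreteCategory.isIso_iff_bijective _).2 hb
  haveI hu : ∀ N : ModuleCat.{u} B, IsIso ((tilde.adjunction (R := B)).unit.app N) := fun N =>
    NatIso.isIso_app_of_isIso _ N
  haveI : IsIso ((ModuleCat.restrictScalars ψ.hom).map ((tilde.adjunction (R := B)).unit.app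
      ((ModuleCat.extendScalars ψ.hom).obj M))) :=
    haveI := hu ((ModuleCat.extendScalars ψ.hom).obj M)
    Functor.map_isIso (ModuleCat.restrictScalars ψ.hom) _
  haveI : IsIso (adj2.unit.app M) := by rw [h3]; exact IsIso.comp_isIso' inferInstance this
  haveI : IsIso (adj2'.unit.app M) := by rw [h2]; infer_instance
  haveI : IsIso (adj1.unit.app M ≫
      (Scheme.Modules.pushforward (Spec.map ψ) ⋙ moduleSpecΓFunctor).map
        ((adj1.leftAdjointUniq adj2').hom.app M)) := by rw [h]; infer_instance
  haveI : IsIso (adj1.unit.app M) := IsIso.of_isIso_comp_right _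
    ((Scheme.Modules.pushforward (Spec.map ψ) ⋙ moduleSpecΓFunctor).map
        ((adj1.leftAdjointUniq adj2').hom.app M))
  rw [h1] at this
  exact IsIso.of_isIso_comp_left (tilde.adjunction.unit.app M) _

/-- an isomorphism on global sections between quasi-coherent modules is an isomorphism -/
theorem isIso_unit_of_isIso_Γ (G : (Spec A).Modules) [G.IsQuasicoherent]
    (h : IsIso (moduleSpecΓFunctor.map
      ((pullbackPushforwardAdjunction (Spec.map ψ)).unit.app G))) :
    IsIso ((pullbackPushforwardAdjunction (Spec.map ψ)).unit.app G) := by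
  haveI : ((pullback (Spec.map ψ)).obj G).IsQuasicoherent :=
    Groth.Agent.Lead.PB.isQuasicoherent_pullback _ _
  haveI : IsIso ((pullback (Spec.map ψ)).obj G).fromTildeΓ := inferInstance
  haveI h2 : IsIso ((pushforward (Spec.map ψ)).obj ((pullback (Spec.map ψ)).obj G)).fromTildeΓ :=
    isIso_fromTildeΓ_pushforward ψ _
  haveI h1 : IsIso G.fromTildeΓ := inferInstance
  have hn := (tilde.adjunction (R := A)).counit.naturality
    ((pullbackPushforwardAdjunction (Spec.map ψ)).unit.app G)
  haveI h3 : IsIso ((moduleSpecΓFunctor ⋙ tilde.functor A).map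
      ((pullbackPushforwardAdjunction (Spec.map ψ)).unit.app G)) := by
    rw [Functor.comp_map]; infer_instance
  haveI h4 : IsIso ((tilde.adjunction (R := A)).counit.app G) := h1
  haveI h5 : IsIso ((tilde.adjunction (R := A)).counit.app
      ((pushforward (Spec.map ψ)).obj ((pullback (Spec.map ψ)).obj G))) := h2
  have h6 : IsIso ((tilde.adjunction (R := A)).counit.app G ≫
      ((pullbackPushforwardAdjunction (Spec.map ψ)).unit.app G)) := by
    have h7 : IsIso ((moduleSpecΓFunctor ⋙ tilde.functor A).map
        ((pullbackPushforwardAdjunction (Spec.map ψ)).unit.app G) ≫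
      (tilde.adjunction (R := A)).counit.app
        ((pullback (Spec.map ψ) ⋙ pushforward (Spec.map ψ)).obj G)) :=
      IsIso.comp_isIso' h3 h5
    rw [hn] at h7
    exact h7
  exact @IsIso.of_isIso_comp_left _ _ _ _ _ ((tilde.adjunction (R := A)).counit.app G)
    ((pullbackPushforwardAdjunction (Spec.map ψ)).unit.app G) h4 h6

/-- affine case of the closed-immersion unit theorem -/
theorem isIso_unit_of_killed (hψ : Function.Surjective ψ.hom) (G : (Spec A).Modules)
    [G.IsQuasicoherent]
    (hk : ∀ a ∈ RingHom.ker ψ.hom, ∀ m : (moduleSpecΓFunctor.obj G : ModuleCat.{u} A),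
      a • m = 0) :
    IsIso ((pullbackPushforwardAdjunction (Spec.map ψ)).unit.app G) := by
  haveI h1 : IsIso G.fromTildeΓ := inferInstance
  have e : (tilde.functor A).obj (moduleSpecΓFunctor.obj G) ≅ G := @asIso _ _ _ _ G.fromTildeΓ h1
  rw [← NatTrans.isIso_app_iff_of_iso _ e]
  haveI : ((tilde.functor A).obj (moduleSpecΓFunctor.obj G)).IsQuasicoherent := inferInstance
  apply isIso_unit_of_isIso_Γ
  exact isIso_Γ_unit_tilde ψ _ (unit_extendScalars_bijective ψ.hom hψ _ hk)

end Affine

end Groth.Agent.Lead.CIU
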