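import Mathlib
import Groth.Agent.Lib.Lead.CIU2
import Groth.Agent.Lib.Lead.FLF7
import Groth.Agent.Lib.Helper1.PF7

/-!
# The unit `F ⟶ i_* i^* F` of a closed immersion is an isomorphism on quasi-coherent modules
killed by the ideal of the closed immersion (lead)
-/

set_option autoImplicit false
universe u
open CategoryTheory AlgebraicGeometry TopologicalSpace
set_option backward.isDefEq.respectTransparency.types false

namespace Groth.Agent.Lead.CIU

open Scheme.Modules

variable {Z X : Scheme.{u}} (i : Z ⟶ X) [IsClosedImmersion i] (F : X.Modules) [F.IsQuasicoherent]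

/-- the global sections of the pullback to an affine chart are killed by what kills the sections -/
theorem killed_pullback_chart {U : X.Opens} (hU : IsAffineOpen U) (a : Γ(X, U))
    (ha : ∀ m : Γ(F, U), a • m = 0)
    (m : (moduleSpecΓFunctor.obj ((pullback hU.fromSpec).obj F) : ModuleCat.{u} Γ(X, U))) :
    a • m = 0 := by
  let e1 : (pullback hU.fromSpec).obj F ≅ F.restrict hU.fromSpec :=
    ((restrictFunctorIsoPullback hU.fromSpec).app F).symm
  let e2 := (moduleSpecΓFunctor (R := Γ(X, U))).mapIso e1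
  let e3 := e2.toLinearEquiv
  have h1 : e3 (a • m) = a • e3 m := map_smul e3 a m
  have h2 : a • e3 m = 0 := by
    have h3 := ha (Groth.Agent.Lead.FLF.sectionsLinearEquiv hU F (e3 m))
    have h4 : Groth.Agent.Lead.FLF.sectionsLinearEquiv hU F (a • e3 m) =
        a • Groth.Agent.Lead.FLF.sectionsLinearEquiv hU F (e3 m) :=
      LinearEquiv.map_smul _ a (e3 m)
    rw [h3] at h4
    exact (Groth.Agent.Lead.FLF.sectionsLinearEquiv hU F).injective
      (h4.trans (LinearEquiv.map_zero _).symm)
  rw [h2] at h1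
  exact e3.injective (by rw [h1, map_zero])

theorem unit_app_bijective_of_affine {U : X.Opens} (hU : IsAffineOpen U)
    (hk : ∀ a ∈ RingHom.ker (i.app U).hom, ∀ m : Γ(F, U), a • m = 0) :
    Function.Bijective (((pullbackPushforwardAdjunction i).unit.app F).app U) := by
  have hV : IsAffineOpen (i ⁻¹ᵁ U) := hU.preimage i
  have comm : hV.fromSpec ≫ i = Spec.map (i.appLE U (i ⁻¹ᵁ U) le_rfl) ≫ hU.fromSpec :=
    (IsAffineOpen.SpecMap_appLE_fromSpec i hU hV le_rfl).symm
  rw [bijective_unit_iff_baseChange i hU.fromSpec hV.fromSpec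
    (Spec.map (i.appLE U (i ⁻¹ᵁ U) le_rfl)) comm F U (by rw [hU.opensRange_fromSpec])
    (by rw [hV.opensRange_fromSpec])]
  haveI : ((pullback hU.fromSpec).obj F).IsQuasicoherent :=
    Groth.Agent.Lead.PB.isQuasicoherent_pullback _ _
  haveI h1 : IsIso ((pullbackPushforwardAdjunction
      (Spec.map (i.appLE U (i ⁻¹ᵁ U) le_rfl))).unit.app ((pullback hU.fromSpec).obj F)) := by
    apply isIso_unit_of_killed
    · rw [← Scheme.Hom.app_eq_appLE]
      exact i.app_surjective U hU
    · intro a ha m
      rw [← Scheme.Hom.app_eq_appLE] at ha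
      exact killed_pullback_chart F hU a (hk a ha) m
  haveI h2 : IsIso (((pullbackPushforwardAdjunction
      (Spec.map (i.appLE U (i ⁻¹ᵁ U) le_rfl))).unit.app ((pullback hU.fromSpec).obj F)).app
        (hU.fromSpec ⁻¹ᵁ U)) := inferInstance
  exact (ConcreteCategory.isIso_iff_bijective _).1 h2

theorem hom_naturality_apply {M N : X.Modules} (φ : M ⟶ N) {U V : X.Opens} (h : V ≤ U)
    (t : Γ(M, U)) :
    φ.app V (M.presheaf.map (homOfLE h).op t) = N.presheaf.map (homOfLE h).op (φ.app U t) := by
  have := φ.mapPresheaf.naturality (homOfLE h).op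
  exact congrArg (fun f => f t) this

/-- the unit of a closed immersion at a quasi-coherent module killed by the kernel is an
isomorphism -/
theorem isIso_unit_of_killed_global
    (hk : ∀ (U : X.Opens), IsAffineOpen U → ∀ a ∈ RingHom.ker (i.app U).hom,
      ∀ m : Γ(F, U), a • m = 0) :
    IsIso ((pullbackPushforwardAdjunction i).unit.app F) := by
  refine Groth.Agent.Helper1.PF7.isIso_of_locally _ ?_ ?_
  · intro U t ht x hx
    obtain ⟨_, ⟨V, hV, rfl⟩, hxV, hVU⟩ :=
      X.isBasis_affineOpens.exists_subset_of_mem_open hx U.2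
    refine ⟨V, hVU, hxV, ?_⟩
    have hb := unit_app_bijective_of_affine i F hV (hk V hV)
    apply hb.1
    rw [hom_naturality_apply _ hVU t, ht, map_zero, map_zero]
  · intro U σ x hx
    obtain ⟨_, ⟨V, hV, rfl⟩, hxV, hVU⟩ :=
      X.isBasis_affineOpens.exists_subset_of_mem_open hx U.2
    refine ⟨V, hVU, hxV, ?_⟩
    have hb := unit_app_bijective_of_affine i F hV (hk V hV)
    exact hb.2 _

end Groth.Agent.Lead.CIU
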