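import Mathlib
import Groth.Agent.Lib.Lead.CIU3

/-!
# Converse: if the unit `G ⟶ i_* i^* G` is an isomorphism then the kernel of `i` kills `G` (lead)
-/

set_option autoImplicit false
universe u
open CategoryTheory AlgebraicGeometry TopologicalSpace
set_option backward.isDefEq.respectTransparency.types false

namespace Groth.Agent.Lead.CIU

open Scheme.Modules

theorem killed_of_isIso_unit {Z X : Scheme.{u}} (i : Z ⟶ X) (G : X.Modules)
    (h : IsIso ((pullbackPushforwardAdjunction i).unit.app G)) (U : X.Opens) (a : Γ(X, U))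
    (ha : (i.app U).hom a = 0) (s : Γ(G, U)) : a • s = 0 := by
  haveI : IsIso (((pullbackPushforwardAdjunction i).unit.app G).app U) := inferInstance
  have hb : Function.Bijective (((pullbackPushforwardAdjunction i).unit.app G).app U) :=
    (ConcreteCategory.isIso_iff_bijective _).1 this
  apply hb.1
  rw [map_zero, Hom.app_smul]
  have h1 : ∀ x : Γ((pushforward i).obj ((pullback i).obj G), U), a • x = 0 := by
    intro x
    show (show Γ((pullback i).obj G, i ⁻¹ᵁ U) from ((i.app U).hom a : Γ(Z, i ⁻¹ᵁ U)) •
      (show Γ((pullback i).obj G, i ⁻¹ᵁ U) from x)) = 0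
    rw [ha, zero_smul]
  exact h1 _

/-- characterisation of when the unit of a closed immersion is an isomorphism -/
theorem isIso_unit_iff {Z X : Scheme.{u}} (i : Z ⟶ X) [IsClosedImmersion i]
    (G : X.Modules) [G.IsQuasicoherent] :
    IsIso ((pullbackPushforwardAdjunction i).unit.app G) ↔
      ∀ (U : X.affineOpens) (a : Γ(X, U.1)), a ∈ i.ker.ideal U → ∀ s : Γ(G, U.1), a • s = 0 := by
  constructor
  · intro h U a ha s
    rw [Scheme.Hom.ker_apply, RingHom.mem_ker] at ha
    exact killed_of_isIso_unit i G h U.1 a ha s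
  · intro hk
    apply isIso_unit_of_killed_global
    intro U hU a ha m
    refine hk ⟨U, hU⟩ a ?_ m
    rw [Scheme.Hom.ker_apply]
    exact ha

end Groth.Agent.Lead.CIU
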