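import Mathlib
import Groth.Agent.Lib.Lead.CIU4

/-!
# The kernel of the unit `G ⟶ i_* i^* G` of a closed immersion on affine opens (lead)
-/

set_option autoImplicit false
universe u
open CategoryTheory AlgebraicGeometry TopologicalSpace
set_option backward.isDefEq.respectTransparency.types false

namespace Groth.Agent.Lead.CIU

open Scheme.Modules

section Comp

variable {A B C : Scheme.{u}} (f : A ⟶ B) (g : B ⟶ C)

theorem unit_eq_zero_iff_right (G : C.Modules) (O : C.Opens) (x : Γ(G, O)) :
    ((pullbackPushforwardAdjunction f).unit.app ((pullback g).obj G)).app (g ⁻¹ᵁ O)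
        (((pullbackPushforwardAdjunction g).unit.app G).app O x) = 0 ↔
      ((pullbackPushforwardAdjunction (f ≫ g)).unit.app G).app O x = 0 := by
  have h := unit_comp_app f g G O
  haveI : IsIso ((pullbackComp f g).inv.app G) := inferInstance
  haveI : IsIso (((pullbackComp f g).inv.app G).app ((f ≫ g) ⁻¹ᵁ O)) := inferInstance
  have hiso : Function.Bijective (((pullbackComp f g).inv.app G).app ((f ≫ g) ⁻¹ᵁ O)) :=
    (ConcreteCategory.isIso_iff_bijective _).1 this
  have h' : ((pullbackPushforwardAdjunction f).unit.app ((pullback g).obj G)).app (g ⁻¹ᵁ O)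
        (((pullbackPushforwardAdjunction g).unit.app G).app O x) =
      ((pullbackComp f g).inv.app G).app ((f ≫ g) ⁻¹ᵁ O)
        (((pullbackPushforwardAdjunction (f ≫ g)).unit.app G).app O x) :=
    congrArg (fun φ => φ x) h
  rw [h']
  constructor
  · intro h0
    apply hiso.1
    exact h0.trans (map_zero _).symm
  · intro h0
    rw [h0]
    exact map_zero _

theorem unit_eq_zero_iff_left (G : C.Modules) (O : C.Opens) (x : Γ(G, O))
    (hf : Function.Injective
      (((pullbackPushforwardAdjunction f).unit.app ((pullback g).obj G)).app (g ⁻¹ᵁ O))) :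
    ((pullbackPushforwardAdjunction g).unit.app G).app O x = 0 ↔
      ((pullbackPushforwardAdjunction (f ≫ g)).unit.app G).app O x = 0 := by
  rw [← unit_eq_zero_iff_right f g G O x]
  constructor
  · intro h0
    rw [h0]
    exact map_zero _
  · intro h0
    apply hf
    exact h0.trans (map_zero _).symm

end Comp

section BaseChange

theorem unit_eq_zero_congr {A C : Scheme.{u}} {h h' : A ⟶ C} (e : h = h') (G : C.Modules)
    (O : C.Opens) (x : Γ(G, O)) :
    ((pullbackPushforwardAdjunction h).unit.app G).app O x = 0 ↔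
      ((pullbackPushforwardAdjunction h').unit.app G).app O x = 0 := by
  subst e; rfl

variable {Z X V U : Scheme.{u}} (i : Z ⟶ X) (j : U ⟶ X) (j' : V ⟶ Z) (i' : V ⟶ U)
  [IsOpenImmersion j] [IsOpenImmersion j']

/-- base change of the kernel of the unit along open immersions, on sections -/
theorem unit_eq_zero_iff_baseChange (comm : j' ≫ i = i' ≫ j) (F : X.Modules) (O : X.Opens)
    (hO' : i ⁻¹ᵁ O ≤ j'.opensRange) (x : Γ(F, O)) :
    ((pullbackPushforwardAdjunction i).unit.app F).app O x = 0 ↔
      ((pullbackPushforwardAdjunction i').unit.app ((pullback j).obj F)).app (j ⁻¹ᵁ O)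
        (((pullbackPushforwardAdjunction j).unit.app F).app O x) = 0 := by
  rw [unit_eq_zero_iff_left j' i F O x (unit_app_bijective_of_le_range j' _ _ hO').1,
    unit_eq_zero_iff_right i' j F O x]
  exact unit_eq_zero_congr comm F O x

end BaseChange

section AffineKernel

variable {A B : CommRingCat.{u}} (ψ : A ⟶ B)

theorem injective_of_isIso_moduleCat {R : Type u} [CommRing R] {M N : ModuleCat.{u} R} (f : M ⟶ N)
    [IsIso f] : Function.Injective f :=
  ((ConcreteCategory.isIso_iff_bijective f).1 inferInstance).1

theorem surjective_of_isIso_moduleCat {R : Type u} [CommRing R] {M N : ModuleCat.{u} R}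
    (f : M ⟶ N) [IsIso f] : Function.Surjective f :=
  ((ConcreteCategory.isIso_iff_bijective f).1 inferInstance).2

/-- affine case: the kernel of the unit on global sections is contained in `I • Γ(G)` -/
theorem mem_smul_top_of_unit_eq_zero (hψ : Function.Surjective ψ.hom)
    (G : (Spec A).Modules) [G.IsQuasicoherent]
    (y : (moduleSpecΓFunctor.obj G : ModuleCat.{u} A))
    (hy : moduleSpecΓFunctor.map ((pullbackPushforwardAdjunction (Spec.map ψ)).unit.app G) y = 0) :
    y ∈ (RingHom.ker ψ.hom) •
      (⊤ : Submodule A (moduleSpecΓFunctor.obj G : ModuleCat.{u} A)) := by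
  let M : ModuleCat.{u} A := moduleSpecΓFunctor.obj G
  let N : Submodule A M := (RingHom.ker ψ.hom) • (⊤ : Submodule A M)
  show y ∈ N
  let P : ModuleCat.{u} A := ModuleCat.of A (M ⧸ N)
  let q0 : M ⟶ P := ModuleCat.ofHom (X := M) (Y := M ⧸ N) N.mkQ
  let Q : (Spec A).Modules := (tilde.functor A).obj P
  let adj := tilde.adjunction (R := A)
  haveI hc : IsIso (adj.counit.app G) := by
    have : IsIso G.fromTildeΓ := inferInstance
    exact this
  let q : G ⟶ Q := inv (adj.counit.app G) ≫ (tilde.functor A).map q0
  haveI huP : IsIso (adj.unit.app P) := NatIso.isIso_app_of_isIso _ P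
  haveI : Q.IsQuasicoherent := inferInstanceAs (tilde P).IsQuasicoherent
  -- `Q` is killed by the kernel
  have hk : ∀ a ∈ RingHom.ker ψ.hom, ∀ m : (moduleSpecΓFunctor.obj Q : ModuleCat.{u} A),
      a • m = 0 := by
    intro a ha m
    obtain ⟨p, rfl⟩ := surjective_of_isIso_moduleCat (adj.unit.app P) m
    obtain ⟨m', rfl⟩ := N.mkQ_surjective p
    have h0 : a • N.mkQ m' = 0 := by
      rw [← _root_.map_smul, Submodule.mkQ_apply, Submodule.Quotient.mk_eq_zero]
      exact Submodule.smul_mem_smul ha Submodule.mem_top
    have h1 : a • (adj.unit.app P) (N.mkQ m') = (adj.unit.app P) (a • N.mkQ m') :=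
      (_root_.map_smul (adj.unit.app P).hom a (N.mkQ m')).symm
    rw [h1, h0, map_zero]
  haveI hQ : IsIso ((pullbackPushforwardAdjunction (Spec.map ψ)).unit.app Q) :=
    isIso_unit_of_killed ψ hψ Q hk
  -- naturality of the unit
  have hnat := (pullbackPushforwardAdjunction (Spec.map ψ)).unit.naturality q
  have hnat' := congrArg (fun φ => (moduleSpecΓFunctor.map φ) y) hnat
  simp only [Functor.id_map, Functor.map_comp, ModuleCat.hom_comp,
    LinearMap.comp_apply] at hnat'
  haveI hΓQ : IsIso (moduleSpecΓFunctor.map
      ((pullbackPushforwardAdjunction (Spec.map ψ)).unit.app Q)) := Functor.map_isIso _ _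
  have h1 : (moduleSpecΓFunctor.map q) y = 0 := by
    apply injective_of_isIso_moduleCat (moduleSpecΓFunctor.map
      ((pullbackPushforwardAdjunction (Spec.map ψ)).unit.app Q))
    refine hnat'.trans ?_
    have hy' : (ModuleCat.Hom.hom (moduleSpecΓFunctor.map
        ((pullbackPushforwardAdjunction (Spec.map ψ)).unit.app G))) y = 0 := hy
    rw [hy', map_zero]
    exact (map_zero _).symm
  -- `Γ(q) = q0 ≫ unit_P`
  have h2 : moduleSpecΓFunctor.map q = q0 ≫ adj.unit.app P := by
    have ht := adj.right_triangle_components G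
    have hu := adj.unit.naturality q0
    haveI : IsIso (moduleSpecΓFunctor.map (adj.counit.app G)) := Functor.map_isIso _ _
    have h3 : adj.unit.app M = inv (moduleSpecΓFunctor.map (adj.counit.app G)) :=
      IsIso.eq_inv_of_inv_hom_id ht
    dsimp only [q]
    rw [Functor.map_comp, Functor.map_inv, ← h3]
    exact hu.symm
  rw [h2] at h1
  have h4 : q0 y = 0 := by
    apply injective_of_isIso_moduleCat (adj.unit.app P)
    refine Eq.trans ?_ (map_zero _).symm
    exact h1
  exact (Submodule.Quotient.mk_eq_zero N).1 h4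

end AffineKernel

end Groth.Agent.Lead.CIU
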