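import Mathlib
import Groth.Agent.Lib.Lead.CIU5
import Groth.Agent.Lib.Lead.FLF7

/-!
# The kernel of the unit `F ⟶ i_* i^* F` of a closed immersion on sections over affine opens is
`I(U) • F(U)` (lead)
-/

set_option autoImplicit false
universe u
open CategoryTheory AlgebraicGeometry TopologicalSpace
set_option backward.isDefEq.respectTransparency.types false

namespace Groth.Agent.Lead.CIU

open Scheme.Modules

variable {X : Scheme.{u}} (F : X.Modules)

/-- the chart equivalence `Γ(j^* F, ⊤) ≃ Γ(F, U)` for `j : Spec Γ(X, U) ⟶ X` -/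
noncomputable def chartEquiv {U : X.Opens} (hU : IsAffineOpen U) :
    (moduleSpecΓFunctor.obj ((pullback hU.fromSpec).obj F) : ModuleCat.{u} Γ(X, U)) ≃ₗ[Γ(X, U)]
      Γ(F, U) :=
  ((moduleSpecΓFunctor (R := Γ(X, U))).mapIso
    ((restrictFunctorIsoPullback hU.fromSpec).app F).symm).toLinearEquiv.trans
    (Groth.Agent.Lead.FLF.sectionsLinearEquiv hU F)

/-- the section of the pullback to the chart corresponding to a section over `U` -/
noncomputable def toChart {U : X.Opens} (hU : IsAffineOpen U) (x : Γ(F, U)) :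
    (moduleSpecΓFunctor.obj ((pullback hU.fromSpec).obj F) : ModuleCat.{u} Γ(X, U)) :=
  ((pullback hU.fromSpec).obj F).presheaf.map
    (homOfLE (show (⊤ : (Spec Γ(X, U)).Opens) ≤ hU.fromSpec ⁻¹ᵁ U by
      intro y _
      show hU.fromSpec y ∈ U
      have : hU.fromSpec y ∈ Set.range hU.fromSpec := ⟨y, rfl⟩
      rw [hU.range_fromSpec] at this
      exact this)).op
    (((pullbackPushforwardAdjunction hU.fromSpec).unit.app F).app U x)

theorem chartEquiv_toChart {U : X.Opens} (hU : IsAffineOpen U) (x : Γ(F, U)) :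
    chartEquiv F hU (toChart F hU x) = x := by
  have h := Adjunction.unit_leftAdjointUniq_hom_app (restrictAdjunction hU.fromSpec)
    (pullbackPushforwardAdjunction hU.fromSpec) F
  have h2 : ((pullbackPushforwardAdjunction hU.fromSpec).unit.app F).app U =
      ((restrictAdjunction hU.fromSpec).unit.app F).app U ≫
        ((pushforward hU.fromSpec).map ((restrictFunctorIsoPullback hU.fromSpec).hom.app F)).app U := by
    rw [← h]; rfl
  rw [restrictAdjunction_unit_app_app, pushforward_map_app] at h2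
  unfold toChart chartEquiv
  rw [h2, LinearEquiv.trans_apply]
  have hle : (⊤ : (Spec Γ(X, U)).Opens) ≤ hU.fromSpec ⁻¹ᵁ U := by
    intro y _
    show hU.fromSpec y ∈ U
    have : hU.fromSpec y ∈ Set.range hU.fromSpec := ⟨y, rfl⟩
    rw [hU.range_fromSpec] at this
    exact this
  -- step b: naturality of the inverse
  have hb := hom_naturality_apply ((restrictFunctorIsoPullback hU.fromSpec).inv.app F) hle
    (((restrictFunctorIsoPullback hU.fromSpec).hom.app F).app (hU.fromSpec ⁻¹ᵁ U)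
      (F.presheaf.map (homOfLE (show hU.fromSpec ''ᵁ (hU.fromSpec ⁻¹ᵁ U) ≤ U by
        rintro _ ⟨y, hy, rfl⟩; exact hy)).op x))
  -- step c: hom then inv
  have hc : ((restrictFunctorIsoPullback hU.fromSpec).inv.app F).app (hU.fromSpec ⁻¹ᵁ U)
      (((restrictFunctorIsoPullback hU.fromSpec).hom.app F).app (hU.fromSpec ⁻¹ᵁ U)
        (F.presheaf.map (homOfLE (show hU.fromSpec ''ᵁ (hU.fromSpec ⁻¹ᵁ U) ≤ U by
          rintro _ ⟨y, hy, rfl⟩; exact hy)).op x)) =
      F.presheaf.map (homOfLE (show hU.fromSpec ''ᵁ (hU.fromSpec ⁻¹ᵁ U) ≤ U by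
          rintro _ ⟨y, hy, rfl⟩; exact hy)).op x := by
    have := congrArg (fun φ => Hom.app φ (hU.fromSpec ⁻¹ᵁ U))
      ((restrictFunctorIsoPullback hU.fromSpec).hom_inv_id_app F)
    exact congrArg (fun φ => φ (F.presheaf.map (homOfLE (show hU.fromSpec ''ᵁ (hU.fromSpec ⁻¹ᵁ U) ≤ U by
          rintro _ ⟨y, hy, rfl⟩; exact hy)).op x)) this
  rw [hc] at hb
  refine Eq.trans (congrArg (Groth.Agent.Lead.FLF.sectionsLinearEquiv hU F) hb) ?_
  show F.presheaf.map (homOfLE (Groth.Agent.Helper1.QcLoc.image_top hU).ge).op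
    (F.presheaf.map (hU.fromSpec.opensFunctor.map (homOfLE hle)).op
      (F.presheaf.map (homOfLE (show hU.fromSpec ''ᵁ (hU.fromSpec ⁻¹ᵁ U) ≤ U by
          rintro _ ⟨y, hy, rfl⟩; exact hy)).op x)) = x
  rw [← ConcreteCategory.comp_apply, ← Functor.map_comp, ← ConcreteCategory.comp_apply,
    ← Functor.map_comp]
  have : ((homOfLE (show hU.fromSpec ''ᵁ (hU.fromSpec ⁻¹ᵁ U) ≤ U by
          rintro _ ⟨y, hy, rfl⟩; exact hy)).op ≫
      (hU.fromSpec.opensFunctor.map (homOfLE hle)).op ≫
        (homOfLE (Groth.Agent.Helper1.QcLoc.image_top hU).ge).op) = 𝟙 _ := Subsingleton.elim _ _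
  rw [this, CategoryTheory.Functor.map_id]
  rfl

/-- the kernel of the unit of a closed immersion on sections over an affine open -/
theorem mem_smul_top_of_unit_app_eq_zero {Z : Scheme.{u}} (i : Z ⟶ X) [IsClosedImmersion i]
    [F.IsQuasicoherent] {U : X.Opens} (hU : IsAffineOpen U) (x : Γ(F, U))
    (hx : ((pullbackPushforwardAdjunction i).unit.app F).app U x = 0) :
    x ∈ (RingHom.ker (i.app U).hom) • (⊤ : Submodule Γ(X, U) Γ(F, U)) := by
  have hV : IsAffineOpen (i ⁻¹ᵁ U) := hU.preimage i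
  have comm : hV.fromSpec ≫ i = Spec.map (i.appLE U (i ⁻¹ᵁ U) le_rfl) ≫ hU.fromSpec :=
    (IsAffineOpen.SpecMap_appLE_fromSpec i hU hV le_rfl).symm
  have h1 := (unit_eq_zero_iff_baseChange i hU.fromSpec hV.fromSpec
    (Spec.map (i.appLE U (i ⁻¹ᵁ U) le_rfl)) comm F U (by rw [hV.opensRange_fromSpec]) x).1 hx
  haveI : ((pullback hU.fromSpec).obj F).IsQuasicoherent :=
    Groth.Agent.Lead.PB.isQuasicoherent_pullback _ _
  have h2 : moduleSpecΓFunctor.map ((pullbackPushforwardAdjunction
      (Spec.map (i.appLE U (i ⁻¹ᵁ U) le_rfl))).unit.app ((pullback hU.fromSpec).obj F))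
      (toChart F hU x) = 0 := by
    show ((pullbackPushforwardAdjunction
      (Spec.map (i.appLE U (i ⁻¹ᵁ U) le_rfl))).unit.app ((pullback hU.fromSpec).obj F)).app ⊤
      (toChart F hU x) = 0
    unfold toChart
    refine Eq.trans (hom_naturality_apply _ _ _) ?_
    rw [h1]
    exact map_zero _
  have hsurj : Function.Surjective (i.appLE U (i ⁻¹ᵁ U) le_rfl).hom := by
    rw [← Scheme.Hom.app_eq_appLE]
    exact i.app_surjective U hU
  have h3 := mem_smul_top_of_unit_eq_zero (i.appLE U (i ⁻¹ᵁ U) le_rfl) hsurj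
    ((pullback hU.fromSpec).obj F) (toChart F hU x) h2
  have h4 := Submodule.mem_map_of_mem (f := (chartEquiv F hU).toLinearMap) h3
  rw [Submodule.map_smul'', Submodule.map_top, LinearEquiv.range] at h4
  have h5 : (chartEquiv F hU).toLinearMap (toChart F hU x) = x := chartEquiv_toChart F hU x
  rw [h5, ← Scheme.Hom.app_eq_appLE] at h4
  exact h4

end Groth.Agent.Lead.CIU
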