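import Mathlib
import Groth.Agent.Lib.Helper1.TensGen

/-!
# The sectionwise tensor product and its map to the tensor product of modules (lead)
-/

set_option autoImplicit false
universe u
open CategoryTheory CategoryTheory.Limits AlgebraicGeometry TopologicalSpace Opposite TensorProduct
  MonoidalCategory
set_option backward.isDefEq.respectTransparency.types false

namespace Groth.Agent.Lead.TilT

open Groth.Agent.Helper1.TmulLib Groth.Agent.Helper1.TensGen Groth.Agent.Helper1.QcCech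

variable {X : Scheme.{u}} (F G : X.Modules)

/-- the sections of the sectionwise tensor product are the tensor product of the sections -/
noncomputable def idEquiv (U : X.Opens) :
    (Γ(F, U) ⊗[Γ(X, U)] Γ(G, U)) ≃ₗ[Γ(X, U)] ((CohB1.tensorPre F G).obj (op U)) :=
  LinearEquiv.refl _ _

theorem idEquiv_tmul (U : X.Opens) (m : Γ(F, U)) (n : Γ(G, U)) :
    idEquiv F G U (m ⊗ₜ n) = pure F G U m n := rfl

/-- the canonical map from the tensor product of the sections to the sections of the tensor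
product -/
noncomputable def toTₗ (U : X.Opens) :
    (Γ(F, U) ⊗[Γ(X, U)] Γ(G, U)) →ₗ[Γ(X, U)] Γ(CohB1.tensorMod F G, U) :=
  ((SecTwist.toTensor F G).app (op U)).hom

theorem toTₗ_apply (U : X.Opens) (p : Γ(F, U) ⊗[Γ(X, U)] Γ(G, U)) :
    toTₗ F G U p = toT F G U (idEquiv F G U p) := rfl

theorem toTₗ_tmul (U : X.Opens) (m : Γ(F, U)) (n : Γ(G, U)) :
    toTₗ F G U (m ⊗ₜ n) = tm F G U m n := rfl

/-- restriction of tensors -/
noncomputable def resT {U V : X.Opens} (h : V ≤ U) (p : Γ(F, U) ⊗[Γ(X, U)] Γ(G, U)) :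
    Γ(F, V) ⊗[Γ(X, V)] Γ(G, V) :=
  (idEquiv F G V).symm (resP F G h (idEquiv F G U p))

theorem resT_tmul {U V : X.Opens} (h : V ≤ U) (m : Γ(F, U)) (n : Γ(G, U)) :
    resT F G h (m ⊗ₜ n) = (res F h m) ⊗ₜ (res G h n) := rfl

theorem resT_add {U V : X.Opens} (h : V ≤ U) (p q : Γ(F, U) ⊗[Γ(X, U)] Γ(G, U)) :
    resT F G h (p + q) = resT F G h p + resT F G h q := by
  exact map_add ((CohB1.tensorPre F G).map (homOfLE h).op).hom p q

theorem resT_zero {U V : X.Opens} (h : V ≤ U) :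
    resT F G h (0 : Γ(F, U) ⊗[Γ(X, U)] Γ(G, U)) = 0 := by
  exact map_zero ((CohB1.tensorPre F G).map (homOfLE h).op).hom

theorem resT_resT {U V W : X.Opens} (h : V ≤ U) (h' : W ≤ V)
    (p : Γ(F, U) ⊗[Γ(X, U)] Γ(G, U)) :
    resT F G h' (resT F G h p) = resT F G (h'.trans h) p := by
  induction p using TensorProduct.induction_on with
  | zero => rw [resT_zero, resT_zero, resT_zero]
  | tmul m n =>
    rw [resT_tmul, resT_tmul, resT_tmul, res_res, res_res]
  | add p q hp hq => rw [resT_add, resT_add, resT_add, hp, hq]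

theorem res_toTₗ {U V : X.Opens} (h : V ≤ U) (p : Γ(F, U) ⊗[Γ(X, U)] Γ(G, U)) :
    res (CohB1.tensorMod F G) h (toTₗ F G U p) = toTₗ F G V (resT F G h p) :=
  res_toT F G h (idEquiv F G U p)

theorem toTₗ_locally_injective (U : X.Opens) (p : Γ(F, U) ⊗[Γ(X, U)] Γ(G, U))
    (h : toTₗ F G U p = 0) :
    ∀ x ∈ U, ∃ (V : X.Opens) (hV : V ≤ U), x ∈ V ∧ resT F G hV p = 0 := by
  intro x hx
  have h' : toT F G U (idEquiv F G U p) = toT F G U (idEquiv F G U 0) := by
    rw [← toTₗ_apply, ← toTₗ_apply, h, map_zero]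
  obtain ⟨V, hV, hxV, e⟩ := toT_locally_injective F G U _ _ h' x hx
  refine ⟨V, hV, hxV, ?_⟩
  unfold resT
  rw [e]
  exact resT_zero F G hV

theorem toTₗ_locally_surjective (U : X.Opens) (t : Γ(CohB1.tensorMod F G, U)) :
    ∀ x ∈ U, ∃ (V : X.Opens) (hV : V ≤ U) (p : Γ(F, V) ⊗[Γ(X, V)] Γ(G, V)), x ∈ V ∧
      toTₗ F G V p = res (CohB1.tensorMod F G) hV t := by
  intro x hx
  obtain ⟨V, hV, p, hxV, e⟩ := toT_locally_surjective F G U t x hx
  exact ⟨V, hV, (idEquiv F G V).symm p, hxV, e⟩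

end Groth.Agent.Lead.TilT
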