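import Mathlib
import Groth.Agent.Lib.Lead.TilT1

/-!
# Localization of tensor products (lead)
-/

set_option autoImplicit false
universe u
open TensorProduct

namespace Groth.Agent.Lead.TilT

section Alg

variable {R : Type u} [CommRing R] (S : Submonoid R) (A : Type u) [CommRing A] [Algebra R A]
  [IsLocalization S A]
  {M N : Type u} [AddCommGroup M] [Module R M] [AddCommGroup N] [Module R N]
  {M' N' : Type u} [AddCommGroup M'] [Module R M'] [Module A M'] [IsScalarTower R A M']
  [AddCommGroup N'] [Module R N'] [Module A N'] [IsScalarTower R A N']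
  (f : M →ₗ[R] M') (h : N →ₗ[R] N')

/-- `m ⊗ n ↦ f m ⊗ h n`, the tensor product on the right being over the larger ring -/
noncomputable def tmap : M ⊗[R] N →ₗ[R] M' ⊗[A] N' :=
  (TensorProduct.mapOfCompatibleSMul A R R M' N').comp (TensorProduct.map f h)

theorem tmap_tmul (m : M) (n : N) : tmap A f h (m ⊗ₜ n) = f m ⊗ₜ[A] h n := rfl

include S in
theorem isLocalizedModule_tmap [IsLocalizedModule S f] [IsLocalizedModule S h] :
    IsLocalizedModule S (tmap A f h) := by
  haveI : TensorProduct.CompatibleSMul R A M' N' :=
    IsLocalization.tensorProduct_compatibleSMul S A M' N'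
  let e : M' ⊗[A] N' ≃ₗ[R] M' ⊗[R] N' := TensorProduct.equivOfCompatibleSMul R A R M' N'
  have h1 : tmap A f h = e.symm.toLinearMap.comp (TensorProduct.map f h) := rfl
  rw [h1]
  exact IsLocalizedModule.of_linearEquiv S (TensorProduct.map f h) e.symm

end Alg

end Groth.Agent.Lead.TilT
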