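import Mathlib
import Groth.Agent.Lib.Lead.TilT2
import Groth.Agent.Lib.Helper1.PF7
import Groth.Agent.Lib.Lead.CIU3

/-!
# The module associated to a tensor product (lead)
-/

set_option autoImplicit false
universe u
open CategoryTheory CategoryTheory.Limits AlgebraicGeometry TopologicalSpace Opposite TensorProduct
set_option backward.isDefEq.respectTransparency.types false

namespace Groth.Agent.Lead.TilT

open Groth.Agent.Helper1.TmulLib Groth.Agent.Helper1.TensGen Groth.Agent.Helper1.QcCech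
open Scheme.Modules

variable {R : CommRingCat.{u}} (M N : ModuleCat.{u} R)

/-- the map to the sections of the associated module, as a linear map -/
noncomputable def toOpenₗ (U : (Spec R).Opens) : M →ₗ[R] Γ(tilde M, U) :=
  (tilde.toOpen M U).hom

instance (f : R) : IsLocalizedModule (.powers f) (toOpenₗ M (PrimeSpectrum.basicOpen f)) :=
  inferInstanceAs (IsLocalizedModule.Away f (tilde.toOpen M (PrimeSpectrum.basicOpen f)).hom)

theorem res_toOpenₗ {U V : (Spec R).Opens} (h : V ≤ U) (m : M) :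
    res (tilde M) h (toOpenₗ M U m) = toOpenₗ M V m := rfl

/-- the map from `M ⊗ N` to the tensor product of the sections of the associated modules -/
noncomputable def ψ' (U : (Spec R).Opens) :
    (M ⊗[R] N) →ₗ[R] (Γ(tilde M, U) ⊗[Γ(Spec R, U)] Γ(tilde N, U)) :=
  tmap Γ(Spec R, U) (toOpenₗ M U) (toOpenₗ N U)

theorem ψ'_tmul (U : (Spec R).Opens) (m : M) (n : N) :
    ψ' M N U (m ⊗ₜ n) = toOpenₗ M U m ⊗ₜ toOpenₗ N U n := rfl

theorem isLocalizedModule_ψ' (f : R) :
    IsLocalizedModule (.powers f) (ψ' M N (PrimeSpectrum.basicOpen f)) :=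
  isLocalizedModule_tmap (.powers f) Γ(Spec R, PrimeSpectrum.basicOpen f) _ _

theorem resT_ψ' {U V : (Spec R).Opens} (h : V ≤ U) (w : M ⊗[R] N) :
    resT (tilde M) (tilde N) h (ψ' M N U w) = ψ' M N V w := by
  induction w using TensorProduct.induction_on with
  | zero => rw [map_zero, map_zero, resT_zero]
  | tmul m n =>
    rw [ψ'_tmul, ψ'_tmul, resT_tmul, res_toOpenₗ, res_toOpenₗ]
  | add p q hp hq => rw [map_add, map_add, resT_add, hp, hq]

/-- the map from `M ⊗ N` to the global sections of the tensor product of the associated modules -/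
noncomputable def ψtopₗ :
    (M ⊗[R] N) →ₗ[R] Γ(CohB1.tensorMod (tilde M) (tilde N), (⊤ : (Spec R).Opens)) :=
  ((toTₗ (tilde M) (tilde N) ⊤).restrictScalars R).comp (ψ' M N ⊤)

/-- the map from `M ⊗ N` to the global sections of the tensor product of the associated modules -/
noncomputable def ψtop : ModuleCat.of R (M ⊗[R] N) ⟶
    (modulesSpecToSheaf.obj (CohB1.tensorMod (tilde M) (tilde N))).presheaf.obj (op ⊤) :=
  (ModuleCat.ofHom (ψtopₗ M N) : ModuleCat.of R (M ⊗[R] N) ⟶
    ModuleCat.of R Γ(CohB1.tensorMod (tilde M) (tilde N), (⊤ : (Spec R).Opens)))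

/-- the comparison morphism from the module associated to `M ⊗ N` to the tensor product of the
associated modules -/
noncomputable def φ : tilde (ModuleCat.of R (M ⊗[R] N)) ⟶ CohB1.tensorMod (tilde M) (tilde N) :=
  tilde.map (ψtop M N) ≫ fromTildeΓ (CohB1.tensorMod (tilde M) (tilde N))

theorem φ_toOpen (U : (Spec R).Opens) (w : M ⊗[R] N) :
    (φ M N).app U (toOpenₗ (ModuleCat.of R (M ⊗[R] N)) U w) =
      toTₗ (tilde M) (tilde N) U (ψ' M N U w) := by
  have h1 := tilde.toOpen_map_app (ψtop M N) U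
  have h2 := toOpen_fromTildeΓ_app (CohB1.tensorMod (tilde M) (tilde N)) U
  have h3 : tilde.toOpen (ModuleCat.of R (M ⊗[R] N)) U ≫
      (modulesSpecToSheaf.map (φ M N)).1.app (op U) =
      ψtop M N ≫ (modulesSpecToSheaf.obj (CohB1.tensorMod (tilde M) (tilde N))).1.map
        (homOfLE le_top).op := by
    unfold φ
    rw [Functor.map_comp]
    change tilde.toOpen (ModuleCat.of R (M ⊗[R] N)) U ≫
      (modulesSpecToSheaf.map (tilde.map (ψtop M N))).1.app (op U) ≫
      (modulesSpecToSheaf.map (fromTildeΓ (CohB1.tensorMod (tilde M) (tilde N)))).1.app (op U) = _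
    rw [← Category.assoc, h1, Category.assoc, h2]
  have h4 := congrArg (fun χ => χ.hom w) h3
  have h5 : (φ M N).app U (toOpenₗ (ModuleCat.of R (M ⊗[R] N)) U w) =
      res (CohB1.tensorMod (tilde M) (tilde N)) (le_top : U ≤ ⊤)
        (toTₗ (tilde M) (tilde N) ⊤ (ψ' M N ⊤ w)) := h4
  rw [h5, res_toTₗ, resT_ψ']


section Lemmas

variable {F G : (Spec R).Modules}

theorem app_smul_R (χ : F ⟶ G) (U : (Spec R).Opens) (r : R) (t : Γ(F, U)) :
    χ.app U (r • t) = r • χ.app U t := by
  change χ.app U ((algebraMap R Γ(Spec R, U) r) • t) = (algebraMap R Γ(Spec R, U) r) • χ.app U t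
  rw [Scheme.Modules.Hom.app_smul]

theorem res_smul_R (F : (Spec R).Modules) {U V : (Spec R).Opens} (h : V ≤ U) (r : R)
    (t : Γ(F, U)) : res F h (r • t) = r • res F h t :=
  Scheme.Modules.map_smul_Spec (M := F) (homOfLE h).op r t

theorem regular_of_mem_powers (F : (Spec R).Modules) {U : (Spec R).Opens} {f : R}
    (hle : U ≤ PrimeSpectrum.basicOpen f) (s : Submonoid.powers f) (t : Γ(F, U))
    (h : s • t = 0) : t = 0 := by
  obtain ⟨s, k, rfl⟩ := s
  have hreg : IsSMulRegular Γ(F, U) (f ^ k) :=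
    (Scheme.Modules.isSMulRegular_of_le_basicOpen (M := F) hle).pow k
  apply hreg
  change (f ^ k) • t = (f ^ k) • 0
  rw [smul_zero]
  exact h

end Lemmas

section Main

theorem exists_basicOpen {U : (Spec R).Opens} {x : Spec R} (hx : x ∈ U) :
    ∃ f : R, x ∈ PrimeSpectrum.basicOpen f ∧ PrimeSpectrum.basicOpen f ≤ U := by
  obtain ⟨a, ⟨_, ⟨r, rfl⟩, rfl⟩, hxr, hrU⟩ :=
    PrimeSpectrum.isBasis_basic_opens.exists_subset_of_mem_open hx U.2
  exact ⟨r, hxr, hrU⟩

theorem toTₗ_smul_R (U : (Spec R).Opens) (r : R)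
    (p : Γ(tilde M, U) ⊗[Γ(Spec R, U)] Γ(tilde N, U)) :
    toTₗ (tilde M) (tilde N) U (r • p) = r • toTₗ (tilde M) (tilde N) U p := by
  have h1 : r • p = (algebraMap R Γ(Spec R, U) r) • p := (algebraMap_smul _ r p).symm
  rw [h1, LinearMap.map_smul]
  rfl

theorem isLoc_toOpenₗ (P : ModuleCat.{u} R) (f : R) :
    IsLocalizedModule (.powers f) (toOpenₗ P (PrimeSpectrum.basicOpen f)) := inferInstance

theorem isIso_φ : IsIso (φ M N) := by
  refine Groth.Agent.Helper1.PF7.isIso_of_locally _ ?_ ?_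
  · intro U t h0 x hx
    obtain ⟨f, hxf, hfU⟩ := exists_basicOpen hx
    let MN : ModuleCat.{u} R := ModuleCat.of R (M ⊗[R] N)
    let t' : Γ(tilde MN, PrimeSpectrum.basicOpen f) := res (tilde MN) hfU t
    haveI := isLoc_toOpenₗ MN f
    obtain ⟨⟨w, s⟩, hws⟩ := IsLocalizedModule.surj (.powers f)
      (toOpenₗ MN (PrimeSpectrum.basicOpen f)) t'
    have hws' : (s : R) • t' = toOpenₗ MN (PrimeSpectrum.basicOpen f) w := hws
    have h1 : (φ M N).app (PrimeSpectrum.basicOpen f) t' = 0 := by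
      have h := Groth.Agent.Lead.CIU.hom_naturality_apply (φ M N) hfU t
      refine h.trans ?_
      rw [h0, map_zero]
    have h2 : toTₗ (tilde M) (tilde N) (PrimeSpectrum.basicOpen f)
        (ψ' M N (PrimeSpectrum.basicOpen f) w) = 0 := by
      rw [← φ_toOpen, ← hws', app_smul_R, h1, smul_zero]
    obtain ⟨V, hV, hxV, hV0⟩ := toTₗ_locally_injective _ _ _ _ h2 x hxf
    rw [resT_ψ'] at hV0
    obtain ⟨g, hxg, hgV⟩ := exists_basicOpen hxV
    have h3 : ψ' M N (PrimeSpectrum.basicOpen g) w = 0 := by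
      rw [← resT_ψ' M N hgV w, hV0, resT_zero]
    haveI := isLocalizedModule_ψ' M N g
    obtain ⟨c, hc⟩ := IsLocalizedModule.exists_of_eq (S := .powers g)
      (f := ψ' M N (PrimeSpectrum.basicOpen g)) (x₁ := w) (x₂ := 0) (by rw [h3, map_zero])
    have hgf : PrimeSpectrum.basicOpen g ≤ PrimeSpectrum.basicOpen f := hgV.trans hV
    have h4 : toOpenₗ MN (PrimeSpectrum.basicOpen g) w = 0 := by
      apply regular_of_mem_powers (tilde MN) le_rfl c
      have hcw : (c : R) • w = 0 := by
        have : (c : R) • w = c • w := rfl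
        rw [this, hc, smul_zero]
      change (c : R) • toOpenₗ MN (PrimeSpectrum.basicOpen g) w = 0
      rw [← LinearMap.map_smul, hcw, map_zero]
    refine ⟨PrimeSpectrum.basicOpen g, hgf.trans hfU, hxg, ?_⟩
    have h5 : res (tilde MN) (hgf.trans hfU) t = res (tilde MN) hgf t' :=
      (res_res _ hfU hgf t).symm
    change res (tilde MN) (hgf.trans hfU) t = 0
    rw [h5]
    apply regular_of_mem_powers (tilde MN) hgf s
    change (s : R) • res (tilde MN) hgf t' = 0
    rw [← res_smul_R, hws', res_toOpenₗ, h4]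
  · intro U σ x hx
    obtain ⟨V₁, hV₁, p, hxV₁, hp⟩ := toTₗ_locally_surjective (tilde M) (tilde N) U σ x hx
    obtain ⟨g, hxg, hgV⟩ := exists_basicOpen hxV₁
    let MN : ModuleCat.{u} R := ModuleCat.of R (M ⊗[R] N)
    let p' := resT (tilde M) (tilde N) hgV p
    have hp'' : toTₗ (tilde M) (tilde N) (PrimeSpectrum.basicOpen g) p' =
        res (CohB1.tensorMod (tilde M) (tilde N)) (hgV.trans hV₁) σ := by
      change toTₗ (tilde M) (tilde N) (PrimeSpectrum.basicOpen g)
        (resT (tilde M) (tilde N) hgV p) = _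
      rw [← res_toTₗ, hp, res_res]
    haveI := isLocalizedModule_ψ' M N g
    obtain ⟨⟨w, s⟩, hws⟩ := IsLocalizedModule.surj (.powers g)
      (ψ' M N (PrimeSpectrum.basicOpen g)) p'
    have hws' : (s : R) • p' = ψ' M N (PrimeSpectrum.basicOpen g) w := hws
    haveI := isLoc_toOpenₗ MN g
    let t := IsLocalizedModule.mk' (toOpenₗ MN (PrimeSpectrum.basicOpen g)) w s
    have ht : (s : R) • t = toOpenₗ MN (PrimeSpectrum.basicOpen g) w := by
      have := IsLocalizedModule.mk'_cancel' (f := toOpenₗ MN (PrimeSpectrum.basicOpen g)) w s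
      exact this
    refine ⟨PrimeSpectrum.basicOpen g, hgV.trans hV₁, hxg, t, ?_⟩
    change (φ M N).app (PrimeSpectrum.basicOpen g) t =
      res (CohB1.tensorMod (tilde M) (tilde N)) (hgV.trans hV₁) σ
    rw [← hp'', ← sub_eq_zero]
    apply regular_of_mem_powers (CohB1.tensorMod (tilde M) (tilde N)) le_rfl s
    change (s : R) • ((φ M N).app (PrimeSpectrum.basicOpen g) t -
      toTₗ (tilde M) (tilde N) (PrimeSpectrum.basicOpen g) p') = 0
    rw [smul_sub, ← app_smul_R, ht, φ_toOpen, ← toTₗ_smul_R, hws', sub_self]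

end Main

end Groth.Agent.Lead.TilT
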