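import Mathlib
import Groth.Agent.Lib.Lead.TilT3

/-!
# Restriction to opens commutes with the tensor product of modules (lead)
-/

set_option autoImplicit false
universe u
open CategoryTheory CategoryTheory.Limits AlgebraicGeometry TopologicalSpace Opposite TensorProduct
  MonoidalCategory
set_option backward.isDefEq.respectTransparency.types false

namespace Groth.Agent.Lead.TilT

open Groth.Agent.Helper1.TmulLib Groth.Agent.Helper1.TensGen Groth.Agent.Helper1.QcCech
open Groth.Agent.Helper1

section Gen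
variable {Z : Scheme.{u}}

/-- pointwise criterion for the adjoint of a presheaf map to be an isomorphism -/
theorem isIso_of_locally_bijective (P : Z.PresheafOfModules) (L : Z.Modules)
    (μ : P ⟶ (SheafOfModules.forget Z.ringCatSheaf ⋙
      PresheafOfModules.restrictScalars (𝟙 Z.ringCatSheaf.obj)).obj L)
    (hinj : ∀ (U : Z.Opens) (x y : P.obj (op U)), μ.app (op U) x = μ.app (op U) y →
      ∀ q ∈ U, ∃ (V : Z.Opens) (hV : V ≤ U), q ∈ V ∧
        P.map (homOfLE hV).op x = P.map (homOfLE hV).op y)
    (hsurj : ∀ (U : Z.Opens) (s : Γ(L, U)), ∀ q ∈ U, ∃ (V : Z.Opens) (hV : V ≤ U)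
      (t : P.obj (op V)), q ∈ V ∧ μ.app (op V) t = L.presheaf.map (homOfLE hV).op s) :
    IsIso (((PresheafOfModules.sheafificationAdjunction
      (𝟙 Z.ringCatSheaf.obj)).homEquiv P L).symm μ) := by
  have hinj' : Presheaf.IsLocallyInjective (Opens.grothendieckTopology Z)
      ((PresheafOfModules.toPresheaf _).map μ) := by
    constructor
    intro U x y h
    rw [Opens.mem_grothendieckTopology]
    intro p hp
    obtain ⟨V, hV, hpV, e⟩ := hinj U.unop x y h p hp
    exact ⟨V, homOfLE hV, e, hpV⟩
  have hsurj' : Presheaf.IsLocallySurjective (Opens.grothendieckTopology Z)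
      ((PresheafOfModules.toPresheaf _).map μ) := by
    constructor
    intro U s
    rw [Opens.mem_grothendieckTopology]
    intro p hp
    obtain ⟨V, hV, t, hpV, e⟩ := hsurj U s p hp
    exact ⟨V, homOfLE hV, ⟨t, e⟩, hpV⟩
  exact TensLib.isIso_of_locallyBijective_abs (𝟙 Z.ringCatSheaf.obj) P L μ hinj' hsurj'

end Gen

section Restrict
variable {X Z : Scheme.{u}} (F G : X.Modules) (j : Z ⟶ X) [IsOpenImmersion j]

/-- the canonical pairing `F × G → F ⊗ G` -/
noncomputable def canPairing : TensLib.Pairing F G (CohB1.tensorMod F G) where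
  β U m n := tm F G U.unop m n
  add_left U m₁ m₂ n := tm_add_left F G U.unop m₁ m₂ n
  smul_left U a m n := tm_smul_left F G U.unop a m n
  add_right U m n₁ n₂ := tm_add_right F G U.unop m n₁ n₂
  smul_right U a m n := tm_smul_right F G U.unop a m n
  nat {U V} f m n := res_tm F G (leOfHom f.unop) m n

/-- restriction of a pairing along an open immersion -/
noncomputable def pairingRestrict {M N T : X.Modules} (π : TensLib.Pairing M N T) :
    TensLib.Pairing (M.restrict j) (N.restrict j) (T.restrict j) where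
  β U s t := π.β (op (j ''ᵁ U.unop)) s t
  add_left U s₁ s₂ t := π.add_left (op (j ''ᵁ U.unop)) s₁ s₂ t
  smul_left U a s t := π.smul_left (op (j ''ᵁ U.unop)) ((j.appIso U.unop).inv a) s t
  add_right U s t₁ t₂ := π.add_right (op (j ''ᵁ U.unop)) s t₁ t₂
  smul_right U a s t := π.smul_right (op (j ''ᵁ U.unop)) ((j.appIso U.unop).inv a) s t
  nat {U V} f s t := π.nat (j.opensFunctor.map f.unop).op s t

/-- the comparison map on presheaves -/
noncomputable def μR : CohB1.tensorPre (F.restrict j) (G.restrict j) ⟶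
    CohB1.toPMod ((CohB1.tensorMod F G).restrict j) :=
  (pairingRestrict j (canPairing F G)).μ₀

/-- the ring isomorphism `Γ(Z, U) ≃ Γ(X, j U)` -/
noncomputable def ringE (U : Z.Opens) : Γ(Z, U) ≃+* Γ(X, j ''ᵁ U) :=
  (j.appIso U).symm.commRingCatIsoToRingEquiv

instance invPair₁ (U : Z.Opens) : RingHomInvPair (ringE j U : Γ(Z, U) →+* Γ(X, j ''ᵁ U))
    ((ringE j U).symm : Γ(X, j ''ᵁ U) →+* Γ(Z, U)) := RingHomInvPair.of_ringEquiv _

instance invPair₂ (U : Z.Opens) : RingHomInvPair ((ringE j U).symm : Γ(X, j ''ᵁ U) →+* Γ(Z, U))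
    (ringE j U : Γ(Z, U) →+* Γ(X, j ''ᵁ U)) := RingHomInvPair.symm _ _

/-- sections of the restriction, semilinearly identified -/
noncomputable def aE (U : Z.Opens) :
    Γ(F.restrict j, U) ≃ₛₗ[(ringE j U : Γ(Z, U) →+* Γ(X, j ''ᵁ U))] Γ(F, j ''ᵁ U) where
  toFun m := m
  invFun m := m
  map_add' _ _ := rfl
  map_smul' r m := rfl
  left_inv _ := rfl
  right_inv _ := rfl

/-- the tensor products over the two rings, identified -/
noncomputable def τ (U : Z.Opens) :
    (Γ(F.restrict j, U) ⊗[Γ(Z, U)] Γ(G.restrict j, U))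
      ≃ₛₗ[(ringE j U : Γ(Z, U) →+* Γ(X, j ''ᵁ U))]
    (Γ(F, j ''ᵁ U) ⊗[Γ(X, j ''ᵁ U)] Γ(G, j ''ᵁ U)) :=
  TensorProduct.congr (aE F j U) (aE G j U)

theorem τ_tmul (U : Z.Opens) (m : Γ(F.restrict j, U)) (n : Γ(G.restrict j, U)) :
    τ F G j U (m ⊗ₜ n) = aE F j U m ⊗ₜ aE G j U n := rfl

theorem τ_add (U : Z.Opens) (p q : Γ(F.restrict j, U) ⊗[Γ(Z, U)] Γ(G.restrict j, U)) :
    τ F G j U (p + q) = τ F G j U p + τ F G j U q := map_add _ p q

theorem τ_zero (U : Z.Opens) : τ F G j U 0 = 0 := map_zero _

theorem μR_app (U : Z.Opens) (p : Γ(F.restrict j, U) ⊗[Γ(Z, U)] Γ(G.restrict j, U)) :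
    ((μR F G j).app (op U)).hom (idEquiv (F.restrict j) (G.restrict j) U p) =
      toTₗ F G (j ''ᵁ U) (τ F G j U p) := by
  induction p using TensorProduct.induction_on with
  | zero =>
    rw [map_zero, map_zero, τ_zero, map_zero]
    rfl
  | tmul m n => rfl
  | add p q hp hq =>
    rw [map_add, map_add, hp, hq, τ_add, map_add]
    rfl

theorem τ_res {U V : Z.Opens} (h : V ≤ U)
    (p : Γ(F.restrict j, U) ⊗[Γ(Z, U)] Γ(G.restrict j, U)) :
    τ F G j V (resT (F.restrict j) (G.restrict j) h p) =
      resT F G (j.image_mono h) (τ F G j U p) := by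
  induction p using TensorProduct.induction_on with
  | zero => rw [resT_zero, τ_zero, τ_zero, resT_zero]
  | tmul m n => rfl
  | add p q hp hq => rw [resT_add, τ_add, hp, hq, τ_add, resT_add]

theorem exists_image_eq {U : Z.Opens} {W : X.Opens} (hW : W ≤ j ''ᵁ U) :
    ∃ V : Z.Opens, W = j ''ᵁ V := by
  refine ⟨j ⁻¹ᵁ W, ?_⟩
  rw [Scheme.Hom.image_preimage_eq_opensRange_inf]
  exact (inf_eq_right.2 (hW.trans (j.image_le_opensRange U))).symm

theorem mem_of_mem_image {V : Z.Opens} {q : Z} (h : j.base q ∈ j ''ᵁ V) : q ∈ V := by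
  obtain ⟨q', hq', e⟩ := h
  have : q' = q := j.isOpenEmbedding.injective e
  rw [← this]
  exact hq'

/-- the comparison morphism between the tensor product of the restrictions and the restriction
of the tensor product -/
noncomputable def θ :
    CohB1.tensorMod (F.restrict j) (G.restrict j) ⟶ (CohB1.tensorMod F G).restrict j :=
  ((PresheafOfModules.sheafificationAdjunction (𝟙 Z.ringCatSheaf.obj)).homEquiv
    (show Z.PresheafOfModules from CohB1.tensorPre (F.restrict j) (G.restrict j))
    ((CohB1.tensorMod F G).restrict j)).symm (μR F G j)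

theorem isIso_θ : IsIso (θ F G j) := by
  unfold θ
  refine isIso_of_locally_bijective
    (show Z.PresheafOfModules from CohB1.tensorPre (F.restrict j) (G.restrict j))
    ((CohB1.tensorMod F G).restrict j) (μR F G j) ?_ ?_
  · intro U x y h q hq
    let x' := (idEquiv (F.restrict j) (G.restrict j) U).symm x
    let y' := (idEquiv (F.restrict j) (G.restrict j) U).symm y
    have hx : toT F G (j ''ᵁ U) (idEquiv F G (j ''ᵁ U) (τ F G j U x')) =
        toT F G (j ''ᵁ U) (idEquiv F G (j ''ᵁ U) (τ F G j U y')) := by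
      rw [← toTₗ_apply, ← toTₗ_apply, ← μR_app, ← μR_app]
      exact h
    obtain ⟨W, hW, hqW, e⟩ := toT_locally_injective F G (j ''ᵁ U) _ _ hx (j.base q) ⟨q, hq, rfl⟩
    obtain ⟨V, rfl⟩ := exists_image_eq j hW
    have hVU : V ≤ U := (Scheme.Hom.image_le_image_iff j V U).1 hW
    refine ⟨V, hVU, mem_of_mem_image j hqW, ?_⟩
    have e' : resT F G hW (τ F G j U x') = resT F G hW (τ F G j U y') :=
      congrArg (idEquiv F G (j ''ᵁ V)).symm e
    have e'' : τ F G j V (resT (F.restrict j) (G.restrict j) hVU x') =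
        τ F G j V (resT (F.restrict j) (G.restrict j) hVU y') := by
      rw [τ_res, τ_res]
      exact e'
    exact (τ F G j V).injective e''
  · intro U s q hq
    obtain ⟨W, hW, p, hqW, e⟩ :=
      toTₗ_locally_surjective F G (j ''ᵁ U) s (j.base q) ⟨q, hq, rfl⟩
    obtain ⟨V, rfl⟩ := exists_image_eq j hW
    have hVU : V ≤ U := (Scheme.Hom.image_le_image_iff j V U).1 hW
    refine ⟨V, hVU, idEquiv _ _ V ((τ F G j V).symm p), mem_of_mem_image j hqW, ?_⟩
    refine (μR_app F G j V _).trans ?_
    rw [LinearEquiv.apply_symm_apply]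
    exact e

/-- restriction along an open immersion commutes with the tensor product -/
noncomputable def restrictTensorIso :
    CohB1.tensorMod (F.restrict j) (G.restrict j) ≅ (CohB1.tensorMod F G).restrict j :=
  haveI := isIso_θ F G j
  asIso (θ F G j)

end Restrict

section Congr
variable {X : Scheme.{u}}

/-- the tensor product of modules respects isomorphisms -/
noncomputable def tensorModCongr {M M' N N' : X.Modules} (e : M ≅ M') (e' : N ≅ N') :
    CohB1.tensorMod M N ≅ CohB1.tensorMod M' N' :=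
  (CohB1.sheafifyMod X).mapIso
    (show (show X.PresheafOfModules from CohB1.tensorPre M N) ≅
        (show X.PresheafOfModules from CohB1.tensorPre M' N') from
      (show CohB1.toPMod M ≅ CohB1.toPMod M' from
        (SheafOfModules.forget X.ringCatSheaf).mapIso e) ⊗ᵢ
      (show CohB1.toPMod N ≅ CohB1.toPMod N' from
        (SheafOfModules.forget X.ringCatSheaf).mapIso e'))

end Congr

section Spec
variable {R : CommRingCat.{u}}

/-- an isomorphism of modules over `Spec R` gives `R`-linear equivalences on sections -/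
noncomputable def sectionsEquivOfIso {H H' : (Spec R).Modules} (e : H ≅ H')
    (U : (Spec R).Opens) : Γ(H, U) ≃ₗ[R] Γ(H', U) where
  toFun t := e.hom.app U t
  invFun t := e.inv.app U t
  map_add' x y := map_add _ x y
  map_smul' r x := app_smul_R e.hom U r x
  left_inv t := by
    change (e.hom.app U ≫ e.inv.app U) t = t
    rw [← Scheme.Modules.Hom.comp_app, e.hom_inv_id]
    rfl
  right_inv t := by
    change (e.inv.app U ≫ e.hom.app U) t = t
    rw [← Scheme.Modules.Hom.comp_app, e.inv_hom_id]
    rfl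

theorem finite_tilde_top (P : ModuleCat.{u} R) [Module.Finite R P] :
    Module.Finite R Γ(tilde P, (⊤ : (Spec R).Opens)) := by
  have hs : Function.Surjective (toOpenₗ P ⊤) :=
    (ConcreteCategory.bijective_of_isIso (tilde.toOpen P ⊤)).2
  exact Module.Finite.of_surjective (toOpenₗ P ⊤) hs

end Spec

end Groth.Agent.Lead.TilT
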