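import Mathlib
import Groth.Agent.Lib.Lead.TilT4
import Groth.Agent.Lib.Helper1.QCohLib
import Groth.Agent.Lib.Helper1.FtLocal
import Groth.Agent.Lib.Helper1.AffFin

/-!
# The tensor product of quasi-coherent modules (lead)
-/

set_option autoImplicit false
universe u
open CategoryTheory CategoryTheory.Limits AlgebraicGeometry TopologicalSpace Opposite TensorProduct
  MonoidalCategory
set_option backward.isDefEq.respectTransparency.types false

namespace Groth.Agent.Lead.TilT

open Groth.Agent.Helper1

section Chart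
variable {X : Scheme.{u}} (F G : X.Modules) [F.IsQuasicoherent] [G.IsQuasicoherent]
  {R : CommRingCat.{u}} (j : Spec R ⟶ X) [IsOpenImmersion j]

/-- the module of sections over a chart -/
noncomputable abbrev chartMod : ModuleCat.{u} R :=
  ModuleCat.of R Γ(F.restrict j, (⊤ : (Spec R).Opens))

/-- a quasi-coherent module on an affine chart is the module associated to its sections -/
noncomputable def chartIso : F.restrict j ≅ tilde (chartMod F j) :=
  haveI : (F.restrict j).IsQuasicoherent := inferInstance
  (asIso (F.restrict j).fromTildeΓ).symm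

/-- the tensor product on an affine chart -/
noncomputable def tensorChartIso : (CohB1.tensorMod F G).restrict j ≅
    tilde (ModuleCat.of R (chartMod F j ⊗[R] chartMod G j)) :=
  haveI := isIso_φ (chartMod F j) (chartMod G j)
  (restrictTensorIso F G j).symm ≪≫ tensorModCongr (chartIso F j) (chartIso G j) ≪≫
    (asIso (φ (chartMod F j) (chartMod G j))).symm

end Chart

section Main
variable {X : Scheme.{u}} (F G : X.Modules) [F.IsQuasicoherent] [G.IsQuasicoherent]

theorem iSup_opensRange_fromSpec :
    ⨆ V : X.affineOpens, (V.2.fromSpec).opensRange = ⊤ := by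
  apply le_antisymm le_top
  intro y _
  obtain ⟨_, ⟨W, hW, rfl⟩, hyW, -⟩ := X.isBasis_affineOpens.exists_subset_of_mem_open
    (Set.mem_univ y) isOpen_univ
  refine Opens.mem_iSup.2 ⟨⟨W, hW⟩, ?_⟩
  rw [IsAffineOpen.opensRange_fromSpec]
  exact hyW

instance isQuasicoherent_tensorMod : (CohB1.tensorMod F G).IsQuasicoherent := by
  refine QCohLib.isQuasicoherent_of_affine_charts (CohB1.tensorMod F G) (I := X.affineOpens)
    (fun V => Γ(X, V.1)) (fun V => V.2.fromSpec) iSup_opensRange_fromSpec (fun V => ?_)
  exact isIso_fromTildeΓ_iff.2 ⟨_, ⟨(tensorChartIso F G V.2.fromSpec).symm⟩⟩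

theorem isFT_tensorMod (hF : CohB1.IsFT F) (hG : CohB1.IsFT G) :
    CohB1.IsFT (CohB1.tensorMod F G) := by
  refine FtLocal.isFiniteType_of_affine_charts (CohB1.tensorMod F G) (I := X.affineOpens)
    (fun V => Γ(X, V.1)) (fun V => V.2.fromSpec) iSup_opensRange_fromSpec (fun V => ?_)
  haveI : Module.Finite Γ(X, V.1) (chartMod F V.2.fromSpec) :=
    AffFin.finite_restrict F inferInstance hF V.2.fromSpec
  haveI : Module.Finite Γ(X, V.1) (chartMod G V.2.fromSpec) :=
    AffFin.finite_restrict G inferInstance hG V.2.fromSpec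
  haveI : Module.Finite Γ(X, V.1)
      (ModuleCat.of Γ(X, V.1) (chartMod F V.2.fromSpec ⊗[Γ(X, V.1)] chartMod G V.2.fromSpec)) :=
    Module.Finite.tensorProduct _ _ _
  haveI := finite_tilde_top
    (ModuleCat.of Γ(X, V.1) (chartMod F V.2.fromSpec ⊗[Γ(X, V.1)] chartMod G V.2.fromSpec))
  exact Module.Finite.equiv (sectionsEquivOfIso (tensorChartIso F G V.2.fromSpec) ⊤).symm

end Main

end Groth.Agent.Lead.TilT
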