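import Mathlib
import Groth.Agent.Lib.Lead.TilT5

/-!
# The support of a tensor product (lead)
-/

set_option autoImplicit false
universe u
open CategoryTheory CategoryTheory.Limits AlgebraicGeometry TopologicalSpace Opposite TensorProduct
  MonoidalCategory
set_option backward.isDefEq.respectTransparency.types false

namespace Groth.Agent.Lead.TilT

section Alg

theorem nontrivial_tensor_field {K : Type u} [Field K] (V W : Type u) [AddCommGroup V] [Module K V]
    [AddCommGroup W] [Module K W] : Nontrivial (V ⊗[K] W) ↔ Nontrivial V ∧ Nontrivial W := by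
  constructor
  · intro h
    constructor
    · by_contra hV
      rw [not_nontrivial_iff_subsingleton] at hV
      haveI := hV
      exact not_subsingleton (V ⊗[K] W) inferInstance
    · by_contra hW
      rw [not_nontrivial_iff_subsingleton] at hW
      haveI := hW
      exact not_subsingleton (V ⊗[K] W) inferInstance
  · rintro ⟨hV, hW⟩
    by_contra h
    rw [not_nontrivial_iff_subsingleton] at h
    haveI := h
    have : Subsingleton W := (Module.FaithfullyFlat.subsingleton_tensorProduct_iff_right K V).1 h
    exact not_subsingleton W this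

theorem support_tensorProduct {R : Type u} [CommRing R] (M N : Type u) [AddCommGroup M]
    [Module R M] [AddCommGroup N] [Module R N] [Module.Finite R M] [Module.Finite R N] :
    Module.support R (M ⊗[R] N) = Module.support R M ∩ Module.support R N := by
  ext p
  rw [Set.mem_inter_iff, Module.mem_support_iff_nontrivial_residueField_tensorProduct,
    Module.mem_support_iff_nontrivial_residueField_tensorProduct,
    Module.mem_support_iff_nontrivial_residueField_tensorProduct,
    ← nontrivial_tensor_field (K := p.asIdeal.ResidueField)]
  exact (TensorProduct.AlgebraTensorModule.distribBaseChange R p.asIdeal.ResidueField M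
    N).toEquiv.nontrivial_congr

end Alg

section Supp

theorem support_tilde {R : CommRingCat.{u}} (P : ModuleCat.{u} R) :
    CohB1.support (tilde P) = Module.support R P := by
  ext x
  have h := Module.mem_support_iff (R := R) (M := P) (p := (x : PrimeSpectrum R))
  refine Iff.trans ?_ h.symm
  change ¬ Subsingleton ((tilde P).presheaf.stalk x) ↔ _
  rw [not_subsingleton_iff_nontrivial]
  exact (IsLocalizedModule.iso (PrimeSpectrum.asIdeal (x : PrimeSpectrum R)).primeCompl
    (tilde.toStalk P x).hom).toEquiv.nontrivial_congr.symm

theorem support_eq_of_iso {X : Scheme.{u}} {M M' : X.Modules} (e : M ≅ M') :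
    CohB1.support M = CohB1.support M' := by
  ext x
  change ¬ Subsingleton (M.presheaf.stalk x) ↔ ¬ Subsingleton (M'.presheaf.stalk x)
  have e' : M.presheaf.stalk x ≅ M'.presheaf.stalk x :=
    (TopCat.Presheaf.stalkFunctor Ab x).mapIso ((Scheme.Modules.toPresheaf X).mapIso e)
  rw [not_iff_not]
  exact e'.addCommGroupIsoToAddEquiv.toEquiv.subsingleton_congr

theorem support_restrict {X Z : Scheme.{u}} (M : X.Modules) (j : Z ⟶ X) [IsOpenImmersion j] :
    CohB1.support (M.restrict j) = j.base ⁻¹' CohB1.support M := by
  ext x
  change ¬ Subsingleton ((M.restrict j).presheaf.stalk x) ↔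
    ¬ Subsingleton (M.presheaf.stalk (j.base x))
  have e' : (M.restrict j).presheaf.stalk x ≅ M.presheaf.stalk (j.base x) :=
    (Scheme.Modules.restrictStalkNatIso j x).app M
  rw [not_iff_not]
  exact e'.addCommGroupIsoToAddEquiv.toEquiv.subsingleton_congr

theorem support_tensorMod {X : Scheme.{u}} (F G : X.Modules) [F.IsQuasicoherent]
    [G.IsQuasicoherent] (hF : CohB1.IsFT F) (hG : CohB1.IsFT G) :
    CohB1.support (CohB1.tensorMod F G) = CohB1.support F ∩ CohB1.support G := by
  ext x
  obtain ⟨_, ⟨V, hV, rfl⟩, hxV, -⟩ := X.isBasis_affineOpens.exists_subset_of_mem_open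
    (Set.mem_univ x) isOpen_univ
  have hx' : x ∈ hV.fromSpec.opensRange := by
    rw [IsAffineOpen.opensRange_fromSpec]
    exact hxV
  obtain ⟨x', rfl⟩ := hx'
  have key : ∀ T : X.Modules, hV.fromSpec.base x' ∈ CohB1.support T ↔
      x' ∈ CohB1.support (T.restrict hV.fromSpec) := by
    intro T
    rw [support_restrict]
    rfl
  haveI : Module.Finite Γ(X, V) (chartMod F hV.fromSpec) :=
    Groth.Agent.Helper1.AffFin.finite_restrict F inferInstance hF hV.fromSpec
  haveI : Module.Finite Γ(X, V) (chartMod G hV.fromSpec) :=
    Groth.Agent.Helper1.AffFin.finite_restrict G inferInstance hG hV.fromSpec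
  rw [Set.mem_inter_iff, key, key, key, support_eq_of_iso (tensorChartIso F G hV.fromSpec),
    support_eq_of_iso (chartIso F hV.fromSpec), support_eq_of_iso (chartIso G hV.fromSpec),
    support_tilde, support_tilde, support_tilde]
  change x' ∈ Module.support Γ(X, V) (chartMod F hV.fromSpec ⊗[Γ(X, V)] chartMod G hV.fromSpec) ↔ _
  rw [support_tensorProduct]
  rfl

end Supp

end Groth.Agent.Lead.TilT
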