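import Mathlib
import Groth.Agent.Lib.Lead.BCU1
import Groth.Agent.Lib.Lead.CIU2

/-!
# The unit of pullback–pushforward along a morphism of affine schemes is a base change of modules
on global sections (lead)
-/

set_option autoImplicit false
universe u
open CategoryTheory AlgebraicGeometry TopologicalSpace TensorProduct ChangeOfRings
set_option backward.isDefEq.respectTransparency.types false

namespace Groth.Agent.Lead.BCU

open Scheme.Modules Groth.Agent.Helper1.TildeBC

variable {A B : CommRingCat.{u}} (ψ : A ⟶ B)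

/-- global sections of the unit of `Spec ψ`, as a map from `Γ(G)` (an `A`-module) to `Γ(ψ^* G)`
(a `B`-module) -/
noncomputable def unitΓ (G : (Spec A).Modules) :
    ↑(moduleSpecΓFunctor.obj G : ModuleCat.{u} A) →
      ↑(moduleSpecΓFunctor.obj ((pullback (Spec.map ψ)).obj G) : ModuleCat.{u} B) :=
  fun n => (gammaPushforwardIso ψ).hom.app ((pullback (Spec.map ψ)).obj G)
    (moduleSpecΓFunctor.map ((pullbackPushforwardAdjunction (Spec.map ψ)).unit.app G) n)

theorem unitΓ_tilde (M : ModuleCat.{u} A) (m : M) :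
    moduleSpecΓFunctor.map ((pullbackTildeIso ψ).hom.app M)
      (unitΓ ψ ((tilde.functor A).obj M) ((tilde.adjunction (R := A)).unit.app M m)) =
    (tilde.adjunction (R := B)).unit.app ((ModuleCat.extendScalars ψ.hom).obj M)
      ((1 : B) ⊗ₜ[A, ψ.hom] m) := by
  let adj1 := (tilde.adjunction (R := A)).comp (pullbackPushforwardAdjunction (Spec.map ψ))
  let adj2 := (ModuleCat.extendRestrictScalarsAdj ψ.hom).comp (tilde.adjunction (R := B))
  let adj2' := adj2.ofNatIsoRight (gammaPushforwardIso ψ).symm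
  have h := Adjunction.unit_leftAdjointUniq_hom_app adj1 adj2' M
  have h1 : adj1.unit.app M = tilde.adjunction.unit.app M ≫ moduleSpecΓFunctor.map
      ((pullbackPushforwardAdjunction (Spec.map ψ)).unit.app ((tilde.functor A).obj M)) :=
    Adjunction.comp_unit_app _ _ _
  have h2 : adj2'.unit.app M = adj2.unit.app M ≫ (gammaPushforwardIso ψ).symm.hom.app _ :=
    Groth.Agent.Lead.CIU.ofNatIsoRight_unit_app _ _ _
  have h3 : adj2.unit.app M = (ModuleCat.extendRestrictScalarsAdj ψ.hom).unit.app M ≫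
      (ModuleCat.restrictScalars ψ.hom).map (tilde.adjunction.unit.app _) :=
    Adjunction.comp_unit_app _ _ _
  rw [h1, h2, h3] at h
  have hn := (gammaPushforwardIso ψ).hom.naturality ((pullbackTildeIso ψ).hom.app M)
  have h4 := congrArg (fun f => f ≫ (gammaPushforwardIso ψ).hom.app _) h
  simp only [Category.assoc, Iso.symm_hom, Iso.inv_hom_id_app, Category.comp_id] at h4
  simp only [Functor.comp_map] at hn
  have h6 : tilde.adjunction.unit.app M ≫
      moduleSpecΓFunctor.map ((pullbackPushforwardAdjunction (Spec.map ψ)).unit.app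
        ((tilde.functor A).obj M)) ≫
      (gammaPushforwardIso ψ).hom.app ((tilde.functor A ⋙ pullback (Spec.map ψ)).obj M) ≫
      (ModuleCat.restrictScalars ψ.hom).map
        (moduleSpecΓFunctor.map ((pullbackTildeIso ψ).hom.app M)) =
      (ModuleCat.extendRestrictScalarsAdj ψ.hom).unit.app M ≫
        (ModuleCat.restrictScalars ψ.hom).map (tilde.adjunction.unit.app _) := by
    rw [← hn]
    refine Eq.trans ?_ (h4.trans ?_)
    · rfl
    · exact Category.comp_id _
  exact congrArg (fun f => (ConcreteCategory.hom f) m) h6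

theorem unitΓ_naturality {G₁ G₂ : (Spec A).Modules} (θ : G₁ ⟶ G₂)
    (n : (moduleSpecΓFunctor.obj G₁ : ModuleCat.{u} A)) :
    moduleSpecΓFunctor.map ((pullback (Spec.map ψ)).map θ) (unitΓ ψ G₁ n) =
      unitΓ ψ G₂ (moduleSpecΓFunctor.map θ n) := by
  have h1 := (pullbackPushforwardAdjunction (Spec.map ψ)).unit.naturality θ
  have h2 := (gammaPushforwardIso ψ).hom.naturality ((pullback (Spec.map ψ)).map θ)
  simp only [Functor.comp_map, Functor.id_map] at h1 h2
  have h3 : moduleSpecΓFunctor.map ((pullbackPushforwardAdjunction (Spec.map ψ)).unit.app G₁) ≫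
      (gammaPushforwardIso ψ).hom.app ((pullback (Spec.map ψ)).obj G₁) ≫
      (ModuleCat.restrictScalars ψ.hom).map
        (moduleSpecΓFunctor.map ((pullback (Spec.map ψ)).map θ)) =
      moduleSpecΓFunctor.map θ ≫
        moduleSpecΓFunctor.map ((pullbackPushforwardAdjunction (Spec.map ψ)).unit.app G₂) ≫
        (gammaPushforwardIso ψ).hom.app ((pullback (Spec.map ψ)).obj G₂) := by
    rw [← h2, ← Category.assoc, ← Functor.map_comp, ← h1, Functor.map_comp, Category.assoc]
  exact congrArg (fun f => (ConcreteCategory.hom f) n) h3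

theorem isBC_unitΓ_tilde (M : ModuleCat.{u} A) :
    IsBC ψ.hom (unitΓ ψ ((tilde.functor A).obj M)) := by
  letI := ψ.hom.toAlgebra
  let μ : (moduleSpecΓFunctor.obj ((tilde.functor A).obj M) : ModuleCat.{u} A) ≃ₗ[A] M :=
    (asIso ((tilde.adjunction (R := A)).unit.app M)).symm.toLinearEquiv
  let ν : (moduleSpecΓFunctor.obj ((pullback (Spec.map ψ)).obj ((tilde.functor A).obj M)) :
      ModuleCat.{u} B) ≃ₗ[B] B ⊗[A] M :=
    (moduleSpecΓFunctor.mapIso ((pullbackTildeIso ψ).app M)).toLinearEquiv ≪≫ₗ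
      (asIso ((tilde.adjunction (R := B)).unit.app
        ((ModuleCat.extendScalars ψ.hom).obj M))).symm.toLinearEquiv ≪≫ₗ
      Groth.Agent.Helper8.extScalEquiv (R := A) (S := B) M
  refine IsBC.of_equiv μ ν (l₀ := fun m : M => (1 : B) ⊗ₜ[A] m) ?_ (isBC_tmul ψ.hom)
  intro x
  obtain ⟨m, rfl⟩ : ∃ m : M, (tilde.adjunction (R := A)).unit.app M m = x :=
    ⟨μ x, μ.symm_apply_apply x⟩
  have h := unitΓ_tilde ψ M m
  have h1 : μ ((tilde.adjunction (R := A)).unit.app M m) = m := μ.apply_symm_apply m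
  rw [h1]
  change Groth.Agent.Helper8.extScalEquiv (R := A) (S := B) M
    ((asIso ((tilde.adjunction (R := B)).unit.app
        ((ModuleCat.extendScalars ψ.hom).obj M))).symm.toLinearEquiv
      (moduleSpecΓFunctor.map ((pullbackTildeIso ψ).hom.app M)
        (unitΓ ψ ((tilde.functor A).obj M) ((tilde.adjunction (R := A)).unit.app M m)))) = _
  rw [h]
  have h2 : (asIso ((tilde.adjunction (R := B)).unit.app
        ((ModuleCat.extendScalars ψ.hom).obj M))).symm.toLinearEquiv
      ((tilde.adjunction (R := B)).unit.app ((ModuleCat.extendScalars ψ.hom).obj M)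
        ((1 : B) ⊗ₜ[A, ψ.hom] m)) = (1 : B) ⊗ₜ[A, ψ.hom] m :=
    (asIso ((tilde.adjunction (R := B)).unit.app
        ((ModuleCat.extendScalars ψ.hom).obj M))).toLinearEquiv.symm_apply_apply _
  rw [h2]
  rfl

theorem isBC_unitΓ (G : (Spec A).Modules) [G.IsQuasicoherent] : IsBC ψ.hom (unitΓ ψ G) := by
  haveI h1 : IsIso G.fromTildeΓ := inferInstance
  let θ : (tilde.functor A).obj (moduleSpecΓFunctor.obj G) ≅ G := @asIso _ _ _ _ G.fromTildeΓ h1
  refine IsBC.of_equiv (moduleSpecΓFunctor.mapIso θ.symm).toLinearEquiv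
    (moduleSpecΓFunctor.mapIso ((pullback (Spec.map ψ)).mapIso θ.symm)).toLinearEquiv ?_
    (isBC_unitΓ_tilde ψ (moduleSpecΓFunctor.obj G))
  intro n
  exact unitΓ_naturality ψ θ.inv n

end Groth.Agent.Lead.BCU
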