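import Mathlib
import Groth.Agent.Lib.Lead.BCU2
import Groth.Agent.Lib.Lead.CIU6
import Groth.Agent.Lib.Lead.FLF7

/-!
# The unit of pullback–pushforward is a base change of modules on affine charts (lead)
-/

set_option autoImplicit false
universe u
open CategoryTheory AlgebraicGeometry TopologicalSpace TensorProduct
set_option backward.isDefEq.respectTransparency.types false

namespace Groth.Agent.Lead.BCU

open Scheme.Modules Groth.Agent.Lead.CIU

section Res

variable {Z : Scheme.{u}}

/-- restriction of sections -/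
noncomputable abbrev res (H : Z.Modules) {O₁ O₂ : Z.Opens} (h : O₂ ≤ O₁) (x : Γ(H, O₁)) : Γ(H, O₂) :=
  H.presheaf.map (homOfLE h).op x

theorem res_res (H : Z.Modules) {O₁ O₂ O₃ : Z.Opens} (h : O₂ ≤ O₁) (h' : O₃ ≤ O₂)
    (x : Γ(H, O₁)) : res H h' (res H h x) = res H (h'.trans h) x := by
  change H.presheaf.map (homOfLE h').op (H.presheaf.map (homOfLE h).op x) = _
  rw [← ConcreteCategory.comp_apply, ← Functor.map_comp]
  rfl

theorem app_res {M N : Z.Modules} (φ : M ⟶ N) {U V : Z.Opens} (h : V ≤ U) (t : Γ(M, U)) :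
    φ.app V (res M h t) = res N h (φ.app U t) :=
  hom_naturality_apply φ h t

end Res

section OpenImm

variable {U X : Scheme.{u}} (j : U ⟶ X) [IsOpenImmersion j]

/-- the unit of an open immersion through restriction -/
theorem unit_openImm_apply (H : X.Modules) (O : X.Opens) (x : Γ(H, O)) :
    ((pullbackPushforwardAdjunction j).unit.app H).app O x =
      ((restrictFunctorIsoPullback j).hom.app H).app (j ⁻¹ᵁ O)
        (res H (j.image_preimage_le O) x) := by
  have h := Adjunction.unit_leftAdjointUniq_hom_app (restrictAdjunction j)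
    (pullbackPushforwardAdjunction j) H
  have h2 : ((pullbackPushforwardAdjunction j).unit.app H).app O =
      ((restrictAdjunction j).unit.app H).app O ≫
        ((pushforward j).map ((restrictFunctorIsoPullback j).hom.app H)).app O := by
    rw [← h]; rfl
  rw [h2, restrictAdjunction_unit_app_app]
  rfl

end OpenImm

section Lemmas

/-- `toChart` of a restricted section -/
theorem toChart_res {X : Scheme.{u}} (H : X.Modules) {W O : X.Opens} (hW : IsAffineOpen W)
    (e : W ≤ O) (y : Γ(H, O)) (hO : (⊤ : (Spec Γ(X, W)).Opens) ≤ hW.fromSpec ⁻¹ᵁ O) :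
    toChart H hW (res H e y) =
      res ((pullback hW.fromSpec).obj H) hO
        (((pullbackPushforwardAdjunction hW.fromSpec).unit.app H).app O y) := by
  unfold toChart
  have h1 := app_res ((pullbackPushforwardAdjunction hW.fromSpec).unit.app H) e y
  refine Eq.trans (congrArg _ h1) ?_
  exact res_res ((pullback hW.fromSpec).obj H) (hW.fromSpec.preimage_mono e) _ _

/-- the unit of a composite, elementwise -/
theorem unit_comp_apply {A B C : Scheme.{u}} (f : A ⟶ B) (g : B ⟶ C) (G : C.Modules)
    (O : C.Opens) (m : Γ(G, O)) :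
    ((pullbackPushforwardAdjunction f).unit.app ((pullback g).obj G)).app (g ⁻¹ᵁ O)
        (((pullbackPushforwardAdjunction g).unit.app G).app O m) =
      ((pullbackComp f g).inv.app G).app ((f ≫ g) ⁻¹ᵁ O)
        (((pullbackPushforwardAdjunction (f ≫ g)).unit.app G).app O m) := by
  have h := unit_comp_app f g G O
  exact congrArg (fun φ => φ m) h

/-- cancelling an isomorphism after restriction -/
theorem iso_cancel_res {Z : Scheme.{u}} {K₁ K₂ : Z.Modules} (θ : K₁ ≅ K₂) {O O' : Z.Opens}
    (hO : O' ≤ O) (z : Γ(K₂, O)) :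
    θ.hom.app O' (res K₁ hO (θ.inv.app O z)) = res K₂ hO z := by
  rw [app_res]
  have h := congrArg (fun φ => Hom.app φ O) θ.inv_hom_id
  have h2 := congrArg (fun φ => φ z) h
  exact congrArg (res K₂ hO) h2

theorem congr_unit_res {A C : Scheme.{u}} {k k' : A ⟶ C} (e : k = k') (G : C.Modules)
    (O : C.Opens) {O' : A.Opens} (hO : O' ≤ k ⁻¹ᵁ O) (hO' : O' ≤ k' ⁻¹ᵁ O) (m : Γ(G, O)) :
    ((pullbackCongr e).hom.app G).app O'
        (res ((pullback k).obj G) hO (((pullbackPushforwardAdjunction k).unit.app G).app O m)) =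
      res ((pullback k').obj G) hO' (((pullbackPushforwardAdjunction k').unit.app G).app O m) := by
  subst e
  simp [pullbackCongr]

end Lemmas

section Chart

variable {Y' Y : Scheme.{u}} (h : Y' ⟶ Y) (G : Y.Modules) {W : Y.Opens} {W' : Y'.Opens}

/-- the unit followed by restriction to a smaller open of the source -/
noncomputable def unitRes (e : W' ≤ h ⁻¹ᵁ W) (m : Γ(G, W)) : Γ((pullback h).obj G, W') :=
  res ((pullback h).obj G) e (((pullbackPushforwardAdjunction h).unit.app G).app W m)

variable (hW : IsAffineOpen W) (hW' : IsAffineOpen W') (e : W' ≤ h ⁻¹ᵁ W)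

/-- the comparison of the two pullbacks to the chart of the source -/
noncomputable def chain :
    (pullback hW'.fromSpec).obj ((pullback h).obj G) ≅
      (pullback (Spec.map (h.appLE W W' e))).obj ((pullback hW.fromSpec).obj G) :=
  (pullbackComp hW'.fromSpec h).app G ≪≫
    (pullbackCongr (hW.SpecMap_appLE_fromSpec h hW' e).symm).app G ≪≫
    ((pullbackComp (Spec.map (h.appLE W W' e)) hW.fromSpec).app G).symm

theorem le_preimage_fromSpec {X : Scheme.{u}} {W O : X.Opens} (hW : IsAffineOpen W) (e : W ≤ O) :
    (⊤ : (Spec Γ(X, W)).Opens) ≤ hW.fromSpec ⁻¹ᵁ O := by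
  intro y _
  show hW.fromSpec y ∈ O
  have : hW.fromSpec y ∈ Set.range hW.fromSpec := ⟨y, rfl⟩
  rw [hW.range_fromSpec] at this
  exact e this

theorem chain_toChart (m : Γ(G, W)) :
    moduleSpecΓFunctor.map (chain h G hW hW' e).hom
        (toChart ((pullback h).obj G) hW' (unitRes h G e m)) =
      unitΓ (h.appLE W W' e) ((pullback hW.fromSpec).obj G) (toChart G hW m) := by
  have comm := (hW.SpecMap_appLE_fromSpec h hW' e).symm
  have s1 := toChart_res ((pullback h).obj G) hW' e
    (((pullbackPushforwardAdjunction h).unit.app G).app W m) (le_preimage_fromSpec hW' e)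
  have s2 := unit_comp_apply hW'.fromSpec h G W m
  have s3 := iso_cancel_res ((pullbackComp hW'.fromSpec h).app G)
    (O := (hW'.fromSpec ≫ h) ⁻¹ᵁ W) (O' := ⊤) (le_preimage_fromSpec hW' e)
    (((pullbackPushforwardAdjunction (hW'.fromSpec ≫ h)).unit.app G).app W m)
  have s4 := congr_unit_res comm G W (O' := ⊤) (le_preimage_fromSpec hW' e)
    (by rw [← comm]; exact le_preimage_fromSpec hW' e) m
  have s5 := unit_comp_apply (Spec.map (h.appLE W W' e)) hW.fromSpec G W m
  have s6 := app_res ((pullbackPushforwardAdjunction (Spec.map (h.appLE W W' e))).unit.app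
    ((pullback hW.fromSpec).obj G)) (le_preimage_fromSpec hW le_rfl)
    (((pullbackPushforwardAdjunction hW.fromSpec).unit.app G).app W m)
  -- the right hand side
  have r1 : unitΓ (h.appLE W W' e) ((pullback hW.fromSpec).obj G) (toChart G hW m) =
      res ((pullback (Spec.map (h.appLE W W' e))).obj ((pullback hW.fromSpec).obj G))
        ((Spec.map (h.appLE W W' e)).preimage_mono (le_preimage_fromSpec hW le_rfl))
        (((pullbackComp (Spec.map (h.appLE W W' e)) hW.fromSpec).inv.app G).app
          ((Spec.map (h.appLE W W' e) ≫ hW.fromSpec) ⁻¹ᵁ W)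
          (((pullbackPushforwardAdjunction (Spec.map (h.appLE W W' e) ≫ hW.fromSpec)).unit.app G).app
            W m)) := by
    rw [← s5]
    exact s6
  rw [r1]
  -- the left hand side
  change ((pullbackComp (Spec.map (h.appLE W W' e)) hW.fromSpec).inv.app G).app ⊤
    (((pullbackCongr comm).hom.app G).app ⊤
      (((pullbackComp hW'.fromSpec h).hom.app G).app ⊤
        (toChart ((pullback h).obj G) hW'
          (res ((pullback h).obj G) e
            (((pullbackPushforwardAdjunction h).unit.app G).app W m))))) = _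
  rw [s1, s2]
  have s3' : ((pullbackComp hW'.fromSpec h).hom.app G).app ⊤
      (res ((pullback hW'.fromSpec).obj ((pullback h).obj G)) (le_preimage_fromSpec hW' e)
        (((pullbackComp hW'.fromSpec h).inv.app G).app ((hW'.fromSpec ≫ h) ⁻¹ᵁ W)
          (((pullbackPushforwardAdjunction (hW'.fromSpec ≫ h)).unit.app G).app W m))) =
      res ((pullback (hW'.fromSpec ≫ h)).obj G) (le_preimage_fromSpec hW' e)
        (((pullbackPushforwardAdjunction (hW'.fromSpec ≫ h)).unit.app G).app W m) := s3
  rw [s3']
  refine Eq.trans (congrArg (fun z => ((pullbackComp (Spec.map (h.appLE W W' e)) hW.fromSpec).inv.app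
    G).app ⊤ z) s4) ?_
  exact app_res _ _ _

include hW hW' in
/-- **the unit of pullback–pushforward is a base change on affine charts**: for a quasi-coherent
module `G` on `Y`, affine opens `W ⊆ Y` and `W' ⊆ h⁻¹ W`, the map `Γ(G, W) → Γ(h^* G, W')` exhibits
the target as `Γ(Y', W') ⊗_{Γ(Y, W)} Γ(G, W)` -/
theorem isBC_unitRes [G.IsQuasicoherent] :
    IsBC (h.appLE W W' e).hom (unitRes h G e) := by
  haveI : ((pullback hW.fromSpec).obj G).IsQuasicoherent :=
    Groth.Agent.Lead.PB.isQuasicoherent_pullback _ _
  refine IsBC.of_equiv (chartEquiv G hW).symm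
    ((chartEquiv ((pullback h).obj G) hW').symm ≪≫ₗ
      (moduleSpecΓFunctor.mapIso (chain h G hW hW' e)).toLinearEquiv) ?_
    (isBC_unitΓ (h.appLE W W' e) ((pullback hW.fromSpec).obj G))
  intro m
  have h1 : (chartEquiv G hW).symm m = toChart G hW m := by
    rw [LinearEquiv.symm_apply_eq, chartEquiv_toChart]
  have h2 : (chartEquiv ((pullback h).obj G) hW').symm (unitRes h G e m) =
      toChart ((pullback h).obj G) hW' (unitRes h G e m) := by
    rw [LinearEquiv.symm_apply_eq, chartEquiv_toChart]
  rw [h1, LinearEquiv.trans_apply, h2]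
  exact chain_toChart h G hW hW' e m

end Chart

end Groth.Agent.Lead.BCU
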