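import Mathlib
import Groth.Agent.Lib.Lead.BCU3
import Groth.Agent.Lib.Helper1.PushQc

/-!
# Affine base change for quasi-coherent modules (lead)
-/

set_option autoImplicit false
universe u
open CategoryTheory AlgebraicGeometry TopologicalSpace TensorProduct
set_option backward.isDefEq.respectTransparency.types false

namespace Groth.Agent.Lead.BCU

open Scheme.Modules Groth.Agent.Lead.CIU

/-- a morphism of modules which is bijective on sections over arbitrarily small neighbourhoods of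
every point is an isomorphism -/
theorem isIso_of_bijective_nhds {X : Scheme.{u}} {M N : X.Modules} (φ : M ⟶ N)
    (hb : ∀ (U : X.Opens) (x : X), x ∈ U → ∃ V : X.Opens, V ≤ U ∧ x ∈ V ∧
      Function.Bijective (φ.app V)) : IsIso φ := by
  refine Groth.Agent.Helper1.PF7.isIso_of_locally _ ?_ ?_
  · intro U t ht x hx
    obtain ⟨V, hVU, hxV, hbV⟩ := hb U x hx
    refine ⟨V, hVU, hxV, ?_⟩
    apply hbV.1
    rw [hom_naturality_apply _ hVU t, ht, map_zero, map_zero]
  · intro U σ x hx
    obtain ⟨V, hVU, hxV, hbV⟩ := hb U x hx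
    exact ⟨V, hVU, hxV, hbV.2 _⟩

section Core

variable {X S X' S' : Scheme.{u}} (f : X ⟶ S) (g : S' ⟶ S) (g' : X' ⟶ X) (f' : X' ⟶ S')
  (h : IsPullback g' f' f g) (F : X.Modules)

/-- the morphism `f_* F ⟶ g_* f'_* g'^* F` -/
noncomputable def vMap : (pushforward f).obj F ⟶
    (pushforward g).obj ((pushforward f').obj ((pullback g').obj F)) :=
  (pushforward f).map ((pullbackPushforwardAdjunction g').unit.app F) ≫
    (pushforwardComp g' f).hom.app ((pullback g').obj F) ≫
    (pushforwardCongr h.w).hom.app ((pullback g').obj F) ≫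
    (pushforwardComp f' g).inv.app ((pullback g').obj F)

/-- the base change morphism `g^* f_* F ⟶ f'_* g'^* F` -/
noncomputable def bcMap : (pullback g).obj ((pushforward f).obj F) ⟶
    (pushforward f').obj ((pullback g').obj F) :=
  ((pullbackPushforwardAdjunction g).homEquiv _ _).symm (vMap f g g' f' h F)

include h in
theorem preimage_le {V : S.Opens} {V' : S'.Opens} (eV : V' ≤ g ⁻¹ᵁ V) :
    f' ⁻¹ᵁ V' ≤ g' ⁻¹ᵁ (f ⁻¹ᵁ V) := by
  intro x hx
  have h1 : f' x ∈ g ⁻¹ᵁ V := eV hx
  have h2 : (f' ≫ g) x ∈ V := h1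
  rw [← h.w] at h2
  exact h2

theorem bcMap_unitRes {V : S.Opens} {V' : S'.Opens} (eV : V' ≤ g ⁻¹ᵁ V)
    (m : Γ((pushforward f).obj F, V)) :
    (bcMap f g g' f' h F).app V' (unitRes g ((pushforward f).obj F) eV m) =
      unitRes g' F (preimage_le f g g' f' h eV) m := by
  have e1 : (pullbackPushforwardAdjunction g).unit.app ((pushforward f).obj F) ≫
      (pushforward g).map (bcMap f g g' f' h F) = vMap f g g' f' h F := by
    have h0 := (pullbackPushforwardAdjunction g).homEquiv_unit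
      (f := bcMap f g g' f' h F)
    rw [← h0]
    exact Equiv.apply_symm_apply _ _
  have e2 := congrArg (fun φ => Hom.app φ V) e1
  have e3 := congrArg (fun φ => φ m) e2
  have e4 := app_res (bcMap f g g' f' h F) eV
    (((pullbackPushforwardAdjunction g).unit.app ((pushforward f).obj F)).app V m)
  unfold unitRes
  refine e4.trans ?_
  have e5 : (bcMap f g g' f' h F).app (g ⁻¹ᵁ V)
      (((pullbackPushforwardAdjunction g).unit.app ((pushforward f).obj F)).app V m) =
      (vMap f g g' f' h F).app V m := e3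
  rw [e5]
  have e6 : (vMap f g g' f' h F).app V m =
      ((pullback g').obj F).presheaf.map (eqToHom (by
        show (f' ≫ g) ⁻¹ᵁ V = (g' ≫ f) ⁻¹ᵁ V
        rw [h.w])).op
        (((pullbackPushforwardAdjunction g').unit.app F).app (f ⁻¹ᵁ V) m) := by
    unfold vMap
    simp only [Hom.comp_app, pushforward_map_app, pushforwardComp_hom_app_app,
      pushforwardComp_inv_app_app, pushforwardCongr_hom_app_app]
    rfl
  rw [e6]
  change ((pullback g').obj F).presheaf.map ((Opens.map f'.base).map (homOfLE eV)).op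
    (((pullback g').obj F).presheaf.map (eqToHom _).op _) = _
  rw [← ConcreteCategory.comp_apply, ← Functor.map_comp]
  rfl

include h in
/-- the coordinate rings of the affine opens of a cartesian square with affine vertical maps form a
pushout square -/
theorem isPushout_appLE [IsAffineHom f] {V : S.Opens} {V' : S'.Opens} (hV : IsAffineOpen V)
    (hV' : IsAffineOpen V') (eV : V' ≤ g ⁻¹ᵁ V) :
    IsPushout (g.appLE V V' eV) (f.appLE V (f ⁻¹ᵁ V) le_rfl)
      (f'.appLE V' (f' ⁻¹ᵁ V') le_rfl)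
      (g'.appLE (f ⁻¹ᵁ V) (f' ⁻¹ᵁ V') (preimage_le f g g' f' h eV)) := by
  have hUX : IsAffineOpen (f ⁻¹ᵁ V) := hV.preimage f
  have hUY : f' ⁻¹ᵁ V' = g' ⁻¹ᵁ (f ⁻¹ᵁ V) ⊓ f' ⁻¹ᵁ V' :=
    (inf_eq_right.2 (preimage_le f g g' f' h eV)).symm
  haveI := isIso_pushoutSection_of_isAffineOpen h eV (le_refl (f ⁻¹ᵁ V)) hUY hV hV' hUX
  exact ((isIso_pushoutSection_iff h eV (le_refl (f ⁻¹ᵁ V)) hUY).1 inferInstance).flip

include h in
theorem bijective_bcMap_app [IsAffineHom f] [F.IsQuasicoherent] {V : S.Opens} {V' : S'.Opens}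
    (hV : IsAffineOpen V) (hV' : IsAffineOpen V') (eV : V' ≤ g ⁻¹ᵁ V) :
    Function.Bijective ((bcMap f g g' f' h F).app V') := by
  haveI : IsAffineHom f' := MorphismProperty.of_isPullback h inferInstance
  have hUX : IsAffineOpen (f ⁻¹ᵁ V) := hV.preimage f
  have hUX' : IsAffineOpen (f' ⁻¹ᵁ V') := hV'.preimage f'
  haveI : ((pushforward f).obj F).IsQuasicoherent :=
    Groth.Agent.Helper1.PushQc.isQuasicoherent_pushforward f F
  have h1 := isBC_unitRes g ((pushforward f).obj F) hV hV' eV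
  have h2 := isBC_unitRes g' F hUX hUX' (preimage_le f g g' f' h eV)
  have hpo := isPushout_appLE f g g' f' h hV hV' eV
  exact @bijective_of_isBC_pushout Γ(S, V) Γ(S', V') Γ(X, f ⁻¹ᵁ V) Γ(X', f' ⁻¹ᵁ V') _ _ _ _
    (g.appLE V V' eV).hom
    (g'.appLE (f ⁻¹ᵁ V) (f' ⁻¹ᵁ V') (preimage_le f g g' f' h eV)).hom
    (f.appLE V (f ⁻¹ᵁ V) le_rfl).hom (f'.appLE V' (f' ⁻¹ᵁ V') le_rfl).hom hpo
    Γ(F, f ⁻¹ᵁ V) Γ((pullback g).obj ((pushforward f).obj F), V')
    Γ((pullback g').obj F, f' ⁻¹ᵁ V') _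
    (inferInstance : Module Γ(S, V) Γ((pushforward f).obj F, V)) _
    (fun r m => by
      rw [← Scheme.Hom.app_eq_appLE]
      rfl) _ _ _ _ _ _ h1 h2
    ((bcMap f g g' f' h F).app V').hom
    (fun r' n => by
      rw [← Scheme.Hom.app_eq_appLE]
      exact Hom.app_smul (bcMap f g g' f' h F) r' n)
    (fun m => bcMap_unitRes f g g' f' h F eV m)

include h in
/-- **affine base change**: the base change morphism `g^* f_* F ⟶ f'_* g'^* F` of a cartesian square
with `f` affine and `F` quasi-coherent is an isomorphism -/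
theorem isIso_bcMap [IsAffineHom f] [F.IsQuasicoherent] : IsIso (bcMap f g g' f' h F) := by
  apply isIso_of_bijective_nhds
  intro U x hx
  obtain ⟨_, ⟨V, hV, rfl⟩, hxV, -⟩ :=
    S.isBasis_affineOpens.exists_subset_of_mem_open (Set.mem_univ (g x)) isOpen_univ
  obtain ⟨_, ⟨V', hV', rfl⟩, hxV', hle⟩ :=
    S'.isBasis_affineOpens.exists_subset_of_mem_open
      (show x ∈ (U ⊓ g ⁻¹ᵁ V : S'.Opens) from ⟨hx, hxV⟩) (U ⊓ g ⁻¹ᵁ V).2
  exact ⟨V', fun y hy => (hle hy).1, hxV',
    bijective_bcMap_app f g g' f' h F hV hV' (fun y hy => (hle hy).2)⟩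

end Core

end Groth.Agent.Lead.BCU
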