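import Mathlib
import Groth.Prelude
import Groth.Agent.Lib.Lead.PuncAff2

set_option autoImplicit false
set_option backward.isDefEq.respectTransparency.types false
set_option synthInstance.maxHeartbeats 400000
set_option linter.style.haveILetI false
set_option linter.unusedSectionVars false

universe u

open CategoryTheory CategoryTheory.Limits AlgebraicGeometry TopologicalSpace IsLocalRing Opposite

namespace Groth.Agent.Lead.PuncAff

/-- in a Noetherian quasi-sober space, a point in the closure of an open set is a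
specialization of a point of the set (variant of a lemma of helper4's `RatSection3`) -/
theorem exists_specializes_of_mem_closure_top {N : Type*} [TopologicalSpace N] [NoetherianSpace N]
    [QuasiSober N] (O : Set N) (hO : IsOpen O) (x : N)
    (hx : x ∈ closure O) : ∃ b ∈ O, b ⤳ x := by
  obtain ⟨S, hSfin, hScl, hSirr, hCS⟩ :=
    NoetherianSpace.exists_finite_set_isClosed_irreducible (isClosed_univ (X := N))
  have hO' : O = ⋃ t ∈ S, O ∩ t := by
    rw [← Set.inter_iUnion₂, ← Set.sUnion_eq_biUnion, ← hCS, Set.inter_univ]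
  rw [hO', hSfin.closure_biUnion] at hx
  simp only [Set.mem_iUnion] at hx
  obtain ⟨t, htS, hxt⟩ := hx
  obtain ⟨η, hη⟩ := QuasiSober.sober (hSirr t htS) (hScl t htS)
  have hne : (O ∩ t).Nonempty := by
    by_contra hcon
    rw [Set.not_nonempty_iff_eq_empty] at hcon
    rw [hcon, closure_empty] at hxt
    exact hxt
  have hηO : η ∈ O := (hη.mem_open_set_iff hO).mpr (by rwa [Set.inter_comm])
  refine ⟨η, hηO, ?_⟩
  have h1 : x ∈ t := by
    have := closure_mono (Set.inter_subset_right : O ∩ t ⊆ t) hxt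
    rwa [(hScl t htS).closure_eq] at this
  exact hη.specializes h1

theorem exists_specializes_of_mem_closure {X : Scheme.{u}} [IsLocallyNoetherian X] (O : X.Opens)
    (x : X) (hx : x ∈ closure (O : Set X)) :
    ∃ b ∈ (O : Set X), b ⤳ x := by
  obtain ⟨N, hN, hxN, -⟩ := exists_isAffineOpen_mem_and_subset (U := ⊤) (x := x) (by simp)
  haveI : IsNoetherianRing Γ(X, N) := IsLocallyNoetherian.component_noetherian ⟨N, hN⟩
  haveI : NoetherianSpace N := noetherianSpace_of_isAffineOpen N hN
  haveI : QuasiSober N := inferInstanceAs (QuasiSober (N : Scheme.{u}))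
  have hx' : (⟨x, hxN⟩ : N) ∈ closure (N.ι ⁻¹' (O : Set X)) := by
    rw [← N.ι.isOpenEmbedding.isOpenMap.preimage_closure_eq_closure_preimage
      N.ι.continuous]
    exact hx
  obtain ⟨b, hbO, hb⟩ := exists_specializes_of_mem_closure_top _
    (O.isOpen.preimage N.ι.continuous) _ hx'
  exact ⟨N.ι b, hbO, hb.map N.ι.continuous⟩

theorem one_le_dim_stalk_of_specializes (X : Scheme.{u}) (η ξ : X) (h : η ⤳ ξ) (hne : η ≠ ξ) :
    1 ≤ ringKrullDim (X.presheaf.stalk ξ) := by
  have hb' : η ∈ Set.range (X.fromSpecStalk ξ) := by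
    rw [Scheme.range_fromSpecStalk]; exact h
  obtain ⟨𝔮, rfl⟩ := hb'
  have hle : 𝔮.asIdeal ≤ IsLocalRing.maximalIdeal (X.presheaf.stalk ξ) :=
    IsLocalRing.le_maximalIdeal 𝔮.2.ne_top
  have hne' : 𝔮 ≠ IsLocalRing.closedPoint (X.presheaf.stalk ξ) := by
    intro h'
    apply hne
    rw [h']
    exact Scheme.fromSpecStalk_closedPoint (X := X) (x := ξ)
  rw [ringKrullDim, Order.one_le_krullDim_iff]
  refine ⟨𝔮, IsLocalRing.closedPoint (X.presheaf.stalk ξ), lt_of_le_of_ne ?_ hne'⟩
  exact hle

theorem S12210_main (X : Scheme.{u}) [IsLocallyNoetherian X]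
    (U : X.Opens) [IsAffineHom U.ι] (ξ : X) (hξ : ξ ∉ U) (hgen : ∀ y : X, y ∉ U → y ⤳ ξ → y = ξ)
    (hcl : ξ ∈ closure (U : Set X)) :
    ringKrullDim (X.presheaf.stalk ξ) = 1 := by
  refine le_antisymm (S2851_main X U ξ hξ hgen) ?_
  obtain ⟨b, hbU, hb⟩ := exists_specializes_of_mem_closure U ξ hcl
  refine one_le_dim_stalk_of_specializes X b ξ hb ?_
  rintro rfl
  exact hξ hbU

end Groth.Agent.Lead.PuncAff
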