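import Mathlib

set_option autoImplicit false
universe w w' v v' u u'
open CategoryTheory CategoryTheory.Limits

namespace Groth.Agent.Lead.QB

variable {C : Type u'} [Category.{v'} C] {J : GrothendieckTopology C}
  (R : Sheaf J RingCat.{u}) [HasSheafify J AddCommGrpCat.{v}]
  [J.WEqualsLocallyBijective AddCommGrpCat.{v}]

section

variable {K : Type w} [Category.{w'} K]

/-- the forgetful functor from sheaves of modules to abelian sheaves preserves colimits -/
theorem preservesColimit_toSheaf (D : K ⥤ SheafOfModules.{v} R)
    [HasColimit (D ⋙ SheafOfModules.forget R ⋙ PresheafOfModules.restrictScalars (𝟙 R.obj))]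
    [PreservesColimit (D ⋙ SheafOfModules.forget R ⋙ PresheafOfModules.restrictScalars (𝟙 R.obj))
      (PresheafOfModules.toPresheaf R.obj)] :
    PreservesColimit D (SheafOfModules.toSheaf.{v} R) := by
  let S := PresheafOfModules.sheafification.{v} (𝟙 R.obj)
  let adj := PresheafOfModules.sheafificationAdjunction.{v} (𝟙 R.obj)
  let D₀ := D ⋙ SheafOfModules.forget R ⋙ PresheafOfModules.restrictScalars (𝟙 R.obj)
  have e : D₀ ⋙ S ≅ D :=
    Functor.associator _ _ _ ≪≫ Functor.isoWhiskerLeft D (asIso adj.counit) ≪≫ D.rightUnitor
  have h1 : PreservesColimit (D₀ ⋙ S) (SheafOfModules.toSheaf.{v} R) := by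
    have hc : IsColimit (S.mapCocone (colimit.cocone D₀)) :=
      isColimitOfPreserves S (colimit.isColimit D₀)
    refine preservesColimit_of_preserves_colimit_cocone hc ?_
    have h2 : PreservesColimit D₀ (S ⋙ SheafOfModules.toSheaf.{v} R) := by
      change PreservesColimit D₀ (PresheafOfModules.toPresheaf _ ⋙ presheafToSheaf J AddCommGrpCat)
      infer_instance
    exact isColimitOfPreserves (S ⋙ SheafOfModules.toSheaf.{v} R) (colimit.isColimit D₀)
  exact preservesColimit_of_iso_diagram _ e

end

end Groth.Agent.Lead.QB

namespace Groth.Agent.Lead.QB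

variable {C : Type u'} [Category.{v'} C] {J : GrothendieckTopology C}
  {R R' : Sheaf J RingCat.{u}} (α : R ⟶ R') [HasSheafify J AddCommGrpCat.{v}]
  [J.WEqualsLocallyBijective AddCommGrpCat.{v}]

example : SheafOfModules.restrictScalars.{v} α ⋙ SheafOfModules.toSheaf.{v} R =
    SheafOfModules.toSheaf.{v} R' := rfl

section
variable {K : Type w} [Category.{w'} K] [HasColimitsOfShape K AddCommGrpCat.{v}]

instance : PreservesColimitsOfShape K (SheafOfModules.toSheaf.{v} R) where
  preservesColimit {D} := preservesColimit_toSheaf R D

instance : PreservesColimitsOfShape K (SheafOfModules.restrictScalars.{v} α) where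
  preservesColimit {D} := by
    have h1 : PreservesColimit D (SheafOfModules.restrictScalars.{v} α ⋙
        SheafOfModules.toSheaf.{v} R) := by
      change PreservesColimit D (SheafOfModules.toSheaf.{v} R')
      infer_instance
    have h2 : ReflectsColimit (D ⋙ SheafOfModules.restrictScalars.{v} α)
        (SheafOfModules.toSheaf.{v} R) :=
      reflectsColimit_of_reflectsIsomorphisms _ _
    exact preservesColimit_of_reflects_of_preserves _ (SheafOfModules.toSheaf.{v} R)

end

end Groth.Agent.Lead.QB

namespace Groth.Agent.Lead.QB

variable {C : Type u'} [Category.{v'} C] {J : GrothendieckTopology C}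
  {R R' : Sheaf J RingCat.{u}} (α : R ⟶ R') [HasSheafify J AddCommGrpCat.{v}]
  [J.WEqualsLocallyBijective AddCommGrpCat.{v}]

instance : (SheafOfModules.restrictScalars.{v} α).Faithful := by
  have : (SheafOfModules.restrictScalars.{v} α ⋙ SheafOfModules.toSheaf.{v} R).Faithful := by
    change (SheafOfModules.toSheaf.{v} R').Faithful
    infer_instance
  exact Functor.Faithful.of_comp (SheafOfModules.restrictScalars.{v} α) (SheafOfModules.toSheaf.{v} R)

instance : (SheafOfModules.restrictScalars.{v} α).ReflectsIsomorphisms := by
  have : (SheafOfModules.restrictScalars.{v} α ⋙ SheafOfModules.toSheaf.{v} R).ReflectsIsomorphisms := by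
    change (SheafOfModules.toSheaf.{v} R').ReflectsIsomorphisms
    infer_instance
  exact reflectsIsomorphisms_of_comp (SheafOfModules.restrictScalars.{v} α) (SheafOfModules.toSheaf.{v} R)

noncomputable instance : PreservesFiniteLimits (SheafOfModules.restrictScalars.{v} α) := by
  have : PreservesFiniteLimits (SheafOfModules.restrictScalars.{v} α ⋙
      SheafOfModules.toSheaf.{v} R) := by
    change PreservesFiniteLimits (SheafOfModules.toSheaf.{v} R')
    infer_instance
  exact preservesFiniteLimits_of_reflects_of_preserves
    (SheafOfModules.restrictScalars.{v} α) (SheafOfModules.toSheaf.{v} R)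

end Groth.Agent.Lead.QB
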