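import Mathlib
import Groth.Agent.Lib.Helper1.QCohLib
import Groth.Agent.Lib.Helper1.QcAbel
import Groth.Agent.Lib.Helper5.Perf.LocalCoh

set_option autoImplicit false
universe u
open CategoryTheory CategoryTheory.Limits AlgebraicGeometry TopologicalSpace Opposite
set_option backward.isDefEq.respectTransparency.types false

namespace Groth.Agent.Lead.QB

set_option backward.isDefEq.respectTransparency false in
/-- coproducts of quasi-coherent modules on an affine spectrum are quasi-coherent -/
theorem isQuasicoherent_sigma_Spec {R : CommRingCat.{u}} {ι : Type u} (N : ι → (Spec R).Modules)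
    [∀ i, (N i).IsQuasicoherent] : (∐ N).IsQuasicoherent := by
  rw [isQuasicoherent_iff_isIso_fromTildeΓ, isIso_fromTildeΓ_iff]
  let P : ι → ModuleCat.{u} R := fun i => (moduleSpecΓFunctor (R := R)).obj (N i)
  have e1 : ∀ i, (tilde.functor R).obj (P i) ≅ N i := fun i =>
    haveI : IsIso (N i).fromTildeΓ := Scheme.Modules.isIso_fromTildeΓ_of_isQuasicoherent (N i)
    asIso (N i).fromTildeΓ
  have e2 : (∐ fun i => (tilde.functor R).obj (P i)) ≅ ∐ N :=
    Sigma.mapIso e1
  have e3 : (tilde.functor R).obj (∐ P) ≅ ∐ fun i => (tilde.functor R).obj (P i) :=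
    PreservesCoproduct.iso (tilde.functor R) P
  exact ⟨∐ P, ⟨e3 ≪≫ e2⟩⟩

end Groth.Agent.Lead.QB

namespace Groth.Agent.Lead.QB

open Groth.Agent.Helper1

set_option backward.isDefEq.respectTransparency false in
/-- arbitrary coproducts of quasi-coherent modules are quasi-coherent -/
theorem isQuasicoherent_sigma {X : Scheme.{u}} {ι : Type u} (M : ι → X.Modules)
    [∀ i, (M i).IsQuasicoherent] : (∐ M).IsQuasicoherent := by
  refine QCohLib.isQuasicoherent_of_affine_charts (∐ M) (I := X.affineOpens)
    (fun V => Γ(X, V.1)) (fun V => V.2.fromSpec) ?_ ?_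
  · simp only [IsAffineOpen.opensRange_fromSpec]
    exact iSup_affineOpens_eq_top X
  · intro V
    let j := V.2.fromSpec
    have e : (Scheme.Modules.restrictFunctor j).obj (∐ M) ≅
        ∐ fun i => (Scheme.Modules.restrictFunctor j).obj (M i) :=
      PreservesCoproduct.iso (Scheme.Modules.restrictFunctor j) M
    haveI : ∀ i, ((Scheme.Modules.restrictFunctor j).obj (M i)).IsQuasicoherent := fun i =>
      Scheme.Modules.isQuasicoherent_restrictFunctor j (M i)
    haveI : (∐ fun i => (Scheme.Modules.restrictFunctor j).obj (M i)).IsQuasicoherent :=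
      isQuasicoherent_sigma_Spec _
    haveI : ((Scheme.Modules.restrictFunctor j).obj (∐ M)).IsQuasicoherent :=
      QcAbel.isQuasicoherent_of_iso e.symm
    exact Scheme.Modules.isIso_fromTildeΓ_of_isQuasicoherent _

end Groth.Agent.Lead.QB
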