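import Mathlib
import Groth.Prelude.Def_Fitting
import Groth.Agent.Lib.Helper4.Fitting15

/-!
# Fitting ideals and finite projective modules of constant rank (lead)
-/

set_option autoImplicit false
universe u
set_option backward.isDefEq.respectTransparency.types false

namespace Groth.Agent.Lead.FittAlg

open Groth.Agent.Helper4.Fitting

variable {R : Type u} [CommRing R] (M : Type u) [AddCommGroup M] [Module R M]

/-- the local freeness condition of constant rank -/
def LocFreeRank (r : ℕ) : Prop :=
  ∀ (p : Ideal R) [p.IsPrime], ∃ f : R, f ∉ p ∧
    Module.Free (Localization.Away f) (LocalizedModule (Submonoid.powers f) M) ∧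
      Module.finrank (Localization.Away f) (LocalizedModule (Submonoid.powers f) M) = r

theorem locFreeRank_of_projective [Module.Finite R M] [Module.Projective R M] (r : ℕ)
    (hr : ∀ p : PrimeSpectrum R, Module.rankAtStalk M p = r) : LocFreeRank (R := R) M r := by
  intro p hp
  haveI : Module.FinitePresentation R M := Module.finitePresentation_of_projective R M
  haveI : Module.Projective (Localization.AtPrime p) (LocalizedModule p.primeCompl M) :=
    Module.projective_of_isLocalizedModule p.primeCompl (LocalizedModule.mkLinearMap p.primeCompl M)
  haveI : Module.Free (Localization.AtPrime p) (LocalizedModule p.primeCompl M) :=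
    Module.free_of_flat_of_isLocalRing
  obtain ⟨f, hf, hfree, hrank⟩ := Module.FinitePresentation.exists_free_localizedModule_powers
    p.primeCompl (LocalizedModule.mkLinearMap p.primeCompl M) (Localization.AtPrime p)
  refine ⟨f, hf, hfree, ?_⟩
  rw [hrank]
  exact hr ⟨p, hp⟩

theorem projective_of_locFreeRank [Module.Finite R M] (r : ℕ) (h : LocFreeRank (R := R) M r) :
    Module.Projective R M ∧ ∀ p : PrimeSpectrum R, Module.rankAtStalk M p = r := by
  let s : Set R := {f | Module.Free (Localization.Away f) (LocalizedModule (Submonoid.powers f) M) ∧
      Module.finrank (Localization.Away f) (LocalizedModule (Submonoid.powers f) M) = r}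
  have hs : Ideal.span s = ⊤ := by
    by_contra hne
    obtain ⟨m, hm, hle⟩ := Ideal.exists_le_maximal _ hne
    obtain ⟨f, hf, hfree, hrank⟩ := h m
    exact hf (hle (Ideal.subset_span ⟨hfree, hrank⟩))
  haveI : Module.FinitePresentation R M := by
    refine Module.FinitePresentation.of_localizationSpan s hs (fun g => ?_)
    haveI := g.2.1
    exact Module.finitePresentation_of_projective _ _
  constructor
  · apply Module.projective_of_localization_maximal
    intro I hI
    obtain ⟨f, hf, hfree, hrank⟩ := h I
    haveI := (free_atPrime_of_free_away r I f hf hfree hrank).1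
    infer_instance
  · intro p
    obtain ⟨f, hf, hfree, hrank⟩ := h p.asIdeal
    exact (free_atPrime_of_free_away r p.asIdeal f hf hfree hrank).2

theorem conditions_iff [Module.Finite R M] (r : ℕ) :
    (Module.Projective R M ∧ ∀ p : PrimeSpectrum R, Module.rankAtStalk M p = r) ↔
      ((∀ k, k < r → Fitt.ideal R M k = ⊥) ∧ (∀ k, r ≤ k → Fitt.ideal R M k = ⊤)) := by
  constructor
  · rintro ⟨hproj, hr⟩
    exact ideal_conditions_of_free r (locFreeRank_of_projective M r hr)
  · rintro ⟨h1, h2⟩
    exact projective_of_locFreeRank M r (fun p _ => free_of_ideal_conditions r h1 h2 p)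

end Groth.Agent.Lead.FittAlg
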