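import Mathlib
import Groth.Prelude.Def_Fitting
import Groth.Prelude.Def_Coh
import Groth.Prelude.Def_CohB1
import Groth.Agent.Lib.Lead.SD2
import Groth.Agent.Lib.Lead.FLF7
import Groth.Agent.Lib.Helper4.Fitting10

/-!
# Fitting ideal sheaves: affine values (lead)
-/

set_option autoImplicit false
universe u
open CategoryTheory CategoryTheory.Limits AlgebraicGeometry TopologicalSpace
set_option backward.isDefEq.respectTransparency.types false

namespace Groth.Agent.Lead.FittSh

open Scheme.Modules Groth.Agent.Lead.SD Groth.Agent.Helper4.Fitting TensorProduct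

variable {X : Scheme.{u}} (F : X.Modules)

attribute [local instance] Groth.Agent.Lead.SD.basicOpenModule

theorem fitt_map_basicOpen [F.IsQuasicoherent] {U : X.Opens} (hU : IsAffineOpen U)
    [Module.Finite Γ(X, U) Γ(F, U)] (r : ℕ) (f : Γ(X, U)) :
    (Fitt.ideal Γ(X, U) Γ(F, U) r).map (X.presheaf.map (homOfLE <| X.basicOpen_le f).op).hom =
      Fitt.ideal Γ(X, X.basicOpen f) Γ(F, X.basicOpen f) r := by
  have hbc := isBaseChange_res F hU f
  have h1 := ideal_congr (R := Γ(X, X.basicOpen f)) hbc.equiv r
  rw [← h1]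
  exact (ideal_baseChange (R := Γ(X, U)) (R' := Γ(X, X.basicOpen f)) (M := Γ(F, U)) r).symm

/-- Fitting ideals on affine opens form an ideal sheaf -/
noncomputable def fittData [F.IsQuasicoherent] (hft : CohB1.IsFT F) (r : ℕ) : X.IdealSheafData where
  ideal U := Fitt.ideal Γ(X, U.1) Γ(F, U.1) r
  map_ideal_basicOpen U f := by
    haveI := Groth.Agent.Lead.FLF.ft_sections F hft U.2
    exact fitt_map_basicOpen F U.2 r f

theorem sheafIdeal_eq [F.IsQuasicoherent] (hft : CohB1.IsFT F) (r : ℕ) :
    Fitt.sheafIdeal F r = fittData F hft r :=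
  Scheme.IdealSheafData.ofIdeals_ideal (fittData F hft r)

theorem sheafIdeal_ideal [F.IsQuasicoherent] (hft : CohB1.IsFT F) (r : ℕ) (U : X.affineOpens) :
    (Fitt.sheafIdeal F r).ideal U = Fitt.ideal Γ(X, U.1) Γ(F, U.1) r := by
  rw [sheafIdeal_eq F hft r]; rfl

/-- membership in the support of an ideal sheaf, in terms of the prime ideal of the point -/
theorem mem_support_iff_le (I : X.IdealSheafData) {U : X.Opens} (hU : IsAffineOpen U) (x : U) :
    x.1 ∈ I.support ↔ I.ideal ⟨U, hU⟩ ≤ (hU.primeIdealOf x).asIdeal := by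
  rw [Scheme.IdealSheafData.mem_support_iff_of_mem (U := ⟨U, hU⟩) x.2, Scheme.mem_zeroLocus_iff]
  constructor
  · intro h f hf
    by_contra hfp
    exact h f hf ((mem_basicOpen_iff hU x f).2 hfp)
  · intro h f hf hxf
    exact (mem_basicOpen_iff hU x f).1 hxf (h hf)

/-- the stalk is nonzero iff the prime is in the support of the sections -/
theorem subsingleton_stalk_iff [F.IsQuasicoherent] {U : X.Opens} (hU : IsAffineOpen U) (x : U) :
    Subsingleton (F.presheaf.stalk x.1) ↔
      hU.primeIdealOf x ∉ Module.support Γ(X, U) Γ(F, U) := by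
  letI := stalkModule F x
  haveI := isLocalizedModule_germ F hU x
  rw [Module.notMem_support_iff]
  exact (IsLocalizedModule.iso (hU.primeIdealOf x).asIdeal.primeCompl
    (germₗ F x)).toEquiv.subsingleton_congr.symm

end Groth.Agent.Lead.FittSh
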