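import Mathlib
import Groth.Prelude.Def_ClSub2
import Groth.Agent.Lib.Helper1.IdealModL
import Groth.Agent.Lib.Lead.BCU4

/-!
# The ideal sheaf as a module: basic structure (lead)
-/

set_option autoImplicit false
universe u
open CategoryTheory CategoryTheory.Limits AlgebraicGeometry TopologicalSpace Opposite
set_option backward.isDefEq.respectTransparency.types false

namespace Groth.Agent.Lead.IdM

open Groth.Agent.Helper1 Groth.Agent.Helper1.IdealModL Groth.Agent.Lead.CIU Groth.Agent.Lead.BCU

variable {X : Scheme.{u}} (I : X.IdealSheafData)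

lemma mem_range_ι_iff (U : X.Opens) (r : Γ(X, U)) :
    r ∈ Set.range ((ClSub.idealModι I).app U) ↔ (I.subschemeι.app U).hom r = 0 := by
  constructor
  · rintro ⟨y, rfl⟩
    exact toSubscheme_ι I U y
  · intro h
    exact exists_of_app_eq_zero I U r h

lemma range_ι_affine (U : X.affineOpens) :
    Set.range ((ClSub.idealModι I).app U.1) = (I.ideal U : Set Γ(X, U.1)) := by
  ext r
  refine (mem_range_ι_iff I U.1 r).trans ?_
  have h := I.ker_subschemeι_app U
  constructor
  · intro hr
    have : r ∈ RingHom.ker (I.subschemeι.app U.1).hom := hr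
    rw [h] at this
    exact this
  · intro hr
    have : r ∈ RingHom.ker (I.subschemeι.app U.1).hom := by rw [h]; exact hr
    exact this

/-- a morphism into the structure sheaf whose values on affine opens lie in the ideal composes to
zero with the quotient map -/
theorem comp_toSubscheme_eq_zero {M : X.Modules} (a : M ⟶ Coh.structureModule X)
    (hle : ∀ (U : X.affineOpens) (m : Γ(M, U.1)), a.app U.1 m ∈ I.ideal U) :
    a ≫ ClSub.toSubscheme I = 0 := by
  apply Scheme.Modules.hom_ext
  intro V
  ext m
  change (ClSub.toSubscheme I).app V (a.app V m) = 0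
  let J := {W : X.affineOpens // W.1 ≤ V}
  apply TopCat.Sheaf.eq_of_locally_eq'
    (⟨(ClSub.quotMod I).presheaf, (ClSub.quotMod I).isSheaf⟩ : TopCat.Sheaf Ab X)
    (fun W : J => W.1.1) V (fun W => homOfLE W.2)
  · intro x hx
    obtain ⟨_, ⟨W, hW, rfl⟩, hxW, hWV⟩ :=
      X.isBasis_affineOpens.exists_subset_of_mem_open hx V.2
    exact Opens.mem_iSup.2 ⟨⟨⟨W, hW⟩, hWV⟩, hxW⟩
  · rintro ⟨W, hW⟩
    change (ClSub.quotMod I).presheaf.map (homOfLE hW).op ((ClSub.toSubscheme I).app V (a.app V m)) =
      (ClSub.quotMod I).presheaf.map (homOfLE hW).op 0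
    rw [map_zero, ← hom_naturality_apply, ← hom_naturality_apply]
    have := hle W (M.presheaf.map (homOfLE hW).op m)
    rw [← I.ker_subschemeι_app W] at this
    exact this

/-- **criterion**: a module mapping injectively to the structure sheaf with image the ideal on every
affine open is the ideal sheaf -/
theorem exists_iso_of_range {M : X.Modules} (a : M ⟶ Coh.structureModule X)
    (hinj : ∀ U : X.affineOpens, Function.Injective (a.app U.1))
    (hrange : ∀ U : X.affineOpens, Set.range (a.app U.1) = (I.ideal U : Set Γ(X, U.1))) :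
    ∃ e : M ≅ ClSub.idealMod I, e.hom ≫ ClSub.idealModι I = a := by
  have hz : a ≫ ClSub.toSubscheme I = 0 := by
    apply comp_toSubscheme_eq_zero
    intro U m
    have : a.app U.1 m ∈ Set.range (a.app U.1) := ⟨m, rfl⟩
    rw [hrange U] at this
    exact this
  let k : M ⟶ ClSub.idealMod I := kernel.lift (ClSub.toSubscheme I) a hz
  have hk : k ≫ ClSub.idealModι I = a := kernel.lift_ι _ _ _
  have hkapp : ∀ (V : X.Opens) (m : Γ(M, V)), (ClSub.idealModι I).app V (k.app V m) = a.app V m := by
    intro V m
    rw [← hk]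
    rfl
  have : IsIso k := by
    apply isIso_of_bijective_nhds
    intro U x hx
    obtain ⟨_, ⟨V, hV, rfl⟩, hxV, hVU⟩ :=
      X.isBasis_affineOpens.exists_subset_of_mem_open hx U.2
    refine ⟨V, hVU, hxV, ?_, ?_⟩
    · intro m m' hmm
      apply hinj ⟨V, hV⟩
      change a.app V m = a.app V m'
      rw [← hkapp, ← hkapp, hmm]
    · intro y
      have : (ClSub.idealModι I).app V y ∈ Set.range ((ClSub.idealModι I).app V) := ⟨y, rfl⟩
      rw [range_ι_affine I ⟨V, hV⟩, ← hrange ⟨V, hV⟩] at this
      obtain ⟨m, hm⟩ := this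
      refine ⟨m, ?_⟩
      apply ι_injective I V
      rw [hkapp]
      exact hm
  exact ⟨asIso k, hk⟩

section Restrict

variable {Y : Scheme.{u}} (j : Y ⟶ X) [IsOpenImmersion j]

/-- the restriction of the inclusion of the ideal sheaf along an open immersion -/
noncomputable def restrictι : (ClSub.idealMod I).restrict j ⟶ Coh.structureModule Y :=
  (Scheme.Modules.restrictFunctor j).map (ClSub.idealModι I) ≫
    (Scheme.Modules.restrictUnitIso j).hom

lemma restrictι_app (V : Y.Opens) (m : Γ(ClSub.idealMod I, j ''ᵁ V)) :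
    (restrictι I j).app V m = (j.appIso V).hom ((ClSub.idealModι I).app (j ''ᵁ V) m) := rfl

/-- **the ideal sheaf restricts to the ideal sheaf of the restricted ideal** -/
theorem exists_restrictIso :
    ∃ e : (ClSub.idealMod I).restrict j ≅ ClSub.idealMod (I.comap j),
      e.hom ≫ ClSub.idealModι (I.comap j) = restrictι I j := by
  apply exists_iso_of_range
  · intro V m m' h
    change Γ(ClSub.idealMod I, j ''ᵁ V.1) at m m'
    rw [restrictι_app, restrictι_app] at h
    have h2 := (ConcreteCategory.bijective_of_isIso (j.appIso V.1).hom).1 h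
    exact ι_injective I _ h2
  · intro V
    rw [Scheme.IdealSheafData.ideal_comap_of_isOpenImmersion]
    have hW : IsAffineOpen (j ''ᵁ V.1) := IsAffineOpen.image_of_isOpenImmersion V.2 j
    ext r
    change r ∈ Set.range ((restrictι I j).app V.1) ↔
      (j.appIso V.1).inv.hom r ∈ I.ideal ⟨j ''ᵁ V.1, hW⟩
    constructor
    · rintro ⟨m, rfl⟩
      change Γ(ClSub.idealMod I, j ''ᵁ V.1) at m
      have : (ClSub.idealModι I).app (j ''ᵁ V.1) m ∈
          Set.range ((ClSub.idealModι I).app (j ''ᵁ V.1)) := ⟨m, rfl⟩
      rw [range_ι_affine I ⟨j ''ᵁ V.1, hW⟩] at this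
      have h3 : (j.appIso V.1).inv.hom ((restrictι I j).app V.1 m) =
          (ClSub.idealModι I).app (j ''ᵁ V.1) m := by
        rw [restrictι_app]
        exact congrArg (fun f => f.hom ((ClSub.idealModι I).app (j ''ᵁ V.1) m))
          (j.appIso V.1).hom_inv_id
      rw [h3]
      exact this
    · intro hr
      have : (j.appIso V.1).inv.hom r ∈
          Set.range ((ClSub.idealModι I).app (j ''ᵁ V.1)) := by
        rw [range_ι_affine I ⟨j ''ᵁ V.1, hW⟩]
        exact hr
      obtain ⟨m, hm⟩ := this
      refine ⟨m, ?_⟩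
      rw [restrictι_app, hm]
      exact congrArg (fun f => f.hom r) (j.appIso V.1).inv_hom_id

end Restrict

end Groth.Agent.Lead.IdM
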