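import Mathlib
import Groth.Prelude.Def_ClSub2
import Groth.Agent.Lib.Lead.IdM1
import Groth.Agent.Lib.Lead.TilT4

/-!
# The ideal sheaf as a module on an affine scheme (lead)
-/

set_option autoImplicit false
universe u
open CategoryTheory CategoryTheory.Limits AlgebraicGeometry TopologicalSpace Opposite
set_option backward.isDefEq.respectTransparency.types false

namespace Groth.Agent.Lead.IdM

open Groth.Agent.Helper1 Groth.Agent.Helper1.IdealModL Groth.Agent.Lead.CIU Groth.Agent.Lead.BCU
  Groth.Agent.Lead.TilT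

section General

variable {X : Scheme.{u}} (I : X.IdealSheafData)

/-- the inclusion of the ideal sheaf on sections, as a linear map into the ring of sections -/
noncomputable def ιL (U : X.Opens) : Γ(ClSub.idealMod I, U) →ₗ[Γ(X, U)] Γ(X, U) where
  toFun m := (ClSub.idealModι I).app U m
  map_add' m m' := map_add ((ClSub.idealModι I).app U).hom m m'
  map_smul' r m := by
    have := Scheme.Modules.Hom.app_smul (ClSub.idealModι I) r m
    exact this

lemma ιL_apply (U : X.Opens) (m : Γ(ClSub.idealMod I, U)) :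
    ιL I U m = (ClSub.idealModι I).app U m := rfl

lemma ιL_injective (U : X.Opens) : Function.Injective (ιL I U) := ι_injective I U

lemma range_ιL (U : X.affineOpens) : LinearMap.range (ιL I U.1) = I.ideal U := by
  apply SetLike.coe_injective
  exact range_ι_affine I U

lemma ιL_res {U V : X.Opens} (h : V ≤ U) (m : Γ(ClSub.idealMod I, U)) :
    ιL I V ((ClSub.idealMod I).presheaf.map (homOfLE h).op m) =
      (X.presheaf.map (homOfLE h).op).hom (ιL I U m) :=
  hom_naturality_apply (ClSub.idealModι I) h m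

end General

section Affine

variable {R : CommRingCat.{u}} (J : (Spec R).IdealSheafData)

/-- the ideal of `R` corresponding to an ideal sheaf on `Spec R` -/
noncomputable def idealOf : Ideal R :=
  (J.ideal ⟨⊤, isAffineOpen_top _⟩).comap (Scheme.ΓSpecIso R).inv.hom

/-- global sections of the ideal sheaf, mapped to `R` -/
noncomputable def toRing : Γ(ClSub.idealMod J, (⊤ : (Spec R).Opens)) →ₗ[R] R where
  toFun m := (Scheme.ΓSpecIso R).hom.hom (ιL J ⊤ m)
  map_add' m m' := by rw [map_add, map_add]
  map_smul' b m := by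
    rw [Scheme.Modules.smul_Spec_def, map_smul, smul_eq_mul, map_mul]
    show _ = b * _
    congr 1
    have h1 : (Spec R).presheaf.map (Opens.leTop (⊤ : (Spec R).Opens)).op = 𝟙 _ := by
      rw [show (Opens.leTop (⊤ : (Spec R).Opens)) = 𝟙 _ from Subsingleton.elim _ _, op_id]
      exact (Spec R).presheaf.map_id _
    rw [h1]
    exact congrArg (fun f => f.hom b) (Scheme.ΓSpecIso R).inv_hom_id

lemma toRing_apply (m : Γ(ClSub.idealMod J, (⊤ : (Spec R).Opens))) :
    toRing J m = (Scheme.ΓSpecIso R).hom.hom (ιL J ⊤ m) := rfl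

lemma toRing_injective : Function.Injective (toRing J) := by
  intro m m' h
  apply ιL_injective J ⊤
  exact (ConcreteCategory.bijective_of_isIso (Scheme.ΓSpecIso R).hom).1 h

lemma range_toRing : LinearMap.range (toRing J) = idealOf J := by
  ext r
  have hr := range_ιL J ⟨⊤, isAffineOpen_top _⟩
  constructor
  · rintro ⟨m, rfl⟩
    change (Scheme.ΓSpecIso R).inv.hom ((Scheme.ΓSpecIso R).hom.hom (ιL J ⊤ m)) ∈
      J.ideal ⟨⊤, isAffineOpen_top _⟩
    have h3 : (Scheme.ΓSpecIso R).inv.hom ((Scheme.ΓSpecIso R).hom.hom (ιL J ⊤ m)) = ιL J ⊤ m :=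
      congrArg (fun f => f.hom (ιL J ⊤ m)) (Scheme.ΓSpecIso R).hom_inv_id
    rw [h3, ← hr]
    exact ⟨m, rfl⟩
  · intro h
    change (Scheme.ΓSpecIso R).inv.hom r ∈ J.ideal ⟨⊤, isAffineOpen_top _⟩ at h
    rw [← hr] at h
    obtain ⟨m, hm⟩ := h
    refine ⟨m, ?_⟩
    rw [toRing_apply, hm]
    exact congrArg (fun f => f.hom r) (Scheme.ΓSpecIso R).inv_hom_id

/-- global sections of the ideal sheaf on `Spec R` are the ideal -/
noncomputable def sectionsEquiv :
    Γ(ClSub.idealMod J, (⊤ : (Spec R).Opens)) ≃ₗ[R] idealOf J :=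
  (LinearEquiv.ofInjective (toRing J) (toRing_injective J)).trans
    (LinearEquiv.ofEq _ _ (range_toRing J))

/-- **the ideal sheaf on an affine scheme is the module associated to the ideal** -/
noncomputable def tildeIso : ClSub.idealMod J ≅ tilde (ModuleCat.of R (idealOf J)) :=
  (asIso (ClSub.idealMod J).fromTildeΓ).symm ≪≫
    (tilde.functor R).mapIso (sectionsEquiv J).toModuleIso


theorem idealOf_ker {S : CommRingCat.{u}} (ψ : R ⟶ S) :
    idealOf (Spec.map ψ).ker = RingHom.ker ψ.hom := by
  ext r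
  unfold idealOf
  rw [Scheme.Hom.ker_apply, Ideal.mem_comap, RingHom.mem_ker, RingHom.mem_ker]
  have h := Scheme.ΓSpecIso_inv_naturality ψ
  have h2 : ((Spec.map ψ).app ⊤).hom ((Scheme.ΓSpecIso R).inv.hom r) =
      (Scheme.ΓSpecIso S).inv.hom (ψ.hom r) := by
    exact (congrArg (fun f => f.hom r) h).symm
  rw [h2]
  constructor
  · intro h3
    have h4 : (Scheme.ΓSpecIso S).inv.hom (ψ.hom r) = (Scheme.ΓSpecIso S).inv.hom 0 :=
      h3.trans (map_zero (Scheme.ΓSpecIso S).inv.hom).symm
    exact (ConcreteCategory.bijective_of_isIso (Scheme.ΓSpecIso S).inv).1 h4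
  · intro h3
    rw [h3]
    exact map_zero (Scheme.ΓSpecIso S).inv.hom

end Affine

end Groth.Agent.Lead.IdM
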