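import Mathlib
import Groth.Prelude.Def_RefHull
import Groth.Prelude.Def_TorSh
import Groth.Agent.Lib.Helper7.CohStalk.FiniteAss
import Groth.Agent.Lib.Helper7.CohStalk.QCoh

/-!
# The sheaf Hom of `RefHull`: basic lemmas, injectivity of evaluation on stalks (lead)
-/

set_option autoImplicit false
set_option backward.isDefEq.respectTransparency.types false
set_option synthInstance.maxHeartbeats 400000
set_option linter.style.haveILetI false
set_option linter.unusedSectionVars false
universe u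

open CategoryTheory CategoryTheory.Limits AlgebraicGeometry TopologicalSpace Opposite

namespace Groth.Agent.Lead.RH

open Groth.Agent.Helper7.FinType

variable {X : Scheme.{u}} {F G : X.Modules}

theorem hom_ext {U : X.Opens} (g g' : Γ(RefHull.homSh F G, U)) (h : ∀ x : U, g.1 x = g'.1 x) :
    g = g' := Subtype.ext (funext h)

@[simp] theorem map_apply {U V : X.Opens} (i : V ⟶ U) (g : Γ(RefHull.homSh F G, U)) (x : V) :
    ((RefHull.homSh F G).presheaf.map i.op g).1 x = g.1 ⟨x.1, i.le x.2⟩ := rfl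

@[simp] theorem smul_apply {U : X.Opens} (r : Γ(X, U)) (g : Γ(RefHull.homSh F G, U)) (x : U) :
    (r • g).1 x = X.presheaf.germ U x.1 x.2 r • g.1 x := rfl

@[simp] theorem add_apply {U : X.Opens} (g g' : Γ(RefHull.homSh F G, U)) (x : U) :
    (g + g').1 x = g.1 x + g'.1 x := rfl

@[simp] theorem zero_apply {U : X.Opens} (x : U) :
    (0 : Γ(RefHull.homSh F G, U)).1 x = 0 := rfl

/-- the germs of the sections over `V` span every stalk at the points of `V` -/
def SpanGerms (F : X.Modules) (V : X.Opens) : Prop :=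
  ∀ (y : X) (hy : y ∈ V), Submodule.span (X.presheaf.stalk y)
    (Set.range (F.presheaf.germ V y hy)) = ⊤

theorem spanGerms_of_isAffineOpen (hq : SheafOfModules.IsQuasicoherent.{u, u, u} F) {V : X.Opens}
    (hV : IsAffineOpen V) : SpanGerms F V := by
  intro y hy
  rw [eq_top_iff]
  intro v _
  obtain ⟨n, f, hf, e⟩ := exists_germ_smul_eq F hq hV y hy v
  have : v = (hf.unit⁻¹ : (X.presheaf.stalk y)ˣ) • F.presheaf.germ V y hy n := by
    rw [← e, Units.smul_def, smul_smul, IsUnit.val_inv_mul, one_smul]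
  rw [this]
  exact Submodule.smul_mem _ _ (Submodule.subset_span ⟨n, rfl⟩)

/-- finitely many sections over a neighbourhood generate all nearby stalks -/
theorem exists_finite_gen (hq : SheafOfModules.IsQuasicoherent.{u, u, u} F)
    (hft : SheafOfModules.IsFiniteType.{u, u, u} F) (x : X) :
    ∃ (V : X.Opens) (_ : x ∈ V) (_ : IsAffineOpen V) (n : ℕ) (m : Fin n → Γ(F, V)),
      Submodule.span Γ(X, V) (Set.range m) = ⊤ ∧
      ∀ (y : X) (hy : y ∈ V), Submodule.span (X.presheaf.stalk y)
        (Set.range fun i => F.presheaf.germ V y hy (m i)) = ⊤ := by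
  obtain ⟨W, hxW, hW⟩ := exists_generators_of_le F hft x
  obtain ⟨_, ⟨V, hV, rfl⟩, hxV, hVW⟩ := X.isBasis_affineOpens.exists_subset_of_mem_open hxW W.2
  obtain ⟨Gs, hGs⟩ := hW V hVW
  haveI := hGs
  haveI : Module.Finite Γ(X, V) Γ(F, V) := finite_sections_of_generators F hq hV Gs
  obtain ⟨n, m, hm⟩ := Module.Finite.exists_fin (R := Γ(X, V)) (M := Γ(F, V))
  refine ⟨V, hxV, hV, n, m, hm, fun y hy => ?_⟩
  rw [eq_top_iff, ← spanGerms_of_isAffineOpen hq hV y hy, Submodule.span_le]
  rintro _ ⟨s, rfl⟩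
  have hs : s ∈ Submodule.span Γ(X, V) (Set.range m) := by rw [hm]; trivial
  induction hs using Submodule.span_induction with
  | mem s hs =>
    obtain ⟨i, rfl⟩ := hs
    exact Submodule.subset_span ⟨i, rfl⟩
  | zero => rw [map_zero]; exact Submodule.zero_mem _
  | add a b _ _ ha hb => rw [map_add]; exact Submodule.add_mem _ ha hb
  | smul r a _ ha =>
    have := Mero.germ_smul F V y hy r a
    rw [SetLike.mem_coe, this]
    exact Submodule.smul_mem _ _ ha


/-- a section of the sheaf Hom which vanishes at `x` as a map of stalks vanishes near `x`, when the source is of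
finite type -/
theorem exists_res_eq_zero (hq : SheafOfModules.IsQuasicoherent.{u, u, u} F)
    (hft : SheafOfModules.IsFiniteType.{u, u, u} F) {U : X.Opens} (g : Γ(RefHull.homSh F G, U))
    (x : X) (hx : x ∈ U) (h0 : g.1 ⟨x, hx⟩ = 0) :
    ∃ (W : X.Opens) (_ : x ∈ W) (i : W ⟶ U), (RefHull.homSh F G).presheaf.map i.op g = 0 := by
  obtain ⟨V, hxV, -, n, m, -, hm⟩ := exists_finite_gen hq hft x
  have key : ∀ i : Fin n, ∃ (W : X.Opens), x ∈ W ∧ W ≤ V ⊓ U ∧ ∀ (y : X) (hy : y ∈ W) (hyV : y ∈ V)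
      (hyU : y ∈ U), g.1 ⟨y, hyU⟩ (F.presheaf.germ V y hyV (m i)) = 0 := by
    intro i
    obtain ⟨W, hxW, j, t, ht⟩ := RefHull.isLocSect_of_mem g (V ⊓ U) (homOfLE inf_le_right)
      (F.presheaf.map (homOfLE (inf_le_left : V ⊓ U ≤ V)).op (m i)) ⟨x, hxV, hx⟩
    have e := ht ⟨x, hxW⟩
    rw [TopCat.Presheaf.germ_res_apply] at e
    have e0 : G.presheaf.germ W x hxW t = 0 := by
      rw [← e]
      have : g.1 ⟨x, (homOfLE (inf_le_right : V ⊓ U ≤ U)).le (j.le hxW)⟩ = 0 := h0
      rw [this, LinearMap.zero_apply]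
    obtain ⟨W', hxW', iW, _, e'⟩ := TopCat.Presheaf.germ_eq G.presheaf x hxW hxW t 0
      (by rw [e0, map_zero])
    rw [map_zero] at e'
    refine ⟨W', hxW', iW.le.trans j.le, fun y hy hyV hyU => ?_⟩
    have e2 := ht ⟨y, iW.le hy⟩
    rw [TopCat.Presheaf.germ_res_apply] at e2
    rw [e2, ← TopCat.Presheaf.germ_res_apply G.presheaf iW y hy t, e', map_zero]
  choose W hxW hWle hW using key
  let W0 : X.Opens := ⟨⋂ i, (W i : Set X), isOpen_iInter_of_finite fun i => (W i).2⟩
  have hW0 : ∀ y, y ∈ W0 ↔ ∀ i, y ∈ W i := fun y => Set.mem_iInter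
  have hxW0 : x ∈ W0 ⊓ (V ⊓ U) := ⟨(hW0 x).2 hxW, hxV, hx⟩
  refine ⟨W0 ⊓ (V ⊓ U), hxW0, homOfLE (inf_le_right.trans inf_le_right), hom_ext _ _ fun y => ?_⟩
  rw [map_apply, zero_apply]
  refine LinearMap.ext_on_range (hm y.1 y.2.2.1) fun i => ?_
  rw [LinearMap.zero_apply]
  exact hW i y.1 ((hW0 y.1).1 y.2.1 i) y.2.2.1 _

/-- evaluation at a point of the germs of the sheaf Hom is injective when the source is quasi-coherent of finite
type -/
theorem evalStalk_injective (hq : SheafOfModules.IsQuasicoherent.{u, u, u} F)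
    (hft : SheafOfModules.IsFiniteType.{u, u, u} F) (x : X) :
    Function.Injective (RefHull.evalStalk F G x) := by
  rw [injective_iff_map_eq_zero]
  intro θ hθ
  obtain ⟨U, hx, g, rfl⟩ := TopCat.Presheaf.exists_germ_eq (RefHull.homSh F G).presheaf θ
  rw [RefHull.evalStalk_germ] at hθ
  obtain ⟨W, hxW, i, e⟩ := exists_res_eq_zero hq hft g x hx hθ
  rw [← TopCat.Presheaf.germ_res_apply (RefHull.homSh F G).presheaf i x hxW g, e, map_zero]

theorem isTorsionFree_homSh (hq : SheafOfModules.IsQuasicoherent.{u, u, u} F)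
    (hft : SheafOfModules.IsFiniteType.{u, u, u} F) (hG : TorSh.IsTorsionFree G) :
    TorSh.IsTorsionFree (RefHull.homSh F G) := by
  intro x
  haveI := hG x
  haveI : Module.IsTorsionFree (X.presheaf.stalk x) (RefHull.StalkHom F G x) :=
    ⟨fun r hr φ ψ h => LinearMap.ext fun v => hr.isSMulRegular (M := G.presheaf.stalk x) (by
      have := congrArg (fun f : RefHull.StalkHom F G x => f v) h
      simpa using this)⟩
  exact Function.Injective.moduleIsTorsionFree (RefHull.evalStalk F G x)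
    (evalStalk_injective hq hft x) (fun r m => map_smul _ r m)

end Groth.Agent.Lead.RH
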