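import Mathlib
import Groth.Prelude.Def_RefHull
import Groth.Agent.Lib.Lead.RH1
import Groth.Agent.Lib.Lead.SD1
import Groth.Agent.Lib.Lead.SD2
import Groth.Agent.Lib.Helper1.TwistSec

/-!
# The sheaf Hom of `RefHull`: sections give maps on sections; gluing from germs (lead)
-/

set_option autoImplicit false
set_option backward.isDefEq.respectTransparency.types false
set_option synthInstance.maxHeartbeats 400000
set_option linter.style.haveILetI false
set_option linter.unusedSectionVars false
universe u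

open CategoryTheory CategoryTheory.Limits AlgebraicGeometry TopologicalSpace Opposite

namespace Groth.Agent.Lead.RH

open Groth.Agent.Helper1.QcCech

variable {X : Scheme.{u}} {F G : X.Modules}

theorem section_ext (M : X.Modules) {V : X.Opens} (s t : Γ(M, V))
    (h : ∀ (y : X) (hy : y ∈ V), M.presheaf.germ V y hy s = M.presheaf.germ V y hy t) : s = t :=
  TopCat.Presheaf.section_ext (⟨M.presheaf, M.isSheaf⟩ : TopCat.Sheaf Ab X) V s t h

/-- gluing a section from a family of germs which is locally given by sections -/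
theorem exists_section_of_germs (M : X.Modules) (V : X.Opens) (t : ∀ y : V, M.presheaf.stalk y.1)
    (h : ∀ x : V, ∃ (W : X.Opens) (_ : x.1 ∈ W) (hW : W ≤ V) (n : Γ(M, W)),
      ∀ y : W, t ⟨y.1, hW y.2⟩ = M.presheaf.germ W y.1 y.2 n) :
    ∃ n : Γ(M, V), ∀ y : V, M.presheaf.germ V y.1 y.2 n = t y := by
  choose W hxW hW n hn using h
  have hcov : V ≤ ⨆ x, W x := fun y hy => Opens.mem_iSup.2 ⟨⟨y, hy⟩, hxW ⟨y, hy⟩⟩
  obtain ⟨s, hs⟩ := Groth.Agent.Helper1.TwistSec.glue_of_compatible M W V hW hcov n (by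
    intro x x'
    apply section_ext
    intro y hy
    change M.presheaf.germ _ y hy (M.presheaf.map (homOfLE _).op (n x)) =
      M.presheaf.germ _ y hy (M.presheaf.map (homOfLE _).op (n x'))
    rw [TopCat.Presheaf.germ_res_apply, TopCat.Presheaf.germ_res_apply,
      ← hn x ⟨y, hy.1⟩, ← hn x' ⟨y, hy.2⟩])
  refine ⟨s, fun y => ?_⟩
  have e := hs y
  have e2 := congrArg (M.presheaf.germ (W y) y.1 (hxW y)) e
  change M.presheaf.germ _ y.1 (hxW y) (M.presheaf.map (homOfLE _).op s) = _ at e2
  rw [TopCat.Presheaf.germ_res_apply] at e2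
  rw [e2, ← hn y ⟨y.1, hxW y⟩]

/-- the value of a section of the sheaf Hom on a section of the source -/
noncomputable def app {U : X.Opens} (g : Γ(RefHull.homSh F G, U)) {V : X.Opens} (i : V ≤ U)
    (m : Γ(F, V)) : Γ(G, V) :=
  (exists_section_of_germs G V (fun y => g.1 ⟨y.1, i y.2⟩ (F.presheaf.germ V y.1 y.2 m))
    (fun x => by
      obtain ⟨W, hxW, j, n, hn⟩ := RefHull.isLocSect_of_mem g V (homOfLE i) m x
      exact ⟨W, hxW, j.le, n, fun y => hn y⟩)).choose

theorem germ_app {U : X.Opens} (g : Γ(RefHull.homSh F G, U)) {V : X.Opens} (i : V ≤ U)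
    (m : Γ(F, V)) (y : X) (hy : y ∈ V) :
    G.presheaf.germ V y hy (app g i m) = g.1 ⟨y, i hy⟩ (F.presheaf.germ V y hy m) :=
  (exists_section_of_germs G V (fun y => g.1 ⟨y.1, i y.2⟩ (F.presheaf.germ V y.1 y.2 m))
    (fun x => by
      obtain ⟨W, hxW, j, n, hn⟩ := RefHull.isLocSect_of_mem g V (homOfLE i) m x
      exact ⟨W, hxW, j.le, n, fun y => hn y⟩)).choose_spec ⟨y, hy⟩

theorem app_add {U : X.Opens} (g : Γ(RefHull.homSh F G, U)) {V : X.Opens} (i : V ≤ U)
    (m m' : Γ(F, V)) : app g i (m + m') = app g i m + app g i m' := by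
  apply section_ext
  intro y hy
  rw [map_add, germ_app, germ_app, germ_app, map_add, map_add]

theorem app_smul {U : X.Opens} (g : Γ(RefHull.homSh F G, U)) {V : X.Opens} (i : V ≤ U)
    (r : Γ(X, V)) (m : Γ(F, V)) : app g i (r • m) = r • app g i m := by
  apply section_ext
  intro y hy
  rw [germ_app, Mero.germ_smul, Mero.germ_smul, germ_app, map_smul]

theorem app_res {U : X.Opens} (g : Γ(RefHull.homSh F G, U)) {V V' : X.Opens} (i : V ≤ U)
    (j : V' ≤ V) (m : Γ(F, V)) :
    G.presheaf.map (homOfLE j).op (app g i m) = app g (j.trans i) (F.presheaf.map (homOfLE j).op m) := by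
  apply section_ext
  intro y hy
  rw [TopCat.Presheaf.germ_res_apply, germ_app, germ_app, TopCat.Presheaf.germ_res_apply]

theorem app_map {U U' : X.Opens} (g : Γ(RefHull.homSh F G, U)) (k : U' ⟶ U) {V : X.Opens}
    (i : V ≤ U') (m : Γ(F, V)) :
    app ((RefHull.homSh F G).presheaf.map k.op g) i m = app g (i.trans k.le) m := by
  apply section_ext
  intro y hy
  rw [germ_app, germ_app, map_apply]

theorem app_add_left {U : X.Opens} (g g' : Γ(RefHull.homSh F G, U)) {V : X.Opens} (i : V ≤ U)
    (m : Γ(F, V)) : app (g + g') i m = app g i m + app g' i m := by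
  apply section_ext
  intro y hy
  rw [map_add, germ_app, germ_app, germ_app, add_apply, LinearMap.add_apply]

theorem app_smul_left {U : X.Opens} (r : Γ(X, U)) (g : Γ(RefHull.homSh F G, U)) {V : X.Opens}
    (i : V ≤ U) (m : Γ(F, V)) :
    app (r • g) i m = X.presheaf.map (homOfLE i).op r • app g i m := by
  apply section_ext
  intro y hy
  rw [Mero.germ_smul, germ_app, germ_app, smul_apply, LinearMap.smul_apply,
    TopCat.Presheaf.germ_res_apply]

/-- the linear map on sections over `U` defined by a section of the sheaf Hom over `U` -/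
noncomputable def appₗ {U : X.Opens} (g : Γ(RefHull.homSh F G, U)) : Γ(F, U) →ₗ[Γ(X, U)] Γ(G, U) where
  toFun m := app g le_rfl m
  map_add' m m' := app_add g le_rfl m m'
  map_smul' r m := app_smul g le_rfl r m

theorem appₗ_apply {U : X.Opens} (g : Γ(RefHull.homSh F G, U)) (m : Γ(F, U)) :
    appₗ g m = app g le_rfl m := rfl

/-- sections of the sheaf Hom over `U` to linear maps on the sections over `U`, linearly -/
noncomputable def secHom (F G : X.Modules) (U : X.Opens) :
    Γ(RefHull.homSh F G, U) →ₗ[Γ(X, U)] (Γ(F, U) →ₗ[Γ(X, U)] Γ(G, U)) where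
  toFun g := appₗ g
  map_add' g g' := LinearMap.ext fun m => app_add_left g g' le_rfl m
  map_smul' r g := LinearMap.ext fun m => by
    change app (r • g) le_rfl m = r • app g le_rfl m
    rw [app_smul_left]
    congr 1
    exact ConcreteCategory.congr_hom (X.presheaf.map_id _) r

theorem secHom_apply {U : X.Opens} (g : Γ(RefHull.homSh F G, U)) (m : Γ(F, U)) :
    secHom F G U g m = app g le_rfl m := rfl

theorem secHom_injective {U : X.Opens} (h : SpanGerms F U) : Function.Injective (secHom F G U) := by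
  rw [injective_iff_map_eq_zero]
  intro g hg
  refine hom_ext _ _ fun y => ?_
  rw [zero_apply]
  refine LinearMap.ext_on_range (h y.1 y.2) fun m => ?_
  rw [LinearMap.zero_apply, ← germ_app g le_rfl m y.1 y.2, ← secHom_apply, hg, LinearMap.zero_apply,
    map_zero]


section Affine

open Groth.Agent.Lead.SD Groth.Agent.Helper1

attribute [local instance] SD.stalkModule

variable {U : X.Opens} (hU : IsAffineOpen U) [F.IsQuasicoherent] [G.IsQuasicoherent]
  (α : Γ(F, U) →ₗ[Γ(X, U)] Γ(G, U))

/-- the map on stalks induced by a linear map on the sections over an affine open -/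
noncomputable def stalkOfLin (y : U) : RefHull.StalkHom F G y.1 :=
  haveI := isLocalizedModule_germ F hU y
  haveI := isLocalizedModule_germ G hU y
  haveI := hU.isLocalization_stalk y
  (IsLocalizedModule.map (hU.primeIdealOf y).asIdeal.primeCompl (germₗ F y) (germₗ G y) α).extendScalarsOfIsLocalization
    (hU.primeIdealOf y).asIdeal.primeCompl (X.presheaf.stalk y.1)

theorem stalkOfLin_germ (y : U) (m : Γ(F, U)) :
    stalkOfLin hU α y (F.presheaf.germ U y.1 y.2 m) = G.presheaf.germ U y.1 y.2 (α m) := by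
  haveI := isLocalizedModule_germ F hU y
  haveI := isLocalizedModule_germ G hU y
  haveI := hU.isLocalization_stalk y
  exact IsLocalizedModule.map_apply (hU.primeIdealOf y).asIdeal.primeCompl (germₗ F y) (germₗ G y) α m

theorem isLocSect_stalkOfLin : RefHull.IsLocSect F G (fun y : U => stalkOfLin hU α y) := by
  intro V i m x
  obtain ⟨f, hfV, hxf⟩ := hU.exists_basicOpen_le ⟨x.1, x.2⟩ (i.le x.2)
  obtain ⟨n, t', ht'⟩ := QcLoc.exists_extend hU F f (F.presheaf.map (homOfLE hfV).op m)
  have hu : IsUnit ((X.presheaf.map (homOfLE (X.basicOpen_le f)).op).hom f) :=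
    X.toRingedSpace.isUnit_res_basicOpen f
  refine ⟨X.basicOpen f, hxf, homOfLE hfV,
    ((hu.unit⁻¹ ^ n : (Γ(X, X.basicOpen f))ˣ) : Γ(X, X.basicOpen f)) •
      G.presheaf.map (homOfLE (X.basicOpen_le f)).op (α t'), fun y => ?_⟩
  have hyU : y.1 ∈ U := X.basicOpen_le f y.2
  have hfy : IsUnit (X.presheaf.germ U y.1 hyU f) := (Scheme.mem_basicOpen X f y.1 hyU).1 y.2
  have hinj : Function.Injective
      (fun v : G.presheaf.stalk y.1 => (X.presheaf.germ U y.1 hyU f) ^ n • v) := by
    intro a b hab
    have := congrArg (fun v => ((hfy.pow n).unit⁻¹ : (X.presheaf.stalk y.1)ˣ) • v) hab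
    simpa [Units.smul_def, smul_smul] using this
  apply hinj
  dsimp only
  have e1 : X.presheaf.germ U y.1 hyU f ^ n • F.presheaf.germ V y.1 (hfV y.2) m =
      F.presheaf.germ U y.1 hyU t' := by
    have := congrArg (F.presheaf.germ (X.basicOpen f) y.1 y.2) ht'
    rw [TopCat.Presheaf.germ_res_apply, Mero.germ_smul, TopCat.Presheaf.germ_res_apply, map_pow,
      TopCat.Presheaf.germ_res_apply] at this
    exact this.symm
  rw [← map_smul, e1]
  have e2 := stalkOfLin_germ hU α ⟨y.1, hyU⟩ t'
  refine e2.trans ?_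
  rw [← TopCat.Presheaf.germ_res_apply G.presheaf (homOfLE (X.basicOpen_le f)) y.1 y.2 (α t'),
    Mero.germ_smul, smul_smul]
  have e3 : X.presheaf.germ U y.1 hyU f ^ n *
      X.presheaf.germ (X.basicOpen f) y.1 y.2 ((hu.unit⁻¹ ^ n : (Γ(X, X.basicOpen f))ˣ) : Γ(X, X.basicOpen f)) = 1 := by
    rw [← TopCat.Presheaf.germ_res_apply X.presheaf (homOfLE (X.basicOpen_le f)) y.1 y.2 f, ← map_pow,
      ← map_mul]
    have : ((X.presheaf.map (homOfLE (X.basicOpen_le f)).op).hom f) ^ n *
        ((hu.unit⁻¹ ^ n : (Γ(X, X.basicOpen f))ˣ) : Γ(X, X.basicOpen f)) = 1 := by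
      rw [Units.val_pow_eq_pow_val, ← mul_pow]
      have : ((X.presheaf.map (homOfLE (X.basicOpen_le f)).op).hom f) * ((hu.unit⁻¹ : (Γ(X, X.basicOpen f))ˣ) : Γ(X, X.basicOpen f)) = 1 :=
        hu.mul_val_inv
      rw [this, one_pow]
    rw [this, map_one]
  rw [e3, one_smul]

/-- the section of the sheaf Hom over an affine open defined by a linear map on sections -/
noncomputable def ofLin : Γ(RefHull.homSh F G, U) :=
  ⟨fun y => stalkOfLin hU α y, isLocSect_stalkOfLin hU α⟩

theorem ofLin_apply (y : U) : (ofLin hU α).1 y = stalkOfLin hU α y := rfl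

theorem secHom_ofLin : secHom F G U (ofLin hU α) = α := by
  refine LinearMap.ext fun m => ?_
  apply section_ext
  intro y hy
  rw [secHom_apply, germ_app, ofLin_apply]
  exact stalkOfLin_germ hU α ⟨y, hy⟩ m

include hU in
theorem secHom_bijective : Function.Bijective (secHom F G U) :=
  ⟨secHom_injective (spanGerms_of_isAffineOpen inferInstance hU),
    fun α => ⟨ofLin hU α, secHom_ofLin hU α⟩⟩

/-- sections of the sheaf Hom of quasi-coherent modules over an affine open are the linear maps between the modules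
of sections -/
noncomputable def secEquiv : Γ(RefHull.homSh F G, U) ≃ₗ[Γ(X, U)] (Γ(F, U) →ₗ[Γ(X, U)] Γ(G, U)) :=
  LinearEquiv.ofBijective (secHom F G U) (secHom_bijective hU)

theorem secEquiv_apply (g : Γ(RefHull.homSh F G, U)) (m : Γ(F, U)) :
    secEquiv hU g m = app g le_rfl m := rfl

theorem secEquiv_symm_apply (y : U) : ((secEquiv (F := F) (G := G) hU).symm α).1 y = stalkOfLin hU α y := by
  have : (secEquiv (F := F) (G := G) hU).symm α = ofLin hU α := by
    apply (secEquiv (F := F) (G := G) hU).injective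
    rw [LinearEquiv.apply_symm_apply]
    exact (secHom_ofLin hU α).symm
  rw [this]
  rfl

end Affine

end Groth.Agent.Lead.RH
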