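import Mathlib
import Groth.Prelude.Def_CohB1
import Groth.Agent.Lib.Helper1.QcLoc
import Groth.Agent.Lib.Helper1.FpLocal

/-!
# Finitely presented modules on schemes: dictionary with finitely presented modules of sections (lead)
-/

set_option autoImplicit false
universe u
open CategoryTheory CategoryTheory.Limits AlgebraicGeometry TopologicalSpace
set_option backward.isDefEq.respectTransparency.types false

namespace Groth.Agent.Lead.FP

open Scheme.Modules Groth.Agent.Helper1

variable {X : Scheme.{u}}

/-- the cokernel of a map between finite free modules is finitely presented -/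
theorem fp_cokernel {R : CommRingCat.{u}} {I J : Type u} [Finite I] [Finite J]
    (g : ModuleCat.of R (J →₀ R) ⟶ ModuleCat.of R (I →₀ R)) :
    Module.FinitePresentation R ↑(cokernel g) := by
  have h1 : Module.FinitePresentation R ((I →₀ R) ⧸ LinearMap.range g.hom) := by
    refine Module.finitePresentation_of_surjective (LinearMap.range g.hom).mkQ
      (Submodule.mkQ_surjective _) ?_
    rw [Submodule.ker_mkQ, LinearMap.range_eq_map]
    exact Module.Finite.fg_top.map _
  exact Module.FinitePresentation.of_equiv (ModuleCat.cokernelIsoRangeQuotient g).toLinearEquiv.symm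

set_option backward.isDefEq.respectTransparency false in
/-- a module on `Spec R` with a finite presentation has finitely presented global sections -/
theorem fp_sections_of_presentation {R : CommRingCat.{u}} (N : (Spec R).Modules)
    (P : N.Presentation) [hP : P.IsFinite] : Module.FinitePresentation R Γ(N, ⊤) := by
  have h1 : Finite P.generators.I := hP.isFiniteType_generators.finite
  have h2 : Finite P.relations.I := hP.isFiniteType_relations.finite
  let g := (tilde.functor _).preimage <| (tildeFinsupp _).hom ≫ P.relations.π ≫ kernel.ι _ ≫
    (tildeFinsupp _).inv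
  let iso : cokernel ((tilde.functor R).map g) ≅ cokernel (P.relations.π ≫ kernel.ι _) := by
    refine cokernel.mapIso _ _ (tildeFinsupp _) (tildeFinsupp _) ?_
    simp only [g, (tilde.functor R).map_preimage]
    simp
  let e : (tilde.functor R).obj (cokernel g) ≅ N :=
    PreservesCokernel.iso (tilde.functor R) g ≪≫ iso ≪≫
      IsColimit.coconePointUniqueUpToIso (colimit.isColimit _) P.isColimit
  let E : Γ(N, ⊤) ≃ₗ[R] ↑(cokernel g) :=
    ((moduleSpecΓFunctor (R := R)).mapIso e.symm ≪≫ (tilde.isoTop (cokernel g)).symm).toLinearEquiv
  haveI := fp_cokernel g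
  exact Module.FinitePresentation.of_equiv E.symm


/-- a quasi-coherent module on `Spec R` with finitely presented global sections has a finite
presentation -/
theorem exists_finite_presentation_of_fp {R : CommRingCat.{u}}
    (N : (Spec R).Modules) [N.IsQuasicoherent] (h : Module.FinitePresentation R Γ(N, ⊤)) :
    ∃ P : SheafOfModules.Presentation N, P.IsFinite := by
  classical
  let G : ModuleCat.{u} R := (modulesSpecToSheaf.obj N).presheaf.obj (.op ⊤)
  have hG : Module.FinitePresentation R G := h
  have hG' : Module.Finite R G := inferInstance
  obtain ⟨s, hs⟩ := hG'.fg_top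
  let s' : Set G := (s : Set G)
  have hfin : Finite s' := s.finite_toSet.to_subtype
  have hker : (LinearMap.ker (Finsupp.linearCombination R (Subtype.val : s' → G))).FG := by
    apply Module.FinitePresentation.fg_ker
    rw [← LinearMap.range_eq_top, Finsupp.range_linearCombination]
    simpa [s'] using hs
  obtain ⟨t, ht⟩ := hker
  let P0 := presentationTilde G s' hs (t : Set (s' →₀ R)) ht
  have h1 : Finite P0.generators.I := hfin
  have h2 : Finite P0.relations.I := t.finite_toSet.to_subtype
  have hiso : IsIso (C := SheafOfModules.{u} (Spec R).ringCatSheaf) N.fromTildeΓ :=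
    inferInstanceAs (IsIso N.fromTildeΓ)
  refine ⟨SheafOfModules.Presentation.ofIsIso.{u, u, u} N.fromTildeΓ P0, ?_⟩
  constructor
  · constructor
    exact h1
  · constructor
    exact h2

/-- a module with a global finite presentation is finitely presented -/
theorem isFP_of_presentation (M : X.Modules) (P : M.Presentation) [hP : P.IsFinite] :
    CohB1.IsFP M := by
  have h1 : Finite P.generators.I := hP.isFiniteType_generators.finite
  have h2 : Finite P.relations.I := hP.isFiniteType_relations.finite
  let σ : SheafOfModules.QuasicoherentData.{u} (R := X.ringCatSheaf) M := P.quasicoherentData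
  have hσ : σ.IsFinitePresentation := by
    constructor
    intro x
    constructor
    · constructor
      exact h1
    · constructor
      exact h2
  constructor
  exact ⟨σ, hσ⟩


set_option backward.isDefEq.respectTransparency false in
/-- a finitely presented module has finite presentations on an affine open cover -/
theorem exists_isOpenCover_finite_presentation (M : X.Modules) (hM : CohB1.IsFP M) :
    ∃ (ι : Type u) (U : ι → X.Opens) (P : ∀ i, (M.restrict (U i).ι).Presentation),
      IsOpenCover U ∧ (∀ i, IsAffineOpen (U i)) ∧ ∀ i, (P i).IsFinite := by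
  obtain ⟨⟨I, W, cov, pres⟩, hfin⟩ :=
    SheafOfModules.IsFinitePresentation.exists_quasicoherentData (R := X.ringCatSheaf) M
  choose κ hsub heq using fun i ↦ Opens.isBasis_iff_cover.mp X.isBasis_affineOpens (W i)
  have hP : ∀ i : Σ (i : I), κ i, ∃ P : (M.restrict (Scheme.Opens.ι i.2.1)).Presentation,
      P.IsFinite := by
    intro i
    let u := X.homOfLE (U := i.2) (V := W i.1) (by simp [heq, le_sSup])
    have : PreservesColimitsOfSize.{u, u} (restrictFunctor u) := inferInstance
    let F := (overEquiv (W i.1)).functor ⋙ restrictFunctor u
    let iso : SheafOfModules.overFunctor X.ringCatSheaf _ ⋙ F ≅ restrictFunctor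
      (Scheme.Opens.ι i.2.1) := (Functor.associator _ _ _).symm ≪≫
        Functor.isoWhiskerRight (Scheme.Modules.overFunctorEquiv _) _ ≪≫
        (restrictFunctorComp _ _).symm ≪≫ (restrictFunctorCongr (by simp [u]))
    have hf := hfin.isFinite_presentation i.1
    have h1 : Finite (pres i.1).generators.I := hf.isFiniteType_generators.finite
    have h2 : Finite (pres i.1).relations.I := hf.isFiniteType_relations.finite
    refine ⟨SheafOfModules.Presentation.ofIsIso.{u, u, u} (iso.app M).hom <|
      (pres i.1).map F (Scheme.Modules.restrictUnitIso _).symm, ?_⟩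
    constructor
    · constructor
      exact h1
    · constructor
      exact h2
  choose P hPfin using hP
  refine ⟨Σ (i : I), κ i, fun j ↦ j.2, P, ?_, ?_, hPfin⟩
  · rw [Opens.coversTop_iff, IsOpenCover] at cov
    rw [IsOpenCover, iSup_sigma, ← cov]
    refine iSup_congr fun i ↦ ?_
    rw [heq i, sSup_eq_iSup']
  · intro j
    exact hsub _ j.2.2

end Groth.Agent.Lead.FP
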