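import Mathlib
import Groth.Prelude.Def_CohB1
import Groth.Agent.Lib.Lead.FP1
import Groth.Agent.Lib.Lead.FLF4
import Groth.Agent.Lib.Lead.SD2

/-!
# Finitely presented modules on schemes: sections over affine opens (lead)
-/

set_option autoImplicit false
universe u
open CategoryTheory CategoryTheory.Limits AlgebraicGeometry TopologicalSpace
set_option backward.isDefEq.respectTransparency.types false

namespace Groth.Agent.Lead.FP

open Scheme.Modules Groth.Agent.Helper1 Groth.Agent.Lead.FLF Groth.Agent.Lead.SD

variable {X : Scheme.{u}}

set_option backward.isDefEq.respectTransparency false in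
/-- restricting a finite presentation along an open immersion -/
theorem presentationRestrict_isFinite {Y Z : Scheme.{u}} (f : Y ⟶ Z) [IsOpenImmersion f]
    {M : Z.Modules} (P : M.Presentation) [hP : P.IsFinite] :
    (presentationRestrict f P).IsFinite := by
  have h1 : Finite P.generators.I := hP.isFiniteType_generators.finite
  have h2 : Finite P.relations.I := hP.isFiniteType_relations.finite
  constructor
  · constructor
    exact h1
  · constructor
    exact h2

/-- sections over an affine open inside an open carrying a finite presentation -/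
theorem fp_sections_of_le (M : X.Modules) {W : X.Opens} (P : (M.restrict W.ι).Presentation)
    [P.IsFinite] {V : X.Opens} (hV : IsAffineOpen V) (hVW : V ≤ W) :
    Module.FinitePresentation Γ(X, V) Γ(M, V) := by
  have hrange : Set.range hV.fromSpec ⊆ Set.range W.ι := by
    rw [hV.range_fromSpec, Scheme.Opens.range_ι]
    exact hVW
  let c : Spec Γ(X, V) ⟶ ↑W := IsOpenImmersion.lift W.ι hV.fromSpec hrange
  have hc : c ≫ W.ι = hV.fromSpec := IsOpenImmersion.lift_fac _ _ _
  haveI : IsOpenImmersion (c ≫ W.ι) := by rw [hc]; infer_instance
  haveI : IsOpenImmersion c := IsOpenImmersion.of_comp c W.ι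
  haveI := presentationRestrict_isFinite c P
  let e : M.restrict hV.fromSpec ≅ (M.restrict W.ι).restrict c :=
    (restrictFunctorCongr hc.symm).app M ≪≫ (restrictFunctorComp c W.ι).app M
  let P' : (M.restrict hV.fromSpec).Presentation :=
    SheafOfModules.Presentation.ofIsIso.{u, u, u} e.inv (presentationRestrict c P)
  haveI : P'.IsFinite := inferInstanceAs
    (SheafOfModules.Presentation.ofIsIso.{u, u, u} e.inv (presentationRestrict c P)).IsFinite
  haveI := fp_sections_of_presentation (M.restrict hV.fromSpec) P'
  exact Module.FinitePresentation.of_equiv (sectionsLinearEquiv hV M)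


attribute [local instance] basicOpenModule in
/-- sections of a finitely presented module over an affine open are finitely presented -/
theorem fp_sections_of_isFP (M : X.Modules) (hM : CohB1.IsFP M) {U : X.Opens}
    (hU : IsAffineOpen U) : Module.FinitePresentation Γ(X, U) Γ(M, U) := by
  haveI : SheafOfModules.IsFinitePresentation (R := X.ringCatSheaf) M := hM
  haveI : M.IsQuasicoherent := inferInstance
  obtain ⟨ι, W, P, hcov, hW, hfin⟩ := exists_isOpenCover_finite_presentation M hM
  let s : Set Γ(X, U) := {g | ∃ i, X.basicOpen g ≤ W i}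
  have hs : Ideal.span s = ⊤ := by
    rw [← hU.self_le_iSup_basicOpen_iff]
    intro x hx
    have : x ∈ (⨆ i, W i : X.Opens) := by rw [hcov.iSup_eq_top]; trivial
    obtain ⟨i, hi⟩ := Opens.mem_iSup.1 this
    obtain ⟨g, hg1, hg2⟩ := hU.exists_basicOpen_le (V := W i) ⟨x, hi⟩ hx
    exact Opens.mem_iSup.2 ⟨⟨g, i, hg1⟩, hg2⟩
  haveI : ∀ g : s, IsLocalization.Away g.1 Γ(X, X.basicOpen g.1) :=
    fun g => hU.isLocalization_basicOpen g.1
  haveI : ∀ g : s, IsLocalizedModule (Submonoid.powers g.1) (resₗ M g.1) :=
    fun g => isLocalizedModule_res M hU g.1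
  refine Module.FinitePresentation.of_localizationSpan' s hs
    (Rₚ := fun g => Γ(X, X.basicOpen g.1)) (Mₚ := fun g => Γ(M, X.basicOpen g.1))
    (fun g => resₗ M g.1) (fun g => ?_)
  obtain ⟨i, hi⟩ := g.2
  haveI := hfin i
  exact fp_sections_of_le M (P i) (hU.basicOpen g.1) hi

/-- a quasi-coherent module whose sections over the members of an affine cover are finitely presented
is finitely presented -/
theorem isFP_of_fp_sections (M : X.Modules) [M.IsQuasicoherent]
    (h : ∀ x : X, ∃ U : X.Opens, IsAffineOpen U ∧ x ∈ U ∧
      Module.FinitePresentation Γ(X, U) Γ(M, U)) : CohB1.IsFP M := by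
  choose V hV hxV hfp using h
  have key : ∀ x : X,
      ∃ P : (M.restrict ((hV x).fromSpec).opensRange.ι).Presentation, P.IsFinite := by
    intro x
    have hfp' : Module.FinitePresentation Γ(X, V x) Γ(M.restrict (hV x).fromSpec, ⊤) :=
      haveI := hfp x
      Module.FinitePresentation.of_equiv (sectionsLinearEquiv (hV x) M).symm
    have : (M.restrict (hV x).fromSpec).IsQuasicoherent := inferInstance
    obtain ⟨P, hP⟩ := exists_finite_presentation_of_fp (M.restrict (hV x).fromSpec) hfp'
    exact FpLocal.exists_finite_presentation_restrict_opensRange M (hV x).fromSpec P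
  choose P hP using key
  have hcov : ⨆ x : X, ((hV x).fromSpec).opensRange = ⊤ := by
    apply le_antisymm le_top
    intro y _
    refine Opens.mem_iSup.2 ⟨y, ?_⟩
    rw [IsAffineOpen.opensRange_fromSpec]
    exact hxV y
  let σ : SheafOfModules.QuasicoherentData.{u} (R := X.ringCatSheaf) M :=
    { I := X
      X := fun x => ((hV x).fromSpec).opensRange
      coversTop := (Opens.coversTop_iff (T := X) _).mpr hcov
      presentation := fun x => QCohLib.presentationOver M _ (P x) }
  have hσ : σ.IsFinitePresentation := by
    constructor
    intro x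
    exact FpLocal.presentationOver_isFinite M _ (P x)
  constructor
  exact ⟨σ, hσ⟩

/-- for a quasi-coherent module: finitely presented iff sections over all affine opens are -/
theorem isFP_iff_affineOpens (M : X.Modules) [M.IsQuasicoherent] :
    CohB1.IsFP M ↔ ∀ U : X.Opens, IsAffineOpen U → Module.FinitePresentation Γ(X, U) Γ(M, U) := by
  constructor
  · intro h U hU
    exact fp_sections_of_isFP M h hU
  · intro h
    apply isFP_of_fp_sections
    intro x
    obtain ⟨_, ⟨U, hU, rfl⟩, hxU, -⟩ := X.isBasis_affineOpens.exists_subset_of_mem_open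
      (Set.mem_univ x) isOpen_univ
    exact ⟨U, hU, hxU, h U hU⟩

end Groth.Agent.Lead.FP
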