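import Mathlib
import Groth.Prelude.Def_RefHull
import Groth.Agent.Lib.Lead.RH2
import Groth.Agent.Lib.Lead.FP2
import Groth.Agent.Lib.Helper1.QcAbel
import Groth.Agent.Lib.Helper1.FpLocal

/-!
# The sheaf Hom of `RefHull` is quasi-coherent when the source is finitely presented (lead)
-/

set_option autoImplicit false
set_option backward.isDefEq.respectTransparency.types false
set_option synthInstance.maxHeartbeats 400000
set_option linter.style.haveILetI false
set_option linter.unusedSectionVars false
universe u

open CategoryTheory CategoryTheory.Limits AlgebraicGeometry TopologicalSpace Opposite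

namespace Groth.Agent.Lead.RH

open Groth.Agent.Helper1.QcCech Groth.Agent.Lead.SD Groth.Agent.Helper1

attribute [local instance] SD.basicOpenModule

variable {X : Scheme.{u}} {F G : X.Modules}

section

variable {U : X.Opens} (hU : IsAffineOpen U) (f : Γ(X, U))

/-- the value of a section of the sheaf Hom on restrictions to a basic open -/
theorem res_secHom (t : Γ(RefHull.homSh F G, U)) (m : Γ(F, U)) :
    resₗ G f (secHom F G U t m) =
      secHom F G (X.basicOpen f) ((RefHull.homSh F G).presheaf.map (homOfLE (X.basicOpen_le f)).op t)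
        (resₗ F f m) := by
  rw [secHom_apply, secHom_apply, resₗ_apply, resₗ_apply, app_res, app_map]

include hU in
theorem killP_aux [F.IsQuasicoherent] [G.IsQuasicoherent] (hfin : Module.Finite Γ(X, U) Γ(F, U))
    (t : Γ(RefHull.homSh F G, U))
    (ht : (RefHull.homSh F G).presheaf.map (homOfLE (X.basicOpen_le f)).op t = 0) :
    ∃ n : ℕ, f ^ n • t = 0 := by
  haveI := isLocalizedModule_res G hU f
  have h0 : (resₗ G f).comp (secHom F G U t) =
      (resₗ G f).comp (0 : Γ(F, U) →ₗ[Γ(X, U)] Γ(G, U)) := by
    refine LinearMap.ext fun m => ?_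
    rw [LinearMap.comp_apply, res_secHom, ht, map_zero, LinearMap.zero_apply, LinearMap.comp_apply,
      LinearMap.zero_apply, map_zero]
  obtain ⟨⟨_, n, rfl⟩, hs⟩ := Module.Finite.exists_smul_of_comp_eq_of_isLocalizedModule
    (Submonoid.powers f) (resₗ G f) (secHom F G U t) 0 h0
  refine ⟨n, ?_⟩
  apply secHom_injective (spanGerms_of_isAffineOpen inferInstance hU)
  rw [map_smul, map_zero]
  rw [smul_zero] at hs
  exact hs

include hU in
theorem extP_aux [F.IsQuasicoherent] [G.IsQuasicoherent]
    (hfp : Module.FinitePresentation Γ(X, U) Γ(F, U))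
    (y : Γ(RefHull.homSh F G, X.basicOpen f)) :
    ∃ (n : ℕ) (t : Γ(RefHull.homSh F G, U)),
      (RefHull.homSh F G).presheaf.map (homOfLE (X.basicOpen_le f)).op t =
        ((X.presheaf.map (homOfLE (X.basicOpen_le f)).op).hom f) ^ n • y := by
  haveI := isLocalizedModule_res G hU f
  haveI := isLocalizedModule_res F hU f
  let β : Γ(F, X.basicOpen f) →ₗ[Γ(X, X.basicOpen f)] Γ(G, X.basicOpen f) :=
    secHom F G (X.basicOpen f) y
  let β' : Γ(F, U) →ₗ[Γ(X, U)] Γ(G, X.basicOpen f) := (β.restrictScalars Γ(X, U)).comp (resₗ F f)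
  obtain ⟨h, ⟨_, n, rfl⟩, hh⟩ := Module.FinitePresentation.exists_lift_of_isLocalizedModule
    (Submonoid.powers f) (resₗ G f) β'
  refine ⟨n, (secEquiv hU).symm h, ?_⟩
  apply secHom_injective (spanGerms_of_isAffineOpen inferInstance (hU.basicOpen f))
  have key : ((secHom F G (X.basicOpen f) ((RefHull.homSh F G).presheaf.map
      (homOfLE (X.basicOpen_le f)).op ((secEquiv hU).symm h))).restrictScalars Γ(X, U)) =
      ((secHom F G (X.basicOpen f) (((X.presheaf.map (homOfLE (X.basicOpen_le f)).op).hom f) ^ n • y)).restrictScalars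
        Γ(X, U)) := by
    apply IsLocalizedModule.ext (Submonoid.powers f) (resₗ F f)
      (IsLocalizedModule.map_units (resₗ G f))
    refine LinearMap.ext fun m => ?_
    rw [LinearMap.comp_apply, LinearMap.comp_apply, LinearMap.restrictScalars_apply,
      LinearMap.restrictScalars_apply, ← res_secHom]
    have e1 : secHom F G U ((secEquiv hU).symm h) = h := (secEquiv hU).apply_symm_apply h
    rw [e1]
    have e2 := congrArg (fun φ => φ m) hh
    simp only [LinearMap.comp_apply, LinearMap.smul_apply] at e2
    rw [e2, map_smul, LinearMap.smul_apply]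
    change (f ^ n) • β (resₗ F f m) = _
    rw [smul_basicOpen_def, map_pow]
  refine LinearMap.ext fun m => ?_
  exact congrArg (fun φ => φ m) key

end

/-- the sheaf Hom from a finitely presented module to a quasi-coherent module is quasi-coherent -/
theorem isQuasicoherent_homSh (hF : CohB1.IsFP F) [G.IsQuasicoherent] :
    (RefHull.homSh F G).IsQuasicoherent := by
  haveI : SheafOfModules.IsFinitePresentation (R := X.ringCatSheaf) F := hF
  haveI : F.IsQuasicoherent := inferInstance
  apply QcAbel.isQuasicoherent_of_kill_ext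
  · intro U hU f O hO t ht
    subst hO
    haveI := FP.fp_sections_of_isFP F hF hU
    exact killP_aux hU f inferInstance t ht
  · intro U hU f O hO y
    subst hO
    exact extP_aux hU f (FP.fp_sections_of_isFP F hF hU) y

end Groth.Agent.Lead.RH
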