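import Mathlib
import Groth.Prelude.Def_FlatMod2
import Groth.Agent.Lib.Lead.SD1

/-!
# Flatness over a base: stalkwise flatness of a quasi-coherent module over the base in terms of
sections over affine opens (lead)
-/

set_option autoImplicit false
universe u
open CategoryTheory CategoryTheory.Limits AlgebraicGeometry TopologicalSpace
set_option backward.isDefEq.respectTransparency.types false

namespace Groth.Agent.Lead.FO

open TensorProduct IsLocalizedModule Scheme.Modules Groth.Agent.Lead.SD

/-- localizing over an algebra preserves flatness over the base -/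
theorem flat_of_isLocalizedModule_algebra {R S : Type*} [CommRing R] [CommRing S] [Algebra R S]
    (p : Submonoid S) {M Mp : Type*} [AddCommGroup M] [Module R M] [Module S M]
    [IsScalarTower R S M] [AddCommGroup Mp] [Module R Mp] [Module S Mp] [IsScalarTower R S Mp]
    (f : M →ₗ[S] Mp) [IsLocalizedModule p f] [Module.Flat R M] : Module.Flat R Mp := by
  rw [Module.Flat.iff_lTensor_injectiveₛ]
  intro P _ _ N
  have h1 : Function.Injective (AlgebraTensorModule.lTensor S M N.subtype) := by
    rw [AlgebraTensorModule.coe_lTensor]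
    exact Module.Flat.lTensor_preserves_injective_linearMap _ Subtype.val_injective
  have h2 := IsLocalizedModule.map_injective p (AlgebraTensorModule.rTensor R N f)
    (AlgebraTensorModule.rTensor R P f) (AlgebraTensorModule.lTensor S M N.subtype) h1
  rw [IsLocalizedModule.map_lTensor] at h2
  rw [← AlgebraTensorModule.coe_lTensor (A := S)]
  exact h2

variable {X S : Scheme.{u}} (f : X ⟶ S) (F : X.Modules) {U : X.Opens} {V : S.Opens}
  (hU : IsAffineOpen U) (hV : IsAffineOpen V) (hUV : U ≤ f ⁻¹ᵁ V) (x : U)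

/-- sections over `U` as a module over `Γ(S, V)` -/
noncomputable abbrev sectionsOver : Module Γ(S, V) Γ(F, U) :=
  Module.compHom _ (f.appLE V U hUV).hom

/-- the stalk as a module over `Γ(S, V)`, through `Γ(X, U)` -/
noncomputable abbrev stalkOver : Module Γ(S, V) (F.presheaf.stalk x.1) :=
  Module.compHom _ ((algebraMap Γ(X, U) (X.presheaf.stalk x.1)).comp (f.appLE V U hUV).hom)

attribute [local instance] stalkModule

include hU in
theorem flat_stalkOver_of_flat_sectionsOver [F.IsQuasicoherent]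
    (h : @Module.Flat Γ(S, V) Γ(F, U) _ _ (sectionsOver f F hUV)) :
    @Module.Flat Γ(S, V) (F.presheaf.stalk x.1) _ _ (stalkOver f F hUV x) := by
  letI alg : Algebra Γ(S, V) Γ(X, U) := (f.appLE V U hUV).hom.toAlgebra
  letI m1 := sectionsOver f F hUV
  letI m2 := stalkOver f F hUV x
  haveI t1 : IsScalarTower Γ(S, V) Γ(X, U) Γ(F, U) :=
    IsScalarTower.of_algebraMap_smul fun r m => rfl
  haveI t2 : IsScalarTower Γ(S, V) Γ(X, U) (F.presheaf.stalk x.1) :=
    IsScalarTower.of_algebraMap_smul fun r m => rfl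
  haveI := isLocalizedModule_germ F hU x
  haveI := h
  exact flat_of_isLocalizedModule_algebra (R := Γ(S, V)) (S := Γ(X, U))
    (hU.primeIdealOf x).asIdeal.primeCompl (germₗ F x)

theorem stalkMap_germ_eq (r : Γ(S, V)) :
    (f.stalkMap x.1).hom (S.presheaf.germ V (f x.1) (hUV x.2) r) =
      X.presheaf.germ U x.1 x.2 ((f.appLE V U hUV).hom r) := by
  rw [Scheme.Hom.germ_stalkMap_apply, Scheme.Hom.appLE]
  simp only [CommRingCat.hom_comp, RingHom.coe_comp, Function.comp_apply]
  rw [X.presheaf.germ_res_apply]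

include hV in
theorem isFlatOverAt_iff_flat_stalkOver :
    FlatMod.IsFlatOverAt f F x.1 ↔
      @Module.Flat Γ(S, V) (F.presheaf.stalk x.1) _ _ (stalkOver f F hUV x) := by
  let y : V := ⟨f x.1, hUV x.2⟩
  letI := S.presheaf.algebra_section_stalk y
  haveI := hV.isLocalization_stalk y
  letI m2 := stalkOver f F hUV x
  letI m3 := FlatMod.moduleStalkOver f F x.1
  haveI : IsScalarTower Γ(S, V) (S.presheaf.stalk (f x.1)) (F.presheaf.stalk x.1) :=
    IsScalarTower.of_algebraMap_smul fun r m => by
      change (f.stalkMap x.1).hom (S.presheaf.germ V (f x.1) (hUV x.2) r) • m =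
        X.presheaf.germ U x.1 x.2 ((f.appLE V U hUV).hom r) • m
      rw [stalkMap_germ_eq]
  exact Module.flat_iff_of_isLocalization (S.presheaf.stalk (f x.1))
    (hV.primeIdealOf y).asIdeal.primeCompl (F.presheaf.stalk x.1)

/-- the point of `U` attached to a maximal ideal -/
noncomputable def ptOf (P : Ideal Γ(X, U)) [hP : P.IsMaximal] : U :=
  ⟨hU.fromSpec ⟨P, hP.isPrime⟩, fromSpec_mem hU ⟨P, hP.isPrime⟩⟩

theorem primeIdealOf_ptOf (P : Ideal Γ(X, U)) [hP : P.IsMaximal] :
    hU.primeIdealOf (ptOf hU P) = ⟨P, hP.isPrime⟩ :=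
  primeIdealOf_fromSpec hU ⟨P, hP.isPrime⟩

include hU hV in
theorem flat_sectionsOver_of_isFlatOverAt [F.IsQuasicoherent]
    (h : ∀ z : U, FlatMod.IsFlatOverAt f F z.1) :
    @Module.Flat Γ(S, V) Γ(F, U) _ _ (sectionsOver f F hUV) := by
  letI alg : Algebra Γ(S, V) Γ(X, U) := (f.appLE V U hUV).hom.toAlgebra
  letI m1 := sectionsOver f F hUV
  haveI t1 : IsScalarTower Γ(S, V) Γ(X, U) Γ(F, U) :=
    IsScalarTower.of_algebraMap_smul fun r m => rfl
  letI mB : ∀ (P : Ideal Γ(X, U)) [P.IsMaximal],
      Module Γ(S, V) (F.presheaf.stalk (ptOf hU P).1) := fun P _ => stalkOver f F hUV (ptOf hU P)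
  haveI tw : ∀ (P : Ideal Γ(X, U)) [P.IsMaximal],
      IsScalarTower Γ(S, V) Γ(X, U) (F.presheaf.stalk (ptOf hU P).1) := fun P _ =>
    IsScalarTower.of_algebraMap_smul fun r m => rfl
  haveI loc : ∀ (P : Ideal Γ(X, U)) [P.IsMaximal],
      IsLocalizedModule.AtPrime P (germₗ F (ptOf hU P)) := fun P hP => by
    have := isLocalizedModule_germ F hU (ptOf hU P)
    rw [primeIdealOf_ptOf hU P] at this
    exact this
  exact Module.flat_of_isLocalized_maximal (R := Γ(S, V)) Γ(X, U) Γ(F, U)
    (fun P _ => F.presheaf.stalk (ptOf hU P).1) (fun P _ => germₗ F (ptOf hU P))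
    (fun P _ => (isFlatOverAt_iff_flat_stalkOver f F hV hUV (ptOf hU P)).1 (h (ptOf hU P)))

end Groth.Agent.Lead.FO
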