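import Mathlib
import Groth.Prelude.Def_FlatMod2
import Groth.Agent.Lib.Lead.FO1
import Groth.Agent.Lib.Helper5.Stalk.Pull
import Groth.Agent.Lib.Helper8.ExtScal

/-!
# Flatness over a base and base change: stalks of a fibre product, flat base change of
flatness at a point (lead)
-/

set_option autoImplicit false
universe u
open CategoryTheory CategoryTheory.Limits AlgebraicGeometry TopologicalSpace
set_option backward.isDefEq.respectTransparency.types false

namespace Groth.Agent.Lead.FB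

open TensorProduct Groth.Agent.Lead.FO Groth.Agent.Lead.SD Groth.Agent.Lib.Helper5.StalkAdj

section alg0
variable {K B C : Type u} [CommRing K] [CommRing B] [CommRing C] [Algebra K B] [Algebra B C]
  (N : Type u) [AddCommGroup N] [Module K N] [Module B N] [IsScalarTower K B N]

/-- the `K`-module structure on `C ⊗[B] N` through `N`... we use the one through `C` -/
theorem assoc_lTensor [Algebra K C] [IsScalarTower K B C]
    {P' P : Type u} [AddCommGroup P'] [AddCommGroup P] [Module K P'] [Module K P]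
    (u : P' →ₗ[K] P) (z : (C ⊗[B] N) ⊗[K] P') :
    AlgebraTensorModule.assoc K B B C N P (u.lTensor (C ⊗[B] N) z) =
      (AlgebraTensorModule.lTensor B N u).lTensor C (AlgebraTensorModule.assoc K B B C N P' z) := by
  induction z using TensorProduct.induction_on with
  | zero => simp
  | add a b ha hb => simp only [map_add, ha, hb]
  | tmul y p =>
    induction y using TensorProduct.induction_on with
    | zero => simp
    | add a b ha hb => simp only [add_tmul, map_add, ha, hb]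
    | tmul c n => simp

theorem flat_tensor_of_flat [Algebra K C] [IsScalarTower K B C] [Module.Flat B C]
    [Module.Flat K N] : Module.Flat K (C ⊗[B] N) := by
  rw [Module.Flat.iff_lTensor_preserves_injective_linearMap]
  intro P' P _ _ _ _ u hu
  have h1 : Function.Injective (AlgebraTensorModule.lTensor B N u) := by
    rw [AlgebraTensorModule.coe_lTensor]
    exact Module.Flat.lTensor_preserves_injective_linearMap u hu
  have h2 : Function.Injective ((AlgebraTensorModule.lTensor B N u).lTensor C) :=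
    Module.Flat.lTensor_preserves_injective_linearMap _ h1
  intro z z' hzz'
  have h3 := congrArg (AlgebraTensorModule.assoc K B B C N P) hzz'
  rw [assoc_lTensor, assoc_lTensor] at h3
  exact (AlgebraTensorModule.assoc K B B C N P').injective (h2 h3)

theorem flat_of_flat_tensor [Algebra K C] [IsScalarTower K B C] [Module.FaithfullyFlat B C]
    [Module.Flat K (C ⊗[B] N)] : Module.Flat K N := by
  rw [Module.Flat.iff_lTensor_preserves_injective_linearMap]
  intro P' P _ _ _ _ u hu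
  have h0 : Function.Injective (u.lTensor (C ⊗[B] N)) :=
    Module.Flat.lTensor_preserves_injective_linearMap u hu
  have h2 : Function.Injective ((AlgebraTensorModule.lTensor B N u).lTensor C) := by
    intro w w' hww'
    obtain ⟨z, rfl⟩ := (AlgebraTensorModule.assoc K B B C N P').surjective w
    obtain ⟨z', rfl⟩ := (AlgebraTensorModule.assoc K B B C N P').surjective w'
    rw [← assoc_lTensor, ← assoc_lTensor] at hww'
    rw [h0 ((AlgebraTensorModule.assoc K B B C N P).injective hww')]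
  have h1 := (Module.FaithfullyFlat.lTensor_injective_iff_injective B C
    (AlgebraTensorModule.lTensor B N u)).1 h2
  rwa [AlgebraTensorModule.coe_lTensor] at h1


end alg0

section alg
variable {R0 S0 A0 A0' A A' : Type u} [CommRing R0] [CommRing S0] [CommRing A0] [CommRing A0']
  [CommRing A] [CommRing A']
  [Algebra R0 S0] [Algebra R0 A0] [Algebra R0 A0'] [Algebra S0 A0'] [Algebra A0 A0']
  [IsScalarTower R0 A0 A0'] [IsScalarTower R0 S0 A0'] [Algebra.IsPushout R0 S0 A0 A0']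
  [Algebra A0 A] [Algebra A0' A'] [Algebra A A'] [Algebra A0 A'] [IsScalarTower A0 A A']
  [IsScalarTower A0 A0' A'] [Algebra S0 A'] [IsScalarTower S0 A0' A']
  (T : Submonoid A0) [IsLocalization T A] (T' : Submonoid A0') [IsLocalization T' A']
  (M : Type u) [AddCommGroup M] [Module A M] [Module A0 M] [IsScalarTower A0 A M]
  [Module R0 M] [IsScalarTower R0 A0 M]

include T T' in
theorem flat_tensor_stalk [Module.Flat R0 M] : Module.Flat S0 (A' ⊗[A] M) := by
  -- step 1
  haveI h1 : Module.Flat S0 (A0' ⊗[A0] M) :=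
    Module.Flat.of_linearEquiv (Algebra.IsPushout.cancelBaseChange R0 S0 A0 A0' M)
  -- step 2
  have hbc : IsBaseChange A0' (TensorProduct.mk A0 A0' M 1) := TensorProduct.isBaseChange A0 M A0'
  let g : M →ₗ[A0] A' ⊗[A] M := (TensorProduct.mk A A' M 1).restrictScalars A0
  let h : A0' ⊗[A0] M →ₗ[A0'] A' ⊗[A] M := hbc.lift g
  -- step 3
  haveI : IsLocalizedModule T (LinearMap.id : M →ₗ[A0] M) := isLocalizedModule_id T M A
  have hid : IsBaseChange A (LinearMap.id : M →ₗ[A0] M) :=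
    IsLocalizedModule.isBaseChange T A LinearMap.id
  have hg' : IsBaseChange A' (TensorProduct.mk A A' M 1) := TensorProduct.isBaseChange A M A'
  have hg : IsBaseChange A' g := by
    have := IsBaseChange.comp hid hg'
    exact this
  have hc : IsBaseChange A' ((h : A0' ⊗[A0] M →ₗ[A0] A' ⊗[A] M) ∘ₗ TensorProduct.mk A0 A0' M 1) := by
    have : (h : A0' ⊗[A0] M →ₗ[A0] A' ⊗[A] M) ∘ₗ TensorProduct.mk A0 A0' M 1 = g :=
      hbc.lift_comp g
    rw [this]
    exact hg
  have hh : IsBaseChange A' h := IsBaseChange.of_comp hbc hc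
  haveI : IsLocalizedModule T' h := (isLocalizedModule_iff_isBaseChange T' A' h).2 hh
  exact flat_of_isLocalizedModule_algebra (R := S0) (S := A0') T' h


end alg

variable {X S X' S' : Scheme.{u}} {f : X ⟶ S} {f' : X' ⟶ S'} {g' : X' ⟶ X} {g : S' ⟶ S}

theorem exists_chart (hc : IsPullback g' f' f g) (x' : X') :
    ∃ (US : S.Opens) (UT : S'.Opens) (UX : X.Opens), IsAffineOpen US ∧ IsAffineOpen UT ∧
      IsAffineOpen UX ∧ UT ≤ g ⁻¹ᵁ US ∧ UX ≤ f ⁻¹ᵁ US ∧ f' x' ∈ UT ∧ g' x' ∈ UX := by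
  obtain ⟨_, ⟨US, hUS, rfl⟩, hsUS, -⟩ :=
    S.isBasis_affineOpens.exists_subset_of_mem_open (Set.mem_univ (f (g' x'))) isOpen_univ
  have hw : f (g' x') = g (f' x') := by
    have := congrArg (fun φ : X' ⟶ S => φ x') hc.w
    simpa using this
  obtain ⟨_, ⟨UT, hUT, rfl⟩, hxUT, hUST⟩ :=
    S'.isBasis_affineOpens.exists_subset_of_mem_open
      (show f' x' ∈ (g ⁻¹ᵁ US : S'.Opens) from by show g (f' x') ∈ US; rw [← hw]; exact hsUS)
      (g ⁻¹ᵁ US).isOpen
  obtain ⟨_, ⟨UX, hUX, rfl⟩, hxUX, hUSX⟩ :=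
    X.isBasis_affineOpens.exists_subset_of_mem_open
      (show g' x' ∈ (f ⁻¹ᵁ US : X.Opens) from hsUS) (f ⁻¹ᵁ US).isOpen
  exact ⟨US, UT, UX, hUS, hUT, hUX, hUST, hUSX, hxUT, hxUX⟩

theorem chart_affine (hc : IsPullback g' f' f g) {US : S.Opens} {UT : S'.Opens} {UX : X.Opens}
    (hUS : IsAffineOpen US) (hUT : IsAffineOpen UT) (hUX : IsAffineOpen UX)
    (hUST : UT ≤ g ⁻¹ᵁ US) (hUSX : UX ≤ f ⁻¹ᵁ US) {UY : X'.Opens}
    (hUY : UY = g' ⁻¹ᵁ UX ⊓ f' ⁻¹ᵁ UT) :
    IsAffineOpen UY := by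
  have : IsAffine _ := hUS
  have : IsAffine _ := hUT
  have : IsAffine _ := hUX
  exact .of_isIso (Scheme.Hom.isPullback_resLE hc hUST hUSX hUY).isoPullback.hom

theorem chart_isPushout (hc : IsPullback g' f' f g) {US : S.Opens} {UT : S'.Opens} {UX : X.Opens}
    (hUS : IsAffineOpen US) (hUT : IsAffineOpen UT) (hUX : IsAffineOpen UX)
    (hUST : UT ≤ g ⁻¹ᵁ US) (hUSX : UX ≤ f ⁻¹ᵁ US) {UY : X'.Opens}
    (hUY : UY = g' ⁻¹ᵁ UX ⊓ f' ⁻¹ᵁ UT) (hYX : UY ≤ g' ⁻¹ᵁ UX) (hYT : UY ≤ f' ⁻¹ᵁ UT) :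
    IsPushout (f.appLE US UX hUSX) (g.appLE US UT hUST)
      (g'.appLE UX UY hYX) (f'.appLE UT UY hYT) := by
  haveI := isIso_pushoutSection_of_isAffineOpen hc hUST hUSX hUY hUS hUT hUX
  exact (isIso_pushoutSection_iff hc hUST hUSX hUY).1 inferInstance

attribute [local instance] stalkModule

set_option maxHeartbeats 1600000 in
theorem flat_baseChange (hc : IsPullback g' f' f g) (F : X.Modules) [F.IsQuasicoherent] (x' : X')
    (h : FlatMod.IsFlatOverAt f F (g' x')) :
    FlatMod.IsFlatOverAt f' ((Scheme.Modules.pullback g').obj F) x' := by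
  obtain ⟨US, UT, UX, hUS, hUT, hUX, hUST, hUSX, hxUT, hxUX⟩ := exists_chart hc x'
  obtain ⟨UY, hUYdef⟩ : ∃ UY : X'.Opens, UY = g' ⁻¹ᵁ UX ⊓ f' ⁻¹ᵁ UT := ⟨_, rfl⟩
  have hUY : IsAffineOpen UY := chart_affine hc hUS hUT hUX hUST hUSX hUYdef
  have hx'UY : x' ∈ UY := by rw [hUYdef]; exact ⟨hxUX, hxUT⟩
  have hYT : UY ≤ f' ⁻¹ᵁ UT := by rw [hUYdef]; exact inf_le_right
  have hYX : UY ≤ g' ⁻¹ᵁ UX := by rw [hUYdef]; exact inf_le_left
  have hpo := chart_isPushout hc hUS hUT hUX hUST hUSX hUYdef hYX hYT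
  let G := (Scheme.Modules.pullback g').obj F
  let xX : UX := ⟨g' x', hxUX⟩
  let xY : UY := ⟨x', hx'UY⟩
  refine (isFlatOverAt_iff_flat_stalkOver f' G hUT hYT xY).2 ?_
  have hM := (isFlatOverAt_iff_flat_stalkOver f F hUS hUSX xX).1 h
  letI a1 : Algebra Γ(S, US) Γ(S', UT) := (g.appLE US UT hUST).hom.toAlgebra
  letI a2 : Algebra Γ(S, US) Γ(X, UX) := (f.appLE US UX hUSX).hom.toAlgebra
  letI a3 : Algebra Γ(S', UT) Γ(X', UY) := (f'.appLE UT UY hYT).hom.toAlgebra
  letI a4 : Algebra Γ(X, UX) Γ(X', UY) := (g'.appLE UX UY hYX).hom.toAlgebra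
  letI a5 : Algebra Γ(S, US) Γ(X', UY) :=
    ((g'.appLE UX UY hYX).hom.comp (f.appLE US UX hUSX).hom).toAlgebra
  haveI t1 : IsScalarTower Γ(S, US) Γ(X, UX) Γ(X', UY) := .of_algebraMap_eq' rfl
  haveI t2 : IsScalarTower Γ(S, US) Γ(S', UT) Γ(X', UY) := .of_algebraMap_eq' (by
    show (g'.appLE UX UY hYX).hom.comp (f.appLE US UX hUSX).hom =
      (f'.appLE UT UY hYT).hom.comp (g.appLE US UT hUST).hom
    have := congrArg CommRingCat.Hom.hom hpo.w
    simpa using this)
  haveI po : Algebra.IsPushout Γ(S, US) Γ(S', UT) Γ(X, UX) Γ(X', UY) := by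
    have hpo' : IsPushout (CommRingCat.ofHom (algebraMap Γ(S, US) Γ(X, UX)))
        (CommRingCat.ofHom (algebraMap Γ(S, US) Γ(S', UT)))
        (CommRingCat.ofHom (algebraMap Γ(X, UX) Γ(X', UY)))
        (CommRingCat.ofHom (algebraMap Γ(S', UT) Γ(X', UY))) := hpo
    exact (CommRingCat.isPushout_iff_isPushout.1 hpo').symm
  letI b1 : Algebra Γ(X, UX) (X.presheaf.stalk (g' x')) := X.presheaf.algebra_section_stalk xX
  letI b2 : Algebra Γ(X', UY) (X'.presheaf.stalk x') := X'.presheaf.algebra_section_stalk xY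
  letI b3 : Algebra (X.presheaf.stalk (g' x')) (X'.presheaf.stalk x') :=
    (g'.stalkMap x').hom.toAlgebra
  letI b4 : Algebra Γ(X, UX) (X'.presheaf.stalk x') :=
    ((g'.stalkMap x').hom.comp (algebraMap Γ(X, UX) (X.presheaf.stalk (g' x')))).toAlgebra
  haveI t3 : IsScalarTower Γ(X, UX) (X.presheaf.stalk (g' x')) (X'.presheaf.stalk x') :=
    .of_algebraMap_eq' rfl
  haveI t4 : IsScalarTower Γ(X, UX) Γ(X', UY) (X'.presheaf.stalk x') := .of_algebraMap_eq' (by
    ext r
    exact stalkMap_germ_eq g' hYX xY r)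
  letI b5 : Algebra Γ(S', UT) (X'.presheaf.stalk x') :=
    ((algebraMap Γ(X', UY) (X'.presheaf.stalk x')).comp (algebraMap Γ(S', UT) Γ(X', UY))).toAlgebra
  haveI t5 : IsScalarTower Γ(S', UT) Γ(X', UY) (X'.presheaf.stalk x') := .of_algebraMap_eq' rfl
  haveI l1 := hUX.isLocalization_stalk xX
  haveI l2 := hUY.isLocalization_stalk xY
  letI m1 : Module Γ(X, UX) (F.presheaf.stalk (g' x')) := stalkModule F xX
  letI m2 : Module Γ(S, US) (F.presheaf.stalk (g' x')) := stalkOver f F hUSX xX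
  haveI t6 : IsScalarTower Γ(X, UX) (X.presheaf.stalk (g' x')) (F.presheaf.stalk (g' x')) :=
    IsScalarTower.of_algebraMap_smul fun r m => rfl
  haveI t7 : IsScalarTower Γ(S, US) Γ(X, UX) (F.presheaf.stalk (g' x')) :=
    IsScalarTower.of_algebraMap_smul fun r m => rfl
  haveI fl : Module.Flat Γ(S, US) (F.presheaf.stalk (g' x')) := hM
  have key : Module.Flat Γ(S', UT)
      ((X'.presheaf.stalk x') ⊗[X.presheaf.stalk (g' x')] (F.presheaf.stalk (g' x'))) :=
    flat_tensor_stalk (R0 := Γ(S, US)) (S0 := Γ(S', UT)) (A0 := Γ(X, UX)) (A0' := Γ(X', UY))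
      (hUX.primeIdealOf xX).asIdeal.primeCompl (hUY.primeIdealOf xY).asIdeal.primeCompl
      (F.presheaf.stalk (g' x'))
  let e1 : (G.presheaf.stalk x') ≃ₗ[X'.presheaf.stalk x']
      ((ModuleCat.extendScalars.{u, u, u} (g'.stalkMap x').hom).obj
        ((stalkSh X (g' x')).obj F)) := ((stalkPullbackIso g' x').app F).toLinearEquiv
  let e2 : ((ModuleCat.extendScalars.{u, u, u} (g'.stalkMap x').hom).obj
      ((stalkSh X (g' x')).obj F)) ≃ₗ[X'.presheaf.stalk x']
      ((X'.presheaf.stalk x') ⊗[X.presheaf.stalk (g' x')] (F.presheaf.stalk (g' x'))) :=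
    Groth.Agent.Helper8.extScalEquiv (R := X.presheaf.stalk (g' x'))
      (S := X'.presheaf.stalk x') ((stalkSh X (g' x')).obj F)
  letI m3 : Module Γ(S', UT) (G.presheaf.stalk x') := stalkOver f' G hYT xY
  haveI t8 : IsScalarTower Γ(S', UT) (X'.presheaf.stalk x') (G.presheaf.stalk x') :=
    IsScalarTower.of_algebraMap_smul fun r m => rfl
  haveI := key
  exact Module.Flat.of_linearEquiv ((e1 ≪≫ₗ e2).restrictScalars Γ(S', UT))


end Groth.Agent.Lead.FB
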