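import Mathlib
import Groth.Agent.Lib.Lead.BCU1

/-!
# Semilinear maps and flat base change: the algebra of gluing (lead)
-/

set_option autoImplicit false
universe u
open TensorProduct

namespace Groth.Agent.Lead.FBC

section Alg

variable {A B : Type u} [CommRing A] [CommRing B] [Algebra A B]

section Def
variable {M N : Type u} [AddCommGroup M] [Module A M] [AddCommGroup N] [Module B N]

/-- `l : M → N` is additive and semilinear over `A → B` -/
structure SemiLin (l : M → N) : Prop where
  add : ∀ x y, l (x + y) = l x + l y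
  smul : ∀ (a : A) (m : M), l (a • m) = algebraMap A B a • l m

variable {l : M → N}

/-- the induced map `B ⊗ M → N` -/
noncomputable def tens (hl : SemiLin (A := A) (B := B) l) : B ⊗[A] M →+ N :=
  TensorProduct.liftAddHom
    { toFun := fun b =>
        { toFun := fun m => b • l m
          map_zero' := by
            have : l 0 = 0 := by
              have := hl.add 0 0
              rw [add_zero] at this
              exact left_eq_add.1 this
            rw [this, smul_zero]
          map_add' := fun x y => by rw [hl.add, smul_add] }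
      map_zero' := by
        ext m
        exact zero_smul _ _
      map_add' := fun b b' => by
        ext m
        exact add_smul _ _ _ }
    (fun a b m => by
      change (a • b) • l m = b • l (a • m)
      rw [hl.smul, Algebra.smul_def, mul_comm, mul_smul])

theorem tens_tmul (hl : SemiLin (A := A) (B := B) l) (b : B) (m : M) :
    tens hl (b ⊗ₜ m) = b • l m := rfl

theorem tens_smul (hl : SemiLin (A := A) (B := B) l) (b : B) (x : B ⊗[A] M) :
    tens hl (b • x) = b • tens hl x := by
  induction x using TensorProduct.induction_on with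
  | zero => rw [smul_zero, map_zero, smul_zero]
  | tmul b' m => rw [TensorProduct.smul_tmul', tens_tmul, tens_tmul, smul_eq_mul, mul_smul]
  | add x y hx hy => rw [smul_add, map_add, map_add, hx, hy, smul_add]

end Def

section Glue

variable {M M1 M2 M12 : Type u} [AddCommGroup M] [Module A M] [AddCommGroup M1] [Module A M1]
  [AddCommGroup M2] [Module A M2] [AddCommGroup M12] [Module A M12]
  {N N1 N2 N12 : Type u} [AddCommGroup N] [Module B N] [AddCommGroup N1] [Module B N1]
  [AddCommGroup N2] [Module B N2] [AddCommGroup N12] [Module B N12]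
  {l : M → N} {l1 : M1 → N1} {l2 : M2 → N2} {l12 : M12 → N12}

theorem tens_lTensor (hl : SemiLin (A := A) (B := B) l) (hl1 : SemiLin (A := A) (B := B) l1)
    (a1 : M →ₗ[A] M1) (c1 : N →ₗ[B] N1) (hc1 : ∀ m, c1 (l m) = l1 (a1 m)) (x : B ⊗[A] M) :
    tens hl1 (a1.lTensor B x) = c1 (tens hl x) := by
  induction x using TensorProduct.induction_on with
  | zero => rw [map_zero, map_zero, map_zero, map_zero]
  | tmul b m =>
    rw [LinearMap.lTensor_tmul, tens_tmul, tens_tmul, LinearMap.map_smul, hc1]
  | add x y hx hy => rw [map_add, map_add, map_add, map_add, hx, hy]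

theorem prodRight_lTensor (a1 : M →ₗ[A] M1) (a2 : M →ₗ[A] M2) (x : B ⊗[A] M) :
    TensorProduct.prodRight A B B M1 M2 ((a1.prod a2).lTensor B x) =
      (a1.lTensor B x, a2.lTensor B x) := by
  induction x using TensorProduct.induction_on with
  | zero =>
    rw [map_zero, map_zero, map_zero, map_zero]
    rfl
  | tmul b m => rfl
  | add x y hx hy =>
    rw [map_add, map_add, hx, hy, map_add, map_add]
    rfl

/-- gluing injectivity along a binary cover -/
theorem inj_glue [Module.Flat A B] (hl : SemiLin (A := A) (B := B) l)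
    (hl1 : SemiLin (A := A) (B := B) l1) (hl2 : SemiLin (A := A) (B := B) l2)
    (a1 : M →ₗ[A] M1) (a2 : M →ₗ[A] M2) (c1 : N →ₗ[B] N1) (c2 : N →ₗ[B] N2)
    (hc1 : ∀ m, c1 (l m) = l1 (a1 m)) (hc2 : ∀ m, c2 (l m) = l2 (a2 m))
    (hM : ∀ m, a1 m = 0 → a2 m = 0 → m = 0)
    (h1 : Function.Injective (tens hl1)) (h2 : Function.Injective (tens hl2)) :
    Function.Injective (tens hl) := by
  rw [injective_iff_map_eq_zero]
  intro x hx
  have e1 : a1.lTensor B x = 0 := by
    apply h1
    rw [tens_lTensor hl hl1 a1 c1 hc1, hx, map_zero, map_zero]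
  have e2 : a2.lTensor B x = 0 := by
    apply h2
    rw [tens_lTensor hl hl2 a2 c2 hc2, hx, map_zero, map_zero]
  have hinj : Function.Injective (a1.prod a2) := by
    rw [injective_iff_map_eq_zero]
    intro m hm
    have := Prod.mk.inj hm
    exact hM m this.1 this.2
  have hinj' := Module.Flat.lTensor_preserves_injective_linearMap (M := B) (a1.prod a2) hinj
  apply hinj'
  apply (TensorProduct.prodRight A B B M1 M2).injective
  rw [prodRight_lTensor, e1, e2, map_zero, map_zero]
  rfl

/-- gluing bijectivity along a binary cover -/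
theorem bij_glue [Module.Flat A B] (hl : SemiLin (A := A) (B := B) l)
    (hl1 : SemiLin (A := A) (B := B) l1) (hl2 : SemiLin (A := A) (B := B) l2)
    (hl12 : SemiLin (A := A) (B := B) l12)
    (a1 : M →ₗ[A] M1) (a2 : M →ₗ[A] M2) (c1 : N →ₗ[B] N1) (c2 : N →ₗ[B] N2)
    (b1 : M1 →ₗ[A] M12) (b2 : M2 →ₗ[A] M12) (d1 : N1 →ₗ[B] N12) (d2 : N2 →ₗ[B] N12)
    (hc1 : ∀ m, c1 (l m) = l1 (a1 m)) (hc2 : ∀ m, c2 (l m) = l2 (a2 m))
    (hd1 : ∀ m, d1 (l1 m) = l12 (b1 m)) (hd2 : ∀ m, d2 (l2 m) = l12 (b2 m))
    (hM : ∀ m, a1 m = 0 → a2 m = 0 → m = 0)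
    (hba : ∀ m, b1 (a1 m) = b2 (a2 m))
    (hMglue : ∀ m1 m2, b1 m1 = b2 m2 → ∃ m, a1 m = m1 ∧ a2 m = m2)
    (hN : ∀ n, c1 n = 0 → c2 n = 0 → n = 0)
    (hdc : ∀ n, d1 (c1 n) = d2 (c2 n))
    (h1 : Function.Bijective (tens hl1)) (h2 : Function.Bijective (tens hl2))
    (h12 : Function.Injective (tens hl12)) :
    Function.Bijective (tens hl) := by
  refine ⟨inj_glue hl hl1 hl2 a1 a2 c1 c2 hc1 hc2 hM h1.1 h2.1, ?_⟩
  intro n
  obtain ⟨x1, hx1⟩ := h1.2 (c1 n)
  obtain ⟨x2, hx2⟩ := h2.2 (c2 n)
  have e12 : b1.lTensor B x1 = b2.lTensor B x2 := by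
    apply h12
    rw [tens_lTensor hl1 hl12 b1 d1 hd1, tens_lTensor hl2 hl12 b2 d2 hd2, hx1, hx2, hdc]
  -- exactness
  have hex : Function.Exact (a1.prod a2) (b1.coprod (-b2)) := by
    intro p
    constructor
    · intro hp
      have hp' : b1 p.1 = b2 p.2 := by
        have : b1 p.1 + -(b2 p.2) = 0 := hp
        rwa [add_neg_eq_zero] at this
      obtain ⟨m, hm1, hm2⟩ := hMglue p.1 p.2 hp'
      exact ⟨m, Prod.ext hm1 hm2⟩
    · rintro ⟨m, rfl⟩
      change b1 (a1 m) + -(b2 (a2 m)) = 0
      rw [hba, add_neg_cancel]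
  have hex' := Module.Flat.lTensor_exact B hex
  let y : B ⊗[A] (M1 × M2) := (TensorProduct.prodRight A B B M1 M2).symm (x1, x2)
  have hy : (b1.coprod (-b2)).lTensor B y = 0 := by
    have key : ∀ z : (B ⊗[A] M1) × (B ⊗[A] M2),
        (b1.coprod (-b2)).lTensor B ((TensorProduct.prodRight A B B M1 M2).symm z) =
          b1.lTensor B z.1 - b2.lTensor B z.2 := by
      intro z
      have hz : z = (z.1, 0) + (0, z.2) := by simp
      rw [hz, map_add, map_add]
      have k1 : ∀ w : B ⊗[A] M1, (b1.coprod (-b2)).lTensor B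
          ((TensorProduct.prodRight A B B M1 M2).symm (w, 0)) = b1.lTensor B w := by
        intro w
        induction w using TensorProduct.induction_on with
        | zero =>
          have : ((0 : B ⊗[A] M1), (0 : B ⊗[A] M2)) = 0 := rfl
          rw [this, map_zero, map_zero, map_zero]
        | tmul b m =>
          have : ((b ⊗ₜ[A] m : B ⊗[A] M1), (0 : B ⊗[A] M2)) = (b ⊗ₜ m, b ⊗ₜ (0 : M2)) := by
            rw [TensorProduct.tmul_zero]
          rw [this, TensorProduct.prodRight_symm_tmul, LinearMap.lTensor_tmul,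
            LinearMap.lTensor_tmul]
          simp
        | add x y hx hy =>
          have : ((x + y : B ⊗[A] M1), (0 : B ⊗[A] M2)) = (x, 0) + (y, 0) := by simp
          rw [this, map_add, map_add, hx, hy, map_add]
      have k2 : ∀ w : B ⊗[A] M2, (b1.coprod (-b2)).lTensor B
          ((TensorProduct.prodRight A B B M1 M2).symm (0, w)) = - b2.lTensor B w := by
        intro w
        induction w using TensorProduct.induction_on with
        | zero =>
          have : ((0 : B ⊗[A] M1), (0 : B ⊗[A] M2)) = 0 := rfl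
          rw [this, map_zero, map_zero, map_zero, neg_zero]
        | tmul b m =>
          have : ((0 : B ⊗[A] M1), (b ⊗ₜ[A] m : B ⊗[A] M2)) = (b ⊗ₜ (0 : M1), b ⊗ₜ m) := by
            rw [TensorProduct.tmul_zero]
          rw [this, TensorProduct.prodRight_symm_tmul, LinearMap.lTensor_tmul,
            LinearMap.lTensor_tmul]
          simp [TensorProduct.tmul_neg]
        | add x y hx hy =>
          have : ((0 : B ⊗[A] M1), (x + y : B ⊗[A] M2)) = (0, x) + (0, y) := by simp
          rw [this, map_add, map_add, hx, hy, map_add, neg_add]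
      rw [k1, k2]
      simp [sub_eq_add_neg]
    rw [key]
    change b1.lTensor B x1 - b2.lTensor B x2 = 0
    rw [e12, sub_self]
  obtain ⟨x, hx⟩ := (hex' y).1 hy
  refine ⟨x, ?_⟩
  have hx' : (a1.lTensor B x, a2.lTensor B x) = (x1, x2) := by
    rw [← prodRight_lTensor, hx]
    exact LinearEquiv.apply_symm_apply _ _
  have hx1' : a1.lTensor B x = x1 := (Prod.mk.inj hx').1
  have hx2' : a2.lTensor B x = x2 := (Prod.mk.inj hx').2
  have r1 : c1 (tens hl x - n) = 0 := by
    rw [map_sub, ← tens_lTensor hl hl1 a1 c1 hc1, hx1', hx1, sub_self]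
  have r2 : c2 (tens hl x - n) = 0 := by
    rw [map_sub, ← tens_lTensor hl hl2 a2 c2 hc2, hx2', hx2, sub_self]
  exact sub_eq_zero.1 (hN _ r1 r2)

end Glue

end Alg

section Base

open CategoryTheory Groth.Agent.Lead.BCU

variable {A B R R' : Type u} [CommRing A] [CommRing B] [CommRing R] [CommRing R']
  (φ : A →+* B) (φR : R →+* R') (α : A →+* R) (α' : B →+* R')

/-- the affine case: a base change along the right side of a pushout square of rings is a
base change along the left side -/
theorem tens_bijective_of_isBC_pushout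
    (hpo : IsPushout (CommRingCat.ofHom φ) (CommRingCat.ofHom α) (CommRingCat.ofHom α')
      (CommRingCat.ofHom φR))
    {M N : Type u} [AddCommGroup M] [Module A M] [Module R M]
    (hM : ∀ (a : A) (m : M), a • m = α a • m)
    [AddCommGroup N] [Module B N] [Module R' N]
    (hN : ∀ (b : B) (n : N), b • n = α' b • n)
    {l : M → N} (h2 : IsBC φR l) :
    letI := φ.toAlgebra
    ∀ hl : SemiLin (A := A) (B := B) l, Function.Bijective (tens hl) := by
  letI := φ.toAlgebra
  intro hl
  refine bijective_of_isBC_pushout φ φR α α' hpo hM (isBC_tmul φ) h2 (tens hl) ?_ ?_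
  · intro b x
    rw [tens_smul, hN]
  · intro m
    change (1 : B) • l m = l m
    rw [one_smul]

/-- two descriptions of a base change are identified by any compatible semilinear map -/
theorem bijective_of_isBC_of_tens {A B : Type u} [CommRing A] [CommRing B] (φ : A →+* B)
    {M1 M2 N1 N2 : Type u} [AddCommGroup M1] [Module A M1] [AddCommGroup M2] [Module A M2]
    [AddCommGroup N1] [Module B N1] [AddCommGroup N2] [Module B N2]
    {l1 : M1 → N1} (h1 : IsBC φ l1) {l2 : M2 → N2} (ι : M1 ≃ₗ[A] M2)
    (υ : N1 →+ N2) (hυ : ∀ (b : B) (n : N1), υ (b • n) = b • υ n)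
    (hcomm : ∀ m, υ (l1 m) = l2 (ι m)) :
    letI := φ.toAlgebra
    ∀ hl2 : SemiLin (A := A) (B := B) l2, Function.Bijective (tens hl2) →
      Function.Bijective υ := by
  letI := φ.toAlgebra
  intro hl2 hb
  letI : Module A N1 := Module.compHom N1 φ
  haveI : IsScalarTower A B N1 := ⟨fun a b n => by
    change (φ a * b) • n = φ a • b • n
    exact mul_smul _ _ _⟩
  obtain ⟨l1', hl1, hb1⟩ := h1
  let e1 : B ⊗[A] M1 ≃ₗ[B] N1 := hb1.equiv
  have key : ∀ x : B ⊗[A] M1, υ (e1 x) = tens hl2 ((ι.toLinearMap).lTensor B x) := by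
    intro x
    induction x using TensorProduct.induction_on with
    | zero => rw [map_zero, map_zero, map_zero, map_zero]
    | tmul b m =>
      have h3 : e1 (b ⊗ₜ m) = b • l1' m := IsBaseChange.equiv_tmul _ _ _
      rw [h3, hυ, hl1, hcomm, LinearMap.lTensor_tmul, tens_tmul]
      rfl
    | add x y hx hy => rw [map_add, map_add, map_add, map_add, hx, hy]
  have hT : Function.Bijective (fun x : B ⊗[A] M1 => tens hl2 ((ι.toLinearMap).lTensor B x)) :=
    hb.comp (LinearEquiv.lTensor B ι).bijective
  have h5 : (υ : N1 → N2) = (fun x : B ⊗[A] M1 => tens hl2 ((ι.toLinearMap).lTensor B x)) ∘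
      e1.symm := by
    funext n
    have := key (e1.symm n)
    rw [LinearEquiv.apply_symm_apply] at this
    exact this
  rw [h5]
  exact hT.comp e1.symm.bijective

end Base

end Groth.Agent.Lead.FBC
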