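import Mathlib

/-!
# Vanishing in a tensor product with a filtered colimit of algebras (lead)
-/

set_option autoImplicit false
universe u
open CategoryTheory TensorProduct

namespace Groth.Agent.Lead.LimZ

section Alg

variable {A : Type u} [CommRing A] {J : Type u} [SmallCategory J] [IsCofiltered J]
  (B : J → Type u) [∀ j, CommRing (B j)] [∀ j, Algebra A (B j)]
  (τ : ∀ {j k : J}, (k ⟶ j) → (B j →ₐ[A] B k))
  (hτ : ∀ {j k l : J} (f : k ⟶ j) (g : l ⟶ k) (x : B j), τ (g ≫ f) x = τ g (τ f x))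
  {B' : Type u} [CommRing B'] [Algebra A B'] (ρ : ∀ j, B j →ₐ[A] B')
  (hρ : ∀ {j k : J} (f : k ⟶ j) (x : B j), ρ k (τ f x) = ρ j x)

include hρ in
/-- finitely many elements of the colimit come from a common stage -/
theorem exists_lift_fin (hsurj : ∀ b : B', ∃ (j : J) (x : B j), ρ j x = b) :
    ∀ (n : ℕ) (y : Fin n → B'), ∃ (j : J) (x : Fin n → B j), ∀ κ, ρ j (x κ) = y κ := by
  intro n
  induction n with
  | zero =>
    intro y
    exact ⟨IsCofiltered.nonempty.some, fun κ => κ.elim0, fun κ => κ.elim0⟩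
  | succ n ih =>
    intro y
    obtain ⟨j, x, hx⟩ := ih (fun κ => y κ.castSucc)
    obtain ⟨j', x', hx'⟩ := hsurj (y (Fin.last n))
    let l := IsCofiltered.min j j'
    refine ⟨l, Fin.lastCases (τ (IsCofiltered.minToRight j j') x')
      (fun κ => τ (IsCofiltered.minToLeft j j') (x κ)), ?_⟩
    intro κ
    refine Fin.lastCases ?_ (fun κ => ?_) κ
    · simp only [Fin.lastCases_last]
      rw [hρ, hx']
    · simp only [Fin.lastCases_castSucc]
      rw [hρ, hx]

include hτ hρ in
/-- finitely many elements of a stage dying in the colimit die at a common later stage -/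
theorem exists_kill_fin (hzero : ∀ (j : J) (x : B j), ρ j x = 0 → ∃ (k : J) (f : k ⟶ j), τ f x = 0) :
    ∀ (n : ℕ) (j : J) (x : Fin n → B j), (∀ i, ρ j (x i) = 0) →
      ∃ (k : J) (f : k ⟶ j), ∀ i, τ f (x i) = 0 := by
  intro n
  induction n with
  | zero =>
    intro j x _
    exact ⟨j, 𝟙 j, fun i => i.elim0⟩
  | succ n ih =>
    intro j x hx
    obtain ⟨k, f, hf⟩ := ih j (fun i => x i.castSucc) (fun i => hx _)
    have h1 : ρ k (τ f (x (Fin.last n))) = 0 := by rw [hρ, hx]
    obtain ⟨l, g, hg⟩ := hzero k _ h1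
    refine ⟨l, g ≫ f, ?_⟩
    intro i
    refine Fin.lastCases ?_ (fun i => ?_) i
    · rw [hτ, hg]
    · rw [hτ, hf, map_zero]

include hτ hρ in
/-- an elementary tensor `t ⊗ 1` vanishing in `M ⊗ colim B_j` vanishes in some `M ⊗ B_j` -/
theorem exists_tmul_one_eq_zero (hsurj : ∀ b : B', ∃ (j : J) (x : B j), ρ j x = b)
    (hzero : ∀ (j : J) (x : B j), ρ j x = 0 → ∃ (k : J) (f : k ⟶ j), τ f x = 0)
    {M : Type u} [AddCommGroup M] [Module A M] (t : M) (ht : t ⊗ₜ[A] (1 : B') = 0) :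
    ∃ j : J, t ⊗ₜ[A] (1 : B j) = 0 := by
  classical
  -- step 1: reduce to a finitely generated submodule
  let N₀ : Submodule A M := Submodule.span A {t}
  have hN₀ : N₀.FG := Submodule.fg_span_singleton t
  have ht₀ : t ∈ N₀ := Submodule.mem_span_singleton_self t
  have e0 : N₀.subtype.rTensor B' ((⟨t, ht₀⟩ : N₀) ⊗ₜ[A] (1 : B')) =
      N₀.subtype.rTensor B' 0 := by
    rw [LinearMap.rTensor_tmul, map_zero]
    exact ht
  obtain ⟨N', hN', hle, e1⟩ := hN₀.exists_rTensor_fg_inclusion_eq e0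
  rw [LinearMap.rTensor_tmul, map_zero] at e1
  -- step 2: generators
  haveI : Module.Finite A N' := Module.Finite.iff_fg.2 hN'
  obtain ⟨r, m, hm⟩ := Module.Finite.exists_fin (R := A) (M := N')
  let t' : N' := Submodule.inclusion hle ⟨t, ht₀⟩
  have ht' : t' ∈ Submodule.span A (Set.range m) := by rw [hm]; trivial
  obtain ⟨a, ha⟩ := (Submodule.mem_span_range_iff_exists_fun A).1 ht'
  have e2 : ∑ i, m i ⊗ₜ[A] (algebraMap A B' (a i)) = (0 : N' ⊗[A] B') := by
    have : ∀ i, m i ⊗ₜ[A] (algebraMap A B' (a i)) = (a i • m i) ⊗ₜ[A] (1 : B') := by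
      intro i
      rw [Algebra.algebraMap_eq_smul_one, TensorProduct.tmul_smul, TensorProduct.smul_tmul']
    simp_rw [this]
    rw [← TensorProduct.sum_tmul, ha]
    exact e1
  -- step 3: the equational criterion
  obtain ⟨k, α, y, hy1, hy2⟩ := TensorProduct.vanishesTrivially_of_sum_tmul_eq_zero A hm e2
  -- step 4: lift to a stage
  obtain ⟨j₁, y₁, hy₁⟩ := exists_lift_fin B τ ρ hρ hsurj k y
  -- step 5: kill the defects
  obtain ⟨j₂, f, hf⟩ := exists_kill_fin B τ hτ ρ hρ hzero r j₁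
    (fun i => algebraMap A (B j₁) (a i) - ∑ κ, α i κ • y₁ κ) (by
      intro i
      have h1 : algebraMap A B' (a i) = ∑ κ, α i κ • y κ := hy1 i
      rw [map_sub, AlgHom.commutes, map_sum, h1, sub_eq_zero]
      refine Finset.sum_congr rfl fun κ _ => ?_
      rw [map_smul, hy₁])
  refine ⟨j₂, ?_⟩
  -- step 6: conclude at the stage `j₂`
  have hv : TensorProduct.VanishesTrivially A m (fun i => algebraMap A (B j₂) (a i)) := by
    refine ⟨k, α, fun κ => τ f (y₁ κ), fun i => ?_, hy2⟩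
    have := hf i
    rw [map_sub, AlgHom.commutes, map_sum, sub_eq_zero] at this
    change algebraMap A (B j₂) (a i) = ∑ κ, α i κ • τ f (y₁ κ)
    rw [this]
    refine Finset.sum_congr rfl fun κ _ => ?_
    rw [map_smul]
  have e3 := TensorProduct.sum_tmul_eq_zero_of_vanishesTrivially A hv
  have e4 : t' ⊗ₜ[A] (1 : B j₂) = 0 := by
    have : ∀ i, m i ⊗ₜ[A] (algebraMap A (B j₂) (a i)) = (a i • m i) ⊗ₜ[A] (1 : B j₂) := by
      intro i
      rw [Algebra.algebraMap_eq_smul_one, TensorProduct.tmul_smul, TensorProduct.smul_tmul']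
    simp_rw [this] at e3
    rw [← TensorProduct.sum_tmul, ha] at e3
    exact e3
  have e5 := congrArg (N'.subtype.rTensor (B j₂)) e4
  rw [LinearMap.rTensor_tmul, map_zero] at e5
  exact e5

end Alg

end Groth.Agent.Lead.LimZ
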