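import Mathlib
import Groth.Agent.Lib.Lead.BCU3
import Groth.Agent.Lib.Lead.LimZ1

/-!
# Vanishing of sections of a pulled back module in a cofiltered limit of schemes (lead)
-/

set_option autoImplicit false
universe u
open CategoryTheory CategoryTheory.Limits AlgebraicGeometry TopologicalSpace TensorProduct
set_option backward.isDefEq.respectTransparency.types false

namespace Groth.Agent.Lead.LimZ

open Groth.Agent.Lead.BCU

section Alg

variable {A A' : Type u} [CommRing A] [CommRing A'] {φ : A →+* A'}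
  {M N : Type u} [AddCommGroup M] [Module A M] [AddCommGroup N] [Module A' N]

theorem isBC_eq_zero_iff {l : M → N} (h : IsBC φ l) (m : M) :
    l m = 0 ↔ letI := φ.toAlgebra; m ⊗ₜ[A] (1 : A') = 0 := by
  letI := φ.toAlgebra
  letI : Module A N := Module.compHom N φ
  haveI : IsScalarTower A A' N := ⟨fun a a' n => by
    change (φ a * a') • n = φ a • a' • n
    exact mul_smul _ _ _⟩
  obtain ⟨l', hl', hb⟩ := h
  have h1 : hb.equiv ((1 : A') ⊗ₜ[A] m) = l m := by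
    rw [IsBaseChange.equiv_tmul, one_smul, hl']
  constructor
  · intro h0
    have h3 : (1 : A') ⊗ₜ[A] m = 0 := by
      apply hb.equiv.injective
      rw [h1, h0, map_zero]
    have h2 := congrArg (TensorProduct.comm A A' M) h3
    rw [TensorProduct.comm_tmul, map_zero] at h2
    exact h2
  · intro h0
    have h2 := congrArg (TensorProduct.comm A M A') h0
    rw [TensorProduct.comm_tmul, map_zero] at h2
    rw [← h1, h2, map_zero]

theorem isBC_map_add {l : M → N} (h : IsBC φ l) (m m' : M) : l (m + m') = l m + l m' := by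
  letI := φ.toAlgebra
  letI : Module A N := Module.compHom N φ
  obtain ⟨l', hl', hb⟩ := h
  rw [← hl', ← hl', ← hl', map_add]

theorem isBC_map_zero {l : M → N} (h : IsBC φ l) : l 0 = 0 := by
  letI := φ.toAlgebra
  letI : Module A N := Module.compHom N φ
  obtain ⟨l', hl', hb⟩ := h
  rw [← hl', map_zero]

theorem isBC_map_smul {l : M → N} (h : IsBC φ l) (a : A) (m : M) : l (a • m) = φ a • l m := by
  letI := φ.toAlgebra
  letI : Module A N := Module.compHom N φ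
  obtain ⟨l', hl', hb⟩ := h
  rw [← hl', ← hl', map_smul]
  rfl

theorem isBC_span_range {l : M → N} (h : IsBC φ l) : Submodule.span A' (Set.range l) = ⊤ := by
  letI := φ.toAlgebra
  letI : Module A N := Module.compHom N φ
  haveI : IsScalarTower A A' N := ⟨fun a a' n => by
    change (φ a * a') • n = φ a • a' • n
    exact mul_smul _ _ _⟩
  obtain ⟨l', hl', hb⟩ := h
  rw [eq_top_iff]
  intro n _
  refine hb.inductionOn n (fun n => n ∈ Submodule.span A' (Set.range l)) (Submodule.zero_mem _)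
    ?_ ?_ ?_
  · intro m
    exact Submodule.subset_span ⟨m, (hl' m).symm⟩
  · intro s n hn
    exact Submodule.smul_mem _ s hn
  · intro n₁ n₂ h₁ h₂
    exact Submodule.add_mem _ h₁ h₂

end Alg

section Rings

variable {I : Type u} [SmallCategory I] [IsCofiltered I] (D : I ⥤ Scheme.{u}) (c : Cone D)
  (hc : IsLimit c) [∀ (i j : I) (f : i ⟶ j), IsAffineHom (D.map f)] (i₀ : I)
  (W : (D.obj i₀).Opens)

omit [IsCofiltered I] [∀ (i j : I) (f : i ⟶ j), IsAffineHom (D.map f)] in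
theorem le_map {j k : Over i₀} (f : k ⟶ j) :
    D.map k.hom ⁻¹ᵁ W ≤ D.map f.left ⁻¹ᵁ (D.map j.hom ⁻¹ᵁ W) := by
  rw [← Scheme.Hom.comp_preimage, ← D.map_comp, Over.w f]

omit [IsCofiltered I] [∀ (i j : I) (f : i ⟶ j), IsAffineHom (D.map f)] in
theorem le_pi (j : Over i₀) :
    c.π.app i₀ ⁻¹ᵁ W ≤ c.π.app j.left ⁻¹ᵁ (D.map j.hom ⁻¹ᵁ W) := by
  rw [← Scheme.Hom.comp_preimage, c.w]

include hc in
theorem hsurj_rings (hW : IsAffineOpen W) (b : Γ(c.pt, c.π.app i₀ ⁻¹ᵁ W)) :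
    ∃ (j : Over i₀) (x : Γ(D.obj j.left, D.map j.hom ⁻¹ᵁ W)),
      (c.π.app j.left).appLE _ _ (le_pi D c i₀ W j) x = b := by
  haveI : ∀ {i j : I} (f : i ⟶ j), IsAffineHom (D.map f) := fun f => inferInstance
  haveI : ∀ j : Over i₀, IsAffine ((opensDiagram D i₀ W).obj j) := fun j => hW.preimage (D.map _)
  obtain ⟨j, t, hj⟩ := exists_appTop_π_eq_of_isAffine_of_isLimit _ _
    (isLimitOpensCone D c hc i₀ W) ((c.π.app i₀ ⁻¹ᵁ W).topIso.inv b)
  refine ⟨j, (D.map j.hom ⁻¹ᵁ W).topIso.hom t, ?_⟩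
  have h1 : ((opensCone D c i₀ W).π.app j).appTop =
      (D.map j.hom ⁻¹ᵁ W).topIso.hom ≫ (c.π.app j.left).appLE _ _ (le_pi D c i₀ W j) ≫
        (c.π.app i₀ ⁻¹ᵁ W).topIso.inv :=
    Scheme.Hom.resLE_app_top _ _
  rw [h1] at hj
  have h2 := congrArg (c.π.app i₀ ⁻¹ᵁ W).topIso.hom hj
  change (c.π.app i₀ ⁻¹ᵁ W).topIso.hom ((c.π.app i₀ ⁻¹ᵁ W).topIso.inv
    ((c.π.app j.left).appLE _ _ (le_pi D c i₀ W j) ((D.map j.hom ⁻¹ᵁ W).topIso.hom t))) = _ at h2
  rw [Iso.inv_hom_id_apply, Iso.inv_hom_id_apply] at h2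
  exact h2

include hc in
theorem hzero_rings (hW : IsAffineOpen W) (j : Over i₀)
    (x : Γ(D.obj j.left, D.map j.hom ⁻¹ᵁ W))
    (hx : (c.π.app j.left).appLE _ _ (le_pi D c i₀ W j) x = 0) :
    ∃ (k : Over i₀) (f : k ⟶ j), (D.map f.left).appLE _ _ (le_map D i₀ W f) x = 0 := by
  haveI : ∀ {i j : I} (f : i ⟶ j), IsAffineHom (D.map f) := fun f => inferInstance
  haveI : ∀ j : Over i₀, IsAffine ((opensDiagram D i₀ W).obj j) := fun j => hW.preimage (D.map _)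
  have h1 : ((opensCone D c i₀ W).π.app j).appTop =
      (D.map j.hom ⁻¹ᵁ W).topIso.hom ≫ (c.π.app j.left).appLE _ _ (le_pi D c i₀ W j) ≫
        (c.π.app i₀ ⁻¹ᵁ W).topIso.inv :=
    Scheme.Hom.resLE_app_top _ _
  have h0 : ((opensCone D c i₀ W).π.app j).appTop ((D.map j.hom ⁻¹ᵁ W).topIso.inv x) = 0 := by
    rw [h1]
    change (c.π.app i₀ ⁻¹ᵁ W).topIso.inv ((c.π.app j.left).appLE _ _ (le_pi D c i₀ W j)
      ((D.map j.hom ⁻¹ᵁ W).topIso.hom ((D.map j.hom ⁻¹ᵁ W).topIso.inv x))) = 0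
    rw [Iso.inv_hom_id_apply, hx, map_zero]
  obtain ⟨k, f, hf⟩ := exists_appTop_map_eq_zero_of_isAffine_of_isLimit _ _
    (isLimitOpensCone D c hc i₀ W) j _ h0
  refine ⟨k, f, ?_⟩
  have h2 : ((opensDiagram D i₀ W).map f).appTop =
      (D.map j.hom ⁻¹ᵁ W).topIso.hom ≫ (D.map f.left).appLE _ _ (le_map D i₀ W f) ≫
        (D.map k.hom ⁻¹ᵁ W).topIso.inv :=
    Scheme.Hom.resLE_app_top _ _
  rw [h2] at hf
  change (D.map k.hom ⁻¹ᵁ W).topIso.inv ((D.map f.left).appLE _ _ (le_map D i₀ W f)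
      ((D.map j.hom ⁻¹ᵁ W).topIso.hom ((D.map j.hom ⁻¹ᵁ W).topIso.inv x))) = 0 at hf
  rw [Iso.inv_hom_id_apply] at hf
  have h3 := congrArg (D.map k.hom ⁻¹ᵁ W).topIso.hom hf
  rw [Iso.inv_hom_id_apply, map_zero] at h3
  exact h3

end Rings

section Step1

theorem appLE_comp_eq {X Y Z : Scheme.{u}} (f : X ⟶ Y) (g : Y ⟶ Z) (h : X ⟶ Z) (e : f ≫ g = h)
    {U : Z.Opens} {V : Y.Opens} {O : X.Opens} (e1 : V ≤ g ⁻¹ᵁ U) (e2 : O ≤ f ⁻¹ᵁ V)
    (e3 : O ≤ h ⁻¹ᵁ U) (a : Γ(Z, U)) :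
    f.appLE V O e2 (g.appLE U V e1 a) = h.appLE U O e3 a := by
  subst e
  have := Scheme.Hom.appLE_comp_appLE f g U V O e1 e2
  exact congrArg (fun φ => φ.hom a) this

variable {I : Type u} [SmallCategory I] [IsCofiltered I] (D : I ⥤ Scheme.{u}) (c : Cone D)
  (hc : IsLimit c) [∀ (i j : I) (f : i ⟶ j), IsAffineHom (D.map f)] (i₀ : I)
  {W : (D.obj i₀).Opens} (G₀ : (D.obj i₀).Modules) [G₀.IsQuasicoherent]

include hc in
/-- a section of a quasi-coherent module over an affine open of a stage whose pullback to the limit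
vanishes has vanishing pullback at some later stage -/
theorem exists_unitRes_eq_zero (hW : IsAffineOpen W) (t : Γ(G₀, W))
    (ht : unitRes (c.π.app i₀) G₀ (le_refl (c.π.app i₀ ⁻¹ᵁ W)) t = 0) :
    ∃ j : Over i₀, unitRes (D.map j.hom) G₀ (le_refl (D.map j.hom ⁻¹ᵁ W)) t = 0 := by
  haveI : ∀ {i j : I} (f : i ⟶ j), IsAffineHom (D.map f) := fun f => inferInstance
  haveI : IsAffineHom (c.π.app i₀) := isAffineHom_π_app D c hc i₀
  have hWc : IsAffineOpen (c.π.app i₀ ⁻¹ᵁ W) := hW.preimage _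
  have hWj : ∀ j : Over i₀, IsAffineOpen (D.map j.hom ⁻¹ᵁ W) := fun j => hW.preimage _
  have hbc := isBC_unitRes (c.π.app i₀) G₀ hW hWc le_rfl
  have hbj := fun j : Over i₀ => isBC_unitRes (D.map j.hom) G₀ hW (hWj j) le_rfl
  rw [isBC_eq_zero_iff hbc] at ht
  letI : ∀ j : Over i₀, Algebra Γ(D.obj i₀, W) Γ(D.obj j.left, D.map j.hom ⁻¹ᵁ W) :=
    fun j => ((D.map j.hom).appLE W _ le_rfl).hom.toAlgebra
  letI : Algebra Γ(D.obj i₀, W) Γ(c.pt, c.π.app i₀ ⁻¹ᵁ W) :=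
    ((c.π.app i₀).appLE W _ le_rfl).hom.toAlgebra
  let τ : ∀ {j k : Over i₀}, (k ⟶ j) → (Γ(D.obj j.left, D.map j.hom ⁻¹ᵁ W) →ₐ[Γ(D.obj i₀, W)]
      Γ(D.obj k.left, D.map k.hom ⁻¹ᵁ W)) :=
    fun {j k} f =>
      { toRingHom := ((D.map f.left).appLE _ _ (le_map D i₀ W f)).hom
        commutes' := fun a => by
          refine appLE_comp_eq (D.map f.left) (D.map j.hom) (D.map k.hom) ?_ _ _ _ a
          rw [← D.map_comp, Over.w f] }
  let ρ : ∀ j : Over i₀, (Γ(D.obj j.left, D.map j.hom ⁻¹ᵁ W) →ₐ[Γ(D.obj i₀, W)]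
      Γ(c.pt, c.π.app i₀ ⁻¹ᵁ W)) :=
    fun j =>
      { toRingHom := ((c.π.app j.left).appLE _ _ (le_pi D c i₀ W j)).hom
        commutes' := fun a => by
          refine appLE_comp_eq (c.π.app j.left) (D.map j.hom) (c.π.app i₀) ?_ _ _ _ a
          exact c.w j.hom }
  have hτ : ∀ {j k l : Over i₀} (f : k ⟶ j) (g : l ⟶ k) (x : Γ(D.obj j.left, D.map j.hom ⁻¹ᵁ W)),
      τ (g ≫ f) x = τ g (τ f x) := by
    intro j k l f g x
    refine (appLE_comp_eq (D.map g.left) (D.map f.left) (D.map (g ≫ f).left) ?_ _ _ _ x).symm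
    rw [← D.map_comp]
    rfl
  have hρ : ∀ {j k : Over i₀} (f : k ⟶ j) (x : Γ(D.obj j.left, D.map j.hom ⁻¹ᵁ W)),
      ρ k (τ f x) = ρ j x := by
    intro j k f x
    refine appLE_comp_eq (c.π.app k.left) (D.map f.left) (c.π.app j.left) ?_ _ _ _ x
    exact c.w f.left
  obtain ⟨j, hj⟩ := exists_tmul_one_eq_zero
    (fun j : Over i₀ => Γ(D.obj j.left, D.map j.hom ⁻¹ᵁ W)) τ hτ ρ hρ
    (fun b => hsurj_rings D c hc i₀ W hW b)
    (fun j x hx => hzero_rings D c hc i₀ W hW j x hx) t ht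
  exact ⟨j, (isBC_eq_zero_iff (hbj j) t).2 hj⟩

end Step1

end Groth.Agent.Lead.LimZ
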