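import Mathlib
import Groth.Agent.Lib.Lead.CIU6
import Groth.Agent.Lib.Lead.SD2

/-!
# Vanishing of a morphism of modules on open subsets of an affine open (lead)
-/

set_option autoImplicit false
universe u
open CategoryTheory AlgebraicGeometry TopologicalSpace
set_option backward.isDefEq.respectTransparency.types false

namespace Groth.Agent.Lead.ZeroNhd

open Scheme.Modules Groth.Agent.Lead.SD Groth.Agent.Lead.CIU

attribute [local instance] Groth.Agent.Lead.SD.basicOpenModule

variable {X : Scheme.{u}} {F G : X.Modules} (u : F ⟶ G)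

/-- on a basic open, a power of the function acts injectively -/
theorem eq_zero_of_pow_smul_eq_zero (M : X.Modules) {V : X.Opens} (t : Γ(X, V))
    (z : Γ(M, X.basicOpen t)) (k : ℕ) (h : (t ^ k) • z = 0) : z = 0 := by
  have hu : IsUnit ((X.presheaf.map (homOfLE (X.basicOpen_le t)).op).hom t) :=
    X.toRingedSpace.isUnit_res_basicOpen t
  rw [smul_basicOpen_def, map_pow] at h
  exact (hu.pow k).smul_left_cancel.1 (h.trans (smul_zero _).symm)

/-- the morphism commutes with the action of functions on the ambient open -/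
theorem app_basicOpen_smul {V : X.Opens} (t : Γ(X, V)) (a : Γ(X, V)) (z : Γ(F, X.basicOpen t)) :
    u.app (X.basicOpen t) (a • z) = a • u.app (X.basicOpen t) z := by
  rw [smul_basicOpen_def, smul_basicOpen_def, Hom.app_smul]

/-- a morphism out of a quasi-coherent module vanishing on the sections over an affine open
vanishes on the sections over all smaller opens -/
theorem app_eq_zero_of_le_affine [F.IsQuasicoherent] {V : X.Opens} (hV : IsAffineOpen V)
    (h0 : ∀ m : Γ(F, V), u.app V m = 0) (O : X.Opens) (hO : O ≤ V) (y : Γ(F, O)) :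
    u.app O y = 0 := by
  apply G.isSheaf.section_ext (U := Opposite.op O)
  intro p hp
  obtain ⟨t, htO, hpt⟩ := hV.exists_basicOpen_le ⟨p, hp⟩ (hO hp)
  refine ⟨X.basicOpen t, htO, hpt, ?_⟩
  rw [map_zero, ← hom_naturality_apply u htO y]
  haveI := isLocalizedModule_res F hV t
  obtain ⟨⟨m, ⟨_, k, rfl⟩⟩, hm⟩ := IsLocalizedModule.surj (Submonoid.powers t) (resₗ F t)
    (F.presheaf.map (homOfLE htO).op y)
  apply eq_zero_of_pow_smul_eq_zero G t _ k
  rw [← app_basicOpen_smul]
  have hm' : (t ^ k) • (F.presheaf.map (homOfLE htO).op y) = resₗ F t m := hm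
  rw [hm', resₗ_apply, hom_naturality_apply u (X.basicOpen_le t) m, h0 m, map_zero]

/-- if `s` kills the image of the sections over an affine open, the morphism vanishes on the
basic open of `s` -/
theorem app_basicOpen_eq_zero [F.IsQuasicoherent] {W : X.Opens} (hW : IsAffineOpen W)
    (s : Γ(X, W)) (hs : ∀ m : Γ(F, W), s • u.app W m = 0) (y : Γ(F, X.basicOpen s)) :
    u.app (X.basicOpen s) y = 0 := by
  haveI := isLocalizedModule_res F hW s
  obtain ⟨⟨m, ⟨_, k, rfl⟩⟩, hm⟩ := IsLocalizedModule.surj (Submonoid.powers s) (resₗ F s) y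
  have hm' : (s ^ k) • y = resₗ F s m := hm
  apply eq_zero_of_pow_smul_eq_zero G s _ (k + 1)
  rw [pow_succ', mul_smul, ← app_basicOpen_smul, hm', resₗ_apply,
    hom_naturality_apply u (X.basicOpen_le s) m, smul_basicOpen_def,
    ← Scheme.Modules.map_smul, hs m, map_zero]

end Groth.Agent.Lead.ZeroNhd
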