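import Mathlib
import Groth.Agent.Lib.Lead.LimZ2
import Groth.Agent.Lib.Lead.ZeroNhd
import Groth.Agent.Lib.Lead.PBQc

/-!
# Vanishing of a pulled back morphism of modules in a cofiltered limit of schemes (lead)
-/

set_option autoImplicit false
universe u
open CategoryTheory CategoryTheory.Limits AlgebraicGeometry TopologicalSpace TensorProduct
set_option backward.isDefEq.respectTransparency.types false

namespace Groth.Agent.Lead.LimZ

open Groth.Agent.Lead.BCU Groth.Agent.Lead.CIU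

section Nat

variable {Y' Y : Scheme.{u}} (h : Y' ⟶ Y) {F G : Y.Modules} (χ : F ⟶ G) {W : Y.Opens}
  {W' : Y'.Opens}

theorem unitRes_naturality (e : W' ≤ h ⁻¹ᵁ W) (s : Γ(F, W)) :
    ((Scheme.Modules.pullback h).map χ).app W' (unitRes h F e s) =
      unitRes h G e (χ.app W s) := by
  have e1 := (Scheme.Modules.pullbackPushforwardAdjunction h).unit.naturality χ
  have e2 := congrArg (fun φ => Scheme.Modules.Hom.app φ W) e1
  have e3 := congrArg (fun φ => φ s) e2
  unfold unitRes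
  rw [app_res]
  exact congrArg _ e3.symm

theorem unitRes_zero (G : Y.Modules) (e : W' ≤ h ⁻¹ᵁ W) : unitRes h G e 0 = 0 := by
  unfold unitRes
  rw [map_zero]
  exact map_zero (((Scheme.Modules.pullback h).obj G).presheaf.map (homOfLE e).op).hom

theorem unitRes_congr {k k' : Y' ⟶ Y} (ek : k = k') (G : Y.Modules) (e : W' ≤ k ⁻¹ᵁ W)
    (e' : W' ≤ k' ⁻¹ᵁ W) (m : Γ(G, W)) (h0 : unitRes k G e m = 0) : unitRes k' G e' m = 0 := by
  subst ek
  exact h0

theorem eq_zero_of_inv_app_eq_zero {Z : Scheme.{u}} {K₁ K₂ : Z.Modules} (θ : K₁ ≅ K₂)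
    (O : Z.Opens) (z : Γ(K₂, O)) (hz : θ.inv.app O z = 0) : z = 0 := by
  have h := congrArg (fun φ => Scheme.Modules.Hom.app φ O) θ.inv_hom_id
  have h2 := congrArg (fun φ => φ z) h
  have h3 : θ.hom.app O (θ.inv.app O z) = z := h2
  rw [← h3, hz, map_zero]

theorem unitRes_comp {Y'' : Scheme.{u}} (g : Y'' ⟶ Y') (G : Y.Modules) {W'' : Y''.Opens}
    (e : W' ≤ h ⁻¹ᵁ W) (e' : W'' ≤ g ⁻¹ᵁ W') (e'' : W'' ≤ (g ≫ h) ⁻¹ᵁ W) (m : Γ(G, W)) :
    unitRes g ((Scheme.Modules.pullback h).obj G) e' (unitRes h G e m) =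
      ((Scheme.Modules.pullbackComp g h).inv.app G).app W'' (unitRes (g ≫ h) G e'' m) := by
  unfold unitRes
  have s1 := app_res ((Scheme.Modules.pullbackPushforwardAdjunction g).unit.app
    ((Scheme.Modules.pullback h).obj G)) e
    (((Scheme.Modules.pullbackPushforwardAdjunction h).unit.app G).app W m)
  have s2 := unit_comp_apply g h G W m
  have s3 := app_res ((Scheme.Modules.pullbackComp g h).inv.app G) e''
    (((Scheme.Modules.pullbackPushforwardAdjunction (g ≫ h)).unit.app G).app W m)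
  rw [s3, ← s2]
  refine Eq.trans (congrArg _ s1) ?_
  exact res_res ((Scheme.Modules.pullback g).obj ((Scheme.Modules.pullback h).obj G))
    (g.preimage_mono e) e' _

theorem unitRes_comp_eq_zero {Y'' : Scheme.{u}} (g : Y'' ⟶ Y') (G : Y.Modules) {W'' : Y''.Opens}
    (e : W' ≤ h ⁻¹ᵁ W) (e' : W'' ≤ g ⁻¹ᵁ W') (e'' : W'' ≤ (g ≫ h) ⁻¹ᵁ W) (m : Γ(G, W))
    (h0 : unitRes h G e m = 0) : unitRes (g ≫ h) G e'' m = 0 := by
  have h1 := unitRes_comp h g G e e' e'' m
  rw [h0, unitRes_zero] at h1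
  have h2 : (((Scheme.Modules.pullbackComp g h).app G).inv).app W'' (unitRes (g ≫ h) G e'' m) = 0 :=
    h1.symm
  exact eq_zero_of_inv_app_eq_zero ((Scheme.Modules.pullbackComp g h).app G) W'' _ h2

end Nat

section Common

/-- finitely many eventually true monotone conditions are simultaneously true at some stage -/
theorem exists_common {J : Type u} [SmallCategory J] [IsCofiltered J] {α : Type u}
    (P : J → α → Prop) (hmono : ∀ {j k : J} (_ : k ⟶ j) (a : α), P j a → P k a)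
    (s : Finset α) (h : ∀ a ∈ s, ∃ j, P j a) : ∃ k, ∀ a ∈ s, P k a := by
  classical
  induction s using Finset.induction_on with
  | empty => exact ⟨IsCofiltered.nonempty.some, fun a ha => absurd ha (Finset.notMem_empty a)⟩
  | insert a s _ ih =>
    obtain ⟨k, hk⟩ := ih (fun b hb => h b (Finset.mem_insert_of_mem hb))
    obtain ⟨j, hj⟩ := h a (Finset.mem_insert_self a s)
    refine ⟨IsCofiltered.min j k, ?_⟩
    intro b hb
    rcases Finset.mem_insert.1 hb with rfl | hb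
    · exact hmono (IsCofiltered.minToLeft j k) _ hj
    · exact hmono (IsCofiltered.minToRight j k) _ (hk b hb)

end Common

section Cover

/-- a morphism out of a quasi-coherent module vanishing on the sections over the members of an
affine open cover is zero -/
theorem hom_eq_zero_of_affine_cover {X : Scheme.{u}} {M N : X.Modules} [M.IsQuasicoherent]
    (ψ : M ⟶ N)
    (h : ∀ x : X, ∃ V : X.Opens, IsAffineOpen V ∧ x ∈ V ∧ ∀ m : Γ(M, V), ψ.app V m = 0) :
    ψ = 0 := by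
  apply Scheme.Modules.hom_ext
  intro O
  ext y
  rw [Scheme.Modules.Hom.zero_app]
  change ψ.app O y = 0
  apply N.isSheaf.section_ext (U := Opposite.op O)
  intro p hp
  obtain ⟨V, hV, hpV, h0⟩ := h p
  refine ⟨O ⊓ V, inf_le_left, ⟨hp, hpV⟩, ?_⟩
  rw [map_zero, ← hom_naturality_apply ψ inf_le_left y]
  exact Groth.Agent.Lead.ZeroNhd.app_eq_zero_of_le_affine ψ hV h0 (O ⊓ V) inf_le_right _

end Cover

section Main

variable {I : Type u} [SmallCategory I] [IsCofiltered I] (D : I ⥤ Scheme.{u}) (c : Cone D)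
  (hc : IsLimit c) [∀ (i j : I) (f : i ⟶ j), IsAffineHom (D.map f)] (i₀ : I)
  {F₀ G₀ : (D.obj i₀).Modules} [F₀.IsQuasicoherent] [G₀.IsQuasicoherent] (χ₀ : F₀ ⟶ G₀)

omit [IsCofiltered I] [∀ (i j : I) (f : i ⟶ j), IsAffineHom (D.map f)] [G₀.IsQuasicoherent] in
theorem stage_mono {j k : Over i₀} (f : k ⟶ j) (W : (D.obj i₀).Opens) (t : Γ(G₀, W))
    (h : unitRes (D.map j.hom) G₀ (le_refl (D.map j.hom ⁻¹ᵁ W)) t = 0) :
    unitRes (D.map k.hom) G₀ (le_refl (D.map k.hom ⁻¹ᵁ W)) t = 0 := by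
  have e1 : D.map f.left ≫ D.map j.hom = D.map k.hom := by rw [← D.map_comp, Over.w f]
  have e'' : D.map k.hom ⁻¹ᵁ W ≤ (D.map f.left ≫ D.map j.hom) ⁻¹ᵁ W := by rw [e1]
  have h1 := unitRes_comp_eq_zero (D.map j.hom) (D.map f.left) G₀ le_rfl (le_map D i₀ W f) e''
    t h
  exact unitRes_congr e1 G₀ e'' le_rfl _ h1

/-- the vanishing condition at stage `k` for sections over `W` -/
def ZeroAt (k : Over i₀) (W : (D.obj i₀).Opens) : Prop :=
  ∀ s : Γ(F₀, W), unitRes (D.map k.hom) G₀ (le_refl (D.map k.hom ⁻¹ᵁ W)) (χ₀.app W s) = 0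

omit [IsCofiltered I] [∀ (i j : I) (f : i ⟶ j), IsAffineHom (D.map f)] [F₀.IsQuasicoherent]
  [G₀.IsQuasicoherent] in
theorem zeroAt_mono {j k : Over i₀} (f : k ⟶ j) (W : (D.obj i₀).Opens)
    (h : ZeroAt D i₀ χ₀ j W) : ZeroAt D i₀ χ₀ k W :=
  fun s => stage_mono D i₀ f W _ (h s)

include hc in
theorem exists_zeroAt (hF₀ : CohB1.IsFT F₀) {W : (D.obj i₀).Opens} (hW : IsAffineOpen W)
    (h0 : (Scheme.Modules.pullback (c.π.app i₀)).map χ₀ = 0) : ∃ k, ZeroAt D i₀ χ₀ k W := by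
  classical
  haveI : ∀ {i j : I} (f : i ⟶ j), IsAffineHom (D.map f) := fun f => inferInstance
  haveI := Groth.Agent.Lead.FLF.ft_sections F₀ hF₀ hW
  obtain ⟨T, hT⟩ := (Module.Finite.fg_top : (⊤ : Submodule Γ(D.obj i₀, W) Γ(F₀, W)).FG)
  have h1 : ∀ s ∈ T, ∃ k : Over i₀,
      unitRes (D.map k.hom) G₀ (le_refl (D.map k.hom ⁻¹ᵁ W)) (χ₀.app W s) = 0 := by
    intro s _
    apply exists_unitRes_eq_zero D c hc i₀ G₀ hW
    rw [← unitRes_naturality, h0]
    rfl
  obtain ⟨k, hk⟩ := exists_common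
    (fun (k : Over i₀) (s : Γ(F₀, W)) =>
      unitRes (D.map k.hom) G₀ (le_refl (D.map k.hom ⁻¹ᵁ W)) (χ₀.app W s) = 0)
    (fun f s h => stage_mono D i₀ f W _ h) T h1
  refine ⟨k, ?_⟩
  intro s
  have hs : s ∈ Submodule.span Γ(D.obj i₀, W) (T : Set Γ(F₀, W)) := by rw [hT]; trivial
  have hbk := isBC_unitRes (D.map k.hom) G₀ hW (hW.preimage (D.map k.hom)) le_rfl
  induction hs using Submodule.span_induction with
  | mem x hx => exact hk x hx
  | zero => rw [map_zero]; exact isBC_map_zero hbk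
  | add x y _ _ hx hy => rw [map_add, isBC_map_add hbk, hx, hy, add_zero]
  | smul a x _ hx => rw [Scheme.Modules.Hom.app_smul, isBC_map_smul hbk, hx, smul_zero]

include hc in
/-- **injectivity of `colim Hom(F_j, G_j) → Hom(F, G)`**: a morphism from a quasi-coherent module
of finite type to a quasi-coherent module on a quasi-compact stage whose pullback to the limit
vanishes has vanishing pullback to some later stage -/
theorem exists_pullback_map_eq_zero [CompactSpace (D.obj i₀)] (hF₀ : CohB1.IsFT F₀)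
    (h0 : (Scheme.Modules.pullback (c.π.app i₀)).map χ₀ = 0) :
    ∃ (j : I) (φ : j ⟶ i₀), (Scheme.Modules.pullback (D.map φ)).map χ₀ = 0 := by
  classical
  haveI : ∀ {i j : I} (f : i ⟶ j), IsAffineHom (D.map f) := fun f => inferInstance
  obtain ⟨S, hSfin, hScov⟩ := (isCompact_iff_finite_and_eq_biUnion_affineOpens
    (X := D.obj i₀) (U := ⊤)).1 isCompact_univ
  obtain ⟨k, hk⟩ := exists_common
    (fun (k : Over i₀) (W : (D.obj i₀).affineOpens) => ZeroAt D i₀ χ₀ k W.1)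
    (fun f W h => zeroAt_mono D i₀ χ₀ f W.1 h) hSfin.toFinset
    (fun W _ => exists_zeroAt D c hc i₀ χ₀ hF₀ W.2 h0)
  refine ⟨k.left, k.hom, ?_⟩
  haveI : ((Scheme.Modules.pullback (D.map k.hom)).obj F₀).IsQuasicoherent :=
    Groth.Agent.Lead.PB.isQuasicoherent_pullback _ _
  apply hom_eq_zero_of_affine_cover
  intro x
  have hx : (D.map k.hom) x ∈ (⊤ : (D.obj i₀).Opens) := trivial
  rw [hScov] at hx
  simp only [TopologicalSpace.Opens.mem_iSup] at hx
  obtain ⟨W, hWS, hxW⟩ := hx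
  refine ⟨D.map k.hom ⁻¹ᵁ W.1, W.2.preimage (D.map k.hom), hxW, ?_⟩
  intro m
  have hbk := isBC_unitRes (D.map k.hom) F₀ W.2 (W.2.preimage (D.map k.hom)) le_rfl
  have hm : m ∈ Submodule.span Γ(D.obj k.left, D.map k.hom ⁻¹ᵁ W.1)
      (Set.range (unitRes (D.map k.hom) F₀ (le_refl (D.map k.hom ⁻¹ᵁ W.1)))) := by
    rw [isBC_span_range hbk]; trivial
  induction hm using Submodule.span_induction with
  | mem x hx =>
    obtain ⟨s, rfl⟩ := hx
    rw [unitRes_naturality]
    exact hk W (hSfin.mem_toFinset.2 hWS) s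
  | zero => rw [map_zero]
  | add x y _ _ hx hy => rw [map_add, hx, hy, add_zero]
  | smul a x _ hx => rw [Scheme.Modules.Hom.app_smul, hx, smul_zero]

end Main

end Groth.Agent.Lead.LimZ
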