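import Mathlib
import Groth.Agent.Lib.Lead.FBC1
import Groth.Agent.Lib.Lead.BCU4
import Groth.Agent.Lib.Lead.LimZ3
import Groth.Agent.Lib.Helper1.QcsLoc

/-!
# Flat base change for quasi-coherent modules (lead)
-/

set_option autoImplicit false
universe u
open CategoryTheory AlgebraicGeometry TopologicalSpace TensorProduct
set_option backward.isDefEq.respectTransparency.types false

namespace Groth.Agent.Lead.FBC

open Scheme.Modules Groth.Agent.Lead.BCU Groth.Agent.Lead.CIU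

section UnitRes

variable {Y' Y : Scheme.{u}} (h : Y' ⟶ Y) (G : Y.Modules)

theorem res_add {Z : Scheme.{u}} (H : Z.Modules) {O₁ O₂ : Z.Opens} (e : O₂ ≤ O₁)
    (x y : Γ(H, O₁)) : res H e (x + y) = res H e x + res H e y :=
  map_add (H.presheaf.map (homOfLE e).op).hom x y

theorem res_smul' {Z : Scheme.{u}} (H : Z.Modules) {O₁ O₂ : Z.Opens} (e : O₂ ≤ O₁)
    (r : Γ(Z, O₁)) (x : Γ(H, O₁)) :
    res H e (r • x) = (Z.presheaf.map (homOfLE e).op).hom r • res H e x :=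
  Scheme.Modules.map_smul H (homOfLE e) r x

theorem unitRes_add {W : Y.Opens} {W' : Y'.Opens} (e : W' ≤ h ⁻¹ᵁ W) (m m' : Γ(G, W)) :
    unitRes h G e (m + m') = unitRes h G e m + unitRes h G e m' := by
  unfold unitRes
  have h1 : ((pullbackPushforwardAdjunction h).unit.app G).app W (m + m') =
      ((pullbackPushforwardAdjunction h).unit.app G).app W m +
        ((pullbackPushforwardAdjunction h).unit.app G).app W m' := map_add _ m m'
  exact (congrArg (res ((pullback h).obj G) e) h1).trans (res_add _ e _ _)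

theorem unitRes_smul {W : Y.Opens} {W' : Y'.Opens} (e : W' ≤ h ⁻¹ᵁ W) (r : Γ(Y, W))
    (m : Γ(G, W)) :
    unitRes h G e (r • m) = (h.appLE W W' e).hom r • unitRes h G e m := by
  unfold unitRes
  have h0 : ((pullbackPushforwardAdjunction h).unit.app G).app W (r • m) =
      r • ((pullbackPushforwardAdjunction h).unit.app G).app W m :=
    Scheme.Modules.Hom.app_smul _ r m
  have h1 : (r • (((pullbackPushforwardAdjunction h).unit.app G).app W m) :
      Γ((pushforward h).obj ((pullback h).obj G), W)) =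
      (show Γ((pullback h).obj G, h ⁻¹ᵁ W) from ((h.app W).hom r : Γ(Y', h ⁻¹ᵁ W)) •
        (show Γ((pullback h).obj G, h ⁻¹ᵁ W) from
          ((pullbackPushforwardAdjunction h).unit.app G).app W m)) := rfl
  exact (congrArg (res ((pullback h).obj G) e) (h0.trans h1)).trans
    ((res_smul' ((pullback h).obj G) e _ _).trans rfl)

theorem unitRes_res {W₁ W₂ : Y.Opens} {W₁' W₂' : Y'.Opens} (e₁ : W₁' ≤ h ⁻¹ᵁ W₁)
    (e₂ : W₂' ≤ h ⁻¹ᵁ W₂) (hW : W₂ ≤ W₁) (hW' : W₂' ≤ W₁') (m : Γ(G, W₁)) :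
    res ((pullback h).obj G) hW' (unitRes h G e₁ m) = unitRes h G e₂ (res G hW m) := by
  unfold unitRes
  have h1 := app_res ((pullbackPushforwardAdjunction h).unit.app G) hW m
  refine (res_res ((pullback h).obj G) e₁ hW' _).trans ?_
  refine Eq.trans ?_ (congrArg (res ((pullback h).obj G) e₂) h1.symm)
  exact (res_res ((pullback h).obj G) (h.preimage_mono hW) e₂ _).symm

end UnitRes

section Core

variable {X S X' S' : Scheme.{u}} (f : X ⟶ S) (g : S' ⟶ S) (g' : X' ⟶ X) (f' : X' ⟶ S')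
  (F : X.Modules) {V : S.Opens} (V' : Set.Iic (g ⁻¹ᵁ V))

/-- the open of `X'` lying over `W` and `V'` -/
abbrev Wp (W : X.Opens) : X'.Opens := g' ⁻¹ᵁ W ⊓ f' ⁻¹ᵁ V'.1

theorem Wp_mono {W₁ W₂ : X.Opens} (hle : W₂ ≤ W₁) : Wp g g' f' V' W₂ ≤ Wp g g' f' V' W₁ :=
  inf_le_inf_right _ (g'.preimage_mono hle)

/-- the algebra structure on the coordinate ring of `V'` -/
@[reducible] noncomputable def algAB : Algebra Γ(S, V) Γ(S', V'.1) :=
  (g.appLE V V'.1 V'.2).hom.toAlgebra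

/-- the module structure on sections over opens of `f⁻¹ V` -/
@[reducible] noncomputable def modA (W : Set.Iic (f ⁻¹ᵁ V)) : Module Γ(S, V) Γ(F, W.1) :=
  Module.compHom _ (f.appLE V W.1 W.2).hom

/-- the module structure on sections of the pullback -/
@[reducible] noncomputable def modB (W : X.Opens) :
    Module Γ(S', V'.1) Γ((pullback g').obj F, Wp g g' f' V' W) :=
  Module.compHom _ (f'.appLE V'.1 (Wp g g' f' V' W) inf_le_right).hom

attribute [local instance] algAB modA modB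

/-- the comparison map on sections -/
noncomputable def lW (W : X.Opens) (m : Γ(F, W)) : Γ((pullback g').obj F, Wp g g' f' V' W) :=
  unitRes g' F (inf_le_left : Wp g g' f' V' W ≤ g' ⁻¹ᵁ W) m

variable (h : IsPullback g' f' f g)

include h in
theorem semiLin_lW (W : Set.Iic (f ⁻¹ᵁ V)) :
    SemiLin (A := Γ(S, V)) (B := Γ(S', V'.1)) (lW g g' f' F V' W.1) := by
  refine ⟨fun x y => unitRes_add g' F _ x y, fun a m => ?_⟩
  change unitRes g' F (inf_le_left : Wp g g' f' V' W.1 ≤ g' ⁻¹ᵁ W.1)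
      ((f.appLE V W.1 W.2).hom a • m) =
    (f'.appLE V'.1 (Wp g g' f' V' W.1) inf_le_right).hom ((g.appLE V V'.1 V'.2).hom a) •
      unitRes g' F (inf_le_left : Wp g g' f' V' W.1 ≤ g' ⁻¹ᵁ W.1) m
  rw [unitRes_smul]
  congr 1
  have e1 := Scheme.Hom.appLE_comp_appLE g' f V W.1 (Wp g g' f' V' W.1) W.2 inf_le_left
  have e2 := Scheme.Hom.appLE_comp_appLE f' g V V'.1 (Wp g g' f' V' W.1) V'.2 inf_le_right
  have e3 : f.appLE V W.1 W.2 ≫ g'.appLE W.1 (Wp g g' f' V' W.1) inf_le_left =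
      g.appLE V V'.1 V'.2 ≫ f'.appLE V'.1 (Wp g g' f' V' W.1) inf_le_right := by
    rw [e1, e2]
    simp only [h.w]
  exact congrArg (fun φ => φ.hom a) e3

/-- restriction on `X`, as a linear map over the coordinate ring of `V` -/
noncomputable def resA {W₁ W₂ : Set.Iic (f ⁻¹ᵁ V)} (hle : W₂ ≤ W₁) :
    Γ(F, W₁.1) →ₗ[Γ(S, V)] Γ(F, W₂.1) where
  toFun m := res F (show W₂.1 ≤ W₁.1 from hle) m
  map_add' x y := res_add F _ x y
  map_smul' a m := by
    change res F (show W₂.1 ≤ W₁.1 from hle) ((f.appLE V W₁.1 W₁.2).hom a • m) =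
      (f.appLE V W₂.1 W₂.2).hom a • res F (show W₂.1 ≤ W₁.1 from hle) m
    rw [res_smul']
    congr 1
    have e := Scheme.Hom.appLE_map f W₁.2 (homOfLE (show W₂.1 ≤ W₁.1 from hle)).op
    exact congrArg (fun φ => φ.hom a) e

/-- restriction on `X'`, as a linear map over the coordinate ring of `V'` -/
noncomputable def resB {W₁ W₂ : X.Opens} (hle : W₂ ≤ W₁) :
    Γ((pullback g').obj F, Wp g g' f' V' W₁) →ₗ[Γ(S', V'.1)]
      Γ((pullback g').obj F, Wp g g' f' V' W₂) where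
  toFun m := res ((pullback g').obj F) (Wp_mono g g' f' V' hle) m
  map_add' x y := res_add _ _ x y
  map_smul' b m := by
    change res ((pullback g').obj F) (Wp_mono g g' f' V' hle)
        ((f'.appLE V'.1 (Wp g g' f' V' W₁) inf_le_right).hom b • m) =
      (f'.appLE V'.1 (Wp g g' f' V' W₂) inf_le_right).hom b •
        res ((pullback g').obj F) (Wp_mono g g' f' V' hle) m
    rw [res_smul']
    congr 1
    have e := Scheme.Hom.appLE_map f' (inf_le_right : Wp g g' f' V' W₁ ≤ f' ⁻¹ᵁ V'.1)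
      (homOfLE (Wp_mono g g' f' V' hle)).op
    exact congrArg (fun φ => φ.hom b) e

theorem resB_lW {W₁ W₂ : Set.Iic (f ⁻¹ᵁ V)} (hle : W₂ ≤ W₁) (m : Γ(F, W₁.1)) :
    resB g g' f' F V' (show W₂.1 ≤ W₁.1 from hle) (lW g g' f' F V' W₁.1 m) =
      lW g g' f' F V' W₂.1 (resA f F hle m) :=
  unitRes_res g' F _ _ _ _ m

/-- injectivity of the comparison map after base change -/
def InjAt (W : Set.Iic (f ⁻¹ᵁ V)) : Prop :=
  Function.Injective (tens (semiLin_lW f g g' f' F V' h W))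

/-- bijectivity of the comparison map after base change -/
def BijAt (W : Set.Iic (f ⁻¹ᵁ V)) : Prop :=
  Function.Bijective (tens (semiLin_lW f g g' f' F V' h W))

theorem BijAt.injAt {W : Set.Iic (f ⁻¹ᵁ V)} (hb : BijAt f g g' f' F V' h W) :
    InjAt f g g' f' F V' h W := hb.1

include h in
theorem isAffineOpen_Wp {W : X.Opens} (hW : W ≤ f ⁻¹ᵁ V) (hV : IsAffineOpen V)
    (hV' : IsAffineOpen V'.1) (hWa : IsAffineOpen W) : IsAffineOpen (Wp g g' f' V' W) := by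
  have : IsAffine _ := hV
  have : IsAffine _ := hV'
  have : IsAffine _ := hWa
  exact .of_isIso (Scheme.Hom.isPullback_resLE h V'.2 hW rfl).isoPullback.hom

theorem bijAt_affine [F.IsQuasicoherent] (hV : IsAffineOpen V) (hV' : IsAffineOpen V'.1)
    (W : Set.Iic (f ⁻¹ᵁ V)) (hWa : IsAffineOpen W.1) : BijAt f g g' f' F V' h W := by
  have hW' := isAffineOpen_Wp f g g' f' V' h W.2 hV hV' hWa
  haveI := isIso_pushoutSection_of_isAffineOpen h V'.2 W.2 rfl hV hV' hWa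
  have hpo := ((isIso_pushoutSection_iff h V'.2 W.2 rfl).1 inferInstance).flip
  have h2 := isBC_unitRes g' F hWa hW' (inf_le_left : Wp g g' f' V' W.1 ≤ g' ⁻¹ᵁ W.1)
  exact tens_bijective_of_isBC_pushout (g.appLE V V'.1 V'.2).hom
    (g'.appLE W.1 (Wp g g' f' V' W.1) inf_le_left).hom (f.appLE V W.1 W.2).hom
    (f'.appLE V'.1 (Wp g g' f' V' W.1) inf_le_right).hom hpo (fun a m => rfl) (fun b n => rfl) h2 _

section Glue
open Groth.Agent.Helper1

theorem glue₂' {Z : Scheme.{u}} (M : Z.Modules) {A B O I : Z.Opens} (hA : A ≤ O) (hB : B ≤ O)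
    (hcov : O ≤ A ⊔ B) (hIA : I ≤ A) (hIB : I ≤ B) (hI : A ⊓ B ≤ I) (a : Γ(M, A)) (b : Γ(M, B))
    (hab : res M hIA a = res M hIB b) :
    ∃ c : Γ(M, O), res M hA c = a ∧ res M hB c = b := by
  have hab' : res M (inf_le_left : A ⊓ B ≤ A) a = res M (inf_le_right : A ⊓ B ≤ B) b := by
    have := congrArg (res M hI) hab
    rwa [res_res, res_res] at this
  obtain ⟨c', hc1, hc2⟩ := QcsLoc.glue₂ M a b hab'
  refine ⟨res M hcov c', ?_, ?_⟩
  · rw [res_res]
    exact hc1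
  · rw [res_res]
    exact hc2

variable (hfl : Module.Flat Γ(S, V) Γ(S', V'.1))

include hfl in
theorem injAt_glue {W₀ S₀ U₀ : Set.Iic (f ⁻¹ᵁ V)} (hS₀ : S₀ ≤ W₀) (hU₀ : U₀ ≤ W₀)
    (hcov : W₀.1 ≤ S₀.1 ⊔ U₀.1) (hS : InjAt f g g' f' F V' h S₀) (hU : InjAt f g g' f' F V' h U₀) :
    InjAt f g g' f' F V' h W₀ := by
  refine inj_glue (semiLin_lW f g g' f' F V' h W₀) (semiLin_lW f g g' f' F V' h S₀)
    (semiLin_lW f g g' f' F V' h U₀) (resA f F hS₀) (resA f F hU₀)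
    (resB g g' f' F V' (show S₀.1 ≤ W₀.1 from hS₀)) (resB g g' f' F V' (show U₀.1 ≤ W₀.1 from hU₀))
    (resB_lW f g g' f' F V' hS₀) (resB_lW f g g' f' F V' hU₀) ?_ hS hU
  intro m h1 h2
  refine QcsLoc.eq_of_res₂' F (show S₀.1 ≤ W₀.1 from hS₀) (show U₀.1 ≤ W₀.1 from hU₀) hcov m 0 ?_ ?_
  · exact h1.trans (map_zero (QcCech.res F (show S₀.1 ≤ W₀.1 from hS₀))).symm
  · exact h2.trans (map_zero (QcCech.res F (show U₀.1 ≤ W₀.1 from hU₀))).symm

theorem Wp_cover {W₀ S₀ U₀ : X.Opens} (hcov : W₀ ≤ S₀ ⊔ U₀) :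
    Wp g g' f' V' W₀ ≤ Wp g g' f' V' S₀ ⊔ Wp g g' f' V' U₀ := by
  rintro x ⟨hx1, hx2⟩
  have hx1' : g'.base x ∈ S₀ ⊔ U₀ := hcov hx1
  rcases hx1' with hS | hU
  · exact Or.inl ⟨hS, hx2⟩
  · exact Or.inr ⟨hU, hx2⟩

include hfl in
theorem bijAt_glue {W₀ S₀ U₀ I₀ : Set.Iic (f ⁻¹ᵁ V)} (hS₀ : S₀ ≤ W₀) (hU₀ : U₀ ≤ W₀)
    (hcov : W₀.1 ≤ S₀.1 ⊔ U₀.1) (hIS : I₀ ≤ S₀) (hIU : I₀ ≤ U₀) (hI : S₀.1 ⊓ U₀.1 ≤ I₀.1)
    (hS : BijAt f g g' f' F V' h S₀) (hU : BijAt f g g' f' F V' h U₀)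
    (hIi : InjAt f g g' f' F V' h I₀) : BijAt f g g' f' F V' h W₀ := by
  refine bij_glue (semiLin_lW f g g' f' F V' h W₀) (semiLin_lW f g g' f' F V' h S₀)
    (semiLin_lW f g g' f' F V' h U₀) (semiLin_lW f g g' f' F V' h I₀)
    (resA f F hS₀) (resA f F hU₀)
    (resB g g' f' F V' (show S₀.1 ≤ W₀.1 from hS₀)) (resB g g' f' F V' (show U₀.1 ≤ W₀.1 from hU₀))
    (resA f F hIS) (resA f F hIU)
    (resB g g' f' F V' (show I₀.1 ≤ S₀.1 from hIS)) (resB g g' f' F V' (show I₀.1 ≤ U₀.1 from hIU))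
    (resB_lW f g g' f' F V' hS₀) (resB_lW f g g' f' F V' hU₀)
    (resB_lW f g g' f' F V' hIS) (resB_lW f g g' f' F V' hIU) ?_ ?_ ?_ ?_ ?_ hS hU hIi
  · intro m h1 h2
    refine QcsLoc.eq_of_res₂' F (show S₀.1 ≤ W₀.1 from hS₀) (show U₀.1 ≤ W₀.1 from hU₀) hcov m 0
      ?_ ?_
    · exact h1.trans (map_zero (QcCech.res F (show S₀.1 ≤ W₀.1 from hS₀))).symm
    · exact h2.trans (map_zero (QcCech.res F (show U₀.1 ≤ W₀.1 from hU₀))).symm
  · intro m
    exact (res_res F (show S₀.1 ≤ W₀.1 from hS₀) (show I₀.1 ≤ S₀.1 from hIS) m).trans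
      (res_res F (show U₀.1 ≤ W₀.1 from hU₀) (show I₀.1 ≤ U₀.1 from hIU) m).symm
  · intro m1 m2 h12
    exact glue₂' F (show S₀.1 ≤ W₀.1 from hS₀) (show U₀.1 ≤ W₀.1 from hU₀) hcov
      (show I₀.1 ≤ S₀.1 from hIS) (show I₀.1 ≤ U₀.1 from hIU) hI m1 m2 h12
  · intro n h1 h2
    refine QcsLoc.eq_of_res₂' ((pullback g').obj F)
      (Wp_mono g g' f' V' (show S₀.1 ≤ W₀.1 from hS₀))
      (Wp_mono g g' f' V' (show U₀.1 ≤ W₀.1 from hU₀)) (Wp_cover g g' f' V' hcov) n 0 ?_ ?_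
    · exact h1.trans (map_zero (QcCech.res ((pullback g').obj F)
        (Wp_mono g g' f' V' (show S₀.1 ≤ W₀.1 from hS₀)))).symm
    · exact h2.trans (map_zero (QcCech.res ((pullback g').obj F)
        (Wp_mono g g' f' V' (show U₀.1 ≤ W₀.1 from hU₀)))).symm
  · intro n
    exact (res_res ((pullback g').obj F) (Wp_mono g g' f' V' (show S₀.1 ≤ W₀.1 from hS₀))
      (Wp_mono g g' f' V' (show I₀.1 ≤ S₀.1 from hIS)) n).trans
      (res_res ((pullback g').obj F) (Wp_mono g g' f' V' (show U₀.1 ≤ W₀.1 from hU₀))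
      (Wp_mono g g' f' V' (show I₀.1 ≤ U₀.1 from hIU)) n).symm

theorem bijAt_of_eq_bot (W : Set.Iic (f ⁻¹ᵁ V)) (hW : W.1 = ⊥) : BijAt f g g' f' F V' h W := by
  haveI : Subsingleton Γ(F, W.1) := by
    rw [hW]
    exact QcsLoc.subsingleton_bot F
  haveI : Subsingleton Γ((pullback g').obj F, Wp g g' f' V' W.1) := by
    have : Wp g g' f' V' W.1 = ⊥ := by
      rw [hW]
      ext x
      simp
    rw [this]
    exact QcsLoc.subsingleton_bot _
  constructor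
  · intro a b _
    exact Subsingleton.elim _ _
  · intro n
    exact ⟨0, Subsingleton.elim _ _⟩

include hfl in
theorem injAt_of_isCompact [F.IsQuasicoherent] (hV : IsAffineOpen V) (hV' : IsAffineOpen V'.1)
    (W : X.Opens) (hWc : IsCompact (W : Set X)) :
    ∀ hW : W ≤ f ⁻¹ᵁ V, InjAt f g g' f' F V' h ⟨W, hW⟩ := by
  refine compact_open_induction_on
    (P := fun W => ∀ hW : W ≤ f ⁻¹ᵁ V, InjAt f g g' f' F V' h ⟨W, hW⟩) W hWc ?_ ?_
  · intro hW
    exact (bijAt_of_eq_bot f g g' f' F V' h ⟨⊥, hW⟩ rfl).injAt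
  · intro S₁ _ U hS hW
    have hSW : S₁ ≤ f ⁻¹ᵁ V := le_sup_left.trans hW
    have hUW : U.1 ≤ f ⁻¹ᵁ V := le_sup_right.trans hW
    exact injAt_glue f g g' f' F V' h hfl (W₀ := ⟨S₁ ⊔ U.1, hW⟩) (S₀ := ⟨S₁, hSW⟩)
      (U₀ := ⟨U.1, hUW⟩) (show S₁ ≤ S₁ ⊔ U.1 from le_sup_left)
      (show U.1 ≤ S₁ ⊔ U.1 from le_sup_right) le_rfl (hS hSW)
      (bijAt_affine f g g' f' F V' h hV hV' ⟨U.1, hUW⟩ U.2).injAt

include hfl in
theorem bijAt_of_isCompact [F.IsQuasicoherent] (hV : IsAffineOpen V) (hV' : IsAffineOpen V'.1)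
    (W₁ : X.Opens) (hW₁ : IsQuasiSeparated (W₁ : Set X))
    (W : X.Opens) (hWc : IsCompact (W : Set X)) (hWW₁ : W ≤ W₁) :
    ∀ hW : W ≤ f ⁻¹ᵁ V, BijAt f g g' f' F V' h ⟨W, hW⟩ := by
  revert hWW₁
  refine compact_open_induction_on
    (P := fun W => W ≤ W₁ → ∀ hW : W ≤ f ⁻¹ᵁ V, BijAt f g g' f' F V' h ⟨W, hW⟩) W hWc ?_ ?_
  · intro _ hW
    exact bijAt_of_eq_bot f g g' f' F V' h ⟨⊥, hW⟩ rfl
  · intro S₁ hSc U hS hSU hW
    have hSW : S₁ ≤ f ⁻¹ᵁ V := le_sup_left.trans hW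
    have hUW : U.1 ≤ f ⁻¹ᵁ V := le_sup_right.trans hW
    have hS1 : S₁ ≤ W₁ := le_sup_left.trans hSU
    have hU1 : U.1 ≤ W₁ := le_sup_right.trans hSU
    have hSUc : IsCompact ((S₁ ⊓ U.1 : X.Opens) : Set X) :=
      hW₁ _ _ (by exact_mod_cast hS1) S₁.2 hSc (by exact_mod_cast hU1) U.1.2 U.2.isCompact
    have hIW : S₁ ⊓ U.1 ≤ f ⁻¹ᵁ V := inf_le_left.trans hSW
    exact bijAt_glue f g g' f' F V' h hfl (W₀ := ⟨S₁ ⊔ U.1, hW⟩) (S₀ := ⟨S₁, hSW⟩)
      (U₀ := ⟨U.1, hUW⟩) (I₀ := ⟨S₁ ⊓ U.1, hIW⟩) (show S₁ ≤ S₁ ⊔ U.1 from le_sup_left)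
      (show U.1 ≤ S₁ ⊔ U.1 from le_sup_right) le_rfl
      (show S₁ ⊓ U.1 ≤ S₁ from inf_le_left) (show S₁ ⊓ U.1 ≤ U.1 from inf_le_right) le_rfl
      (hS hS1 hSW) (bijAt_affine f g g' f' F V' h hV hV' ⟨U.1, hUW⟩ U.2)
      (injAt_of_isCompact f g g' f' F V' h hfl hV hV' (S₁ ⊓ U.1) hSUc hIW)

end Glue

end Core

section Final

variable {X S X' S' : Scheme.{u}} (f : X ⟶ S) (g : S' ⟶ S) (g' : X' ⟶ X) (f' : X' ⟶ S')
  (h : IsPullback g' f' f g) (F : X.Modules)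

theorem res_bijective_of_le_of_le {Z : Scheme.{u}} (H : Z.Modules) {O₁ O₂ : Z.Opens}
    (h1 : O₂ ≤ O₁) (h2 : O₁ ≤ O₂) : Function.Bijective (res H h1) := by
  have e : O₂ = O₁ := le_antisymm h1 h2
  subst e
  have : ∀ x, res H h1 x = x := fun x => Groth.Agent.Helper1.QcCech.res_self H h1 x
  constructor
  · intro a b hab
    rwa [this, this] at hab
  · intro b
    exact ⟨b, this b⟩

attribute [local instance] algAB modA modB

include h in
theorem bijective_bcMap_app_flat_aux [QuasiCompact f] [QuasiSeparated f] [Flat g]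
    [F.IsQuasicoherent] {V : S.Opens} (V₀' : Set.Iic (g ⁻¹ᵁ V)) (W₀ : Set.Iic (f ⁻¹ᵁ V))
    (hW₀ : f ⁻¹ᵁ V ≤ W₀.1) (hV : IsAffineOpen V) (hV' : IsAffineOpen V₀'.1) :
    Function.Bijective ((bcMap f g g' f' h F).app V₀'.1) := by
  have hfl : Module.Flat Γ(S, V) Γ(S', V₀'.1) :=
    HasRingHomProperty.appLE @Flat g inferInstance ⟨V, hV⟩ ⟨V₀'.1, hV'⟩ V₀'.2
  have hc : IsCompact ((W₀.1 : X.Opens) : Set X) := by
    have : W₀.1 = f ⁻¹ᵁ V := le_antisymm W₀.2 hW₀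
    rw [this]
    exact f.isCompact_preimage hV.isCompact
  have hqs : IsQuasiSeparated ((f ⁻¹ᵁ V : X.Opens) : Set X) :=
    f.isQuasiSeparated_preimage hV.isQuasiSeparated
  have hb : BijAt f g g' f' F V₀' h W₀ :=
    bijAt_of_isCompact f g g' f' F V₀' h hfl hV hV' (f ⁻¹ᵁ V) hqs W₀.1 hc W₀.2 W₀.2
  haveI : ((pushforward f).obj F).IsQuasicoherent :=
    Groth.Agent.Helper1.PushQc.isQuasicoherent_pushforward f F
  have h1 := isBC_unitRes g ((pushforward f).obj F) hV hV' V₀'.2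
  -- the identification of the two module structures
  let ι : Γ((pushforward f).obj F, V) ≃ₗ[Γ(S, V)] Γ(F, W₀.1) :=
    { toFun := fun m => res F W₀.2 (show Γ(F, f ⁻¹ᵁ V) from m)
      invFun := fun m => res F hW₀ m
      map_add' := fun x y => res_add F W₀.2 _ _
      map_smul' := fun a m => by
        change res F W₀.2 (show Γ(F, f ⁻¹ᵁ V) from ((f.app V).hom a : Γ(X, f ⁻¹ᵁ V)) •
          (show Γ(F, f ⁻¹ᵁ V) from m)) = (f.appLE V W₀.1 W₀.2).hom a • res F W₀.2 _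
        rw [res_smul']
        rfl
      left_inv := fun m => (res_res F W₀.2 hW₀ _).trans
        (Groth.Agent.Helper1.QcCech.res_self F _ _)
      right_inv := fun m => (res_res F hW₀ W₀.2 _).trans
        (Groth.Agent.Helper1.QcCech.res_self F _ _) }
  have hle1 : Wp g g' f' V₀' W₀.1 ≤ f' ⁻¹ᵁ V₀'.1 := inf_le_right
  have hle2 : f' ⁻¹ᵁ V₀'.1 ≤ Wp g g' f' V₀' W₀.1 :=
    le_inf ((preimage_le f g g' f' h V₀'.2).trans (g'.preimage_mono hW₀)) le_rfl
  let υ : Γ((pullback g).obj ((pushforward f).obj F), V₀'.1) →+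
      Γ((pullback g').obj F, Wp g g' f' V₀' W₀.1) :=
    { toFun := fun n => res ((pullback g').obj F) hle1 ((bcMap f g g' f' h F).app V₀'.1 n)
      map_zero' := by
        rw [map_zero]
        exact map_zero (Groth.Agent.Helper1.QcCech.res ((pullback g').obj F) hle1)
      map_add' := fun x y => by
        rw [map_add]
        exact res_add _ hle1 _ _ }
  have hυ : ∀ (b : Γ(S', V₀'.1)) (n : Γ((pullback g).obj ((pushforward f).obj F), V₀'.1)),
      υ (b • n) = b • υ n := by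
    intro b n
    change res ((pullback g').obj F) hle1 ((bcMap f g g' f' h F).app V₀'.1 (b • n)) =
      (f'.appLE V₀'.1 (Wp g g' f' V₀' W₀.1) inf_le_right).hom b •
        res ((pullback g').obj F) hle1 ((bcMap f g g' f' h F).app V₀'.1 n)
    rw [Scheme.Modules.Hom.app_smul]
    have h1 : (b • ((bcMap f g g' f' h F).app V₀'.1 n) :
        Γ((pushforward f').obj ((pullback g').obj F), V₀'.1)) =
        (show Γ((pullback g').obj F, f' ⁻¹ᵁ V₀'.1) from
          ((f'.app V₀'.1).hom b : Γ(X', f' ⁻¹ᵁ V₀'.1)) •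
          (show Γ((pullback g').obj F, f' ⁻¹ᵁ V₀'.1) from
            (bcMap f g g' f' h F).app V₀'.1 n)) := rfl
    refine (congrArg (res ((pullback g').obj F) hle1) h1).trans ?_
    refine (res_smul' ((pullback g').obj F) hle1 _ _).trans ?_
    rfl
  have hcomm : ∀ m, υ (unitRes g ((pushforward f).obj F) V₀'.2 m) =
      lW g g' f' F V₀' W₀.1 (ι m) := by
    intro m
    change res ((pullback g').obj F) hle1
      ((bcMap f g g' f' h F).app V₀'.1 (unitRes g ((pushforward f).obj F) V₀'.2 m)) = _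
    rw [bcMap_unitRes]
    exact unitRes_res g' F _ _ W₀.2 hle1 _
  have hυb := bijective_of_isBC_of_tens (g.appLE V V₀'.1 V₀'.2).hom h1 ι υ hυ hcomm
    (semiLin_lW f g g' f' F V₀' h W₀) hb
  have hρ := res_bijective_of_le_of_le ((pullback g').obj F) hle1 hle2
  exact (Function.Bijective.of_comp_iff' hρ _).1 hυb

include h in
theorem bijective_bcMap_app_flat [QuasiCompact f] [QuasiSeparated f] [Flat g]
    [F.IsQuasicoherent] {V : S.Opens} {V' : S'.Opens} (hV : IsAffineOpen V)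
    (hV' : IsAffineOpen V') (eV : V' ≤ g ⁻¹ᵁ V) :
    Function.Bijective ((bcMap f g g' f' h F).app V') :=
  bijective_bcMap_app_flat_aux f g g' f' h F ⟨V', eV⟩
    ⟨f ⁻¹ᵁ V, (le_refl (f ⁻¹ᵁ V) : f ⁻¹ᵁ V ≤ f ⁻¹ᵁ V)⟩ (le_refl _) hV hV'

include h in
/-- **flat base change**: the base change morphism `g^* f_* F ⟶ f'_* g'^* F` of a cartesian square
with `f` quasi-compact and quasi-separated, `g` flat and `F` quasi-coherent is an isomorphism -/
theorem isIso_bcMap_flat [QuasiCompact f] [QuasiSeparated f] [Flat g] [F.IsQuasicoherent] :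
    IsIso (bcMap f g g' f' h F) := by
  apply isIso_of_bijective_nhds
  intro U x hx
  obtain ⟨_, ⟨V, hV, rfl⟩, hxV, -⟩ :=
    S.isBasis_affineOpens.exists_subset_of_mem_open (Set.mem_univ (g x)) isOpen_univ
  obtain ⟨_, ⟨V', hV', rfl⟩, hxV', hle⟩ :=
    S'.isBasis_affineOpens.exists_subset_of_mem_open
      (show x ∈ (U ⊓ g ⁻¹ᵁ V : S'.Opens) from ⟨hx, hxV⟩) (U ⊓ g ⁻¹ᵁ V).2
  exact ⟨V', fun y hy => (hle hy).1, hxV',
    bijective_bcMap_app_flat f g g' f' h F hV hV' (fun y hy => (hle hy).2)⟩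

end Final

end Groth.Agent.Lead.FBC
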