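import Mathlib
import Groth.Prelude.Def_FlatMod2
import Groth.Agent.Lib.Lead.FLF7
import Groth.Agent.Lib.Lead.SD2

/-!
# Semilocal freeness: a finite locally free module of constant rank is free near finitely many
points of an affine open; modules with free sections over an affine open are free there (lead)
-/

set_option autoImplicit false
universe u
open CategoryTheory CategoryTheory.Limits AlgebraicGeometry TopologicalSpace
set_option backward.isDefEq.respectTransparency.types false

namespace Groth.Agent.Lead.SL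

open Module TensorProduct Scheme.Modules Groth.Agent.Helper1 Groth.Agent.Lead.FLF Groth.Agent.Lead.SD

/-- localization away from finitely many primes is semilocal -/
theorem finite_maximalSpectrum_localization {A : Type u} [CommRing A]
    (ps : Set (PrimeSpectrum A)) (hps : ps.Finite) (S : Submonoid A)
    (hS : ∀ a : A, a ∈ S ↔ ∀ p ∈ ps, a ∉ p.asIdeal)
    (A' : Type u) [CommRing A'] [Algebra A A'] [IsLocalization S A'] :
    Finite (MaximalSpectrum A') ∧ ∀ m : MaximalSpectrum A', ∃ p ∈ ps,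
      m.asIdeal.comap (algebraMap A A') ≤ p.asIdeal := by
  have key : ∀ m : MaximalSpectrum A', ∃ p ∈ ps,
      m.asIdeal.comap (algebraMap A A') ≤ p.asIdeal := by
    intro m
    have hdisj : Disjoint (S : Set A) (m.asIdeal.comap (algebraMap A A') : Set A) :=
      ((IsLocalization.isPrime_iff_isPrime_disjoint S A' m.asIdeal).1 m.isMaximal.isPrime).2
    have hsub : ((m.asIdeal.comap (algebraMap A A') : Ideal A) : Set A) ⊆
        ⋃ I ∈ (PrimeSpectrum.asIdeal '' ps), ((I : Ideal A) : Set A) := by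
      intro a ha
      by_contra hcon
      simp only [Set.mem_iUnion, not_exists] at hcon
      have haS : a ∈ S := (hS a).2 fun p hp hap => hcon p.asIdeal ⟨p, hp, rfl⟩ hap
      exact Set.disjoint_left.1 hdisj haS ha
    obtain ⟨I, ⟨p, hp, rfl⟩, hle⟩ := (Ideal.subset_union_prime_finite (hps.image _)
      (f := fun I : Ideal A => I) ⊥ ⊥ (by
        rintro I ⟨p, _, rfl⟩ _ _
        exact p.isPrime)).1 hsub
    exact ⟨p, hp, hle⟩
  refine ⟨?_, key⟩
  choose c hc hle using key
  haveI : Finite ps := hps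
  have hinj : Function.Injective (fun m : MaximalSpectrum A' => (⟨c m, hc m⟩ : ps)) := by
    intro m m' hmm
    have hcm : c m = c m' := congrArg Subtype.val hmm
    have hm : ∀ m : MaximalSpectrum A', m.asIdeal = (c m).asIdeal.map (algebraMap A A') := by
      intro m
      have h1 : m.asIdeal ≤ (c m).asIdeal.map (algebraMap A A') := by
        rw [← IsLocalization.map_comap S A' m.asIdeal]
        exact Ideal.map_mono (hle m)
      have h2 : (c m).asIdeal.map (algebraMap A A') ≠ ⊤ := by
        rw [IsLocalization.map_algebraMap_ne_top_iff_disjoint S A']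
        rw [Set.disjoint_left]
        intro a haS hap
        exact (hS a).1 haS (c m) (hc m) hap
      exact m.isMaximal.eq_of_le h2 h1
    ext1
    rw [hm m, hm m', hcm]
  exact Finite.of_injective _ hinj

theorem finrank_quotient_tensor {R : Type u} [CommRing R] (M : Type u) [AddCommGroup M]
    [Module R M] [Module.Finite R M] [Module.Flat R M] (m : MaximalSpectrum R) :
    finrank (R ⧸ m.asIdeal) ((R ⧸ m.asIdeal) ⊗[R] M) =
      rankAtStalk M m.toPrimeSpectrum := by
  letI := Ideal.Quotient.field m.asIdeal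
  rw [Module.rankAtStalk_eq]
  let k := m.asIdeal.ResidueField
  let e : k ⊗[R ⧸ m.asIdeal] ((R ⧸ m.asIdeal) ⊗[R] M) ≃ₗ[k] k ⊗[R] M :=
    AlgebraTensorModule.cancelBaseChange _ _ _ _ _
  have h1 : finrank k (k ⊗[R] M) = finrank k (k ⊗[R ⧸ m.asIdeal] ((R ⧸ m.asIdeal) ⊗[R] M)) :=
    e.finrank_eq.symm
  have h2 : finrank k (k ⊗[R ⧸ m.asIdeal] ((R ⧸ m.asIdeal) ⊗[R] M)) =
      finrank (R ⧸ m.asIdeal) ((R ⧸ m.asIdeal) ⊗[R] M) := finrank_baseChange
  exact (h1.trans h2).symm

/-- the submonoid of elements outside finitely many primes -/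
def avoid {A : Type u} [CommRing A] (ps : Set (PrimeSpectrum A)) : Submonoid A where
  carrier := {a | ∀ p ∈ ps, a ∉ p.asIdeal}
  one_mem' := fun p _ h => p.isPrime.ne_top ((Ideal.eq_top_iff_one _).2 h)
  mul_mem' := fun {a b} ha hb p hp hab =>
    (p.isPrime.mem_or_mem hab).elim (ha p hp) (hb p hp)

theorem mem_avoid {A : Type u} [CommRing A] (ps : Set (PrimeSpectrum A)) (a : A) :
    a ∈ avoid ps ↔ ∀ p ∈ ps, a ∉ p.asIdeal := Iff.rfl

theorem exists_away_basis {A : Type u} [CommRing A] (P : Type u) [AddCommGroup P] [Module A P]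
    [Module.Finite A P] [Module.Projective A P] (r : ℕ) (ps : Set (PrimeSpectrum A))
    (hps : ps.Finite) (hr : ∀ p ∈ ps, rankAtStalk P p = r) :
    ∃ h : A, (∀ p ∈ ps, h ∉ p.asIdeal) ∧
      Nonempty (Basis (Fin r) (Localization.Away h) (LocalizedModule.Away h P)) := by
  let S := avoid ps
  let A' := Localization S
  let P' := LocalizedModule S P
  obtain ⟨hfin, hmax⟩ := finite_maximalSpectrum_localization ps hps S (mem_avoid ps) A'
  have hbc : IsBaseChange A' (LocalizedModule.mkLinearMap S P) :=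
    IsLocalizedModule.isBaseChange S A' (LocalizedModule.mkLinearMap S P)
  haveI : Module.Finite A' P' := Module.Finite.of_isLocalizedModule S (LocalizedModule.mkLinearMap S P)
  haveI : Module.Flat A' P' := Module.Flat.of_isLocalizedModule A' S (LocalizedModule.mkLinearMap S P)
  have rk : ∀ m : MaximalSpectrum A',
      finrank (A' ⧸ m.asIdeal) ((A' ⧸ m.asIdeal) ⊗[A'] P') = r := by
    intro m
    rw [finrank_quotient_tensor P' m, rankAtStalk_isBaseChange hbc]
    obtain ⟨p, hp, hle⟩ := hmax m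
    rw [← hr p hp]
    exact rankAtStalk_eq_of_le_of_finite_of_flat P hle
  obtain ⟨b⟩ := Module.nonempty_basis_of_flat_of_finrank_eq A' P' r rk
  haveI : Module.FinitePresentation A P := Module.finitePresentation_of_projective A P
  obtain ⟨h, hhS, b', -⟩ := Module.FinitePresentation.exists_basis_localizedModule_powers S
    (LocalizedModule.mkLinearMap S P) A' b
  exact ⟨h, hhS, ⟨b'⟩⟩

theorem nonempty_linearEquiv_finsupp_of_basis {R : Type u} [CommRing R] (S : Submonoid R)
    {M M' M'' : Type u} [AddCommGroup M] [Module R M] [AddCommGroup M'] [Module R M']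
    [AddCommGroup M''] [Module R M'']
    (R' R'' : Type u) [CommRing R'] [Algebra R R'] [IsLocalization S R'] [CommRing R'']
    [Algebra R R''] [IsLocalization S R'']
    (f' : M →ₗ[R] M') [IsLocalizedModule S f'] (f'' : M →ₗ[R] M'') [IsLocalizedModule S f'']
    [Module R' M'] [IsScalarTower R R' M'] [Module R'' M''] [IsScalarTower R R'' M'']
    {I : Type u} (b : Basis I R' M') : Nonempty (M'' ≃ₗ[R''] (I →₀ R'')) := by
  let e : M'' ≃ₗ[R] (I →₀ R'') :=
    (IsLocalizedModule.linearEquiv S f'' f') ≪≫ₗ (b.repr.restrictScalars R) ≪≫ₗ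
      Finsupp.mapRange.linearEquiv ((IsLocalization.algEquiv S R' R'').toLinearEquiv)
  exact ⟨e.extendScalarsOfIsLocalization S R''⟩

variable {X : Scheme.{u}}

/-- a module whose sections over an affine open are free of rank `n` is free of rank `n` there -/
noncomputable def freeOfSectionsEquiv {U : X.Opens} (hU : IsAffineOpen U) (M : X.Modules)
    [M.IsQuasicoherent] (n : ℕ)
    (e : Γ(M, U) ≃ₗ[Γ(X, U)] (ULift.{u} (Fin n) →₀ Γ(X, U))) :
    M.restrict U.ι ≅ FlatMod.freeMod (↑U) n := by
  let N := M.restrict hU.fromSpec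
  haveI : N.IsQuasicoherent := inferInstance
  haveI : IsIso N.fromTildeΓ := inferInstance
  let G : ModuleCat.{u} Γ(X, U) := (modulesSpecToSheaf.obj N).presheaf.obj (.op ⊤)
  have e1 : tilde G ≅ N := asIso N.fromTildeΓ
  let e2 : G ≃ₗ[Γ(X, U)] (ULift.{u} (Fin n) →₀ Γ(X, U)) := sectionsLinearEquiv hU M ≪≫ₗ e
  have e3 : N ≅ FlatMod.freeMod (Spec Γ(X, U)) n :=
    e1.symm ≪≫ tildeCongr e2.toModuleIso ≪≫ tildeFreeIso Γ(X, U) n
  exact freeOfComp hU.isoSpec.hom hU.fromSpec U.ι hU.isoSpec_hom_fromSpec M n e3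

attribute [local instance] basicOpenModule

/-- a basis of the algebraic localization gives a trivialisation over the basic open -/
theorem free_basicOpen_of_basis (M : X.Modules) [M.IsQuasicoherent] {V : X.Opens}
    (hV : IsAffineOpen V) (h : Γ(X, V)) (r : ℕ)
    (b : Basis (Fin r) (Localization.Away h) (LocalizedModule.Away h Γ(M, V))) :
    Nonempty (M.restrict (X.basicOpen h).ι ≅ FlatMod.freeMod (↑(X.basicOpen h)) r) := by
  haveI := hV.isLocalization_basicOpen h
  haveI := isLocalizedModule_res M hV h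
  let b' : Basis (ULift.{u} (Fin r)) (Localization.Away h) (LocalizedModule.Away h Γ(M, V)) :=
    b.reindex Equiv.ulift.symm
  obtain ⟨e⟩ := nonempty_linearEquiv_finsupp_of_basis (Submonoid.powers h)
    (Localization.Away h) Γ(X, X.basicOpen h)
    (LocalizedModule.mkLinearMap (Submonoid.powers h) Γ(M, V)) (resₗ M h) b'
  exact ⟨freeOfSectionsEquiv (hV.basicOpen h) M r e⟩

theorem exists_basicOpen_free (M : X.Modules) (r : ℕ) (hM : FlatMod.IsFinLocFreeOfRank r M)
    {V : X.Opens} (hV : IsAffineOpen V) (Z : Set X) (hZ : Z.Finite) (hZV : Z ⊆ V) :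
    ∃ h : Γ(X, V), Z ⊆ X.basicOpen h ∧
      Nonempty (M.restrict (X.basicOpen h).ι ≅ FlatMod.freeMod (↑(X.basicOpen h)) r) := by
  obtain ⟨hM1, hM2⟩ := (isFinLocFreeOfRank_iff M r).1 hM
  haveI := isQuasicoherent_of_isFinLocFree M hM1
  obtain ⟨hfin, hproj⟩ := (isFinLocFree_iff_affineOpens M).1 hM1 V hV
  let ps : Set (PrimeSpectrum Γ(X, V)) :=
    {p | ∃ z : V, z.1 ∈ Z ∧ hV.primeIdealOf z = p}
  have hps : ps.Finite := by
    have : ps ⊆ (fun z : V => hV.primeIdealOf z) '' {z : V | z.1 ∈ Z} := by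
      rintro p ⟨z, hz, rfl⟩
      exact ⟨z, hz, rfl⟩
    refine Set.Finite.subset (Set.Finite.image _ ?_) this
    exact hZ.preimage (Subtype.val_injective.injOn)
  obtain ⟨h, hh, ⟨b⟩⟩ := exists_away_basis Γ(M, V) r ps hps (fun p _ => hM2 V hV p)
  refine ⟨h, ?_, free_basicOpen_of_basis M hV h r b⟩
  intro z hz
  have hzV : z ∈ V := hZV hz
  exact (mem_basicOpen_iff hV ⟨z, hzV⟩ h).2 (hh _ ⟨⟨z, hzV⟩, hz, rfl⟩)

end Groth.Agent.Lead.SL
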