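import Mathlib
import Groth.Prelude.Def_LCI2
import Groth.Agent.Lib.Helper4.KosQuot4

/-!
# Composition of local complete intersection ring maps (lead)
-/

set_option backward.isDefEq.respectTransparency.types false
set_option synthInstance.maxHeartbeats 400000
set_option autoImplicit false
set_option linter.unusedSectionVars false
set_option linter.style.haveILetI false
set_option linter.unusedSimpArgs false
universe u
open CategoryTheory CategoryTheory.Limits
open Groth.Agent.Helper8.KoszulLib Groth.Agent.Helper3.KosBC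
open Groth.Agent.Lib.Helper4.KosComp1 Groth.Agent.Lib.Helper4.KosQuot1 Groth.Agent.Lib.Helper4.KosExch1
open Groth.Agent.Lib.Helper4.KosCG1 Groth.Agent.Lib.Helper4.KosQuot2 Groth.Agent.Lib.Helper4.KosQuot3
open Groth.Agent.Lib.Helper4.KosQuot4

namespace Groth.Agent.Lead.LciComp

/-- flat base change of a Koszul-regular ideal -/
theorem krIdeal_map_of_flat {R R' : Type u} [CommRing R] [CommRing R'] [Algebra R R']
    [Module.Flat R R'] (I : Ideal R) (hI : LCI.IsKoszulRegularIdeal I) :
    LCI.IsKoszulRegularIdeal (I.map (algebraMap R R')) := by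
  rw [isKoszulRegularIdeal_iff] at hI ⊢
  intro 𝔮' h𝔮' hle
  haveI : (𝔮'.comap (algebraMap R R')).IsPrime := Ideal.comap_isPrime _ _
  obtain ⟨g, hg, S, _, _, hS, l, hl, hgen⟩ := hI (𝔮'.comap (algebraMap R R')) inferInstance
    (Ideal.map_le_iff_le_comap.1 hle)
  refine ⟨algebraMap R R' g, hg, Localization.Away (algebraMap R R' g), inferInstance, inferInstance,
    inferInstance, ?_⟩
  haveI hloc : IsLocalization ((Submonoid.powers g).map (algebraMap R R'))
      (Localization.Away (algebraMap R R' g)) := by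
    rw [Submonoid.map_powers]
    infer_instance
  let ψS : S →+* Localization.Away (algebraMap R R' g) :=
    IsLocalization.map (Localization.Away (algebraMap R R' g)) (algebraMap R R')
      (Submonoid.powers g).le_comap_map
  have hcomp : ψS.comp (algebraMap R S) =
      (algebraMap R' (Localization.Away (algebraMap R R' g))).comp (algebraMap R R') :=
    IsLocalization.map_comp _
  letI : Algebra S (Localization.Away (algebraMap R R' g)) := ψS.toAlgebra
  haveI : IsScalarTower R S (Localization.Away (algebraMap R R' g)) :=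
    IsScalarTower.of_algebraMap_eq (fun x => by
      rw [IsScalarTower.algebraMap_apply R R' (Localization.Away (algebraMap R R' g))]
      exact (RingHom.congr_fun hcomp x).symm)
  haveI : Module.Flat R' (Localization.Away (algebraMap R R' g)) :=
    IsLocalization.flat _ (Submonoid.powers (algebraMap R R' g))
  haveI : Module.Flat R (Localization.Away (algebraMap R R' g)) :=
    Module.Flat.trans R R' _
  haveI : Module.Flat S (Localization.Away (algebraMap R R' g)) :=
    (Module.flat_iff_of_isLocalization S (Submonoid.powers g) _).2 inferInstance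
  refine ⟨l.map (algebraMap S (Localization.Away (algebraMap R R' g))),
    isKoszulRegularSeq_map_of_flat S _ l hl, ?_⟩
  rw [← map_ofList, ← hgen, Ideal.map_map, Ideal.map_map]
  congr 1
  exact hcomp.symm

/-- preimage of a Koszul-regular ideal under a surjection with Koszul-regular kernel -/
theorem krIdeal_comap' {Q Q' : Type u} [CommRing Q] [CommRing Q'] (ψ : Q →+* Q')
    (hψ : Function.Surjective ψ) (hker : LCI.IsKoszulRegularIdeal (RingHom.ker ψ))
    (I : Ideal Q') (hI : LCI.IsKoszulRegularIdeal I) :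
    LCI.IsKoszulRegularIdeal (I.comap ψ) := by
  rw [isKoszulRegularIdeal_iff] at hI hker ⊢
  intro 𝔮 h𝔮 hI𝔮
  have hk𝔮 : RingHom.ker ψ ≤ 𝔮 := le_trans (Ideal.comap_mono bot_le) hI𝔮
  haveI h𝔮' : (𝔮.map ψ).IsPrime := Ideal.map_isPrime_of_surjective hψ hk𝔮
  have hI𝔮' : I ≤ 𝔮.map ψ := by
    rw [← Ideal.map_comap_of_surjective ψ hψ I]
    exact Ideal.map_mono hI𝔮
  obtain ⟨g1', hg1', hK1⟩ := hI (𝔮.map ψ) h𝔮' hI𝔮'
  obtain ⟨g1, rfl⟩ := hψ g1'
  have hg1 : g1 ∉ 𝔮 := fun h => hg1' (Ideal.mem_map_of_mem _ h)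
  obtain ⟨g0, hg0, hK0⟩ := hker 𝔮 h𝔮 hk𝔮
  have hK0' : KRLoc (RingHom.ker ψ) (g0 * g1) := hK0.mul g1
  have hK1' : KRLoc I (ψ (g0 * g1)) := by
    rw [map_mul, mul_comm]
    exact hK1.mul (ψ g0)
  obtain ⟨g, hg, rfl⟩ : ∃ g, g ∉ 𝔮 ∧ g = g0 * g1 := ⟨_, h𝔮.mul_notMem hg0 hg1, rfl⟩
  obtain ⟨S, _, _, hS, u, hu, hkergen⟩ := hK0'
  obtain ⟨S', _, _, hS', l, hl, hgen⟩ := hK1'
  refine ⟨g0 * g1, hg, S, inferInstance, inferInstance, hS, ?_⟩
  haveI hloc : IsLocalization ((Submonoid.powers (g0 * g1)).map ψ) S' := by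
    rw [Submonoid.map_powers]
    exact hS'
  obtain ⟨ψS, hψS⟩ : ∃ ψS : S →+* S',
      ψS = IsLocalization.map S' ψ (Submonoid.powers (g0 * g1)).le_comap_map := ⟨_, rfl⟩
  have hsurj : Function.Surjective ψS := by
    rw [hψS]
    exact IsLocalization.map_surjective_of_surjective (Submonoid.powers (g0 * g1)) S S' hψ
  have hcomp : ψS.comp (algebraMap Q S) = (algebraMap Q' S').comp ψ := by
    rw [hψS]
    exact IsLocalization.map_comp _
  have hkerS : RingHom.ker ψS = Ideal.ofList u := by
    rw [hψS, IsLocalization.ker_map (S := S) S' ψ rfl, hkergen]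
  obtain ⟨l', hl'⟩ := (List.map_surjective_iff.2 hsurj) l
  refine ⟨l' ++ u, koszul_append_of_surjective ψS hsurj _ hu hkerS l' (hl'.symm ▸ hl), ?_⟩
  have hK1 : ((I.comap ψ).map (algebraMap Q S)).map ψS = I.map (algebraMap Q' S') := by
    rw [Ideal.map_map, hcomp, ← Ideal.map_map, Ideal.map_comap_of_surjective ψ hψ]
  have hK2 : RingHom.ker ψS ≤ (I.comap ψ).map (algebraMap Q S) := by
    rw [hψS, IsLocalization.ker_map (S := S) S' ψ rfl]
    exact Ideal.map_mono (Ideal.comap_mono bot_le)
  have hL1 : (Ideal.ofList (l' ++ u)).map ψS = Ideal.ofList l := by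
    rw [ofList_append', Ideal.map_sup, ← hkerS, map_ofList, hl']
    have : (RingHom.ker ψS).map ψS = ⊥ := by
      rw [eq_bot_iff, Ideal.map_le_iff_le_comap]
      intro x hx
      exact hx
    rw [this, sup_bot_eq]
  have hL2 : RingHom.ker ψS ≤ Ideal.ofList (l' ++ u) := by
    rw [ofList_append', hkerS]
    exact le_sup_right
  have hcm : ∀ K : Ideal S, RingHom.ker ψS ≤ K → (K.map ψS).comap ψS = K := by
    intro K hK
    rw [Ideal.comap_map_of_surjective ψS hsurj]
    exact sup_eq_left.2 hK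
  rw [← hcm _ hK2, hK1, hgen, ← hL1, hcm _ hL2]

/-- composition of local complete intersection ring maps -/
theorem isLCI_comp (A B C : Type u) [CommRing A] [CommRing B] [CommRing C] [Algebra A B]
    [Algebra B C] [Algebra A C] [IsScalarTower A B C] (h1 : LCI.IsLCI A B) (h2 : LCI.IsLCI B C) :
    LCI.IsLCI A C := by
  obtain ⟨hft1, n, α, hα, hKα⟩ := h1
  obtain ⟨hft2, m, β, hβ, hKβ⟩ := h2
  refine ⟨Algebra.FiniteType.trans hft1 hft2, m + n, ?_⟩
  let e : MvPolynomial (Fin (m + n)) A ≃ₐ[A] MvPolynomial (Fin m) (MvPolynomial (Fin n) A) :=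
    (MvPolynomial.renameEquiv A finSumFinEquiv).symm.trans (MvPolynomial.sumAlgEquiv A (Fin m) (Fin n))
  let ψ : MvPolynomial (Fin m) (MvPolynomial (Fin n) A) →ₐ[A] C :=
    (β.restrictScalars A).comp (MvPolynomial.mapAlgHom α)
  have hmapsurj : Function.Surjective (MvPolynomial.map (σ := Fin m) α.toRingHom) :=
    MvPolynomial.map_surjective α.toRingHom hα
  have hψsurj : Function.Surjective ψ := by
    intro c
    obtain ⟨b, rfl⟩ := hβ c
    obtain ⟨a, rfl⟩ := hmapsurj b
    exact ⟨a, rfl⟩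
  refine ⟨ψ.comp e.toAlgHom, hψsurj.comp e.surjective, ?_⟩
  have hker1 : LCI.IsKoszulRegularIdeal (RingHom.ker (MvPolynomial.map (σ := Fin m) α.toRingHom)) := by
    rw [MvPolynomial.ker_map]
    exact krIdeal_map_of_flat (R' := MvPolynomial (Fin m) (MvPolynomial (Fin n) A)) _ hKα
  have hker2 : LCI.IsKoszulRegularIdeal (RingHom.ker ψ.toRingHom) := by
    have : RingHom.ker ψ.toRingHom =
        (RingHom.ker β.toRingHom).comap (MvPolynomial.map (σ := Fin m) α.toRingHom) := by
      rw [RingHom.comap_ker]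
      rfl
    rw [this]
    exact krIdeal_comap' _ hmapsurj hker1 _ hKβ
  have h3 := (krIdeal_ker_comp_ringEquiv (e.toRingEquiv) ψ.toRingHom).2 hker2
  exact h3

end Groth.Agent.Lead.LciComp
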