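import Mathlib
import Groth.Prelude.Def_LCI2
import Groth.Agent.Lib.Lead.LciComp1

/-!
# Local complete intersection ring maps on charts: composition (lead)
-/

set_option backward.isDefEq.respectTransparency.types false
set_option synthInstance.maxHeartbeats 400000
set_option autoImplicit false
set_option linter.unusedSectionVars false
set_option linter.style.haveILetI false
set_option linter.unusedSimpArgs false
universe u
open CategoryTheory CategoryTheory.Limits AlgebraicGeometry TopologicalSpace Opposite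
open Groth.Agent.Lib.Helper4.KosQuot4

namespace Groth.Agent.Lead.LciComp

theorem isLCI_of_algEquiv {A B B' : Type u} [CommRing A] [CommRing B] [CommRing B'] [Algebra A B]
    [Algebra A B'] (e : B ≃ₐ[A] B') (h : LCI.IsLCI A B) : LCI.IsLCI A B' := by
  obtain ⟨hft, n, α, hα, hK⟩ := h
  refine ⟨hft.equiv e, n, e.toAlgHom.comp α, e.surjective.comp hα, ?_⟩
  have : RingHom.ker (e.toAlgHom.comp α).toRingHom = RingHom.ker α.toRingHom := by
    ext x
    simp [RingHom.mem_ker]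
  rw [this]
  exact hK

/-- a morphism of commutative rings is a local complete intersection -/
def LciHom {A B : CommRingCat.{u}} (φ : A ⟶ B) : Prop :=
  @LCI.IsLCI A _ B _ φ.hom.toAlgebra

theorem lciHom_comp {A B C : CommRingCat.{u}} (φ : A ⟶ B) (ψ : B ⟶ C) (h1 : LciHom φ)
    (h2 : LciHom ψ) : LciHom (φ ≫ ψ) := by
  letI := φ.hom.toAlgebra
  letI := ψ.hom.toAlgebra
  letI := (φ ≫ ψ).hom.toAlgebra
  haveI : IsScalarTower A B C := IsScalarTower.of_algebraMap_eq (fun _ => rfl)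
  exact isLCI_comp A B C h1 h2

theorem lciHom_of_basicOpen_cover {X : Scheme.{u}} {U : X.Opens} (hU : IsAffineOpen U)
    {A : CommRingCat.{u}} (φ : A ⟶ Γ(X, U))
    (h : ∀ x ∈ U, ∃ s : Γ(X, U), x ∈ X.basicOpen s ∧
      LciHom (φ ≫ X.presheaf.map (homOfLE (X.basicOpen_le s)).op)) : LciHom φ := by
  let T : Set Γ(X, U) := {s | LciHom (φ ≫ X.presheaf.map (homOfLE (X.basicOpen_le s)).op)}
  have hT : Ideal.span T = ⊤ := by
    rw [← hU.self_le_iSup_basicOpen_iff]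
    intro x hx
    obtain ⟨s, hxs, hs⟩ := h x hx
    exact Opens.mem_iSup.2 ⟨⟨s, hs⟩, hxs⟩
  obtain ⟨T', hT'sub, hT'span⟩ := (Ideal.span_eq_top_iff_finite T).1 hT
  letI algA : Algebra A Γ(X, U) := φ.hom.toAlgebra
  refine S9253_main A Γ(X, U) T'.card (fun j => ((T'.equivFin.symm j : T') : Γ(X, U))) ?_ ?_
  · rw [← hT'span]
    congr 1
    ext y
    constructor
    · rintro ⟨j, rfl⟩
      exact (T'.equivFin.symm j).2
    · intro hy
      exact ⟨T'.equivFin ⟨y, hy⟩, by simp⟩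
  · intro j
    obtain ⟨s, hs⟩ : ∃ s : T', s = T'.equivFin.symm j := ⟨_, rfl⟩
    rw [← hs]
    have hsT : LciHom (φ ≫ X.presheaf.map (homOfLE (X.basicOpen_le (s : Γ(X, U)))).op) :=
      hT'sub s.2
    letI algAs : Algebra A Γ(X, X.basicOpen (s : Γ(X, U))) :=
      (φ ≫ X.presheaf.map (homOfLE (X.basicOpen_le (s : Γ(X, U)))).op).hom.toAlgebra
    haveI : IsScalarTower A Γ(X, U) Γ(X, X.basicOpen (s : Γ(X, U))) :=
      IsScalarTower.of_algebraMap_eq (fun _ => rfl)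
    haveI := hU.isLocalization_basicOpen (s : Γ(X, U))
    let e : Γ(X, X.basicOpen (s : Γ(X, U))) ≃ₐ[Γ(X, U)] Localization.Away (s : Γ(X, U)) :=
      IsLocalization.algEquiv (Submonoid.powers (s : Γ(X, U))) _ _
    exact isLCI_of_algEquiv (e.restrictScalars A) hsT

theorem S1491_main {X Y Z : Scheme.{u}} (f : X ⟶ Y) (g : Y ⟶ Z)
    (hf : ∀ (U : X.Opens) (V : Y.Opens) (_ : IsAffineOpen U) (_ : IsAffineOpen V)
      (hUV : U ≤ f ⁻¹ᵁ V), LciHom (f.appLE V U hUV))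
    (hg : ∀ (U : Y.Opens) (V : Z.Opens) (_ : IsAffineOpen U) (_ : IsAffineOpen V)
      (hUV : U ≤ g ⁻¹ᵁ V), LciHom (g.appLE V U hUV))
    (U : X.Opens) (V : Z.Opens) (hU : IsAffineOpen U) (hV : IsAffineOpen V)
    (hUV : U ≤ (f ≫ g) ⁻¹ᵁ V) : LciHom ((f ≫ g).appLE V U hUV) := by
  refine lciHom_of_basicOpen_cover hU _ (fun x hx => ?_)
  have hy : f x ∈ g ⁻¹ᵁ V := hUV hx
  obtain ⟨_, ⟨W, hW, rfl⟩, hyW, hWV⟩ :=
    Y.isBasis_affineOpens.exists_subset_of_mem_open hy (g ⁻¹ᵁ V).2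
  have hxW : x ∈ U ⊓ f ⁻¹ᵁ W := ⟨hx, hyW⟩
  obtain ⟨s, hs1, hs2⟩ := hU.exists_basicOpen_le (V := U ⊓ f ⁻¹ᵁ W) ⟨x, hxW⟩ hx
  refine ⟨s, hs2, ?_⟩
  have hsW : X.basicOpen s ≤ f ⁻¹ᵁ W := hs1.trans inf_le_right
  have h1 := hf (X.basicOpen s) W (hU.basicOpen s) hW hsW
  have h2 := hg W V hW hV hWV
  have h3 := lciHom_comp _ _ h2 h1
  rw [Scheme.Hom.appLE_comp_appLE] at h3
  rw [Scheme.Hom.appLE_map]
  exact h3

end Groth.Agent.Lead.LciComp
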