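import Mathlib
import Groth.Prelude.Def_LCI2
import Groth.Agent.Lib.Lead.LciComp1

/-!
# Descent of Koszul-regular sequences along faithfully flat maps; Koszul-regularity at a prime (lead)
-/

set_option backward.isDefEq.respectTransparency.types false
set_option synthInstance.maxHeartbeats 400000
set_option autoImplicit false
set_option linter.unusedSectionVars false
set_option linter.style.haveILetI false
set_option linter.unusedSimpArgs false
universe u
open CategoryTheory CategoryTheory.Limits TensorProduct
open Groth.Agent.Helper8.KoszulLib Groth.Agent.Helper3.KosBC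
open Groth.Agent.Lib.Helper4.KosComp1 Groth.Agent.Lib.Helper4.KosQuot1 Groth.Agent.Lib.Helper4.KosExch1
open Groth.Agent.Lib.Helper4.KosCG1 Groth.Agent.Lib.Helper4.KosQuot2 Groth.Agent.Lib.Helper4.KosQuot3
open Groth.Agent.Lib.Helper4.KosQuot4
open Groth.Agent.Helper5.FlatBC

namespace Groth.Agent.Lead.LciDesc

/-- flat base change: the Koszul homology of the image sequence vanishes iff the base change of the
Koszul homology vanishes -/
theorem isZero_homology_map_iff (R S : Type u) [CommRing R] [CommRing S] [Algebra R S]
    [Module.Flat R S] (l : List R) (i : ℤ) :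
    IsZero ((Koszul.koszul S (l.map (algebraMap R S))).homology i) ↔
      Subsingleton (S ⊗[R] ((Koszul.koszul R l).homology i : ModuleCat.{u} R)) := by
  obtain ⟨e⟩ := nonempty_Ec_koszul_iso R S l
  have h1 : IsZero ((Koszul.koszul S (l.map (algebraMap R S))).homology i) ↔
      IsZero ((Ef (R := R) S).obj ((Koszul.koszul R l).homology i)) :=
    ⟨fun h => (h.of_iso ((HomologicalComplex.homologyFunctor _ _ i).mapIso e)).of_iso
        (homIso S (Koszul.koszul R l) i).symm,
      fun h => (h.of_iso (homIso S (Koszul.koszul R l) i)).of_iso
        ((HomologicalComplex.homologyFunctor _ _ i).mapIso e.symm)⟩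
  rw [h1]
  constructor
  · intro h
    have h0 : Subsingleton ((Ef (R := R) S).obj ((Koszul.koszul R l).homology i)) :=
      ModuleCat.subsingleton_of_isZero h
    exact @Equiv.subsingleton _ _ (eqv S ((Koszul.koszul R l).homology i)).toEquiv h0
  · intro h
    have h0 : Subsingleton ((Ef (R := R) S).obj ((Koszul.koszul R l).homology i)) :=
      @Equiv.subsingleton _ _ (eqv S ((Koszul.koszul R l).homology i)).symm.toEquiv h
    exact @ModuleCat.isZero_of_subsingleton _ _ _ h0

/-- descent of Koszul-regular sequences along faithfully flat ring maps -/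
theorem kr_of_map_of_faithfullyFlat (R S : Type u) [CommRing R] [CommRing S] [Algebra R S]
    [Module.FaithfullyFlat R S] (l : List R)
    (h : LCI.IsKoszulRegularSeq S (l.map (algebraMap R S))) : LCI.IsKoszulRegularSeq R l := by
  intro i hi
  haveI := (isZero_homology_map_iff R S l i).1 (h i hi)
  haveI : Subsingleton ((Koszul.koszul R l).homology i : ModuleCat.{u} R) :=
    Module.FaithfullyFlat.lTensor_reflects_triviality R S _
  exact ModuleCat.isZero_of_subsingleton _

/-- Koszul-regularity of a sequence at a prime -/
def KRAt (R : Type u) [CommRing R] (l : List R) (𝔮 : Ideal R) [𝔮.IsPrime] : Prop :=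
  LCI.IsKoszulRegularSeq (Localization.AtPrime 𝔮) (l.map (algebraMap R (Localization.AtPrime 𝔮)))

/-- local-to-global for Koszul-regular sequences -/
theorem kr_of_forall_krAt (R : Type u) [CommRing R] (l : List R)
    (h : ∀ (m : Ideal R) [m.IsMaximal], KRAt R l m) : LCI.IsKoszulRegularSeq R l := by
  intro i hi
  haveI : Subsingleton ((Koszul.koszul R l).homology i : ModuleCat.{u} R) := by
    refine Module.subsingleton_of_localization_maximal (R := R)
      (fun P _ => Localization.AtPrime P ⊗[R] ((Koszul.koszul R l).homology i : ModuleCat.{u} R))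
      (fun P _ => TensorProduct.mk R (Localization.AtPrime P) _ 1) ?_
    intro P hP
    exact (isZero_homology_map_iff R (Localization.AtPrime P) l i).1 (h P i hi)
  exact ModuleCat.isZero_of_subsingleton _

theorem krAt_of_kr (R : Type u) [CommRing R] (l : List R) (h : LCI.IsKoszulRegularSeq R l)
    (𝔮 : Ideal R) [𝔮.IsPrime] : KRAt R l 𝔮 :=
  isKoszulRegularSeq_map_of_flat R _ l h

/-- Koszul-regularity at a prime ascends and descends along flat ring maps -/
theorem krAt_iff_of_flat (A B : Type u) [CommRing A] [CommRing B] [Algebra A B] [Module.Flat A B]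
    (l : List A) (p : Ideal A) [p.IsPrime] (q : Ideal B) [q.IsPrime] [q.LiesOver p] :
    KRAt B (l.map (algebraMap A B)) q ↔ KRAt A l p := by
  letI := Localization.AtPrime.algebraOfLiesOver p q
  haveI : Module.Flat (Localization.AtPrime p) (Localization.AtPrime q) := inferInstance
  haveI : IsLocalHom (algebraMap (Localization.AtPrime p) (Localization.AtPrime q)) :=
    Localization.isLocalHom_localRingHom p q (algebraMap A B) Ideal.LiesOver.over
  haveI : Module.FaithfullyFlat (Localization.AtPrime p) (Localization.AtPrime q) :=
    Module.FaithfullyFlat.of_flat_of_isLocalHom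
  have hl : (l.map (algebraMap A B)).map (algebraMap B (Localization.AtPrime q)) =
      (l.map (algebraMap A (Localization.AtPrime p))).map
        (algebraMap (Localization.AtPrime p) (Localization.AtPrime q)) := by
    rw [List.map_map, List.map_map]
    apply List.map_congr_left
    intro x _
    simp only [Function.comp_apply]
    rw [← IsScalarTower.algebraMap_apply A B (Localization.AtPrime q),
      ← IsScalarTower.algebraMap_apply A (Localization.AtPrime p) (Localization.AtPrime q)]
  unfold KRAt
  rw [hl]
  exact ⟨kr_of_map_of_faithfullyFlat _ _ _, isKoszulRegularSeq_map_of_flat _ _ _⟩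

end Groth.Agent.Lead.LciDesc
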