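import Mathlib
import Groth.Prelude.Def_LCI2
import Groth.Agent.Lib.Lead.LciDesc1

/-!
# Openness of the locus where a generating sequence of a Koszul-regular ideal is Koszul-regular (lead)
-/

set_option backward.isDefEq.respectTransparency.types false
set_option synthInstance.maxHeartbeats 400000
set_option autoImplicit false
set_option linter.unusedSectionVars false
set_option linter.style.haveILetI false
set_option linter.unusedSimpArgs false
universe u
open CategoryTheory CategoryTheory.Limits TensorProduct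
open Groth.Agent.Helper8.KoszulLib Groth.Agent.Helper3.KosBC
open Groth.Agent.Lib.Helper4.KosComp1 Groth.Agent.Lib.Helper4.KosQuot1 Groth.Agent.Lib.Helper4.KosExch1
open Groth.Agent.Lib.Helper4.KosCG1 Groth.Agent.Lib.Helper4.KosQuot2 Groth.Agent.Lib.Helper4.KosQuot3
open Groth.Agent.Lib.Helper4.KosQuot4

namespace Groth.Agent.Lead.LciDesc

theorem kr_of_ofList_eq_top {R : Type u} [CommRing R] (l : List R) (h : Ideal.ofList l = ⊤) :
    LCI.IsKoszulRegularSeq R l := by
  rw [Groth.Agent.Helper3.KosBC.isKoszulRegularSeq_iff]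
  intro i _
  exact isZero_homology_of_span_eq_top (ModuleCat.of R R) l h i

/-- the prime of a localization away from `h` over a prime not containing `h` -/
theorem exists_prime_away {B S : Type u} [CommRing B] [CommRing S] [Algebra B S] (h : B)
    [IsLocalization.Away h S] (q : Ideal B) [q.IsPrime] (hq : h ∉ q) :
    ∃ Q : Ideal S, ∃ _ : Q.IsPrime, Q.LiesOver q ∧ Q = q.map (algebraMap B S) := by
  have hdisj : Disjoint (Submonoid.powers h : Set B) (q : Set B) := by
    rw [Set.disjoint_left]
    rintro _ ⟨k, rfl⟩ hk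
    exact hq (Ideal.IsPrime.mem_of_pow_mem inferInstance k hk)
  have hp : (q.map (algebraMap B S)).IsPrime :=
    IsLocalization.isPrime_of_isPrime_disjoint (Submonoid.powers h) S q inferInstance hdisj
  refine ⟨_, hp, ⟨?_⟩, rfl⟩
  exact (IsLocalization.comap_map_of_isPrime_disjoint (Submonoid.powers h) S inferInstance
    hdisj).symm

/-- Koszul-regularity on a basic open gives Koszul-regularity at its primes -/
theorem krAt_of_kr_away {B S : Type u} [CommRing B] [CommRing S] [Algebra B S] (h : B)
    [IsLocalization.Away h S] (f : List B)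
    (hf : LCI.IsKoszulRegularSeq S (f.map (algebraMap B S)))
    (q : Ideal B) [q.IsPrime] (hq : h ∉ q) : KRAt B f q := by
  obtain ⟨Q, hQ, hQq, -⟩ := exists_prime_away (S := S) h q hq
  haveI : Module.Flat B S := IsLocalization.flat S (Submonoid.powers h)
  exact (krAt_iff_of_flat B S f q Q).1 (krAt_of_kr S _ hf Q)

theorem isOpen_setOf_krAt {B : Type u} [CommRing B] (J : Ideal B)
    (hJ : LCI.IsKoszulRegularIdeal J) (f : List B) (h0 : B) (hgen : GenAfter J h0 f) :
    IsOpen {q : PrimeSpectrum B | h0 ∉ q.asIdeal ∧ KRAt B f q.asIdeal} := by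
  rw [isOpen_iff_forall_mem_open]
  rintro ⟨q, hqp⟩ ⟨hq0, hqK⟩
  haveI := hqp
  by_cases hJq : J ≤ q
  · -- the interesting case
    rw [isKoszulRegularIdeal_iff] at hJ
    obtain ⟨g, hg, hKR⟩ := hJ q hqp hJq
    have hKR' : KRLoc J (h0 * g) := by
      rw [mul_comm]
      exact hKR.mul h0
    obtain ⟨S, _, _, hS, l, hl, hJS⟩ := hKR'
    have hh : h0 * g ∉ q := hqp.mul_notMem hq0 hg
    have hfS : J.map (algebraMap B S) = Ideal.ofList (f.map (algebraMap B S)) :=
      map_eq_ofList_of_genAfter (h0 * g) J f (hgen.mul g)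
    haveI : Module.Flat B S := IsLocalization.flat S (Submonoid.powers (h0 * g))
    obtain ⟨Q, hQ, hQq, hQeq⟩ := exists_prime_away (S := S) (h0 * g) q hh
    have hJQ : J.map (algebraMap B S) ≤ Q := hQeq ▸ Ideal.map_mono hJq
    -- lengths agree, by comparison in the local ring at `Q`
    have h1 : KRAt S (f.map (algebraMap B S)) Q := (krAt_iff_of_flat B S f q Q).2 hqK
    have h2 : KRAt S l Q := krAt_of_kr S l hl Q
    have hlen : (f.map (algebraMap B S)).length = l.length := by
      have heq : Ideal.ofList (l.map (algebraMap S (Localization.AtPrime Q))) =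
          Ideal.ofList ((f.map (algebraMap B S)).map (algebraMap S (Localization.AtPrime Q))) := by
        rw [← map_ofList, ← map_ofList, ← hJS, ← hfS]
      have hne : Ideal.ofList (l.map (algebraMap S (Localization.AtPrime Q))) ≠ ⊤ := by
        rw [← map_ofList, ← hJS]
        intro htop
        have h3 : (Q.map (algebraMap S (Localization.AtPrime Q))) = ⊤ :=
          top_le_iff.1 (htop ▸ Ideal.map_mono hJQ)
        rw [Localization.AtPrime.map_eq_maximalIdeal] at h3
        exact (IsLocalRing.maximalIdeal.isMaximal _).ne_top h3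
      have hcg := koszul_change_generators _ _ heq hne h2
      have h4 := hcg.2.1 h1
      simpa using h4
    -- hence `f` is Koszul-regular on the basic open
    have hfKR : LCI.IsKoszulRegularSeq S (f.map (algebraMap B S)) := by
      have heq : Ideal.ofList l = Ideal.ofList (f.map (algebraMap B S)) := by rw [← hJS, ← hfS]
      have hne : Ideal.ofList l ≠ ⊤ := by
        rw [← hJS]
        intro htop
        exact hQ.ne_top (top_le_iff.1 (htop ▸ hJQ))
      exact (koszul_change_generators _ _ heq hne hl).2.2 hlen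
    refine ⟨(PrimeSpectrum.basicOpen (h0 * g) : Set (PrimeSpectrum B)), ?_,
      (PrimeSpectrum.basicOpen (h0 * g)).isOpen, hh⟩
    rintro ⟨q', hq'p⟩ (hq' : h0 * g ∉ q')
    haveI := hq'p
    refine ⟨fun h => hq' (Ideal.mul_mem_right _ _ h), ?_⟩
    exact krAt_of_kr_away (S := S) (h0 * g) f hfKR q' hq'
  · -- `J` is the unit ideal near `q`
    obtain ⟨x, hxJ, hxq⟩ := SetLike.not_le_iff_exists.1 hJq
    obtain ⟨n, hn⟩ := hgen.2 x hxJ
    refine ⟨(PrimeSpectrum.basicOpen (h0 * x) : Set (PrimeSpectrum B)), ?_,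
      (PrimeSpectrum.basicOpen (h0 * x)).isOpen, hqp.mul_notMem hq0 hxq⟩
    rintro ⟨q', hq'p⟩ (hq' : h0 * x ∉ q')
    haveI := hq'p
    have hq'0 : h0 ∉ q' := fun h => hq' (Ideal.mul_mem_right _ _ h)
    have hq'x : x ∉ q' := fun h => hq' (Ideal.mul_mem_left _ _ h)
    refine ⟨hq'0, ?_⟩
    apply kr_of_ofList_eq_top
    rw [← map_ofList]
    have hmem : h0 ^ n * x ∉ q' := hq'p.mul_notMem (fun h => hq'0 (hq'p.mem_of_pow_mem n h)) hq'x
    have hunit : IsUnit (algebraMap B (Localization.AtPrime q') (h0 ^ n * x)) :=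
      IsLocalization.map_units (Localization.AtPrime q') (⟨_, hmem⟩ : q'.primeCompl)
    exact Ideal.eq_top_of_isUnit_mem _ (Ideal.mem_map_of_mem _ hn) hunit

end Groth.Agent.Lead.LciDesc
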