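import Mathlib
import Groth.Prelude.Def_LCI2
import Groth.Agent.Lib.Lead.LciDesc2

/-!
# Choosing Koszul-regular generators at a prime downstairs (lead)
-/

set_option backward.isDefEq.respectTransparency.types false
set_option synthInstance.maxHeartbeats 400000
set_option autoImplicit false
set_option linter.unusedSectionVars false
set_option linter.style.haveILetI false
set_option linter.unusedSimpArgs false
universe u
open CategoryTheory CategoryTheory.Limits TensorProduct
open Groth.Agent.Helper8.KoszulLib Groth.Agent.Helper3.KosBC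
open Groth.Agent.Lib.Helper4.KosComp1 Groth.Agent.Lib.Helper4.KosQuot1 Groth.Agent.Lib.Helper4.KosExch1
open Groth.Agent.Lib.Helper4.KosCG1 Groth.Agent.Lib.Helper4.KosQuot2 Groth.Agent.Lib.Helper4.KosQuot3
open Groth.Agent.Lib.Helper4.KosQuot4

namespace Groth.Agent.Lead.LciDesc

theorem indepT_append_singleton {R : Type u} [CommRing R] (𝔭 J : Ideal R) :
    ∀ (u pre : List R) (x : R), IndepT 𝔭 J pre (u ++ [x]) ↔
      IndepT 𝔭 J pre u ∧ (∀ s : R, s * x ∈ Ideal.ofList (pre ++ u) ⊔ 𝔭 * J → s ∈ 𝔭)
  | [], pre, x => by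
    simp [IndepT]
  | y :: u, pre, x => by
    have ih := indepT_append_singleton 𝔭 J u (pre ++ [y]) x
    simp only [List.cons_append, IndepT]
    rw [ih]
    simp only [List.append_assoc, List.singleton_append, and_assoc]

/-- the canonical map from a localization away from `g ∉ q` to the local ring at `q` -/
theorem exists_map_to_atPrime {B S : Type u} [CommRing B] [CommRing S] [Algebra B S] (g : B)
    [IsLocalization.Away g S] (q : Ideal B) [q.IsPrime] (hg : g ∉ q) :
    ∃ ψ : S →+* Localization.AtPrime q,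
      ψ.comp (algebraMap B S) = algebraMap B (Localization.AtPrime q) ∧
      ∀ L : List S, LCI.IsKoszulRegularSeq S L →
        LCI.IsKoszulRegularSeq (Localization.AtPrime q) (L.map ψ) := by
  have hunit : IsUnit (algebraMap B (Localization.AtPrime q) g) :=
    IsLocalization.map_units (Localization.AtPrime q) (⟨g, hg⟩ : q.primeCompl)
  let ψ : S →+* Localization.AtPrime q := IsLocalization.Away.lift g hunit
  have hcomp : ψ.comp (algebraMap B S) = algebraMap B (Localization.AtPrime q) :=
    IsLocalization.Away.lift_comp g hunit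
  refine ⟨ψ, hcomp, fun L hL => ?_⟩
  letI : Algebra S (Localization.AtPrime q) := ψ.toAlgebra
  haveI : IsScalarTower B S (Localization.AtPrime q) :=
    IsScalarTower.of_algebraMap_eq (fun x => (RingHom.congr_fun hcomp x).symm)
  haveI : Module.Flat B (Localization.AtPrime q) := IsLocalization.flat _ q.primeCompl
  haveI : Module.Flat S (Localization.AtPrime q) :=
    (Module.flat_iff_of_isLocalization S (Submonoid.powers g) _).2 inferInstance
  exact isKoszulRegularSeq_map_of_flat S (Localization.AtPrime q) L hL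

/-- a Koszul-regular ideal is generated by a Koszul-regular sequence in the local ring at a prime
containing it -/
theorem exists_kr_atPrime {B : Type u} [CommRing B] (J : Ideal B) (q : Ideal B) [q.IsPrime]
    (g : B) (hg : g ∉ q) (hK : KRLoc J g) :
    ∃ l : List (Localization.AtPrime q), LCI.IsKoszulRegularSeq (Localization.AtPrime q) l ∧
      J.map (algebraMap B (Localization.AtPrime q)) = Ideal.ofList l := by
  obtain ⟨S, _, _, hS, l, hl, hJS⟩ := hK
  obtain ⟨ψ, hcomp, hψ⟩ := exists_map_to_atPrime (S := S) g q hg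
  refine ⟨l.map ψ, hψ l hl, ?_⟩
  rw [← map_ofList, ← hJS, Ideal.map_map, hcomp]

theorem exists_mul_mem_of_fg {A : Type u} [CommRing A] (I K : Ideal A) (hfg : I.FG) (p : Ideal A)
    [p.IsPrime] (h : ∀ x ∈ I, ∃ a, a ∉ p ∧ a * x ∈ K) : ∃ g0, g0 ∉ p ∧ ∀ x ∈ I, g0 * x ∈ K := by
  classical
  obtain ⟨s, hs⟩ := hfg
  have h' : ∀ y : A, ∃ a, y ∈ I → a ∉ p ∧ a * y ∈ K := fun y => by
    by_cases hy : y ∈ I
    · obtain ⟨a, ha⟩ := h y hy
      exact ⟨a, fun _ => ha⟩
    · exact ⟨0, fun h => (hy h).elim⟩
  choose a ha using h'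
  have hsI : ∀ y ∈ s, y ∈ I := fun y hy => hs ▸ Ideal.subset_span hy
  refine ⟨∏ y ∈ s, a y, ?_, ?_⟩
  · intro hmem
    obtain ⟨y, hy, hay⟩ := (Ideal.IsPrime.prod_mem_iff).1 hmem
    exact (ha y (hsI y hy)).1 hay
  · intro x hx
    rw [← hs] at hx
    refine Submodule.span_induction ?_ ?_ ?_ ?_ hx
    · intro y hy
      obtain ⟨c, hc⟩ := Finset.dvd_prod_of_mem a hy
      rw [hc, mul_comm (a y) c, mul_assoc]
      exact Ideal.mul_mem_left _ _ (ha y (hsI y hy)).2
    · simp
    · intro x y _ _ hx hy
      rw [mul_add]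
      exact Ideal.add_mem _ hx hy
    · intro c x _ hx
      rw [smul_eq_mul, mul_left_comm]
      exact Ideal.mul_mem_left _ _ hx

theorem exists_gens_at (A B : Type u) [CommRing A] [CommRing B] [Algebra A B]
    [Module.FaithfullyFlat A B] (I : Ideal A)
    (hIB : LCI.IsKoszulRegularIdeal (I.map (algebraMap A B))) (hfg : I.FG)
    (p : Ideal A) [p.IsPrime] (hIp : I ≤ p) :
    ∃ (f : List A) (g0 : A), g0 ∉ p ∧ GenAfter I g0 f ∧ KRAt A f p := by
  classical
  obtain ⟨⟨q, hqp⟩, hq⟩ := PrimeSpectrum.comap_surjective_of_faithfullyFlat (A := A) (B := B)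
    ⟨p, inferInstance⟩
  haveI := hqp
  have hqover : q.comap (algebraMap A B) = p := congrArg PrimeSpectrum.asIdeal hq
  haveI : q.LiesOver p := ⟨hqover.symm⟩
  obtain ⟨φ, hφ⟩ : ∃ φ : A →+* B, φ = algebraMap A B := ⟨_, rfl⟩
  obtain ⟨J, hJ⟩ : ∃ J : Ideal B, J = I.map (algebraMap A B) := ⟨_, rfl⟩
  rw [← hJ] at hIB
  have hJq : J ≤ q := by
    rw [hJ, Ideal.map_le_iff_le_comap, hqover]
    exact hIp
  rw [isKoszulRegularIdeal_iff] at hIB
  obtain ⟨g', hg', hK⟩ := hIB q hqp hJq
  obtain ⟨ι, hι⟩ : ∃ ι : B →+* Localization.AtPrime q, ι = algebraMap B (Localization.AtPrime q) :=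
    ⟨_, rfl⟩
  obtain ⟨l0, hl0, hJl0⟩ := exists_kr_atPrime J q g' hg' hK
  rw [← hι] at hJl0
  have hqm : q.map ι = IsLocalRing.maximalIdeal (Localization.AtPrime q) := by
    rw [hι]
    exact Localization.AtPrime.map_eq_maximalIdeal
  have hJne : J.map ι ≠ ⊤ := by
    intro htop
    have h3 : q.map ι = ⊤ := top_le_iff.1 (htop ▸ Ideal.map_mono hJq)
    rw [hqm] at h3
    exact (IsLocalRing.maximalIdeal.isMaximal _).ne_top h3
  have hmemJ : ∀ u : List A, (∀ x ∈ u, x ∈ I) → ∀ x ∈ u.map φ, x ∈ J := by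
    intro u hu x hx
    obtain ⟨y, hy, rfl⟩ := List.mem_map.1 hx
    rw [hJ, hφ]
    exact Ideal.mem_map_of_mem _ (hu y hy)
  -- exchange, transported to the local ring
  have key : ∀ u : List A, (∀ x ∈ u, x ∈ I) → IndepT q J [] (u.map φ) →
      ∃ l2 : List (Localization.AtPrime q),
        LCI.IsKoszulRegularSeq (Localization.AtPrime q) ((u.map φ).map ι ++ l2) ∧
        J.map ι = Ideal.ofList ((u.map φ).map ι ++ l2) := by
    intro u hu hind
    obtain ⟨g2, hg2, S2, _, _, hS2, l'', hkr, hgen⟩ :=
      exchange_kr J q hJq g' hg' hK (u.map φ) (hmemJ u hu) hind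
    obtain ⟨ψ, hcomp, hψ⟩ := exists_map_to_atPrime (S := S2) g2 q hg2
    have hmm : ((u.map φ).map (algebraMap B S2)).map ψ = (u.map φ).map ι := by
      rw [List.map_map, hι, ← hcomp]
      rfl
    refine ⟨l''.map ψ, ?_, ?_⟩
    · have h1 := hψ _ hkr
      rw [List.map_append, hmm] at h1
      exact h1
    · have h2 : J.map ι = (J.map (algebraMap B S2)).map ψ := by
        rw [Ideal.map_map, hcomp, hι]
      rw [h2, hgen, map_ofList, List.map_append, hmm]
  obtain ⟨P, hP⟩ : ∃ P : ℕ → Prop, P = fun n => ∃ u : List A, u.length = n ∧ (∀ x ∈ u, x ∈ I) ∧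
      IndepT q J [] (u.map φ) := ⟨_, rfl⟩
  have hbound : ∀ n, P n → n ≤ l0.length := by
    intro n hn
    rw [hP] at hn
    obtain ⟨u, rfl, hu, hind⟩ := hn
    obtain ⟨l2, hkr, hgen⟩ := key u hu hind
    have h1 := koszul_change_generators l0 _ (hJl0.symm.trans hgen) (hJl0 ▸ hJne) hl0
    have h2 := h1.2.1 hkr
    simp only [List.length_append, List.length_map] at h2
    omega
  have hP0 : P 0 := by
    rw [hP]
    exact ⟨[], rfl, by simp, trivial⟩
  obtain ⟨n, hn⟩ : ∃ n, n = Nat.findGreatest P l0.length := ⟨_, rfl⟩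
  have hPn : P n := hn ▸ Nat.findGreatest_spec (Nat.zero_le _) hP0
  have hPn' := hPn
  rw [hP] at hPn'
  obtain ⟨u, hulen, hu, hind⟩ := hPn'
  have hmax : ∀ x ∈ I, ∃ s, s ∉ q ∧ s * φ x ∈ Ideal.ofList (u.map φ) ⊔ q * J := by
    intro x hx
    by_contra hcon
    have hind' : IndepT q J [] ((u ++ [x]).map φ) := by
      rw [List.map_append, List.map_singleton, indepT_append_singleton]
      refine ⟨hind, fun s hs => ?_⟩
      by_contra hsq
      exact hcon ⟨s, hsq, by simpa using hs⟩
    have hP' : P (n + 1) := by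
      rw [hP]
      refine ⟨u ++ [x], by simp [hulen], ?_, hind'⟩
      intro y hy
      rcases List.mem_append.1 hy with h | h
      · exact hu y h
      · rw [List.mem_singleton] at h
        exact h ▸ hx
    have hle := hbound _ hP'
    exact Nat.findGreatest_is_greatest (hn ▸ Nat.lt_succ_self n) hle hP'
  obtain ⟨l2, hkr, hgen⟩ := key u hu hind
  obtain ⟨U, hU⟩ : ∃ U : Ideal (Localization.AtPrime q), U = Ideal.ofList ((u.map φ).map ι) :=
    ⟨_, rfl⟩
  have hUJ : U ≤ J.map ι := by
    rw [hU, ← map_ofList]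
    apply Ideal.map_mono
    rw [ofList_le_iff]
    exact hmemJ u hu
  -- Nakayama
  have hJU : J.map ι ≤ U := by
    have hfgJ : (J.map ι).FG := by
      rw [hJ]
      exact (hfg.map _).map _
    refine Submodule.le_of_le_smul_of_le_jacobson_bot
      (I := IsLocalRing.maximalIdeal (Localization.AtPrime q)) hfgJ
      (IsLocalRing.maximalIdeal_le_jacobson ⊥) ?_
    rw [hJ, ← hφ, Ideal.map_map, Ideal.map_le_iff_le_comap]
    intro x hx
    obtain ⟨s, hs, hsx⟩ := hmax x hx
    have h1 : ι (s * φ x) ∈ (Ideal.ofList (u.map φ) ⊔ q * J).map ι := Ideal.mem_map_of_mem _ hsx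
    rw [Ideal.map_sup, Ideal.map_mul, map_ofList, ← hU, hqm] at h1
    have hunit : IsUnit (ι s) := by
      rw [hι]
      exact IsLocalization.map_units (Localization.AtPrime q) (⟨s, hs⟩ : q.primeCompl)
    obtain ⟨v, hv⟩ := hunit
    rw [map_mul, ← hv] at h1
    have h2 := Ideal.mul_mem_left _ (↑v⁻¹ : Localization.AtPrime q) h1
    rw [← mul_assoc, Units.inv_mul, one_mul] at h2
    have h3 : (I.map (ι.comp φ)) = J.map ι := by
      rw [hJ, ← hφ, Ideal.map_map]
    rw [Ideal.mem_comap, h3]
    exact h2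
  have hJeqU : J.map ι = U := le_antisymm hJU hUJ
  -- the extra generators are superfluous
  have hl2 : l2 = [] := by
    have h1 := koszul_change_generators ((u.map φ).map ι ++ l2) ((u.map φ).map ι)
      (by rw [← hgen, hJeqU, hU]) (hgen ▸ hJne) hkr
    have h2 := h1.1
    simp only [List.length_append, List.length_map] at h2
    exact List.eq_nil_of_length_eq_zero (by omega)
  rw [hl2, List.append_nil] at hkr
  have hKq : KRAt B (u.map φ) q := by
    unfold KRAt
    rw [← hι]
    exact hkr
  have hKp : KRAt A u p := by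
    rw [hφ] at hKq
    exact (krAt_iff_of_flat A B u p q).1 hKq
  -- generation near `p`
  have hloc : ∀ x ∈ I, ∃ a, a ∉ p ∧ a * x ∈ Ideal.ofList u := by
    intro x hx
    letI := Localization.AtPrime.algebraOfLiesOver p q
    haveI : Module.Flat (Localization.AtPrime p) (Localization.AtPrime q) := inferInstance
    haveI : IsLocalHom (algebraMap (Localization.AtPrime p) (Localization.AtPrime q)) :=
      Localization.isLocalHom_localRingHom p q (algebraMap A B) Ideal.LiesOver.over
    haveI : Module.FaithfullyFlat (Localization.AtPrime p) (Localization.AtPrime q) :=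
      Module.FaithfullyFlat.of_flat_of_isLocalHom
    have htower : ∀ y : A, algebraMap (Localization.AtPrime p) (Localization.AtPrime q)
        (algebraMap A (Localization.AtPrime p) y) = ι (φ y) := by
      intro y
      rw [hι, hφ, ← IsScalarTower.algebraMap_apply A (Localization.AtPrime p) (Localization.AtPrime q),
        ← IsScalarTower.algebraMap_apply A B (Localization.AtPrime q)]
    have hKmap : ((Ideal.ofList u).map (algebraMap A (Localization.AtPrime p))).map
        (algebraMap (Localization.AtPrime p) (Localization.AtPrime q)) = U := by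
      rw [hU, Ideal.map_map, ← map_ofList, ← map_ofList, Ideal.map_map]
      congr 1
      ext y
      exact htower y
    have h1 : algebraMap A (Localization.AtPrime p) x ∈
        (Ideal.ofList u).map (algebraMap A (Localization.AtPrime p)) := by
      rw [← Ideal.comap_map_eq_self_of_faithfullyFlat (B := Localization.AtPrime q)
        ((Ideal.ofList u).map (algebraMap A (Localization.AtPrime p))), Ideal.mem_comap, hKmap,
        htower, ← hJeqU]
      apply Ideal.mem_map_of_mem
      rw [hJ, hφ]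
      exact Ideal.mem_map_of_mem _ hx
    obtain ⟨m, hm, hmx⟩ := (IsLocalization.algebraMap_mem_map_algebraMap_iff p.primeCompl
      (Localization.AtPrime p) (Ideal.ofList u) x).1 h1
    exact ⟨m, hm, hmx⟩
  obtain ⟨g0, hg0, hg0I⟩ := exists_mul_mem_of_fg I (Ideal.ofList u) hfg p hloc
  refine ⟨u, g0, hg0, ⟨?_, fun x hx => ⟨1, by rw [pow_one]; exact hg0I x hx⟩⟩, hKp⟩
  rw [ofList_le_iff]
  exact hu

end Groth.Agent.Lead.LciDesc
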