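import Mathlib
import Groth.Prelude.Def_LCI2
import Groth.Agent.Lib.Lead.LciDesc3

/-!
# Faithfully flat descent of Koszul-regular ideals (lead)
-/

set_option backward.isDefEq.respectTransparency.types false
set_option synthInstance.maxHeartbeats 400000
set_option autoImplicit false
set_option linter.unusedSectionVars false
set_option linter.style.haveILetI false
set_option linter.unusedSimpArgs false
universe u
open CategoryTheory CategoryTheory.Limits TensorProduct
open Groth.Agent.Helper8.KoszulLib Groth.Agent.Helper3.KosBC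
open Groth.Agent.Lib.Helper4.KosComp1 Groth.Agent.Lib.Helper4.KosQuot1 Groth.Agent.Lib.Helper4.KosExch1
open Groth.Agent.Lib.Helper4.KosCG1 Groth.Agent.Lib.Helper4.KosQuot2 Groth.Agent.Lib.Helper4.KosQuot3
open Groth.Agent.Lib.Helper4.KosQuot4

namespace Groth.Agent.Lead.LciDesc

/-- a Koszul-regular ideal is finitely generated -/
theorem fg_of_krIdeal {B : Type u} [CommRing B] (J : Ideal B) (hJ : LCI.IsKoszulRegularIdeal J) :
    J.FG := by
  let t : Set B := {g | (J.map (algebraMap B (Localization.Away g))).FG}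
  refine Ideal.fg_of_localizationSpan t ?_ (fun g => g.2)
  by_contra hne
  obtain ⟨m, hm, hle⟩ := Ideal.exists_le_maximal _ hne
  haveI := hm.isPrime
  have htm : ∀ g ∈ t, g ∈ m := fun g hg => hle (Ideal.subset_span hg)
  by_cases hJm : J ≤ m
  · obtain ⟨g, hg, l, -, hl⟩ := hJ ⟨m, hm.isPrime⟩ hJm
    apply hg
    apply htm
    show (J.map (algebraMap B (Localization.Away g))).FG
    rw [hl]
    classical
    exact ⟨l.toFinset, by congr 1; ext x; simp⟩
  · obtain ⟨x, hxJ, hxm⟩ := SetLike.not_le_iff_exists.1 hJm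
    apply hxm
    apply htm
    show (J.map (algebraMap B (Localization.Away x))).FG
    have : J.map (algebraMap B (Localization.Away x)) = ⊤ :=
      Ideal.eq_top_of_isUnit_mem _ (Ideal.mem_map_of_mem _ hxJ)
        (IsLocalization.Away.algebraMap_isUnit x)
    rw [this]
    exact ⟨{1}, by simp⟩

theorem genAfter_map {A B : Type u} [CommRing A] [CommRing B] (φ : A →+* B) (I : Ideal A) (g0 : A)
    (f : List A) (h : GenAfter I g0 f) : GenAfter (I.map φ) (φ g0) (f.map φ) := by
  refine ⟨?_, ?_⟩
  · rw [← map_ofList]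
    exact Ideal.map_mono h.1
  · intro y hy
    refine Submodule.span_induction ?_ ?_ ?_ ?_ hy
    · rintro _ ⟨x, hx, rfl⟩
      obtain ⟨n, hn⟩ := h.2 x hx
      refine ⟨n, ?_⟩
      rw [← map_pow, ← map_mul, ← map_ofList]
      exact Ideal.mem_map_of_mem _ hn
    · exact ⟨0, by simp⟩
    · rintro x y _ _ ⟨n1, h1⟩ ⟨n2, h2⟩
      refine ⟨n1 + n2, ?_⟩
      rw [mul_add]
      refine Ideal.add_mem _ ?_ ?_
      · rw [pow_add, mul_comm (φ g0 ^ n1), mul_assoc]
        exact Ideal.mul_mem_left _ _ h1
      · rw [pow_add, mul_assoc]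
        exact Ideal.mul_mem_left _ _ h2
    · rintro c x _ ⟨n, hn⟩
      refine ⟨n, ?_⟩
      rw [smul_eq_mul, mul_left_comm]
      exact Ideal.mul_mem_left _ _ hn

theorem S9251_main (A B : Type u) [CommRing A] [CommRing B] [Algebra A B]
    [Module.FaithfullyFlat A B] (I : Ideal A)
    (h : LCI.IsKoszulRegularIdeal (Ideal.map (algebraMap A B) I)) :
    LCI.IsKoszulRegularIdeal I := by
  have hfg : I.FG := Ideal.FG.of_FG_map_of_faithfullyFlat (S := B) (fg_of_krIdeal _ h)
  rw [isKoszulRegularIdeal_iff]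
  intro p hp hIp
  haveI := hp
  obtain ⟨f, g0, hg0, hgen, hKp⟩ := exists_gens_at A B I h hfg p hIp
  -- the open set upstairs
  have hTopen := isOpen_setOf_krAt (I.map (algebraMap A B)) h (f.map (algebraMap A B))
    (algebraMap A B g0) (genAfter_map _ I g0 f hgen)
  let TA : Set (PrimeSpectrum A) := {p' | g0 ∉ p'.asIdeal ∧ KRAt A f p'.asIdeal}
  have hpre : (PrimeSpectrum.comap (algebraMap A B)) ⁻¹' TA =
      {q : PrimeSpectrum B | algebraMap A B g0 ∉ q.asIdeal ∧
        KRAt B (f.map (algebraMap A B)) q.asIdeal} := by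
    ext q
    haveI : q.asIdeal.LiesOver (q.asIdeal.comap (algebraMap A B)) := ⟨rfl⟩
    constructor
    · rintro ⟨h1, h2⟩
      exact ⟨h1, (krAt_iff_of_flat A B f (q.asIdeal.comap (algebraMap A B)) q.asIdeal).2 h2⟩
    · rintro ⟨h1, h2⟩
      exact ⟨h1, (krAt_iff_of_flat A B f (q.asIdeal.comap (algebraMap A B)) q.asIdeal).1 h2⟩
  have hquot : Topology.IsQuotientMap (PrimeSpectrum.comap (algebraMap A B)) :=
    PrimeSpectrum.isQuotientMap_of_generalizingMap
      PrimeSpectrum.comap_surjective_of_faithfullyFlat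
      (RingHom.Flat.generalizingMap_comap (RingHom.flat_algebraMap_iff.2 inferInstance))
  have hTAopen : IsOpen TA := by
    rw [← hquot.isOpen_preimage, hpre]
    exact hTopen
  have hpTA : (⟨p, hp⟩ : PrimeSpectrum A) ∈ TA := ⟨hg0, hKp⟩
  obtain ⟨_, ⟨g1, rfl⟩, hpg1, hsub⟩ :=
    PrimeSpectrum.isTopologicalBasis_basic_opens.exists_subset_of_mem_open hpTA hTAopen
  have hg1 : g1 ∉ p := hpg1
  refine ⟨g0 * g1, hp.mul_notMem hg0 hg1, Localization.Away (g0 * g1), inferInstance, inferInstance,
    inferInstance, f.map (algebraMap A (Localization.Away (g0 * g1))), ?_, ?_⟩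
  · apply kr_of_forall_krAt
    intro m hm
    haveI := hm.isPrime
    haveI : Module.Flat A (Localization.Away (g0 * g1)) :=
      IsLocalization.flat _ (Submonoid.powers (g0 * g1))
    haveI : m.LiesOver (m.comap (algebraMap A (Localization.Away (g0 * g1)))) := ⟨rfl⟩
    refine (krAt_iff_of_flat A (Localization.Away (g0 * g1)) f
      (m.comap (algebraMap A (Localization.Away (g0 * g1)))) m).2 ?_
    have hnot : g0 * g1 ∉ m.comap (algebraMap A (Localization.Away (g0 * g1))) := by
      intro hmem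
      exact hm.ne_top (Ideal.eq_top_of_isUnit_mem _ hmem
        (IsLocalization.Away.algebraMap_isUnit (g0 * g1)))
    have hg1' : g1 ∉ m.comap (algebraMap A (Localization.Away (g0 * g1))) :=
      fun hmem => hnot (Ideal.mul_mem_left _ _ hmem)
    exact (hsub (show (⟨m.comap (algebraMap A (Localization.Away (g0 * g1))),
      Ideal.comap_isPrime _ _⟩ : PrimeSpectrum A) ∈ (PrimeSpectrum.basicOpen g1 : Set _) from hg1')).2
  · exact map_eq_ofList_of_genAfter (g0 * g1) I f (hgen.mul g1)

end Groth.Agent.Lead.LciDesc
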