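import Mathlib
import Groth.Prelude.Def_LCI2
import Groth.Agent.Lib.Lead.LciComp2
import Groth.Agent.Lib.Lead.LciDesc4

/-!
# Local complete intersection ring maps form a local property of ring homomorphisms (lead)
-/

set_option backward.isDefEq.respectTransparency.types false
set_option synthInstance.maxHeartbeats 400000
set_option autoImplicit false
set_option linter.unusedSectionVars false
set_option linter.style.haveILetI false
set_option linter.unusedSimpArgs false
universe u
open CategoryTheory CategoryTheory.Limits TensorProduct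
open Groth.Agent.Helper8.KoszulLib Groth.Agent.Helper3.KosBC
open Groth.Agent.Lib.Helper4.KosComp1 Groth.Agent.Lib.Helper4.KosQuot1 Groth.Agent.Lib.Helper4.KosExch1
open Groth.Agent.Lib.Helper4.KosCG1 Groth.Agent.Lib.Helper4.KosQuot2 Groth.Agent.Lib.Helper4.KosQuot3
open Groth.Agent.Lib.Helper4.KosQuot4
open Groth.Agent.Lead.LciComp Groth.Agent.Lead.LciDesc

namespace Groth.Agent.Lead.LciLocal

/-- an ideal generated by a Koszul-regular sequence is a Koszul-regular ideal -/
theorem krIdeal_of_kr {P : Type u} [CommRing P] (l : List P) (hl : LCI.IsKoszulRegularSeq P l) :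
    LCI.IsKoszulRegularIdeal (Ideal.ofList l) := by
  rw [isKoszulRegularIdeal_iff]
  intro 𝔭 h𝔭 _
  haveI : IsLocalization.Away (1 : P) P :=
    IsLocalization.away_of_isUnit_of_bijective P isUnit_one Function.bijective_id
  refine ⟨1, fun h => h𝔭.ne_top ((Ideal.eq_top_iff_one _).2 h), P, inferInstance, inferInstance,
    inferInstance, l, hl, ?_⟩
  rw [Algebra.algebraMap_self, Ideal.map_id]

theorem kr_nil (P : Type u) [CommRing P] : LCI.IsKoszulRegularSeq P [] :=
  (Groth.Agent.Helper8.KoszulLib.koszul_regular [] (RingTheory.Sequence.IsWeaklyRegular.nil P P)).1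

theorem krIdeal_bot (P : Type u) [CommRing P] : LCI.IsKoszulRegularIdeal (⊥ : Ideal P) := by
  have := krIdeal_of_kr [] (kr_nil P)
  rwa [Ideal.ofList_nil] at this

/-- a presentation by a ring isomorphic to a polynomial ring -/
theorem isLCI_of_presentation {R S P' : Type u} [CommRing R] [CommRing S] [CommRing P']
    [Algebra R S] [Algebra R P'] (n : ℕ) (e : MvPolynomial (Fin n) R ≃ₐ[R] P')
    (φ : P' →ₐ[R] S) (hφ : Function.Surjective φ)
    (hK : LCI.IsKoszulRegularIdeal (RingHom.ker φ.toRingHom)) : LCI.IsLCI R S := by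
  have hsurj : Function.Surjective (φ.comp e.toAlgHom) := hφ.comp e.surjective
  refine ⟨Algebra.FiniteType.of_surjective (φ.comp e.toAlgHom) hsurj, n, φ.comp e.toAlgHom, hsurj,
    ?_⟩
  exact (krIdeal_ker_comp_ringEquiv (e.toRingEquiv) φ.toRingHom).2 hK

/-- the ring-hom form of `LCI.IsLCI` -/
def LciRingHom {R S : Type u} [CommRing R] [CommRing S] (f : R →+* S) : Prop :=
  @LCI.IsLCI R _ S _ f.toAlgebra

theorem lciRingHom_algebraMap {R S : Type u} [CommRing R] [CommRing S] [Algebra R S] :
    LciRingHom (algebraMap R S) ↔ LCI.IsLCI R S := by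
  unfold LciRingHom
  have : (algebraMap R S).toAlgebra = ‹Algebra R S› := Algebra.algebra_ext _ _ (fun _ => rfl)
  rw [this]

section BaseChange

attribute [local instance] Algebra.TensorProduct.rightAlgebra in
/-- flat base change of local complete intersection algebras -/
theorem isLCI_tensor_of_flat (A B A' : Type u) [CommRing A] [CommRing B] [CommRing A']
    [Algebra A B] [Algebra A A'] [Module.Flat A A'] (h : LCI.IsLCI A B) :
    LCI.IsLCI A' (A' ⊗[A] B) := by
  obtain ⟨hft, n, f, hf, hK⟩ := h
  haveI : Module.Flat (MvPolynomial (Fin n) A) (A' ⊗[A] MvPolynomial (Fin n) A) :=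
    .of_linearEquiv (Algebra.TensorProduct.commRight _ _ _).symm.toLinearEquiv
  let fT := Algebra.TensorProduct.map (AlgHom.id A' A') f
  have hfT : Function.Surjective fT := Algebra.FiniteType.baseChangeAux_surj A' hf
  have hker : (RingHom.ker f.toRingHom).map
      (algebraMap (MvPolynomial (Fin n) A) (A' ⊗[A] MvPolynomial (Fin n) A)) = RingHom.ker fT :=
    (Algebra.TensorProduct.lTensor_ker f hf).symm
  refine isLCI_of_presentation n (MvPolynomial.algebraTensorAlgEquiv A A').symm fT hfT ?_
  have := krIdeal_map_of_flat _ hK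
    (R' := A' ⊗[A] MvPolynomial (Fin n) A)
  rw [hker] at this
  exact this

/-- flat base change of local complete intersection algebras, pushout form -/
theorem isLCI_of_isPushout_of_flat (A A' B B' : Type u) [CommRing A] [CommRing B] [CommRing A']
    [CommRing B'] [Algebra A B] [Algebra A A'] [Algebra A B'] [Algebra A' B'] [Algebra B B']
    [IsScalarTower A A' B'] [IsScalarTower A B B'] [Algebra.IsPushout A A' B B']
    [Module.Flat A A'] (h : LCI.IsLCI A B) : LCI.IsLCI A' B' :=
  isLCI_of_algEquiv (Algebra.IsPushout.equiv A A' B B') (isLCI_tensor_of_flat A B A' h)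

end BaseChange

theorem lciRingHom_comp {R S T : Type u} [CommRing R] [CommRing S] [CommRing T] (f : R →+* S)
    (g : S →+* T) (hf : LciRingHom f) (hg : LciRingHom g) : LciRingHom (g.comp f) := by
  letI := f.toAlgebra
  letI := g.toAlgebra
  letI := (g.comp f).toAlgebra
  haveI : IsScalarTower R S T := IsScalarTower.of_algebraMap_eq (fun _ => rfl)
  exact isLCI_comp R S T hf hg

theorem lciRingHom_stableUnderComposition : RingHom.StableUnderComposition @LciRingHom :=
  fun _ _ _ _ _ _ f g hf hg => lciRingHom_comp f g hf hg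

/-- surjections with Koszul-regular kernel are lci -/
theorem lciRingHom_of_surjective {R S : Type u} [CommRing R] [CommRing S] (f : R →+* S)
    (hf : Function.Surjective f) (hK : LCI.IsKoszulRegularIdeal (RingHom.ker f)) :
    LciRingHom f := by
  letI := f.toAlgebra
  let φ : MvPolynomial (Fin 0) R →ₐ[R] S :=
    (Algebra.ofId R S).comp (MvPolynomial.isEmptyAlgEquiv R (Fin 0)).toAlgHom
  have hφ : Function.Surjective φ := by
    intro s
    obtain ⟨r, rfl⟩ := hf s
    exact ⟨MvPolynomial.C r, by simp [φ]; rfl⟩
  refine ⟨Algebra.FiniteType.of_surjective φ hφ, 0, φ, hφ, ?_⟩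
  have : RingHom.ker φ.toRingHom =
      (RingHom.ker f).comap (MvPolynomial.isEmptyAlgEquiv R (Fin 0)).toRingEquiv := by
    ext x
    rfl
  rw [this]
  exact (krIdeal_ker_comp_ringEquiv (MvPolynomial.isEmptyAlgEquiv R (Fin 0)).toRingEquiv f).2 hK

theorem lciRingHom_of_bijective {R S : Type u} [CommRing R] [CommRing S] (f : R →+* S)
    (hf : Function.Bijective f) : LciRingHom f := by
  refine lciRingHom_of_surjective f hf.2 ?_
  rw [(RingHom.injective_iff_ker_eq_bot f).1 hf.1]
  exact krIdeal_bot R

theorem lciRingHom_respectsIso : RingHom.RespectsIso @LciRingHom :=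
  lciRingHom_stableUnderComposition.respectsIso
    (fun e => lciRingHom_of_bijective e.toRingHom e.bijective)

section Away

open Polynomial

/-- localization away from an element is a local complete intersection -/
theorem isLCI_of_isLocalizationAway {R S : Type u} [CommRing R] [CommRing S] [Algebra R S] (r : R)
    [IsLocalization.Away r S] : LCI.IsLCI R S := by
  let eS : AdjoinRoot (C r * X - 1 : R[X]) ≃ₐ[R] S :=
    (Localization.awayEquivAdjoin r).symm.trans
      (IsLocalization.algEquiv (Submonoid.powers r) _ _)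
  let φ : R[X] →ₐ[R] S := eS.toAlgHom.comp (AdjoinRoot.mkₐ (C r * X - 1 : R[X]))
  have hφ : Function.Surjective φ := eS.surjective.comp AdjoinRoot.mk_surjective
  refine isLCI_of_presentation 1 (MvPolynomial.uniqueAlgEquiv R (Fin 1)) φ hφ ?_
  have hker : RingHom.ker φ.toRingHom = Ideal.ofList [C r * X - 1] := by
    rw [Ideal.ofList_singleton]
    ext x
    rw [RingHom.mem_ker]
    show eS (AdjoinRoot.mk _ x) = 0 ↔ _
    rw [EmbeddingLike.map_eq_zero_iff, ← RingHom.mem_ker]
    show x ∈ RingHom.ker (Ideal.Quotient.mk _) ↔ _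
    rw [Ideal.mk_ker]
  rw [hker]
  exact krIdeal_of_kr _ (kr_singleton_of_isRegular _ (isRegular_C_mul_X_sub_one r))

end Away

theorem lciRingHom_holdsForLocalizationAway : RingHom.HoldsForLocalizationAway @LciRingHom := by
  intro R S _ _ _ r _
  rw [lciRingHom_algebraMap]
  exact isLCI_of_isLocalizationAway r

theorem lciRingHom_localizationAwayPreserves :
    RingHom.LocalizationAwayPreserves @LciRingHom := by
  intro R S _ _ f r R' S' _ _ _ _ _ _ hf
  algebraize [f, IsLocalization.Away.map R' S' f r,
    (IsLocalization.Away.map R' S' f r).comp (algebraMap R R')]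
  haveI : IsScalarTower R S S' := IsScalarTower.of_algebraMap_eq'
    (IsLocalization.map_comp _)
  haveI : IsLocalization (Algebra.algebraMapSubmonoid S (Submonoid.powers r)) S' := by
    rw [Algebra.algebraMapSubmonoid, Submonoid.map_powers]
    infer_instance
  haveI : Algebra.IsPushout R R' S S' :=
    (Algebra.isPushout_of_isLocalization (Submonoid.powers r) R' S S').symm
  haveI : Module.Flat R R' := IsLocalization.flat R' (Submonoid.powers r)
  exact isLCI_of_isPushout_of_flat R R' S S' hf

theorem lciRingHom_ofLocalizationSpanTarget :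
    RingHom.OfLocalizationSpanTarget @LciRingHom := by
  rw [RingHom.ofLocalizationSpanTarget_iff_finite]
  intro R S _ _ f T' hT' h
  letI algA : Algebra R S := f.toAlgebra
  refine S9253_main R S T'.card (fun j => ((T'.equivFin.symm j : T') : S)) ?_ ?_
  · rw [← hT']
    congr 1
    ext y
    constructor
    · rintro ⟨j, rfl⟩
      exact (T'.equivFin.symm j).2
    · intro hy
      exact ⟨T'.equivFin ⟨y, hy⟩, by simp⟩
  · intro j
    have h1 := h (T'.equivFin.symm j)
    unfold LciRingHom at h1
    have : ((algebraMap S (Localization.Away ((T'.equivFin.symm j : T') : S))).comp f).toAlgebra =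
        (inferInstance : Algebra R (Localization.Away ((T'.equivFin.symm j : T') : S))) :=
      Algebra.algebra_ext _ _ (fun _ => rfl)
    rw [this] at h1
    exact h1

theorem lciRingHom_stableUnderCompositionWithLocalizationAwayTarget :
    RingHom.StableUnderCompositionWithLocalizationAwayTarget @LciRingHom := by
  intro R S T _ _ _ _ s _ f hf
  exact lciRingHom_comp f (algebraMap S T) hf (lciRingHom_holdsForLocalizationAway T s)

theorem lciRingHom_propertyIsLocal : RingHom.PropertyIsLocal @LciRingHom where
  localizationAwayPreserves := lciRingHom_localizationAwayPreserves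
  ofLocalizationSpanTarget := lciRingHom_ofLocalizationSpanTarget
  ofLocalizationSpan := lciRingHom_ofLocalizationSpanTarget.ofLocalizationSpan
    (fun _ S _ _ _ _ _ r _ f hf =>
      lciRingHom_comp (algebraMap _ S) f (lciRingHom_holdsForLocalizationAway S r) hf)
  StableUnderCompositionWithLocalizationAwayTarget :=
    lciRingHom_stableUnderCompositionWithLocalizationAwayTarget

section Descent

attribute [local instance] Algebra.TensorProduct.rightAlgebra in
/-- faithfully flat descent of local complete intersection algebras -/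
theorem isLCI_of_tensor_of_faithfullyFlat (R T S : Type u) [CommRing R] [CommRing T] [CommRing S]
    [Algebra R T] [Algebra R S] [Module.FaithfullyFlat R T] (h : LCI.IsLCI T (T ⊗[R] S)) :
    LCI.IsLCI R S := by
  obtain ⟨hft, m, α, hα, hKα⟩ := h
  haveI := hft
  have hftS : Algebra.FiniteType R S := .of_finiteType_tensorProduct_of_faithfullyFlat T
  obtain ⟨n, f, hf⟩ := Algebra.FiniteType.iff_quotient_mvPolynomial''.1 hftS
  refine ⟨hftS, n, f, hf, ?_⟩
  haveI : Module.FaithfullyFlat (MvPolynomial (Fin n) R) (T ⊗[R] MvPolynomial (Fin n) R) :=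
    .of_linearEquiv _ _ (Algebra.TensorProduct.commRight _ _ _).symm.toLinearEquiv
  let fT := Algebra.TensorProduct.map (AlgHom.id T T) f
  have hfT : Function.Surjective fT := Algebra.FiniteType.baseChangeAux_surj T hf
  have hker : (RingHom.ker f.toRingHom).map
      (algebraMap (MvPolynomial (Fin n) R) (T ⊗[R] MvPolynomial (Fin n) R)) = RingHom.ker fT :=
    (Algebra.TensorProduct.lTensor_ker f hf).symm
  refine S9251_main (MvPolynomial (Fin n) R) (T ⊗[R] MvPolynomial (Fin n) R) _ ?_
  rw [hker]
  let e : MvPolynomial (Fin n) T ≃ₐ[T] T ⊗[R] MvPolynomial (Fin n) R :=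
    (MvPolynomial.algebraTensorAlgEquiv R T).symm
  let β : MvPolynomial (Fin n) T →ₐ[T] T ⊗[R] S := fT.comp e.toAlgHom
  have hβ : Function.Surjective β := hfT.comp e.surjective
  have hKβ := S9269_main T (T ⊗[R] S) m n α hα β hβ hKα
  exact (krIdeal_ker_comp_ringEquiv e.toRingEquiv fT.toRingHom).1 hKβ

end Descent

theorem lciRingHom_codescendsAlong_faithfullyFlat :
    RingHom.CodescendsAlong @LciRingHom RingHom.FaithfullyFlat := by
  refine .mk _ lciRingHom_respectsIso fun R S T _ _ _ _ _ h h' ↦ ?_
  rw [lciRingHom_algebraMap] at h' ⊢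
  rw [RingHom.faithfullyFlat_algebraMap_iff] at h
  exact isLCI_of_tensor_of_faithfullyFlat R S T h'

end Groth.Agent.Lead.LciLocal
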