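import Mathlib
import Groth.Prelude.Def_LCI2
import Groth.Agent.Lib.Lead.LciLocal1

/-!
# fpqc descent of ring-hom-local properties without stability under base change (lead)
-/

set_option backward.isDefEq.respectTransparency.types false
set_option synthInstance.maxHeartbeats 400000
set_option autoImplicit false
set_option linter.unusedSectionVars false
set_option linter.style.haveILetI false
set_option linter.unusedSimpArgs false
universe u
open CategoryTheory CategoryTheory.Limits TensorProduct AlgebraicGeometry MorphismProperty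

namespace Groth.Agent.Lead.LciLocal

section General

variable (P P' : MorphismProperty Scheme.{u})

/-- a Zariski-local (at the target) property is stable under base change along local
isomorphisms -/
theorem pullback_fst_of_isLocalIso [IsZariskiLocalAtTarget P] {T X W : Scheme.{u}} (q : T ⟶ X)
    [IsLocalIso q] (h : W ⟶ X) (hP : P h) : P (pullback.fst q h) := by
  refine IsZariskiLocalAtTarget.of_forall_exists_morphismRestrict (fun t => ?_)
  obtain ⟨U, htU, hU⟩ := IsLocalIso.exists_isOpenImmersion (f := q) t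
  refine ⟨U, htU, ?_⟩
  have h1 := (isPullback_morphismRestrict (pullback.fst q h) U)
  have h2 : IsPullback (pullback.fst q h) (pullback.snd q h) q h := IsPullback.of_hasPullback q h
  have h3 := h1.flip.paste_horiz h2.flip
  exact IsZariskiLocalAtTarget.of_isPullback (iY := U.ι ≫ q) h3 hP

variable (Q Q' : ∀ {R S : Type u} [CommRing R] [CommRing S], (R →+* S) → Prop)

variable [P'.IsStableUnderBaseChange] [P'.IsStableUnderComposition]
variable
  (H₁ : (@IsLocalIso ⊓ @Surjective : MorphismProperty Scheme) ≤ P')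
  (H₂ : ∀ {R S : CommRingCat.{u}} {f : R ⟶ S}, P' (Spec.map f) → Q' f.hom)

include H₁ in
theorem descendsAlong_inf_quasiCompact' [IsZariskiLocalAtTarget P]
    (H : ∀ {R S : CommRingCat.{u}} {Y : Scheme.{u}} (φ : R ⟶ S) (g : Y ⟶ Spec R),
      P' (Spec.map φ) → P (pullback.fst (Spec.map φ) g) → P g) :
    P.DescendsAlong (P' ⊓ @QuasiCompact) := by
  apply IsZariskiLocalAtTarget.descendsAlong
  intro R X Y f g hf h
  wlog hX : ∃ T, X = Spec T generalizing X
  · have _ : CompactSpace X := by simpa [← quasiCompact_iff_compactSpace f] using hf.2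
    obtain ⟨Y, p, hsurj, hP', hY⟩ := X.exists_hom_isAffine_of_isZariskiLocalAtSource @IsLocalIso
    refine this (f := (Y.isoSpec.inv ≫ p) ≫ f) ?_ ?_ ⟨_, rfl⟩
    · rw [Category.assoc, (P' ⊓ @QuasiCompact).cancel_left_of_respectsIso]
      exact ⟨P'.comp_mem _ _ (H₁ _ ⟨hP', hsurj⟩) hf.1, inferInstance⟩
    · rw [← pullbackRightPullbackFstIso_inv_fst f g _, P.cancel_left_of_respectsIso]
      haveI : IsLocalIso (Y.isoSpec.inv ≫ p) :=
        (MorphismProperty.cancel_left_of_respectsIso @IsLocalIso Y.isoSpec.inv p).2 hP'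
      exact pullback_fst_of_isLocalIso P _ _ h
  obtain ⟨T, rfl⟩ := hX
  obtain ⟨φ, rfl⟩ := Spec.map_surjective f
  exact H φ g hf.1 h

include H₁ H₂ in
theorem descendsAlong' [HasRingHomProperty P Q]
    (hQQ' : RingHom.CodescendsAlong Q Q') :
    P.DescendsAlong (P' ⊓ @QuasiCompact) := by
  apply descendsAlong_inf_quasiCompact' _ _ H₁
  introv h hf
  wlog hY : ∃ S, Y = Spec S generalizing Y
  · rw [IsZariskiLocalAtSource.iff_of_openCover (P := P) Y.affineCover]
    intro i
    have heq : pullback.fst (Spec.map φ) (Y.affineCover.f i ≫ g) =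
        pullback.map _ _ _ _ (𝟙 _) (Y.affineCover.f i) (𝟙 _) (by simp) (by simp) ≫
          pullback.fst (Spec.map φ) g := (pullback.lift_fst _ _ _).symm
    exact this _ (heq ▸ AlgebraicGeometry.IsZariskiLocalAtSource.comp hf _) ⟨_, rfl⟩
  obtain ⟨S, rfl⟩ := hY
  apply of_pullback_fst_Spec_of_codescendsAlong _ _ hQQ' H₂ _ h hf
  simp [HasRingHomProperty.Spec_iff (P := P)]

end General

theorem descendsAlong_flat' {P : MorphismProperty Scheme.{u}}
    {Q : ∀ {R S : Type u} [CommRing R] [CommRing S], (R →+* S) → Prop}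
    [HasRingHomProperty P Q] (h : RingHom.CodescendsAlong Q RingHom.FaithfullyFlat) :
    P.DescendsAlong (@Surjective ⊓ @Flat ⊓ @QuasiCompact) := by
  refine descendsAlong' _ _ _ _ ?_ ?_ h
  · rw [inf_comm]
    gcongr
    exact IsLocalIso.le_of_isZariskiLocalAtSource @Flat
  · intro R S f ⟨hf₁, hf₂⟩
    rw [RingHom.FaithfullyFlat.iff_flat_and_comap_surjective]
    refine ⟨?_, (Spec.map f).surjective⟩
    rwa [HasRingHomProperty.Spec_iff (P := @Flat)] at hf₂

end Groth.Agent.Lead.LciLocal
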