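import Mathlib
import Groth.Prelude.Def_LCI2
import Groth.Agent.Lib.Lead.LciLocal2

/-!
# chart-lci morphisms of schemes: a local property, and its fpqc descent (lead)
-/

set_option backward.isDefEq.respectTransparency.types false
set_option synthInstance.maxHeartbeats 400000
set_option autoImplicit false
set_option linter.unusedSectionVars false
set_option linter.style.haveILetI false
set_option linter.unusedSimpArgs false
universe u
open CategoryTheory CategoryTheory.Limits TensorProduct AlgebraicGeometry MorphismProperty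

namespace Groth.Agent.Lead.LciLocal

/-- the morphism property of schemes: affine-locally a local complete intersection ring map -/
def LciMor : MorphismProperty Scheme.{u} := affineLocally @LciRingHom

instance : HasRingHomProperty @LciMor @LciRingHom where
  isLocal_ringHomProperty := lciRingHom_propertyIsLocal
  eq_affineLocally' := rfl

theorem lciMor_iff {X Y : Scheme.{u}} (f : X ⟶ Y) :
    LciMor f ↔ ∀ (U : X.Opens) (V : Y.Opens) (_ : IsAffineOpen U) (_ : IsAffineOpen V)
      (hUV : U ≤ f ⁻¹ᵁ V),
      letI := (f.appLE V U hUV).hom.toAlgebra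
      LCI.IsLCI Γ(Y, V) Γ(X, U) := by
  rw [HasRingHomProperty.iff_appLE (P := @LciMor)]
  constructor
  · intro h U V hU hV hUV
    exact h ⟨V, hV⟩ ⟨U, hU⟩ hUV
  · intro h V U e
    exact h U.1 V.1 U.2 V.2 e

instance lciMor_descendsAlong :
    (@LciMor).DescendsAlong (@Surjective ⊓ @Flat ⊓ @QuasiCompact) :=
  descendsAlong_flat' lciRingHom_codescendsAlong_faithfullyFlat

theorem S1492_main {X S X' S' : Scheme.{u}} (f : X ⟶ S) (f' : X' ⟶ S') (g' : X' ⟶ X) (g : S' ⟶ S)
    [Flat g] [Surjective g] [QuasiCompact g] (hc : IsPullback g' f' f g)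
    (hf' : (∀ (U : X'.Opens) (V : S'.Opens) (hU : IsAffineOpen U) (hV : IsAffineOpen V)
      (hUV : U ≤ f' ⁻¹ᵁ V),
        letI := (f'.appLE V U hUV).hom.toAlgebra
        LCI.IsLCI Γ(S', V) Γ(X', U))) :
    (∀ (U : X.Opens) (V : S.Opens) (hU : IsAffineOpen U) (hV : IsAffineOpen V) (hUV : U ≤ f ⁻¹ᵁ V),
        letI := (f.appLE V U hUV).hom.toAlgebra
        LCI.IsLCI Γ(S, V) Γ(X, U)) := by
  rw [← lciMor_iff] at hf' ⊢
  exact MorphismProperty.of_isPullback_of_descendsAlong (P := @LciMor)
    (Q := @Surjective ⊓ @Flat ⊓ @QuasiCompact) hc.flip ⟨⟨inferInstance, inferInstance⟩, inferInstance⟩ hf'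

end Groth.Agent.Lead.LciLocal
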