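import Mathlib
import Groth.Prelude.Def_LCI2
import Groth.Agent.Lib.Lead.LciLocal3

/-!
# Smooth ring maps are local complete intersections (lead)
-/

set_option backward.isDefEq.respectTransparency.types false
set_option synthInstance.maxHeartbeats 400000
set_option autoImplicit false
set_option linter.unusedSectionVars false
set_option linter.style.haveILetI false
set_option linter.unusedSimpArgs false
universe u
open CategoryTheory CategoryTheory.Limits TensorProduct AlgebraicGeometry
open Groth.Agent.Lib.Helper4.KosQuot4 Groth.Agent.Lead.LciComp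

namespace Groth.Agent.Lead.LciLocal

open Polynomial in
/-- `R[X]/(f)` for monic `f` is a local complete intersection -/
theorem isLCI_adjoinRoot_of_monic {R : Type u} [CommRing R] (f : R[X]) (hf : f.Monic) :
    LCI.IsLCI R (AdjoinRoot f) := by
  refine isLCI_of_presentation 1 (MvPolynomial.uniqueAlgEquiv R (Fin 1)) (AdjoinRoot.mkₐ f)
    AdjoinRoot.mk_surjective ?_
  have hker : RingHom.ker (AdjoinRoot.mkₐ f).toRingHom = Ideal.ofList [f] := by
    rw [Ideal.ofList_singleton]
    show RingHom.ker (Ideal.Quotient.mk _) = _
    rw [Ideal.mk_ker]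
  rw [hker]
  exact krIdeal_of_kr _ (kr_singleton_of_isRegular _ hf.isRegular)

/-- polynomial algebras are local complete intersections -/
theorem isLCI_mvPolynomial (R : Type u) [CommRing R] (n : ℕ) :
    LCI.IsLCI R (MvPolynomial (Fin n) R) := by
  refine isLCI_of_presentation n AlgEquiv.refl (AlgHom.id R _) Function.surjective_id ?_
  have : RingHom.ker (AlgHom.id R (MvPolynomial (Fin n) R)).toRingHom = ⊥ := by
    ext x
    simp [RingHom.mem_ker]
  rw [this]
  exact krIdeal_bot _

/-- standard étale algebras are local complete intersections -/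
theorem isLCI_of_isStandardEtale (R S : Type u) [CommRing R] [CommRing S] [Algebra R S]
    [Algebra.IsStandardEtale R S] : LCI.IsLCI R S := by
  let P : StandardEtalePresentation R S :=
    Algebra.IsStandardEtale.nonempty_standardEtalePresentation.some
  let e : S ≃ₐ[R] Localization.Away (AdjoinRoot.mk P.f P.g) :=
    P.equivRing.trans P.P.equivAwayAdjoinRoot
  have h1 : LCI.IsLCI R (AdjoinRoot P.f) := isLCI_adjoinRoot_of_monic P.f P.monic_f
  have h2 : LCI.IsLCI (AdjoinRoot P.f) (Localization.Away (AdjoinRoot.mk P.f P.g)) :=
    isLCI_of_isLocalizationAway (AdjoinRoot.mk P.f P.g)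
  exact isLCI_of_algEquiv e.symm (isLCI_comp R (AdjoinRoot P.f) _ h1 h2)

/-- smooth algebras are local complete intersections -/
theorem isLCI_of_smooth (R S : Type u) [CommRing R] [CommRing S] [Algebra R S]
    [Algebra.Smooth R S] : LCI.IsLCI R S := by
  rw [← lciRingHom_algebraMap]
  let T : Set S := {g | LciRingHom ((algebraMap S (Localization.Away g)).comp (algebraMap R S))}
  refine lciRingHom_ofLocalizationSpanTarget (algebraMap R S) T ?_ (fun r => r.2)
  by_contra hne
  obtain ⟨m, hm, hTm⟩ := Ideal.exists_le_maximal _ hne
  haveI := hm.isPrime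
  obtain ⟨f, hfm, n, alg, htower, hstd⟩ :=
    Algebra.IsSmoothAt.exists_isStandardEtale_mvPolynomial (R := R) (S := S) (p := m)
  apply hfm
  apply hTm
  apply Ideal.subset_span
  show LciRingHom ((algebraMap S (Localization.Away f)).comp (algebraMap R S))
  rw [← IsScalarTower.algebraMap_eq R S (Localization.Away f), lciRingHom_algebraMap]
  exact isLCI_comp R (MvPolynomial (Fin n) R) (Localization.Away f) (isLCI_mvPolynomial R n)
    (isLCI_of_isStandardEtale _ _)

theorem lciRingHom_of_smooth {R S : Type u} [CommRing R] [CommRing S] (f : R →+* S)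
    (hf : f.Smooth) : LciRingHom f := by
  algebraize [f]
  exact isLCI_of_smooth R S

end Groth.Agent.Lead.LciLocal
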