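import Mathlib
import Groth.Prelude.Def_LCI2
import Groth.Prelude.Def_RegImm
import Groth.Agent.Lib.Lead.LciSmooth1
import Groth.Agent.Lib.Helper4.RegSpread2

/-!
# Koszul morphisms (factorisation form) are chart-lci (lead)
-/

set_option backward.isDefEq.respectTransparency.types false
set_option synthInstance.maxHeartbeats 400000
set_option autoImplicit false
set_option linter.unusedSectionVars false
set_option linter.style.haveILetI false
set_option linter.unusedSimpArgs false
universe u
open CategoryTheory CategoryTheory.Limits TensorProduct AlgebraicGeometry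

namespace Groth.Agent.Lead.LciLocal

theorem lciRingHom_containsIdentities : RingHom.ContainsIdentities @LciRingHom :=
  fun R _ => lciRingHom_of_bijective (RingHom.id R) Function.bijective_id

instance lciMor_isMultiplicative : (@LciMor.{u}).IsMultiplicative :=
  HasRingHomProperty.isMultiplicative lciRingHom_stableUnderComposition
    lciRingHom_containsIdentities

theorem lciRingHom_stableUnderCompositionWithLocalizationAwaySource :
    RingHom.StableUnderCompositionWithLocalizationAwaySource @LciRingHom :=
  fun _ S _ _ _ _ _ r _ f hf =>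
    lciRingHom_comp (algebraMap _ S) f (lciRingHom_holdsForLocalizationAway S r) hf

/-- smooth morphisms are chart-lci -/
theorem lciMor_of_smooth {X Y : Scheme.{u}} (f : X ⟶ Y) [Smooth f] : LciMor f := by
  rw [HasRingHomProperty.iff_appLE (P := @LciMor)]
  intro U V e
  exact lciRingHom_of_smooth _ (HasRingHomProperty.appLE (P := @Smooth) f inferInstance U V e)

/-- Koszul-regular immersions are chart-lci -/
theorem lciMor_of_koszulRegularImmersion {Z P : Scheme.{u}} (i : Z ⟶ P)
    (hi : RegImm.IsRegularImmersion .koszul i) : LciMor i := by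
  rw [HasRingHomProperty.iff_exists_appLE (P := @LciMor)
    lciRingHom_stableUnderCompositionWithLocalizationAwaySource]
  intro z
  obtain ⟨U, hzU, hcl, rs, hrs, hker⟩ := hi.2 z
  haveI := hcl
  obtain ⟨haff, hsurj⟩ :=
    Groth.Agent.Lib.Helper4.RegSpread2.affine_surjective_of_isClosedImmersion_restrict i U.1 U.2
  refine ⟨U, ⟨i ⁻¹ᵁ U.1, haff⟩, hzU, le_rfl, ?_⟩
  rw [Scheme.Hom.appLE_eq_app]
  refine lciRingHom_of_surjective _ hsurj ?_
  rw [hker]
  exact krIdeal_of_kr rs hrs

/-- a morphism which is Koszul at every point (factorisation form) is chart-lci -/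
theorem lciMor_of_forall_isKoszulAt {X S : Scheme.{u}} (f : X ⟶ S)
    (h : ∀ x : X, Synt.IsKoszulAt f x) : LciMor f := by
  choose U P i π hxU hft hi hπ hfac using h
  rw [IsZariskiLocalAtSource.iff_of_iSup_eq_top (P := @LciMor) U
    (top_le_iff.mp fun x _ => TopologicalSpace.Opens.mem_iSup.2 ⟨x, hxU x⟩)]
  intro x
  rw [← hfac x]
  haveI := hπ x
  exact MorphismProperty.comp_mem _ _ _ (lciMor_of_koszulRegularImmersion _ (hi x))
    (lciMor_of_smooth _)

end Groth.Agent.Lead.LciLocal
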