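import Mathlib
import Groth.Prelude.Def_LCI2
import Groth.Prelude.Def_RegImm
import Groth.Agent.Lib.Lead.LciSmooth2
import Groth.Agent.Lib.Helper4.RegSpread1

/-!
# chart-lci morphisms are Koszul at every point (factorisation form) (lead)
-/

set_option backward.isDefEq.respectTransparency.types false
set_option synthInstance.maxHeartbeats 400000
set_option autoImplicit false
set_option linter.unusedSectionVars false
set_option linter.style.haveILetI false
set_option linter.unusedSimpArgs false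
universe u
open CategoryTheory CategoryTheory.Limits TensorProduct AlgebraicGeometry
open Groth.Agent.Lib.Helper4.KosQuot2 Groth.Agent.Lib.Helper4.KosQuot3 Groth.Agent.Helper3.KosBC

namespace Groth.Agent.Lead.LciLocal

/-- a closed immersion into an affine scheme whose kernel on global sections is a Koszul-regular
ideal is a Koszul-regular immersion -/
theorem isRegularImmersion_koszul_of_krIdeal {Z P : Scheme.{u}} [IsAffine P] (i : Z ⟶ P)
    [IsClosedImmersion i]
    (hK : LCI.IsKoszulRegularIdeal (RingHom.ker (i.app ⊤).hom)) :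
    RegImm.IsRegularImmersion .koszul i := by
  refine ⟨inferInstance, fun z => ?_⟩
  have hU : IsAffineOpen (⊤ : P.Opens) := isAffineOpen_top P
  have hz : i z ∈ (⊤ : P.Opens) := trivial
  have haff : IsAffineOpen (i ⁻¹ᵁ (⊤ : P.Opens)) := hU.preimage i
  have hle := Groth.Agent.Lib.Helper4.RegSpread1.ker_app_le_primeIdealOf i z ⊤ hU hz haff
  obtain ⟨g, hg, S, _, _, hS, l, hl, hJ⟩ := (isKoszulRegularIdeal_iff _).1 hK
    (hU.primeIdealOf ⟨i z, hz⟩).asIdeal inferInstance hle
  have hzW : i z ∈ P.basicOpen g := by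
    rw [Scheme.mem_basicOpen _ _ _ hz]
    let _ := TopCat.Presheaf.algebra_section_stalk P.presheaf (⟨i z, hz⟩ : (⊤ : P.Opens))
    have hlocX := hU.isLocalization_stalk ⟨i z, hz⟩
    exact (IsLocalization.AtPrime.isUnit_to_map_iff (P.presheaf.stalk (i z))
      (hU.primeIdealOf ⟨i z, hz⟩).asIdeal g).mpr hg
  haveI hloc := hU.isLocalization_basicOpen g
  let e : S ≃ₐ[Γ(P, ⊤)] Γ(P, P.basicOpen g) := IsLocalization.algEquiv (Submonoid.powers g) S _
  refine ⟨⟨P.basicOpen g, hU.basicOpen g⟩, hzW, inferInstance, l.map e.toRingEquiv,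
    isKoszulRegularSeq_of_ringEquiv e.toRingEquiv l hl, ?_⟩
  have h1 := i.ker.map_ideal_basicOpen ⟨⊤, hU⟩ g
  rw [Scheme.Hom.ker_apply, Scheme.Hom.ker_apply] at h1
  show RingHom.ker (i.app (P.basicOpen g)).hom = _
  have h2 : Ideal.ofList (l.map e.toRingEquiv) =
      (Ideal.ofList l).map (e.toRingEquiv : S →+* Γ(P, P.basicOpen g)) :=
    (map_ofList (e.toRingEquiv : S →+* Γ(P, P.basicOpen g)) l).symm
  rw [h2, ← hJ, Ideal.map_map]
  refine Eq.trans (b := (RingHom.ker (i.app ⊤).hom).map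
    (P.presheaf.map (homOfLE (P.basicOpen_le g)).op).hom) ?_ ?_
  · exact h1.symm
  · congr 1
    ext x
    exact (e.commutes x).symm

theorem locallyOfFiniteType_of_lciMor {X S : Scheme.{u}} (f : X ⟶ S) (h : LciMor f) :
    LocallyOfFiniteType f := by
  rw [HasRingHomProperty.iff_appLE (P := @LocallyOfFiniteType)]
  intro U V e
  exact ((HasRingHomProperty.iff_appLE (P := @LciMor)).1 h U V e).1

/-- a chart-lci morphism is Koszul at every point (factorisation form) -/
theorem isKoszulAt_of_lciMor {X S : Scheme.{u}} (f : X ⟶ S) (h : LciMor f) (x : X) :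
    Synt.IsKoszulAt f x := by
  obtain ⟨V, hV, hfxV⟩ : ∃ V : S.Opens, IsAffineOpen V ∧ f x ∈ V := by
    obtain ⟨V, hV, hfxV, -⟩ := TopologicalSpace.Opens.isBasis_iff_nbhd.mp S.isBasis_affineOpens
      (TopologicalSpace.Opens.mem_top (f x))
    exact ⟨V, hV, hfxV⟩
  obtain ⟨U, hU, hxU, e⟩ : ∃ U : X.Opens, IsAffineOpen U ∧ x ∈ U ∧ U ≤ f ⁻¹ᵁ V := by
    obtain ⟨U, hU, hxU, e⟩ := TopologicalSpace.Opens.isBasis_iff_nbhd.mp X.isBasis_affineOpens
      (show x ∈ f ⁻¹ᵁ V from hfxV)
    exact ⟨U, hU, hxU, e⟩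
  have hφ := (HasRingHomProperty.iff_appLE (P := @LciMor)).1 h ⟨V, hV⟩ ⟨U, hU⟩ e
  letI := (f.appLE V U e).hom.toAlgebra
  obtain ⟨hft, n, α, hα, hK⟩ := hφ
  let R := CommRingCat.of (MvPolynomial (Fin n) Γ(S, V))
  let αc : R ⟶ Γ(X, U) := CommRingCat.ofHom α.toRingHom
  let cc : Γ(S, V) ⟶ R := CommRingCat.ofHom MvPolynomial.C
  have hcα : cc ≫ αc = f.appLE V U e := by
    ext a
    exact α.commutes a
  let i : (U : Scheme.{u}) ⟶ Spec R := hU.isoSpec.hom ≫ Spec.map αc
  let π : Spec R ⟶ S := Spec.map cc ≫ hV.fromSpec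
  haveI : IsClosedImmersion (Spec.map αc) := IsClosedImmersion.spec_of_surjective αc hα
  haveI : IsClosedImmersion i := inferInstance
  refine ⟨U, Spec R, i, π, hxU, ?_, ?_, ?_, ?_⟩
  · haveI := locallyOfFiniteType_of_lciMor f h
    infer_instance
  · apply isRegularImmersion_koszul_of_krIdeal
    show LCI.IsKoszulRegularIdeal (RingHom.ker
      ((Spec.map αc).app ⊤ ≫ hU.isoSpec.hom.app ((Spec.map αc) ⁻¹ᵁ ⊤)).hom)
    rw [Groth.Agent.Lib.Helper4.RegSpread1.ker_comp_iso]
    have h2 : (Spec.map αc).appTop =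
        (Scheme.ΓSpecIso R).hom ≫ αc ≫ (Scheme.ΓSpecIso Γ(X, U)).inv := by
      have := Scheme.ΓSpecIso_naturality αc
      rw [← Category.assoc, ← this, Category.assoc, Iso.hom_inv_id, Category.comp_id]
    show LCI.IsKoszulRegularIdeal (RingHom.ker (Spec.map αc).appTop.hom)
    rw [h2]
    show LCI.IsKoszulRegularIdeal (RingHom.ker
      (((Scheme.ΓSpecIso R).hom ≫ αc) ≫ (Scheme.ΓSpecIso Γ(X, U)).inv).hom)
    rw [Groth.Agent.Lib.Helper4.RegSpread1.ker_comp_iso]
    exact krIdeal_comap_ringEquiv (Scheme.ΓSpecIso R).commRingCatIsoToRingEquiv _ hK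
  · haveI : Smooth (Spec.map cc) := by
      rw [HasRingHomProperty.Spec_iff (P := @Smooth)]
      show (algebraMap Γ(S, V) (MvPolynomial (Fin n) Γ(S, V))).Smooth
      rw [RingHom.smooth_algebraMap]
      exact ⟨inferInstance, inferInstance⟩
    infer_instance
  · show (hU.isoSpec.hom ≫ Spec.map αc) ≫ Spec.map cc ≫ hV.fromSpec = U.ι ≫ f
    rw [Category.assoc, ← Category.assoc (Spec.map αc), ← Spec.map_comp, hcα,
      IsAffineOpen.SpecMap_appLE_fromSpec f hV hU e, ← Category.assoc,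
      IsAffineOpen.isoSpec_hom_fromSpec]

theorem forall_isKoszulAt_iff_lciMor {X S : Scheme.{u}} (f : X ⟶ S) :
    (∀ x : X, Synt.IsKoszulAt f x) ↔ LciMor f :=
  ⟨lciMor_of_forall_isKoszulAt f, isKoszulAt_of_lciMor f⟩

end Groth.Agent.Lead.LciLocal
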