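import Mathlib
import Groth.Prelude.Def_LCI2
import Groth.Agent.Lib.Lead.LciKos2
import Groth.Agent.Lib.Lead.SecReg1

/-!
# Cancelling a smooth map from a local complete intersection (lead)
-/

set_option backward.isDefEq.respectTransparency.types false
set_option synthInstance.maxHeartbeats 400000
set_option autoImplicit false
set_option linter.unusedSectionVars false
set_option linter.style.haveILetI false
set_option linter.unusedSimpArgs false
universe u
open CategoryTheory CategoryTheory.Limits TensorProduct AlgebraicGeometry
open Groth.Agent.Lib.Helper4.KosQuot2 Groth.Agent.Lib.Helper4.KosQuot3 Groth.Agent.Helper3.KosBC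
open Groth.Agent.Lead.SecReg Groth.Agent.Lead.LciComp

namespace Groth.Agent.Lead.LciLocal

/-- a retraction of a standard smooth ring map is a local complete intersection -/
theorem lciRingHom_of_retraction {A B : Type u} [CommRing A] [CommRing B] (f : A →+* B)
    (hf : f.IsStandardSmooth) (τ : B →+* A) (hτ : τ.comp f = RingHom.id A) : LciRingHom τ := by
  have hsurj : Function.Surjective τ := fun a => ⟨f a, RingHom.congr_fun hτ a⟩
  refine lciRingHom_of_surjective τ hsurj ?_
  rw [isKoszulRegularIdeal_iff]
  intro 𝔮 h𝔮 hle
  by_cases hA : Nontrivial A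
  · obtain ⟨g, hg, rs, H⟩ := exists_regular_of_retraction' f hf τ hτ
    obtain ⟨hreg, hker⟩ := H (Localization.Away g)
    refine ⟨g, fun hgq => ?_, Localization.Away g, inferInstance, inferInstance, inferInstance,
      rs.map (algebraMap B (Localization.Away g)),
      (Groth.Agent.Helper8.KoszulLib.koszul_regular _ hreg.toIsWeaklyRegular).1, hker⟩
    have h1 : g - 1 ∈ RingHom.ker τ := by
      rw [RingHom.mem_ker, map_sub, hg, map_one, sub_self]
    have h2 : (1 : B) ∈ 𝔮 := by
      have := Ideal.sub_mem _ hgq (hle h1)
      rwa [sub_sub_cancel] at this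
    exact h𝔮.ne_top ((Ideal.eq_top_iff_one _).2 h2)
  · exfalso
    rw [not_nontrivial_iff_subsingleton] at hA
    apply h𝔮.ne_top
    rw [Ideal.eq_top_iff_one]
    apply hle
    rw [RingHom.mem_ker]
    exact Subsingleton.elim _ _

section Cancel

attribute [local instance] Algebra.TensorProduct.rightAlgebra in
/-- if `A → B` is standard smooth and `A → C` is a local complete intersection, then any
`A`-algebra map `B → C` is a local complete intersection -/
theorem isLCI_of_comp_standardSmooth (A B C : Type u) [CommRing A] [CommRing B] [CommRing C]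
    [Algebra A B] [Algebra B C] [Algebra A C] [IsScalarTower A B C]
    [Algebra.IsStandardSmooth A B] (h : LCI.IsLCI A C) : LCI.IsLCI B C := by
  haveI : Module.Flat A B := inferInstance
  have h1 : LCI.IsLCI B (B ⊗[A] C) := isLCI_tensor_of_flat A C B h
  haveI : Algebra.IsStandardSmooth C (B ⊗[A] C) :=
    Algebra.IsStandardSmooth.of_algEquiv (Algebra.TensorProduct.commRight A C B)
  let μ : B ⊗[A] C →ₐ[B] C :=
    Algebra.TensorProduct.lift (Algebra.ofId B C) (IsScalarTower.toAlgHom A C C)
      (fun _ _ => Commute.all _ _)
  have hμ : μ.toRingHom.comp (algebraMap C (B ⊗[A] C)) = RingHom.id C := by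
    ext c
    show μ ((1 : B) ⊗ₜ[A] c) = c
    simp [μ]
  have h2 : LciRingHom μ.toRingHom :=
    lciRingHom_of_retraction (algebraMap C (B ⊗[A] C))
      (RingHom.isStandardSmooth_algebraMap.2 inferInstance) μ.toRingHom hμ
  letI : Algebra (B ⊗[A] C) C := μ.toRingHom.toAlgebra
  haveI : IsScalarTower B (B ⊗[A] C) C := IsScalarTower.of_algebraMap_eq (fun b => by
    show algebraMap B C b = μ (algebraMap B (B ⊗[A] C) b)
    rw [AlgHom.commutes])
  exact isLCI_comp B (B ⊗[A] C) C h1 h2

end Cancel

theorem lciRingHom_of_comp_standardSmooth {A B C : Type u} [CommRing A] [CommRing B] [CommRing C]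
    (f : A →+* B) (g : B →+* C) (hf : f.IsStandardSmooth) (h : LciRingHom (g.comp f)) :
    LciRingHom g := by
  algebraize [f, g, g.comp f]
  exact isLCI_of_comp_standardSmooth A B C h

end Groth.Agent.Lead.LciLocal
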