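import Mathlib
import Groth.Prelude.Def_LCI2
import Groth.Prelude.Def_RegImm
import Groth.Agent.Lib.Lead.LciCancel1

/-!
# Cancelling smooth morphisms from chart-lci morphisms; lci immersions are Koszul-regular (lead)
-/

set_option backward.isDefEq.respectTransparency.types false
set_option synthInstance.maxHeartbeats 400000
set_option autoImplicit false
set_option linter.unusedSectionVars false
set_option linter.style.haveILetI false
set_option linter.unusedSimpArgs false
universe u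
open CategoryTheory CategoryTheory.Limits TensorProduct AlgebraicGeometry
open Groth.Agent.Lib.Helper4.KosQuot2 Groth.Agent.Lib.Helper4.KosQuot3 Groth.Agent.Helper3.KosBC
open Groth.Agent.Lead.LciComp

namespace Groth.Agent.Lead.LciLocal

theorem lciMor_of_comp_smooth {X Y S : Scheme.{u}} (f : X ⟶ Y) (g : Y ⟶ S) [Smooth g]
    (h : LciMor (f ≫ g)) : LciMor f := by
  rw [HasRingHomProperty.iff_exists_appLE (P := @LciMor)
    lciRingHom_stableUnderCompositionWithLocalizationAwaySource]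
  intro x
  obtain ⟨W, hW, V, hV, hfxV, e, hstd⟩ := Smooth.exists_isStandardSmooth g (f x)
  obtain ⟨U, hU, hxU, eU⟩ : ∃ U : X.Opens, IsAffineOpen U ∧ x ∈ U ∧ U ≤ f ⁻¹ᵁ V := by
    obtain ⟨U, hU, hxU, e⟩ := TopologicalSpace.Opens.isBasis_iff_nbhd.mp X.isBasis_affineOpens
      (show x ∈ f ⁻¹ᵁ V from hfxV)
    exact ⟨U, hU, hxU, e⟩
  refine ⟨⟨V, hV⟩, ⟨U, hU⟩, hxU, eU, ?_⟩
  have h1 := (HasRingHomProperty.iff_appLE (P := @LciMor)).1 h ⟨W, hW⟩ ⟨U, hU⟩
    (eU.trans ((TopologicalSpace.Opens.map f.base).map (homOfLE e)).le)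
  rw [← Scheme.Hom.appLE_comp_appLE f g W V U e eU, CommRingCat.hom_comp] at h1
  exact lciRingHom_of_comp_standardSmooth _ _ hstd h1

theorem lciMor_comp_smooth_iff {X Y S : Scheme.{u}} (f : X ⟶ Y) (g : Y ⟶ S) [Smooth g] :
    LciMor (f ≫ g) ↔ LciMor f :=
  ⟨lciMor_of_comp_smooth f g, fun h => MorphismProperty.comp_mem _ _ _ h (lciMor_of_smooth g)⟩

theorem S9729_main {X Y S : Scheme.{u}} (f : X ⟶ Y) (g : Y ⟶ S) [Smooth g]
    (h : ∀ x : X, Synt.IsKoszulAt (f ≫ g) x) (x : X) : Synt.IsKoszulAt f x := by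
  rw [forall_isKoszulAt_iff_lciMor] at h
  exact isKoszulAt_of_lciMor f (lciMor_of_comp_smooth f g h) x

/-- a surjective local complete intersection ring map has Koszul-regular kernel -/
theorem krIdeal_ker_of_lciRingHom_of_surjective {A B : Type u} [CommRing A] [CommRing B]
    (f : A →+* B) (hf : Function.Surjective f) (h : LciRingHom f) :
    LCI.IsKoszulRegularIdeal (RingHom.ker f) := by
  letI := f.toAlgebra
  obtain ⟨hft, n, α, hα, hK⟩ := h
  let β : MvPolynomial (Fin 0) A →ₐ[A] B :=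
    (Algebra.ofId A B).comp (MvPolynomial.isEmptyAlgEquiv A (Fin 0)).toAlgHom
  have hβ : Function.Surjective β := by
    intro s
    obtain ⟨r, rfl⟩ := hf s
    exact ⟨MvPolynomial.C r, by simp [β]; rfl⟩
  have h1 := S9269_main A B n 0 α hα β hβ hK
  exact (krIdeal_ker_comp_ringEquiv (MvPolynomial.isEmptyAlgEquiv A (Fin 0)).toRingEquiv f).1 h1

/-- the kernel on a basic open of an affine chart is the extension of the kernel on the chart -/
theorem ker_app_basicOpen {X Z : Scheme.{u}} (i : Z ⟶ X) (U : X.Opens) (hU : IsAffineOpen U)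
    (hV : IsAffineOpen (i ⁻¹ᵁ U)) (g : Γ(X, U)) :
    RingHom.ker (i.app (X.basicOpen g)).hom =
      (RingHom.ker (i.app U).hom).map (X.presheaf.map (homOfLE (X.basicOpen_le g)).op).hom := by
  haveI := hU.isLocalization_basicOpen g
  haveI := hV.isLocalization_basicOpen (i.app U g)
  rw [IsAffineOpen.app_basicOpen_eq_away_map i hU hV g,
    Groth.Agent.Lib.Helper4.RegSpread1.ker_comp_iso]
  exact IsLocalization.ker_map (M := Submonoid.powers g) (S := Γ(X, X.basicOpen g))
    (T := Submonoid.powers (i.app U g)) Γ(Z, Z.basicOpen (i.app U g)) (i.app U).hom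
    (Submonoid.map_powers _ _)

/-- an immersion which is chart-lci is a Koszul-regular immersion -/
theorem isRegularImmersion_koszul_of_lciMor {Z X : Scheme.{u}} (i : Z ⟶ X) [IsImmersion i]
    (h : LciMor i) : RegImm.IsRegularImmersion .koszul i := by
  refine ⟨inferInstance, fun z => ?_⟩
  have hzW : i z ∈ i.coborderRange := subset_coborder ⟨z, rfl⟩
  obtain ⟨U, hU, hzU, hUW⟩ : ∃ U : X.Opens, IsAffineOpen U ∧ i z ∈ U ∧ U ≤ i.coborderRange := by
    obtain ⟨U, hU, hzU, hUW⟩ :=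
      TopologicalSpace.Opens.isBasis_iff_nbhd.mp (X.isBasis_affineOpens) hzW
    exact ⟨U, hU, hzU, hUW⟩
  haveI hcl := Groth.Agent.Lib.Helper4.RegSpread2.isClosedImmersion_restrict_of_le_coborder i U hUW
  obtain ⟨hV, hsurj⟩ :=
    Groth.Agent.Lib.Helper4.RegSpread2.affine_surjective_of_isClosedImmersion_restrict i U hU
  have h1 := (HasRingHomProperty.iff_appLE (P := @LciMor)).1 h ⟨U, hU⟩ ⟨i ⁻¹ᵁ U, hV⟩ le_rfl
  rw [Scheme.Hom.appLE_eq_app] at h1
  have hK := krIdeal_ker_of_lciRingHom_of_surjective _ hsurj h1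
  have hle := Groth.Agent.Lib.Helper4.RegSpread1.ker_app_le_primeIdealOf i z U hU hzU hV
  obtain ⟨g, hg, S, _, _, hS, l, hl, hJ⟩ := (isKoszulRegularIdeal_iff _).1 hK
    (hU.primeIdealOf ⟨i z, hzU⟩).asIdeal inferInstance hle
  have hzg : i z ∈ X.basicOpen g := by
    rw [Scheme.mem_basicOpen _ _ _ hzU]
    let _ := TopCat.Presheaf.algebra_section_stalk X.presheaf (⟨i z, hzU⟩ : U)
    have hlocX := hU.isLocalization_stalk ⟨i z, hzU⟩
    exact (IsLocalization.AtPrime.isUnit_to_map_iff (X.presheaf.stalk (i z))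
      (hU.primeIdealOf ⟨i z, hzU⟩).asIdeal g).mpr hg
  haveI hloc := hU.isLocalization_basicOpen g
  let e : S ≃ₐ[Γ(X, U)] Γ(X, X.basicOpen g) := IsLocalization.algEquiv (Submonoid.powers g) S _
  refine ⟨⟨X.basicOpen g, hU.basicOpen g⟩, hzg,
    Groth.Agent.Lib.Helper4.RegSpread2.isClosedImmersion_restrict_of_le_coborder i _
      ((X.basicOpen_le g).trans hUW),
    l.map e.toRingEquiv, isKoszulRegularSeq_of_ringEquiv e.toRingEquiv l hl, ?_⟩
  have h2 := (ker_app_basicOpen i U hU hV g).symm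
  show RingHom.ker (i.app (X.basicOpen g)).hom = _
  have h3 : Ideal.ofList (l.map e.toRingEquiv) =
      (Ideal.ofList l).map (e.toRingEquiv : S →+* Γ(X, X.basicOpen g)) :=
    (map_ofList (e.toRingEquiv : S →+* Γ(X, X.basicOpen g)) l).symm
  rw [h3, ← hJ, Ideal.map_map]
  refine Eq.trans (b := (RingHom.ker (i.app U).hom).map
    (X.presheaf.map (homOfLE (X.basicOpen_le g)).op).hom) ?_ ?_
  · exact h2.symm
  · congr 1
    ext x
    exact (e.commutes x).symm

theorem isRegularImmersion_koszul_iff_lciMor {Z X : Scheme.{u}} (i : Z ⟶ X) [IsImmersion i] :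
    RegImm.IsRegularImmersion .koszul i ↔ LciMor i :=
  ⟨lciMor_of_koszulRegularImmersion i, isRegularImmersion_koszul_of_lciMor i⟩

theorem S8656_main {X Y Z : Scheme.{u}} (f : X ⟶ Y) (hf : ∀ x : X, Synt.IsKoszulAt f x)
    (p : Z ⟶ Y) [Smooth p] (i : X ⟶ Z) [IsImmersion i] (h : i ≫ p = f) :
    RegImm.IsRegularImmersion .koszul i := by
  rw [forall_isKoszulAt_iff_lciMor, ← h] at hf
  exact isRegularImmersion_koszul_of_lciMor i (lciMor_of_comp_smooth i p hf)

theorem S8657_main {X V V' : Scheme.{u}} (i : X ⟶ V) [IsImmersion i] (j : X ⟶ V')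
    [IsImmersion j] (p : V' ⟶ V) [Smooth p] (h : j ≫ p = i) :
    RegImm.IsRegularImmersion .koszul i ↔ RegImm.IsRegularImmersion .koszul j := by
  rw [isRegularImmersion_koszul_iff_lciMor, isRegularImmersion_koszul_iff_lciMor, ← h,
    lciMor_comp_smooth_iff]

theorem S9728_main {S U P P' : Scheme.{u}} (q : U ⟶ S)
    (p : P ⟶ S) (p' : P' ⟶ S) [Smooth p] [Smooth p'] (i : U ⟶ P) (i' : U ⟶ P') [IsImmersion i]
    [IsImmersion i'] (hi : i ≫ p = q) (hi' : i' ≫ p' = q) (u : U) :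
    (∃ V : U.Opens, u ∈ V ∧ RegImm.IsRegularImmersion RegImm.Kind.koszul (V.ι ≫ i)) ↔
      (∃ V : U.Opens, u ∈ V ∧ RegImm.IsRegularImmersion RegImm.Kind.koszul (V.ι ≫ i')) := by
  have key : ∀ V : U.Opens, RegImm.IsRegularImmersion RegImm.Kind.koszul (V.ι ≫ i) ↔
      RegImm.IsRegularImmersion RegImm.Kind.koszul (V.ι ≫ i') := by
    intro V
    rw [isRegularImmersion_koszul_iff_lciMor, isRegularImmersion_koszul_iff_lciMor,
      ← lciMor_comp_smooth_iff (V.ι ≫ i) p, ← lciMor_comp_smooth_iff (V.ι ≫ i') p',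
      Category.assoc, Category.assoc, hi, hi']
  constructor
  · rintro ⟨V, hV, h⟩
    exact ⟨V, hV, (key V).1 h⟩
  · rintro ⟨V, hV, h⟩
    exact ⟨V, hV, (key V).2 h⟩

end Groth.Agent.Lead.LciLocal
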