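import Mathlib
import Groth.Prelude.Def_LCI2
import Groth.Prelude.Def_RegImm
import Groth.Agent.Lib.Lead.LciCancel2

set_option backward.isDefEq.respectTransparency.types false
set_option synthInstance.maxHeartbeats 400000
set_option autoImplicit false
universe u
open CategoryTheory CategoryTheory.Limits TensorProduct AlgebraicGeometry

namespace Groth.Agent.Lead.LciLocal

theorem S8653_main {X Y X' Y' : Scheme.{u}} (i : Y ⟶ X) [IsImmersion i]
    (g : X' ⟶ X) [Flat g] [Surjective g] [QuasiCompact g]
    (i' : Y' ⟶ X') (g' : Y' ⟶ Y) (hsq : IsPullback g' i' i g)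
    (hi' : RegImm.IsRegularImmersion .koszul i') : RegImm.IsRegularImmersion .koszul i := by
  have h1 : LciMor i' := lciMor_of_koszulRegularImmersion i' hi'
  have h2 : LciMor i := MorphismProperty.of_isPullback_of_descendsAlong (P := @LciMor)
    (Q := @Surjective ⊓ @Flat ⊓ @QuasiCompact) hsq.flip
    ⟨⟨inferInstance, inferInstance⟩, inferInstance⟩ h1
  exact isRegularImmersion_koszul_of_lciMor i h2

end Groth.Agent.Lead.LciLocal
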