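import Mathlib
import Groth.Prelude.Def_LCI2
import Groth.Agent.Lib.Lead.LciCancel3
import Groth.Agent.Lib.Helper4.RegSpread1
import Groth.Agent.Lib.Helper4.CartierSk1
import Groth.Agent.Lib.Helper8.RegularLocal5

/-!
# Finite type maps between regular rings are local complete intersections (lead)
-/

set_option backward.isDefEq.respectTransparency.types false
set_option synthInstance.maxHeartbeats 400000
set_option autoImplicit false
set_option linter.unusedSectionVars false
set_option linter.style.haveILetI false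
set_option linter.unusedSimpArgs false
universe u
open CategoryTheory CategoryTheory.Limits TensorProduct AlgebraicGeometry
open Groth.Agent.Lib.Helper4.KosQuot2 Groth.Agent.Lib.Helper4.KosQuot3

namespace Groth.Agent.Lead.LciLocal

/-- the kernel of a surjection between regular rings is a Koszul-regular ideal -/
theorem krIdeal_ker_of_isRegularRing {P B : Type u} [CommRing P] [CommRing B] [IsRegularRing P]
    [IsRegularRing B] (α : P →+* B) (hα : Function.Surjective α) :
    LCI.IsKoszulRegularIdeal (RingHom.ker α) := by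
  rw [isKoszulRegularIdeal_iff]
  intro 𝔮 h𝔮 hle
  haveI := h𝔮
  -- the prime of `B`
  let 𝔮' : Ideal B := 𝔮.map α
  have hcomap : 𝔮'.comap α = 𝔮 := by
    rw [Ideal.comap_map_of_surjective α hα]
    exact sup_eq_left.2 (by rwa [← RingHom.ker_eq_comap_bot])
  haveI h𝔮' : 𝔮'.IsPrime := Ideal.map_isPrime_of_surjective hα (by rwa [RingHom.ker_eq_comap_bot] at hle)
  let ψ : Localization.AtPrime 𝔮 →+* Localization.AtPrime 𝔮' :=
    Localization.localRingHom 𝔮 𝔮' α hcomap.symm
  have hψ : ∀ a, ψ (algebraMap P _ a) = algebraMap B _ (α a) := fun a =>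
    Localization.localRingHom_to_map 𝔮 𝔮' α hcomap.symm a
  have hψsurj : Function.Surjective ψ := by
    intro y
    obtain ⟨b, s, rfl⟩ := IsLocalization.exists_mk'_eq 𝔮'.primeCompl y
    obtain ⟨a, rfl⟩ := hα b
    obtain ⟨t, ht⟩ := hα s.1
    have htq : t ∈ 𝔮.primeCompl := by
      intro htq
      apply s.2
      rw [← ht]
      exact Ideal.mem_map_of_mem α htq
    refine ⟨IsLocalization.mk' _ a ⟨t, htq⟩, ?_⟩
    rw [IsLocalization.eq_mk'_iff_mul_eq, ← ht, ← hψ, ← map_mul, IsLocalization.mk'_spec, hψ]
  have hker : RingHom.ker ψ = (RingHom.ker α).map (algebraMap P (Localization.AtPrime 𝔮)) :=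
    Groth.Agent.Lib.Helper4.CartierSk1.ker_locMap α hα 𝔮' 𝔮 hcomap ψ hψ
  haveI : IsRegularLocalRing (Localization.AtPrime 𝔮 ⧸ RingHom.ker ψ) :=
    IsRegularLocalRing.of_ringEquiv (RingHom.quotientKerEquivOfSurjective hψsurj).symm
  obtain ⟨rs, hrs, hof⟩ := (Groth.Agent.Helper8.RLR.isRegularLocalRing_iff_of_quotient
    (Localization.AtPrime 𝔮) (RingHom.ker ψ)).mp inferInstance
  obtain ⟨r, as, hr, -, H⟩ := Groth.Agent.Lib.Helper4.RegSpread1.exists_away_regular
    (RingHom.ker α) 𝔮 (Localization.AtPrime 𝔮) rs hrs (by rw [← hker, hof])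
  obtain ⟨hreg, hgen⟩ := H (Localization.Away r)
  exact ⟨r, hr, Localization.Away r, inferInstance, inferInstance, inferInstance,
    as.map (algebraMap P (Localization.Away r)),
    (Groth.Agent.Helper8.KoszulLib.koszul_regular _ hreg.toIsWeaklyRegular).1, hgen⟩

/-- a finite type algebra over a regular ring which is itself regular is a local complete
intersection -/
theorem isLCI_of_isRegularRing (A B : Type u) [CommRing A] [CommRing B] [IsRegularRing A]
    [IsRegularRing B] [Algebra A B] [Algebra.FiniteType A B] : LCI.IsLCI A B := by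
  obtain ⟨n, f, hf⟩ := Algebra.FiniteType.iff_quotient_mvPolynomial''.1
    (inferInstance : Algebra.FiniteType A B)
  exact ⟨inferInstance, n, f, hf, krIdeal_ker_of_isRegularRing f.toRingHom hf⟩

end Groth.Agent.Lead.LciLocal
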