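import Mathlib
import Groth.Prelude.Def_LCI2
import Groth.Agent.Lib.Lead.LciReg1

set_option backward.isDefEq.respectTransparency.types false
set_option synthInstance.maxHeartbeats 400000
set_option autoImplicit false
set_option linter.unusedSectionVars false
set_option linter.style.haveILetI false
universe u
open CategoryTheory CategoryTheory.Limits TensorProduct AlgebraicGeometry

namespace Groth.Agent.Lead.LciLocal

/-- sections over affine opens of a locally Noetherian scheme with regular stalks form a regular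
ring -/
theorem isRegularRing_of_stalks {X : Scheme.{u}} [IsLocallyNoetherian X]
    (hX : ∀ x : X, IsRegularLocalRing (X.presheaf.stalk x)) (U : X.Opens) (hU : IsAffineOpen U) :
    IsRegularRing Γ(X, U) := by
  haveI : IsNoetherianRing Γ(X, U) := IsLocallyNoetherian.component_noetherian ⟨U, hU⟩
  rw [isRegularRing_iff]
  intro p hp
  let y : Spec Γ(X, U) := ⟨p, hp⟩
  have hxU : hU.fromSpec y ∈ U := by
    have h1 : hU.fromSpec y ∈ hU.fromSpec.opensRange := ⟨y, rfl⟩
    rwa [hU.opensRange_fromSpec] at h1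
  have hxy : hU.primeIdealOf ⟨hU.fromSpec y, hxU⟩ = y :=
    hU.fromSpec.isOpenEmbedding.injective (hU.fromSpec_primeIdealOf ⟨hU.fromSpec y, hxU⟩)
  let _ := TopCat.Presheaf.algebra_section_stalk X.presheaf (⟨hU.fromSpec y, hxU⟩ : U)
  have hloc := hU.isLocalization_stalk ⟨hU.fromSpec y, hxU⟩
  rw [hxy] at hloc
  haveI := hX (hU.fromSpec y)
  haveI : IsLocalization.AtPrime (X.presheaf.stalk (hU.fromSpec y)) p := hloc
  exact IsRegularLocalRing.of_ringEquiv (IsLocalization.algEquiv p.primeCompl
    (X.presheaf.stalk (hU.fromSpec y)) (Localization.AtPrime p)).toRingEquiv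

theorem S1493_main {X Y : Scheme.{u}} (f : X ⟶ Y) [LocallyOfFiniteType f] [IsLocallyNoetherian X]
    [IsLocallyNoetherian Y]
    (hX : ∀ x : X, IsRegularLocalRing ↑(X.presheaf.stalk x))
    (hY : ∀ y : Y, IsRegularLocalRing ↑(Y.presheaf.stalk y)) :
    (∀ (U : X.Opens) (V : Y.Opens) (hU : IsAffineOpen U) (hV : IsAffineOpen V)
      (hUV : U ≤ f ⁻¹ᵁ V),
        letI := (f.appLE V U hUV).hom.toAlgebra
        LCI.IsLCI Γ(Y, V) Γ(X, U)) := by
  intro U V hU hV hUV
  letI := (f.appLE V U hUV).hom.toAlgebra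
  haveI := isRegularRing_of_stalks hX U hU
  haveI := isRegularRing_of_stalks hY V hV
  haveI : Algebra.FiniteType Γ(Y, V) Γ(X, U) :=
    HasRingHomProperty.appLE (P := @LocallyOfFiniteType) f inferInstance ⟨V, hV⟩ ⟨U, hU⟩ hUV
  exact isLCI_of_isRegularRing Γ(Y, V) Γ(X, U)

end Groth.Agent.Lead.LciLocal
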