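import Mathlib
import Groth.Prelude.Def_ModSite
import Groth.Prelude.Def_CohB1
import Groth.Agent.Lib.Helper4.PullTensorIso

/-!
# Pullback commutes with tensor product for arbitrary modules on schemes (lead)

Bridge from helper4's ringed-site theorem `PullTensorIso.main` to `Scheme.Modules.pullback` and
`CohB1.tensorMod` (both identifications are definitional).
-/

set_option backward.isDefEq.respectTransparency.types false
set_option autoImplicit false
universe u
open CategoryTheory AlgebraicGeometry

namespace Groth.Agent.Lead.PullTensorAll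

theorem pull_eq {X Y : Scheme.{u}} (f : X ⟶ Y) :
    (ModSite.RMor.ofScheme f).pull = Scheme.Modules.pullback f := rfl

theorem tensorBi_eq (X : Scheme.{u}) (M N : X.Modules) :
    ((ModSite.tensorBi X.sheaf).obj M).obj N = CohB1.tensorMod M N := rfl

/-- `f^*M ⊗ f^*N ≅ f^*(M ⊗ N)` for arbitrary `O`-modules `M`, `N`. -/
theorem nonempty_tensor_pullback_iso {X Y : Scheme.{u}} (f : X ⟶ Y) (M N : Y.Modules) :
    Nonempty (CohB1.tensorMod ((Scheme.Modules.pullback f).obj M)
        ((Scheme.Modules.pullback f).obj N) ≅
      (Scheme.Modules.pullback f).obj (CohB1.tensorMod M N)) :=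
  Groth.Agent.Lib.Helper4.PullTensorIso.main (ModSite.RMor.ofScheme f) M N

/-- `f^*(M ⊗ N) ≅ f^*M ⊗ f^*N` for arbitrary `O`-modules `M`, `N`. -/
theorem nonempty_pullback_tensor_iso {X Y : Scheme.{u}} (f : X ⟶ Y) (M N : Y.Modules) :
    Nonempty ((Scheme.Modules.pullback f).obj (CohB1.tensorMod M N) ≅
      CohB1.tensorMod ((Scheme.Modules.pullback f).obj M)
        ((Scheme.Modules.pullback f).obj N)) :=
  ⟨(nonempty_tensor_pullback_iso f M N).some.symm⟩

end Groth.Agent.Lead.PullTensorAll
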