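import Mathlib
import Groth.Prelude.Def_MeroDiv
import Groth.Agent.Lib.Helper4.MeroReg1
import Groth.Agent.Lib.Helper7.MeroReg

/-!
# Local equations of divisors in the sheaf of meromorphic functions (lead)
-/

set_option autoImplicit false
set_option backward.isDefEq.respectTransparency.types false
set_option synthInstance.maxHeartbeats 400000
set_option linter.style.haveILetI false
set_option linter.unusedSectionVars false
universe u

open CategoryTheory CategoryTheory.Limits AlgebraicGeometry TopologicalSpace Opposite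

namespace Groth.Agent.Lead.MeroL

section Alg

theorem not_dvd_or_not_dvd {R : Type*} [CommRing R] {α β : R} (hα : α ∈ nonZeroDivisors R)
    (h : ¬ ∃ u : Rˣ, α = β * u) : ¬ β ∣ α ∨ ¬ α ∣ β := by
  by_contra hcon
  rw [not_or, not_not, not_not] at hcon
  obtain ⟨⟨c, hc⟩, ⟨d, hd⟩⟩ := hcon
  have h1 : α * (d * c - 1) = 0 := by
    have h2 : α * (d * c) = α := by
      calc α * (d * c) = (α * d) * c := by ring
        _ = β * c := by rw [← hd]
        _ = α := hc.symm
    rw [mul_sub, h2, mul_one, sub_self]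
  have h3 : d * c = 1 := sub_eq_zero.mp (mem_nonZeroDivisors_iff_left.mp hα _ h1)
  exact h ⟨⟨c, d, by rw [mul_comm]; exact h3, h3⟩, hc⟩

end Alg

variable {X : Scheme.{u}}

/-- a fraction equals an element of the local ring iff the numerator is the denominator times
that element -/
theorem mk_eq_algebraMap_iff (x : X) (m c : X.presheaf.stalk x) (s : Mero.regStalk X x) :
    (LocalizedModule.mk m s : Mero.KStalk X x) =
        algebraMap (X.presheaf.stalk x) (Mero.KStalk X x) c ↔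
      m = (s : X.presheaf.stalk x) * c := by
  constructor
  · intro hc
    have h1 : (LocalizedModule.mk c 1 : Mero.KStalk X x) = LocalizedModule.mk m s := hc.symm
    rw [LocalizedModule.mk_eq] at h1
    obtain ⟨u, hu⟩ := h1
    have hu' : (u : X.presheaf.stalk x) * ((s : X.presheaf.stalk x) * c) =
        (u : X.presheaf.stalk x) * (1 * m) := by
      simpa [Submonoid.smul_def] using hu
    have h2 := Mero.regStalk_le_nonZeroDivisors x u.2
    rw [mem_nonZeroDivisors_iff_left] at h2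
    have h3 : (u : X.presheaf.stalk x) * ((s : X.presheaf.stalk x) * c - m) = 0 := by
      rw [mul_sub, hu', one_mul, sub_self]
    exact (sub_eq_zero.mp (h2 _ h3)).symm
  · rintro rfl
    change _ = (LocalizedModule.mk c 1 : Mero.KStalk X x)
    rw [LocalizedModule.mk_eq]
    refine ⟨1, ?_⟩
    simp [Submonoid.smul_def]

/-- the unit `α / β` of `K_{X,x}` -/
noncomputable def fracUnit (x : X) (α β : Mero.regStalk X x) : (Mero.KStalk X x)ˣ where
  val := LocalizedModule.mk (α : X.presheaf.stalk x) β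
  inv := LocalizedModule.mk (β : X.presheaf.stalk x) α
  val_inv := by
    refine LocalizedModule.mk_mul_mk.trans ?_
    exact (Mero.mk_congr (mul_comm _ _) rfl).trans (Mero.mk_self_eq_one (β * α))
  inv_val := by
    refine LocalizedModule.mk_mul_mk.trans ?_
    exact (Mero.mk_congr (mul_comm _ _) rfl).trans (Mero.mk_self_eq_one (α * β))

theorem fracUnit_val (x : X) (α β : Mero.regStalk X x) :
    ((fracUnit x α β : (Mero.KStalk X x)ˣ) : Mero.KStalk X x) =
      LocalizedModule.mk (α : X.presheaf.stalk x) β := rfl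

/-- two units of `K_{X,x}` have the same class iff they differ by a unit of the local ring -/
theorem germ_mk_eq_iff (x : X) (g h : (Mero.KStalk X x)ˣ) :
    (QuotientGroup.mk g : Mero.Germ X x) = QuotientGroup.mk h ↔
      ∃ u : (X.presheaf.stalk x)ˣ, (g : Mero.KStalk X x) =
        h * algebraMap (X.presheaf.stalk x) (Mero.KStalk X x) u := by
  rw [QuotientGroup.eq, Mero.stalkUnits, MonoidHom.mem_range]
  constructor
  · rintro ⟨u, hu⟩
    refine ⟨u⁻¹, ?_⟩
    have h1 : g = h * Units.map (algebraMap (X.presheaf.stalk x) (Mero.KStalk X x)).toMonoidHom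
        u⁻¹ := by
      rw [map_inv, hu]
      group
    exact congrArg Units.val h1
  · rintro ⟨u, hu⟩
    have h1 : g = h * Units.map (algebraMap (X.presheaf.stalk x) (Mero.KStalk X x)).toMonoidHom
        u := Units.ext hu
    refine ⟨u⁻¹, ?_⟩
    rw [h1, map_inv]
    group

theorem germ_fracUnit_eq_one_iff (x : X) (α β : Mero.regStalk X x) :
    (QuotientGroup.mk (fracUnit x α β) : Mero.Germ X x) = 1 ↔
      ∃ u : (X.presheaf.stalk x)ˣ, (α : X.presheaf.stalk x) = β * u := by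
  rw [← QuotientGroup.mk_one, germ_mk_eq_iff]
  constructor
  · rintro ⟨u, hu⟩
    refine ⟨u, ?_⟩
    rw [Units.val_one, one_mul, fracUnit_val] at hu
    exact (mk_eq_algebraMap_iff x _ _ _).mp hu
  · rintro ⟨u, hu⟩
    refine ⟨u, ?_⟩
    rw [Units.val_one, one_mul, fracUnit_val]
    exact (mk_eq_algebraMap_iff x _ _ _).mpr hu

theorem isEffectiveAt_iff [IsLocallyNoetherian X] (D : Mero.Divisor X) (x : X)
    (α β : Mero.regStalk X x) (hD : D.1 x = QuotientGroup.mk (fracUnit x α β)) :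
    Mero.IsEffectiveAt D x ↔ (β : X.presheaf.stalk x) ∣ α := by
  constructor
  · rintro ⟨a, ha⟩
    rw [hD, germ_mk_eq_iff] at ha
    obtain ⟨u, hu⟩ := ha
    rw [IsUnit.unit_spec, fracUnit_val, ← map_mul] at hu
    exact ⟨(a : X.presheaf.stalk x) * u, (mk_eq_algebraMap_iff x _ _ _).mp hu⟩
  · rintro ⟨c, hc⟩
    have hcnzd : c ∈ nonZeroDivisors (X.presheaf.stalk x) := by
      rw [mem_nonZeroDivisors_iff_left]
      intro t ht
      have hα := Mero.regStalk_le_nonZeroDivisors x α.2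
      rw [mem_nonZeroDivisors_iff_left] at hα
      apply hα
      rw [hc, mul_assoc, ht, mul_zero]
    have hcS : c ∈ Mero.regStalk X x := by
      rw [Groth.Agent.Lib.Helper4.MeroReg1.S8863_main X x]
      exact hcnzd
    refine ⟨⟨c, hcS⟩, ?_⟩
    rw [hD, germ_mk_eq_iff]
    refine ⟨1, ?_⟩
    rw [Units.val_one, map_one, mul_one, IsUnit.unit_spec, fracUnit_val]
    exact (mk_eq_algebraMap_iff x _ _ _).mpr hc

/-- **local equations**: every divisor is, on an affine open neighbourhood of any point, the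
divisor of a fraction `a / b` of regular sections -/
theorem exists_localEq (D : Mero.Divisor X) (x : X) :
    ∃ (W : X.Opens) (_ : IsAffineOpen W) (_ : x ∈ W) (a b : Mero.regSub X W),
      ∀ y : W, D.1 y.1 =
        QuotientGroup.mk (fracUnit y.1 (Mero.regGerm y a) (Mero.regGerm y b)) := by
  obtain ⟨U, hxU, f, hf⟩ := D.2 x
  obtain ⟨V₁, hxV₁, i₁, a₁, b₁, h₁⟩ := (f : Γ(Mero.kmod X, U)).2 ⟨x, hxU⟩
  obtain ⟨V₂, hxV₂, i₂, a₂, b₂, h₂⟩ :=
    ((f⁻¹ : (Γ(Mero.kmod X, U))ˣ) : Γ(Mero.kmod X, U)).2 ⟨x, hxU⟩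
  have hkey : ∀ (y : X) (hy1 : y ∈ V₁) (hy2 : y ∈ V₂),
      X.presheaf.germ V₁ y hy1 a₁ * X.presheaf.germ V₂ y hy2 a₂ =
        X.presheaf.germ V₁ y hy1 b₁.1 * X.presheaf.germ V₂ y hy2 b₂.1 := by
    intro y hy1 hy2
    have hyU : y ∈ U := i₁.le hy1
    have e1 : (f : Γ(Mero.kmod X, U)).1 ⟨y, hyU⟩ =
        LocalizedModule.mk (X.presheaf.germ V₁ y hy1 a₁) (Mero.regGerm ⟨y, hy1⟩ b₁) :=
      h₁ ⟨y, hy1⟩
    have e2 : ((f⁻¹ : (Γ(Mero.kmod X, U))ˣ) : Γ(Mero.kmod X, U)).1 ⟨y, hyU⟩ =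
        LocalizedModule.mk (X.presheaf.germ V₂ y hy2 a₂) (Mero.regGerm ⟨y, hy2⟩ b₂) :=
      h₂ ⟨y, hy2⟩
    have e3 : (f : Γ(Mero.kmod X, U)).1 ⟨y, hyU⟩ *
        ((f⁻¹ : (Γ(Mero.kmod X, U))ˣ) : Γ(Mero.kmod X, U)).1 ⟨y, hyU⟩ = 1 := by
      rw [← Mero.kmod_mul_apply, Units.mul_inv, Mero.kmod_one_apply]
    rw [e1, e2] at e3
    have e4 : (LocalizedModule.mk (X.presheaf.germ V₁ y hy1 a₁ * X.presheaf.germ V₂ y hy2 a₂)
        (Mero.regGerm ⟨y, hy1⟩ b₁ * Mero.regGerm ⟨y, hy2⟩ b₂) : Mero.KStalk X y) =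
        algebraMap (X.presheaf.stalk y) (Mero.KStalk X y) 1 := by
      rw [map_one, ← e3]
      exact LocalizedModule.mk_mul_mk.symm
    have e5 := (mk_eq_algebraMap_iff y _ _ _).mp e4
    rw [mul_one] at e5
    exact e5
  have hnzd : ∀ (y : X) (hy1 : y ∈ V₁) (hy2 : y ∈ V₂),
      X.presheaf.germ V₁ y hy1 a₁ ∈ nonZeroDivisors (X.presheaf.stalk y) := by
    intro y hy1 hy2
    rw [mem_nonZeroDivisors_iff_left]
    intro t ht
    have hb1 : X.presheaf.germ V₁ y hy1 b₁.1 ∈ nonZeroDivisors (X.presheaf.stalk y) :=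
      b₁.2 ⟨y, hy1⟩
    have hb2 : X.presheaf.germ V₂ y hy2 b₂.1 ∈ nonZeroDivisors (X.presheaf.stalk y) :=
      b₂.2 ⟨y, hy2⟩
    have hb := mul_mem hb1 hb2
    rw [mem_nonZeroDivisors_iff_left] at hb
    apply hb
    rw [← hkey y hy1 hy2, mul_right_comm, ht, zero_mul]
  obtain ⟨_, ⟨W, hW, rfl⟩, hxW, hWV⟩ := X.isBasis_affineOpens.exists_subset_of_mem_open
    (show x ∈ ((V₁ ⊓ V₂ : X.Opens) : Set X) from ⟨hxV₁, hxV₂⟩) (V₁ ⊓ V₂).2
  have hW1 : W ≤ V₁ := fun y hy => (hWV hy).1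
  have hW2 : W ≤ V₂ := fun y hy => (hWV hy).2
  refine ⟨W, hW, hxW, ⟨X.presheaf.map (homOfLE hW1).op a₁, ?_⟩,
    ⟨X.presheaf.map (homOfLE hW1).op b₁.1, Mero.regSub_res (homOfLE hW1) b₁.2⟩, ?_⟩
  · intro y
    change X.presheaf.germ W y.1 y.2 (X.presheaf.map (homOfLE hW1).op a₁) ∈ _
    rw [TopCat.Presheaf.germ_res_apply]
    exact hnzd y.1 (hW1 y.2) (hW2 y.2)
  · intro y
    have hyU : y.1 ∈ U := i₁.le (hW1 y.2)
    refine (hf ⟨y.1, hyU⟩).trans (congrArg _ (Units.ext ?_))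
    change (f : Γ(Mero.kmod X, U)).1 ⟨y.1, hyU⟩ = LocalizedModule.mk _ _
    refine (h₁ ⟨y.1, hW1 y.2⟩).trans ?_
    exact Mero.mk_congr (TopCat.Presheaf.germ_res_apply X.presheaf (homOfLE hW1) y.1 y.2 a₁).symm
      (TopCat.Presheaf.germ_res_apply X.presheaf (homOfLE hW1) y.1 y.2 b₁.1).symm

end Groth.Agent.Lead.MeroL
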