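import Mathlib
import Groth.Prelude.Def_MeroDiv
import Groth.Prelude.Def_Pic
import Groth.Agent.Lib.Lead.MeroL2
import Groth.Agent.Lib.Helper7.MeroD
import Groth.Agent.Lib.Helper1.TwForm4

/-!
# The fractional ideal of a divisor is invertible (lead)
-/

set_option autoImplicit false
set_option backward.isDefEq.respectTransparency.types false
set_option synthInstance.maxHeartbeats 400000
set_option linter.style.haveILetI false
set_option linter.unusedSectionVars false
universe u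

open CategoryTheory CategoryTheory.Limits AlgebraicGeometry TopologicalSpace Opposite

namespace Groth.Agent.Lead.MeroL

variable {X : Scheme.{u}}

/-- a meromorphic function all of whose values lie in the local rings is a function -/
theorem exists_toK_eq (V : X.Opens) (s : Γ(Mero.kmod X, V))
    (h : ∀ y : V, s.1 y ∈ (algebraMap (X.presheaf.stalk y.1) (Mero.KStalk X y.1)).range) :
    ∃ r : Γ(X, V), Mero.toK X V r = s := by
  have hloc : ∀ y : V, ∃ (N : X.Opens) (hN : N ≤ V) (_ : y.1 ∈ N) (c : Γ(X, N)),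
      ∀ z : N, s.1 ⟨z.1, hN z.2⟩ = LocalizedModule.mk (X.presheaf.germ N z.1 z.2 c) 1 := by
    intro y
    obtain ⟨W, hyW, i, a, b, hs⟩ := s.2 y
    have hsy : s.1 y = LocalizedModule.mk (X.presheaf.germ W y.1 hyW a)
        (Mero.regGerm ⟨y.1, hyW⟩ b) := hs ⟨y.1, hyW⟩
    obtain ⟨c₀, hc₀⟩ := h y
    have h1 : X.presheaf.germ W y.1 hyW a = X.presheaf.germ W y.1 hyW b.1 * c₀ := by
      refine (mk_eq_algebraMap_iff y.1 _ c₀ (Mero.regGerm ⟨y.1, hyW⟩ b)).mp ?_
      rw [← hsy]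
      exact hc₀.symm
    obtain ⟨W', hyW', c', rfl⟩ := TopCat.Presheaf.exists_germ_eq X.presheaf c₀
    have hyWW' : y.1 ∈ W ⊓ W' := ⟨hyW, hyW'⟩
    let t : Γ(X, W ⊓ W') := X.presheaf.map (homOfLE (inf_le_left : W ⊓ W' ≤ W)).op b.1 *
      X.presheaf.map (homOfLE (inf_le_right : W ⊓ W' ≤ W')).op c'
    have ht : X.presheaf.germ W y.1 hyW a = X.presheaf.germ (W ⊓ W') y.1 hyWW' t := by
      rw [h1, map_mul, TopCat.Presheaf.germ_res_apply, TopCat.Presheaf.germ_res_apply]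
    obtain ⟨N, hyN, iU, iV, hUV⟩ := TopCat.Presheaf.germ_eq X.presheaf y.1 hyW hyWW' a t ht
    refine ⟨N, iU.le.trans i.le, hyN,
      X.presheaf.map (homOfLE (iV.le.trans inf_le_right)).op c', fun z => ?_⟩
    have hzW : z.1 ∈ W := iU.le z.2
    have hsz : s.1 ⟨z.1, (iU.le.trans i.le) z.2⟩ =
        LocalizedModule.mk (X.presheaf.germ W z.1 hzW a) (Mero.regGerm ⟨z.1, hzW⟩ b) :=
      hs ⟨z.1, hzW⟩
    rw [hsz]
    have h2 : X.presheaf.germ W z.1 hzW a = X.presheaf.germ W z.1 hzW b.1 *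
        X.presheaf.germ N z.1 z.2
          (X.presheaf.map (homOfLE (iV.le.trans inf_le_right)).op c') := by
      have e1 : X.presheaf.germ W z.1 hzW a =
          X.presheaf.germ N z.1 z.2 (X.presheaf.map iU.op a) :=
        (TopCat.Presheaf.germ_res_apply X.presheaf iU z.1 z.2 a).symm
      rw [e1, hUV, TopCat.Presheaf.germ_res_apply, map_mul, TopCat.Presheaf.germ_res_apply,
        TopCat.Presheaf.germ_res_apply, TopCat.Presheaf.germ_res_apply]
    exact (mk_eq_algebraMap_iff z.1 _ _ (Mero.regGerm ⟨z.1, hzW⟩ b)).mpr h2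
  choose N hN hyN c hc using hloc
  have hcompat : TopCat.Presheaf.IsCompatible X.sheaf.1 N c := by
    intro y y'
    apply TopCat.Presheaf.section_ext X.sheaf (N y ⊓ N y')
    intro z hz
    change X.presheaf.germ (N y ⊓ N y') z hz
        (X.presheaf.map (Opens.infLELeft (N y) (N y')).op (c y)) =
      X.presheaf.germ (N y ⊓ N y') z hz
        (X.presheaf.map (Opens.infLERight (N y) (N y')).op (c y'))
    rw [TopCat.Presheaf.germ_res_apply, TopCat.Presheaf.germ_res_apply]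
    apply Mero.algebraMap_KStalk_injective z
    have e1 := hc y ⟨z, hz.1⟩
    have e2 := hc y' ⟨z, hz.2⟩
    exact e1.symm.trans e2
  have hcover : V ≤ iSup N := fun z hz => Opens.mem_iSup.mpr ⟨⟨z, hz⟩, hyN ⟨z, hz⟩⟩
  obtain ⟨r, hr, -⟩ := X.sheaf.existsUnique_gluing' N V (fun y => homOfLE (hN y)) hcover c hcompat
  refine ⟨r, Subtype.ext (funext fun z => ?_)⟩
  change LocalizedModule.mk (X.presheaf.germ V z.1 z.2 r) 1 = s.1 z
  have e1 := hc z ⟨z.1, hyN z⟩
  have e2 : X.presheaf.germ V z.1 z.2 r = X.presheaf.germ (N z) z.1 (hyN z) (c z) := by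
    rw [← hr z]
    exact (TopCat.Presheaf.germ_res_apply X.presheaf (homOfLE (hN z)) z.1 (hyN z) r).symm
  rw [e2]
  exact e1.symm

section Gen

variable (D : Mero.Divisor X) {U : X.Opens} (f : (Γ(Mero.kmod X, U))ˣ)
  (hf : ∀ y : U, D.1 y.1 = Mero.germOf f y)

theorem unit_mul_inv_apply (y : U) : (f : Γ(Mero.kmod X, U)).1 y *
    ((f⁻¹ : (Γ(Mero.kmod X, U))ˣ) : Γ(Mero.kmod X, U)).1 y = 1 := by
  rw [← Mero.kmod_mul_apply, Units.mul_inv, Mero.kmod_one_apply]

/-- the local generator `f⁻¹` of the fractional ideal of a divisor with local equation `f` -/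
noncomputable def gen : Γ(Mero.divMod D, U) :=
  ⟨((f⁻¹ : (Γ(Mero.kmod X, U))ˣ) : Γ(Mero.kmod X, U)).1,
    ⟨((f⁻¹ : (Γ(Mero.kmod X, U))ˣ) : Γ(Mero.kmod X, U)).2,
      fun y => Groth.Agent.Helper7.MeroD.divCond_inv f hf y⟩⟩

theorem gen_apply (y : U) : (gen D f hf).1 y =
    ((f⁻¹ : (Γ(Mero.kmod X, U))ˣ) : Γ(Mero.kmod X, U)).1 y := rfl

theorem smul_res_gen_apply {V : X.Opens} (h : V ≤ U) (r : Γ(X, V)) (z : V) :
    (r • Groth.Agent.Helper1.QcCech.res (Mero.divMod D) h (gen D f hf)).1 z =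
      X.presheaf.germ V z.1 z.2 r •
        ((f⁻¹ : (Γ(Mero.kmod X, U))ˣ) : Γ(Mero.kmod X, U)).1 ⟨z.1, h z.2⟩ := rfl

theorem isGen_gen : Groth.Agent.Helper1.LGen.IsGen (Mero.divMod D) U (gen D f hf) := by
  intro V h
  constructor
  · intro r r' hrr'
    apply TopCat.Presheaf.section_ext X.sheaf V
    intro z hz
    change X.presheaf.germ V z hz r = X.presheaf.germ V z hz r'
    have e := congrArg (fun t : Γ(Mero.divMod D, V) => t.1 ⟨z, hz⟩) hrr'
    simp only [smul_res_gen_apply] at e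
    have e2 := congrArg (fun w => w * (f : Γ(Mero.kmod X, U)).1 ⟨z, h hz⟩) e
    simp only [smul_mul_assoc] at e2
    rw [mul_comm _ ((f : Γ(Mero.kmod X, U)).1 ⟨z, h hz⟩), unit_mul_inv_apply,
      Algebra.smul_def, Algebra.smul_def, mul_one, mul_one] at e2
    exact Mero.algebraMap_KStalk_injective z e2
  · intro t
    let tk : Γ(Mero.kmod X, V) := ⟨t.1, t.2.1⟩
    let fV : Γ(Mero.kmod X, V) := (Mero.kmod X).presheaf.map (homOfLE h).op f.1
    have hs : ∀ z : V, (tk * fV).1 z = t.1 z * (f : Γ(Mero.kmod X, U)).1 ⟨z.1, h z.2⟩ :=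
      fun z => rfl
    obtain ⟨r, hr⟩ := exists_toK_eq V (tk * fV) (fun z => by
      rw [hs z]
      exact t.2.2 z (Units.map (Mero.evalK X U ⟨z.1, h z.2⟩).toMonoidHom f) (hf ⟨z.1, h z.2⟩))
    refine ⟨r, Subtype.ext (funext fun z => ?_)⟩
    rw [smul_res_gen_apply]
    have e1 : (Mero.toK X V r).1 z = t.1 z * (f : Γ(Mero.kmod X, U)).1 ⟨z.1, h z.2⟩ := by
      rw [hr, hs z]
    rw [Mero.toK_apply] at e1
    rw [Algebra.smul_def]
    change (LocalizedModule.mk (X.presheaf.germ V z.1 z.2 r) 1 : Mero.KStalk X z.1) * _ = _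
    rw [e1, mul_assoc, unit_mul_inv_apply, mul_one]

end Gen

theorem S5096_main (X : Scheme.{u}) (D : Mero.Divisor X) :
    PicF.IsInvertible (Mero.divMod D) := by
  apply Groth.Agent.Helper1.TwForm.isInvertible_of_locGen
  intro x
  obtain ⟨U, hxU, f, hf⟩ := D.2 x
  exact ⟨U, gen D f hf, hxU, isGen_gen D f hf⟩

end Groth.Agent.Lead.MeroL
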