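import Mathlib
import Groth.Prelude.Def_MeroDiv
import Groth.Prelude.Def_Pic
import Groth.Agent.Lib.Lead.MeroL2
import Groth.Agent.Lib.Lead.MeroL4
import Groth.Agent.Lib.Helper1.TwForm4
import Groth.Agent.Lib.Helper1.FtLocal

/-!
# Invertible fractional ideals in the sheaf of meromorphic functions (lead)
-/

set_option autoImplicit false
set_option backward.isDefEq.respectTransparency.types false
set_option synthInstance.maxHeartbeats 400000
set_option linter.style.haveILetI false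
set_option linter.unusedSectionVars false
universe u

open CategoryTheory CategoryTheory.Limits AlgebraicGeometry TopologicalSpace Opposite

namespace Groth.Agent.Lead.MeroL

open Groth.Agent.Helper1

variable {X : Scheme.{u}}

/-- restriction of meromorphic functions -/
noncomputable abbrev resK {U V : X.Opens} (h : V ≤ U) (t : Γ(Mero.kmod X, U)) : Γ(Mero.kmod X, V) :=
  (Mero.kmod X).presheaf.map (homOfLE h).op t

theorem resK_apply {U V : X.Opens} (h : V ≤ U) (t : Γ(Mero.kmod X, U)) (z : V) :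
    (resK h t).1 z = t.1 ⟨z.1, h z.2⟩ := rfl

theorem resK_mul {U V : X.Opens} (h : V ≤ U) (s t : Γ(Mero.kmod X, U)) :
    resK h (s * t) = resK h s * resK h t := rfl

theorem resK_one {U V : X.Opens} (h : V ≤ U) : resK h (1 : Γ(Mero.kmod X, U)) = 1 := rfl

theorem resK_resK {U V W : X.Opens} (h : V ≤ U) (h' : W ≤ V) (t : Γ(Mero.kmod X, U)) :
    resK h' (resK h t) = resK (h'.trans h) t := rfl

theorem resK_self {U : X.Opens} (t : Γ(Mero.kmod X, U)) : resK (le_refl U) t = t := rfl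

theorem smul_eq_toK_mul {V : X.Opens} (r : Γ(X, V)) (t : Γ(Mero.kmod X, V)) :
    r • t = Mero.toK X V r * t := by
  apply Subtype.ext
  funext z
  change X.presheaf.germ V z.1 z.2 r • t.1 z = _
  rw [Algebra.smul_def]
  rfl

theorem toK_injective (V : X.Opens) : Function.Injective (Mero.toK X V) := by
  intro r r' h
  apply TopCat.Presheaf.section_ext X.sheaf V
  intro z hz
  change X.presheaf.germ V z hz r = X.presheaf.germ V z hz r'
  have e := congrArg (fun t : Γ(Mero.kmod X, V) => t.1 ⟨z, hz⟩) h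
  exact Mero.algebraMap_KStalk_injective z e

theorem resK_unit_mul_inv {U V : X.Opens} (h : V ≤ U) (f : (Γ(Mero.kmod X, U))ˣ) :
    resK h (f : Γ(Mero.kmod X, U)) * resK h ((f⁻¹ : (Γ(Mero.kmod X, U))ˣ) : Γ(Mero.kmod X, U)) = 1 := by
  rw [← resK_mul, Units.mul_inv, resK_one]

section Key

variable {J : X.Modules} (ι : J ⟶ Mero.kmod X)

theorem app_smul_res {W : X.Opens} (a : Γ(J, W)) {V : X.Opens} (h : V ≤ W) (r : Γ(X, V)) :
    ι.app V (r • QcCech.res J h a) = Mero.toK X V r * resK h (ι.app W a) := by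
  rw [Scheme.Modules.Hom.app_smul, QcExt.app_res, smul_eq_toK_mul]
  rfl

theorem range_eq (V : X.Opens) : Set.range ⇑(ι.val.app (op V)) = Set.range ⇑(ι.app V) := rfl

end Key

theorem isInvertible_of_local_units {J : X.Modules} (ι : J ⟶ Mero.kmod X) [Mono ι]
    (h : ∀ x : X, ∃ (U : X.Opens) (_ : x ∈ U) (f : (Γ(Mero.kmod X, U))ˣ),
      ∀ (V : X.Opens) (hV : V ≤ U), Set.range ⇑(ι.app V) =
        {t : Γ(Mero.kmod X, V) | ∃ r : Γ(X, V),
          t = Mero.toK X V r * resK hV (f : Γ(Mero.kmod X, U))}) :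
    PicF.IsInvertible J := by
  apply TwForm.isInvertible_of_locGen
  intro x
  obtain ⟨U, hxU, f, hf⟩ := h x
  have h1 : (f : Γ(Mero.kmod X, U)) ∈ Set.range ⇑(ι.app U) := by
    rw [hf U le_rfl]
    exact ⟨1, by rw [map_one, one_mul]; rfl⟩
  obtain ⟨a, ha⟩ := h1
  refine ⟨U, a, hxU, fun V hV => ⟨?_, ?_⟩⟩
  · intro r r' hrr'
    have e : ι.app V (r • QcCech.res J hV a) = ι.app V (r' • QcCech.res J hV a) :=
      congrArg (ι.app V) hrr'
    rw [app_smul_res, app_smul_res, ha] at e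
    have e2 := congrArg
      (fun w => w * resK hV ((f⁻¹ : (Γ(Mero.kmod X, U))ˣ) : Γ(Mero.kmod X, U))) e
    simp only [mul_assoc, resK_unit_mul_inv, mul_one] at e2
    exact toK_injective V e2
  · intro m
    have hm : ι.app V m ∈ Set.range ⇑(ι.app V) := ⟨m, rfl⟩
    rw [hf V hV] at hm
    obtain ⟨r, hr⟩ := hm
    refine ⟨r, ?_⟩
    change r • QcCech.res J hV a = m
    apply FtLocal.app_injective_of_mono ι V
    rw [app_smul_res, ha]
    exact hr.symm

theorem local_units_of_isInvertible {J : X.Modules} (ι : J ⟶ Mero.kmod X) [Mono ι]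
    (hJ : PicF.IsInvertible J) (x : X) :
    ∃ (U : X.Opens) (_ : x ∈ U) (f : (Γ(Mero.kmod X, U))ˣ),
      ∀ (V : X.Opens) (hV : V ≤ U), Set.range ⇑(ι.app V) =
        {t : Γ(Mero.kmod X, V) | ∃ r : Γ(X, V),
          t = Mero.toK X V r * resK hV (f : Γ(Mero.kmod X, U))} := by
  obtain ⟨W, a, hxW, hgen⟩ := LGen.exists_isGen hJ x
  obtain ⟨V₁, hxV₁, i, α, β, hαβ⟩ := (ι.app W a : Γ(Mero.kmod X, W)).2 ⟨x, hxW⟩
  have hV₁W : V₁ ≤ W := i.le
  have hφz : ∀ z : V₁, (ι.app W a : Γ(Mero.kmod X, W)).1 ⟨z.1, hV₁W z.2⟩ =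
      LocalizedModule.mk (X.presheaf.germ V₁ z.1 z.2 α) (Mero.regGerm z β) := fun z => hαβ z
  have hα : α ∈ Mero.regSub X V₁ := by
    intro z
    change X.presheaf.germ V₁ z.1 z.2 α ∈ nonZeroDivisors (X.presheaf.stalk z.1)
    rw [mem_nonZeroDivisors_iff_left]
    intro τ hτ
    obtain ⟨V₂, hzV₂, t, rfl⟩ := TopCat.Presheaf.exists_germ_eq X.presheaf τ
    have hz12 : z.1 ∈ V₁ ⊓ V₂ := ⟨z.2, hzV₂⟩
    let p : Γ(X, V₁ ⊓ V₂) := X.presheaf.map (homOfLE (inf_le_left : V₁ ⊓ V₂ ≤ V₁)).op α *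
      X.presheaf.map (homOfLE (inf_le_right : V₁ ⊓ V₂ ≤ V₂)).op t
    have hp : X.presheaf.germ (V₁ ⊓ V₂) z.1 hz12 p = X.presheaf.germ (V₁ ⊓ V₂) z.1 hz12 0 := by
      rw [map_zero, map_mul, TopCat.Presheaf.germ_res_apply, TopCat.Presheaf.germ_res_apply]
      exact hτ
    obtain ⟨V₃, hzV₃, j₁, j₂, hj⟩ := TopCat.Presheaf.germ_eq X.presheaf z.1 hz12 hz12 p 0 hp
    have hV₃1 : V₃ ≤ V₁ := j₁.le.trans inf_le_left
    have hV₃2 : V₃ ≤ V₂ := j₁.le.trans inf_le_right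
    have hrα : ∀ w : V₃, X.presheaf.germ V₃ w.1 w.2 (X.presheaf.map (homOfLE hV₃2).op t) *
        X.presheaf.germ V₁ w.1 (hV₃1 w.2) α = 0 := by
      intro w
      have e1 : X.presheaf.germ V₃ w.1 w.2 (X.presheaf.map j₁.op p) = 0 := by
        rw [hj, map_zero, map_zero]
      rw [TopCat.Presheaf.germ_res_apply, map_mul, TopCat.Presheaf.germ_res_apply,
        TopCat.Presheaf.germ_res_apply] at e1
      rw [TopCat.Presheaf.germ_res_apply, mul_comm]
      exact e1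
    have hzero : ι.app V₃ (X.presheaf.map (homOfLE hV₃2).op t •
        QcCech.res J (hV₃1.trans hV₁W) a) = 0 := by
      rw [app_smul_res]
      apply Subtype.ext
      funext w
      change (LocalizedModule.mk (X.presheaf.germ V₃ w.1 w.2
        (X.presheaf.map (homOfLE hV₃2).op t)) 1 : Mero.KStalk X w.1) *
          (ι.app W a : Γ(Mero.kmod X, W)).1 ⟨w.1, hV₁W (hV₃1 w.2)⟩ = 0
      rw [hφz ⟨w.1, hV₃1 w.2⟩]
      refine LocalizedModule.mk_mul_mk.trans ?_
      rw [hrα w]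
      exact LocalizedModule.zero_mk _
    have hm0 : X.presheaf.map (homOfLE hV₃2).op t • QcCech.res J (hV₃1.trans hV₁W) a =
        (0 : Γ(X, V₃)) • QcCech.res J (hV₃1.trans hV₁W) a := by
      rw [zero_smul]
      apply FtLocal.app_injective_of_mono ι V₃
      rw [hzero, map_zero]
    have hr0 : X.presheaf.map (homOfLE hV₃2).op t = 0 := (hgen V₃ (hV₃1.trans hV₁W)).1 hm0
    have h5 : X.presheaf.germ V₂ z.1 hzV₂ t =
        X.presheaf.germ V₃ z.1 hzV₃ (X.presheaf.map (homOfLE hV₃2).op t) :=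
      (TopCat.Presheaf.germ_res_apply X.presheaf (homOfLE hV₃2) z.1 hzV₃ t).symm
    rw [h5, hr0, map_zero]
  let g : Γ(Mero.kmod X, V₁) :=
    ⟨fun z => LocalizedModule.mk (X.presheaf.germ V₁ z.1 z.2 β.1) (Mero.regGerm z ⟨α, hα⟩),
      fun z => ⟨V₁, z.2, 𝟙 _, β.1, ⟨α, hα⟩, fun w => rfl⟩⟩
  have hfg : resK hV₁W (ι.app W a) * g = 1 := by
    apply Subtype.ext
    funext z
    change (ι.app W a : Γ(Mero.kmod X, W)).1 ⟨z.1, hV₁W z.2⟩ *
      LocalizedModule.mk (X.presheaf.germ V₁ z.1 z.2 β.1) (Mero.regGerm z ⟨α, hα⟩) = 1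
    rw [hφz z]
    exact (fracUnit z.1 (Mero.regGerm z ⟨α, hα⟩) (Mero.regGerm z β)).val_inv
  refine ⟨V₁, hxV₁, ⟨resK hV₁W (ι.app W a), g, hfg, by rw [mul_comm]; exact hfg⟩, fun V hV => ?_⟩
  ext t
  constructor
  · rintro ⟨m, rfl⟩
    obtain ⟨r, hr⟩ := (hgen V (hV.trans hV₁W)).2 m
    refine ⟨r, ?_⟩
    have hr' : r • QcCech.res J (hV.trans hV₁W) a = m := hr
    rw [← hr', app_smul_res]
    rfl
  · rintro ⟨r, rfl⟩
    exact ⟨r • QcCech.res J (hV.trans hV₁W) a, app_smul_res ι a _ r⟩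

theorem S5102_main (X : Scheme.{u}) (J : X.Modules) (ι : J ⟶ Mero.kmod X) [Mono ι] :
    PicF.IsInvertible J ↔ ∀ x : X, ∃ (U : X.Opens) (_ : x ∈ U) (f : (Γ(Mero.kmod X, U))ˣ),
      ∀ (V : X.Opens) (hV : V ≤ U),
        Set.range ⇑(ι.val.app (Opposite.op V)) =
          {t : Γ(Mero.kmod X, V) | ∃ r : Γ(X, V),
            t = Mero.toK X V r *
              (Mero.kmod X).presheaf.map (homOfLE hV).op (f : Γ(Mero.kmod X, U))} :=
  ⟨fun hJ x => local_units_of_isInvertible ι hJ x, fun h => isInvertible_of_local_units ι h⟩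

end Groth.Agent.Lead.MeroL
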