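import Mathlib
import Groth.Prelude.Def_CAlg
import Groth.Agent.Lib.Helper4.Hartogs1

/-!
# A criterion for a Noetherian local ring to have depth one (lead)

If `a, b` are elements of a Noetherian local ring `R` with `b` a nonzerodivisor not dividing `a`,
but dividing `a` after localization at every non-maximal prime, then `depth R = 1`.
-/

set_option autoImplicit false
set_option synthInstance.maxHeartbeats 400000
set_option linter.style.haveILetI false
set_option linter.unusedSectionVars false
universe u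

namespace Groth.Agent.Lead.MeroL

open IsLocalRing
open scoped Pointwise
open Groth.Agent.Lib.Helper4.Hartogs1

section Colon

variable {R : Type u} [CommRing R]

/-- the ideal of `r` with `b ∣ r * a` -/
def colonIdeal (a b : R) : Ideal R where
  carrier := {r | b ∣ r * a}
  add_mem' := by
    rintro r s ⟨c, hc⟩ ⟨d, hd⟩
    exact ⟨c + d, by rw [add_mul, hc, hd, mul_add]⟩
  zero_mem' := ⟨0, by rw [zero_mul, mul_zero]⟩
  smul_mem' := by
    rintro c r ⟨d, hd⟩
    exact ⟨c * d, by rw [smul_eq_mul, mul_assoc, hd, mul_left_comm]⟩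

theorem mem_colonIdeal {a b r : R} : r ∈ colonIdeal a b ↔ b ∣ r * a := Iff.rfl

theorem mul_cancel_of_mem_nonZeroDivisors {b : R} (hb : b ∈ nonZeroDivisors R) {x y : R}
    (h : b * x = b * y) : x = y := by
  have h1 : b * (x - y) = 0 := by rw [mul_sub, h, sub_self]
  exact sub_eq_zero.mp (mem_nonZeroDivisors_iff_left.mp hb _ h1)

theorem isSMulRegular_of_mem_nonZeroDivisors {b : R} (hb : b ∈ nonZeroDivisors R) :
    IsSMulRegular R b := by
  intro x y h
  exact mul_cancel_of_mem_nonZeroDivisors hb h

end Colon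

section Local

variable {R : Type u} [CommRing R] [IsLocalRing R] [IsNoetherianRing R]

theorem exists_maximalIdeal_mul_dvd (a b : R) (hab : ¬ b ∣ a)
    (hP : ∀ P : Ideal R, P.IsPrime → P ≠ maximalIdeal R → ∃ r, r ∉ P ∧ b ∣ r * a) :
    ∃ c : R, ¬ b ∣ c ∧ ∀ r ∈ maximalIdeal R, b ∣ r * c := by
  set I := colonIdeal a b with hI
  have hI1 : (1 : R) ∉ I := by
    intro h1
    rw [hI, mem_colonIdeal, one_mul] at h1
    exact hab h1
  have hItop : I ≠ ⊤ := fun h => hI1 (h ▸ Submodule.mem_top)
  have hrad : maximalIdeal R ≤ I.radical := by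
    rw [Ideal.radical_eq_sInf]
    refine le_sInf ?_
    rintro P ⟨hIP, hPprime⟩
    by_cases hPm : P = maximalIdeal R
    · rw [hPm]
    · obtain ⟨r, hrP, hrI⟩ := hP P hPprime hPm
      exact absurd (hIP hrI) hrP
  obtain ⟨n, hn⟩ := Ideal.exists_pow_le_of_le_radical_of_fg hrad
    (IsNoetherian.noetherian (maximalIdeal R))
  classical
  have hex : ∃ n, maximalIdeal R ^ n ≤ I := ⟨n, hn⟩
  have hkle : maximalIdeal R ^ (Nat.find hex) ≤ I := Nat.find_spec hex
  have hk0 : Nat.find hex ≠ 0 := by
    intro h0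
    rw [h0, pow_zero, Ideal.one_eq_top, top_le_iff] at hkle
    exact hItop hkle
  obtain ⟨j, hj⟩ := Nat.exists_eq_succ_of_ne_zero hk0
  have hjnot : ¬ maximalIdeal R ^ j ≤ I := by
    intro hle
    have := Nat.find_min' hex hle
    omega
  obtain ⟨t, htj, htI⟩ := Set.not_subset.mp hjnot
  refine ⟨t * a, htI, ?_⟩
  intro r hr
  have hrt : r * t ∈ maximalIdeal R ^ (Nat.find hex) := by
    rw [hj, pow_succ']
    exact Ideal.mul_mem_mul hr htj
  have h3 : b ∣ r * t * a := hkle hrt
  rw [mul_assoc] at h3
  exact h3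

/-- **the depth-one criterion** -/
theorem depth_eq_one_of_dvd (a b : R) (hb : b ∈ nonZeroDivisors R) (hab : ¬ b ∣ a)
    (hP : ∀ P : Ideal R, P.IsPrime → P ≠ maximalIdeal R → ∃ r, r ∉ P ∧ b ∣ r * a) :
    LocCoh.depth R R = 1 := by
  obtain ⟨c, hc, hmc⟩ := exists_maximalIdeal_mul_dvd a b hab hP
  have hbm : b ∈ maximalIdeal R := by
    by_contra hbu
    rw [mem_maximalIdeal, mem_nonunits_iff, not_not] at hbu
    exact hab hbu.dvd
  have hbreg : IsSMulRegular R b := isSMulRegular_of_mem_nonZeroDivisors hb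
  have h1 : (1 : ℕ∞) ≤ LocCoh.depth R R := by
    rw [one_le_depth_iff]
    right
    exact ⟨b, hbm, hbreg⟩
  have h2 : ¬ (2 : ℕ∞) ≤ LocCoh.depth R R := by
    rw [two_le_depth_iff]
    rintro (hs | ⟨r, hr, r', hr', hreg, hreg'⟩)
    · exact not_subsingleton R hs
    · obtain ⟨s', hs'⟩ := hmc r hr
      obtain ⟨c', hc'⟩ := hmc r' hr'
      rw [regular_quot_iff] at hreg'
      have hmem : r' • s' ∈ r • (⊤ : Submodule R R) := by
        rw [mem_smul_top_iff]
        refine ⟨c', ?_⟩
        apply mul_cancel_of_mem_nonZeroDivisors hb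
        simp only [smul_eq_mul]
        calc b * (r' * s') = r' * (b * s') := by ring
          _ = r' * (r * c) := by rw [hs']
          _ = r * (r' * c) := by ring
          _ = r * (b * c') := by rw [hc']
          _ = b * (r * c') := by ring
      have h4 := hreg' s' hmem
      rw [mem_smul_top_iff] at h4
      obtain ⟨s'', hs''⟩ := h4
      apply hc
      refine ⟨s'', ?_⟩
      apply hreg
      simp only [smul_eq_mul]
      rw [hs', hs'']
      simp only [smul_eq_mul]
      ring
  have h3 : LocCoh.depth R R < 2 := not_le.mp h2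
  have h4 : LocCoh.depth R R ≤ 1 := by
    have : (2 : ℕ∞) = 1 + 1 := by norm_num
    rw [this] at h3
    exact Order.le_of_lt_add_one h3
  exact le_antisymm h4 h1

end Local

section Chart

variable {A : Type u} [CommRing A] (p : Ideal A) [p.IsPrime]
  (R : Type u) [CommRing R] [Algebra A R] [IsLocalization.AtPrime R p]

theorem dvd_localization_iff (a b : A) :
    algebraMap A R b ∣ algebraMap A R a ↔ ∃ s, s ∉ p ∧ b ∣ s * a := by
  constructor
  · rintro ⟨c, hc⟩
    obtain ⟨⟨c₀, t⟩, rfl⟩ := IsLocalization.mk'_surjective p.primeCompl c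
    have h1 : algebraMap A R (t.1 * a) = algebraMap A R (b * c₀) := by
      rw [map_mul, hc, map_mul, mul_left_comm, IsLocalization.mk'_spec' R c₀ t]
    obtain ⟨v, hv⟩ := (IsLocalization.eq_iff_exists p.primeCompl R).mp h1
    refine ⟨v.1 * t.1, Submonoid.mul_mem _ v.2 t.2, v.1 * c₀, ?_⟩
    rw [mul_assoc, hv]
    ring
  · rintro ⟨s, hs, d, hd⟩
    have hu : IsUnit (algebraMap A R s) := IsLocalization.map_units R (⟨s, hs⟩ : p.primeCompl)
    obtain ⟨u, hu'⟩ := hu
    refine ⟨algebraMap A R d * ↑u⁻¹, ?_⟩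
    have h1 : algebraMap A R s * algebraMap A R a = algebraMap A R b * algebraMap A R d := by
      rw [← map_mul, hd, map_mul]
    rw [← hu'] at h1
    calc algebraMap A R a = ↑u⁻¹ * (↑u * algebraMap A R a) := by
          rw [← mul_assoc, Units.inv_mul, one_mul]
      _ = ↑u⁻¹ * (algebraMap A R b * algebraMap A R d) := by rw [h1]
      _ = algebraMap A R b * (algebraMap A R d * ↑u⁻¹) := by ring

variable [IsNoetherianRing A] [IsLocalRing R]

/-- **the depth-one criterion on a chart** -/
theorem depth_eq_one_of_localization (a b : A) (hb : b ∈ nonZeroDivisors A)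
    (hab : ¬ algebraMap A R b ∣ algebraMap A R a)
    (hq : ∀ q : Ideal A, q.IsPrime → q < p → ∃ s, s ∉ q ∧ b ∣ s * a) :
    LocCoh.depth R R = 1 := by
  haveI : IsNoetherianRing R := IsLocalization.isNoetherianRing p.primeCompl R inferInstance
  refine depth_eq_one_of_dvd (algebraMap A R a) (algebraMap A R b) ?_ hab ?_
  · exact IsLocalization.map_nonZeroDivisors_le p.primeCompl R ⟨b, hb, rfl⟩
  · intro P hP hPm
    haveI := hP
    have hqP : (P.comap (algebraMap A R)).IsPrime := inferInstance
    have hle : P.comap (algebraMap A R) ≤ p := by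
      have h1 : P ≤ maximalIdeal R := IsLocalRing.le_maximalIdeal hP.ne_top
      have h2 := Ideal.comap_mono (f := algebraMap A R) h1
      have h3 : Ideal.comap (algebraMap A R) (maximalIdeal R) = p :=
        IsLocalization.AtPrime.under_maximalIdeal R p
      rwa [h3] at h2
    have hne : P.comap (algebraMap A R) ≠ p := by
      intro he
      apply hPm
      have h5 : Ideal.map (algebraMap A R) (Ideal.comap (algebraMap A R) P) = P :=
        IsLocalization.map_comap p.primeCompl R P
      rw [← h5, he, IsLocalization.AtPrime.map_eq_maximalIdeal p R]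
    obtain ⟨s, hs, hsa⟩ := hq _ hqP (lt_of_le_of_ne hle hne)
    refine ⟨algebraMap A R s, fun h => hs h, ?_⟩
    rw [← map_mul]
    exact map_dvd (algebraMap A R) hsa

end Chart

end Groth.Agent.Lead.MeroL
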