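import Mathlib
import Groth.Prelude.Def_MeroDiv
import Groth.Prelude.Def_CAlg
import Groth.Agent.Lib.Lead.MeroL1
import Groth.Agent.Lib.Lead.MeroL2
import Groth.Agent.Lib.Helper4.Hartogs1

/-!
# Divisors on the spectrum of a Noetherian local ring of depth zero (lead)
-/

set_option autoImplicit false
set_option backward.isDefEq.respectTransparency.types false
set_option synthInstance.maxHeartbeats 400000
set_option linter.style.haveILetI false
set_option linter.unusedSectionVars false
universe u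

open CategoryTheory CategoryTheory.Limits AlgebraicGeometry TopologicalSpace Opposite IsLocalRing

namespace Groth.Agent.Lead.MeroL

open Groth.Agent.Lib.Helper4.Hartogs1

section Ring

theorem map_mem_nonZeroDivisors_of_ringEquiv {R S : Type*} [CommRing R] [CommRing S] (e : R ≃+* S)
    {x : R} (hx : x ∈ nonZeroDivisors R) : e x ∈ nonZeroDivisors S := by
  rw [mem_nonZeroDivisors_iff_left]
  intro s hs
  have h1 : x * e.symm s = 0 := by
    have := congrArg e.symm hs
    rwa [map_mul, RingEquiv.symm_apply_apply, map_zero] at this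
  have h2 := mem_nonZeroDivisors_iff_left.mp hx _ h1
  have := congrArg e h2
  rwa [RingEquiv.apply_symm_apply, map_zero] at this

theorem isUnit_of_mem_nonZeroDivisors_of_depth_zero {R : Type u} [CommRing R] [IsLocalRing R]
    [IsNoetherianRing R] (h0 : LocCoh.depth R R = 0) {r : R} (hr : r ∈ nonZeroDivisors R) :
    IsUnit r := by
  by_contra hu
  have hm : r ∈ maximalIdeal R := hu
  have h1 : (1 : ℕ∞) ≤ LocCoh.depth R R := by
    rw [one_le_depth_iff]
    right
    exact ⟨r, hm, isSMulRegular_of_mem_nonZeroDivisors hr⟩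
  rw [h0] at h1
  exact absurd h1 (by norm_num)

end Ring

section General

theorem exists_unit_div {X : Scheme.{u}} (r' : Γ(X, ⊤)) (hr' : r' ∈ Mero.regSub X ⊤) :
    ∃ F : (Γ(Mero.kmod X, ⊤))ˣ, ∀ x : X, (Mero.div F).1 x = 1 →
      IsUnit (X.presheaf.germ ⊤ x (Opens.mem_top x) r') := by
  let g : Γ(Mero.kmod X, ⊤) :=
    ⟨fun z => LocalizedModule.mk 1 (Mero.regGerm z ⟨r', hr'⟩),
      fun z => ⟨⊤, trivial, 𝟙 _, 1, ⟨r', hr'⟩, fun w => Mero.mk_congr (map_one _).symm rfl⟩⟩
  have hFg : Mero.toK X ⊤ r' * g = 1 := by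
    apply Subtype.ext
    funext z
    exact (fracUnit z.1 (Mero.regGerm z ⟨r', hr'⟩) 1).val_inv
  refine ⟨⟨Mero.toK X ⊤ r', g, hFg, by rw [mul_comm]; exact hFg⟩, fun x hx => ?_⟩
  have h3 : (QuotientGroup.mk (fracUnit x
      (Mero.regGerm (⟨x, Opens.mem_top x⟩ : ↥(⊤ : X.Opens)) ⟨r', hr'⟩) 1) : Mero.Germ X x) = 1 := by
    refine Eq.trans (congrArg _ (Units.ext ?_)) hx
    rfl
  obtain ⟨u, hu⟩ := (germ_fracUnit_eq_one_iff _ _ _).mp h3
  have h4 : X.presheaf.germ ⊤ x (Opens.mem_top x) r' = u := by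
    refine Eq.trans hu ?_
    rw [Submonoid.coe_one, one_mul]
  rw [h4]
  exact u.isUnit

end General

section Main

variable (A : Type u) [CommRing A] [IsNoetherianRing A] [IsLocalRing A]

theorem eq_one_of_depth_zero (h0 : LocCoh.depth A A = 0)
    (D : Mero.Divisor (Spec (CommRingCat.of A))) : D = 1 := by
  apply Subtype.ext
  funext y
  change D.1 y = 1
  obtain ⟨W, hW, hxW, a, b, hD⟩ :=
    exists_localEq D (closedPoint A : Spec (CommRingCat.of A))
  have hWtop : W = ⊤ := (IsLocalRing.closedPoint_mem_iff W).mp hxW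
  subst hWtop
  have hunit : ∀ c : Mero.regSub (Spec (CommRingCat.of A)) ⊤, IsUnit c.1 := by
    intro c
    have hc : c.1 ∈ nonZeroDivisors Γ(Spec (CommRingCat.of A), ⊤) := by
      rw [← Groth.Agent.Helper7.MeroReg.S12513_main _ ⊤ (isAffineOpen_top _)]
      exact c.2
    have h1 := isUnit_of_mem_nonZeroDivisors_of_depth_zero h0
      (map_mem_nonZeroDivisors_of_ringEquiv
        (Scheme.ΓSpecIso (CommRingCat.of A)).commRingCatIsoToRingEquiv hc)
    have h2 := h1.map (Scheme.ΓSpecIso (CommRingCat.of A)).commRingCatIsoToRingEquiv.symm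
    rwa [RingEquiv.symm_apply_apply] at h2
  have h1 : D.1 y = QuotientGroup.mk (fracUnit y
      (Mero.regGerm (⟨y, trivial⟩ : ↥(⊤ : (Spec (CommRingCat.of A)).Opens)) a)
      (Mero.regGerm (⟨y, trivial⟩ : ↥(⊤ : (Spec (CommRingCat.of A)).Opens)) b)) :=
    hD ⟨y, trivial⟩
  rw [h1, germ_fracUnit_eq_one_iff]
  obtain ⟨ua, hua⟩ := (hunit a).map ((Spec (CommRingCat.of A)).presheaf.germ ⊤ y trivial).hom
  obtain ⟨ub, hub⟩ := (hunit b).map ((Spec (CommRingCat.of A)).presheaf.germ ⊤ y trivial).hom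
  refine ⟨ub⁻¹ * ua, ?_⟩
  change ((Spec (CommRingCat.of A)).presheaf.germ ⊤ y trivial).hom a.1 =
    ((Spec (CommRingCat.of A)).presheaf.germ ⊤ y trivial).hom b.1 * _
  rw [← hub, ← hua, Units.val_mul, ← mul_assoc, Units.mul_inv, one_mul]

theorem depth_zero_of_forall_eq_one
    (h : ∀ D : Mero.Divisor (Spec (CommRingCat.of A)), D = 1) : LocCoh.depth A A = 0 := by
  by_contra hne
  have h1 : (1 : ℕ∞) ≤ LocCoh.depth A A := Order.one_le_iff_pos.mpr (pos_iff_ne_zero.mpr hne)
  rw [one_le_depth_iff] at h1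
  rcases h1 with hs | ⟨r, hrm, hreg⟩
  · exact not_subsingleton A hs
  · have hrnzd : r ∈ nonZeroDivisors A := by
      rw [mem_nonZeroDivisors_iff_left]
      intro s hs
      apply hreg
      simp only [smul_eq_mul, mul_zero]
      exact hs
    have hr'nzd : (Scheme.ΓSpecIso (CommRingCat.of A)).inv r ∈
        nonZeroDivisors Γ(Spec (CommRingCat.of A), ⊤) :=
      map_mem_nonZeroDivisors_of_ringEquiv
        (Scheme.ΓSpecIso (CommRingCat.of A)).commRingCatIsoToRingEquiv.symm hrnzd
    have hr' : (Scheme.ΓSpecIso (CommRingCat.of A)).inv r ∈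
        Mero.regSub (Spec (CommRingCat.of A)) ⊤ := by
      rw [Groth.Agent.Helper7.MeroReg.S12513_main _ ⊤ (isAffineOpen_top _)]
      exact hr'nzd
    obtain ⟨F, hF⟩ := exists_unit_div ((Scheme.ΓSpecIso (CommRingCat.of A)).inv r) hr'
    have hD := h (Mero.div F)
    have hunit := hF (closedPoint A : Spec (CommRingCat.of A)) (by rw [hD]; rfl)
    have hmem : (closedPoint A : Spec (CommRingCat.of A)) ∈
        (Spec (CommRingCat.of A)).basicOpen ((Scheme.ΓSpecIso (CommRingCat.of A)).inv r) :=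
      ((Spec (CommRingCat.of A)).mem_basicOpen ((Scheme.ΓSpecIso (CommRingCat.of A)).inv r)
        (closedPoint A : Spec (CommRingCat.of A)) (Opens.mem_top _)).mpr hunit
    rw [basicOpen_eq_of_affine] at hmem
    exact hmem hrm

theorem S5082_main : (∀ D : Mero.Divisor (Spec (CommRingCat.of A)), D = 1) ↔
    LocCoh.depth A A = 0 :=
  ⟨depth_zero_of_forall_eq_one A, fun h0 D => eq_one_of_depth_zero A h0 D⟩

end Main

end Groth.Agent.Lead.MeroL
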