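import Mathlib
import Groth.Prelude.Def_MeroDiv
import Groth.Prelude.Def_Pic
import Groth.Agent.Lib.Lead.MeroL6
import Groth.Agent.Lib.Helper7.MeroK

/-!
# Meromorphic functions on affine opens of locally Noetherian schemes (lead)
-/

set_option autoImplicit false
set_option backward.isDefEq.respectTransparency.types false
set_option synthInstance.maxHeartbeats 400000
set_option linter.style.haveILetI false
set_option linter.unusedSectionVars false
universe u

open CategoryTheory CategoryTheory.Limits AlgebraicGeometry TopologicalSpace Opposite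

namespace Groth.Agent.Lead.MeroL

variable {X : Scheme.{u}}

theorem algebraMap_mul_mk (x : X) (c m : X.presheaf.stalk x) (s : Mero.regStalk X x) :
    (LocalizedModule.mk c 1 : Mero.KStalk X x) * LocalizedModule.mk m s =
      LocalizedModule.mk (c * m) s := by
  refine LocalizedModule.mk_mul_mk.trans (Mero.mk_congr rfl ?_)
  rw [one_mul]

theorem mk_one_pow (x : X) (c : X.presheaf.stalk x) (n : ℕ) :
    (LocalizedModule.mk c 1 : Mero.KStalk X x) ^ n = LocalizedModule.mk (c ^ n) 1 := by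
  induction n with
  | zero =>
    rw [pow_zero, pow_zero]
    exact (Mero.mk_self_eq_one 1).symm
  | succ n ih =>
    rw [pow_succ, ih, pow_succ, mul_comm, algebraMap_mul_mk, mul_comm]

/-- local form of S8865 -/
theorem local_pow (U : X.Opens) (h : Γ(X, U)) (f : Γ(Mero.kmod X, U))
    (hf : ∀ y : U, y.1 ∈ X.basicOpen h → f.1 y = 0) (x : U) :
    ∃ (W : X.Opens) (hWU : W ≤ U) (_ : x.1 ∈ W) (n : ℕ), ∀ y : W, ∀ m : ℕ, n ≤ m →
      (Mero.toK X U h ^ m * f).1 ⟨y.1, hWU y.2⟩ = 0 := by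
  obtain ⟨V, hxV, i, a, b, hab⟩ := f.2 x
  obtain ⟨W, hWaff, hxW, hWV⟩ :=
    (Opens.isBasis_iff_nbhd.mp X.isBasis_affineOpens) hxV
  have hW : IsAffineOpen W := hWaff
  have hWU : W ≤ U := hWV.trans i.le
  let a' : Γ(X, W) := X.presheaf.map (homOfLE hWV).op a
  let h' : Γ(X, W) := X.presheaf.map (homOfLE hWU).op h
  have hres : a' |_ (X.basicOpen h') = 0 := by
    apply TopCat.Presheaf.section_ext X.sheaf (X.basicOpen h')
    intro y hy
    have hyW : y ∈ W := X.basicOpen_le h' hy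
    have hyh : y ∈ X.basicOpen h := by
      have : X.basicOpen h' = W ⊓ X.basicOpen h := X.basicOpen_res h (homOfLE hWU).op
      rw [this] at hy
      exact hy.2
    change X.presheaf.germ (X.basicOpen h') y hy (X.presheaf.map _ a') =
      X.presheaf.germ (X.basicOpen h') y hy 0
    rw [map_zero, TopCat.Presheaf.germ_res_apply]
    change X.presheaf.germ W y hyW (X.presheaf.map (homOfLE hWV).op a) = 0
    rw [TopCat.Presheaf.germ_res_apply]
    have h1 : f.1 (i ⟨y, hWV hyW⟩) = _ := hab ⟨y, hWV hyW⟩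
    have h2 : f.1 (i ⟨y, hWV hyW⟩) = 0 := hf ⟨y, hWU hyW⟩ hyh
    exact Groth.Agent.Helper7.MeroK.mk_eq_zero y _ _ (h1.symm.trans h2)
  obtain ⟨n, hn⟩ := exists_pow_mul_eq_zero_of_res_basicOpen_eq_zero_of_isAffineOpen X hW a' h' hres
  refine ⟨W, hWU, hxW, n, fun y m hm => ?_⟩
  have hfy : f.1 (i ⟨y.1, hWV y.2⟩) = _ := hab ⟨y.1, hWV y.2⟩
  have hpow : h' ^ m * a' = 0 := by
    obtain ⟨k, rfl⟩ := Nat.exists_eq_add_of_le hm
    rw [pow_add, mul_comm (h' ^ n), mul_assoc, hn, mul_zero]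
  change (Mero.toK X U h ^ m).1 ⟨y.1, hWU y.2⟩ * f.1 ⟨y.1, hWU y.2⟩ = 0
  have e1 : (Mero.toK X U h ^ m).1 ⟨y.1, hWU y.2⟩ =
      (LocalizedModule.mk (X.presheaf.germ U y.1 (hWU y.2) h) 1 : Mero.KStalk X y.1) ^ m := by
    have := map_pow (Mero.evalK X U ⟨y.1, hWU y.2⟩) (Mero.toK X U h) m
    exact this
  have e2 : f.1 ⟨y.1, hWU y.2⟩ = f.1 (i ⟨y.1, hWV y.2⟩) := rfl
  rw [e1, e2, hfy, mk_one_pow, algebraMap_mul_mk]
  have e3 : X.presheaf.germ U y.1 (hWU y.2) h ^ m * X.presheaf.germ V y.1 (hWV y.2) a =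
      X.presheaf.germ W y.1 y.2 (h' ^ m * a') := by
    rw [map_mul, map_pow]
    change _ = X.presheaf.germ W y.1 y.2 (X.presheaf.map (homOfLE hWU).op h) ^ m *
      X.presheaf.germ W y.1 y.2 (X.presheaf.map (homOfLE hWV).op a)
    rw [TopCat.Presheaf.germ_res_apply, TopCat.Presheaf.germ_res_apply]
  rw [e3, hpow, map_zero]
  exact LocalizedModule.zero_mk _

/-- a meromorphic function on a quasi-compact open vanishing on `D(h)` is killed by a power of
`h` -/
theorem pow_mul_eq_zero_of_compact (U : X.Opens) (hU : IsCompact (U : Set X)) (h : Γ(X, U))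
    (f : Γ(Mero.kmod X, U)) (hf : ∀ y : U, y.1 ∈ X.basicOpen h → f.1 y = 0) :
    ∃ n : ℕ, Mero.toK X U h ^ n * f = 0 := by
  choose W hWU hxW n hn using local_pow U h f hf
  obtain ⟨t, ht⟩ := hU.elim_nhds_subcover' (fun x hx => (W ⟨x, hx⟩ : Set X))
    (fun x hx => (W ⟨x, hx⟩).2.mem_nhds (hxW ⟨x, hx⟩))
  refine ⟨t.sup (fun x => n ⟨x.1, x.2⟩), Subtype.ext (funext fun y => ?_)⟩
  obtain ⟨x, hxt, hyx⟩ := Set.mem_iUnion₂.mp (ht y.2)
  exact hn ⟨x.1, x.2⟩ ⟨y.1, hyx⟩ _ (Finset.le_sup (f := fun x => n ⟨x.1, x.2⟩) hxt)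

theorem S8865_main (X : Scheme.{u}) [CompactSpace ↥X] (h : Γ(X, ⊤))
    (f : Γ(Mero.kmod X, ⊤))
    (hf : (Mero.kmod X).presheaf.map (homOfLE (le_top : X.basicOpen h ≤ ⊤)).op f = 0) :
    ∃ n : ℕ, Mero.toK X ⊤ h ^ n * f = 0 := by
  refine pow_mul_eq_zero_of_compact ⊤ isCompact_univ h f ?_
  intro y hy
  exact congrArg (fun r : Γ(Mero.kmod X, X.basicOpen h) => r.1 ⟨y.1, hy⟩) hf

end Groth.Agent.Lead.MeroL
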