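import Mathlib
import Groth.Prelude.Def_MeroDiv
import Groth.Prelude.Def_Pic
import Groth.Agent.Lib.Lead.MeroL8
import Groth.Agent.Lib.Lead.MeroL5

/-!
# Meromorphic functions on affine opens of locally Noetherian schemes, II (lead)
-/

set_option autoImplicit false
set_option backward.isDefEq.respectTransparency.types false
set_option synthInstance.maxHeartbeats 400000
set_option linter.style.haveILetI false
set_option linter.unusedSectionVars false
universe u

open CategoryTheory CategoryTheory.Limits AlgebraicGeometry TopologicalSpace Opposite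

namespace Groth.Agent.Lead.MeroL

variable {X : Scheme.{u}}

/-- a meromorphic function whose value at `y` lies in the local ring is a function near `y` -/
theorem exists_nhd_toK_eq (V : X.Opens) (s : Γ(Mero.kmod X, V)) (y : V)
    (h : s.1 y ∈ (algebraMap (X.presheaf.stalk y.1) (Mero.KStalk X y.1)).range) :
    ∃ (N : X.Opens) (hN : N ≤ V) (_ : y.1 ∈ N) (c : Γ(X, N)),
      ∀ z : N, s.1 ⟨z.1, hN z.2⟩ = LocalizedModule.mk (X.presheaf.germ N z.1 z.2 c) 1 := by
  obtain ⟨W, hyW, i, a, b, hs⟩ := s.2 y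
  have hsy : s.1 y = LocalizedModule.mk (X.presheaf.germ W y.1 hyW a)
      (Mero.regGerm ⟨y.1, hyW⟩ b) := hs ⟨y.1, hyW⟩
  obtain ⟨c₀, hc₀⟩ := h
  have h1 : X.presheaf.germ W y.1 hyW a = X.presheaf.germ W y.1 hyW b.1 * c₀ := by
    refine (mk_eq_algebraMap_iff y.1 _ c₀ (Mero.regGerm ⟨y.1, hyW⟩ b)).mp ?_
    rw [← hsy]
    exact hc₀.symm
  obtain ⟨W', hyW', c', rfl⟩ := TopCat.Presheaf.exists_germ_eq X.presheaf c₀
  have hyWW' : y.1 ∈ W ⊓ W' := ⟨hyW, hyW'⟩
  let t : Γ(X, W ⊓ W') := X.presheaf.map (homOfLE (inf_le_left : W ⊓ W' ≤ W)).op b.1 *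
    X.presheaf.map (homOfLE (inf_le_right : W ⊓ W' ≤ W')).op c'
  have ht : X.presheaf.germ W y.1 hyW a = X.presheaf.germ (W ⊓ W') y.1 hyWW' t := by
    rw [h1, map_mul, TopCat.Presheaf.germ_res_apply, TopCat.Presheaf.germ_res_apply]
  obtain ⟨N, hyN, iU, iV, hUV⟩ := TopCat.Presheaf.germ_eq X.presheaf y.1 hyW hyWW' a t ht
  refine ⟨N, iU.le.trans i.le, hyN,
    X.presheaf.map (homOfLE (iV.le.trans inf_le_right)).op c', fun z => ?_⟩
  have hzW : z.1 ∈ W := iU.le z.2
  have hsz : s.1 ⟨z.1, (iU.le.trans i.le) z.2⟩ =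
      LocalizedModule.mk (X.presheaf.germ W z.1 hzW a) (Mero.regGerm ⟨z.1, hzW⟩ b) :=
    hs ⟨z.1, hzW⟩
  rw [hsz]
  have h2 : X.presheaf.germ W z.1 hzW a = X.presheaf.germ W z.1 hzW b.1 *
      X.presheaf.germ N z.1 z.2
        (X.presheaf.map (homOfLE (iV.le.trans inf_le_right)).op c') := by
    have e1 : X.presheaf.germ W z.1 hzW a =
        X.presheaf.germ N z.1 z.2 (X.presheaf.map iU.op a) :=
      (TopCat.Presheaf.germ_res_apply X.presheaf iU z.1 z.2 a).symm
    rw [e1, hUV, TopCat.Presheaf.germ_res_apply, map_mul, TopCat.Presheaf.germ_res_apply,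
      TopCat.Presheaf.germ_res_apply, TopCat.Presheaf.germ_res_apply]
  exact (mk_eq_algebraMap_iff z.1 _ _ (Mero.regGerm ⟨z.1, hzW⟩ b)).mpr h2

/-- in a local ring whose maximal ideal is associated, nonzerodivisors are units -/
theorem isUnit_of_mem_nonZeroDivisors_of_ass {R : Type*} [CommRing R] [IsLocalRing R]
    (h : IsAssociatedPrime (IsLocalRing.maximalIdeal R) R) {r : R} (hr : r ∈ nonZeroDivisors R) :
    IsUnit r := by
  by_contra hu
  have hm : r ∈ IsLocalRing.maximalIdeal R := hu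
  obtain ⟨-, z, hz⟩ := h
  have h1 : r ∈ ((⊥ : Submodule R R).colon {z}).radical := by rw [← hz]; exact hm
  obtain ⟨k, hk⟩ := h1
  rw [Submodule.mem_colon_singleton, Submodule.mem_bot, smul_eq_mul] at hk
  have h2 : z = 0 :=
    (mem_nonZeroDivisors_iff_right.mp (pow_mem hr k)) z (by rw [mul_comm]; exact hk)
  have h3 : (1 : R) ∈ ((⊥ : Submodule R R).colon {z}).radical := by
    apply Ideal.le_radical
    rw [Submodule.mem_colon_singleton, h2, smul_zero]; exact Submodule.zero_mem _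
  rw [← hz] at h3
  exact (IsLocalRing.maximalIdeal.isMaximal R).ne_top ((Ideal.eq_top_iff_one _).mpr h3)

theorem range_algebraMap_of_ass (x : X)
    (h : IsAssociatedPrime (IsLocalRing.maximalIdeal (X.presheaf.stalk x)) (X.presheaf.stalk x))
    (k : Mero.KStalk X x) :
    k ∈ (algebraMap (X.presheaf.stalk x) (Mero.KStalk X x)).range := by
  induction k using LocalizedModule.induction_on with
  | h m s =>
    have hs : IsUnit (s : X.presheaf.stalk x) :=
      isUnit_of_mem_nonZeroDivisors_of_ass h (Mero.regStalk_le_nonZeroDivisors x s.2)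
    obtain ⟨v, hv⟩ := hs
    refine ⟨((v⁻¹ : (X.presheaf.stalk x)ˣ) : X.presheaf.stalk x) * m, ?_⟩
    refine ((mk_eq_algebraMap_iff x m _ s).mpr ?_).symm
    rw [← hv, ← mul_assoc, Units.mul_inv, one_mul]

theorem isUnit_toK_of_mem_regSub (U : X.Opens) (b : Γ(X, U)) (hb : b ∈ Mero.regSub X U) :
    IsUnit (Mero.toK X U b) := by
  let g : Γ(Mero.kmod X, U) :=
    ⟨fun z => LocalizedModule.mk 1 (Mero.regGerm z ⟨b, hb⟩),
      fun z => ⟨U, z.2, 𝟙 _, 1, ⟨b, hb⟩, fun w => Mero.mk_congr (map_one _).symm rfl⟩⟩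
  have hFg : Mero.toK X U b * g = 1 := by
    apply Subtype.ext
    funext z
    exact (fracUnit z.1 (Mero.regGerm z ⟨b, hb⟩) 1).val_inv
  exact IsUnit.of_mul_eq_one _ hFg

section Denom

variable (U : X.Opens) (t : Γ(Mero.kmod X, U))

/-- the ideal of denominators of a meromorphic function -/
def denom : Ideal Γ(X, U) where
  carrier := {a | ∃ c : Γ(X, U), Mero.toK X U a * t = Mero.toK X U c}
  add_mem' := by
    rintro a a' ⟨c, hc⟩ ⟨c', hc'⟩
    exact ⟨c + c', by rw [map_add, add_mul, hc, hc', map_add]⟩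
  zero_mem' := ⟨0, by rw [map_zero, zero_mul]⟩
  smul_mem' := by
    rintro r a ⟨c, hc⟩
    exact ⟨r * c, by rw [smul_eq_mul, map_mul, mul_assoc, hc, map_mul]⟩

theorem mem_denom (a : Γ(X, U)) :
    a ∈ denom U t ↔ ∃ c : Γ(X, U), Mero.toK X U a * t = Mero.toK X U c := Iff.rfl

end Denom

set_option backward.isDefEq.respectTransparency false in
/-- on an affine open of a locally Noetherian scheme the denominator ideal of a meromorphic
function contains a nonzerodivisor -/
theorem exists_nonZeroDivisor_mem_denom [IsLocallyNoetherian X] (U : X.affineOpens)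
    (t : Γ(Mero.kmod X, U.1)) :
    ∃ b ∈ denom U.1 t, b ∈ nonZeroDivisors Γ(X, U.1) := by
  have hU : IsAffineOpen U.1 := U.2
  haveI : IsNoetherianRing Γ(X, U.1) := IsLocallyNoetherian.component_noetherian U
  by_contra hcon
  have hsub : ((denom U.1 t : Ideal Γ(X, U.1)) : Set Γ(X, U.1)) ⊆
      ⋃ p ∈ associatedPrimes Γ(X, U.1) Γ(X, U.1), (p : Set Γ(X, U.1)) := by
    rw [biUnion_associatedPrimes_eq_compl_nonZeroDivisors]
    intro b hb hb'
    exact hcon ⟨b, hb, hb'⟩
  have hfin : (associatedPrimes Γ(X, U.1) Γ(X, U.1)).Finite := associatedPrimes.finite _ _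
  have hsub' : ((denom U.1 t : Ideal Γ(X, U.1)) : Set Γ(X, U.1)) ⊆
      ⋃ p ∈ (hfin.toFinset : Set (Ideal Γ(X, U.1))), ((id p : Ideal Γ(X, U.1)) : Set Γ(X, U.1)) := by
    simpa using hsub
  obtain ⟨p, hp, hle⟩ := (Ideal.subset_union_prime (R := Γ(X, U.1)) (s := hfin.toFinset)
    (f := id) ⊥ ⊥ (fun i hi _ _ => by
      have : i ∈ associatedPrimes Γ(X, U.1) Γ(X, U.1) := by simpa using hi
      exact this.isPrime)).mp hsub'
  have hpass : p ∈ associatedPrimes Γ(X, U.1) Γ(X, U.1) := by simpa using hp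
  haveI : p.IsPrime := hpass.isPrime
  let q : PrimeSpectrum Γ(X, U.1) := ⟨p, inferInstance⟩
  let x : X := hU.fromSpec q
  have hxU : x ∈ U.1 := Groth.Agent.Helper7.MeroK.fromSpec_mem hU q
  have hass := Groth.Agent.Helper7.MeroK.isAssociatedPrime_maximalIdeal_stalk hU q hpass
  obtain ⟨N, hN, hxN, c, hc⟩ := exists_nhd_toK_eq U.1 t ⟨x, hxU⟩
    (range_algebraMap_of_ass x hass _)
  obtain ⟨g, hgN, hxg⟩ := hU.exists_basicOpen_le (V := N) ⟨x, hxN⟩ hxU
  have hgp : g ∉ p := by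
    have h1 : q ∈ hU.fromSpec ⁻¹ᵁ X.basicOpen g := hxg
    rw [hU.fromSpec_preimage_basicOpen] at h1
    exact h1
  -- write `c` on `D(g)` as a fraction
  have hloc := hU.isLocalization_basicOpen g
  obtain ⟨⟨c', ⟨_, m, rfl⟩⟩, hc'⟩ := IsLocalization.surj (M := Submonoid.powers g)
    (X.presheaf.map (homOfLE hgN).op c)
  have hc'' : X.presheaf.map (homOfLE hgN).op c *
      X.presheaf.map (homOfLE (X.basicOpen_le g)).op (g ^ m) =
      X.presheaf.map (homOfLE (X.basicOpen_le g)).op c' := hc'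
  let u : Γ(Mero.kmod X, U.1) := Mero.toK X U.1 (g ^ m) * t - Mero.toK X U.1 c'
  have hu : ∀ y : U.1, y.1 ∈ X.basicOpen g → u.1 y = 0 := by
    intro y hy
    have hyN : y.1 ∈ N := hgN hy
    have h1 : t.1 y = LocalizedModule.mk (X.presheaf.germ N y.1 hyN c) 1 := hc ⟨y.1, hyN⟩
    change (Mero.toK X U.1 (g ^ m)).1 y * t.1 y - (Mero.toK X U.1 c').1 y = 0
    rw [h1, Mero.toK_apply, Mero.toK_apply, algebraMap_mul_mk, sub_eq_zero]
    refine Mero.mk_congr ?_ rfl
    have e1 : X.presheaf.germ N y.1 hyN c =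
        X.presheaf.germ (X.basicOpen g) y.1 hy (X.presheaf.map (homOfLE hgN).op c) :=
      (TopCat.Presheaf.germ_res_apply X.presheaf (homOfLE hgN) y.1 hy c).symm
    have e2 : X.presheaf.germ U.1 y.1 y.2 (g ^ m) = X.presheaf.germ (X.basicOpen g) y.1 hy
        (X.presheaf.map (homOfLE (X.basicOpen_le g)).op (g ^ m)) :=
      (TopCat.Presheaf.germ_res_apply X.presheaf (homOfLE (X.basicOpen_le g)) y.1 hy _).symm
    have e3 : X.presheaf.germ U.1 y.1 y.2 c' = X.presheaf.germ (X.basicOpen g) y.1 hy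
        (X.presheaf.map (homOfLE (X.basicOpen_le g)).op c') :=
      (TopCat.Presheaf.germ_res_apply X.presheaf (homOfLE (X.basicOpen_le g)) y.1 hy _).symm
    rw [e1, e2, e3, ← hc'', map_mul, mul_comm]
  obtain ⟨n, hn⟩ := pow_mul_eq_zero_of_compact U.1 hU.isCompact g u hu
  have hmem : g ^ (n + m) ∈ denom U.1 t := by
    refine ⟨g ^ n * c', ?_⟩
    have h2 : Mero.toK X U.1 g ^ n * (Mero.toK X U.1 (g ^ m) * t) =
        Mero.toK X U.1 g ^ n * Mero.toK X U.1 c' := by
      have := hn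
      rw [mul_sub, sub_eq_zero] at this
      exact this
    calc Mero.toK X U.1 (g ^ (n + m)) * t
        = Mero.toK X U.1 g ^ n * (Mero.toK X U.1 (g ^ m) * t) := by
          rw [pow_add, map_mul, map_pow, mul_assoc]
      _ = Mero.toK X U.1 g ^ n * Mero.toK X U.1 c' := h2
      _ = Mero.toK X U.1 (g ^ n * c') := by rw [map_mul, map_pow]
  exact hgp (‹p.IsPrime›.mem_of_pow_mem _ (hle hmem))

set_option backward.isDefEq.respectTransparency false in
theorem S8864_main (X : Scheme.{u}) [IsLocallyNoetherian X] (U : X.affineOpens) :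
    @IsLocalization Γ(X, U.1) _ (nonZeroDivisors Γ(X, U.1)) Γ(Mero.kmod X, U.1) _
      (Mero.toK X U.1).toAlgebra := by
  letI : Algebra Γ(X, U.1) Γ(Mero.kmod X, U.1) := (Mero.toK X U.1).toAlgebra
  have hreg := Groth.Agent.Helper7.MeroReg.S12513_main X U.1 U.2
  refine ⟨?_, ?_, ?_⟩
  · intro y
    change IsUnit (Mero.toK X U.1 y.1)
    exact isUnit_toK_of_mem_regSub U.1 y.1 (by rw [hreg]; exact y.2)
  · intro z
    obtain ⟨b, ⟨c, hc⟩, hb⟩ := exists_nonZeroDivisor_mem_denom U z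
    refine ⟨(c, ⟨b, hb⟩), ?_⟩
    change z * Mero.toK X U.1 b = Mero.toK X U.1 c
    rw [mul_comm]
    exact hc
  · intro a a' h
    have h' : Mero.toK X U.1 a = Mero.toK X U.1 a' := h
    exact ⟨1, by rw [toK_injective U.1 h']⟩

end Groth.Agent.Lead.MeroL
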