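import Mathlib
import Groth.Prelude.Def_MeroDiv
import Groth.Prelude.Def_Pic
import Groth.Agent.Lib.Lead.MeroL9

/-!
# Extending functions on schematically dense opens to meromorphic functions (lead)
-/

set_option autoImplicit false
set_option backward.isDefEq.respectTransparency.types false
set_option synthInstance.maxHeartbeats 400000
set_option linter.style.haveILetI false
set_option linter.unusedSectionVars false
universe u

open CategoryTheory CategoryTheory.Limits AlgebraicGeometry TopologicalSpace Opposite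

namespace Groth.Agent.Lead.MeroL

variable {X : Scheme.{u}}

/-- gluing meromorphic functions given on a cover, pointwise -/
theorem exists_glue (U : X.Opens) (W : U → X.Opens) (hW : ∀ x, W x ≤ U)
    (hx : ∀ x : U, x.1 ∈ W x) (s : ∀ x : U, Γ(Mero.kmod X, W x))
    (hcompat : ∀ (x x' : U) (y : X) (h : y ∈ W x) (h' : y ∈ W x'),
      (s x).1 ⟨y, h⟩ = (s x').1 ⟨y, h'⟩) :
    ∃ t : Γ(Mero.kmod X, U), ∀ (x : U) (y : W x), t.1 ⟨y.1, hW x y.2⟩ = (s x).1 y := by
  refine ⟨⟨fun y => (s y).1 ⟨y.1, hx y⟩, fun x => ?_⟩, fun x y => ?_⟩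
  · obtain ⟨N, hxN, i, a, b, hab⟩ := (s x).2 ⟨x.1, hx x⟩
    refine ⟨N, hxN, homOfLE (i.le.trans (hW x)), a, b, fun y => ?_⟩
    have h1 : (s x).1 (i y) = _ := hab y
    refine Eq.trans ?_ h1
    exact hcompat ⟨y.1, (i.le.trans (hW x)) y.2⟩ x y.1 (hx _) (i.le y.2)
  · exact hcompat ⟨y.1, hW x y.2⟩ x y.1 (hx _) y.2

/-- a function vanishing on the nonvanishing locus of a regular function is zero -/
theorem eq_zero_of_res_basicOpen_regular (W : X.Opens) (b : Γ(X, W)) (hb : b ∈ Mero.regSub X W)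
    (c : Γ(X, W)) (hc : X.presheaf.map (homOfLE (X.basicOpen_le b)).op c = 0) : c = 0 := by
  apply TopCat.Presheaf.section_ext X.sheaf W
  intro y hy
  change X.presheaf.germ W y hy c = X.presheaf.germ W y hy 0
  rw [map_zero]
  obtain ⟨W3, hW3aff, hyW3, hW3W⟩ :=
    (Opens.isBasis_iff_nbhd.mp X.isBasis_affineOpens) hy
  have hW3 : IsAffineOpen W3 := hW3aff
  let c' : Γ(X, W3) := X.presheaf.map (homOfLE hW3W).op c
  let b' : Γ(X, W3) := X.presheaf.map (homOfLE hW3W).op b
  have hres : c' |_ (X.basicOpen b') = 0 := by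
    apply TopCat.Presheaf.section_ext X.sheaf (X.basicOpen b')
    intro z hz
    have hzW3 : z ∈ W3 := X.basicOpen_le b' hz
    have hzb : z ∈ X.basicOpen b := by
      have : X.basicOpen b' = W3 ⊓ X.basicOpen b := X.basicOpen_res b (homOfLE hW3W).op
      rw [this] at hz
      exact hz.2
    change X.presheaf.germ (X.basicOpen b') z hz (X.presheaf.map _ c') =
      X.presheaf.germ (X.basicOpen b') z hz 0
    rw [map_zero, TopCat.Presheaf.germ_res_apply]
    change X.presheaf.germ W3 z hzW3 (X.presheaf.map (homOfLE hW3W).op c) = 0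
    rw [TopCat.Presheaf.germ_res_apply]
    have h1 := congrArg (X.presheaf.germ (X.basicOpen b) z hzb) hc
    rw [TopCat.Presheaf.germ_res_apply, map_zero] at h1
    exact h1
  obtain ⟨n, hn⟩ := exists_pow_mul_eq_zero_of_res_basicOpen_eq_zero_of_isAffineOpen X hW3 c' b' hres
  have h2 := congrArg (X.presheaf.germ W3 y hyW3) hn
  rw [map_mul, map_pow, map_zero] at h2
  have e1 : X.presheaf.germ W3 y hyW3 b' = X.presheaf.germ W y hy b :=
    TopCat.Presheaf.germ_res_apply X.presheaf (homOfLE hW3W) y hyW3 b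
  have e2 : X.presheaf.germ W3 y hyW3 c' = X.presheaf.germ W y hy c :=
    TopCat.Presheaf.germ_res_apply X.presheaf (homOfLE hW3W) y hyW3 c
  rw [e1, e2] at h2
  have h3 : X.presheaf.germ W y hy b ^ n ∈ nonZeroDivisors (X.presheaf.stalk y) :=
    pow_mem (hb ⟨y, hy⟩) n
  exact (mem_nonZeroDivisors_iff_left.mp h3) _ h2

/-- local extension: on an affine open with a regular function whose nonvanishing locus lies in
`V`, a function on `V` is meromorphic -/
theorem exists_local_ext (W : X.Opens) (hW : IsAffineOpen W) (V : X.Opens) (b : Γ(X, W))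
    (hb : b ∈ Mero.regSub X W) (hbV : X.basicOpen b ≤ V) (g : Γ(X, V)) :
    ∃ s : Γ(Mero.kmod X, W), ∀ (y : W) (hy : y.1 ∈ V),
      s.1 y = LocalizedModule.mk (X.presheaf.germ V y.1 hy g) 1 := by
  have hloc := hW.isLocalization_basicOpen b
  obtain ⟨⟨a, ⟨_, m, rfl⟩⟩, ha⟩ := IsLocalization.surj (M := Submonoid.powers b)
    (X.presheaf.map (homOfLE hbV).op g)
  have ha' : X.presheaf.map (homOfLE hbV).op g *
      X.presheaf.map (homOfLE (X.basicOpen_le b)).op (b ^ m) =
      X.presheaf.map (homOfLE (X.basicOpen_le b)).op a := ha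
  obtain ⟨ub, hub⟩ := isUnit_toK_of_mem_regSub W b hb
  -- the key identity on `W ⊓ V`
  have hbW : X.basicOpen b ≤ W := X.basicOpen_le b
  let bWV : Γ(X, W ⊓ V) := X.presheaf.map (homOfLE (inf_le_left : W ⊓ V ≤ W)).op b
  let d : Γ(X, W ⊓ V) := bWV ^ m *
    X.presheaf.map (homOfLE (inf_le_right : W ⊓ V ≤ V)).op g -
    X.presheaf.map (homOfLE (inf_le_left : W ⊓ V ≤ W)).op a
  have hbWV : bWV ∈ Mero.regSub X (W ⊓ V) := Mero.regSub_res _ hb
  have hbasic : X.basicOpen bWV = X.basicOpen b := by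
    have : X.basicOpen bWV = (W ⊓ V) ⊓ X.basicOpen b :=
      X.basicOpen_res b (homOfLE (inf_le_left : W ⊓ V ≤ W)).op
    rw [this]
    exact inf_eq_right.mpr (le_inf hbW hbV)
  have hd : d = 0 := by
    apply eq_zero_of_res_basicOpen_regular (W ⊓ V) bWV hbWV
    apply TopCat.Presheaf.section_ext X.sheaf (X.basicOpen bWV)
    intro z hz
    have hzb : z ∈ X.basicOpen b := hbasic ▸ hz
    change X.presheaf.germ (X.basicOpen bWV) z hz (X.presheaf.map _ d) =
      X.presheaf.germ (X.basicOpen bWV) z hz 0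
    rw [map_zero, TopCat.Presheaf.germ_res_apply]
    have hzWV : z ∈ W ⊓ V := ⟨hbW hzb, hbV hzb⟩
    change X.presheaf.germ (W ⊓ V) z hzWV (bWV ^ m *
      X.presheaf.map (homOfLE (inf_le_right : W ⊓ V ≤ V)).op g -
      X.presheaf.map (homOfLE (inf_le_left : W ⊓ V ≤ W)).op a) = 0
    rw [map_sub, map_mul, map_pow, TopCat.Presheaf.germ_res_apply,
      TopCat.Presheaf.germ_res_apply, TopCat.Presheaf.germ_res_apply]
    have h1 := congrArg (X.presheaf.germ (X.basicOpen b) z hzb) ha'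
    rw [map_mul, TopCat.Presheaf.germ_res_apply, TopCat.Presheaf.germ_res_apply,
      TopCat.Presheaf.germ_res_apply, map_pow] at h1
    rw [sub_eq_zero, mul_comm]
    exact h1
  refine ⟨Mero.toK X W a * ((ub⁻¹ ^ m : (Γ(Mero.kmod X, W))ˣ) : Γ(Mero.kmod X, W)), fun y hy => ?_⟩
  have hyWV : y.1 ∈ W ⊓ V := ⟨y.2, hy⟩
  have hgerm : X.presheaf.germ W y.1 y.2 b ^ m * X.presheaf.germ V y.1 hy g =
      X.presheaf.germ W y.1 y.2 a := by
    have h1 := congrArg (X.presheaf.germ (W ⊓ V) y.1 hyWV) hd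
    change X.presheaf.germ (W ⊓ V) y.1 hyWV (bWV ^ m *
      X.presheaf.map (homOfLE (inf_le_right : W ⊓ V ≤ V)).op g -
      X.presheaf.map (homOfLE (inf_le_left : W ⊓ V ≤ W)).op a) = _ at h1
    rw [map_sub, map_mul, map_pow, TopCat.Presheaf.germ_res_apply,
      TopCat.Presheaf.germ_res_apply, TopCat.Presheaf.germ_res_apply, map_zero,
      sub_eq_zero] at h1
    exact h1
  -- evaluate
  have hinv : ((ub ^ m : (Γ(Mero.kmod X, W))ˣ) : Γ(Mero.kmod X, W)).1 y *
      ((ub⁻¹ ^ m : (Γ(Mero.kmod X, W))ˣ) : Γ(Mero.kmod X, W)).1 y = 1 := by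
    rw [← Mero.kmod_mul_apply, ← Units.val_mul, ← mul_pow, mul_inv_cancel, one_pow,
      Units.val_one, Mero.kmod_one_apply]
  have hubm : ((ub ^ m : (Γ(Mero.kmod X, W))ˣ) : Γ(Mero.kmod X, W)).1 y =
      LocalizedModule.mk (X.presheaf.germ W y.1 y.2 b ^ m) 1 := by
    rw [Units.val_pow_eq_pow_val, hub, ← map_pow, Mero.toK_apply, map_pow]
  change (Mero.toK X W a).1 y * ((ub⁻¹ ^ m : (Γ(Mero.kmod X, W))ˣ) : Γ(Mero.kmod X, W)).1 y = _
  have h3 : (Mero.toK X W a).1 y = ((ub ^ m : (Γ(Mero.kmod X, W))ˣ) : Γ(Mero.kmod X, W)).1 y *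
      LocalizedModule.mk (X.presheaf.germ V y.1 hy g) 1 := by
    rw [hubm, Mero.toK_apply, algebraMap_mul_mk, hgerm]
  rw [h3, mul_comm, ← mul_assoc, mul_comm (((ub⁻¹ ^ m : (Γ(Mero.kmod X, W))ˣ) :
    Γ(Mero.kmod X, W)).1 y), hinv, one_mul]

end Groth.Agent.Lead.MeroL
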