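import Mathlib
import Groth.Prelude.Def_MeroDiv
import Groth.Prelude.Def_Pic
import Groth.Agent.Lib.Lead.MeroL10

/-!
# Extending functions on schematically dense opens to meromorphic functions, II (lead)
-/

set_option autoImplicit false
set_option backward.isDefEq.respectTransparency.types false
set_option synthInstance.maxHeartbeats 400000
set_option linter.style.haveILetI false
set_option linter.unusedSectionVars false
universe u

open CategoryTheory CategoryTheory.Limits AlgebraicGeometry TopologicalSpace Opposite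

namespace Groth.Agent.Lead.MeroL

variable {X : Scheme.{u}}

/-- the ideal of functions on `W` whose nonvanishing locus lies in `V` -/
def inIdeal (W V : X.Opens) : Ideal Γ(X, W) where
  carrier := {a | X.basicOpen a ≤ V}
  add_mem' := by
    intro a b ha hb
    exact (X.basicOpen_add_le a b).trans (sup_le ha hb)
  zero_mem' := by
    change X.basicOpen (0 : Γ(X, W)) ≤ V
    rw [Scheme.basicOpen_zero]
    exact bot_le
  smul_mem' := by
    intro r a ha
    change X.basicOpen (r * a) ≤ V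
    rw [Scheme.basicOpen_mul]
    exact inf_le_right.trans ha

theorem mem_inIdeal (W V : X.Opens) (a : Γ(X, W)) : a ∈ inIdeal W V ↔ X.basicOpen a ≤ V := Iff.rfl

set_option backward.isDefEq.respectTransparency false in
theorem exists_regular_basicOpen_le (W : X.Opens) (hW : IsAffineOpen W) (V : X.Opens)
    (hinj : Function.Injective (X.presheaf.map (homOfLE (inf_le_left : W ⊓ V ≤ W)).op))
    (S : Finset (Ideal Γ(X, W))) (hprime : ∀ p ∈ S, p.IsPrime)
    (hzd : ∀ f : Γ(X, W), f ∉ nonZeroDivisors Γ(X, W) → ∃ p ∈ S, f ∈ p)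
    (hz : ∀ p ∈ S, ∃ z : Γ(X, W), z ≠ 0 ∧ ∀ a ∈ p, ∃ k : ℕ, a ^ k * z = 0) :
    ∃ b ∈ nonZeroDivisors Γ(X, W), X.basicOpen b ≤ V := by
  by_contra hcon
  have hsub : ((inIdeal W V : Ideal Γ(X, W)) : Set Γ(X, W)) ⊆
      ⋃ p ∈ (S : Set (Ideal Γ(X, W))), ((id p : Ideal Γ(X, W)) : Set Γ(X, W)) := by
    intro a ha
    have h1 : a ∉ nonZeroDivisors Γ(X, W) := fun h => hcon ⟨a, h, ha⟩
    obtain ⟨p, hp, hap⟩ := hzd a h1
    exact Set.mem_iUnion₂.mpr ⟨p, hp, hap⟩
  obtain ⟨p, hp, hle⟩ := (Ideal.subset_union_prime (R := Γ(X, W)) (s := S)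
    (f := id) ⊥ ⊥ (fun i hi _ _ => hprime i hi)).mp hsub
  obtain ⟨z, hz0, hzp⟩ := hz p hp
  apply hz0
  apply hinj
  rw [map_zero]
  apply TopCat.Presheaf.section_ext X.sheaf (W ⊓ V)
  intro y hy
  change X.presheaf.germ (W ⊓ V) y hy (X.presheaf.map _ z) = X.presheaf.germ (W ⊓ V) y hy 0
  rw [map_zero, TopCat.Presheaf.germ_res_apply]
  obtain ⟨a, haV, hya⟩ := hW.exists_basicOpen_le (V := V) ⟨y, hy.2⟩ hy.1
  obtain ⟨k, hk⟩ := hzp a (hle ((mem_inIdeal W V a).mpr haV))
  have h1 := congrArg (X.presheaf.germ W y hy.1) hk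
  rw [map_mul, map_pow, map_zero] at h1
  have hu : IsUnit (X.presheaf.germ W y hy.1 a) := (X.mem_basicOpen a y hy.1).mp hya
  exact (hu.pow k).mul_right_eq_zero.mp h1

/-- the Noetherian case -/
theorem exists_regular_basicOpen_le_of_noetherian [IsLocallyNoetherian X] (W : X.Opens)
    (hW : IsAffineOpen W) (V : X.Opens)
    (hinj : Function.Injective (X.presheaf.map (homOfLE (inf_le_left : W ⊓ V ≤ W)).op)) :
    ∃ b ∈ nonZeroDivisors Γ(X, W), X.basicOpen b ≤ V := by
  haveI : IsNoetherianRing Γ(X, W) := IsLocallyNoetherian.component_noetherian ⟨W, hW⟩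
  have hfin : (associatedPrimes Γ(X, W) Γ(X, W)).Finite := associatedPrimes.finite _ _
  refine exists_regular_basicOpen_le W hW V hinj hfin.toFinset ?_ ?_ ?_
  · intro p hp
    have : p ∈ associatedPrimes Γ(X, W) Γ(X, W) := by simpa using hp
    exact this.isPrime
  · intro f hf
    have h1 : f ∈ ((nonZeroDivisors Γ(X, W) : Set Γ(X, W)))ᶜ := hf
    rw [← biUnion_associatedPrimes_eq_compl_nonZeroDivisors] at h1
    obtain ⟨p, hp, hfp⟩ := Set.mem_iUnion₂.mp h1
    exact ⟨p, by simpa using hp, hfp⟩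
  · intro p hp
    have hp' : p ∈ associatedPrimes Γ(X, W) Γ(X, W) := by simpa using hp
    obtain ⟨hpr, z, hz⟩ := hp'
    refine ⟨z, ?_, fun a ha => ?_⟩
    · rintro rfl
      have h3 : (1 : Γ(X, W)) ∈ ((⊥ : Submodule Γ(X, W) Γ(X, W)).colon {(0 : Γ(X, W))}).radical := by
        apply Ideal.le_radical
        rw [Submodule.mem_colon_singleton, smul_zero]; exact Submodule.zero_mem _
      rw [← hz] at h3
      exact hpr.ne_top ((Ideal.eq_top_iff_one _).mpr h3)
    · rw [hz] at ha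
      obtain ⟨k, hk⟩ := ha
      rw [Submodule.mem_colon_singleton, Submodule.mem_bot, smul_eq_mul] at hk
      exact ⟨k, hk⟩

/-- ring lemma: in a reduced ring with finitely many minimal primes -/
theorem exists_regular_of_reduced {A : Type*} [CommRing A] [IsReduced A]
    (hfin : (minimalPrimes A).Finite) :
    (∀ f : A, f ∉ nonZeroDivisors A → ∃ p ∈ hfin.toFinset, f ∈ p) ∧
    (∀ p ∈ hfin.toFinset, ∃ z : A, z ≠ 0 ∧ ∀ a ∈ p, ∃ k : ℕ, a ^ k * z = 0) := by
  have hInf : sInf (minimalPrimes A) = (⊥ : Ideal A) := by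
    have := Ideal.sInf_minimalPrimes (I := (⊥ : Ideal A))
    rw [show (⊥ : Ideal A).radical = ⊥ from nilradical_eq_zero A] at this
    exact this
  constructor
  · intro f hf
    by_contra hcon
    apply hf
    rw [mem_nonZeroDivisors_iff_right]
    intro z hz
    have : z ∈ sInf (minimalPrimes A) := by
      rw [Ideal.mem_sInf]
      intro p hp
      have hpr : p.IsPrime := hp.1.1
      have hfp : f ∉ p := fun h => hcon ⟨p, by simpa using hp, h⟩
      have h0 : z * f ∈ p := by rw [hz]; exact p.zero_mem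
      exact (hpr.mem_or_mem h0).resolve_right hfp
    rw [hInf] at this
    exact this
  · intro p hp
    have hp' : p ∈ minimalPrimes A := by simpa using hp
    have hpr : p.IsPrime := hp'.1.1
    classical
    let T : Finset (Ideal A) := hfin.toFinset.erase p
    have hT : ¬ (T.inf id ≤ p) := by
      intro hle
      obtain ⟨q, hq, hqp⟩ := (Ideal.IsPrime.inf_le' hpr).mp hle
      have hq' : q ∈ minimalPrimes A := by
        have := Finset.mem_of_mem_erase hq
        simpa using this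
      have hqne : q ≠ p := Finset.ne_of_mem_erase hq
      have hpq : p ≤ q := hp'.2 ⟨hq'.1.1, bot_le⟩ hqp
      exact hqne (le_antisymm hqp hpq)
    obtain ⟨c, hcT, hcp⟩ := SetLike.not_le_iff_exists.mp hT
    refine ⟨c, ?_, fun a ha => ⟨1, ?_⟩⟩
    · rintro rfl
      exact hcp p.zero_mem
    · rw [pow_one]
      have : a * c ∈ sInf (minimalPrimes A) := by
        rw [Ideal.mem_sInf]
        intro q hq
        by_cases hqp : q = p
        · rw [hqp]; exact p.mul_mem_right _ ha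
        · have hqT : q ∈ T := Finset.mem_erase.mpr ⟨hqp, by simpa using hq⟩
          have : c ∈ q := by
            have h1 : T.inf id ≤ id q := Finset.inf_le hqT
            exact h1 hcT
          exact q.mul_mem_left _ this
      rw [hInf] at this
      exact this

end Groth.Agent.Lead.MeroL

namespace Groth.Agent.Lead.MeroL

variable {X : Scheme.{u}}

set_option backward.isDefEq.respectTransparency false in
/-- the point of a minimal prime of an affine open has no proper generization -/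
theorem fromSpec_minimal_generization (W : X.Opens) (hW : IsAffineOpen W)
    (q : Ideal Γ(X, W)) (hq : q ∈ minimalPrimes Γ(X, W)) (hqp' : q.IsPrime) (z : X)
    (hz : z ⤳ hW.fromSpec ⟨q, hqp'⟩) : z = hW.fromSpec ⟨q, hqp'⟩ := by
  have hzW : z ∈ W := hz.mem_open W.2 (Groth.Agent.Helper7.MeroK.fromSpec_mem hW _)
  have h1 : hW.fromSpec (hW.primeIdealOf ⟨z, hzW⟩) = z := hW.fromSpec_primeIdealOf ⟨z, hzW⟩
  rw [← h1] at hz ⊢
  have h2 := (hW.fromSpec.isOpenEmbedding.isInducing.specializes_iff).mp hz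
  have h3 : (hW.primeIdealOf ⟨z, hzW⟩) ≤ (⟨q, hqp'⟩ : PrimeSpectrum Γ(X, W)) :=
    (PrimeSpectrum.le_iff_specializes _ _).mpr h2
  have h4 : q ≤ (hW.primeIdealOf ⟨z, hzW⟩).asIdeal :=
    hq.2 ⟨(hW.primeIdealOf ⟨z, hzW⟩).isPrime, bot_le⟩ h3
  have h5 : hW.primeIdealOf ⟨z, hzW⟩ = ⟨q, hqp'⟩ := PrimeSpectrum.ext (le_antisymm h3 h4)
  rw [h5]

set_option backward.isDefEq.respectTransparency false in
theorem finite_minimalPrimes_of_locallyFinite (W : X.Opens) (hW : IsAffineOpen W) (W₀ : X.Opens)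
    (hWW₀ : W ≤ W₀)
    (hfin : {Z : Set ↥X | Z ∈ irreducibleComponents ↥X ∧ (Z ∩ (W₀ : Set ↥X)).Nonempty}.Finite) :
    (minimalPrimes Γ(X, W)).Finite := by
  classical
  have hprime : ∀ p : minimalPrimes Γ(X, W), (p.1 : Ideal Γ(X, W)).IsPrime := fun p => p.2.1.1
  let η : minimalPrimes Γ(X, W) → X := fun p => hW.fromSpec ⟨p.1, hprime p⟩
  have hηW : ∀ p, η p ∈ W := fun p => Groth.Agent.Helper7.MeroK.fromSpec_mem hW _
  have hex : ∀ p : minimalPrimes Γ(X, W), ∃ Z ∈ irreducibleComponents ↥X,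
      closure ({η p} : Set X) ⊆ Z := fun p =>
    exists_mem_irreducibleComponents_subset_of_isIrreducible _ isIrreducible_singleton.closure
  choose Z hZ hηZ using hex
  let φ : minimalPrimes Γ(X, W) →
      {Z : Set ↥X | Z ∈ irreducibleComponents ↥X ∧ (Z ∩ (W₀ : Set ↥X)).Nonempty} := fun p =>
    ⟨Z p, hZ p, ⟨η p, hηZ p (subset_closure rfl), hWW₀ (hηW p)⟩⟩
  have hgen : ∀ p : minimalPrimes Γ(X, W), (hZ p).1.genericPoint = η p := by
    intro p
    have hcl : IsClosed (Z p) := isClosed_of_mem_irreducibleComponents _ (hZ p)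
    have hg : IsGenericPoint (hZ p).1.genericPoint (Z p) :=
      (hZ p).1.isGenericPoint_genericPoint hcl
    have hmem : η p ∈ closure ({(hZ p).1.genericPoint} : Set X) := by
      rw [hg.def]
      exact hηZ p (subset_closure rfl)
    exact fromSpec_minimal_generization W hW p.1 p.2 (hprime p) _
      (specializes_iff_mem_closure.mpr hmem)
  have hφ : Function.Injective φ := by
    intro p p' h
    have hZeq : Z p = Z p' := congrArg Subtype.val h
    have h1 : η p = η p' := by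
      rw [← hgen p, ← hgen p']
      congr 1
    have h2 : (⟨p.1, hprime p⟩ : PrimeSpectrum Γ(X, W)) = ⟨p'.1, hprime p'⟩ :=
      hW.fromSpec.isOpenEmbedding.injective h1
    exact Subtype.ext (congrArg PrimeSpectrum.asIdeal h2)
  haveI : Finite {Z : Set ↥X | Z ∈ irreducibleComponents ↥X ∧ (Z ∩ (W₀ : Set ↥X)).Nonempty} :=
    hfin.to_subtype
  exact Set.finite_coe_iff.mp (Finite.of_injective φ hφ)

end Groth.Agent.Lead.MeroL

namespace Groth.Agent.Lead.MeroL

variable {X : Scheme.{u}}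

theorem res_res_apply {A B C : X.Opens} (h1 : B ≤ A) (h2 : C ≤ B) (r : Γ(X, A)) :
    X.presheaf.map (homOfLE h2).op (X.presheaf.map (homOfLE h1).op r) =
      X.presheaf.map (homOfLE (h2.trans h1)).op r := by
  rw [← CommRingCat.comp_apply, ← Functor.map_comp]
  rfl

/-- two meromorphic functions restricting to the same function on a schematically dense open
agree -/
theorem eq_of_eq_on_dense (U V : X.Opens)
    (hV : ∀ W : X.Opens, W ≤ U →
      Function.Injective ⇑(X.presheaf.map (homOfLE (inf_le_left : W ⊓ V ≤ W)).op))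
    (g : Γ(X, V)) (W₁ W₂ : X.Opens) (h₁ : W₁ ≤ U) (h₂ : W₂ ≤ U)
    (s₁ : Γ(Mero.kmod X, W₁)) (s₂ : Γ(Mero.kmod X, W₂))
    (hs₁ : ∀ (y : W₁) (hy : y.1 ∈ V), s₁.1 y = LocalizedModule.mk (X.presheaf.germ V y.1 hy g) 1)
    (hs₂ : ∀ (y : W₂) (hy : y.1 ∈ V), s₂.1 y = LocalizedModule.mk (X.presheaf.germ V y.1 hy g) 1)
    (y : X) (hy₁ : y ∈ W₁) (hy₂ : y ∈ W₂) : s₁.1 ⟨y, hy₁⟩ = s₂.1 ⟨y, hy₂⟩ := by
  let W12 : X.Opens := W₁ ⊓ W₂
  let V' : X.Opens := W12 ⊓ V
  have hV' : ∀ W : X.Opens, W ≤ W12 →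
      Function.Injective ⇑(X.presheaf.map (homOfLE (inf_le_left : W ⊓ V' ≤ W)).op) := by
    intro W hW
    have hWU : W ≤ U := hW.trans (inf_le_left.trans h₁)
    have hle : W ⊓ V ≤ W ⊓ V' := le_inf inf_le_left (le_inf (inf_le_left.trans hW) inf_le_right)
    refine (injective_iff_map_eq_zero (X.presheaf.map (homOfLE (inf_le_left : W ⊓ V' ≤ W)).op).hom).mpr
      fun r hr => ?_
    apply hV W hWU
    rw [map_zero]
    have := congrArg (X.presheaf.map (homOfLE hle).op) hr
    rw [map_zero] at this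
    rw [← this]
    exact (res_res_apply (inf_le_left : W ⊓ V' ≤ W) hle r).symm
  have hinj := Groth.Agent.Helper7.MeroK.S5085_main X W12 V' inf_le_left hV'
  have heq : resK (inf_le_left : W12 ≤ W₁) s₁ = resK (inf_le_right : W12 ≤ W₂) s₂ := by
    apply hinj
    apply Subtype.ext
    funext z
    change s₁.1 ⟨z.1, z.2.1.1⟩ = s₂.1 ⟨z.1, z.2.1.2⟩
    rw [hs₁ ⟨z.1, z.2.1.1⟩ z.2.2, hs₂ ⟨z.1, z.2.1.2⟩ z.2.2]
  exact congrArg (fun t : Γ(Mero.kmod X, W12) => t.1 ⟨y, ⟨hy₁, hy₂⟩⟩) heq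

set_option backward.isDefEq.respectTransparency false in
theorem S5086_main (X : Scheme.{u})
    (hX : IsLocallyNoetherian X ∨ (IsReduced X ∧ ∀ x : ↥X, ∃ W : X.Opens, x ∈ W ∧
      {Z : Set ↥X | Z ∈ irreducibleComponents ↥X ∧ (Z ∩ (W : Set ↥X)).Nonempty}.Finite))
    (U V : X.Opens) (hVU : V ≤ U)
    (hV : ∀ W : X.Opens, W ≤ U →
      Function.Injective ⇑(X.presheaf.map (homOfLE (inf_le_left : W ⊓ V ≤ W)).op))
    (g : Γ(X, V)) :
    ∃ s : Γ(Mero.kmod X, U), (Mero.kmod X).presheaf.map (homOfLE hVU).op s = Mero.toK X V g := by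
  -- local data
  have hloc : ∀ x : U, ∃ (W : X.Opens) (_ : IsAffineOpen W) (_ : W ≤ U) (_ : x.1 ∈ W)
      (b : Γ(X, W)), b ∈ Mero.regSub X W ∧ X.basicOpen b ≤ V := by
    intro x
    rcases hX with hN | ⟨hR, hF⟩
    · obtain ⟨W, hWaff, hxW, hWU⟩ :=
        (Opens.isBasis_iff_nbhd.mp X.isBasis_affineOpens) x.2
      have hW : IsAffineOpen W := hWaff
      obtain ⟨b, hb, hbV⟩ := exists_regular_basicOpen_le_of_noetherian W hW V (hV W hWU)
      refine ⟨W, hW, hWU, hxW, b, ?_, hbV⟩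
      rw [Groth.Agent.Helper7.MeroReg.S12513_main X W hW]
      exact hb
    · obtain ⟨W₀, hxW₀, hfin⟩ := hF x.1
      obtain ⟨W, hWaff, hxW, hWUW₀⟩ :=
        (Opens.isBasis_iff_nbhd.mp X.isBasis_affineOpens)
          (show x.1 ∈ U ⊓ W₀ from ⟨x.2, hxW₀⟩)
      have hW : IsAffineOpen W := hWaff
      have hWU : W ≤ U := hWUW₀.trans inf_le_left
      haveI : _root_.IsReduced Γ(X, W) := inferInstance
      have hfinmin := finite_minimalPrimes_of_locallyFinite W hW W₀ (hWUW₀.trans inf_le_right) hfin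
      obtain ⟨hzd, hz⟩ := exists_regular_of_reduced hfinmin
      obtain ⟨b, hb, hbV⟩ := exists_regular_basicOpen_le W hW V (hV W hWU) hfinmin.toFinset
        (fun p hp => by
          have : p ∈ minimalPrimes Γ(X, W) := by simpa using hp
          exact this.1.1) hzd hz
      refine ⟨W, hW, hWU, hxW, b, ?_, hbV⟩
      rw [Groth.Agent.Helper7.MeroReg.S12513_main X W hW]
      exact hb
  choose W hW hWU hxW b hb hbV using hloc
  have hext : ∀ x : U, ∃ s : Γ(Mero.kmod X, W x), ∀ (y : W x) (hy : y.1 ∈ V),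
      s.1 y = LocalizedModule.mk (X.presheaf.germ V y.1 hy g) 1 := fun x =>
    exists_local_ext (W x) (hW x) V (b x) (hb x) (hbV x) g
  choose s hs using hext
  obtain ⟨t, ht⟩ := exists_glue U W hWU hxW s (fun x x' y h h' =>
    eq_of_eq_on_dense U V hV g (W x) (W x') (hWU x) (hWU x') (s x) (s x') (hs x) (hs x') y h h')
  refine ⟨t, Subtype.ext (funext fun y => ?_)⟩
  change t.1 ⟨y.1, hVU y.2⟩ = LocalizedModule.mk (X.presheaf.germ V y.1 y.2 g) 1
  have h1 := ht ⟨y.1, hVU y.2⟩ ⟨y.1, hxW ⟨y.1, hVU y.2⟩⟩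
  rw [h1]
  exact hs ⟨y.1, hVU y.2⟩ ⟨y.1, hxW ⟨y.1, hVU y.2⟩⟩ y.2

end Groth.Agent.Lead.MeroL
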