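import Mathlib
import Groth.Prelude.Def_MeroDiv
import Groth.Prelude.Def_CurvBase
import Groth.Prelude.Def_Coh
import Groth.Agent.Lib.Lead.MeroL11
import Groth.Agent.Lib.Helper7.CohStalk.WeakAssExact
import Groth.Agent.Lib.Helper7.CohStalk.StructureSheaf

/-!
# Meromorphic functions when the weakly associated points are generic (lead)
-/

set_option autoImplicit false
set_option backward.isDefEq.respectTransparency.types false
set_option synthInstance.maxHeartbeats 400000
set_option linter.style.haveILetI false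
set_option linter.unusedSectionVars false
universe u

open CategoryTheory CategoryTheory.Limits AlgebraicGeometry TopologicalSpace Opposite

namespace Groth.Agent.Lead.MeroL

section Ring

variable {A B : Type*} [CommRing A] [CommRing B] [Algebra A B]

/-- an element of a prime minimal over an annihilator stays a zero divisor in a localization at a
larger prime -/
theorem not_mem_nonZeroDivisors_of_minimal (P : Ideal A) [P.IsPrime] [IsLocalization.AtPrime B P]
    (I : Ideal A) (n : A) (hI : ∀ a, a ∈ I ↔ a * n = 0)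
    (p : Ideal A) (hp : p ∈ I.minimalPrimes) (hpP : p ≤ P) (f : A) (hf : f ∈ p) :
    algebraMap A B f ∉ nonZeroDivisors B := by
  have hpprime : p.IsPrime := hp.1.1
  let I' : Ideal A := LinearMap.ker (LinearMap.toSpanSingleton A B (algebraMap A B n))
  have hI' : ∀ a, a ∈ I' ↔ algebraMap A B (a * n) = 0 := by
    intro a
    rw [LinearMap.mem_ker, LinearMap.toSpanSingleton_apply, Algebra.smul_def, map_mul]
  have hII' : I ≤ I' := by
    intro a ha
    rw [hI'] 
    rw [(hI a).mp ha, map_zero]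
  have hI'p : I' ≤ p := by
    intro a ha
    rw [hI', IsLocalization.map_eq_zero_iff P.primeCompl B] at ha
    obtain ⟨t, ht⟩ := ha
    have h1 : (t : A) * a ∈ I := by
      rw [hI, mul_assoc]; exact ht
    have h2 : (t : A) * a ∈ p := hp.1.2 h1
    have h3 : (t : A) ∉ p := fun h => t.2 (hpP h)
    exact (hpprime.mem_or_mem h2).resolve_left h3
  have hp' : p ∈ I'.minimalPrimes :=
    ⟨⟨hpprime, hI'p⟩, fun q hq hqp => hp.2 ⟨hq.1, hII'.trans hq.2⟩ hqp⟩
  obtain ⟨y, hy, hfy⟩ := Ideal.exists_mul_mem_of_mem_minimalPrimes hp' hf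
  intro hnzd
  apply hy
  rw [hI']
  rw [hI'] at hfy
  apply (mem_nonZeroDivisors_iff_right.mp hnzd)
  rw [← map_mul, ← hfy]
  congr 1
  ring

/-- a zero divisor in a localization at a prime lies in a prime minimal over an annihilator -/
theorem exists_minimal_of_not_mem_nonZeroDivisors (P : Ideal A) [P.IsPrime]
    [IsLocalization.AtPrime B P] (f : A) (hf : algebraMap A B f ∉ nonZeroDivisors B) :
    ∃ (n : A) (q : Ideal A), q.IsPrime ∧ (∀ a : A, a * n = 0 → a ∈ q) ∧
      (∀ q' : Ideal A, q'.IsPrime → (∀ a : A, a * n = 0 → a ∈ q') → q' ≤ q → q ≤ q') ∧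
      q ≤ P ∧ f ∈ q := by
  rw [mem_nonZeroDivisors_iff_right] at hf
  simp only [not_forall] at hf
  obtain ⟨w, hw0, hw⟩ := hf
  obtain ⟨⟨n₀, s⟩, hs⟩ := IsLocalization.surj P.primeCompl w
  have hs' : w * algebraMap A B (s : A) = algebraMap A B n₀ := hs
  have hsu : IsUnit (algebraMap A B (s : A)) := IsLocalization.map_units B s
  have hn₀ : algebraMap A B n₀ ≠ 0 := by
    rw [← hs']
    intro h
    exact hw (hsu.mul_left_eq_zero.mp h)
  have hfn₀ : algebraMap A B (f * n₀) = 0 := by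
    rw [map_mul, ← hs', ← mul_assoc, mul_comm (algebraMap A B f), hw0, zero_mul]
  rw [IsLocalization.map_eq_zero_iff P.primeCompl B] at hfn₀
  obtain ⟨t, ht⟩ := hfn₀
  let n : A := (t : A) * n₀
  have hn : algebraMap A B n ≠ 0 := by
    change algebraMap A B ((t : A) * n₀) ≠ 0
    rw [map_mul]
    intro h
    exact hn₀ ((IsLocalization.map_units B t).mul_right_eq_zero.mp h)
  let I : Ideal A := LinearMap.ker (LinearMap.toSpanSingleton A A n)
  have hI : ∀ a, a ∈ I ↔ a * n = 0 := by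
    intro a
    rw [LinearMap.mem_ker, LinearMap.toSpanSingleton_apply, smul_eq_mul]
  have hIP : I ≤ P := by
    intro a ha
    by_contra haP
    have hau : IsUnit (algebraMap A B a) := IsLocalization.map_units B (⟨a, haP⟩ : P.primeCompl)
    have h1 : algebraMap A B a * algebraMap A B n = 0 := by
      rw [← map_mul, (hI a).mp ha, map_zero]
    exact hn (hau.mul_right_eq_zero.mp h1)
  obtain ⟨q, hq, hqP⟩ := Ideal.exists_minimalPrimes_le hIP
  refine ⟨n, q, hq.1.1, fun a ha => hq.1.2 ((hI a).mpr ha), fun q' hq' h hle => ?_, hqP, ?_⟩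
  · exact hq.2 ⟨hq', fun a ha => h a ((hI a).mp ha)⟩ hle
  · apply hq.1.2
    rw [hI]
    change f * ((t : A) * n₀) = 0
    rw [← ht]
    ring

end Ring

end Groth.Agent.Lead.MeroL

namespace Groth.Agent.Lead.MeroL

open Groth.Agent.Helper7.FinType

variable {X : Scheme.{u}}

/-- `p` is a prime minimal over the annihilator of some function -/
def WA (W : X.Opens) (p : Ideal Γ(X, W)) : Prop :=
  ∃ n : Γ(X, W), (∀ a : Γ(X, W), a * n = 0 → a ∈ p) ∧
    (∀ q' : Ideal Γ(X, W), q'.IsPrime → (∀ a : Γ(X, W), a * n = 0 → a ∈ q') → q' ≤ p → p ≤ q')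

set_option backward.isDefEq.respectTransparency false in
theorem isWeakAssPoint_of_WA (W : X.Opens) (hW : IsAffineOpen W) (p : Ideal Γ(X, W))
    (hp : p.IsPrime) (h : WA W p) :
    Curv2.IsWeakAssPoint (Coh.structureModule X) (hW.fromSpec ⟨p, hp⟩) := by
  obtain ⟨n, h1, h2⟩ := h
  have hmem : hW.fromSpec ⟨p, hp⟩ ∈ W := fromSpec_mem hW _
  rw [isWeakAssPoint_iff_exists_mem_minimalPrimes (Coh.structureModule X)
    (isQuasicoherent_structureModule X) hW _ hmem]
  refine ⟨n, ?_⟩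
  rw [primeIdealOf_fromSpec hW ⟨p, hp⟩ hmem]
  have hker : ∀ a : Γ(X, W), a ∈ LinearMap.ker (LinearMap.toSpanSingleton Γ(X, W)
      Γ(Coh.structureModule X, W) n) ↔ a * n = 0 := by
    intro a
    rw [LinearMap.mem_ker, LinearMap.toSpanSingleton_apply]
    rfl
  refine ⟨⟨hp, fun a ha => h1 a ((hker a).mp ha)⟩, fun q' hq' hle => ?_⟩
  exact h2 q' hq'.1 (fun a ha => hq'.2 ((hker a).mpr ha)) hle

set_option backward.isDefEq.respectTransparency false in
theorem mem_minimalPrimes_of_WA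
    (ha : ∀ x : ↥X, Curv2.IsWeakAssPoint (Coh.structureModule X) x → ∀ y : ↥X, y ⤳ x → y = x)
    (W : X.Opens) (hW : IsAffineOpen W) (p : Ideal Γ(X, W))
    (hp : p.IsPrime) (h : WA W p) : p ∈ minimalPrimes Γ(X, W) := by
  have hgen := ha _ (isWeakAssPoint_of_WA W hW p hp h)
  refine ⟨⟨hp, bot_le⟩, fun q' hq' hle => ?_⟩
  have hq'p : q'.IsPrime := hq'.1
  have hsp : hW.fromSpec ⟨q', hq'p⟩ ⤳ hW.fromSpec ⟨p, hp⟩ := by
    apply (hW.fromSpec.isOpenEmbedding.isInducing.specializes_iff).mpr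
    exact (PrimeSpectrum.le_iff_specializes (⟨q', hq'p⟩ : PrimeSpectrum Γ(X, W)) ⟨p, hp⟩).mp hle
  have heq := hgen _ hsp
  have h2 : (⟨q', hq'p⟩ : PrimeSpectrum Γ(X, W)) = ⟨p, hp⟩ :=
    hW.fromSpec.isOpenEmbedding.injective heq
  exact le_of_eq (congrArg PrimeSpectrum.asIdeal h2).symm

set_option backward.isDefEq.respectTransparency false in
/-- the stalk as a localization -/
theorem germ_not_mem_nonZeroDivisors_of_WA (W : X.Opens) (hW : IsAffineOpen W) (x : X)
    (hx : x ∈ W) (p : Ideal Γ(X, W)) (hp : p.IsPrime) (h : WA W p)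
    (hpx : p ≤ (hW.primeIdealOf ⟨x, hx⟩).asIdeal) (f : Γ(X, W)) (hf : f ∈ p) :
    X.presheaf.germ W x hx f ∉ nonZeroDivisors (X.presheaf.stalk x) := by
  obtain ⟨n, h1, h2⟩ := h
  let _ : Algebra Γ(X, W) (X.presheaf.stalk x) :=
    TopCat.Presheaf.algebra_section_stalk X.presheaf (⟨x, hx⟩ : W)
  haveI hloc : IsLocalization.AtPrime (X.presheaf.stalk x) (hW.primeIdealOf ⟨x, hx⟩).asIdeal :=
    hW.isLocalization_stalk ⟨x, hx⟩
  let I : Ideal Γ(X, W) := LinearMap.ker (LinearMap.toSpanSingleton Γ(X, W) Γ(X, W) n)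
  have hI : ∀ a, a ∈ I ↔ a * n = 0 := by
    intro a
    rw [LinearMap.mem_ker, LinearMap.toSpanSingleton_apply, smul_eq_mul]
  have hpmin : p ∈ I.minimalPrimes :=
    ⟨⟨hp, fun a ha => h1 a ((hI a).mp ha)⟩, fun q' hq' hle =>
      h2 q' hq'.1 (fun a ha => hq'.2 ((hI a).mpr ha)) hle⟩
  exact not_mem_nonZeroDivisors_of_minimal (B := X.presheaf.stalk x)
    (hW.primeIdealOf ⟨x, hx⟩).asIdeal I n hI p hpmin hpx f hf

set_option backward.isDefEq.respectTransparency false in
theorem exists_WA_of_germ_not_mem_nonZeroDivisors (W : X.Opens) (hW : IsAffineOpen W) (y : X)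
    (hy : y ∈ W) (f : Γ(X, W))
    (hf : X.presheaf.germ W y hy f ∉ nonZeroDivisors (X.presheaf.stalk y)) :
    ∃ q : Ideal Γ(X, W), q.IsPrime ∧ WA W q ∧ q ≤ (hW.primeIdealOf ⟨y, hy⟩).asIdeal ∧ f ∈ q := by
  let _ : Algebra Γ(X, W) (X.presheaf.stalk y) :=
    TopCat.Presheaf.algebra_section_stalk X.presheaf (⟨y, hy⟩ : W)
  haveI hloc : IsLocalization.AtPrime (X.presheaf.stalk y) (hW.primeIdealOf ⟨y, hy⟩).asIdeal :=
    hW.isLocalization_stalk ⟨y, hy⟩
  obtain ⟨n, q, hq, h1, h2, hqP, hfq⟩ := exists_minimal_of_not_mem_nonZeroDivisors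
    (B := X.presheaf.stalk y) (hW.primeIdealOf ⟨y, hy⟩).asIdeal f hf
  exact ⟨q, hq, ⟨n, h1, h2⟩, hqP, hfq⟩

end Groth.Agent.Lead.MeroL

namespace Groth.Agent.Lead.MeroL

variable {X : Scheme.{u}}

theorem finite_minimalPrimes_of_finite_irreducibleComponents (W : X.Opens) (hW : IsAffineOpen W)
    (hfin : (irreducibleComponents ↥(W : Scheme.{u})).Finite) :
    (minimalPrimes Γ(X, W)).Finite := by
  let h : ↥(W : Scheme.{u}) ≃ₜ PrimeSpectrum Γ(X, W) := Scheme.homeoOfIso hW.isoSpec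
  let φ : irreducibleComponents (PrimeSpectrum Γ(X, W)) → irreducibleComponents ↥(W : Scheme.{u}) :=
    fun t => ⟨h ⁻¹' t.1, preimage_mem_irreducibleComponents t.2 h.isOpenEmbedding (by
      rw [h.surjective.range_eq, Set.inter_univ]
      exact t.2.1.nonempty)⟩
  have hφ : Function.Injective φ := by
    intro t t' e
    have e' : h ⁻¹' t.1 = h ⁻¹' t'.1 := congrArg Subtype.val e
    exact Subtype.ext (Set.preimage_injective.mpr h.surjective e')
  haveI : Finite (irreducibleComponents ↥(W : Scheme.{u})) := hfin.to_subtype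
  haveI : Finite (irreducibleComponents (PrimeSpectrum Γ(X, W))) := Finite.of_injective φ hφ
  have e := minimalPrimes.equivIrreducibleComponents Γ(X, W)
  haveI : Finite ((irreducibleComponents (PrimeSpectrum Γ(X, W)))ᵒᵈ) :=
    inferInstanceAs (Finite (irreducibleComponents (PrimeSpectrum Γ(X, W))))
  exact Set.finite_coe_iff.mp (Finite.of_equiv _ e.symm.toEquiv)

end Groth.Agent.Lead.MeroL

namespace Groth.Agent.Lead.MeroL

open Groth.Agent.Helper7.FinType

variable {X : Scheme.{u}}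

set_option backward.isDefEq.respectTransparency false in
/-- part 1 of S8904 -/
theorem regStalk_eq_of_generic
    (ha : ∀ x : ↥X, Curv2.IsWeakAssPoint (Coh.structureModule X) x → ∀ y : ↥X, y ⤳ x → y = x)
    (hb : ∀ U : X.Opens, IsCompact (U : Set ↥X) → (irreducibleComponents ↥(U : Scheme.{u})).Finite)
    (x : X) : Mero.regStalk X x = nonZeroDivisors ↑(X.presheaf.stalk x) := by
  classical
  apply le_antisymm (Mero.regStalk_le_nonZeroDivisors x)
  intro g hg
  obtain ⟨V, hxV, f₀, rfl⟩ := X.presheaf.exists_germ_eq g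
  obtain ⟨_, ⟨W, hW, rfl⟩, hxW, hWV⟩ :=
    X.isBasis_affineOpens.exists_subset_of_mem_open hxV V.2
  have hWV' : W ≤ V := hWV
  have hxW' : x ∈ W := hxW
  let f : Γ(X, W) := X.presheaf.map (homOfLE hWV').op f₀
  have hfg : X.presheaf.germ W x hxW' f = X.presheaf.germ V x hxV f₀ :=
    TopCat.Presheaf.germ_res_apply _ _ _ _ _
  rw [← hfg] at hg ⊢
  have hfinmin := finite_minimalPrimes_of_finite_irreducibleComponents W hW (hb W hW.isCompact)
  let T : Finset (Ideal Γ(X, W)) := hfinmin.toFinset.filter (fun p => f ∈ p ∧ WA W p)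
  have hTprime : ∀ p ∈ T, p.IsPrime := by
    intro p hp
    have h1 : p ∈ minimalPrimes Γ(X, W) := by
      have := (Finset.mem_filter.mp hp).1
      simpa using this
    exact h1.1.1
  have hPx : (hW.primeIdealOf ⟨x, hxW'⟩).asIdeal.IsPrime := (hW.primeIdealOf ⟨x, hxW'⟩).isPrime
  have hnot : ¬ (T.inf id ≤ (hW.primeIdealOf ⟨x, hxW'⟩).asIdeal) := by
    intro hle
    obtain ⟨p, hpT, hpx⟩ := (Ideal.IsPrime.inf_le' hPx).mp hle
    have hp2 := (Finset.mem_filter.mp hpT).2
    exact germ_not_mem_nonZeroDivisors_of_WA W hW x hxW' p (hTprime p hpT) hp2.2 hpx f hp2.1 hg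
  obtain ⟨a, haT, hax⟩ := SetLike.not_le_iff_exists.mp hnot
  have hxa : x ∈ X.basicOpen a :=
    (X.mem_basicOpen a x hxW').mpr ((notMem_primeIdealOf_iff hW x hxW' a).mp hax)
  refine ⟨X.basicOpen a, hxa, X.presheaf.map (homOfLE (X.basicOpen_le a)).op f, ?_, ?_⟩
  · intro y
    have hyW : y.1 ∈ W := X.basicOpen_le a y.2
    change X.presheaf.germ (X.basicOpen a) y.1 y.2
      (X.presheaf.map (homOfLE (X.basicOpen_le a)).op f) ∈ _
    rw [TopCat.Presheaf.germ_res_apply]
    by_contra hcon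
    obtain ⟨q, hq, hqWA, hqy, hfq⟩ := exists_WA_of_germ_not_mem_nonZeroDivisors W hW y.1 hyW f hcon
    have hqmin := mem_minimalPrimes_of_WA ha W hW q hq hqWA
    have hqT : q ∈ T := Finset.mem_filter.mpr ⟨by simpa using hqmin, hfq, hqWA⟩
    have haq : a ∈ q := by
      have h1 : T.inf id ≤ id q := Finset.inf_le hqT
      exact h1 haT
    have hu : IsUnit (X.presheaf.germ W y.1 hyW a) := (X.mem_basicOpen a y.1 hyW).mp y.2
    exact ((notMem_primeIdealOf_iff hW y.1 hyW a).mpr hu) (hqy haq)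
  · exact TopCat.Presheaf.germ_res_apply _ _ _ _ _

theorem range_algebraMap_of_units (x : X)
    (h : ∀ r ∈ nonZeroDivisors (X.presheaf.stalk x), IsUnit r)
    (k : Mero.KStalk X x) :
    k ∈ (algebraMap (X.presheaf.stalk x) (Mero.KStalk X x)).range := by
  induction k using LocalizedModule.induction_on with
  | h m s =>
    have hs : IsUnit (s : X.presheaf.stalk x) :=
      h _ (Mero.regStalk_le_nonZeroDivisors x s.2)
    obtain ⟨v, hv⟩ := hs
    refine ⟨((v⁻¹ : (X.presheaf.stalk x)ˣ) : X.presheaf.stalk x) * m, ?_⟩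
    refine ((mk_eq_algebraMap_iff x m _ s).mpr ?_).symm
    rw [← hv, ← mul_assoc, Units.mul_inv, one_mul]

set_option backward.isDefEq.respectTransparency false in
/-- general form of the existence of a regular denominator -/
theorem exists_nonZeroDivisor_mem_denom_of (U : X.Opens) (hU : IsAffineOpen U)
    (t : Γ(Mero.kmod X, U))
    (S : Finset (Ideal Γ(X, U))) (hprime : ∀ p ∈ S, p.IsPrime)
    (hzd : ∀ f : Γ(X, U), f ∉ nonZeroDivisors Γ(X, U) → ∃ p ∈ S, f ∈ p)
    (hrange : ∀ p ∈ S, ∀ hp : p.IsPrime, ∀ k : Mero.KStalk X (hU.fromSpec ⟨p, hp⟩),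
      k ∈ (algebraMap (X.presheaf.stalk (hU.fromSpec ⟨p, hp⟩))
        (Mero.KStalk X (hU.fromSpec ⟨p, hp⟩))).range) :
    ∃ b ∈ denom U t, b ∈ nonZeroDivisors Γ(X, U) := by
  by_contra hcon
  have hsub : ((denom U t : Ideal Γ(X, U)) : Set Γ(X, U)) ⊆
      ⋃ p ∈ (S : Set (Ideal Γ(X, U))), ((id p : Ideal Γ(X, U)) : Set Γ(X, U)) := by
    intro b hb
    have h1 : b ∉ nonZeroDivisors Γ(X, U) := fun h => hcon ⟨b, hb, h⟩
    obtain ⟨p, hp, hbp⟩ := hzd b h1
    exact Set.mem_iUnion₂.mpr ⟨p, hp, hbp⟩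
  obtain ⟨p, hp, hle⟩ := (Ideal.subset_union_prime (R := Γ(X, U)) (s := S)
    (f := id) ⊥ ⊥ (fun i hi _ _ => hprime i hi)).mp hsub
  have hpp : p.IsPrime := hprime p hp
  let q : PrimeSpectrum Γ(X, U) := ⟨p, hpp⟩
  let x : X := hU.fromSpec q
  have hxU : x ∈ U := Groth.Agent.Helper7.MeroK.fromSpec_mem hU q
  obtain ⟨N, hN, hxN, c, hc⟩ := exists_nhd_toK_eq U t ⟨x, hxU⟩ (hrange p hp hpp _)
  obtain ⟨g, hgN, hxg⟩ := hU.exists_basicOpen_le (V := N) ⟨x, hxN⟩ hxU
  have hgp : g ∉ p := by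
    have h1 : q ∈ hU.fromSpec ⁻¹ᵁ X.basicOpen g := hxg
    rw [hU.fromSpec_preimage_basicOpen] at h1
    exact h1
  have hloc := hU.isLocalization_basicOpen g
  obtain ⟨⟨c', ⟨_, m, rfl⟩⟩, hc'⟩ := IsLocalization.surj (M := Submonoid.powers g)
    (X.presheaf.map (homOfLE hgN).op c)
  have hc'' : X.presheaf.map (homOfLE hgN).op c *
      X.presheaf.map (homOfLE (X.basicOpen_le g)).op (g ^ m) =
      X.presheaf.map (homOfLE (X.basicOpen_le g)).op c' := hc'
  let u : Γ(Mero.kmod X, U) := Mero.toK X U (g ^ m) * t - Mero.toK X U c'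
  have hu : ∀ y : U, y.1 ∈ X.basicOpen g → u.1 y = 0 := by
    intro y hy
    have hyN : y.1 ∈ N := hgN hy
    have h1 : t.1 y = LocalizedModule.mk (X.presheaf.germ N y.1 hyN c) 1 := hc ⟨y.1, hyN⟩
    change (Mero.toK X U (g ^ m)).1 y * t.1 y - (Mero.toK X U c').1 y = 0
    rw [h1, Mero.toK_apply, Mero.toK_apply, algebraMap_mul_mk, sub_eq_zero]
    refine Mero.mk_congr ?_ rfl
    have e1 : X.presheaf.germ N y.1 hyN c =
        X.presheaf.germ (X.basicOpen g) y.1 hy (X.presheaf.map (homOfLE hgN).op c) :=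
      (TopCat.Presheaf.germ_res_apply X.presheaf (homOfLE hgN) y.1 hy c).symm
    have e2 : X.presheaf.germ U y.1 y.2 (g ^ m) = X.presheaf.germ (X.basicOpen g) y.1 hy
        (X.presheaf.map (homOfLE (X.basicOpen_le g)).op (g ^ m)) :=
      (TopCat.Presheaf.germ_res_apply X.presheaf (homOfLE (X.basicOpen_le g)) y.1 hy _).symm
    have e3 : X.presheaf.germ U y.1 y.2 c' = X.presheaf.germ (X.basicOpen g) y.1 hy
        (X.presheaf.map (homOfLE (X.basicOpen_le g)).op c') :=
      (TopCat.Presheaf.germ_res_apply X.presheaf (homOfLE (X.basicOpen_le g)) y.1 hy _).symm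
    rw [e1, e2, e3, ← hc'', map_mul, mul_comm]
  obtain ⟨n, hn⟩ := pow_mul_eq_zero_of_compact U hU.isCompact g u hu
  have hmem : g ^ (n + m) ∈ denom U t := by
    refine ⟨g ^ n * c', ?_⟩
    have h2 : Mero.toK X U g ^ n * (Mero.toK X U (g ^ m) * t) =
        Mero.toK X U g ^ n * Mero.toK X U c' := by
      have := hn
      rw [mul_sub, sub_eq_zero] at this
      exact this
    calc Mero.toK X U (g ^ (n + m)) * t
        = Mero.toK X U g ^ n * (Mero.toK X U (g ^ m) * t) := by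
          rw [pow_add, map_mul, map_pow, mul_assoc]
      _ = Mero.toK X U g ^ n * Mero.toK X U c' := h2
      _ = Mero.toK X U (g ^ n * c') := by rw [map_mul, map_pow]
  exact hgp (hpp.mem_of_pow_mem _ (hle hmem))

set_option backward.isDefEq.respectTransparency false in
theorem isLocalization_of_denom (U : X.Opens) (hU : IsAffineOpen U)
    (hden : ∀ t : Γ(Mero.kmod X, U), ∃ b ∈ denom U t, b ∈ nonZeroDivisors Γ(X, U)) :
    @IsLocalization Γ(X, U) _ (nonZeroDivisors Γ(X, U)) Γ(Mero.kmod X, U) _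
      (Mero.toK X U).toAlgebra := by
  letI : Algebra Γ(X, U) Γ(Mero.kmod X, U) := (Mero.toK X U).toAlgebra
  have hreg := Groth.Agent.Helper7.MeroReg.S12513_main X U hU
  refine ⟨?_, ?_, ?_⟩
  · intro y
    change IsUnit (Mero.toK X U y.1)
    exact isUnit_toK_of_mem_regSub U y.1 (by rw [hreg]; exact y.2)
  · intro z
    obtain ⟨b, ⟨c, hc⟩, hb⟩ := hden z
    refine ⟨(c, ⟨b, hb⟩), ?_⟩
    change z * Mero.toK X U b = Mero.toK X U c
    rw [mul_comm]
    exact hc
  · intro a a' h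
    have h' : Mero.toK X U a = Mero.toK X U a' := h
    exact ⟨1, by rw [toK_injective U h']⟩

set_option backward.isDefEq.respectTransparency false in
theorem S8904_main (X : Scheme.{u})
    (ha : ∀ x : ↥X, Curv2.IsWeakAssPoint (Coh.structureModule X) x → ∀ y : ↥X, y ⤳ x → y = x)
    (hb : ∀ U : X.Opens, IsCompact (U : Set ↥X) → (irreducibleComponents ↥(U : Scheme.{u})).Finite) :
    (∀ x : ↥X, Mero.regStalk X x = nonZeroDivisors ↑(X.presheaf.stalk x)) ∧
      ∀ U : X.affineOpens,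
        @IsLocalization Γ(X, U.1) _ (nonZeroDivisors Γ(X, U.1)) Γ(Mero.kmod X, U.1) _
          (Mero.toK X U.1).toAlgebra := by
  refine ⟨regStalk_eq_of_generic ha hb, fun U => ?_⟩
  have hU : IsAffineOpen U.1 := U.2
  have hfinmin := finite_minimalPrimes_of_finite_irreducibleComponents U.1 hU (hb U.1 hU.isCompact)
  apply isLocalization_of_denom U.1 hU
  intro t
  refine exists_nonZeroDivisor_mem_denom_of U.1 hU t hfinmin.toFinset ?_ ?_ ?_
  · intro p hp
    have : p ∈ minimalPrimes Γ(X, U.1) := by simpa using hp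
    exact this.1.1
  · intro f hf
    rw [mem_nonZeroDivisors_iff_right] at hf
    simp only [not_forall] at hf
    obtain ⟨z, hz0, hz⟩ := hf
    let I : Ideal Γ(X, U.1) := LinearMap.ker (LinearMap.toSpanSingleton Γ(X, U.1) Γ(X, U.1) z)
    have hI : ∀ a, a ∈ I ↔ a * z = 0 := by
      intro a
      rw [LinearMap.mem_ker, LinearMap.toSpanSingleton_apply, smul_eq_mul]
    have hIne : I ≠ ⊤ := by
      intro h
      have h1 : (1 : Γ(X, U.1)) ∈ I := by rw [h]; trivial
      rw [hI, one_mul] at h1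
      exact hz h1
    obtain ⟨q, hq⟩ := Ideal.nonempty_minimalPrimes hIne
    have hqWA : WA U.1 q := ⟨z, fun a ha => hq.1.2 ((hI a).mpr ha), fun q' hq' h hle =>
      hq.2 ⟨hq', fun a ha => h a ((hI a).mp ha)⟩ hle⟩
    have hqmin := mem_minimalPrimes_of_WA ha U.1 hU q hq.1.1 hqWA
    refine ⟨q, by simpa using hqmin, hq.1.2 ((hI f).mpr ?_)⟩
    rw [mul_comm]; exact hz0
  · intro p hp hpp k
    have hpmin : p ∈ minimalPrimes Γ(X, U.1) := by simpa using hp
    apply range_algebraMap_of_units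
    intro r hr
    exact Groth.Agent.Helper7.MeroK.isUnit_of_mem_nonZeroDivisors_of_prime_unique
      (Groth.Agent.Helper7.MeroK.stalk_prime_unique _
        (fun z hz => fromSpec_minimal_generization U.1 hU p hpmin hpp z hz)) r hr

end Groth.Agent.Lead.MeroL
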