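import Mathlib
import Groth.Prelude.Def_MeroDiv
import Groth.Agent.Lib.Lead.MeroL13
import Groth.Agent.Lib.Helper4.MeroReg1

/-!
# Divisors on absolute curves (lead)
-/

set_option autoImplicit false
set_option backward.isDefEq.respectTransparency.types false
set_option synthInstance.maxHeartbeats 400000
set_option linter.style.haveILetI false
set_option linter.unusedSectionVars false
universe u

open CategoryTheory CategoryTheory.Limits AlgebraicGeometry TopologicalSpace Opposite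

namespace Groth.Agent.Lead.MeroL

open Groth.Agent.Helper7.FinType

variable {C : Scheme.{u}}

set_option backward.isDefEq.respectTransparency false in
/-- on a Noetherian scheme whose closed points have one-dimensional local rings, a point whose
local ring has a nonunit nonzerodivisor is closed -/
theorem isClosed_singleton_of_nonunit_nzd [IsNoetherian C]
    (hC : ∀ x : C, IsClosed ({x} : Set C) → ringKrullDim (C.presheaf.stalk x) = 1)
    (p : C) (φ : C.presheaf.stalk p) (hφ : φ ∈ nonZeroDivisors (C.presheaf.stalk p))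
    (hnu : ¬ IsUnit φ) : IsClosed ({p} : Set C) := by
  obtain ⟨x, hxmem, hxcl⟩ := IsClosed.exists_closed_singleton
    (isClosed_closure : IsClosed (closure ({p} : Set C))) ⟨p, subset_closure rfl⟩
  have hsp : p ⤳ x := specializes_iff_mem_closure.mpr hxmem
  obtain ⟨_, ⟨W, hW, rfl⟩, hxW, -⟩ :=
    C.isBasis_affineOpens.exists_subset_of_mem_open (Set.mem_univ x) isOpen_univ
  have hxW' : x ∈ W := hxW
  have hpW : p ∈ W := hsp.mem_open W.2 hxW'
  haveI : IsNoetherianRing Γ(C, W) := IsLocallyNoetherian.component_noetherian ⟨W, hW⟩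
  have h1p : hW.fromSpec (hW.primeIdealOf ⟨p, hpW⟩) = p := hW.fromSpec_primeIdealOf ⟨p, hpW⟩
  have h1x : hW.fromSpec (hW.primeIdealOf ⟨x, hxW'⟩) = x := hW.fromSpec_primeIdealOf ⟨x, hxW'⟩
  have hle : hW.primeIdealOf ⟨p, hpW⟩ ≤ hW.primeIdealOf ⟨x, hxW'⟩ := by
    rw [← h1p, ← h1x] at hsp
    have h2 := (hW.fromSpec.isOpenEmbedding.isInducing.specializes_iff).mp hsp
    exact (PrimeSpectrum.le_iff_specializes _ _).mpr h2
  by_cases heq : hW.primeIdealOf ⟨p, hpW⟩ = hW.primeIdealOf ⟨x, hxW'⟩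
  · have : p = x := by rw [← h1p, ← h1x, heq]
    rw [this]; exact hxcl
  · exfalso
    have hlt : (hW.primeIdealOf ⟨p, hpW⟩).asIdeal < (hW.primeIdealOf ⟨x, hxW'⟩).asIdeal :=
      lt_of_le_of_ne hle (fun h => heq (PrimeSpectrum.ext h))
    let _ : Algebra Γ(C, W) (C.presheaf.stalk x) :=
      TopCat.Presheaf.algebra_section_stalk C.presheaf (⟨x, hxW'⟩ : W)
    haveI hloc : IsLocalization.AtPrime (C.presheaf.stalk x)
        (hW.primeIdealOf ⟨x, hxW'⟩).asIdeal := hW.isLocalization_stalk ⟨x, hxW'⟩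
    have hdim := IsLocalization.AtPrime.ringKrullDim_eq_height
      (hW.primeIdealOf ⟨x, hxW'⟩).asIdeal (C.presheaf.stalk x)
    rw [hC x hxcl] at hdim
    have hht : (hW.primeIdealOf ⟨x, hxW'⟩).asIdeal.height = 1 := by
      have : ((1 : ℕ∞) : WithBot ℕ∞) = ((hW.primeIdealOf ⟨x, hxW'⟩).asIdeal.height : WithBot ℕ∞) := by
        exact_mod_cast hdim
      exact (WithBot.coe_injective this).symm
    have hlt' := Ideal.height_strict_mono_of_isPrime_of_isPrime hlt
    rw [hht] at hlt'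
    have h0 : (hW.primeIdealOf ⟨p, hpW⟩).asIdeal.height = 0 := ENat.lt_one_iff_eq_zero.mp hlt'
    have hmin : (hW.primeIdealOf ⟨p, hpW⟩).asIdeal ∈ minimalPrimes Γ(C, W) :=
      Ideal.height_eq_zero_iff.mp h0
    have hgen : ∀ z : C, z ⤳ p → z = p := by
      intro z hz
      have := fromSpec_minimal_generization W hW _ hmin (hW.primeIdealOf ⟨p, hpW⟩).isPrime z
        (by rw [h1p]; exact hz)
      rw [this]; exact h1p
    exact hnu (Groth.Agent.Helper7.MeroK.isUnit_of_mem_nonZeroDivisors_of_prime_unique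
      (Groth.Agent.Helper7.MeroK.stalk_prime_unique p hgen) φ hφ)

set_option backward.isDefEq.respectTransparency false in
/-- the zero locus of a regular function on an affine open of an absolute curve is a finite set
of closed points -/
theorem finite_compl_basicOpen [IsNoetherian C]
    (hC : ∀ x : C, IsClosed ({x} : Set C) → ringKrullDim (C.presheaf.stalk x) = 1)
    (W : C.Opens) (hW : IsAffineOpen W) (a : Γ(C, W)) (ha : a ∈ Mero.regSub C W) :
    {y : C | y ∈ W ∧ y ∉ C.basicOpen a}.Finite ∧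
      ∀ y : C, y ∈ W → y ∉ C.basicOpen a → IsClosed ({y} : Set C) := by
  haveI : IsNoetherianRing Γ(C, W) := IsLocallyNoetherian.component_noetherian ⟨W, hW⟩
  have hcl : ∀ y : C, y ∈ W → y ∉ C.basicOpen a → IsClosed ({y} : Set C) := by
    intro y hyW hya
    refine isClosed_singleton_of_nonunit_nzd hC y (C.presheaf.germ W y hyW a) (ha ⟨y, hyW⟩) ?_
    intro hu
    exact hya ((C.mem_basicOpen a y hyW).mpr hu)
  refine ⟨?_, hcl⟩
  have hfin := Ideal.finite_minimalPrimes_of_isNoetherianRing Γ(C, W) (Ideal.span {a})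
  have hmem : ∀ y : C, ∀ hyW : y ∈ W, y ∉ C.basicOpen a →
      (hW.primeIdealOf ⟨y, hyW⟩).asIdeal ∈ (Ideal.span {a}).minimalPrimes := by
    intro y hyW hya
    have hay : a ∈ (hW.primeIdealOf ⟨y, hyW⟩).asIdeal := by
      by_contra h
      exact hya ((C.mem_basicOpen a y hyW).mpr ((notMem_primeIdealOf_iff hW y hyW a).mp h))
    have hle : Ideal.span {a} ≤ (hW.primeIdealOf ⟨y, hyW⟩).asIdeal :=
      (Ideal.span_singleton_le_iff_mem _).mpr hay
    obtain ⟨q, hq, hqle⟩ := Ideal.exists_minimalPrimes_le hle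
    have hqprime : q.IsPrime := hq.1.1
    -- the point of `q` is closed in `C`, hence `q` is maximal among primes below
    let z : C := hW.fromSpec ⟨q, hqprime⟩
    have hzW : z ∈ W := fromSpec_mem hW _
    have hpz : hW.primeIdealOf ⟨z, hzW⟩ = ⟨q, hqprime⟩ := primeIdealOf_fromSpec hW _ hzW
    have hza : z ∉ C.basicOpen a := by
      intro h
      have hu := (C.mem_basicOpen a z hzW).mp h
      have := (notMem_primeIdealOf_iff hW z hzW a).mpr hu
      rw [hpz] at this
      exact this (hq.1.2 (Ideal.subset_span rfl))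
    have hzcl := hcl z hzW hza
    have hsp : z ⤳ y := by
      have h1y : hW.fromSpec (hW.primeIdealOf ⟨y, hyW⟩) = y := hW.fromSpec_primeIdealOf ⟨y, hyW⟩
      rw [← h1y]
      apply (hW.fromSpec.isOpenEmbedding.isInducing.specializes_iff).mpr
      exact (PrimeSpectrum.le_iff_specializes (⟨q, hqprime⟩ : PrimeSpectrum Γ(C, W)) _).mp hqle
    have hyz : y = z := by
      have : y ∈ closure ({z} : Set C) := specializes_iff_mem_closure.mp hsp
      rw [hzcl.closure_eq] at this
      exact this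
    have : (hW.primeIdealOf ⟨y, hyW⟩).asIdeal = q := by
      have h2 : hW.primeIdealOf ⟨y, hyW⟩ = hW.primeIdealOf ⟨z, hzW⟩ := by
        congr 1
        exact Subtype.ext hyz
      rw [h2, hpz]
    rw [this]
    exact hq
  let ψ : {y : C | y ∈ W ∧ y ∉ C.basicOpen a} → (Ideal.span {a}).minimalPrimes :=
    fun y => ⟨(hW.primeIdealOf ⟨y.1, y.2.1⟩).asIdeal, hmem y.1 y.2.1 y.2.2⟩
  have hψ : Function.Injective ψ := by
    intro y y' h
    have h1 : (hW.primeIdealOf ⟨y.1, y.2.1⟩).asIdeal = (hW.primeIdealOf ⟨y'.1, y'.2.1⟩).asIdeal :=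
      congrArg Subtype.val h
    have h2 : hW.primeIdealOf ⟨y.1, y.2.1⟩ = hW.primeIdealOf ⟨y'.1, y'.2.1⟩ := PrimeSpectrum.ext h1
    have h3 := congrArg hW.fromSpec h2
    rw [hW.fromSpec_primeIdealOf, hW.fromSpec_primeIdealOf] at h3
    exact Subtype.ext h3
  haveI : Finite (Ideal.span {a}).minimalPrimes := hfin.to_subtype
  exact Set.finite_coe_iff.mp (Finite.of_injective ψ hψ)

end Groth.Agent.Lead.MeroL

namespace Groth.Agent.Lead.MeroL

open Groth.Agent.Helper7.FinType

section FracSec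

variable {X : Scheme.{u}} (U : X.Opens) (a b : Mero.regSub X U)

/-- the unit `a / b` of `Γ(U, K_X)` for regular `a`, `b` -/
noncomputable def fracSec : (Γ(Mero.kmod X, U))ˣ :=
  (isUnit_toK_of_mem_regSub U a.1 a.2).unit * ((isUnit_toK_of_mem_regSub U b.1 b.2).unit)⁻¹

theorem inv_unit_toK_apply (y : U) :
    ((((isUnit_toK_of_mem_regSub U b.1 b.2).unit)⁻¹ : (Γ(Mero.kmod X, U))ˣ) :
      Γ(Mero.kmod X, U)).1 y = LocalizedModule.mk 1 (Mero.regGerm y b) := by
  set ub := (isUnit_toK_of_mem_regSub U b.1 b.2).unit with hub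
  have h1 : (ub : Γ(Mero.kmod X, U)).1 y * ((ub⁻¹ : (Γ(Mero.kmod X, U))ˣ) :
      Γ(Mero.kmod X, U)).1 y = 1 := by
    rw [← Mero.kmod_mul_apply, Units.mul_inv, Mero.kmod_one_apply]
  have h2 : (ub : Γ(Mero.kmod X, U)).1 y =
      ((fracUnit y.1 (Mero.regGerm y b) 1 : (Mero.KStalk X y.1)ˣ) : Mero.KStalk X y.1) := by
    rw [hub, IsUnit.unit_spec, Mero.toK_apply, fracUnit_val]
  rw [h2] at h1
  have h3 := congrArg (fun t => ((fracUnit y.1 (Mero.regGerm y b) 1)⁻¹ : (Mero.KStalk X y.1)ˣ).val * t) h1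
  simp only [← mul_assoc, Units.inv_mul, one_mul, mul_one] at h3
  rw [h3]
  rfl

theorem germOf_fracSec (y : U) :
    Mero.germOf (fracSec U a b) y =
      QuotientGroup.mk (fracUnit y.1 (Mero.regGerm y a) (Mero.regGerm y b)) := by
  refine congrArg _ (Units.ext ?_)
  change ((fracSec U a b : (Γ(Mero.kmod X, U))ˣ) : Γ(Mero.kmod X, U)).1 y = _
  rw [fracSec, Units.val_mul, Mero.kmod_mul_apply, inv_unit_toK_apply, IsUnit.unit_spec,
    Mero.toK_apply, fracUnit_val, algebraMap_mul_mk, mul_one]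

end FracSec

variable {C : Scheme.{u}}

/-- where both `a` and `b` are invertible the divisor of `a / b` is trivial -/
theorem germ_fracUnit_eq_one_of_isUnit (y : C) (α β : Mero.regStalk C y)
    (hα : IsUnit (α : C.presheaf.stalk y)) (hβ : IsUnit (β : C.presheaf.stalk y)) :
    (QuotientGroup.mk (fracUnit y α β) : Mero.Germ C y) = 1 := by
  rw [germ_fracUnit_eq_one_iff]
  obtain ⟨u, hu⟩ := hα
  obtain ⟨v, hv⟩ := hβ
  refine ⟨v⁻¹ * u, ?_⟩
  rw [← hu, ← hv, Units.val_mul, ← mul_assoc, Units.mul_inv, one_mul]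

set_option backward.isDefEq.respectTransparency false in
theorem S10892_mp [IsNoetherian C]
    (hC : ∀ x : C, IsClosed ({x} : Set C) → ringKrullDim (C.presheaf.stalk x) = 1)
    (g : ∀ x : C, Mero.Germ C x) (hg : g ∈ Mero.divisorGroup C) :
    {x : C | g x ≠ 1}.Finite ∧ ∀ x : C, ¬ IsClosed ({x} : Set C) → g x = 1 := by
  let D : Mero.Divisor C := ⟨g, hg⟩
  choose W hW hxW a b hab using exists_localEq D
  let B : C → Set C := fun x => {y : C | y ∈ W x ∧ y ∉ C.basicOpen (a x).1} ∪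
    {y : C | y ∈ W x ∧ y ∉ C.basicOpen (b x).1}
  have hBfin : ∀ x, (B x).Finite := fun x =>
    (finite_compl_basicOpen hC (W x) (hW x) (a x).1 (a x).2).1.union
      (finite_compl_basicOpen hC (W x) (hW x) (b x).1 (b x).2).1
  have hBcl : ∀ x, ∀ y ∈ B x, IsClosed ({y} : Set C) := by
    intro x y hy
    rcases hy with hy | hy
    · exact (finite_compl_basicOpen hC (W x) (hW x) (a x).1 (a x).2).2 y hy.1 hy.2
    · exact (finite_compl_basicOpen hC (W x) (hW x) (b x).1 (b x).2).2 y hy.1 hy.2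
  have hkey : ∀ x, ∀ y ∈ W x, g y ≠ 1 → y ∈ B x := by
    intro x y hyW hgy
    by_contra hyB
    apply hgy
    have hya : y ∈ C.basicOpen (a x).1 := by
      by_contra h
      exact hyB (Or.inl ⟨hyW, h⟩)
    have hyb : y ∈ C.basicOpen (b x).1 := by
      by_contra h
      exact hyB (Or.inr ⟨hyW, h⟩)
    have h1 : g y = _ := hab x ⟨y, hyW⟩
    rw [h1]
    exact germ_fracUnit_eq_one_of_isUnit y _ _ ((C.mem_basicOpen (a x).1 y hyW).mp hya)
      ((C.mem_basicOpen (b x).1 y hyW).mp hyb)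
  obtain ⟨t, ht⟩ := CompactSpace.elim_nhds_subcover (fun x => (W x : Set C))
    (fun x => (W x).2.mem_nhds (hxW x))
  have hcov : ∀ y : C, ∃ x ∈ t, y ∈ W x := by
    intro y
    have hy : y ∈ ⋃ x ∈ t, (W x : Set C) := by rw [ht]; trivial
    obtain ⟨x, hxt, hyx⟩ := Set.mem_iUnion₂.mp hy
    exact ⟨x, hxt, hyx⟩
  constructor
  · refine (Set.Finite.biUnion t.finite_toSet (fun x _ => hBfin x)).subset ?_
    intro y hy
    obtain ⟨x, hxt, hyx⟩ := hcov y
    exact Set.mem_iUnion₂.mpr ⟨x, hxt, hkey x y hyx hy⟩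
  · intro y hy
    by_contra hgy
    obtain ⟨x, hxt, hyx⟩ := hcov y
    exact hy (hBcl x y (hkey x y hyx hgy))

end Groth.Agent.Lead.MeroL

namespace Groth.Agent.Lead.MeroL

open Groth.Agent.Helper7.FinType

variable {C : Scheme.{u}}

/-- a unit of `K_{X,x}` is a fraction of regular germs (locally Noetherian case) -/
theorem exists_fracUnit_eq [IsLocallyNoetherian C] (x : C) (q : (Mero.KStalk C x)ˣ) :
    ∃ α β : Mero.regStalk C x, q = fracUnit x α β := by
  have h1 : ∀ k : Mero.KStalk C x, ∃ (m : C.presheaf.stalk x) (s : Mero.regStalk C x),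
      k = LocalizedModule.mk m s := by
    intro k
    induction k using LocalizedModule.induction_on with
    | h m s => exact ⟨m, s, rfl⟩
  obtain ⟨α, β, hq⟩ := h1 q.val
  obtain ⟨α', β', hq'⟩ := h1 (q⁻¹ : (Mero.KStalk C x)ˣ).val
  have h2 : (LocalizedModule.mk (α * α') (β * β') : Mero.KStalk C x) =
      algebraMap (C.presheaf.stalk x) (Mero.KStalk C x) 1 := by
    rw [map_one, ← Units.mul_inv q, hq, hq']
    exact LocalizedModule.mk_mul_mk.symm
  have h3 := (mk_eq_algebraMap_iff x _ _ _).mp h2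
  rw [mul_one] at h3
  have hα : α ∈ nonZeroDivisors (C.presheaf.stalk x) := by
    rw [mem_nonZeroDivisors_iff_left]
    intro t ht
    have hb := Mero.regStalk_le_nonZeroDivisors x (β * β').2
    rw [mem_nonZeroDivisors_iff_left] at hb
    apply hb
    have h3' : α * α' = (β : C.presheaf.stalk x) * β' := h3
    change ((β : C.presheaf.stalk x) * β') * t = 0
    rw [← h3', mul_right_comm, ht, zero_mul]
  have hαS : α ∈ Mero.regStalk C x := by
    rw [Groth.Agent.Lib.Helper4.MeroReg1.S8863_main C x]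
    exact hα
  exact ⟨⟨α, hαS⟩, β, Units.ext hq⟩

set_option backward.isDefEq.respectTransparency false in
theorem S10892_mpr [IsNoetherian C]
    (hC : ∀ x : C, IsClosed ({x} : Set C) → ringKrullDim (C.presheaf.stalk x) = 1)
    (g : ∀ x : C, Mero.Germ C x) (hfin : {x : C | g x ≠ 1}.Finite)
    (hcl : ∀ x : C, ¬ IsClosed ({x} : Set C) → g x = 1) : g ∈ Mero.divisorGroup C := by
  intro x
  have hTcl : ∀ y ∈ {x : C | g x ≠ 1}, IsClosed ({y} : Set C) := by
    intro y hy
    by_contra h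
    exact hy (hcl y h)
  -- the other points of the support form a closed set
  let T' : Set C := {y : C | g y ≠ 1} \ {x}
  have hT'cl : IsClosed T' := by
    have h1 : T' = ⋃ y ∈ T', ({y} : Set C) := (Set.biUnion_of_singleton T').symm
    rw [h1]
    exact Set.Finite.isClosed_biUnion (hfin.subset Set.sdiff_subset)
      (fun y hy => hTcl y hy.1)
  obtain ⟨q, hq⟩ := QuotientGroup.mk_surjective (g x)
  obtain ⟨α, β, hαβ⟩ := exists_fracUnit_eq x q
  obtain ⟨W₁, hxW₁, a₁, ha₁, haα⟩ := α.2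
  obtain ⟨W₂, hxW₂, b₁, hb₁, hbβ⟩ := β.2
  let O : C.Opens := W₁ ⊓ W₂ ⊓ ⟨T'ᶜ, hT'cl.isOpen_compl⟩
  have hxO : x ∈ O := ⟨⟨hxW₁, hxW₂⟩, fun h => h.2 rfl⟩
  obtain ⟨_, ⟨W, hW, rfl⟩, hxW, hWO⟩ := C.isBasis_affineOpens.exists_subset_of_mem_open hxO O.2
  have hxW' : x ∈ W := hxW
  have hWO' : W ≤ O := hWO
  have hW1 : W ≤ W₁ := hWO'.trans (inf_le_left.trans inf_le_left)
  have hW2 : W ≤ W₂ := hWO'.trans (inf_le_left.trans inf_le_right)
  let a : Mero.regSub C W := ⟨C.presheaf.map (homOfLE hW1).op a₁, Mero.regSub_res _ ha₁⟩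
  let b : Mero.regSub C W := ⟨C.presheaf.map (homOfLE hW2).op b₁, Mero.regSub_res _ hb₁⟩
  obtain ⟨hfa, hcla⟩ := finite_compl_basicOpen hC W hW a.1 a.2
  obtain ⟨hfb, hclb⟩ := finite_compl_basicOpen hC W hW b.1 b.2
  let B : Set C := ({y : C | y ∈ W ∧ y ∉ C.basicOpen a.1} ∪
    {y : C | y ∈ W ∧ y ∉ C.basicOpen b.1}) \ {x}
  have hBcl : IsClosed B := by
    have h1 : B = ⋃ y ∈ B, ({y} : Set C) := (Set.biUnion_of_singleton B).symm
    rw [h1]
    refine Set.Finite.isClosed_biUnion ((hfa.union hfb).subset Set.sdiff_subset) (fun y hy => ?_)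
    rcases hy.1 with h | h
    · exact hcla y h.1 h.2
    · exact hclb y h.1 h.2
  let U : C.Opens := W ⊓ ⟨Bᶜ, hBcl.isOpen_compl⟩
  have hxU : x ∈ U := ⟨hxW', fun h => h.2 rfl⟩
  have hUW : U ≤ W := inf_le_left
  let a' : Mero.regSub C U := ⟨C.presheaf.map (homOfLE hUW).op a.1, Mero.regSub_res _ a.2⟩
  let b' : Mero.regSub C U := ⟨C.presheaf.map (homOfLE hUW).op b.1, Mero.regSub_res _ b.2⟩
  refine ⟨U, hxU, fracSec U a' b', fun y => ?_⟩
  rw [germOf_fracSec]
  by_cases hyx : y.1 = x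
  · obtain ⟨y, hyU⟩ := y
    dsimp only at hyx
    subst hyx
    rw [← hq, hαβ]
    refine congrArg _ (congrArg₂ _ (Subtype.ext ?_) (Subtype.ext ?_))
    · change (α : C.presheaf.stalk y) = C.presheaf.germ U y hyU
        (C.presheaf.map (homOfLE hUW).op (C.presheaf.map (homOfLE hW1).op a₁))
      rw [TopCat.Presheaf.germ_res_apply, TopCat.Presheaf.germ_res_apply, haα]
    · change (β : C.presheaf.stalk y) = C.presheaf.germ U y hyU
        (C.presheaf.map (homOfLE hUW).op (C.presheaf.map (homOfLE hW2).op b₁))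
      rw [TopCat.Presheaf.germ_res_apply, TopCat.Presheaf.germ_res_apply, hbβ]
  · have hyW : y.1 ∈ W := hUW y.2
    have hyT : g y.1 = 1 := by
      by_contra h
      have h1 : y.1 ∈ T' := ⟨h, hyx⟩
      exact (hWO' hyW).2 h1
    have hyB : y.1 ∉ B := y.2.2
    have hya : y.1 ∈ C.basicOpen a.1 := by
      by_contra h
      exact hyB ⟨Or.inl ⟨hyW, h⟩, hyx⟩
    have hyb : y.1 ∈ C.basicOpen b.1 := by
      by_contra h
      exact hyB ⟨Or.inr ⟨hyW, h⟩, hyx⟩
    rw [hyT]
    symm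
    apply germ_fracUnit_eq_one_of_isUnit
    · change IsUnit (C.presheaf.germ U y.1 y.2 (C.presheaf.map (homOfLE hUW).op a.1))
      rw [TopCat.Presheaf.germ_res_apply]
      exact (C.mem_basicOpen a.1 y.1 hyW).mp hya
    · change IsUnit (C.presheaf.germ U y.1 y.2 (C.presheaf.map (homOfLE hUW).op b.1))
      rw [TopCat.Presheaf.germ_res_apply]
      exact (C.mem_basicOpen b.1 y.1 hyW).mp hyb

theorem S10892_main {C : Scheme.{u}} [IsNoetherian C]
    (hC : ∀ x : C, IsClosed ({x} : Set C) → ringKrullDim (C.presheaf.stalk x) = 1)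
    (g : ∀ x : C, Mero.Germ C x) :
    g ∈ Mero.divisorGroup C ↔
      ({x : C | g x ≠ 1}.Finite ∧ ∀ x : C, ¬ IsClosed ({x} : Set C) → g x = 1) :=
  ⟨S10892_mp hC g, fun h => S10892_mpr hC g h.1 h.2⟩

end Groth.Agent.Lead.MeroL
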