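import Mathlib
import Groth.Prelude.Def_MeroDiv
import Groth.Agent.Lib.Lead.MeroL13

/-!
# Meromorphic functions on reduced schemes with finitely many components (lead)
-/

set_option autoImplicit false
set_option backward.isDefEq.respectTransparency.types false
set_option synthInstance.maxHeartbeats 400000
set_option linter.style.haveILetI false
set_option linter.unusedSectionVars false
universe u

open CategoryTheory CategoryTheory.Limits AlgebraicGeometry TopologicalSpace Opposite

namespace Groth.Agent.Lead.MeroL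

open Groth.Agent.Helper7.FinType

variable {X : Scheme.{u}}

set_option backward.isDefEq.respectTransparency false in
/-- the point of a minimal prime of an affine open is the generic point of an irreducible
component -/
theorem closure_fromSpec_mem_irreducibleComponents (W : X.Opens) (hW : IsAffineOpen W)
    (p : Ideal Γ(X, W)) (hp : p ∈ minimalPrimes Γ(X, W)) (hpp : p.IsPrime) :
    closure ({hW.fromSpec ⟨p, hpp⟩} : Set X) ∈ irreducibleComponents (X : Type u) := by
  obtain ⟨Z, hZ, hηZ⟩ := exists_mem_irreducibleComponents_subset_of_isIrreducible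
    (closure ({hW.fromSpec ⟨p, hpp⟩} : Set X)) isIrreducible_singleton.closure
  have hcl : IsClosed Z := isClosed_of_mem_irreducibleComponents _ hZ
  have hg : IsGenericPoint hZ.1.genericPoint Z := hZ.1.isGenericPoint_genericPoint hcl
  have hmem : hW.fromSpec ⟨p, hpp⟩ ∈ closure ({hZ.1.genericPoint} : Set X) := by
    rw [hg.def]
    exact hηZ (subset_closure rfl)
  have heq := fromSpec_minimal_generization W hW p hp hpp _
    (specializes_iff_mem_closure.mpr hmem)
  rw [← heq, hg.def]
  exact hZ

set_option backward.isDefEq.respectTransparency false in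
/-- on a reduced scheme a function on an affine open whose germs at the generic points vanish is
zero -/
theorem eq_zero_of_germ_generic [IsReduced X] (W : X.Opens) (hW : IsAffineOpen W) (r : Γ(X, W))
    (h : ∀ (p : Ideal Γ(X, W)) (hp : p ∈ minimalPrimes Γ(X, W)) (hpp : p.IsPrime),
      X.presheaf.germ W (hW.fromSpec ⟨p, hpp⟩) (fromSpec_mem hW _) r = 0) : r = 0 := by
  have hInf : sInf (minimalPrimes Γ(X, W)) = (⊥ : Ideal Γ(X, W)) := by
    have := Ideal.sInf_minimalPrimes (I := (⊥ : Ideal Γ(X, W)))
    rw [show (⊥ : Ideal Γ(X, W)).radical = ⊥ from nilradical_eq_zero Γ(X, W)] at this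
    exact this
  have : r ∈ sInf (minimalPrimes Γ(X, W)) := by
    rw [Ideal.mem_sInf]
    intro p hp
    have hpp : p.IsPrime := hp.1.1
    have h0 := h p hp hpp
    obtain ⟨t, ht, htr⟩ := exists_smul_eq_zero_of_germ_eq_zero (Coh.structureModule X)
      (isQuasicoherent_structureModule X) hW _ (fromSpec_mem hW ⟨p, hpp⟩) r (by
        rw [← Groth.Agent.S8869.H8869.mgerm_eq_zero_iff] at h0
        exact h0)
    have htr' : t * r = 0 := htr
    have htp : t ∉ p := by
      have := (notMem_primeIdealOf_iff hW _ (fromSpec_mem hW ⟨p, hpp⟩) t).mpr ht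
      rw [primeIdealOf_fromSpec hW ⟨p, hpp⟩] at this
      exact this
    have h1 : t * r ∈ p := by rw [htr']; exact p.zero_mem
    exact (hpp.mem_or_mem h1).resolve_left htp
  rw [hInf] at this
  exact this

end Groth.Agent.Lead.MeroL

namespace Groth.Agent.Lead.MeroL

open Groth.Agent.Helper7.FinType

variable {X : Scheme.{u}}

/-- part 2 of S10961 -/
theorem bijective_algebraMap_of_generic [IsReduced X] (x : X)
    (hx : closure ({x} : Set X) ∈ irreducibleComponents (X : Type u)) :
    IsField (X.presheaf.stalk x) ∧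
      Function.Bijective (algebraMap (X.presheaf.stalk x) (Mero.KStalk X x)) := by
  have hF := isField_stalk_of_closure_mem_irreducibleComponents (X := X) x hx
  refine ⟨hF, Mero.algebraMap_KStalk_injective x, fun k => ?_⟩
  have := range_algebraMap_of_units x (fun r hr => by
    letI := hF.toField
    have hr0 : r ≠ 0 := nonZeroDivisors.ne_zero hr
    exact isUnit_iff_ne_zero.mpr hr0) k
  obtain ⟨c, hc⟩ := this
  exact ⟨c, hc⟩

set_option backward.isDefEq.respectTransparency false in
/-- a meromorphic function on a reduced scheme vanishing at all generic points is zero -/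
theorem eq_zero_of_generic [IsReduced X] (U : X.Opens) (d : Γ(Mero.kmod X, U))
    (h : ∀ x : U, closure ({x.1} : Set X) ∈ irreducibleComponents (X : Type u) → d.1 x = 0) :
    d = 0 := by
  apply Subtype.ext
  funext y
  obtain ⟨V, hyV, i, a, b, hab⟩ := d.2 y
  obtain ⟨W, hWaff, hyW, hWV⟩ := (Opens.isBasis_iff_nbhd.mp X.isBasis_affineOpens) hyV
  have hW : IsAffineOpen W := hWaff
  let a' : Γ(X, W) := X.presheaf.map (homOfLE hWV).op a
  have ha' : a' = 0 := by
    apply eq_zero_of_germ_generic W hW a'
    intro p hp hpp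
    have hmem : hW.fromSpec ⟨p, hpp⟩ ∈ W := fromSpec_mem hW _
    have hgen := closure_fromSpec_mem_irreducibleComponents W hW p hp hpp
    have h0 := h ⟨hW.fromSpec ⟨p, hpp⟩, i.le (hWV hmem)⟩ hgen
    have h1 : d.1 (i ⟨hW.fromSpec ⟨p, hpp⟩, hWV hmem⟩) = _ := hab ⟨_, hWV hmem⟩
    change X.presheaf.germ W _ hmem (X.presheaf.map (homOfLE hWV).op a) = 0
    rw [TopCat.Presheaf.germ_res_apply]
    exact Groth.Agent.Helper7.MeroK.mk_eq_zero _ _ _ (h1.symm.trans h0)
  have h2 : d.1 (i ⟨y.1, hyV⟩) = _ := hab ⟨y.1, hyV⟩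
  change d.1 y = 0
  have h3 : d.1 y = d.1 (i ⟨y.1, hyV⟩) := rfl
  rw [h3, h2]
  have h4 : X.presheaf.germ V y.1 hyV a = X.presheaf.germ W y.1 hyW a' :=
    (TopCat.Presheaf.germ_res_apply X.presheaf (homOfLE hWV) y.1 hyW a).symm
  rw [h4, ha', map_zero]
  exact LocalizedModule.zero_mk _

/-- gluing functions on a pairwise disjoint family of opens -/
theorem exists_glue_disjoint {ι : Type u} (N : ι → X.Opens)
    (hdisj : ∀ i j, i ≠ j → N i ⊓ N j = ⊥) (c : ∀ i, Γ(X, N i)) :
    ∃ g : Γ(X, iSup N), ∀ i, X.presheaf.map (homOfLE (le_iSup N i)).op g = c i := by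
  have hcompat : TopCat.Presheaf.IsCompatible X.sheaf.1 N c := by
    intro i j
    by_cases hij : i = j
    · subst hij
      rfl
    · apply TopCat.Presheaf.section_ext X.sheaf (N i ⊓ N j)
      intro z hz
      exfalso
      rw [hdisj i j hij] at hz
      exact hz
  obtain ⟨g, hg, -⟩ := X.sheaf.existsUnique_gluing N c hcompat
  exact ⟨g, hg⟩

end Groth.Agent.Lead.MeroL

namespace Groth.Agent.Lead.MeroL

open Groth.Agent.Helper7.FinType

variable {X : Scheme.{u}}

set_option backward.isDefEq.respectTransparency false in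
theorem S10961_main
    (X : Scheme.{u}) [IsReduced X] (hfin : (irreducibleComponents (X : Type u)).Finite)
    (U : X.Opens) :
    Function.Bijective (fun s : Γ(Mero.kmod X, U) =>
      fun x : {x : U // closure ({x.1} : Set X) ∈ irreducibleComponents (X : Type u)} =>
        Mero.evalK X U x.1 s) ∧
    (∀ x : X, closure ({x} : Set X) ∈ irreducibleComponents (X : Type u) →
      IsField (X.presheaf.stalk x) ∧
        Function.Bijective (algebraMap (X.presheaf.stalk x) (Mero.KStalk X x))) := by
  classical
  refine ⟨⟨?_, ?_⟩, fun x hx => bijective_algebraMap_of_generic x hx⟩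
  · -- injectivity
    intro s s' h
    have hd : s - s' = 0 := by
      apply eq_zero_of_generic U (s - s')
      intro x hx
      have h1 := congrFun h ⟨x, hx⟩
      have h2 : s.1 x = s'.1 x := h1
      change s.1 x - s'.1 x = 0
      rw [h2, sub_self]
    exact sub_eq_zero.mp hd
  · -- surjectivity
    intro k
    let ι := {x : U // closure ({x.1} : Set X) ∈ irreducibleComponents (X : Type u)}
    have hGfin : (genericPoints (X : Type u)).Finite := genericPoints.finite hfin
    haveI : Finite ι := by
      haveI : Finite (genericPoints (X : Type u)) := hGfin.to_subtype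
      exact Finite.of_injective (fun i : ι => (⟨i.1.1, i.2⟩ : genericPoints (X : Type u)))
        (fun i j h => Subtype.ext (Subtype.ext (congrArg (fun t : genericPoints (X : Type u) => t.1) h)))
    have hc : ∀ i : ι, ∃ c : X.presheaf.stalk i.1.1,
        algebraMap (X.presheaf.stalk i.1.1) (Mero.KStalk X i.1.1) c = k i :=
      fun i => (bijective_algebraMap_of_generic i.1.1 i.2).2.2 (k i)
    choose c hc using hc
    have hc' : ∀ i : ι, ∃ (M : X.Opens) (hM : i.1.1 ∈ M) (c' : Γ(X, M)),
        X.presheaf.germ M i.1.1 hM c' = c i :=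
      fun i => TopCat.Presheaf.exists_germ_eq X.presheaf (c i)
    choose M hM c' hc' using hc'
    let others : ι → Set X := fun i => ⋃ j : {j : ι // j ≠ i}, closure ({j.1.1.1} : Set X)
    have hothers : ∀ i, IsClosed (others i) := fun i =>
      isClosed_iUnion_of_finite (fun j => isClosed_closure)
    have hnot : ∀ i : ι, i.1.1 ∉ others i := by
      intro i hi
      obtain ⟨j, hj⟩ := Set.mem_iUnion.mp hi
      have hsub : closure ({i.1.1} : Set X) ⊆ closure ({j.1.1.1} : Set X) :=
        isClosed_closure.closure_subset_iff.mpr (Set.singleton_subset_iff.mpr hj)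
      have hsub' : closure ({j.1.1.1} : Set X) ⊆ closure ({i.1.1} : Set X) :=
        i.2.2 isIrreducible_singleton.closure hsub
      have heq : closure ({j.1.1.1} : Set X) = closure ({i.1.1} : Set X) :=
        Set.Subset.antisymm hsub' hsub
      have hpt : j.1.1.1 = i.1.1 := by
        have h1 : IsGenericPoint j.1.1.1 (closure ({i.1.1} : Set X)) := heq
        have h2 : IsGenericPoint i.1.1 (closure ({i.1.1} : Set X)) := rfl
        exact h1.eq h2
      exact j.2 (Subtype.ext (Subtype.ext hpt))
    let N : ι → X.Opens := fun i => M i ⊓ U ⊓ ⟨(others i)ᶜ, (hothers i).isOpen_compl⟩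
    have hxN : ∀ i : ι, i.1.1 ∈ N i := fun i => ⟨⟨hM i, i.1.2⟩, hnot i⟩
    have hNU : ∀ i, N i ≤ U := fun i => inf_le_left.trans inf_le_right
    have hdisj : ∀ i j, i ≠ j → N i ⊓ N j = ⊥ := by
      intro i j hij
      rw [eq_bot_iff]
      intro y hy
      exfalso
      have hyU : y ∈ U := hNU i hy.1
      -- `y` lies in some irreducible component
      have hy' : y ∈ ⋃₀ irreducibleComponents (X : Type u) := by
        rw [sUnion_irreducibleComponents]; trivial
      obtain ⟨Z, hZ, hyZ⟩ := hy'
      have hcl : IsClosed Z := isClosed_of_mem_irreducibleComponents Z hZ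
      have hg : IsGenericPoint hZ.1.genericPoint Z := hZ.1.isGenericPoint_genericPoint hcl
      have hsp : hZ.1.genericPoint ⤳ y := by
        rw [specializes_iff_mem_closure, hg.def]; exact hyZ
      have hζU : hZ.1.genericPoint ∈ U := hsp.mem_open U.2 hyU
      let l : ι := ⟨⟨hZ.1.genericPoint, hζU⟩, by rw [hg.def]; exact hZ⟩
      have hyl : y ∈ closure ({l.1.1} : Set X) := by
        change y ∈ closure ({hZ.1.genericPoint} : Set X)
        rw [hg.def]; exact hyZ
      by_cases hli : l = i
      · have hlj : l ≠ j := fun h => hij (hli.symm.trans h)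
        exact hy.2.2 (Set.mem_iUnion.mpr ⟨⟨l, hlj⟩, hyl⟩)
      · exact hy.1.2 (Set.mem_iUnion.mpr ⟨⟨l, hli⟩, hyl⟩)
    obtain ⟨g, hg⟩ := exists_glue_disjoint N hdisj
      (fun i => X.presheaf.map (homOfLE (inf_le_left.trans inf_le_left : N i ≤ M i)).op (c' i))
    have hVU : iSup N ≤ U := iSup_le hNU
    have hV : ∀ W : X.Opens, W ≤ U →
        Function.Injective ⇑(X.presheaf.map (homOfLE (inf_le_left : W ⊓ iSup N ≤ W)).op) := by
      intro W hWU
      refine (injective_iff_map_eq_zero
        (X.presheaf.map (homOfLE (inf_le_left : W ⊓ iSup N ≤ W)).op).hom).mpr fun r hr => ?_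
      apply TopCat.Presheaf.section_ext X.sheaf W
      intro y hy
      change X.presheaf.germ W y hy r = X.presheaf.germ W y hy 0
      rw [map_zero]
      obtain ⟨W', hW'aff, hyW', hW'W⟩ := (Opens.isBasis_iff_nbhd.mp X.isBasis_affineOpens) hy
      have hW' : IsAffineOpen W' := hW'aff
      let r' : Γ(X, W') := X.presheaf.map (homOfLE hW'W).op r
      have hr' : r' = 0 := by
        apply eq_zero_of_germ_generic W' hW' r'
        intro p hp hpp
        have hmem : hW'.fromSpec ⟨p, hpp⟩ ∈ W' := fromSpec_mem hW' _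
        have hgen := closure_fromSpec_mem_irreducibleComponents W' hW' p hp hpp
        let l : ι := ⟨⟨hW'.fromSpec ⟨p, hpp⟩, hWU (hW'W hmem)⟩, hgen⟩
        have hηV : hW'.fromSpec ⟨p, hpp⟩ ∈ iSup N := Opens.mem_iSup.mpr ⟨l, hxN l⟩
        have hηWV : hW'.fromSpec ⟨p, hpp⟩ ∈ W ⊓ iSup N := ⟨hW'W hmem, hηV⟩
        change X.presheaf.germ W' _ hmem (X.presheaf.map (homOfLE hW'W).op r) = 0
        rw [TopCat.Presheaf.germ_res_apply]
        have h1 := congrArg (X.presheaf.germ (W ⊓ iSup N) _ hηWV) hr
        rw [TopCat.Presheaf.germ_res_apply, map_zero] at h1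
        exact h1
      have h2 : X.presheaf.germ W y hy r = X.presheaf.germ W' y hyW' r' :=
        (TopCat.Presheaf.germ_res_apply X.presheaf (homOfLE hW'W) y hyW' r).symm
      rw [h2, hr', map_zero]
    obtain ⟨s, hs⟩ := S5086_main X (Or.inr ⟨inferInstance, fun x => ⟨⊤, trivial,
      hfin.subset (fun Z hZ => hZ.1)⟩⟩) U (iSup N) hVU hV g
    refine ⟨s, funext fun i => ?_⟩
    change s.1 i.1 = k i
    have hiV : i.1.1 ∈ iSup N := Opens.mem_iSup.mpr ⟨i, hxN i⟩
    have h1 := congrArg (fun t : Γ(Mero.kmod X, iSup N) => t.1 ⟨i.1.1, hiV⟩) hs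
    have h2 : s.1 i.1 = LocalizedModule.mk (X.presheaf.germ (iSup N) i.1.1 hiV g) 1 := h1
    rw [h2, ← hc i]
    refine ((mk_eq_algebraMap_iff i.1.1 _ _ _).mpr ?_)
    rw [Submonoid.coe_one, one_mul, ← hc' i]
    have h3 := congrArg (X.presheaf.germ (N i) i.1.1 (hxN i)) (hg i)
    rw [TopCat.Presheaf.germ_res_apply, TopCat.Presheaf.germ_res_apply] at h3
    exact h3

end Groth.Agent.Lead.MeroL
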