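import Mathlib
import Groth.Prelude.Def_MeroDiv
import Groth.Agent.Lib.Lead.MeroL17
import Groth.Agent.Lib.Lead.MeroL14
import Groth.Agent.Lib.Helper1.LGenLoc
import Groth.Agent.Lib.Helper1.TwForm1

/-!
# Stalks of invertible modules and their meromorphic sections: pointwise algebra (lead)
-/

set_option autoImplicit false
set_option backward.isDefEq.respectTransparency.types false
set_option synthInstance.maxHeartbeats 400000
set_option linter.style.haveILetI false
set_option linter.unusedSectionVars false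
universe u

open CategoryTheory CategoryTheory.Limits AlgebraicGeometry TopologicalSpace Opposite

namespace Groth.Agent.Lead.MeroL

open Groth.Agent.Helper1.LGen Groth.Agent.Helper1.QcCech

variable {X : Scheme.{u}} {L : X.Modules}

/-- `ε` is a free generator of the stalk `L_z` -/
structure StalkGen (L : X.Modules) (z : X) (ε : L.presheaf.stalk z) : Prop where
  inj : ∀ r : X.presheaf.stalk z, r • ε = 0 → r = 0
  surj : ∀ μ : L.presheaf.stalk z, ∃ c : X.presheaf.stalk z, μ = c • ε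

theorem germ_res_L {W V : X.Opens} (h : V ≤ W) (z : X) (hz : z ∈ V) (e : Γ(L, W)) :
    L.presheaf.germ V z hz (res L h e) = L.presheaf.germ W z (h hz) e :=
  TopCat.Presheaf.germ_res_apply L.presheaf (homOfLE h) z hz e

theorem stalkGen_of_isGen {W : X.Opens} {e : Γ(L, W)} (he : IsGen L W e) (z : X) (hz : z ∈ W) :
    StalkGen L z (L.presheaf.germ W z hz e) := by
  constructor
  · intro r hr
    obtain ⟨V, hzV, ρ, rfl⟩ := TopCat.Presheaf.exists_germ_eq X.presheaf r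
    have hzV' : z ∈ V ⊓ W := ⟨hzV, hz⟩
    let ρ' : Γ(X, V ⊓ W) := X.presheaf.map (homOfLE (inf_le_left : V ⊓ W ≤ V)).op ρ
    have hρ' : X.presheaf.germ (V ⊓ W) z hzV' ρ' = X.presheaf.germ V z hzV ρ :=
      TopCat.Presheaf.germ_res_apply X.presheaf (homOfLE inf_le_left) z hzV' ρ
    have h1 : L.presheaf.germ (V ⊓ W) z hzV' (ρ' • res L inf_le_right e) =
        L.presheaf.germ (V ⊓ W) z hzV' 0 := by
      rw [Mero.germ_smul, germ_res_L, hρ', hr, map_zero]
    obtain ⟨V'', hzV'', i1, i2, h2⟩ := TopCat.Presheaf.germ_eq L.presheaf z hzV' hzV' _ _ h1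
    rw [map_zero] at h2
    have hle : V'' ≤ V ⊓ W := i1.le
    have h3 : resR hle ρ' • res L (hle.trans inf_le_right) e = (0 : Γ(X, V'')) • res L (hle.trans inf_le_right) e := by
      rw [zero_smul, ← res_res L inf_le_right hle, ← res_smul]
      exact h2
    have h4 : resR hle ρ' = 0 := (he V'' (hle.trans inf_le_right)).1 h3
    rw [← hρ']
    have h5 : X.presheaf.germ V'' z hzV'' (resR hle ρ') = X.presheaf.germ (V ⊓ W) z hzV' ρ' :=
      TopCat.Presheaf.germ_res_apply X.presheaf (homOfLE hle) z hzV'' ρ'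
    rw [← h5, h4, map_zero]
  · intro μ
    obtain ⟨V, hzV, m, rfl⟩ := TopCat.Presheaf.exists_germ_eq L.presheaf μ
    have hzV' : z ∈ V ⊓ W := ⟨hzV, hz⟩
    obtain ⟨c, hc⟩ := (he (V ⊓ W) inf_le_right).2 (res L inf_le_left m)
    refine ⟨X.presheaf.germ (V ⊓ W) z hzV' c, ?_⟩
    have h1 := congrArg (L.presheaf.germ (V ⊓ W) z hzV') hc
    rw [Mero.germ_smul, germ_res_L, germ_res_L] at h1
    exact h1.symm


/-! ### the localized stalk -/

theorem kmk_smul_mk (z : X) (a : X.presheaf.stalk z) (s t : Mero.regStalk X z)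
    (μ : L.presheaf.stalk z) :
    (LocalizedModule.mk a s : Mero.KStalk X z) • (LocalizedModule.mk μ t : Mero.MStalk L z) =
      LocalizedModule.mk (a • μ) (s * t) :=
  LocalizedModule.mk_smul_mk a μ s t

theorem StalkGen.smul_mk_eq_zero {z : X} {ε : L.presheaf.stalk z} (h : StalkGen L z ε)
    (κ : Mero.KStalk X z) (hκ : κ • (LocalizedModule.mk ε 1 : Mero.MStalk L z) = 0) : κ = 0 := by
  induction κ using LocalizedModule.induction_on with
  | h a s =>
    rw [kmk_smul_mk, ← LocalizedModule.zero_mk (s * 1), LocalizedModule.mk_eq] at hκ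
    obtain ⟨c, hc⟩ := hκ
    have h1 : ((c : X.presheaf.stalk z) * ((s : X.presheaf.stalk z) * a)) • ε = 0 := by
      simpa [Submonoid.smul_def, mul_smul] using hc
    have h2 := h.inj _ h1
    have hc1 := Mero.regStalk_le_nonZeroDivisors z c.2
    have hs1 := Mero.regStalk_le_nonZeroDivisors z s.2
    rw [mem_nonZeroDivisors_iff_left] at hc1 hs1
    have h3 : a = 0 := hs1 _ (hc1 _ h2)
    rw [h3]
    exact LocalizedModule.zero_mk s

theorem StalkGen.exists_smul {z : X} {ε : L.presheaf.stalk z} (h : StalkGen L z ε)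
    (τ : Mero.MStalk L z) :
    ∃ κ : Mero.KStalk X z, τ = κ • (LocalizedModule.mk ε 1 : Mero.MStalk L z) := by
  induction τ using LocalizedModule.induction_on with
  | h μ s =>
    obtain ⟨c, rfl⟩ := h.surj μ
    refine ⟨LocalizedModule.mk c s, ?_⟩
    rw [kmk_smul_mk, mul_one]

theorem StalkGen.smul_mk_injective {z : X} {ε : L.presheaf.stalk z} (h : StalkGen L z ε)
    (κ κ' : Mero.KStalk X z)
    (hκ : κ • (LocalizedModule.mk ε 1 : Mero.MStalk L z) = κ' • LocalizedModule.mk ε 1) :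
    κ = κ' := by
  have : (κ - κ') • (LocalizedModule.mk ε 1 : Mero.MStalk L z) = 0 := by
    rw [sub_smul, hκ, sub_self]
  exact sub_eq_zero.mp (h.smul_mk_eq_zero _ this)

theorem StalkGen.exists_unit {z : X} {ε ε' : L.presheaf.stalk z} (h : StalkGen L z ε)
    (h' : StalkGen L z ε') : ∃ u : (X.presheaf.stalk z)ˣ, ε' = (u : X.presheaf.stalk z) • ε := by
  obtain ⟨c, hc⟩ := h.surj ε'
  obtain ⟨d, hd⟩ := h'.surj ε
  have h1 : (d * c - 1) • ε = 0 := by
    rw [sub_smul, mul_smul, ← hc, ← hd, one_smul, sub_self]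
  have h2 : d * c = 1 := sub_eq_zero.mp (h.inj _ h1)
  exact ⟨⟨c, d, by rw [mul_comm]; exact h2, h2⟩, hc⟩

theorem alg_smul_mk (z : X) (c : X.presheaf.stalk z) (μ : L.presheaf.stalk z)
    (t : Mero.regStalk X z) :
    algebraMap (X.presheaf.stalk z) (Mero.KStalk X z) c • (LocalizedModule.mk μ t : Mero.MStalk L z) =
      LocalizedModule.mk (c • μ) t := by
  have : algebraMap (X.presheaf.stalk z) (Mero.KStalk X z) c = LocalizedModule.mk c 1 := rfl
  rw [this, kmk_smul_mk, one_mul]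

/-- two representations of the same element by units and free generators give the same germ -/
theorem StalkGen.germ_eq {z : X} {ε ε' : L.presheaf.stalk z} (h : StalkGen L z ε)
    (h' : StalkGen L z ε') (g g' : (Mero.KStalk X z)ˣ)
    (heq : (g : Mero.KStalk X z) • (LocalizedModule.mk ε 1 : Mero.MStalk L z) =
      (g' : Mero.KStalk X z) • LocalizedModule.mk ε' 1) :
    (QuotientGroup.mk g : Mero.Germ X z) = QuotientGroup.mk g' := by
  obtain ⟨u, hu⟩ := h.exists_unit h'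
  rw [germ_mk_eq_iff]
  refine ⟨u, ?_⟩
  apply h.smul_mk_injective
  rw [heq, hu, mul_smul, alg_smul_mk]


/-! ### local unit-times-generator form -/

/-- local unit-times-generator form of a meromorphic section -/
def IsLU (L : X.Modules) (s : Γ(Mero.merMod L, ⊤)) : Prop :=
  ∀ y : X, ∃ (W : X.Opens) (_ : y ∈ W) (e : Γ(L, W)) (_ : IsGen L W e)
    (t : (Γ(Mero.kmod X, W))ˣ), ∀ z : W, s.1 ⟨z.1, Opens.mem_top z.1⟩ =
      (t : Γ(Mero.kmod X, W)).1 z •
        (LocalizedModule.mk (L.presheaf.germ W z.1 z.2 e) 1 : Mero.MStalk L z.1)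

theorem IsLU.isRegularMero {s : Γ(Mero.merMod L, ⊤)} (h : IsLU L s) : Mero.IsRegularMero L s := by
  intro x q hq
  obtain ⟨W, hxW, e, he, t, ht⟩ := h x
  rw [ht ⟨x, hxW⟩, ← mul_smul] at hq
  have h1 := (stalkGen_of_isGen he x hxW).smul_mk_eq_zero _ hq
  have h2 := congrArg (fun w => w * ((t⁻¹ : (Γ(Mero.kmod X, W))ˣ) : Γ(Mero.kmod X, W)).1 ⟨x, hxW⟩) h1
  simp only [zero_mul, mul_assoc] at h2
  rwa [unit_mul_inv_apply, mul_one] at h2

theorem fracSec_apply (U : X.Opens) (a b : Mero.regSub X U) (y : U) :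
    ((fracSec U a b : (Γ(Mero.kmod X, U))ˣ) : Γ(Mero.kmod X, U)).1 y =
      LocalizedModule.mk (X.presheaf.germ U y.1 y.2 a.1) (Mero.regGerm y b) := by
  rw [fracSec, Units.val_mul, Mero.kmod_mul_apply, inv_unit_toK_apply, IsUnit.unit_spec,
    Mero.toK_apply, algebraMap_mul_mk, mul_one]

/-- gluing a meromorphic section from compatible charts -/
theorem exists_mer_of_charts {ι : Type*} (W : ι → X.Opens) (hcov : ∀ x : X, ∃ i, x ∈ W i)
    (e : ∀ i, Γ(L, W i)) (t : ∀ i, Γ(Mero.kmod X, W i))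
    (hcompat : ∀ (i j : ι) (z : X) (hi : z ∈ W i) (hj : z ∈ W j),
      (t i).1 ⟨z, hi⟩ • (LocalizedModule.mk (L.presheaf.germ (W i) z hi (e i)) 1 : Mero.MStalk L z) =
        (t j).1 ⟨z, hj⟩ • LocalizedModule.mk (L.presheaf.germ (W j) z hj (e j)) 1) :
    ∃ s : Γ(Mero.merMod L, ⊤), ∀ (i : ι) (z : W i), s.1 ⟨z.1, Opens.mem_top z.1⟩ =
      (t i).1 z • (LocalizedModule.mk (L.presheaf.germ (W i) z.1 z.2 (e i)) 1 : Mero.MStalk L z.1) := by
  choose ix hix using hcov
  let f : ∀ x : (⊤ : X.Opens), Mero.MStalk L x.1 := fun x =>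
    (t (ix x.1)).1 ⟨x.1, hix x.1⟩ •
      (LocalizedModule.mk (L.presheaf.germ (W (ix x.1)) x.1 (hix x.1) (e (ix x.1))) 1 : Mero.MStalk L x.1)
  have hf : ∀ (i : ι) (z : X) (hz : z ∈ W i), f ⟨z, Opens.mem_top z⟩ =
      (t i).1 ⟨z, hz⟩ • (LocalizedModule.mk (L.presheaf.germ (W i) z hz (e i)) 1 : Mero.MStalk L z) :=
    fun i z hz => hcompat (ix z) i z (hix z) hz
  refine ⟨⟨f, fun x => ?_⟩, fun i z => hf i z.1 z.2⟩
  obtain ⟨N, hxN, i, a, b, hab⟩ := (t (ix x.1)).2 ⟨x.1, hix x.1⟩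
  refine ⟨N, hxN, homOfLE le_top, a • res L i.le (e (ix x.1)), b, fun z => ?_⟩
  have h1 : (t (ix x.1)).1 (i z) = _ := hab z
  change f ⟨z.1, Opens.mem_top z.1⟩ = _
  rw [hf (ix x.1) z.1 (i.le z.2)]
  have h2 : (t (ix x.1)).1 ⟨z.1, i.le z.2⟩ = (t (ix x.1)).1 (i z) := rfl
  rw [h2, h1, kmk_smul_mk]
  refine Mero.mk_congr ?_ (by rw [mul_one])
  rw [Mero.germ_smul, germ_res_L]


/-- a regular meromorphic section of an invertible module is locally a unit times a generator -/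
theorem isLU_of_isRegularMero (hL : PicF.IsInvertible L) (s : Γ(Mero.merMod L, ⊤))
    (hs : Mero.IsRegularMero L s) : IsLU L s := by
  intro y
  obtain ⟨W₀, e₀, hyW₀, he₀⟩ := exists_isGen hL y
  obtain ⟨N, hyN, i, m, b, hmb⟩ := s.2 ⟨y, Opens.mem_top y⟩
  have hW : N ⊓ W₀ ≤ W₀ := inf_le_right
  have hN : N ⊓ W₀ ≤ N := inf_le_left
  have he : IsGen L (N ⊓ W₀) (res L hW e₀) := he₀.res hW
  obtain ⟨r, hr⟩ := he.exists_coeff (res L hN m)
  have hsz : ∀ z : (N ⊓ W₀ : X.Opens), s.1 ⟨z.1, Opens.mem_top z.1⟩ =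
      LocalizedModule.mk (L.presheaf.germ N z.1 (hN z.2) m) (Mero.regGerm ⟨z.1, hN z.2⟩ b) :=
    fun z => hmb ⟨z.1, hN z.2⟩
  have hgm : ∀ z : (N ⊓ W₀ : X.Opens), L.presheaf.germ N z.1 (hN z.2) m =
      X.presheaf.germ (N ⊓ W₀) z.1 z.2 r • L.presheaf.germ (N ⊓ W₀) z.1 z.2 (res L hW e₀) := by
    intro z
    rw [← Mero.germ_smul, hr, germ_res_L]
  have hreg : r ∈ Mero.regSub X (N ⊓ W₀) := by
    intro z
    rw [mem_nonZeroDivisors_iff_left]
    intro c hc
    have h1 : algebraMap (X.presheaf.stalk z.1) (Mero.KStalk X z.1) c •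
        s.1 ⟨z.1, Opens.mem_top z.1⟩ = 0 := by
      rw [hsz z, alg_smul_mk, hgm z, ← mul_smul, mul_comm, hc, zero_smul]
      exact LocalizedModule.zero_mk _
    have h2 := hs z.1 _ h1
    exact Mero.algebraMap_KStalk_injective z.1 (by rw [h2, map_zero])
  let b' : Mero.regSub X (N ⊓ W₀) := ⟨X.presheaf.map (homOfLE hN).op b.1, Mero.regSub_res _ b.2⟩
  refine ⟨N ⊓ W₀, ⟨hyN, hyW₀⟩, res L hW e₀, he, fracSec (N ⊓ W₀) ⟨r, hreg⟩ b', fun z => ?_⟩
  rw [fracSec_apply, kmk_smul_mk, hsz z, hgm z]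
  refine Mero.mk_congr rfl ?_
  rw [mul_one]
  exact (TopCat.Presheaf.germ_res_apply X.presheaf (homOfLE hN) z.1 z.2 b.1).symm

end Groth.Agent.Lead.MeroL
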