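import Mathlib
import Groth.Prelude.Def_MeroDiv
import Groth.Agent.Lib.Lead.MeroL18
import Groth.Agent.Lib.Helper1.RP13

/-!
# From a regular meromorphic section to a divisor (lead)
-/

set_option autoImplicit false
set_option backward.isDefEq.respectTransparency.types false
set_option synthInstance.maxHeartbeats 400000
set_option linter.style.haveILetI false
set_option linter.unusedSectionVars false
universe u

open CategoryTheory CategoryTheory.Limits AlgebraicGeometry TopologicalSpace Opposite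

namespace Groth.Agent.Lead.MeroL

open Groth.Agent.Helper1.LGen Groth.Agent.Helper1.QcCech

variable {X : Scheme.{u}} {L : X.Modules}

/-- a chart for a meromorphic section -/
structure Chart (L : X.Modules) (s : Γ(Mero.merMod L, ⊤)) where
  W : X.Opens
  e : Γ(L, W)
  he : IsGen L W e
  t : (Γ(Mero.kmod X, W))ˣ
  ht : ∀ z : W, s.1 ⟨z.1, Opens.mem_top z.1⟩ =
      (t : Γ(Mero.kmod X, W)).1 z •
        (LocalizedModule.mk (L.presheaf.germ W z.1 z.2 e) 1 : Mero.MStalk L z.1)

theorem IsLU.exists_chart {s : Γ(Mero.merMod L, ⊤)} (h : IsLU L s) (y : X) :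
    ∃ c : Chart L s, y ∈ c.W := by
  obtain ⟨W, hyW, e, he, t, ht⟩ := h y
  exact ⟨⟨W, e, he, t, ht⟩, hyW⟩

theorem inv_mul_unit_apply' {U : X.Opens} (f : (Γ(Mero.kmod X, U))ˣ) (y : U) :
    ((f⁻¹ : (Γ(Mero.kmod X, U))ˣ) : Γ(Mero.kmod X, U)).1 y * (f : Γ(Mero.kmod X, U)).1 y = 1 := by
  rw [mul_comm]; exact unit_mul_inv_apply f y

section Sec

variable {s : Γ(Mero.merMod L, ⊤)}

/-- two charts give the same germ of divisor at a common point -/
theorem Chart.germOf_eq (c c' : Chart L s) (z : X) (hz : z ∈ c.W) (hz' : z ∈ c'.W) :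
    Mero.germOf c.t ⟨z, hz⟩ = Mero.germOf c'.t ⟨z, hz'⟩ := by
  apply (stalkGen_of_isGen c.he z hz).germ_eq (stalkGen_of_isGen c'.he z hz')
  exact (c.ht ⟨z, hz⟩).symm.trans (c'.ht ⟨z, hz'⟩)

theorem Chart.smul_eq (c : Chart L s) (z : X) (hz : z ∈ c.W) (a : X.presheaf.stalk z) :
    (algebraMap (X.presheaf.stalk z) (Mero.KStalk X z) a *
      ((c.t⁻¹ : (Γ(Mero.kmod X, c.W))ˣ) : Γ(Mero.kmod X, c.W)).1 ⟨z, hz⟩) •
        s.1 ⟨z, Opens.mem_top z⟩ =
      (LocalizedModule.mk (a • L.presheaf.germ c.W z hz c.e) 1 : Mero.MStalk L z) := by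
  rw [c.ht ⟨z, hz⟩, ← mul_smul, mul_assoc, inv_mul_unit_apply', mul_one, alg_smul_mk]

variable (hs : IsLU L s)

include hs in
theorem exists_quo (z : X) (μ : L.presheaf.stalk z) :
    ∃ κ : Mero.KStalk X z, κ • s.1 ⟨z, Opens.mem_top z⟩ = (LocalizedModule.mk μ 1 : Mero.MStalk L z) := by
  obtain ⟨c, hz⟩ := hs.exists_chart z
  obtain ⟨a, rfl⟩ := (stalkGen_of_isGen c.he z hz).surj μ
  exact ⟨_, c.smul_eq z hz a⟩

/-- the quotient `μ / s` -/
noncomputable def quo (z : X) (μ : L.presheaf.stalk z) : Mero.KStalk X z :=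
  Classical.choose (exists_quo hs z μ)

theorem quo_spec (z : X) (μ : L.presheaf.stalk z) :
    quo hs z μ • s.1 ⟨z, Opens.mem_top z⟩ = (LocalizedModule.mk μ 1 : Mero.MStalk L z) :=
  Classical.choose_spec (exists_quo hs z μ)

theorem quo_unique (z : X) (μ : L.presheaf.stalk z) (κ : Mero.KStalk X z)
    (hκ : κ • s.1 ⟨z, Opens.mem_top z⟩ = (LocalizedModule.mk μ 1 : Mero.MStalk L z)) :
    quo hs z μ = κ := by
  have h1 : (quo hs z μ - κ) • s.1 ⟨z, Opens.mem_top z⟩ = 0 := by
    rw [sub_smul, quo_spec, hκ, sub_self]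
  exact sub_eq_zero.mp (hs.isRegularMero z _ h1)

theorem quo_chart (c : Chart L s) (z : X) (hz : z ∈ c.W) (a : X.presheaf.stalk z) :
    quo hs z (a • L.presheaf.germ c.W z hz c.e) =
      algebraMap (X.presheaf.stalk z) (Mero.KStalk X z) a *
        ((c.t⁻¹ : (Γ(Mero.kmod X, c.W))ˣ) : Γ(Mero.kmod X, c.W)).1 ⟨z, hz⟩ :=
  quo_unique hs z _ _ (c.smul_eq z hz a)

theorem mk_add_one (z : X) (μ ν : L.presheaf.stalk z) :
    (LocalizedModule.mk (μ + ν) 1 : Mero.MStalk L z) =
      LocalizedModule.mk μ 1 + LocalizedModule.mk ν 1 := by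
  rw [LocalizedModule.mk_add_mk]
  exact Mero.mk_congr (by rw [one_smul, one_smul]) (by rw [mul_one])

theorem quo_add (z : X) (μ ν : L.presheaf.stalk z) :
    quo hs z (μ + ν) = quo hs z μ + quo hs z ν := by
  apply quo_unique
  rw [add_smul, quo_spec, quo_spec, mk_add_one]

theorem quo_smul (z : X) (a : X.presheaf.stalk z) (μ : L.presheaf.stalk z) :
    quo hs z (a • μ) = a • quo hs z μ := by
  apply quo_unique
  rw [Algebra.smul_def, mul_smul, quo_spec, alg_smul_mk]


/-- the chosen chart at a point -/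
noncomputable def chartAt (y : X) : Chart L s := Classical.choose (hs.exists_chart y)

theorem mem_chartAt (y : X) : y ∈ (chartAt hs y).W := Classical.choose_spec (hs.exists_chart y)

/-- the divisor of a regular meromorphic section -/
noncomputable def divOf : Mero.Divisor X :=
  ⟨fun z => Mero.germOf (chartAt hs z).t ⟨z, mem_chartAt hs z⟩,
    fun x => ⟨(chartAt hs x).W, mem_chartAt hs x, (chartAt hs x).t,
      fun y => (chartAt hs y.1).germOf_eq (chartAt hs x) y.1 (mem_chartAt hs y.1) y.2⟩⟩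

theorem divOf_eq (c : Chart L s) (y : c.W) : (divOf hs).1 y.1 = Mero.germOf c.t y :=
  (chartAt hs y.1).germOf_eq c y.1 (mem_chartAt hs y.1) y.2

theorem kLoc_pred_of_locally_eq (U : X.Opens) (f : ∀ x : U, Mero.KStalk X x.1)
    (h : ∀ x : U, ∃ (V : X.Opens) (hV : V ≤ U) (_ : x.1 ∈ V) (T : Γ(Mero.kmod X, V)),
      ∀ z : V, f ⟨z.1, hV z.2⟩ = T.1 z) : (Mero.kLoc X).pred f := by
  intro x
  obtain ⟨V, hV, hxV, T, hT⟩ := h x
  obtain ⟨N, hxN, i, a, b, hab⟩ := T.2 ⟨x.1, hxV⟩
  refine ⟨N, hxN, homOfLE (i.le.trans hV), a, b, fun z => ?_⟩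
  exact (hT (i z)).trans (hab z)

/-- the section `m / s` of `O_X(D)` -/
noncomputable def quoSec (U : X.Opens) (m : Γ(L, U)) : Γ(Mero.divMod (divOf hs), U) :=
  ⟨fun z => quo hs z.1 (L.presheaf.germ U z.1 z.2 m), by
    constructor
    · apply kLoc_pred_of_locally_eq
      intro x
      let c := chartAt hs x.1
      have hxc : x.1 ∈ c.W := mem_chartAt hs x.1
      have hle : U ⊓ c.W ≤ c.W := inf_le_right
      obtain ⟨a, ha⟩ := (c.he.res hle).exists_coeff (res L (inf_le_left : U ⊓ c.W ≤ U) m)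
      refine ⟨U ⊓ c.W, inf_le_left, ⟨x.2, hxc⟩,
        Mero.toK X (U ⊓ c.W) a * resK hle ((c.t⁻¹ : (Γ(Mero.kmod X, c.W))ˣ) : Γ(Mero.kmod X, c.W)),
        fun z => ?_⟩
      have h1 : L.presheaf.germ U z.1 (inf_le_left (a := U) (b := c.W) z.2) m =
          X.presheaf.germ (U ⊓ c.W) z.1 z.2 a • L.presheaf.germ c.W z.1 (hle z.2) c.e := by
        rw [← germ_res_L hle z.1 z.2 c.e, ← Mero.germ_smul, ha, germ_res_L]
      change quo hs z.1 (L.presheaf.germ U z.1 _ m) = _
      rw [h1, quo_chart hs c z.1 (hle z.2)]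
      rfl
    · intro x
      let c := chartAt hs x.1
      have hxc : x.1 ∈ c.W := mem_chartAt hs x.1
      obtain ⟨a, ha⟩ := (stalkGen_of_isGen c.he x.1 hxc).surj (L.presheaf.germ U x.1 x.2 m)
      change Mero.DivCond (divOf hs) x.1 (quo hs x.1 (L.presheaf.germ U x.1 x.2 m))
      rw [ha, quo_chart hs c x.1 hxc, ← Algebra.smul_def]
      exact Mero.divCond_smul _ _ a
        (Groth.Agent.Helper7.MeroD.divCond_inv c.t (fun y => divOf_eq hs c y) ⟨x.1, hxc⟩)⟩

theorem quoSec_apply (U : X.Opens) (m : Γ(L, U)) (z : U) :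
    (quoSec hs U m).1 z = quo hs z.1 (L.presheaf.germ U z.1 z.2 m) := rfl

/-- division by a regular meromorphic section, as a morphism `L ⟶ O_X(D)` -/
noncomputable def quoHom : L ⟶ Mero.divMod (divOf hs) :=
  Groth.Agent.Helper1.TwForm.homMk L (Mero.divMod (divOf hs)) (quoSec hs)
    (fun U a b => Subtype.ext (funext fun z => by
      change quo hs z.1 (L.presheaf.germ U z.1 z.2 (a + b)) = _
      rw [map_add, quo_add]; rfl))
    (fun U r a => Subtype.ext (funext fun z => by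
      change quo hs z.1 (L.presheaf.germ U z.1 z.2 (r • a)) = _
      rw [Mero.germ_smul, quo_smul]; rfl))
    (fun U V h a => Subtype.ext (funext fun z => by
      change quo hs z.1 (L.presheaf.germ U z.1 (h z.2) a) =
        quo hs z.1 (L.presheaf.germ V z.1 z.2 (res L h a))
      rw [germ_res_L]))

theorem quoHom_app (U : X.Opens) (m : Γ(L, U)) : (quoHom hs).app U m = quoSec hs U m := rfl

theorem isIso_quoHom : IsIso (quoHom hs) := by
  apply Groth.Agent.Helper1.RP13.isIso_of_isGen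
  intro x
  let c := chartAt hs x
  refine ⟨c.W, c.e, mem_chartAt hs x, c.he, ?_⟩
  have h1 : (quoHom hs).app c.W c.e = gen (divOf hs) c.t (fun y => divOf_eq hs c y) := by
    rw [quoHom_app]
    refine Subtype.ext (funext fun z => ?_)
    rw [quoSec_apply, gen_apply]
    have := quo_chart hs c z.1 z.2 1
    rwa [one_smul, map_one, one_mul] at this
  rw [h1]
  exact isGen_gen _ _ _

include hs in
/-- **Theorem I**: an invertible module with a regular meromorphic section is `O_X(D)` -/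
theorem exists_divisor_of_isLU : ∃ D : Mero.Divisor X, Nonempty (L ≅ Mero.divMod D) :=
  ⟨divOf hs, ⟨@asIso _ _ _ _ (quoHom hs) (isIso_quoHom hs)⟩⟩

end Sec

theorem exists_divisor_of_hasRegularMero (hL : PicF.IsInvertible L) (h : Mero.HasRegularMero L) :
    ∃ D : Mero.Divisor X, Nonempty (L ≅ Mero.divMod D) := by
  obtain ⟨s, hs⟩ := h
  exact exists_divisor_of_isLU (isLU_of_isRegularMero hL s hs)

end Groth.Agent.Lead.MeroL
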