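import Mathlib
import Groth.Prelude.Def_MeroDiv
import Groth.Agent.Lib.Lead.MeroL19
import Groth.Agent.Lib.Helper1.ModGlue

/-!
# Invertible modules of the form `O_X(D)` have a regular meromorphic section (lead)
-/

set_option autoImplicit false
set_option backward.isDefEq.respectTransparency.types false
set_option synthInstance.maxHeartbeats 400000
set_option linter.style.haveILetI false
set_option linter.unusedSectionVars false
universe u

open CategoryTheory CategoryTheory.Limits AlgebraicGeometry TopologicalSpace Opposite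

namespace Groth.Agent.Lead.MeroL

open Groth.Agent.Helper1.LGen Groth.Agent.Helper1.QcCech

variable {X : Scheme.{u}} {L : X.Modules}

theorem isGen_map_of_isIso {M N : X.Modules} (ψ : M ⟶ N) [IsIso ψ] {V : X.Opens} {b : Γ(M, V)}
    (hb : IsGen M V b) : IsGen N V (ψ.app V b) := by
  intro V' h
  have h1 : (fun r : Γ(X, V') => r • res N h (ψ.app V b)) =
      (ψ.app V') ∘ (fun r : Γ(X, V') => r • res M h b) := by
    funext r
    change _ = ψ.app V' (r • res M h b)
    rw [Scheme.Modules.Hom.app_smul, Groth.Agent.Helper1.ModGlue.app_res]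
  rw [h1]
  have h2 : Function.Bijective (ψ.app V') := by
    have : IsIso (ψ.app V') := inferInstance
    exact (ConcreteCategory.isIso_iff_bijective _).1 this
  exact h2.comp (hb V' h)

/-- an invertible module isomorphic to some `O_X(D)` has a regular meromorphic section -/
theorem hasRegularMero_of_iso (D : Mero.Divisor X) (φ : L ≅ Mero.divMod D) :
    Mero.HasRegularMero L := by
  have hD := D.2
  choose U hyU f hf using hD
  let e : ∀ y : X, Γ(L, U y) := fun y => φ.inv.app (U y) (gen D (f y) (hf y))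
  have he : ∀ y, IsGen L (U y) (e y) := fun y => isGen_map_of_isIso φ.inv (isGen_gen D (f y) (hf y))
  obtain ⟨s, hs⟩ := exists_mer_of_charts (L := L) U (fun x => ⟨x, hyU x⟩) e
    (fun y => ((f y : (Γ(Mero.kmod X, U y))ˣ) : Γ(Mero.kmod X, U y))) (by
      intro y y' z hz hz'
      have hV : U y ⊓ U y' ≤ U y := inf_le_left
      have hV' : U y ⊓ U y' ≤ U y' := inf_le_right
      have hzV : z ∈ U y ⊓ U y' := ⟨hz, hz'⟩
      obtain ⟨a, ha⟩ := ((isGen_gen D (f y) (hf y)).res hV).exists_coeff
        (res (Mero.divMod D) hV' (gen D (f y') (hf y')))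
      -- values
      have h1 := congrArg (fun t : Γ(Mero.divMod D, U y ⊓ U y') => t.1 ⟨z, hzV⟩) ha
      have h1' : X.presheaf.germ (U y ⊓ U y') z hzV a •
          ((f y)⁻¹ : (Γ(Mero.kmod X, U y))ˣ).1.1 ⟨z, hz⟩ =
          ((f y')⁻¹ : (Γ(Mero.kmod X, U y'))ˣ).1.1 ⟨z, hz'⟩ := h1
      have h2 : ((f y : (Γ(Mero.kmod X, U y))ˣ) : Γ(Mero.kmod X, U y)).1 ⟨z, hz⟩ =
          ((f y' : (Γ(Mero.kmod X, U y'))ˣ) : Γ(Mero.kmod X, U y')).1 ⟨z, hz'⟩ *
            algebraMap (X.presheaf.stalk z) (Mero.KStalk X z)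
              (X.presheaf.germ (U y ⊓ U y') z hzV a) := by
        have h3 := congrArg (fun w => ((f y' : (Γ(Mero.kmod X, U y'))ˣ) :
          Γ(Mero.kmod X, U y')).1 ⟨z, hz'⟩ * w *
            ((f y : (Γ(Mero.kmod X, U y))ˣ) : Γ(Mero.kmod X, U y)).1 ⟨z, hz⟩) h1'
        simp only at h3
        rw [unit_mul_inv_apply, one_mul, Algebra.smul_def, mul_assoc, mul_assoc,
          inv_mul_unit_apply', mul_one] at h3
        exact h3.symm
      -- generators
      have h4 : res L hV' (e y') = a • res L hV (e y) := by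
        change res L hV' (φ.inv.app (U y') _) = a • res L hV (φ.inv.app (U y) _)
        rw [Groth.Agent.Helper1.ModGlue.app_res, Groth.Agent.Helper1.ModGlue.app_res, ← ha,
          Scheme.Modules.Hom.app_smul]
      have h5 : L.presheaf.germ (U y') z hz' (e y') =
          X.presheaf.germ (U y ⊓ U y') z hzV a • L.presheaf.germ (U y) z hz (e y) := by
        rw [← germ_res_L hV' z hzV, h4, Mero.germ_smul, germ_res_L]
      rw [h5, h2, mul_smul, alg_smul_mk])
  refine ⟨s, IsLU.isRegularMero ?_⟩
  intro y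
  exact ⟨U y, hyU y, e y, he y, f y, fun z => hs y z⟩

theorem S5087_main (X : Scheme.{u}) (L : X.Modules) (hL : PicF.IsInvertible L) :
    (∃ D : Mero.Divisor X, Nonempty (L ≅ Mero.divMod D)) ↔ Mero.HasRegularMero L := by
  constructor
  · rintro ⟨D, ⟨φ⟩⟩
    exact hasRegularMero_of_iso D φ
  · exact exists_divisor_of_hasRegularMero hL

end Groth.Agent.Lead.MeroL
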