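import Mathlib
import Groth.Prelude.Def_MeroDiv
import Groth.Agent.Lib.Lead.MeroL20

/-!
# A generator on a schematically dense open gives a regular meromorphic section (lead)
-/

set_option autoImplicit false
set_option backward.isDefEq.respectTransparency.types false
set_option synthInstance.maxHeartbeats 400000
set_option linter.style.haveILetI false
set_option linter.unusedSectionVars false
universe u

open CategoryTheory CategoryTheory.Limits AlgebraicGeometry TopologicalSpace Opposite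

namespace Groth.Agent.Lead.MeroL

open Groth.Agent.Helper1.LGen Groth.Agent.Helper1.QcCech

variable {X : Scheme.{u}} {L : X.Modules}

/-- schematic density of an open -/
def SD (V : X.Opens) : Prop :=
  ∀ W : X.Opens, Function.Injective ⇑(X.presheaf.map (homOfLE (inf_le_left : W ⊓ V ≤ W)).op)

theorem SD.inf {V : X.Opens} (hV : SD V) (U : X.Opens) :
    ∀ W : X.Opens, W ≤ U →
      Function.Injective ⇑(X.presheaf.map (homOfLE (inf_le_left : W ⊓ (U ⊓ V) ≤ W)).op) := by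
  intro W hW
  have hle : W ⊓ V ≤ W ⊓ (U ⊓ V) := le_inf inf_le_left (le_inf (inf_le_left.trans hW) inf_le_right)
  have h1 : (⇑(X.presheaf.map (homOfLE hle).op)) ∘
      ⇑(X.presheaf.map (homOfLE (inf_le_left : W ⊓ (U ⊓ V) ≤ W)).op) =
      ⇑(X.presheaf.map (homOfLE (inf_le_left : W ⊓ V ≤ W)).op) := by
    funext r
    exact res_res_apply _ _ r
  exact Function.Injective.of_comp (h1 ▸ hV W)

theorem resK_toK {U V : X.Opens} (h : V ≤ U) (r : Γ(X, U)) :
    resK h (Mero.toK X U r) = Mero.toK X V (X.presheaf.map (homOfLE h).op r) := by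
  refine Subtype.ext (funext fun z => ?_)
  change (LocalizedModule.mk (X.presheaf.germ U z.1 (h z.2) r) 1 : Mero.KStalk X z.1) =
    LocalizedModule.mk (X.presheaf.germ V z.1 z.2 (X.presheaf.map (homOfLE h).op r)) 1
  rw [TopCat.Presheaf.germ_res_apply]


/-- chart data relative to a generator on a dense open -/
structure DChart (L : X.Modules) (V : X.Opens) (ε : Γ(L, V)) where
  W : X.Opens
  e : Γ(L, W)
  he : IsGen L W e
  u : (Γ(X, W ⊓ V))ˣ
  hu : res L (inf_le_right : W ⊓ V ≤ V) ε =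
    (u : Γ(X, W ⊓ V)) • res L (inf_le_left : W ⊓ V ≤ W) e
  t : (Γ(Mero.kmod X, W))ˣ
  ht : resK (inf_le_left : W ⊓ V ≤ W) (t : Γ(Mero.kmod X, W)) = Mero.toK X (W ⊓ V) u

/-- the hypothesis under which meromorphic functions extend from schematically dense opens -/
def ExtHyp (X : Scheme.{u}) : Prop :=
  IsLocallyNoetherian X ∨ (IsReduced X ∧ ∀ x : ↥X, ∃ W : X.Opens, x ∈ W ∧
      {Z : Set ↥X | Z ∈ irreducibleComponents ↥X ∧ (Z ∩ (W : Set ↥X)).Nonempty}.Finite)

theorem exists_dchart (hX : ExtHyp X) (hL : PicF.IsInvertible L) {V : X.Opens} (hV : SD V)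
    {ε : Γ(L, V)} (hε : IsGen L V ε) (y : X) : ∃ c : DChart L V ε, y ∈ c.W := by
  obtain ⟨W, e, hyW, he⟩ := exists_isGen hL y
  obtain ⟨u, hu⟩ := Groth.Agent.Helper1.TwForm.IsGen.exists_unit
    (he.res (inf_le_left : W ⊓ V ≤ W)) (hε.res (inf_le_right : W ⊓ V ≤ V))
  obtain ⟨t, ht⟩ := S5086_main X hX W (W ⊓ V) inf_le_left (hV.inf W) (u : Γ(X, W ⊓ V))
  obtain ⟨t', ht'⟩ := S5086_main X hX W (W ⊓ V) inf_le_left (hV.inf W)
    ((u⁻¹ : (Γ(X, W ⊓ V))ˣ) : Γ(X, W ⊓ V))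
  have hinj := Groth.Agent.Helper7.MeroK.S5085_main X W (W ⊓ V) inf_le_left (hV.inf W)
  have h1 : t * t' = 1 := by
    apply hinj
    change resK inf_le_left (t * t') = resK inf_le_left 1
    rw [resK_mul, resK_one]
    change resK inf_le_left t = _ at ht
    change resK inf_le_left t' = _ at ht'
    rw [ht, ht', ← map_mul, Units.mul_inv, map_one]
  exact ⟨⟨W, e, he, u, hu, ⟨t, t', h1, by rw [mul_comm]; exact h1⟩, ht⟩, hyW⟩

theorem DChart.compat {V : X.Opens} (hV : SD V) {ε : Γ(L, V)} (c c' : DChart L V ε) (z : X)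
    (hz : z ∈ c.W) (hz' : z ∈ c'.W) :
    (c.t : Γ(Mero.kmod X, c.W)).1 ⟨z, hz⟩ •
        (LocalizedModule.mk (L.presheaf.germ c.W z hz c.e) 1 : Mero.MStalk L z) =
      (c'.t : Γ(Mero.kmod X, c'.W)).1 ⟨z, hz'⟩ •
        LocalizedModule.mk (L.presheaf.germ c'.W z hz' c'.e) 1 := by
  have hW : c.W ⊓ c'.W ≤ c.W := inf_le_left
  have hW' : c.W ⊓ c'.W ≤ c'.W := inf_le_right
  have hzW : z ∈ c.W ⊓ c'.W := ⟨hz, hz'⟩
  obtain ⟨a, ha⟩ := (c.he.res hW).exists_coeff (res L hW' c'.e)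
  -- the key identity of meromorphic functions on the intersection
  have hK : resK hW (c.t : Γ(Mero.kmod X, c.W)) =
      Mero.toK X (c.W ⊓ c'.W) a * resK hW' (c'.t : Γ(Mero.kmod X, c'.W)) := by
    apply Groth.Agent.Helper7.MeroK.S5085_main X (c.W ⊓ c'.W) ((c.W ⊓ c'.W) ⊓ V) inf_le_left
      (hV.inf (c.W ⊓ c'.W))
    have hA : (c.W ⊓ c'.W) ⊓ V ≤ c.W ⊓ V := inf_le_inf_right V hW
    have hA' : (c.W ⊓ c'.W) ⊓ V ≤ c'.W ⊓ V := inf_le_inf_right V hW'
    have hB : (c.W ⊓ c'.W) ⊓ V ≤ c.W ⊓ c'.W := inf_le_left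
    change resK hB (resK hW (c.t : Γ(Mero.kmod X, c.W))) =
      resK hB (Mero.toK X (c.W ⊓ c'.W) a * resK hW' (c'.t : Γ(Mero.kmod X, c'.W)))
    have e1 : resK hB (resK hW (c.t : Γ(Mero.kmod X, c.W))) =
        resK hA (resK (inf_le_left : c.W ⊓ V ≤ c.W) (c.t : Γ(Mero.kmod X, c.W))) := rfl
    have e2 : resK hB (resK hW' (c'.t : Γ(Mero.kmod X, c'.W))) =
        resK hA' (resK (inf_le_left : c'.W ⊓ V ≤ c'.W) (c'.t : Γ(Mero.kmod X, c'.W))) := rfl
    rw [resK_mul, e1, e2, c.ht, c'.ht, resK_toK, resK_toK, resK_toK, ← map_mul]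
    congr 1
    -- compare coefficients with respect to the generator `c.e`
    apply (c.he ((c.W ⊓ c'.W) ⊓ V) (hB.trans hW)).1
    change resR hA (c.u : Γ(X, c.W ⊓ V)) • res L (hB.trans hW) c.e =
      (resR hB a * resR hA' (c'.u : Γ(X, c'.W ⊓ V))) • res L (hB.trans hW) c.e
    have f1 : resR hA (c.u : Γ(X, c.W ⊓ V)) • res L (hB.trans hW) c.e =
        res L (inf_le_right : c.W ⊓ c'.W ⊓ V ≤ V) ε := by
      rw [← res_res L (inf_le_left : c.W ⊓ V ≤ c.W) hA, ← res_smul, ← c.hu, res_res]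
    have f2 : (resR hB a * resR hA' (c'.u : Γ(X, c'.W ⊓ V))) • res L (hB.trans hW) c.e =
        res L (inf_le_right : c.W ⊓ c'.W ⊓ V ≤ V) ε := by
      rw [mul_comm, mul_smul, ← res_res L hW hB, ← res_smul, ha, res_res,
        ← res_res L (inf_le_left : c'.W ⊓ V ≤ c'.W) hA', ← res_smul, ← c'.hu, res_res]
    rw [f1, f2]
  have h2 := congrArg (fun T : Γ(Mero.kmod X, c.W ⊓ c'.W) => T.1 ⟨z, hzW⟩) hK
  have h2' : (c.t : Γ(Mero.kmod X, c.W)).1 ⟨z, hz⟩ =
      algebraMap (X.presheaf.stalk z) (Mero.KStalk X z) (X.presheaf.germ (c.W ⊓ c'.W) z hzW a) *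
        (c'.t : Γ(Mero.kmod X, c'.W)).1 ⟨z, hz'⟩ := h2
  have h5 : L.presheaf.germ c'.W z hz' c'.e =
      X.presheaf.germ (c.W ⊓ c'.W) z hzW a • L.presheaf.germ c.W z hz c.e := by
    rw [← germ_res_L hW' z hzW, ← ha, Mero.germ_smul, germ_res_L]
  rw [h5, h2', mul_comm, mul_smul, alg_smul_mk]

/-- **Theorem R**: a generator over a schematically dense open yields a regular meromorphic
section -/
theorem hasRegularMero_of_dense_gen (hX : ExtHyp X) (hL : PicF.IsInvertible L) {V : X.Opens}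
    (hV : SD V) {ε : Γ(L, V)} (hε : IsGen L V ε) : Mero.HasRegularMero L := by
  have hc := exists_dchart hX hL hV hε
  choose c hyc using hc
  obtain ⟨s, hs⟩ := exists_mer_of_charts (L := L) (fun y => (c y).W) (fun x => ⟨x, hyc x⟩)
    (fun y => (c y).e) (fun y => (((c y).t : (Γ(Mero.kmod X, (c y).W))ˣ) : Γ(Mero.kmod X, (c y).W)))
    (fun y y' z hz hz' => (c y).compat hV (c y') z hz hz')
  refine ⟨s, IsLU.isRegularMero ?_⟩
  intro y
  exact ⟨(c y).W, hyc y, (c y).e, (c y).he, (c y).t, fun z => hs y z⟩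

end Groth.Agent.Lead.MeroL
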