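import Mathlib
import Groth.Prelude.Def_MeroDiv
import Groth.Agent.Lib.Lead.MeroL21

/-!
# Generators of invertible modules near the generic points (lead)
-/

set_option autoImplicit false
set_option backward.isDefEq.respectTransparency.types false
set_option synthInstance.maxHeartbeats 400000
set_option linter.style.haveILetI false
set_option linter.unusedSectionVars false
universe u

open CategoryTheory CategoryTheory.Limits AlgebraicGeometry TopologicalSpace Opposite

namespace Groth.Agent.Lead.MeroL

open Groth.Agent.Helper1.LGen Groth.Agent.Helper1.QcCech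

/-- irreducible components meeting an open with finitely many components -/
theorem finite_components_meeting {α : Type*} [TopologicalSpace α] [T0Space α] [QuasiSober α]
    (U : Opens α) (hfin : (irreducibleComponents ↥U).Finite) :
    {Z : Set α | Z ∈ irreducibleComponents α ∧ (Z ∩ (U : Set α)).Nonempty}.Finite := by
  have hgen : (genericPoints ↥U).Finite := genericPoints.finite hfin
  refine Set.Finite.subset (hgen.image (fun θ : ↥U => closure ({θ.1} : Set α))) ?_
  rintro Z ⟨hZ, hZU⟩
  let η : α := (genericPoints.ofComponent ⟨Z, hZ⟩).1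
  have hη : IsGenericPoint η Z := genericPoints.isGenericPoint_ofComponent ⟨Z, hZ⟩
  have hηU : η ∈ U := (hη.mem_open_set_iff U.2).mpr hZU
  refine ⟨⟨η, hηU⟩, ?_, hη.def⟩
  change closure ({⟨η, hηU⟩} : Set ↥U) ∈ irreducibleComponents ↥U
  rw [irreducibleComponents_eq_maximals_closed]
  refine ⟨⟨isClosed_closure, isIrreducible_singleton.closure⟩, fun T hT hle => ?_⟩
  haveI : QuasiSober ↥U := U.2.isOpenEmbedding_subtypeVal.quasiSober
  have hθ : IsGenericPoint hT.2.genericPoint T := hT.2.isGenericPoint_genericPoint hT.1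
  set θ := hT.2.genericPoint with hθdef
  have h1 : θ ⤳ (⟨η, hηU⟩ : ↥U) := hθ.specializes (hle (subset_closure rfl))
  have h2 : θ.1 ⤳ η := h1.map continuous_subtype_val
  have h3 : closure ({θ.1} : Set α) ≤ Z := by
    apply hZ.2 isIrreducible_singleton.closure
    rw [← hη.def]
    exact specializes_iff_closure_subset.mp h2
  have h4 : η ⤳ θ.1 := hη.specializes (h3 (subset_closure rfl))
  have h5 : θ.1 = η := (h2.antisymm h4).eq
  have h6 : θ = ⟨η, hηU⟩ := Subtype.ext h5
  rw [← hθ.def, h6]


variable {X : Scheme.{u}} {L : X.Modules}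

/-- the irreducible components are locally finite -/
def LF (X : Scheme.{u}) : Prop :=
  ∀ x : ↥X, ∃ W : X.Opens, x ∈ W ∧
      {Z : Set ↥X | Z ∈ irreducibleComponents ↥X ∧ (Z ∩ (W : Set ↥X)).Nonempty}.Finite

/-- an invertible module has a generator over an open containing all the generic points, when
the irreducible components are locally finite -/
theorem exists_gen_on_generic (hlf : LF X) (hL : PicF.IsInvertible L) :
    ∃ (V : X.Opens) (ε : Γ(L, V)), IsGen L V ε ∧ ∀ η ∈ genericPoints ↥X, η ∈ V := by
  let G := genericPoints ↥X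
  let F : G → Set ↥X := fun η => closure ({η.1} : Set ↥X)
  have hFinj : Function.Injective F := by
    intro η η' h
    have h' : closure ({η.1} : Set ↥X) = closure ({η'.1} : Set ↥X) := h
    have h1 : IsGenericPoint η'.1 (closure ({η.1} : Set ↥X)) := h'.symm
    exact Subtype.ext ((isGenericPoint_closure (x := η.1)).eq h1)
  have hLF : LocallyFinite F := by
    intro x
    obtain ⟨W, hxW, hfin⟩ := hlf x
    refine ⟨W, W.2.mem_nhds hxW, ?_⟩
    refine Set.Finite.subset (hfin.preimage (hFinj.injOn (s := F ⁻¹' _))) ?_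
    intro η hη
    exact ⟨η.2, hη⟩
  let C : G → Set ↥X := fun η => ⋃ η' : {η' : G // η' ≠ η}, F η'.1
  have hC : ∀ η, IsClosed (C η) := fun η =>
    (hLF.comp_injective Subtype.val_injective).isClosed_iUnion (fun _ => isClosed_closure)
  have hch := fun η : G => exists_isGen hL η.1
  choose Wc ec hηW hec using hch
  let N : G → X.Opens := fun η => Wc η ⊓ ⟨(C η)ᶜ, (hC η).isOpen_compl⟩
  have hmem : ∀ η : G, η.1 ∈ N η := by
    intro η
    refine ⟨hηW η, ?_⟩
    change η.1 ∉ C η
    intro hmem
    obtain ⟨η', hη'⟩ := Set.mem_iUnion.1 hmem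
    have h1 : closure ({η.1} : Set ↥X) ⊆ closure ({η'.1.1} : Set ↥X) :=
      (isClosed_closure.closure_subset_iff).2 (Set.singleton_subset_iff.2 hη')
    have h2 : closure ({η'.1.1} : Set ↥X) ≤ closure ({η.1} : Set ↥X) :=
      η.2.2 isIrreducible_singleton.closure h1
    exact η'.2 (hFinj (le_antisymm h2 h1))
  have hdisj : ∀ η η' : G, η ≠ η' → ∀ z : ↥X, z ∈ N η → z ∉ N η' := by
    intro η η' hne z hz hz'
    let Z : irreducibleComponents ↥X :=
      ⟨irreducibleComponent z, irreducibleComponent_mem_irreducibleComponents z⟩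
    let θ : G := genericPoints.ofComponent Z
    have hθ : IsGenericPoint θ.1 (irreducibleComponent z) := genericPoints.isGenericPoint_ofComponent Z
    have hzθ : z ∈ F θ := by
      change z ∈ closure ({θ.1} : Set ↥X)
      rw [hθ.def]
      exact mem_irreducibleComponent
    have h1 : θ = η := by
      by_contra hne'
      exact hz.2 (Set.mem_iUnion.2 ⟨⟨θ, hne'⟩, hzθ⟩)
    have h2 : θ = η' := by
      by_contra hne'
      exact hz'.2 (Set.mem_iUnion.2 ⟨⟨θ, hne'⟩, hzθ⟩)
    exact hne (h1.symm.trans h2)
  obtain ⟨ε, hε⟩ := Groth.Agent.Helper1.TwistSec.glue_of_compatible L N (⨆ η, N η)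
    (fun η => le_iSup N η) le_rfl (fun η => res L inf_le_left (ec η)) (by
      intro η η'
      by_cases h : η = η'
      · subst h
        rfl
      · apply Groth.Agent.Helper1.TwistSec.eq_of_locally
        intro x hx
        exact absurd hx.2 (hdisj η η' h x hx.1))
  refine ⟨⨆ η, N η, ε, ?_, fun η hη => Opens.mem_iSup.2 ⟨⟨η, hη⟩, hmem ⟨η, hη⟩⟩⟩
  apply Groth.Agent.Helper1.LGenLoc.isGen_of_locally
  intro x hx
  obtain ⟨η, hxη⟩ := Opens.mem_iSup.1 hx
  refine ⟨N η, le_iSup N η, hxη, ?_⟩
  rw [hε η]
  exact (hec η).res inf_le_left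


open Groth.Agent.Helper7.FinType in
set_option backward.isDefEq.respectTransparency false in
/-- on a reduced scheme an open containing the generic points is schematically dense -/
theorem sd_of_generic [IsReduced X] (V : X.Opens) (hV : ∀ η ∈ genericPoints ↥X, η ∈ V) : SD V := by
  intro W
  refine (injective_iff_map_eq_zero (X.presheaf.map (homOfLE (inf_le_left : W ⊓ V ≤ W)).op).hom).mpr ?_
  intro r hr
  apply TopCat.Presheaf.section_ext X.sheaf W r 0
  intro x hx
  obtain ⟨_, ⟨W', hW'aff, rfl⟩, hxW', hW'W⟩ :=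
    (X.isBasis_affineOpens).exists_subset_of_mem_open hx W.2
  have hW' : IsAffineOpen W' := hW'aff
  have hle : W' ≤ W := hW'W
  have h0 : X.presheaf.map (homOfLE hle).op r = 0 := by
    apply eq_zero_of_germ_generic W' hW'
    intro p hp hpp
    have hη : hW'.fromSpec ⟨p, hpp⟩ ∈ genericPoints ↥X :=
      closure_fromSpec_mem_irreducibleComponents W' hW' p hp hpp
    have hηV := hV _ hη
    have hηW' : hW'.fromSpec ⟨p, hpp⟩ ∈ W' := fromSpec_mem hW' _
    rw [TopCat.Presheaf.germ_res_apply]
    have h1 := TopCat.Presheaf.germ_res_apply X.presheaf (homOfLE (inf_le_left : W ⊓ V ≤ W))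
      (hW'.fromSpec ⟨p, hpp⟩) ⟨hle hηW', hηV⟩ r
    rw [← h1]
    have hr' : X.presheaf.map (homOfLE (inf_le_left : W ⊓ V ≤ W)).op r = 0 := hr
    rw [hr', map_zero]
  have h2 := TopCat.Presheaf.germ_res_apply X.presheaf (homOfLE hle) x hxW' r
  change X.presheaf.germ W x hx r = X.presheaf.germ W x hx 0
  rw [map_zero, ← h2, h0, map_zero]

open Groth.Agent.Helper7.FinType in
/-- an open containing the weakly associated points is schematically dense -/
theorem sd_of_weakAss (V : X.Opens)
    (hV : ∀ y : ↥X, Curv2.IsWeakAssPoint (Coh.structureModule X) y → y ∈ V) : SD V := by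
  intro W
  refine (injective_iff_map_eq_zero (X.presheaf.map (homOfLE (inf_le_left : W ⊓ V ≤ W)).op).hom).mpr ?_
  intro r hr
  have hr' : X.presheaf.map (homOfLE (inf_le_left : W ⊓ V ≤ W)).op r = 0 := hr
  have := section_eq_zero_of_forall_isWeakAssPoint (Coh.structureModule X)
    (isQuasicoherent_structureModule X) W (Groth.Agent.S8869.H8869.toM X r) (by
      intro y hy hwa
      apply (Groth.Agent.S8869.H8869.mgerm_eq_zero_iff X y hy r).mpr
      have h1 := TopCat.Presheaf.germ_res_apply X.presheaf (homOfLE (inf_le_left : W ⊓ V ≤ W))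
        y ⟨hy, hV y hwa⟩ r
      rw [← h1, hr', map_zero])
  exact this

end Groth.Agent.Lead.MeroL
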