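import Mathlib
import Groth.Prelude.Def_MeroDiv
import Groth.Agent.Lib.Lead.MeroL22

/-!
# Existence of regular meromorphic sections (lead)
-/

set_option autoImplicit false
set_option backward.isDefEq.respectTransparency.types false
set_option synthInstance.maxHeartbeats 400000
set_option linter.style.haveILetI false
set_option linter.unusedSectionVars false
universe u

open CategoryTheory CategoryTheory.Limits AlgebraicGeometry TopologicalSpace Opposite

namespace Groth.Agent.Lead.MeroL

open Groth.Agent.Helper1.LGen Groth.Agent.Helper1.QcCech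

variable {X : Scheme.{u}} {L : X.Modules}

theorem mem_genericPoints_of_forall_specializes (y : X) (h : ∀ y' : X, y' ⤳ y → y' = y) :
    y ∈ genericPoints ↥X := by
  let Z : irreducibleComponents ↥X :=
    ⟨irreducibleComponent y, irreducibleComponent_mem_irreducibleComponents y⟩
  let θ := genericPoints.ofComponent Z
  have hθ : IsGenericPoint θ.1 (irreducibleComponent y) := genericPoints.isGenericPoint_ofComponent Z
  have h1 : θ.1 = y := h _ (hθ.specializes mem_irreducibleComponent)
  rw [← h1]
  exact θ.2

/-- reduced, locally finitely many components -/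
theorem hasRegularMero_of_reduced [IsReduced X] (hlf : LF X) (hL : PicF.IsInvertible L) :
    Mero.HasRegularMero L := by
  obtain ⟨V, ε, hε, hV⟩ := exists_gen_on_generic hlf hL
  exact hasRegularMero_of_dense_gen (Or.inr ⟨inferInstance, hlf⟩) hL (sd_of_generic V hV) hε

theorem S5089_main (X : Scheme.{u}) [IsReduced X]
    (hX : ∀ x : ↥X, ∃ W : X.Opens, x ∈ W ∧
      {Z : Set ↥X | Z ∈ irreducibleComponents ↥X ∧ (Z ∩ (W : Set ↥X)).Nonempty}.Finite)
    (L : X.Modules) (hL : PicF.IsInvertible L) :
    ∃ D : Mero.Divisor X, Nonempty (L ≅ Mero.divMod D) :=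
  exists_divisor_of_hasRegularMero hL (hasRegularMero_of_reduced hX hL)

theorem S8866_main (X : Scheme.{u}) [IsReduced X]
    (hfin : ∀ U : X.Opens, IsCompact (U : Set ↥X) → (irreducibleComponents ↥(U : Scheme.{u})).Finite)
    (L : X.Modules) (hL : PicF.IsInvertible L) : Mero.HasRegularMero L := by
  apply hasRegularMero_of_reduced _ hL
  intro x
  obtain ⟨_, ⟨W, hWaff, rfl⟩, hxW, -⟩ :=
    (X.isBasis_affineOpens).exists_subset_of_mem_open (Set.mem_univ x) isOpen_univ
  have hW : IsAffineOpen W := hWaff
  exact ⟨W, hxW, finite_components_meeting W (hfin W hW.isCompact)⟩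

open Groth.Agent.Helper7.FinType in
theorem S8867_main (X : Scheme.{u}) [IsLocallyNoetherian X]
    (hne : ∀ x : ↥X, Curv2.IsAssPoint (Coh.structureModule X) x →
      ∀ y : ↥X, Curv2.IsAssPoint (Coh.structureModule X) y → y ⤳ x → y = x)
    (L : X.Modules) (hL : PicF.IsInvertible L) : Mero.HasRegularMero L := by
  have hlf : LF X := by
    intro x
    obtain ⟨_, ⟨W, hWaff, rfl⟩, hxW, -⟩ :=
      (X.isBasis_affineOpens).exists_subset_of_mem_open (Set.mem_univ x) isOpen_univ
    have hW : IsAffineOpen W := hWaff
    haveI : IsNoetherianRing Γ(X, W) := IsLocallyNoetherian.component_noetherian ⟨W, hW⟩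
    haveI : NoetherianSpace ↥W := noetherianSpace_of_isAffineOpen W hW
    exact ⟨W, hxW, finite_components_meeting W NoetherianSpace.finite_irreducibleComponents⟩
  obtain ⟨V, ε, hε, hV⟩ := exists_gen_on_generic hlf hL
  refine hasRegularMero_of_dense_gen (Or.inl inferInstance) hL (sd_of_weakAss V ?_) hε
  intro y hy
  apply hV
  apply mem_genericPoints_of_forall_specializes
  obtain ⟨η, hηy, hgen, hη⟩ := exists_generization_isWeakAssPoint X y
  have h1 : η = y := hne y ((isAssPoint_iff_isWeakAssPoint _ y).mpr hy) η
    ((isAssPoint_iff_isWeakAssPoint _ η).mpr hη) hηy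
  rw [← h1]
  exact hgen

end Groth.Agent.Lead.MeroL
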