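import Mathlib
import Groth.Prelude.Def_MeroDiv
import Groth.Agent.Lib.Lead.MeroL23
import Groth.Agent.Lib.Helper7.MeroK
import Groth.Agent.Lib.Helper7.CohStalk.Pushforward

/-!
# Weakly associated points and associated primes; prime avoidance (lead)
-/

set_option autoImplicit false
set_option backward.isDefEq.respectTransparency.types false
set_option synthInstance.maxHeartbeats 400000
set_option linter.style.haveILetI false
set_option linter.unusedSectionVars false
universe u

open CategoryTheory CategoryTheory.Limits AlgebraicGeometry TopologicalSpace Opposite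

namespace Groth.Agent.Lead.MeroL

open Groth.Agent.Helper1.LGen Groth.Agent.Helper1.QcCech

/-- elements separating pairwise incomparable primes -/
theorem exists_avoid {A : Type*} [CommRing A] (T : Finset (PrimeSpectrum A))
    (hT : ∀ q ∈ T, ∀ q' ∈ T, q'.asIdeal ≤ q.asIdeal → q' = q) :
    ∃ a : PrimeSpectrum A → A, ∀ q ∈ T, a q ∉ q.asIdeal ∧
      ∀ q' ∈ T, q' ≠ q → a q ∈ q'.asIdeal := by
  classical
  have hb : ∀ q q' : PrimeSpectrum A, ∃ b : A, q ∈ T → q' ∈ T → q' ≠ q →
      b ∈ q'.asIdeal ∧ b ∉ q.asIdeal := by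
    intro q q'
    by_cases h : q ∈ T ∧ q' ∈ T ∧ q' ≠ q
    · have hnle : ¬ q'.asIdeal ≤ q.asIdeal := fun hle => h.2.2 (hT q h.1 q' h.2.1 hle)
      obtain ⟨b, hb1, hb2⟩ := Set.not_subset.1 hnle
      exact ⟨b, fun _ _ _ => ⟨hb1, hb2⟩⟩
    · exact ⟨0, fun h1 h2 h3 => absurd ⟨h1, h2, h3⟩ h⟩
  choose b hb using hb
  refine ⟨fun q => ∏ q' ∈ T.erase q, b q q', fun q hq => ⟨?_, fun q' hq' hne => ?_⟩⟩
  · rw [Ideal.IsPrime.prod_mem_iff]
    rintro ⟨q', hq', hmem⟩
    exact (hb q q' hq (Finset.mem_of_mem_erase hq') (Finset.ne_of_mem_erase hq')).2 hmem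
  · rw [Ideal.IsPrime.prod_mem_iff]
    exact ⟨q', Finset.mem_erase.2 ⟨hne, hq'⟩, (hb q q' hq hq' hne).1⟩


variable {X : Scheme.{u}} {L : X.Modules}

open Groth.Agent.Helper7.FinType in
set_option backward.isDefEq.respectTransparency false in
/-- on a locally Noetherian scheme a weakly associated point gives an associated prime of any
affine open containing it -/
theorem isAssociatedPrime_primeIdealOf_of_weakAss [IsLocallyNoetherian X] {U : X.Opens}
    (hU : IsAffineOpen U) (y : X) (hyU : y ∈ U)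
    (hy : Curv2.IsWeakAssPoint (Coh.structureModule X) y) :
    IsAssociatedPrime (hU.primeIdealOf ⟨y, hyU⟩).asIdeal Γ(X, U) := by
  haveI : IsNoetherianRing Γ(X, U) := IsLocallyNoetherian.component_noetherian ⟨U, hU⟩
  rw [isWeakAssPoint_iff_exists_mem_minimalPrimes (Coh.structureModule X)
    (isQuasicoherent_structureModule X) hU y hyU] at hy
  obtain ⟨n, hn⟩ := hy
  let n' : Γ(X, U) := n
  have hker : LinearMap.ker (LinearMap.toSpanSingleton Γ(X, U) Γ(Coh.structureModule X, U) n) =
      (⊥ : Submodule Γ(X, U) Γ(X, U)).colon {n'} := by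
    ext a
    rw [LinearMap.mem_ker, LinearMap.toSpanSingleton_apply, Submodule.mem_colon_singleton,
      Submodule.mem_bot]
  rw [hker] at hn
  obtain ⟨x', hx'⟩ := Submodule.exists_eq_colon_of_mem_minimalPrimes hn
  rw [isAssociatedPrime_iff]
  exact ⟨hn.1.1, x', hx'⟩

open Groth.Agent.Helper7.FinType in
theorem isAssociatedPrime_maximalIdeal_of_weakAss [IsLocallyNoetherian X] (y : X)
    (hy : Curv2.IsWeakAssPoint (Coh.structureModule X) y) :
    IsAssociatedPrime (IsLocalRing.maximalIdeal (X.presheaf.stalk y)) (X.presheaf.stalk y) := by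
  obtain ⟨_, ⟨U, hUaff, rfl⟩, hyU, -⟩ :=
    (X.isBasis_affineOpens).exists_subset_of_mem_open (Set.mem_univ y) isOpen_univ
  have hU : IsAffineOpen U := hUaff
  have h := isAssociatedPrime_primeIdealOf_of_weakAss hU y hyU hy
  have key : ∀ (q : PrimeSpectrum Γ(X, U)) (_ : hU.fromSpec q = y),
      IsAssociatedPrime q.asIdeal Γ(X, U) →
      IsAssociatedPrime (IsLocalRing.maximalIdeal (X.presheaf.stalk y)) (X.presheaf.stalk y) := by
    intro q hq h'
    clear h
    subst hq
    exact Groth.Agent.Helper7.MeroK.isAssociatedPrime_maximalIdeal_stalk hU q h'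
  exact key _ (hU.fromSpec_primeIdealOf ⟨y, hyU⟩) h

end Groth.Agent.Lead.MeroL
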