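import Mathlib
import Groth.Prelude.Def_MeroDiv
import Groth.Agent.Lib.Lead.MeroL24
import Groth.Agent.Lib.Helper1.QcLoc
import Groth.Agent.Lib.Helper1.InvQc

/-!
# Generators of invertible modules near finitely many points of an affine open (lead)
-/

set_option autoImplicit false
set_option backward.isDefEq.respectTransparency.types false
set_option synthInstance.maxHeartbeats 400000
set_option linter.style.haveILetI false
set_option linter.unusedSectionVars false
universe u

open CategoryTheory CategoryTheory.Limits AlgebraicGeometry TopologicalSpace Opposite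

namespace Groth.Agent.Lead.MeroL

open Groth.Agent.Helper1.LGen Groth.Agent.Helper1.QcCech

variable {X : Scheme.{u}} {L : X.Modules}

/-- a section over an affine open which generates near a given point -/
theorem exists_section_gen_near (hL : PicF.IsInvertible L) {W₀ : X.Opens} (hW₀ : IsAffineOpen W₀)
    (y : X) (hy : y ∈ W₀) :
    ∃ (c : Γ(X, W₀)) (m : Γ(L, W₀)), y ∈ X.basicOpen c ∧
      IsGen L (X.basicOpen c) (res L (X.basicOpen_le c) m) := by
  obtain ⟨W', e', hyW', he'⟩ := exists_isGen hL y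
  obtain ⟨c, hcW', hyc⟩ := hW₀.exists_basicOpen_le ⟨y, hyW'⟩ hy
  haveI : L.IsQuasicoherent := Groth.Agent.Helper1.InvQc.isQuasicoherent_of_isInvertible L hL
  obtain ⟨n, t, ht⟩ := Groth.Agent.Helper1.QcLoc.exists_extend hW₀ L c (res L hcW' e')
  refine ⟨c, t, hyc, ?_⟩
  have hu : IsUnit (resR (X.basicOpen_le c) c) := X.toRingedSpace.isUnit_res_basicOpen c
  have ht' : res L (X.basicOpen_le c) t = (resR (X.basicOpen_le c) c) ^ n • res L hcW' e' := ht
  rw [ht']
  obtain ⟨v, hv⟩ := hu.pow n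
  rw [← hv]
  exact Groth.Agent.Helper1.TwForm.IsGen.smul_unit (he'.res hcW') v


open Groth.Agent.Helper7.MeroK in
set_option backward.isDefEq.respectTransparency false in
/-- an invertible module has a generator over an open containing a given finite set of pairwise
incomparable points of an affine open -/
theorem exists_gen_near_finset (hL : PicF.IsInvertible L) {W₀ : X.Opens} (hW₀ : IsAffineOpen W₀)
    (T : Finset (PrimeSpectrum Γ(X, W₀)))
    (hT : ∀ q ∈ T, ∀ q' ∈ T, q'.asIdeal ≤ q.asIdeal → q' = q) :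
    ∃ (V : X.Opens) (ε : Γ(L, V)), IsGen L V ε ∧ ∀ q ∈ T, hW₀.fromSpec q ∈ V := by
  classical
  obtain ⟨a, ha⟩ := exists_avoid T hT
  have hloc := fun q : PrimeSpectrum Γ(X, W₀) =>
    exists_section_gen_near hL hW₀ (hW₀.fromSpec q) (fromSpec_mem hW₀ q)
  choose c m hyc hgen using hloc
  let x : Γ(L, W₀) := ∑ q ∈ T, a q • m q
  have hψ : ∀ q q' : PrimeSpectrum Γ(X, W₀), ∃ ψ : Γ(X, X.basicOpen (c q)),
      ψ • res L (X.basicOpen_le (c q)) (m q) = res L (X.basicOpen_le (c q)) (m q') :=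
    fun q q' => (hgen q).exists_coeff _
  choose ψ hψ using hψ
  have hψ1 : ∀ q, ψ q q = 1 := by
    intro q
    apply (Groth.Agent.Helper1.TensGen.IsGen.bijective_self (hgen q)).1
    change ψ q q • res L (X.basicOpen_le (c q)) (m q) =
      (1 : Γ(X, X.basicOpen (c q))) • res L (X.basicOpen_le (c q)) (m q)
    rw [hψ q q, one_smul]
  let φ : ∀ q : PrimeSpectrum Γ(X, W₀), Γ(X, X.basicOpen (c q)) := fun q =>
    ∑ q' ∈ T, resR (X.basicOpen_le (c q)) (a q') * ψ q q'
  have hx : ∀ q, res L (X.basicOpen_le (c q)) x =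
      φ q • res L (X.basicOpen_le (c q)) (m q) := by
    intro q
    change res L _ (∑ q' ∈ T, a q' • m q') = (∑ q' ∈ T, _) • _
    rw [map_sum, Finset.sum_smul]
    refine Finset.sum_congr rfl fun q' _ => ?_
    rw [res_smul, ← hψ q q', mul_smul]
  have hgermres : ∀ (q : PrimeSpectrum Γ(X, W₀)) (r : Γ(X, W₀)),
      X.presheaf.germ (X.basicOpen (c q)) (hW₀.fromSpec q) (hyc q) (resR (X.basicOpen_le (c q)) r) =
        X.presheaf.germ W₀ (hW₀.fromSpec q) (fromSpec_mem hW₀ q) r := fun q r =>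
    TopCat.Presheaf.germ_res_apply X.presheaf (homOfLE (X.basicOpen_le (c q))) _ (hyc q) r
  have hunit : ∀ q ∈ T,
      IsUnit (X.presheaf.germ (X.basicOpen (c q)) (hW₀.fromSpec q) (hyc q) (φ q)) := by
    intro q hq
    rw [← IsLocalRing.notMem_maximalIdeal]
    intro hmem
    have hsplit : φ q = resR (X.basicOpen_le (c q)) (a q) * ψ q q +
        ∑ q' ∈ T.erase q, resR (X.basicOpen_le (c q)) (a q') * ψ q q' :=
      (Finset.add_sum_erase T _ hq).symm
    rw [hsplit, map_add, hψ1 q, mul_one] at hmem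
    have hrest : X.presheaf.germ (X.basicOpen (c q)) (hW₀.fromSpec q) (hyc q)
        (∑ q' ∈ T.erase q, resR (X.basicOpen_le (c q)) (a q') * ψ q q') ∈
          IsLocalRing.maximalIdeal (X.presheaf.stalk (hW₀.fromSpec q)) := by
      rw [map_sum]
      refine Ideal.sum_mem _ fun q' hq' => ?_
      rw [map_mul]
      refine Ideal.mul_mem_right _ _ ?_
      rw [IsLocalRing.mem_maximalIdeal, mem_nonunits_iff, hgermres, isUnit_germ_iff hW₀ q]
      intro hn
      exact hn ((ha q' (Finset.mem_of_mem_erase hq')).2 q hq (Finset.ne_of_mem_erase hq').symm)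
    have hmain := (Ideal.add_mem_iff_left _ hrest).mp hmem
    rw [IsLocalRing.mem_maximalIdeal, mem_nonunits_iff, hgermres, isUnit_germ_iff hW₀ q] at hmain
    exact hmain (ha q hq).1
  -- the open set
  let N : {q // q ∈ T} → X.Opens := fun q => X.basicOpen (φ q.1)
  have hNle : ∀ q, N q ≤ X.basicOpen (c q.1) := fun q => X.basicOpen_le _
  have hNW : ∀ q, N q ≤ W₀ := fun q => (hNle q).trans (X.basicOpen_le _)
  have hVW : (⨆ q, N q) ≤ W₀ := iSup_le hNW
  refine ⟨⨆ q, N q, res L hVW x, ?_, fun q hq => ?_⟩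
  · apply Groth.Agent.Helper1.LGenLoc.isGen_of_locally
    intro z hz
    obtain ⟨q, hzq⟩ := Opens.mem_iSup.1 hz
    refine ⟨N q, le_iSup N q, hzq, ?_⟩
    rw [res_res, ← res_res L (X.basicOpen_le (c q.1)) (hNle q), hx q.1, res_smul]
    have hu : IsUnit (resR (hNle q) (φ q.1)) := X.toRingedSpace.isUnit_res_basicOpen (φ q.1)
    obtain ⟨v, hv⟩ := hu
    rw [← hv]
    exact Groth.Agent.Helper1.TwForm.IsGen.smul_unit ((hgen q.1).res (hNle q)) v
  · refine Opens.mem_iSup.2 ⟨⟨q, hq⟩, ?_⟩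
    exact (X.mem_basicOpen (φ q) (hW₀.fromSpec q) (hyc q)).2 (hunit q hq)


set_option backward.isDefEq.respectTransparency false in
theorem S5088_main (X : Scheme.{u}) [IsLocallyNoetherian X]
    (hX : ∃ W : X.Opens, IsAffineOpen W ∧ ∀ x : ↥X,
      IsAssociatedPrime (IsLocalRing.maximalIdeal ↑(X.presheaf.stalk x)) ↑(X.presheaf.stalk x) →
        x ∈ W)
    (L : X.Modules) (hL : PicF.IsInvertible L) :
    ∃ D : Mero.Divisor X, Nonempty (L ≅ Mero.divMod D) := by
  obtain ⟨W₀, hW₀, hass⟩ := hX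
  haveI : IsNoetherianRing Γ(X, W₀) := IsLocallyNoetherian.component_noetherian ⟨W₀, hW₀⟩
  let S : Set (Ideal Γ(X, W₀)) := associatedPrimes Γ(X, W₀) Γ(X, W₀)
  have hSfin : S.Finite := associatedPrimes.finite _ _
  let T' : Set (PrimeSpectrum Γ(X, W₀)) := {q | Maximal (· ∈ S) q.asIdeal}
  have hT'fin : T'.Finite := by
    refine Set.Finite.of_injOn (f := PrimeSpectrum.asIdeal) (t := S) ?_ ?_ hSfin
    · intro q hq
      exact hq.1
    · intro q _ q' _ h
      exact PrimeSpectrum.ext h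
  let T := hT'fin.toFinset
  have hT : ∀ q ∈ T, ∀ q' ∈ T, q'.asIdeal ≤ q.asIdeal → q' = q := by
    intro q hq q' hq' hle
    rw [Set.Finite.mem_toFinset] at hq hq'
    exact PrimeSpectrum.ext (le_antisymm hle (hq'.2 hq.1 hle))
  obtain ⟨V, ε, hε, hV⟩ := exists_gen_near_finset hL hW₀ T hT
  apply exists_divisor_of_hasRegularMero hL
  refine hasRegularMero_of_dense_gen (Or.inl inferInstance) hL (sd_of_weakAss V ?_) hε
  intro y hy
  have hyW₀ : y ∈ W₀ := hass y (isAssociatedPrime_maximalIdeal_of_weakAss y hy)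
  have h1 : (hW₀.primeIdealOf ⟨y, hyW₀⟩).asIdeal ∈ S :=
    isAssociatedPrime_primeIdealOf_of_weakAss hW₀ y hyW₀ hy
  obtain ⟨P, hle, hP⟩ := hSfin.exists_le_maximal h1
  have hPprime : P.IsPrime := IsAssociatedPrime.isPrime hP.1
  let q : PrimeSpectrum Γ(X, W₀) := ⟨P, hPprime⟩
  have hqT : q ∈ T := (Set.Finite.mem_toFinset _).2 hP
  have hqV := hV q hqT
  have hsp : y ⤳ hW₀.fromSpec q := by
    have h2 : hW₀.fromSpec (hW₀.primeIdealOf ⟨y, hyW₀⟩) ⤳ hW₀.fromSpec q := by
      apply (hW₀.fromSpec.isOpenEmbedding.isInducing.specializes_iff).mpr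
      exact (PrimeSpectrum.le_iff_specializes _ _).mp hle
    rwa [hW₀.fromSpec_primeIdealOf ⟨y, hyW₀⟩] at h2
  exact hsp.mem_open V.2 hqV

end Groth.Agent.Lead.MeroL
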