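import Mathlib
import Groth.Prelude.Def_MeroDiv
import Groth.Prelude.Def_PicF2
import Groth.Prelude.Def_SecTwist
import Groth.Agent.Lib.Lead.MeroL25
import Groth.Agent.Lib.Lead.QCIdeal1
import Groth.Agent.Lib.Helper1.RP11

/-!
# Sections of invertible modules on integral schemes and their zero schemes (lead)
-/

set_option autoImplicit false
set_option backward.isDefEq.respectTransparency.types false
set_option synthInstance.maxHeartbeats 400000
set_option linter.style.haveILetI false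
set_option linter.unusedSectionVars false
universe u

open CategoryTheory CategoryTheory.Limits AlgebraicGeometry TopologicalSpace Opposite

namespace Groth.Agent.Lead.MeroL

open Groth.Agent.Helper1.LGen Groth.Agent.Helper1.QcCech

variable {X : Scheme.{u}} {L : X.Modules}

/-- on an integral scheme a nonzero section of an invertible module is nonzero on every nonempty
open -/
theorem secVal_ne_zero [IsIntegral X] (hL : PicF.IsInvertible L) (s : Coh.structureModule X ⟶ L)
    (hs : s ≠ 0) (W : X.Opens) (hW : (W : Set X).Nonempty) : secVal s W ≠ 0 := by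
  intro h0
  apply hs
  apply Groth.Agent.Helper1.RP11.hom_ext_of_secVal
  have hz : secVal (0 : Coh.structureModule X ⟶ L) ⊤ = 0 := by
    rw [Groth.Agent.Helper1.RP11.secVal_top]
    rfl
  rw [hz]
  apply Groth.Agent.Helper1.TwistSec.eq_of_locally
  intro x _
  obtain ⟨W', e', hxW', he'⟩ := exists_isGen hL x
  refine ⟨W', le_top, hxW', ?_⟩
  rw [res_secVal, map_zero]
  obtain ⟨c', hc'⟩ := he'.exists_coeff (secVal s W')
  have hne : ((W' ⊓ W : X.Opens) : Set X).Nonempty :=
    nonempty_preirreducible_inter W'.2 W.2 ⟨x, hxW'⟩ hW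
  obtain ⟨x', hx'⟩ := hne
  haveI : Nonempty (W' ⊓ W : X.Opens) := ⟨⟨x', hx'⟩⟩
  have h1 : resR (inf_le_left : W' ⊓ W ≤ W') c' • res L (inf_le_left : W' ⊓ W ≤ W') e' =
      (0 : Γ(X, W' ⊓ W)) • res L (inf_le_left : W' ⊓ W ≤ W') e' := by
    rw [zero_smul, ← res_smul, hc', res_secVal, ← res_secVal s (inf_le_right : W' ⊓ W ≤ W), h0,
      map_zero]
  have h2 : resR (inf_le_left : W' ⊓ W ≤ W') c' = 0 := (he' _ inf_le_left).1 h1
  have h3 : c' = 0 := by
    apply map_injective_of_isIntegral X (homOfLE (inf_le_left : W' ⊓ W ≤ W'))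
    rw [map_zero]
    exact h2
  rw [← hc', h3, zero_smul]

/-- on an integral scheme nonzero functions are regular -/
theorem mem_regSub_of_ne_zero [IsIntegral X] (W : X.Opens) (c : Γ(X, W)) (hc : c ≠ 0) :
    c ∈ Mero.regSub X W := by
  intro x
  apply mem_nonZeroDivisors_of_ne_zero
  intro h0
  apply hc
  apply germ_injective_of_isIntegral X x.1 x.2
  rw [map_zero]
  exact h0

/-- torsion-freeness: only zero kills a nonzero section -/
theorem eq_zero_of_smul_secVal_eq_zero [IsIntegral X] (hL : PicF.IsInvertible L)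
    (s : Coh.structureModule X ⟶ L) (hs : s ≠ 0) (V : X.Opens) (b : Γ(X, V))
    (hb : b • secVal s V = 0) : b = 0 := by
  apply TopCat.Presheaf.section_ext X.sheaf V b 0
  intro x hx
  obtain ⟨W, e, hxW, he⟩ := exists_isGen hL x
  have hne : ((V ⊓ W : X.Opens) : Set X).Nonempty := ⟨x, hx, hxW⟩
  haveI : Nonempty (V ⊓ W : X.Opens) := ⟨⟨x, hx, hxW⟩⟩
  obtain ⟨c, hc⟩ := (he.res (inf_le_right : V ⊓ W ≤ W)).exists_coeff (secVal s (V ⊓ W))
  have hcne : c ≠ 0 := by
    intro h
    rw [h, zero_smul] at hc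
    exact secVal_ne_zero hL s hs _ hne hc.symm
  have h1 : (resR (inf_le_left : V ⊓ W ≤ V) b * c) • res L (inf_le_right : V ⊓ W ≤ W) e =
      (0 : Γ(X, V ⊓ W)) • res L (inf_le_right : V ⊓ W ≤ W) e := by
    rw [zero_smul, mul_smul, hc, ← res_secVal s (inf_le_left : V ⊓ W ≤ V), ← res_smul, hb,
      map_zero]
  have h2 : resR (inf_le_left : V ⊓ W ≤ V) b * c = 0 :=
    (Groth.Agent.Helper1.TensGen.IsGen.bijective_self (he.res inf_le_right)).1 h1
  have h3 : resR (inf_le_left : V ⊓ W ≤ V) b = 0 := by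
    rcases mul_eq_zero.mp h2 with h | h
    · exact h
    · exact absurd h hcne
  have h4 := TopCat.Presheaf.germ_res_apply X.presheaf (homOfLE (inf_le_left : V ⊓ W ≤ V)) x
    ⟨hx, hxW⟩ b
  change X.presheaf.germ V x hx b = X.presheaf.germ V x hx 0
  rw [map_zero, ← h4]
  have h3' : X.presheaf.map (homOfLE (inf_le_left : V ⊓ W ≤ V)).op b = 0 := h3
  rw [h3', map_zero]


/-- the ideal `{a | a · L(U) ⊆ O(U) · s}` -/
noncomputable def zI (L : X.Modules) (s : Coh.structureModule X ⟶ L) (U : X.Opens) : Ideal Γ(X, U) :=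
  show Ideal Γ(X, U) from PicF2.zeroIdealOn L s U

theorem mem_zI (s : Coh.structureModule X ⟶ L) (U : X.Opens) (a : Γ(X, U)) :
    a ∈ zI L s U ↔ ∀ m : Γ(L, U), ∃ b : Γ(X, U), a • m = b • secVal s U := Iff.rfl

/-- over an open where `L` is free on `e` and `s = c e`, the ideal is `(c)` -/
theorem zI_eq_span (s : Coh.structureModule X ⟶ L) {V : X.Opens} {e : Γ(L, V)} (he : IsGen L V e)
    (c : Γ(X, V)) (hc : secVal s V = c • e) : zI L s V = Ideal.span {c} := by
  ext a
  rw [mem_zI, Ideal.mem_span_singleton']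
  constructor
  · intro h
    obtain ⟨b, hb⟩ := h e
    refine ⟨b, ?_⟩
    apply (Groth.Agent.Helper1.TensGen.IsGen.bijective_self he).1
    change (b * c) • e = a • e
    rw [mul_smul, ← hc, hb]
  · rintro ⟨q, rfl⟩ m
    obtain ⟨μ, rfl⟩ := he.exists_coeff m
    refine ⟨q * μ, ?_⟩
    rw [hc, ← mul_smul, ← mul_smul]
    congr 1
    ring

theorem zI_res (hL : PicF.IsInvertible L) (s : Coh.structureModule X ⟶ L) (U : X.Opens)
    (hU : IsAffineOpen U) (f a : Γ(X, U)) (ha : a ∈ zI L s U) :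
    QCI.rs (X.basicOpen_le f) a ∈ zI L s (X.basicOpen f) := by
  haveI : L.IsQuasicoherent := Groth.Agent.Helper1.InvQc.isQuasicoherent_of_isInvertible L hL
  rw [mem_zI]
  intro m'
  obtain ⟨n, t, ht⟩ := Groth.Agent.Helper1.QcLoc.exists_extend hU L f m'
  have ht' : res L (X.basicOpen_le f) t = (resR (X.basicOpen_le f) f) ^ n • m' := ht
  obtain ⟨b, hb⟩ := (mem_zI s U a).1 ha t
  have hu : IsUnit ((resR (X.basicOpen_le f) f) ^ n) :=
    (X.toRingedSpace.isUnit_res_basicOpen f).pow n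
  obtain ⟨v, hv⟩ := hu
  refine ⟨(↑v⁻¹ : Γ(X, X.basicOpen f)) * resR (X.basicOpen_le f) b, ?_⟩
  have h1 := congrArg (res L (X.basicOpen_le f)) hb
  rw [res_smul, res_smul, ht', res_secVal, ← hv] at h1
  have h2 : QCI.rs (X.basicOpen_le f) a = resR (X.basicOpen_le f) a := rfl
  have h3 : (↑v⁻¹ : Γ(X, X.basicOpen f)) • (resR (X.basicOpen_le f) a •
      ((v : Γ(X, X.basicOpen f)) • m')) = resR (X.basicOpen_le f) a • m' := by
    rw [smul_comm, ← mul_smul (↑v⁻¹ : Γ(X, X.basicOpen f)), Units.inv_mul, one_smul]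
  rw [h2, mul_smul, ← h1, h3]

theorem zI_loc [IsIntegral X] (hL : PicF.IsInvertible L) (s : Coh.structureModule X ⟶ L)
    (hs : s ≠ 0) (U : X.Opens) (hU : IsAffineOpen U) (a : Γ(X, U)) (S : Set Γ(X, U))
    (hS : Ideal.span S = ⊤)
    (h : ∀ g ∈ S, QCI.rs (X.basicOpen_le g) a ∈ zI L s (X.basicOpen g)) : a ∈ zI L s U := by
  rw [mem_zI]
  intro m
  have hcov : U ≤ ⨆ g : S, X.basicOpen g.1 := hU.self_le_iSup_basicOpen_iff.mpr hS
  have hb : ∀ g : S, ∃ b : Γ(X, X.basicOpen g.1),
      resR (X.basicOpen_le g.1) a • res L (X.basicOpen_le g.1) m = b • secVal s (X.basicOpen g.1) :=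
    fun g => (mem_zI s _ _).1 (h g.1 g.2) _
  choose b hb using hb
  obtain ⟨β, hβ⟩ := Groth.Agent.Helper1.TwistSec.glue_of_compatible (Coh.structureModule X)
    (fun g : S => X.basicOpen g.1) U (fun g => X.basicOpen_le g.1) hcov
    (fun g => (show Γ(Coh.structureModule X, X.basicOpen g.1) from b g)) (by
      intro g g'
      change resR _ (b g) = resR _ (b g')
      have h1 := congrArg (res L (inf_le_left : X.basicOpen g.1 ⊓ X.basicOpen g'.1 ≤ _)) (hb g)
      have h2 := congrArg (res L (inf_le_right : X.basicOpen g.1 ⊓ X.basicOpen g'.1 ≤ _)) (hb g')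
      rw [res_smul, res_smul, res_res, res_secVal, resR_resR] at h1 h2
      have h3 : (resR inf_le_left (b g) - resR inf_le_right (b g')) •
          secVal s (X.basicOpen g.1 ⊓ X.basicOpen g'.1) = 0 := by
        rw [sub_smul, ← h1, ← h2, sub_self]
      exact sub_eq_zero.mp (eq_zero_of_smul_secVal_eq_zero hL s hs _ _ h3))
  let β' : Γ(X, U) := β
  refine ⟨β', ?_⟩
  apply Groth.Agent.Helper1.TwistSec.eq_of_locally
  intro x hx
  obtain ⟨g, hxg⟩ := Opens.mem_iSup.1 (hcov hx)
  refine ⟨X.basicOpen g.1, X.basicOpen_le g.1, hxg, ?_⟩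
  rw [res_smul, res_smul, res_secVal, hb g]
  congr 1
  exact (hβ g).symm

theorem zI_lp (hL : PicF.IsInvertible L) (s : Coh.structureModule X ⟶ L) (U : X.Opens)
    (hU : IsAffineOpen U) (x : X) (hx : x ∈ U) :
    ∃ g : Γ(X, U), x ∈ X.basicOpen g ∧ ∃ c : Γ(X, X.basicOpen g),
      zI L s (X.basicOpen g) = Ideal.span {c} ∧
        ∀ f' : Γ(X, X.basicOpen g),
          zI L s (X.basicOpen f') = Ideal.span {QCI.rs (X.basicOpen_le f') c} := by
  obtain ⟨W, e, hxW, he⟩ := exists_isGen hL x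
  obtain ⟨g, hgW, hxg⟩ := hU.exists_basicOpen_le ⟨x, hxW⟩ hx
  have he' : IsGen L (X.basicOpen g) (res L hgW e) := he.res hgW
  obtain ⟨c, hc⟩ := he'.exists_coeff (secVal s (X.basicOpen g))
  refine ⟨g, hxg, c, zI_eq_span s he' c hc.symm, fun f' => ?_⟩
  apply zI_eq_span s (he'.res (X.basicOpen_le f'))
  rw [← res_secVal s (X.basicOpen_le f'), ← hc, res_smul]
  rfl

/-- the ideals of the zero scheme of a nonzero section on an integral scheme -/
theorem ideal_zeroScheme [IsIntegral X] (hL : PicF.IsInvertible L)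
    (s : Coh.structureModule X ⟶ L) (hs : s ≠ 0) (U : X.affineOpens) :
    (PicF2.zeroScheme L s).ideal U = zI L s U.1 := by
  obtain ⟨J, hJ⟩ := QCI.exists_idealSheafData (fun U => zI L s U) (zI_res hL s)
    (zI_loc hL s hs) (zI_lp hL s)
  have h1 : PicF2.zeroScheme L s = Scheme.IdealSheafData.ofIdeals J.ideal := by
    change Scheme.IdealSheafData.ofIdeals _ = _
    congr 1
    funext V
    exact (hJ V).symm
  rw [h1, Scheme.IdealSheafData.ofIdeals_ideal, hJ]

theorem ideal_zeroScheme_eq_span [IsIntegral X] (hL : PicF.IsInvertible L)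
    (s : Coh.structureModule X ⟶ L) (hs : s ≠ 0) (U : X.affineOpens) {e : Γ(L, U.1)}
    (he : IsGen L U.1 e) (c : Γ(X, U.1)) (hc : secVal s U.1 = c • e) :
    (PicF2.zeroScheme L s).ideal U = Ideal.span {c} := by
  rw [ideal_zeroScheme hL s hs U, zI_eq_span s he c hc]

end Groth.Agent.Lead.MeroL
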