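import Mathlib
import Groth.Prelude.Def_Pi1
import Groth.Prelude.Def_FlatMod2
import Groth.Agent.S2882
import Groth.Agent.Lib.Helper4.CohHartogs1
import Groth.Agent.Lib.Helper4.Hartogs4
import Groth.Agent.Lib.Helper8.FlatReg14

/-!
# Hartogs extension for flat quasi-coherent modules on normal Noetherian schemes (lead)
-/

set_option autoImplicit false
set_option backward.isDefEq.respectTransparency.types false
set_option synthInstance.maxHeartbeats 400000
set_option linter.style.haveILetI false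
set_option linter.unusedSectionVars false
universe u
open CategoryTheory CategoryTheory.Limits AlgebraicGeometry TopologicalSpace Opposite

namespace Groth.Agent.Lead.FlatHart

open Groth.Agent.Lib.Helper4.Hartogs1 Groth.Agent.Lib.Helper4.ModHartogs1
  Groth.Agent.Lib.Helper4.CohHartogs1 Scheme.Modules

/-- a normal Noetherian local domain of dimension at least two has depth at least two -/
theorem depth_two_of_normal (C : Type u) [CommRing C] [IsNoetherianRing C] [IsLocalRing C]
    [IsDomain C] [IsIntegrallyClosed C] (hdim : (2 : WithBot ℕ∞) ≤ ringKrullDim C) :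
    (2 : ℕ∞) ≤ LocCoh.depth C C := by
  have hSk := Groth.Agent.Helper8.FlatReg.skLocal_of_hasSk 2
    (Groth.Agent.Helper8.FlatReg.hasSk_two_of_normal_domain C)
  unfold Groth.Agent.Helper8.FlatReg.SkLocal at hSk
  refine le_trans (le_min (by norm_num) ?_) hSk
  have h1 := IsLocalRing.maximalIdeal_height_eq_ringKrullDim (R := C)
  rw [← h1] at hdim
  have h2 : ((2 : ℕ∞) : WithBot ℕ∞) ≤ ((IsLocalRing.maximalIdeal C).height : WithBot ℕ∞) := hdim
  exact WithBot.coe_le_coe.1 h2

theorem two_le_of_not_le_one (d : WithBot ℕ∞) (h : ¬ d ≤ 1) : (2 : WithBot ℕ∞) ≤ d := by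
  induction d using WithBot.recBotCoe with
  | bot => exact absurd bot_le h
  | coe n =>
    have h1 : ¬ n ≤ 1 := fun hn => h (by exact_mod_cast hn)
    have h2 : (1 : ℕ∞) < n := not_le.1 h1
    have h3 : (1 : ℕ∞) + 1 ≤ n := Order.add_one_le_of_lt h2
    have h4 : (2 : ℕ∞) ≤ n := by
      have : (1 : ℕ∞) + 1 = 2 := by norm_num
      rwa [this] at h3
    exact WithBot.coe_le_coe.2 h4

theorem regular_of_flat {R : Type u} [CommRing R] (N : Type u) [AddCommGroup N] [Module R N]
    [Module.Flat R N] {x : R} (hx : IsSMulRegular R x) : IsSMulRegular N x := by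
  have h1 : IsSMulRegular (TensorProduct R N R) x := IsSMulRegular.lTensor N hx
  exact ((TensorProduct.rid R N).isSMulRegular_congr x).1 h1

/-- regular pairs pass to flat modules -/
theorem regular_pair_of_flat {R : Type u} [CommRing R] (N : Type u) [AddCommGroup N] [Module R N]
    [Module.Flat R N] {x y : R} (hx : IsSMulRegular R x)
    (hxy : IsSMulRegular (QuotSMulTop x R) y) :
    IsSMulRegular N x ∧ IsSMulRegular (QuotSMulTop x N) y := by
  constructor
  · have h1 : IsSMulRegular (TensorProduct R N R) x := IsSMulRegular.lTensor N hx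
    exact ((TensorProduct.rid R N).isSMulRegular_congr x).1 h1
  · have h1 : IsSMulRegular (TensorProduct R N (QuotSMulTop x R)) y := IsSMulRegular.lTensor N hxy
    have e1 := QuotSMulTop.tensorQuotSMulTopEquivQuotSMulTop x N R
    have e2 := QuotSMulTop.congr x (TensorProduct.rid R N)
    exact ((e1.trans e2).isSMulRegular_congr y).1 h1

attribute [local instance] Groth.Agent.Lead.SD.stalkModule

section aff
variable {X : Scheme.{u}} (M : X.Modules) [M.IsQuasicoherent] {V : X.Opens} (hV : IsAffineOpen V)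

include hV in
theorem flat_stalk_sections (hfl : FlatMod.IsFlat M) (x : V) :
    Module.Flat Γ(X, V) (M.presheaf.stalk x.1) := by
  haveI := hV.isLocalization_stalk x
  haveI : Module.Flat Γ(X, V) (X.presheaf.stalk x.1) :=
    IsLocalization.flat (X.presheaf.stalk x.1) (hV.primeIdealOf x).asIdeal.primeCompl
  haveI : Module.Flat (X.presheaf.stalk x.1) (M.presheaf.stalk x.1) := hfl x.1
  exact Module.Flat.trans Γ(X, V) (X.presheaf.stalk x.1) (M.presheaf.stalk x.1)

theorem flat_localized_NN (hfl : FlatMod.IsFlat M) (x : V) :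
    Module.Flat Γ(X, V) (LocalizedModule (hV.primeIdealOf x).asIdeal.primeCompl
      (NN Γ(X, V) (M.restrict hV.fromSpec))) := by
  haveI := Groth.Agent.Lead.SD.isLocalizedModule_germ M hV x
  haveI : IsLocalizedModule (hV.primeIdealOf x).asIdeal.primeCompl
      ((Groth.Agent.Lead.SD.germₗ M x) ∘ₗ (secEquiv M hV).symm.toLinearMap) :=
    IsLocalizedModule.of_linearEquiv_right _ _ _
  haveI := flat_stalk_sections M hV hfl x
  exact Module.Flat.of_linearEquiv
    (IsLocalizedModule.linearEquiv (hV.primeIdealOf x).asIdeal.primeCompl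
      (LocalizedModule.mkLinearMap (hV.primeIdealOf x).asIdeal.primeCompl
        (NN Γ(X, V) (M.restrict hV.fromSpec)))
      ((Groth.Agent.Lead.SD.germₗ M x) ∘ₗ (secEquiv M hV).symm.toLinearMap))

theorem flat_NN (hfl : FlatMod.IsFlat M) :
    Module.Flat Γ(X, V) (NN Γ(X, V) (M.restrict hV.fromSpec)) := by
  apply Module.flat_of_localized_maximal
  intro P hP
  have h1 := flat_localized_NN M hV hfl
    ⟨hV.fromSpec ⟨P, hP.isPrime⟩, Groth.Agent.Lead.SD.fromSpec_mem hV ⟨P, hP.isPrime⟩⟩
  rw [Groth.Agent.Lead.SD.primeIdealOf_fromSpec hV ⟨P, hP.isPrime⟩] at h1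
  exact h1

include hV in
theorem depth_localized_self [IsLocallyNoetherian X] (hX : Pi1.IsNormalScheme X)
    (p : PrimeSpectrum Γ(X, V))
    (hdim : ¬ ringKrullDim (X.presheaf.stalk (hV.fromSpec p)) ≤ 1) :
    (2 : ℕ∞) ≤ LocCoh.depth (Localization.AtPrime p.asIdeal)
      (LocalizedModule p.asIdeal.primeCompl Γ(X, V)) := by
  rw [Groth.Agent.Helper8.Depth.depth_localizedModule_self]
  have hpV : hV.fromSpec p ∈ V := Groth.Agent.Lead.SD.fromSpec_mem hV p
  have hloc := hV.isLocalization_stalk' p hpV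
  letI := TopCat.Presheaf.algebra_section_stalk X.presheaf ⟨hV.fromSpec p, hpV⟩
  haveI : IsLocalization p.asIdeal.primeCompl (X.presheaf.stalk (hV.fromSpec p)) := hloc
  have e := IsLocalization.algEquiv p.asIdeal.primeCompl (Localization.AtPrime p.asIdeal)
    (X.presheaf.stalk (hV.fromSpec p))
  rw [Groth.Agent.Lib.Helper4.Hartogs4.depth_self_eq_of_ringEquiv e.toRingEquiv.symm]
  haveI := (hX (hV.fromSpec p)).1
  haveI := (hX (hV.fromSpec p)).2
  exact depth_two_of_normal _ (two_le_of_not_le_one _ hdim)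

include hV in
theorem affine_bij_of_flat [IsLocallyNoetherian X] (hX : Pi1.IsNormalScheme X)
    (hfl : FlatMod.IsFlat M) (U : X.Opens)
    (h : ∀ x : X, x ∉ U → ¬ ringKrullDim (X.presheaf.stalk x) ≤ 1) :
    Function.Bijective (M.presheaf.map (homOfLE (inf_le_left : V ⊓ U ≤ V)).op) := by
  haveI : IsNoetherianRing Γ(X, V) := IsLocallyNoetherian.component_noetherian ⟨V, hV⟩
  obtain ⟨Z, hZ⟩ : ∃ Z : Set (PrimeSpectrum Γ(X, V)), Z = {p | hV.fromSpec p ∉ U} := ⟨_, rfl⟩
  have hZc : IsClosed Z := by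
    rw [hZ]
    exact (U.isOpen.preimage hV.fromSpec.continuous).isClosed_compl
  have hJ : PrimeSpectrum.zeroLocus (PrimeSpectrum.vanishingIdeal Z : Set Γ(X, V)) = Z := by
    rw [PrimeSpectrum.zeroLocus_vanishingIdeal_eq_closure, hZc.closure_eq]
  obtain ⟨x, hxJ, y, hyJ, hx, hy, hxy⟩ := exists_regular_pair (M := Γ(X, V))
    (PrimeSpectrum.vanishingIdeal Z) (fun p hp => by
      apply depth_localized_self hV hX p
      apply h
      have hpZ : p ∈ Z := by
        rw [← hJ, PrimeSpectrum.mem_zeroLocus]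
        exact hp
      rw [hZ] at hpZ
      exact hpZ)
  haveI := flat_NN M hV hfl
  obtain ⟨hx', hxy'⟩ := regular_pair_of_flat (NN Γ(X, V) (M.restrict hV.fromSpec)) hx hxy
  have hy' : IsSMulRegular (NN Γ(X, V) (M.restrict hV.fromSpec)) y :=
    regular_of_flat (NN Γ(X, V) (M.restrict hV.fromSpec)) hy
  have hb : Function.Bijective (EGA4.restrCompl Γ(X, V) (PrimeSpectrum.vanishingIdeal Z)
      (NN Γ(X, V) (M.restrict hV.fromSpec))) :=
    ⟨(inj_iff _ _ _).2 (toOpen_injective_of_regular hxJ hx'),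
      (surj_iff _ _ _).2 (surjective_of_regular_pair hxJ hyJ hx' hy' hxy')⟩
  have hb2 := (tilde_restr_iff Γ(X, V) (M.restrict hV.fromSpec) (PrimeSpectrum.vanishingIdeal Z)).2 hb
  have hb3 := (conj_bij Γ(X, V) (M.restrict hV.fromSpec) (homOfLE (le_top : EGA4.openCompl Γ(X, V) (PrimeSpectrum.vanishingIdeal Z) ≤ ⊤))).2 hb2
  have h₁ := Groth.Agent.Helper1.QcLoc.image_top hV
  have h₂ := image_openCompl hV U (PrimeSpectrum.vanishingIdeal Z) (hJ.trans hZ)
  have hb4 : Function.Bijective (M.presheaf.map (homOfLE (hV.fromSpec.image_mono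
      (le_top : EGA4.openCompl Γ(X, V) (PrimeSpectrum.vanishingIdeal Z) ≤ ⊤))).op) := hb3
  exact (bij_transport M.presheaf h₁ h₂ _ inf_le_left).1 hb4

end aff

theorem bij_of_flat {X : Scheme.{u}} [IsLocallyNoetherian X] (hX : Pi1.IsNormalScheme X)
    (M : X.Modules) [M.IsQuasicoherent] (hfl : FlatMod.IsFlat M) (U : X.Opens)
    (h : ∀ x : X, x ∉ U → ¬ ringKrullDim (X.presheaf.stalk x) ≤ 1) (V : X.Opens) :
    Function.Bijective (M.presheaf.map (homOfLE (inf_le_left : V ⊓ U ≤ V)).op) := by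
  have hB : ∀ (W : X.Opens) (x : X), x ∈ W → ∃ V ∈ {V : X.Opens | IsAffineOpen V}, x ∈ V ∧ V ≤ W := by
    intro W x hx
    obtain ⟨V, hV, hxV, hVW⟩ := exists_isAffineOpen_mem_and_subset (x := x) (U := W) hx
    exact ⟨V, hV, hxV, hVW⟩
  have haff : ∀ V ∈ {V : X.Opens | IsAffineOpen V},
      Function.Bijective (M.presheaf.map (homOfLE (inf_le_left : V ⊓ U ≤ V)).op) :=
    fun V hV => affine_bij_of_flat M hV hX hfl U h
  exact ⟨gres_injective ⟨M.presheaf, M.isSheaf⟩ U hB (fun V hV => (haff V hV).1) V,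
    gres_surjective ⟨M.presheaf, M.isSheaf⟩ U hB haff V⟩

/-- if all restrictions `Γ(E, V) → Γ(E, V ⊓ U)` are bijective then the unit `E → j_* j^* E` is an
isomorphism -/
theorem unit_isIso_of_bij {U X : Scheme.{u}} (j : U ⟶ X) [IsOpenImmersion j] (E : X.Modules)
    (h : ∀ V : X.Opens,
      Function.Bijective (E.presheaf.map (homOfLE (inf_le_left : V ⊓ j.opensRange ≤ V)).op)) :
    IsIso ((restrictAdjunction j).unit.app E) := by
  have hle : ∀ V' : X.Opens, V' ⊓ j.opensRange ≤ j ''ᵁ (j ⁻¹ᵁ V') := by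
    intro V'
    rw [Scheme.Hom.image_preimage_eq_opensRange_inf, inf_comm]
  have hge : ∀ V' : X.Opens, j ''ᵁ (j ⁻¹ᵁ V') ≤ V' ⊓ j.opensRange := by
    intro V'
    rw [Scheme.Hom.image_preimage_eq_opensRange_inf, inf_comm]
  apply Groth.Agent.S2882.isIso_of_locally
  · intro V' t ht x hx
    refine ⟨V', le_rfl, hx, ?_⟩
    have h0 : E.presheaf.map (homOfLE (j.image_preimage_le V')).op t = 0 := ht
    have h1 : E.presheaf.map (homOfLE (inf_le_left : V' ⊓ j.opensRange ≤ V')).op t = 0 := by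
      have := congrArg (E.presheaf.map (homOfLE (hle V')).op) h0
      rw [Groth.Agent.S2882.map_map, map_zero] at this
      exact this
    have h2 : t = 0 := (h V').1 (h1.trans (map_zero _).symm)
    rw [h2, map_zero]
  · intro V' σ x hx
    let σ0 : Γ(E, j ''ᵁ (j ⁻¹ᵁ V')) := σ
    obtain ⟨t, ht⟩ := (h V').2 (E.presheaf.map (homOfLE (hle V')).op σ0)
    refine ⟨V', le_rfl, hx, t, ?_⟩
    show E.presheaf.map (homOfLE (j.image_preimage_le V')).op t =
      E.presheaf.map (homOfLE (Scheme.Hom.image_mono j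
        (Scheme.Hom.preimage_mono j (le_rfl : V' ≤ V')))).op σ0
    have h2 := congrArg (E.presheaf.map (homOfLE (hge V')).op) ht
    rw [Groth.Agent.S2882.map_map, Groth.Agent.S2882.map_map] at h2
    exact h2

theorem S16496_main (S : Scheme.{u}) [IsNoetherian S]
    (hS : Pi1.IsNormalScheme S) (A : S.Modules) (hA : Coh.IsQCoh A) (hAfl : FlatMod.IsFlat A)
    (U : S.Opens) (hU : ∀ s : S, ringKrullDim (S.presheaf.stalk s) ≤ 1 → s ∈ U) :
    IsIso ((Scheme.Modules.restrictAdjunction U.ι).unit.app A) := by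
  haveI : A.IsQuasicoherent := hA
  apply unit_isIso_of_bij
  intro V
  have h1 := bij_of_flat hS A hAfl U (fun x hx hdim => hx (hU x hdim)) V
  have hr : U.ι.opensRange = U := Scheme.Opens.opensRange_ι U
  have key : ∀ (W : S.Opens) (hW : W = U),
      Function.Bijective (A.presheaf.map (homOfLE (inf_le_left : V ⊓ W ≤ V)).op) := by
    rintro W rfl
    exact h1
  exact key _ hr

end Groth.Agent.Lead.FlatHart
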