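import Mathlib
import Groth.Prelude.Def_Pic
import Groth.Prelude.Def_CohB1
import Groth.Prelude.Def_AgPol
import Groth.Agent.Lib.Helper5.LTen.Invertible
import Groth.Agent.Lib.Lead.PullTensorAll
import Groth.Agent.Lib.Lead.TilT4
import Groth.Agent.Lib.Helper1.PullSec
import Groth.Agent.Lib.Helper1.InvInv2
import Groth.Agent.Lib.Helper1.PullGen2
import Groth.Agent.Lib.Helper1.TwForm4

/-!
# A calculus of isomorphism classes of modules on schemes (lead)

`PicF.Cl X` (isomorphism classes of all `O_X`-modules) is a commutative monoid under the tensor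
product, `PicF.pullCl g` is a monoid homomorphism, functorial in `g`, and classes of invertible
modules are units.  Statements of the form "some tensor/pullback expression is isomorphic to
another" become identities in these monoids.
-/

set_option backward.isDefEq.respectTransparency.types false
set_option autoImplicit false
universe u
open CategoryTheory CategoryTheory.Limits AlgebraicGeometry

namespace Groth.Agent.Lead.PicCalc

variable {X Y Z : Scheme.{u}}

/-- `(L ⊗ N) ⊗ P ≅ L ⊗ (N ⊗ P)` -/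
noncomputable def assocIso (L N P : X.Modules) :
    CohB1.tensorMod (CohB1.tensorMod L N) P ≅ CohB1.tensorMod L (CohB1.tensorMod N P) :=
  (Groth.Agent.Lib.Helper5.InvMod.assocR X.sheaf L N).app P

/-- `L ⊗ N ≅ N ⊗ L` -/
noncomputable def commIso (L N : X.Modules) : CohB1.tensorMod L N ≅ CohB1.tensorMod N L :=
  Groth.Agent.Lib.Helper5.InvMod.symmObj X.sheaf L N

/-- `O ⊗ M ≅ M` -/
noncomputable def lunitIso (M : X.Modules) : CohB1.tensorMod (Coh.structureModule X) M ≅ M :=
  (Groth.Agent.Lib.Helper5.InvMod.lunit X.sheaf).app M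

/-- multiplication of classes: the tensor product -/
noncomputable def mulCl (a b : PicF.Cl X) : PicF.Cl X :=
  Quot.map₂ (r := fun L L' : X.Modules => Nonempty (L ≅ L'))
    (s := fun L L' : X.Modules => Nonempty (L ≅ L'))
    (t := fun L L' : X.Modules => Nonempty (L ≅ L')) CohB1.tensorMod
    (fun M _ _ h => ⟨Groth.Agent.Lead.TilT.tensorModCongr (Iso.refl M) h.some⟩)
    (fun _ _ N h => ⟨Groth.Agent.Lead.TilT.tensorModCongr h.some (Iso.refl N)⟩) a b

noncomputable instance : CommMonoid (PicF.Cl X) where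
  mul := mulCl
  one := PicF.cl (Coh.structureModule X)
  mul_assoc := by
    intro a b c
    induction a using Quot.ind
    induction b using Quot.ind
    induction c using Quot.ind
    exact Quot.sound ⟨assocIso _ _ _⟩
  one_mul := by
    intro a
    induction a using Quot.ind
    exact Quot.sound ⟨lunitIso _⟩
  mul_one := by
    intro a
    induction a using Quot.ind
    exact Quot.sound ⟨commIso _ _ ≪≫ lunitIso _⟩
  mul_comm := by
    intro a b
    induction a using Quot.ind
    induction b using Quot.ind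
    exact Quot.sound ⟨commIso _ _⟩

theorem cl_tensor (M N : X.Modules) :
    PicF.cl (CohB1.tensorMod M N) = PicF.cl M * PicF.cl N := rfl

theorem cl_one : PicF.cl (Coh.structureModule X) = 1 := rfl

theorem cl_eq_of_iso {M N : X.Modules} (e : M ≅ N) : PicF.cl M = PicF.cl N := Quot.sound ⟨e⟩

theorem nonempty_iso_of_eqvGen {M N : X.Modules}
    (h : Relation.EqvGen (fun L L' : X.Modules => Nonempty (L ≅ L')) M N) : Nonempty (M ≅ N) := by
  induction h with
  | rel _ _ h => exact h
  | refl _ => exact ⟨Iso.refl _⟩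
  | symm _ _ _ ih => exact ⟨ih.some.symm⟩
  | trans _ _ _ _ _ ih1 ih2 => exact ⟨ih1.some ≪≫ ih2.some⟩

theorem nonempty_iso_of_cl_eq {M N : X.Modules} (h : PicF.cl M = PicF.cl N) :
    Nonempty (M ≅ N) :=
  nonempty_iso_of_eqvGen (Quot.eqvGen_exact h)

theorem cl_eq_iff {M N : X.Modules} : PicF.cl M = PicF.cl N ↔ Nonempty (M ≅ N) :=
  ⟨nonempty_iso_of_cl_eq, fun h => cl_eq_of_iso h.some⟩

theorem pull_cl (g : Y ⟶ X) (M : X.Modules) :
    PicF.pullCl g (PicF.cl M) = PicF.cl ((Scheme.Modules.pullback g).obj M) := rfl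

theorem pull_mul (g : Y ⟶ X) (a b : PicF.Cl X) :
    PicF.pullCl g (a * b) = PicF.pullCl g a * PicF.pullCl g b := by
  induction a using Quot.ind
  induction b using Quot.ind
  exact Quot.sound (Groth.Agent.Lead.PullTensorAll.nonempty_pullback_tensor_iso g _ _)

theorem pull_one (g : Y ⟶ X) : PicF.pullCl g (1 : PicF.Cl X) = 1 :=
  Quot.sound ⟨Groth.Agent.Helper1.PullSec.unitIso g⟩

theorem pull_comp (f : Z ⟶ Y) (g : Y ⟶ X) (a : PicF.Cl X) :
    PicF.pullCl (f ≫ g) a = PicF.pullCl f (PicF.pullCl g a) := by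
  induction a using Quot.ind
  exact Quot.sound ⟨((Scheme.Modules.pullbackComp f g).app _).symm⟩

theorem pull_id (a : PicF.Cl X) : PicF.pullCl (𝟙 X) a = a := by
  induction a using Quot.ind
  exact Quot.sound ⟨(Scheme.Modules.pullbackId X).app _⟩

/-- pullback of classes as a monoid homomorphism -/
noncomputable def pullHom (g : Y ⟶ X) : PicF.Cl X →* PicF.Cl Y where
  toFun := PicF.pullCl g
  map_one' := pull_one g
  map_mul' := pull_mul g

theorem isUnit_cl {L : X.Modules} (hL : PicF.IsInvertible L) : IsUnit (PicF.cl L) := by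
  obtain ⟨K, _, ⟨e⟩⟩ := Groth.Agent.Helper1.InvInv2.exists_inverse hL
  have h1 : PicF.cl K * PicF.cl L = 1 := cl_eq_of_iso e
  exact ⟨⟨PicF.cl L, PicF.cl K, by rw [mul_comm]; exact h1, h1⟩, rfl⟩

theorem isInvertibleCl_cl {L : X.Modules} (hL : PicF.IsInvertible L) :
    PicF.IsInvertibleCl (PicF.cl L) := ⟨L, rfl, hL⟩

theorem isUnit_of_isInvertibleCl {c : PicF.Cl X} (hc : PicF.IsInvertibleCl c) : IsUnit c := by
  obtain ⟨L, rfl, hL⟩ := hc
  exact isUnit_cl hL

theorem isInvertible_O (X : Scheme.{u}) : PicF.IsInvertible (Coh.structureModule X) := by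
  intro y
  exact ⟨⊤, trivial, ⟨Scheme.Modules.restrictUnitIso _⟩⟩

theorem isInvertibleCl_one : PicF.IsInvertibleCl (1 : PicF.Cl X) :=
  ⟨Coh.structureModule X, rfl, isInvertible_O X⟩

theorem isInvertibleCl_mul {a b : PicF.Cl X} (ha : PicF.IsInvertibleCl a)
    (hb : PicF.IsInvertibleCl b) : PicF.IsInvertibleCl (a * b) := by
  obtain ⟨L, rfl, hL⟩ := ha
  obtain ⟨N, rfl, hN⟩ := hb
  exact ⟨CohB1.tensorMod L N, rfl, Groth.Agent.Helper1.TwForm.isInvertible_tensorMod hL hN⟩

theorem isInvertibleCl_pull (g : Y ⟶ X) {a : PicF.Cl X} (ha : PicF.IsInvertibleCl a) :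
    PicF.IsInvertibleCl (PicF.pullCl g a) := by
  obtain ⟨L, rfl, hL⟩ := ha
  exact ⟨_, rfl, Groth.Agent.Helper1.PullGen.isInvertible_pullback g hL⟩

theorem exists_inv_of_isInvertibleCl {a : PicF.Cl X} (ha : PicF.IsInvertibleCl a) :
    ∃ b : PicF.Cl X, PicF.IsInvertibleCl b ∧ b * a = 1 := by
  obtain ⟨L, rfl, hL⟩ := ha
  obtain ⟨K, hK, ⟨e⟩⟩ := Groth.Agent.Helper1.InvInv2.exists_inverse hL
  exact ⟨PicF.cl K, ⟨K, rfl, hK⟩, cl_eq_of_iso e⟩

theorem cl_restrict (U : X.Opens) (L : X.Modules) :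
    PicF.pullCl U.ι (PicF.cl L) = PicF.cl (L.restrict U.ι) :=
  cl_eq_of_iso ((Scheme.Modules.restrictFunctorIsoPullback U.ι).app L).symm

/-- an invertible class is trivial if some point has no open neighbourhood but the whole space -/
theorem eq_one_of_isInvertibleCl_of_forall_eq_top {c : PicF.Cl X} (hc : PicF.IsInvertibleCl c)
    (x : X) (hx : ∀ U : X.Opens, x ∈ U → U = ⊤) : c = 1 := by
  obtain ⟨L, rfl, hL⟩ := hc
  obtain ⟨U, hxU, ⟨e⟩⟩ := hL x
  have hU := hx U hxU
  subst hU
  have h1 : PicF.pullCl (⊤ : X.Opens).ι (PicF.cl L) = 1 := by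
    rw [cl_restrict]
    exact cl_eq_of_iso e
  have h2 := congrArg (PicF.pullCl X.topIso.inv) h1
  rw [← pull_comp, Scheme.toIso_inv_ι, pull_id, pull_one] at h2
  exact h2

theorem eq_one_of_isInvertibleCl_of_subsingleton [Subsingleton X] [Nonempty X] {c : PicF.Cl X}
    (hc : PicF.IsInvertibleCl c) : c = 1 := by
  obtain ⟨x⟩ := ‹Nonempty X›
  refine eq_one_of_isInvertibleCl_of_forall_eq_top hc x (fun U hU => ?_)
  ext y
  have : y = x := Subsingleton.elim y x
  subst this
  simp [hU]

theorem isLambdaSheaf_iff {W : Scheme.{u}} (m p q : W ⟶ X) (L : X.Modules) (N : W.Modules) :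
    AgPol.IsLambdaSheaf m p q L N ↔
      PicF.cl N * PicF.pullCl p (PicF.cl L) * PicF.pullCl q (PicF.cl L) =
        PicF.pullCl m (PicF.cl L) :=
  Iff.symm cl_eq_iff

end Groth.Agent.Lead.PicCalc
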