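import Mathlib
import Groth.Prelude.Def_RefHull
import Groth.Agent.Lib.Lead.RH3
import Groth.Agent.Lib.Helper1.TwForm1
import Groth.Agent.S8869

/-!
# The sheaf Hom of `RefHull`: stalks (lead)
-/

set_option autoImplicit false
set_option backward.isDefEq.respectTransparency.types false
set_option synthInstance.maxHeartbeats 400000
set_option linter.style.haveILetI false
set_option linter.unusedSectionVars false
universe u

open CategoryTheory CategoryTheory.Limits AlgebraicGeometry TopologicalSpace Opposite

namespace Groth.Agent.Lead.RH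

open Groth.Agent.Helper1.QcCech Groth.Agent.Lead.SD Groth.Agent.Helper1

variable {X : Scheme.{u}} {F G : X.Modules}

/-- a morphism of modules is an isomorphism when it is bijective on all stalks -/
theorem isIso_of_stalkMapₗ_bijective {A B : X.Modules} (φ : A ⟶ B)
    (h : ∀ x, Function.Bijective (RefHull.stalkMapₗ φ x)) : IsIso φ := by
  apply TwForm.isIso_of_app_bijective
  intro U
  let FA : TopCat.Sheaf Ab X := ⟨A.presheaf, A.isSheaf⟩
  let FB : TopCat.Sheaf Ab X := ⟨B.presheaf, B.isSheaf⟩
  let f : FA ⟶ FB := ⟨φ.mapPresheaf⟩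
  exact TopCat.Presheaf.app_bijective_of_stalkFunctor_map_bijective f U (fun x _ => h x)

theorem stalkMapₗ_bijective_of_isIso {A B : X.Modules} (φ : A ⟶ B) [IsIso φ] (x : X) :
    Function.Bijective (RefHull.stalkMapₗ φ x) := by
  rw [Function.bijective_iff_has_inverse]
  refine ⟨RefHull.stalkMapₗ (inv φ) x, fun v => ?_, fun v => ?_⟩
  · obtain ⟨U, hx, s, rfl⟩ := TopCat.Presheaf.exists_germ_eq A.presheaf v
    rw [RefHull.stalkMapₗ_germ, RefHull.stalkMapₗ_germ]
    congr 1
    have := congrArg (fun ψ => Scheme.Modules.Hom.app ψ U s) (IsIso.hom_inv_id φ)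
    exact this
  · obtain ⟨U, hx, s, rfl⟩ := TopCat.Presheaf.exists_germ_eq B.presheaf v
    rw [RefHull.stalkMapₗ_germ, RefHull.stalkMapₗ_germ]
    congr 1
    have := congrArg (fun ψ => Scheme.Modules.Hom.app ψ U s) (IsIso.inv_hom_id φ)
    exact this

theorem isIso_iff_stalkMapₗ_bijective {A B : X.Modules} (φ : A ⟶ B) :
    IsIso φ ↔ ∀ x, Function.Bijective (RefHull.stalkMapₗ φ x) :=
  ⟨fun _ x => stalkMapₗ_bijective_of_isIso φ x, isIso_of_stalkMapₗ_bijective φ⟩

attribute [local instance] SD.stalkModule

/-- auxiliary form of the surjectivity of evaluation -/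
theorem evalStalk_surjective_aux (hF : CohB1.IsFP F) [F.IsQuasicoherent] [G.IsQuasicoherent]
    {U : X.Opens} (hU' : IsAffineOpen U) (y : U) (l : RefHull.StalkHom F G y.1) :
    ∃ θ, RefHull.evalStalk F G y.1 θ = l := by
  haveI := FP.fp_sections_of_isFP F hF hU'
  haveI := isLocalizedModule_germ F hU' y
  haveI := isLocalizedModule_germ G hU' y
  let l' : Γ(F, U) →ₗ[Γ(X, U)] G.presheaf.stalk y.1 :=
    (l.restrictScalars Γ(X, U)).comp (germₗ F y)
  obtain ⟨h, s, hh⟩ := Module.FinitePresentation.exists_lift_of_isLocalizedModule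
    (hU'.primeIdealOf y).asIdeal.primeCompl (germₗ G y) l'
  have hs : IsUnit (X.presheaf.germ U y.1 y.2 s.1) := (isUnit_germ_iff hU' y s.1).2 s.2
  refine ⟨(hs.unit⁻¹ : (X.presheaf.stalk y.1)ˣ) •
    (RefHull.homSh F G).presheaf.germ U y.1 y.2 ((secEquiv hU').symm h), ?_⟩
  rw [Units.smul_def, map_smul, RefHull.evalStalk_germ, secEquiv_symm_apply]
  have key : stalkOfLin hU' h y = X.presheaf.germ U y.1 y.2 s.1 • l := by
    refine LinearMap.ext_on_range (spanGerms_of_isAffineOpen inferInstance hU' y.1 y.2) fun m => ?_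
    rw [stalkOfLin_germ, LinearMap.smul_apply]
    have := congrArg (fun φ => φ m) hh
    exact this
  rw [key, smul_smul, IsUnit.val_inv_mul, one_smul]

/-- evaluation at a point of the germs of the sheaf Hom is surjective when the source is finitely presented -/
theorem evalStalk_surjective (hF : CohB1.IsFP F) [G.IsQuasicoherent] (x : X) :
    Function.Surjective (RefHull.evalStalk F G x) := by
  haveI : SheafOfModules.IsFinitePresentation (R := X.ringCatSheaf) F := hF
  haveI : F.IsQuasicoherent := inferInstance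
  intro l
  obtain ⟨_, ⟨U, hU, rfl⟩, hxU, -⟩ := X.isBasis_affineOpens.exists_subset_of_mem_open
    (Set.mem_univ x) isOpen_univ
  have hU' : IsAffineOpen U := hU
  exact evalStalk_surjective_aux hF hU' ⟨x, hxU⟩ l

/-- the stalk of the sheaf Hom from a finitely presented module is the module of maps of the stalks -/
noncomputable def evalEquiv (hF : CohB1.IsFP F) [G.IsQuasicoherent] (x : X) :
    (RefHull.homSh F G).presheaf.stalk x ≃ₗ[X.presheaf.stalk x] RefHull.StalkHom F G x :=
  haveI : SheafOfModules.IsFinitePresentation (R := X.ringCatSheaf) F := hF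
  LinearEquiv.ofBijective (RefHull.evalStalk F G x)
    ⟨evalStalk_injective inferInstance inferInstance x, evalStalk_surjective hF x⟩

theorem evalEquiv_apply (hF : CohB1.IsFP F) [G.IsQuasicoherent] (x : X)
    (θ : (RefHull.homSh F G).presheaf.stalk x) : evalEquiv hF x θ = RefHull.evalStalk F G x θ := rfl

open Groth.Agent.S8869.H8869 in
/-- the stalk of the structure module is the local ring -/
noncomputable def unitEquiv (x : X) :
    X.presheaf.stalk x ≃ₗ[X.presheaf.stalk x] (Coh.structureModule X).presheaf.stalk x :=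
  LinearEquiv.ofBijective
    (LinearMap.toSpanSingleton (X.presheaf.stalk x) _ (mgerm X x (Opens.mem_top x) 1)) (by
      constructor
      · rw [injective_iff_map_eq_zero]
        intro r hr
        rw [LinearMap.toSpanSingleton_apply, ann_iff, map_one, mul_one] at hr
        exact hr
      · intro v
        obtain ⟨U, hxU, m, rfl⟩ := TopCat.Presheaf.exists_germ_eq (Coh.structureModule X).presheaf v
        obtain ⟨s, rfl⟩ := toM_surj X m
        refine ⟨X.presheaf.germ U x hxU s, ?_⟩
        rw [LinearMap.toSpanSingleton_apply]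
        have h1 : mgerm X x (Opens.mem_top x) 1 = mgerm X x hxU 1 := by
          rw [← mgerm_res X (homOfLE le_top) x hxU 1, map_one]
        rw [h1, smul_mgerm, mul_one]
        rfl)

end Groth.Agent.Lead.RH
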