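import Mathlib
import Groth.Prelude.Def_RefHull
import Groth.Agent.Lib.Lead.RH4
import Groth.Agent.Lib.Helper1.FpLocal

/-!
# Reflexive modules of `RefHull`: the stalkwise criterion (lead)
-/

set_option autoImplicit false
set_option backward.isDefEq.respectTransparency.types false
set_option synthInstance.maxHeartbeats 400000
set_option linter.style.haveILetI false
set_option linter.unusedSectionVars false
universe u

open CategoryTheory CategoryTheory.Limits AlgebraicGeometry TopologicalSpace Opposite

namespace Groth.Agent.Lead.RH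

open Groth.Agent.Helper1.QcCech Groth.Agent.Lead.SD Groth.Agent.Helper1

variable {X : Scheme.{u}} {F G : X.Modules}

theorem isFP_structureModule (X : Scheme.{u}) : CohB1.IsFP (Coh.structureModule X) := by
  apply FP.isFP_of_fp_sections
  intro x
  obtain ⟨_, ⟨U, hU, rfl⟩, hxU, -⟩ := X.isBasis_affineOpens.exists_subset_of_mem_open
    (Set.mem_univ x) isOpen_univ
  exact ⟨U, hU, hxU, inferInstanceAs (Module.FinitePresentation Γ(X, U) Γ(X, U))⟩

/-- on a locally Noetherian scheme the sheaf Hom of coherent modules is finitely presented -/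
theorem isFP_homSh [IsLocallyNoetherian X] (hF : CohB1.IsFP F) (hG : CohB1.IsFP G) :
    CohB1.IsFP (RefHull.homSh F G) := by
  haveI : SheafOfModules.IsFinitePresentation (R := X.ringCatSheaf) F := hF
  haveI : SheafOfModules.IsFinitePresentation (R := X.ringCatSheaf) G := hG
  haveI : F.IsQuasicoherent := inferInstance
  haveI : G.IsQuasicoherent := inferInstance
  haveI : (RefHull.homSh F G).IsQuasicoherent := isQuasicoherent_homSh hF
  apply FP.isFP_of_fp_sections
  intro x
  obtain ⟨_, ⟨U, hU, rfl⟩, hxU, -⟩ := X.isBasis_affineOpens.exists_subset_of_mem_open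
    (Set.mem_univ x) isOpen_univ
  have hU' : IsAffineOpen U := hU
  refine ⟨U, hU', hxU, ?_⟩
  haveI : IsNoetherianRing Γ(X, U) := IsLocallyNoetherian.component_noetherian ⟨U, hU'⟩
  haveI := FP.fp_sections_of_isFP F hF hU'
  haveI := FP.fp_sections_of_isFP G hG hU'
  haveI : Module.Finite Γ(X, U) (Γ(F, U) →ₗ[Γ(X, U)] Γ(G, U)) := inferInstance
  haveI : Module.FinitePresentation Γ(X, U) (Γ(F, U) →ₗ[Γ(X, U)] Γ(G, U)) :=
    Module.finitePresentation_of_finite _ _
  exact Module.FinitePresentation.of_equiv (secEquiv (F := F) (G := G) hU').symm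

theorem isCoh_homSh [IsLocallyNoetherian X] (hF : Coh.IsCoh F) (hG : Coh.IsCoh G) :
    Coh.IsCoh (RefHull.homSh F G) :=
  (FpLocal.isCoh_iff_isFP _).2 (isFP_homSh (FpLocal.isFP_of_isCoh F hF) (FpLocal.isFP_of_isCoh G hG))

theorem evalStalk_bidualMap (x : X) (v : F.presheaf.stalk x) :
    RefHull.evalStalk (RefHull.dual F) (Coh.structureModule X) x
      (RefHull.stalkMapₗ (RefHull.bidualMap F) x v) = RefHull.bidualAt F x v := by
  obtain ⟨U, hx, s, rfl⟩ := TopCat.Presheaf.exists_germ_eq F.presheaf v
  rw [RefHull.stalkMapₗ_germ, RefHull.evalStalk_germ, RefHull.bidualMap_app_apply]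

/-- the stalk of the dual is the dual of the stalk -/
noncomputable def dualEquiv (hF : CohB1.IsFP F) (x : X) :
    (RefHull.dual F).presheaf.stalk x ≃ₗ[X.presheaf.stalk x]
      Module.Dual (X.presheaf.stalk x) (F.presheaf.stalk x) :=
  haveI : SheafOfModules.IsFinitePresentation (R := X.ringCatSheaf) (Coh.structureModule X) :=
    isFP_structureModule X
  (evalEquiv (G := Coh.structureModule X) hF x).trans (LinearEquiv.congrRight (unitEquiv x).symm)

theorem dualEquiv_apply (hF : CohB1.IsFP F) (x : X) (θ : (RefHull.dual F).presheaf.stalk x)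
    (v : F.presheaf.stalk x) :
    dualEquiv hF x θ v = (unitEquiv x).symm (RefHull.evalStalk F (Coh.structureModule X) x θ v) := rfl

/-- the double dual of the stalk against the maps from the stalk of the dual -/
noncomputable def ddEquiv (hF : CohB1.IsFP F) (x : X) :
    Module.Dual (X.presheaf.stalk x) (Module.Dual (X.presheaf.stalk x) (F.presheaf.stalk x))
      ≃ₗ[X.presheaf.stalk x] RefHull.StalkHom (RefHull.dual F) (Coh.structureModule X) x :=
  LinearEquiv.arrowCongr (dualEquiv hF x).symm (unitEquiv x)

theorem ddEquiv_eval (hF : CohB1.IsFP F) (x : X) (v : F.presheaf.stalk x) :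
    ddEquiv hF x (Module.Dual.eval (X.presheaf.stalk x) (F.presheaf.stalk x) v) =
      RefHull.bidualAt F x v := by
  refine LinearMap.ext fun θ => ?_
  rw [ddEquiv, LinearEquiv.arrowCongr_apply, LinearEquiv.symm_symm, Module.Dual.eval_apply,
    dualEquiv_apply, LinearEquiv.apply_symm_apply, RefHull.bidualAt_apply]

theorem isReflexiveAt_iff (hF : CohB1.IsFP F) (x : X) :
    RefHull.IsReflexiveAt F x ↔ Function.Bijective (RefHull.bidualAt F x) := by
  have e : ⇑(RefHull.bidualAt F x) = ⇑(ddEquiv hF x) ∘
      ⇑(Module.Dual.eval (X.presheaf.stalk x) (F.presheaf.stalk x)) := by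
    funext v
    exact (ddEquiv_eval hF x v).symm
  rw [e, (ddEquiv hF x).bijective.of_comp_iff']
  exact ⟨fun h => h.1, fun h => ⟨h⟩⟩

/-- a coherent module on a locally Noetherian scheme is reflexive if and only if all its stalks are -/
theorem isReflexive_iff [IsLocallyNoetherian X] (hF : CohB1.IsFP F) :
    RefHull.IsReflexive F ↔ ∀ x, RefHull.IsReflexiveAt F x := by
  have hd : CohB1.IsFP (RefHull.dual F) := isFP_homSh hF (isFP_structureModule X)
  haveI : SheafOfModules.IsFinitePresentation (R := X.ringCatSheaf) (Coh.structureModule X) :=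
    isFP_structureModule X
  unfold RefHull.IsReflexive
  rw [isIso_iff_stalkMapₗ_bijective]
  refine forall_congr' fun x => ?_
  rw [isReflexiveAt_iff hF x]
  have e : ⇑(RefHull.bidualAt F x) = ⇑(evalEquiv (G := Coh.structureModule X) hd x) ∘
      ⇑(RefHull.stalkMapₗ (RefHull.bidualMap F) x) := by
    funext v
    exact (evalStalk_bidualMap x v).symm
  rw [e, (evalEquiv (G := Coh.structureModule X) hd x).bijective.of_comp_iff']

end Groth.Agent.Lead.RH
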