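import Mathlib
import Groth.Prelude.Def_RefHull
import Groth.Agent.Lib.Lead.RH5
import Groth.Agent.Lib.Helper4.LocClosedPt1

/-!
# Reflexive modules of `RefHull`: checking at closed points (lead)
-/

set_option autoImplicit false
set_option backward.isDefEq.respectTransparency.types false
set_option synthInstance.maxHeartbeats 400000
set_option linter.style.haveILetI false
set_option linter.unusedSectionVars false
universe u

open CategoryTheory CategoryTheory.Limits AlgebraicGeometry TopologicalSpace Opposite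

namespace Groth.Agent.Lead.RH

open Groth.Agent.Helper1.QcCech Groth.Agent.Lead.SD Groth.Agent.Helper1 Groth.Agent.Helper7.FinType

variable {X : Scheme.{u}} {F G : X.Modules}

theorem isUnit_germ_of_specializes {U : X.Opens} {x z : X} (h : x ⤳ z) (hz : z ∈ U) (f : Γ(X, U))
    (hf : IsUnit (X.presheaf.germ U z hz f)) :
    IsUnit (X.presheaf.germ U x (h.mem_open U.2 hz) f) := by
  have h1 : z ∈ X.basicOpen f := (Scheme.mem_basicOpen X f z hz).2 hf
  have h2 : x ∈ X.basicOpen f := h.mem_open (X.basicOpen f).2 h1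
  exact (Scheme.mem_basicOpen X f x (h.mem_open U.2 hz)).1 h2

/-- bijectivity on stalks of a morphism of quasi-coherent modules passes to generizations -/
theorem stalkMapₗ_bijective_of_specializes {A B : X.Modules}
    (hA : SheafOfModules.IsQuasicoherent.{u, u, u} A) (hB : SheafOfModules.IsQuasicoherent.{u, u, u} B)
    (φ : A ⟶ B) {x z : X} (h : x ⤳ z)
    (hz : Function.Bijective (RefHull.stalkMapₗ φ z)) : Function.Bijective (RefHull.stalkMapₗ φ x) := by
  obtain ⟨_, ⟨U, hU, rfl⟩, hzU, -⟩ := X.isBasis_affineOpens.exists_subset_of_mem_open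
    (Set.mem_univ z) isOpen_univ
  have hU' : IsAffineOpen U := hU
  have hxU : x ∈ U := h.mem_open U.2 hzU
  constructor
  · rw [injective_iff_map_eq_zero]
    intro v hv
    obtain ⟨a, f, hf, e⟩ := exists_germ_smul_eq A hA hU' x hxU v
    have h1 : B.presheaf.germ U x hxU (φ.app U a) = 0 := by
      rw [← RefHull.stalkMapₗ_germ, ← e, map_smul, hv, smul_zero]
    obtain ⟨g, hg, e2⟩ := exists_smul_eq_zero_of_germ_eq_zero B hB hU' x hxU _ h1
    have h2 : RefHull.stalkMapₗ φ z (A.presheaf.germ U z hzU (g • a)) = 0 := by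
      rw [RefHull.stalkMapₗ_germ]
      have : φ.app U (g • a) = g • φ.app U a := Scheme.Modules.Hom.app_smul φ g a
      rw [this, e2, map_zero]
    have h3 : A.presheaf.germ U z hzU (g • a) = 0 := by
      apply hz.1
      rw [h2, map_zero]
    obtain ⟨f', hf', e3⟩ := exists_smul_eq_zero_of_germ_eq_zero A hA hU' z hzU _ h3
    have hf'x := isUnit_germ_of_specializes h hzU f' hf'
    have h4 := congrArg (A.presheaf.germ U x hxU) e3
    rw [Mero.germ_smul, Mero.germ_smul, map_zero] at h4
    have h5 : A.presheaf.germ U x hxU a = 0 := hg.smul_eq_zero.1 (hf'x.smul_eq_zero.1 h4)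
    rw [h5] at e
    exact hf.smul_eq_zero.1 e
  · intro w
    obtain ⟨b, f, hf, e⟩ := exists_germ_smul_eq B hB hU' x hxU w
    obtain ⟨v', hv'⟩ := hz.2 (B.presheaf.germ U z hzU b)
    obtain ⟨a', f', hf', e'⟩ := exists_germ_smul_eq A hA hU' z hzU v'
    have h1 : B.presheaf.germ U z hzU (φ.app U a' - f' • b) = 0 := by
      rw [map_sub, ← RefHull.stalkMapₗ_germ, ← e', map_smul, hv', Mero.germ_smul, sub_self]
    obtain ⟨f'', hf'', e2⟩ := exists_smul_eq_zero_of_germ_eq_zero B hB hU' z hzU _ h1
    have hf'x := isUnit_germ_of_specializes h hzU f' hf'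
    have hf''x := isUnit_germ_of_specializes h hzU f'' hf''
    have h2 := congrArg (B.presheaf.germ U x hxU) e2
    rw [Mero.germ_smul, map_zero, map_sub, Mero.germ_smul] at h2
    have h3 := hf''x.smul_eq_zero.1 h2
    rw [sub_eq_zero] at h3
    refine ⟨((hf'x.unit⁻¹ * hf.unit⁻¹ : (X.presheaf.stalk x)ˣ) : X.presheaf.stalk x) •
      A.presheaf.germ U x hxU a', ?_⟩
    rw [map_smul, RefHull.stalkMapₗ_germ, h3, ← e, smul_smul, smul_smul, Units.val_mul, mul_assoc,
      mul_assoc]
    have e4 : (↑hf.unit⁻¹ : X.presheaf.stalk x) * (X.presheaf.germ U x hxU f' *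
        X.presheaf.germ U x hxU f) = X.presheaf.germ U x hxU f' := by
      rw [mul_comm (X.presheaf.germ U x hxU f'), ← mul_assoc, IsUnit.val_inv_mul, one_mul]
    rw [e4, IsUnit.val_inv_mul, one_smul]

theorem isReflexiveAt_iff_stalkMapₗ [IsLocallyNoetherian X] (hF : CohB1.IsFP F) (x : X) :
    RefHull.IsReflexiveAt F x ↔ Function.Bijective (RefHull.stalkMapₗ (RefHull.bidualMap F) x) := by
  have hd : CohB1.IsFP (RefHull.dual F) := isFP_homSh hF (isFP_structureModule X)
  haveI : SheafOfModules.IsFinitePresentation (R := X.ringCatSheaf) (Coh.structureModule X) :=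
    isFP_structureModule X
  rw [isReflexiveAt_iff hF x]
  have e : ⇑(RefHull.bidualAt F x) = ⇑(evalEquiv (G := Coh.structureModule X) hd x) ∘
      ⇑(RefHull.stalkMapₗ (RefHull.bidualMap F) x) := by
    funext v
    exact (evalStalk_bidualMap x v).symm
  rw [e, (evalEquiv (G := Coh.structureModule X) hd x).bijective.of_comp_iff']

theorem isReflexiveAt_of_specializes [IsLocallyNoetherian X] (hF : CohB1.IsFP F) {x z : X}
    (h : x ⤳ z) (hz : RefHull.IsReflexiveAt F z) : RefHull.IsReflexiveAt F x := by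
  have hd : CohB1.IsFP (RefHull.dual F) := isFP_homSh hF (isFP_structureModule X)
  have hdd : CohB1.IsFP (RefHull.ddual F) := isFP_homSh hd (isFP_structureModule X)
  haveI : SheafOfModules.IsFinitePresentation (R := X.ringCatSheaf) F := hF
  haveI : SheafOfModules.IsFinitePresentation (R := X.ringCatSheaf) (RefHull.ddual F) := hdd
  rw [isReflexiveAt_iff_stalkMapₗ hF] at hz ⊢
  exact stalkMapₗ_bijective_of_specializes inferInstance inferInstance _ h hz

theorem S16080_main (X : Scheme.{u}) [IsIntegral X] [IsLocallyNoetherian X] (F : X.Modules)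
    (hF : Coh.IsCoh F) :
    [RefHull.IsReflexive F, ∀ x : ↥X, RefHull.IsReflexiveAt F x,
      ∀ x : ↥X, IsClosed ({x} : Set ↥X) → RefHull.IsReflexiveAt F x].TFAE := by
  have hFP : CohB1.IsFP F := FpLocal.isFP_of_isCoh F hF
  tfae_have 1 ↔ 2 := isReflexive_iff hFP
  tfae_have 2 → 3 := fun h x _ => h x
  tfae_have 3 → 2 := by
    intro h x
    obtain ⟨z, hz, hzcl⟩ := Groth.Agent.Lib.Helper4.LocClosedPt1.exists_closedPoint X
      (closure {x}) isClosed_closure ⟨x, subset_closure rfl⟩
    exact isReflexiveAt_of_specializes hFP (specializes_iff_mem_closure.mpr hz) (h z hzcl)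
  tfae_finish

end Groth.Agent.Lead.RH
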