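import Mathlib

/-!
# Finite reflexive modules of rank one over a factorial domain are free (lead)
-/

set_option autoImplicit false
set_option linter.style.haveILetI false
universe u

namespace Groth.Agent.Lead.RkOne

variable {R : Type*} [CommRing R] [IsDomain R] {M : Type*} [AddCommGroup M] [Module R M]

/-- rank at most one: any two elements are linearly dependent -/
def Dep (R : Type*) [CommRing R] (M : Type*) [AddCommGroup M] [Module R M] : Prop :=
  ∀ m m' : M, ∃ r r' : R, (r ≠ 0 ∨ r' ≠ 0) ∧ r • m = r' • m'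

theorem torsionFree_of_reflexive [Module.IsReflexive R M] {r : R} {m : M} (hr : r ≠ 0)
    (h : r • m = 0) : m = 0 := by
  have hinj := (Module.bijective_dual_eval R M).1
  apply hinj
  rw [map_zero]
  ext φ
  have h1 : r * φ m = 0 := by
    rw [← smul_eq_mul, ← map_smul, h, map_zero]
  simpa using (mul_eq_zero.1 h1).resolve_left hr

theorem exists_dual_ne_zero [Module.IsReflexive R M] [Nontrivial M] :
    ∃ θ : Module.Dual R M, θ ≠ 0 := by
  by_contra hcon
  simp only [ne_eq, not_exists, not_not] at hcon
  obtain ⟨m, hm⟩ := exists_ne (0 : M)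
  apply hm
  apply (Module.bijective_dual_eval R M).1
  rw [map_zero]
  ext φ
  rw [hcon φ]
  simp

theorem injective_of_dep [Module.IsReflexive R M] (hP : Dep R M) (θ : Module.Dual R M)
    (hθ : θ ≠ 0) : Function.Injective θ := by
  rw [injective_iff_map_eq_zero]
  intro m hm
  obtain ⟨m₁, hm₁⟩ : ∃ m₁, θ m₁ ≠ 0 := by
    by_contra hcon
    simp only [not_exists, not_not] at hcon
    exact hθ (LinearMap.ext hcon)
  obtain ⟨r, r', hrr', e⟩ := hP m m₁
  have h1 : r' * θ m₁ = 0 := by
    rw [← smul_eq_mul, ← map_smul, ← e, map_smul, hm, smul_zero]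
  have hr' : r' = 0 := (mul_eq_zero.1 h1).resolve_right hm₁
  have hr : r ≠ 0 := by
    rcases hrr' with h | h
    · exact h
    · exact absurd hr' h
  rw [hr', zero_smul] at e
  exact torsionFree_of_reflexive hr e

theorem exists_gen_of_injective [UniqueFactorizationMonoid R] [Module.Finite R M]
    [Module.IsReflexive R M] [Nontrivial M] (φ : M →ₗ[R] R) (hφ : Function.Injective φ) :
    ∃ x : M, Function.Bijective (fun r : R => r • x) := by
  classical
  letI : StrongNormalizationMonoid R := UniqueFactorizationMonoid.normalizationMonoid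
  letI : NormalizedGCDMonoid R := UniqueFactorizationMonoid.toNormalizedGCDMonoid R
  obtain ⟨n, m, hm⟩ := Module.Finite.exists_fin (R := R) (M := M)
  -- some generator is nonzero
  have hne : ∃ i, φ (m i) ≠ 0 := by
    by_contra hcon
    simp only [not_exists, not_not] at hcon
    have h0 : φ = 0 := by
      apply LinearMap.ext_on_range hm
      intro i
      rw [hcon i, LinearMap.zero_apply]
    obtain ⟨y, hy⟩ := exists_ne (0 : M)
    apply hy
    apply hφ
    rw [h0, LinearMap.zero_apply, LinearMap.zero_apply]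
  obtain ⟨i₁, hi₁⟩ := hne
  have hs : (Finset.univ : Finset (Fin n)).Nonempty := ⟨i₁, Finset.mem_univ _⟩
  obtain ⟨b, hb, hgcd⟩ := Finset.extract_gcd (fun i => φ (m i)) hs
  set d : R := (Finset.univ : Finset (Fin n)).gcd (fun i => φ (m i)) with hd
  have hd0 : d ≠ 0 := by
    rw [hd, Finset.gcd_ne_zero_iff]
    exact ⟨i₁, Finset.mem_univ _, hi₁⟩
  have hb' : ∀ i, φ (m i) = d * b i := fun i => hb i (Finset.mem_univ _)
  -- every value of `φ` is divisible by `d`
  have hdiv : ∀ y : M, ∃ c : R, φ y = d * c := by
    intro y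
    have hy : y ∈ Submodule.span R (Set.range m) := by rw [hm]; trivial
    induction hy using Submodule.span_induction with
    | mem y hy =>
      obtain ⟨i, rfl⟩ := hy
      exact ⟨b i, hb' i⟩
    | zero => exact ⟨0, by simp⟩
    | add y z _ _ hy hz =>
      obtain ⟨c, hc⟩ := hy
      obtain ⟨c', hc'⟩ := hz
      exact ⟨c + c', by rw [map_add, hc, hc', mul_add]⟩
    | smul r y _ hy =>
      obtain ⟨c, hc⟩ := hy
      exact ⟨r * c, by rw [map_smul, hc, smul_eq_mul]; ring⟩
  choose ψ₀ hψ₀ using hdiv
  let ψ : M →ₗ[R] R :=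
    { toFun := ψ₀
      map_add' := fun y z => by
        apply mul_left_cancel₀ hd0
        rw [← hψ₀, map_add, hψ₀ y, hψ₀ z, mul_add]
      map_smul' := fun r y => by
        apply mul_left_cancel₀ hd0
        rw [← hψ₀, map_smul, hψ₀ y, RingHom.id_apply, smul_eq_mul, smul_eq_mul]
        ring }
  have hψ : ∀ y, φ y = d * ψ y := hψ₀
  have hψinj : Function.Injective ψ := by
    intro y z hyz
    apply hφ
    rw [hψ, hψ, hyz]
  have hψm : ∀ i, ψ (m i) = b i := by
    intro i
    apply mul_left_cancel₀ hd0
    rw [← hψ, hb' i]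
  -- every linear form is a multiple of `ψ`
  have hmult : ∀ θ : Module.Dual R M, ∃ c : R, θ = c • ψ := by
    intro θ
    have hsym : ∀ i j, b i * θ (m j) = b j * θ (m i) := by
      intro i j
      have h1 : b i • m j = b j • m i := by
        apply hψinj
        rw [map_smul, map_smul, hψm, hψm, smul_eq_mul, smul_eq_mul, mul_comm]
      have h2 := congrArg θ h1
      rwa [map_smul, map_smul, smul_eq_mul, smul_eq_mul] at h2
    obtain ⟨i₀, hi₀⟩ : ∃ i, b i ≠ 0 := by
      by_contra hcon
      simp only [not_exists, not_not] at hcon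
      have : (Finset.univ : Finset (Fin n)).gcd b = 0 :=
        Finset.gcd_eq_zero_iff.2 (fun i _ => hcon i)
      rw [this] at hgcd
      exact zero_ne_one hgcd
    have hdvd : b i₀ ∣ θ (m i₀) := by
      have h1 : b i₀ ∣ (Finset.univ : Finset (Fin n)).gcd (fun j => b j * θ (m i₀)) := by
        apply Finset.dvd_gcd
        intro j _
        rw [← hsym i₀ j]
        exact dvd_mul_right _ _
      have h2 := (Finset.gcd_mul_right' (Finset.univ : Finset (Fin n)) b (θ (m i₀))).dvd
      have h3 := h1.trans h2
      rwa [hgcd, one_mul] at h3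
    obtain ⟨c, hc⟩ := hdvd
    refine ⟨c, ?_⟩
    apply LinearMap.ext_on_range hm
    intro j
    rw [LinearMap.smul_apply, hψm, smul_eq_mul]
    apply mul_left_cancel₀ hi₀
    rw [hsym i₀ j, hc]
    ring
  -- the dual is free on `ψ`
  have hψ0 : ∃ y, ψ y ≠ 0 := ⟨m i₁, by
    intro h
    apply hi₁
    rw [hψ, h, mul_zero]⟩
  have hEinj : Function.Injective (LinearMap.toSpanSingleton R (Module.Dual R M) ψ) := by
    rw [injective_iff_map_eq_zero]
    intro c hc
    obtain ⟨y, hy⟩ := hψ0
    have h1 : c * ψ y = 0 := by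
      have := congrArg (fun θ : Module.Dual R M => θ y) hc
      simpa [LinearMap.toSpanSingleton_apply] using this
    exact (mul_eq_zero.1 h1).resolve_right hy
  have hEsurj : Function.Surjective (LinearMap.toSpanSingleton R (Module.Dual R M) ψ) := by
    intro θ
    obtain ⟨c, hc⟩ := hmult θ
    exact ⟨c, by rw [LinearMap.toSpanSingleton_apply, hc]⟩
  let E : R ≃ₗ[R] Module.Dual R M :=
    LinearEquiv.ofBijective (LinearMap.toSpanSingleton R (Module.Dual R M) ψ) ⟨hEinj, hEsurj⟩
  have hE1 : E 1 = ψ := by
    change LinearMap.toSpanSingleton R (Module.Dual R M) ψ 1 = ψ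
    rw [LinearMap.toSpanSingleton_apply, one_smul]
  obtain ⟨x, hx⟩ := (Module.bijective_dual_eval R M).2 (E.symm.toLinearMap : Module.Dual R (Module.Dual R M))
  have hx1 : ψ x = 1 := by
    have := congrArg (fun Φ : Module.Dual R (Module.Dual R M) => Φ ψ) hx
    simp only [Module.Dual.eval_apply, LinearEquiv.coe_coe] at this
    rw [this, ← hE1, LinearEquiv.symm_apply_apply]
  refine ⟨x, ?_, ?_⟩
  · intro r r' h
    have := congrArg ψ h
    simpa [hx1] using this
  · intro y
    refine ⟨ψ y, ?_⟩
    apply hψinj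
    simp [hx1]

/-- a finite reflexive module of rank one over a factorial domain is free of rank one -/
theorem exists_gen [UniqueFactorizationMonoid R] [Module.Finite R M] [Module.IsReflexive R M]
    [Nontrivial M] (hP : Dep R M) : ∃ x : M, Function.Bijective (fun r : R => r • x) := by
  obtain ⟨θ, hθ⟩ := exists_dual_ne_zero (R := R) (M := M)
  exact exists_gen_of_injective θ (injective_of_dep hP θ hθ)

end Groth.Agent.Lead.RkOne
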