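import Mathlib
import Groth.Prelude.Def_RefHull
import Groth.Agent.Lib.Lead.RH6
import Groth.Agent.Lib.Lead.RkOne
import Groth.Agent.Lib.Helper1.TwForm4
import Groth.Agent.Lib.Helper1.TwRestr
import Groth.Agent.Lib.Helper9.RegUFD.Main

/-!
# Reflexive modules of rank one on a regular scheme are invertible (lead)
-/

set_option autoImplicit false
set_option backward.isDefEq.respectTransparency.types false
set_option synthInstance.maxHeartbeats 400000
set_option linter.style.haveILetI false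
set_option linter.unusedSectionVars false
universe u

open CategoryTheory CategoryTheory.Limits AlgebraicGeometry TopologicalSpace Opposite

namespace Groth.Agent.Lead.RkSch

open Groth.Agent.Helper1.QcCech Groth.Agent.Lead.SD Groth.Agent.Helper1 Groth.Agent.Helper7.FinType
  Groth.Agent.Helper1.LGen Groth.Agent.Lead.RH

variable {X : Scheme.{u}} {F : X.Modules}

theorem germ_res (M : X.Modules) {U V : X.Opens} (h : V ≤ U) (y : X) (hy : y ∈ V) (s : Γ(M, U)) :
    M.presheaf.germ V y hy (res M h s) = M.presheaf.germ U y (h hy) s :=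
  TopCat.Presheaf.germ_res_apply M.presheaf (homOfLE h) y hy s

theorem germ_resR {U V : X.Opens} (h : V ≤ U) (y : X) (hy : y ∈ V) (r : Γ(X, U)) :
    X.presheaf.germ V y hy (resR h r) = X.presheaf.germ U y (h hy) r :=
  TopCat.Presheaf.germ_res_apply X.presheaf (homOfLE h) y hy r

theorem function_ext {V : X.Opens} (r r' : Γ(X, V))
    (h : ∀ (y : X) (hy : y ∈ V), X.presheaf.germ V y hy r = X.presheaf.germ V y hy r') : r = r' :=
  TopCat.Presheaf.section_ext X.sheaf V r r' h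

/-- gluing a function from a family of germs which is locally given by functions -/
theorem exists_function_of_germs (V : X.Opens) (t : ∀ y : V, X.presheaf.stalk y.1)
    (h : ∀ x : V, ∃ (W : X.Opens) (_ : x.1 ∈ W) (hW : W ≤ V) (n : Γ(X, W)),
      ∀ y : W, t ⟨y.1, hW y.2⟩ = X.presheaf.germ W y.1 y.2 n) :
    ∃ n : Γ(X, V), ∀ y : V, X.presheaf.germ V y.1 y.2 n = t y := by
  choose W hxW hW n hn using h
  have hcov : V ≤ ⨆ x, W x := fun y hy => Opens.mem_iSup.2 ⟨⟨y, hy⟩, hxW ⟨y, hy⟩⟩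
  obtain ⟨s, hs, -⟩ := X.sheaf.existsUnique_gluing' W V (fun x => homOfLE (hW x)) hcov n (by
    intro x x'
    apply function_ext
    intro y hy
    change X.presheaf.germ _ y hy (X.presheaf.map (homOfLE _).op (n x)) =
      X.presheaf.germ _ y hy (X.presheaf.map (homOfLE _).op (n x'))
    rw [TopCat.Presheaf.germ_res_apply, TopCat.Presheaf.germ_res_apply,
      ← hn x ⟨y, hy.1⟩, ← hn x' ⟨y, hy.2⟩])
  refine ⟨s, fun y => ?_⟩
  have e := hs y
  have e2 := congrArg (X.presheaf.germ (W y) y.1 (hxW y)) e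
  change X.presheaf.germ _ y.1 (hxW y) (X.presheaf.map (homOfLE _).op s) = _ at e2
  rw [TopCat.Presheaf.germ_res_apply] at e2
  rw [e2, ← hn y ⟨y.1, hxW y⟩]

theorem gsm (M : X.Modules) (x : X) (U : X.Opens) (hx : x ∈ U) (r : Γ(X, U)) (m : Γ(M, U)) :
    M.presheaf.germ U x hx (r • m) = X.presheaf.germ U x hx r • M.presheaf.germ U x hx m :=
  Groth.Agent.Lead.SD.germ_smul M x U hx r m

/-- the germ of `a` at `y` is a free generator of the stalk -/
def FreeAt (F : X.Modules) {W : X.Opens} (a : Γ(F, W)) (y : X) (hy : y ∈ W) : Prop :=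
  Function.Bijective (fun ρ : X.presheaf.stalk y => ρ • F.presheaf.germ W y hy a)

theorem isGen_of_freeAt {W : X.Opens} (a : Γ(F, W)) (h : ∀ (y : X) (hy : y ∈ W), FreeAt F a y hy) :
    IsGen F W a := by
  have hinj : ∀ (V : X.Opens) (hV : V ≤ W) (r r' : Γ(X, V)),
      r • res F hV a = r' • res F hV a → r = r' := by
    intro V hV r r' hrr'
    apply function_ext
    intro y hy
    apply (h y (hV hy)).1
    have := congrArg (F.presheaf.germ V y hy) hrr'
    rw [gsm, gsm, germ_res] at this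
    exact this
  intro V hV
  refine ⟨fun r r' => hinj V hV r r', ?_⟩
  intro s
  have hloc : ∀ y : V, ∃ ρ : X.presheaf.stalk y.1,
      ρ • F.presheaf.germ W y.1 (hV y.2) a = F.presheaf.germ V y.1 y.2 s :=
    fun y => (h y.1 (hV y.2)).2 _
  choose t ht using hloc
  obtain ⟨r, hr⟩ := exists_function_of_germs V t (by
    intro x
    obtain ⟨W₁, hxW₁, n, hn⟩ := TopCat.Presheaf.exists_germ_eq X.presheaf (t x)
    have h1 : F.presheaf.germ (W₁ ⊓ V) x.1 ⟨hxW₁, x.2⟩
        (resR (inf_le_left : W₁ ⊓ V ≤ W₁) n • res F ((inf_le_right : W₁ ⊓ V ≤ V).trans hV) a) =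
        F.presheaf.germ (W₁ ⊓ V) x.1 ⟨hxW₁, x.2⟩ (res F (inf_le_right : W₁ ⊓ V ≤ V) s) := by
      rw [gsm, germ_res, germ_res, germ_resR, hn, ht x]
    obtain ⟨W₂, hxW₂, i₁, i₂, e⟩ := TopCat.Presheaf.germ_eq F.presheaf x.1 _ _ _ _ h1
    refine ⟨W₂, hxW₂, i₁.le.trans inf_le_right, resR i₁.le (resR (inf_le_left : W₁ ⊓ V ≤ W₁) n),
      fun y => ?_⟩
    have hyV : y.1 ∈ V := (i₁.le.trans inf_le_right) y.2
    apply (h y.1 (hV hyV)).1
    change t ⟨y.1, hyV⟩ • F.presheaf.germ W y.1 (hV hyV) a = _ • F.presheaf.germ W y.1 (hV hyV) a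
    rw [ht ⟨y.1, hyV⟩]
    have e2 := congrArg (F.presheaf.germ W₂ y.1 y.2) e
    rw [TopCat.Presheaf.germ_res_apply, TopCat.Presheaf.germ_res_apply, gsm, germ_res, germ_res,
      germ_resR] at e2
    rw [germ_resR, germ_resR]
    exact e2.symm)
  refine ⟨r, ?_⟩
  apply section_ext
  intro y hy
  change F.presheaf.germ V y hy (r • res F hV a) = _
  rw [gsm, germ_res, hr ⟨y, hy⟩, ht ⟨y, hy⟩]

theorem exists_germ_mul_eq_aux {V : X.Opens} (hV : IsAffineOpen V) (y : V)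
    (ρ : X.presheaf.stalk y.1) :
    ∃ c s : Γ(X, V), IsUnit (X.presheaf.germ V y.1 y.2 s) ∧
      ρ * X.presheaf.germ V y.1 y.2 s = X.presheaf.germ V y.1 y.2 c := by
  haveI := hV.isLocalization_stalk y
  obtain ⟨⟨c, s⟩, e⟩ := IsLocalization.surj (hV.primeIdealOf y).asIdeal.primeCompl ρ
  exact ⟨c, s.1, (isUnit_germ_iff hV y s.1).2 s.2, e⟩

theorem exists_germ_mul_eq {V : X.Opens} (hV : IsAffineOpen V) (y : X) (hy : y ∈ V)
    (ρ : X.presheaf.stalk y) :
    ∃ c s : Γ(X, V), IsUnit (X.presheaf.germ V y hy s) ∧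
      ρ * X.presheaf.germ V y hy s = X.presheaf.germ V y hy c :=
  exists_germ_mul_eq_aux hV ⟨y, hy⟩ ρ

theorem exists_mul_eq_zero_of_germ_eq_zero_aux {V : X.Opens} (hV : IsAffineOpen V) (y : V)
    (c : Γ(X, V)) (h : X.presheaf.germ V y.1 y.2 c = 0) :
    ∃ t : Γ(X, V), IsUnit (X.presheaf.germ V y.1 y.2 t) ∧ t * c = 0 := by
  haveI := hV.isLocalization_stalk y
  obtain ⟨t, ht⟩ := (IsLocalization.map_eq_zero_iff (hV.primeIdealOf y).asIdeal.primeCompl
    (X.presheaf.stalk y.1) c).1 h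
  exact ⟨t.1, (isUnit_germ_iff hV y t.1).2 t.2, ht⟩

theorem exists_mul_eq_zero_of_germ_eq_zero {V : X.Opens} (hV : IsAffineOpen V) (y : X) (hy : y ∈ V)
    (c : Γ(X, V)) (h : X.presheaf.germ V y hy c = 0) :
    ∃ t : Γ(X, V), IsUnit (X.presheaf.germ V y hy t) ∧ t * c = 0 :=
  exists_mul_eq_zero_of_germ_eq_zero_aux hV ⟨y, hy⟩ c h

theorem freeAt_iff {W : X.Opens} (a : Γ(F, W)) (y : X) (hy : y ∈ W) :
    FreeAt F a y hy ↔
      (∀ ρ : X.presheaf.stalk y, ρ • F.presheaf.germ W y hy a = 0 → ρ = 0) ∧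
      (∀ v : F.presheaf.stalk y, ∃ ρ : X.presheaf.stalk y, ρ • F.presheaf.germ W y hy a = v) := by
  constructor
  · intro h
    refine ⟨fun ρ hρ => ?_, fun v => h.2 v⟩
    apply h.1
    change ρ • _ = (0 : X.presheaf.stalk y) • _
    rw [hρ, zero_smul]
  · rintro ⟨h0, h1⟩
    refine ⟨fun ρ ρ' h => ?_, h1⟩
    have h2 : (ρ - ρ') • F.presheaf.germ W y hy a = 0 := by
      rw [sub_smul]
      exact sub_eq_zero.2 h
    exact sub_eq_zero.1 (h0 _ h2)

theorem exists_isGen_of_free_stalk [IsLocallyNoetherian X]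
    (hq : SheafOfModules.IsQuasicoherent.{u, u, u} F)
    (hft : SheafOfModules.IsFiniteType.{u, u, u} F) (x : X) (g : F.presheaf.stalk x)
    (hg0 : ∀ ρ : X.presheaf.stalk x, ρ • g = 0 → ρ = 0)
    (hg1 : ∀ v : F.presheaf.stalk x, ∃ ρ : X.presheaf.stalk x, ρ • g = v) :
    ∃ (W : X.Opens) (a : Γ(F, W)), x ∈ W ∧ IsGen F W a := by
  classical
  obtain ⟨V, hxV, hV, n, m, hm, -⟩ := exists_finite_gen hq hft x
  haveI : IsNoetherianRing Γ(X, V) := IsLocallyNoetherian.component_noetherian ⟨V, hV⟩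
  obtain ⟨a, f, hf, e⟩ := exists_germ_smul_eq F hq hV x hxV g
  have ha0 : ∀ ρ : X.presheaf.stalk x, ρ • F.presheaf.germ V x hxV a = 0 → ρ = 0 := by
    intro ρ h
    rw [← e, smul_smul] at h
    exact (hf.mul_left_eq_zero).1 (hg0 _ h)
  have ha1 : ∀ v : F.presheaf.stalk x, ∃ ρ : X.presheaf.stalk x,
      ρ • F.presheaf.germ V x hxV a = v := by
    intro v
    obtain ⟨ρ, hρ⟩ := hg1 v
    refine ⟨ρ * ↑hf.unit⁻¹, ?_⟩
    rw [← e, smul_smul, mul_assoc, IsUnit.val_inv_mul, mul_one, hρ]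
  -- generation
  have h1 : ∀ i, ∃ t c : Γ(X, V), IsUnit (X.presheaf.germ V x hxV t) ∧ t • m i = c • a := by
    intro i
    obtain ⟨ρ, hρ⟩ := ha1 (F.presheaf.germ V x hxV (m i))
    obtain ⟨c, s, hs, e1⟩ := exists_germ_mul_eq hV x hxV ρ
    have h0 : F.presheaf.germ V x hxV (s • m i - c • a) = 0 := by
      rw [map_sub, gsm, gsm, ← hρ, smul_smul, mul_comm, e1, sub_self]
    obtain ⟨t, ht, e2⟩ := exists_smul_eq_zero_of_germ_eq_zero F hq hV x hxV _ h0
    refine ⟨t * s, t * c, ?_, ?_⟩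
    · rw [map_mul]
      exact ht.mul hs
    · rw [mul_smul, mul_smul, ← sub_eq_zero, ← smul_sub]
      exact e2
  choose t c ht hc using h1
  have hf₁ : IsUnit (X.presheaf.germ V x hxV (∏ i, t i)) := by
    rw [map_prod]
    exact (Finset.univ.prod_induction _ IsUnit (fun _ _ h h' => h.mul h') isUnit_one
      (fun i _ => ht i))
  have h1' : ∀ y : Γ(F, V), ∃ c' : Γ(X, V), (∏ i, t i) • y = c' • a := by
    intro y
    have hy : y ∈ Submodule.span Γ(X, V) (Set.range m) := by rw [hm]; trivial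
    induction hy using Submodule.span_induction with
    | mem y hy =>
      obtain ⟨i, rfl⟩ := hy
      refine ⟨(∏ j ∈ Finset.univ.erase i, t j) * c i, ?_⟩
      rw [← Finset.prod_erase_mul Finset.univ t (Finset.mem_univ i), mul_smul, hc, mul_smul]
    | zero => exact ⟨0, by rw [smul_zero, zero_smul]⟩
    | add y z _ _ hy hz =>
      obtain ⟨c₁, h₁⟩ := hy
      obtain ⟨c₂, h₂⟩ := hz
      exact ⟨c₁ + c₂, by rw [smul_add, h₁, h₂, add_smul]⟩
    | smul r y _ hy =>
      obtain ⟨c₁, h₁⟩ := hy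
      exact ⟨r * c₁, by rw [smul_comm, h₁, mul_smul]⟩
  -- freeness
  let I : Ideal Γ(X, V) := LinearMap.ker (LinearMap.toSpanSingleton Γ(X, V) Γ(F, V) a)
  have hImem : ∀ c : Γ(X, V), c ∈ I ↔ c • a = 0 := fun c => by
    simp [I, LinearMap.mem_ker, LinearMap.toSpanSingleton_apply]
  obtain ⟨S, hS⟩ : I.FG := IsNoetherian.noetherian I
  have h2 : ∀ c ∈ S, ∃ t : Γ(X, V), IsUnit (X.presheaf.germ V x hxV t) ∧ t * c = 0 := by
    intro c hcS
    have hcI : c ∈ I := hS ▸ Submodule.subset_span hcS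
    have h0 : X.presheaf.germ V x hxV c = 0 :=
      ha0 _ (by rw [← gsm, (hImem c).1 hcI, map_zero])
    exact exists_mul_eq_zero_of_germ_eq_zero hV x hxV c h0
  choose! t₂ ht₂ ht₂' using h2
  have hf₂ : IsUnit (X.presheaf.germ V x hxV (∏ c ∈ S, t₂ c)) := by
    rw [map_prod]
    exact (S.prod_induction _ IsUnit (fun _ _ h h' => h.mul h') isUnit_one
      (fun i hi => ht₂ i hi))
  have h2'' : ∀ c : Γ(X, V), c ∈ Submodule.span Γ(X, V) (S : Set Γ(X, V)) →
      (∏ c ∈ S, t₂ c) * c = 0 := by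
    intro c hcI
    induction hcI using Submodule.span_induction with
    | mem c hc =>
      rw [← Finset.prod_erase_mul S t₂ hc, mul_assoc, ht₂' c hc, mul_zero]
    | zero => exact mul_zero _
    | add y z _ _ hy hz => rw [mul_add, hy, hz, add_zero]
    | smul r y _ hy => rw [smul_eq_mul, mul_left_comm, hy, mul_zero]
  have h2' : ∀ c : Γ(X, V), c • a = 0 → (∏ c ∈ S, t₂ c) * c = 0 := by
    intro c hc
    apply h2''
    have hS' : Submodule.span Γ(X, V) (S : Set Γ(X, V)) = I := hS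
    rw [hS']
    exact (hImem c).2 hc
  -- the neighbourhood
  have hxW : x ∈ X.basicOpen ((∏ i, t i) * ∏ c ∈ S, t₂ c) :=
    (X.mem_basicOpen _ x hxV).2 (by rw [map_mul]; exact hf₁.mul hf₂)
  have hW : X.basicOpen ((∏ i, t i) * ∏ c ∈ S, t₂ c) ≤ V := X.basicOpen_le _
  refine ⟨X.basicOpen ((∏ i, t i) * ∏ c ∈ S, t₂ c), res F hW a, hxW, isGen_of_freeAt _ ?_⟩
  intro y hy
  have hyV : y ∈ V := hW hy
  have hu : IsUnit (X.presheaf.germ V y hyV ((∏ i, t i) * ∏ c ∈ S, t₂ c)) :=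
    (X.mem_basicOpen _ y hyV).1 hy
  rw [map_mul] at hu
  have hu₁ : IsUnit (X.presheaf.germ V y hyV (∏ i, t i)) := isUnit_of_mul_isUnit_left hu
  have hu₂ : IsUnit (X.presheaf.germ V y hyV (∏ c ∈ S, t₂ c)) := isUnit_of_mul_isUnit_right hu
  refine (freeAt_iff _ y hy).2 ⟨?_, ?_⟩
  · intro ρ hρ
    rw [germ_res] at hρ
    obtain ⟨c', s, hs, e1⟩ := exists_germ_mul_eq hV y hyV ρ
    have h0 : F.presheaf.germ V y hyV (c' • a) = 0 := by
      rw [gsm, ← e1, mul_comm, ← smul_smul, hρ, smul_zero]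
    obtain ⟨t', ht', e2⟩ := exists_smul_eq_zero_of_germ_eq_zero F hq hV y hyV _ h0
    have h3 : (∏ c ∈ S, t₂ c) * (t' * c') = 0 := h2' _ (by rw [mul_smul]; exact e2)
    have h4 := congrArg (X.presheaf.germ V y hyV) h3
    rw [map_mul, map_mul, map_zero] at h4
    have h5 : X.presheaf.germ V y hyV c' = 0 :=
      (ht'.mul_right_eq_zero).1 ((hu₂.mul_right_eq_zero).1 h4)
    rw [h5] at e1
    exact (hs.mul_left_eq_zero).1 e1
  · intro v
    obtain ⟨n', f', hf', e1⟩ := exists_germ_smul_eq F hq hV y hyV v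
    obtain ⟨c', hc'⟩ := h1' n'
    have e3 : X.presheaf.germ V y hyV (∏ i, t i) • F.presheaf.germ V y hyV n' =
        X.presheaf.germ V y hyV c' • F.presheaf.germ V y hyV a := by
      rw [← gsm, ← gsm, hc']
    refine ⟨↑hf'.unit⁻¹ * (↑hu₁.unit⁻¹ * X.presheaf.germ V y hyV c'), ?_⟩
    rw [germ_res, ← smul_smul, ← smul_smul, ← e3, smul_smul (↑hu₁.unit⁻¹ : X.presheaf.stalk y),
      IsUnit.val_inv_mul, one_smul, ← e1, smul_smul, IsUnit.val_inv_mul, one_smul]

theorem freeAt_of_isGen {W : X.Opens} {a : Γ(F, W)} (ha : IsGen F W a) (y : X) (hy : y ∈ W) :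
    FreeAt F a y hy := by
  refine (freeAt_iff a y hy).2 ⟨?_, ?_⟩
  · intro ρ hρ
    obtain ⟨W₁, hyW₁, r, rfl⟩ := TopCat.Presheaf.exists_germ_eq X.presheaf ρ
    have h1 : F.presheaf.germ (W₁ ⊓ W) y ⟨hyW₁, hy⟩
        (resR (inf_le_left : W₁ ⊓ W ≤ W₁) r • res F (inf_le_right : W₁ ⊓ W ≤ W) a) =
        F.presheaf.germ (W₁ ⊓ W) y ⟨hyW₁, hy⟩ 0 := by
      rw [gsm, germ_res, germ_resR, hρ, map_zero]
    obtain ⟨W₂, hyW₂, i₁, i₂, e⟩ := TopCat.Presheaf.germ_eq F.presheaf y _ _ _ _ h1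
    have e' : res F i₁.le (resR (inf_le_left : W₁ ⊓ W ≤ W₁) r •
        res F (inf_le_right : W₁ ⊓ W ≤ W) a) = 0 := by
      change F.presheaf.map i₁.op _ = 0
      rw [e, map_zero]
    rw [res_smul, res_res] at e'
    have h2 : resR i₁.le (resR (inf_le_left : W₁ ⊓ W ≤ W₁) r) = 0 := by
      apply (ha W₂ (i₁.le.trans inf_le_right)).1
      change _ • _ = (0 : Γ(X, W₂)) • _
      rw [e', zero_smul]
    have h3 := congrArg (X.presheaf.germ W₂ y hyW₂) h2
    rw [germ_resR, germ_resR, map_zero] at h3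
    exact h3
  · intro v
    obtain ⟨W₁, hyW₁, s, rfl⟩ := TopCat.Presheaf.exists_germ_eq F.presheaf v
    obtain ⟨c, hc⟩ := (ha (W₁ ⊓ W) inf_le_right).2 (res F (inf_le_left : W₁ ⊓ W ≤ W₁) s)
    refine ⟨X.presheaf.germ (W₁ ⊓ W) y ⟨hyW₁, hy⟩ c, ?_⟩
    have h1 := congrArg (F.presheaf.germ (W₁ ⊓ W) y ⟨hyW₁, hy⟩) hc
    simp only [] at h1
    rw [gsm, germ_res, germ_res] at h1
    exact h1

theorem exists_isGen_generic [IsIntegral X] (hrk : RefHull.GenInvertible F) :
    ∃ (W : X.Opens) (a : Γ(F, W)), genericPoint X ∈ W ∧ IsGen F W a := by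
  obtain ⟨U, hU, hinv⟩ := hrk
  have hη : genericPoint X ∈ U :=
    ((genericPoint_spec X).mem_open_set_iff U.2).2 (by
      rw [Set.univ_inter]
      exact hU.nonempty)
  obtain ⟨W', a, hyW', ha⟩ := exists_isGen hinv ⟨genericPoint X, hη⟩
  exact ⟨U.ι ''ᵁ W', a, ⟨⟨_, hη⟩, hyW', rfl⟩, TwForm.isGen_image_of_isGen_restrict U.ι F W' a ha⟩

theorem ne_zero_of_isUnit_germ {V : X.Opens} (y : X) (hy : y ∈ V) (t : Γ(X, V))
    (ht : IsUnit (X.presheaf.germ V y hy t)) : t ≠ 0 := by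
  rintro rfl
  rw [map_zero] at ht
  exact not_isUnit_zero ht

section Generic

variable [IsIntegral X] (hq : SheafOfModules.IsQuasicoherent.{u, u, u} F)
  {W : X.Opens} (hη : genericPoint X ∈ W) (a : Γ(F, W)) (hfree : FreeAt F a (genericPoint X) hη)

include hq in
theorem exists_ne_zero_smul_eq_zero {V : X.Opens} (hV : IsAffineOpen V) (hηV : genericPoint X ∈ V)
    (s : Γ(F, V)) (h : F.presheaf.germ V (genericPoint X) hηV s = 0) :
    ∃ t : Γ(X, V), t ≠ 0 ∧ t • s = 0 := by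
  obtain ⟨t, ht, e⟩ := exists_smul_eq_zero_of_germ_eq_zero F hq hV _ hηV s h
  exact ⟨t, ne_zero_of_isUnit_germ _ hηV t ht, e⟩

include hq hfree in
theorem dep_sections {V : X.Opens} (hV : IsAffineOpen V) (hηV : genericPoint X ∈ V)
    (s s' : Γ(F, V)) : ∃ r r' : Γ(X, V), (r ≠ 0 ∨ r' ≠ 0) ∧ r • s = r' • s' := by
  haveI : Nonempty V := ⟨⟨_, hηV⟩⟩
  obtain ⟨h0, h1⟩ := (freeAt_iff a _ hη).1 hfree
  obtain ⟨σ, hσ⟩ := h1 (F.presheaf.germ V _ hηV s)
  obtain ⟨σ', hσ'⟩ := h1 (F.presheaf.germ V _ hηV s')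
  obtain ⟨c₀, d, hd, e⟩ := exists_germ_mul_eq hV _ hηV σ
  obtain ⟨c₀', d', hd', e'⟩ := exists_germ_mul_eq hV _ hηV σ'
  by_cases hc : c₀ = 0 ∧ c₀' = 0
  · obtain ⟨hc1, -⟩ := hc
    rw [hc1, map_zero] at e
    have hσ0 : σ = 0 := (hd.mul_left_eq_zero).1 e
    rw [hσ0, zero_smul] at hσ
    obtain ⟨t, ht, et⟩ := exists_ne_zero_smul_eq_zero hq hV hηV s hσ.symm
    exact ⟨t, 0, Or.inl ht, by rw [et, zero_smul]⟩
  · have hz : F.presheaf.germ V _ hηV ((c₀' * d) • s - (c₀ * d') • s') = 0 := by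
      rw [map_sub, gsm, gsm, ← hσ, ← hσ', smul_smul, smul_smul, map_mul, map_mul, ← e, ← e',
        sub_eq_zero]
      congr 1
      ring
    obtain ⟨t, ht, et⟩ := exists_smul_eq_zero_of_germ_eq_zero F hq hV _ hηV _ hz
    have ht0 := ne_zero_of_isUnit_germ _ hηV t ht
    have hd0 := ne_zero_of_isUnit_germ _ hηV d hd
    have hd0' := ne_zero_of_isUnit_germ _ hηV d' hd'
    refine ⟨t * (c₀' * d), t * (c₀ * d'), ?_, ?_⟩
    · by_contra hcon
      simp only [not_or, not_not] at hcon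
      apply hc
      constructor
      · rcases mul_eq_zero.1 hcon.2 with h | h
        · exact absurd h ht0
        · exact (mul_eq_zero.1 h).resolve_right hd0'
      · rcases mul_eq_zero.1 hcon.1 with h | h
        · exact absurd h ht0
        · exact (mul_eq_zero.1 h).resolve_right hd0
    · rw [mul_smul t, mul_smul t, ← sub_eq_zero, ← smul_sub]
      exact et

include hq hfree in
theorem dep_stalk (x : X) : RkOne.Dep (X.presheaf.stalk x) (F.presheaf.stalk x) := by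
  intro m m'
  obtain ⟨_, ⟨V, hV, rfl⟩, hxV, -⟩ := X.isBasis_affineOpens.exists_subset_of_mem_open
    (Set.mem_univ x) isOpen_univ
  have hV' : IsAffineOpen V := hV
  have hηV : genericPoint X ∈ V :=
    ((genericPoint_spec X).mem_open_set_iff V.2).2 ⟨x, trivial, hxV⟩
  obtain ⟨s, f, hf, e⟩ := exists_germ_smul_eq F hq hV' x hxV m
  obtain ⟨s', f', hf', e'⟩ := exists_germ_smul_eq F hq hV' x hxV m'
  obtain ⟨r, r', hrr', er⟩ := dep_sections hq hη a hfree hV' hηV s s'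
  have hinj := germ_injective_of_isIntegral X x hxV
  refine ⟨X.presheaf.germ V x hxV r * X.presheaf.germ V x hxV f,
    X.presheaf.germ V x hxV r' * X.presheaf.germ V x hxV f', ?_, ?_⟩
  · rcases hrr' with h | h
    · left
      intro h0
      exact h (hinj (by rw [map_zero]; exact (hf.mul_left_eq_zero).1 h0))
    · right
      intro h0
      exact h (hinj (by rw [map_zero]; exact (hf'.mul_left_eq_zero).1 h0))
  · rw [← smul_smul, ← smul_smul, e, e', ← gsm, ← gsm, er]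

include hq hfree in
theorem nontrivial_stalk (hft : SheafOfModules.IsFiniteType.{u, u, u} F) (x : X) :
    Nontrivial (F.presheaf.stalk x) := by
  by_contra hcon
  rw [not_nontrivial_iff_subsingleton] at hcon
  obtain ⟨V, hxV, hV, n, m, hm, -⟩ := exists_finite_gen hq hft x
  have hηV : genericPoint X ∈ V :=
    ((genericPoint_spec X).mem_open_set_iff V.2).2 ⟨x, trivial, hxV⟩
  have h1 : ∀ i, ∃ t : Γ(X, V), IsUnit (X.presheaf.germ V x hxV t) ∧ t • m i = 0 := fun i =>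
    exists_smul_eq_zero_of_germ_eq_zero F hq hV x hxV (m i) (Subsingleton.elim _ _)
  choose t ht hti using h1
  have hT : (∏ i, t i) ≠ 0 := ne_zero_of_isUnit_germ x hxV _ (by
    rw [map_prod]
    exact (Finset.univ.prod_induction _ IsUnit (fun _ _ h h' => h.mul h') isUnit_one
      (fun i _ => ht i)))
  have hkill : ∀ y : Γ(F, V), (∏ i, t i) • y = 0 := by
    intro y
    have hy : y ∈ Submodule.span Γ(X, V) (Set.range m) := by rw [hm]; trivial
    induction hy using Submodule.span_induction with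
    | mem y hy =>
      obtain ⟨i, rfl⟩ := hy
      rw [← Finset.prod_erase_mul Finset.univ t (Finset.mem_univ i), mul_smul, hti, smul_zero]
    | zero => exact smul_zero _
    | add y z _ _ hy hz => rw [smul_add, hy, hz, add_zero]
    | smul r y _ hy => rw [smul_comm, hy, smul_zero]
  obtain ⟨h0, -⟩ := (freeAt_iff a _ hη).1 hfree
  obtain ⟨s, f, hf, e⟩ := exists_germ_smul_eq F hq hV _ hηV (F.presheaf.germ W _ hη a)
  have h2 : (X.presheaf.germ V _ hηV (∏ i, t i) * X.presheaf.germ V _ hηV f) •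
      F.presheaf.germ W _ hη a = 0 := by
    rw [← smul_smul, e, ← gsm, hkill, map_zero]
  have h4 : X.presheaf.germ V _ hηV (∏ i, t i) = 0 := (hf.mul_left_eq_zero).1 (h0 _ h2)
  exact hT (germ_injective_of_isIntegral X _ hηV (by rw [h4, map_zero]))

end Generic

theorem main (X : Scheme.{u}) [IsIntegral X] [IsLocallyNoetherian X]
    (hreg : ∀ x : X, IsRegularLocalRing (X.presheaf.stalk x)) (F : X.Modules) (hF : Coh.IsCoh F)
    (hrefl : RefHull.IsReflexive F) (hrk : RefHull.GenInvertible F) : PicF.IsInvertible F := by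
  have hFP : CohB1.IsFP F := FpLocal.isFP_of_isCoh F hF
  obtain ⟨hq, hft⟩ := hF
  obtain ⟨W, a, hη, ha⟩ := exists_isGen_generic hrk
  have hfree := freeAt_of_isGen ha _ hη
  apply TwForm.isInvertible_of_locGen
  intro x
  haveI := hreg x
  haveI : UniqueFactorizationMonoid (X.presheaf.stalk x) := Groth.Agent.Helper9.RegUFD.ufd _
  haveI : Module.Finite (X.presheaf.stalk x) (F.presheaf.stalk x) :=
    stalk_finite_of_isCoh F ⟨hq, hft⟩ x
  haveI : Module.IsReflexive (X.presheaf.stalk x) (F.presheaf.stalk x) :=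
    (isReflexive_iff hFP).1 hrefl x
  haveI := nontrivial_stalk hq hη a hfree hft x
  obtain ⟨g, hg⟩ := RkOne.exists_gen (dep_stalk hq hη a hfree x)
  refine exists_isGen_of_free_stalk hq hft x g (fun ρ hρ => ?_) (fun v => hg.2 v)
  apply hg.1
  change ρ • g = (0 : X.presheaf.stalk x) • g
  rw [hρ, zero_smul]

end Groth.Agent.Lead.RkSch
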