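import Mathlib
import Groth.Agent.Lib.Lead.LimZ3
import Groth.Agent.Lib.Lead.FP2
import Groth.Agent.Lib.Helper1.QcAbel
import Groth.Agent.Lib.Helper1.AffPushEpi
import Groth.Agent.Lib.Helper1.FtLocal

/-!
# Finiteness of kernels and pullbacks; pullbacks along composites (lead)
-/

set_option autoImplicit false
universe u
open CategoryTheory CategoryTheory.Limits AlgebraicGeometry TopologicalSpace TensorProduct
set_option backward.isDefEq.respectTransparency.types false

namespace Groth.Agent.Lead.LimZ

open Groth.Agent.Lead.BCU Groth.Agent.Lead.CIU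

section Alg

variable {A A' : Type u} [CommRing A] [CommRing A'] {φ : A →+* A'}
  {M N : Type u} [AddCommGroup M] [Module A M] [AddCommGroup N] [Module A' N]

theorem isBC_fp {l : M → N} (h : IsBC φ l) [Module.FinitePresentation A M] :
    Module.FinitePresentation A' N := by
  letI := φ.toAlgebra
  letI : Module A N := Module.compHom N φ
  haveI : IsScalarTower A A' N := ⟨fun a a' n => by
    change (φ a * a') • n = φ a • a' • n
    exact mul_smul _ _ _⟩
  obtain ⟨l', hl', hb⟩ := h
  exact FinitePresentation.of_isBaseChange l' hb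

end Alg

section FP

variable {Y' Y : Scheme.{u}} (h : Y' ⟶ Y)

/-- the pullback of a quasi-coherent module of finite presentation is of finite presentation -/
theorem isFP_pullback (G : Y.Modules) [G.IsQuasicoherent] (hG : CohB1.IsFP G) :
    CohB1.IsFP ((Scheme.Modules.pullback h).obj G) := by
  haveI := Groth.Agent.Lead.PB.isQuasicoherent_pullback h G
  apply Groth.Agent.Lead.FP.isFP_of_fp_sections
  intro x
  obtain ⟨U, U', hU, hU', hxU', hle⟩ := Groth.Agent.Lead.PB.exists_affine_pair h x
  refine ⟨U', hU', hxU', ?_⟩
  haveI := Groth.Agent.Lead.FP.fp_sections_of_isFP G hG hU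
  exact isBC_fp (isBC_unitRes h G hU hU' hle)

end FP

section Ker

variable {X : Scheme.{u}} {F G : X.Modules} [F.IsQuasicoherent] [G.IsQuasicoherent]

/-- the kernel of an epimorphism from a quasi-coherent module of finite type onto a quasi-coherent
module of finite presentation is of finite type -/
theorem isFT_kernel_of_epi (hF : CohB1.IsFT F) (hG : CohB1.IsFP G) (f : F ⟶ G) [Epi f] :
    CohB1.IsFT (kernel f) := by
  haveI : (kernel f).IsQuasicoherent := Groth.Agent.Helper1.QcAbel.isQuasicoherent_kernel f
  apply Groth.Agent.Lead.FLF.isFT_of_ft_sections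
  intro U hU
  haveI := Groth.Agent.Lead.FLF.ft_sections F hF hU
  haveI := Groth.Agent.Lead.FP.fp_sections_of_isFP G hG hU
  let l : Γ(F, U) →ₗ[Γ(X, U)] Γ(G, U) :=
    { toFun := f.app U
      map_add' := fun x y => map_add _ x y
      map_smul' := fun r x => Scheme.Modules.Hom.app_smul f r x }
  have hl : Function.Surjective l :=
    Groth.Agent.Helper1.AffPushEpi.app_surjective_of_epi f U hU
  have hker : (LinearMap.ker l).FG := Module.FinitePresentation.fg_ker l hl
  haveI : Module.Finite Γ(X, U) (LinearMap.ker l) := Module.Finite.of_fg hker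
  let S : ShortComplex X.Modules := ShortComplex.mk (kernel.ι f) f (kernel.condition f)
  have hS : S.Exact := ShortComplex.exact_of_f_is_kernel _ (kernelIsKernel f)
  haveI : Mono S.f := inferInstanceAs (Mono (kernel.ι f))
  have hinj : Function.Injective ((kernel.ι f).app U) :=
    Groth.Agent.Helper1.QcAbel.app_injective' (S := S) U
  -- choose preimages
  have hpre : ∀ z : LinearMap.ker l, ∃ y : Γ(kernel f, U), (kernel.ι f).app U y = z.1 := by
    intro z
    exact Groth.Agent.Helper1.QcAbel.app_exact' (S := S) hS U z.1 z.2
  choose σ hσ using hpre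
  let τ : LinearMap.ker l →ₗ[Γ(X, U)] Γ(kernel f, U) :=
    { toFun := σ
      map_add' := fun x y => by
        apply hinj
        rw [map_add, hσ, hσ, hσ]
        rfl
      map_smul' := fun r x => by
        apply hinj
        rw [Scheme.Modules.Hom.app_smul, hσ, hσ]
        rfl }
  refine Module.Finite.of_surjective τ ?_
  intro y
  have hy : l ((kernel.ι f).app U y) = 0 := by
    have h1 := congrArg (fun φ => Scheme.Modules.Hom.app φ U) (kernel.condition f)
    exact congrArg (fun φ => φ y) h1
  refine ⟨⟨(kernel.ι f).app U y, hy⟩, ?_⟩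
  apply hinj
  exact hσ _

end Ker

section Comp

variable {A B C : Scheme.{u}} (f : A ⟶ B) (g : B ⟶ C) (k : A ⟶ C)

/-- pulling back along a composite, as a natural isomorphism -/
noncomputable def compIso (e : f ≫ g = k) :
    Scheme.Modules.pullback g ⋙ Scheme.Modules.pullback f ≅ Scheme.Modules.pullback k :=
  Scheme.Modules.pullbackComp f g ≪≫ Scheme.Modules.pullbackCongr e

theorem isIso_pullback_comp_iff (e : f ≫ g = k) {F G : C.Modules} (χ : F ⟶ G) :
    IsIso ((Scheme.Modules.pullback f).map ((Scheme.Modules.pullback g).map χ)) ↔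
      IsIso ((Scheme.Modules.pullback k).map χ) :=
  NatIso.isIso_map_iff (compIso f g k e) χ

theorem pullback_comp_eq_zero_iff (e : f ≫ g = k) {F G : C.Modules} (χ : F ⟶ G) :
    (Scheme.Modules.pullback f).map ((Scheme.Modules.pullback g).map χ) = 0 ↔
      (Scheme.Modules.pullback k).map χ = 0 := by
  have n := (compIso f g k e).hom.naturality χ
  constructor
  · intro h
    have h1 : (Scheme.Modules.pullback g ⋙ Scheme.Modules.pullback f).map χ = 0 := h
    rw [h1, zero_comp] at n
    rw [← cancel_epi ((compIso f g k e).hom.app F), ← n, comp_zero]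
  · intro h
    rw [h, comp_zero] at n
    have h1 : (Scheme.Modules.pullback g ⋙ Scheme.Modules.pullback f).map χ = 0 := by
      rw [← cancel_mono ((compIso f g k e).hom.app G), n, zero_comp]
    exact h1

end Comp

end Groth.Agent.Lead.LimZ
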