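import Mathlib
import Groth.Prelude.Def_Wider
import Groth.Prelude.Def_Canon
import Groth.Agent.Lib.Lead.RH3
import Groth.Agent.Lib.Lead.RH5
import Groth.Agent.Lib.Lead.FLF4
import Groth.Agent.Lib.Helper1.QcsLoc
import Groth.Agent.Lib.Helper1.TwistAmple
import Groth.Agent.Lib.Helper1.FPA6
import Groth.Agent.Lib.Helper5.Perf.FtFpCharts
import Groth.Agent.Lib.Helper5.Perf.LocalCoh

set_option autoImplicit false
set_option backward.isDefEq.respectTransparency.types false
set_option synthInstance.maxHeartbeats 400000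
set_option linter.style.haveILetI false
set_option linter.unusedSectionVars false
universe u
open CategoryTheory CategoryTheory.Limits AlgebraicGeometry TopologicalSpace Opposite

namespace Groth.Agent.Lead.Punc

open Groth.Agent.Helper1 Groth.Agent.Helper1.QcCech Groth.Agent.Lead.RH

variable {X : Scheme.{u}}

/-- extension of sections over `X_g` after multiplication by a power of `g`, on a qcqs scheme -/
theorem exists_extend_top [CompactSpace X] [QuasiSeparatedSpace X] (G : X.Modules)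
    [G.IsQuasicoherent] (g : Γ(X, ⊤)) (O : X.Opens) (hO : O = X.basicOpen g) (s : Γ(G, O)) :
    ∃ (n : ℕ) (t : Γ(G, ⊤)), res G (le_top : O ≤ ⊤) t = resR (le_top : O ≤ ⊤) g ^ n • s := by
  have e : (⊤ : X.Opens) ⊓ X.basicOpen g = O := by rw [hO, top_inf_eq]
  have hqs : IsQuasiSeparated ((⊤ : X.Opens) : Set X) := by
    rw [Opens.coe_top]
    exact isQuasiSeparated_univ
  have hc : IsCompact ((⊤ : X.Opens) : Set X) := by
    rw [Opens.coe_top]
    exact isCompact_univ
  obtain ⟨n, t, ht⟩ := QcsLoc.ext_of_isCompact G g ⊤ hqs ⊤ hc le_rfl le_rfl (res G e.le s)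
  refine ⟨n, t, ?_⟩
  have h := congrArg (res G e.ge) ht
  rw [res_res, rsmul, res_smul, res_res, res_self, resR_resR] at h
  rw [h, map_pow]

/-- sections vanishing over `X_g` are killed by a power of `g`, on a quasi-compact scheme -/
theorem exists_kill_top [CompactSpace X] (G : X.Modules)
    [G.IsQuasicoherent] (g : Γ(X, ⊤)) (O : X.Opens) (hO : O = X.basicOpen g) (t : Γ(G, ⊤))
    (ht : res G (le_top : O ≤ ⊤) t = 0) : ∃ n : ℕ, g ^ n • t = 0 := by
  have e : (⊤ : X.Opens) ⊓ X.basicOpen g = O := by rw [hO, top_inf_eq]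
  have hc : IsCompact ((⊤ : X.Opens) : Set X) := by
    rw [Opens.coe_top]
    exact isCompact_univ
  obtain ⟨n, hn⟩ := QcsLoc.kill_of_isCompact G g ⊤ hc le_rfl t (by
    have h := congrArg (res G e.le) ht
    rw [res_res, map_zero] at h
    exact h)
  refine ⟨n, ?_⟩
  rw [rsmul] at hn
  have h1 : resR (le_rfl : (⊤ : X.Opens) ≤ ⊤) (g ^ n) = g ^ n := by
    change (X.presheaf.map (homOfLE le_rfl).op).hom (g ^ n) = g ^ n
    have : (homOfLE (le_rfl : (⊤ : X.Opens) ≤ ⊤)).op = 𝟙 _ := Subsingleton.elim _ _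
    rw [this, CategoryTheory.Functor.map_id]
    rfl
  rwa [h1] at hn


theorem resR_self {O : X.Opens} (h : O ≤ O) (r : Γ(X, O)) : resR h r = r := by
  change (X.presheaf.map (homOfLE h).op).hom r = r
  have : (homOfLE h).op = 𝟙 _ := Subsingleton.elim _ _
  rw [this, CategoryTheory.Functor.map_id]
  rfl

theorem resR_self' {O : X.Opens} (h : O ≤ O) (r : Γ(X, O)) :
    (X.presheaf.map (homOfLE h).op).hom r = r := resR_self h r

/-- uniform version of the extension lemma -/
theorem exists_extend_top_ge [CompactSpace X] [QuasiSeparatedSpace X] (G : X.Modules)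
    [G.IsQuasicoherent] (g : Γ(X, ⊤)) (O : X.Opens) (hO : O = X.basicOpen g) (s : Γ(G, O)) :
    ∃ n₀ : ℕ, ∀ n, n₀ ≤ n → ∃ t : Γ(G, ⊤),
      res G (le_top : O ≤ ⊤) t = resR (le_top : O ≤ ⊤) g ^ n • s := by
  obtain ⟨n₀, t, ht⟩ := exists_extend_top G g O hO s
  refine ⟨n₀, fun n hn => ⟨g ^ (n - n₀) • t, ?_⟩⟩
  rw [res_smul, ht, smul_smul, map_pow, ← pow_add, Nat.sub_add_cancel hn]

section Hom

variable (F : X.Modules)

/-- the morphism `F ⟶ O` defined by a global section of the dual -/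
noncomputable def homOfDual (b : Γ(RefHull.dual F, ⊤)) : F ⟶ Coh.structureModule X :=
  TwForm.homMk F (Coh.structureModule X) (fun V m => app b (le_top : V ≤ ⊤) m)
    (fun V m m' => app_add b le_top m m')
    (fun V r m => app_smul b le_top r m)
    (fun U V h m => app_res b le_top h m)

theorem homOfDual_app (b : Γ(RefHull.dual F, ⊤)) (V : X.Opens) (m : Γ(F, V)) :
    (homOfDual F b).app V m = app b (le_top : V ≤ ⊤) m := rfl

variable {F} in
theorem app_ofHom {G : X.Modules} (φ : F ⟶ G) (U : X.Opens) {V : X.Opens} (i : V ≤ U) (m : Γ(F, V)) :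
    app (RefHull.ofHom φ U) i m = φ.app V m := by
  apply section_ext
  intro y hy
  rw [germ_app, RefHull.ofHom_apply, RefHull.stalkMapₗ_germ]

/-- evaluation of morphisms at a section, additively -/
noncomputable def evalHom {G : X.Modules} (V : X.Opens) (m : Γ(F, V)) : (F ⟶ G) →+ Γ(G, V) where
  toFun φ := φ.app V m
  map_zero' := rfl
  map_add' _ _ := rfl

theorem sum_app {G : X.Modules} {ι : Type*} (s : Finset ι) (φ : ι → (F ⟶ G)) (V : X.Opens)
    (m : Γ(F, V)) : (∑ i ∈ s, φ i).app V m = ∑ i ∈ s, (φ i).app V m :=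
  map_sum (evalHom F V m) φ s

end Hom


section Trace

theorem isFP_of_isFinLocFree (F : X.Modules) (hF : FlatMod.IsFinLocFree F) : CohB1.IsFP F := by
  apply Groth.Agent.Lib.Helper5.FtFp.isFP_of_charts
  intro x
  obtain ⟨U, n, hxU, ⟨e⟩⟩ := hF x
  refine ⟨U, U.ι, inferInstance, 0, n, ⟨⟨x, hxU⟩, rfl⟩, 0, ⟨e ≪≫ (cokernelZeroIsoTarget).symm⟩⟩

theorem app_zero_left {F G : X.Modules} {U V : X.Opens} (i : V ≤ U) (m : Γ(F, V)) :
    app (0 : Γ(RefHull.homSh F G, U)) i m = 0 := by
  have h := app_add_left (0 : Γ(RefHull.homSh F G, U)) 0 i m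
  rw [add_zero] at h
  exact left_eq_add.mp h

variable [CompactSpace X] [QuasiSeparatedSpace X] (F : X.Modules)

theorem exists_trace (hF : FlatMod.IsFinLocFree F) (g : Γ(X, ⊤))
    (hW : IsAffineOpen (X.basicOpen g)) :
    ∃ (K n : ℕ) (b : Fin n → Γ(RefHull.dual F, ⊤)) (t : Fin n → Γ(F, ⊤)),
      ∀ (V : X.Opens) (m : Γ(F, V)),
        ∑ i, (show Γ(X, V) from app (b i) (le_top : V ≤ ⊤) m) • res F (le_top : V ≤ ⊤) (t i) =
          resR (le_top : V ≤ ⊤) g ^ K • m := by
  classical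
  have hcoh := Groth.Agent.Lib.Helper5.LocalCoh.isCoh_of_isFinLocFree F hF
  haveI : F.IsQuasicoherent := hcoh.1
  have hFP := isFP_of_isFinLocFree F hF
  haveI : (Coh.structureModule X).IsQuasicoherent :=
    FPA.isQuasicoherent_of_isFP _ (isFP_structureModule X)
  haveI : (RefHull.dual F).IsQuasicoherent := isQuasicoherent_homSh hFP
  haveI : (RefHull.homSh F F).IsQuasicoherent := isQuasicoherent_homSh hFP
  obtain ⟨hfin, hproj⟩ := (FLF.isFinLocFree_iff_affineOpens F).1 hF (X.basicOpen g) hW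
  obtain ⟨n, fm, gm, -, -, hfg⟩ :=
    Module.Finite.exists_comp_eq_id_of_projective Γ(X, X.basicOpen g) Γ(F, X.basicOpen g)
  let e : Fin n → Γ(F, X.basicOpen g) := fun i => fm (fun j => if i = j then 1 else 0)
  let φ : Fin n → (Γ(F, X.basicOpen g) →ₗ[Γ(X, X.basicOpen g)] Γ(X, X.basicOpen g)) :=
    fun i => (LinearMap.proj i).comp gm
  have hid : ∀ m : Γ(F, X.basicOpen g), ∑ i, φ i m • e i = m := by
    intro m
    have h := LinearMap.pi_apply_eq_sum_univ fm (gm m)
    rw [← LinearMap.comp_apply, hfg, LinearMap.id_apply] at h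
    exact h.symm
  let φs : Fin n → Γ(RefHull.dual F, X.basicOpen g) := fun i =>
    (secEquiv (F := F) (G := Coh.structureModule X) hW).symm (φ i)
  have h1 : ∀ i, ∃ n₀ : ℕ, ∀ k, n₀ ≤ k → ∃ b : Γ(RefHull.dual F, ⊤),
      res (RefHull.dual F) (le_top : X.basicOpen g ≤ ⊤) b =
        resR (le_top : X.basicOpen g ≤ ⊤) g ^ k • φs i :=
    fun i => exists_extend_top_ge (RefHull.dual F) g _ rfl (φs i)
  have h2 : ∀ i, ∃ n₀ : ℕ, ∀ k, n₀ ≤ k → ∃ t : Γ(F, ⊤),
      res F (le_top : X.basicOpen g ≤ ⊤) t = resR (le_top : X.basicOpen g ≤ ⊤) g ^ k • e i :=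
    fun i => exists_extend_top_ge F g _ rfl (e i)
  choose n₁ hn₁ using h1
  choose n₂ hn₂ using h2
  let N : ℕ := (Finset.univ.sup n₁) ⊔ (Finset.univ.sup n₂)
  have hN₁ : ∀ i, n₁ i ≤ N := fun i => (Finset.le_sup (Finset.mem_univ i)).trans le_sup_left
  have hN₂ : ∀ i, n₂ i ≤ N := fun i => (Finset.le_sup (Finset.mem_univ i)).trans le_sup_right
  choose b hb using fun i => hn₁ i N (hN₁ i)
  choose t ht using fun i => hn₂ i N (hN₂ i)
  let ψ : F ⟶ F := ∑ i, homOfDual F (b i) ≫ TwistAmple.homOfSec F (t i)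
  have hψ : ∀ (V : X.Opens) (m : Γ(F, V)), ψ.app V m =
      ∑ i, (show Γ(X, V) from app (b i) (le_top : V ≤ ⊤) m) • res F (le_top : V ≤ ⊤) (t i) := by
    intro V m
    rw [sum_app]
    rfl
  have hbi : ∀ i (m : Γ(F, X.basicOpen g)),
      (show Γ(X, X.basicOpen g) from app (b i) (le_top : X.basicOpen g ≤ ⊤) m) =
        resR (le_top : X.basicOpen g ≤ ⊤) g ^ N * φ i m := by
    intro i m
    have h3 : app (b i) (le_top : X.basicOpen g ≤ ⊤) m =
        app (res (RefHull.dual F) (le_top : X.basicOpen g ≤ ⊤) (b i)) le_rfl m :=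
      (app_map (b i) (homOfLE le_top) le_rfl m).symm
    rw [h3, hb i, app_smul_left, resR_self']
    have h4 : app (φs i) le_rfl m = φ i m := by
      have h5 := secEquiv_apply (F := F) (G := Coh.structureModule X) hW (φs i) m
      rw [← h5]
      exact congrArg (fun l => l m) ((secEquiv (F := F) (G := Coh.structureModule X) hW).apply_symm_apply (φ i))
    rw [h4]
    rfl
  let h : Γ(RefHull.homSh F F, ⊤) :=
    RefHull.ofHom ψ ⊤ + (-(g ^ (2 * N))) • RefHull.ofHom (𝟙 F) ⊤
  have happ : ∀ (V : X.Opens) (m : Γ(F, V)), app h (le_top : V ≤ ⊤) m =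
      ∑ i, (show Γ(X, V) from app (b i) (le_top : V ≤ ⊤) m) • res F (le_top : V ≤ ⊤) (t i) +
        resR (le_top : V ≤ ⊤) (-(g ^ (2 * N))) • m := by
    intro V m
    rw [app_add_left, app_smul_left, app_ofHom, app_ofHom, hψ]
    rfl
  have hres : res (RefHull.homSh F F) (le_top : X.basicOpen g ≤ ⊤) h = 0 := by
    apply secHom_injective (spanGerms_of_isAffineOpen inferInstance hW)
    refine LinearMap.ext fun m => ?_
    rw [_root_.map_zero, LinearMap.zero_apply, secHom_apply]
    have h6 : app (res (RefHull.homSh F F) (le_top : X.basicOpen g ≤ ⊤) h) le_rfl m =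
        app h (le_top : X.basicOpen g ≤ ⊤) m := app_map h (homOfLE le_top) le_rfl m
    rw [h6, happ]
    have h7 : ∀ i, (show Γ(X, X.basicOpen g) from app (b i) (le_top : X.basicOpen g ≤ ⊤) m) •
        res F (le_top : X.basicOpen g ≤ ⊤) (t i) =
        (resR (le_top : X.basicOpen g ≤ ⊤) g ^ (2 * N)) • (φ i m • e i) := by
      intro i
      rw [hbi i m, ht i, smul_smul, smul_smul]
      congr 1
      ring
    rw [Finset.sum_congr rfl (fun i _ => h7 i), ← Finset.smul_sum, hid m, ← add_smul,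
      _root_.map_neg, map_pow, add_neg_cancel, zero_smul]
  obtain ⟨K₀, hK₀⟩ := exists_kill_top (RefHull.homSh F F) g _ rfl h hres
  refine ⟨K₀ + 2 * N, n, b, fun i => g ^ K₀ • t i, fun V m => ?_⟩
  have h8 : app (g ^ K₀ • h) (le_top : V ≤ ⊤) m = app (0 : Γ(RefHull.homSh F F, ⊤)) le_top m := by
    rw [hK₀]
  rw [app_smul_left, happ, app_zero_left, smul_add, Finset.smul_sum] at h8
  have h9 : ∀ i, (show Γ(X, V) from app (b i) (le_top : V ≤ ⊤) m) •
      res F (le_top : V ≤ ⊤) (g ^ K₀ • t i) =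
      (X.presheaf.map (homOfLE (le_top : V ≤ ⊤)).op).hom (g ^ K₀) •
        ((show Γ(X, V) from app (b i) (le_top : V ≤ ⊤) m) • res F (le_top : V ≤ ⊤) (t i)) := by
    intro i
    rw [res_smul, smul_comm]
    rfl
  rw [Finset.sum_congr rfl (fun i _ => h9 i)]
  rw [add_eq_zero_iff_eq_neg] at h8
  rw [h8, ← neg_smul, smul_smul]
  congr 1
  change -(resR (le_top : V ≤ ⊤)) (g ^ K₀) * (resR (le_top : V ≤ ⊤)) (-(g ^ (2 * N))) = _
  rw [_root_.map_neg, map_pow, map_pow, pow_add]
  ring

theorem exists_trace' (hF : FlatMod.IsFinLocFree F) (g : Γ(X, ⊤))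
    (hW : IsAffineOpen (X.basicOpen g)) :
    ∃ (K n : ℕ) (b : Fin n → Γ(RefHull.dual F, ⊤)) (t : Fin n → Γ(F, ⊤)),
      ∀ (V : X.Opens) (m : Γ(F, V)),
        ∑ i, (show Γ(X, V) from app (b i) (le_top : V ≤ ⊤) m) • res F (le_top : V ≤ ⊤) (t i) =
          resR (le_top : V ≤ ⊤) (g ^ K) • m := by
  obtain ⟨K, n, b, t, h⟩ := exists_trace F hF g hW
  refine ⟨K, n, b, t, fun V m => ?_⟩
  rw [h V m, map_pow]

end Trace


section CohStep

theorem Hmap_sum {P Q : Sheaf (Opens.grothendieckTopology X) AddCommGrpCat.{u}} {ι : Type*}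
    (s : Finset ι) (φ : ι → (P ⟶ Q)) (p : ℕ) (x : Sheaf.H P p) :
    Sheaf.H.map (∑ i ∈ s, φ i) p x = ∑ i ∈ s, Sheaf.H.map (φ i) p x := by
  classical
  induction s using Finset.induction_on with
  | empty =>
    rw [Finset.sum_empty, Finset.sum_empty]
    change ((Sheaf.functorH _ p).map (0 : P ⟶ Q)).hom x = 0
    rw [Functor.map_zero]
    rfl
  | insert a s ha ih =>
    rw [Finset.sum_insert ha, Finset.sum_insert ha, Sheaf.H.map_add_apply, ih]

variable {A : Type u} [CommRing A] [X.Over (Spec (CommRingCat.of A))] (F : X.Modules)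

/-- if multiplication by `a` on `F` factors through a finite sum of copies of `O`, every `c` killing
`H^p(X, O)` gives `a * c` killing `H^p(X, F)` -/
theorem smul_eq_zero_of_trace (p : ℕ) (a : A) {n : ℕ} (b : Fin n → Γ(RefHull.dual F, ⊤))
    (t : Fin n → Γ(F, ⊤)) (r : Γ(X, ⊤))
    (hr : r = Coh.toGlobal (X ↘ Spec (CommRingCat.of A)) a)
    (hstar : ∀ (V : X.Opens) (m : Γ(F, V)),
        ∑ i, (show Γ(X, V) from app (b i) (le_top : V ≤ ⊤) m) • res F (le_top : V ≤ ⊤) (t i) =
          resR (le_top : V ≤ ⊤) r • m)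
    (c : A) (hc : ∀ y : Coh.HH X (Coh.structureModule X) p, c • y = 0)
    (x : Coh.HH X F p) : (a * c) • x = 0 := by
  subst hr
  let T := SheafOfModules.toSheaf X.ringCatSheaf
  let ψ : F ⟶ F := ∑ i, homOfDual F (b i) ≫ TwistAmple.homOfSec F (t i)
  have h1 : Coh.smulAb F (Coh.toGlobal (X ↘ Spec (CommRingCat.of A)) a) = T.map ψ := by
    ext V m
    rw [Coh.smulAb_app]
    change _ = ψ.app V.unop m
    rw [sum_app]
    exact (hstar V.unop m).symm
  have h2 : T.map ψ = ∑ i, T.map (homOfDual F (b i)) ≫ T.map (TwistAmple.homOfSec F (t i)) := by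
    have h0 := T.map_sum (fun i => homOfDual F (b i) ≫ TwistAmple.homOfSec F (t i)) Finset.univ
    refine h0.trans ?_
    exact Finset.sum_congr rfl fun i _ => T.map_comp _ _
  rw [mul_smul]
  change Sheaf.H.map (Coh.smulAb F (Coh.toGlobal (X ↘ Spec (CommRingCat.of A)) a)) p (c • x) = 0
  rw [h1, h2, Hmap_sum]
  apply Finset.sum_eq_zero
  intro i _
  rw [Sheaf.H.map_comp_apply]
  have h3 : Sheaf.H.map (T.map (homOfDual F (b i))) p (c • x) =
      c • Canon.HHlin A (homOfDual F (b i)) p x := ((Canon.HHlin A (homOfDual F (b i)) p).map_smul c x)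
  rw [h3, hc, _root_.map_zero]


end CohStep


section Main

variable (A : Type u) [CommRing A] (I : Ideal A)

theorem compactSpace_punctured (hI : I.FG) :
    CompactSpace ((LocCoh.puncturedOpen A I : (Spec (CommRingCat.of A)).Opens) : Scheme.{u}) := by
  have h := (PrimeSpectrum.isCompact_isOpen_iff_ideal
    (s := (PrimeSpectrum.zeroLocus (R := A) (I : Set A))ᶜ)).2 ⟨I, hI, rfl⟩
  exact isCompact_iff_compactSpace.1 h.1

theorem quasiSeparatedSpace_punctured :
    QuasiSeparatedSpace ((LocCoh.puncturedOpen A I : (Spec (CommRingCat.of A)).Opens) : Scheme.{u}) :=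
  quasiSeparatedSpace_of_quasiSeparated (LocCoh.puncturedOpen A I).ι

theorem basicOpen_le_punctured (f : A) (hf : f ∈ I) :
    (Spec (CommRingCat.of A)).basicOpen ((Scheme.ΓSpecIso (CommRingCat.of A)).inv.hom f) ≤
      LocCoh.puncturedOpen A I := by
  rw [basicOpen_eq_of_affine]
  intro q hq hqI
  exact hq (hqI hf)

theorem isAffineOpen_basicOpen_punctured (f : A) (hf : f ∈ I) :
    IsAffineOpen (((LocCoh.puncturedOpen A I : (Spec (CommRingCat.of A)).Opens) : Scheme.{u}).basicOpen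
      (Coh.toGlobal (((LocCoh.puncturedOpen A I : (Spec (CommRingCat.of A)).Opens) : Scheme.{u}) ↘
        Spec (CommRingCat.of A)) f)) := by
  change IsAffineOpen (((LocCoh.puncturedOpen A I : (Spec (CommRingCat.of A)).Opens) : Scheme.{u}).basicOpen
      (Coh.toGlobal (LocCoh.puncturedOpen A I).ι f))
  have h1 : IsAffineOpen ((Spec (CommRingCat.of A)).basicOpen
      ((Scheme.ΓSpecIso (CommRingCat.of A)).inv.hom f)) :=
    (isAffineOpen_top (Spec (CommRingCat.of A))).basicOpen _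
  have h2 := h1.preimage_of_isOpenImmersion (LocCoh.puncturedOpen A I).ι (by
    rw [Scheme.Opens.opensRange_ι]
    exact basicOpen_le_punctured A I f hf)
  rw [Scheme.preimage_basicOpen] at h2
  exact h2


theorem S1798_main (J : Ideal A) (hJI : J ≤ I) (hJ : J.FG) (hI : I.FG) (p n : ℕ)
    (hO : ∀ a ∈ J ^ n, ∀ x : Coh.HH (↑(LocCoh.puncturedOpen A I))
      (Coh.structureModule (↑(LocCoh.puncturedOpen A I))) p, a • x = 0)
    (F : (↑(LocCoh.puncturedOpen A I) : Scheme.{u}).Modules) (hF : FlatMod.IsFinLocFree F) :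
    ∃ m : ℕ, ∀ a ∈ J ^ m, ∀ x : Coh.HH (↑(LocCoh.puncturedOpen A I)) F p, a • x = 0 := by
  haveI := compactSpace_punctured A I hI
  haveI := quasiSeparatedSpace_punctured A I
  have hrad : J ≤ (Module.annihilator A (Coh.HH (↑(LocCoh.puncturedOpen A I)) F p)).radical := by
    rw [Ideal.radical_eq_sInf]
    refine le_sInf ?_
    rintro P ⟨haP, hP⟩
    by_cases hIP : I ≤ P
    · exact hJI.trans hIP
    · obtain ⟨f, hfI, hfP⟩ := SetLike.not_le_iff_exists.1 hIP
      obtain ⟨K, n', b, t, hstar⟩ := exists_trace' F hF _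
        (isAffineOpen_basicOpen_punctured A I f hfI)
      have key : ∀ c ∈ J ^ n, f ^ K * c ∈ P := by
        intro c hc
        apply haP
        rw [Module.mem_annihilator]
        intro x
        exact smul_eq_zero_of_trace F p (f ^ K) b t _
          ((Coh.toGlobal (((LocCoh.puncturedOpen A I : (Spec (CommRingCat.of A)).Opens) : Scheme.{u}) ↘
            Spec (CommRingCat.of A))).map_pow f K).symm hstar c (hO c hc) x
      have h1 : J ^ n ≤ P := by
        intro c hc
        rcases hP.mem_or_mem (key c hc) with h | h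
        · exact (hfP (hP.mem_of_pow_mem K h)).elim
        · exact h
      exact hP.le_of_pow_le h1
  obtain ⟨m, hm⟩ := Ideal.exists_pow_le_of_le_radical_of_fg hrad hJ
  exact ⟨m, fun a ha x => Module.mem_annihilator.1 (hm ha) x⟩

end Main

end Groth.Agent.Lead.Punc
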