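import Mathlib
import Groth.Agent.Lib.Lead.RH2
import Groth.Agent.Lib.Lead.Punc1
import Groth.Agent.Lib.Helper1.IdealModL
import Groth.Agent.Lib.Helper1.LGen
import Groth.Agent.Lib.Helper1.TwForm4
import Groth.Agent.Lib.Helper1.AmpleLib2
import Groth.Agent.Lib.Helper4.EffCartier

set_option autoImplicit false
set_option backward.isDefEq.respectTransparency.types false
set_option synthInstance.maxHeartbeats 400000
set_option linter.style.haveILetI false
set_option linter.unusedSectionVars false
universe u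
open CategoryTheory CategoryTheory.Limits AlgebraicGeometry TopologicalSpace Opposite

namespace Groth.Agent.Lead.ODiv

open Groth.Agent.Helper1 Groth.Agent.Helper1.QcCech Groth.Agent.Lead.RH Groth.Agent.Helper1.LGen

variable {X : Scheme.{u}}

section Dual

variable {F : X.Modules}

/-- the germ of a free generator spans the stalk -/
theorem IsGen.stalk_span {U : X.Opens} {n₀ : Γ(F, U)} (hn : IsGen F U n₀) (y : X) (hy : y ∈ U)
    (v : F.presheaf.stalk y) :
    ∃ c : X.presheaf.stalk y, v = c • F.presheaf.germ U y hy n₀ := by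
  obtain ⟨W, hyW, m, rfl⟩ := TopCat.Presheaf.exists_germ_eq F.presheaf v
  have hWU : W ⊓ U ≤ U := inf_le_right
  have hWW : W ⊓ U ≤ W := inf_le_left
  obtain ⟨c, hc⟩ := (hn (W ⊓ U) hWU).2 (res F hWW m)
  refine ⟨X.presheaf.germ (W ⊓ U) y ⟨hyW, hy⟩ c, ?_⟩
  have h1 : F.presheaf.germ W y hyW m = F.presheaf.germ (W ⊓ U) y ⟨hyW, hy⟩ (res F hWW m) :=
    (TopCat.Presheaf.germ_res_apply F.presheaf (homOfLE hWW) y ⟨hyW, hy⟩ m).symm
  have h2 : F.presheaf.germ U y hy n₀ = F.presheaf.germ (W ⊓ U) y ⟨hyW, hy⟩ (res F hWU n₀) :=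
    (TopCat.Presheaf.germ_res_apply F.presheaf (homOfLE hWU) y ⟨hyW, hy⟩ n₀).symm
  rw [h1, h2, ← hc]
  exact Mero.germ_smul _ _ _ _ _ _

/-- a free generator of a quasi-coherent module over an affine open has a dual generator -/
theorem exists_dual_gen [F.IsQuasicoherent] {U : X.Opens} (hU : IsAffineOpen U) (n₀ : Γ(F, U))
    (hn : IsGen F U n₀) :
    ∃ a : Γ(RefHull.dual F, U), IsGen (RefHull.dual F) U a ∧
      app a le_rfl n₀ = (1 : Γ(X, U)) := by
  have hbij : Function.Bijective (fun r : Γ(X, U) => r • n₀) := by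
    have := hn U le_rfl
    simpa only [res_self] using this
  let β : Γ(X, U) →ₗ[Γ(X, U)] Γ(F, U) := LinearMap.toSpanSingleton Γ(X, U) Γ(F, U) n₀
  have hβ : Function.Bijective β := hbij
  let e : Γ(X, U) ≃ₗ[Γ(X, U)] Γ(F, U) := LinearEquiv.ofBijective β hβ
  let α : Γ(F, U) →ₗ[Γ(X, U)] Γ(Coh.structureModule X, U) := e.symm.toLinearMap
  have hα : α n₀ = (1 : Γ(X, U)) := by
    have h1 : e (1 : Γ(X, U)) = n₀ := by
      change (1 : Γ(X, U)) • n₀ = n₀
      exact one_smul _ _
    change e.symm n₀ = 1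
    rw [← h1, LinearEquiv.symm_apply_apply]
  let a : Γ(RefHull.dual F, U) := (secEquiv (F := F) (G := Coh.structureModule X) hU).symm α
  have ha : app a le_rfl n₀ = (1 : Γ(X, U)) := by
    rw [← secEquiv_apply hU a n₀]
    change (secEquiv (F := F) (G := Coh.structureModule X) hU)
      ((secEquiv (F := F) (G := Coh.structureModule X) hU).symm α) n₀ = _
    rw [LinearEquiv.apply_symm_apply]
    exact hα
  refine ⟨a, ?_, ha⟩
  intro V h
  have key : app (res (RefHull.dual F) h a) le_rfl (res F h n₀) = (1 : Γ(X, V)) := by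
    have h1 : app (res (RefHull.dual F) h a) le_rfl (res F h n₀) = app a h (res F h n₀) :=
      app_map a (homOfLE h) le_rfl (res F h n₀)
    have h2 := app_res a le_rfl h n₀
    rw [h1]
    change _ = app a h (res F h n₀) at h2
    rw [← h2, ha]
    exact map_one (X.presheaf.map (homOfLE h).op).hom
  have hsm : ∀ r : Γ(X, V), app (r • res (RefHull.dual F) h a) le_rfl (res F h n₀) = r := by
    intro r
    rw [app_smul_left, key]
    have : X.presheaf.map (homOfLE (le_refl V)).op r = r :=
      ConcreteCategory.congr_hom (X.presheaf.map_id _) r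
    rw [this]
    change r * 1 = r
    exact mul_one r
  constructor
  · intro r r' hrr
    dsimp only at hrr
    rw [← hsm r, ← hsm r', hrr]
  · intro g
    refine ⟨app g le_rfl (res F h n₀), ?_⟩
    dsimp only
    refine hom_ext _ _ fun y => ?_
    apply LinearMap.ext
    intro v
    obtain ⟨c, rfl⟩ := IsGen.stalk_span (hn.res h) y.1 y.2 v
    rw [LinearMap.map_smul, LinearMap.map_smul]
    congr 1
    rw [← germ_app g le_rfl (res F h n₀) y.1 y.2, ← germ_app _ le_rfl (res F h n₀) y.1 y.2]
    congr 1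
    exact hsm _

end Dual

section Ideal

open Groth.Agent.Helper4

variable (I : X.IdealSheafData)

theorem ι_smul (V : X.Opens) (r : Γ(X, V)) (m : Γ(ClSub.idealMod I, V)) :
    (ClSub.idealModι I).app V (r • m) =
      (show Γ(X, V) from r * (show Γ(X, V) from (ClSub.idealModι I).app V m)) :=
  Scheme.Modules.Hom.app_smul (ClSub.idealModι I) r m

theorem ι_res {U V : X.Opens} (h : V ≤ U) (m : Γ(ClSub.idealMod I, U)) :
    (show Γ(X, V) from (ClSub.idealModι I).app V (res (ClSub.idealMod I) h m)) =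
      resR h (show Γ(X, U) from (ClSub.idealModι I).app U m) :=
  QcExt.app_res (ClSub.idealModι I) h m

/-- sections of the ideal module over an affine open lie in the ideal -/
theorem ι_mem_ideal (W : X.affineOpens) (m : Γ(ClSub.idealMod I, W.1)) :
    (show Γ(X, W.1) from (ClSub.idealModι I).app W.1 m) ∈ I.ideal W := by
  rw [← I.ker_subschemeι_app W, RingHom.mem_ker]
  exact IdealModL.toSubscheme_ι I W.1 m

/-- a nonzerodivisor generating the ideal on an affine open gives a free generator of the ideal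
module -/
theorem exists_isGen_idealMod (U : X.affineOpens) (f : Γ(X, U.1))
    (hf : f ∈ nonZeroDivisors Γ(X, U.1)) (hI : I.ideal U = Ideal.span {f}) :
    ∃ n₀ : Γ(ClSub.idealMod I, U.1),
      (show Γ(X, U.1) from (ClSub.idealModι I).app U.1 n₀) = f ∧
        IsGen (ClSub.idealMod I) U.1 n₀ := by
  have hfker : (I.subschemeι.app U.1).hom f = 0 := by
    rw [← RingHom.mem_ker, I.ker_subschemeι_app U, hI]
    exact Ideal.mem_span_singleton_self f
  obtain ⟨n₀, hn₀⟩ := IdealModL.exists_of_app_eq_zero I U.1 f hfker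
  refine ⟨n₀, hn₀, ?_⟩
  intro V h
  have hιn : ∀ r : Γ(X, V), (show Γ(X, V) from
      (ClSub.idealModι I).app V (r • res (ClSub.idealMod I) h n₀)) = r * resR h f := by
    intro r
    rw [ι_smul, ι_res, hn₀]
  have hnzd : ∀ (W : X.Opens) (hW : W ≤ U.1), resR hW f ∈ nonZeroDivisors Γ(X, W) :=
    fun W hW => EffCartier.nzd_res U f hf W hW
  constructor
  · intro r r' hrr
    dsimp only at hrr
    have h1 : r * resR h f = r' * resR h f := by
      rw [← hιn r, ← hιn r', hrr]
    exact (mul_cancel_right_mem_nonZeroDivisors (hnzd V h)).1 h1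
  · intro y
    dsimp only
    -- local coefficients
    have hloc : ∀ x : V, ∃ (W : X.affineOpens) (hWV : W.1 ≤ V) (_ : x.1 ∈ W.1) (r : Γ(X, W.1)),
        (show Γ(X, W.1) from (ClSub.idealModι I).app W.1 (res (ClSub.idealMod I) hWV y)) =
          r * resR (hWV.trans h) f := by
      intro x
      obtain ⟨W, hW, hxW, hWV⟩ := Opens.isBasis_iff_nbhd.mp (X.isBasis_affineOpens)
        (show x.1 ∈ V from x.2)
      have hmem := ι_mem_ideal I ⟨W, hW⟩ (res (ClSub.idealMod I) hWV y)
      rw [(EffCartier.restrict I U f hf hI ⟨W, hW⟩ (hWV.trans h)).2,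
        Ideal.mem_span_singleton'] at hmem
      obtain ⟨r, hr⟩ := hmem
      exact ⟨⟨W, hW⟩, hWV, hxW, r, hr.symm⟩
    choose W hWV hxW r hr using hloc
    have hcov : V ≤ ⨆ x, (W x).1 := fun z hz => Opens.mem_iSup.2 ⟨⟨z, hz⟩, hxW ⟨z, hz⟩⟩
    obtain ⟨c, hc⟩ := TwistSec.glue_of_compatible (Coh.structureModule X) (fun x => (W x).1) V
      hWV hcov (fun x => (show Γ(Coh.structureModule X, (W x).1) from r x)) (by
        intro x x'
        have hle : (W x).1 ⊓ (W x').1 ≤ U.1 := inf_le_left.trans ((hWV x).trans h)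
        have e1 : resR (inf_le_left : (W x).1 ⊓ (W x').1 ≤ (W x).1) (r x) * resR hle f =
            resR (inf_le_right : (W x).1 ⊓ (W x').1 ≤ (W x').1) (r x') * resR hle f := by
          have h1 := congrArg (resR (inf_le_left : (W x).1 ⊓ (W x').1 ≤ (W x).1)) (hr x)
          have h2 := congrArg (resR (inf_le_right : (W x).1 ⊓ (W x').1 ≤ (W x').1)) (hr x')
          rw [map_mul, resR_resR, ← ι_res, res_res] at h1 h2
          rw [← h1, ← h2]
        exact (mul_cancel_right_mem_nonZeroDivisors (hnzd _ hle)).1 e1)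
    refine ⟨(show Γ(X, V) from c), ?_⟩
    apply IdealModL.ι_injective I V
    change (show Γ(X, V) from (ClSub.idealModι I).app V
      ((show Γ(X, V) from c) • res (ClSub.idealMod I) h n₀)) =
      (show Γ(X, V) from (ClSub.idealModι I).app V y)
    rw [hιn]
    refine X.IsSheaf.section_ext fun z hz => ?_
    refine ⟨(W ⟨z, hz⟩).1, hWV ⟨z, hz⟩, hxW ⟨z, hz⟩, ?_⟩
    have h3 := ι_res I (hWV ⟨z, hz⟩) y
    change resR (hWV ⟨z, hz⟩) ((show Γ(X, V) from c) * resR h f) = resR (hWV ⟨z, hz⟩) _
    rw [← h3, hr ⟨z, hz⟩, map_mul, resR_resR]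
    congr 1
    exact hc ⟨z, hz⟩

end Ideal

section OD

open Groth.Agent.Helper4

variable (I : X.IdealSheafData)

/-- `O(D)`: the dual of the ideal module -/
noncomputable abbrev OD : X.Modules := RefHull.dual (ClSub.idealMod I)

/-- the canonical global section of `O(D)` -/
noncomputable def sec : Γ(OD I, ⊤) := RefHull.ofHom (ClSub.idealModι I) ⊤

/-- the canonical section as a morphism -/
noncomputable def secHom : Coh.structureModule X ⟶ OD I := TwistAmple.homOfSec (OD I) (sec I)

theorem secVal_secHom (W : X.Opens) :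
    secVal (secHom I) W = RefHull.ofHom (ClSub.idealModι I) W := by
  rw [secHom, AmpleLib.secVal_homOfSec]
  rfl

/-- a chart of `O(D)`: a free generator over which the canonical section is `f` -/
theorem exists_chart (U : X.affineOpens) (f : Γ(X, U.1))
    (hf : f ∈ nonZeroDivisors Γ(X, U.1)) (hI : I.ideal U = Ideal.span {f}) :
    ∃ a : Γ(OD I, U.1), IsGen (OD I) U.1 a ∧ f • a = secVal (secHom I) U.1 := by
  obtain ⟨n₀, hn₀, hgen⟩ := exists_isGen_idealMod I U f hf hI
  have hU : IsAffineOpen U.1 := U.2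
  obtain ⟨a, ha, ha1⟩ := exists_dual_gen hU n₀ hgen
  refine ⟨a, ha, ?_⟩
  rw [secVal_secHom]
  apply (secEquiv (F := ClSub.idealMod I) (G := Coh.structureModule X) hU).injective
  apply LinearMap.ext
  intro m
  obtain ⟨c, hc⟩ := (hgen U.1 le_rfl).2 m
  dsimp only at hc
  rw [res_self] at hc
  subst hc
  rw [(secEquiv (F := ClSub.idealMod I) (G := Coh.structureModule X) hU).map_smul f a,
    LinearMap.smul_apply, secEquiv_apply, secEquiv_apply,
    Punc.app_ofHom, app_smul, ha1, ι_smul, hn₀]
  change f * (c * 1) = c * f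
  rw [mul_one, mul_comm]

theorem isInvertible_OD (hI : BlowUp.IsEffCartierIdeal I) : PicF.IsInvertible (OD I) := by
  apply TwForm.isInvertible_of_locGen
  intro x
  obtain ⟨U, hxU, f, hf, hIf⟩ := hI x
  obtain ⟨a, ha, -⟩ := exists_chart I U f hf hIf
  exact ⟨U.1, a, hxU, ha⟩

/-- the canonical section of `O(D)` generates exactly off the support of `D` -/
theorem mem_genLocus_secHom_iff (hI : BlowUp.IsEffCartierIdeal I) (x : X) :
    x ∈ CohB1.genLocus (OD I) (secHom I) ↔ x ∉ I.support := by
  obtain ⟨U, hxU, f, hf, hIf⟩ := hI x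
  obtain ⟨a, ha, hfa⟩ := exists_chart I U f hf hIf
  have h1 := genLocus_inf_eq_basicOpen (secHom I) ha f hfa
  rw [← EffCartier.mem_basicOpen_iff_not_mem_support U f hIf x hxU, ← h1]
  exact ⟨fun h => ⟨h, hxU⟩, fun h => h.1⟩

end OD

end Groth.Agent.Lead.ODiv
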