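import Mathlib

/-!
# Nagata's topological criterion for openness in the prime spectrum of a Noetherian ring (lead)
-/

set_option autoImplicit false
universe u

namespace Groth.Agent.Lead.FlatLoc

open PrimeSpectrum

/-- **Nagata's criterion**: a subset of the spectrum of a Noetherian ring which is stable under
generization and contains, with each of its points `q`, a nonempty open part `V(q) ∩ D(g)` of the
closure of `q`, is open. -/
theorem isOpen_of_nagata {B : Type*} [CommRing B] [IsNoetherianRing B] (U : Set (PrimeSpectrum B))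
    (hgen : ∀ q ∈ U, ∀ q' : PrimeSpectrum B, q' ≤ q → q' ∈ U)
    (hloc : ∀ q ∈ U, ∃ g : B, g ∉ q.asIdeal ∧
      ∀ q' : PrimeSpectrum B, q ≤ q' → g ∉ q'.asIdeal → q' ∈ U) :
    IsOpen U := by
  classical
  rw [← isClosed_compl_iff]
  set C : Set (PrimeSpectrum B) := Uᶜ with hC
  set J : Ideal B := vanishingIdeal C with hJ
  rw [← closure_subset_iff_isClosed, ← zeroLocus_vanishingIdeal_eq_closure]
  intro x hx
  rw [mem_zeroLocus] at hx
  have hJx : J ≤ x.asIdeal := hx
  obtain ⟨z, hz, hzx⟩ := Ideal.exists_minimalPrimes_le hJx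
  haveI hzp : z.IsPrime := hz.1.1
  -- the generic point `z` is in `C`
  have hzC : (⟨z, hzp⟩ : PrimeSpectrum B) ∈ C := by
    by_contra hzU
    have hzU' : (⟨z, hzp⟩ : PrimeSpectrum B) ∈ U := by
      rw [hC] at hzU
      exact not_not.mp hzU
    obtain ⟨g, hg, hgU⟩ := hloc _ hzU'
    have hfin : (J.minimalPrimes).Finite := Ideal.finite_minimalPrimes_of_isNoetherianRing B J
    set s : Finset (Ideal B) := hfin.toFinset.erase z with hs
    set W : Ideal B := s.inf id with hW
    have hle : (z ⊔ Ideal.span {g}) ⊓ W ≤ J := by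
      intro b hb
      rw [hJ, mem_vanishingIdeal]
      intro c hc
      have hJc : J ≤ c.asIdeal := by
        intro a ha
        rw [hJ, mem_vanishingIdeal] at ha
        exact ha c hc
      obtain ⟨z', hz', hz'c⟩ := Ideal.exists_minimalPrimes_le hJc
      by_cases hzz : z' = z
      · subst hzz
        have hgc : g ∈ c.asIdeal := by
          by_contra hgc
          exact hc (hgU c hz'c hgc)
        have : z' ⊔ Ideal.span {g} ≤ c.asIdeal :=
          sup_le hz'c ((Ideal.span_singleton_le_iff_mem _).mpr hgc)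
        exact this hb.1
      · have h1 : W ≤ z' := by
          rw [hW]
          exact Finset.inf_le (f := id) (by
            rw [hs, Finset.mem_erase]
            exact ⟨hzz, hfin.mem_toFinset.mpr hz'⟩)
        exact hz'c (h1 hb.2)
    have hle' : (z ⊔ Ideal.span {g}) ⊓ W ≤ z := hle.trans hz.1.2
    rcases (Ideal.IsPrime.inf_le hzp).mp hle' with h1 | h1
    · exact hg (h1 (Ideal.mem_sup_right (Ideal.mem_span_singleton_self g)))
    · rw [hW, Ideal.IsPrime.inf_le' hzp] at h1
      obtain ⟨z', hz's, hz'z⟩ := h1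
      rw [hs, Finset.mem_erase] at hz's
      have hz'min : z' ∈ J.minimalPrimes := hfin.mem_toFinset.mp hz's.2
      exact hz's.1 (le_antisymm hz'z (hz.2 hz'min.1 hz'z))
  by_contra hxC
  have hxU : x ∈ U := by
    rw [hC] at hxC
    exact not_not.mp hxC
  exact hzC (hgen x hxU ⟨z, hzp⟩ hzx)

end Groth.Agent.Lead.FlatLoc
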