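import Mathlib
import Groth.Agent.Lib.Helper1.LocalCrit
import Groth.Agent.Lib.Lead.FO1

/-!
# Openness of the flat locus, Noetherian case: spreading out the Tor condition (lead)
-/

set_option autoImplicit false
universe u

namespace Groth.Agent.Lead.FlatLoc

open TensorProduct

section A

variable {A B : Type u} [CommRing A] [CommRing B] [Algebra A B]
variable (M : Type u) [AddCommGroup M] [Module A M] [Module B M] [IsScalarTower A B M]

/-- the `B`-linear map `M ⊗ p → M ⊗ A` -/
noncomputable abbrev phi (p : Ideal A) : M ⊗[A] p →ₗ[B] M ⊗[A] A :=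
  AlgebraTensorModule.lTensor B M p.subtype

theorem rTensor_injective_iff (p : Ideal A) (S : Submonoid B) :
    Function.Injective (LinearMap.rTensor (LocalizedModule S M) p.subtype) ↔
      Function.Injective (phi (A := A) (B := B) (LocalizedModule S M) p) := by
  rw [← LinearMap.lTensor_inj_iff_rTensor_inj]
  rfl

/-- If `M_q` is flat over `A`, then some `g ∉ q` kills the kernel of `M ⊗ p → M`, provided the
kernel is finitely generated. -/
theorem exists_smul_ker_eq_zero (p : Ideal A) (q : Ideal B) [q.IsPrime]
    (hfg : (LinearMap.ker (phi (A := A) (B := B) M p)).FG)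
    (hinj : Function.Injective (phi (A := A) (B := B) (LocalizedModule q.primeCompl M) p)) :
    ∃ g : B, g ∉ q ∧ ∀ x ∈ LinearMap.ker (phi (A := A) (B := B) M p), g • x = 0 := by
  classical
  obtain ⟨s, hs⟩ := hfg
  -- each generator is killed by some element outside `q`
  have h1 : ∀ x ∈ LinearMap.ker (phi (A := A) (B := B) M p), ∃ t : B, t ∉ q ∧ t • x = 0 := by
    intro x hx
    let l := AlgebraTensorModule.rTensor A p (LocalizedModule.mkLinearMap q.primeCompl M)
    let l' := AlgebraTensorModule.rTensor A A (LocalizedModule.mkLinearMap q.primeCompl M)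
    have hcomm : ∀ x, phi (A := A) (B := B) (LocalizedModule q.primeCompl M) p (l x) =
        l' (phi (A := A) (B := B) M p x) := by
      intro x
      induction x using TensorProduct.induction_on with
      | zero => simp
      | tmul m a => rfl
      | add x y hx hy => simp only [map_add, hx, hy]
    have h0 : l x = 0 := by
      apply hinj
      rw [hcomm, LinearMap.mem_ker.mp hx, map_zero, map_zero]
    obtain ⟨c, hc⟩ := (IsLocalizedModule.eq_zero_iff q.primeCompl l).mp h0
    exact ⟨c.1, c.2, hc⟩
  choose! t ht using h1
  refine ⟨∏ x ∈ s, t x, ?_, ?_⟩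
  · intro hmem
    obtain ⟨x, hx, hxq⟩ := (Ideal.IsPrime.prod_mem_iff (hp := inferInstance)).mp hmem
    have : x ∈ LinearMap.ker (phi (A := A) (B := B) M p) := by
      rw [← hs]; exact Submodule.subset_span hx
    exact (ht x this).1 hxq
  · intro x hx
    rw [← hs] at hx
    induction hx using Submodule.span_induction with
    | mem y hy =>
      have hyk : y ∈ LinearMap.ker (phi (A := A) (B := B) M p) := by
        rw [← hs]; exact Submodule.subset_span hy
      rw [← Finset.mul_prod_erase s t hy, mul_comm, mul_smul, (ht y hyk).2, smul_zero]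
    | zero => rw [smul_zero]
    | add y z _ _ hy hz => rw [smul_add, hy, hz, add_zero]
    | smul b y _ hy => rw [smul_comm, hy, smul_zero]

/-- If `g` kills the kernel of `M ⊗ p → M`, the map `M_{q'} ⊗ p → M_{q'}` is injective for all
primes `q'` not containing `g`. -/
theorem injective_of_smul_ker_eq_zero (p : Ideal A) (g : B)
    (hg : ∀ x ∈ LinearMap.ker (phi (A := A) (B := B) M p), g • x = 0)
    (q' : Ideal B) [q'.IsPrime] (hgq : g ∉ q') :
    Function.Injective (phi (A := A) (B := B) (LocalizedModule q'.primeCompl M) p) := by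
  let l := AlgebraTensorModule.rTensor A p (LocalizedModule.mkLinearMap q'.primeCompl M)
  let l' := AlgebraTensorModule.rTensor A A (LocalizedModule.mkLinearMap q'.primeCompl M)
  have hcomm : ∀ x, phi (A := A) (B := B) (LocalizedModule q'.primeCompl M) p (l x) =
      l' (phi (A := A) (B := B) M p x) := by
    intro x
    induction x using TensorProduct.induction_on with
    | zero => simp
    | tmul m a => rfl
    | add x y hx hy => simp only [map_add, hx, hy]
  rw [injective_iff_map_eq_zero]
  intro x hx
  obtain ⟨⟨y, t⟩, hy⟩ := IsLocalizedModule.surj q'.primeCompl l x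
  have hy' : t.1 • x = l y := hy
  have h1 : l' (phi (A := A) (B := B) M p y) = 0 := by
    rw [← hcomm, ← hy', map_smul, hx, smul_zero]
  obtain ⟨c, hc⟩ := (IsLocalizedModule.eq_zero_iff q'.primeCompl l').mp h1
  have h2 : c.1 • y ∈ LinearMap.ker (phi (A := A) (B := B) M p) := by
    rw [LinearMap.mem_ker, map_smul]; exact hc
  have h3 : l y = 0 := by
    rw [IsLocalizedModule.eq_zero_iff q'.primeCompl l]
    refine ⟨⟨g * c.1, ?_⟩, ?_⟩
    · intro hmem
      rcases Ideal.IsPrime.mem_or_mem inferInstance hmem with h | h
      · exact hgq h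
      · exact c.2 h
    · show (g * c.1) • y = 0
      rw [mul_smul]; exact hg _ h2
  have h4 : t.1 • x = 0 := by rw [hy', h3]
  have hu := IsLocalizedModule.map_units l t
  have : (algebraMap B (Module.End B _) t.1) x = 0 := h4
  exact (Module.End.isUnit_iff _ |>.mp hu).injective (by rw [this, map_zero])

end A

end Groth.Agent.Lead.FlatLoc
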