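import Mathlib
import Groth.Agent.Lib.Helper1.LocalCrit
import Groth.Agent.Lib.Helper3.FlatId5
import Groth.Agent.Lib.Helper9.GenFree.Main2
import Groth.Agent.Lib.Lead.FO1

/-!
# Openness of the flat locus, Noetherian case: generic relative flatness (lead)
-/

set_option autoImplicit false
set_option synthInstance.maxHeartbeats 400000
universe u

namespace Groth.Agent.Lead.FlatLoc

open TensorProduct Groth.Agent.Helper3.FlatId

section B

variable {A B : Type u} [CommRing A] [CommRing B] [Algebra A B] [Algebra.FiniteType A B]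
variable (M : Type u) [AddCommGroup M] [Module A M] [Module B M] [IsScalarTower A B M]
  [Module.Finite B M]

/-- generic freeness of `M / pM` over `A / p`, in quotient form. -/
theorem exists_free_quotient_away (p : Ideal A) [p.IsPrime] :
    ∃ a : A, a ∉ p ∧
      letI L := M ⧸ (p.map (algebraMap A B) • ⊤ : Submodule B M)
      letI : Module (A ⧸ p) L := Module.compHom L (algebraMap (A ⧸ p) (B ⧸ p.map (algebraMap A B)))
      Module.Free (Localization.Away (Ideal.Quotient.mk p a))
        (LocalizedModule (Submonoid.powers (Ideal.Quotient.mk p a)) L) := by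
  classical
  let k := A ⧸ p
  let J : Ideal B := p.map (algebraMap A B)
  let B' := B ⧸ J
  let L := M ⧸ (J • ⊤ : Submodule B M)
  haveI : IsDomain k := Ideal.Quotient.isDomain p
  haveI : Algebra.FiniteType k B' := Algebra.FiniteType.of_restrictScalars_finiteType A k B'
  letI : Module k L := Module.compHom L (algebraMap k B')
  haveI : IsScalarTower k B' L := IsScalarTower.of_algebraMap_smul fun r x => rfl
  have hgood := Groth.Agent.Helper9.GenFree.goodRing_of_finiteType' k B'
  obtain ⟨f, hf, hfree⟩ := (hgood L).exists_free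
  obtain ⟨a, rfl⟩ := Ideal.Quotient.mk_surjective f
  refine ⟨a, ?_, hfree⟩
  intro ha
  exact hf (Ideal.Quotient.eq_zero_iff_mem.mpr ha)

end B

section C

variable {A : Type u} [CommRing A] (p : Ideal A)
variable {M Ma : Type u} [AddCommGroup M] [Module A M] [AddCommGroup Ma] [Module A Ma]

/-- tensoring a localization map on the left -/
theorem isLocalizedModule_lTensor (S : Submonoid A) (N : Type u) [AddCommGroup N] [Module A N]
    (g : M →ₗ[A] Ma) [IsLocalizedModule S g] : IsLocalizedModule S (LinearMap.lTensor N g) := by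
  have h1 : IsLocalizedModule S (AlgebraTensorModule.rTensor A N g) := inferInstance
  have h2 : LinearMap.lTensor N g =
      ((TensorProduct.comm A Ma N).toLinearMap ∘ₗ AlgebraTensorModule.rTensor A N g) ∘ₗ
        (TensorProduct.comm A N M).toLinearMap := by
    ext n m
    rfl
  rw [h2]
  infer_instance

/-- If `L ≃ (A/p) ⊗ M` and the localization of `L` at `f = a mod p` is flat over `A/p`, then
`(A/p) ⊗ M_a` is flat over `A/p`. -/
theorem flat_quotient_tensor_away (a : A) (g : M →ₗ[A] Ma) [IsLocalizedModule (Submonoid.powers a) g]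
    (L : Type u) [AddCommGroup L] [Module (A ⧸ p) L]
    (e : ((A ⧸ p) ⊗[A] M) ≃ₗ[A ⧸ p] L)
    [Module.Flat (A ⧸ p) (LocalizedModule (Submonoid.powers (Ideal.Quotient.mk p a)) L)] :
    Module.Flat (A ⧸ p) ((A ⧸ p) ⊗[A] Ma) := by
  let k := A ⧸ p
  let l : (k ⊗[A] M) →ₗ[k] (k ⊗[A] Ma) := AlgebraTensorModule.lTensor k k g
  have h1 : IsLocalizedModule (Submonoid.powers a) (l.restrictScalars A) :=
    isLocalizedModule_lTensor (Submonoid.powers a) k g
  have h2 : IsLocalizedModule (Algebra.algebraMapSubmonoid k (Submonoid.powers a)) l :=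
    IsLocalizedModule.of_restrictScalars (Submonoid.powers a) l
  rw [Algebra.algebraMapSubmonoid_powers] at h2
  have h3 : IsLocalizedModule (Submonoid.powers (Ideal.Quotient.mk p a)) (l ∘ₗ e.symm.toLinearMap) :=
    inferInstance
  exact Module.Flat.of_linearEquiv
    (IsLocalizedModule.iso (Submonoid.powers (Ideal.Quotient.mk p a)) (l ∘ₗ e.symm.toLinearMap)).symm

end C

section D

variable {A B : Type u} [CommRing A] [CommRing B] [Algebra A B] [Algebra.FiniteType A B]
variable (M : Type u) [AddCommGroup M] [Module A M] [Module B M] [IsScalarTower A B M]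
  [Module.Finite B M]

/-- **Generic relative flatness**: for a prime `p` of `A` there is `a ∉ p` such that `M_a / p M_a`
is flat over `A / p`. -/
theorem exists_relInj_away (p : Ideal A) [p.IsPrime] :
    ∃ a : A, a ∉ p ∧ RelInj p (LocalizedModule (Submonoid.powers (algebraMap A B a)) M) := by
  classical
  obtain ⟨a, ha, hfree⟩ := exists_free_quotient_away (A := A) (B := B) M p
  refine ⟨a, ha, ?_⟩
  let k := A ⧸ p
  let J : Ideal B := p.map (algebraMap A B)
  let B' := B ⧸ J
  let L := M ⧸ (J • ⊤ : Submodule B M)
  letI : Module k L := Module.compHom L (algebraMap k B')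
  haveI : IsScalarTower k B' L := IsScalarTower.of_algebraMap_smul fun r x => rfl
  haveI : IsScalarTower A k L := by
    refine IsScalarTower.of_algebraMap_smul fun r x => ?_
    show (algebraMap k B' (algebraMap A k r)) • x = r • x
    rw [← IsScalarTower.algebraMap_apply A k B', IsScalarTower.algebraMap_apply A B B',
      algebraMap_smul, algebraMap_smul]
  have hfree' : Module.Free (Localization.Away (Ideal.Quotient.mk p a))
      (LocalizedModule (Submonoid.powers (Ideal.Quotient.mk p a)) L) := hfree
  haveI : Module.Flat k (LocalizedModule (Submonoid.powers (Ideal.Quotient.mk p a)) L) :=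
    Module.Flat.trans k (Localization.Away (Ideal.Quotient.mk p a)) _
  -- the identification `k ⊗ M ≃ L`
  have hJ : (p • ⊤ : Submodule A M) = (J • ⊤ : Submodule B M).restrictScalars A := by
    rw [Ideal.smul_restrictScalars, Submodule.restrictScalars_top]
  let eA : (k ⊗[A] M) ≃ₗ[A] L :=
    (quotTensorEquivQuotSMul M p) ≪≫ₗ (Submodule.quotEquivOfEq _ _ hJ) ≪≫ₗ
      (Submodule.Quotient.restrictScalarsEquiv A (J • ⊤ : Submodule B M))
  let e : (k ⊗[A] M) ≃ₗ[k] L :=
    LinearEquiv.extendScalarsOfSurjective Ideal.Quotient.mk_surjective eA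
  let g₀ : M →ₗ[A] LocalizedModule (Submonoid.powers (algebraMap A B a)) M :=
    (LocalizedModule.mkLinearMap (Submonoid.powers (algebraMap A B a)) M).restrictScalars A
  haveI : IsLocalizedModule (Submonoid.powers a) g₀ :=
    IsLocalizedModule.restrictScalars_powers a
      (LocalizedModule.mkLinearMap (Submonoid.powers (algebraMap A B a)) M)
  haveI := flat_quotient_tensor_away p a g₀ L e
  exact relInj_of_flat p _

end D

end Groth.Agent.Lead.FlatLoc
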