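import Mathlib
import Groth.Agent.Lib.Lead.FlatLoc1
import Groth.Agent.Lib.Lead.FlatLoc2
import Groth.Agent.Lib.Lead.FlatLoc3

/-!
# Openness of the flat locus, Noetherian case (lead)
-/

set_option autoImplicit false
set_option synthInstance.maxHeartbeats 400000
universe u

namespace Groth.Agent.Lead.FlatLoc

open TensorProduct Groth.Agent.Helper3.FlatId

variable {A B : Type u} [CommRing A] [CommRing B] [Algebra A B]
variable (M : Type u) [AddCommGroup M] [Module A M] [Module B M] [IsScalarTower A B M]

/-- flatness over `A` at a prime of `B` passes to generizations -/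
theorem flat_localizedModule_of_le (q q' : Ideal B) [q.IsPrime] [q'.IsPrime] (h : q' ≤ q)
    [Module.Flat A (LocalizedModule q.primeCompl M)] :
    Module.Flat A (LocalizedModule q'.primeCompl M) := by
  have hle : q.primeCompl ≤ q'.primeCompl := fun x hx hx' => hx (h hx')
  exact Groth.Agent.Lead.FO.flat_of_isLocalizedModule_algebra (R := A) q'.primeCompl
    (IsLocalizedModule.liftOfLE q.primeCompl q'.primeCompl hle
      (LocalizedModule.mkLinearMap q.primeCompl M) (LocalizedModule.mkLinearMap q'.primeCompl M))

variable [IsNoetherianRing A] [Algebra.FiniteType A B] [Module.Finite B M]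

/-- **Openness of the flat locus** (Noetherian case). -/
theorem isOpen_flatLocus_of_isNoetherianRing :
    IsOpen {q : PrimeSpectrum B | Module.Flat A (LocalizedModule q.asIdeal.primeCompl M)} := by
  classical
  haveI : IsNoetherianRing B := Algebra.FiniteType.isNoetherianRing A B
  apply isOpen_of_nagata
  · intro q hq q' hq'
    haveI : Module.Flat A (LocalizedModule q.asIdeal.primeCompl M) := hq
    exact flat_localizedModule_of_le M q.asIdeal q'.asIdeal hq'
  · intro q hq
    haveI : Module.Flat A (LocalizedModule q.asIdeal.primeCompl M) := hq
    let p : Ideal A := q.asIdeal.comap (algebraMap A B)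
    haveI : p.IsPrime := Ideal.IsPrime.comap _
    -- (A) the kernel of `M ⊗ p → M`
    haveI : Module.Finite A p := Module.Finite.of_fg (IsNoetherian.noetherian p)
    haveI : Module.Finite B (M ⊗[A] p) :=
      Groth.Agent.Helper1.LocalCrit.finite_tensorProduct (R := A) (S := B) M p
    haveI : IsNoetherian B (M ⊗[A] p) := isNoetherian_of_isNoetherianRing_of_finite B _
    have hfg : (LinearMap.ker (phi (A := A) (B := B) M p)).FG := IsNoetherian.noetherian _
    have hinj : Function.Injective (phi (A := A) (B := B) (LocalizedModule q.asIdeal.primeCompl M) p) := by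
      rw [← rTensor_injective_iff]
      exact Module.Flat.rTensor_preserves_injective_linearMap _ Subtype.val_injective
    obtain ⟨g₁, hg₁, hker⟩ := exists_smul_ker_eq_zero M p q.asIdeal hfg hinj
    -- (B) generic relative flatness
    obtain ⟨a, ha, hrel⟩ := exists_relInj_away (A := A) (B := B) M p
    have hg₂ : algebraMap A B a ∉ q.asIdeal := ha
    refine ⟨g₁ * algebraMap A B a, ?_, ?_⟩
    · intro hmem
      rcases Ideal.IsPrime.mem_or_mem inferInstance hmem with h | h
      · exact hg₁ h
      · exact hg₂ h
    · intro q' hqq' hgq'
      have hg₁' : g₁ ∉ q'.asIdeal := fun h => hgq' (Ideal.mul_mem_right _ _ h)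
      have hg₂' : algebraMap A B a ∉ q'.asIdeal := fun h => hgq' (Ideal.mul_mem_left _ _ h)
      show Module.Flat A (LocalizedModule q'.asIdeal.primeCompl M)
      have hI : p.map (algebraMap A (Localization.AtPrime q'.asIdeal)) ≠ ⊤ := by
        have hle : p.map (algebraMap A (Localization.AtPrime q'.asIdeal)) ≤
            IsLocalRing.maximalIdeal (Localization.AtPrime q'.asIdeal) := by
          rw [Ideal.map_le_iff_le_comap]
          intro x hx
          rw [Ideal.mem_comap, IsScalarTower.algebraMap_apply A B (Localization.AtPrime q'.asIdeal),
            ← Ideal.mem_comap]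
          have := Localization.AtPrime.comap_maximalIdeal (I := q'.asIdeal)
          rw [Ideal.under] at this
          rw [this]
          exact hqq' hx
        intro htop
        rw [htop] at hle
        exact (IsLocalRing.maximalIdeal.isMaximal _).ne_top (top_le_iff.mp hle)
      have h1 : Function.Injective
          (LinearMap.rTensor (LocalizedModule q'.asIdeal.primeCompl M) p.subtype) := by
        rw [rTensor_injective_iff]
        exact injective_of_smul_ker_eq_zero M p g₁ hker q'.asIdeal hg₁'
      have hle : Submonoid.powers (algebraMap A B a) ≤ q'.asIdeal.primeCompl := by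
        rw [Submonoid.powers_le]
        exact hg₂'
      have hrel' : RelInj p (LocalizedModule q'.asIdeal.primeCompl M) :=
        relInj_of_isLocalizedModule q'.asIdeal.primeCompl
          (IsLocalizedModule.liftOfLE (Submonoid.powers (algebraMap A B a)) q'.asIdeal.primeCompl hle
            (LocalizedModule.mkLinearMap (Submonoid.powers (algebraMap A B a)) M)
            (LocalizedModule.mkLinearMap q'.asIdeal.primeCompl M)) p hrel
      haveI : Module.Flat (A ⧸ p) ((A ⧸ p) ⊗[A] LocalizedModule q'.asIdeal.primeCompl M) :=
        flat_of_relInj hrel'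
      exact Groth.Agent.Helper1.LocalCrit.flat_of_rTensor_injective_of_flat_quotient
        (R := A) (S := Localization.AtPrime q'.asIdeal) p hI h1

end Groth.Agent.Lead.FlatLoc
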