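import Mathlib
import Groth.Agent.Lib.Helper3.ColimFlat7

/-!
# Pointwise descent of flatness to a finite stage: the action of `B₀ ⊗ C` on `IC ⊗ M₀` (lead)
-/

set_option autoImplicit false
set_option backward.isDefEq.respectTransparency.types false
set_option synthInstance.maxHeartbeats 400000
universe u

namespace Groth.Agent.Lead.FlatLoc

open TensorProduct Groth.Agent.Lib.Helper4.FlatBC1 Groth.Agent.Helper3.ColimFlat

attribute [local instance] Algebra.TensorProduct.rightAlgebra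

section Act

variable {A₀ : Type u} [CommRing A₀] (I : Ideal A₀) {B₀ : Type u} [CommRing B₀] [Algebra A₀ B₀]
  (M₀ : Type u) [AddCommGroup M₀] [Module B₀ M₀] [Module A₀ M₀] [IsScalarTower A₀ B₀ M₀]
  (C : Type u) [CommRing C] [Algebra A₀ C]

/-- the action of `B₀ ⊗ C` on `IC ⊗ M₀` -/
noncomputable def act :
    (B₀ ⊗[A₀] C) →ₗ[A₀] Module.End A₀ (↥(I.map (algebraMap A₀ C)) ⊗[A₀] M₀) :=
  (TensorProduct.homTensorHomMap (RingHom.id A₀) _ _ _ _) ∘ₗ
    (TensorProduct.map (Algebra.lsmul A₀ A₀ ↥(I.map (algebraMap A₀ C))).toLinearMap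
      (Algebra.lsmul A₀ A₀ M₀).toLinearMap) ∘ₗ (TensorProduct.comm A₀ B₀ C).toLinearMap

theorem act_tmul (b : B₀) (c : C) (x : ↥(I.map (algebraMap A₀ C))) (m : M₀) :
    act I M₀ C (b ⊗ₜ c) (x ⊗ₜ m) = (c • x) ⊗ₜ (b • m) := by
  simp [act]

/-- naturality of the action in `C` -/
theorem act_natural {C' : Type u} [CommRing C'] [Algebra A₀ C'] (ψ : C →ₐ[A₀] C')
    (w : B₀ ⊗[A₀] C) (z : ↥(I.map (algebraMap A₀ C)) ⊗[A₀] M₀) :
    (idealMapHom I ψ).rTensor M₀ (act I M₀ C w z) =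
      act I M₀ C' (Algebra.TensorProduct.map (AlgHom.id A₀ B₀) ψ w)
        ((idealMapHom I ψ).rTensor M₀ z) := by
  induction w using TensorProduct.induction_on with
  | zero => simp
  | tmul b c =>
    induction z using TensorProduct.induction_on with
    | zero => simp
    | tmul x m =>
      rw [act_tmul, LinearMap.rTensor_tmul, LinearMap.rTensor_tmul,
        Algebra.TensorProduct.map_tmul, AlgHom.coe_id, id_eq, act_tmul]
      congr 1
      apply Subtype.ext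
      simp [Algebra.smul_def]
    | add z₁ z₂ h₁ h₂ => simp only [map_add, h₁, h₂]
  | add w₁ w₂ h₁ h₂ => simp only [map_add, LinearMap.add_apply, h₁, h₂]

/-- the comparison map `IC ⊗[A₀] M₀ → IC ⊗[C] ((B₀ ⊗ C) ⊗[B₀] M₀)` -/
noncomputable def theta :
    ↥(I.map (algebraMap A₀ C)) ⊗[A₀] M₀ →ₗ[A₀]
      ↥(I.map (algebraMap A₀ C)) ⊗[C] ((B₀ ⊗[A₀] C) ⊗[B₀] M₀) :=
  (TensorProduct.mapOfCompatibleSMul C A₀ A₀ ↥(I.map (algebraMap A₀ C))
      ((B₀ ⊗[A₀] C) ⊗[B₀] M₀)) ∘ₗ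
    ((TensorProduct.mk B₀ (B₀ ⊗[A₀] C) M₀ 1).restrictScalars A₀).lTensor _

theorem theta_tmul (x : ↥(I.map (algebraMap A₀ C))) (m : M₀) :
    theta I M₀ C (x ⊗ₜ m) = x ⊗ₜ[C] ((1 : B₀ ⊗[A₀] C) ⊗ₜ[B₀] m) := by
  simp [theta]

/-- `theta` intertwines the action with multiplication on the right factor -/
theorem theta_act (w : B₀ ⊗[A₀] C) (z : ↥(I.map (algebraMap A₀ C)) ⊗[A₀] M₀) :
    theta I M₀ C (act I M₀ C w z) =
      (lam C ((B₀ ⊗[A₀] C) ⊗[B₀] M₀) w).lTensor _ (theta I M₀ C z) := by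
  induction w using TensorProduct.induction_on with
  | zero =>
    have : lam C ((B₀ ⊗[A₀] C) ⊗[B₀] M₀) (0 : B₀ ⊗[A₀] C) = 0 := by
      ext x
      simp
    simp [this]
  | tmul b c =>
    induction z using TensorProduct.induction_on with
    | zero => simp
    | tmul x m =>
      rw [act_tmul, theta_tmul, theta_tmul, LinearMap.lTensor_tmul, lam_apply,
        TensorProduct.smul_tmul, TensorProduct.smul_tmul', TensorProduct.smul_tmul']
      congr 1
      rw [← TensorProduct.smul_tmul]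
      congr 1
      rw [smul_eq_mul, mul_one, Algebra.smul_def, Algebra.smul_def, mul_one,
        Algebra.TensorProduct.algebraMap_eq_includeRight, Algebra.TensorProduct.algebraMap_apply]
      simp
    | add z₁ z₂ h₁ h₂ => simp only [map_add, h₁, h₂]
  | add w₁ w₂ h₁ h₂ =>
    have : lam C ((B₀ ⊗[A₀] C) ⊗[B₀] M₀) (w₁ + w₂) =
        lam C ((B₀ ⊗[A₀] C) ⊗[B₀] M₀) w₁ + lam C ((B₀ ⊗[A₀] C) ⊗[B₀] M₀) w₂ := by
      ext x
      simp [add_smul]
    rw [map_add, LinearMap.add_apply, map_add, h₁, h₂, this, LinearMap.lTensor_add,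
      LinearMap.add_apply]

theorem theta_injective : Function.Injective (theta (B₀ := B₀) I M₀ C) := by
  let e₁ : (B₀ ⊗[A₀] C) ⊗[B₀] M₀ ≃ₗ[C] C ⊗[A₀] M₀ :=
    Algebra.IsPushout.cancelBaseChange A₀ C B₀ (B₀ ⊗[A₀] C) M₀
  let e₂ := AlgebraTensorModule.cancelBaseChange A₀ C C ↥(I.map (algebraMap A₀ C)) M₀
  have h : ∀ z, e₂ ((e₁.toLinearMap).lTensor _ (theta (B₀ := B₀) I M₀ C z)) = z := by
    intro z
    induction z using TensorProduct.induction_on with
    | zero => simp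
    | tmul x m =>
      rw [theta_tmul, LinearMap.lTensor_tmul]
      simp [e₁, e₂]
    | add z₁ z₂ h₁ h₂ => simp only [map_add, h₁, h₂]
  intro z₁ z₂ hz
  rw [← h z₁, ← h z₂, hz]

end Act

section Local

variable {A₀ : Type u} [CommRing A₀] (I : Ideal A₀) {B₀ : Type u} [CommRing B₀] [Algebra A₀ B₀]
  (M₀ : Type u) [AddCommGroup M₀] [Module B₀ M₀] [Module A₀ M₀] [IsScalarTower A₀ B₀ M₀]
  (C : Type u) [CommRing C] [Algebra A₀ C]
  (Q : Ideal (B₀ ⊗[A₀] C)) [Q.IsPrime]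

/-- the localization map `(B₀ ⊗ C) ⊗ M₀ → (B₀ ⊗ C)_Q ⊗ M₀` -/
noncomputable abbrev locMap :
    (B₀ ⊗[A₀] C) ⊗[B₀] M₀ →ₗ[B₀ ⊗[A₀] C] Localization.AtPrime Q ⊗[B₀] M₀ :=
  AlgebraTensorModule.rTensor B₀ M₀ (Algebra.linearMap (B₀ ⊗[A₀] C) (Localization.AtPrime Q))

/-- the comparison map of the local stage -/
noncomputable abbrev hmapQ :
    ↥I ⊗[A₀] M₀ →ₗ[A₀] ↥(I.map (algebraMap A₀ C)) ⊗[C] (Localization.AtPrime Q ⊗[B₀] M₀) :=
  Hmap A₀ B₀ C I M₀ (Localization.AtPrime Q ⊗[B₀] M₀)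
    (TensorProduct.mk B₀ (Localization.AtPrime Q) M₀ 1)

theorem hmapQ_eq (t : ↥I ⊗[A₀] M₀) :
    hmapQ I M₀ C Q t = ((locMap M₀ C Q).restrictScalars C).lTensor _
      (theta I M₀ C ((Algebra.idealMap C I).rTensor M₀ t)) := by
  induction t using TensorProduct.induction_on with
  | zero => simp
  | tmul a m =>
    rw [Hmap_tmul, LinearMap.rTensor_tmul, theta_tmul, LinearMap.lTensor_tmul]
    simp
  | add x y hx hy => simp only [map_add, hx, hy]

/-- if some `w ∉ Q` kills the image of `t` in `IC ⊗ M₀`, then the local comparison map kills `t` -/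
theorem hmapQ_eq_zero_of_act (t : ↥I ⊗[A₀] M₀) (w : B₀ ⊗[A₀] C) (hw : w ∉ Q)
    (h : act I M₀ C w ((Algebra.idealMap C I).rTensor M₀ t) = 0) : hmapQ I M₀ C Q t = 0 := by
  have hu : IsUnit (algebraMap (B₀ ⊗[A₀] C) (Localization.AtPrime Q) w) :=
    IsLocalization.map_units (Localization.AtPrime Q) (⟨w, hw⟩ : Q.primeCompl)
  apply lTensor_lam_injective (R' := C) (Localization.AtPrime Q ⊗[B₀] M₀)
    (S' := Localization.AtPrime Q) ↥(I.map (algebraMap A₀ C)) _ hu
  rw [map_zero, hmapQ_eq]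
  have hc : (lam C (Localization.AtPrime Q ⊗[B₀] M₀)
        (algebraMap (B₀ ⊗[A₀] C) (Localization.AtPrime Q) w)) ∘ₗ
      ((locMap M₀ C Q).restrictScalars C) =
      ((locMap M₀ C Q).restrictScalars C) ∘ₗ (lam C ((B₀ ⊗[A₀] C) ⊗[B₀] M₀) w) := by
    ext y
    simp only [LinearMap.comp_apply, LinearMap.restrictScalars_apply, lam_apply, map_smul,
      algebraMap_smul]
  rw [← LinearMap.comp_apply, ← LinearMap.lTensor_comp, hc, LinearMap.lTensor_comp,
    LinearMap.comp_apply, ← theta_act, h, map_zero, map_zero]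

set_option backward.isDefEq.respectTransparency false in
set_option maxHeartbeats 400000 in
/-- if `(B₀ ⊗ C)_Q ⊗ M₀` is flat over `C`, every element of the Tor kernel is killed, in
`IC ⊗ M₀`, by some `w ∉ Q` -/
theorem exists_act_eq_zero_of_flat [Module.Flat C (Localization.AtPrime Q ⊗[B₀] M₀)]
    (t : ↥I ⊗[A₀] M₀) (ht : I.subtype.rTensor M₀ t = 0) :
    ∃ w : B₀ ⊗[A₀] C, w ∉ Q ∧ act I M₀ C w ((Algebra.idealMap C I).rTensor M₀ t) = 0 := by
  -- the local comparison map kills `t`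
  have h0 : hmapQ I M₀ C Q t = 0 := by
    have hinj : Function.Injective
        ((I.map (algebraMap A₀ C)).subtype.rTensor (Localization.AtPrime Q ⊗[B₀] M₀)) :=
      Module.Flat.rTensor_preserves_injective_linearMap _ Subtype.val_injective
    apply hinj
    rw [map_zero]
    refine (jmap_eq_zero_iff (I.map (algebraMap A₀ C)) (Localization.AtPrime Q ⊗[B₀] M₀)
      (hmapQ I M₀ C Q t)).mp ?_
    have key : ∀ t : ↥I ⊗[A₀] M₀, jmap (I.map (algebraMap A₀ C))
        (Localization.AtPrime Q ⊗[B₀] M₀) (hmapQ I M₀ C Q t) =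
        (TensorProduct.mk B₀ (Localization.AtPrime Q) M₀ 1) (jmap I M₀ t) := by
      intro t
      induction t using TensorProduct.induction_on with
      | zero => simp
      | tmul a m =>
        rw [Hmap_tmul, jmap_tmul, jmap_tmul]
        simp only [Algebra.idealMap_apply_coe, TensorProduct.mk_apply, algebraMap_smul]
        rw [TensorProduct.tmul_smul]
      | add x y hx hy => simp only [map_add, hx, hy]
    rw [key, (jmap_eq_zero_iff I M₀ t).mpr ht, map_zero]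
  have h1 : ((locMap M₀ C Q).restrictScalars C).lTensor ↥(I.map (algebraMap A₀ C))
      (theta I M₀ C ((Algebra.idealMap C I).rTensor M₀ t)) = 0 :=
    (hmapQ_eq I M₀ C Q t).symm.trans h0
  haveI hloc : IsLocalizedModule Q.primeCompl (locMap M₀ C Q) := inferInstance
  have hex := loc2 (A := C) (T := B₀ ⊗[A₀] C) Q.primeCompl
    (N := (B₀ ⊗[A₀] C) ⊗[B₀] M₀) (M' := Localization.AtPrime Q ⊗[B₀] M₀) (locMap M₀ C Q)
    ↥(I.map (algebraMap A₀ C)) (theta I M₀ C ((Algebra.idealMap C I).rTensor M₀ t))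
  obtain ⟨w, hw⟩ := hex h1
  refine ⟨w.1, w.2, ?_⟩
  apply theta_injective (B₀ := B₀) I M₀ C
  rw [theta_act, map_zero]
  exact hw

end Local

end Groth.Agent.Lead.FlatLoc
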