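import Mathlib
import Groth.Agent.Lib.Lead.FlatLoc5

/-!
# Pointwise descent of flatness to a finite stage: descending the annihilator (lead)
-/

set_option autoImplicit false
set_option backward.isDefEq.respectTransparency.types false
set_option synthInstance.maxHeartbeats 400000
universe u

namespace Groth.Agent.Lead.FlatLoc

open TensorProduct Groth.Agent.Lib.Helper4.FlatBC1 Groth.Agent.Helper3.ColimFlat

attribute [local instance] Algebra.TensorProduct.rightAlgebra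

section Stage

variable {A₀ : Type u} [CommRing A₀] (I : Ideal A₀)
  {ι : Type u} [Preorder ι] (G : ι → Type u) [∀ i, CommRing (G i)]
  [∀ i, Algebra A₀ (G i)] (g : ∀ i j, i ≤ j → G i →ₐ[A₀] G j)
  (A : Type u) [CommRing A] [Algebra A₀ A] [∀ i, Algebra (G i) A] [∀ i, IsScalarTower A₀ (G i) A]
  (hcolim : FlatCA.IsDirectedColimitRing G (fun i j h => (g i j h).toRingHom) A)
  (B₀ : Type u) [CommRing B₀] [Algebra A₀ B₀]
  (M₀ : Type u) [AddCommGroup M₀] [Module A₀ M₀] [Module B₀ M₀] [IsScalarTower A₀ B₀ M₀]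

/-- the map `B₀ ⊗ G j → B₀ ⊗ A` -/
noncomputable abbrev tmap (j : ι) : B₀ ⊗[A₀] G j →ₐ[A₀] B₀ ⊗[A₀] A :=
  Algebra.TensorProduct.map (AlgHom.id A₀ B₀) (IsScalarTower.toAlgHom A₀ (G j) A)

/-- the map `B₀ ⊗ G i → B₀ ⊗ G j` -/
noncomputable abbrev tmapG (i j : ι) (h : i ≤ j) : B₀ ⊗[A₀] G i →ₐ[A₀] B₀ ⊗[A₀] G j :=
  Algebra.TensorProduct.map (AlgHom.id A₀ B₀) (g i j h)

include hcolim in
theorem toAlgHom_comp (i j : ι) (h : i ≤ j) :
    (IsScalarTower.toAlgHom A₀ (G j) A).comp (g i j h) = IsScalarTower.toAlgHom A₀ (G i) A := by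
  obtain ⟨hdir, hne, hid, hcomp, hcompat, hsurj, hker⟩ := hcolim
  ext x
  have := congrArg (fun φ : G i →+* A => φ x) (hcompat i j h)
  simpa using this

include hcolim in
theorem tmap_comp (i j : ι) (h : i ≤ j) (w : B₀ ⊗[A₀] G i) :
    tmap G A B₀ j (tmapG G g B₀ i j h w) = tmap G A B₀ i w := by
  rw [← AlgHom.comp_apply, ← Algebra.TensorProduct.map_comp, AlgHom.comp_id,
    toAlgHom_comp G g A hcolim]

include hcolim in
theorem tmapG_comp (i j k : ι) (hij : i ≤ j) (hjk : j ≤ k) (w : B₀ ⊗[A₀] G i) :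
    tmapG G g B₀ j k hjk (tmapG G g B₀ i j hij w) = tmapG G g B₀ i k (hij.trans hjk) w := by
  obtain ⟨hdir, hne, hid, hcomp, hcompat, hsurj, hker⟩ := hcolim
  rw [← AlgHom.comp_apply, ← Algebra.TensorProduct.map_comp, AlgHom.comp_id]
  congr 2
  ext x
  have := congrArg (fun φ : G i →+* G k => φ x) (hcomp i j k hij hjk)
  simpa using this

include hcolim in
/-- every element of `B₀ ⊗ A` comes from a finite stage -/
theorem exists_tmap_eq (w : B₀ ⊗[A₀] A) : ∃ (j : ι) (wj : B₀ ⊗[A₀] G j), tmap G A B₀ j wj = w := by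
  have hcolim' := hcolim
  obtain ⟨hdir, hne, hid, hcomp, hcompat, hsurj, hker⟩ := hcolim
  haveI := hdir
  induction w using TensorProduct.induction_on with
  | zero =>
    obtain ⟨i⟩ := hne
    exact ⟨i, 0, map_zero _⟩
  | tmul b a =>
    obtain ⟨i, x, rfl⟩ := hsurj a
    exact ⟨i, b ⊗ₜ x, by simp⟩
  | add w₁ w₂ h₁ h₂ =>
    obtain ⟨i₁, x₁, rfl⟩ := h₁
    obtain ⟨i₂, x₂, rfl⟩ := h₂
    obtain ⟨k, hk₁, hk₂⟩ := exists_ge_ge i₁ i₂
    refine ⟨k, tmapG G g B₀ i₁ k hk₁ x₁ + tmapG G g B₀ i₂ k hk₂ x₂, ?_⟩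
    rw [map_add, tmap_comp G g A hcolim' B₀, tmap_comp G g A hcolim' B₀]

include hcolim in
theorem idealMapHom_comp (i j k : ι) (hij : i ≤ j) (hjk : j ≤ k) :
    (idealMapHom I (g j k hjk)) ∘ₗ (idealMapHom I (g i j hij)) =
      idealMapHom I (g i k (hij.trans hjk)) := by
  obtain ⟨hdir, hne, hid, hcomp, hcompat, hsurj, hker⟩ := hcolim
  ext x
  have := congrArg (fun φ : G i →+* G k => φ x.1) (hcomp i j k hij hjk)
  simpa using this

include hcolim in
/-- **Descent of the local vanishing of the Tor comparison map**, one element at a time. -/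
theorem exists_stage_hmapQ_eq_zero (Q : Ideal (B₀ ⊗[A₀] A)) [Q.IsPrime]
    [Module.Flat A (Localization.AtPrime Q ⊗[B₀] M₀)]
    (t : ↥I ⊗[A₀] M₀) (ht : I.subtype.rTensor M₀ t = 0) :
    ∃ i, ∀ j, i ≤ j → hmapQ I M₀ (G j) (Q.comap (tmap G A B₀ j)) t = 0 := by
  obtain ⟨w, hwQ, hw⟩ := exists_act_eq_zero_of_flat I M₀ A Q t ht
  obtain ⟨j₀, w₀, rfl⟩ := exists_tmap_eq G g A hcolim B₀ w
  set z₀ := act I M₀ (G j₀) w₀ ((Algebra.idealMap (G j₀) I).rTensor M₀ t) with hz₀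
  have hz : (idealMapHom I (IsScalarTower.toAlgHom A₀ (G j₀) A)).rTensor M₀ z₀ = 0 := by
    rw [hz₀, act_natural, ← LinearMap.comp_apply (f := LinearMap.rTensor M₀ _),
      ← LinearMap.rTensor_comp, idealMapHom_comp_idealMap]
    exact hw
  obtain ⟨j₁, h01, hz1⟩ := exists_stage_vanish I G g A hcolim M₀ j₀ z₀ hz
  refine ⟨j₁, fun j hj => ?_⟩
  apply hmapQ_eq_zero_of_act I M₀ (G j) (Q.comap (tmap G A B₀ j)) t
    (tmapG G g B₀ j₀ j (h01.trans hj) w₀)
  · rw [Ideal.mem_comap, tmap_comp G g A hcolim B₀]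
    exact hwQ
  · have h1 : (idealMapHom I (g j₀ j (h01.trans hj))).rTensor M₀ z₀ = 0 := by
      rw [← idealMapHom_comp I G g A hcolim j₀ j₁ j h01 hj, LinearMap.rTensor_comp,
        LinearMap.comp_apply, hz1, map_zero]
    rw [hz₀, act_natural, ← LinearMap.comp_apply (f := LinearMap.rTensor M₀ _),
      ← LinearMap.rTensor_comp, idealMapHom_comp_idealMap] at h1
    exact h1

end Stage

end Groth.Agent.Lead.FlatLoc
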