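import Mathlib
import Groth.Agent.Lib.Lead.FlatLoc6

/-!
# Pointwise descent of flatness to a finite stage: the local stage lemma (lead)

A variant of helper3's `ColimFlat.flat_of_stage` / `flat_localization_tensor` in which the Tor
comparison map is only assumed to vanish in the localized module.
-/

set_option autoImplicit false
set_option backward.isDefEq.respectTransparency.types false
set_option synthInstance.maxHeartbeats 400000
universe u

namespace Groth.Agent.Lead.FlatLoc

open TensorProduct Groth.Agent.Lib.Helper4.FlatBC1 Groth.Agent.Helper3.ColimFlat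
  Groth.Agent.Helper1.LocalCrit

attribute [local instance] Algebra.TensorProduct.rightAlgebra

section Stage

variable (R S R' S' : Type u) [CommRing R] [CommRing S] [CommRing R'] [CommRing S']
  [Algebra R S] [Algebra R R'] [Algebra S S'] [Algebra R' S'] [Algebra R S']
  [IsScalarTower R S S'] [IsScalarTower R R' S']
  [Algebra (S ⊗[R] R') S']
  (hφ : ∀ (s : S) (r' : R'), algebraMap (S ⊗[R] R') S' (s ⊗ₜ r') =
    algebraMap S S' s * algebraMap R' S' r')
  (W : Submonoid (S ⊗[R] R')) [IsLocalization W S']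
  (I : Ideal R) (M₀ : Type u) [AddCommGroup M₀] [Module S M₀] [Module R M₀] [IsScalarTower R S M₀]
  (M' : Type u) [AddCommGroup M'] [Module S' M'] [Module R' M'] [IsScalarTower R' S' M']
  [Module S M'] [IsScalarTower S S' M'] [Module R M'] [IsScalarTower R R' M'] [IsScalarTower R S M']
  (f₀ : M₀ →ₗ[S] M') (hf₀ : IsBaseChange S' f₀)

include hφ W hf₀ in
theorem flat_of_stage' (V : Submonoid S) (hV : ∀ v ∈ V, IsUnit (algebraMap S S' v))
    (Mf : Type u) [AddCommGroup Mf] [Module S Mf] [Module R Mf] [IsScalarTower R S Mf]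
    (ℓ : M₀ →ₗ[S] Mf) [IsLocalizedModule V ℓ]
    [IsNoetherianRing R'] [IsNoetherianRing S'] [IsLocalRing S']
    [Module.Finite S M₀] [Module.Flat (R ⧸ I) ((R ⧸ I) ⊗[R] Mf)]
    (hI : (I.map (algebraMap R R')).map (algebraMap R' S') ≠ ⊤)
    (hC : ∀ t : ↥I ⊗[R] M₀, I.subtype.rTensor M₀ t = 0 → Hmap R S R' I M₀ M' f₀ t = 0) :
    Module.Flat R' M' := by
  obtain ⟨f₁, hcomp, hf₁⟩ := exists_isBaseChange_of_isLocalizedModule S' V hV ℓ f₀ hf₀
  haveI : Module.Finite S' M' := Module.Finite.equiv hf₀.equiv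
  haveI := flat_quot_M' R S R' S' hφ W I Mf M' f₁ hf₁
  have hf₁ℓ : ∀ m, f₁ (ℓ m) = f₀ m := fun m => LinearMap.congr_fun hcomp m
  have nat1 : ∀ (v : S) (z : ↥I ⊗[R] Mf), Hmap R S R' I Mf M' f₁ ((lam R Mf v).lTensor I z) =
      (lam R' M' (algebraMap S S' v)).lTensor _ (Hmap R S R' I Mf M' f₁ z) := by
    intro v z
    induction z using TensorProduct.induction_on with
    | zero => simp
    | tmul a m =>
      rw [LinearMap.lTensor_tmul, Hmap_tmul, Hmap_tmul, LinearMap.lTensor_tmul, lam_apply,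
        lam_apply, map_smul, algebraMap_smul]
    | add x y hx hy => simp only [map_add, hx, hy]
  have nat2 : ∀ t : ↥I ⊗[R] M₀, Hmap R S R' I Mf M' f₁ ((ℓ.restrictScalars R).lTensor I t) =
      Hmap R S R' I M₀ M' f₀ t := by
    intro t
    induction t using TensorProduct.induction_on with
    | zero => simp
    | tmul a m =>
      rw [LinearMap.lTensor_tmul, Hmap_tmul, Hmap_tmul]
      simp [hf₁ℓ]
    | add x y hx hy => simp only [map_add, hx, hy]
  have h3 : ∀ x : ↥I ⊗[R] Mf, (Submodule.subtype I).rTensor Mf x = 0 →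
      (TensorProduct.mapOfCompatibleSMul R' R R ↥(I.map (algebraMap R R')) M')
        ((TensorProduct.map (Algebra.idealMap R' I) (f₁.restrictScalars R)) x) = 0 := by
    intro x hx
    obtain ⟨v, t, ht0, ht⟩ := exists_smul_eq_lTensor I V ℓ x hx
    have h1 : Hmap R S R' I Mf M' f₁ ((lam R Mf (v : S)).lTensor I x) = 0 := by
      rw [← ht, nat2, hC t ht0]
    rw [nat1] at h1
    exact lTensor_lam_injective M' _ _ (hV v.1 v.2) (h1.trans (map_zero _).symm)
  exact flat_of_rTensor_injective_of_flat_quotient (S := S') (I.map (algebraMap R R')) hI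
    (main_inj R S R' S' hφ W I Mf M' f₁ hf₁ h3)

end Stage

section Loc

variable {A₀ : Type u} [CommRing A₀] (I : Ideal A₀) {B₀ : Type u} [CommRing B₀] [Algebra A₀ B₀]
  [Algebra.FiniteType A₀ B₀]
  (M₀ : Type u) [AddCommGroup M₀] [Module B₀ M₀] [Module A₀ M₀] [IsScalarTower A₀ B₀ M₀]
  [Module.Finite B₀ M₀]

theorem flat_localization_tensor' (f : A₀)
    (Mf : Type u) [AddCommGroup Mf] [Module B₀ Mf] [Module A₀ Mf] [IsScalarTower A₀ B₀ Mf]
    (ℓ : M₀ →ₗ[B₀] Mf) [IsLocalizedModule (Submonoid.powers (algebraMap A₀ B₀ f)) ℓ]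
    [Module.Flat (A₀ ⧸ I) ((A₀ ⧸ I) ⊗[A₀] Mf)]
    (C : Type u) [CommRing C] [Algebra A₀ C] [IsNoetherianRing C]
    (q : Ideal (B₀ ⊗[A₀] C)) [q.IsPrime]
    (hC : ∀ t : ↥I ⊗[A₀] M₀, I.subtype.rTensor M₀ t = 0 → hmapQ I M₀ C q t = 0)
    (hIq : I.map (algebraMap A₀ (B₀ ⊗[A₀] C)) ≤ q)
    (hfq : algebraMap A₀ (B₀ ⊗[A₀] C) f ∉ q) :
    Module.Flat C (Localization.AtPrime q ⊗[B₀] M₀) := by
  haveI := isNoetherianRing_tensor (A₀ := A₀) (B₀ := B₀) C
  haveI : IsNoetherianRing (Localization.AtPrime q) :=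
    IsLocalization.isNoetherianRing q.primeCompl _ inferInstance
  have hφ : ∀ (s : B₀) (r' : C), algebraMap (B₀ ⊗[A₀] C) (Localization.AtPrime q) (s ⊗ₜ r') =
      algebraMap B₀ (Localization.AtPrime q) s * algebraMap C (Localization.AtPrime q) r' := by
    intro s r'
    rw [IsScalarTower.algebraMap_apply B₀ (B₀ ⊗[A₀] C) (Localization.AtPrime q),
      IsScalarTower.algebraMap_apply C (B₀ ⊗[A₀] C) (Localization.AtPrime q), ← map_mul]
    congr 1
    rw [Algebra.TensorProduct.algebraMap_apply, Algebra.TensorProduct.algebraMap_eq_includeRight]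
    simp
  have hV : ∀ v ∈ Submonoid.powers (algebraMap A₀ B₀ f),
      IsUnit (algebraMap B₀ (Localization.AtPrime q) v) := by
    rintro _ ⟨n, rfl⟩
    rw [map_pow]
    apply IsUnit.pow
    rw [IsScalarTower.algebraMap_apply B₀ (B₀ ⊗[A₀] C) (Localization.AtPrime q)]
    apply IsLocalization.map_units (Localization.AtPrime q) (⟨_, ?_⟩ : q.primeCompl)
    rw [← IsScalarTower.algebraMap_apply]
    exact hfq
  refine flat_of_stage' A₀ B₀ C (Localization.AtPrime q) hφ q.primeCompl I M₀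
    (Localization.AtPrime q ⊗[B₀] M₀) (TensorProduct.mk B₀ (Localization.AtPrime q) M₀ 1)
    (TensorProduct.isBaseChange B₀ M₀ (Localization.AtPrime q))
    (Submonoid.powers (algebraMap A₀ B₀ f)) hV Mf ℓ ?_ hC
  intro htop
  have h1 : (I.map (algebraMap A₀ C)).map (algebraMap C (Localization.AtPrime q)) ≤
      IsLocalRing.maximalIdeal (Localization.AtPrime q) := by
    rw [Ideal.map_map, ← IsScalarTower.algebraMap_eq,
      IsScalarTower.algebraMap_eq A₀ (B₀ ⊗[A₀] C) (Localization.AtPrime q), ← Ideal.map_map,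
      ← Localization.AtPrime.map_eq_maximalIdeal]
    exact Ideal.map_mono hIq
  rw [htop] at h1
  exact (IsLocalRing.maximalIdeal.isMaximal _).ne_top (top_le_iff.mp h1)

end Loc

end Groth.Agent.Lead.FlatLoc
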