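import Mathlib
import Groth.Agent.Lib.Lead.FlatLoc7

/-!
# Pointwise descent of flatness to a finite stage of a directed colimit of Noetherian rings (lead)
-/

set_option autoImplicit false
set_option backward.isDefEq.respectTransparency.types false
set_option synthInstance.maxHeartbeats 400000
universe u

namespace Groth.Agent.Lead.FlatLoc

open TensorProduct Groth.Agent.Lib.Helper4.FlatBC1 Groth.Agent.Helper3.ColimFlat
  Groth.Agent.Helper1.LocalCrit

attribute [local instance] Algebra.TensorProduct.rightAlgebra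

section Lin

variable {A₀ : Type u} [CommRing A₀] (I : Ideal A₀) {B₀ : Type u} [CommRing B₀] [Algebra A₀ B₀]
  (M₀ : Type u) [AddCommGroup M₀] [Module B₀ M₀] [Module A₀ M₀] [IsScalarTower A₀ B₀ M₀]
  (C : Type u) [CommRing C] [Algebra A₀ C]
  (Q : Ideal (B₀ ⊗[A₀] C)) [Q.IsPrime]

/-- `B₀`-linearity of the local comparison map -/
theorem hmapQ_lam (b : B₀) (t : ↥I ⊗[A₀] M₀) :
    hmapQ I M₀ C Q ((lam A₀ M₀ b).lTensor I t) =
      (lam C (Localization.AtPrime Q ⊗[B₀] M₀) (algebraMap B₀ (Localization.AtPrime Q) b)).lTensor _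
        (hmapQ I M₀ C Q t) := by
  induction t using TensorProduct.induction_on with
  | zero => simp
  | tmul a m =>
    rw [LinearMap.lTensor_tmul, Hmap_tmul, Hmap_tmul, LinearMap.lTensor_tmul, lam_apply,
      lam_apply, map_smul, algebraMap_smul]
  | add x y hx hy => simp only [map_add, hx, hy]

end Lin

section Main

variable {A₀ : Type u} [CommRing A₀] [IsNoetherianRing A₀]
  {ι : Type u} [Preorder ι] (G : ι → Type u) [∀ i, CommRing (G i)]
  [∀ i, Algebra A₀ (G i)] [∀ i, IsNoetherianRing (G i)] (g : ∀ i j, i ≤ j → G i →ₐ[A₀] G j)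
  (A : Type u) [CommRing A] [Algebra A₀ A] [∀ i, Algebra (G i) A] [∀ i, IsScalarTower A₀ (G i) A]
  (hcolim : FlatCA.IsDirectedColimitRing G (fun i j h => (g i j h).toRingHom) A)
  (B₀ : Type u) [CommRing B₀] [Algebra A₀ B₀] [Algebra.FiniteType A₀ B₀]
  (M₀ : Type u) [AddCommGroup M₀] [Module A₀ M₀] [Module B₀ M₀] [IsScalarTower A₀ B₀ M₀]
  [Module.Finite B₀ M₀]

include hcolim in
/-- **Pointwise descent of flatness**: if the base change of `M₀` to the colimit `A` is flat over
`A` at a prime `Q` of `B₀ ⊗ A`, then from some stage on the base change to `G j` is flat over `G j`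
at the contraction of `Q`. -/
theorem exists_stage_flat_at (Q : Ideal (B₀ ⊗[A₀] A)) [Q.IsPrime]
    [Module.Flat A (Localization.AtPrime Q ⊗[B₀] M₀)] :
    ∃ i, ∀ j, i ≤ j →
      Module.Flat (G j) (Localization.AtPrime (Q.comap (tmap G A B₀ j)) ⊗[B₀] M₀) := by
  classical
  have hcolim' := hcolim
  obtain ⟨hdir, hne, -⟩ := hcolim
  haveI := hdir
  haveI := hne
  obtain ⟨i₀⟩ := hne
  let p₀ : Ideal A₀ := Q.comap (algebraMap A₀ (B₀ ⊗[A₀] A))
  haveI : p₀.IsPrime := Ideal.comap_isPrime _ _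
  obtain ⟨f, hfp, hflat⟩ := exists_flat_localizedModule (B₀ := B₀) M₀ p₀
  -- the Tor kernel at the base level is finitely generated
  haveI : IsNoetherianRing B₀ := Algebra.FiniteType.isNoetherianRing A₀ B₀
  haveI : Module.Finite A₀ p₀ := Module.Finite.iff_fg.mpr (IsNoetherian.noetherian p₀)
  haveI : Module.Finite B₀ (M₀ ⊗[A₀] p₀) :=
    Groth.Agent.Helper1.LocalCrit.finite_tensorProduct (R := A₀) (S := B₀) M₀ p₀
  haveI : IsNoetherian B₀ (M₀ ⊗[A₀] p₀) := isNoetherian_of_isNoetherianRing_of_finite B₀ _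
  let K : Submodule B₀ (M₀ ⊗[A₀] p₀) :=
    LinearMap.ker (TensorProduct.AlgebraTensorModule.lTensor B₀ M₀ p₀.subtype)
  obtain ⟨F, hF⟩ := (IsNoetherian.noetherian K : K.FG)
  have hFK : ∀ k ∈ F, k ∈ K := fun k hk => hF ▸ Submodule.subset_span hk
  have hcommK : ∀ k ∈ K, p₀.subtype.rTensor M₀ (TensorProduct.comm A₀ M₀ p₀ k) = 0 := by
    intro k hk
    have hk' : p₀.subtype.lTensor M₀ k = 0 := hk
    apply (TensorProduct.comm A₀ A₀ M₀).injective
    rw [comm_rTensor, map_zero]
    have : TensorProduct.comm A₀ p₀ M₀ (TensorProduct.comm A₀ M₀ p₀ k) = k :=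
      (TensorProduct.comm A₀ M₀ p₀).symm_apply_apply k
    rw [this]
    exact hk'
  have key : ∀ k ∈ K, ∃ i, ∀ j, i ≤ j →
      hmapQ p₀ M₀ (G j) (Q.comap (tmap G A B₀ j)) (TensorProduct.comm A₀ M₀ p₀ k) = 0 :=
    fun k hk => exists_stage_hmapQ_eq_zero p₀ G g A hcolim' B₀ M₀ Q _ (hcommK k hk)
  let J : M₀ ⊗[A₀] p₀ → ι := fun k => if h : k ∈ K then (key k h).choose else i₀
  obtain ⟨i, hi⟩ := Finset.exists_le (F.image J)
  refine ⟨i, fun j hij => ?_⟩
  -- the comparison map at stage `j` kills the whole Tor kernel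
  have hcs : ∀ (b : B₀) (x : M₀ ⊗[A₀] p₀), TensorProduct.comm A₀ M₀ p₀ (b • x) =
      (lam A₀ M₀ b).lTensor p₀ (TensorProduct.comm A₀ M₀ p₀ x) := by
    intro b x
    induction x using TensorProduct.induction_on with
    | zero => simp
    | tmul m a => simp [TensorProduct.smul_tmul']
    | add x y hx hy => simp only [smul_add, map_add, hx, hy]
  have hall : ∀ k ∈ K,
      hmapQ p₀ M₀ (G j) (Q.comap (tmap G A B₀ j)) (TensorProduct.comm A₀ M₀ p₀ k) = 0 := by
    intro k hk
    rw [← hF] at hk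
    induction hk using Submodule.span_induction with
    | mem k hk =>
      have h1 := (key k (hFK k hk)).choose_spec
      have h2 : J k = (key k (hFK k hk)).choose := by simp only [J, dif_pos (hFK k hk)]
      exact h1 j ((h2 ▸ hi _ (Finset.mem_image_of_mem J hk)).trans hij)
    | zero => simp
    | add x y _ _ hx hy => rw [map_add, map_add, hx, hy, add_zero]
    | smul b x _ hx => rw [hcs, hmapQ_lam, hx, map_zero]
  have hC : ∀ t : ↥p₀ ⊗[A₀] M₀, p₀.subtype.rTensor M₀ t = 0 →
      hmapQ p₀ M₀ (G j) (Q.comap (tmap G A B₀ j)) t = 0 := by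
    intro t ht
    have htK : (TensorProduct.comm A₀ p₀ M₀) t ∈ K := by
      show p₀.subtype.lTensor M₀ (TensorProduct.comm A₀ p₀ M₀ t) = 0
      rw [← comm_rTensor, ht, map_zero]
    have := hall _ htK
    rwa [show TensorProduct.comm A₀ M₀ p₀ (TensorProduct.comm A₀ p₀ M₀ t) = t from
      (TensorProduct.comm A₀ p₀ M₀).symm_apply_apply t] at this
  haveI := hflat (LocalizedModule (Submonoid.powers (algebraMap A₀ B₀ f)) M₀)
    (LocalizedModule.mkLinearMap (Submonoid.powers (algebraMap A₀ B₀ f)) M₀)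
  refine flat_localization_tensor' p₀ M₀ f
    (LocalizedModule (Submonoid.powers (algebraMap A₀ B₀ f)) M₀)
    (LocalizedModule.mkLinearMap (Submonoid.powers (algebraMap A₀ B₀ f)) M₀) (G j)
    (Q.comap (tmap G A B₀ j)) hC ?_ ?_
  · rw [Ideal.map_le_iff_le_comap]
    intro x hx
    rw [Ideal.mem_comap, Ideal.mem_comap, AlgHom.commutes]
    exact hx
  · rw [Ideal.mem_comap, AlgHom.commutes]
    exact hfp

end Main

end Groth.Agent.Lead.FlatLoc
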