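import Mathlib
import Groth.Agent.Lib.Lead.FlatLoc8
import Groth.Agent.Lib.Lead.FlatLoc4
import Groth.Agent.Lib.Helper7.FlatAtBC.Main

/-!
# Openness of the flat locus: base change at a point, and the two forms of flatness at a prime (lead)
-/

set_option autoImplicit false
set_option backward.isDefEq.respectTransparency.types false
set_option synthInstance.maxHeartbeats 400000
universe u

namespace Groth.Agent.Lead.FlatLoc

open TensorProduct

attribute [local instance] Algebra.TensorProduct.rightAlgebra

section BC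

/-- **Base change of flatness at a point** (pointwise form of helper7's `FlatAtBC.main`). -/
theorem flat_localizedModule_of_isBaseChange {R S R' S' : Type u} [CommRing R] [CommRing S]
    [CommRing R'] [CommRing S']
    [Algebra R S] [Algebra R R'] [Algebra S S'] [Algebra R' S'] [Algebra R S'] [IsScalarTower R S S']
    [IsScalarTower R R' S'] [Algebra.IsPushout R S R' S']
    {M M' : Type u} [AddCommGroup M] [Module S M] [Module R M] [IsScalarTower R S M]
    [AddCommGroup M'] [Module S' M'] [Module R' M'] [IsScalarTower R' S' M'] [Module S M']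
    [IsScalarTower S S' M']
    (f : M →ₗ[S] M') (hf : IsBaseChange S' f) (q' : Ideal S') [q'.IsPrime]
    (hflat : Module.Flat R (LocalizedModule (q'.comap (algebraMap S S')).primeCompl M)) :
    Module.Flat R' (LocalizedModule q'.primeCompl M') := by
  let q : Ideal S := q'.comap (algebraMap S S')
  haveI : q.IsPrime := Ideal.comap_isPrime _ _
  let N := LocalizedModule q.primeCompl M
  haveI : Algebra.IsPushout R R' S S' := Algebra.IsPushout.symm inferInstance
  have hflat2 : Module.Flat R' (S' ⊗[S] N) :=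
    Module.Flat.of_linearEquiv (Algebra.IsPushout.cancelBaseChange R R' S S' N)
  let T₀ : Submonoid S' := Algebra.algebraMapSubmonoid S' q.primeCompl
  let f₁ : M' →ₗ[S'] S' ⊗[S] N :=
    (AlgebraTensorModule.lTensor S' S' (LocalizedModule.mkLinearMap q.primeCompl M)) ∘ₗ
      hf.equiv.symm.toLinearMap
  haveI : IsLocalizedModule q.primeCompl (f₁.restrictScalars S) := by
    have h3 : f₁.restrictScalars S = ((LocalizedModule.mkLinearMap q.primeCompl M).lTensor S') ∘ₗ
        (hf.equiv.symm.restrictScalars S).toLinearMap := by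
      ext; rfl
    rw [h3]
    haveI := Groth.Agent.Helper7.FlatAtBC.isLocalizedModule_lTensor q.primeCompl
      (LocalizedModule.mkLinearMap q.primeCompl M) S'
    infer_instance
  haveI : IsLocalizedModule T₀ f₁ := IsLocalizedModule.of_restrictScalars q.primeCompl f₁
  have hle : T₀ ≤ q'.primeCompl := by
    rintro _ ⟨x, hx, rfl⟩
    exact hx
  let g := IsLocalizedModule.liftOfLE T₀ q'.primeCompl hle f₁
    (LocalizedModule.mkLinearMap q'.primeCompl M')
  exact Groth.Agent.Helper7.FlatAtBC.flat_of_isLocalizedModule (A := R') (B := S') q'.primeCompl g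

end BC

section Forms

variable {A₀ : Type u} [CommRing A₀] {B₀ : Type u} [CommRing B₀] [Algebra A₀ B₀]
  (M₀ : Type u) [AddCommGroup M₀] [Module B₀ M₀] [Module A₀ M₀] [IsScalarTower A₀ B₀ M₀]
  (C : Type u) [CommRing C] [Algebra A₀ C]
  (Q : Ideal (B₀ ⊗[A₀] C)) [Q.IsPrime]

/-- the two forms of the localized base change are isomorphic over `C` -/
noncomputable def localizedModuleEquiv :
    LocalizedModule Q.primeCompl ((B₀ ⊗[A₀] C) ⊗[B₀] M₀) ≃ₗ[C]
      Localization.AtPrime Q ⊗[B₀] M₀ :=
  (IsLocalizedModule.iso Q.primeCompl (locMap M₀ C Q)).restrictScalars C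

theorem flat_localizedModule_iff :
    Module.Flat C (LocalizedModule Q.primeCompl ((B₀ ⊗[A₀] C) ⊗[B₀] M₀)) ↔
      Module.Flat C (Localization.AtPrime Q ⊗[B₀] M₀) :=
  ⟨fun _ => Module.Flat.of_linearEquiv (localizedModuleEquiv M₀ C Q).symm,
    fun _ => Module.Flat.of_linearEquiv (localizedModuleEquiv M₀ C Q)⟩

/-- `B₀ ⊗ C` is of finite type over `C` (for the right algebra structure) -/
theorem finiteType_tensor_right [Algebra.FiniteType A₀ B₀] : Algebra.FiniteType C (B₀ ⊗[A₀] C) := by
  haveI : Algebra.FiniteType C (C ⊗[A₀] B₀) := inferInstance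
  let e : C ⊗[A₀] B₀ ≃ₐ[C] B₀ ⊗[A₀] C :=
    AlgEquiv.ofRingEquiv (f := (Algebra.TensorProduct.comm A₀ C B₀).toRingEquiv) (by
      intro c
      simp [Algebra.TensorProduct.algebraMap_eq_includeRight])
  exact Algebra.FiniteType.equiv inferInstance e

/-- openness of the flat locus at a Noetherian stage, in tensor form -/
theorem isOpen_flatLocus_stage [IsNoetherianRing C] [Algebra.FiniteType A₀ B₀]
    [Module.Finite B₀ M₀] :
    IsOpen {Q : PrimeSpectrum (B₀ ⊗[A₀] C) | Module.Flat C
      (LocalizedModule Q.asIdeal.primeCompl ((B₀ ⊗[A₀] C) ⊗[B₀] M₀))} := by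
  haveI := finiteType_tensor_right (A₀ := A₀) (B₀ := B₀) C
  exact isOpen_flatLocus_of_isNoetherianRing (A := C) (B := B₀ ⊗[A₀] C) ((B₀ ⊗[A₀] C) ⊗[B₀] M₀)

end Forms

end Groth.Agent.Lead.FlatLoc
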