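import Mathlib
import Groth.Agent.Lib.Lead.FlatLoc9

/-!
# Openness of the flat locus: transfer of a model to an intermediate ring (lead)

A variant of helper3's `ColimFlat.transfer` for the tensor product `S₂ ⊗[R₂] R₃`.
-/

set_option autoImplicit false
set_option backward.isDefEq.respectTransparency.types false
set_option synthInstance.maxHeartbeats 400000
universe u

namespace Groth.Agent.Lead.FlatLoc

open TensorProduct

attribute [local instance] Algebra.TensorProduct.rightAlgebra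

section Transfer

variable (R₂ R₃ R S₂ S : Type u) [CommRing R₂] [CommRing R₃] [CommRing R] [CommRing S₂] [CommRing S]
  [Algebra R₂ R₃] [Algebra R₃ R] [Algebra R₂ R] [IsScalarTower R₂ R₃ R]
  [Algebra R₂ S₂] [Algebra R S] [Algebra S₂ S] [Algebra R₂ S] [Algebra R₃ S]
  [IsScalarTower R₂ R S] [IsScalarTower R₂ S₂ S] [IsScalarTower R₃ R S] [IsScalarTower R₂ R₃ S]
  [Algebra.IsPushout R₂ R S₂ S]
  (M₂ M : Type u) [AddCommGroup M₂] [Module S₂ M₂] [AddCommGroup M] [Module S M] [Module S₂ M]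
  [IsScalarTower S₂ S M] (h₃ : M₂ →ₗ[S₂] M) (hh₃ : IsBaseChange S h₃)

/-- the algebra hom `S₂ ⊗ R₃ → S` -/
noncomputable abbrev tensorHom : S₂ ⊗[R₂] R₃ →ₐ[R₂] S :=
  Algebra.TensorProduct.lift (IsScalarTower.toAlgHom R₂ S₂ S) (IsScalarTower.toAlgHom R₂ R₃ S)
    (fun _ _ => Commute.all _ _)

/-- the algebra structure of `S` over `S₂ ⊗ R₃` -/
@[reducible] noncomputable def algTensor' : Algebra (S₂ ⊗[R₂] R₃) S :=
  (tensorHom R₂ R₃ S₂ S).toRingHom.toAlgebra

include hh₃ in
theorem transfer' :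
    letI := algTensor' R₂ R₃ S₂ S
    ∃ (_ : IsScalarTower R₃ (S₂ ⊗[R₂] R₃) S) (_ : Module (S₂ ⊗[R₂] R₃) M)
      (_ : IsScalarTower (S₂ ⊗[R₂] R₃) S M) (f : (S₂ ⊗[R₂] R₃) ⊗[S₂] M₂ →ₗ[S₂ ⊗[R₂] R₃] M),
      Algebra.IsPushout R₃ R (S₂ ⊗[R₂] R₃) S ∧ IsBaseChange S f := by
  letI := algTensor' R₂ R₃ S₂ S
  have hmap : ∀ (s : S₂) (r : R₃), algebraMap (S₂ ⊗[R₂] R₃) S (s ⊗ₜ r) =
      algebraMap S₂ S s * algebraMap R₃ S r := fun s r => by
    show (tensorHom R₂ R₃ S₂ S) (s ⊗ₜ r) = _
    simp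
  haveI t1 : IsScalarTower R₃ (S₂ ⊗[R₂] R₃) S := IsScalarTower.of_algebraMap_eq (fun r => by
    rw [Algebra.TensorProduct.algebraMap_eq_includeRight]
    show _ = algebraMap (S₂ ⊗[R₂] R₃) S ((1 : S₂) ⊗ₜ r)
    rw [hmap, map_one, one_mul])
  haveI t2 : IsScalarTower S₂ (S₂ ⊗[R₂] R₃) S := IsScalarTower.of_algebraMap_eq (fun s => by
    rw [Algebra.TensorProduct.algebraMap_apply, hmap, map_one, mul_one,
      Algebra.algebraMap_self_apply])
  haveI t3 : IsScalarTower R₂ (S₂ ⊗[R₂] R₃) S := IsScalarTower.of_algebraMap_eq (fun r => by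
    rw [IsScalarTower.algebraMap_apply R₂ S₂ (S₂ ⊗[R₂] R₃),
      ← IsScalarTower.algebraMap_apply S₂ (S₂ ⊗[R₂] R₃) S, ← IsScalarTower.algebraMap_apply])
  letI m1 : Module (S₂ ⊗[R₂] R₃) M := Module.compHom M (algebraMap (S₂ ⊗[R₂] R₃) S)
  haveI t4 : IsScalarTower (S₂ ⊗[R₂] R₃) S M := IsScalarTower.of_compHom _ _ _
  haveI t5 : IsScalarTower S₂ (S₂ ⊗[R₂] R₃) M := IsScalarTower.of_algebraMap_smul (fun s x => by
    show algebraMap (S₂ ⊗[R₂] R₃) S (algebraMap S₂ (S₂ ⊗[R₂] R₃) s) • x = s • x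
    rw [← IsScalarTower.algebraMap_apply, algebraMap_smul])
  have hb := TensorProduct.isBaseChange S₂ M₂ (S₂ ⊗[R₂] R₃)
  refine ⟨t1, m1, t4, hb.lift h₃, ?_, ?_⟩
  · exact (Algebra.IsPushout.comp_iff R₂ R₃ S₂ (S₂ ⊗[R₂] R₃) (T := R) (T' := S)).mp inferInstance
  · apply IsBaseChange.of_comp hb
    rw [hb.lift_comp]
    exact hh₃

end Transfer

section Top

variable (R₂ R S₂ S : Type u) [CommRing R₂] [CommRing R] [CommRing S₂] [CommRing S]
  [Algebra R₂ R] [Algebra R₂ S₂] [Algebra R S] [Algebra S₂ S] [Algebra R₂ S]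
  [IsScalarTower R₂ R S] [IsScalarTower R₂ S₂ S] [Algebra.IsPushout R₂ R S₂ S]
  (M₂ M : Type u) [AddCommGroup M₂] [Module S₂ M₂] [AddCommGroup M] [Module S M] [Module S₂ M]
  [IsScalarTower S₂ S M] [Module R M] [IsScalarTower R S M]
  (h₃ : M₂ →ₗ[S₂] M) (hh₃ : IsBaseChange S h₃) (q : Ideal S) [q.IsPrime]

theorem tensorHom_bijective : Function.Bijective (tensorHom R₂ R S₂ S) := by
  haveI : Algebra.IsPushout R₂ S₂ R S := Algebra.IsPushout.symm inferInstance
  have h : ∀ x, tensorHom R₂ R S₂ S x = Algebra.IsPushout.equiv R₂ S₂ R S x := by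
    intro x
    induction x using TensorProduct.induction_on with
    | zero => simp
    | tmul s r => rw [Algebra.IsPushout.equiv_tmul]; simp
    | add x y hx hy => simp only [map_add, hx, hy]
  have : (tensorHom R₂ R S₂ S : S₂ ⊗[R₂] R → S) = Algebra.IsPushout.equiv R₂ S₂ R S :=
    funext h
  rw [this]
  exact (Algebra.IsPushout.equiv R₂ S₂ R S).bijective

include hh₃ in
/-- flatness at `q` in terms of the model, via the local ring of `S` at `q` -/
theorem flat_localizedModule_iff_tensor :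
    Module.Flat R (LocalizedModule q.primeCompl M) ↔
      Module.Flat R (Localization.AtPrime q ⊗[S₂] M₂) := by
  let f : M₂ →ₗ[S₂] LocalizedModule q.primeCompl M :=
    ((LocalizedModule.mkLinearMap q.primeCompl M).restrictScalars S₂) ∘ₗ h₃
  have hf : IsBaseChange (Localization.AtPrime q) f :=
    IsBaseChange.comp hh₃ (IsLocalizedModule.isBaseChange q.primeCompl (Localization.AtPrime q)
      (LocalizedModule.mkLinearMap q.primeCompl M))
  let e : Localization.AtPrime q ⊗[S₂] M₂ ≃ₗ[R] LocalizedModule q.primeCompl M :=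
    hf.equiv.restrictScalars R
  exact ⟨fun _ => Module.Flat.of_linearEquiv e, fun _ => Module.Flat.of_linearEquiv e.symm⟩

/-- the local ring of `S₂ ⊗ R` at the contraction of `q` gives the same module as the local ring
of `S` at `q` -/
theorem flat_tensor_localization_iff :
    Module.Flat R (Localization.AtPrime q ⊗[S₂] M₂) ↔
      Module.Flat R (Localization.AtPrime (q.comap (tensorHom R₂ R S₂ S)) ⊗[S₂] M₂) := by
  let e₀ : (S₂ ⊗[R₂] R) ≃+* S :=
    RingEquiv.ofBijective (tensorHom R₂ R S₂ S) (tensorHom_bijective R₂ R S₂ S)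
  let Q : Ideal (S₂ ⊗[R₂] R) := q.comap (tensorHom R₂ R S₂ S)
  have hmap : Q.primeCompl.map e₀.toMonoidHom = q.primeCompl := by
    ext x
    constructor
    · rintro ⟨y, hy, rfl⟩
      exact hy
    · intro hx
      refine ⟨e₀.symm x, ?_, e₀.apply_symm_apply x⟩
      show e₀.symm x ∉ Q
      intro hmem
      apply hx
      have : tensorHom R₂ R S₂ S (e₀.symm x) ∈ q := hmem
      rwa [show tensorHom R₂ R S₂ S (e₀.symm x) = x from e₀.apply_symm_apply x] at this
  let φ : Localization.AtPrime Q ≃+* Localization.AtPrime q :=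
    IsLocalization.ringEquivOfRingEquiv (Localization.AtPrime Q) (Localization.AtPrime q) e₀ hmap
  have hφ : ∀ x : S₂ ⊗[R₂] R, φ (algebraMap _ (Localization.AtPrime Q) x) =
      algebraMap S (Localization.AtPrime q) (tensorHom R₂ R S₂ S x) := by
    intro x
    exact IsLocalization.ringEquivOfRingEquiv_eq _ _
  have hφS₂ : ∀ (s : S₂) (l : Localization.AtPrime Q), φ (s • l) = s • φ l := by
    intro s l
    rw [Algebra.smul_def, Algebra.smul_def, map_mul,
      IsScalarTower.algebraMap_apply S₂ (S₂ ⊗[R₂] R) (Localization.AtPrime Q), hφ,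
      IsScalarTower.algebraMap_apply S₂ S (Localization.AtPrime q)]
    congr 2
    rw [Algebra.TensorProduct.algebraMap_apply]
    simp
  have hφR : ∀ (r : R) (l : Localization.AtPrime Q), φ (r • l) = r • φ l := by
    intro r l
    rw [Algebra.smul_def, Algebra.smul_def, map_mul,
      IsScalarTower.algebraMap_apply R (S₂ ⊗[R₂] R) (Localization.AtPrime Q), hφ,
      IsScalarTower.algebraMap_apply R S (Localization.AtPrime q)]
    congr 2
    rw [Algebra.TensorProduct.algebraMap_eq_includeRight]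
    simp
  let φl : Localization.AtPrime Q ≃ₗ[S₂] Localization.AtPrime q :=
    { φ.toAddEquiv with map_smul' := hφS₂ }
  let E₀ : Localization.AtPrime Q ⊗[S₂] M₂ ≃ₗ[S₂] Localization.AtPrime q ⊗[S₂] M₂ :=
    TensorProduct.congr φl (LinearEquiv.refl S₂ M₂)
  have hE : ∀ (r : R) (x : Localization.AtPrime Q ⊗[S₂] M₂), E₀ (r • x) = r • E₀ x := by
    intro r x
    induction x using TensorProduct.induction_on with
    | zero => simp
    | tmul l m =>
      rw [TensorProduct.smul_tmul']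
      simp only [E₀, TensorProduct.congr_tmul, LinearEquiv.refl_apply]
      rw [TensorProduct.smul_tmul']
      congr 1
      exact hφR r l
    | add x y hx hy => simp only [smul_add, map_add, hx, hy]
  let E : Localization.AtPrime Q ⊗[S₂] M₂ ≃ₗ[R] Localization.AtPrime q ⊗[S₂] M₂ :=
    { E₀.toAddEquiv with map_smul' := hE }
  exact ⟨fun _ => Module.Flat.of_linearEquiv E, fun _ => Module.Flat.of_linearEquiv E.symm⟩

end Top

end Groth.Agent.Lead.FlatLoc
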