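import Mathlib
import Groth.Agent.Lib.Lead.FlatLoc10
import Groth.Agent.Lib.Helper3.ColimFlat10

/-!
# Openness of the flat locus for finitely presented modules over finitely presented algebras (lead)
-/

set_option autoImplicit false
set_option backward.isDefEq.respectTransparency.types false
set_option synthInstance.maxHeartbeats 400000
universe u

namespace Groth.Agent.Lead.FlatLoc

open TensorProduct Groth.Agent.Helper3.ColimFlat

attribute [local instance] Algebra.TensorProduct.rightAlgebra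

set_option backward.isDefEq.respectTransparency false in
set_option maxHeartbeats 1000000 in
/-- openness of the flat locus, given a model over a Noetherian ring -/
theorem isOpen_flatLocus_of_model (R₂ R S₂ S : Type u) [CommRing R₂] [CommRing R] [CommRing S₂]
    [CommRing S] [IsNoetherianRing R₂]
    [Algebra R₂ R] [Algebra R₂ S₂] [Algebra.FiniteType R₂ S₂] [Algebra R S] [Algebra S₂ S]
    [Algebra R₂ S] [IsScalarTower R₂ R S] [IsScalarTower R₂ S₂ S] [Algebra.IsPushout R₂ R S₂ S]
    (M₂ M : Type u) [AddCommGroup M₂] [Module S₂ M₂] [Module R₂ M₂] [IsScalarTower R₂ S₂ M₂]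
    [Module.Finite S₂ M₂] [AddCommGroup M] [Module S M] [Module S₂ M]
    [IsScalarTower S₂ S M] [Module R M] [IsScalarTower R S M]
    (h₃ : M₂ →ₗ[S₂] M) (hbc : IsBaseChange S h₃) :
    IsOpen {q : PrimeSpectrum S | Module.Flat R (LocalizedModule q.asIdeal.primeCompl M)} := by
  haveI : ∀ i : FGSub R₂ R, IsNoetherianRing ↥i.1 := isNoetherianRing_fgSub R₂ R
  rw [isOpen_iff_forall_mem_open]
  intro q hq
  haveI := q.isPrime
  -- flatness at the top level, in tensor form
  have h1 : Module.Flat R (Localization.AtPrime q.asIdeal ⊗[S₂] M₂) :=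
    (flat_localizedModule_iff_tensor R S₂ S M₂ M h₃ hbc q.asIdeal).mp hq
  have h2 : Module.Flat R
      (Localization.AtPrime (q.asIdeal.comap (tensorHom R₂ R S₂ S)) ⊗[S₂] M₂) :=
    (flat_tensor_localization_iff R₂ R S₂ S M₂ q.asIdeal).mp h1
  -- descend to a finite stage
  obtain ⟨i, hi⟩ := exists_stage_flat_at (fun i : FGSub R₂ R => ↥i.1)
    (fun i j h => Subalgebra.inclusion (show i.1 ≤ j.1 from h)) R
    (isDirectedColimitRing_fgSub R₂ R) S₂ M₂ (q.asIdeal.comap (tensorHom R₂ R S₂ S))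
  have h3 := hi i le_rfl
  have h4 := (flat_localizedModule_iff M₂ ↥i.1 _).mpr h3
  have key : ∀ (P P' : Ideal (S₂ ⊗[R₂] ↥i.1)) [P.IsPrime] [P'.IsPrime], P = P' →
      Module.Flat ↥i.1 (LocalizedModule P.primeCompl ((S₂ ⊗[R₂] ↥i.1) ⊗[S₂] M₂)) →
      Module.Flat ↥i.1 (LocalizedModule P'.primeCompl ((S₂ ⊗[R₂] ↥i.1) ⊗[S₂] M₂)) := by
    intro P P' _ _ h
    subst h
    exact id
  have hopen := isOpen_flatLocus_stage (A₀ := R₂) (B₀ := S₂) M₂ ↥i.1
  -- the structure of `S` over the stage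
  letI := algTensor' R₂ ↥i.1 S₂ S
  obtain ⟨t1, m1, t4, f, hpush₃, hbc₃⟩ := transfer' R₂ ↥i.1 R S₂ S M₂ M h₃ hbc
  have hcomp : (tensorHom R₂ R S₂ S).comp
      (tmap (fun i : FGSub R₂ R => ↥i.1) R S₂ i) = tensorHom R₂ ↥i.1 S₂ S := by
    apply Algebra.TensorProduct.ext'
    intro s x
    simp [IsScalarTower.algebraMap_apply ↥i.1 R S]
  have hQ : (q.asIdeal.comap (tensorHom R₂ R S₂ S)).comap
      (tmap (fun i : FGSub R₂ R => ↥i.1) R S₂ i) =
      (PrimeSpectrum.comap (algebraMap (S₂ ⊗[R₂] ↥i.1) S) q).asIdeal := by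
    ext x
    simp only [PrimeSpectrum.comap_asIdeal, Ideal.mem_comap]
    rw [← AlgHom.comp_apply, hcomp]
    rfl
  refine ⟨(PrimeSpectrum.comap (algebraMap (S₂ ⊗[R₂] ↥i.1) S)) ⁻¹' _, ?_,
    hopen.preimage (PrimeSpectrum.continuous_comap (algebraMap (S₂ ⊗[R₂] ↥i.1) S)), ?_⟩
  · intro q' hq'
    haveI := q'.isPrime
    haveI : Algebra.IsPushout (↥i.1) (S₂ ⊗[R₂] ↥i.1) R S := hpush₃.symm
    exact flat_localizedModule_of_isBaseChange f hbc₃ q'.asIdeal hq'
  · rw [Set.mem_preimage, Set.mem_setOf_eq]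
    have h5 := key _ _ hQ
    have h6 := h5 h4
    exact h6

/-- **Openness of the flat locus**: for a finitely presented `R`-algebra `S` and a finitely
presented `S`-module `M`, the set of primes `q` of `S` such that `M_q` is flat over `R` is open. -/
theorem isOpen_flatLocus_of_finitePresentation {R S M : Type u} [CommRing R] [CommRing S]
    [Algebra R S] [Algebra.FinitePresentation R S] [AddCommGroup M] [Module S M] [Module R M]
    [IsScalarTower R S M] [Module.FinitePresentation S M] :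
    IsOpen {q : PrimeSpectrum S | Module.Flat R (LocalizedModule q.asIdeal.primeCompl M)} := by
  obtain ⟨R₂, hR₂, S₂, _, _, _, _, M₂, _, _, _, _, h₃, hfp, hfin, hpush, hbc⟩ := exists_model R S M
  haveI : Algebra.FiniteType ℤ R₂ := (Subalgebra.fg_iff_finiteType R₂).mp hR₂
  haveI : IsNoetherianRing R₂ := Algebra.FiniteType.isNoetherianRing ℤ R₂
  letI : Module R₂ M₂ := Module.compHom M₂ (algebraMap R₂ S₂)
  haveI : IsScalarTower R₂ S₂ M₂ := IsScalarTower.of_compHom _ _ _
  exact isOpen_flatLocus_of_model ↥R₂ R S₂ S M₂ M h₃ hbc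

end Groth.Agent.Lead.FlatLoc
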