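import Mathlib
import Groth.Agent.Lib.Lead.FlatLoc11

/-!
# Flatness of a localization in terms of the primes of a larger algebra (lead)
-/

set_option autoImplicit false
set_option backward.isDefEq.respectTransparency.types false
set_option synthInstance.maxHeartbeats 400000
universe u

namespace Groth.Agent.Lead.FlatLoc

open TensorProduct

section Kernel

variable {A C : Type u} [CommRing A] [CommRing C] [Algebra A C]
variable (M : Type u) [AddCommGroup M] [Module A M] [Module C M] [IsScalarTower A C M]

/-- an element of the kernel of `M ⊗ p → M` is killed by some element outside `r`, if `M_r` is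
flat -/
theorem exists_smul_eq_zero_of_flat (p : Ideal A) (r : Ideal C) [r.IsPrime]
    [Module.Flat A (LocalizedModule r.primeCompl M)]
    (x : M ⊗[A] p) (hx : phi (A := A) (B := C) M p x = 0) : ∃ t : C, t ∉ r ∧ t • x = 0 := by
  have hinj : Function.Injective (phi (A := A) (B := C) (LocalizedModule r.primeCompl M) p) := by
    rw [← rTensor_injective_iff]
    exact Module.Flat.rTensor_preserves_injective_linearMap _ Subtype.val_injective
  let l := AlgebraTensorModule.rTensor A p (LocalizedModule.mkLinearMap r.primeCompl M)
  let l' := AlgebraTensorModule.rTensor A A (LocalizedModule.mkLinearMap r.primeCompl M)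
  have hcomm : ∀ x, phi (A := A) (B := C) (LocalizedModule r.primeCompl M) p (l x) =
      l' (phi (A := A) (B := C) M p x) := by
    intro x
    induction x using TensorProduct.induction_on with
    | zero => simp
    | tmul m a => rfl
    | add x y hx hy => simp only [map_add, hx, hy]
  have h0 : l x = 0 := by
    apply hinj
    rw [hcomm, hx, map_zero, map_zero]
  obtain ⟨c, hc⟩ := (IsLocalizedModule.eq_zero_iff r.primeCompl l).mp h0
  exact ⟨c.1, c.2, hc⟩

/-- **Flatness of a localization from flatness at the primes of its support.** -/
theorem flat_localizedModule_of_forall_prime (T₀ : Submonoid C)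
    (H : ∀ (r : Ideal C) [r.IsPrime], Disjoint (r : Set C) (T₀ : Set C) →
      Module.Flat A (LocalizedModule r.primeCompl M)) :
    Module.Flat A (LocalizedModule T₀ M) := by
  rw [Module.Flat.iff_rTensor_injective']
  intro p
  rw [rTensor_injective_iff (A := A) (B := C) M p T₀, injective_iff_map_eq_zero]
  intro x hx
  let l := AlgebraTensorModule.rTensor A p (LocalizedModule.mkLinearMap T₀ M)
  let l' := AlgebraTensorModule.rTensor A A (LocalizedModule.mkLinearMap T₀ M)
  have hcomm : ∀ x, phi (A := A) (B := C) (LocalizedModule T₀ M) p (l x) =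
      l' (phi (A := A) (B := C) M p x) := by
    intro x
    induction x using TensorProduct.induction_on with
    | zero => simp
    | tmul m a => rfl
    | add x y hx hy => simp only [map_add, hx, hy]
  obtain ⟨⟨y, t⟩, hy⟩ := IsLocalizedModule.surj T₀ l x
  have hy' : t.1 • x = l y := hy
  have h1 : l' (phi (A := A) (B := C) M p y) = 0 := by
    rw [← hcomm, ← hy', map_smul, hx, smul_zero]
  obtain ⟨c, hc⟩ := (IsLocalizedModule.eq_zero_iff T₀ l').mp h1
  have hc' : phi (A := A) (B := C) M p (c.1 • y) = 0 := by
    rw [map_smul]; exact hc
  -- the annihilator of `c • y`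
  let J : Ideal C := (Submodule.span C {c.1 • y}).annihilator
  have hJ : ∀ s : C, s ∈ J ↔ s • (c.1 • y) = 0 := by
    intro s
    rw [Submodule.mem_annihilator_span_singleton]
  have hly : l y = 0 := by
    by_cases hdisj : Disjoint (J : Set C) (T₀ : Set C)
    · exfalso
      obtain ⟨r, hr, hJr, hrT⟩ := Ideal.exists_le_prime_disjoint J T₀ hdisj
      haveI := hr
      haveI := H r hrT
      obtain ⟨s, hsr, hs⟩ := exists_smul_eq_zero_of_flat M p r (c.1 • y) hc'
      exact hsr (hJr ((hJ s).mpr hs))
    · rw [Set.not_disjoint_iff] at hdisj
      obtain ⟨s, hsJ, hsT⟩ := hdisj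
      rw [IsLocalizedModule.eq_zero_iff T₀ l]
      refine ⟨⟨s * c.1, T₀.mul_mem hsT c.2⟩, ?_⟩
      show (s * c.1) • y = 0
      rw [mul_smul]
      exact (hJ s).mp hsJ
  have h4 : t.1 • x = 0 := by rw [hy', hly]
  have hu := IsLocalizedModule.map_units l t
  have : (algebraMap C (Module.End C _) t.1) x = 0 := h4
  exact (Module.End.isUnit_iff _ |>.mp hu).injective (by rw [this, map_zero])

/-- flatness of a localization passes to further localizations at primes -/
theorem flat_localizedModule_prime_of_le (T₀ : Submonoid C) (r : Ideal C) [r.IsPrime]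
    (h : T₀ ≤ r.primeCompl) [Module.Flat A (LocalizedModule T₀ M)] :
    Module.Flat A (LocalizedModule r.primeCompl M) :=
  Groth.Agent.Lead.FO.flat_of_isLocalizedModule_algebra (R := A) r.primeCompl
    (IsLocalizedModule.liftOfLE T₀ r.primeCompl h
      (LocalizedModule.mkLinearMap T₀ M) (LocalizedModule.mkLinearMap r.primeCompl M))

end Kernel

section Three

variable {A B C : Type u} [CommRing A] [CommRing B] [CommRing C]
  [Algebra A B] [Algebra B C] [Algebra A C] [IsScalarTower A B C]
  (M : Type u) [AddCommGroup M] [Module C M] [Module B M] [Module A M]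
  [IsScalarTower B C M] [IsScalarTower A C M] [IsScalarTower A B M]

/-- localizing `M` at a submonoid of `B` or at its image in `C` gives the same `A`-module -/
noncomputable def localizedModuleEquivMap (T : Submonoid B) :
    LocalizedModule T M ≃ₗ[A] LocalizedModule (Algebra.algebraMapSubmonoid C T) M :=
  haveI : IsLocalizedModule T
      ((LocalizedModule.mkLinearMap (Algebra.algebraMapSubmonoid C T) M).restrictScalars B) :=
    IsLocalizedModule.restrictScalars T _
  (IsLocalizedModule.iso T
    ((LocalizedModule.mkLinearMap (Algebra.algebraMapSubmonoid C T) M).restrictScalars B)).restrictScalars A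

/-- `M_q` (for a prime `q` of `B`) is flat over `A` iff `M_r` is flat over `A` for all primes `r`
of `C` whose contraction lies in `q`. -/
theorem flat_localizedModule_iff_forall_prime (q : Ideal B) [q.IsPrime] :
    Module.Flat A (LocalizedModule q.primeCompl M) ↔
      ∀ (r : Ideal C) [r.IsPrime], r.comap (algebraMap B C) ≤ q →
        Module.Flat A (LocalizedModule r.primeCompl M) := by
  constructor
  · intro h r _ hr
    haveI : Module.Flat A (LocalizedModule (Algebra.algebraMapSubmonoid C q.primeCompl) M) :=
      Module.Flat.of_linearEquiv (localizedModuleEquivMap (A := A) (B := B) (C := C) M q.primeCompl).symm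
    apply flat_localizedModule_prime_of_le (A := A) M (Algebra.algebraMapSubmonoid C q.primeCompl) r
    rintro _ ⟨b, hb, rfl⟩ hmem
    exact hb (hr hmem)
  · intro h
    haveI : Module.Flat A (LocalizedModule (Algebra.algebraMapSubmonoid C q.primeCompl) M) := by
      apply flat_localizedModule_of_forall_prime (A := A) M
      intro r _ hdisj
      apply h r
      intro b hb
      by_contra hbq
      exact Set.disjoint_left.mp hdisj (show algebraMap B C b ∈ (r : Set C) from hb)
        ⟨b, hbq, rfl⟩
    exact Module.Flat.of_linearEquiv (localizedModuleEquivMap (A := A) (B := B) (C := C) M q.primeCompl)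

/-- **Openness of the flat locus over an intermediate base** (EGA IV 11.3.?): for finitely
presented `A → B → C` and a finitely presented `C`-module `M`, the set of primes `q` of `B` such
that `M_q` is flat over `A` is open. -/
theorem isOpen_flatLocus_intermediate [Algebra.FinitePresentation A B]
    [Algebra.FinitePresentation B C] [Module.FinitePresentation C M] :
    IsOpen {q : PrimeSpectrum B | Module.Flat A (LocalizedModule q.asIdeal.primeCompl M)} := by
  haveI : Algebra.FinitePresentation A C := Algebra.FinitePresentation.trans A B C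
  have hUC : IsOpen {r : PrimeSpectrum C |
      Module.Flat A (LocalizedModule r.asIdeal.primeCompl M)} :=
    isOpen_flatLocus_of_finitePresentation
  set Z : Set (PrimeSpectrum C) :=
    {r : PrimeSpectrum C | Module.Flat A (LocalizedModule r.asIdeal.primeCompl M)}ᶜ with hZ
  have hZc : IsClosed Z := hUC.isClosed_compl
  set J : Ideal C := PrimeSpectrum.vanishingIdeal Z with hJ
  have hZJ : PrimeSpectrum.zeroLocus (J : Set C) = Z := by
    rw [hJ, PrimeSpectrum.zeroLocus_vanishingIdeal_eq_closure, hZc.closure_eq]
  suffices h : {q : PrimeSpectrum B | Module.Flat A (LocalizedModule q.asIdeal.primeCompl M)} =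
      (PrimeSpectrum.zeroLocus ((J.comap (algebraMap B C) : Ideal B) : Set B))ᶜ by
    rw [h]
    exact (PrimeSpectrum.isClosed_zeroLocus _).isOpen_compl
  ext q
  haveI := q.isPrime
  simp only [Set.mem_setOf_eq, Set.mem_compl_iff, PrimeSpectrum.mem_zeroLocus, SetLike.coe_subset_coe]
  rw [flat_localizedModule_iff_forall_prime (A := A) (B := B) (C := C) M q.asIdeal]
  constructor
  · intro h hle
    obtain ⟨q', hq', hq'q⟩ := Ideal.exists_minimalPrimes_le hle
    obtain ⟨r, hr, hJr, hrq'⟩ := Ideal.exists_comap_eq_of_mem_minimalPrimes (algebraMap B C) q' hq'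
    haveI := hr
    have hflat := h r (by rw [hrq']; exact hq'q)
    have hrZ : (⟨r, hr⟩ : PrimeSpectrum C) ∈ Z := by
      rw [← hZJ, PrimeSpectrum.mem_zeroLocus]
      exact hJr
    exact hrZ hflat
  · intro h r _ hr
    by_contra hflat
    apply h
    have hrZ : (⟨r, inferInstance⟩ : PrimeSpectrum C) ∈ Z := hflat
    rw [← hZJ, PrimeSpectrum.mem_zeroLocus] at hrZ
    exact (Ideal.comap_mono hrZ).trans hr

end Three

end Groth.Agent.Lead.FlatLoc
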