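import Mathlib
import Groth.Agent.Lib.Lead.FlatLoc12
import Groth.Agent.Lib.Helper4.RelEffCartierFlat1

/-!
# Openness of the flat locus of a morphism locally of finite presentation (lead)
-/

set_option autoImplicit false
set_option backward.isDefEq.respectTransparency.types false
set_option synthInstance.maxHeartbeats 400000
universe u

open AlgebraicGeometry CategoryTheory TopologicalSpace

namespace Groth.Agent.Lead.FlatLoc

/-- flatness of the local ring map at a prime, in terms of the localized module -/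
theorem flat_localRingHom_iff {A B : Type u} [CommRing A] [CommRing B] (φ : A →+* B)
    (P : Ideal B) [P.IsPrime] :
    (Localization.localRingHom (P.comap φ) P φ rfl).Flat ↔
      letI := φ.toAlgebra
      Module.Flat A (LocalizedModule P.primeCompl B) := by
  algebraize [φ, Localization.localRingHom (Ideal.comap φ P) P φ rfl]
  have : IsScalarTower A (Localization.AtPrime (Ideal.comap φ P)) (Localization.AtPrime P) :=
    .of_algebraMap_eq fun x ↦ (Localization.localRingHom_to_map _ _ _ rfl x).symm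
  rw [RingHom.Flat, Module.flat_iff_of_isLocalization
    (S := (Localization.AtPrime (Ideal.comap φ P))) (p := (Ideal.comap φ P).primeCompl)]

/-- **Openness of the flat locus** of a morphism locally of finite presentation. -/
theorem isOpen_flatLocus_of_locallyOfFinitePresentation {X S : Scheme.{u}} (f : X ⟶ S)
    [LocallyOfFinitePresentation f] : IsOpen {x : X | (f.stalkMap x).hom.Flat} := by
  rw [isOpen_iff_forall_mem_open]
  intro x hx
  obtain ⟨_, ⟨V, hV, rfl⟩, hxV, -⟩ :=
    S.isBasis_affineOpens.exists_subset_of_mem_open (Set.mem_univ (f x)) isOpen_univ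
  obtain ⟨_, ⟨U, hU, rfl⟩, hxU, hUV⟩ :=
    X.isBasis_affineOpens.exists_subset_of_mem_open (show x ∈ (f ⁻¹ᵁ V : Set X) from hxV)
      (f ⁻¹ᵁ V).isOpen
  have hUV' : U ≤ f ⁻¹ᵁ V := hUV
  let φ := (f.appLE V U hUV').hom
  have hφ : φ.FinitePresentation :=
    HasRingHomProperty.appLE (P := @LocallyOfFinitePresentation) f inferInstance ⟨V, hV⟩ ⟨U, hU⟩ hUV'
  letI := φ.toAlgebra
  haveI : Algebra.FinitePresentation Γ(S, V) Γ(X, U) := hφ
  have hopen : IsOpen {P : PrimeSpectrum Γ(X, U) |
      Module.Flat Γ(S, V) (LocalizedModule P.asIdeal.primeCompl Γ(X, U))} :=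
    isOpen_flatLocus_of_finitePresentation
  refine ⟨hU.fromSpec '' {P : PrimeSpectrum Γ(X, U) |
      Module.Flat Γ(S, V) (LocalizedModule P.asIdeal.primeCompl Γ(X, U))}, ?_,
    hU.fromSpec.isOpenEmbedding.isOpenMap _ hopen, ?_⟩
  · rintro _ ⟨P, hP, rfl⟩
    have hyU : hU.fromSpec P ∈ U := by
      rw [← SetLike.mem_coe, ← hU.range_fromSpec]
      exact ⟨P, rfl⟩
    have hPy : hU.primeIdealOf ⟨hU.fromSpec P, hyU⟩ = P := by
      apply hU.fromSpec.isOpenEmbedding.injective
      exact hU.fromSpec_primeIdealOf ⟨hU.fromSpec P, hyU⟩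
    show (f.stalkMap (hU.fromSpec P)).hom.Flat
    rw [Groth.Agent.Lib.Helper4.RelEffCartierFlat1.flat_stalkMap_iff f V hV U hU hUV' hyU, hPy]
    haveI := P.isPrime
    exact (flat_localRingHom_iff φ P.asIdeal).mpr hP
  · refine ⟨hU.primeIdealOf ⟨x, hxU⟩, ?_, hU.fromSpec_primeIdealOf ⟨x, hxU⟩⟩
    have := (Groth.Agent.Lib.Helper4.RelEffCartierFlat1.flat_stalkMap_iff f V hV U hU hUV' hxU).mp hx
    exact (flat_localRingHom_iff φ _).mp this

end Groth.Agent.Lead.FlatLoc
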