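import Mathlib
import Groth.Agent.Lib.Lead.FlatLoc13
import Groth.Agent.Lib.Lead.FO1
import Groth.Agent.Lib.Lead.FP2

/-!
# Openness of the flat locus of a finitely presented module over a morphism locally of finite
presentation (lead)
-/

set_option autoImplicit false
set_option backward.isDefEq.respectTransparency.types false
set_option synthInstance.maxHeartbeats 400000
universe u

open AlgebraicGeometry CategoryTheory TopologicalSpace

namespace Groth.Agent.Lead.FlatLoc

open Groth.Agent.Lead.FO Groth.Agent.Lead.SD Scheme.Modules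

attribute [local instance] stalkModule

/-- **Openness of the flat locus** of a finitely presented quasi-coherent module, for a morphism
locally of finite presentation. -/
theorem isOpen_isFlatOverAt {X S : Scheme.{u}} (f : X ⟶ S) [LocallyOfFinitePresentation f]
    (F : X.Modules) [F.IsQuasicoherent] (hF : CohB1.IsFP F) :
    IsOpen {x : X | FlatMod.IsFlatOverAt f F x} := by
  rw [isOpen_iff_forall_mem_open]
  intro x hx
  obtain ⟨_, ⟨V, hV, rfl⟩, hxV, -⟩ :=
    S.isBasis_affineOpens.exists_subset_of_mem_open (Set.mem_univ (f x)) isOpen_univ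
  obtain ⟨_, ⟨U, hU, rfl⟩, hxU, hUV⟩ :=
    X.isBasis_affineOpens.exists_subset_of_mem_open (show x ∈ (f ⁻¹ᵁ V : Set X) from hxV)
      (f ⁻¹ᵁ V).isOpen
  have hUV' : U ≤ f ⁻¹ᵁ V := hUV
  have hφ : (f.appLE V U hUV').hom.FinitePresentation :=
    HasRingHomProperty.appLE (P := @LocallyOfFinitePresentation) f inferInstance ⟨V, hV⟩ ⟨U, hU⟩ hUV'
  letI alg : Algebra Γ(S, V) Γ(X, U) := (f.appLE V U hUV').hom.toAlgebra
  letI m1 := sectionsOver f F hUV'
  haveI t1 : IsScalarTower Γ(S, V) Γ(X, U) Γ(F, U) :=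
    IsScalarTower.of_algebraMap_smul fun r m => rfl
  haveI : Algebra.FinitePresentation Γ(S, V) Γ(X, U) := hφ
  haveI : Module.FinitePresentation Γ(X, U) Γ(F, U) :=
    Groth.Agent.Lead.FP.fp_sections_of_isFP F hF hU
  have hopen : IsOpen {P : PrimeSpectrum Γ(X, U) |
      Module.Flat Γ(S, V) (LocalizedModule P.asIdeal.primeCompl Γ(F, U))} :=
    isOpen_flatLocus_of_finitePresentation
  have key : ∀ y : U, FlatMod.IsFlatOverAt f F y.1 ↔
      Module.Flat Γ(S, V) (LocalizedModule (hU.primeIdealOf y).asIdeal.primeCompl Γ(F, U)) := by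
    intro y
    rw [isFlatOverAt_iff_flat_stalkOver f F hV hUV' y]
    letI m2 := stalkOver f F hUV' y
    haveI t2 : IsScalarTower Γ(S, V) Γ(X, U) (F.presheaf.stalk y.1) :=
      IsScalarTower.of_algebraMap_smul fun r m => rfl
    haveI := isLocalizedModule_germ F hU y
    let e : LocalizedModule (hU.primeIdealOf y).asIdeal.primeCompl Γ(F, U) ≃ₗ[Γ(S, V)]
        F.presheaf.stalk y.1 :=
      (IsLocalizedModule.iso (hU.primeIdealOf y).asIdeal.primeCompl (germₗ F y)).restrictScalars
        Γ(S, V)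
    exact ⟨fun _ => Module.Flat.of_linearEquiv e, fun _ => Module.Flat.of_linearEquiv e.symm⟩
  refine ⟨hU.fromSpec '' {P : PrimeSpectrum Γ(X, U) |
      Module.Flat Γ(S, V) (LocalizedModule P.asIdeal.primeCompl Γ(F, U))}, ?_,
    hU.fromSpec.isOpenEmbedding.isOpenMap _ hopen, ?_⟩
  · rintro _ ⟨P, hP, rfl⟩
    have hyU : hU.fromSpec P ∈ U := by
      rw [← SetLike.mem_coe, ← hU.range_fromSpec]
      exact ⟨P, rfl⟩
    have hPy : hU.primeIdealOf ⟨hU.fromSpec P, hyU⟩ = P := by
      apply hU.fromSpec.isOpenEmbedding.injective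
      exact hU.fromSpec_primeIdealOf ⟨hU.fromSpec P, hyU⟩
    show FlatMod.IsFlatOverAt f F (hU.fromSpec P)
    rw [key ⟨hU.fromSpec P, hyU⟩, hPy]
    exact hP
  · exact ⟨hU.primeIdealOf ⟨x, hxU⟩, (key ⟨x, hxU⟩).mp hx, hU.fromSpec_primeIdealOf ⟨x, hxU⟩⟩

end Groth.Agent.Lead.FlatLoc
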