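import Mathlib
import Groth.Agent.Lib.Lead.FBC2

/-!
# Flat base change: sections of the pullback are generated by pulled back sections (lead)
-/

set_option autoImplicit false
universe u
open CategoryTheory AlgebraicGeometry TopologicalSpace TensorProduct
set_option backward.isDefEq.respectTransparency.types false

namespace Groth.Agent.Lead.FBC

open Scheme.Modules Groth.Agent.Lead.BCU Groth.Agent.Lead.CIU

section

variable {X S X' S' : Scheme.{u}} (f : X ⟶ S) (g : S' ⟶ S) (g' : X' ⟶ X) (f' : X' ⟶ S')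
  (h : IsPullback g' f' f g) (F : X.Modules)

theorem unitRes_res_same {Y' Y : Scheme.{u}} (k : Y' ⟶ Y) (G : Y.Modules) {W : Y.Opens}
    {W₁' W₂' : Y'.Opens} (e₁ : W₁' ≤ k ⁻¹ᵁ W) (e₂ : W₂' ≤ k ⁻¹ᵁ W) (hW' : W₂' ≤ W₁')
    (m : Γ(G, W)) :
    res ((pullback k).obj G) hW' (unitRes k G e₁ m) = unitRes k G e₂ m := by
  unfold unitRes
  exact res_res ((pullback k).obj G) e₁ hW' _

theorem res_self' {Z : Scheme.{u}} (H : Z.Modules) {O : Z.Opens} (e : O ≤ O) (x : Γ(H, O)) :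
    res H e x = x := Groth.Agent.Helper1.QcCech.res_self H e x

attribute [local instance] algAB modA modB

include h in
theorem section_induction_aux [QuasiCompact f] [QuasiSeparated f] [Flat g]
    [F.IsQuasicoherent] {V : S.Opens} (V₀' : Set.Iic (g ⁻¹ᵁ V)) (W₀ : Set.Iic (f ⁻¹ᵁ V))
    (hW₀ : f ⁻¹ᵁ V ≤ W₀.1) (hV : IsAffineOpen V) (hV' : IsAffineOpen V₀'.1)
    (P : Γ((pullback g').obj F, f' ⁻¹ᵁ V₀'.1) → Prop) (h0 : P 0)
    (hadd : ∀ a b, P a → P b → P (a + b))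
    (hsmul : ∀ (r : Γ(X', f' ⁻¹ᵁ V₀'.1)) a, P a → P (r • a))
    (hunit : ∀ s : Γ(F, f ⁻¹ᵁ V), P (unitRes g' F (preimage_le f g g' f' h V₀'.2) s)) :
    ∀ t, P t := by
  have hfl : Module.Flat Γ(S, V) Γ(S', V₀'.1) :=
    HasRingHomProperty.appLE @Flat g inferInstance ⟨V, hV⟩ ⟨V₀'.1, hV'⟩ V₀'.2
  have hc : IsCompact ((W₀.1 : X.Opens) : Set X) := by
    have : W₀.1 = f ⁻¹ᵁ V := le_antisymm W₀.2 hW₀
    rw [this]
    exact f.isCompact_preimage hV.isCompact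
  have hqs : IsQuasiSeparated ((f ⁻¹ᵁ V : X.Opens) : Set X) :=
    f.isQuasiSeparated_preimage hV.isQuasiSeparated
  have hb : BijAt f g g' f' F V₀' h W₀ :=
    bijAt_of_isCompact f g g' f' F V₀' h hfl hV hV' (f ⁻¹ᵁ V) hqs W₀.1 hc W₀.2 W₀.2
  have hle1 : Wp g g' f' V₀' W₀.1 ≤ f' ⁻¹ᵁ V₀'.1 := inf_le_right
  have hle2 : f' ⁻¹ᵁ V₀'.1 ≤ Wp g g' f' V₀' W₀.1 :=
    le_inf ((preimage_le f g g' f' h V₀'.2).trans (g'.preimage_mono hW₀)) le_rfl
  have key : ∀ x : Γ(S', V₀'.1) ⊗[Γ(S, V)] Γ(F, W₀.1),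
      P (res ((pullback g').obj F) hle2 (tens (semiLin_lW f g g' f' F V₀' h W₀) x)) := by
    intro x
    induction x using TensorProduct.induction_on with
    | zero =>
      rw [map_zero]
      have : res ((pullback g').obj F) hle2 0 = 0 :=
        map_zero (Groth.Agent.Helper1.QcCech.res ((pullback g').obj F) hle2)
      rw [this]
      exact h0
    | tmul b s =>
      rw [tens_tmul]
      change P (res ((pullback g').obj F) hle2
        ((f'.appLE V₀'.1 (Wp g g' f' V₀' W₀.1) inf_le_right).hom b •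
          unitRes g' F (inf_le_left : Wp g g' f' V₀' W₀.1 ≤ g' ⁻¹ᵁ W₀.1) s))
      rw [res_smul']
      apply hsmul
      have e1 : unitRes g' F (inf_le_left : Wp g g' f' V₀' W₀.1 ≤ g' ⁻¹ᵁ W₀.1) s =
          unitRes g' F (inf_le_left : Wp g g' f' V₀' W₀.1 ≤ g' ⁻¹ᵁ W₀.1)
            (res F W₀.2 (res F hW₀ s)) := by
        rw [res_res]
        exact congrArg _ (Groth.Agent.Helper1.QcCech.res_self F _ s).symm
      rw [e1, ← unitRes_res g' F ((inf_le_left : Wp g g' f' V₀' (f ⁻¹ᵁ V) ≤ g' ⁻¹ᵁ (f ⁻¹ᵁ V)))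
        (inf_le_left : Wp g g' f' V₀' W₀.1 ≤ g' ⁻¹ᵁ W₀.1) W₀.2
        (Wp_mono g g' f' V₀' W₀.2) (res F hW₀ s), res_res]
      rw [unitRes_res_same g' F _ (preimage_le f g g' f' h V₀'.2)]
      exact hunit _
    | add x y hx hy =>
      rw [map_add, res_add]
      exact hadd _ _ hx hy
  intro t
  obtain ⟨x, hx⟩ := hb.2 (res ((pullback g').obj F) hle1 t)
  have := key x
  rw [hx, res_res, res_self'] at this
  exact this

include h in
/-- **sections of a flat base change are generated by pulled back sections** -/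
theorem section_induction [QuasiCompact f] [QuasiSeparated f] [Flat g]
    [F.IsQuasicoherent] {V : S.Opens} {V' : S'.Opens} (hV : IsAffineOpen V)
    (hV' : IsAffineOpen V') (eV : V' ≤ g ⁻¹ᵁ V)
    (P : Γ((pullback g').obj F, f' ⁻¹ᵁ V') → Prop) (h0 : P 0)
    (hadd : ∀ a b, P a → P b → P (a + b))
    (hsmul : ∀ (r : Γ(X', f' ⁻¹ᵁ V')) a, P a → P (r • a))
    (hunit : ∀ s : Γ(F, f ⁻¹ᵁ V), P (unitRes g' F (preimage_le f g g' f' h eV) s)) :
    ∀ t, P t :=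
  section_induction_aux f g g' f' h F ⟨V', eV⟩
    ⟨f ⁻¹ᵁ V, (le_refl (f ⁻¹ᵁ V) : f ⁻¹ᵁ V ≤ f ⁻¹ᵁ V)⟩ (le_refl _) hV hV' P h0 hadd hsmul hunit

end

end Groth.Agent.Lead.FBC
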