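import Mathlib

set_option autoImplicit false
universe u
open CategoryTheory CategoryTheory.Limits AlgebraicGeometry TopologicalSpace Opposite

set_option backward.isDefEq.respectTransparency.types false

namespace Groth.Agent.Lead.PbI

section Ring

variable {R A B C : CommRingCat.{u}} {φ : R ⟶ A} {π : R ⟶ B} {α : A ⟶ C} {β : B ⟶ C}

/-- in a pushout square of commutative rings with one leg surjective, the kernel of the opposite
leg is the extension of the kernel. -/
theorem ker_eq_map_of_isPushout (H : IsPushout φ π α β) (hπ : Function.Surjective π.hom) :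
    RingHom.ker α.hom = Ideal.map φ.hom (RingHom.ker π.hom) := by
  apply le_antisymm
  · let q : A.carrier →+* A.carrier ⧸ Ideal.map φ.hom (RingHom.ker π.hom) := Ideal.Quotient.mk _
    have hk : RingHom.ker π.hom ≤ RingHom.ker (q.comp φ.hom) := by
      intro r hr
      rw [RingHom.mem_ker, RingHom.comp_apply, Ideal.Quotient.eq_zero_iff_mem]
      exact Ideal.mem_map_of_mem _ hr
    let β' : B.carrier →+* A.carrier ⧸ Ideal.map φ.hom (RingHom.ker π.hom) :=
      RingHom.liftOfSurjective π.hom hπ ⟨q.comp φ.hom, hk⟩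
    have hβ' : β'.comp π.hom = q.comp φ.hom := RingHom.liftOfSurjective_comp _ hπ _
    have hcomm : φ ≫ CommRingCat.ofHom q = π ≫ CommRingCat.ofHom β' := by
      ext r
      exact (congrArg (fun χ => χ r) hβ').symm
    have h1 : α ≫ H.desc (CommRingCat.ofHom q) (CommRingCat.ofHom β') hcomm =
        CommRingCat.ofHom q := H.inl_desc _ _ _
    intro a ha
    have h2 := congrArg (fun χ => χ.hom a) h1
    change (H.desc (CommRingCat.ofHom q) (CommRingCat.ofHom β') hcomm).hom (α.hom a) = q a at h2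
    rw [RingHom.mem_ker.1 ha, map_zero] at h2
    exact Ideal.Quotient.eq_zero_iff_mem.1 h2.symm
  · rw [Ideal.map_le_iff_le_comap]
    intro r hr
    change α.hom (φ.hom r) = 0
    have h1 := congrArg (fun χ => χ.hom r) H.w
    change α.hom (φ.hom r) = β.hom (π.hom r) at h1
    rw [h1, RingHom.mem_ker.1 hr, map_zero]

end Ring

section Sch

variable {Z X Z' X' : Scheme.{u}} (i : Z ⟶ X) (i' : Z' ⟶ X') (g : X ⟶ X') (gZ : Z ⟶ Z')
  (H : IsPullback i gZ g i')
  {W' : X'.Opens} {W : X.Opens} (hW' : IsAffineOpen W') (hW : IsAffineOpen W)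
  (hT : IsAffineOpen (i' ⁻¹ᵁ W')) (e : W ≤ g ⁻¹ᵁ W')
  (hs : Function.Surjective (i'.appLE W' (i' ⁻¹ᵁ W') le_rfl).hom)

include H hW' hW hT hs in
/-- the ideal of a base change of a closed subscheme is the extension of the ideal. -/
theorem ker_appLE_eq_map :
    RingHom.ker (i.appLE W (i ⁻¹ᵁ W) le_rfl).hom =
      Ideal.map (g.appLE W' W e).hom (RingHom.ker (i'.appLE W' (i' ⁻¹ᵁ W') le_rfl).hom) := by
  have hUY : i ⁻¹ᵁ W = i ⁻¹ᵁ W ⊓ gZ ⁻¹ᵁ (i' ⁻¹ᵁ W') := by
    apply le_antisymm
    · refine le_inf le_rfl ?_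
      intro z hz
      have h1 : g.base (i.base z) ∈ W' := e hz
      have h2 : i'.base (gZ.base z) = g.base (i.base z) := by
        have := congrArg (fun χ => χ.base z) H.w
        exact this.symm
      change i'.base (gZ.base z) ∈ W'
      rw [h2]; exact h1
    · exact inf_le_left
  have hiso := isIso_pushoutSection_of_isAffineOpen H (le_refl (i' ⁻¹ᵁ W')) e hUY hW' hT hW
  have hpo := (isIso_pushoutSection_iff H (le_refl (i' ⁻¹ᵁ W')) e hUY).1 hiso
  exact ker_eq_map_of_isPushout hpo hs

end Sch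

end Groth.Agent.Lead.PbI
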