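import Mathlib

/-!
# Duals of finite modules over a domain are reflexive (lead)
-/

set_option autoImplicit false
set_option linter.style.haveILetI false
set_option linter.unusedSectionVars false

namespace Groth.Agent.Lead.ReflAlg

open Module

section VS

variable {R : Type*} [CommRing R] (S : Submonoid R) (K : Type*) [Field K] [Algebra R K]
  [IsLocalization S K] {Q : Type*} [AddCommGroup Q] [Module R Q]
  {V : Type*} [AddCommGroup V] [Module R V] [Module K V] [IsScalarTower R K V]
  (mk : Q →ₗ[R] V) [IsLocalizedModule S mk]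

/-- the localization of a linear form -/
noncomputable def locForm (φ : Q →ₗ[R] R) : V →ₗ[K] K :=
  IsLocalizedModule.mapExtendScalars S mk (Algebra.linearMap R K) K φ

theorem locForm_mk (φ : Q →ₗ[R] R) (θ : Q) : locForm S K mk φ (mk θ) = algebraMap R K (φ θ) := by
  change IsLocalizedModule.map S mk (Algebra.linearMap R K) φ (mk θ) = _
  rw [IsLocalizedModule.map_apply]
  rfl

include S mk in
theorem exists_coeff (hinj : Function.Injective (algebraMap R K)) {n : ℕ} (φ : Fin n → (Q →ₗ[R] R))
    (hφ : ∀ θ : Q, (∀ i, φ i θ = 0) → θ = 0) (ξ : Q →ₗ[R] R) :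
    ∃ c : Fin n → K, ∀ θ : Q, algebraMap R K (ξ θ) = ∑ i, c i * algebraMap R K (φ i θ) := by
  have hker : ⨅ i, LinearMap.ker (locForm S K mk (φ i)) ≤ LinearMap.ker (locForm S K mk ξ) := by
    intro v hv
    rw [Submodule.mem_iInf] at hv
    obtain ⟨⟨θ, s⟩, hs⟩ := IsLocalizedModule.surj S mk v
    replace hs : (s : R) • v = mk θ := hs
    have hθ : θ = 0 := by
      refine hφ θ fun i => ?_
      have h1 : locForm S K mk (φ i) ((s : R) • v) = 0 := by
        rw [LinearMap.map_smul_of_tower, LinearMap.mem_ker.1 (hv i), smul_zero]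
      rw [hs, locForm_mk] at h1
      exact hinj (by rw [h1, map_zero])
    rw [hθ, map_zero] at hs
    have hv0 : v = 0 := by
      have := IsLocalizedModule.smul_injective mk s (a₁ := v) (a₂ := 0)
      exact this (by change (s : R) • v = (s : R) • 0; rw [hs, smul_zero])
    rw [hv0]
    exact Submodule.zero_mem _
  have hmem : locForm S K mk ξ ∈ Submodule.span K (Set.range fun i => locForm S K mk (φ i)) :=
    mem_span_of_iInf_ker_le_ker hker
  obtain ⟨c, hc⟩ := (Submodule.mem_span_range_iff_exists_fun K).1 hmem
  refine ⟨c, fun θ => ?_⟩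
  rw [← locForm_mk S K mk, ← hc, LinearMap.sum_apply]
  refine Finset.sum_congr rfl fun i _ => ?_
  rw [LinearMap.smul_apply, locForm_mk, smul_eq_mul]

end VS

variable {R : Type*} [CommRing R] [IsDomain R] {P : Type*} [AddCommGroup P] [Module R P]

/-- every element of the double dual of a finite module over a domain has a nonzero multiple which is the
evaluation at an element -/
theorem exists_smul_eq_eval [Module.Finite R P] (ξ : Dual R (Dual R P)) :
    ∃ (b : R) (_ : b ≠ 0) (p : P), b • ξ = Dual.eval R P p := by
  classical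
  obtain ⟨n, p, hp⟩ := Module.Finite.exists_fin (R := R) (M := P)
  obtain ⟨c, hc⟩ := exists_coeff (nonZeroDivisors R) (FractionRing R)
    (V := LocalizedModule (nonZeroDivisors R) (Dual R P))
    (LocalizedModule.mkLinearMap (nonZeroDivisors R) (Dual R P))
    (IsFractionRing.injective R (FractionRing R)) (fun i => Dual.eval R P (p i))
    (fun θ hθ => LinearMap.ext_on_range hp fun i => by rw [LinearMap.zero_apply]; exact hθ i) ξ
  obtain ⟨b, hb⟩ := IsLocalization.exist_integer_multiples_of_finite (nonZeroDivisors R) c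
  choose a ha using hb
  refine ⟨b.1, nonZeroDivisors.ne_zero b.2, ∑ i, a i • p i, ?_⟩
  refine LinearMap.ext fun θ => ?_
  apply IsFractionRing.injective R (FractionRing R)
  rw [LinearMap.smul_apply, Dual.eval_apply, smul_eq_mul, map_mul, hc, map_sum, Finset.mul_sum,
    map_sum]
  refine Finset.sum_congr rfl fun i _ => ?_
  rw [Dual.eval_apply, map_smul, smul_eq_mul, map_mul, ha, ← mul_assoc, Algebra.smul_def]

/-- the dual of a finite module over a domain is reflexive -/
theorem isReflexive_dual [Module.Finite R P] : IsReflexive R (Dual R P) := by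
  constructor
  let t : Dual R (Dual R (Dual R P)) →ₗ[R] Dual R P := (Dual.eval R P).dualMap
  have h1 : ∀ θ, t (Dual.eval R (Dual R P) θ) = θ := fun θ => LinearMap.ext fun p => rfl
  have ht : Function.Injective t := by
    rw [injective_iff_map_eq_zero]
    intro ζ hζ
    refine LinearMap.ext fun ξ => ?_
    obtain ⟨b, hb, p, e⟩ := exists_smul_eq_eval ξ
    have h2 : ζ (b • ξ) = 0 := by
      rw [e]
      exact congrArg (fun f : Dual R P => f p) hζ
    rw [map_smul, smul_eq_mul] at h2
    rw [LinearMap.zero_apply]
    exact (mul_eq_zero.1 h2).resolve_left hb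
  refine ⟨fun a b hab => ?_, fun ζ => ⟨t ζ, ht ?_⟩⟩
  · rw [← h1 a, hab, h1]
  · rw [h1]

end Groth.Agent.Lead.ReflAlg
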