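import Mathlib
import Groth.Prelude.Def_RefHull
import Groth.Agent.Lib.Lead.RH6
import Groth.Agent.Lib.Lead.ReflAlg1
import Groth.Agent.Lib.Helper7.CohStalk.Finite

/-!
# The sheaf Hom into a reflexive module is reflexive (lead)
-/

set_option autoImplicit false
set_option backward.isDefEq.respectTransparency.types false
set_option synthInstance.maxHeartbeats 400000
set_option linter.style.haveILetI false
set_option linter.unusedSectionVars false
universe u

open CategoryTheory CategoryTheory.Limits AlgebraicGeometry TopologicalSpace Opposite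

namespace Groth.Agent.Lead.ReflAlg

open Module TensorProduct

theorem isReflexive_linearMap {R : Type*} [CommRing R] [IsDomain R] [IsNoetherianRing R]
    {M N : Type*} [AddCommGroup M] [Module R M] [AddCommGroup N] [Module R N]
    [Module.Finite R M] [Module.Finite R N] [IsReflexive R N] : IsReflexive R (M →ₗ[R] N) := by
  let e : (M →ₗ[R] N) ≃ₗ[R] Dual R (M ⊗[R] Dual R N) :=
    (LinearEquiv.congrRight (Module.evalEquiv R N)).trans (TensorProduct.lift.equiv (RingHom.id R) M (Dual R N) R)
  haveI : Module.Finite R (Dual R N) := inferInstance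
  haveI : IsReflexive R (Dual R (M ⊗[R] Dual R N)) := isReflexive_dual
  exact Module.equiv e.symm

end Groth.Agent.Lead.ReflAlg

namespace Groth.Agent.Lead.RH

open Groth.Agent.Helper1

variable {X : Scheme.{u}} {F G : X.Modules}

theorem S16081_main (X : Scheme.{u}) [IsIntegral X] [IsLocallyNoetherian X] (F G : X.Modules)
    (hF : Coh.IsCoh F) (hG : Coh.IsCoh G) (hGr : RefHull.IsReflexive G) :
    RefHull.IsReflexive (RefHull.homSh F G) := by
  have hFP : CohB1.IsFP F := FpLocal.isFP_of_isCoh F hF
  have hGP : CohB1.IsFP G := FpLocal.isFP_of_isCoh G hG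
  haveI : SheafOfModules.IsFinitePresentation (R := X.ringCatSheaf) G := hGP
  haveI : G.IsQuasicoherent := inferInstance
  rw [isReflexive_iff (isFP_homSh hFP hGP)]
  intro x
  haveI : Module.IsReflexive (X.presheaf.stalk x) (G.presheaf.stalk x) :=
    (isReflexive_iff hGP).1 hGr x
  haveI : Module.Finite (X.presheaf.stalk x) (F.presheaf.stalk x) :=
    Groth.Agent.Helper7.FinType.stalk_finite_of_isCoh F hF x
  haveI : Module.Finite (X.presheaf.stalk x) (G.presheaf.stalk x) :=
    Groth.Agent.Helper7.FinType.stalk_finite_of_isCoh G hG x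
  haveI : Module.IsReflexive (X.presheaf.stalk x) (RefHull.StalkHom F G x) :=
    ReflAlg.isReflexive_linearMap
  exact Module.equiv (evalEquiv (G := G) hFP x).symm

end Groth.Agent.Lead.RH
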