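import Mathlib
import Groth.Prelude.Def_C1

/-!
# The order function `CycAlg.ordFrac`: transport along isomorphisms, additivity (lead)
-/

set_option autoImplicit false
set_option linter.style.haveILetI false
set_option linter.unusedSectionVars false
universe u

namespace Groth.Agent.Lead.SecOrd

open WithZero

/-- `ℤᵐ⁰ → ℤ`, junk value `0` at `0` -/
noncomputable def toZ (z : ℤᵐ⁰) : ℤ :=
  WithZero.recZeroCoe (motive := fun _ => ℤ) 0 (fun z => Multiplicative.toAdd z) z

theorem toZ_zero : toZ 0 = 0 := rfl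

theorem toZ_coe (z : Multiplicative ℤ) : toZ (z : ℤᵐ⁰) = Multiplicative.toAdd z := rfl

theorem toZ_one : toZ 1 = 0 := rfl

theorem toZ_mul {a b : ℤᵐ⁰} (ha : a ≠ 0) (hb : b ≠ 0) : toZ (a * b) = toZ a + toZ b := by
  obtain ⟨a, rfl⟩ := WithZero.ne_zero_iff_exists.1 ha
  obtain ⟨b, rfl⟩ := WithZero.ne_zero_iff_exists.1 hb
  rw [← WithZero.coe_mul, toZ_coe, toZ_coe, toZ_coe, toAdd_mul]

section Cond

variable (R : Type u) [CommRing R] (K : Type u) [Field K] [Algebra R K]

theorem ordFrac_eq [IsNoetherianRing R] [Ring.KrullDimLE 1 R] [Nontrivial R] [IsFractionRing R K]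
    (f : K) : CycAlg.ordFrac R K f = toZ (Ring.ordFrac R f) := by
  unfold CycAlg.ordFrac
  rw [dif_pos ⟨inferInstance, inferInstance, inferInstance, inferInstance⟩]
  rfl

theorem ordFrac_zero : CycAlg.ordFrac R K 0 = 0 := by
  unfold CycAlg.ordFrac
  split_ifs with h
  · haveI := h.1; haveI := h.2.1; haveI := h.2.2.1; haveI := h.2.2.2
    simp
  · rfl

theorem ordFrac_mul {f g : K} (hf : f ≠ 0) (hg : g ≠ 0) :
    CycAlg.ordFrac R K (f * g) = CycAlg.ordFrac R K f + CycAlg.ordFrac R K g := by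
  by_cases h : IsNoetherianRing R ∧ Ring.KrullDimLE 1 R ∧ Nontrivial R ∧ IsFractionRing R K
  · haveI := h.1; haveI := h.2.1; haveI := h.2.2.1; haveI := h.2.2.2
    rw [ordFrac_eq, ordFrac_eq, ordFrac_eq, map_mul, toZ_mul]
    · exact (map_ne_zero _).2 hf
    · exact (map_ne_zero _).2 hg
  · unfold CycAlg.ordFrac
    rw [dif_neg h, dif_neg h, dif_neg h, add_zero]

theorem ordFrac_unit (u : Rˣ) : CycAlg.ordFrac R K (algebraMap R K (u : R)) = 0 := by
  by_cases h : IsNoetherianRing R ∧ Ring.KrullDimLE 1 R ∧ Nontrivial R ∧ IsFractionRing R K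
  · haveI := h.1; haveI := h.2.1; haveI := h.2.2.1; haveI := h.2.2.2
    haveI : IsDomain R := (IsFractionRing.injective R K).isDomain _
    rw [ordFrac_eq, Ring.ordFrac_of_isUnit u.isUnit, toZ_one]
  · unfold CycAlg.ordFrac
    rw [dif_neg h]

end Cond

section Transport

variable {R R' : Type u} [CommRing R] [CommRing R'] (e : R ≃+* R')

theorem ord_ringEquiv (x : R) : Ring.ord R' (e x) = Ring.ord R x := by
  unfold Ring.ord
  have hI : Ideal.span {e x} = Ideal.map (e : R →+* R') (Ideal.span {x}) := by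
    rw [Ideal.map_span, Set.image_singleton]
    rfl
  let q : (R ⧸ Ideal.span {x}) ≃+* (R' ⧸ Ideal.span {e x}) := Ideal.quotientEquiv _ _ e hI
  let f : (R ⧸ Ideal.span {x}) →ₛₗ[(e : R →+* R')] (R' ⧸ Ideal.span {e x}) :=
    { toFun := q
      map_add' := map_add q
      map_smul' := fun r m => by
        obtain ⟨m, rfl⟩ := Ideal.Quotient.mk_surjective m
        change q (Ideal.Quotient.mk _ (r * m)) = Ideal.Quotient.mk _ (e r * e m)
        rw [← map_mul]
        rfl }
  symm
  rw [Module.length, Module.length, WithBot.unbot_inj,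
    Order.krullDim_eq_of_orderIso (Submodule.orderIsoMapComapOfBijective f q.bijective)]

theorem mem_nonZeroDivisors_ringEquiv (x : R) :
    e x ∈ nonZeroDivisors R' ↔ x ∈ nonZeroDivisors R := by
  rw [mem_nonZeroDivisors_iff_right, mem_nonZeroDivisors_iff_right]
  constructor
  · intro h y hy
    have := h (e y) (by rw [← map_mul, hy, map_zero])
    exact (map_eq_zero_iff e e.injective).1 this
  · intro h y hy
    have := h (e.symm y) (by
      apply e.injective
      rw [map_mul, e.apply_symm_apply, hy, map_zero])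
    rw [← e.apply_symm_apply y, this, map_zero]

theorem ordMWZ_ringEquiv [Nontrivial R] [Nontrivial R'] (x : R) :
    Ring.ordMonoidWithZeroHom R' (e x) = Ring.ordMonoidWithZeroHom R x := by
  by_cases hx : x ∈ nonZeroDivisors R
  · have hx' := (mem_nonZeroDivisors_ringEquiv e x).2 hx
    rw [Ring.ordMonoidWithZeroHom_eq_ord hx, Ring.ordMonoidWithZeroHom_eq_ord hx', ord_ringEquiv]
  · have hx' : e x ∉ nonZeroDivisors R' := fun h => hx ((mem_nonZeroDivisors_ringEquiv e x).1 h)
    rw [Ring.ordMonoidWithZeroHom_eq_zero hx, Ring.ordMonoidWithZeroHom_eq_zero hx']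

variable {K K' : Type u} [Field K] [Field K'] [Algebra R K] [Algebra R' K'] (eK : K ≃+* K')
  (hcomm : ∀ r, eK (algebraMap R K r) = algebraMap R' K' (e r))

include hcomm in
theorem ordFrac_ringEquiv [IsNoetherianRing R] [Ring.KrullDimLE 1 R] [Nontrivial R]
    [IsFractionRing R K] [IsNoetherianRing R'] [Ring.KrullDimLE 1 R'] [Nontrivial R']
    [IsFractionRing R' K'] (f : K) : Ring.ordFrac R' (eK f) = Ring.ordFrac R f := by
  obtain ⟨a, b, hb, rfl⟩ := IsFractionRing.div_surjective (A := R) f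
  rw [map_div₀, map_div₀, map_div₀, hcomm, hcomm]
  by_cases ha : a = 0
  · simp [ha]
  · have hb0 : b ≠ 0 := nonZeroDivisors.ne_zero hb
    rw [Ring.ordFrac_eq_ord R ha, Ring.ordFrac_eq_ord R hb0,
      Ring.ordFrac_eq_ord R' ((map_ne_zero_iff e e.injective).2 ha),
      Ring.ordFrac_eq_ord R' ((map_ne_zero_iff e e.injective).2 hb0),
      ordMWZ_ringEquiv, ordMWZ_ringEquiv]

include hcomm in
theorem isFractionRing_ringEquiv [IsFractionRing R K] : IsFractionRing R' K' := by
  refine ⟨?_, ?_, ?_⟩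
  · rintro ⟨y, hy⟩
    have hy' : e.symm y ∈ nonZeroDivisors R := by
      rw [← mem_nonZeroDivisors_ringEquiv e, e.apply_symm_apply]
      exact hy
    have h1 : IsUnit (algebraMap R K (e.symm y)) :=
      IsLocalization.map_units K (⟨e.symm y, hy'⟩ : nonZeroDivisors R)
    have h2 := h1.map eK
    rwa [hcomm, e.apply_symm_apply] at h2
  · intro z
    obtain ⟨⟨a, b⟩, hab⟩ := IsLocalization.surj (nonZeroDivisors R) (eK.symm z)
    refine ⟨⟨e a, ⟨e b, (mem_nonZeroDivisors_ringEquiv e b).2 b.2⟩⟩, ?_⟩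
    have := congrArg eK hab
    rwa [map_mul, eK.apply_symm_apply, hcomm, hcomm] at this
  · intro x y hxy
    have h1 : algebraMap R K (e.symm x) = algebraMap R K (e.symm y) := by
      apply eK.injective
      rw [hcomm, hcomm, e.apply_symm_apply, e.apply_symm_apply, hxy]
    obtain ⟨c, hc⟩ := IsLocalization.exists_of_eq (M := nonZeroDivisors R) h1
    refine ⟨⟨e c, (mem_nonZeroDivisors_ringEquiv e c).2 c.2⟩, ?_⟩
    have := congrArg e hc
    rwa [map_mul, map_mul, e.apply_symm_apply, e.apply_symm_apply] at this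

include hcomm in
/-- transport of the order function along compatible isomorphisms -/
theorem cyc_ordFrac_ringEquiv [IsNoetherianRing R] [Ring.KrullDimLE 1 R] [Nontrivial R]
    [IsFractionRing R K] (f : K) : CycAlg.ordFrac R' K' (eK f) = CycAlg.ordFrac R K f := by
  haveI : IsNoetherianRing R' := isNoetherianRing_of_ringEquiv R e
  haveI : Nontrivial R' := e.injective.nontrivial
  haveI : Ring.KrullDimLE 1 R' := by
    have h1 : ringKrullDim R' = ringKrullDim R := (ringKrullDim_eq_of_ringEquiv e).symm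
    have h2 : ringKrullDim R ≤ 1 := Ring.krullDimLE_iff.1 inferInstance
    exact Ring.krullDimLE_iff.2 (h1 ▸ h2)
  haveI : IsFractionRing R' K' := isFractionRing_ringEquiv e eK hcomm
  rw [ordFrac_eq, ordFrac_eq, ordFrac_ringEquiv e eK hcomm]

end Transport

end Groth.Agent.Lead.SecOrd
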