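import Mathlib
import Groth.Prelude.Def_C1
import Groth.Agent.Lib.Lead.SecOrd0
import Groth.Agent.Lib.Lead.RkSch

/-!
# The order of a rational function along the generic point (lead)
-/

set_option autoImplicit false
set_option backward.isDefEq.respectTransparency.types false
set_option synthInstance.maxHeartbeats 400000
set_option linter.style.haveILetI false
set_option linter.unusedSectionVars false
universe u

open CategoryTheory CategoryTheory.Limits AlgebraicGeometry TopologicalSpace Opposite

namespace Groth.Agent.Lead.SecOrd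

variable {X : Scheme.{u}} [IsIntegral X]

theorem specMap_injective (x : X) (h : genericPoint X ⤳ x) :
    Function.Injective (Cyc.specMap x (genericPoint X) h) := by
  have h1 : Function.Injective (X.presheaf.stalkSpecializes h).hom :=
    IsFractionRing.injective (X.presheaf.stalk x) X.functionField
  have h2 : Function.Injective (X.residue (genericPoint X)).hom :=
    RingHom.injective (R := X.functionField) _
  exact h2.comp h1

/-- `O_x ≃ O_x / 𝔭_η` -/
noncomputable def eQuot (x : X) (h : genericPoint X ⤳ x) :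
    X.presheaf.stalk x ≃+* Cyc.LocQuot x (genericPoint X) h :=
  RingEquiv.ofBijective (Ideal.Quotient.mk (RingHom.ker (Cyc.specMap x (genericPoint X) h)))
    ⟨by
      rw [RingHom.injective_iff_ker_eq_bot, Ideal.mk_ker,
        (RingHom.injective_iff_ker_eq_bot _).1 (specMap_injective x h)],
     Ideal.Quotient.mk_surjective⟩

/-- `K ≃ κ(η)` -/
noncomputable def eRes : X.functionField ≃+* X.residueField (genericPoint X) :=
  RingEquiv.ofBijective (X.residue (genericPoint X)).hom
    ⟨RingHom.injective (R := X.functionField) _, IsLocalRing.residue_surjective⟩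

theorem eRes_apply (g : X.functionField) : eRes g = X.residue (genericPoint X) g := rfl

theorem ordAt_generic [IsLocallyNoetherian X] (x : X) (h : genericPoint X ⤳ x)
    [Ring.KrullDimLE 1 (X.presheaf.stalk x)] (g : X.functionField) :
    Cyc.ordAt x (genericPoint X) h (X.residue (genericPoint X) g) =
      CycAlg.ordFrac (X.presheaf.stalk x) X.functionField g := by
  unfold Cyc.ordAt
  exact cyc_ordFrac_ringEquiv (eQuot x h) (eRes (X := X)) (fun r => rfl) g

open Groth.Agent.Helper1.QcCech Groth.Agent.Helper1.LGen Groth.Agent.Lead.RkSch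

variable (L : X.Modules)

/-- specialization of germs of a module -/
noncomputable def spM {x y : X} (h : y ⤳ x) : L.presheaf.stalk x → L.presheaf.stalk y :=
  (L.presheaf.stalkSpecializes h).hom

theorem spM_germ {x y : X} (h : y ⤳ x) {U : X.Opens} (hx : x ∈ U) (n : Γ(L, U)) :
    spM L h (L.presheaf.germ U x hx n) = L.presheaf.germ U y (h.mem_open U.2 hx) n :=
  TopCat.Presheaf.germ_stalkSpecializes_apply L.presheaf hx h n

theorem spM_add {x y : X} (h : y ⤳ x) (m m' : L.presheaf.stalk x) :
    spM L h (m + m') = spM L h m + spM L h m' := map_add (L.presheaf.stalkSpecializes h).hom m m'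

theorem spO_germ {x y : X} (h : y ⤳ x) {U : X.Opens} (hx : x ∈ U) (r : Γ(X, U)) :
    (X.presheaf.stalkSpecializes h).hom (X.presheaf.germ U x hx r) =
      X.presheaf.germ U y (h.mem_open U.2 hx) r :=
  TopCat.Presheaf.germ_stalkSpecializes_apply X.presheaf hx h r

theorem spM_smul {x y : X} (h : y ⤳ x) (ρ : X.presheaf.stalk x) (m : L.presheaf.stalk x) :
    spM L h (ρ • m) = (X.presheaf.stalkSpecializes h).hom ρ • spM L h m := by
  obtain ⟨U₁, hx₁, r, rfl⟩ := TopCat.Presheaf.exists_germ_eq X.presheaf ρ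
  obtain ⟨U₂, hx₂, n, rfl⟩ := TopCat.Presheaf.exists_germ_eq L.presheaf m
  have e1 : X.presheaf.germ U₁ x hx₁ r =
      X.presheaf.germ (U₁ ⊓ U₂) x ⟨hx₁, hx₂⟩ (resR (inf_le_left : U₁ ⊓ U₂ ≤ U₁) r) :=
    (germ_resR (inf_le_left : U₁ ⊓ U₂ ≤ U₁) x ⟨hx₁, hx₂⟩ r).symm
  have e2 : L.presheaf.germ U₂ x hx₂ n =
      L.presheaf.germ (U₁ ⊓ U₂) x ⟨hx₁, hx₂⟩ (res L (inf_le_right : U₁ ⊓ U₂ ≤ U₂) n) :=
    (germ_res L (inf_le_right : U₁ ⊓ U₂ ≤ U₂) x ⟨hx₁, hx₂⟩ n).symm
  rw [e1, e2, ← gsm, spM_germ, spO_germ, spM_germ, gsm]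

/-- the class of an element of the generic stalk in the fibre -/
noncomputable def mkη (m : L.presheaf.stalk (genericPoint X)) : Cyc.secFibre L (genericPoint X) :=
  Submodule.Quotient.mk m

theorem maximalIdeal_generic :
    IsLocalRing.maximalIdeal (X.presheaf.stalk (genericPoint X)) = ⊥ :=
  IsLocalRing.isField_iff_maximalIdeal_eq.1 (Field.toIsField X.functionField)

theorem mkη_eq_zero_iff (m : L.presheaf.stalk (genericPoint X)) : mkη L m = 0 ↔ m = 0 := by
  unfold mkη
  rw [Submodule.Quotient.mk_eq_zero, maximalIdeal_generic, Submodule.bot_smul, Submodule.mem_bot]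

theorem mkη_injective : Function.Injective (mkη L) := by
  intro m m' h
  have : mkη L (m - m') = 0 := by
    unfold mkη at h ⊢
    rw [Submodule.Quotient.mk_sub, h, sub_self]
  exact sub_eq_zero.1 ((mkη_eq_zero_iff L _).1 this)

theorem mkη_surjective : Function.Surjective (mkη L) := Submodule.Quotient.mk_surjective _

theorem mkη_smul (g : X.functionField) (m : L.presheaf.stalk (genericPoint X)) :
    mkη L (g • m) = g • mkη L m := rfl

variable {L}

/-- the order of the rational section `g • a` along `x`, for a local generator `a` near `x` -/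
theorem secOrdAt_eq [IsLocallyNoetherian X] {W : X.Opens} {a : Γ(L, W)} (ha : IsGen L W a)
    (x : X) (hx : x ∈ W) (h : genericPoint X ⤳ x) [Ring.KrullDimLE 1 (X.presheaf.stalk x)]
    (g : X.functionField) :
    Cyc.secOrdAt L (genericPoint X) x h
        (mkη L (g • L.presheaf.germ W (genericPoint X) (h.mem_open W.2 hx) a)) =
      CycAlg.ordFrac (X.presheaf.stalk x) X.functionField g := by
  have hηW : genericPoint X ∈ W := h.mem_open W.2 hx
  obtain ⟨hx0, hx1⟩ := (freeAt_iff a x hx).1 (freeAt_of_isGen ha x hx)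
  obtain ⟨hη0, hη1⟩ := (freeAt_iff a _ hηW).1 (freeAt_of_isGen ha _ hηW)
  have ht : ∃ t : L.presheaf.stalk x, Submodule.span (X.presheaf.stalk x) {t} = ⊤ := by
    refine ⟨L.presheaf.germ W x hx a, ?_⟩
    rw [eq_top_iff]
    intro v _
    obtain ⟨ρ, hρ⟩ := hx1 v
    rw [← hρ]
    exact Submodule.smul_mem _ _ (Submodule.subset_span rfl)
  -- the chosen generator differs from the germ of `a` by a unit
  obtain ⟨u, hu⟩ := hx1 (Classical.choose ht)
  have hmem : L.presheaf.germ W x hx a ∈
      Submodule.span (X.presheaf.stalk x) {Classical.choose ht} := by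
    rw [Classical.choose_spec ht]
    trivial
  obtain ⟨v, hv⟩ := Submodule.mem_span_singleton.1 hmem
  have hvu : v * u = 1 := by
    have h1 : (v * u - 1) • L.presheaf.germ W x hx a = 0 := by
      rw [sub_smul, one_smul, mul_smul, hu, hv, sub_self]
    exact sub_eq_zero.1 (hx0 _ h1)
  have huu : IsUnit u := IsUnit.of_mul_eq_one v (by rw [mul_comm]; exact hvu)
  set u' : X.functionField := (X.presheaf.stalkSpecializes h).hom u with hu'
  have hu'0 : u' ≠ 0 := (huu.map (X.presheaf.stalkSpecializes h).hom).ne_zero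
  have hsp : spM L h (Classical.choose ht) =
      u' • L.presheaf.germ W (genericPoint X) hηW a := by
    rw [← hu, spM_smul, spM_germ]
  have hφ : ∃ φ : X.presheaf.stalk (genericPoint X),
      mkη L (g • L.presheaf.germ W (genericPoint X) hηW a) =
        φ • (Submodule.Quotient.mk ((L.presheaf.stalkSpecializes h) (Classical.choose ht)) :
          Cyc.secFibre L (genericPoint X)) := by
    refine ⟨g * u'⁻¹, ?_⟩
    change _ = (g * u'⁻¹) • mkη L (spM L h (Classical.choose ht))
    rw [hsp, ← mkη_smul, smul_smul, mul_assoc, inv_mul_cancel₀ hu'0, mul_one]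
  obtain ⟨φ₀, hφ₀, hφ₀def⟩ : ∃ φ₀ : X.presheaf.stalk (genericPoint X),
      (mkη L (g • L.presheaf.germ W (genericPoint X) hηW a) =
        φ₀ • (Submodule.Quotient.mk ((L.presheaf.stalkSpecializes h) (Classical.choose ht)) :
          Cyc.secFibre L (genericPoint X))) ∧ φ₀ = Classical.choose hφ :=
    ⟨_, Classical.choose_spec hφ, rfl⟩
  have hkey : g = φ₀ * u' := by
    have h1 := hφ₀
    change _ = φ₀ • mkη L (spM L h (Classical.choose ht)) at h1
    rw [hsp, ← mkη_smul, smul_smul] at h1
    have h2 := mkη_injective L h1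
    have h3 : (g - φ₀ * u') • L.presheaf.germ W (genericPoint X) hηW a = 0 := by
      rw [sub_smul, h2, sub_self]
    exact sub_eq_zero.1 (hη0 _ h3)
  have hord : Cyc.secOrdAt L (genericPoint X) x h
      (mkη L (g • L.presheaf.germ W (genericPoint X) hηW a)) =
      Cyc.ordAt x (genericPoint X) h (X.residue (genericPoint X) φ₀) := by
    unfold Cyc.secOrdAt
    rw [dif_pos ht, dif_pos hφ, hφ₀def]
  rw [hord, ordAt_generic]
  clear hord hφ₀def hφ₀ hφ
  by_cases hφ0 : φ₀ = 0
  · rw [hkey, hφ0, zero_mul]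
  · rw [hkey, ordFrac_mul _ _ hφ0 hu'0]
    have : u' = algebraMap (X.presheaf.stalk x) X.functionField
        ((huu.unit : (X.presheaf.stalk x)ˣ) : _) := rfl
    rw [this, ordFrac_unit, add_zero]

theorem exists_eq_mkη_smul {W : X.Opens} {a : Γ(L, W)} (ha : IsGen L W a)
    (hηW : genericPoint X ∈ W) (s : Cyc.secFibre L (genericPoint X)) :
    ∃ g : X.functionField, s = mkη L (g • L.presheaf.germ W (genericPoint X) hηW a) := by
  obtain ⟨m, rfl⟩ := mkη_surjective L s
  obtain ⟨-, hη1⟩ := (freeAt_iff a _ hηW).1 (freeAt_of_isGen ha _ hηW)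
  obtain ⟨g, hg⟩ := hη1 m
  exact ⟨g, by rw [hg]⟩

theorem mkη_smul_eq_zero_iff {W : X.Opens} {a : Γ(L, W)} (ha : IsGen L W a)
    (hηW : genericPoint X ∈ W) (g : X.functionField) :
    mkη L (g • L.presheaf.germ W (genericPoint X) hηW a) = 0 ↔ g = 0 := by
  obtain ⟨hη0, -⟩ := (freeAt_iff a _ hηW).1 (freeAt_of_isGen ha _ hηW)
  rw [mkη_eq_zero_iff]
  constructor
  · exact hη0 g
  · rintro rfl
    exact zero_smul _ _

theorem mkη_smul_injective {W : X.Opens} {a : Γ(L, W)} (ha : IsGen L W a)
    (hηW : genericPoint X ∈ W) (g g' : X.functionField)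
    (h : mkη L (g • L.presheaf.germ W (genericPoint X) hηW a) =
      mkη L (g' • L.presheaf.germ W (genericPoint X) hηW a)) : g = g' := by
  have h1 : mkη L ((g - g') • L.presheaf.germ W (genericPoint X) hηW a) = 0 := by
    rw [sub_smul]
    unfold mkη at h ⊢
    rw [Submodule.Quotient.mk_sub, h, sub_self]
  exact sub_eq_zero.1 ((mkη_smul_eq_zero_iff ha hηW _).1 h1)

theorem genericPoint_mem (W : X.Opens) (x : X) (hx : x ∈ W) : genericPoint X ∈ W :=
  ((genericPoint_spec X).specializes (Set.mem_univ x)).mem_open W.2 hx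

end Groth.Agent.Lead.SecOrd
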