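import Mathlib
import Groth.Prelude.Def_C1
import Groth.Prelude.Def_Pi1
import Groth.Agent.Lib.Lead.SecOrd1
import Groth.Agent.Lib.Helper6.CDiv1.NormalThms
import Groth.Agent.Lib.Helper1.TwistAmple
import Groth.Agent.Lib.Helper1.TwForm4

/-!
# Rational sections with the divisor of a function, on a normal scheme (lead)
-/

set_option autoImplicit false
set_option backward.isDefEq.respectTransparency.types false
set_option synthInstance.maxHeartbeats 400000
set_option linter.style.haveILetI false
set_option linter.unusedSectionVars false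
universe u

open CategoryTheory CategoryTheory.Limits AlgebraicGeometry TopologicalSpace Opposite

namespace Groth.Agent.Lead.SecOrd

open Groth.Agent.Helper1.QcCech Groth.Agent.Helper1.LGen Groth.Agent.Lead.RkSch Groth.Agent.Lead.SD
  Groth.Agent.Lib.Helper6.CDiv1 Groth.Agent.Helper1

variable {X : Scheme.{u}} [IsIntegral X] [IsLocallyNoetherian X]

/-- the order of the prelude agrees with Mathlib's order at a point of codimension one -/
theorem ordFrac_eq_ord (x : X) (hx : Order.coheight x = 1) (g : X.functionField) :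
    haveI : Ring.KrullDimLE 1 (X.presheaf.stalk x) := krullDimLE_of_coheight_le hx.le
    CycAlg.ordFrac (X.presheaf.stalk x) X.functionField g = Scheme.ord g x := by
  haveI : Ring.KrullDimLE 1 (X.presheaf.stalk x) := krullDimLE_of_coheight_le hx.le
  by_cases hg : g = 0
  · subst hg
    rw [ordFrac_zero, Scheme.ord_zero]
    rfl
  · rw [ordFrac_eq, Scheme.ord_eq_unzero_ordHom hx hg]
    have hne : Ring.ordFrac (X.presheaf.stalk x) g ≠ 0 := (map_ne_zero _).2 hg
    obtain ⟨z, hz⟩ := WithZero.ne_zero_iff_exists.1 hne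
    have h1 : Scheme.ordHom x hx g = (z : WithZero (Multiplicative ℤ)) := hz.symm
    rw [← hz, toZ_coe]
    congr 1
    apply WithZero.coe_injective
    rw [WithZero.coe_unzero, h1]

/-- Hartogs on a normal scheme: a rational function without poles in codimension one is regular -/
theorem inStalk_of_ord_nonneg_all (hX : Pi1.IsNormalScheme X) (y : X) (u : X.functionField)
    (hu : u ≠ 0)
    (H : ∀ z : X, z ⤳ y → Order.coheight z = 1 → 0 ≤ Scheme.ord u z) : InStalk y u := by
  by_contra hcon
  obtain ⟨z, hzy, hzn, hzgen⟩ := exists_minimal_nonregular y (Units.mk0 u hu) hcon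
  haveI := isDiscreteValuationRing_stalk_of_regular_off hX z _ hzn hzgen
  have hz1 := coheight_eq_one_of_isDiscreteValuationRing z
  exact hzn (inStalk_of_ord_nonneg z _ hu (H z hzy hz1))

theorem ord_one (x : X) : Scheme.ord (1 : X.functionField) x = 0 := by
  have h := Scheme.ord_mul (X := X) (x := x) (one_ne_zero (α := X.functionField))
    (one_ne_zero (α := X.functionField))
  rw [one_mul] at h
  omega

theorem ord_inv (x : X) {f : X.functionField} (hf : f ≠ 0) :
    Scheme.ord f⁻¹ x = - Scheme.ord f x := by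
  have h := Scheme.ord_mul (X := X) (x := x) hf (inv_ne_zero hf)
  rw [mul_inv_cancel₀ hf, ord_one] at h
  omega

variable {L : X.Modules}

theorem spM_injective {W : X.Opens} {a : Γ(L, W)} (ha : IsGen L W a) (y : X) (hy : y ∈ W)
    (h : genericPoint X ⤳ y) : Function.Injective (spM L h) := by
  have hηW : genericPoint X ∈ W := h.mem_open W.2 hy
  obtain ⟨-, hy1⟩ := (freeAt_iff a y hy).1 (freeAt_of_isGen ha y hy)
  obtain ⟨hη0, -⟩ := (freeAt_iff a _ hηW).1 (freeAt_of_isGen ha _ hηW)
  intro m m' hmm'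
  obtain ⟨ρ, rfl⟩ := hy1 m
  obtain ⟨ρ', rfl⟩ := hy1 m'
  rw [spM_smul, spM_smul, spM_germ] at hmm'
  have h1 : ((X.presheaf.stalkSpecializes h).hom ρ - (X.presheaf.stalkSpecializes h).hom ρ') •
      L.presheaf.germ W _ hηW a = 0 := by
    rw [sub_smul, hmm', sub_self]
  have h2 := sub_eq_zero.1 (hη0 _ h1)
  have h3 : ρ = ρ' := IsFractionRing.injective (X.presheaf.stalk y) X.functionField h2
  rw [h3]

theorem S5103_main (hX : Pi1.IsNormalScheme X) (L : X.Modules) (hL : PicF.IsInvertible L)
    (s : Cyc.secFibre L (genericPoint X)) (hs : s ≠ 0) (f : X.functionField) (hf : f ≠ 0)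
    (h : ∀ x : X, Order.coheight x = 1 →
      Cyc.secOrdAt L (genericPoint X) x (genericPoint_specializes x) s = Scheme.ord f x) :
    Nonempty (L ≅ Coh.structureModule X) := by
  obtain ⟨ŝ, rfl⟩ := mkη_surjective L s
  have key : ∀ y : X, ∃ t : L.presheaf.stalk y,
      spM L (genericPoint_specializes y) t = f⁻¹ • ŝ ∧
      (∀ ρ : X.presheaf.stalk y, ρ • t = 0 → ρ = 0) ∧
      (∀ v : L.presheaf.stalk y, ∃ ρ : X.presheaf.stalk y, ρ • t = v) := by
    intro y
    obtain ⟨W, a, hyW, ha⟩ := exists_isGen hL y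
    have hηW : genericPoint X ∈ W := genericPoint_mem W y hyW
    obtain ⟨hy0, hy1⟩ := (freeAt_iff a y hyW).1 (freeAt_of_isGen ha y hyW)
    obtain ⟨g, hg⟩ := exists_eq_mkη_smul ha hηW (mkη L ŝ)
    have hŝ : ŝ = g • L.presheaf.germ W _ hηW a := mkη_injective L hg
    have hg0 : g ≠ 0 := by
      rintro rfl
      apply hs
      rw [hg]
      exact (mkη_smul_eq_zero_iff ha hηW 0).2 rfl
    have hord : ∀ z : X, z ⤳ y → Order.coheight z = 1 → Scheme.ord g z = Scheme.ord f z := by
      intro z hzy hz1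
      have hzW : z ∈ W := hzy.mem_open W.2 hyW
      haveI : Ring.KrullDimLE 1 (X.presheaf.stalk z) := krullDimLE_of_coheight_le hz1.le
      have h1 := h z hz1
      rw [hg, secOrdAt_eq ha z hzW _ g, ordFrac_eq_ord z hz1] at h1
      exact h1
    have hu1 : InStalk y (g * f⁻¹) :=
      inStalk_of_ord_nonneg_all hX y _ (mul_ne_zero hg0 (inv_ne_zero hf)) (fun z hzy hz1 => by
        rw [Scheme.ord_mul hg0 (inv_ne_zero hf), ord_inv z hf, hord z hzy hz1]
        omega)
    have hu2 : InStalk y (f * g⁻¹) :=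
      inStalk_of_ord_nonneg_all hX y _ (mul_ne_zero hf (inv_ne_zero hg0)) (fun z hzy hz1 => by
        rw [Scheme.ord_mul hf (inv_ne_zero hg0), ord_inv z hg0, hord z hzy hz1]
        omega)
    obtain ⟨υ, hυ⟩ := hu1
    obtain ⟨υ', hυ'⟩ := hu2
    have hυυ' : υ * υ' = 1 := by
      apply IsFractionRing.injective (X.presheaf.stalk y) X.functionField
      rw [map_mul, hυ, hυ', map_one]
      field_simp
    refine ⟨υ • L.presheaf.germ W y hyW a, ?_, ?_, ?_⟩
    · rw [spM_smul, spM_germ]
      change algebraMap (X.presheaf.stalk y) X.functionField υ • _ = _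
      rw [hυ, hŝ, smul_smul]
      congr 1
      ring
    · intro ρ hρ
      rw [smul_smul] at hρ
      have h1 := hy0 _ hρ
      have h2 : ρ * υ * υ' = 0 := by rw [h1, zero_mul]
      rwa [mul_assoc, hυυ', mul_one] at h2
    · intro v
      obtain ⟨ρ, hρ⟩ := hy1 v
      exact ⟨ρ * υ', by rw [smul_smul, mul_assoc, mul_comm υ' υ, hυυ', mul_one, hρ]⟩
  choose t ht1 ht2 ht3 using key
  obtain ⟨σ, hσ⟩ := Groth.Agent.Lead.RH.exists_section_of_germs L ⊤ (fun y => t y.1) (by
    intro y
    obtain ⟨W', hyW', n, hn⟩ := TopCat.Presheaf.exists_germ_eq L.presheaf (t y.1)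
    refine ⟨W', hyW', le_top, n, fun y' => ?_⟩
    obtain ⟨W, a, hyW, ha⟩ := exists_isGen hL y'.1
    apply spM_injective ha y'.1 hyW (genericPoint_specializes y'.1)
    rw [ht1, spM_germ, ← spM_germ L (genericPoint_specializes y.1) hyW' n, hn, ht1])
  have hgen : IsGen L ⊤ σ := isGen_of_freeAt σ (fun y hy => (freeAt_iff σ y hy).2
    ⟨by rw [hσ ⟨y, hy⟩]; exact ht2 y, by rw [hσ ⟨y, hy⟩]; exact ht3 y⟩)
  have hiso : IsIso (TwistAmple.homOfSec L σ) := by
    apply TwForm.isIso_of_app_bijective
    intro V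
    exact hgen V le_top
  exact ⟨(@asIso _ _ _ _ _ hiso).symm⟩

end Groth.Agent.Lead.SecOrd
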