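import Mathlib
import Groth.Prelude.Def_C1
import Groth.Prelude.Def_Pi1
import Groth.Agent.Lib.Lead.SecOrd4
import Groth.Agent.Lib.Lead.RkSch
import Groth.Agent.Lib.Lead.RH6

/-!
# Rank one reflexive modules on a normal scheme: local generators at points of codimension one (lead)
-/

set_option autoImplicit false
set_option backward.isDefEq.respectTransparency.types false
set_option synthInstance.maxHeartbeats 400000
set_option linter.style.haveILetI false
set_option linter.unusedSectionVars false
universe u

open CategoryTheory CategoryTheory.Limits AlgebraicGeometry TopologicalSpace Opposite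

namespace Groth.Agent.Lead.Ref1

open Groth.Agent.Helper1.QcCech Groth.Agent.Helper1.LGen Groth.Agent.Lead.RkSch Groth.Agent.Lead.SD
  Groth.Agent.Lib.Helper6.CDiv1 Groth.Agent.Helper1 Groth.Agent.Lead.RH

/-- a Noetherian integrally closed local domain of dimension one is a discrete valuation ring -/
theorem isDVR_of_dim_one (R : Type u) [CommRing R] [IsDomain R] [IsLocalRing R] [IsNoetherianRing R]
    [IsIntegrallyClosed R] (h : ringKrullDim R = 1) : IsDiscreteValuationRing R := by
  have hnf : ¬ IsField R := by
    intro hf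
    have := ringKrullDim_eq_zero_of_isField hf
    rw [h] at this
    exact one_ne_zero this
  haveI : Ring.KrullDimLE 1 R := by
    rw [Ring.krullDimLE_iff, h]
    rfl
  have key := (IsDiscreteValuationRing.TFAE R hnf).out 3 0
  apply key.mp
  refine ⟨inferInstance, IsLocalRing.maximalIdeal R, ⟨?_, inferInstance⟩, ?_⟩
  · intro hbot
    exact hnf (IsLocalRing.isField_iff_maximalIdeal_eq.2 hbot)
  · rintro P ⟨hP0, hP⟩
    exact IsLocalRing.eq_maximalIdeal (hP.isMaximal_of_ne_bot hP0)

variable {X : Scheme.{u}} [IsIntegral X] [IsLocallyNoetherian X]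

theorem isDVR_of_coheight_one (hX : Pi1.IsNormalScheme X) (x : X) (hx : Order.coheight x = 1) :
    IsDiscreteValuationRing (X.presheaf.stalk x) := by
  haveI : IsIntegrallyClosed (X.presheaf.stalk x) := (hX x).2
  apply isDVR_of_dim_one
  rw [ringKrullDim_stalk_eq_coheight, hx]
  rfl

variable {F : X.Modules}

/-- a rank one coherent module with a reflexive stalk at a point whose local ring is factorial has a free generator
near that point -/
theorem exists_isGen_at (hF : Coh.IsCoh F) (hrk : RefHull.GenInvertible F) (x : X)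
    [UniqueFactorizationMonoid (X.presheaf.stalk x)]
    [Module.IsReflexive (X.presheaf.stalk x) (F.presheaf.stalk x)] :
    ∃ (W : X.Opens) (a : Γ(F, W)), x ∈ W ∧ IsGen F W a := by
  obtain ⟨hq, hft⟩ := hF
  obtain ⟨W, a, hη, ha⟩ := exists_isGen_generic hrk
  have hfree := freeAt_of_isGen ha _ hη
  haveI : Module.Finite (X.presheaf.stalk x) (F.presheaf.stalk x) :=
    Groth.Agent.Helper7.FinType.stalk_finite_of_isCoh F ⟨hq, hft⟩ x
  haveI := nontrivial_stalk hq hη a hfree hft x
  obtain ⟨g, hg⟩ := RkOne.exists_gen (dep_stalk hq hη a hfree x)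
  refine exists_isGen_of_free_stalk hq hft x g (fun ρ hρ => ?_) (fun v => hg.2 v)
  apply hg.1
  change ρ • g = (0 : X.presheaf.stalk x) • g
  rw [hρ, zero_smul]

theorem exists_isGen_codim_one (hX : Pi1.IsNormalScheme X) (hF : RefHull.IsRef1 F) (x : X)
    (hx : Order.coheight x = 1) : ∃ (W : X.Opens) (a : Γ(F, W)), x ∈ W ∧ IsGen F W a := by
  haveI := isDVR_of_coheight_one hX x hx
  haveI : Module.IsReflexive (X.presheaf.stalk x) (F.presheaf.stalk x) :=
    (isReflexive_iff (FpLocal.isFP_of_isCoh F hF.1)).1 hF.2.1 x
  exact exists_isGen_at hF.1 hF.2.2 x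

end Groth.Agent.Lead.Ref1
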