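import Mathlib
import Groth.Prelude.Def_C1
import Groth.Prelude.Def_Pi1
import Groth.Agent.Lib.Lead.Ref1A

/-!
# Specialization to the generic point, sheaf Hom and the extension property over points of codimension one (lead)
-/

set_option autoImplicit false
set_option backward.isDefEq.respectTransparency.types false
set_option synthInstance.maxHeartbeats 400000
set_option linter.style.haveILetI false
set_option linter.unusedSectionVars false
universe u

open CategoryTheory CategoryTheory.Limits AlgebraicGeometry TopologicalSpace Opposite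

namespace Groth.Agent.Lead.Ref1

open Groth.Agent.Helper1.QcCech Groth.Agent.Helper1.LGen Groth.Agent.Lead.RkSch Groth.Agent.Lead.SD
  Groth.Agent.Lib.Helper6.CDiv1 Groth.Agent.Helper1 Groth.Agent.Lead.RH Groth.Agent.Lead.SecOrd

variable {X : Scheme.{u}} [IsIntegral X]

/-- stalk maps commute with specialization -/
theorem stalkMapₗ_spM {A B : X.Modules} (φ : A ⟶ B) {y y' : X} (h : y' ⤳ y)
    (v : A.presheaf.stalk y) :
    RefHull.stalkMapₗ φ y' (spM A h v) = spM B h (RefHull.stalkMapₗ φ y v) := by
  obtain ⟨U, hy, s, rfl⟩ := TopCat.Presheaf.exists_germ_eq A.presheaf v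
  rw [spM_germ, RefHull.stalkMapₗ_germ, RefHull.stalkMapₗ_germ, spM_germ]

theorem spM_zero (L : X.Modules) {x y : X} (h : y ⤳ x) : spM L h 0 = 0 :=
  map_zero (L.presheaf.stalkSpecializes h).hom

theorem spM_comp (L : X.Modules) {x y z : X} (h : y ⤳ x) (h' : z ⤳ y) (v : L.presheaf.stalk x) :
    spM L h' (spM L h v) = spM L (h'.trans h) v := by
  obtain ⟨U, hx, s, rfl⟩ := TopCat.Presheaf.exists_germ_eq L.presheaf v
  rw [spM_germ, spM_germ, spM_germ]

/-- evaluation of germs of the sheaf Hom commutes with specialization -/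
theorem evalStalk_spM (D G : X.Modules) {y y' : X} (h : y' ⤳ y)
    (θ : (RefHull.homSh D G).presheaf.stalk y) (d : D.presheaf.stalk y) :
    RefHull.evalStalk D G y' (spM (RefHull.homSh D G) h θ) (spM D h d) =
      spM G h (RefHull.evalStalk D G y θ d) := by
  obtain ⟨U, hyU, g, rfl⟩ := TopCat.Presheaf.exists_germ_eq (RefHull.homSh D G).presheaf θ
  obtain ⟨V, hyV, m, rfl⟩ := TopCat.Presheaf.exists_germ_eq D.presheaf d
  have e1 : D.presheaf.germ V y hyV m =
      D.presheaf.germ (U ⊓ V) y ⟨hyU, hyV⟩ (res D (inf_le_right : U ⊓ V ≤ V) m) :=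
    (germ_res D (inf_le_right : U ⊓ V ≤ V) y ⟨hyU, hyV⟩ m).symm
  rw [e1, spM_germ, spM_germ, RefHull.evalStalk_germ, RefHull.evalStalk_germ,
    ← germ_app g (inf_le_left : U ⊓ V ≤ U), ← germ_app g (inf_le_left : U ⊓ V ≤ U), spM_germ]

/-- every point is a specialization of the generic point -/
theorem gen (y : X) : genericPoint X ⤳ y := genericPoint_specializes y

/-- the generic stalk of a quasi-coherent module is spanned, over the function field, by any stalk -/
theorem exists_smul_spM (D : X.Modules) (hq : SheafOfModules.IsQuasicoherent.{u, u, u} D) (y : X)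
    (d' : D.presheaf.stalk (genericPoint X)) :
    ∃ (ρ : X.presheaf.stalk (genericPoint X)) (d : D.presheaf.stalk y),
      d' = ρ • spM D (gen y) d := by
  obtain ⟨_, ⟨V, hV, rfl⟩, hyV, -⟩ := X.isBasis_affineOpens.exists_subset_of_mem_open
    (Set.mem_univ y) isOpen_univ
  have hηV := (gen y).mem_open V.2 hyV
  obtain ⟨n, f, hf, e⟩ := Groth.Agent.Helper7.FinType.exists_germ_smul_eq D hq hV _ hηV d'
  obtain ⟨w, hw⟩ := hf
  refine ⟨↑w⁻¹, D.presheaf.germ V y hyV n, ?_⟩
  rw [spM_germ, ← e, ← hw, smul_smul, Units.inv_mul, one_smul]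

/-- specialization to the generic point is injective on all stalks -/
def SpInj (G : X.Modules) : Prop := ∀ y : X, Function.Injective (spM G (gen y))

/-- a germ at the generic point which comes from all points of codimension one above `y` comes from `y` -/
def Hart (G : X.Modules) : Prop :=
  ∀ (y : X) (c : G.presheaf.stalk (genericPoint X)),
    (∀ z : X, z ⤳ y → Order.coheight z = 1 → c ∈ Set.range (spM G (gen z))) →
    c ∈ Set.range (spM G (gen y))

theorem spInj_homSh (D G : X.Modules) (hq : SheafOfModules.IsQuasicoherent.{u, u, u} D)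
    (hft : SheafOfModules.IsFiniteType.{u, u, u} D) (hG : SpInj G) : SpInj (RefHull.homSh D G) := by
  intro y σ σ' h
  apply evalStalk_injective hq hft y
  refine LinearMap.ext fun d => ?_
  apply hG y
  rw [← evalStalk_spM, ← evalStalk_spM, h]

theorem mem_range_spM_homSh_iff (D G : X.Modules) (hD : CohB1.IsFP D) [G.IsQuasicoherent]
    (hG : SpInj G) (y : X) (σ : (RefHull.homSh D G).presheaf.stalk (genericPoint X)) :
    σ ∈ Set.range (spM (RefHull.homSh D G) (gen y)) ↔
      ∀ d : D.presheaf.stalk y, RefHull.evalStalk D G (genericPoint X) σ (spM D (gen y) d) ∈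
        Set.range (spM G (gen y)) := by
  haveI : SheafOfModules.IsFinitePresentation (R := X.ringCatSheaf) D := hD
  have hq : SheafOfModules.IsQuasicoherent.{u, u, u} D := inferInstance
  have hft : SheafOfModules.IsFiniteType.{u, u, u} D := inferInstance
  constructor
  · rintro ⟨θ, rfl⟩ d
    exact ⟨RefHull.evalStalk D G y θ d, (evalStalk_spM D G (gen y) θ d).symm⟩
  · intro h
    choose l hl using h
    let lin : RefHull.StalkHom D G y :=
      { toFun := l
        map_add' := fun d d' => by
          apply hG y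
          rw [hl, spM_add, spM_add, map_add, hl, hl]
        map_smul' := fun ρ d => by
          apply hG y
          rw [hl, RingHom.id_apply, spM_smul, spM_smul, map_smul, hl] }
    obtain ⟨θ, hθ⟩ := evalStalk_surjective hD y lin
    refine ⟨θ, ?_⟩
    apply evalStalk_injective hq hft (genericPoint X)
    refine LinearMap.ext fun d' => ?_
    obtain ⟨ρ, d, rfl⟩ := exists_smul_spM D hq y d'
    rw [map_smul, map_smul, evalStalk_spM, hθ]
    congr 1
    exact hl d

theorem hart_homSh (D G : X.Modules) (hD : CohB1.IsFP D) [G.IsQuasicoherent]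
    (hG : SpInj G) (hGh : Hart G) : Hart (RefHull.homSh D G) := by
  intro y σ hσ
  rw [mem_range_spM_homSh_iff D G hD hG]
  intro d
  apply hGh y
  intro z hzy hz
  have h1 := (mem_range_spM_homSh_iff D G hD hG z σ).1 (hσ z hzy hz) (spM D hzy d)
  rwa [spM_comp] at h1

/-- on a normal scheme a rational function regular at all points of codimension one above `y` is regular at `y` -/
theorem inStalk_of_codim_one [IsLocallyNoetherian X] (hX : Pi1.IsNormalScheme X) (y : X)
    (u : X.functionField)
    (H : ∀ z : X, z ⤳ y → Order.coheight z = 1 → InStalk z u) : InStalk y u := by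
  by_cases hu : u = 0
  · subst hu
    exact ⟨0, map_zero _⟩
  by_contra hcon
  obtain ⟨z, hzy, hzn, hzgen⟩ := exists_minimal_nonregular y (Units.mk0 u hu) hcon
  haveI := isDiscreteValuationRing_stalk_of_regular_off hX z _ hzn hzgen
  exact hzn (H z hzy (coheight_eq_one_of_isDiscreteValuationRing z))

open Groth.Agent.S8869.H8869 in
theorem spM_unitEquiv {y y' : X} (h : y' ⤳ y) (ρ : X.presheaf.stalk y) :
    spM (Coh.structureModule X) h (unitEquiv y ρ) =
      unitEquiv y' ((X.presheaf.stalkSpecializes h).hom ρ) := by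
  change spM (Coh.structureModule X) h (ρ • mgerm X y (Opens.mem_top y) 1) =
    (X.presheaf.stalkSpecializes h).hom ρ • mgerm X y' (Opens.mem_top y') 1
  rw [spM_smul]
  congr 1
  exact spM_germ (Coh.structureModule X) h (Opens.mem_top y) (toM X 1)

theorem spInj_structure : SpInj (Coh.structureModule X) := by
  intro y v v' h
  obtain ⟨ρ, rfl⟩ := (unitEquiv y).surjective v
  obtain ⟨ρ', rfl⟩ := (unitEquiv y).surjective v'
  rw [spM_unitEquiv, spM_unitEquiv] at h
  have h1 := (unitEquiv (genericPoint X)).injective h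
  have h2 : Function.Injective (X.presheaf.stalkSpecializes (gen y)).hom :=
    IsFractionRing.injective (X.presheaf.stalk y) X.functionField
  rw [h2 h1]

theorem hart_structure [IsLocallyNoetherian X] (hX : Pi1.IsNormalScheme X) :
    Hart (Coh.structureModule X) := by
  intro y c hc
  obtain ⟨u, rfl⟩ := (unitEquiv (genericPoint X)).surjective c
  have h1 : InStalk y u := by
    apply inStalk_of_codim_one hX y u
    intro z hzy hz
    obtain ⟨v, hv⟩ := hc z hzy hz
    obtain ⟨ρ, rfl⟩ := (unitEquiv z).surjective v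
    rw [spM_unitEquiv] at hv
    exact ⟨ρ, (unitEquiv (genericPoint X)).injective hv⟩
  obtain ⟨ρ, hρ⟩ := h1
  refine ⟨unitEquiv y ρ, ?_⟩
  rw [spM_unitEquiv]
  congr 1

theorem SpInj.of_iso {A B : X.Modules} (e : A ≅ B) (hA : SpInj A) : SpInj B := by
  intro y v v' h
  have h1 := congrArg (RefHull.stalkMapₗ e.inv (genericPoint X)) h
  rw [stalkMapₗ_spM, stalkMapₗ_spM] at h1
  exact (stalkMapₗ_bijective_of_isIso e.inv y).1 (hA y h1)

theorem Hart.of_iso {A B : X.Modules} (e : A ≅ B) (hA : Hart A) : Hart B := by
  intro y c hc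
  obtain ⟨v, hv⟩ := hA y (RefHull.stalkMapₗ e.inv (genericPoint X) c) (by
    intro z hzy hz
    obtain ⟨w, hw⟩ := hc z hzy hz
    exact ⟨RefHull.stalkMapₗ e.inv z w, by rw [← stalkMapₗ_spM, hw]⟩)
  refine ⟨RefHull.stalkMapₗ e.hom y v, ?_⟩
  rw [← stalkMapₗ_spM, hv]
  obtain ⟨U, hx, s, rfl⟩ := TopCat.Presheaf.exists_germ_eq B.presheaf c
  rw [RefHull.stalkMapₗ_germ, RefHull.stalkMapₗ_germ]
  congr 1
  change (e.inv ≫ e.hom).app U s = s
  rw [Iso.inv_hom_id]
  rfl

/-- a reflexive coherent module on an integral locally Noetherian scheme: specialization is injective -/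
theorem spInj_of_isReflexive [IsLocallyNoetherian X] {F : X.Modules} (hF : Coh.IsCoh F)
    (hr : RefHull.IsReflexive F) : SpInj F := by
  have hFP : CohB1.IsFP F := FpLocal.isFP_of_isCoh F hF
  have hd : CohB1.IsFP (RefHull.dual F) := isFP_homSh hFP (isFP_structureModule X)
  haveI : SheafOfModules.IsFinitePresentation (R := X.ringCatSheaf) (RefHull.dual F) := hd
  haveI : IsIso (RefHull.bidualMap F) := hr
  exact SpInj.of_iso (asIso (RefHull.bidualMap F)).symm
    (spInj_homSh _ _ inferInstance inferInstance spInj_structure)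

/-- a reflexive coherent module on a normal scheme has the extension property over points of codimension one -/
theorem hart_of_isReflexive [IsLocallyNoetherian X] (hX : Pi1.IsNormalScheme X) {F : X.Modules}
    (hF : Coh.IsCoh F) (hr : RefHull.IsReflexive F) : Hart F := by
  have hFP : CohB1.IsFP F := FpLocal.isFP_of_isCoh F hF
  have hd : CohB1.IsFP (RefHull.dual F) := isFP_homSh hFP (isFP_structureModule X)
  haveI : SheafOfModules.IsFinitePresentation (R := X.ringCatSheaf) (Coh.structureModule X) :=
    isFP_structureModule X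
  haveI : IsIso (RefHull.bidualMap F) := hr
  exact Hart.of_iso (asIso (RefHull.bidualMap F)).symm
    (hart_homSh _ _ hd spInj_structure (hart_structure hX))

end Groth.Agent.Lead.Ref1
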