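import Mathlib
import Groth.Prelude.Def_C1
import Groth.Prelude.Def_Pi1
import Groth.Agent.Lib.Lead.Ref1B

/-!
# Morphisms of modules from maps of generic stalks (lead)
-/

set_option autoImplicit false
set_option backward.isDefEq.respectTransparency.types false
set_option synthInstance.maxHeartbeats 400000
set_option linter.style.haveILetI false
set_option linter.unusedSectionVars false
universe u

open CategoryTheory CategoryTheory.Limits AlgebraicGeometry TopologicalSpace Opposite

namespace Groth.Agent.Lead.Ref1

open Groth.Agent.Helper1.QcCech Groth.Agent.Helper1.LGen Groth.Agent.Lead.RkSch Groth.Agent.Lead.SD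
  Groth.Agent.Lib.Helper6.CDiv1 Groth.Agent.Helper1 Groth.Agent.Lead.RH Groth.Agent.Lead.SecOrd

variable {X : Scheme.{u}} [IsIntegral X]

section HomOfGeneric

variable {F G : X.Modules} (hG : SpInj G)
  (T : F.presheaf.stalk (genericPoint X) →ₗ[X.presheaf.stalk (genericPoint X)]
    G.presheaf.stalk (genericPoint X))
  (hT : ∀ (y : X) (v : F.presheaf.stalk y), T (spM F (gen y) v) ∈ Set.range (spM G (gen y)))

include hG hT in
theorem exists_section_of_generic (U : X.Opens) (s : Γ(F, U)) :
    ∃ n : Γ(G, U), ∀ (y : X) (hy : y ∈ U), spM G (gen y) (G.presheaf.germ U y hy n) =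
      T (F.presheaf.germ U (genericPoint X) ((gen y).mem_open U.2 hy) s) := by
  choose τ hτ using hT
  have key : ∀ (y : X) (hy : y ∈ U), spM G (gen y) (τ y (F.presheaf.germ U y hy s)) =
      T (F.presheaf.germ U (genericPoint X) ((gen y).mem_open U.2 hy) s) := by
    intro y hy
    rw [hτ, spM_germ]
  obtain ⟨n, hn⟩ := exists_section_of_germs G U (fun y => τ y.1 (F.presheaf.germ U y.1 y.2 s)) (by
    intro x
    obtain ⟨W₀, hxW₀, n₀, hn₀⟩ := TopCat.Presheaf.exists_germ_eq G.presheaf
      (τ x.1 (F.presheaf.germ U x.1 x.2 s))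
    refine ⟨W₀ ⊓ U, ⟨hxW₀, x.2⟩, inf_le_right, res G (inf_le_left : W₀ ⊓ U ≤ W₀) n₀, ?_⟩
    intro y
    apply hG y.1
    rw [key y.1 y.2.2, spM_germ, germ_res, ← spM_germ G (gen x.1) hxW₀ n₀, hn₀, key x.1 x.2])
  refine ⟨n, fun y hy => ?_⟩
  rw [hn ⟨y, hy⟩]
  exact key y hy

/-- the value on sections of the morphism defined by a map of generic stalks -/
noncomputable def secOfGeneric (U : X.Opens) (s : Γ(F, U)) : Γ(G, U) :=
  (exists_section_of_generic hG T hT U s).choose

theorem secOfGeneric_spec (U : X.Opens) (s : Γ(F, U)) (y : X) (hy : y ∈ U) :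
    spM G (gen y) (G.presheaf.germ U y hy (secOfGeneric hG T hT U s)) =
      T (F.presheaf.germ U (genericPoint X) ((gen y).mem_open U.2 hy) s) :=
  (exists_section_of_generic hG T hT U s).choose_spec y hy

/-- the morphism defined by a map of generic stalks which preserves the images of all stalks -/
noncomputable def homOfGeneric : F ⟶ G :=
  TwForm.homMk F G (secOfGeneric hG T hT)
    (fun U a b => by
      apply section_ext
      intro y hy
      apply hG y
      rw [secOfGeneric_spec]
      simp only [map_add]
      rw [spM_add, secOfGeneric_spec, secOfGeneric_spec])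
    (fun U r a => by
      apply section_ext
      intro y hy
      apply hG y
      rw [secOfGeneric_spec, gsm, gsm, spM_smul, secOfGeneric_spec, spO_germ, map_smul])
    (fun U V h a => by
      apply section_ext
      intro y hy
      apply hG y
      rw [germ_res, secOfGeneric_spec, secOfGeneric_spec, germ_res])

theorem spM_stalkMapₗ_homOfGeneric (y : X) (v : F.presheaf.stalk y) :
    spM G (gen y) (RefHull.stalkMapₗ (homOfGeneric hG T hT) y v) = T (spM F (gen y) v) := by
  obtain ⟨U, hy, s, rfl⟩ := TopCat.Presheaf.exists_germ_eq F.presheaf v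
  rw [RefHull.stalkMapₗ_germ, spM_germ F]
  exact secOfGeneric_spec hG T hT U s y hy

theorem spM_gen_self (L : X.Modules) (v : L.presheaf.stalk (genericPoint X)) :
    spM L (gen (genericPoint X)) v = v := by
  obtain ⟨U, hy, s, rfl⟩ := TopCat.Presheaf.exists_germ_eq L.presheaf v
  rw [spM_germ]

theorem stalkMapₗ_homOfGeneric_generic :
    RefHull.stalkMapₗ (homOfGeneric hG T hT) (genericPoint X) = T := by
  refine LinearMap.ext fun v => ?_
  have := spM_stalkMapₗ_homOfGeneric hG T hT (genericPoint X) v
  rwa [spM_gen_self, spM_gen_self] at this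

end HomOfGeneric

/-- with the extension property it is enough to check the points of codimension one -/
theorem range_of_codim_one {F G : X.Modules} (hG : Hart G)
    (T : F.presheaf.stalk (genericPoint X) → G.presheaf.stalk (genericPoint X))
    (h1 : ∀ z : X, Order.coheight z = 1 → ∀ v : F.presheaf.stalk z,
      T (spM F (gen z) v) ∈ Set.range (spM G (gen z))) :
    ∀ (y : X) (v : F.presheaf.stalk y), T (spM F (gen y) v) ∈ Set.range (spM G (gen y)) := by
  intro y v
  apply hG y
  intro z hzy hz
  have := h1 z hz (spM F hzy v)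
  rwa [spM_comp] at this

/-- a morphism of modules whose map of generic stalks is bijective and maps the image of every stalk onto
the image of the stalk is an isomorphism -/
theorem isIso_of_generic {F G : X.Modules} (hF : SpInj F) (hG : SpInj G) (ψ : F ⟶ G)
    (hinj : Function.Injective (RefHull.stalkMapₗ ψ (genericPoint X)))
    (hsurj : ∀ (y : X) (w : G.presheaf.stalk y), ∃ v : F.presheaf.stalk y,
      RefHull.stalkMapₗ ψ (genericPoint X) (spM F (gen y) v) = spM G (gen y) w) : IsIso ψ := by
  apply isIso_of_stalkMapₗ_bijective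
  intro y
  constructor
  · intro v v' h
    apply hF y
    apply hinj
    rw [stalkMapₗ_spM, stalkMapₗ_spM, h]
  · intro w
    obtain ⟨v, hv⟩ := hsurj y w
    refine ⟨v, ?_⟩
    apply hG y
    rw [← stalkMapₗ_spM, hv]

end Groth.Agent.Lead.Ref1
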