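import Mathlib
import Groth.Prelude.Def_C1
import Groth.Prelude.Def_Pi1
import Groth.Agent.Lib.Lead.Ref1C

/-!
# Rank one reflexive modules on a normal scheme are isomorphic iff their rational sections have linearly
equivalent divisors (lead)
-/

set_option autoImplicit false
set_option backward.isDefEq.respectTransparency.types false
set_option synthInstance.maxHeartbeats 400000
set_option linter.style.haveILetI false
set_option linter.unusedSectionVars false
universe u

open CategoryTheory CategoryTheory.Limits AlgebraicGeometry TopologicalSpace Opposite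

namespace Groth.Agent.Lead.Ref1

open Groth.Agent.Helper1.QcCech Groth.Agent.Helper1.LGen Groth.Agent.Lead.RkSch Groth.Agent.Lead.SD
  Groth.Agent.Lib.Helper6.CDiv1 Groth.Agent.Helper1 Groth.Agent.Lead.RH Groth.Agent.Lead.SecOrd

variable {X : Scheme.{u}} [IsIntegral X]

/-- a nonzero element of the generic stalk of a module of rank one is a free generator -/
theorem bijective_smul_generic {F : X.Modules} (hrk : RefHull.GenInvertible F)
    (ŝ : F.presheaf.stalk (genericPoint X)) (hŝ : ŝ ≠ 0) :
    Function.Bijective (fun ρ : X.functionField => ρ • ŝ) := by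
  obtain ⟨W, a, hη, ha⟩ := exists_isGen_generic hrk
  have hfree := freeAt_of_isGen ha _ hη
  obtain ⟨g, hg⟩ := hfree.2 ŝ
  have hg' : g • F.presheaf.germ W (genericPoint X) hη a = ŝ := hg
  have hg0 : (g : X.functionField) ≠ 0 := by
    rintro rfl
    apply hŝ
    rw [← hg', zero_smul]
  have e : (fun ρ : X.functionField => ρ • ŝ) =
      (fun ρ : X.presheaf.stalk (genericPoint X) => ρ • F.presheaf.germ W (genericPoint X) hη a) ∘
        (fun ρ : X.functionField => ρ * g) := by
    funext ρ
    change ρ • ŝ = (ρ * g) • _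
    rw [mul_smul, hg']
  rw [e]
  exact hfree.comp (mulRight_bijective₀ g hg0)

theorem app_res' {M N : X.Modules} (φ : M ⟶ N) {W W' : X.Opens} (h : W' ≤ W) (s : Γ(M, W)) :
    res N h (φ.app W s) = φ.app W' (res M h s) := by
  have := congrArg (fun f => f.hom s) (φ.mapPresheaf.naturality (homOfLE h).op)
  exact this.symm

/-- an isomorphism carries local generators to local generators -/
theorem isGen_of_iso {F G : X.Modules} (e : F ≅ G) {W : X.Opens} {a : Γ(F, W)} (ha : IsGen F W a) :
    IsGen G W (e.hom.app W a) := by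
  intro V h
  have e1 : (fun r : Γ(X, V) => r • res G h (e.hom.app W a)) =
      (fun m => e.hom.app V m) ∘ (fun r : Γ(X, V) => r • res F h a) := by
    funext r
    change _ = e.hom.app V (r • res F h a)
    rw [Scheme.Modules.Hom.app_smul, app_res']
  rw [e1]
  refine Function.Bijective.comp ?_ (ha V h)
  rw [Function.bijective_iff_has_inverse]
  refine ⟨fun m => e.inv.app V m, fun m => ?_, fun m => ?_⟩
  · change (e.hom ≫ e.inv).app V m = m
    rw [Iso.hom_inv_id]
    rfl
  · change (e.inv ≫ e.hom).app V m = m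
    rw [Iso.inv_hom_id]
    rfl

/-- on a common chart a map of generic stalks which takes the generator to a regular multiple of the generator
maps the image of the stalk into the image of the stalk -/
theorem range_of_chart {F G : X.Modules} {W : X.Opens} {a : Γ(F, W)} {b : Γ(G, W)}
    (ha : IsGen F W a) (x : X) (hx : x ∈ W) (ω : X.presheaf.stalk x)
    (T : F.presheaf.stalk (genericPoint X) →ₗ[X.presheaf.stalk (genericPoint X)]
      G.presheaf.stalk (genericPoint X))
    (hT : T (F.presheaf.germ W (genericPoint X) ((gen x).mem_open W.2 hx) a) =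
      (X.presheaf.stalkSpecializes (gen x)).hom ω •
        G.presheaf.germ W (genericPoint X) ((gen x).mem_open W.2 hx) b)
    (v : F.presheaf.stalk x) : T (spM F (gen x) v) ∈ Set.range (spM G (gen x)) := by
  obtain ⟨-, hx1⟩ := (freeAt_iff a x hx).1 (freeAt_of_isGen ha x hx)
  obtain ⟨ρ, rfl⟩ := hx1 v
  refine ⟨(ρ * ω) • G.presheaf.germ W x hx b, ?_⟩
  rw [spM_smul, spM_smul, spM_germ, spM_germ, map_smul, hT, smul_smul, map_mul]

variable [IsLocallyNoetherian X]

theorem exists_common_chart (hX : Pi1.IsNormalScheme X) {F G : X.Modules} (hF : RefHull.IsRef1 F)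
    (hG : RefHull.IsRef1 G) (x : X) (hx : Order.coheight x = 1) :
    ∃ (W : X.Opens) (a : Γ(F, W)) (b : Γ(G, W)), x ∈ W ∧ IsGen F W a ∧ IsGen G W b := by
  obtain ⟨W₁, a, hx₁, ha⟩ := exists_isGen_codim_one hX hF x hx
  obtain ⟨W₂, b, hx₂, hb⟩ := exists_isGen_codim_one hX hG x hx
  exact ⟨W₁ ⊓ W₂, res F inf_le_left a, res G inf_le_right b, ⟨hx₁, hx₂⟩, ha.res _, hb.res _⟩

/-- two rational functions of the same order at a point of codimension one differ by a unit of the local ring -/
theorem exists_unit_of_ord_eq (hX : Pi1.IsNormalScheme X) (x : X) (hx : Order.coheight x = 1)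
    {g h : X.functionField} (hg : g ≠ 0) (hh : h ≠ 0) (e : Scheme.ord g x = Scheme.ord h x) :
    ∃ ω : X.presheaf.stalk x, (X.presheaf.stalkSpecializes (gen x)).hom ω = h * g⁻¹ := by
  haveI := isDVR_of_coheight_one hX x hx
  have h0 : Scheme.ord (h * g⁻¹) x = 0 := by
    rw [Scheme.ord_mul hh (inv_ne_zero hg), ord_inv x hg, e]
    omega
  have h1 := mem_stalkUnits_of_ord_eq_zero x (Units.mk0 (h * g⁻¹) (mul_ne_zero hh (inv_ne_zero hg))) h0
  rw [mem_stalkUnits_iff] at h1
  obtain ⟨w, hw⟩ := h1
  exact ⟨(w : X.presheaf.stalk x), hw⟩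

theorem range_of_secOrdAt_eq (hX : Pi1.IsNormalScheme X) {F G : X.Modules} (hF : RefHull.IsRef1 F)
    (hG : RefHull.IsRef1 G) (ŝ : F.presheaf.stalk (genericPoint X)) (hŝ : ŝ ≠ 0)
    (ť : G.presheaf.stalk (genericPoint X)) (hť : ť ≠ 0)
    (T : F.presheaf.stalk (genericPoint X) →ₗ[X.presheaf.stalk (genericPoint X)]
      G.presheaf.stalk (genericPoint X)) (hT : T ŝ = ť) (x : X) (hx : Order.coheight x = 1)
    (e : Cyc.secOrdAt F (genericPoint X) x (gen x) (mkη F ŝ) =
      Cyc.secOrdAt G (genericPoint X) x (gen x) (mkη G ť)) (v : F.presheaf.stalk x) :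
    T (spM F (gen x) v) ∈ Set.range (spM G (gen x)) := by
  obtain ⟨W, a, b, hxW, ha, hb⟩ := exists_common_chart hX hF hG x hx
  have hηW : genericPoint X ∈ W := (gen x).mem_open W.2 hxW
  obtain ⟨g, hg⟩ := exists_eq_mkη_smul ha hηW (mkη F ŝ)
  have hŝ' : ŝ = g • F.presheaf.germ W _ hηW a := mkη_injective F hg
  obtain ⟨h, hh⟩ := exists_eq_mkη_smul hb hηW (mkη G ť)
  have hť' : ť = h • G.presheaf.germ W _ hηW b := mkη_injective G hh
  have hg0 : g ≠ 0 := by
    rintro rfl
    apply hŝ
    rw [hŝ', zero_smul]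
  have hh0 : h ≠ 0 := by
    rintro rfl
    apply hť
    rw [hť', zero_smul]
  haveI : Ring.KrullDimLE 1 (X.presheaf.stalk x) := krullDimLE_of_coheight_le hx.le
  rw [hg, hh, secOrdAt_eq ha x hxW _ g, secOrdAt_eq hb x hxW _ h, ordFrac_eq_ord x hx,
    ordFrac_eq_ord x hx] at e
  obtain ⟨ω, hω⟩ := exists_unit_of_ord_eq hX x hx hg0 hh0 e
  refine range_of_chart (b := b) ha x hxW ω T ?_ v
  have e1 : F.presheaf.germ W (genericPoint X) hηW a = g⁻¹ • ŝ := by
    rw [hŝ', smul_smul, inv_mul_cancel₀ hg0, one_smul]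
  rw [e1, map_smul, hT, hť', smul_smul, hω, mul_comm]

theorem secOrdAt_smul (hX : Pi1.IsNormalScheme X) {G : X.Modules} (hG : RefHull.IsRef1 G)
    (ť : G.presheaf.stalk (genericPoint X)) (hť : ť ≠ 0) (f : X.functionField) (hf : f ≠ 0)
    (x : X) (hx : Order.coheight x = 1) :
    Cyc.secOrdAt G (genericPoint X) x (gen x) (mkη G (f • ť)) =
      Cyc.secOrdAt G (genericPoint X) x (gen x) (mkη G ť) + Scheme.ord f x := by
  obtain ⟨W, b, hxW, hb⟩ := exists_isGen_codim_one hX hG x hx
  have hηW : genericPoint X ∈ W := (gen x).mem_open W.2 hxW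
  obtain ⟨h, hh⟩ := exists_eq_mkη_smul hb hηW (mkη G ť)
  have hť' : ť = h • G.presheaf.germ W _ hηW b := mkη_injective G hh
  have hh0 : h ≠ 0 := by
    rintro rfl
    apply hť
    rw [hť', zero_smul]
  haveI : Ring.KrullDimLE 1 (X.presheaf.stalk x) := krullDimLE_of_coheight_le hx.le
  have e2 : f • ť = (f * h) • G.presheaf.germ W _ hηW b := by rw [hť', smul_smul]
  rw [e2, hh, secOrdAt_eq hb x hxW _ (f * h), secOrdAt_eq hb x hxW _ h, ordFrac_mul _ _ hf hh0,
    ordFrac_eq_ord x hx f, add_comm]

theorem S16086_main (hX : Pi1.IsNormalScheme X) (F G : X.Modules) (hF : RefHull.IsRef1 F)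
    (hG : RefHull.IsRef1 G) (s : Cyc.secFibre F (genericPoint X)) (hs : s ≠ 0)
    (t : Cyc.secFibre G (genericPoint X)) (ht : t ≠ 0) :
    Nonempty (F ≅ G) ↔
      ∃ f : X.functionField, f ≠ 0 ∧
        ∀ (x : X), Order.coheight x = 1 →
          Cyc.secOrdAt F (genericPoint X) x (gen x) s =
            Cyc.secOrdAt G (genericPoint X) x (gen x) t + Scheme.ord f x := by
  obtain ⟨ŝ, rfl⟩ := mkη_surjective F s
  obtain ⟨ť, rfl⟩ := mkη_surjective G t
  have hŝ : ŝ ≠ 0 := fun h => hs ((mkη_eq_zero_iff F ŝ).2 h)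
  have hť : ť ≠ 0 := fun h => ht ((mkη_eq_zero_iff G ť).2 h)
  constructor
  · rintro ⟨e⟩
    have hθ := stalkMapₗ_bijective_of_isIso e.hom (genericPoint X)
    obtain ⟨f, hf⟩ := (bijective_smul_generic hG.2.2 ť hť).2
      (RefHull.stalkMapₗ e.hom (genericPoint X) ŝ)
    have hf' : f • ť = RefHull.stalkMapₗ e.hom (genericPoint X) ŝ := hf
    have hf0 : f ≠ 0 := by
      rintro rfl
      rw [zero_smul] at hf'
      apply hŝ
      apply hθ.1
      rw [← hf', map_zero]
    refine ⟨f, hf0, fun x hx => ?_⟩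
    rw [← secOrdAt_smul hX hG ť hť f hf0 x hx, hf']
    obtain ⟨W, a, hxW, ha⟩ := exists_isGen_codim_one hX hF x hx
    have hb := isGen_of_iso e ha
    have hηW : genericPoint X ∈ W := (gen x).mem_open W.2 hxW
    obtain ⟨g, hg⟩ := exists_eq_mkη_smul ha hηW (mkη F ŝ)
    have hŝ' : ŝ = g • F.presheaf.germ W _ hηW a := mkη_injective F hg
    haveI : Ring.KrullDimLE 1 (X.presheaf.stalk x) := krullDimLE_of_coheight_le hx.le
    have e2 : RefHull.stalkMapₗ e.hom (genericPoint X) ŝ =
        g • G.presheaf.germ W _ hηW (e.hom.app W a) := by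
      rw [hŝ', map_smul, RefHull.stalkMapₗ_germ]
    rw [e2, hg, secOrdAt_eq ha x hxW _ g, secOrdAt_eq hb x hxW _ g]
  · rintro ⟨f, hf0, H⟩
    have hť' : f • ť ≠ 0 := by
      intro h
      apply hť
      have := congrArg (fun m => f⁻¹ • m) h
      simpa [smul_smul, inv_mul_cancel₀ hf0] using this
    let eF : X.functionField ≃ₗ[X.functionField] F.presheaf.stalk (genericPoint X) :=
      LinearEquiv.ofBijective (LinearMap.toSpanSingleton X.functionField _ ŝ)
        (bijective_smul_generic hF.2.2 ŝ hŝ)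
    let eG : X.functionField ≃ₗ[X.functionField] G.presheaf.stalk (genericPoint X) :=
      LinearEquiv.ofBijective (LinearMap.toSpanSingleton X.functionField _ (f • ť))
        (bijective_smul_generic hG.2.2 (f • ť) hť')
    let T : F.presheaf.stalk (genericPoint X) ≃ₗ[X.functionField] G.presheaf.stalk (genericPoint X) :=
      eF.symm ≪≫ₗ eG
    have heF : eF 1 = ŝ := by
      change (1 : X.functionField) • ŝ = ŝ
      exact one_smul _ _
    have heG : eG 1 = f • ť := by
      change (1 : X.functionField) • (f • ť) = f • ť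
      exact one_smul _ _
    have hT1 : T ŝ = f • ť := by
      change eG (eF.symm ŝ) = _
      rw [← heF, LinearEquiv.symm_apply_apply, heG]
    have hT2 : T.symm (f • ť) = ŝ := by
      rw [← hT1, LinearEquiv.symm_apply_apply]
    have hFi := spInj_of_isReflexive hF.1 hF.2.1
    have hGi := spInj_of_isReflexive hG.1 hG.2.1
    have hFh := hart_of_isReflexive hX hF.1 hF.2.1
    have hGh := hart_of_isReflexive hX hG.1 hG.2.1
    have hord : ∀ z : X, Order.coheight z = 1 →
        Cyc.secOrdAt F (genericPoint X) z (gen z) (mkη F ŝ) =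
          Cyc.secOrdAt G (genericPoint X) z (gen z) (mkη G (f • ť)) := by
      intro z hz
      rw [secOrdAt_smul hX hG ť hť f hf0 z hz]
      exact H z hz
    have hT : ∀ (y : X) (v : F.presheaf.stalk y),
        T.toLinearMap (spM F (gen y) v) ∈ Set.range (spM G (gen y)) :=
      range_of_codim_one hGh T.toLinearMap (fun z hz v =>
        range_of_secOrdAt_eq hX hF hG ŝ hŝ (f • ť) hť' T.toLinearMap hT1 z hz (hord z hz) v)
    have hT' : ∀ (y : X) (w : G.presheaf.stalk y),
        T.symm.toLinearMap (spM G (gen y) w) ∈ Set.range (spM F (gen y)) :=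
      range_of_codim_one hFh T.symm.toLinearMap (fun z hz w =>
        range_of_secOrdAt_eq hX hG hF (f • ť) hť' ŝ hŝ T.symm.toLinearMap hT2 z hz
          (hord z hz).symm w)
    haveI : IsIso (homOfGeneric hGi T.toLinearMap hT) := by
      apply isIso_of_generic hFi hGi
      · rw [stalkMapₗ_homOfGeneric_generic]
        exact T.injective
      · intro y w
        obtain ⟨v, hv⟩ := hT' y w
        refine ⟨v, ?_⟩
        rw [stalkMapₗ_homOfGeneric_generic, hv]
        exact T.apply_symm_apply _
    exact ⟨asIso (homOfGeneric hGi T.toLinearMap hT)⟩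

end Groth.Agent.Lead.Ref1
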