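import Mathlib
import Groth.Prelude.Def_C1
import Groth.Prelude.Def_Pi1
import Groth.Agent.Lib.Lead.Ref1D

/-!
# Morphisms into the reflexive hull from maps of generic stalks (lead)
-/

set_option autoImplicit false
set_option backward.isDefEq.respectTransparency.types false
set_option synthInstance.maxHeartbeats 400000
set_option linter.style.haveILetI false
set_option linter.unusedSectionVars false
universe u

open CategoryTheory CategoryTheory.Limits AlgebraicGeometry TopologicalSpace Opposite

namespace Groth.Agent.Lead.Ref1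

open Groth.Agent.Helper1.QcCech Groth.Agent.Helper1.LGen Groth.Agent.Lead.RkSch Groth.Agent.Lead.SD
  Groth.Agent.Lib.Helper6.CDiv1 Groth.Agent.Helper1 Groth.Agent.Lead.RH Groth.Agent.Lead.SecOrd

section Alg

variable (R : Type u) [CommRing R] [IsDomain R] [IsPrincipalIdealRing R]
  (M : Type u) [AddCommGroup M] [Module R M] [Module.Finite R M]

/-- over a principal ideal domain the map from a finite module to its bidual is surjective -/
theorem eval_surjective_of_pid : Function.Surjective (Module.Dual.eval R M) := by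
  intro ξ
  let N := M ⧸ Submodule.torsion R M
  let π : M →ₗ[R] N := (Submodule.torsion R M).mkQ
  haveI : Module.Free R N := Module.free_of_finite_type_torsion_free'
  have hkill : ∀ φ : Module.Dual R M, Submodule.torsion R M ≤ LinearMap.ker φ := by
    intro φ t ht
    rw [Submodule.mem_torsion_iff] at ht
    obtain ⟨a, ha⟩ := ht
    rw [LinearMap.mem_ker]
    have h1 : (a : R) • φ t = 0 := by
      rw [← map_smul]
      have : (a : R) • t = 0 := ha
      rw [this, map_zero]
    rcases smul_eq_zero.1 h1 with h2 | h2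
    · exact absurd h2 (nonZeroDivisors.coe_ne_zero a)
    · exact h2
  let ξ' : Module.Dual R (Module.Dual R N) := ξ.comp (LinearMap.dualMap π)
  obtain ⟨n, hn⟩ := (Module.bijective_dual_eval R N).2 ξ'
  obtain ⟨m, rfl⟩ := Submodule.mkQ_surjective _ n
  refine ⟨m, ?_⟩
  refine LinearMap.ext fun φ => ?_
  let φ' : Module.Dual R N := (Submodule.torsion R M).liftQ φ (hkill φ)
  have e1 : φ = LinearMap.dualMap π φ' := by
    refine LinearMap.ext fun v => ?_
    rfl
  have e2 := congrArg (fun ζ => ζ φ') hn
  change φ' (π m) = ξ (LinearMap.dualMap π φ') at e2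
  rw [Module.Dual.eval_apply, e1, ← e2]
  rfl

end Alg

variable {X : Scheme.{u}} [IsIntegral X] [IsLocallyNoetherian X]

theorem stalkMapₗ_bidualMap_surjective {F : X.Modules} (hF : Coh.IsCoh F) (x : X)
    [IsPrincipalIdealRing (X.presheaf.stalk x)] :
    Function.Surjective (RefHull.stalkMapₗ (RefHull.bidualMap F) x) := by
  have hFP : CohB1.IsFP F := FpLocal.isFP_of_isCoh F hF
  have hd : CohB1.IsFP (RefHull.dual F) := isFP_homSh hFP (isFP_structureModule X)
  haveI : SheafOfModules.IsFinitePresentation (R := X.ringCatSheaf) (RefHull.dual F) := hd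
  haveI : Module.Finite (X.presheaf.stalk x) (F.presheaf.stalk x) :=
    Groth.Agent.Helper7.FinType.stalk_finite_of_isCoh F hF x
  intro h
  obtain ⟨v, hv⟩ := eval_surjective_of_pid (X.presheaf.stalk x) (F.presheaf.stalk x)
    ((ddEquiv hFP x).symm (RefHull.evalStalk (RefHull.dual F) (Coh.structureModule X) x h))
  refine ⟨v, ?_⟩
  apply evalStalk_injective (F := RefHull.dual F) (G := Coh.structureModule X) inferInstance
    inferInstance x
  rw [evalStalk_bidualMap, ← ddEquiv_eval hFP x v, hv, LinearEquiv.apply_symm_apply]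

theorem stalkMapₗ_bidualMap_generic_bijective {F : X.Modules} (hF : Coh.IsCoh F) :
    Function.Bijective (RefHull.stalkMapₗ (RefHull.bidualMap F) (genericPoint X)) := by
  have hFP : CohB1.IsFP F := FpLocal.isFP_of_isCoh F hF
  rw [← isReflexiveAt_iff_stalkMapₗ hFP]
  haveI : Module.Finite (X.presheaf.stalk (genericPoint X)) (F.presheaf.stalk (genericPoint X)) :=
    Groth.Agent.Helper7.FinType.stalk_finite_of_isCoh F hF _
  change Module.IsReflexive X.functionField (F.presheaf.stalk (genericPoint X))
  infer_instance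

theorem dim_eq_one_iff (x : X) :
    ringKrullDim (X.presheaf.stalk x) = 1 ↔ Order.coheight x = 1 := by
  rw [ringKrullDim_stalk_eq_coheight]
  constructor
  · intro h
    have h2 : ((Order.coheight x : ℕ∞) : WithBot ℕ∞) = ((1 : ℕ∞) : WithBot ℕ∞) := h
    exact WithBot.coe_injective h2
  · intro h
    rw [h]
    rfl

theorem S16083_main (hX : Pi1.IsNormalScheme X) (F G : X.Modules) (hF : Coh.IsCoh F)
    (hG : Coh.IsCoh G)
    (T : G.presheaf.stalk (genericPoint X) →ₗ[X.presheaf.stalk (genericPoint X)]
      F.presheaf.stalk (genericPoint X)) :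
    (∃ ψ : G ⟶ RefHull.ddual F, RefHull.stalkMapₗ ψ (genericPoint X) =
        (RefHull.stalkMapₗ (RefHull.bidualMap F) (genericPoint X)).comp T) ↔
      ∀ x : X, ringKrullDim (X.presheaf.stalk x) = 1 →
        Set.MapsTo T
          (Set.range (G.presheaf.stalkSpecializes (gen x)).hom)
          (Set.range (F.presheaf.stalkSpecializes (gen x)).hom) := by
  have hFP : CohB1.IsFP F := FpLocal.isFP_of_isCoh F hF
  have hd : CohB1.IsFP (RefHull.dual F) := isFP_homSh hFP (isFP_structureModule X)
  haveI : SheafOfModules.IsFinitePresentation (R := X.ringCatSheaf) (RefHull.dual F) := hd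
  haveI : SheafOfModules.IsFinitePresentation (R := X.ringCatSheaf) (Coh.structureModule X) :=
    isFP_structureModule X
  constructor
  · rintro ⟨ψ, hψ⟩ x hx _ ⟨v, rfl⟩
    haveI := isDVR_of_coheight_one hX x ((dim_eq_one_iff x).1 hx)
    obtain ⟨w, hw⟩ := stalkMapₗ_bidualMap_surjective hF x (RefHull.stalkMapₗ ψ x v)
    refine ⟨w, ?_⟩
    apply (stalkMapₗ_bidualMap_generic_bijective hF).1
    change RefHull.stalkMapₗ (RefHull.bidualMap F) (genericPoint X) (spM F (gen x) w) =
      ((RefHull.stalkMapₗ (RefHull.bidualMap F) (genericPoint X)).comp T) (spM G (gen x) v)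
    rw [stalkMapₗ_spM, hw, ← stalkMapₗ_spM, hψ]
  · intro H
    have hHi : SpInj (RefHull.ddual F) :=
      spInj_homSh _ _ inferInstance inferInstance spInj_structure
    have hHh : Hart (RefHull.ddual F) := hart_homSh _ _ hd spInj_structure (hart_structure hX)
    have hT : ∀ (y : X) (v : G.presheaf.stalk y),
        ((RefHull.stalkMapₗ (RefHull.bidualMap F) (genericPoint X)).comp T) (spM G (gen y) v) ∈
          Set.range (spM (RefHull.ddual F) (gen y)) :=
      range_of_codim_one hHh _ (fun z hz v => by
        obtain ⟨w, hw⟩ := H z ((dim_eq_one_iff z).2 hz) ⟨v, rfl⟩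
        refine ⟨RefHull.stalkMapₗ (RefHull.bidualMap F) z w, ?_⟩
        rw [← stalkMapₗ_spM]
        change _ = RefHull.stalkMapₗ (RefHull.bidualMap F) (genericPoint X) (T (spM G (gen z) v))
        congr 1)
    exact ⟨homOfGeneric hHi _ hT, stalkMapₗ_homOfGeneric_generic hHi _ hT⟩

end Groth.Agent.Lead.Ref1
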