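import Mathlib
import Groth.Prelude.Def_C1
import Groth.Prelude.Def_Pi1
import Groth.Agent.Lib.Lead.Ref1E

/-!
# The zero locus of a section of a rank one reflexive module has pure codimension one (lead)
-/

set_option autoImplicit false
set_option backward.isDefEq.respectTransparency.types false
set_option synthInstance.maxHeartbeats 400000
set_option linter.style.haveILetI false
set_option linter.unusedSectionVars false
universe u

open CategoryTheory CategoryTheory.Limits AlgebraicGeometry TopologicalSpace Opposite

namespace Groth.Agent.Lead.Ref1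

open Groth.Agent.Helper1.QcCech Groth.Agent.Helper1.LGen Groth.Agent.Lead.RkSch Groth.Agent.Lead.SD
  Groth.Agent.Lib.Helper6.CDiv1 Groth.Agent.Helper1 Groth.Agent.Lead.RH Groth.Agent.Lead.SecOrd

variable {X : Scheme.{u}} [IsIntegral X] [IsLocallyNoetherian X]

theorem S16084_main (hX : Pi1.IsNormalScheme X) (F : X.Modules) (hF : RefHull.IsRef1 F)
    (s : Γ(F, ⊤)) (hs : s ≠ 0) (z : X)
    (hz : ¬ Function.Bijective fun a : X.presheaf.stalk z => a • F.presheaf.germ ⊤ z trivial s)
    (hmax : ∀ y : X,
      ¬ Function.Bijective (fun a : X.presheaf.stalk y => a • F.presheaf.germ ⊤ y trivial s) →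
      y ⤳ z → y = z) :
    ringKrullDim (X.presheaf.stalk z) = 1 := by
  rw [dim_eq_one_iff]
  by_contra hne
  apply hz
  have hFi := spInj_of_isReflexive hF.1 hF.2.1
  have hsη : F.presheaf.germ ⊤ (genericPoint X) trivial s ≠ 0 := by
    intro h0
    apply hs
    apply section_ext
    intro y hy
    apply hFi y
    rw [spM_germ, map_zero, spM_zero]
    exact h0
  have hbij := bijective_smul_generic hF.2.2 _ hsη
  constructor
  · intro ρ ρ' h
    have h1 := congrArg (spM F (gen z)) h
    simp only [spM_smul, spM_germ] at h1
    exact IsFractionRing.injective (X.presheaf.stalk z) X.functionField (hbij.1 h1)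
  · intro v
    obtain ⟨c, hc⟩ := hbij.2 (spM F (gen z) v)
    have hc1 : c • F.presheaf.germ ⊤ (genericPoint X) trivial s = spM F (gen z) v := hc
    have hc' : InStalk z c := inStalk_of_codim_one hX z c (fun y hyz hy => by
      have hyz' : y ≠ z := by
        rintro rfl
        exact hne hy
      have hby : Function.Bijective
          (fun a : X.presheaf.stalk y => a • F.presheaf.germ ⊤ y trivial s) := by
        by_contra hcon
        exact hyz' (hmax y hcon hyz)
      obtain ⟨a, ha⟩ := hby.2 (spM F hyz v)
      have ha1 : a • F.presheaf.germ ⊤ y trivial s = spM F hyz v := ha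
      refine ⟨a, ?_⟩
      apply hbij.1
      change (X.presheaf.stalkSpecializes (gen y)).hom a •
        F.presheaf.germ ⊤ (genericPoint X) trivial s = c • _
      rw [hc1, ← spM_comp F hyz (gen y) v, ← ha1, spM_smul, spM_germ])
    obtain ⟨ρ, hρ⟩ := hc'
    refine ⟨ρ, ?_⟩
    apply hFi z
    change spM F (gen z) (ρ • F.presheaf.germ ⊤ z trivial s) = _
    rw [spM_smul, spM_germ, ← hc1, ← hρ]
    rfl

end Groth.Agent.Lead.Ref1
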