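import Mathlib
import Groth.Prelude.Def_C1
import Groth.Prelude.Def_Pi1
import Groth.Agent.Lib.Lead.Ref1F
import Groth.Agent.Lib.Lead.FLF7
import Groth.Agent.Lib.Lead.FP2
import Groth.Agent.Lib.Helper5.Perf.NearFLF
import Groth.Agent.Lib.Helper1.Conn1

/-!
# The free locus of a coherent module (lead)
-/

set_option autoImplicit false
set_option backward.isDefEq.respectTransparency.types false
set_option synthInstance.maxHeartbeats 400000
set_option linter.style.haveILetI false
set_option linter.unusedSectionVars false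
universe u

open CategoryTheory CategoryTheory.Limits AlgebraicGeometry TopologicalSpace Opposite

namespace Groth.Agent.Lead.Ref1

open Groth.Agent.Helper1.QcCech Groth.Agent.Helper1.LGen Groth.Agent.Lead.RkSch Groth.Agent.Lead.SD
  Groth.Agent.Lib.Helper6.CDiv1 Groth.Agent.Helper1 Groth.Agent.Lead.RH Groth.Agent.Lead.SecOrd
  Groth.Agent.Lead.FLF

variable {X : Scheme.{u}}

/-- the set of points at which the stalk is a free module -/
def freeLocus (F : X.Modules) : Set X :=
  {x | Module.Free (X.presheaf.stalk x) (F.presheaf.stalk x)}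

theorem mem_freeLocus_iff (F : X.Modules) [F.IsQuasicoherent] {U : X.Opens} (hU : IsAffineOpen U)
    (y : X) (hy : y ∈ U) :
    y ∈ freeLocus F ↔ hU.primeIdealOf ⟨y, hy⟩ ∈ Module.freeLocus Γ(X, U) Γ(F, U) := by
  rw [Module.mem_freeLocus]
  exact (free_localized_iff F hU ⟨y, hy⟩).symm

theorem mem_basicOpen_iff' {V : X.Opens} (hV : IsAffineOpen V) {y : X}
    (hy : y ∈ V) (s : Γ(X, V)) :
    y ∈ X.basicOpen s ↔ s ∉ (hV.primeIdealOf ⟨y, hy⟩).asIdeal := by
  have h1 : hV.fromSpec (hV.primeIdealOf ⟨y, hy⟩) = y := hV.fromSpec_primeIdealOf ⟨y, hy⟩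
  have h2 := hV.fromSpec_preimage_basicOpen s
  constructor
  · intro hys
    have : hV.primeIdealOf ⟨y, hy⟩ ∈ hV.fromSpec ⁻¹ᵁ X.basicOpen s := by
      change hV.fromSpec (hV.primeIdealOf ⟨y, hy⟩) ∈ X.basicOpen s
      rw [h1]
      exact hys
    rw [h2] at this
    exact this
  · intro hs
    have : hV.primeIdealOf ⟨y, hy⟩ ∈ hV.fromSpec ⁻¹ᵁ X.basicOpen s := by
      rw [h2]
      exact hs
    have h3 : hV.fromSpec (hV.primeIdealOf ⟨y, hy⟩) ∈ X.basicOpen s := this
    rw [h1] at h3
    exact h3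

theorem exists_basicOpen_subset_freeLocus (F : X.Modules) (hF : CohB1.IsFP F) {U : X.Opens}
    (hU : IsAffineOpen U) (x : X) (hx : x ∈ U) (hfree : x ∈ freeLocus F) :
    ∃ r : Γ(X, U), x ∈ X.basicOpen r ∧ ∀ y ∈ X.basicOpen r, y ∈ freeLocus F := by
  haveI : SheafOfModules.IsFinitePresentation (R := X.ringCatSheaf) F := hF
  haveI : F.IsQuasicoherent := inferInstance
  haveI := Groth.Agent.Lead.FP.fp_sections_of_isFP F hF hU
  have h1 := (mem_freeLocus_iff F hU x hx).1 hfree
  obtain ⟨_, ⟨_, ⟨r, rfl⟩, rfl⟩, hxr, hr⟩ :=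
    PrimeSpectrum.isBasis_basic_opens.exists_subset_of_mem_open h1
      (Module.isOpen_freeLocus (R := Γ(X, U)) (M := Γ(F, U)))
  refine ⟨r, (mem_basicOpen_iff' hU hx r).2 hxr, fun y hy => ?_⟩
  have hyU : y ∈ U := X.basicOpen_le r hy
  rw [mem_freeLocus_iff F hU y hyU]
  exact hr ((mem_basicOpen_iff' hU hyU r).1 hy)

theorem isOpen_freeLocus (F : X.Modules) (hF : CohB1.IsFP F) : IsOpen (freeLocus F) := by
  rw [isOpen_iff_forall_mem_open]
  intro x hx
  obtain ⟨_, ⟨U, hU, rfl⟩, hxU, -⟩ := X.isBasis_affineOpens.exists_subset_of_mem_open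
    (Set.mem_univ x) isOpen_univ
  obtain ⟨r, hxr, hr⟩ := exists_basicOpen_subset_freeLocus F hF hU x hxU hx
  exact ⟨X.basicOpen r, hr, (X.basicOpen r).2, hxr⟩

/-- a coherent module with free stalks over an affine open is finite locally free there -/
theorem isFinLocFree_restrict_of_free_stalks (F : X.Modules) (hF : CohB1.IsFP F) {W : X.Opens}
    (hW : IsAffineOpen W) (h : ∀ y ∈ W, y ∈ freeLocus F) : FlatMod.IsFinLocFree (F.restrict W.ι) := by
  haveI : SheafOfModules.IsFinitePresentation (R := X.ringCatSheaf) F := hF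
  haveI : F.IsQuasicoherent := inferInstance
  haveI := Groth.Agent.Lead.FP.fp_sections_of_isFP F hF hW
  have hproj : Module.Projective Γ(X, W) Γ(F, W) := by
    rw [← Module.freeLocus_eq_univ_iff, Set.eq_univ_iff_forall]
    intro p
    have hy : hW.fromSpec p ∈ W := by
      have : hW.fromSpec p ∈ Set.range hW.fromSpec := ⟨p, rfl⟩
      rwa [hW.range_fromSpec] at this
    have e : hW.primeIdealOf ⟨hW.fromSpec p, hy⟩ = p :=
      hW.fromSpec.isOpenEmbedding.injective (hW.fromSpec_primeIdealOf ⟨hW.fromSpec p, hy⟩)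
    rw [← e, ← mem_freeLocus_iff F hW _ hy]
    exact h _ hy
  have h1 : FlatMod.IsFinLocFree (F.restrict hW.fromSpec) :=
    (isFinLocFree_spec_iff _).2 ⟨Module.Finite.equiv (sectionsLinearEquiv hW F).symm,
      Module.Projective.of_equiv (sectionsLinearEquiv hW F).symm⟩
  have h2 := Groth.Agent.Lib.Helper5.NearFLF.flf_opensRange hW.fromSpec F h1
  rwa [hW.opensRange_fromSpec] at h2

theorem isFinLocFree_restrict_of_subset_freeLocus (F : X.Modules) (hF : CohB1.IsFP F) (U : X.Opens)
    (hU : (U : Set X) ⊆ freeLocus F) : FlatMod.IsFinLocFree (F.restrict U.ι) := by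
  apply Groth.Agent.Lib.Helper5.NearFLF.flf_of_cover
  intro x hx
  obtain ⟨_, ⟨W, hW, rfl⟩, hxW, hWU⟩ := X.isBasis_affineOpens.exists_subset_of_mem_open hx U.2
  exact ⟨W, hWU, hxW, isFinLocFree_restrict_of_free_stalks F hF hW (fun y hy => hU (hWU hy))⟩

/-- a Noetherian integrally closed local domain of dimension at most one which is not a field is a discrete
valuation ring -/
theorem isDVR_of_dimLE_one (R : Type u) [CommRing R] [IsDomain R] [IsLocalRing R] [IsNoetherianRing R]
    [IsIntegrallyClosed R] [Ring.KrullDimLE 1 R] (hnf : ¬ IsField R) : IsDiscreteValuationRing R := by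
  have key := (IsDiscreteValuationRing.TFAE R hnf).out 3 0
  apply key.mp
  refine ⟨inferInstance, IsLocalRing.maximalIdeal R, ⟨?_, inferInstance⟩, ?_⟩
  · intro hbot
    exact hnf (IsLocalRing.isField_iff_maximalIdeal_eq.2 hbot)
  · rintro P ⟨hP0, hP⟩
    exact IsLocalRing.eq_maximalIdeal (hP.isMaximal_of_ne_bot hP0)

theorem isPrincipalIdealRing_of_dimLE_one (R : Type u) [CommRing R] [IsDomain R] [IsLocalRing R]
    [IsNoetherianRing R] [IsIntegrallyClosed R] [Ring.KrullDimLE 1 R] : IsPrincipalIdealRing R := by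
  by_cases hf : IsField R
  · exact IsField.isPrincipalIdealRing hf
  · haveI := isDVR_of_dimLE_one R hf
    infer_instance

theorem coheight_le_one_of_not_two_le (x : X)
    (hx : ¬ (2 : WithBot ℕ∞) ≤ ringKrullDim (X.presheaf.stalk x)) : Order.coheight x ≤ 1 := by
  rw [ringKrullDim_stalk_eq_coheight] at hx
  have h1 : ¬ (2 : ℕ∞) ≤ Order.coheight x := fun h2 => hx (by
    have : ((2 : ℕ∞) : WithBot ℕ∞) ≤ (Order.coheight x : WithBot ℕ∞) := WithBot.coe_le_coe.2 h2
    exact this)
  have h2 : Order.coheight x < 2 := not_le.1 h1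
  have : (2 : ℕ∞) = 1 + 1 := by norm_num
  rw [this] at h2
  exact Order.le_of_lt_add_one h2

variable [IsIntegral X] [IsLocallyNoetherian X]

theorem isPrincipalIdealRing_stalk (hX : Pi1.IsNormalScheme X) (x : X)
    (hx : ¬ (2 : WithBot ℕ∞) ≤ ringKrullDim (X.presheaf.stalk x)) :
    IsPrincipalIdealRing (X.presheaf.stalk x) := by
  haveI : IsIntegrallyClosed (X.presheaf.stalk x) := (hX x).2
  haveI : Ring.KrullDimLE 1 (X.presheaf.stalk x) :=
    krullDimLE_of_coheight_le (coheight_le_one_of_not_two_le x hx)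
  exact isPrincipalIdealRing_of_dimLE_one _

/-- on a normal scheme a coherent module is free at the points of codimension at most one where it is
torsion free -/
theorem mem_freeLocus_of_torsionFree (hX : Pi1.IsNormalScheme X) (F : X.Modules) (hF : Coh.IsCoh F)
    (x : X) (htf : Module.IsTorsionFree (X.presheaf.stalk x) (F.presheaf.stalk x))
    (hx : ¬ (2 : WithBot ℕ∞) ≤ ringKrullDim (X.presheaf.stalk x)) : x ∈ freeLocus F := by
  haveI := isPrincipalIdealRing_stalk hX x hx
  haveI : Module.Finite (X.presheaf.stalk x) (F.presheaf.stalk x) :=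
    Groth.Agent.Helper7.FinType.stalk_finite_of_isCoh F hF x
  exact Module.free_of_finite_type_torsion_free'

theorem S7862_main (X : Scheme.{u}) [IsNoetherian X] [ConnectedSpace X]
    (hX : Pi1.IsNormalScheme X) (M : X.Modules) (hM : Coh.IsCoh M)
    (htf : ∀ x : X, Module.IsTorsionFree (X.presheaf.stalk x) (M.presheaf.stalk x)) :
    ∃ U : X.Opens, (∀ x : X, x ∉ U → (2 : WithBot ℕ∞) ≤ ringKrullDim (X.presheaf.stalk x)) ∧
      FlatMod.IsFinLocFree (M.restrict U.ι) := by
  haveI : IsIntegral X := Groth.Agent.Helper1.Conn1.isIntegral_of_connected X (fun x => (hX x).1)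
  have hFP : CohB1.IsFP M := FpLocal.isFP_of_isCoh M hM
  refine ⟨⟨freeLocus M, isOpen_freeLocus M hFP⟩, fun x hx => ?_,
    isFinLocFree_restrict_of_subset_freeLocus M hFP _ (fun y hy => hy)⟩
  by_contra hcon
  exact hx (mem_freeLocus_of_torsionFree hX M hM x (htf x) hcon)

end Groth.Agent.Lead.Ref1
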