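import Mathlib
import Groth.Prelude.Def_C1
import Groth.Prelude.Def_Pi1
import Groth.Prelude.Def_TorSh
import Groth.Agent.Lib.Lead.Ref1G
import Groth.Agent.Lib.Helper9.RegUFD.Main

/-!
# Reflexive modules are the torsion free modules with the extension property over closed subsets of
codimension two (lead)
-/

set_option autoImplicit false
set_option backward.isDefEq.respectTransparency.types false
set_option synthInstance.maxHeartbeats 400000
set_option linter.style.haveILetI false
set_option linter.unusedSectionVars false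
universe u

open CategoryTheory CategoryTheory.Limits AlgebraicGeometry TopologicalSpace Opposite

namespace Groth.Agent.Lead.Ref1

open Groth.Agent.Helper1.QcCech Groth.Agent.Helper1.LGen Groth.Agent.Lead.RkSch Groth.Agent.Lead.SD
  Groth.Agent.Lib.Helper6.CDiv1 Groth.Agent.Helper1 Groth.Agent.Lead.RH Groth.Agent.Lead.SecOrd
  Groth.Agent.Lead.FLF

variable {X : Scheme.{u}} [IsIntegral X]

theorem spM_sub (L : X.Modules) {x y : X} (h : y ⤳ x) (m m' : L.presheaf.stalk x) :
    spM L h (m - m') = spM L h m - spM L h m' := map_sub (L.presheaf.stalkSpecializes h).hom m m'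

/-- a torsion free quasi-coherent module on an integral scheme: specialization is injective -/
theorem spInj_of_torsionFree {F : X.Modules} (hq : SheafOfModules.IsQuasicoherent.{u, u, u} F)
    (htf : TorSh.IsTorsionFree F) : SpInj F := by
  intro y v v' h
  have key : ∀ w : F.presheaf.stalk y, spM F (gen y) w = 0 → w = 0 := by
    intro w hw
    obtain ⟨_, ⟨V, hV, rfl⟩, hyV, -⟩ := X.isBasis_affineOpens.exists_subset_of_mem_open
      (Set.mem_univ y) isOpen_univ
    have hV' : IsAffineOpen V := hV
    have hηV : genericPoint X ∈ V := (gen y).mem_open V.2 hyV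
    obtain ⟨n, f, hf, e⟩ := Groth.Agent.Helper7.FinType.exists_germ_smul_eq F hq hV' y hyV w
    have h1 : F.presheaf.germ V (genericPoint X) hηV n = 0 := by
      rw [← spM_germ F (gen y) hyV n, ← e, spM_smul, hw, smul_zero]
    obtain ⟨t, ht, htn⟩ :=
      Groth.Agent.Helper7.FinType.exists_smul_eq_zero_of_germ_eq_zero F hq hV' _ hηV n h1
    have ht0 : X.presheaf.germ V y hyV t ≠ 0 := by
      intro h0
      have h2 : X.presheaf.germ V (genericPoint X) hηV t = 0 := by
        rw [← spO_germ (gen y) hyV t, h0, map_zero]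
      rw [h2] at ht
      exact not_isUnit_zero ht
    have h3 : X.presheaf.germ V y hyV t • F.presheaf.germ V y hyV n = 0 := by
      rw [← gsm, htn, map_zero]
    haveI := htf y
    have h4 : F.presheaf.germ V y hyV n = 0 := (smul_eq_zero.1 h3).resolve_left ht0
    rw [h4] at e
    obtain ⟨u, hu⟩ := hf
    have h5 : (↑u⁻¹ * ↑u : X.presheaf.stalk y) • w = 0 := by
      rw [mul_smul, hu, e, smul_zero]
    rwa [Units.inv_mul, one_smul] at h5
  have := key (v - v') (by rw [spM_sub, h, sub_self])
  exact sub_eq_zero.1 this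

theorem section_ext_generic {F : X.Modules} (hF : SpInj F) {U : X.Opens}
    (hη : genericPoint X ∈ U) (s s' : Γ(F, U))
    (h : F.presheaf.germ U (genericPoint X) hη s = F.presheaf.germ U (genericPoint X) hη s') :
    s = s' := by
  apply section_ext
  intro y hy
  apply hF y
  rw [spM_germ, spM_germ]
  exact h

theorem generic_mem_of_codim {U V : X.Opens}
    (hcodim : ∀ x : X, x ∈ U → x ∉ V → (2 : WithBot ℕ∞) ≤ ringKrullDim (X.presheaf.stalk x))
    (y : X) (hy : y ∈ U) : genericPoint X ∈ V := by
  by_contra hcon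
  have h1 := hcodim _ ((gen y).mem_open U.2 hy) hcon
  have h2 : ringKrullDim (X.presheaf.stalk (genericPoint X)) = 0 :=
    ringKrullDim_eq_zero_of_field X.functionField
  rw [h2] at h1
  revert h1
  decide

theorem codim_one_mem_of_codim [IsLocallyNoetherian X] {U V : X.Opens}
    (hcodim : ∀ x : X, x ∈ U → x ∉ V → (2 : WithBot ℕ∞) ≤ ringKrullDim (X.presheaf.stalk x))
    (z : X) (hz : z ∈ U) (hz1 : Order.coheight z = 1) : z ∈ V := by
  by_contra hcon
  have h1 := hcodim z hz hcon
  rw [(dim_eq_one_iff z).2 hz1] at h1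
  revert h1
  decide

/-- sections of a module with the extension property extend uniquely over closed subsets of codimension two -/
theorem restrict_bijective [IsLocallyNoetherian X] {F : X.Modules} (hFi : SpInj F) (hFh : Hart F)
    (U V : X.Opens) (hVU : V ≤ U)
    (hcodim : ∀ x : X, x ∈ U → x ∉ V → (2 : WithBot ℕ∞) ≤ ringKrullDim (X.presheaf.stalk x)) :
    Function.Bijective (F.presheaf.map (homOfLE hVU).op) := by
  constructor
  · intro s s' h
    apply section_ext
    intro y hy
    have hηV := generic_mem_of_codim hcodim y hy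
    apply hFi y
    rw [spM_germ, spM_germ, ← germ_res F hVU _ hηV s, ← germ_res F hVU _ hηV s']
    exact congrArg _ h
  · intro t
    have key : ∀ y : U, ∃ τ : F.presheaf.stalk y.1, ∀ hηV : genericPoint X ∈ V,
        spM F (gen y.1) τ = F.presheaf.germ V (genericPoint X) hηV t := by
      intro y
      have hηV := generic_mem_of_codim hcodim y.1 y.2
      obtain ⟨τ, hτ⟩ := hFh y.1 (F.presheaf.germ V (genericPoint X) hηV t) (fun z hzy hz => by
        have hzV : z ∈ V := codim_one_mem_of_codim hcodim z (hzy.mem_open U.2 y.2) hz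
        exact ⟨F.presheaf.germ V z hzV t, spM_germ F (gen z) hzV t⟩)
      exact ⟨τ, fun _ => hτ⟩
    choose τ hτ using key
    obtain ⟨s, hs⟩ := exists_section_of_germs F U τ (by
      intro x
      have hηV := generic_mem_of_codim hcodim x.1 x.2
      obtain ⟨W₀, hxW₀, n₀, hn₀⟩ := TopCat.Presheaf.exists_germ_eq F.presheaf (τ x)
      refine ⟨W₀ ⊓ U, ⟨hxW₀, x.2⟩, inf_le_right, res F (inf_le_left : W₀ ⊓ U ≤ W₀) n₀, ?_⟩
      intro y
      apply hFi y.1
      rw [hτ ⟨y.1, y.2.2⟩ hηV, spM_germ, germ_res, ← spM_germ F (gen x.1) hxW₀ n₀, hn₀,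
        hτ x hηV])
    refine ⟨s, ?_⟩
    apply section_ext
    intro y hy
    have hηV := generic_mem_of_codim hcodim y (hVU hy)
    apply hFi y
    have e1 : F.presheaf.germ V y hy (F.presheaf.map (homOfLE hVU).op s) =
        F.presheaf.germ U y (hVU hy) s := germ_res F hVU y hy s
    rw [e1, hs ⟨y, hVU hy⟩, hτ ⟨y, hVU hy⟩ hηV, spM_germ]

theorem app_bijective_of_stalks {A B : X.Modules} (φ : A ⟶ B) (V : X.Opens)
    (h : ∀ x ∈ V, Function.Bijective (RefHull.stalkMapₗ φ x)) : Function.Bijective (φ.app V) := by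
  let FA : TopCat.Sheaf Ab X := ⟨A.presheaf, A.isSheaf⟩
  let FB : TopCat.Sheaf Ab X := ⟨B.presheaf, B.isSheaf⟩
  let f : FA ⟶ FB := ⟨φ.mapPresheaf⟩
  exact TopCat.Presheaf.app_bijective_of_stalkFunctor_map_bijective f V (fun x hx => h x hx)

theorem isTorsionFree_of_isReflexive [IsLocallyNoetherian X] {F : X.Modules} (hF : Coh.IsCoh F)
    (hr : RefHull.IsReflexive F) : TorSh.IsTorsionFree F := by
  have hFP : CohB1.IsFP F := FpLocal.isFP_of_isCoh F hF
  intro x
  haveI : Module.IsReflexive (X.presheaf.stalk x) (F.presheaf.stalk x) :=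
    (isReflexive_iff hFP).1 hr x
  refine Module.IsTorsionFree.of_smul_eq_zero (fun r m h => ?_)
  by_cases hr0 : r = 0
  · exact Or.inl hr0
  · exact Or.inr (RkOne.torsionFree_of_reflexive hr0 h)

/-- a torsion free coherent module on a normal scheme whose sections extend over closed subsets of
codimension two is reflexive -/
theorem isReflexive_of_extension [IsLocallyNoetherian X] (hX : Pi1.IsNormalScheme X) {F : X.Modules}
    (hF : Coh.IsCoh F) (htf : TorSh.IsTorsionFree F)
    (hE : ∀ (U V : X.Opens) (hVU : V ≤ U),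
      (∀ x : X, x ∈ U → x ∉ V → (2 : WithBot ℕ∞) ≤ ringKrullDim (X.presheaf.stalk x)) →
      Function.Bijective (F.presheaf.map (homOfLE hVU).op)) : RefHull.IsReflexive F := by
  have hFP : CohB1.IsFP F := FpLocal.isFP_of_isCoh F hF
  have hd : CohB1.IsFP (RefHull.dual F) := isFP_homSh hFP (isFP_structureModule X)
  haveI : SheafOfModules.IsFinitePresentation (R := X.ringCatSheaf) (RefHull.dual F) := hd
  haveI : SheafOfModules.IsFinitePresentation (R := X.ringCatSheaf) (Coh.structureModule X) :=
    isFP_structureModule X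
  have hHi : SpInj (RefHull.ddual F) :=
    spInj_homSh _ _ inferInstance inferInstance spInj_structure
  have hHh : Hart (RefHull.ddual F) := hart_homSh _ _ hd spInj_structure (hart_structure hX)
  let U₁ : X.Opens := ⟨freeLocus F, isOpen_freeLocus F hFP⟩
  have hstalk : ∀ x ∈ U₁, Function.Bijective (RefHull.stalkMapₗ (RefHull.bidualMap F) x) := by
    intro x hx
    rw [← isReflexiveAt_iff_stalkMapₗ hFP]
    haveI : Module.Free (X.presheaf.stalk x) (F.presheaf.stalk x) := hx
    haveI : Module.Finite (X.presheaf.stalk x) (F.presheaf.stalk x) :=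
      Groth.Agent.Helper7.FinType.stalk_finite_of_isCoh F hF x
    change Module.IsReflexive _ _
    infer_instance
  unfold RefHull.IsReflexive
  apply TwForm.isIso_of_app_bijective
  intro U
  have hVU : U ⊓ U₁ ≤ U := inf_le_left
  have hcodim : ∀ x : X, x ∈ U → x ∉ U ⊓ U₁ →
      (2 : WithBot ℕ∞) ≤ ringKrullDim (X.presheaf.stalk x) := by
    intro x hxU hxV
    by_contra hcon
    exact hxV ⟨hxU, mem_freeLocus_of_torsionFree hX F hF x (htf x) hcon⟩
  have hjV := app_bijective_of_stalks (RefHull.bidualMap F) (U ⊓ U₁) (fun x hx => hstalk x hx.2)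
  have hresF := hE U (U ⊓ U₁) hVU hcodim
  have hresH := restrict_bijective hHi hHh U (U ⊓ U₁) hVU hcodim
  have hsq : ⇑((RefHull.ddual F).presheaf.map (homOfLE hVU).op).hom ∘
      ⇑((RefHull.bidualMap F).app U).hom =
      ⇑((RefHull.bidualMap F).app (U ⊓ U₁)).hom ∘ ⇑(F.presheaf.map (homOfLE hVU).op).hom := by
    funext s
    exact app_res' (RefHull.bidualMap F) hVU s
  have h1 : Function.Bijective (⇑((RefHull.ddual F).presheaf.map (homOfLE hVU).op).hom ∘
      ⇑((RefHull.bidualMap F).app U).hom) := by
    rw [hsq]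
    exact hjV.comp hresF
  exact (Function.Bijective.of_comp_iff' hresH _).1 h1

theorem S16489_main (X : Scheme.{u}) [IsIntegral X] [IsLocallyNoetherian X]
    (hreg : ∀ x : X, IsRegularLocalRing (X.presheaf.stalk x)) (F : X.Modules) (hF : Coh.IsCoh F) :
    RefHull.IsReflexive F ↔
      TorSh.IsTorsionFree F ∧
      (∀ (U V : X.Opens) (hVU : V ≤ U),
        (∀ x : X, x ∈ U → x ∉ V → (2 : WithBot ℕ∞) ≤ ringKrullDim (X.presheaf.stalk x)) →
        Function.Bijective (F.presheaf.map (homOfLE hVU).op)) := by
  have hX : Pi1.IsNormalScheme X := by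
    intro x
    haveI := hreg x
    haveI : UniqueFactorizationMonoid (X.presheaf.stalk x) := Groth.Agent.Helper9.RegUFD.ufd _
    exact ⟨inferInstance, inferInstance⟩
  constructor
  · intro hr
    exact ⟨isTorsionFree_of_isReflexive hF hr, fun U V hVU hcodim =>
      restrict_bijective (spInj_of_isReflexive hF hr) (hart_of_isReflexive hX hF hr) U V hVU hcodim⟩
  · rintro ⟨htf, hE⟩
    exact isReflexive_of_extension hX hF htf hE

end Groth.Agent.Lead.Ref1
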