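import Mathlib
import Groth.Prelude.Def_C1
import Groth.Prelude.Def_Pi1
import Groth.Prelude.Def_TorSh
import Groth.Agent.Lib.Lead.Ref1H

/-!
# Reflexive modules on a normal scheme are the direct images of finite locally free modules on big opens (lead)
-/

set_option autoImplicit false
set_option backward.isDefEq.respectTransparency.types false
set_option synthInstance.maxHeartbeats 400000
set_option linter.style.haveILetI false
set_option linter.unusedSectionVars false
universe u

open CategoryTheory CategoryTheory.Limits AlgebraicGeometry TopologicalSpace Opposite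

namespace Groth.Agent.Lead.Ref1

open Groth.Agent.Helper1.QcCech Groth.Agent.Helper1.LGen Groth.Agent.Lead.RkSch Groth.Agent.Lead.SD
  Groth.Agent.Lib.Helper6.CDiv1 Groth.Agent.Helper1 Groth.Agent.Lead.RH Groth.Agent.Lead.SecOrd
  Groth.Agent.Lead.FLF

variable {X : Scheme.{u}} [IsIntegral X] [IsLocallyNoetherian X]

/-- a coherent module on a normal scheme which is reflexive on an open and whose sections are determined
on that open, the complement being of codimension two, is reflexive -/
theorem isReflexive_of_big_open (hX : Pi1.IsNormalScheme X) {F : X.Modules}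
    (hF : Coh.IsCoh F) (U₁ : X.Opens)
    (hstalk : ∀ x ∈ U₁, Function.Bijective (RefHull.stalkMapₗ (RefHull.bidualMap F) x))
    (hb : ∀ V : X.Opens, ∃ (V' : X.Opens) (h : V' ≤ V), V' ≤ U₁ ∧
      (∀ x : X, x ∈ V → x ∉ V' → (2 : WithBot ℕ∞) ≤ ringKrullDim (X.presheaf.stalk x)) ∧
      Function.Bijective (F.presheaf.map (homOfLE h).op)) : RefHull.IsReflexive F := by
  have hFP : CohB1.IsFP F := FpLocal.isFP_of_isCoh F hF
  have hd : CohB1.IsFP (RefHull.dual F) := isFP_homSh hFP (isFP_structureModule X)
  haveI : SheafOfModules.IsFinitePresentation (R := X.ringCatSheaf) (RefHull.dual F) := hd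
  haveI : SheafOfModules.IsFinitePresentation (R := X.ringCatSheaf) (Coh.structureModule X) :=
    isFP_structureModule X
  have hHi : SpInj (RefHull.ddual F) :=
    spInj_homSh _ _ inferInstance inferInstance spInj_structure
  have hHh : Hart (RefHull.ddual F) := hart_homSh _ _ hd spInj_structure (hart_structure hX)
  unfold RefHull.IsReflexive
  apply TwForm.isIso_of_app_bijective
  intro V
  obtain ⟨V', hVV', hV'U, hcodim, hresF⟩ := hb V
  have hjV := app_bijective_of_stalks (RefHull.bidualMap F) V' (fun x hx => hstalk x (hV'U hx))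
  have hresH := restrict_bijective hHi hHh V V' hVV' hcodim
  have hsq : ⇑((RefHull.ddual F).presheaf.map (homOfLE hVV').op).hom ∘
      ⇑((RefHull.bidualMap F).app V).hom =
      ⇑((RefHull.bidualMap F).app V').hom ∘ ⇑(F.presheaf.map (homOfLE hVV').op).hom := by
    funext s
    exact app_res' (RefHull.bidualMap F) hVV' s
  have h1 : Function.Bijective (⇑((RefHull.ddual F).presheaf.map (homOfLE hVV').op).hom ∘
      ⇑((RefHull.bidualMap F).app V).hom) := by
    rw [hsq]
    exact hjV.comp hresF
  exact (Function.Bijective.of_comp_iff' hresH _).1 h1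

theorem mem_image_preimage_iff (U V : X.Opens) (x : X) :
    x ∈ U.ι ''ᵁ (U.ι ⁻¹ᵁ V) ↔ x ∈ V ∧ x ∈ U := by
  constructor
  · rintro ⟨y, hy, rfl⟩
    exact ⟨hy, y.2⟩
  · rintro ⟨hV, hU⟩
    exact ⟨⟨x, hU⟩, hV, rfl⟩

theorem S1690_main (hX : Pi1.IsNormalScheme X) (F : X.Modules) (hF : Coh.IsCoh F) :
    (∀ x : X, Module.IsReflexive (X.presheaf.stalk x) (F.presheaf.stalk x)) ↔
      ∃ U : X.Opens, (∀ x : X, x ∉ U → (2 : WithBot ℕ∞) ≤ ringKrullDim (X.presheaf.stalk x)) ∧
        FlatMod.IsFinLocFree (F.restrict U.ι) ∧
        IsIso ((Scheme.Modules.restrictAdjunction U.ι).unit.app F) := by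
  have hFP : CohB1.IsFP F := FpLocal.isFP_of_isCoh F hF
  constructor
  · intro h
    have hr : RefHull.IsReflexive F := (isReflexive_iff hFP).2 h
    have htf := isTorsionFree_of_isReflexive hF hr
    have hcodim : ∀ x : X, x ∉ freeLocus F →
        (2 : WithBot ℕ∞) ≤ ringKrullDim (X.presheaf.stalk x) := by
      intro x hx
      by_contra hcon
      exact hx (mem_freeLocus_of_torsionFree hX F hF x (htf x) hcon)
    refine ⟨⟨freeLocus F, isOpen_freeLocus F hFP⟩, hcodim,
      isFinLocFree_restrict_of_subset_freeLocus F hFP _ (fun y hy => hy), ?_⟩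
    apply TwForm.isIso_of_app_bijective
    intro V
    rw [Scheme.Modules.restrictAdjunction_unit_app_app]
    apply restrict_bijective (spInj_of_isReflexive hF hr) (hart_of_isReflexive hX hF hr)
    intro x hxV hx
    apply hcodim
    intro hxU
    exact hx ((mem_image_preimage_iff _ V x).2 ⟨hxV, hxU⟩)
  · rintro ⟨U, hcodim, hflf, hiso⟩
    apply (isReflexive_iff hFP).1
    apply isReflexive_of_big_open hX hF U
    · intro x hx
      rw [← isReflexiveAt_iff_stalkMapₗ hFP]
      obtain ⟨h1, h2⟩ := Groth.Agent.Lib.Helper5.StalkFree.free_finite_stalk_of_restrict F U hflf x hx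
      haveI : Module.Free (X.presheaf.stalk x) (F.presheaf.stalk x) := h1
      haveI : Module.Finite (X.presheaf.stalk x) (F.presheaf.stalk x) := h2
      change Module.IsReflexive _ _
      infer_instance
    · intro V
      refine ⟨U.ι ''ᵁ (U.ι ⁻¹ᵁ V), U.ι.image_preimage_le V, ?_, ?_, ?_⟩
      · intro x hx
        exact ((mem_image_preimage_iff U V x).1 hx).2
      · intro x hxV hx
        apply hcodim
        intro hxU
        exact hx ((mem_image_preimage_iff U V x).2 ⟨hxV, hxU⟩)
      · have h1 : IsIso (((Scheme.Modules.restrictAdjunction U.ι).unit.app F).app V) :=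
          Scheme.Modules.Hom.isIso_iff_isIso_app.1 hiso V
        rw [Scheme.Modules.restrictAdjunction_unit_app_app] at h1
        exact (ConcreteCategory.isIso_iff_bijective _).1 h1

end Groth.Agent.Lead.Ref1
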