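import Mathlib
import Groth.Prelude.Def_C1
import Groth.Prelude.Def_Pi1
import Groth.Agent.Lib.Lead.Ref1I
import Groth.Agent.Lib.Lead.TilT5
import Groth.Agent.Lib.Helper1.TensGen

/-!
# The divisor of the reflexive product of two rational sections (lead)
-/

set_option autoImplicit false
set_option backward.isDefEq.respectTransparency.types false
set_option synthInstance.maxHeartbeats 400000
set_option linter.style.haveILetI false
set_option linter.unusedSectionVars false
universe u

open CategoryTheory CategoryTheory.Limits AlgebraicGeometry TopologicalSpace Opposite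

namespace Groth.Agent.Lead.Ref1

open Groth.Agent.Helper1.QcCech Groth.Agent.Helper1.LGen Groth.Agent.Lead.RkSch Groth.Agent.Lead.SD
  Groth.Agent.Lib.Helper6.CDiv1 Groth.Agent.Helper1 Groth.Agent.Lead.RH Groth.Agent.Lead.SecOrd
  Groth.Agent.Lead.FLF Groth.Agent.Helper1.TmulLib Groth.Agent.Helper1.TensGen

variable {X : Scheme.{u}} [IsIntegral X] [IsLocallyNoetherian X]

/-- a morphism which is bijective on the sections over the opens inside `W` carries generators on `W` to
generators -/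
theorem isGen_of_locally_bijective {A B : X.Modules} (φ : A ⟶ B) {W : X.Opens} {a : Γ(A, W)}
    (ha : IsGen A W a) (hφ : ∀ V : X.Opens, V ≤ W → Function.Bijective (φ.app V)) :
    IsGen B W (φ.app W a) := by
  intro V h
  have e1 : (fun r : Γ(X, V) => r • res B h (φ.app W a)) =
      (fun m => φ.app V m) ∘ (fun r : Γ(X, V) => r • res A h a) := by
    funext r
    change _ = φ.app V (r • res A h a)
    rw [Scheme.Modules.Hom.app_smul, app_res']
  rw [e1]
  exact (hφ V h).comp (ha V h)

variable (F G : X.Modules)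

/-- the image in the reflexive hull of the tensor product of the product of two sections -/
noncomputable def hullGen {W : X.Opens} (a : Γ(F, W)) (b : Γ(G, W)) :
    Γ(RefHull.ddual (CohB1.tensorMod F G), W) :=
  (RefHull.bidualMap (CohB1.tensorMod F G)).app W (tm F G W a b)

theorem hullGen_res {W V : X.Opens} (h : V ≤ W) (a : Γ(F, W)) (b : Γ(G, W)) :
    res (RefHull.ddual (CohB1.tensorMod F G)) h (hullGen F G a b) =
      hullGen F G (res F h a) (res G h b) := by
  unfold hullGen
  rw [app_res', res_tm]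

theorem hullGen_smul_smul {W : X.Opens} (r r' : Γ(X, W)) (a : Γ(F, W)) (b : Γ(G, W)) :
    hullGen F G (r • a) (r' • b) = (r * r') • hullGen F G a b := by
  unfold hullGen
  rw [tm_smul_left, tm_smul_right, smul_smul, Scheme.Modules.Hom.app_smul]

variable {F G}

theorem isCoh_tensorMod (hF : Coh.IsCoh F) (hG : Coh.IsCoh G) :
    Coh.IsCoh (CohB1.tensorMod F G) := by
  haveI : F.IsQuasicoherent := hF.1
  haveI : G.IsQuasicoherent := hG.1
  exact ⟨Groth.Agent.Lead.TilT.isQuasicoherent_tensorMod F G,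
    Groth.Agent.Lead.TilT.isFT_tensorMod F G hF.2 hG.2⟩

theorem isGen_hullGen (hF : Coh.IsCoh F) (hG : Coh.IsCoh G) {W : X.Opens} {a : Γ(F, W)}
    {b : Γ(G, W)} (ha : IsGen F W a) (hb : IsGen G W b) :
    IsGen (RefHull.ddual (CohB1.tensorMod F G)) W (hullGen F G a b) := by
  have hT := isCoh_tensorMod hF hG
  have hTP : CohB1.IsFP (CohB1.tensorMod F G) := FpLocal.isFP_of_isCoh _ hT
  have hgen : IsGen (CohB1.tensorMod F G) W (tm F G W a b) := isGen_tm ha hb
  apply isGen_of_locally_bijective _ hgen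
  intro V hV
  apply app_bijective_of_stalks
  intro x hx
  rw [← isReflexiveAt_iff_stalkMapₗ hTP]
  have hfree := freeAt_of_isGen hgen x (hV hx)
  let e : X.presheaf.stalk x ≃ₗ[X.presheaf.stalk x] (CohB1.tensorMod F G).presheaf.stalk x :=
    LinearEquiv.ofBijective (LinearMap.toSpanSingleton _ _ _) hfree
  haveI : Module.Free (X.presheaf.stalk x) ((CohB1.tensorMod F G).presheaf.stalk x) :=
    Module.Free.of_equiv e
  haveI : Module.Finite (X.presheaf.stalk x) ((CohB1.tensorMod F G).presheaf.stalk x) :=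
    Module.Finite.equiv e
  change Module.IsReflexive _ _
  infer_instance

/-- the germ at the generic point attached to a common chart and coordinates does not depend on the chart -/
theorem hull_chart_indep {W W' : X.Opens} {a : Γ(F, W)} {b : Γ(G, W)} {a' : Γ(F, W')}
    {b' : Γ(G, W')} (ha' : IsGen F W' a') (hb' : IsGen G W' b')
    (hη : genericPoint X ∈ W) (hη' : genericPoint X ∈ W') (g h g' h' : X.functionField)
    (e1 : g • F.presheaf.germ W (genericPoint X) hη a = g' • F.presheaf.germ W' (genericPoint X) hη' a')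
    (e2 : h • G.presheaf.germ W (genericPoint X) hη b = h' • G.presheaf.germ W' (genericPoint X) hη' b') :
    (g * h) • (RefHull.ddual (CohB1.tensorMod F G)).presheaf.germ W (genericPoint X) hη (hullGen F G a b) =
      (g' * h') • (RefHull.ddual (CohB1.tensorMod F G)).presheaf.germ W' (genericPoint X) hη'
        (hullGen F G a' b') := by
  have hl : W ⊓ W' ≤ W := inf_le_left
  have hr : W ⊓ W' ≤ W' := inf_le_right
  have hη'' : genericPoint X ∈ W ⊓ W' := ⟨hη, hη'⟩
  obtain ⟨r, hr1⟩ := (Groth.Agent.Helper1.TensGen.IsGen.bijective_self (ha'.res hr)).2 (res F hl a)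
  obtain ⟨r', hr1'⟩ := (Groth.Agent.Helper1.TensGen.IsGen.bijective_self (hb'.res hr)).2 (res G hl b)
  have hr2 : r • res F hr a' = res F hl a := hr1
  have hr2' : r' • res G hr b' = res G hl b := hr1'
  obtain ⟨hfa, -⟩ := (freeAt_iff a' _ hη').1 (freeAt_of_isGen ha' _ hη')
  obtain ⟨hfb, -⟩ := (freeAt_iff b' _ hη').1 (freeAt_of_isGen hb' _ hη')
  have ea : F.presheaf.germ W (genericPoint X) hη a =
      X.presheaf.germ (W ⊓ W') (genericPoint X) hη'' r • F.presheaf.germ W' (genericPoint X) hη' a' := by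
    rw [← germ_res F hl _ hη'' a, ← hr2, gsm, germ_res]
  have eb : G.presheaf.germ W (genericPoint X) hη b =
      X.presheaf.germ (W ⊓ W') (genericPoint X) hη'' r' • G.presheaf.germ W' (genericPoint X) hη' b' := by
    rw [← germ_res G hl _ hη'' b, ← hr2', gsm, germ_res]
  have eg : g * X.presheaf.germ (W ⊓ W') (genericPoint X) hη'' r = g' := by
    have h0 : (g * X.presheaf.germ (W ⊓ W') (genericPoint X) hη'' r - g') •
        F.presheaf.germ W' (genericPoint X) hη' a' = 0 := by
      rw [sub_smul, mul_smul, ← ea, e1, sub_self]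
    exact sub_eq_zero.1 (hfa _ h0)
  have eh : h * X.presheaf.germ (W ⊓ W') (genericPoint X) hη'' r' = h' := by
    have h0 : (h * X.presheaf.germ (W ⊓ W') (genericPoint X) hη'' r' - h') •
        G.presheaf.germ W' (genericPoint X) hη' b' = 0 := by
      rw [sub_smul, mul_smul, ← eb, e2, sub_self]
    exact sub_eq_zero.1 (hfb _ h0)
  have ec : (RefHull.ddual (CohB1.tensorMod F G)).presheaf.germ W (genericPoint X) hη (hullGen F G a b) =
      (X.presheaf.germ (W ⊓ W') (genericPoint X) hη'' r *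
        X.presheaf.germ (W ⊓ W') (genericPoint X) hη'' r') •
      (RefHull.ddual (CohB1.tensorMod F G)).presheaf.germ W' (genericPoint X) hη'
        (hullGen F G a' b') := by
    rw [← germ_res _ hl _ hη'' (hullGen F G a b), hullGen_res, ← hr2, ← hr2', hullGen_smul_smul, gsm,
      map_mul, ← hullGen_res, germ_res]
  rw [ec, smul_smul, ← eg, ← eh]
  congr 1
  ring

theorem S16090_main (hX : Pi1.IsNormalScheme X) (F G : X.Modules) (hF : RefHull.IsRef1 F)
    (hG : RefHull.IsRef1 G) (s : Cyc.secFibre F (genericPoint X)) (hs : s ≠ 0)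
    (t : Cyc.secFibre G (genericPoint X)) (ht : t ≠ 0) :
    ∃ w : Cyc.secFibre (RefHull.ddual (CohB1.tensorMod F G)) (genericPoint X), w ≠ 0 ∧
      ∀ (x : X), Order.coheight x = 1 →
        Cyc.secOrdAt (RefHull.ddual (CohB1.tensorMod F G)) (genericPoint X) x (gen x) w =
          Cyc.secOrdAt F (genericPoint X) x (gen x) s +
            Cyc.secOrdAt G (genericPoint X) x (gen x) t := by
  obtain ⟨ŝ, rfl⟩ := mkη_surjective F s
  obtain ⟨ť, rfl⟩ := mkη_surjective G t
  have hŝ : ŝ ≠ 0 := fun h => hs ((mkη_eq_zero_iff F ŝ).2 h)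
  have hť : ť ≠ 0 := fun h => ht ((mkη_eq_zero_iff G ť).2 h)
  -- a chart at the generic point
  obtain ⟨W₁, a₁, hη₁, ha₁⟩ := exists_isGen_generic hF.2.2
  obtain ⟨W₂, b₂, hη₂, hb₂⟩ := exists_isGen_generic hG.2.2
  have hη₀ : genericPoint X ∈ W₁ ⊓ W₂ := ⟨hη₁, hη₂⟩
  have ha₀ : IsGen F (W₁ ⊓ W₂) (res F inf_le_left a₁) := ha₁.res _
  have hb₀ : IsGen G (W₁ ⊓ W₂) (res G inf_le_right b₂) := hb₂.res _
  obtain ⟨g₀, hg₀⟩ := exists_eq_mkη_smul ha₀ hη₀ (mkη F ŝ)
  have hŝ₀ : ŝ = g₀ • F.presheaf.germ _ _ hη₀ (res F inf_le_left a₁) := mkη_injective F hg₀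
  obtain ⟨h₀, hh₀⟩ := exists_eq_mkη_smul hb₀ hη₀ (mkη G ť)
  have hť₀ : ť = h₀ • G.presheaf.germ _ _ hη₀ (res G inf_le_right b₂) := mkη_injective G hh₀
  have hg₀0 : g₀ ≠ 0 := by
    rintro rfl
    apply hŝ
    rw [hŝ₀, zero_smul]
  have hh₀0 : h₀ ≠ 0 := by
    rintro rfl
    apply hť
    rw [hť₀, zero_smul]
  have hgen₀ := isGen_hullGen hF.1 hG.1 ha₀ hb₀
  refine ⟨mkη _ ((g₀ * h₀) • (RefHull.ddual (CohB1.tensorMod F G)).presheaf.germ _ _ hη₀
    (hullGen F G (res F inf_le_left a₁) (res G inf_le_right b₂))), ?_, ?_⟩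
  · intro h0
    exact mul_ne_zero hg₀0 hh₀0 ((mkη_smul_eq_zero_iff hgen₀ hη₀ _).1 h0)
  · intro x hx
    obtain ⟨W, a, b, hxW, ha, hb⟩ := exists_common_chart hX hF hG x hx
    have hηW : genericPoint X ∈ W := (gen x).mem_open W.2 hxW
    obtain ⟨g, hg⟩ := exists_eq_mkη_smul ha hηW (mkη F ŝ)
    have hŝ' : ŝ = g • F.presheaf.germ W _ hηW a := mkη_injective F hg
    obtain ⟨h, hh⟩ := exists_eq_mkη_smul hb hηW (mkη G ť)
    have hť' : ť = h • G.presheaf.germ W _ hηW b := mkη_injective G hh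
    have hg0 : g ≠ 0 := by
      rintro rfl
      apply hŝ
      rw [hŝ', zero_smul]
    have hh0 : h ≠ 0 := by
      rintro rfl
      apply hť
      rw [hť', zero_smul]
    haveI : Ring.KrullDimLE 1 (X.presheaf.stalk x) := krullDimLE_of_coheight_le hx.le
    have hgen := isGen_hullGen hF.1 hG.1 ha hb
    rw [hull_chart_indep ha hb hη₀ hηW g₀ h₀ g h (hŝ₀.symm.trans hŝ') (hť₀.symm.trans hť'),
      secOrdAt_eq hgen x hxW _ (g * h), hg, hh, secOrdAt_eq ha x hxW _ g, secOrdAt_eq hb x hxW _ h,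
      ordFrac_mul _ _ hg0 hh0]

end Groth.Agent.Lead.Ref1
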