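import Mathlib
import Groth.Prelude.Def_C1
import Groth.Prelude.Def_Pi1
import Groth.Prelude.Def_RefFun
import Groth.Agent.Lib.Lead.Ref1J
import Groth.Agent.Lib.Lead.RH7
import Groth.Agent.Lib.Helper1.TwRestr

/-!
# Rank one reflexive modules: the structure sheaf, reflexive products and duals (lead)
-/

set_option autoImplicit false
set_option backward.isDefEq.respectTransparency.types false
set_option synthInstance.maxHeartbeats 400000
set_option linter.style.haveILetI false
set_option linter.unusedSectionVars false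
universe u

open CategoryTheory CategoryTheory.Limits AlgebraicGeometry TopologicalSpace Opposite

namespace Groth.Agent.Lead.Ref1

open Groth.Agent.Helper1.QcCech Groth.Agent.Helper1.LGen Groth.Agent.Lead.RkSch Groth.Agent.Lead.SD
  Groth.Agent.Lib.Helper6.CDiv1 Groth.Agent.Helper1 Groth.Agent.Lead.RH Groth.Agent.Lead.SecOrd
  Groth.Agent.Lead.FLF Groth.Agent.Helper1.TmulLib Groth.Agent.Helper1.TensGen

variable {X : Scheme.{u}} [IsIntegral X] [IsLocallyNoetherian X]

/-- a module with a free generator over a nonempty open is of rank one -/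
theorem genInvertible_of_isGen {F : X.Modules} {W : X.Opens} {a : Γ(F, W)} (ha : IsGen F W a)
    (hη : genericPoint X ∈ W) : RefHull.GenInvertible F := by
  refine ⟨W, ?_, ?_⟩
  · have h1 : Dense ({genericPoint X} : Set X) := dense_iff_closure_eq.2 (genericPoint_spec X)
    exact h1.mono (Set.singleton_subset_iff.2 hη)
  · apply TwForm.isInvertible_of_locGen
    intro x
    have hle : W.ι ''ᵁ ⊤ ≤ W := by
      rintro _ ⟨y, -, rfl⟩
      exact y.2
    exact ⟨⊤, _, trivial, TwForm.isGen_restrict_of_isGen_image W.ι F ⊤ (res F hle a) (ha.res hle)⟩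

open Groth.Agent.S8869.H8869 in
theorem isGen_one : IsGen (Coh.structureModule X) ⊤ (toM X 1) := by
  intro V h
  have e : (fun r : Γ(X, V) => r • res (Coh.structureModule X) h (toM X 1)) = fun r => toM X r := by
    funext r
    change toM X (r * X.presheaf.map (homOfLE h).op 1) = toM X r
    rw [map_one, mul_one]
  rw [e]
  exact Function.bijective_id

theorem isCoh_structureModule : Coh.IsCoh (Coh.structureModule X) :=
  (FpLocal.isCoh_iff_isFP _).2 (isFP_structureModule X)

theorem isReflexive_structureModule : RefHull.IsReflexive (Coh.structureModule X) := by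
  rw [isReflexive_iff (isFP_structureModule X)]
  intro x
  haveI : Module.Free (X.presheaf.stalk x) ((Coh.structureModule X).presheaf.stalk x) :=
    Module.Free.of_equiv (unitEquiv x)
  haveI : Module.Finite (X.presheaf.stalk x) ((Coh.structureModule X).presheaf.stalk x) :=
    Module.Finite.equiv (unitEquiv x)
  change Module.IsReflexive _ _
  infer_instance

theorem isRef1_structureModule : RefHull.IsRef1 (Coh.structureModule X) :=
  ⟨isCoh_structureModule, isReflexive_structureModule,
    genInvertible_of_isGen isGen_one (Opens.mem_top _)⟩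

theorem isRef1_refTensor {F G : X.Modules} (hF : RefHull.IsRef1 F) (hG : RefHull.IsRef1 G) :
    RefHull.IsRef1 (RefHull.ddual (CohB1.tensorMod F G)) := by
  have hT := isCoh_tensorMod hF.1 hG.1
  have hd : Coh.IsCoh (RefHull.dual (CohB1.tensorMod F G)) := isCoh_homSh hT isCoh_structureModule
  refine ⟨isCoh_homSh hd isCoh_structureModule,
    S16081_main X _ _ hd isCoh_structureModule isReflexive_structureModule, ?_⟩
  obtain ⟨W₁, a₁, hη₁, ha₁⟩ := exists_isGen_generic hF.2.2
  obtain ⟨W₂, b₂, hη₂, hb₂⟩ := exists_isGen_generic hG.2.2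
  exact genInvertible_of_isGen
    (isGen_hullGen hF.1 hG.1 (ha₁.res (inf_le_left : W₁ ⊓ W₂ ≤ W₁)) (hb₂.res inf_le_right))
    ⟨hη₁, hη₂⟩

section DualGen

open Groth.Agent.S8869.H8869

theorem unitEquiv_germ {V : X.Opens} (y : X) (hy : y ∈ V) (r : Γ(X, V)) :
    unitEquiv y (X.presheaf.germ V y hy r) = (Coh.structureModule X).presheaf.germ V y hy (toM X r) := by
  change X.presheaf.germ V y hy r • mgerm X y (Opens.mem_top y) 1 = mgerm X y hy r
  have h1 : mgerm X y (Opens.mem_top y) 1 = mgerm X y hy 1 := by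
    rw [← mgerm_res X (homOfLE le_top) y hy 1, map_one]
  rw [h1, smul_mgerm, mul_one]

variable {F : X.Modules} {W : X.Opens} {a : Γ(F, W)} (ha : IsGen F W a)

/-- the stalk at a point of the chart is free on the germ of the generator -/
noncomputable def genEquiv (y : W) :
    X.presheaf.stalk y.1 ≃ₗ[X.presheaf.stalk y.1] F.presheaf.stalk y.1 :=
  LinearEquiv.ofBijective (LinearMap.toSpanSingleton _ _ (F.presheaf.germ W y.1 y.2 a))
    (freeAt_of_isGen ha y.1 y.2)

theorem genEquiv_apply (y : W) (ρ : X.presheaf.stalk y.1) :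
    genEquiv ha y ρ = ρ • F.presheaf.germ W y.1 y.2 a := rfl

/-- the dual coordinate at a point of the chart -/
noncomputable def dualAt (y : W) : RefHull.StalkHom F (Coh.structureModule X) y.1 :=
  (unitEquiv y.1).toLinearMap ∘ₗ (genEquiv ha y).symm.toLinearMap

theorem dualAt_smul_germ (y : W) (ρ : X.presheaf.stalk y.1) :
    dualAt ha y (ρ • F.presheaf.germ W y.1 y.2 a) = unitEquiv y.1 ρ := by
  change unitEquiv y.1 ((genEquiv ha y).symm (ρ • F.presheaf.germ W y.1 y.2 a)) = _
  rw [← genEquiv_apply ha, LinearEquiv.symm_apply_apply]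

theorem isLocSect_dualAt :
    RefHull.IsLocSect F (Coh.structureModule X) (fun y : W => dualAt ha y) := by
  intro V i m x
  obtain ⟨r, hr⟩ := (ha V i.le).2 m
  have hr' : r • res F i.le a = m := hr
  refine ⟨V, x.2, 𝟙 V, toM X r, fun y => ?_⟩
  have e : F.presheaf.germ V y.1 y.2 m =
      X.presheaf.germ V y.1 y.2 r • F.presheaf.germ W y.1 (i.le y.2) a := by
    rw [← hr', gsm, germ_res]
  exact (congrArg (dualAt ha ⟨y.1, i.le y.2⟩) e).trans
    ((dualAt_smul_germ ha ⟨y.1, i.le y.2⟩ _).trans (unitEquiv_germ y.1 y.2 r))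

/-- the generator of the dual which is dual to a generator -/
noncomputable def dualGen : Γ(RefHull.dual F, W) :=
  ⟨fun y : W => dualAt ha y, isLocSect_dualAt ha⟩

theorem dualGen_apply (y : W) : (dualGen ha).1 y = dualAt ha y := rfl

theorem dualAt_germ (y : W) : dualAt ha y (F.presheaf.germ W y.1 y.2 a) = unitEquiv y.1 1 := by
  have := dualAt_smul_germ ha y 1
  rwa [one_smul] at this

theorem smul_res_dualGen_apply {V : X.Opens} (hV : V ≤ W) (r : Γ(X, V)) (y : V)
    (v : F.presheaf.stalk y.1) :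
    ((r • res (RefHull.dual F) hV (dualGen ha)).1 y) v =
      X.presheaf.germ V y.1 y.2 r • dualAt ha ⟨y.1, hV y.2⟩ v := rfl

theorem isGen_dualGen : IsGen (RefHull.dual F) W (dualGen ha) := by
  intro V hV
  constructor
  · intro r r' h
    apply function_ext
    intro y hy
    have h1 := congrArg (fun g : Γ(RefHull.dual F, V) =>
      g.1 ⟨y, hy⟩ (F.presheaf.germ W y (hV hy) a)) h
    change ((r • res (RefHull.dual F) hV (dualGen ha)).1 ⟨y, hy⟩) _ =
      ((r' • res (RefHull.dual F) hV (dualGen ha)).1 ⟨y, hy⟩) _ at h1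
    rw [smul_res_dualGen_apply, smul_res_dualGen_apply, dualAt_germ ha ⟨y, hV hy⟩, ← map_smul,
      ← map_smul, smul_eq_mul, smul_eq_mul, mul_one, mul_one] at h1
    exact (unitEquiv y).injective h1
  · intro φ
    obtain ⟨r, hr⟩ := toM_surj X (app φ le_rfl (res F hV a))
    refine ⟨r, hom_ext _ _ (fun y => LinearMap.ext fun v => ?_)⟩
    obtain ⟨ρ, hρ⟩ := (freeAt_of_isGen ha y.1 (hV y.2)).2 v
    have hρ' : ρ • F.presheaf.germ W y.1 (hV y.2) a = v := hρ
    rw [smul_res_dualGen_apply, ← hρ', dualAt_smul_germ ha ⟨y.1, hV y.2⟩ ρ, map_smul,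
      ← germ_res F hV y.1 y.2 a, ← germ_app φ le_rfl (res F hV a) y.1 y.2, ← hr,
      ← unitEquiv_germ y.1 y.2 r, ← map_smul, ← map_smul, smul_eq_mul, smul_eq_mul, mul_comm]

end DualGen

theorem isRef1_dual {F : X.Modules} (hF : RefHull.IsRef1 F) : RefHull.IsRef1 (RefHull.dual F) := by
  obtain ⟨W, a, hη, ha⟩ := exists_isGen_generic hF.2.2
  exact ⟨isCoh_homSh hF.1 isCoh_structureModule,
    S16081_main X F _ hF.1 isCoh_structureModule isReflexive_structureModule,
    genInvertible_of_isGen (isGen_dualGen ha) hη⟩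

/-- a germ of the dual at the generic point is determined by its value on a nonzero germ -/
theorem dual_germ_ext {F : X.Modules} (hF : RefHull.IsRef1 F)
    (ŝ : F.presheaf.stalk (genericPoint X)) (hŝ : ŝ ≠ 0)
    (θ θ' : (RefHull.dual F).presheaf.stalk (genericPoint X))
    (h : RefHull.evalStalk F (Coh.structureModule X) (genericPoint X) θ ŝ =
      RefHull.evalStalk F (Coh.structureModule X) (genericPoint X) θ' ŝ) : θ = θ' := by
  apply evalStalk_injective hF.1.1 hF.1.2 (genericPoint X)
  refine LinearMap.ext fun v => ?_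
  obtain ⟨ρ, hρ⟩ := (bijective_smul_generic hF.2.2 ŝ hŝ).2 v
  have hρ' : ρ • ŝ = v := hρ
  rw [← hρ', map_smul, map_smul, h]

theorem evalStalk_dualGen {F : X.Modules} {W : X.Opens} {a : Γ(F, W)} (ha : IsGen F W a)
    (hη : genericPoint X ∈ W) (g : X.functionField) (hg : g ≠ 0) :
    RefHull.evalStalk F (Coh.structureModule X) (genericPoint X)
      (g⁻¹ • (RefHull.dual F).presheaf.germ W (genericPoint X) hη (dualGen ha))
      (g • F.presheaf.germ W (genericPoint X) hη a) = unitEquiv (genericPoint X) 1 := by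
  rw [map_smul, map_smul, LinearMap.smul_apply, RefHull.evalStalk_germ, dualGen_apply,
    dualAt_germ ha ⟨genericPoint X, hη⟩, smul_smul, mul_inv_cancel₀ hg, one_smul]

theorem exists_dual_section (hX : Pi1.IsNormalScheme X) {F : X.Modules} (hF : RefHull.IsRef1 F)
    (ŝ : F.presheaf.stalk (genericPoint X)) (hŝ : ŝ ≠ 0) :
    ∃ θ : (RefHull.dual F).presheaf.stalk (genericPoint X), θ ≠ 0 ∧
      ∀ x : X, Order.coheight x = 1 →
        Cyc.secOrdAt (RefHull.dual F) (genericPoint X) x (gen x) (mkη _ θ) =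
          - Cyc.secOrdAt F (genericPoint X) x (gen x) (mkη F ŝ) := by
  obtain ⟨W₀, a₀, hη₀, ha₀⟩ := exists_isGen_generic hF.2.2
  obtain ⟨g₀, hg₀⟩ := exists_eq_mkη_smul ha₀ hη₀ (mkη F ŝ)
  have hŝ₀ : ŝ = g₀ • F.presheaf.germ W₀ _ hη₀ a₀ := mkη_injective F hg₀
  have hg₀0 : g₀ ≠ 0 := by
    rintro rfl
    apply hŝ
    rw [hŝ₀, zero_smul]
  have hone : unitEquiv (X := X) (genericPoint X) 1 ≠ 0 := by
    intro h0
    have := (unitEquiv (X := X) (genericPoint X)).injective (h0.trans (map_zero _).symm)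
    exact one_ne_zero this
  have hθ := evalStalk_dualGen ha₀ hη₀ g₀ hg₀0
  rw [← hŝ₀] at hθ
  refine ⟨g₀⁻¹ • (RefHull.dual F).presheaf.germ W₀ (genericPoint X) hη₀ (dualGen ha₀), ?_, ?_⟩
  · intro h0
    rw [h0, map_zero, LinearMap.zero_apply] at hθ
    exact hone hθ.symm
  · intro x hx
    obtain ⟨W, a, hxW, ha⟩ := exists_isGen_codim_one hX hF x hx
    have hηW : genericPoint X ∈ W := (gen x).mem_open W.2 hxW
    obtain ⟨g, hg⟩ := exists_eq_mkη_smul ha hηW (mkη F ŝ)
    have hŝ' : ŝ = g • F.presheaf.germ W _ hηW a := mkη_injective F hg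
    have hg0 : g ≠ 0 := by
      rintro rfl
      apply hŝ
      rw [hŝ', zero_smul]
    have hθ' := evalStalk_dualGen ha hηW g hg0
    rw [← hŝ'] at hθ'
    haveI : Ring.KrullDimLE 1 (X.presheaf.stalk x) := krullDimLE_of_coheight_le hx.le
    rw [dual_germ_ext hF ŝ hŝ _ _ (hθ.trans hθ'.symm), hg,
      secOrdAt_eq (isGen_dualGen ha) x hxW _ g⁻¹, secOrdAt_eq ha x hxW _ g, ordFrac_eq_ord x hx,
      ordFrac_eq_ord x hx, ord_inv x hg0]

end Groth.Agent.Lead.Ref1
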