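import Mathlib

set_option autoImplicit false
set_option linter.unusedSectionVars false
set_option linter.unusedVariables false

namespace Groth.Agent.Lead.HN

section Arith

variable {K : Type*} [Field K] [LinearOrder K] [IsStrictOrderedRing K]

/-- the key inequality of the Harder–Narasimhan lemma -/
theorem key_ineq {f g s i aF aG aS aI : K}
    (h1 : s + i = f + g) (h2 : aS + aI = aF + aG) (haf : 0 < aF) (hag : 0 < aG)
    (hai : aI ≤ aG) (hS : s * aF < f * aS) (hG : f * aG ≤ g * aF) : g * aI < i * aG := by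
  have hi : i = f + g - s := by linear_combination h1
  have hai' : aI = aF + aG - aS := by linear_combination h2
  have hsf : aF ≤ aS := by linarith
  have h3 : 0 < aF * (i * aG - g * aI) := by
    have e : aF * (i * aG - g * aI) =
        (f * aS - s * aF) * aG + (aS - aF) * (g * aF - f * aG) := by
      rw [hi, hai']; ring
    rw [e]
    have t1 : 0 < (f * aS - s * aF) * aG := mul_pos (by linarith) hag
    have t2 : 0 ≤ (aS - aF) * (g * aF - f * aG) := mul_nonneg (by linarith) (by linarith)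
    linarith
  have h4 : 0 < i * aG - g * aI := (mul_pos_iff_of_pos_left haf).1 h3
  linarith

end Arith

/-- the numerical data on a lattice of subobjects -/
structure Datum (S : Type*) [Lattice S] (K : Type*) [Field K] [LinearOrder K]
    [IsStrictOrderedRing K] where
  good : S → Prop
  v : S → K
  α : S → ℤ
  good_inf : ∀ {C D : S}, good C → good D → good (C ⊓ D)
  good_sup : ∀ {C D : S}, good C → good D → good (C ⊔ D)
  wf : WellFoundedGT {C : S // good C}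
  v_mod : ∀ {C D : S}, good C → good D → v (C ⊔ D) + v (C ⊓ D) = v C + v D
  α_mod : ∀ {C D : S}, good C → good D → α (C ⊔ D) + α (C ⊓ D) = α C + α D
  v_lt : ∀ {C D : S}, good C → good D → C < D → v C < v D
  α_le : ∀ {C D : S}, good C → good D → C ≤ D → α C ≤ α D

namespace Datum

variable {S : Type*} [Lattice S] {K : Type*} [Field K] [LinearOrder K] [IsStrictOrderedRing K]
  (𝔇 : Datum S K)

/-- the quotient by `A` is pure -/
def PureAbove (A : S) : Prop := ∀ D, 𝔇.good D → A < D → 𝔇.α A < 𝔇.α D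

/-- relative multiplicity -/
def a (A C : S) : K := ((𝔇.α C - 𝔇.α A : ℤ) : K)

/-- relative value -/
def w (A C : S) : K := 𝔇.v C - 𝔇.v A

/-- relative reduced value -/
def r (A C : S) : K := 𝔇.w A C / 𝔇.a A C

/-- `B` is the maximal destabilising element above `A` -/
def RelMax (A B : S) : Prop :=
  𝔇.good B ∧ A < B ∧ ∀ C, 𝔇.good C → A < C →
    𝔇.a A B * 𝔇.w A C ≤ 𝔇.a A C * 𝔇.w A B ∧
      (𝔇.a A B * 𝔇.w A C = 𝔇.a A C * 𝔇.w A B → C ≤ B)

theorem a_self (A : S) : 𝔇.a A A = 0 := by simp [a]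

theorem w_self (A : S) : 𝔇.w A A = 0 := by simp [w]

theorem a_pos {A C : S} (hp : 𝔇.PureAbove A) (hC : 𝔇.good C) (hAC : A < C) : 0 < 𝔇.a A C := by
  unfold a
  exact_mod_cast sub_pos.2 (hp C hC hAC)

theorem a_mono (A : S) {C D : S} (hC : 𝔇.good C) (hD : 𝔇.good D) (h : C ≤ D) :
    𝔇.a A C ≤ 𝔇.a A D := by
  unfold a
  have := 𝔇.α_le hC hD h
  exact_mod_cast sub_le_sub_right this _

theorem w_lt (A : S) {C D : S} (hC : 𝔇.good C) (hD : 𝔇.good D) (h : C < D) :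
    𝔇.w A C < 𝔇.w A D := by
  unfold w
  have := 𝔇.v_lt hC hD h
  linarith

theorem w_mod (A : S) {C D : S} (hC : 𝔇.good C) (hD : 𝔇.good D) :
    𝔇.w A (C ⊔ D) + 𝔇.w A (C ⊓ D) = 𝔇.w A C + 𝔇.w A D := by
  unfold w
  have := 𝔇.v_mod hC hD
  linarith

theorem a_mod (A : S) {C D : S} (hC : 𝔇.good C) (hD : 𝔇.good D) :
    𝔇.a A (C ⊔ D) + 𝔇.a A (C ⊓ D) = 𝔇.a A C + 𝔇.a A D := by
  unfold a
  have := 𝔇.α_mod hC hD
  have h2 : (𝔇.α (C ⊔ D) - 𝔇.α A) + (𝔇.α (C ⊓ D) - 𝔇.α A) =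
      (𝔇.α C - 𝔇.α A) + (𝔇.α D - 𝔇.α A) := by linarith
  exact_mod_cast h2

theorem a_add (A B C : S) : 𝔇.a A C = 𝔇.a A B + 𝔇.a B C := by
  unfold a
  push_cast
  ring

theorem w_add (A B C : S) : 𝔇.w A C = 𝔇.w A B + 𝔇.w B C := by
  unfold w
  ring

/-- existence of elements maximal for the order "inclusion and reduced value" -/
theorem exists_max (A : S) (Q : S → Prop) (C : S) (hC : 𝔇.good C) (hAC : A < C) (hQ : Q C) :
    ∃ G, (𝔇.good G ∧ A < G) ∧ Q G ∧ C ≤ G ∧ 𝔇.r A C ≤ 𝔇.r A G ∧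
      ∀ H, (𝔇.good H ∧ A < H) → Q H → G ≤ H → 𝔇.r A G ≤ 𝔇.r A H → H = G := by
  let T : Set {C : S // 𝔇.good C} :=
    {F | (𝔇.good F.1 ∧ A < F.1) ∧ Q F.1 ∧ C ≤ F.1 ∧ 𝔇.r A C ≤ 𝔇.r A F.1}
  have hT : T.Nonempty := ⟨⟨C, hC⟩, ⟨hC, hAC⟩, hQ, le_rfl, le_rfl⟩
  obtain ⟨G, hG, hmax⟩ := 𝔇.wf.wf.has_min T hT
  refine ⟨G.1, hG.1, hG.2.1, hG.2.2.1, hG.2.2.2, fun H hH hQH hGH hr => ?_⟩
  by_contra hne
  have hlt : G.1 < H := lt_of_le_of_ne hGH (fun h => hne h.symm)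
  exact hmax ⟨H, hH.1⟩ ⟨hH, hQH, hG.2.2.1.trans hGH, hG.2.2.2.trans hr⟩ hlt

/-- `F` is maximal for the order "inclusion and reduced value" above `A` -/
def IsMx (A F : S) : Prop :=
  (𝔇.good F ∧ A < F) ∧ ∀ H, (𝔇.good H ∧ A < H) → F ≤ H → 𝔇.r A F ≤ 𝔇.r A H → H = F

theorem inf_of_isMx {A F G : S} (hp : 𝔇.PureAbove A) (hF : 𝔇.IsMx A F)
    (hG : 𝔇.good G ∧ A < G) (hGF : ¬ G ≤ F) (hr : 𝔇.r A F ≤ 𝔇.r A G) :
    (𝔇.good (F ⊓ G) ∧ A < F ⊓ G) ∧ 𝔇.r A G < 𝔇.r A (F ⊓ G) := by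
  have hFS : F < F ⊔ G := lt_of_le_of_ne le_sup_left (fun h => hGF (le_sup_right.trans h.ge))
  have gS : 𝔇.good (F ⊔ G) := 𝔇.good_sup hF.1.1 hG.1
  have gI : 𝔇.good (F ⊓ G) := 𝔇.good_inf hF.1.1 hG.1
  have PS : 𝔇.good (F ⊔ G) ∧ A < F ⊔ G := ⟨gS, hF.1.2.trans hFS⟩
  have hrS : 𝔇.r A (F ⊔ G) < 𝔇.r A F := by
    by_contra hc
    have := hF.2 _ PS hFS.le (not_lt.1 hc)
    exact hFS.ne this.symm
  have hAI : A ≤ F ⊓ G := le_inf hF.1.2.le hG.2.le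
  have e1 := 𝔇.w_mod A hF.1.1 hG.1
  have e2 := 𝔇.a_mod A hF.1.1 hG.1
  have haI : 𝔇.a A (F ⊓ G) ≤ 𝔇.a A G := 𝔇.a_mono A gI hG.1 inf_le_right
  have pF := 𝔇.a_pos hp hF.1.1 hF.1.2
  have pG := 𝔇.a_pos hp hG.1 hG.2
  have pS := 𝔇.a_pos hp PS.1 PS.2
  have hS' : 𝔇.w A (F ⊔ G) * 𝔇.a A F < 𝔇.w A F * 𝔇.a A (F ⊔ G) := by
    unfold r at hrS
    rwa [div_lt_div_iff₀ pS pF] at hrS
  have hG' : 𝔇.w A F * 𝔇.a A G ≤ 𝔇.w A G * 𝔇.a A F := by
    unfold r at hr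
    rwa [div_le_div_iff₀ pF pG] at hr
  have key := key_ineq e1 e2 pF pG haI hS' hG'
  have hAI' : A < F ⊓ G := by
    refine lt_of_le_of_ne hAI (fun h => ?_)
    rw [← h, a_self, w_self] at key
    simp at key
  refine ⟨⟨gI, hAI'⟩, ?_⟩
  unfold r
  rw [div_lt_div_iff₀ pG (𝔇.a_pos hp gI hAI')]
  exact key

/-- **the maximal destabilising element exists** -/
theorem exists_relMax (A : S) (hA : 𝔇.good A) (hp : 𝔇.PureAbove A)
    (hne : ∃ D, 𝔇.good D ∧ A < D) : ∃ B, 𝔇.RelMax A B := by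
  classical
  obtain ⟨D0, hD0⟩ := hne
  obtain ⟨F0, hF0P, -, -, -, hF0max⟩ := 𝔇.exists_max A (fun _ => True) D0 hD0.1 hD0.2 trivial
  have hF0 : 𝔇.IsMx A F0 := ⟨hF0P, fun H hH h1 h2 => hF0max H hH trivial h1 h2⟩
  let T : Set ℕ := {n | ∃ F, 𝔇.IsMx A F ∧ (𝔇.α F - 𝔇.α A).toNat = n}
  have hT : T.Nonempty := ⟨_, F0, hF0, rfl⟩
  obtain ⟨n, ⟨F, hF, hn⟩, hmin⟩ := wellFounded_lt.has_min T hT
  refine ⟨F, hF.1.1, hF.1.2, fun C hCg hAC => ?_⟩
  have pF := 𝔇.a_pos hp hF.1.1 hF.1.2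
  have pC := 𝔇.a_pos hp hCg hAC
  have iff1 : 𝔇.a A F * 𝔇.w A C ≤ 𝔇.a A C * 𝔇.w A F ↔ 𝔇.r A C ≤ 𝔇.r A F := by
    unfold r
    rw [div_le_div_iff₀ pC pF, mul_comm (𝔇.w A C), mul_comm (𝔇.w A F)]
  have iff2 : 𝔇.a A F * 𝔇.w A C = 𝔇.a A C * 𝔇.w A F ↔ 𝔇.r A C = 𝔇.r A F := by
    unfold r
    rw [div_eq_div_iff pC.ne' pF.ne', mul_comm (𝔇.w A C), mul_comm (𝔇.w A F)]
  rw [iff1, iff2]
  by_contra hcon
  have hcase : 𝔇.r A F ≤ 𝔇.r A C ∧ (¬ C ≤ F ∨ 𝔇.r A F < 𝔇.r A C) := by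
    by_cases h1 : 𝔇.r A C ≤ 𝔇.r A F
    · by_cases h2 : 𝔇.r A C = 𝔇.r A F
      · by_cases h3 : C ≤ F
        · exact absurd ⟨h1, fun _ => h3⟩ hcon
        · exact ⟨h2.ge, Or.inl h3⟩
      · exact absurd ⟨h1, fun h => absurd h h2⟩ hcon
    · exact ⟨(not_le.1 h1).le, Or.inr (not_le.1 h1)⟩
  obtain ⟨G1, hG1P, hG1F, hG1r⟩ :
      ∃ G1, (𝔇.good G1 ∧ A < G1) ∧ G1 ≤ F ∧ 𝔇.r A F < 𝔇.r A G1 := by
    by_cases h3 : C ≤ F
    · rcases hcase.2 with h | h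
      · exact absurd h3 h
      · exact ⟨C, ⟨hCg, hAC⟩, h3, h⟩
    · obtain ⟨hP, hr'⟩ := 𝔇.inf_of_isMx hp hF ⟨hCg, hAC⟩ h3 hcase.1
      exact ⟨F ⊓ C, hP, inf_le_left, lt_of_le_of_lt hcase.1 hr'⟩
  obtain ⟨G2, hG2P, hG2F, hG12, hr12, hG2max⟩ :=
    𝔇.exists_max A (fun H => H ≤ F) G1 hG1P.1 hG1P.2 hG1F
  obtain ⟨G', hG'P, -, hG2G', hr2', hG'max⟩ :=
    𝔇.exists_max A (fun _ => True) G2 hG2P.1 hG2P.2 trivial
  have hG'Mx : 𝔇.IsMx A G' := ⟨hG'P, fun H hH h1 h2 => hG'max H hH trivial h1 h2⟩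
  have hrFG' : 𝔇.r A F < 𝔇.r A G' := lt_of_lt_of_le hG1r (hr12.trans hr2')
  by_cases hG'F : G' ≤ F
  · have hne : G' ≠ F := fun h => by
      rw [h] at hrFG'
      exact lt_irrefl _ hrFG'
    have hlt : G' < F := lt_of_le_of_ne hG'F hne
    have hαle : 𝔇.α G' ≤ 𝔇.α F := 𝔇.α_le hG'P.1 hF.1.1 hG'F
    have hαlt : 𝔇.α G' < 𝔇.α F := by
      refine lt_of_le_of_ne hαle (fun h => ?_)
      have ha : 𝔇.a A G' = 𝔇.a A F := by
        unfold a
        rw [h]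
      have hw : 𝔇.w A G' < 𝔇.w A F := 𝔇.w_lt A hG'P.1 hF.1.1 hlt
      have : 𝔇.r A G' < 𝔇.r A F := by
        unfold r
        rw [ha]
        exact (div_lt_div_iff_of_pos_right pF).2 hw
      exact lt_asymm this hrFG'
    apply hmin (𝔇.α G' - 𝔇.α A).toNat ⟨G', hG'Mx, rfl⟩
    have h0 : 0 < 𝔇.α G' - 𝔇.α A := sub_pos.2 (hp G' hG'P.1 hG'P.2)
    rw [← hn]
    omega
  · obtain ⟨hP, hr'⟩ := 𝔇.inf_of_isMx hp hF hG'P hG'F hrFG'.le
    have e : F ⊓ G' = G2 :=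
      hG2max (F ⊓ G') hP inf_le_left (le_inf hG2F hG2G') (hr2'.trans hr'.le)
    rw [e] at hr'
    exact lt_irrefl _ (lt_of_le_of_lt hr2' hr')

theorem pureAbove_of_relMax {A B : S} (hp : 𝔇.PureAbove A) (h : 𝔇.RelMax A B) :
    𝔇.PureAbove B := by
  intro D hD hBD
  have hle := 𝔇.α_le h.1 hD hBD.le
  refine lt_of_le_of_ne hle (fun he => ?_)
  have hAD : A < D := h.2.1.trans hBD
  obtain ⟨h1, -⟩ := h.2.2 D hD hAD
  have haB : 0 < 𝔇.a A B := 𝔇.a_pos hp h.1 h.2.1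
  have haD : 𝔇.a A D = 𝔇.a A B := by
    unfold a
    rw [he]
  rw [haD] at h1
  have h2 : 𝔇.w A D ≤ 𝔇.w A B := le_of_mul_le_mul_left h1 haB
  have hv := 𝔇.w_lt A h.1 hD hBD
  linarith

theorem relMax_unique {A B B' : S} (h : 𝔇.RelMax A B) (h' : 𝔇.RelMax A B') : B = B' := by
  obtain ⟨h1, h2⟩ := h.2.2 B' h'.1 h'.2.1
  obtain ⟨h3, h4⟩ := h'.2.2 B h.1 h.2.1
  have e : 𝔇.a A B * 𝔇.w A B' = 𝔇.a A B' * 𝔇.w A B := le_antisymm h1 h3
  exact le_antisymm (h4 e.symm) (h2 e)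

theorem slope_decreasing {A B D : S} (h1 : 𝔇.RelMax A B) (h2 : 𝔇.RelMax B D) :
    𝔇.a A B * 𝔇.w B D < 𝔇.a B D * 𝔇.w A B := by
  have hAD : A < D := h1.2.1.trans h2.2.1
  obtain ⟨h3, h4⟩ := h1.2.2 D h2.1 hAD
  have hlt : 𝔇.a A B * 𝔇.w A D < 𝔇.a A D * 𝔇.w A B := by
    refine lt_of_le_of_ne h3 (fun he => ?_)
    exact (not_le_of_gt h2.2.1) (h4 he)
  rw [𝔇.a_add A B D, 𝔇.w_add A B D, mul_add, add_mul] at hlt
  linarith

/-- lattice-level semistability of the factor between `A` and `B` -/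
def SSf (A B : S) : Prop :=
  ∀ C, 𝔇.good C → A < C → C ≤ B → 𝔇.a A B * 𝔇.w A C ≤ 𝔇.a A C * 𝔇.w A B

/-- lattice-level purity of the factor between `A` and `B` -/
def PUf (A B : S) : Prop := ∀ C, 𝔇.good C → A < C → C ≤ B → 𝔇.α A < 𝔇.α C

theorem exists_saturation (F : S) (hF : 𝔇.good F) :
    ∃ F', 𝔇.good F' ∧ F ≤ F' ∧ 𝔇.α F' = 𝔇.α F ∧ 𝔇.PureAbove F' := by
  let T : Set {C : S // 𝔇.good C} := {C | F ≤ C.1 ∧ 𝔇.α C.1 = 𝔇.α F}
  have hT : T.Nonempty := ⟨⟨F, hF⟩, le_rfl, rfl⟩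
  obtain ⟨G, hG, hmax⟩ := 𝔇.wf.wf.has_min T hT
  refine ⟨G.1, G.2, hG.1, hG.2, fun D hD hGD => ?_⟩
  refine lt_of_le_of_ne (𝔇.α_le G.2 hD hGD.le) (fun he => ?_)
  exact hmax ⟨D, hD⟩ ⟨hG.1.trans hGD.le, by rw [← he]; exact hG.2⟩ hGD

section Bounded

variable [BoundedOrder S]

theorem exists_hnSeq (hbot : 𝔇.good ⊥) (htop : 𝔇.good ⊤) (hp : 𝔇.PureAbove ⊥) :
    ∃ (N : ℕ) (f : ℕ → S), f 0 = ⊥ ∧ f N = ⊤ ∧
      ∀ i, i < N → 𝔇.RelMax (f i) (f (i + 1)) ∧ 𝔇.good (f i) ∧ 𝔇.PureAbove (f i) := by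
  classical
  let T := {A : S // 𝔇.good A ∧ 𝔇.PureAbove A}
  have hstep : ∀ A : T, A.1 ≠ ⊤ → ∃ B : T, 𝔇.RelMax A.1 B.1 := by
    intro A hA
    obtain ⟨B, hB⟩ := 𝔇.exists_relMax A.1 A.2.1 A.2.2 ⟨⊤, htop, lt_top_iff_ne_top.2 hA⟩
    exact ⟨⟨B, hB.1, 𝔇.pureAbove_of_relMax A.2.2 hB⟩, hB⟩
  let step : T → T := fun A => if h : A.1 = ⊤ then A else (hstep A h).choose
  have step_top : ∀ A : T, A.1 = ⊤ → step A = A := fun A h => dif_pos h
  have step_ne : ∀ A : T, (h : A.1 ≠ ⊤) → 𝔇.RelMax A.1 (step A).1 := by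
    intro A h
    have : step A = (hstep A h).choose := dif_neg h
    rw [this]
    exact (hstep A h).choose_spec
  let g : ℕ → T := fun n => step^[n] ⟨⊥, hbot, hp⟩
  have hgs : ∀ n, g (n + 1) = step (g n) := fun n => Function.iterate_succ_apply' step n _
  have hle : ∀ n, (g n).1 ≤ (g (n + 1)).1 := by
    intro n
    rw [hgs]
    by_cases hn : (g n).1 = ⊤
    · rw [step_top _ hn]
    · exact (step_ne _ hn).2.1.le
  have hmono : Monotone (fun n => (g n).1) := monotone_nat_of_le_succ hle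
  obtain ⟨n, hn⟩ := (wellFoundedGT_iff_monotone_chain_condition.1 𝔇.wf)
    ⟨fun n => ⟨(g n).1, (g n).2.1⟩, fun i j hij => hmono hij⟩
  have htopn : (g n).1 = ⊤ := by
    by_contra h
    have h1 := (step_ne _ h).2.1
    rw [← hgs] at h1
    have e := hn (n + 1) (Nat.le_succ n)
    have e' : (g n).1 = (g (n + 1)).1 := congrArg (fun x : {C : S // 𝔇.good C} => x.1) e
    exact h1.ne e'
  have hex : ∃ n, (g n).1 = ⊤ := ⟨n, htopn⟩
  refine ⟨Nat.find hex, fun i => (g i).1, rfl, Nat.find_spec hex, fun i hi => ?_⟩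
  have hi' : (g i).1 ≠ ⊤ := Nat.find_min hex hi
  refine ⟨?_, (g i).2.1, (g i).2.2⟩
  have := step_ne _ hi'
  rwa [← hgs] at this

theorem relMax_of_chain (N : ℕ) (g : ℕ → S) (hgood : ∀ i, i ≤ N → 𝔇.good (g i))
    (hlt : ∀ i, i < N → g i < g (i + 1)) (hN : g N = ⊤)
    (hss : ∀ i, i < N → 𝔇.SSf (g i) (g (i + 1))) (hpu : ∀ i, i < N → 𝔇.PUf (g i) (g (i + 1)))
    (hdec : ∀ i, i + 1 < N → 𝔇.a (g i) (g (i + 1)) * 𝔇.w (g (i + 1)) (g (i + 1 + 1)) <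
      𝔇.a (g (i + 1)) (g (i + 1 + 1)) * 𝔇.w (g i) (g (i + 1)))
    (j : ℕ) (hj : j < N) : 𝔇.RelMax (g j) (g (j + 1)) := by
  have apos : ∀ i, i < N → 0 < 𝔇.a (g i) (g (i + 1)) := by
    intro i hi
    have := hpu i hi (g (i + 1)) (hgood _ hi) (hlt i hi) le_rfl
    unfold a
    exact_mod_cast sub_pos.2 this
  let μ : ℕ → K := fun i => 𝔇.r (g i) (g (i + 1))
  have hμ : ∀ i, i + 1 < N → μ (i + 1) < μ i := by
    intro i hi
    change 𝔇.r (g (i + 1)) (g (i + 1 + 1)) < 𝔇.r (g i) (g (i + 1))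
    unfold r
    rw [div_lt_div_iff₀ (apos (i + 1) hi) (apos i (by omega))]
    have := hdec i hi
    linarith [mul_comm (𝔇.a (g i) (g (i + 1))) (𝔇.w (g (i + 1)) (g (i + 1 + 1))),
      mul_comm (𝔇.a (g (i + 1)) (g (i + 1 + 1))) (𝔇.w (g i) (g (i + 1)))]
  have hanti : ∀ ℓ i, i < ℓ → ℓ < N → μ ℓ < μ i := by
    intro ℓ
    induction ℓ with
    | zero => intro i hi; omega
    | succ n ih =>
      intro i hi hn
      rcases Nat.lt_succ_iff_lt_or_eq.1 hi with h | h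
      · exact (hμ n hn).trans (ih i h (by omega))
      · subst h
        exact hμ i hn
  have hmonog : ∀ ℓ i, i ≤ ℓ → ℓ ≤ N → g i ≤ g ℓ := by
    intro ℓ
    induction ℓ with
    | zero =>
      intro i hi _
      have : i = 0 := by omega
      subst this
      exact le_rfl
    | succ n ih =>
      intro i hi hn
      rcases Nat.eq_or_lt_of_le hi with h | h
      · subst h
        exact le_rfl
      · exact (ih i (by omega) (by omega)).trans (hlt n (by omega)).le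
  have claim : ∀ ℓ, j + 1 ≤ ℓ → ℓ ≤ N → ∀ G, 𝔇.good G → g j < G → G ≤ g ℓ →
      0 < 𝔇.a (g j) G ∧ 𝔇.r (g j) G ≤ μ j ∧ (𝔇.r (g j) G = μ j → G ≤ g (j + 1)) := by
    intro ℓ
    induction ℓ with
    | zero => intro h; omega
    | succ n ih =>
      intro hjn hnN G hG hjG hGl
      rcases Nat.eq_or_lt_of_le hjn with h | h
      · have hnj : n = j := by omega
        subst hnj
        have hαG : 𝔇.α (g n) < 𝔇.α G := hpu n hj G hG hjG hGl
        have haG : 0 < 𝔇.a (g n) G := by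
          unfold a
          exact_mod_cast sub_pos.2 hαG
        refine ⟨haG, ?_, fun _ => hGl⟩
        change 𝔇.r (g n) G ≤ 𝔇.r (g n) (g (n + 1))
        unfold r
        rw [div_le_div_iff₀ haG (apos n hj)]
        have := hss n hj G hG hjG hGl
        linarith [mul_comm (𝔇.a (g n) (g (n + 1))) (𝔇.w (g n) G),
          mul_comm (𝔇.a (g n) G) (𝔇.w (g n) (g (n + 1)))]
      · have hjn' : j + 1 ≤ n := by omega
        have hnN' : n < N := by omega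
        by_cases hGM : G ≤ g n
        · exact ih hjn' hnN'.le G hG hjG hGM
        · have gM := hgood n hnN'.le
          have gU : 𝔇.good (G ⊔ g n) := 𝔇.good_sup hG gM
          have gG' : 𝔇.good (G ⊓ g n) := 𝔇.good_inf hG gM
          have hMU : g n < G ⊔ g n :=
            lt_of_le_of_ne le_sup_right (fun h => hGM (le_sup_left.trans h.ge))
          have hUl : G ⊔ g n ≤ g (n + 1) := sup_le hGl (hlt n hnN').le
          have hαU : 𝔇.α (g n) < 𝔇.α (G ⊔ g n) := hpu n hnN' _ gU hMU hUl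
          have hssU := hss n hnN' _ gU hMU hUl
          have hy : 0 < 𝔇.a (g n) (G ⊔ g n) := by
            unfold a
            exact_mod_cast sub_pos.2 hαU
          have hqy : 𝔇.r (g n) (G ⊔ g n) ≤ μ n := by
            change 𝔇.r (g n) (G ⊔ g n) ≤ 𝔇.r (g n) (g (n + 1))
            unfold r
            rw [div_le_div_iff₀ hy (apos n hnN')]
            linarith [mul_comm (𝔇.a (g n) (g (n + 1))) (𝔇.w (g n) (G ⊔ g n)),
              mul_comm (𝔇.a (g n) (G ⊔ g n)) (𝔇.w (g n) (g (n + 1)))]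
          have hμlt : μ n < μ j := hanti n j (by omega) hnN'
          have ew : 𝔇.w (G ⊓ g n) G = 𝔇.w (g n) (G ⊔ g n) := by
            unfold w
            have := 𝔇.v_mod hG gM
            linarith
          have ea : 𝔇.a (G ⊓ g n) G = 𝔇.a (g n) (G ⊔ g n) := by
            unfold a
            have := 𝔇.α_mod hG gM
            rw [show 𝔇.α G - 𝔇.α (G ⊓ g n) = 𝔇.α (G ⊔ g n) - 𝔇.α (g n) by linarith]
          have hjG' : g j ≤ G ⊓ g n := le_inf hjG.le (hmonog n j (by omega) hnN'.le)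
          have hq : 𝔇.w (g n) (G ⊔ g n) < μ j * 𝔇.a (g n) (G ⊔ g n) := by
            have h1 : 𝔇.w (g n) (G ⊔ g n) ≤ μ n * 𝔇.a (g n) (G ⊔ g n) := by
              have := hqy
              unfold r at this
              rwa [div_le_iff₀ hy] at this
            have h2 : μ n * 𝔇.a (g n) (G ⊔ g n) < μ j * 𝔇.a (g n) (G ⊔ g n) :=
              mul_lt_mul_of_pos_right hμlt hy
            linarith
          rcases eq_or_lt_of_le hjG' with e | hlt'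
          · have e1 : 𝔇.w (g j) G = 𝔇.w (g n) (G ⊔ g n) := by rw [e, ew]
            have e2 : 𝔇.a (g j) G = 𝔇.a (g n) (G ⊔ g n) := by rw [e, ea]
            have hlt2 : 𝔇.r (g j) G < μ j := by
              unfold r
              rw [e1, e2, div_lt_iff₀ hy]
              exact hq
            exact ⟨by rw [e2]; exact hy, hlt2.le, fun he => absurd he hlt2.ne⟩
          · obtain ⟨hx, hpx, -⟩ := ih hjn' hnN'.le (G ⊓ g n) gG' hlt' inf_le_right
            have e1 : 𝔇.w (g j) G = 𝔇.w (g j) (G ⊓ g n) + 𝔇.w (g n) (G ⊔ g n) := by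
              rw [𝔇.w_add (g j) (G ⊓ g n) G, ew]
            have e2 : 𝔇.a (g j) G = 𝔇.a (g j) (G ⊓ g n) + 𝔇.a (g n) (G ⊔ g n) := by
              rw [𝔇.a_add (g j) (G ⊓ g n) G, ea]
            have hxy : 0 < 𝔇.a (g j) G := by rw [e2]; linarith
            have hp' : 𝔇.w (g j) (G ⊓ g n) ≤ μ j * 𝔇.a (g j) (G ⊓ g n) := by
              unfold r at hpx
              rwa [div_le_iff₀ hx] at hpx
            have hlt2 : 𝔇.r (g j) G < μ j := by
              unfold r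
              rw [div_lt_iff₀ hxy, e1, e2, mul_add]
              linarith
            exact ⟨hxy, hlt2.le, fun he => absurd he hlt2.ne⟩
  refine ⟨hgood _ hj, hlt j hj, fun C hC hjC => ?_⟩
  obtain ⟨h0, h1, h2⟩ := claim N hj le_rfl C hC hjC (hN ▸ le_top)
  have pj := apos j hj
  constructor
  · change 𝔇.r (g j) C ≤ 𝔇.r (g j) (g (j + 1)) at h1
    unfold r at h1
    rw [div_le_div_iff₀ h0 pj] at h1
    linarith [mul_comm (𝔇.a (g j) (g (j + 1))) (𝔇.w (g j) C),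
      mul_comm (𝔇.a (g j) C) (𝔇.w (g j) (g (j + 1)))]
  · intro he
    apply h2
    change 𝔇.r (g j) C = 𝔇.r (g j) (g (j + 1))
    unfold r
    rw [div_eq_div_iff h0.ne' pj.ne']
    linarith [mul_comm (𝔇.a (g j) (g (j + 1))) (𝔇.w (g j) C),
      mul_comm (𝔇.a (g j) C) (𝔇.w (g j) (g (j + 1)))]

theorem chain_unique (N N' : ℕ) (f g : ℕ → S) (h0 : f 0 = g 0) (hfN : f N = ⊤)
    (hgN : g N' = ⊤) (hf : ∀ i, i < N → 𝔇.RelMax (f i) (f (i + 1)))
    (hg : ∀ i, i < N' → 𝔇.RelMax (g i) (g (i + 1))) :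
    N = N' ∧ ∀ i, i ≤ N → f i = g i := by
  have heq : ∀ i, i ≤ N → i ≤ N' → f i = g i := by
    intro i
    induction i with
    | zero => intro _ _; exact h0
    | succ n ih =>
      intro h1 h2
      have e := ih (by omega) (by omega)
      have r1 := hf n (by omega)
      have r2 := hg n (by omega)
      rw [← e] at r2
      exact 𝔇.relMax_unique r1 r2
  have hNN : N = N' := by
    rcases lt_trichotomy N N' with h | h | h
    · exfalso
      have e := heq N le_rfl h.le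
      have r2 := hg N h
      rw [← e, hfN] at r2
      exact not_top_lt r2.2.1
    · exact h
    · exfalso
      have e := heq N' h.le le_rfl
      have r1 := hf N' h
      rw [e, hgN] at r1
      exact not_top_lt r1.2.1
  exact ⟨hNN, fun i hi => heq i hi (hNN ▸ hi)⟩

end Bounded

end Datum

end Groth.Agent.Lead.HN
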