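import Mathlib

set_option autoImplicit false
set_option linter.style.haveILetI false
set_option linter.unusedSectionVars false

open Polynomial Filter

namespace Groth.Agent.Lead.HP

/-- eventually positive on natural numbers -/
def EvPos (P : ℚ[X]) : Prop := ∃ N : ℕ, ∀ m : ℕ, N ≤ m → 0 < P.eval (m : ℚ)

/-- eventually nonnegative on natural numbers -/
def EvNonneg (P : ℚ[X]) : Prop := ∃ N : ℕ, ∀ m : ℕ, N ≤ m → 0 ≤ P.eval (m : ℚ)

theorem evPos_of_leadingCoeff_pos (P : ℚ[X]) (h : 0 < P.leadingCoeff) : EvPos P := by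
  by_cases hd : P.natDegree = 0
  · obtain ⟨c, rfl⟩ := natDegree_eq_zero.mp hd
    rw [leadingCoeff_C] at h
    exact ⟨0, fun m _ => by rw [eval_C]; exact h⟩
  · have hdeg : 0 < P.degree := natDegree_pos_iff_degree_pos.mp (Nat.pos_of_ne_zero hd)
    have ht := P.tendsto_atTop_of_leadingCoeff_nonneg hdeg h.le
    have ht' : Tendsto (fun m : ℕ => eval (m : ℚ) P) atTop atTop :=
      ht.comp tendsto_natCast_atTop_atTop
    obtain ⟨N, hN⟩ := Filter.eventually_atTop.mp (ht'.eventually_gt_atTop 0)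
    exact ⟨N, hN⟩

theorem evPos_neg_of_leadingCoeff_neg (P : ℚ[X]) (h : P.leadingCoeff < 0) : EvPos (-P) := by
  apply evPos_of_leadingCoeff_pos
  rw [leadingCoeff_neg]
  linarith

theorem EvPos.evNonneg {P : ℚ[X]} (h : EvPos P) : EvNonneg P := by
  obtain ⟨N, hN⟩ := h
  exact ⟨N, fun m hm => (hN m hm).le⟩

theorem EvPos.not_neg {P : ℚ[X]} (h : EvPos P) (h' : EvNonneg (-P)) : False := by
  obtain ⟨N, hN⟩ := h
  obtain ⟨N', hN'⟩ := h'
  have h1 := hN (max N N') (le_max_left _ _)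
  have h2 := hN' (max N N') (le_max_right _ _)
  rw [eval_neg] at h2
  linarith

/-- an eventually nonnegative polynomial is zero or has positive leading coefficient -/
theorem EvNonneg.eq_zero_or_pos {P : ℚ[X]} (h : EvNonneg P) : P = 0 ∨ 0 < P.leadingCoeff := by
  by_cases h0 : P = 0
  · exact Or.inl h0
  · right
    rcases lt_trichotomy P.leadingCoeff 0 with hl | hl | hl
    · exfalso
      refine (evPos_neg_of_leadingCoeff_neg P hl).not_neg ?_
      rw [neg_neg]; exact h
    · exact (h0 (leadingCoeff_eq_zero.mp hl)).elim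
    · exact hl

theorem EvNonneg.evPos_of_ne_zero {P : ℚ[X]} (h : EvNonneg P) (h0 : P ≠ 0) : EvPos P := by
  rcases h.eq_zero_or_pos with h1 | h1
  · exact (h0 h1).elim
  · exact evPos_of_leadingCoeff_pos P h1

/-- top coefficient of an eventually nonnegative polynomial of degree `≤ d` is nonnegative -/
theorem EvNonneg.coeff_nonneg {P : ℚ[X]} (h : EvNonneg P) {d : ℕ} (hd : P.natDegree ≤ d) :
    0 ≤ P.coeff d := by
  rcases h.eq_zero_or_pos with h1 | h1
  · rw [h1, coeff_zero]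
  · rcases hd.lt_or_eq with h2 | h2
    · rw [coeff_eq_zero_of_natDegree_lt h2]
    · rw [← h2]; exact h1.le

/-- if both `P` and `-P` are eventually nonnegative then `P = 0` -/
theorem eq_zero_of_evNonneg_of_evNonneg_neg {P : ℚ[X]} (h : EvNonneg P) (h' : EvNonneg (-P)) :
    P = 0 := by
  by_contra h0
  exact (h.evPos_of_ne_zero h0).not_neg h'

/-- a polynomial vanishing at all large naturals is zero -/
theorem eq_zero_of_eval_nat_eq_zero {P : ℚ[X]} (N : ℕ) (h : ∀ m : ℕ, N ≤ m → P.eval (m : ℚ) = 0) :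
    P = 0 :=
  eq_zero_of_evNonneg_of_evNonneg_neg ⟨N, fun m hm => (h m hm).ge⟩
    ⟨N, fun m hm => by rw [eval_neg, h m hm, neg_zero]⟩

theorem eq_of_eval_nat_eq {P Q : ℚ[X]} (h : ∀ m : ℕ, P.eval (m : ℚ) = Q.eval (m : ℚ)) : P = Q := by
  rw [← sub_eq_zero]
  exact eq_zero_of_eval_nat_eq_zero 0 fun m _ => by rw [eval_sub, h m, sub_self]

end Groth.Agent.Lead.HP
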