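import Mathlib
import Groth.Agent.Lib.Lead.HP1

set_option autoImplicit false
set_option linter.style.haveILetI false
set_option linter.unusedSectionVars false

universe v u

open CategoryTheory CategoryTheory.Limits Polynomial

namespace Groth.Agent.Lead.HP

section Poly

/-- the degree of a sum of eventually nonnegative polynomials dominates the degrees -/
theorem natDegree_le_add_of_evNonneg {P Q : ℚ[X]} (hP : EvNonneg P) (hQ : EvNonneg Q) :
    Q.natDegree ≤ (P + Q).natDegree := by
  rcases hP.eq_zero_or_pos with rfl | hp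
  · rw [zero_add]
  rcases hQ.eq_zero_or_pos with rfl | hq
  · rw [natDegree_zero]; exact Nat.zero_le _
  rcases lt_trichotomy P.natDegree Q.natDegree with h | h | h
  · rw [natDegree_add_eq_right_of_natDegree_lt h]
  · apply le_natDegree_of_ne_zero
    rw [coeff_add, ← h]
    have h1 : 0 < P.coeff P.natDegree := hp
    have h2 : 0 < Q.coeff P.natDegree := by rw [h]; exact hq
    exact (add_pos h1 h2).ne'
  · rw [natDegree_add_eq_left_of_natDegree_lt h]
    exact h.le

/-- shifting the variable and subtracting lowers the degree -/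
theorem natDegree_shift_sub_lt (P : ℚ[X]) (a : ℚ) (hP : 0 < P.natDegree) :
    (P.comp (X + C a) - P).natDegree < P.natDegree := by
  have hq : (X + C a : ℚ[X]).natDegree = 1 := natDegree_X_add_C a
  have hlq : (X + C a : ℚ[X]).leadingCoeff = 1 := leadingCoeff_X_add_C a
  have hd : (P.comp (X + C a)).natDegree = P.natDegree := by
    rw [natDegree_comp, hq, mul_one]
  have hl : (P.comp (X + C a)).leadingCoeff = P.leadingCoeff := by
    rw [leadingCoeff_comp (by rw [hq]; exact one_ne_zero), hlq, one_pow, mul_one]
  have hP0 : P.comp (X + C a) ≠ 0 := by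
    intro h
    rw [h, natDegree_zero] at hd
    omega
  have h1 : (P.comp (X + C a) - P).degree < (P.comp (X + C a)).degree :=
    degree_sub_lt (by rw [degree_eq_natDegree hP0, degree_eq_natDegree
      (fun h => by rw [h, natDegree_zero] at hP; exact lt_irrefl _ hP), hd]) hP0 hl
  by_cases h0 : P.comp (X + C a) - P = 0
  · rw [h0, natDegree_zero]; exact hP
  · rw [degree_eq_natDegree h0, degree_eq_natDegree hP0, hd] at h1
    exact_mod_cast h1

theorem shift_sub_eq_zero_of_natDegree_eq_zero (P : ℚ[X]) (a : ℚ) (hP : P.natDegree = 0) :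
    P.comp (X + C a) - P = 0 := by
  obtain ⟨c, rfl⟩ := natDegree_eq_zero.mp hP
  rw [C_comp, sub_self]

/-- if the shifted difference is nonzero of degree `≥ e` then the degree is `≥ e + 1` -/
theorem natDegree_ge_of_shift_sub (P : ℚ[X]) (a : ℚ) (e : ℕ)
    (h0 : P.comp (X + C a) - P ≠ 0) (he : e ≤ (P.comp (X + C a) - P).natDegree) :
    e + 1 ≤ P.natDegree := by
  have hP : 0 < P.natDegree := by
    by_contra h
    exact h0 (shift_sub_eq_zero_of_natDegree_eq_zero P a (by omega))
  have := natDegree_shift_sub_lt P a hP
  omega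

end Poly

section Cat

variable {C : Type u} [Category.{v} C] [Abelian C]

/-- if `f` is an epimorphism and `f ≫ g` has the same kernel as `f`, then `g` is a monomorphism -/
theorem mono_of_kernel_comp {A B D : C} (f : A ⟶ B) [Epi f] (g : B ⟶ D)
    (h : kernel.ι (f ≫ g) ≫ f = 0) : Mono g := by
  apply Preadditive.mono_of_cancel_zero
  intro Z k hk
  -- pull back `k` along `f`
  have h1 : (pullback.fst f k) ≫ (f ≫ g) = 0 := by
    rw [← Category.assoc, pullback.condition, Category.assoc, hk, Limits.comp_zero]
  have h2 : pullback.fst f k = kernel.lift (f ≫ g) (pullback.fst f k) h1 ≫ kernel.ι (f ≫ g) :=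
    (kernel.lift_ι _ _ _).symm
  have h3 : pullback.snd f k ≫ k = 0 := by
    rw [← pullback.condition, h2, Category.assoc, h, Limits.comp_zero]
  haveI : Epi (pullback.snd f k) := inferInstance
  exact (cancel_epi (pullback.snd f k)).1 (h3.trans Limits.comp_zero.symm)

end Cat

end Groth.Agent.Lead.HP
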