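import Mathlib
import Groth.Prelude.Def_StabCat
import Groth.Agent.Lib.Lead.HP1
import Groth.Agent.Lib.Lead.HP8

set_option autoImplicit false
set_option linter.unusedSectionVars false
set_option linter.unusedVariables false

open Polynomial

namespace Groth.Agent.Lead.HN

open Groth.Agent.Lead.HP

/-- the ordered field of germs of rational sequences along a free ultrafilter -/
abbrev GK : Type := (Filter.hyperfilter ℕ : Filter ℕ).Germ ℚ

/-- evaluation of polynomials at the natural numbers -/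
noncomputable def evalHom : ℚ[X] →+* (ℕ → ℚ) :=
  RingHom.pi (fun m : ℕ => Polynomial.evalRingHom (m : ℚ))

/-- the germ at infinity of a polynomial -/
noncomputable def germ : ℚ[X] →+* GK :=
  (Filter.Germ.coeRingHom (Filter.hyperfilter ℕ : Filter ℕ)).comp evalHom

theorem germ_apply (p : ℚ[X]) : germ p = ((fun m : ℕ => p.eval (m : ℚ) : ℕ → ℚ) : GK) := rfl

theorem eventually_of_forall_ge {p : ℕ → Prop} (N : ℕ) (h : ∀ m : ℕ, N ≤ m → p m) :
    ∀ᶠ m in (Filter.hyperfilter ℕ : Filter ℕ), p m := by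
  have h1 : ∀ᶠ m in Filter.atTop, p m := Filter.eventually_atTop.2 ⟨N, h⟩
  rw [← Nat.cofinite_eq_atTop] at h1
  exact h1.filter_mono Filter.hyperfilter_le_cofinite

theorem germ_pos_of_evPos {R : ℚ[X]} (h : EvPos R) : 0 < germ R := by
  obtain ⟨N, hN⟩ := h
  rw [germ_apply]
  exact Filter.Germ.coe_pos.2 (eventually_of_forall_ge N hN)

theorem germ_nonneg_of_evNonneg {R : ℚ[X]} (h : EvNonneg R) : 0 ≤ germ R := by
  obtain ⟨N, hN⟩ := h
  rw [germ_apply]
  exact Filter.Germ.coe_nonneg.2 (eventually_of_forall_ge N hN)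

theorem germ_pos_iff {R : ℚ[X]} : 0 < germ R ↔ EvPos R := by
  refine ⟨fun h => ?_, germ_pos_of_evPos⟩
  by_cases h0 : R = 0
  · rw [h0, map_zero] at h
    exact absurd h (lt_irrefl _)
  rcases lt_trichotomy R.leadingCoeff 0 with hl | hl | hl
  · have h1 := germ_pos_of_evPos (evPos_neg_of_leadingCoeff_neg R hl)
    rw [map_neg] at h1
    exact absurd h (not_lt.2 (by linarith))
  · exact absurd (leadingCoeff_eq_zero.1 hl) h0
  · exact evPos_of_leadingCoeff_pos R hl

theorem germ_nonneg_iff {R : ℚ[X]} : 0 ≤ germ R ↔ EvNonneg R := by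
  refine ⟨fun h => ?_, germ_nonneg_of_evNonneg⟩
  by_cases h0 : R = 0
  · rw [h0]
    exact ⟨0, fun m _ => by rw [eval_zero]⟩
  rcases lt_trichotomy R.leadingCoeff 0 with hl | hl | hl
  · have h1 := germ_pos_of_evPos (evPos_neg_of_leadingCoeff_neg R hl)
    rw [map_neg] at h1
    exact absurd h (not_le.2 (by linarith))
  · exact absurd (leadingCoeff_eq_zero.1 hl) h0
  · exact (evPos_of_leadingCoeff_pos R hl).evNonneg

theorem germ_le_iff {p q : ℚ[X]} : germ p ≤ germ q ↔ StabCat.PolyLE p q := by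
  rw [← sub_nonneg, ← map_sub, germ_nonneg_iff]
  unfold EvNonneg StabCat.PolyLE
  simp only [eval_sub, sub_nonneg]

theorem germ_lt_iff {p q : ℚ[X]} : germ p < germ q ↔ StabCat.PolyLT p q := by
  rw [← sub_pos, ← map_sub, germ_pos_iff]
  unfold EvPos StabCat.PolyLT
  simp only [eval_sub, sub_pos]

theorem germ_injective : Function.Injective germ := by
  intro p q h
  have h1 : EvNonneg (p - q) := germ_nonneg_iff.1 (by rw [map_sub, h, sub_self])
  have h2 : EvNonneg (-(p - q)) := germ_nonneg_iff.1 (by rw [map_neg, map_sub, h, sub_self, neg_zero])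
  exact sub_eq_zero.1 (eq_zero_of_evNonneg_of_evNonneg_neg h1 h2)

theorem germ_smul (c : ℚ) (p : ℚ[X]) : germ (c • p) = (c : GK) * germ p := by
  rw [smul_eq_C_mul, map_mul]
  congr 1
  have : (C c : ℚ[X]) = algebraMap ℚ ℚ[X] c := rfl
  rw [this, RingHom.map_rat_algebraMap, eq_ratCast]

theorem redLE_iff (d : ℕ) (p q : ℚ[X]) :
    StabCat.RedLE d p q ↔
      (StabCat.alpha d q : GK) * germ p ≤ (StabCat.alpha d p : GK) * germ q := by
  unfold StabCat.RedLE
  rw [← germ_le_iff, germ_smul, germ_smul]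

theorem redLT_iff (d : ℕ) (p q : ℚ[X]) :
    StabCat.RedLT d p q ↔
      (StabCat.alpha d q : GK) * germ p < (StabCat.alpha d p : GK) * germ q := by
  unfold StabCat.RedLT
  rw [← germ_lt_iff, germ_smul, germ_smul]

theorem redEq_iff (d : ℕ) (p q : ℚ[X]) :
    StabCat.RedEq d p q ↔
      (StabCat.alpha d q : GK) * germ p = (StabCat.alpha d p : GK) * germ q := by
  unfold StabCat.RedEq
  rw [← germ_smul, ← germ_smul]
  exact ⟨fun h => by rw [h], fun h => germ_injective h⟩

section Integrality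

theorem coeff_shift_sub (P : ℚ[X]) (d : ℕ) (hd : P.natDegree ≤ d + 1) :
    (P.comp (X + C 1) - P).coeff d = ((d : ℚ) + 1) * P.coeff (d + 1) := by
  rw [coeff_sub, ← taylor_apply, taylor_coeff]
  have h1 : (hasseDeriv d P).natDegree < 2 := by
    have := natDegree_hasseDeriv_le P d
    omega
  rw [eval_eq_sum_range' h1, Finset.sum_range_succ, Finset.sum_range_one, hasseDeriv_coeff,
    hasseDeriv_coeff]
  have e : (1 + d).choose d = d + 1 := by
    rw [add_comm]
    exact Nat.choose_succ_self_right d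
  rw [e]
  simp only [zero_add, Nat.choose_self, Nat.cast_one, one_mul, pow_zero, mul_one, pow_one,
    Nat.cast_add]
  ring_nf

/-- the top normalised coefficient of an integer valued polynomial is an integer -/
theorem alpha_int : ∀ (d : ℕ) (P : ℚ[X]), P.natDegree ≤ d →
    (∀ m : ℕ, ∃ z : ℤ, P.eval (m : ℚ) = z) → ∃ z : ℤ, StabCat.alpha d P = z
  | 0, P, hd, hint => by
    obtain ⟨z, hz⟩ := hint 0
    refine ⟨z, ?_⟩
    rw [eq_C_of_natDegree_le_zero hd] at hz
    unfold StabCat.alpha
    rw [← hz]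
    simp
  | d + 1, P, hd, hint => by
    have hQd : (P.comp (X + C 1) - P).natDegree ≤ d := by
      by_cases h0 : P.natDegree = 0
      · rw [shift_sub_eq_zero_of_natDegree_eq_zero P 1 h0, natDegree_zero]
        exact Nat.zero_le _
      · have := natDegree_shift_sub_lt P 1 (Nat.pos_of_ne_zero h0)
        omega
    have hQint : ∀ m : ℕ, ∃ z : ℤ, (P.comp (X + C 1) - P).eval (m : ℚ) = z := by
      intro m
      obtain ⟨z1, h1⟩ := hint (m + 1)
      obtain ⟨z2, h2⟩ := hint m
      refine ⟨z1 - z2, ?_⟩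
      rw [eval_sub, eval_comp, eval_add, eval_X, eval_C, h2]
      have : ((m : ℚ) + 1) = ((m + 1 : ℕ) : ℚ) := by push_cast; ring
      rw [this, h1]
      push_cast
      ring
    obtain ⟨z, hz⟩ := alpha_int d _ hQd hQint
    refine ⟨z, ?_⟩
    rw [← hz]
    unfold StabCat.alpha
    rw [coeff_shift_sub P d hd, Nat.factorial_succ]
    push_cast
    ring

end Integrality

end Groth.Agent.Lead.HN
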