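import Mathlib

set_option autoImplicit false
set_option linter.unusedSectionVars false
set_option linter.unusedVariables false
set_option linter.style.haveILetI false

universe v u

open CategoryTheory CategoryTheory.Limits

namespace Groth.Agent.Lead.HN

variable {C : Type u} [Category.{v} C] [Abelian C]

section Coker

variable {F G : C} (j : F ⟶ G)

/-- the cokernel sequence of a morphism -/
noncomputable def cokerSC : ShortComplex C :=
  ShortComplex.mk j (cokernel.π j) (cokernel.condition j)

theorem cokerSC_shortExact [Mono j] : (cokerSC j).ShortExact := by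
  have hS : (cokerSC j).Exact := ShortComplex.exact_of_g_is_cokernel _ (cokernelIsCokernel j)
  haveI : Mono (cokerSC j).f := inferInstanceAs (Mono j)
  haveI : Epi (cokerSC j).g := inferInstanceAs (Epi (cokernel.π j))
  exact { exact := hS }

theorem isZero_X₃_of_isIso_f {S : ShortComplex C} (hS : S.ShortExact) (h : IsIso S.f) :
    IsZero S.X₃ := by
  haveI := hS.epi_g
  apply IsZero.of_epi_eq_zero S.g
  rw [← cancel_epi S.f, S.zero, comp_zero]

section Pre

variable {T : C} (ι : T ⟶ cokernel j)

/-- the preimage in `G` of a subobject of the quotient `G / F` -/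
noncomputable abbrev pre : C := kernel (cokernel.π j ≫ cokernel.π ι)

/-- the inclusion of the preimage -/
noncomputable abbrev preι : pre j ι ⟶ G := kernel.ι _

/-- `F` lies in the preimage -/
noncomputable abbrev preLift : F ⟶ pre j ι :=
  kernel.lift _ j (by rw [← Category.assoc, cokernel.condition, zero_comp])

@[reassoc]
theorem preLift_ι : preLift j ι ≫ preι j ι = j := kernel.lift_ι _ _ _

variable [Mono ι]

/-- the projection from the preimage -/
noncomputable def preQ : pre j ι ⟶ T :=
  Abelian.monoLift ι (preι j ι ≫ cokernel.π j) (by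
    rw [Category.assoc]
    exact kernel.condition _)

@[reassoc]
theorem preQ_ι : preQ j ι ≫ ι = preι j ι ≫ cokernel.π j := Abelian.monoLift_comp _ _ _

theorem epi_preQ : Epi (preQ j ι) := by
  have hs : IsLimit (PullbackCone.mk (preι j ι) (preQ j ι) (preQ_ι j ι).symm) :=
    PullbackCone.IsLimit.mk _
      (fun s' => kernel.lift _ s'.fst (by
        rw [← Category.assoc, s'.condition, Category.assoc, cokernel.condition, comp_zero]))
      (fun s' => kernel.lift_ι _ _ _)
      (fun s' => by
        rw [← cancel_mono ι, Category.assoc, preQ_ι, ← Category.assoc, kernel.lift_ι]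
        exact s'.condition)
      (fun s' m h1 h2 => by
        rw [← cancel_mono (preι j ι), h1, kernel.lift_ι])
  exact Abelian.epi_snd_of_isLimit (f := cokernel.π j) (g := ι) hs

/-- the sequence `0 ⟶ F ⟶ pre ⟶ T ⟶ 0` -/
noncomputable def preSC : ShortComplex C :=
  ShortComplex.mk (preLift j ι) (preQ j ι) (by
    rw [← cancel_mono ι, Category.assoc, preQ_ι, preLift_ι_assoc, cokernel.condition, zero_comp])

theorem preSC_exact [Mono j] : (preSC j ι).Exact := by
  refine ShortComplex.exact_of_f_is_kernel _ ?_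
  refine KernelFork.IsLimit.ofι' (preLift j ι) (preSC j ι).zero
    (fun {W} (x : W ⟶ pre j ι) (hx : x ≫ preQ j ι = 0) => ?_)
  have h1 : (x ≫ preι j ι) ≫ cokernel.π j = 0 := by
    rw [Category.assoc, ← preQ_ι, ← Category.assoc, hx, zero_comp]
  refine ⟨Abelian.monoLift j (x ≫ preι j ι) h1, ?_⟩
  rw [← cancel_mono (preι j ι), Category.assoc, preLift_ι, Abelian.monoLift_comp]

theorem preSC_shortExact [Mono j] : (preSC j ι).ShortExact := by
  have hm : Mono j := inferInstance
  haveI : Mono (preSC j ι).f := @mono_of_mono_fac _ _ _ _ _ _ _ _ hm (preLift_ι j ι)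
  haveI : Epi (preSC j ι).g := epi_preQ j ι
  exact { exact := preSC_exact j ι }

theorem isZero_of_isIso_preLift [Mono j] (h : IsIso (preLift j ι)) : IsZero T :=
  isZero_X₃_of_isIso_f (preSC_shortExact j ι) h

theorem isIso_of_isIso_preι (h : IsIso (preι j ι)) : IsIso ι := by
  have h1 : cokernel.π j ≫ cokernel.π ι = 0 := by
    rw [← cancel_epi (preι j ι), comp_zero]
    exact kernel.condition _
  have h2 : cokernel.π ι = 0 := by rw [← cancel_epi (cokernel.π j), h1, comp_zero]
  haveI : Epi ι := Preadditive.epi_of_cokernel_zero h2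
  exact isIso_of_mono_of_epi ι

end Pre

section Quot

variable {H : C} (c : F ⟶ H) (b : H ⟶ G) (hcb : c ≫ b = j)

/-- the map `H / F ⟶ G / F` for `F ⊆ H ⊆ G` -/
noncomputable def quotMap : cokernel c ⟶ cokernel j :=
  cokernel.desc c (b ≫ cokernel.π j) (by rw [← Category.assoc, hcb, cokernel.condition])

@[reassoc]
theorem π_quotMap : cokernel.π c ≫ quotMap j c b hcb = b ≫ cokernel.π j :=
  cokernel.π_desc _ _ _

theorem mono_quotMap [Mono j] [Mono b] : Mono (quotMap j c b hcb) := by
  apply Preadditive.mono_of_kernel_zero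
  haveI : Epi (pullback.snd (cokernel.π c) (kernel.ι (quotMap j c b hcb))) :=
    Abelian.epi_pullback_of_epi_f _ _
  have h1 : (pullback.fst (cokernel.π c) (kernel.ι (quotMap j c b hcb)) ≫ b) ≫ cokernel.π j = 0 := by
    rw [Category.assoc, ← π_quotMap j c b hcb, ← Category.assoc, pullback.condition,
      Category.assoc, kernel.condition, comp_zero]
  have hw : Abelian.monoLift j _ h1 ≫ c = pullback.fst (cokernel.π c) (kernel.ι (quotMap j c b hcb)) := by
    rw [← cancel_mono b, Category.assoc, hcb]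
    exact Abelian.monoLift_comp _ _ _
  have h2 : pullback.snd (cokernel.π c) (kernel.ι (quotMap j c b hcb)) ≫
      kernel.ι (quotMap j c b hcb) = 0 := by
    rw [← pullback.condition, ← hw, Category.assoc, cokernel.condition, comp_zero]
  rw [← cancel_epi (pullback.snd (cokernel.π c) (kernel.ι (quotMap j c b hcb))), h2, comp_zero]

theorem isIso_of_epi_quotMap [Mono b] (h : Epi (quotMap j c b hcb)) : IsIso b := by
  haveI : Epi b := by
    apply Preadditive.epi_of_cancel_zero
    intro Z z hz
    have h1 : j ≫ z = 0 := by rw [← hcb, Category.assoc, hz, comp_zero]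
    have h2 : z = cokernel.π j ≫ cokernel.desc j z h1 := (cokernel.π_desc _ _ _).symm
    have h3 : cokernel.desc j z h1 = 0 := by
      rw [← cancel_epi (quotMap j c b hcb), ← cancel_epi (cokernel.π c), π_quotMap_assoc, ← h2,
        hz, comp_zero, comp_zero]
    rw [h2, h3, comp_zero]
  exact isIso_of_mono_of_epi b

theorem isIso_of_isZero_cokernel [Mono c] (h : IsZero (cokernel c)) : IsIso c := by
  haveI : Epi c := Preadditive.epi_of_cokernel_zero (h.eq_of_tgt _ _)
  exact isIso_of_mono_of_epi c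

end Quot

end Coker

section Sub

variable {E : C}

theorem isIso_ofLE_of_eq {A B : Subobject E} (h : A = B) (hle : A ≤ B) :
    IsIso (Subobject.ofLE A B hle) := by
  subst h
  rw [Subobject.ofLE_refl]
  infer_instance

theorem le_of_isIso_ofLE {A B : Subobject E} (hle : A ≤ B)
    (h : IsIso (Subobject.ofLE A B hle)) : B ≤ A :=
  Subobject.le_of_comm (inv (Subobject.ofLE A B hle)) (by
    rw [IsIso.inv_comp_eq, Subobject.ofLE_arrow])

theorem not_isIso_ofLE_of_lt {A B : Subobject E} (h : A < B) :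
    ¬ IsIso (Subobject.ofLE A B h.le) := fun hi =>
  (not_le_of_gt h) (le_of_isIso_ofLE h.le hi)

section SupInf

variable (A B : Subobject E)

/-- the map `A ⊓ B ⟶ A ⊞ B` -/
noncomputable def infToBiprod : ((A ⊓ B : Subobject E) : C) ⟶ (A : C) ⊞ (B : C) :=
  biprod.lift (Subobject.ofLE _ _ inf_le_left) (-Subobject.ofLE _ _ inf_le_right)

/-- the map `A ⊞ B ⟶ A ⊔ B` -/
noncomputable def biprodToSup : (A : C) ⊞ (B : C) ⟶ ((A ⊔ B : Subobject E) : C) :=
  biprod.desc (Subobject.ofLE _ _ le_sup_left) (Subobject.ofLE _ _ le_sup_right)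

/-- the sequence `0 ⟶ A ⊓ B ⟶ A ⊞ B ⟶ A ⊔ B ⟶ 0` -/
noncomputable def supInfSC : ShortComplex C :=
  ShortComplex.mk (infToBiprod A B) (biprodToSup A B) (by
    unfold infToBiprod biprodToSup
    rw [biprod.lift_desc, Preadditive.neg_comp, Subobject.ofLE_comp_ofLE,
      Subobject.ofLE_comp_ofLE]
    exact add_neg_cancel _)

instance : Mono (infToBiprod A B) := by
  have h : infToBiprod A B ≫ biprod.fst = Subobject.ofLE _ _ inf_le_left := biprod.lift_fst _ _
  exact mono_of_mono_fac h

theorem epi_biprodToSup : Epi (biprodToSup A B) := by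
  have hA : A ≤ Subobject.mk (image.ι (biprodToSup A B) ≫ (A ⊔ B).arrow) :=
    Subobject.le_mk_of_comm (biprod.inl ≫ factorThruImage (biprodToSup A B)) (by
      rw [Category.assoc, image.fac_assoc]
      unfold biprodToSup
      rw [biprod.inl_desc_assoc, Subobject.ofLE_arrow])
  have hB : B ≤ Subobject.mk (image.ι (biprodToSup A B) ≫ (A ⊔ B).arrow) :=
    Subobject.le_mk_of_comm (biprod.inr ≫ factorThruImage (biprodToSup A B)) (by
      rw [Category.assoc, image.fac_assoc]
      unfold biprodToSup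
      rw [biprod.inr_desc_assoc, Subobject.ofLE_arrow])
  have hs : A ⊔ B ≤ Subobject.mk (image.ι (biprodToSup A B) ≫ (A ⊔ B).arrow) := sup_le hA hB
  have h1 : Subobject.ofLEMk _ _ hs ≫ image.ι (biprodToSup A B) = 𝟙 _ := by
    rw [← cancel_mono (A ⊔ B).arrow, Category.assoc, Subobject.ofLEMk_comp, Category.id_comp]
  haveI : IsSplitEpi (image.ι (biprodToSup A B)) := IsSplitEpi.mk' ⟨_, h1⟩
  have h2 : Epi (factorThruImage (biprodToSup A B) ≫ image.ι (biprodToSup A B)) := epi_comp _ _
  rwa [image.fac] at h2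

theorem supInfSC_exact : (supInfSC A B).Exact := by
  refine ShortComplex.exact_of_f_is_kernel _ ?_
  refine KernelFork.IsLimit.ofι' (infToBiprod A B) (supInfSC A B).zero
    (fun {W} (x : W ⟶ (A : C) ⊞ (B : C)) (hx : x ≫ biprodToSup A B = 0) => ?_)
  have hx2 : (x ≫ biprod.fst) ≫ A.arrow + (x ≫ biprod.snd) ≫ B.arrow = 0 := by
    have h2 : (x ≫ biprodToSup A B) ≫ (A ⊔ B).arrow = 0 := by rw [hx, zero_comp]
    have h3 : biprodToSup A B ≫ (A ⊔ B).arrow = biprod.desc A.arrow B.arrow := by
      unfold biprodToSup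
      apply biprod.hom_ext'
      · rw [biprod.inl_desc_assoc, biprod.inl_desc, Subobject.ofLE_arrow]
      · rw [biprod.inr_desc_assoc, biprod.inr_desc, Subobject.ofLE_arrow]
    rw [Category.assoc, h3, biprod.desc_eq, Preadditive.comp_add, ← Category.assoc,
      ← Category.assoc] at h2
    exact h2
  have hfA : A.Factors ((x ≫ biprod.fst) ≫ A.arrow) := Subobject.factors_comp_arrow _
  have hfB : B.Factors ((x ≫ biprod.fst) ≫ A.arrow) := by
    have : (x ≫ biprod.fst) ≫ A.arrow = (-(x ≫ biprod.snd)) ≫ B.arrow := by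
      rw [Preadditive.neg_comp]
      exact eq_neg_of_add_eq_zero_left hx2
    rw [this]
    exact Subobject.factors_comp_arrow _
  have hf : (A ⊓ B).Factors ((x ≫ biprod.fst) ≫ A.arrow) :=
    (Subobject.inf_factors _).2 ⟨hfA, hfB⟩
  have hl : (A ⊓ B).factorThru _ hf ≫ (A ⊓ B).arrow = (x ≫ biprod.fst) ≫ A.arrow :=
    Subobject.factorThru_arrow _ _ _
  refine ⟨(A ⊓ B).factorThru _ hf, ?_⟩
  unfold infToBiprod
  apply biprod.hom_ext
  · rw [Category.assoc, biprod.lift_fst, ← cancel_mono A.arrow, Category.assoc,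
      Subobject.ofLE_arrow, hl]
  · rw [Category.assoc, biprod.lift_snd, ← cancel_mono B.arrow, Category.assoc,
      Preadditive.neg_comp, Subobject.ofLE_arrow, Preadditive.comp_neg, hl]
    exact neg_eq_of_add_eq_zero_right hx2

theorem supInfSC_shortExact : (supInfSC A B).ShortExact := by
  haveI : Mono (supInfSC A B).f := inferInstanceAs (Mono (infToBiprod A B))
  haveI : Epi (supInfSC A B).g := epi_biprodToSup A B
  exact { exact := supInfSC_exact A B }

end SupInf

section PreSub

variable {A B : Subobject E} (hAB : A ≤ B) {T : C}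
  (ι : T ⟶ cokernel (Subobject.ofLE A B hAB)) [Mono ι]

/-- the preimage in `E` of a subobject of `B / A` -/
noncomputable def preSub : Subobject E :=
  Subobject.mk (preι (Subobject.ofLE A B hAB) ι ≫ B.arrow)

theorem preSub_le : preSub hAB ι ≤ B := Subobject.mk_le_of_comm (preι _ ι) rfl

theorem le_preSub : A ≤ preSub hAB ι :=
  Subobject.le_mk_of_comm (preLift _ ι) (by rw [preLift_ι_assoc, Subobject.ofLE_arrow])

/-- the underlying object of the preimage -/
noncomputable def preSubIso : (preSub hAB ι : C) ≅ pre (Subobject.ofLE A B hAB) ι :=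
  Subobject.underlyingIso _

theorem preSubIso_inv_arrow :
    (preSubIso hAB ι).inv ≫ (preSub hAB ι).arrow = preι _ ι ≫ B.arrow :=
  Subobject.underlyingIso_arrow _

theorem ofLE_preSub : Subobject.ofLE A (preSub hAB ι) (le_preSub hAB ι) =
    preLift _ ι ≫ (preSubIso hAB ι).inv := by
  rw [← cancel_mono (preSub hAB ι).arrow, Subobject.ofLE_arrow, Category.assoc,
    preSubIso_inv_arrow, preLift_ι_assoc, Subobject.ofLE_arrow]

/-- the sequence `0 ⟶ A ⟶ preSub ⟶ T ⟶ 0` -/
noncomputable def preSubSC : ShortComplex C :=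
  ShortComplex.mk (Subobject.ofLE A (preSub hAB ι) (le_preSub hAB ι))
    ((preSubIso hAB ι).hom ≫ preQ _ ι) (by
      rw [ofLE_preSub, Category.assoc, Iso.inv_hom_id_assoc]
      exact (preSC _ ι).zero)

theorem preSubSC_shortExact : (preSubSC hAB ι).ShortExact := by
  refine ShortComplex.shortExact_of_iso ?_ (preSC_shortExact (Subobject.ofLE A B hAB) ι)
  refine ShortComplex.isoMk (Iso.refl _) (preSubIso hAB ι).symm (Iso.refl _) ?_ ?_
  · change 𝟙 _ ≫ Subobject.ofLE A (preSub hAB ι) _ = preLift _ ι ≫ (preSubIso hAB ι).inv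
    rw [Category.id_comp, ofLE_preSub]
  · change (preSubIso hAB ι).inv ≫ (preSubIso hAB ι).hom ≫ preQ _ ι = preQ _ ι ≫ 𝟙 _
    rw [Iso.inv_hom_id_assoc, Category.comp_id]

theorem lt_preSub_of_not_isZero (h : ¬ IsZero T) : A < preSub hAB ι := by
  refine lt_of_le_of_ne (le_preSub hAB ι) (fun he => h ?_)
  exact isZero_X₃_of_isIso_f (preSubSC_shortExact hAB ι) (isIso_ofLE_of_eq he _)

theorem preSub_lt_of_not_isIso (h : ¬ IsIso ι) : preSub hAB ι < B := by
  refine lt_of_le_of_ne (preSub_le hAB ι) (fun he => h ?_)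
  apply isIso_of_isIso_preι (Subobject.ofLE A B hAB) ι
  have hle : B ≤ Subobject.mk (preι (Subobject.ofLE A B hAB) ι ≫ B.arrow) := he.ge
  have h1 : Subobject.ofLEMk B _ hle ≫ preι (Subobject.ofLE A B hAB) ι = 𝟙 _ := by
    rw [← cancel_mono B.arrow, Category.assoc, Subobject.ofLEMk_comp, Category.id_comp]
  haveI : IsSplitEpi (preι (Subobject.ofLE A B hAB) ι) := IsSplitEpi.mk' ⟨_, h1⟩
  exact isIso_of_mono_of_isSplitEpi _

end PreSub

section QuotSub

variable {A Cs B : Subobject E} (h1 : A ≤ Cs) (h2 : Cs ≤ B)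

/-- the map `Cs / A ⟶ B / A` -/
noncomputable def quotMapSub :
    cokernel (Subobject.ofLE A Cs h1) ⟶ cokernel (Subobject.ofLE A B (h1.trans h2)) :=
  quotMap (Subobject.ofLE A B (h1.trans h2)) (Subobject.ofLE A Cs h1) (Subobject.ofLE Cs B h2)
    (Subobject.ofLE_comp_ofLE _ _ _ _ _)

instance : Mono (quotMapSub h1 h2) := mono_quotMap _ _ _ _

theorem le_of_epi_quotMapSub (h : Epi (quotMapSub h1 h2)) : B ≤ Cs :=
  le_of_isIso_ofLE h2 (isIso_of_epi_quotMap _ _ _ _ h)

theorem le_of_isZero_cokernel_ofLE (h : IsZero (cokernel (Subobject.ofLE A Cs h1))) : Cs ≤ A :=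
  le_of_isIso_ofLE h1 (isIso_of_isZero_cokernel _ h)

end QuotSub

end Sub

end Groth.Agent.Lead.HN
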