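import Mathlib
import Groth.Prelude.Def_CohB1
import Groth.Agent.S4357
import Groth.Agent.Lib.Helper1.QcAbel
import Groth.Agent.Lib.Helper1.CohAbel
import Groth.Agent.Lib.Helper1.CohACC
import Groth.Agent.Lib.Helper1.FtSupp

/-!
# When is the pullback of a morphism to a finite type quasi-coherent module an epimorphism (lead)
-/

set_option autoImplicit false
universe u
open AlgebraicGeometry CategoryTheory CategoryTheory.Limits
set_option backward.isDefEq.respectTransparency.types false

namespace Groth.Agent.Lead.EpiPull

open Groth.Agent.Helper1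

variable {X : Scheme.{u}}

/-- a module with empty support is zero -/
theorem isZero_of_support_eq_empty (C : X.Modules) (h : CohB1.support C = ∅) : IsZero C := by
  apply CohACC.isZero_of_sections
  intro V s
  apply C.isSheaf.section_ext (U := Opposite.op V)
  intro x hx
  have hsub : Subsingleton (C.presheaf.stalk x) := by
    by_contra hns
    have : x ∈ CohB1.support C := hns
    rw [h] at this
    exact this
  have hg : C.presheaf.germ V x hx s = C.presheaf.germ V x hx 0 := Subsingleton.elim _ _
  obtain ⟨W, hxW, iU, iV, hW⟩ := TopCat.Presheaf.germ_eq C.presheaf x hx hx s 0 hg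
  exact ⟨W, iU.le, hxW, hW⟩

/-- a zero module has empty support -/
theorem support_eq_empty_of_isZero (C : X.Modules) (h : IsZero C) : CohB1.support C = ∅ := by
  ext x
  simp only [Set.mem_empty_iff_false, iff_false]
  intro hx
  apply hx
  constructor
  intro a b
  obtain ⟨U, hxU, s, rfl⟩ := TopCat.Presheaf.exists_germ_eq C.presheaf a
  obtain ⟨U', hxU', s', rfl⟩ := TopCat.Presheaf.exists_germ_eq C.presheaf b
  rw [QcAbel.sections_eq_zero_of_isZero h U s, QcAbel.sections_eq_zero_of_isZero h U' s',
    map_zero, map_zero]

theorem isZero_iff_support_eq_empty (C : X.Modules) : IsZero C ↔ CohB1.support C = ∅ :=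
  ⟨support_eq_empty_of_isZero C, isZero_of_support_eq_empty C⟩

/-- the cokernel of a morphism from a quasi-coherent module to a quasi-coherent module of finite
type is quasi-coherent of finite type -/
theorem cokernel_qcoh_ft {E F : X.Modules} [E.IsQuasicoherent] [F.IsQuasicoherent]
    (hF : CohB1.IsFT F) (v : E ⟶ F) :
    (cokernel v).IsQuasicoherent ∧ CohB1.IsFT (cokernel v) := by
  haveI hCq : (cokernel v).IsQuasicoherent := QcAbel.isQuasicoherent_cokernel v
  refine ⟨hCq, ?_⟩
  haveI := QcAbel.isQuasicoherent_image v
  let S : ShortComplex X.Modules := ShortComplex.mk (Abelian.image.ι v) (cokernel.π v)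
    (kernel.condition _)
  have hS : S.Exact := ShortComplex.exact_of_f_is_kernel _ (kernelIsKernel (cokernel.π v))
  haveI : Mono S.f := inferInstanceAs (Mono (Abelian.image.ι v))
  haveI : Epi S.g := inferInstanceAs (Epi (cokernel.π v))
  have hSE : S.ShortExact := { exact := hS }
  haveI : S.X₁.IsQuasicoherent := ‹(Abelian.image v).IsQuasicoherent›
  haveI : S.X₂.IsQuasicoherent := ‹F.IsQuasicoherent›
  haveI : S.X₃.IsQuasicoherent := hCq
  exact FtLocal.isFiniteType_right hSE hF

/-- the pullback of `v` is an epimorphism iff the morphism misses the support of the cokernel -/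
theorem epi_pullback_iff {T : Scheme.{u}} (f : T ⟶ X) {E F : X.Modules} [E.IsQuasicoherent]
    [F.IsQuasicoherent] (hF : CohB1.IsFT F) (v : E ⟶ F) :
    Epi ((Scheme.Modules.pullback f).map v) ↔
      Set.range f.base ⊆ (CohB1.support (cokernel v))ᶜ := by
  obtain ⟨hCq, hCft⟩ := cokernel_qcoh_ft hF v
  haveI : Coh.IsQCoh (cokernel v) := hCq
  haveI : (Scheme.Modules.pullback f).IsLeftAdjoint :=
    (Scheme.Modules.pullbackPushforwardAdjunction f).isLeftAdjoint
  have e := PreservesCokernel.iso (Scheme.Modules.pullback f) v
  have h1 : Epi ((Scheme.Modules.pullback f).map v) ↔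
      IsZero ((Scheme.Modules.pullback f).obj (cokernel v)) := by
    constructor
    · intro h
      exact (isZero_cokernel_of_epi ((Scheme.Modules.pullback f).map v)).of_iso e
    · intro h
      exact Preadditive.epi_of_isZero_cokernel _ (h.of_iso e.symm)
  rw [h1, isZero_iff_support_eq_empty, Groth.Agent.S4357.result f (cokernel v) hCft]
  constructor
  · intro h0
    rintro _ ⟨y, rfl⟩ hy
    have : y ∈ f.base ⁻¹' CohB1.support (cokernel v) := hy
    rw [h0] at this
    exact this
  · intro h0
    ext y
    simp only [Set.mem_preimage, Set.mem_empty_iff_false, iff_false]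
    intro hy
    exact h0 ⟨y, rfl⟩ hy

end Groth.Agent.Lead.EpiPull
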