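import Mathlib
import Groth.Agent.Lib.Lead.HP1
import Groth.Agent.Lib.Helper1.Euler3
import Groth.Agent.Lib.Helper1.Euler4
import Groth.Agent.Lib.Helper1.SerreAmple1
import Groth.Agent.Lib.Helper1.AmpleLib3
import Groth.Agent.Lib.Helper1.CohAbel
import Groth.Agent.Lib.Helper1.InvInv2
import Groth.Prelude.Def_ShStab

set_option autoImplicit false
set_option backward.isDefEq.respectTransparency.types false
set_option synthInstance.maxHeartbeats 400000
set_option linter.style.haveILetI false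
set_option linter.unusedSectionVars false

universe u

open CategoryTheory CategoryTheory.Limits AlgebraicGeometry TopologicalSpace Opposite Polynomial
open MonoidalCategory

namespace Groth.Agent.Lead.HP

open Groth.Agent.Helper1

section Braid
variable {X : Scheme.{u}}

/-- the symmetry of the tensor product, as a natural isomorphism of functors -/
noncomputable def flipIso (N : X.Modules) : DCoh.tensorBi.flip.obj N ≅ DCoh.tensorBi.obj N :=
  NatIso.ofComponents
    (fun M => DCoh.shP.mapIso (β_ (DCoh.toP.obj M) (DCoh.toP.obj N)))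
    (by
      intro M M' f
      change DCoh.shP.map (DCoh.toP.map f ▷ DCoh.toP.obj N) ≫ DCoh.shP.map (β_ _ _).hom =
        DCoh.shP.map (β_ _ _).hom ≫ DCoh.shP.map (DCoh.toP.obj N ◁ DCoh.toP.map f)
      rw [← Functor.map_comp, ← Functor.map_comp, BraidedCategory.braiding_naturality_left])

/-- tensoring on the right with a finite locally free module is exact -/
theorem shortExact_tensor_right (N : X.Modules) (hN : FlatMod.IsFinLocFree N)
    (S : ShortComplex X.Modules) (hS : S.ShortExact) :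
    (S.map (DCoh.tensorBi.flip.obj N)).ShortExact :=
  ShortComplex.shortExact_of_iso (S.mapNatIso (flipIso N)).symm
    (Euler.shortExact_tensor N hN S hS)

end Braid

section GG
variable {X : Scheme.{u}}

theorem gen_comp_eq_zero {M N : X.Modules} (h : M ⟶ N) (hh : ∀ t : Γ(M, ⊤), h.app ⊤ t = 0) :
    GlobGen.gen M ≫ h = 0 := by
  apply N.freeHomEquiv.injective
  ext1 t
  rw [SheafOfModules.freeHomEquiv_comp_apply, GlobGen.gen, Equiv.apply_symm_apply]
  apply GlobGen.sections_ext_top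
  rw [GlobGen.sectionsMap_eval, GlobGen.secOfTop_eval_top, hh]
  rfl

/-- a globally generated module without global sections vanishes -/
theorem isZero_of_globallyGenerated_of_subsingleton (M : X.Modules)
    (hg : Curv2.IsGloballyGenerated M) (h0 : Subsingleton Γ(M, ⊤)) : IsZero M := by
  rw [GlobGen.isGloballyGenerated_iff] at hg
  have h1 : GlobGen.gen M ≫ 𝟙 M = 0 :=
    gen_comp_eq_zero (𝟙 M) (fun t => Subsingleton.elim _ _)
  rw [IsZero.iff_id_eq_zero]
  exact (cancel_epi (GlobGen.gen M)).1 (h1.trans comp_zero.symm)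

end GG

section HilbPoly
variable (k : Type u) [Field k] (X : Scheme.{u}) [X.Over (Spec (CommRingCat.of k))]
  [IsProper (X ↘ Spec (CommRingCat.of k))] (L : X.Modules)

omit [IsProper (X ↘ Spec (CommRingCat.of k))] in
theorem isCoh_twist (hL : PicF.IsInvertible L) (F : X.Modules) (hF : Coh.IsCoh F) (m : ℕ) :
    Coh.IsCoh (ShStab.twist X L F m) :=
  Euler.isCoh_tensor F _ hF (InvQc.isCoh_of_isInvertible _ (TwForm.isInvertible_tensorPow hL m))

theorem euler_twist_additive (hL : PicF.IsInvertible L) (S : ShortComplex X.Modules)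
    (hS : S.ShortExact) (h₁ : Coh.IsCoh S.X₁) (h₂ : Coh.IsCoh S.X₂) (h₃ : Coh.IsCoh S.X₃) (m : ℕ) :
    Curv2.euler k X (ShStab.twist X L S.X₂ m) =
      Curv2.euler k X (ShStab.twist X L S.X₁ m) + Curv2.euler k X (ShStab.twist X L S.X₃ m) := by
  have hN : FlatMod.IsFinLocFree (CohB1.tensorPow L m) :=
    InvInv2.isFinLocFree_of_isInvertible (TwForm.isInvertible_tensorPow hL m)
  have hS' := shortExact_tensor_right (CohB1.tensorPow L m) hN S hS
  have hNc : Coh.IsCoh (CohB1.tensorPow L m) :=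
    InvQc.isCoh_of_isInvertible _ (TwForm.isInvertible_tensorPow hL m)
  have e1 := Euler.euler_additive k X (S.map (DCoh.tensorBi.flip.obj (CohB1.tensorPow L m))) hS'
    (Euler.isCoh_tensor _ _ h₁ hNc) (Euler.isCoh_tensor _ _ h₂ hNc) (Euler.isCoh_tensor _ _ h₃ hNc)
  exact e1

omit [IsProper (X ↘ Spec (CommRingCat.of k))] in
theorem isHilbPoly_unique {F : X.Modules} {P Q : ℚ[X]} (hP : ShStab.IsHilbPoly k X L F P)
    (hQ : ShStab.IsHilbPoly k X L F Q) : P = Q :=
  eq_of_eval_nat_eq fun m => by rw [← hP m, ← hQ m]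

omit [IsProper (X ↘ Spec (CommRingCat.of k))] in
theorem isHilbPoly_of_iso {F G : X.Modules} (e : F ≅ G) {P : ℚ[X]}
    (hP : ShStab.IsHilbPoly k X L F P) : ShStab.IsHilbPoly k X L G P := by
  intro m
  rw [← hP m]
  congr 1
  exact (Euler.euler_iso k X (TwistTens.tensorModCongrLeft e _)).symm

theorem isHilbPoly_add (hL : PicF.IsInvertible L) (S : ShortComplex X.Modules)
    (hS : S.ShortExact) (h₁ : Coh.IsCoh S.X₁) (h₂ : Coh.IsCoh S.X₂) (h₃ : Coh.IsCoh S.X₃)
    {P₁ P₃ : ℚ[X]} (hp₁ : ShStab.IsHilbPoly k X L S.X₁ P₁) (hp₃ : ShStab.IsHilbPoly k X L S.X₃ P₃) :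
    ShStab.IsHilbPoly k X L S.X₂ (P₁ + P₃) := by
  intro m
  rw [euler_twist_additive k X L hL S hS h₁ h₂ h₃ m, eval_add, ← hp₁ m, ← hp₃ m]
  push_cast
  rfl

theorem isHilbPoly_sub_left (hL : PicF.IsInvertible L) (S : ShortComplex X.Modules)
    (hS : S.ShortExact) (h₁ : Coh.IsCoh S.X₁) (h₂ : Coh.IsCoh S.X₂) (h₃ : Coh.IsCoh S.X₃)
    {P₁ P₂ : ℚ[X]} (hp₁ : ShStab.IsHilbPoly k X L S.X₁ P₁) (hp₂ : ShStab.IsHilbPoly k X L S.X₂ P₂) :
    ShStab.IsHilbPoly k X L S.X₃ (P₂ - P₁) := by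
  intro m
  have := euler_twist_additive k X L hL S hS h₁ h₂ h₃ m
  rw [eval_sub, ← hp₁ m, ← hp₂ m, this]
  push_cast
  ring

theorem isHilbPoly_sub_right (hL : PicF.IsInvertible L) (S : ShortComplex X.Modules)
    (hS : S.ShortExact) (h₁ : Coh.IsCoh S.X₁) (h₂ : Coh.IsCoh S.X₂) (h₃ : Coh.IsCoh S.X₃)
    {P₂ P₃ : ℚ[X]} (hp₂ : ShStab.IsHilbPoly k X L S.X₂ P₂) (hp₃ : ShStab.IsHilbPoly k X L S.X₃ P₃) :
    ShStab.IsHilbPoly k X L S.X₁ (P₂ - P₃) := by
  intro m
  have := euler_twist_additive k X L hL S hS h₁ h₂ h₃ m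
  rw [eval_sub, ← hp₂ m, ← hp₃ m, this]
  push_cast
  ring

end HilbPoly

end Groth.Agent.Lead.HP
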