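import Mathlib
import Groth.Agent.Lib.Lead.HP2
import Groth.Agent.Lib.Helper1.TensGen
import Groth.Agent.Lib.Helper1.CohUtil
import Groth.Agent.Lib.Helper4.T2Main1

set_option autoImplicit false
set_option backward.isDefEq.respectTransparency.types false
set_option synthInstance.maxHeartbeats 400000
set_option linter.style.haveILetI false
set_option linter.unusedSectionVars false

universe u

open CategoryTheory CategoryTheory.Limits AlgebraicGeometry TopologicalSpace Opposite Polynomial

namespace Groth.Agent.Lead.HP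

open Groth.Agent.Helper1

section Zero
variable {X : Scheme.{u}}

theorem sections_eq_zero_of_isZero {T : X.Modules} (hT : IsZero T) (W : X.Opens) (s : Γ(T, W)) :
    s = 0 := by
  have h1 : 𝟙 T = 0 := hT.eq_of_src _ _
  have h2 : (𝟙 T : T ⟶ T).app W s = s := rfl
  rw [← h2, h1]
  rfl

open Groth.Agent.Helper1.LGen Groth.Agent.Helper1.TensGen Groth.Agent.Helper1.TmulLib in
/-- tensoring with an invertible module reflects zero objects -/
theorem isZero_of_isZero_tensor {M N : X.Modules} [M.IsQuasicoherent] (hN : PicF.IsInvertible N)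
    (h : IsZero (CohB1.tensorMod M N)) : IsZero M := by
  have key : ∀ x : X, ∃ U : X.Opens, x ∈ U ∧ IsAffineOpen U ∧ ∀ s : Γ(M, U), s = 0 := by
    intro x
    obtain ⟨W, σ, hxW, hσ⟩ := exists_isGen hN x
    obtain ⟨U, hU, hxU, hUW⟩ := Opens.isBasis_iff_nbhd.mp (X.isBasis_affineOpens) hxW
    refine ⟨U, hxU, hU, fun s => ?_⟩
    apply (bijective_tm_of_isGen M (hσ.res hUW)).1
    change tm M N U s _ = tm M N U 0 _
    rw [sections_eq_zero_of_isZero h U (tm M N U s _), sections_eq_zero_of_isZero h U (tm M N U 0 _)]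
  choose U hxU hU hs using key
  refine CohACC.isZero_of_affine_cover M U hU ?_ hs
  rw [eq_top_iff]
  intro x _
  exact Opens.mem_iSup.mpr ⟨x, hxU x⟩

end Zero

section HilbPoly2
variable (k : Type u) [Field k] (X : Scheme.{u}) [X.Over (Spec (CommRingCat.of k))]
  [IsProper (X ↘ Spec (CommRingCat.of k))] (L : X.Modules)

omit [IsProper (X ↘ Spec (CommRingCat.of k))] in
theorem euler_eq_zero_of_isZero {T : X.Modules} (hT : IsZero T) : Curv2.euler k X T = 0 := by
  unfold Curv2.euler
  apply finsum_eq_zero_of_forall_eq_zero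
  intro i
  haveI := H1Ext.subsingleton_HH_of_isZero hT i
  rw [Module.finrank_zero_of_subsingleton, Nat.cast_zero, mul_zero]

omit [IsProper (X ↘ Spec (CommRingCat.of k))] in
theorem isZero_twist_of_isZero {F : X.Modules} (hF : IsZero F) (m : ℕ) :
    IsZero (ShStab.twist X L F m) :=
  (DCoh.tensorBi.flip.obj (CohB1.tensorPow L m)).map_isZero hF

omit [IsProper (X ↘ Spec (CommRingCat.of k))] in
theorem isHilbPoly_zero_of_isZero {F : X.Modules} (hF : IsZero F) :
    ShStab.IsHilbPoly k X L F 0 := by
  intro m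
  rw [euler_eq_zero_of_isZero k X (isZero_twist_of_isZero X L hF m), eval_zero]
  rfl

/-- for large twists the Euler characteristic is `h⁰` -/
theorem exists_euler_twist_eq_finrank (hL : CohB1.IsAmple L) (F : X.Modules) (hF : Coh.IsCoh F) :
    ∃ N : ℕ, ∀ m : ℕ, N ≤ m → Curv2.euler k X (ShStab.twist X L F m) =
      (Module.finrank k (Coh.HH X (ShStab.twist X L F m) 0) : ℤ) := by
  obtain ⟨N, hN⟩ := SerreAmple.serre_vanishing k (X ↘ Spec (CommRingCat.of k)) hL F hF
  refine ⟨N, fun m hm => ?_⟩
  unfold Curv2.euler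
  rw [finsum_eq_single _ 0]
  · rw [pow_zero, one_mul]
  · intro i hi
    haveI : Subsingleton (Coh.HH X (ShStab.twist X L F m) i) := hN m hm i (Nat.pos_of_ne_zero hi)
    rw [Module.finrank_zero_of_subsingleton, Nat.cast_zero, mul_zero]

/-- the Hilbert polynomial of a nonzero coherent module is eventually positive -/
theorem evPos_of_not_isZero (hL : CohB1.IsAmple L) (F : X.Modules) (hF : Coh.IsCoh F)
    (h0 : ¬ IsZero F) {P : ℚ[X]} (hP : ShStab.IsHilbPoly k X L F P) : EvPos P := by
  obtain ⟨N₁, hN₁⟩ := exists_euler_twist_eq_finrank k X L hL F hF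
  obtain ⟨N₂, hN₂⟩ := AmpleLib.eventually_globallyGenerated hL F hF
  refine ⟨max N₁ N₂, fun m hm => ?_⟩
  rw [← hP m, hN₁ m ((le_max_left _ _).trans hm)]
  have hcoh := isCoh_twist X L hL.1 F hF m
  haveI : Module.Finite k (Coh.HH X (ShStab.twist X L F m) 0) :=
    Groth.Agent.Lib.Helper4.T2Main1.t2 k X _ hcoh 0
  haveI : F.IsQuasicoherent := hF.1
  have hnt : Nontrivial (Coh.HH X (ShStab.twist X L F m) 0) := by
    by_contra hcon
    rw [not_nontrivial_iff_subsingleton] at hcon
    haveI : Subsingleton Γ(ShStab.twist X L F m, ⊤) :=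
      (CohUtil.HH0equiv (ShStab.twist X L F m)).symm.toEquiv.subsingleton
    have hz : IsZero (ShStab.twist X L F m) :=
      isZero_of_globallyGenerated_of_subsingleton _ (hN₂ m ((le_max_right _ _).trans hm))
        inferInstance
    exact h0 (isZero_of_isZero_tensor (TwForm.isInvertible_tensorPow hL.1 m) hz)
  have hpos : 0 < Module.finrank k (Coh.HH X (ShStab.twist X L F m) 0) := Module.finrank_pos
  exact_mod_cast hpos

end HilbPoly2

end Groth.Agent.Lead.HP
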