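import Mathlib
import Groth.Agent.Lib.Lead.HP3
import Groth.Agent.Lib.Helper1.SnapK2
import Groth.Agent.Lib.Helper1.CohAbel
import Groth.Agent.Lib.Lead.EpiPull

set_option autoImplicit false
set_option backward.isDefEq.respectTransparency.types false
set_option synthInstance.maxHeartbeats 400000
set_option linter.style.haveILetI false
set_option linter.unusedSectionVars false

universe u

open CategoryTheory CategoryTheory.Limits AlgebraicGeometry TopologicalSpace Opposite Polynomial

namespace Groth.Agent.Lead.HP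

open Groth.Agent.Helper1

/-- conversion of a one-variable multivariate polynomial -/
noncomputable def toPoly (Q : MvPolynomial (Fin 1) ℚ) : ℚ[X] :=
  MvPolynomial.aeval (fun _ : Fin 1 => (Polynomial.X : ℚ[X])) Q

theorem eval_toPoly (Q : MvPolynomial (Fin 1) ℚ) (a : ℚ) :
    (toPoly Q).eval a = MvPolynomial.eval (fun _ => a) Q := by
  have h := MvPolynomial.comp_aeval_apply (R := ℚ) (f := fun _ : Fin 1 => (Polynomial.X : ℚ[X]))
    (Polynomial.aeval a : ℚ[X] →ₐ[ℚ] ℚ) Q
  simp only [Polynomial.aeval_X] at h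
  rw [toPoly, ← Polynomial.coe_aeval_eq_eval, h, MvPolynomial.aeval_eq_eval₂Hom]
  rfl

theorem natDegree_toPoly_le (Q : MvPolynomial (Fin 1) ℚ) : (toPoly Q).natDegree ≤ Q.totalDegree := by
  rw [toPoly, MvPolynomial.aeval_def, MvPolynomial.eval₂_eq']
  apply Polynomial.natDegree_sum_le_of_forall_le
  intro d hd
  refine (Polynomial.natDegree_mul_le).trans ?_
  have h1 : ((algebraMap ℚ ℚ[X]) (MvPolynomial.coeff d Q)).natDegree = 0 := Polynomial.natDegree_C _
  rw [h1, zero_add]
  refine (Polynomial.natDegree_prod_le _ _).trans ?_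
  have h2 : ∀ i : Fin 1, ((Polynomial.X : ℚ[X]) ^ d i).natDegree = d i := fun i =>
    Polynomial.natDegree_X_pow _
  simp only [h2]
  have h3 := MvPolynomial.le_totalDegree hd
  rw [Finsupp.sum_fintype _ _ (fun _ => rfl)] at h3
  exact h3


section Main

variable (k : Type u) [Field k] (X : Scheme.{u}) [X.Over (Spec (CommRingCat.of k))]
  [IsProper (X ↘ Spec (CommRingCat.of k))] (L : X.Modules)

/-- existence of a Hilbert polynomial of degree `≤ d` (from Snapper's theorem) -/
theorem exists_isHilbPoly (hL : PicF.IsInvertible L) (F : X.Modules) (hF : Coh.IsCoh F) (d : ℕ)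
    (hsupp : topologicalKrullDim (CohB1.support F) ≤ d) :
    ∃ P : ℚ[X], ShStab.IsHilbPoly k X L F P ∧ P.natDegree ≤ d := by
  haveI := Euler.isNoetherian_of_proper k X
  obtain ⟨Q, hQ, h⟩ := Snap.snapper k X F hF d hsupp 1 (fun _ => L) (fun _ => hL)
  refine ⟨toPoly Q, fun m => ?_, (natDegree_toPoly_le Q).trans hQ⟩
  rw [eval_toPoly]
  exact h (fun _ => m)

theorem alpha_zero (d : ℕ) : StabCat.alpha d 0 = 0 := by
  unfold StabCat.alpha
  rw [coeff_zero, mul_zero]

theorem evNonneg_zero : EvNonneg 0 := ⟨0, fun m _ => by rw [eval_zero]⟩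

theorem not_evPos_zero : ¬ EvPos 0 := by
  rintro ⟨N, hN⟩
  have := hN N le_rfl
  rw [eval_zero] at this
  exact lt_irrefl _ this

/-- the basic package for a coherent module of dimension `≤ d` -/
theorem hilbPoly_facts (hL : CohB1.IsAmple L) (F : X.Modules) (hF : Coh.IsCoh F) (d : ℕ)
    (hsupp : topologicalKrullDim (CohB1.support F) ≤ d) {P : ℚ[X]}
    (hP : ShStab.IsHilbPoly k X L F P) :
    P.natDegree ≤ d ∧ EvNonneg P ∧ 0 ≤ StabCat.alpha d P ∧ (¬ IsZero F → EvPos P) := by
  obtain ⟨P', hP', hd'⟩ := exists_isHilbPoly k X L hL.1 F hF d hsupp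
  obtain rfl : P = P' := isHilbPoly_unique k X L hP hP'
  have hpos : ¬ IsZero F → EvPos P := fun h0 => evPos_of_not_isZero k X L hL F hF h0 hP
  have hnn : EvNonneg P := by
    by_cases h0 : IsZero F
    · obtain rfl : P = 0 := isHilbPoly_unique k X L hP (isHilbPoly_zero_of_isZero k X L h0)
      exact evNonneg_zero
    · exact (hpos h0).evNonneg
  refine ⟨hd', hnn, ?_, hpos⟩
  unfold StabCat.alpha
  exact mul_nonneg (Nat.cast_nonneg _) (hnn.coeff_nonneg hd')

theorem topologicalKrullDim_of_isEmpty (T : Type*) [TopologicalSpace T] [IsEmpty T] :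
    topologicalKrullDim T = ⊥ := by
  unfold topologicalKrullDim
  haveI : IsEmpty (IrreducibleCloseds T) := ⟨fun s => by
    obtain ⟨x, _⟩ := s.isIrreducible'.1
    exact IsEmpty.false x⟩
  exact Order.krullDim_eq_bot

omit [X.Over (Spec (CommRingCat.of k))] [IsProper (X ↘ Spec (CommRingCat.of k))] in
/-- coherent submodules of a pure module of dimension `d` have dimension `≤ d` -/
theorem dim_le_of_isPure {E : X.Modules} {d : ℕ} (hp : ShStab.IsPure X E d) {F : X.Modules}
    (ι : F ⟶ E) [Mono ι] (hF : Coh.IsCoh F) :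
    topologicalKrullDim (CohB1.support F) ≤ d := by
  by_cases h0 : IsZero F
  · rw [Dv.support_isZero h0]
    haveI : IsEmpty (∅ : Set X) := Set.isEmpty_coe_sort.mpr rfl
    rw [topologicalKrullDim_of_isEmpty]
    exact bot_le
  · exact (hp F ι inferInstance hF h0).le

theorem isHilbPoly_zero_unique {F : X.Modules} (h0 : IsZero F) {P : ℚ[X]}
    (hP : ShStab.IsHilbPoly k X L F P) : P = 0 :=
  isHilbPoly_unique k X L hP (isHilbPoly_zero_of_isZero k X L h0)

/-- a coherent module with Hilbert polynomial `0` is zero -/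
theorem isZero_of_isHilbPoly_zero (hL : CohB1.IsAmple L) (F : X.Modules) (hF : Coh.IsCoh F)
    (hP : ShStab.IsHilbPoly k X L F 0) : IsZero F := by
  by_contra h0
  exact not_evPos_zero (evPos_of_not_isZero k X L hL F hF h0 hP)

end Main

section KerIm

variable (k : Type u) [Field k] (X : Scheme.{u}) [X.Over (Spec (CommRingCat.of k))]
  [IsProper (X ↘ Spec (CommRingCat.of k))] (L : X.Modules)

/-- the kernel–image short complex of a morphism -/
noncomputable def kerIm {F G : X.Modules} (φ : F ⟶ G) : ShortComplex X.Modules :=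
  ShortComplex.mk (kernel.ι φ) (Abelian.factorThruImage φ) (by
    rw [← cancel_mono (Abelian.image.ι φ), Category.assoc, Abelian.image.fac, kernel.condition,
      Limits.zero_comp])

omit [X.Over (Spec (CommRingCat.of k))] [IsProper (X ↘ Spec (CommRingCat.of k))] in
theorem kerIm_shortExact {F G : X.Modules} (φ : F ⟶ G) : (kerIm X φ).ShortExact := by
  let S' : ShortComplex X.Modules := ShortComplex.mk (kernel.ι φ) φ (kernel.condition φ)
  have hS' : S'.Exact := ShortComplex.exact_of_f_is_kernel _ (kernelIsKernel φ)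
  let α : kerIm X φ ⟶ S' := { τ₁ := 𝟙 _, τ₂ := 𝟙 _, τ₃ := Abelian.image.ι φ
                              comm₁₂ := by simp [kerIm, S']
                              comm₂₃ := by simp [kerIm, S'] }
  have : Epi α.τ₁ := inferInstanceAs (Epi (𝟙 _))
  have : IsIso α.τ₂ := inferInstanceAs (IsIso (𝟙 _))
  have : Mono α.τ₃ := inferInstanceAs (Mono (Abelian.image.ι φ))
  have hS : (kerIm X φ).Exact := (ShortComplex.exact_iff_of_epi_of_isIso_of_mono α).2 hS'
  have : Mono (kerIm X φ).f := inferInstanceAs (Mono (kernel.ι φ))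
  have : Epi (kerIm X φ).g := inferInstanceAs (Epi (Abelian.factorThruImage φ))
  exact { exact := hS }

include k in
theorem isCoh_kernel {F G : X.Modules} (hF : Coh.IsCoh F) (hG : Coh.IsCoh G) (φ : F ⟶ G) :
    Coh.IsCoh (kernel φ) := by
  haveI := Euler.isNoetherian_of_proper k X
  exact FtLocal.isCoh_kernel hF hG φ

include k in
theorem isCoh_image {F G : X.Modules} (hF : Coh.IsCoh F) (hG : Coh.IsCoh G) (φ : F ⟶ G) :
    Coh.IsCoh (Abelian.image φ) := by
  haveI := Euler.isNoetherian_of_proper k X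
  haveI := hF.1
  haveI := hG.1
  exact FtLocal.isCoh_of_mono (Abelian.image.ι φ) hG (QcAbel.isQuasicoherent_image φ)

/-- Hilbert polynomial of the image -/
theorem isHilbPoly_image (hL : PicF.IsInvertible L) {F G : X.Modules} (hF : Coh.IsCoh F)
    (hG : Coh.IsCoh G) (φ : F ⟶ G) {pF pK : ℚ[X]} (hpF : ShStab.IsHilbPoly k X L F pF)
    (hpK : ShStab.IsHilbPoly k X L (kernel φ) pK) :
    ShStab.IsHilbPoly k X L (Abelian.image φ) (pF - pK) :=
  isHilbPoly_sub_left k X L hL (kerIm X φ) (kerIm_shortExact X φ) (isCoh_kernel k X hF hG φ) hF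
    (isCoh_image k X hF hG φ) hpK hpF

omit [X.Over (Spec (CommRingCat.of k))] [IsProper (X ↘ Spec (CommRingCat.of k))] in
theorem not_isZero_image {F G : X.Modules} (φ : F ⟶ G) (hφ : φ ≠ 0) :
    ¬ IsZero (Abelian.image φ) := by
  intro h
  apply hφ
  rw [← Abelian.image.fac φ, h.eq_of_tgt (Abelian.factorThruImage φ) 0, Limits.zero_comp]

omit [X.Over (Spec (CommRingCat.of k))] [IsProper (X ↘ Spec (CommRingCat.of k))] in
theorem not_isIso_kernel_ι {F G : X.Modules} (φ : F ⟶ G) (hφ : φ ≠ 0) :
    ¬ IsIso (kernel.ι φ) := by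
  intro h
  apply hφ
  rw [← cancel_epi (kernel.ι φ), kernel.condition, Limits.comp_zero]

omit [X.Over (Spec (CommRingCat.of k))] [IsProper (X ↘ Spec (CommRingCat.of k))] in
theorem mono_of_isZero_kernel {F G : X.Modules} (φ : F ⟶ G) (h : IsZero (kernel φ)) : Mono φ :=
  Preadditive.mono_of_kernel_zero (h.eq_of_src _ _)

omit [X.Over (Spec (CommRingCat.of k))] [IsProper (X ↘ Spec (CommRingCat.of k))] in
theorem epi_of_isIso_image_ι {F G : X.Modules} (φ : F ⟶ G) (h : IsIso (Abelian.image.ι φ)) :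
    Epi φ := by
  rw [← Abelian.image.fac φ]
  exact epi_comp _ _

/-- a monomorphism of coherent modules with the same Hilbert polynomial is an isomorphism -/
theorem isIso_of_mono_of_isHilbPoly (hL : CohB1.IsAmple L) {F G : X.Modules} (hF : Coh.IsCoh F)
    (hG : Coh.IsCoh G) (φ : F ⟶ G) [Mono φ] {P : ℚ[X]} (hpF : ShStab.IsHilbPoly k X L F P)
    (hpG : ShStab.IsHilbPoly k X L G P) : IsIso φ := by
  let S : ShortComplex X.Modules := ShortComplex.mk φ (cokernel.π φ) (cokernel.condition φ)
  have hS : S.Exact := ShortComplex.exact_of_g_is_cokernel _ (cokernelIsCokernel φ)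
  have : Mono S.f := inferInstanceAs (Mono φ)
  have : Epi S.g := inferInstanceAs (Epi (cokernel.π φ))
  have hSE : S.ShortExact := { exact := hS }
  have hQ : Coh.IsCoh (cokernel φ) := FtLocal.isCoh_cokernel hF hG φ
  have hpQ : ShStab.IsHilbPoly k X L (cokernel φ) (P - P) :=
    isHilbPoly_sub_left k X L hL.1 S hSE hF hG hQ hpF hpG
  rw [sub_self] at hpQ
  have h0 := isZero_of_isHilbPoly_zero k X L hL _ hQ hpQ
  haveI : Epi φ := Preadditive.epi_of_cokernel_zero (h0.eq_of_tgt _ _)
  exact isIso_of_mono_of_epi φ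

/-- an epimorphism of coherent modules with the same Hilbert polynomial is an isomorphism -/
theorem isIso_of_epi_of_isHilbPoly (hL : CohB1.IsAmple L) {F G : X.Modules} (hF : Coh.IsCoh F)
    (hG : Coh.IsCoh G) (φ : F ⟶ G) [Epi φ] {P : ℚ[X]} (hpF : ShStab.IsHilbPoly k X L F P)
    (hpG : ShStab.IsHilbPoly k X L G P) : IsIso φ := by
  let S : ShortComplex X.Modules := ShortComplex.mk (kernel.ι φ) φ (kernel.condition φ)
  have hS : S.Exact := ShortComplex.exact_of_f_is_kernel _ (kernelIsKernel φ)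
  have : Mono S.f := inferInstanceAs (Mono (kernel.ι φ))
  have : Epi S.g := inferInstanceAs (Epi φ)
  have hSE : S.ShortExact := { exact := hS }
  have hK : Coh.IsCoh (kernel φ) := isCoh_kernel k X hF hG φ
  have hpK : ShStab.IsHilbPoly k X L (kernel φ) (P - P) :=
    isHilbPoly_sub_right k X L hL.1 S hSE hK hF hG hpF hpG
  rw [sub_self] at hpK
  have h0 := isZero_of_isHilbPoly_zero k X L hL _ hK hpK
  haveI : Mono φ := mono_of_isZero_kernel X φ h0
  exact isIso_of_mono_of_epi φ

end KerIm

end Groth.Agent.Lead.HP
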