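import Mathlib
import Groth.Agent.Lib.Lead.HP4

set_option autoImplicit false
set_option backward.isDefEq.respectTransparency.types false
set_option synthInstance.maxHeartbeats 400000
set_option linter.style.haveILetI false
set_option linter.unusedSectionVars false

universe u

open CategoryTheory CategoryTheory.Limits AlgebraicGeometry TopologicalSpace Opposite Polynomial

namespace Groth.Agent.Lead.HP

open Groth.Agent.Helper1

section Arith

/-- arithmetic for `Hom(F, G) = 0` -/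
theorem arith_A {a b c f g kk : ℚ} (ha : 0 ≤ a) (hc : 0 ≤ c) (hab : b ≤ a)
    (hg : 0 < g) (hi : 0 < f - kk) (h1 : a * kk ≤ b * f)
    (h2 : c * (f - kk) ≤ (a - b) * g) (h3 : a * g < c * f) : False := by
  rcases hab.lt_or_eq with hlt | heq
  · have hpos : 0 < a - b := sub_pos.mpr hlt
    have e1 : a * (c * (f - kk)) ≤ a * ((a - b) * g) := mul_le_mul_of_nonneg_left h2 ha
    have e2 : c * (a * kk) ≤ c * (b * f) := mul_le_mul_of_nonneg_left h1 hc
    have e3 : (a - b) * (c * f) ≤ (a - b) * (a * g) := by nlinarith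
    have e4 : c * f ≤ a * g := le_of_mul_le_mul_left e3 hpos
    linarith
  · subst heq
    rw [sub_self, zero_mul] at h2
    have hc0 : c = 0 := by
      by_contra hne
      have : 0 < c := lt_of_le_of_ne hc (Ne.symm hne)
      have := mul_pos this hi
      linarith
    rw [hc0, zero_mul] at h3
    have := mul_nonneg ha hg.le
    linarith

/-- arithmetic for injectivity -/
theorem arith_B {a b c f g kk : ℚ} (ha : 0 ≤ a) (hc : 0 ≤ c) (hab : b ≤ a)
    (hf : 0 < f) (hg : 0 < g) (h1 : a * kk < b * f)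
    (h2 : c * (f - kk) ≤ (a - b) * g) (heq : c * f = a * g) : False := by
  rcases hc.lt_or_eq with hlt | hc0
  · have e1 : a * (c * (f - kk)) ≤ a * ((a - b) * g) := mul_le_mul_of_nonneg_left h2 ha
    have e2 : c * (a * kk) < c * (b * f) := mul_lt_mul_of_pos_left h1 hlt
    have e3 : a * ((a - b) * g) = (a - b) * (c * f) := by rw [heq]; ring
    nlinarith
  · rw [← hc0, zero_mul] at heq
    have ha0 : a = 0 := by
      rcases mul_eq_zero.mp heq.symm with h | h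
      · exact h
      · exact absurd h hg.ne'
    rw [ha0, zero_mul] at h1
    have hb : b ≤ 0 := by rw [ha0] at hab; exact hab
    have := mul_nonpos_of_nonpos_of_nonneg hb hf.le
    linarith

/-- arithmetic for surjectivity -/
theorem arith_C {a b c f g kk : ℚ} (ha : 0 ≤ a) (hb : 0 ≤ b) (hc : 0 ≤ c)
    (hf : 0 < f) (hg : 0 < g) (h1 : a * kk ≤ b * f)
    (h2 : c * (f - kk) < (a - b) * g) (heq : c * f = a * g) : False := by
  rcases ha.lt_or_eq with hlt | ha0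
  · have e1 : a * (c * (f - kk)) < a * ((a - b) * g) := mul_lt_mul_of_pos_left h2 hlt
    have e2 : c * (a * kk) ≤ c * (b * f) := mul_le_mul_of_nonneg_left h1 hc
    have e3 : a * ((a - b) * g) = (a - b) * (c * f) := by rw [heq]; ring
    nlinarith
  · rw [← ha0, zero_mul] at heq
    have hc0 : c = 0 := by
      rcases mul_eq_zero.mp heq with h | h
      · exact h
      · exact absurd h hf.ne'
    rw [hc0, zero_mul, ← ha0, zero_sub] at h2
    have := mul_nonneg hb hg.le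
    linarith

end Arith

section Alpha

theorem alpha_sub (d : ℕ) (P Q : ℚ[X]) :
    StabCat.alpha d (P - Q) = StabCat.alpha d P - StabCat.alpha d Q := by
  unfold StabCat.alpha
  rw [coeff_sub, mul_sub]

theorem alpha_smul (d : ℕ) (a : ℚ) (P : ℚ[X]) :
    StabCat.alpha d (a • P) = a * StabCat.alpha d P := by
  unfold StabCat.alpha
  rw [coeff_smul, smul_eq_mul]
  ring

theorem polyLE_of_polyLT {P Q : ℚ[X]} (h : StabCat.PolyLT P Q) : StabCat.PolyLE P Q := by
  obtain ⟨N, hN⟩ := h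
  exact ⟨N, fun m hm => (hN m hm).le⟩

end Alpha

section Stab

variable (k : Type u) [Field k] (X : Scheme.{u}) [X.Over (Spec (CommRingCat.of k))]
  [IsProper (X ↘ Spec (CommRingCat.of k))] (L : X.Modules)

omit [IsProper (X ↘ Spec (CommRingCat.of k))] in
theorem isSemistable_of_isStable {d : ℕ} {E : X.Modules} (h : ShStab.IsStable k X L E d) :
    ShStab.IsSemistable k X L E d :=
  ⟨h.1, h.2.1, h.2.2.1, fun F ι hι hF h0 hi pF pE hpF hpE =>
    polyLE_of_polyLT (h.2.2.2 F ι hι hF h0 hi pF pE hpF hpE)⟩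

/-- numeric facts for a coherent submodule of a pure module -/
theorem sub_facts (hL : CohB1.IsAmple L) {d : ℕ} {E : X.Modules} (hp : ShStab.IsPure X E d)
    {K : X.Modules} (ι : K ⟶ E) [Mono ι] (hK : Coh.IsCoh K) {pK : ℚ[X]}
    (hpK : ShStab.IsHilbPoly k X L K pK) :
    pK.natDegree ≤ d ∧ EvNonneg pK ∧ 0 ≤ StabCat.alpha d pK ∧ (¬ IsZero K → EvPos pK) :=
  hilbPoly_facts k X L hL K hK d (dim_le_of_isPure X hp ι hK) hpK

/-- existence of the Hilbert polynomial of a coherent submodule of a pure module -/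
theorem exists_isHilbPoly_sub (hL : CohB1.IsAmple L) {d : ℕ} {E : X.Modules}
    (hp : ShStab.IsPure X E d) {K : X.Modules} (ι : K ⟶ E) [Mono ι] (hK : Coh.IsCoh K) :
    ∃ pK : ℚ[X], ShStab.IsHilbPoly k X L K pK :=
  (exists_isHilbPoly k X L hL.1 K hK d (dim_le_of_isPure X hp ι hK)).imp fun _ h => h.1

/-- the semistability inequality, for all coherent submodules (zero or everything included) -/
theorem redLE_of_sub {d : ℕ} {E : X.Modules}
    (hE : ShStab.IsSemistable k X L E d) {K : X.Modules} (ι : K ⟶ E) [Mono ι] (hK : Coh.IsCoh K)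
    {pK pE : ℚ[X]} (hpK : ShStab.IsHilbPoly k X L K pK) (hpE : ShStab.IsHilbPoly k X L E pE) :
    StabCat.RedLE d pK pE := by
  by_cases h0 : IsZero K
  · obtain rfl := isHilbPoly_zero_unique k X L h0 hpK
    refine ⟨0, fun m _ => ?_⟩
    rw [smul_zero, alpha_zero, zero_smul]
  · by_cases hi : IsIso ι
    · obtain rfl : pK = pE := isHilbPoly_unique k X L (isHilbPoly_of_iso k X L (asIso ι) hpK) hpE
      exact ⟨0, fun m _ => le_rfl⟩
    · exact hE.2.2.2 K ι inferInstance hK h0 hi pK pE hpK hpE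

/-- the numerical package attached to a nonzero morphism between semistable modules -/
theorem hom_facts (hL : CohB1.IsAmple L) {d : ℕ} {F G : X.Modules}
    (hF : ShStab.IsSemistable k X L F d) (hG : ShStab.IsSemistable k X L G d)
    {pF pG : ℚ[X]} (hpF : ShStab.IsHilbPoly k X L F pF) (hpG : ShStab.IsHilbPoly k X L G pG)
    (φ : F ⟶ G) (hφ : φ ≠ 0) :
    ∃ pK : ℚ[X], ShStab.IsHilbPoly k X L (kernel φ) pK ∧
      ShStab.IsHilbPoly k X L (Abelian.image φ) (pF - pK) ∧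
      0 ≤ StabCat.alpha d pK ∧ StabCat.alpha d pK ≤ StabCat.alpha d pF ∧
      0 ≤ StabCat.alpha d pF ∧ 0 ≤ StabCat.alpha d pG ∧
      EvNonneg pK ∧ EvPos pF ∧ EvPos pG ∧ EvPos (pF - pK) ∧
      StabCat.RedLE d pK pF ∧ StabCat.RedLE d (pF - pK) pG := by
  have hKc := isCoh_kernel k X hF.1 hG.1 φ
  have hIc := isCoh_image k X hF.1 hG.1 φ
  obtain ⟨pK, hpK⟩ := exists_isHilbPoly_sub k X L hL hF.2.2.1 (kernel.ι φ) hKc
  have hpI := isHilbPoly_image k X L hL.1 hF.1 hG.1 φ hpF hpK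
  have fK := sub_facts k X L hL hF.2.2.1 (kernel.ι φ) hKc hpK
  have fI := sub_facts k X L hL hG.2.2.1 (Abelian.image.ι φ) hIc hpI
  have fF := sub_facts k X L hL hF.2.2.1 (𝟙 F) hF.1 hpF
  have fG := sub_facts k X L hL hG.2.2.1 (𝟙 G) hG.1 hpG
  refine ⟨pK, hpK, hpI, fK.2.2.1, ?_, fF.2.2.1, fG.2.2.1, fK.2.1, fF.2.2.2 hF.2.1,
    fG.2.2.2 hG.2.1, fI.2.2.2 (not_isZero_image X φ hφ), ?_, ?_⟩
  · have := fI.2.2.1
    rw [alpha_sub] at this
    linarith
  · exact redLE_of_sub k X L hF (kernel.ι φ) hKc hpK hpF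
  · exact redLE_of_sub k X L hG (Abelian.image.ι φ) hIc hpI hpG

/-- S15192 -/
theorem hom_eq_zero (hL : CohB1.IsAmple L) (d : ℕ) (F G : X.Modules)
    (hF : ShStab.IsSemistable k X L F d) (hG : ShStab.IsSemistable k X L G d)
    (pF pG : ℚ[X]) (hpF : ShStab.IsHilbPoly k X L F pF) (hpG : ShStab.IsHilbPoly k X L G pG)
    (hlt : StabCat.RedLT d pG pF) (φ : F ⟶ G) : φ = 0 := by
  by_contra hφ
  obtain ⟨pK, -, -, hb, hba, ha, hc, ⟨N₁, h₁⟩, ⟨N₂, h₂⟩, ⟨N₃, h₃⟩, ⟨N₄, h₄⟩, ⟨N₅, h₅⟩,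
    ⟨N₆, h₆⟩⟩ := hom_facts k X L hL hF hG hpF hpG φ hφ
  obtain ⟨N₇, h₇⟩ := hlt
  let m := N₁ + N₂ + N₃ + N₄ + N₅ + N₆ + N₇
  have e₃ := h₃ m (by omega)
  have e₄ := h₄ m (by omega)
  have e₅ := h₅ m (by omega)
  have e₆ := h₆ m (by omega)
  have e₇ := h₇ m (by omega)
  rw [alpha_sub] at e₆
  simp only [eval_smul, smul_eq_mul, eval_sub] at e₄ e₅ e₆ e₇
  exact arith_A ha hc hba e₃ e₄ e₅ e₆ e₇

/-- S15193 -/
theorem mono_of_stable (hL : CohB1.IsAmple L) (d : ℕ) (F G : X.Modules)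
    (hF : ShStab.IsStable k X L F d) (hG : ShStab.IsSemistable k X L G d)
    (pF pG : ℚ[X]) (hpF : ShStab.IsHilbPoly k X L F pF) (hpG : ShStab.IsHilbPoly k X L G pG)
    (heq : StabCat.RedEq d pF pG) (φ : F ⟶ G) (hφ : φ ≠ 0) : Mono φ := by
  apply mono_of_isZero_kernel X φ
  by_contra hK0
  obtain ⟨pK, hpK, -, hb, hba, ha, hc, ⟨N₁, h₁⟩, ⟨N₂, h₂⟩, ⟨N₃, h₃⟩, ⟨N₄, h₄⟩, ⟨N₅, h₅⟩,
    ⟨N₆, h₆⟩⟩ := hom_facts k X L hL (isSemistable_of_isStable k X L hF) hG hpF hpG φ hφ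
  obtain ⟨N₇, h₇⟩ := hF.2.2.2 (kernel φ) (kernel.ι φ) inferInstance
    (isCoh_kernel k X hF.1 hG.1 φ) hK0 (not_isIso_kernel_ι X φ hφ) pK pF hpK hpF
  let m := N₁ + N₂ + N₃ + N₄ + N₅ + N₆ + N₇
  have e₂ := h₂ m (by omega)
  have e₃ := h₃ m (by omega)
  have e₆ := h₆ m (by omega)
  have e₇ := h₇ m (by omega)
  have e₈ : (StabCat.alpha d pG • pF).eval (m : ℚ) = (StabCat.alpha d pF • pG).eval (m : ℚ) := by
    rw [show StabCat.alpha d pG • pF = StabCat.alpha d pF • pG from heq]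
  rw [alpha_sub] at e₆
  simp only [eval_smul, smul_eq_mul, eval_sub] at e₆ e₇ e₈
  exact arith_B ha hc hba e₂ e₃ e₇ e₆ e₈

/-- S15194 -/
theorem epi_of_stable (hL : CohB1.IsAmple L) (d : ℕ) (F G : X.Modules)
    (hF : ShStab.IsSemistable k X L F d) (hG : ShStab.IsStable k X L G d)
    (pF pG : ℚ[X]) (hpF : ShStab.IsHilbPoly k X L F pF) (hpG : ShStab.IsHilbPoly k X L G pG)
    (heq : StabCat.RedEq d pF pG) (φ : F ⟶ G) (hφ : φ ≠ 0) : Epi φ := by
  by_contra hepi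
  have hni : ¬ IsIso (Abelian.image.ι φ) := fun h => hepi (epi_of_isIso_image_ι X φ h)
  obtain ⟨pK, hpK, hpI, hb, hba, ha, hc, ⟨N₁, h₁⟩, ⟨N₂, h₂⟩, ⟨N₃, h₃⟩, ⟨N₄, h₄⟩, ⟨N₅, h₅⟩,
    ⟨N₆, h₆⟩⟩ := hom_facts k X L hL hF (isSemistable_of_isStable k X L hG) hpF hpG φ hφ
  obtain ⟨N₇, h₇⟩ := hG.2.2.2 (Abelian.image φ) (Abelian.image.ι φ) inferInstance
    (isCoh_image k X hF.1 hG.1 φ) (not_isZero_image X φ hφ) hni (pF - pK) pG hpI hpG
  let m := N₁ + N₂ + N₃ + N₄ + N₅ + N₆ + N₇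
  have e₂ := h₂ m (by omega)
  have e₃ := h₃ m (by omega)
  have e₅ := h₅ m (by omega)
  have e₇ := h₇ m (by omega)
  have e₈ : (StabCat.alpha d pG • pF).eval (m : ℚ) = (StabCat.alpha d pF • pG).eval (m : ℚ) := by
    rw [show StabCat.alpha d pG • pF = StabCat.alpha d pF • pG from heq]
  rw [alpha_sub] at e₇
  simp only [eval_smul, smul_eq_mul, eval_sub] at e₅ e₇ e₈
  exact arith_C ha hb hc e₂ e₃ e₅ e₇ e₈

/-- S15195 -/
theorem isIso_of_stable (hL : CohB1.IsAmple L) (d : ℕ) (F G : X.Modules)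
    (hF : ShStab.IsSemistable k X L F d) (hG : ShStab.IsSemistable k X L G d)
    (hst : ShStab.IsStable k X L F d ∨ ShStab.IsStable k X L G d)
    (P : ℚ[X]) (hpF : ShStab.IsHilbPoly k X L F P) (hpG : ShStab.IsHilbPoly k X L G P)
    (φ : F ⟶ G) (hφ : φ ≠ 0) : IsIso φ := by
  rcases hst with h | h
  · haveI := mono_of_stable k X L hL d F G h hG P P hpF hpG rfl φ hφ
    exact isIso_of_mono_of_isHilbPoly k X L hL hF.1 hG.1 φ hpF hpG
  · haveI := epi_of_stable k X L hL d F G hF h P P hpF hpG rfl φ hφ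
    exact isIso_of_epi_of_isHilbPoly k X L hL hF.1 hG.1 φ hpF hpG

/-- existence of the Hilbert polynomial of a pure coherent module -/
theorem exists_isHilbPoly_of_isPure (hL : CohB1.IsAmple L) {d : ℕ} {E : X.Modules}
    (hE : Coh.IsCoh E) (hp : ShStab.IsPure X E d) :
    ∃ P : ℚ[X], ShStab.IsHilbPoly k X L E P :=
  exists_isHilbPoly_sub k X L hL hp (𝟙 E) hE

/-- S15204 -/
theorem isIso_end_of_stable (hL : CohB1.IsAmple L) (d : ℕ) (E : X.Modules)
    (hE : ShStab.IsStable k X L E d) (φ : E ⟶ E) (hφ : φ ≠ 0) : IsIso φ := by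
  obtain ⟨P, hP⟩ := exists_isHilbPoly_of_isPure k X L hL hE.1 hE.2.2.1
  have hss := isSemistable_of_isStable k X L hE
  exact isIso_of_stable k X L hL d E E hss hss (Or.inl hE) P hP hP φ hφ

end Stab

end Groth.Agent.Lead.HP
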