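import Mathlib
import Groth.Agent.Lib.Lead.HP5

set_option autoImplicit false
set_option backward.isDefEq.respectTransparency.types false
set_option synthInstance.maxHeartbeats 400000
set_option linter.style.haveILetI false
set_option linter.unusedSectionVars false

universe u

open CategoryTheory CategoryTheory.Limits AlgebraicGeometry TopologicalSpace Opposite Polynomial

namespace Groth.Agent.Lead.HP

open Groth.Agent.Helper1

section TopPart

theorem coeff_topPart (ℓ d : ℕ) (P : ℚ[X]) (j : ℕ) :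
    (StabCat.topPart ℓ d P).coeff j = if j ∈ Finset.Icc (d - ℓ) d then P.coeff j else 0 := by
  unfold StabCat.topPart
  rw [Polynomial.finsetSum_coeff]
  simp only [coeff_monomial]
  exact Finset.sum_ite_eq' _ j _

theorem alpha_topPart (ℓ d : ℕ) (P : ℚ[X]) :
    StabCat.alpha d (StabCat.topPart ℓ d P) = StabCat.alpha d P := by
  unfold StabCat.alpha
  rw [coeff_topPart, if_pos (Finset.mem_Icc.mpr ⟨Nat.sub_le _ _, le_rfl⟩)]

theorem topPart_zero (ℓ d : ℕ) : StabCat.topPart ℓ d 0 = 0 := by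
  ext j
  rw [coeff_topPart, coeff_zero, ite_self]

theorem topPart_sub (ℓ d : ℕ) (P Q : ℚ[X]) :
    StabCat.topPart ℓ d (P - Q) = StabCat.topPart ℓ d P - StabCat.topPart ℓ d Q := by
  ext j
  rw [coeff_sub, coeff_topPart, coeff_topPart, coeff_topPart, coeff_sub]
  split_ifs
  · rfl
  · rw [sub_zero]

theorem topPart_smul (ℓ d : ℕ) (a : ℚ) (P : ℚ[X]) :
    StabCat.topPart ℓ d (a • P) = a • StabCat.topPart ℓ d P := by
  ext j
  rw [coeff_smul, coeff_topPart, coeff_topPart, coeff_smul]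
  split_ifs
  · rfl
  · rw [smul_zero]

theorem evNonneg_topPart {R : ℚ[X]} (h : EvNonneg R) {d : ℕ} (hd : R.natDegree ≤ d) (ℓ : ℕ) :
    EvNonneg (StabCat.topPart ℓ d R) := by
  rcases h.eq_zero_or_pos with h0 | hpos
  · rw [h0, topPart_zero]
    exact evNonneg_zero
  · by_cases hle : d - ℓ ≤ R.natDegree
    · have hmem : R.natDegree ∈ Finset.Icc (d - ℓ) d := Finset.mem_Icc.mpr ⟨hle, hd⟩
      have hdeg : (StabCat.topPart ℓ d R).natDegree = R.natDegree := by
        apply le_antisymm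
        · rw [natDegree_le_iff_coeff_eq_zero]
          intro j hj
          rw [coeff_topPart, coeff_eq_zero_of_natDegree_lt hj, ite_self]
        · apply le_natDegree_of_ne_zero
          rw [coeff_topPart, if_pos hmem]
          exact hpos.ne'
      apply EvPos.evNonneg
      apply evPos_of_leadingCoeff_pos
      rw [leadingCoeff, hdeg, coeff_topPart, if_pos hmem]
      exact hpos
    · have h0 : StabCat.topPart ℓ d R = 0 := by
        ext j
        rw [coeff_topPart, coeff_zero]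
        split_ifs with hj
        · have := (Finset.mem_Icc.mp hj).1
          exact coeff_eq_zero_of_natDegree_lt (by omega)
        · rfl
      rw [h0]
      exact evNonneg_zero

end TopPart

section Dim

theorem topologicalKrullDim_nonneg_of_nonempty (T : Type*) [TopologicalSpace T] [Nonempty T] :
    0 ≤ topologicalKrullDim T := by
  unfold topologicalKrullDim
  obtain ⟨x⟩ := ‹Nonempty T›
  haveI : Nonempty (IrreducibleCloseds T) :=
    ⟨⟨closure {x}, isIrreducible_singleton.closure, isClosed_closure⟩⟩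
  exact Order.krullDim_nonneg

theorem cast_add_one_ne (d : ℕ) : ((d : ℕ) : WithBot ℕ∞) + 1 ≠ (d : WithBot ℕ∞) := by
  intro h
  have h1 : (((d + 1 : ℕ) : ℕ∞) : WithBot ℕ∞) = ((d : ℕ∞) : WithBot ℕ∞) := by
    push_cast
    exact h
  have h2 := WithBot.coe_injective h1
  have h3 : d + 1 = d := by exact_mod_cast h2
  omega

theorem le_pred_of_lt_cast {x : WithBot ℕ∞} {d : ℕ} (hd : 1 ≤ d) (h : x < (d : WithBot ℕ∞)) :
    x ≤ ((d - 1 : ℕ) : WithBot ℕ∞) := by
  induction x using WithBot.recBotCoe with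
  | bot => exact bot_le
  | coe y =>
    have h1 : y < (d : ℕ∞) := by exact_mod_cast h
    induction y using ENat.recTopCoe with
    | top => exact absurd h1 (not_top_lt)
    | coe n =>
      have h2 : n < d := by exact_mod_cast h1
      have h3 : n ≤ d - 1 := by omega
      have h4 : ((n : ℕ) : ℕ∞) ≤ ((d - 1 : ℕ) : ℕ∞) := by exact_mod_cast h3
      exact WithBot.coe_le_coe.mpr h4

end Dim

section Stab2

variable (k : Type u) [Field k] (X : Scheme.{u}) [X.Over (Spec (CommRingCat.of k))]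
  [IsProper (X ↘ Spec (CommRingCat.of k))] (L : X.Modules)

/-- the difference polynomial attached to a coherent submodule of a semistable module -/
theorem evNonneg_diff (hL : CohB1.IsAmple L) {d : ℕ} {E : X.Modules}
    (hE : ShStab.IsSemistable k X L E d) {F : X.Modules} (ι : F ⟶ E) [Mono ι] (hF : Coh.IsCoh F)
    {pF pE : ℚ[X]} (hpF : ShStab.IsHilbPoly k X L F pF) (hpE : ShStab.IsHilbPoly k X L E pE) :
    EvNonneg (StabCat.alpha d pF • pE - StabCat.alpha d pE • pF) ∧
      (StabCat.alpha d pF • pE - StabCat.alpha d pE • pF).natDegree ≤ d := by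
  have h := redLE_of_sub k X L hE ι hF hpF hpE
  have fF := sub_facts k X L hL hE.2.2.1 ι hF hpF
  have fE := sub_facts k X L hL hE.2.2.1 (𝟙 E) hE.1 hpE
  constructor
  · obtain ⟨N, hN⟩ := h
    exact ⟨N, fun m hm => by rw [eval_sub]; exact sub_nonneg.mpr (hN m hm)⟩
  · exact (natDegree_sub_le _ _).trans (max_le ((natDegree_smul_le _ _).trans fE.1)
      ((natDegree_smul_le _ _).trans fF.1))

/-- S15222 -/
theorem isEllSemistable_of_isSemistable (hL : CohB1.IsAmple L) (d ℓ : ℕ) (E : X.Modules)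
    (hE : ShStab.IsSemistable k X L E d) : ShStab.IsEllSemistable k X L E d ℓ := by
  refine ⟨hE.1, hE.2.1, hE.2.2.1, ?_⟩
  intro F ι hι hF pF pE hpF hpE _ _
  haveI := hι
  obtain ⟨hR, hdeg⟩ := evNonneg_diff k X L hL hE ι hF hpF hpE
  have hT := evNonneg_topPart hR hdeg ℓ
  rw [topPart_sub, topPart_smul, topPart_smul] at hT
  obtain ⟨N, hN⟩ := hT
  refine ⟨N, fun m hm => ?_⟩
  rw [alpha_topPart, alpha_topPart]
  have := hN m hm
  rw [eval_sub] at this
  exact sub_nonneg.mp this

/-- S15210 -/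
theorem isMuSemistable_of_isSemistable (hL : CohB1.IsAmple L) (d : ℕ) (hd : 1 ≤ d)
    (E : X.Modules) (hE : ShStab.IsSemistable k X L E d) : ShStab.IsMuSemistable k X L E d := by
  refine ⟨hE.1, hE.2.1, hE.2.2.1 E (𝟙 E) inferInstance hE.1 hE.2.1, ?_, ?_⟩
  · intro F ι hι hF
    by_cases h0 : IsZero F
    · rw [Dv.support_isZero h0]
      haveI : IsEmpty (∅ : Set X) := Set.isEmpty_coe_sort.mpr rfl
      rw [topologicalKrullDim_of_isEmpty, WithBot.bot_add]
      exact WithBot.bot_ne_coe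
    · rw [hE.2.2.1 F ι hι hF h0]
      exact cast_add_one_ne d
  · intro F ι hι hF pF pE hpF hpE hpos hlt
    haveI := hι
    obtain ⟨hR, hdeg⟩ := evNonneg_diff k X L hL hE ι hF hpF hpE
    have hapos : 0 < StabCat.alpha d pE := hpos.trans hlt
    set R := StabCat.alpha d pF • pE - StabCat.alpha d pE • pF with hRdef
    have hcd : R.coeff d = 0 := by
      rw [hRdef, coeff_sub, coeff_smul, coeff_smul, smul_eq_mul, smul_eq_mul]
      unfold StabCat.alpha
      ring
    have hdeg' : R.natDegree ≤ d - 1 := by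
      rw [natDegree_le_iff_coeff_eq_zero]
      intro j hj
      rcases (show d ≤ j by omega).lt_or_eq with h | h
      · exact coeff_eq_zero_of_natDegree_lt (lt_of_le_of_lt hdeg h)
      · rw [← h]; exact hcd
    have hc := hR.coeff_nonneg hdeg'
    rw [hRdef, coeff_sub, coeff_smul, coeff_smul, smul_eq_mul, smul_eq_mul] at hc
    unfold StabCat.hatSlope
    rw [div_le_div_iff₀ hpos hapos]
    have hfac : (0 : ℚ) ≤ ((d - 1).factorial : ℚ) := Nat.cast_nonneg _
    have : StabCat.alpha (d - 1) pF * StabCat.alpha d pE ≤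
        StabCat.alpha (d - 1) pE * StabCat.alpha d pF := by
      have h1 := mul_nonneg hfac hc
      have e1 : StabCat.alpha (d - 1) pF = ((d - 1).factorial : ℚ) * pF.coeff (d - 1) := rfl
      have e2 : StabCat.alpha (d - 1) pE = ((d - 1).factorial : ℚ) * pE.coeff (d - 1) := rfl
      rw [e1, e2]
      nlinarith
    exact this

/-- S15201 -/
theorem maxDestab_unique (hL : CohB1.IsAmple L) (d : ℕ) (E : X.Modules)
    (hp : ShStab.IsPure X E d)
    (F₁ F₂ : X.Modules) (ι₁ : F₁ ⟶ E) (ι₂ : F₂ ⟶ E) (h₁ : ShStab.IsMaxDestab k X L E d F₁ ι₁)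
    (h₂ : ShStab.IsMaxDestab k X L E d F₂ ι₂) :
    ∃ e : F₁ ≅ F₂, e.hom ≫ ι₂ = ι₁ := by
  obtain ⟨m₁, c₁, n₁, H₁⟩ := h₁
  obtain ⟨m₂, c₂, n₂, H₂⟩ := h₂
  haveI := m₁
  haveI := m₂
  obtain ⟨p₁, hp₁⟩ := exists_isHilbPoly_sub k X L hL hp ι₁ c₁
  obtain ⟨p₂, hp₂⟩ := exists_isHilbPoly_sub k X L hL hp ι₂ c₂
  obtain ⟨⟨N, hN⟩, f21⟩ := H₁ F₂ ι₂ m₂ c₂ n₂ p₁ p₂ hp₁ hp₂
  obtain ⟨⟨N', hN'⟩, f12⟩ := H₂ F₁ ι₁ m₁ c₁ n₁ p₂ p₁ hp₂ hp₁
  have heq : StabCat.alpha d p₁ • p₂ = StabCat.alpha d p₂ • p₁ := by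
    rw [← sub_eq_zero]
    apply eq_zero_of_evNonneg_of_evNonneg_neg
    · exact ⟨N', fun m hm => by rw [eval_sub]; exact sub_nonneg.mpr (hN' m hm)⟩
    · exact ⟨N, fun m hm => by rw [neg_sub, eval_sub]; exact sub_nonneg.mpr (hN m hm)⟩
  obtain ⟨φ, hφ⟩ := f21 heq
  obtain ⟨ψ, hψ⟩ := f12 heq.symm
  refine ⟨⟨ψ, φ, ?_, ?_⟩, hψ⟩
  · rw [← cancel_mono ι₁, Category.assoc, hφ, hψ, Category.id_comp]
  · rw [← cancel_mono ι₂, Category.assoc, hψ, hφ, Category.id_comp]

/-- S16340 -/
theorem polyLE_of_mono (hL : CohB1.IsAmple L) (d : ℕ) (E E' : X.Modules)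
    (hE : Coh.IsCoh E) (hE' : Coh.IsCoh E') (ι : E ⟶ E') [Mono ι]
    (pE pE' : ℚ[X]) (hpE : ShStab.IsHilbPoly k X L E pE) (hpE' : ShStab.IsHilbPoly k X L E' pE') :
    StabCat.PolyLE pE pE' ∧
      (topologicalKrullDim (CohB1.support (cokernel ι)) < (d : WithBot ℕ∞) →
        StabCat.alpha d pE = StabCat.alpha d pE') := by
  let S : ShortComplex X.Modules := ShortComplex.mk ι (cokernel.π ι) (cokernel.condition ι)
  have hS : S.Exact := ShortComplex.exact_of_g_is_cokernel _ (cokernelIsCokernel ι)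
  have : Mono S.f := inferInstanceAs (Mono ι)
  have : Epi S.g := inferInstanceAs (Epi (cokernel.π ι))
  have hSE : S.ShortExact := { exact := hS }
  have hQ : Coh.IsCoh (cokernel ι) := FtLocal.isCoh_cokernel hE hE' ι
  have hpQ : ShStab.IsHilbPoly k X L (cokernel ι) (pE' - pE) :=
    isHilbPoly_sub_left k X L hL.1 S hSE hE hE' hQ hpE hpE'
  have hzero : IsZero (cokernel ι) → pE' - pE = 0 := fun h0 =>
    isHilbPoly_zero_unique k X L h0 hpQ
  have hnn : EvNonneg (pE' - pE) := by
    by_cases h0 : IsZero (cokernel ι)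
    · rw [hzero h0]; exact evNonneg_zero
    · exact (evPos_of_not_isZero k X L hL _ hQ h0 hpQ).evNonneg
  constructor
  · obtain ⟨N, hN⟩ := hnn
    exact ⟨N, fun m hm => by have := hN m hm; rw [eval_sub] at this; exact sub_nonneg.mp this⟩
  · intro hdim
    have key : StabCat.alpha d (pE' - pE) = 0 := by
      rcases Nat.eq_zero_or_pos d with rfl | hd
      · have hempty : CohB1.support (cokernel ι) = ∅ := by
          by_contra hne
          haveI : Nonempty (CohB1.support (cokernel ι)) :=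
            (Set.nonempty_iff_ne_empty.mpr hne).to_subtype
          have h1 := topologicalKrullDim_nonneg_of_nonempty (CohB1.support (cokernel ι))
          have h2 : topologicalKrullDim (CohB1.support (cokernel ι)) < 0 := by exact_mod_cast hdim
          exact absurd h1 (not_le.mpr h2)
        rw [hzero ((Groth.Agent.Lead.EpiPull.isZero_iff_support_eq_empty _).mpr hempty), alpha_zero]
      · have hle := le_pred_of_lt_cast hd hdim
        obtain ⟨P', hP', hdeg⟩ := exists_isHilbPoly k X L hL.1 _ hQ (d - 1) hle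
        obtain rfl := isHilbPoly_unique k X L hP' hpQ
        unfold StabCat.alpha
        rw [coeff_eq_zero_of_natDegree_lt (by omega), mul_zero]
    rw [alpha_sub] at key
    linarith

end Stab2

end Groth.Agent.Lead.HP
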