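import Mathlib
import Groth.Agent.Lib.Lead.HP6
import Groth.Agent.Lib.Lead.HP8
import Groth.Agent.Lib.Helper1.CurveLin1
import Groth.Agent.Lib.Helper1.CurveAmp3
import Groth.Agent.Lib.Helper1.AmpleLib2
import Groth.Agent.Lib.Helper1.CohACC
import Groth.Agent.Lib.Helper1.FtSupp
import Groth.Agent.Lib.Lead.TilT6

set_option autoImplicit false
set_option backward.isDefEq.respectTransparency.types false
set_option synthInstance.maxHeartbeats 400000
set_option linter.style.haveILetI false
set_option linter.unusedSectionVars false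

universe u

open CategoryTheory CategoryTheory.Limits AlgebraicGeometry TopologicalSpace Opposite

namespace Groth.Agent.Lead.HP

open Groth.Agent.Helper1 Groth.Agent.Helper1.QcCech Groth.Agent.Helper1.LGen
open Groth.Agent.Helper1.CurveAmp Groth.Agent.Helper1.Dv Groth.Agent.Lib.Helper4.TwExact

section Iter

variable {X : Scheme.{u}} (F M : X.Modules) (σ : Γ(M, ⊤))

/-- the target of the `j`-fold multiplication by `σ` -/
noncomputable def iterObj : ℕ → X.Modules
  | 0 => F
  | j + 1 => CohB1.tensorMod (iterObj j) M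

/-- the `j`-fold multiplication by `σ` -/
noncomputable def iterMap : (j : ℕ) → (F ⟶ iterObj F M j)
  | 0 => 𝟙 F
  | j + 1 => iterMap j ≫ mulΓ (iterObj F M j) M σ

theorem iterMap_succ (j : ℕ) :
    iterMap F M σ (j + 1) =
      (iterMap F M σ j ≫ mulΓ (iterObj F M j) M σ : F ⟶ iterObj F M (j + 1)) := rfl

theorem stalkL_iterMap_bijective {V : X.Opens} (hV : IsGen M V (res M (le_top : V ≤ ⊤) σ))
    (x : X) (hx : x ∈ V) (j : ℕ) : Function.Bijective (stalkL (iterMap F M σ j) x) := by
  induction j with
  | zero =>
    change Function.Bijective (stalkL (𝟙 F) x)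
    exact stalkL_bijective_of_isIso (𝟙 F) x
  | succ j ih =>
    have h2 : stalkL (iterMap F M σ (j + 1)) x =
        (stalkL (mulΓ (iterObj F M j) M σ) x).comp (stalkL (iterMap F M σ j) x) :=
      stalkL_comp (iterMap F M σ j) (mulΓ (iterObj F M j) M σ) x
    rw [h2]
    exact (stalkL_mulΓ_bijective _ M σ hV x hx).comp ih

theorem isCoh_iterObj (hF : Coh.IsCoh F) (hM : PicF.IsInvertible M) (j : ℕ) :
    Coh.IsCoh (iterObj F M j) := by
  induction j with
  | zero => exact hF
  | succ j ih => exact Euler.isCoh_tensor _ _ ih (InvQc.isCoh_of_isInvertible _ hM)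

/-- the increasing chain of kernels of the iterated multiplications -/
noncomputable def kerChain : ℕ →o Subobject F where
  toFun j := kernelSubobject (iterMap F M σ j)
  monotone' := monotone_nat_of_le_succ fun j =>
    kernelSubobject_comp_le (iterMap F M σ j) (mulΓ (iterObj F M j) M σ)

end Iter

section CatLemma

variable {C : Type*} [Category C] [Abelian C]

theorem kernel_ι_comp_of_kernelSubobject_eq {A B B' : C} (f : A ⟶ B) (g : A ⟶ B')
    (h : kernelSubobject g = kernelSubobject f) : kernel.ι g ≫ f = 0 := by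
  have h1 : (kernelSubobject g).arrow ≫ f = 0 := by
    rw [← Subobject.ofLE_arrow (le_of_eq h), Category.assoc, kernelSubobject_arrow_comp,
      Limits.comp_zero]
  rw [← kernelSubobject_arrow' g, Category.assoc, h1, Limits.comp_zero]

end CatLemma

section Quot

variable {X : Scheme.{u}} [IsNoetherian X] (F M : X.Modules) (σ : Γ(M, ⊤))

/-- **killing the `σ`-torsion**: a coherent module has a coherent quotient, with kernel supported
off the locus where `σ` generates, on which multiplication by `σ` is injective -/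
theorem exists_quotient_mono_mulΓ (hF : Coh.IsCoh F) (hM : PicF.IsInvertible M) :
    ∃ (F' : X.Modules) (π : F ⟶ F'), Epi π ∧ Coh.IsCoh F' ∧ Mono (mulΓ F' M σ) ∧
      ∀ (V : X.Opens), IsGen M V (res M (le_top : V ≤ ⊤) σ) → ∀ x ∈ V,
        x ∉ CohB1.support (kernel π) := by
  have hG : ∀ j, (((kerChain F M σ) j : Subobject F) : X.Modules).IsQuasicoherent := by
    intro j
    haveI := hF.1
    haveI := (isCoh_iterObj F M hF hM j).1
    haveI := QcAbel.isQuasicoherent_kernel (iterMap F M σ j)
    exact QcAbel.isQuasicoherent_of_iso (kernelSubobjectIso (iterMap F M σ j)).symm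
  obtain ⟨N, hN⟩ := CohACC.acc F hF (kerChain F M σ) hG
  have hst : kernelSubobject (iterMap F M σ (N + 1)) = kernelSubobject (iterMap F M σ N) :=
    hN (N + 1) (Nat.le_succ N)
  have hcohN := isCoh_iterObj F M hF hM N
  have hzero := kernel_ι_comp_of_kernelSubobject_eq (iterMap F M σ N) (iterMap F M σ (N + 1)) hst
  let μ := iterMap F M σ N
  let π := Abelian.factorThruImage μ
  let ι' := Abelian.image.ι μ
  have hfac : π ≫ ι' = μ := Abelian.image.fac μ
  refine ⟨Abelian.image μ, π, inferInstance, ?_, ?_, ?_⟩
  · haveI := hF.1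
    haveI := hcohN.1
    exact FtLocal.isCoh_of_mono ι' hcohN (QcAbel.isQuasicoherent_image μ)
  · apply mono_of_kernel_comp π (mulΓ (Abelian.image μ) M σ)
    rw [← cancel_mono ι', Category.assoc, Limits.zero_comp, hfac]
    set κ := kernel.ι (π ≫ mulΓ (Abelian.image μ) M σ) with hκ
    let tι : CohB1.tensorMod (Abelian.image μ) M ⟶ CohB1.tensorMod (iterObj F M N) M :=
      (TL M).map ι'
    have hnat : mulΓ (Abelian.image μ) M σ ≫ tι =
        ι' ≫ mulΓ (iterObj F M N) M σ := mulΓ_naturality ι' M σ
    have h1 : κ ≫ iterMap F M σ (N + 1) = 0 := by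
      have e1 : iterMap F M σ (N + 1) =
          (π ≫ mulΓ (Abelian.image μ) M σ) ≫ tι := by
        rw [Category.assoc, hnat, ← Category.assoc, hfac]
        rfl
      have h1' : κ ≫ ((π ≫ mulΓ (Abelian.image μ) M σ) ≫ tι) = 0 := by
        rw [← Category.assoc, hκ, kernel.condition, Limits.zero_comp]
      rw [e1]
      exact h1'
    have h2 : κ = kernel.lift (iterMap F M σ (N + 1)) κ h1 ≫ kernel.ι _ := (kernel.lift_ι _ _ _).symm
    rw [h2, Category.assoc, hzero, Limits.comp_zero]
  · intro V hV x hx
    apply notMem_support_kernel' π x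
    have hb := (stalkL_iterMap_bijective F M σ hV x hx N).1
    change Function.Injective (stalkL μ x) at hb
    rw [← hfac, stalkL_comp] at hb
    exact Function.Injective.of_comp hb

end Quot

section CokerSupp

open Groth.Agent.Helper1.TmulLib Groth.Agent.Helper1.TensGen Groth.Agent.Helper1.TwForm
open Groth.Agent.Helper1.SubSh

variable {X : Scheme.{u}}

/-- the cokernel of a section `s` of an invertible module is supported off `X_s` -/
theorem mem_genLocus_of_notMem_support_cokernel {M : X.Modules} (hM : PicF.IsInvertible M)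
    (s : Coh.structureModule X ⟶ M) (x : X) (h : x ∉ CohB1.support (cokernel s)) :
    x ∈ CohB1.genLocus M s := by
  have hsurj := CurveLin.stalkL_surjective_of_notMem_support s x h
  obtain ⟨W, a, hxW, ha⟩ := exists_isGen hM x
  obtain ⟨y, hy⟩ := hsurj (M.presheaf.germ W x hxW a)
  obtain ⟨W₁, hxW₁, c, rfl⟩ := TopCat.Presheaf.exists_germ_eq (Coh.structureModule X).presheaf y
  rw [stalkL_germ] at hy
  obtain ⟨V, hxV, i1, i2, hV⟩ := TopCat.Presheaf.germ_eq M.presheaf x hxW₁ hxW _ _ hy
  have hV' : res M i1.le (s.app W₁ c) = res M i2.le a := hV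
  rw [← QcExt.app_res] at hV'
  have h3 : s.app V (res (Coh.structureModule X) i1.le c) =
      (show Γ(X, V) from res (Coh.structureModule X) i1.le c) • secVal s V := app_eq_smul s V _
  rw [h3] at hV'
  have ha₂ : IsGen M V (res M i2.le a) := ha.res i2.le
  obtain ⟨m, hm⟩ := ha₂.exists_coeff (secVal s V)
  rw [← hm, smul_smul] at hV'
  have h1 : ((show Γ(X, V) from res (Coh.structureModule X) i1.le c) * m) • res M i2.le a =
      (1 : Γ(X, V)) • res M i2.le a := by
    rw [one_smul]
    exact hV'
  have h2 := (IsGen.bijective_self ha₂).1 h1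
  have hgen : IsGen M V (secVal s V) := by
    rw [← hm]
    exact IsGen.smul_unit ha₂ ⟨m, _, by rw [mul_comm]; exact h2, h2⟩
  exact AmpleLib.le_genLocus_of_isGen s hgen hxV

/-- the cokernel of multiplication by a section `s` on a coherent module `F'` is supported at
least on `supp F' ∖ X_s` -/
theorem support_diff_genLocus_subset (F' M : X.Modules) (hF' : Coh.IsCoh F')
    (hM : PicF.IsInvertible M) (s : Coh.structureModule X ⟶ M) :
    CohB1.support F' \ (CohB1.genLocus M s : Set X) ⊆
      CohB1.support (cokernel (mulΓ F' M (secVal s ⊤))) := by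
  let q := cokernel.π s
  let e : CohB1.tensorMod F' M ⟶ CohB1.tensorMod F' (cokernel s) := KoszTw.tensorMap (𝟙 F') q
  haveI : PreservesFiniteColimits (DCoh.tensorBi.obj F') :=
    (inferInstance : PreservesFiniteColimits ((ModSite.tensorBi X.sheaf).obj F'))
  haveI he : Epi e := by
    have h1 : e = (DCoh.tensorBi.obj F').map q := (KoszTw.tensorBi_obj_map F' q).symm
    rw [h1]
    haveI : PreservesColimitsOfShape WalkingSpan (DCoh.tensorBi.obj F') :=
      PreservesFiniteColimits.preservesFiniteColimits _
    haveI : (DCoh.tensorBi.obj F').PreservesEpimorphisms :=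
      preservesEpimorphisms_of_preservesColimitsOfShape _
    exact (inferInstance : Epi ((DCoh.tensorBi.obj F').map (cokernel.π s)))
  have hz : mulΓ F' M (secVal s ⊤) ≫ e = 0 := by
    apply Scheme.Modules.hom_ext
    intro U
    ext m
    change e.app U ((mulΓ F' M (secVal s ⊤)).app U m) = 0
    rw [mulΓ_app]
    have h1 : e.app U (tm F' M U m (res M (le_top : U ≤ ⊤) (secVal s ⊤))) =
        tm F' (cokernel s) U ((𝟙 F' : F' ⟶ F').app U m)
          (q.app U (res M (le_top : U ≤ ⊤) (secVal s ⊤))) :=
      KoszTw.tensorMap_tmul (𝟙 F') q U m _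
    rw [h1, res_secVal]
    have h2 : secVal s U = s.app U (show Γ(Coh.structureModule X, U) from (1 : Γ(X, U))) := by
      rw [app_eq_smul, one_smul]
    have h3 : q.app U (s.app U (show Γ(Coh.structureModule X, U) from (1 : Γ(X, U)))) = 0 := by
      change (s ≫ q).app U _ = 0
      rw [cokernel.condition]
      rfl
    rw [h2, h3, tm_zero_right]
  let p : cokernel (mulΓ F' M (secVal s ⊤)) ⟶ CohB1.tensorMod F' (cokernel s) :=
    cokernel.desc _ e hz
  haveI : Epi p := by
    have : cokernel.π _ ≫ p = e := cokernel.π_desc _ _ _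
    exact epi_of_epi_fac this
  have hO : Coh.IsCoh (Coh.structureModule X) := InvQc.isCoh_of_isInvertible _ GenLoc.isInvertible_O
  have hMc : Coh.IsCoh M := InvQc.isCoh_of_isInvertible _ hM
  have hQ : Coh.IsCoh (cokernel s) := FtLocal.isCoh_cokernel hO hMc s
  haveI := hF'.1
  haveI := hQ.1
  have hsupp := Groth.Agent.Lead.TilT.support_tensorMod F' (cokernel s) hF'.2 hQ.2
  intro x hx
  apply support_epi p
  rw [hsupp]
  refine ⟨hx.1, ?_⟩
  by_contra hxQ
  exact hx.2 (mem_genLocus_of_notMem_support_cokernel hM s x hxQ)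

end CokerSupp

section Shift

open Polynomial

variable (k : Type u) [Field k] (X : Scheme.{u}) [X.Over (Spec (CommRingCat.of k))]
  [IsProper (X ↘ Spec (CommRingCat.of k))] (L : X.Modules)

omit [IsProper (X ↘ Spec (CommRingCat.of k))] in
/-- the Hilbert polynomial of a twist -/
theorem isHilbPoly_twist (hL : PicF.IsInvertible L) (F : X.Modules) (n : ℕ) {P : ℚ[X]}
    (hP : ShStab.IsHilbPoly k X L F P) :
    ShStab.IsHilbPoly k X L (CohB1.tensorMod F (CohB1.tensorPow L n))
      (P.comp (Polynomial.X + Polynomial.C (n : ℚ))) := by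
  intro m
  have e := CurveAmp.assocIso hL F n m
  have h1 : Curv2.euler k X (ShStab.twist X L (CohB1.tensorMod F (CohB1.tensorPow L n)) m) =
      Curv2.euler k X (ShStab.twist X L F (n + m)) := Euler.euler_iso k X e
  rw [h1, hP (n + m), eval_comp, eval_add, eval_X, eval_C]
  push_cast
  rw [add_comm]

theorem dim_le_of_subset {T : Type*} [TopologicalSpace T] {S S' : Set T} (h : S ⊆ S') :
    topologicalKrullDim S ≤ topologicalKrullDim S' :=
  (Topology.IsInducing.of_comp (f := Set.inclusion h) (g := Subtype.val)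
    (continuous_inclusion h) continuous_subtype_val
    (by exact Topology.IsInducing.subtypeVal)).topologicalKrullDim_le

end Shift

section Main

open Polynomial

variable (k : Type u) [Field k] (X : Scheme.{u}) [X.Over (Spec (CommRingCat.of k))]
  [IsProper (X ↘ Spec (CommRingCat.of k))] (L : X.Modules)

/-- **the degree of the Hilbert polynomial is at least the length of any chain of irreducible
closed subsets of the support** -/
theorem natDegree_ge_of_chain (hL : CohB1.IsAmple L) (D : ℕ) :
    ∀ (d : ℕ) (F : X.Modules), Coh.IsCoh F →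
      topologicalKrullDim (CohB1.support F) ≤ D →
      ∀ (l : LTSeries (IrreducibleCloseds X)), l.length = d →
      (l.last : Set X) ⊆ CohB1.support F → ∀ P : ℚ[X], ShStab.IsHilbPoly k X L F P →
      d ≤ P.natDegree := by
  haveI := Euler.isNoetherian_of_proper k X
  intro d
  induction d with
  | zero => intro F _ _ l _ _ P _; exact Nat.zero_le _
  | succ d ih =>
    intro F hF hD l hl hlast P hP
    have hne : l.length ≠ 0 := by omega
    set W := l.last with hW
    set W' := l.eraseLast.last with hW'
    have hlt : W' < W := l.eraseLast_last_rel_last hne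
    -- the generic point of `W`
    let η : X := W.isIrreducible.genericPoint
    have hη : closure ({η} : Set X) = (W : Set X) := by
      have := W.isIrreducible.isGenericPoint_genericPoint_closure
      rw [W.isClosed.closure_eq] at this
      exact this
    have hηW : η ∈ (W : Set X) := by rw [← hη]; exact subset_closure rfl
    have hηW' : η ∉ (W' : Set X) := by
      intro h
      have h1 : (W : Set X) ⊆ (W' : Set X) := by
        rw [← hη]
        exact W'.isClosed.closure_subset_iff.mpr (Set.singleton_subset_iff.mpr h)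
      exact absurd (le_antisymm hlt.le h1) hlt.ne
    let U : X.Opens := ⟨(W' : Set X)ᶜ, W'.isClosed.isOpen_compl⟩
    obtain ⟨N, s, hηs, hsU, -⟩ := AmpleLib.exists_genLocus_nbhd hL U η hηW'
    let M : X.Modules := CohB1.tensorPow L (N + 1)
    have hM : PicF.IsInvertible M := TwForm.isInvertible_tensorPow hL.1 (N + 1)
    have hV : IsGen M (CohB1.genLocus M s)
        (res M (le_top : CohB1.genLocus M s ≤ ⊤) (secVal s ⊤)) := by
      rw [res_secVal]
      exact AmpleLib.isGen_secVal s le_rfl
    obtain ⟨F', π, hπ, hF', hmono, hker⟩ := exists_quotient_mono_mulΓ F M (secVal s ⊤) hF hM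
    -- supports
    let S₁ : ShortComplex X.Modules := ShortComplex.mk (kernel.ι π) π (kernel.condition π)
    have hS₁ : S₁.Exact := ShortComplex.exact_of_f_is_kernel _ (kernelIsKernel π)
    have : Mono S₁.f := inferInstanceAs (Mono (kernel.ι π))
    have : Epi S₁.g := hπ
    have hSE₁ : S₁.ShortExact := { exact := hS₁ }
    have hsupp₁ : CohB1.support F = CohB1.support (kernel π) ∪ CohB1.support F' :=
      support_ses S₁ hSE₁
    have hηF' : η ∈ CohB1.support F' := by
      have h1 : η ∈ CohB1.support F := hlast hηW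
      rw [hsupp₁] at h1
      rcases h1 with h1 | h1
      · exact absurd h1 (hker _ hV η hηs)
      · exact h1
    have hWF' : (W : Set X) ⊆ CohB1.support F' := by
      rw [← hη]
      exact (FtGen.isClosed_support F' hF'.2).closure_subset_iff.mpr
        (Set.singleton_subset_iff.mpr hηF')
    set Cc := cokernel (mulΓ F' M (secVal s ⊤)) with hCc
    have hW'C : (W' : Set X) ⊆ CohB1.support Cc := by
      intro x hx
      apply support_diff_genLocus_subset F' M hF' hM s
      refine ⟨hWF' (hlt.le hx), fun hxs => ?_⟩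
      exact (hsU hxs) hx
    -- coherence and dimension bounds
    have hK : Coh.IsCoh (kernel π) := isCoh_kernel k X hF hF' π
    have hFM : Coh.IsCoh (CohB1.tensorMod F' M) :=
      Euler.isCoh_tensor _ _ hF' (InvQc.isCoh_of_isInvertible _ hM)
    have hC : Coh.IsCoh Cc := FtLocal.isCoh_cokernel hF' hFM _
    have hDK : topologicalKrullDim (CohB1.support (kernel π)) ≤ D :=
      (dim_le_of_subset (by rw [hsupp₁]; exact Set.subset_union_left)).trans hD
    have hDF' : topologicalKrullDim (CohB1.support F') ≤ D :=
      (dim_le_of_subset (by rw [hsupp₁]; exact Set.subset_union_right)).trans hD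
    have hDC : topologicalKrullDim (CohB1.support Cc) ≤ D := by
      refine (dim_le_of_subset ?_).trans hDF'
      haveI := hF'.1
      haveI : M.IsQuasicoherent := (InvQc.isCoh_of_isInvertible _ hM).1
      refine (support_epi (cokernel.π (mulΓ F' M (secVal s ⊤)))).trans ?_
      rw [Groth.Agent.Lead.TilT.support_tensorMod F' M hF'.2 (InvQc.isCoh_of_isInvertible _ hM).2]
      exact Set.inter_subset_left
    -- polynomials
    obtain ⟨pK, hpK, -⟩ := exists_isHilbPoly k X L hL.1 _ hK D hDK
    obtain ⟨P', hP', -⟩ := exists_isHilbPoly k X L hL.1 _ hF' D hDF'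
    have hsum : P = pK + P' :=
      isHilbPoly_unique k X L hP (isHilbPoly_add k X L hL.1 S₁ hSE₁ hK hF hF' hpK hP')
    have fK := hilbPoly_facts k X L hL _ hK D hDK hpK
    have fF' := hilbPoly_facts k X L hL _ hF' D hDF' hP'
    have hdeg₁ : P'.natDegree ≤ P.natDegree := by
      rw [hsum]
      exact natDegree_le_add_of_evNonneg fK.2.1 fF'.2.1
    let S₂ : ShortComplex X.Modules :=
      ShortComplex.mk (mulΓ F' M (secVal s ⊤)) (cokernel.π _) (cokernel.condition _)
    have hS₂ : S₂.Exact := ShortComplex.exact_of_g_is_cokernel _ (cokernelIsCokernel _)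
    have : Mono S₂.f := hmono
    have : Epi S₂.g := inferInstanceAs (Epi (cokernel.π (mulΓ F' M (secVal s ⊤))))
    have hSE₂ : S₂.ShortExact := { exact := hS₂ }
    have hPM := isHilbPoly_twist k X L hL.1 F' (N + 1) hP'
    have hPC : ShStab.IsHilbPoly k X L Cc
        (P'.comp (Polynomial.X + Polynomial.C ((N + 1 : ℕ) : ℚ)) - P') :=
      isHilbPoly_sub_left k X L hL.1 S₂ hSE₂ hF' hFM hC hP' hPM
    have hC0 : ¬ IsZero Cc := by
      intro h0
      obtain ⟨x, hx⟩ := W'.isIrreducible.nonempty
      have := hW'C hx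
      rw [support_isZero h0] at this
      exact this
    have hPC0 : P'.comp (Polynomial.X + Polynomial.C ((N + 1 : ℕ) : ℚ)) - P' ≠ 0 := by
      intro h
      rw [h] at hPC
      exact not_evPos_zero (evPos_of_not_isZero k X L hL Cc hC hC0 hPC)
    have hih := ih Cc hC hDC l.eraseLast (by rw [RelSeries.eraseLast_length]; omega) hW'C _ hPC
    have := natDegree_ge_of_shift_sub P' _ d hPC0 hih
    omega

omit [X.Over (Spec (CommRingCat.of k))] [IsProper (X ↘ Spec (CommRingCat.of k))] in
/-- a chain of irreducible closed subsets of `X` inside a closed subset of dimension `d` -/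
theorem exists_chain_of_dim {S : Set X} (hS : IsClosed S) (d : ℕ)
    (hdim : topologicalKrullDim S = (d : WithBot ℕ∞)) :
    ∃ l : LTSeries (IrreducibleCloseds X), l.length = d ∧ (l.last : Set X) ⊆ S := by
  have h1 : (d : WithBot ℕ∞) ≤ Order.krullDim (IrreducibleCloseds S) := le_of_eq hdim.symm
  obtain ⟨l, hl⟩ := Order.le_krullDim_iff.mp h1
  have hf : StrictMono (IrreducibleCloseds.map (Subtype.val : S → X) continuous_subtype_val) :=
    IrreducibleCloseds.map_strictMono_of_isInducing Topology.IsInducing.subtypeVal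
  refine ⟨l.map _ hf, hl, ?_⟩
  rw [LTSeries.last_map]
  change closure (Subtype.val '' (l.last : Set S)) ⊆ S
  refine hS.closure_subset_iff.mpr ?_
  rintro _ ⟨y, -, rfl⟩
  exact y.2

/-- **the degree of the Hilbert polynomial is the dimension of the support** -/
theorem natDegree_eq_of_dim (hL : CohB1.IsAmple L) (F : X.Modules) (hF : Coh.IsCoh F) (d : ℕ)
    (hdim : topologicalKrullDim (CohB1.support F) = (d : WithBot ℕ∞)) {P : ℚ[X]}
    (hP : ShStab.IsHilbPoly k X L F P) : P.natDegree = d := by
  obtain ⟨l, hl, hlast⟩ := exists_chain_of_dim X (FtGen.isClosed_support F hF.2) d hdim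
  exact le_antisymm (hilbPoly_facts k X L hL F hF d hdim.le hP).1
    (natDegree_ge_of_chain k X L hL d d F hF hdim.le l hl hlast P hP)

omit [X.Over (Spec (CommRingCat.of k))] [IsProper (X ↘ Spec (CommRingCat.of k))] in
theorem not_isZero_of_dim (F : X.Modules) (d : ℕ)
    (hdim : topologicalKrullDim (CohB1.support F) = (d : WithBot ℕ∞)) : ¬ IsZero F := by
  intro h0
  rw [support_isZero h0] at hdim
  haveI : IsEmpty (∅ : Set X) := Set.isEmpty_coe_sort.mpr rfl
  rw [topologicalKrullDim_of_isEmpty] at hdim
  exact WithBot.bot_ne_coe hdim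

/-- **positivity of the multiplicity** -/
theorem alpha_pos_of_dim (hL : CohB1.IsAmple L) (F : X.Modules) (hF : Coh.IsCoh F) (d : ℕ)
    (hdim : topologicalKrullDim (CohB1.support F) = (d : WithBot ℕ∞)) {P : ℚ[X]}
    (hP : ShStab.IsHilbPoly k X L F P) : 0 < StabCat.alpha d P := by
  have hdeg := natDegree_eq_of_dim k X L hL F hF d hdim hP
  have hpos := evPos_of_not_isZero k X L hL F hF (not_isZero_of_dim X F d hdim) hP
  have hlc : 0 < P.leadingCoeff := by
    rcases hpos.evNonneg.eq_zero_or_pos with h | h
    · rw [h] at hpos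
      exact absurd hpos not_evPos_zero
    · exact h
  unfold StabCat.alpha
  rw [leadingCoeff, hdeg] at hlc
  exact mul_pos (Nat.cast_pos.mpr (Nat.factorial_pos d)) hlc

end Main

end Groth.Agent.Lead.HP
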