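import Mathlib
import Groth.Agent.Lib.Lead.HP9

set_option autoImplicit false
set_option backward.isDefEq.respectTransparency.types false
set_option synthInstance.maxHeartbeats 400000
set_option linter.style.haveILetI false
set_option linter.unusedSectionVars false

universe u

open CategoryTheory CategoryTheory.Limits AlgebraicGeometry TopologicalSpace Opposite Polynomial

namespace Groth.Agent.Lead.HP

open Groth.Agent.Helper1 Groth.Agent.Helper1.Dv

section TopPartSelf

theorem topPart_self {P : ℚ[X]} {d : ℕ} (hd : P.natDegree ≤ d) : StabCat.topPart d d P = P := by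
  ext j
  rw [coeff_topPart, Nat.sub_self]
  split_ifs with h
  · rfl
  · have : d < j := by
      by_contra hj
      exact h (Finset.mem_Icc.mpr ⟨Nat.zero_le _, not_lt.mp hj⟩)
    exact (coeff_eq_zero_of_natDegree_lt (lt_of_le_of_lt hd this)).symm

end TopPartSelf

section Stab3

variable (k : Type u) [Field k] (X : Scheme.{u}) [X.Over (Spec (CommRingCat.of k))]
  [IsProper (X ↘ Spec (CommRingCat.of k))] (L : X.Modules)

/-- numerical facts on a coherent submodule `F` of a coherent module `E` of dimension `d` -/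
theorem sub_facts' (hL : CohB1.IsAmple L) {d : ℕ} {E : X.Modules} (hE : Coh.IsCoh E)
    (hdim : topologicalKrullDim (CohB1.support E) ≤ (d : WithBot ℕ∞))
    {F : X.Modules} (ι : F ⟶ E) [Mono ι] (hF : Coh.IsCoh F) {pF pE : ℚ[X]}
    (hpF : ShStab.IsHilbPoly k X L F pF) (hpE : ShStab.IsHilbPoly k X L E pE) :
    pF.natDegree ≤ d ∧ pE.natDegree ≤ d ∧ EvNonneg (pE - pF) ∧
      StabCat.alpha d pF ≤ StabCat.alpha d pE ∧ (¬ IsIso ι → EvPos (pE - pF)) := by
  have hdF : topologicalKrullDim (CohB1.support F) ≤ (d : WithBot ℕ∞) :=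
    (dim_le_of_subset (support_mono ι)).trans hdim
  let S : ShortComplex X.Modules := ShortComplex.mk ι (cokernel.π ι) (cokernel.condition ι)
  have hS : S.Exact := ShortComplex.exact_of_g_is_cokernel _ (cokernelIsCokernel ι)
  have : Mono S.f := inferInstanceAs (Mono ι)
  have : Epi S.g := inferInstanceAs (Epi (cokernel.π ι))
  have hSE : S.ShortExact := { exact := hS }
  have hQ : Coh.IsCoh (cokernel ι) := FtLocal.isCoh_cokernel hF hE ι
  have hdQ : topologicalKrullDim (CohB1.support (cokernel ι)) ≤ (d : WithBot ℕ∞) :=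
    (dim_le_of_subset (support_epi (cokernel.π ι))).trans hdim
  have hpQ : ShStab.IsHilbPoly k X L (cokernel ι) (pE - pF) :=
    isHilbPoly_sub_left k X L hL.1 S hSE hF hE hQ hpF hpE
  have fF := hilbPoly_facts k X L hL F hF d hdF hpF
  have fE := hilbPoly_facts k X L hL E hE d hdim hpE
  have fQ := hilbPoly_facts k X L hL _ hQ d hdQ hpQ
  refine ⟨fF.1, fE.1, fQ.2.1, ?_, ?_⟩
  · have := fQ.2.2.1
    rw [alpha_sub] at this
    linarith
  · intro hni
    apply fQ.2.2.2
    intro h0
    haveI : Epi ι := Preadditive.epi_of_cokernel_zero (h0.eq_of_tgt _ _)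
    exact hni (isIso_of_mono_of_epi ι)

/-- purity from the semistability inequalities (uses positivity of the multiplicity) -/
theorem isPure_of_redLE (hL : CohB1.IsAmple L) (d : ℕ) (E : X.Modules) (hE : Coh.IsCoh E)
    (hdim : topologicalKrullDim (CohB1.support E) = (d : WithBot ℕ∞))
    (h : ∀ (F : X.Modules) (ι : F ⟶ E), Mono ι → Coh.IsCoh F → ¬ IsZero F → ¬ IsIso ι →
      ∀ (pF pE : ℚ[X]), ShStab.IsHilbPoly k X L F pF → ShStab.IsHilbPoly k X L E pE →
        StabCat.RedLE d pF pE) : ShStab.IsPure X E d := by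
  intro F ι hι hF h0
  haveI := hι
  have hle : topologicalKrullDim (CohB1.support F) ≤ (d : WithBot ℕ∞) :=
    (dim_le_of_subset (support_mono ι)).trans hdim.le
  by_cases hi : IsIso ι
  · rw [support_iso (asIso ι), hdim]
  · by_contra hne
    have hlt : topologicalKrullDim (CohB1.support F) < (d : WithBot ℕ∞) := lt_of_le_of_ne hle hne
    obtain ⟨pE, hpE, -⟩ := exists_isHilbPoly k X L hL.1 E hE d hdim.le
    have hpos := alpha_pos_of_dim k X L hL E hE d hdim hpE
    -- the Hilbert polynomial of `F` has vanishing multiplicity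
    have hkey : ∃ pF : ℚ[X], ShStab.IsHilbPoly k X L F pF ∧ StabCat.alpha d pF = 0 := by
      rcases Nat.eq_zero_or_pos d with rfl | hd
      · exfalso
        have hne' : (CohB1.support F).Nonempty := by
          rw [Set.nonempty_iff_ne_empty]
          intro he
          exact h0 ((Groth.Agent.Lead.EpiPull.isZero_iff_support_eq_empty F).mpr he)
        haveI : Nonempty (CohB1.support F) := hne'.to_subtype
        have h1 := topologicalKrullDim_nonneg_of_nonempty (CohB1.support F)
        have h2 : topologicalKrullDim (CohB1.support F) < 0 := by exact_mod_cast hlt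
        exact absurd h1 (not_le.mpr h2)
      · obtain ⟨pF, hpF, hdeg⟩ := exists_isHilbPoly k X L hL.1 F hF (d - 1)
          (le_pred_of_lt_cast hd hlt)
        refine ⟨pF, hpF, ?_⟩
        unfold StabCat.alpha
        rw [coeff_eq_zero_of_natDegree_lt (by omega), mul_zero]
    obtain ⟨pF, hpF, hα⟩ := hkey
    obtain ⟨N, hN⟩ := h F ι hι hF h0 hi pF pE hpF hpE
    obtain ⟨N', hN'⟩ := evPos_of_not_isZero k X L hL F hF h0 hpF
    have e1 := hN (N + N') (by omega)
    have e2 := hN' (N + N') (by omega)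
    rw [hα, zero_smul, eval_zero, eval_smul, smul_eq_mul] at e1
    have := mul_pos hpos e2
    linarith

/-- S15213 -/
theorem isSemistable_iff_isSS (hL : CohB1.IsAmple L) (d : ℕ) (E : X.Modules)
    (hE : Coh.IsCoh E) (h0 : ¬ IsZero E)
    (hdim : topologicalKrullDim (CohB1.support E) = (d : WithBot ℕ∞)) :
    ShStab.IsSemistable k X L E d ↔ StabCat.IsSS Coh.IsCoh (ShStab.IsHilbPoly k X L) d E :=
  ⟨fun h => h.2.2.2, fun h => ⟨hE, h0, isPure_of_redLE k X L hL d E hE hdim h, h⟩⟩

/-- S15214 -/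
theorem isStable_iff_isSt (hL : CohB1.IsAmple L) (d : ℕ) (E : X.Modules)
    (hE : Coh.IsCoh E) (h0 : ¬ IsZero E)
    (hdim : topologicalKrullDim (CohB1.support E) = (d : WithBot ℕ∞)) :
    ShStab.IsStable k X L E d ↔ StabCat.IsSt Coh.IsCoh (ShStab.IsHilbPoly k X L) d E :=
  ⟨fun h => h.2.2.2, fun h => ⟨hE, h0, isPure_of_redLE k X L hL d E hE hdim
    (fun F ι hι hF hF0 hi pF pE hpF hpE => polyLE_of_polyLT (h F ι hι hF hF0 hi pF pE hpF hpE)), h⟩⟩

/-- the multiplicities of a nonzero coherent submodule of a pure coherent module -/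
theorem alpha_facts_of_isPure (hL : CohB1.IsAmple L) {d : ℕ} {E : X.Modules} (hE : Coh.IsCoh E)
    (h0 : ¬ IsZero E) (hp : ShStab.IsPure X E d) {F : X.Modules} (ι : F ⟶ E) [Mono ι]
    (hF : Coh.IsCoh F) (hF0 : ¬ IsZero F) {pF pE : ℚ[X]}
    (hpF : ShStab.IsHilbPoly k X L F pF) (hpE : ShStab.IsHilbPoly k X L E pE) :
    0 < StabCat.alpha d pF ∧ StabCat.alpha d pF ≤ StabCat.alpha d pE ∧
      pF.natDegree ≤ d ∧ pE.natDegree ≤ d ∧ EvNonneg (pE - pF) ∧
      (¬ IsIso ι → EvPos (pE - pF)) := by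
  have hdE := hp E (𝟙 E) inferInstance hE h0
  have hdF := hp F ι inferInstance hF hF0
  have f := sub_facts' k X L hL hE hdE.le ι hF hpF hpE
  exact ⟨alpha_pos_of_dim k X L hL F hF d hdF hpF, f.2.2.2.1, f.1, f.2.1, f.2.2.1, f.2.2.2.2⟩

/-- S15217 -/
theorem isSemistable_iff_isEllSemistable (hL : CohB1.IsAmple L) (d : ℕ) (E : X.Modules) :
    ShStab.IsSemistable k X L E d ↔ ShStab.IsEllSemistable k X L E d d := by
  constructor
  · exact isEllSemistable_of_isSemistable k X L hL d d E
  · rintro ⟨hE, h0, hp, h⟩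
    refine ⟨hE, h0, hp, ?_⟩
    intro F ι hι hF hF0 _ pF pE hpF hpE
    haveI := hι
    obtain ⟨hb, hba, hdF, hdE, ⟨N, hN⟩, -⟩ :=
      alpha_facts_of_isPure k X L hL hE h0 hp ι hF hF0 hpF hpE
    rcases hba.lt_or_eq with hlt | heq
    · have := h F ι hι hF pF pE hpF hpE hb hlt
      rw [topPart_self hdF, topPart_self hdE] at this
      exact this
    · refine ⟨N, fun m hm => ?_⟩
      have e := hN m hm
      rw [eval_sub] at e
      rw [heq, eval_smul, eval_smul, smul_eq_mul, smul_eq_mul]
      have ha : 0 ≤ StabCat.alpha d pE := heq ▸ hb.le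
      exact mul_le_mul_of_nonneg_left (sub_nonneg.mp e) ha

/-- S15218 -/
theorem isStable_iff_isEllStable (hL : CohB1.IsAmple L) (d : ℕ) (E : X.Modules) :
    ShStab.IsStable k X L E d ↔ ShStab.IsEllStable k X L E d d := by
  constructor
  · rintro ⟨hE, h0, hp, h⟩
    refine ⟨hE, h0, hp, ?_⟩
    intro F ι hι hF pF pE hpF hpE hb hlt
    haveI := hι
    have hF0 : ¬ IsZero F := by
      intro hz
      rw [isHilbPoly_zero_unique k X L hz hpF, alpha_zero] at hb
      exact lt_irrefl _ hb
    have hi : ¬ IsIso ι := by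
      intro hi
      rw [isHilbPoly_unique k X L (isHilbPoly_of_iso k X L (asIso ι) hpF) hpE] at hlt
      exact lt_irrefl _ hlt
    obtain ⟨-, -, hdF, hdE, -, -⟩ := alpha_facts_of_isPure k X L hL hE h0 hp ι hF hF0 hpF hpE
    rw [topPart_self hdF, topPart_self hdE]
    exact h F ι hι hF hF0 hi pF pE hpF hpE
  · rintro ⟨hE, h0, hp, h⟩
    refine ⟨hE, h0, hp, ?_⟩
    intro F ι hι hF hF0 hi pF pE hpF hpE
    haveI := hι
    obtain ⟨hb, hba, hdF, hdE, -, hpos⟩ :=
      alpha_facts_of_isPure k X L hL hE h0 hp ι hF hF0 hpF hpE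
    rcases hba.lt_or_eq with hlt | heq
    · have := h F ι hι hF pF pE hpF hpE hb hlt
      rw [topPart_self hdF, topPart_self hdE] at this
      exact this
    · obtain ⟨N, hN⟩ := hpos hi
      refine ⟨N, fun m hm => ?_⟩
      have e := hN m hm
      rw [eval_sub] at e
      rw [heq, eval_smul, eval_smul, smul_eq_mul, smul_eq_mul]
      have ha : 0 < StabCat.alpha d pE := heq ▸ hb
      exact mul_lt_mul_of_pos_left (sub_pos.mp e) ha

end Stab3

end Groth.Agent.Lead.HP
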