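import Mathlib
import Groth.Agent.Lib.Lead.HP10
import Groth.Agent.Lib.Lead.HN1
import Groth.Agent.Lib.Lead.HN2
import Groth.Agent.Lib.Lead.HN3
import Groth.Agent.Lib.Helper1.CohACC
import Groth.Agent.Lib.Helper1.Dv28
import Groth.Agent.Lib.Helper4.LimTopInj
import Groth.Agent.Lib.Helper5.ProperPush.CohExt

set_option autoImplicit false
set_option backward.isDefEq.respectTransparency.types false
set_option synthInstance.maxHeartbeats 400000
set_option linter.style.haveILetI false
set_option linter.unusedSectionVars false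
set_option linter.unusedVariables false

universe u

open CategoryTheory CategoryTheory.Limits AlgebraicGeometry TopologicalSpace Opposite Polynomial

namespace Groth.Agent.Lead.HN

open Groth.Agent.Lead.HP Groth.Agent.Helper1

section Basic

variable (k : Type u) [Field k] (X : Scheme.{u}) [X.Over (Spec (CommRingCat.of k))]
  [IsProper (X ↘ Spec (CommRingCat.of k))] (L : X.Modules)

open Classical in
/-- a chosen Hilbert polynomial -/
noncomputable def hpOf (F : X.Modules) : ℚ[X] :=
  if h : ∃ p, ShStab.IsHilbPoly k X L F p then h.choose else 0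

omit [IsProper (X ↘ Spec (CommRingCat.of k))] in
theorem hpOf_spec {F : X.Modules} (h : ∃ p, ShStab.IsHilbPoly k X L F p) :
    ShStab.IsHilbPoly k X L F (hpOf k X L F) := by
  unfold hpOf
  rw [dif_pos h]
  exact h.choose_spec

omit [IsProper (X ↘ Spec (CommRingCat.of k))] in
theorem hpOf_eq {F : X.Modules} {p : ℚ[X]} (h : ShStab.IsHilbPoly k X L F p) :
    hpOf k X L F = p :=
  isHilbPoly_unique k X L (hpOf_spec k X L ⟨p, h⟩) h

include k in
theorem isCoh_X₁ {S : ShortComplex X.Modules} (hS : S.ShortExact) (h2 : Coh.IsCoh S.X₂)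
    (h3 : Coh.IsCoh S.X₃) : Coh.IsCoh S.X₁ := by
  haveI := Euler.isNoetherian_of_proper k X
  haveI := hS.mono_f
  haveI : S.X₂.IsQuasicoherent := h2.1
  haveI : S.X₃.IsQuasicoherent := h3.1
  exact FtLocal.isCoh_of_mono S.f h2 (QcAbel.isQuasicoherent_left hS.exact)

include k in
theorem isCoh_X₂ {S : ShortComplex X.Modules} (hS : S.ShortExact) (h1 : Coh.IsCoh S.X₁)
    (h3 : Coh.IsCoh S.X₃) : Coh.IsCoh S.X₂ := by
  haveI := Euler.isNoetherian_of_proper k X
  exact Dv.isCoh_mid hS h1 h3

omit [X.Over (Spec (CommRingCat.of k))] [IsProper (X ↘ Spec (CommRingCat.of k))] in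
theorem isCoh_X₃ {S : ShortComplex X.Modules} (hS : S.ShortExact) (h1 : Coh.IsCoh S.X₁)
    (h2 : Coh.IsCoh S.X₂) : Coh.IsCoh S.X₃ := by
  haveI := hS.epi_g
  haveI : S.X₁.IsQuasicoherent := h1.1
  haveI : S.X₂.IsQuasicoherent := h2.1
  haveI : S.X₃.IsQuasicoherent := QcAbel.isQuasicoherent_right hS
  exact Groth.Agent.Lib.Helper4.LimTopInj.isCoh_of_epi S.g h2

omit [X.Over (Spec (CommRingCat.of k))] [IsProper (X ↘ Spec (CommRingCat.of k))] in
theorem isCoh_of_iso' {F G : X.Modules} (e : F ≅ G) (hF : Coh.IsCoh F) : Coh.IsCoh G :=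
  Groth.Agent.Lib.Helper4.LimTopInj.isCoh_of_iso e hF

end Basic

section Lattice

variable (k : Type u) [Field k] (X : Scheme.{u}) [X.Over (Spec (CommRingCat.of k))]
  [IsProper (X ↘ Spec (CommRingCat.of k))] (L : X.Modules) {E : X.Modules}

/-- coherent subobjects -/
def Good (A : Subobject E) : Prop := Coh.IsCoh (A : X.Modules)

/-- the Hilbert polynomial of a subobject -/
noncomputable def PP (A : Subobject E) : ℚ[X] := hpOf k X L (A : X.Modules)

/-- the multiplicity of a subobject, as an integer -/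
noncomputable def αZ (d : ℕ) (A : Subobject E) : ℤ := ⌊StabCat.alpha d (PP k X L A)⌋

theorem alpha_add (d : ℕ) (P Q : ℚ[X]) :
    StabCat.alpha d (P + Q) = StabCat.alpha d P + StabCat.alpha d Q := by
  unfold StabCat.alpha
  rw [coeff_add, mul_add]

omit [X.Over (Spec (CommRingCat.of k))] [IsProper (X ↘ Spec (CommRingCat.of k))] in
theorem isZero_bot : IsZero ((⊥ : Subobject E) : X.Modules) :=
  IsZero.of_iso (isZero_zero _) Subobject.botCoeIsoZero

omit [X.Over (Spec (CommRingCat.of k))] [IsProper (X ↘ Spec (CommRingCat.of k))] in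
theorem good_bot : Good X (⊥ : Subobject E) :=
  Groth.Agent.Lib.Helper5.CohExt.isCoh_of_isZero _ (isZero_bot X)

omit [X.Over (Spec (CommRingCat.of k))] [IsProper (X ↘ Spec (CommRingCat.of k))] in
theorem good_top (hE : Coh.IsCoh E) : Good X (⊤ : Subobject E) :=
  isCoh_of_iso' X (asIso (⊤ : Subobject E).arrow).symm hE

theorem pp_bot : PP k X L (⊥ : Subobject E) = 0 :=
  isHilbPoly_zero_unique k X L (isZero_bot X)
    (hpOf_spec k X L ⟨0, isHilbPoly_zero_of_isZero k X L (isZero_bot X)⟩)

omit [X.Over (Spec (CommRingCat.of k))] [IsProper (X ↘ Spec (CommRingCat.of k))] in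
theorem not_isZero_of_bot_lt {A : Subobject E} (h : ⊥ < A) : ¬ IsZero (A : X.Modules) := by
  intro h0
  have h1 : A.arrow = 0 := h0.eq_of_src _ _
  have h2 : A = ⊥ := by
    rw [← Subobject.mk_arrow A, Subobject.mk_eq_bot_iff_zero]
    exact h1
  exact h.ne' h2

include k in
theorem isCoh_biprod {F G : X.Modules} (hF : Coh.IsCoh F) (hG : Coh.IsCoh G) :
    Coh.IsCoh (F ⊞ G) :=
  isCoh_X₂ k X (ShortComplex.Splitting.ofHasBinaryBiproduct F G).shortExact hF hG

theorem isHilbPoly_biprod (hLi : PicF.IsInvertible L) {F G : X.Modules} (hF : Coh.IsCoh F)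
    (hG : Coh.IsCoh G) {p q : ℚ[X]} (hp : ShStab.IsHilbPoly k X L F p)
    (hq : ShStab.IsHilbPoly k X L G q) : ShStab.IsHilbPoly k X L (F ⊞ G) (p + q) :=
  isHilbPoly_add k X L hLi _ (ShortComplex.Splitting.ofHasBinaryBiproduct F G).shortExact hF
    (isCoh_biprod k X hF hG) hG hp hq

include k in
theorem good_sup (hE : Coh.IsCoh E) {A B : Subobject E} (hA : Good X A) (hB : Good X B) :
    Good X (A ⊔ B) := by
  have hAB := isCoh_biprod k X hA hB
  haveI := epi_biprodToSup A B
  haveI : StrongEpi (biprodToSup A B) := strongEpi_of_epi _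
  let e1 := image.isoStrongEpiMono (biprodToSup A B) (A ⊔ B).arrow rfl
  let e2 := Abelian.imageIsoImage (biprodToSup A B ≫ (A ⊔ B).arrow)
  exact isCoh_of_iso' X (e2 ≪≫ e1.symm) (isCoh_image k X hAB hE _)

include k in
theorem good_inf (hE : Coh.IsCoh E) {A B : Subobject E} (hA : Good X A) (hB : Good X B) :
    Good X (A ⊓ B) :=
  isCoh_X₁ k X (supInfSC_shortExact A B) (isCoh_biprod k X hA hB) (good_sup k X hE hA hB)

include k in
theorem wf_good (hE : Coh.IsCoh E) : WellFoundedGT {A : Subobject E // Good X A} := by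
  haveI := Euler.isNoetherian_of_proper k X
  rw [wellFoundedGT_iff_monotone_chain_condition]
  intro f
  obtain ⟨n, hn⟩ := CohACC.acc E hE ⟨fun n => (f n).1, fun i j hij => f.monotone hij⟩
    (fun n => (f n).2.1)
  exact ⟨n, fun m hm => Subtype.ext (hn m hm).symm⟩

variable (hL : CohB1.IsAmple L) {d : ℕ} (hp : ShStab.IsPure X E d)

include hL hp in
theorem pp_spec (A : Subobject E) (hA : Good X A) :
    ShStab.IsHilbPoly k X L (A : X.Modules) (PP k X L A) :=
  hpOf_spec k X L (exists_isHilbPoly_sub k X L hL hp A.arrow hA)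

include hL hp in
theorem pp_facts (A : Subobject E) (hA : Good X A) :
    (PP k X L A).natDegree ≤ d ∧ EvNonneg (PP k X L A) ∧ 0 ≤ StabCat.alpha d (PP k X L A) ∧
      (¬ IsZero (A : X.Modules) → EvPos (PP k X L A)) :=
  sub_facts k X L hL hp A.arrow hA (pp_spec k X L hL hp A hA)

include hL hp in
theorem alphaZ_spec (A : Subobject E) (hA : Good X A) :
    StabCat.alpha d (PP k X L A) = ((αZ k X L d A : ℤ) : ℚ) := by
  obtain ⟨z, hz⟩ := alpha_int d (PP k X L A) (pp_facts k X L hL hp A hA).1
    (fun m => ⟨_, ((pp_spec k X L hL hp A hA) m).symm⟩)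
  unfold αZ
  rw [hz, Int.floor_intCast]

include k in
theorem isCoh_coker {A B : Subobject E} (h : A ≤ B) (hA : Good X A) (hB : Good X B) :
    Coh.IsCoh (cokernel (Subobject.ofLE A B h)) := by
  haveI := Euler.isNoetherian_of_proper k X
  exact FtLocal.isCoh_cokernel hA hB _

include hL hp in
theorem isHilbPoly_coker {A B : Subobject E} (h : A ≤ B) (hA : Good X A) (hB : Good X B) :
    ShStab.IsHilbPoly k X L (cokernel (Subobject.ofLE A B h)) (PP k X L B - PP k X L A) :=
  isHilbPoly_sub_left k X L hL.1 (cokerSC (Subobject.ofLE A B h)) (cokerSC_shortExact _) hA hB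
    (isCoh_coker k X h hA hB) (pp_spec k X L hL hp A hA) (pp_spec k X L hL hp B hB)

omit [X.Over (Spec (CommRingCat.of k))] [IsProper (X ↘ Spec (CommRingCat.of k))] in
include hp in
theorem dim_coker_le {A B : Subobject E} (h : A ≤ B) (hB : Good X B) :
    topologicalKrullDim (CohB1.support (cokernel (Subobject.ofLE A B h))) ≤ (d : WithBot ℕ∞) :=
  (dim_le_of_subset (Dv.support_epi (cokernel.π (Subobject.ofLE A B h)))).trans
    (dim_le_of_isPure X hp B.arrow hB)

include hL hp in
theorem facts_le {A B : Subobject E} (h : A ≤ B) (hA : Good X A) (hB : Good X B) :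
    (PP k X L B - PP k X L A).natDegree ≤ d ∧ EvNonneg (PP k X L B - PP k X L A) ∧
      StabCat.alpha d (PP k X L A) ≤ StabCat.alpha d (PP k X L B) ∧
      (A < B → EvPos (PP k X L B - PP k X L A)) := by
  have f := hilbPoly_facts k X L hL _ (isCoh_coker k X h hA hB) d (dim_coker_le X hp h hB)
    (isHilbPoly_coker k X L hL hp h hA hB)
  refine ⟨f.1, f.2.1, ?_, fun hlt => f.2.2.2 (fun h0 => ?_)⟩
  · have := f.2.2.1
    rw [alpha_sub] at this
    linarith
  · exact (not_le_of_gt hlt) (le_of_isZero_cokernel_ofLE h h0)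

include hL hp in
theorem pp_mod (hE : Coh.IsCoh E) {A B : Subobject E} (hA : Good X A) (hB : Good X B) :
    PP k X L (A ⊔ B) + PP k X L (A ⊓ B) = PP k X L A + PP k X L B := by
  have hS := supInfSC_shortExact A B
  have gS := good_sup k X hE hA hB
  have gI := good_inf k X hE hA hB
  have h1 := isHilbPoly_add k X L hL.1 (supInfSC A B) hS gI (isCoh_biprod k X hA hB) gS
    (pp_spec k X L hL hp (A ⊓ B) gI) (pp_spec k X L hL hp (A ⊔ B) gS)
  have h2 := isHilbPoly_biprod k X L hL.1 hA hB (pp_spec k X L hL hp A hA)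
    (pp_spec k X L hL hp B hB)
  have := isHilbPoly_unique k X L h1 h2
  rw [add_comm]
  exact this

include hL hp in
theorem alpha_pos_of_bot_lt (A : Subobject E) (hA : Good X A) (h : ⊥ < A) :
    0 < StabCat.alpha d (PP k X L A) :=
  alpha_pos_of_dim k X L hL _ hA d
    (hp _ A.arrow inferInstance hA (not_isZero_of_bot_lt X h)) (pp_spec k X L hL hp A hA)

/-- the numerical datum on the lattice of subobjects of a pure coherent module -/
noncomputable def datum (hE : Coh.IsCoh E) : Datum (Subobject E) GK where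
  good := Good X
  v := fun A => germ (PP k X L A)
  α := αZ k X L d
  good_inf := fun hC hD => good_inf k X hE hC hD
  good_sup := fun hC hD => good_sup k X hE hC hD
  wf := wf_good k X hE
  v_mod := fun hC hD => by
    rw [← map_add, ← map_add, pp_mod k X L hL hp hE hC hD]
  α_mod := fun {C D} hC hD => by
    have h := pp_mod k X L hL hp hE hC hD
    have h2 : StabCat.alpha d (PP k X L (C ⊔ D)) + StabCat.alpha d (PP k X L (C ⊓ D)) =
        StabCat.alpha d (PP k X L C) + StabCat.alpha d (PP k X L D) := by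
      rw [← alpha_add, ← alpha_add, h]
    rw [alphaZ_spec k X L hL hp _ (good_sup k X hE hC hD),
      alphaZ_spec k X L hL hp _ (good_inf k X hE hC hD), alphaZ_spec k X L hL hp _ hC,
      alphaZ_spec k X L hL hp _ hD] at h2
    exact_mod_cast h2
  v_lt := fun hC hD hlt => by
    rw [← sub_pos, ← map_sub]
    exact germ_pos_of_evPos ((facts_le k X L hL hp hlt.le hC hD).2.2.2 hlt)
  α_le := fun hC hD hle => by
    have := (facts_le k X L hL hp hle hC hD).2.2.1
    rw [alphaZ_spec k X L hL hp _ hC, alphaZ_spec k X L hL hp _ hD] at this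
    exact_mod_cast this

end Lattice

section Translate

variable (k : Type u) [Field k] (X : Scheme.{u}) [X.Over (Spec (CommRingCat.of k))]
  [IsProper (X ↘ Spec (CommRingCat.of k))] (L : X.Modules) {E : X.Modules}
  (hL : CohB1.IsAmple L) {d : ℕ} (hp : ShStab.IsPure X E d) (hE : Coh.IsCoh E)

theorem a_datum {A B : Subobject E} (hA : Good X A) (hB : Good X B) :
    (datum k X L hL hp hE).a A B =
      ((StabCat.alpha d (PP k X L B - PP k X L A) : ℚ) : GK) := by
  change (((αZ k X L d B - αZ k X L d A : ℤ)) : GK) = _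
  rw [alpha_sub, alphaZ_spec k X L hL hp B hB, alphaZ_spec k X L hL hp A hA]
  push_cast
  rfl

theorem w_datum (A B : Subobject E) :
    (datum k X L hL hp hE).w A B = germ (PP k X L B - PP k X L A) := by
  rw [map_sub]
  rfl

theorem le_iff_redLE {A B C : Subobject E} (hA : Good X A) (hB : Good X B) (hC : Good X C) :
    (datum k X L hL hp hE).a A B * (datum k X L hL hp hE).w A C ≤
        (datum k X L hL hp hE).a A C * (datum k X L hL hp hE).w A B ↔
      StabCat.RedLE d (PP k X L C - PP k X L A) (PP k X L B - PP k X L A) := by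
  rw [a_datum k X L hL hp hE hA hB, a_datum k X L hL hp hE hA hC, w_datum, w_datum, redLE_iff]

theorem eq_iff_redEq {A B C : Subobject E} (hA : Good X A) (hB : Good X B) (hC : Good X C) :
    (datum k X L hL hp hE).a A B * (datum k X L hL hp hE).w A C =
        (datum k X L hL hp hE).a A C * (datum k X L hL hp hE).w A B ↔
      StabCat.RedEq d (PP k X L C - PP k X L A) (PP k X L B - PP k X L A) := by
  rw [a_datum k X L hL hp hE hA hB, a_datum k X L hL hp hE hA hC, w_datum, w_datum, redEq_iff]

theorem lt_iff_redLT {A B D : Subobject E} (hA : Good X A) (hB : Good X B) (hD : Good X D) :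
    (datum k X L hL hp hE).a A B * (datum k X L hL hp hE).w B D <
        (datum k X L hL hp hE).a B D * (datum k X L hL hp hE).w A B ↔
      StabCat.RedLT d (PP k X L D - PP k X L B) (PP k X L B - PP k X L A) := by
  rw [a_datum k X L hL hp hE hA hB, a_datum k X L hL hp hE hB hD, w_datum, w_datum, redLT_iff]

include hL hp in
theorem alphaZ_lt_iff {A B : Subobject E} (hA : Good X A) (hB : Good X B) :
    αZ k X L d A < αZ k X L d B ↔ 0 < StabCat.alpha d (PP k X L B - PP k X L A) := by
  rw [alpha_sub, alphaZ_spec k X L hL hp B hB, alphaZ_spec k X L hL hp A hA, sub_pos]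
  exact Int.cast_lt.symm

theorem pureAbove_bot : (datum k X L hL hp hE).PureAbove ⊥ := by
  intro D hD hlt
  change αZ k X L d ⊥ < αZ k X L d D
  rw [alphaZ_lt_iff k X L hL hp (good_bot X) hD, pp_bot, sub_zero]
  exact alpha_pos_of_bot_lt k X L hL hp D hD hlt

include hL in
theorem dim_eq_of_alpha_pos (F : X.Modules) (hF : Coh.IsCoh F) (h0 : ¬ IsZero F) (d : ℕ)
    (hdim : topologicalKrullDim (CohB1.support F) ≤ (d : WithBot ℕ∞)) {P : ℚ[X]}
    (hP : ShStab.IsHilbPoly k X L F P) (hα : 0 < StabCat.alpha d P) :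
    topologicalKrullDim (CohB1.support F) = (d : WithBot ℕ∞) := by
  have hne : (CohB1.support F).Nonempty := by
    rw [Set.nonempty_iff_ne_empty]
    intro he
    exact h0 ((EpiPull.isZero_iff_support_eq_empty F).2 he)
  haveI : Nonempty (CohB1.support F) := hne.to_subtype
  have h0' := topologicalKrullDim_nonneg_of_nonempty (CohB1.support F)
  obtain ⟨e, he⟩ : ∃ e : ℕ, topologicalKrullDim (CohB1.support F) = (e : WithBot ℕ∞) := by
    generalize topologicalKrullDim (CohB1.support F) = x at *
    induction x using WithBot.recBotCoe with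
    | bot => exact absurd h0' (by simp)
    | coe y =>
      induction y using ENat.recTopCoe with
      | top =>
        exfalso
        have h1 : ((⊤ : ℕ∞) : WithBot ℕ∞) ≤ ((d : ℕ∞) : WithBot ℕ∞) := hdim
        have h2 : (⊤ : ℕ∞) ≤ (d : ℕ∞) := WithBot.coe_le_coe.1 h1
        exact absurd h2 (by simp)
      | coe n => exact ⟨n, rfl⟩
  have hdeg := natDegree_eq_of_dim k X L hL F hF e he hP
  have hed : e ≤ d := by
    rw [he] at hdim
    exact_mod_cast hdim
  rcases Nat.eq_or_lt_of_le hed with h | h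
  · rw [he, h]
  · exfalso
    have : P.coeff d = 0 := coeff_eq_zero_of_natDegree_lt (by omega)
    unfold StabCat.alpha at hα
    rw [this, mul_zero] at hα
    exact lt_irrefl _ hα

/-- a factor which is semistable and pure at the level of the lattice is semistable -/
theorem isSemistable_factor {A B : Subobject E} (hA : Good X A) (hB : Good X B) (hlt : A < B)
    (hss : (datum k X L hL hp hE).SSf A B) (hpu : (datum k X L hL hp hE).PUf A B) :
    ShStab.IsSemistable k X L (cokernel (Subobject.ofLE A B hlt.le)) d := by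
  haveI := Euler.isNoetherian_of_proper k X
  have hQc := isCoh_coker k X hlt.le hA hB
  have hQ0 : ¬ IsZero (cokernel (Subobject.ofLE A B hlt.le)) := fun h0 =>
    (not_le_of_gt hlt) (le_of_isZero_cokernel_ofLE hlt.le h0)
  have key : ∀ (T : X.Modules) (ι : T ⟶ cokernel (Subobject.ofLE A B hlt.le)), Mono ι →
      Coh.IsCoh T → ¬ IsZero T → ∃ Cs : Subobject E, Good X Cs ∧ A < Cs ∧ Cs ≤ B ∧
        (¬ IsIso ι → Cs < B) ∧
        ShStab.IsHilbPoly k X L T (PP k X L Cs - PP k X L A) := by
    intro T ι hι hT hT0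
    haveI := hι
    have hCs : Good X (preSub hlt.le ι) := by
      have hcok : Coh.IsCoh (cokernel ι) := FtLocal.isCoh_cokernel hT hQc ι
      have := isCoh_kernel k X hB hcok
        (cokernel.π (Subobject.ofLE A B hlt.le) ≫ cokernel.π ι)
      exact isCoh_of_iso' X (preSubIso hlt.le ι).symm this
    refine ⟨preSub hlt.le ι, hCs, lt_preSub_of_not_isZero hlt.le ι hT0, preSub_le hlt.le ι,
      fun hi => preSub_lt_of_not_isIso hlt.le ι hi, ?_⟩
    exact isHilbPoly_sub_left k X L hL.1 (preSubSC hlt.le ι) (preSubSC_shortExact hlt.le ι) hA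
      hCs hT (pp_spec k X L hL hp A hA) (pp_spec k X L hL hp _ hCs)
  refine ⟨hQc, hQ0, ?_, ?_⟩
  · intro T ι hι hT hT0
    obtain ⟨Cs, gCs, hACs, hCsB, -, hpT⟩ := key T ι hι hT hT0
    haveI := hι
    have hα : 0 < StabCat.alpha d (PP k X L Cs - PP k X L A) :=
      (alphaZ_lt_iff k X L hL hp hA gCs).1 (hpu Cs gCs hACs hCsB)
    have hdim : topologicalKrullDim (CohB1.support T) ≤ (d : WithBot ℕ∞) :=
      (dim_le_of_subset (Dv.support_mono ι)).trans (dim_coker_le X hp hlt.le hB)
    exact dim_eq_of_alpha_pos k X L hL T hT hT0 d hdim hpT hα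
  · intro T ι hι hT hT0 hni pT pQ hpT hpQ
    obtain ⟨Cs, gCs, hACs, hCsB, hlt', hpT'⟩ := key T ι hι hT hT0
    have e1 : pT = PP k X L Cs - PP k X L A := isHilbPoly_unique k X L hpT hpT'
    have e2 : pQ = PP k X L B - PP k X L A :=
      isHilbPoly_unique k X L hpQ (isHilbPoly_coker k X L hL hp hlt.le hA hB)
    rw [e1, e2, ← le_iff_redLE k X L hL hp hE hA hB gCs]
    exact hss Cs gCs hACs hCsB

/-- a semistable factor is semistable and pure at the level of the lattice -/
theorem ssf_puf_of_isSemistable {A B : Subobject E} (hA : Good X A) (hB : Good X B)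
    (hle : A ≤ B)
    (h : ShStab.IsSemistable k X L (cokernel (Subobject.ofLE A B hle)) d) :
    (datum k X L hL hp hE).SSf A B ∧ (datum k X L hL hp hE).PUf A B := by
  have key : ∀ Cs : Subobject E, Good X Cs → A < Cs → Cs ≤ B →
      0 < StabCat.alpha d (PP k X L Cs - PP k X L A) ∧
        StabCat.RedLE d (PP k X L Cs - PP k X L A) (PP k X L B - PP k X L A) := by
    intro Cs gCs hACs hCsB
    have hT := isCoh_coker k X hACs.le hA gCs
    have hT0 : ¬ IsZero (cokernel (Subobject.ofLE A Cs hACs.le)) := fun h0 =>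
      not_le_of_gt hACs (le_of_isZero_cokernel_ofLE hACs.le h0)
    have hpT := isHilbPoly_coker k X L hL hp hACs.le hA gCs
    have hdim := h.2.2.1 _ (quotMapSub hACs.le hCsB) inferInstance hT hT0
    have hα := alpha_pos_of_dim k X L hL _ hT d hdim hpT
    refine ⟨hα, ?_⟩
    rcases eq_or_lt_of_le hCsB with e | hlt
    · subst e
      exact ⟨0, fun m _ => le_rfl⟩
    · have hni : ¬ IsIso (quotMapSub hACs.le hCsB) := fun hi =>
        not_le_of_gt hlt (le_of_epi_quotMapSub hACs.le hCsB inferInstance)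
      exact h.2.2.2 _ (quotMapSub hACs.le hCsB) inferInstance hT hT0 hni _ _ hpT
        (isHilbPoly_coker k X L hL hp hle hA hB)
  constructor
  · intro Cs gCs hACs hCsB
    exact (le_iff_redLE k X L hL hp hE hA hB gCs).2 (key Cs gCs hACs hCsB).2
  · intro Cs gCs hACs hCsB
    exact (alphaZ_lt_iff k X L hL hp hA gCs).2 (key Cs gCs hACs hCsB).1

/-- the maximal destabilising element of the lattice is the maximal destabilising submodule -/
theorem isMaxDestab_of_relMax {F : Subobject E} (h : (datum k X L hL hp hE).RelMax ⊥ F) :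
    ShStab.IsMaxDestab k X L E d (F : X.Modules) F.arrow := by
  obtain ⟨gF, hF, hmax⟩ := h
  refine ⟨inferInstance, gF, not_isZero_of_bot_lt X hF, fun G κ hκ hG hG0 pF pG hpF hpG => ?_⟩
  haveI := hκ
  have gCs : Good X (Subobject.mk κ) := isCoh_of_iso' X (Subobject.underlyingIso κ).symm hG
  have hCs : ⊥ < Subobject.mk κ := by
    rw [bot_lt_iff_ne_bot]
    intro he
    rw [Subobject.mk_eq_bot_iff_zero] at he
    exact hG0 (IsZero.of_mono_eq_zero κ he)
  have e1 : pF = PP k X L F - PP k X L (⊥ : Subobject E) := by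
    rw [pp_bot, sub_zero]
    exact isHilbPoly_unique k X L hpF (pp_spec k X L hL hp F gF)
  have e2 : pG = PP k X L (Subobject.mk κ) - PP k X L (⊥ : Subobject E) := by
    rw [pp_bot, sub_zero]
    exact isHilbPoly_unique k X L hpG
      (isHilbPoly_of_iso k X L (Subobject.underlyingIso κ) (pp_spec k X L hL hp _ gCs))
  obtain ⟨h1, h2⟩ := hmax (Subobject.mk κ) gCs hCs
  rw [e1, e2]
  constructor
  · exact (le_iff_redLE k X L hL hp hE (good_bot X) gF gCs).1 h1
  · intro heq
    have hle := h2 ((eq_iff_redEq k X L hL hp hE (good_bot X) gF gCs).2 heq)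
    exact ⟨Subobject.ofMkLE κ F hle, Subobject.ofMkLE_arrow hle⟩

omit [X.Over (Spec (CommRingCat.of k))] [IsProper (X ↘ Spec (CommRingCat.of k))] in
theorem bot_lt_top_of_not_isZero (h0 : ¬ IsZero E) : (⊥ : Subobject E) < ⊤ := by
  rw [bot_lt_iff_ne_bot]
  intro he
  apply h0
  have h1 : IsZero ((⊤ : Subobject E) : X.Modules) := by
    rw [he]
    exact isZero_bot X
  exact IsZero.of_iso h1 (asIso (⊤ : Subobject E).arrow).symm

include hL in
/-- S15200 -/
theorem exists_isMaxDestab (d : ℕ) (E : X.Modules) (hE : Coh.IsCoh E) (h0 : ¬ IsZero E)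
    (hp : ShStab.IsPure X E d) :
    ∃ (F : X.Modules) (ι : F ⟶ E), ShStab.IsMaxDestab k X L E d F ι := by
  obtain ⟨B, hB⟩ := (datum k X L hL hp hE).exists_relMax ⊥ (good_bot X)
    (pureAbove_bot k X L hL hp hE) ⟨⊤, good_top X hE, bot_lt_top_of_not_isZero X h0⟩
  exact ⟨_, _, isMaxDestab_of_relMax k X L hL hp hE hB⟩

end Translate

end Groth.Agent.Lead.HN
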