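import Mathlib
import Groth.Agent.Lib.Lead.HN4

set_option autoImplicit false
set_option backward.isDefEq.respectTransparency.types false
set_option synthInstance.maxHeartbeats 400000
set_option linter.style.haveILetI false
set_option linter.unusedSectionVars false
set_option linter.unusedVariables false

universe u

open CategoryTheory CategoryTheory.Limits AlgebraicGeometry TopologicalSpace Opposite Polynomial

namespace Groth.Agent.Lead.HN

open Groth.Agent.Lead.HP Groth.Agent.Helper1

section Aux

variable {S : Type*} [Lattice S] {K : Type*} [Field K] [LinearOrder K] [IsStrictOrderedRing K]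
  (𝔇 : Datum S K)

theorem Datum.ssf_of_relMax {A B : S} (h : 𝔇.RelMax A B) : 𝔇.SSf A B :=
  fun C hC hAC _ => (h.2.2 C hC hAC).1

theorem Datum.puf_of_pureAbove {A : S} (B : S) (h : 𝔇.PureAbove A) : 𝔇.PUf A B :=
  fun C hC hAC _ => h C hC hAC

end Aux

section Series

variable {E : Type*} [PartialOrder E] [OrderTop E]

open Classical in
/-- the sequence of terms of a series, extended by `⊤` -/
noncomputable def gOf (t : LTSeries E) : ℕ → E :=
  fun i => if h : i < t.length + 1 then t ⟨i, h⟩ else ⊤

theorem gOf_val (t : LTSeries E) (i : Fin (t.length + 1)) : gOf t i.val = t i := by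
  unfold gOf
  rw [dif_pos i.isLt]

theorem gOf_castSucc (t : LTSeries E) (i : Fin t.length) : gOf t i.val = t i.castSucc :=
  gOf_val t i.castSucc

theorem gOf_succ (t : LTSeries E) (i : Fin t.length) : gOf t (i.val + 1) = t i.succ :=
  gOf_val t i.succ

end Series

section HNFilt

variable (k : Type u) [Field k] (X : Scheme.{u}) [X.Over (Spec (CommRingCat.of k))]
  [IsProper (X ↘ Spec (CommRingCat.of k))] (L : X.Modules) {E : X.Modules}
  (hL : CohB1.IsAmple L) {d : ℕ} (hp : ShStab.IsPure X E d) (hE : Coh.IsCoh E)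

/-- a chain of maximal destabilising steps is a Harder–Narasimhan filtration -/
theorem isHNFiltration_mk (N : ℕ) (f : ℕ → Subobject E) (hf0 : f 0 = ⊥) (hfN : f N = ⊤)
    (hf : ∀ i, i < N → (datum k X L hL hp hE).RelMax (f i) (f (i + 1)) ∧
      (datum k X L hL hp hE).good (f i) ∧ (datum k X L hL hp hE).PureAbove (f i))
    (hmono : StrictMono (fun i : Fin (N + 1) => f i)) :
    ShStab.IsHNFiltration k X L E d (LTSeries.mk N (fun i : Fin (N + 1) => f i) hmono) := by
  refine ⟨?_, ?_, ?_, ?_⟩
  · exact hf0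
  · exact hfN
  · intro i
    have h := hf i.val i.isLt
    exact isSemistable_factor k X L hL hp hE h.2.1 h.1.1 h.1.2.1
      ((datum k X L hL hp hE).ssf_of_relMax h.1)
      ((datum k X L hL hp hE).puf_of_pureAbove _ h.2.2)
  · intro i j hij p q hp' hq'
    have hi := hf i.val i.isLt
    have hj := hf j.val j.isLt
    have hj' : (datum k X L hL hp hE).RelMax (f (i.val + 1)) (f (i.val + 1 + 1)) := by
      rw [hij]
      exact hj.1
    have hdec := (datum k X L hL hp hE).slope_decreasing hi.1 hj'
    have hgD : Good X (f (i.val + 1 + 1)) := hj'.1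
    rw [lt_iff_redLT k X L hL hp hE hi.2.1 hi.1.1 hgD] at hdec
    have e1 : p = PP k X L (f (i.val + 1)) - PP k X L (f i.val) :=
      isHilbPoly_unique k X L hp' (isHilbPoly_coker k X L hL hp hi.1.2.1.le hi.2.1 hi.1.1)
    have e2 : q = PP k X L (f (i.val + 1 + 1)) - PP k X L (f (i.val + 1)) := by
      have hq'' : ShStab.IsHilbPoly k X L
          (cokernel (Subobject.ofLE (f j.val) (f (j.val + 1)) hj.1.2.1.le)) q := hq'
      have := isHilbPoly_unique k X L hq''
        (isHilbPoly_coker k X L hL hp hj.1.2.1.le hj.2.1 hj.1.1)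
      rw [this, ← hij]
    rw [e1, e2]
    exact hdec

/-- the steps of a Harder–Narasimhan filtration are maximal destabilising -/
theorem relMax_of_isHNFiltration (t : LTSeries (Subobject E))
    (ht : ShStab.IsHNFiltration k X L E d t) :
    gOf t 0 = ⊥ ∧ gOf t t.length = ⊤ ∧
      ∀ i, i < t.length → (datum k X L hL hp hE).RelMax (gOf t i) (gOf t (i + 1)) := by
  obtain ⟨hhead, hlast, hss, hdec⟩ := ht
  have good_t : ∀ i : Fin (t.length + 1), Good X (t i) := by
    intro i
    induction i using Fin.induction with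
    | zero =>
      have : t 0 = ⊥ := hhead
      rw [this]
      exact good_bot X
    | succ i ih =>
      have hF : Coh.IsCoh (cokernel (Subobject.ofLE (t i.castSucc) (t i.succ)
          (le_of_lt (t.step i)))) := (hss i).1
      exact isCoh_X₂ k X (cokerSC_shortExact (Subobject.ofLE (t i.castSucc) (t i.succ)
        (le_of_lt (t.step i)))) ih hF
  have sp : ∀ i : Fin t.length, (datum k X L hL hp hE).SSf (t i.castSucc) (t i.succ) ∧
      (datum k X L hL hp hE).PUf (t i.castSucc) (t i.succ) := fun i =>
    ssf_puf_of_isSemistable k X L hL hp hE (good_t _) (good_t _) (le_of_lt (t.step i)) (hss i)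
  have dec : ∀ i j : Fin t.length, i.val + 1 = j.val →
      (datum k X L hL hp hE).a (t i.castSucc) (t i.succ) *
          (datum k X L hL hp hE).w (t i.succ) (t j.succ) <
        (datum k X L hL hp hE).a (t i.succ) (t j.succ) *
          (datum k X L hL hp hE).w (t i.castSucc) (t i.succ) := by
    intro i j hij
    have e : j.castSucc = i.succ := Fin.ext (by simp [hij])
    have h := hdec i j hij _ _
      (isHilbPoly_coker k X L hL hp (le_of_lt (t.step i)) (good_t _) (good_t _))
      (isHilbPoly_coker k X L hL hp (le_of_lt (t.step j)) (good_t _) (good_t _))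
    rw [e] at h
    exact (lt_iff_redLT k X L hL hp hE (good_t _) (good_t _) (good_t _)).2 h
  have hcs : ∀ (i : ℕ) (hi : i < t.length),
      gOf t i = t (⟨i, hi⟩ : Fin t.length).castSucc := fun i hi => gOf_castSucc t ⟨i, hi⟩
  have hsu : ∀ (i : ℕ) (hi : i < t.length),
      gOf t (i + 1) = t (⟨i, hi⟩ : Fin t.length).succ := fun i hi => gOf_succ t ⟨i, hi⟩
  have h0 : gOf t 0 = ⊥ := by
    have e : gOf t 0 = t 0 := gOf_val t 0
    rw [e]
    exact hhead
  have hN : gOf t t.length = ⊤ := by
    have e : gOf t t.length = t (Fin.last t.length) := gOf_val t (Fin.last t.length)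
    rw [e]
    exact hlast
  refine ⟨h0, hN, fun j hj => ?_⟩
  apply (datum k X L hL hp hE).relMax_of_chain t.length (gOf t)
  · intro i hi
    have e : gOf t i = t ⟨i, Nat.lt_succ_of_le hi⟩ := gOf_val t ⟨i, Nat.lt_succ_of_le hi⟩
    rw [e]
    exact good_t _
  · intro i hi
    rw [hcs i hi, hsu i hi]
    exact t.step ⟨i, hi⟩
  · exact hN
  · intro i hi
    rw [hcs i hi, hsu i hi]
    exact (sp ⟨i, hi⟩).1
  · intro i hi
    rw [hcs i hi, hsu i hi]
    exact (sp ⟨i, hi⟩).2
  · intro i hi
    have hi' : i < t.length := by omega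
    rw [hcs i hi', hsu i hi', hsu (i + 1) hi]
    exact dec ⟨i, hi'⟩ ⟨i + 1, hi⟩ rfl
  · exact hj

include hL hp hE in
/-- two Harder–Narasimhan filtrations coincide -/
theorem hnFiltration_unique (t₁ t₂ : LTSeries (Subobject E))
    (h₁ : ShStab.IsHNFiltration k X L E d t₁) (h₂ : ShStab.IsHNFiltration k X L E d t₂) :
    t₁ = t₂ := by
  obtain ⟨a0, aN, ar⟩ := relMax_of_isHNFiltration k X L hL hp hE t₁ h₁
  obtain ⟨b0, bN, br⟩ := relMax_of_isHNFiltration k X L hL hp hE t₂ h₂
  obtain ⟨hlen, heq⟩ := (datum k X L hL hp hE).chain_unique t₁.length t₂.length (gOf t₁) (gOf t₂)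
    (a0.trans b0.symm) aN bN ar br
  refine RelSeries.ext hlen (funext fun i => ?_)
  have h1 := heq i.val (Nat.le_of_lt_succ i.isLt)
  rw [gOf_val t₁ i] at h1
  change t₁ i = t₂ (Fin.cast (by rw [hlen]) i)
  rw [h1]
  exact gOf_val t₂ (Fin.cast (by rw [hlen]) i)

include hL in
/-- S15191 -/
theorem existsUnique_isHNFiltration (d : ℕ) (E : X.Modules) (hE : Coh.IsCoh E)
    (hp : ShStab.IsPure X E d) :
    ∃! s : LTSeries (Subobject E), ShStab.IsHNFiltration k X L E d s := by
  obtain ⟨N, f, hf0, hfN, hf⟩ := (datum k X L hL hp hE).exists_hnSeq (good_bot X)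
    (good_top X hE) (pureAbove_bot k X L hL hp hE)
  have hmono : StrictMono (fun i : Fin (N + 1) => f i) := by
    rw [Fin.strictMono_iff_lt_succ]
    intro i
    exact (hf i.val i.isLt).1.2.1
  have hs := isHNFiltration_mk k X L hL hp hE N f hf0 hfN hf hmono
  exact ⟨_, hs, fun t ht => hnFiltration_unique k X L hL hp hE t _ ht hs⟩

end HNFilt

end Groth.Agent.Lead.HN
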