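import Mathlib
import Groth.Agent.Lib.Lead.HN5

set_option autoImplicit false
set_option backward.isDefEq.respectTransparency.types false
set_option synthInstance.maxHeartbeats 400000
set_option linter.style.haveILetI false
set_option linter.unusedSectionVars false
set_option linter.unusedVariables false

universe u

open CategoryTheory CategoryTheory.Limits AlgebraicGeometry TopologicalSpace Opposite Polynomial

namespace Groth.Agent.Lead.HN

open Groth.Agent.Lead.HP Groth.Agent.Helper1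

section Arith

theorem redLE_quot_iff (d : ℕ) (pF pE : ℚ[X]) :
    StabCat.RedLE d pE (pE - pF) ↔ StabCat.RedLE d pF pE := by
  rw [redLE_iff, redLE_iff, alpha_sub, map_sub]
  push_cast
  constructor <;> intro h <;> nlinarith [h]

theorem redLT_quot_iff (d : ℕ) (pF pE : ℚ[X]) :
    StabCat.RedLT d pE (pE - pF) ↔ StabCat.RedLT d pF pE := by
  rw [redLT_iff, redLT_iff, alpha_sub, map_sub]
  push_cast
  constructor <;> intro h <;> nlinarith [h]

theorem ratCast_nonneg_GK {a : ℚ} (h : 0 ≤ a) : (0 : GK) ≤ (a : GK) := by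
  exact_mod_cast h

theorem ratCast_pos_GK {a : ℚ} (h : 0 < a) : (0 : GK) < (a : GK) := by
  exact_mod_cast h

theorem redLE_trans {d : ℕ} {p q r : ℚ[X]} (hq : 0 < StabCat.alpha d q)
    (hp : 0 ≤ StabCat.alpha d p) (hr : 0 ≤ StabCat.alpha d r)
    (h1 : StabCat.RedLE d p q) (h2 : StabCat.RedLE d q r) : StabCat.RedLE d p r := by
  rw [redLE_iff] at h1 h2 ⊢
  have hq' := ratCast_pos_GK hq
  have hp' := ratCast_nonneg_GK hp
  have hr' := ratCast_nonneg_GK hr
  have e1 := mul_le_mul_of_nonneg_left h1 hr'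
  have e2 := mul_le_mul_of_nonneg_left h2 hp'
  have e3 : (StabCat.alpha d q : GK) * ((StabCat.alpha d r : GK) * germ p) ≤
      (StabCat.alpha d q : GK) * ((StabCat.alpha d p : GK) * germ r) := by
    nlinarith [e1, e2]
  exact le_of_mul_le_mul_left e3 hq'

theorem redLT_of_redLE_of_redLT {d : ℕ} {p q r : ℚ[X]} (hq : 0 < StabCat.alpha d q)
    (hp : 0 < StabCat.alpha d p) (hr : 0 ≤ StabCat.alpha d r)
    (h1 : StabCat.RedLE d p q) (h2 : StabCat.RedLT d q r) : StabCat.RedLT d p r := by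
  rw [redLE_iff] at h1
  rw [redLT_iff] at h2 ⊢
  have hq' := ratCast_pos_GK hq
  have hp' := ratCast_pos_GK hp
  have hr' := ratCast_nonneg_GK hr
  have e1 := mul_le_mul_of_nonneg_left h1 hr'
  have e2 := mul_lt_mul_of_pos_left h2 hp'
  have e3 : (StabCat.alpha d q : GK) * ((StabCat.alpha d r : GK) * germ p) <
      (StabCat.alpha d q : GK) * ((StabCat.alpha d p : GK) * germ r) := by
    nlinarith [e1, e2]
  exact lt_of_mul_lt_mul_left e3 hq'.le

theorem redLE_of_alpha_eq {d : ℕ} {p q : ℚ[X]} (hα : StabCat.alpha d q = StabCat.alpha d p)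
    (h0 : 0 ≤ StabCat.alpha d p) (h : EvNonneg (q - p)) : StabCat.RedLE d p q := by
  rw [redLE_iff, hα]
  have h1 : germ p ≤ germ q := by
    rw [← sub_nonneg, ← map_sub]
    exact germ_nonneg_of_evNonneg h
  exact mul_le_mul_of_nonneg_left h1 (ratCast_nonneg_GK h0)

theorem redLT_of_alpha_eq {d : ℕ} {p q : ℚ[X]} (hα : StabCat.alpha d q = StabCat.alpha d p)
    (h0 : 0 < StabCat.alpha d p) (h : EvPos (q - p)) : StabCat.RedLT d p q := by
  rw [redLT_iff, hα]
  have h1 : germ p < germ q := by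
    rw [← sub_pos, ← map_sub]
    exact germ_pos_of_evPos h
  exact mul_lt_mul_of_pos_left h1 (ratCast_pos_GK h0)

end Arith

section Pure

variable (k : Type u) [Field k] (X : Scheme.{u}) [X.Over (Spec (CommRingCat.of k))]
  [IsProper (X ↘ Spec (CommRingCat.of k))] (L : X.Modules) {E : X.Modules}
  (hL : CohB1.IsAmple L) {d : ℕ} (hp : ShStab.IsPure X E d) (hE : Coh.IsCoh E)

include hL hp in
/-- the interval attached to a coherent submodule of a quotient -/
theorem exists_preSub {A B : Subobject E} (hA : Good X A) (hB : Good X B) (hle : A ≤ B)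
    (T : X.Modules) (ι : T ⟶ cokernel (Subobject.ofLE A B hle)) [Mono ι]
    (hT : Coh.IsCoh T) (hT0 : ¬ IsZero T) :
    ∃ Cs : Subobject E, Good X Cs ∧ A < Cs ∧ Cs ≤ B ∧ (¬ IsIso ι → Cs < B) ∧
      ShStab.IsHilbPoly k X L T (PP k X L Cs - PP k X L A) := by
  haveI := Euler.isNoetherian_of_proper k X
  have hQc := isCoh_coker k X hle hA hB
  have hCs : Good X (preSub hle ι) := by
    have hcok : Coh.IsCoh (cokernel ι) := FtLocal.isCoh_cokernel hT hQc ι
    have := isCoh_kernel k X hB hcok (cokernel.π (Subobject.ofLE A B hle) ≫ cokernel.π ι)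
    exact isCoh_of_iso' X (preSubIso hle ι).symm this
  refine ⟨preSub hle ι, hCs, lt_preSub_of_not_isZero hle ι hT0, preSub_le hle ι,
    fun hi => preSub_lt_of_not_isIso hle ι hi, ?_⟩
  exact isHilbPoly_sub_left k X L hL.1 (preSubSC hle ι) (preSubSC_shortExact hle ι) hA
    hCs hT (pp_spec k X L hL hp A hA) (pp_spec k X L hL hp _ hCs)

/-- purity of a factor from purity at the level of the lattice -/
theorem isPure_coker_of_puf {A B : Subobject E} (hA : Good X A) (hB : Good X B) (hle : A ≤ B)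
    (hpu : (datum k X L hL hp hE).PUf A B) :
    ShStab.IsPure X (cokernel (Subobject.ofLE A B hle)) d := by
  intro T ι hι hT hT0
  haveI := hι
  obtain ⟨Cs, gCs, hACs, hCsB, -, hpT⟩ := exists_preSub k X L hL hp hA hB hle T ι hT hT0
  have hα : 0 < StabCat.alpha d (PP k X L Cs - PP k X L A) :=
    (alphaZ_lt_iff k X L hL hp hA gCs).1 (hpu Cs gCs hACs hCsB)
  have hdim : topologicalKrullDim (CohB1.support T) ≤ (d : WithBot ℕ∞) :=
    (dim_le_of_subset (Dv.support_mono ι)).trans (dim_coker_le X hp hle hB)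
  exact dim_eq_of_alpha_pos k X L hL T hT hT0 d hdim hpT hα

omit [X.Over (Spec (CommRingCat.of k))] [IsProper (X ↘ Spec (CommRingCat.of k))] in
theorem isPure_of_iso {G G' : X.Modules} (e : G ≅ G') {d : ℕ} (h : ShStab.IsPure X G d) :
    ShStab.IsPure X G' d :=
  fun F ι hι hF h0 => by
    haveI := hι
    exact h F (ι ≫ e.inv) (mono_comp _ _) hF h0

/-- the quotient by a subobject, computed inside the lattice -/
noncomputable def cokerTopIso (A : Subobject E) :
    cokernel (Subobject.ofLE A ⊤ le_top) ≅ cokernel A.arrow :=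
  cokernel.mapIso _ _ (Iso.refl _) (asIso (⊤ : Subobject E).arrow) (by
    rw [asIso_hom, Subobject.ofLE_arrow, Iso.refl_hom, Category.id_comp])

include hL hp hE in
theorem pp_top {pE : ℚ[X]} (hpE : ShStab.IsHilbPoly k X L E pE) :
    PP k X L (⊤ : Subobject E) = pE :=
  isHilbPoly_unique k X L
    (isHilbPoly_of_iso k X L (asIso (⊤ : Subobject E).arrow)
      (pp_spec k X L hL hp _ (good_top X hE))) hpE

include hL hp in
theorem pp_mk {F : X.Modules} (ι : F ⟶ E) [Mono ι] (hF : Coh.IsCoh F) {pF : ℚ[X]}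
    (hpF : ShStab.IsHilbPoly k X L F pF) :
    Good X (Subobject.mk ι) ∧ PP k X L (Subobject.mk ι) = pF := by
  have g : Good X (Subobject.mk ι) := isCoh_of_iso' X (Subobject.underlyingIso ι).symm hF
  exact ⟨g, isHilbPoly_unique k X L
    (isHilbPoly_of_iso k X L (Subobject.underlyingIso ι) (pp_spec k X L hL hp _ g)) hpF⟩

omit [X.Over (Spec (CommRingCat.of k))] [IsProper (X ↘ Spec (CommRingCat.of k))] in
theorem bot_lt_mk {F : X.Modules} (ι : F ⟶ E) [Mono ι] (hF0 : ¬ IsZero F) :
    ⊥ < Subobject.mk ι := by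
  rw [bot_lt_iff_ne_bot]
  intro he
  rw [Subobject.mk_eq_bot_iff_zero] at he
  exact hF0 (IsZero.of_mono_eq_zero ι he)

end Pure

section TFAE

variable (k : Type u) [Field k] (X : Scheme.{u}) [X.Over (Spec (CommRingCat.of k))]
  [IsProper (X ↘ Spec (CommRingCat.of k))] (L : X.Modules) {E : X.Modules}
  (hL : CohB1.IsAmple L) {d : ℕ} (hp : ShStab.IsPure X E d) (hE : Coh.IsCoh E)

include hL hp hE in
/-- the saturation argument: it suffices to test saturated submodules -/
theorem sat_reduction (rel : ℚ[X] → ℚ[X] → Prop)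
    (hrel : ∀ {p q r : ℚ[X]}, 0 < StabCat.alpha d q → 0 < StabCat.alpha d p →
      0 ≤ StabCat.alpha d r → StabCat.RedLE d p q → rel q r → rel p r)
    (hrel0 : ∀ {p q : ℚ[X]}, StabCat.alpha d q = StabCat.alpha d p → 0 < StabCat.alpha d p →
      EvPos (q - p) → rel p q)
    (h2 : ∀ (F : X.Modules) (ι : F ⟶ E), Mono ι → Coh.IsCoh F → ¬ IsZero F → ¬ IsIso ι →
      ShStab.IsPure X (cokernel ι) d →
      ∀ (pF pE : ℚ[X]), ShStab.IsHilbPoly k X L F pF → ShStab.IsHilbPoly k X L E pE → rel pF pE)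
    (F : X.Modules) (ι : F ⟶ E) (hι : Mono ι) (hF : Coh.IsCoh F) (hF0 : ¬ IsZero F)
    (hni : ¬ IsIso ι) (pF pE : ℚ[X]) (hpF : ShStab.IsHilbPoly k X L F pF)
    (hpE : ShStab.IsHilbPoly k X L E pE) : rel pF pE := by
  haveI := hι
  obtain ⟨gFs, hpFs⟩ := pp_mk k X L hL hp ι hF hpF
  have hpT := pp_top k X L hL hp hE hpE
  obtain ⟨F', gF', hle, hα, hpure⟩ := (datum k X L hL hp hE).exists_saturation _ gFs
  have hFs0 : ⊥ < Subobject.mk ι := bot_lt_mk X ι hF0
  have facts := facts_le k X L hL hp hle gFs gF'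
  have hαeq : StabCat.alpha d (PP k X L F') = StabCat.alpha d (PP k X L (Subobject.mk ι)) := by
    have hα' : αZ k X L d F' = αZ k X L d (Subobject.mk ι) := hα
    rw [alphaZ_spec k X L hL hp _ gF', alphaZ_spec k X L hL hp _ gFs, hα']
  have hαpos : 0 < StabCat.alpha d (PP k X L (Subobject.mk ι)) :=
    alpha_pos_of_bot_lt k X L hL hp _ gFs hFs0
  have h1 : StabCat.RedLE d (PP k X L (Subobject.mk ι)) (PP k X L F') :=
    redLE_of_alpha_eq hαeq hαpos.le facts.2.1
  have hαE : 0 ≤ StabCat.alpha d pE := by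
    rw [← hpT]
    exact (pp_facts k X L hL hp _ (good_top X hE)).2.2.1
  rw [← hpFs]
  by_cases htop : F' = ⊤
  · -- the quotient has smaller dimension
    have hlt : Subobject.mk ι < ⊤ := by
      rw [lt_top_iff_ne_top]
      intro he
      exact hni ((Subobject.isIso_iff_mk_eq_top ι).2 he)
    have hpos := (facts_le k X L hL hp le_top gFs (good_top X hE)).2.2.2 hlt
    rw [hpT] at hpos
    apply hrel0 _ hαpos hpos
    rw [← hpT, ← htop]
    exact hαeq
  · have hpureQ : ShStab.IsPure X (cokernel F'.arrow) d :=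
      isPure_of_iso X (cokerTopIso X F')
        (isPure_coker_of_puf k X L hL hp hE gF' (good_top X hE) le_top
          ((datum k X L hL hp hE).puf_of_pureAbove ⊤ hpure))
    have hni' : ¬ IsIso F'.arrow := by
      rw [Subobject.isIso_arrow_iff_eq_top]
      exact htop
    have hF'0 : ¬ IsZero (F' : X.Modules) :=
      not_isZero_of_bot_lt X (lt_of_lt_of_le hFs0 hle)
    have h2' := h2 (F' : X.Modules) F'.arrow inferInstance gF' hF'0 hni' hpureQ (PP k X L F') pE
      (pp_spec k X L hL hp _ gF') hpE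
    exact hrel (by rw [hαeq]; exact hαpos) hαpos hαE h1 h2'

include hL in
/-- S15197 -/
theorem tfae_semistable (d : ℕ) (E : X.Modules) (hE : Coh.IsCoh E) (h0 : ¬ IsZero E)
    (hp : ShStab.IsPure X E d) :
    [ShStab.IsSemistable k X L E d,
      ∀ (F : X.Modules) (ι : F ⟶ E), Mono ι → Coh.IsCoh F → ¬ IsZero F → ¬ IsIso ι →
        ShStab.IsPure X (cokernel ι) d →
        ∀ (pF pE : ℚ[X]), ShStab.IsHilbPoly k X L F pF → ShStab.IsHilbPoly k X L E pE →
          StabCat.RedLE d pF pE,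
      ∀ (G : X.Modules) (π : E ⟶ G), Epi π → Coh.IsCoh G → ¬ IsIso π →
        ∀ (pE pG : ℚ[X]), ShStab.IsHilbPoly k X L E pE → ShStab.IsHilbPoly k X L G pG →
          0 < StabCat.alpha d pG → StabCat.RedLE d pE pG,
      ∀ (G : X.Modules) (π : E ⟶ G), Epi π → Coh.IsCoh G → ¬ IsZero G → ¬ IsIso π →
        ShStab.IsPure X G d →
        ∀ (pE pG : ℚ[X]), ShStab.IsHilbPoly k X L E pE → ShStab.IsHilbPoly k X L G pG →
          StabCat.RedLE d pE pG].TFAE := by
  haveI := Euler.isNoetherian_of_proper k X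
  tfae_have 1 → 2 := fun h F ι hι hF hF0 hni _ pF pE hpF hpE =>
    h.2.2.2 F ι hι hF hF0 hni pF pE hpF hpE
  tfae_have 2 → 1 := by
    intro h2
    refine ⟨hE, h0, hp, fun F ι hι hF hF0 hni pF pE hpF hpE => ?_⟩
    exact sat_reduction k X L hL hp hE (StabCat.RedLE d)
      (fun hq hp' hr h1 h2 => redLE_trans hq hp'.le hr h1 h2)
      (fun hα h0 h => redLE_of_alpha_eq hα h0.le h.evNonneg) h2 F ι hι hF hF0 hni pF pE hpF hpE
  tfae_have 1 → 3 := by
    intro h G π hπ hG hni pE pG hpE hpG hα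
    haveI := hπ
    have hK := isCoh_kernel k X hE hG π
    obtain ⟨pK, hpK⟩ := exists_isHilbPoly_sub k X L hL hp (kernel.ι π) hK
    have hS : (ShortComplex.mk (kernel.ι π) π (kernel.condition π)).ShortExact :=
      { exact := ShortComplex.exact_of_f_is_kernel _ (kernelIsKernel π)
        mono_f := inferInstanceAs (Mono (kernel.ι π))
        epi_g := inferInstanceAs (Epi π) }
    have hpG' : pG = pE - pK := isHilbPoly_unique k X L hpG
      (isHilbPoly_sub_left k X L hL.1 _ hS hK hE hG hpK hpE)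
    rw [hpG', redLE_quot_iff]
    exact redLE_of_sub k X L h (kernel.ι π) hK hpK hpE
  tfae_have 3 → 4 := by
    intro h3 G π hπ hG hG0 hni hGp pE pG hpE hpG
    exact h3 G π hπ hG hni pE pG hpE hpG
      (alpha_pos_of_dim k X L hL G hG d (hGp G (𝟙 G) inferInstance hG hG0) hpG)
  tfae_have 4 → 2 := by
    intro h4 F ι hι hF hF0 hni hQp pF pE hpF hpE
    haveI := hι
    have hQ : Coh.IsCoh (cokernel ι) := FtLocal.isCoh_cokernel hF hE ι
    have hQ0 : ¬ IsZero (cokernel ι) := fun hz => hni (isIso_of_isZero_cokernel ι hz)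
    have hπni : ¬ IsIso (cokernel.π ι) := by
      intro hi
      have : ι = 0 := by
        rw [← cancel_mono (cokernel.π ι), cokernel.condition, Limits.zero_comp]
      exact hF0 (IsZero.of_mono_eq_zero ι this)
    have hpQ := isHilbPoly_sub_left k X L hL.1 (cokerSC ι) (cokerSC_shortExact ι) hF hE hQ hpF hpE
    have := h4 (cokernel ι) (cokernel.π ι) inferInstance hQ hQ0 hπni hQp pE (pE - pF) hpE hpQ
    rwa [redLE_quot_iff] at this
  tfae_finish

include hL in
/-- S15198 -/
theorem tfae_stable (d : ℕ) (E : X.Modules) (hE : Coh.IsCoh E) (h0 : ¬ IsZero E)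
    (hp : ShStab.IsPure X E d) :
    [ShStab.IsStable k X L E d,
      ∀ (F : X.Modules) (ι : F ⟶ E), Mono ι → Coh.IsCoh F → ¬ IsZero F → ¬ IsIso ι →
        ShStab.IsPure X (cokernel ι) d →
        ∀ (pF pE : ℚ[X]), ShStab.IsHilbPoly k X L F pF → ShStab.IsHilbPoly k X L E pE →
          StabCat.RedLT d pF pE,
      ∀ (G : X.Modules) (π : E ⟶ G), Epi π → Coh.IsCoh G → ¬ IsIso π →
        ∀ (pE pG : ℚ[X]), ShStab.IsHilbPoly k X L E pE → ShStab.IsHilbPoly k X L G pG →
          0 < StabCat.alpha d pG → StabCat.RedLT d pE pG,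
      ∀ (G : X.Modules) (π : E ⟶ G), Epi π → Coh.IsCoh G → ¬ IsZero G → ¬ IsIso π →
        ShStab.IsPure X G d →
        ∀ (pE pG : ℚ[X]), ShStab.IsHilbPoly k X L E pE → ShStab.IsHilbPoly k X L G pG →
          StabCat.RedLT d pE pG].TFAE := by
  haveI := Euler.isNoetherian_of_proper k X
  tfae_have 1 → 2 := fun h F ι hι hF hF0 hni _ pF pE hpF hpE =>
    h.2.2.2 F ι hι hF hF0 hni pF pE hpF hpE
  tfae_have 2 → 1 := by
    intro h2
    refine ⟨hE, h0, hp, fun F ι hι hF hF0 hni pF pE hpF hpE => ?_⟩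
    exact sat_reduction k X L hL hp hE (StabCat.RedLT d)
      (fun hq hp' hr h1 h2 => redLT_of_redLE_of_redLT hq hp' hr h1 h2)
      (fun hα h0 h => redLT_of_alpha_eq hα h0 h) h2 F ι hι hF hF0 hni pF pE hpF hpE
  tfae_have 1 → 3 := by
    intro h G π hπ hG hni pE pG hpE hpG hα
    haveI := hπ
    have hK := isCoh_kernel k X hE hG π
    obtain ⟨pK, hpK⟩ := exists_isHilbPoly_sub k X L hL hp (kernel.ι π) hK
    have hS : (ShortComplex.mk (kernel.ι π) π (kernel.condition π)).ShortExact :=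
      { exact := ShortComplex.exact_of_f_is_kernel _ (kernelIsKernel π)
        mono_f := inferInstanceAs (Mono (kernel.ι π))
        epi_g := inferInstanceAs (Epi π) }
    have hpG' : pG = pE - pK := isHilbPoly_unique k X L hpG
      (isHilbPoly_sub_left k X L hL.1 _ hS hK hE hG hpK hpE)
    have hK0 : ¬ IsZero (kernel π) := by
      intro hz
      haveI := mono_of_isZero_kernel X π hz
      exact hni (isIso_of_mono_of_epi π)
    have hKni : ¬ IsIso (kernel.ι π) := by
      intro hi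
      have hπ0 : π = 0 := by
        rw [← cancel_epi (kernel.ι π), kernel.condition, Limits.comp_zero]
      have hG0 : IsZero G := IsZero.of_epi_eq_zero π hπ0
      rw [isHilbPoly_zero_unique k X L hG0 hpG, alpha_zero] at hα
      exact lt_irrefl _ hα
    rw [hpG', redLT_quot_iff]
    exact h.2.2.2 (kernel π) (kernel.ι π) inferInstance hK hK0 hKni pK pE hpK hpE
  tfae_have 3 → 4 := by
    intro h3 G π hπ hG hG0 hni hGp pE pG hpE hpG
    exact h3 G π hπ hG hni pE pG hpE hpG
      (alpha_pos_of_dim k X L hL G hG d (hGp G (𝟙 G) inferInstance hG hG0) hpG)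
  tfae_have 4 → 2 := by
    intro h4 F ι hι hF hF0 hni hQp pF pE hpF hpE
    haveI := hι
    have hQ : Coh.IsCoh (cokernel ι) := FtLocal.isCoh_cokernel hF hE ι
    have hQ0 : ¬ IsZero (cokernel ι) := fun hz => hni (isIso_of_isZero_cokernel ι hz)
    have hπni : ¬ IsIso (cokernel.π ι) := by
      intro hi
      have : ι = 0 := by
        rw [← cancel_mono (cokernel.π ι), cokernel.condition, Limits.zero_comp]
      exact hF0 (IsZero.of_mono_eq_zero ι this)
    have hpQ := isHilbPoly_sub_left k X L hL.1 (cokerSC ι) (cokerSC_shortExact ι) hF hE hQ hpF hpE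
    have := h4 (cokernel ι) (cokernel.π ι) inferInstance hQ hQ0 hπni hQp pE (pE - pF) hpE hpQ
    rwa [redLT_quot_iff] at this
  tfae_finish

end TFAE

end Groth.Agent.Lead.HN
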