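import Mathlib
import Groth.Agent.Lib.Lead.HN6
import Groth.Agent.Lib.Lead.HN5

set_option autoImplicit false
set_option backward.isDefEq.respectTransparency.types false
set_option synthInstance.maxHeartbeats 400000
set_option linter.style.haveILetI false
set_option linter.unusedSectionVars false
set_option linter.unusedVariables false

universe u

open CategoryTheory CategoryTheory.Limits AlgebraicGeometry TopologicalSpace Opposite Polynomial

namespace Groth.Agent.Lead.HN

open Groth.Agent.Lead.HP Groth.Agent.Helper1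

section Lat

variable {S : Type*} [Lattice S] [BoundedOrder S] {K : Type*} [Field K] [LinearOrder K]
  [IsStrictOrderedRing K] (𝔇 : Datum S K)

/-- all terms of a chain of maximal destabilising steps are good -/
theorem Datum.good_of_chain (N : ℕ) (f : ℕ → S) (hg0 : 𝔇.good (f 0))
    (hf : ∀ i, i < N → 𝔇.RelMax (f i) (f (i + 1))) : ∀ i, i ≤ N → 𝔇.good (f i) := by
  intro i
  cases i with
  | zero => intro _; exact hg0
  | succ n => intro h; exact (hf n (by omega)).1

/-- all terms of a chain of maximal destabilising steps have pure quotient -/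
theorem Datum.pureAbove_of_chain (N : ℕ) (f : ℕ → S) (hp0 : 𝔇.PureAbove (f 0))
    (hf : ∀ i, i < N → 𝔇.RelMax (f i) (f (i + 1))) : ∀ i, i ≤ N → 𝔇.PureAbove (f i) := by
  intro i
  induction i with
  | zero => intro _; exact hp0
  | succ n ih => intro h; exact 𝔇.pureAbove_of_relMax (ih (by omega)) (hf n (by omega))

/-- every quotient of the top has reduced value at least that of the last Harder–Narasimhan
factor -/
theorem Datum.quot_bound (M : ℕ) (f : ℕ → S) (hg0 : 𝔇.good (f 0)) (hp0 : 𝔇.PureAbove (f 0))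
    (hfN : f (M + 1) = ⊤) (hf : ∀ i, i < M + 1 → 𝔇.RelMax (f i) (f (i + 1)))
    (C : S) (hC : 𝔇.good C) (h0C : f 0 ≤ C) :
    𝔇.a C ⊤ * 𝔇.w (f M) ⊤ ≤ 𝔇.a (f M) ⊤ * 𝔇.w C ⊤ := by
  have hgood := 𝔇.good_of_chain (M + 1) f hg0 hf
  have hpure := 𝔇.pureAbove_of_chain (M + 1) f hp0 hf
  have apos : ∀ i, i < M + 1 → 0 < 𝔇.a (f i) (f (i + 1)) := fun i hi =>
    𝔇.a_pos (hpure i hi.le) (hf i hi).1 (hf i hi).2.1
  let μ : ℕ → K := fun i => 𝔇.r (f i) (f (i + 1))
  have hμ : ∀ i, i + 1 < M + 1 → μ (i + 1) < μ i := by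
    intro i hi
    change 𝔇.r (f (i + 1)) (f (i + 1 + 1)) < 𝔇.r (f i) (f (i + 1))
    unfold Datum.r
    rw [div_lt_div_iff₀ (apos (i + 1) hi) (apos i (by omega))]
    have := 𝔇.slope_decreasing (hf i (by omega)) (hf (i + 1) hi)
    linarith [mul_comm (𝔇.a (f i) (f (i + 1))) (𝔇.w (f (i + 1)) (f (i + 1 + 1))),
      mul_comm (𝔇.a (f (i + 1)) (f (i + 1 + 1))) (𝔇.w (f i) (f (i + 1)))]
  have hanti : ∀ ℓ i, i < ℓ → ℓ < M + 1 → μ ℓ < μ i := by
    intro ℓ
    induction ℓ with
    | zero => intro i hi; omega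
    | succ n ih =>
      intro i hi hn
      rcases Nat.lt_succ_iff_lt_or_eq.1 hi with h | h
      · exact (hμ n hn).trans (ih i h (by omega))
      · subst h
        exact hμ i hn
  have hmin : ∀ i, i ≤ M → μ M ≤ μ i := by
    intro i hi
    rcases Nat.eq_or_lt_of_le hi with h | h
    · subst h
      exact le_rfl
    · exact (hanti M i h (by omega)).le
  -- the step estimate
  have step : ∀ i, i < M + 1 → ∀ D, 𝔇.good D → f i ≤ D → D ≤ f (i + 1) →
      μ i * 𝔇.a D (f (i + 1)) ≤ 𝔇.w D (f (i + 1)) ∧ 0 ≤ 𝔇.a D (f (i + 1)) := by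
    intro i hi D hD h1 h2
    have hpi := apos i hi
    have hgi1 := (hf i hi).1
    have ha0 : 0 ≤ 𝔇.a D (f (i + 1)) := by
      have := 𝔇.a_mono D hD hgi1 h2
      rwa [𝔇.a_self] at this
    refine ⟨?_, ha0⟩
    have hμi : μ i * 𝔇.a (f i) (f (i + 1)) = 𝔇.w (f i) (f (i + 1)) := by
      change 𝔇.r (f i) (f (i + 1)) * _ = _
      unfold Datum.r
      exact div_mul_cancel₀ _ hpi.ne'
    rcases eq_or_lt_of_le h1 with e | hlt
    · rw [← e]
      exact hμi.le
    · obtain ⟨h3, -⟩ := (hf i hi).2.2 D hD hlt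
      have h4 : 𝔇.w (f i) D ≤ μ i * 𝔇.a (f i) D := by
        change _ ≤ 𝔇.r (f i) (f (i + 1)) * _
        unfold Datum.r
        rw [div_mul_eq_mul_div, le_div_iff₀ hpi]
        linarith [mul_comm (𝔇.a (f i) (f (i + 1))) (𝔇.w (f i) D),
          mul_comm (𝔇.a (f i) D) (𝔇.w (f i) (f (i + 1)))]
      have e1 := 𝔇.w_add (f i) D (f (i + 1))
      have e2 := 𝔇.a_add (f i) D (f (i + 1))
      have e3 : μ i * 𝔇.a D (f (i + 1)) =
          μ i * 𝔇.a (f i) (f (i + 1)) - μ i * 𝔇.a (f i) D := by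
        rw [e2]
        ring
      rw [e3, hμi]
      linarith
  -- the main claim, by descending induction
  have claim : ∀ n j, j + n = M + 1 → ∀ D, 𝔇.good D → f j ≤ D →
      μ M * 𝔇.a D ⊤ ≤ 𝔇.w D ⊤ := by
    intro n
    induction n with
    | zero =>
      intro j hj D hD hjD
      have hj' : j = M + 1 := by omega
      subst hj'
      rw [hfN] at hjD
      have : D = ⊤ := top_le_iff.1 hjD
      rw [this, 𝔇.a_self, 𝔇.w_self, mul_zero]
    | succ n ih =>
      intro j hj D hD hjD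
      have hjM : j < M + 1 := by omega
      have hgj1 := (hf j hjM).1
      have gU : 𝔇.good (D ⊔ f (j + 1)) := 𝔇.good_sup hD hgj1
      have gI : 𝔇.good (D ⊓ f (j + 1)) := 𝔇.good_inf hD hgj1
      have hIH := ih (j + 1) (by omega) (D ⊔ f (j + 1)) gU le_sup_right
      obtain ⟨hs1, hs2⟩ := step j hjM (D ⊓ f (j + 1)) gI
        (le_inf hjD (hf j hjM).2.1.le) inf_le_right
      have ew : 𝔇.w D (D ⊔ f (j + 1)) = 𝔇.w (D ⊓ f (j + 1)) (f (j + 1)) := by
        unfold Datum.w
        have := 𝔇.v_mod hD hgj1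
        linarith
      have ea : 𝔇.a D (D ⊔ f (j + 1)) = 𝔇.a (D ⊓ f (j + 1)) (f (j + 1)) := by
        unfold Datum.a
        have := 𝔇.α_mod hD hgj1
        rw [show 𝔇.α (D ⊔ f (j + 1)) - 𝔇.α D = 𝔇.α (f (j + 1)) - 𝔇.α (D ⊓ f (j + 1)) by
          linarith]
      have e1 := 𝔇.w_add D (D ⊔ f (j + 1)) ⊤
      have e2 := 𝔇.a_add D (D ⊔ f (j + 1)) ⊤
      have hm := hmin j (by omega)
      have h5 : μ M * 𝔇.a (D ⊓ f (j + 1)) (f (j + 1)) ≤
          μ j * 𝔇.a (D ⊓ f (j + 1)) (f (j + 1)) := mul_le_mul_of_nonneg_right hm hs2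
      rw [e1, e2, mul_add, ew, ea]
      linarith
  have hfin := claim (M + 1) 0 (by omega) C hC h0C
  have hpM := apos M (by omega)
  rw [hfN] at hpM
  change 𝔇.r (f M) (f (M + 1)) * _ ≤ _ at hfin
  rw [hfN] at hfin
  unfold Datum.r at hfin
  rw [div_mul_eq_mul_div, div_le_iff₀ hpM] at hfin
  linarith [mul_comm (𝔇.a C ⊤) (𝔇.w (f M) ⊤), mul_comm (𝔇.a (f M) ⊤) (𝔇.w C ⊤)]

end Lat

section Hom

variable (k : Type u) [Field k] (X : Scheme.{u}) [X.Over (Spec (CommRingCat.of k))]
  [IsProper (X ↘ Spec (CommRingCat.of k))] (L : X.Modules) (hL : CohB1.IsAmple L)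

include hL in
/-- S15199: no nonzero maps when the minimal reduced Hilbert polynomial of the source exceeds the
maximal one of the target -/
theorem hom_eq_zero (d : ℕ) (F G : X.Modules)
    (hF : Coh.IsCoh F) (hFp : ShStab.IsPure X F d)
    (hG : Coh.IsCoh G) (hGp : ShStab.IsPure X G d)
    (s : LTSeries (Subobject F)) (hs : ShStab.IsHNFiltration k X L F d s)
    (t : LTSeries (Subobject G)) (ht : ShStab.IsHNFiltration k X L G d t)
    (i : Fin s.length) (hi : i.val + 1 = s.length) (j : Fin t.length) (hj : j.val = 0)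
    (pmin pmax : ℚ[X]) (hpmin : ShStab.IsHilbPoly k X L (StabCat.factor s i) pmin)
    (hpmax : ShStab.IsHilbPoly k X L (StabCat.factor t j) pmax)
    (hlt : StabCat.RedLT d pmax pmin) (φ : F ⟶ G) : φ = 0 := by
  by_contra hφ
  obtain ⟨s0, sN, sr⟩ := relMax_of_isHNFiltration k X L hL hFp hF s hs
  obtain ⟨t0, tN, tr⟩ := relMax_of_isHNFiltration k X L hL hGp hG t ht
  -- kernel and image
  have hKc := isCoh_kernel k X hF hG φ
  obtain ⟨pK, hpK⟩ := exists_isHilbPoly_sub k X L hL hFp (kernel.ι φ) hKc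
  obtain ⟨gK, ppK⟩ := pp_mk k X L hL hFp (kernel.ι φ) hKc hpK
  have hIc := isCoh_image k X hF hG φ
  have hpF := pp_spec k X L hL hFp ⊤ (good_top X hF)
  have hpF' : ShStab.IsHilbPoly k X L F (PP k X L (⊤ : Subobject F)) :=
    isHilbPoly_of_iso k X L (asIso (⊤ : Subobject F).arrow) hpF
  have hpI := isHilbPoly_image k X L hL.1 hF hG φ hpF' hpK
  obtain ⟨gI, ppI⟩ := pp_mk k X L hL hGp (Abelian.image.ι φ) hIc hpI
  have hI0 : ⊥ < Subobject.mk (Abelian.image.ι φ) := bot_lt_mk X _ (not_isZero_image X φ hφ)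
  have hαI := alpha_pos_of_bot_lt k X L hL hGp _ gI hI0
  rw [ppI] at hαI
  -- the source side
  have hsN' : gOf s (i.val + 1) = ⊤ := by rw [hi]; exact sN
  have hg0 : (datum k X L hL hFp hF).good (gOf s 0) := by rw [s0]; exact good_bot X
  have hp0 : (datum k X L hL hFp hF).PureAbove (gOf s 0) := by
    rw [s0]; exact pureAbove_bot k X L hL hFp hF
  have sr' : ∀ a, a < i.val + 1 →
      (datum k X L hL hFp hF).RelMax (gOf s a) (gOf s (a + 1)) := fun a ha => sr a (by omega)
  have hb := (datum k X L hL hFp hF).quot_bound i.val (gOf s) hg0 hp0 hsN' sr'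
    (Subobject.mk (kernel.ι φ)) gK (by rw [s0]; exact bot_le)
  have gA : Good X (gOf s i.val) :=
    (datum k X L hL hFp hF).good_of_chain (i.val + 1) (gOf s) hg0 sr' i.val (by omega)
  have gT : Good X (⊤ : Subobject F) := good_top X hF
  rw [a_datum k X L hL hFp hF gK gT, a_datum k X L hL hFp hF gA gT, w_datum, w_datum,
    ← redLE_iff] at hb
  have e1 : pmin = PP k X L (⊤ : Subobject F) - PP k X L (gOf s i.val) := by
    have hle : gOf s i.val ≤ gOf s (i.val + 1) := (sr' i.val (by omega)).2.1.le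
    have h1 := isHilbPoly_coker k X L hL hFp hle gA (sr' i.val (by omega)).1
    have h2 : ShStab.IsHilbPoly k X L
        (cokernel (Subobject.ofLE (gOf s i.val) (gOf s (i.val + 1)) hle)) pmin := by
      have e : ∀ (A B : Subobject F) (hA : A = s i.castSucc) (hB : B = s i.succ)
          (h : A ≤ B), ShStab.IsHilbPoly k X L (cokernel (Subobject.ofLE A B h)) pmin := by
        intro A B hA hB h
        subst hA hB
        exact hpmin
      exact e _ _ (gOf_castSucc s i) (gOf_succ s i) hle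
    have h3 := isHilbPoly_unique k X L h2 h1
    rw [h3, hsN']
  rw [ppK, ← e1] at hb
  -- the target side
  have hjt : 0 < t.length := lt_of_le_of_lt (Nat.zero_le _) j.isLt
  have tr0 := tr 0 hjt
  have gB : Good X (gOf t (0 + 1)) := tr0.1
  have gbot : Good X (gOf t 0) := by rw [t0]; exact good_bot X
  have hlt0 : gOf t 0 < Subobject.mk (Abelian.image.ι φ) := by rw [t0]; exact hI0
  obtain ⟨hc, -⟩ := tr0.2.2 _ gI hlt0
  rw [le_iff_redLE k X L hL hGp hG gbot gB gI] at hc
  have e2 : pmax = PP k X L (gOf t (0 + 1)) - PP k X L (gOf t 0) := by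
    have hle : gOf t 0 ≤ gOf t (0 + 1) := tr0.2.1.le
    have h1 := isHilbPoly_coker k X L hL hGp hle gbot gB
    have h2 : ShStab.IsHilbPoly k X L
        (cokernel (Subobject.ofLE (gOf t 0) (gOf t (0 + 1)) hle)) pmax := by
      have e : ∀ (A B : Subobject G) (hA : A = t j.castSucc) (hB : B = t j.succ)
          (h : A ≤ B), ShStab.IsHilbPoly k X L (cokernel (Subobject.ofLE A B h)) pmax := by
        intro A B hA hB h
        subst hA hB
        exact hpmax
      have ea : gOf t 0 = t j.castSucc := by rw [← hj]; exact gOf_castSucc t j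
      have eb : gOf t (0 + 1) = t j.succ := by rw [← hj]; exact gOf_succ t j
      exact e _ _ ea eb hle
    exact isHilbPoly_unique k X L h2 h1
  have e3 : PP k X L (gOf t 0) = 0 := by rw [t0]; exact pp_bot k X L
  rw [← e2, ppI, e3, sub_zero] at hc
  -- conclusion
  have hαmin : 0 ≤ StabCat.alpha d pmin := by
    have := (facts_le k X L hL hFp (le_top : gOf s i.val ≤ ⊤) gA gT).2.2.1
    rw [e1, alpha_sub]
    linarith
  have hαmax : 0 ≤ StabCat.alpha d pmax := by
    have := (facts_le k X L hL hGp tr0.2.1.le gbot gB).2.2.1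
    rw [e2, alpha_sub]
    linarith
  have h4 := redLE_trans hαI hαmin hαmax hb hc
  rw [redLE_iff] at h4
  rw [redLT_iff] at hlt
  exact absurd h4 (not_le_of_gt hlt)

end Hom

end Groth.Agent.Lead.HN
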