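import Mathlib
import Groth.Agent.Lib.Lead.HN10

set_option autoImplicit false
set_option backward.isDefEq.respectTransparency.types false
set_option synthInstance.maxHeartbeats 400000
set_option linter.style.haveILetI false
set_option linter.unusedSectionVars false
set_option linter.unusedVariables false

universe u

open CategoryTheory CategoryTheory.Limits AlgebraicGeometry TopologicalSpace Opposite Polynomial

namespace Groth.Agent.Lead.HN

open Groth.Agent.Lead.HP Groth.Agent.Helper1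

section Arith

theorem redLE_of_redEq {d : ℕ} {p q : ℚ[X]} (h : StabCat.RedEq d p q) : StabCat.RedLE d p q := by
  rw [redEq_iff] at h
  rw [redLE_iff]
  exact h.le

theorem redEq_symm {d : ℕ} {p q : ℚ[X]} (h : StabCat.RedEq d p q) : StabCat.RedEq d q p := by
  rw [redEq_iff] at h ⊢
  exact h.symm

theorem redEq_refl (d : ℕ) (p : ℚ[X]) : StabCat.RedEq d p p := rfl

theorem redEq_trans {d : ℕ} {p q r : ℚ[X]} (hq : 0 < StabCat.alpha d q)
    (h1 : StabCat.RedEq d p q) (h2 : StabCat.RedEq d q r) : StabCat.RedEq d p r := by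
  rw [redEq_iff] at h1 h2 ⊢
  have hq' := ratCast_pos_GK hq
  apply mul_left_cancel₀ hq'.ne'
  calc (StabCat.alpha d q : GK) * ((StabCat.alpha d r : GK) * germ p)
      = (StabCat.alpha d r : GK) * ((StabCat.alpha d q : GK) * germ p) := by ring
    _ = (StabCat.alpha d r : GK) * ((StabCat.alpha d p : GK) * germ q) := by rw [h1]
    _ = (StabCat.alpha d p : GK) * ((StabCat.alpha d r : GK) * germ q) := by ring
    _ = (StabCat.alpha d p : GK) * ((StabCat.alpha d q : GK) * germ r) := by rw [h2]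
    _ = (StabCat.alpha d q : GK) * ((StabCat.alpha d p : GK) * germ r) := by ring

/-- an object squeezed between two objects of the same reduced polynomial -/
theorem redEq_of_sandwich {d : ℕ} {pE pF pI : ℚ[X]} (hE : 0 < StabCat.alpha d pE)
    (hF : 0 < StabCat.alpha d pF) (hI : 0 ≤ StabCat.alpha d pI)
    (h1 : StabCat.RedLE d pE pI) (h2 : StabCat.RedLE d pI pF) (h3 : StabCat.RedEq d pE pF) :
    StabCat.RedEq d pI pE := by
  rw [redLE_iff] at h1 h2
  rw [redEq_iff] at h3 ⊢
  have hE' := ratCast_pos_GK hE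
  have hF' := ratCast_pos_GK hF
  have hI' := ratCast_nonneg_GK hI
  refine le_antisymm ?_ h1
  apply le_of_mul_le_mul_left _ hF'
  calc (StabCat.alpha d pF : GK) * ((StabCat.alpha d pE : GK) * germ pI)
      = (StabCat.alpha d pE : GK) * ((StabCat.alpha d pF : GK) * germ pI) := by ring
    _ ≤ (StabCat.alpha d pE : GK) * ((StabCat.alpha d pI : GK) * germ pF) :=
        mul_le_mul_of_nonneg_left h2 hE'.le
    _ = (StabCat.alpha d pI : GK) * ((StabCat.alpha d pE : GK) * germ pF) := by ring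
    _ = (StabCat.alpha d pI : GK) * ((StabCat.alpha d pF : GK) * germ pE) := by rw [h3]
    _ = (StabCat.alpha d pF : GK) * ((StabCat.alpha d pI : GK) * germ pE) := by ring

/-- the complement of a part with the same reduced polynomial -/
theorem redEq_sub {d : ℕ} {pE pI : ℚ[X]} (h : StabCat.RedEq d pI pE) :
    StabCat.RedEq d (pE - pI) pE := by
  unfold StabCat.RedEq at h ⊢
  rw [alpha_sub, smul_sub, sub_smul, h]

end Arith

section Lat

variable {S : Type*} [Lattice S] [BoundedOrder S] {K : Type*} [Field K] [LinearOrder K]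
  [IsStrictOrderedRing K] (𝔇 : Datum S K)

/-- the quotient by a part with the same reduced value is again semistable and pure -/
theorem Datum.quot_ss (hT : 𝔇.good ⊤) (hpos : 0 < 𝔇.a ⊥ ⊤)
    (hss : ∀ C, 𝔇.good C → 𝔇.a ⊥ ⊤ * 𝔇.w ⊥ C ≤ 𝔇.a ⊥ C * 𝔇.w ⊥ ⊤)
    {I : S} (hI : 𝔇.good I) (heq : 𝔇.a ⊥ ⊤ * 𝔇.w ⊥ I = 𝔇.a ⊥ I * 𝔇.w ⊥ ⊤) :
    𝔇.SSf I ⊤ ∧ 𝔇.PUf I ⊤ := by
  have key : ∀ C, 𝔇.good C → 𝔇.a ⊥ ⊤ * 𝔇.w I C ≤ 𝔇.a I C * 𝔇.w ⊥ ⊤ := by
    intro C hC
    have e1 := 𝔇.w_add ⊥ I C
    have e2 := 𝔇.a_add ⊥ I C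
    have h := hss C hC
    rw [e1, e2] at h
    nlinarith [h, heq]
  constructor
  · intro C hC hIC _
    have h1 := key C hC
    have h2 := key ⊤ hT
    have h3 := key ⊤ hT
    have h4 : 𝔇.a ⊥ ⊤ * 𝔇.w I ⊤ = 𝔇.a I ⊤ * 𝔇.w ⊥ ⊤ := by
      have e1 := 𝔇.w_add ⊥ I ⊤
      have e2 := 𝔇.a_add ⊥ I ⊤
      linear_combination (-1 : K) * heq - 𝔇.a ⊥ ⊤ * e1 + 𝔇.w ⊥ ⊤ * e2
    have ha : 0 ≤ 𝔇.a I ⊤ := by
      have := 𝔇.a_mono I hI hT le_top
      rwa [𝔇.a_self] at this
    apply le_of_mul_le_mul_left _ hpos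
    calc 𝔇.a ⊥ ⊤ * (𝔇.a I ⊤ * 𝔇.w I C) = 𝔇.a I ⊤ * (𝔇.a ⊥ ⊤ * 𝔇.w I C) := by ring
      _ ≤ 𝔇.a I ⊤ * (𝔇.a I C * 𝔇.w ⊥ ⊤) := mul_le_mul_of_nonneg_left h1 ha
      _ = 𝔇.a I C * (𝔇.a I ⊤ * 𝔇.w ⊥ ⊤) := by ring
      _ = 𝔇.a I C * (𝔇.a ⊥ ⊤ * 𝔇.w I ⊤) := by rw [h4]
      _ = 𝔇.a ⊥ ⊤ * (𝔇.a I C * 𝔇.w I ⊤) := by ring
  · intro C hC hIC _
    have hle := 𝔇.α_le hI hC hIC.le
    refine lt_of_le_of_ne hle (fun he => ?_)
    have h1 := key C hC
    have ha : 𝔇.a I C = 0 := by
      unfold Datum.a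
      rw [he, sub_self, Int.cast_zero]
    rw [ha, zero_mul] at h1
    have hw : 0 < 𝔇.w I C := by
      have := 𝔇.w_lt I hI hC hIC
      rwa [𝔇.w_self] at this
    have := mul_pos hpos hw
    linarith

end Lat

section Sh

variable (k : Type u) [Field k] (X : Scheme.{u}) [X.Over (Spec (CommRingCat.of k))]
  [IsProper (X ↘ Spec (CommRingCat.of k))] (L : X.Modules)

omit [IsProper (X ↘ Spec (CommRingCat.of k))] in
theorem isSemistable_of_iso {G G' : X.Modules} (e : G ≅ G') {d : ℕ}
    (h : ShStab.IsSemistable k X L G d) : ShStab.IsSemistable k X L G' d := by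
  obtain ⟨hc, h0, hp, hss⟩ := h
  refine ⟨isCoh_of_iso' X e hc, fun hz => h0 (IsZero.of_iso hz e), isPure_of_iso X e hp, ?_⟩
  intro F ι hι hF hF0 hni pF pE hpF hpE
  haveI := hι
  refine hss F (ι ≫ e.inv) (mono_comp _ _) hF hF0 ?_ pF pE hpF
    (isHilbPoly_of_iso k X L e.symm hpE)
  intro hi
  apply hni
  have : ι = (ι ≫ e.inv) ≫ e.hom := by rw [Category.assoc, Iso.inv_hom_id, Category.comp_id]
  rw [this]
  infer_instance

/-- the cokernel of a morphism, computed in the lattice of subobjects of the target -/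
noncomputable def cokerImageIso {E F : X.Modules} (f : E ⟶ F) :
    cokernel (Subobject.ofLE (Subobject.mk (Abelian.image.ι f)) ⊤ le_top) ≅ cokernel f :=
  cokerTopIso X (Subobject.mk (Abelian.image.ι f)) ≪≫
    cokernel.mapIso _ _ (Subobject.underlyingIso (Abelian.image.ι f)) (Iso.refl F)
      (by rw [Iso.refl_hom, Category.comp_id]
          exact (Subobject.underlyingIso_hom_comp_eq_mk _).symm) ≪≫
    (cokernelEpiComp (Abelian.factorThruImage f) (Abelian.image.ι f)).symm ≪≫
    cokernelIsoOfEq (Abelian.image.fac f)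


/-- S15272 -/
theorem ker_coker_semistable (hL : CohB1.IsAmple L) (d : ℕ) (E F : X.Modules)
    (hE : ShStab.IsSemistable k X L E d) (hF : ShStab.IsSemistable k X L F d)
    (pE pF : ℚ[X]) (hpE : ShStab.IsHilbPoly k X L E pE) (hpF : ShStab.IsHilbPoly k X L F pF)
    (hred : StabCat.RedEq d pE pF) (f : E ⟶ F) :
    (IsZero (kernel f) ∨ (ShStab.IsSemistable k X L (kernel f) d ∧
        ∀ pK : ℚ[X], ShStab.IsHilbPoly k X L (kernel f) pK → StabCat.RedEq d pK pE)) ∧
    (IsZero (cokernel f) ∨ (ShStab.IsSemistable k X L (cokernel f) d ∧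
        ∀ pQ : ℚ[X], ShStab.IsHilbPoly k X L (cokernel f) pQ → StabCat.RedEq d pQ pE)) := by
  by_cases hf : f = 0
  · subst hf
    refine ⟨Or.inr ⟨isSemistable_of_iso k X L kernelZeroIsoSource.symm hE, fun pK hpK => ?_⟩,
      Or.inr ⟨isSemistable_of_iso k X L cokernelZeroIsoTarget.symm hF, fun pQ hpQ => ?_⟩⟩
    · rw [isHilbPoly_unique k X L hpK (isHilbPoly_of_iso k X L kernelZeroIsoSource.symm hpE)]
      exact redEq_refl d pE
    · rw [isHilbPoly_unique k X L hpQ (isHilbPoly_of_iso k X L cokernelZeroIsoTarget.symm hpF)]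
      exact redEq_symm hred
  · have hEc := hE.1
    have hFc := hF.1
    have hEp := hE.2.2.1
    have hFp := hF.2.2.1
    have aE : 0 < StabCat.alpha d pE :=
      alpha_pos_of_dim k X L hL E hEc d (hEp E (𝟙 E) inferInstance hEc hE.2.1) hpE
    have aF : 0 < StabCat.alpha d pF :=
      alpha_pos_of_dim k X L hL F hFc d (hFp F (𝟙 F) inferInstance hFc hF.2.1) hpF
    have hKc := isCoh_kernel k X hEc hFc f
    have hIc := isCoh_image k X hEc hFc f
    obtain ⟨pK', hpK'⟩ := exists_isHilbPoly_sub k X L hL hEp (kernel.ι f) hKc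
    have hpI := isHilbPoly_image k X L hL.1 hEc hFc f hpE hpK'
    have hI0 := not_isZero_image X f hf
    have aI : 0 < StabCat.alpha d (pE - pK') :=
      alpha_pos_of_dim k X L hL _ hIc d (hFp _ (Abelian.image.ι f) inferInstance hIc hI0) hpI
    have h1 : StabCat.RedLE d pE (pE - pK') :=
      (redLE_quot_iff d pK' pE).2 (redLE_of_sub k X L hE (kernel.ι f) hKc hpK' hpE)
    have h2 : StabCat.RedLE d (pE - pK') pF :=
      redLE_of_sub k X L hF (Abelian.image.ι f) hIc hpI hpF
    have eI : StabCat.RedEq d (pE - pK') pE := redEq_of_sandwich aE aF aI.le h1 h2 hred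
    have eIF : StabCat.RedEq d (pE - pK') pF := redEq_trans aE eI hred
    constructor
    · by_cases hK0 : IsZero (kernel f)
      · exact Or.inl hK0
      · right
        have eK : StabCat.RedEq d pK' pE := by
          have := redEq_sub eI
          rwa [sub_sub_cancel] at this
        have hKp : ShStab.IsPure X (kernel f) d := fun T ι hι hT hT0 => by
          haveI := hι
          exact hEp T (ι ≫ kernel.ι f) (mono_comp _ _) hT hT0
        refine ⟨⟨hKc, hK0, hKp, ?_⟩, fun pK hpK => ?_⟩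
        · intro T ι hι hT hT0 hni pT pK'' hpT hpK''
          haveI := hι
          rw [isHilbPoly_unique k X L hpK'' hpK']
          have aT := (sub_facts k X L hL hKp ι hT hpT).2.2.1
          have aK := (sub_facts k X L hL hEp (kernel.ι f) hKc hpK').2.2.1
          exact redLE_trans aE aT aK (redLE_of_sub k X L hE (ι ≫ kernel.ι f) hT hpT hpE)
            (redLE_of_redEq (redEq_symm eK))
        · rw [isHilbPoly_unique k X L hpK hpK']
          exact eK
    · by_cases hQ0 : IsZero (cokernel f)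
      · exact Or.inl hQ0
      · right
        obtain ⟨gI, ppI⟩ := pp_mk k X L hL hFp (Abelian.image.ι f) hIc hpI
        have gT : Good X (⊤ : Subobject F) := good_top X hFc
        have gbot : Good X (⊥ : Subobject F) := good_bot X
        have ppT := pp_top k X L hL hFp hFc hpF
        have hss : ∀ C, (datum k X L hL hFp hFc).good C →
            (datum k X L hL hFp hFc).a ⊥ ⊤ * (datum k X L hL hFp hFc).w ⊥ C ≤
              (datum k X L hL hFp hFc).a ⊥ C * (datum k X L hL hFp hFc).w ⊥ ⊤ := by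
          intro C gC
          rw [le_iff_redLE k X L hL hFp hFc gbot gT gC, pp_bot, sub_zero, sub_zero, ppT]
          exact redLE_of_sub k X L hF C.arrow gC (pp_spec k X L hL hFp C gC) hpF
        have heq : (datum k X L hL hFp hFc).a ⊥ ⊤ *
            (datum k X L hL hFp hFc).w ⊥ (Subobject.mk (Abelian.image.ι f)) =
              (datum k X L hL hFp hFc).a ⊥ (Subobject.mk (Abelian.image.ι f)) *
                (datum k X L hL hFp hFc).w ⊥ ⊤ := by
          rw [eq_iff_redEq k X L hL hFp hFc gbot gT gI, pp_bot, sub_zero, sub_zero, ppT, ppI]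
          exact eIF
        have hpos : 0 < (datum k X L hL hFp hFc).a ⊥ ⊤ := by
          rw [a_datum k X L hL hFp hFc gbot gT, pp_bot, sub_zero, ppT]
          exact ratCast_pos_GK aF
        obtain ⟨hssf, hpuf⟩ := (datum k X L hL hFp hFc).quot_ss gT hpos hss gI heq
        have hlt : Subobject.mk (Abelian.image.ι f) < ⊤ := by
          rw [lt_top_iff_ne_top]
          intro e
          have hi : IsIso (Abelian.image.ι f) := (Subobject.isIso_iff_mk_eq_top _).2 e
          haveI := epi_of_isIso_image_ι X f hi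
          exact hQ0 (isZero_cokernel_of_epi f)
        have hQss := isSemistable_factor k X L hL hFp hFc gI gT hlt hssf hpuf
        have hpQ' := isHilbPoly_of_iso k X L (cokerImageIso X f)
          (isHilbPoly_coker k X L hL hFp hlt.le gI gT)
        rw [ppT, ppI] at hpQ'
        refine ⟨isSemistable_of_iso k X L (cokerImageIso X f) hQss, fun pQ hpQ => ?_⟩
        rw [isHilbPoly_unique k X L hpQ hpQ']
        exact redEq_trans aF (redEq_sub eIF) (redEq_symm hred)

end Sh

end Groth.Agent.Lead.HN
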