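import Mathlib
import Groth.Agent.Lib.Lead.HN11
import Groth.Agent.Lib.Helper1.SemiExt1
import Groth.Agent.Lib.Helper1.VB4
import Groth.Agent.Lib.Lead.Ref1G

set_option autoImplicit false
set_option backward.isDefEq.respectTransparency.types false
set_option synthInstance.maxHeartbeats 400000
set_option linter.style.haveILetI false
set_option linter.unusedSectionVars false
set_option linter.unusedVariables false

universe u

open CategoryTheory CategoryTheory.Limits AlgebraicGeometry TopologicalSpace Opposite Polynomial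

namespace Groth.Agent.Lead.VBL

open Groth.Agent.Lead.HP Groth.Agent.Helper1 Groth.Agent.Lead.HN

section Lin

/-- the polynomial `χ + r X` -/
noncomputable def lin (r χ : ℚ) : ℚ[X] := C χ + C r * Polynomial.X

theorem eval_lin (r χ x : ℚ) : (lin r χ).eval x = χ + r * x := by
  unfold lin
  simp

theorem alpha_lin (r χ : ℚ) : StabCat.alpha 1 (lin r χ) = r := by
  unfold StabCat.alpha lin
  simp

theorem lin_add (r χ r' χ' : ℚ) : lin r χ + lin r' χ' = lin (r + r') (χ + χ') := by
  unfold lin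
  rw [C_add, C_add]
  ring

theorem lin_sub (r χ r' χ' : ℚ) : lin r χ - lin r' χ' = lin (r - r') (χ - χ') := by
  unfold lin
  rw [C_sub, C_sub]
  ring

theorem lin_zero : lin 0 0 = 0 := by
  unfold lin
  simp

theorem redLE_lin (r χ r' χ' : ℚ) :
    StabCat.RedLE 1 (lin r χ) (lin r' χ') ↔ r' * χ ≤ r * χ' := by
  unfold StabCat.RedLE StabCat.PolyLE
  rw [alpha_lin, alpha_lin]
  constructor
  · rintro ⟨N, hN⟩
    have := hN N le_rfl
    rw [eval_smul, eval_smul, eval_lin, eval_lin, smul_eq_mul, smul_eq_mul] at this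
    nlinarith
  · intro h
    refine ⟨0, fun m _ => ?_⟩
    rw [eval_smul, eval_smul, eval_lin, eval_lin, smul_eq_mul, smul_eq_mul]
    nlinarith

theorem redLT_lin (r χ r' χ' : ℚ) :
    StabCat.RedLT 1 (lin r χ) (lin r' χ') ↔ r' * χ < r * χ' := by
  unfold StabCat.RedLT StabCat.PolyLT
  rw [alpha_lin, alpha_lin]
  constructor
  · rintro ⟨N, hN⟩
    have := hN N le_rfl
    rw [eval_smul, eval_smul, eval_lin, eval_lin, smul_eq_mul, smul_eq_mul] at this
    nlinarith
  · intro h
    refine ⟨0, fun m _ => ?_⟩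
    rw [eval_smul, eval_smul, eval_lin, eval_lin, smul_eq_mul, smul_eq_mul]
    nlinarith

theorem redEq_lin (r χ r' χ' : ℚ) :
    StabCat.RedEq 1 (lin r χ) (lin r' χ') ↔ r' * χ = r * χ' := by
  unfold StabCat.RedEq
  rw [alpha_lin, alpha_lin]
  constructor
  · intro h
    have := congrArg (fun p => p.eval 0) h
    simp only [eval_smul, eval_lin, smul_eq_mul, mul_zero, add_zero] at this
    exact this
  · intro h
    unfold lin
    rw [smul_add, smul_add, smul_C, smul_C, smul_eq_mul, smul_eq_mul, h, smul_eq_C_mul,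
      smul_eq_C_mul, ← mul_assoc, ← mul_assoc, ← C_mul, ← C_mul, mul_comm r' r]

theorem evPos_lin {r χ : ℚ} (h : 0 < r ∨ (r = 0 ∧ 0 < χ)) : EvPos (lin r χ) := by
  rcases h with h | ⟨h0, h1⟩
  · obtain ⟨N, hN⟩ := exists_nat_gt (-χ / r)
    refine ⟨N, fun m hm => ?_⟩
    rw [eval_lin]
    have h2 : (N : ℚ) ≤ (m : ℚ) := by exact_mod_cast hm
    have h3 : -χ / r < (m : ℚ) := lt_of_lt_of_le hN h2
    rw [div_lt_iff₀ h] at h3
    linarith
  · refine ⟨0, fun m _ => ?_⟩
    rw [eval_lin, h0, zero_mul, add_zero]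
    exact h1

end Lin

section Rank

open Groth.Agent.Lib.Helper5.StalkAdj Groth.Agent.Helper1.Dv

variable {X : Scheme.{u}} [IsIntegral X]

/-- the generic rank of a module on an integral scheme -/
noncomputable def grk (F : X.Modules) : ℕ :=
  Module.finrank (X.presheaf.stalk (genericPoint X)) (F.presheaf.stalk (genericPoint X))

theorem grk_of_rank {r : ℕ} {F : X.Modules} (hF : FlatMod.IsFinLocFreeOfRank r F) : grk F = r :=
  FinLen.finrank_stalk_of_rank hF _

theorem grk_add (S : ShortComplex X.Modules) (hS : S.ShortExact) (h1 : Coh.IsCoh S.X₁)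
    (h3 : Coh.IsCoh S.X₃) : grk S.X₂ = grk S.X₁ + grk S.X₃ := by
  have hT := hS.map_of_exact (stalkSh X (genericPoint X))
  have hinj : Function.Injective (stalkL S.f (genericPoint X)) :=
    (ModuleCat.mono_iff_injective _).1 hT.mono_f
  have hsurj : Function.Surjective (stalkL S.g (genericPoint X)) :=
    (ModuleCat.epi_iff_surjective _).1 hT.epi_g
  have hex : Function.Exact (stalkL S.f (genericPoint X)) (stalkL S.g (genericPoint X)) :=
    (ShortComplex.ShortExact.moduleCat_exact_iff_function_exact _).1 hT.exact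
  letI : Field (X.presheaf.stalk (genericPoint X)) := inferInstanceAs (Field X.functionField)
  haveI : Module.Finite (X.presheaf.stalk (genericPoint X))
      (S.X₁.presheaf.stalk (genericPoint X)) :=
    Groth.Agent.Helper7.FinType.stalk_finite_of_isCoh S.X₁ h1 _
  haveI : Module.Finite (X.presheaf.stalk (genericPoint X))
      (S.X₃.presheaf.stalk (genericPoint X)) :=
    Groth.Agent.Helper7.FinType.stalk_finite_of_isCoh S.X₃ h3 _
  exact Euler.finrank_eq_add_of_exact (stalkL S.f (genericPoint X)) (stalkL S.g (genericPoint X))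
    hinj hsurj hex

theorem grk_of_iso {F G : X.Modules} (e : F ≅ G) : grk F = grk G := by
  unfold grk
  exact ((stalkSh X (genericPoint X)).mapIso e).toLinearEquiv.finrank_eq

theorem grk_of_isZero {F : X.Modules} (h : IsZero F) : grk F = 0 := by
  have h0 : IsZero ((stalkSh X (genericPoint X)).obj F) :=
    Functor.map_isZero (stalkSh X (genericPoint X)) h
  have hs : Subsingleton ((stalkSh X (genericPoint X)).obj F) :=
    ModuleCat.subsingleton_of_isZero h0
  have hs' : Subsingleton (F.presheaf.stalk (genericPoint X)) := hs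
  unfold grk
  haveI := hs'
  exact Module.finrank_zero_of_subsingleton

theorem not_mem_support_of_grk_eq_zero {F : X.Modules} (hF : Coh.IsCoh F) (h : grk F = 0) :
    genericPoint X ∉ CohB1.support F := by
  letI : Field (X.presheaf.stalk (genericPoint X)) := inferInstanceAs (Field X.functionField)
  haveI : Module.Finite (X.presheaf.stalk (genericPoint X))
      (F.presheaf.stalk (genericPoint X)) :=
    Groth.Agent.Helper7.FinType.stalk_finite_of_isCoh F hF _
  have hs : Subsingleton (F.presheaf.stalk (genericPoint X)) := Module.finrank_zero_iff.1 h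
  intro hm
  exact hm hs

end Rank

section Curve

variable (k : Type u) [Field k] (X : Scheme.{u}) [X.Over (Spec (CommRingCat.of k))]
  [IsProper (X ↘ Spec (CommRingCat.of k))] [IsIntegral X]

/-- the linear polynomial `χ(F) + rk(F) t` -/
noncomputable def PL (F : X.Modules) : ℚ[X] := lin (grk F : ℚ) (Curv2.euler k X F : ℚ)

theorem pl_add (S : ShortComplex X.Modules) (hS : S.ShortExact) (h1 : Coh.IsCoh S.X₁)
    (h2 : Coh.IsCoh S.X₂) (h3 : Coh.IsCoh S.X₃) : PL k X S.X₂ = PL k X S.X₁ + PL k X S.X₃ := by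
  unfold PL
  rw [lin_add, grk_add S hS h1 h3, Euler.euler_additive k X S hS h1 h2 h3]
  push_cast
  rfl

theorem pl_iso {F G : X.Modules} (e : F ≅ G) : PL k X F = PL k X G := by
  unfold PL
  rw [grk_of_iso e, Euler.euler_iso k X e]

theorem pl_zero {F : X.Modules} (h : IsZero F) : PL k X F = 0 := by
  unfold PL
  rw [grk_of_isZero h, VB.euler_of_isZero k X h]
  simp [lin_zero]

theorem evPos_pl (hdim : topologicalKrullDim X = 1) {F : X.Modules} (hF : Coh.IsCoh F)
    (h0 : ¬ IsZero F) : EvPos (PL k X F) := by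
  unfold PL
  apply evPos_lin
  by_cases hr : grk F = 0
  · right
    refine ⟨by rw [hr]; simp, ?_⟩
    have hd := Curve.dim_support_le_zero hdim F hF (not_mem_support_of_grk_eq_zero hF hr)
    have h1 := Euler.euler_nonneg_of_dim_le_zero k X F hF hd
    have h2 : Curv2.euler k X F ≠ 0 := fun h => h0 (Euler.isZero_of_euler_eq_zero k X F hF hd h.le)
    have h3 : 0 < Curv2.euler k X F := lt_of_le_of_ne h1 (Ne.symm h2)
    exact_mod_cast h3
  · left
    have : 0 < grk F := Nat.pos_of_ne_zero hr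
    exact_mod_cast this

end Curve

section Datum

variable (k : Type u) [Field k] (X : Scheme.{u}) [X.Over (Spec (CommRingCat.of k))]
  [IsProper (X ↘ Spec (CommRingCat.of k))] [IsIntegral X] {E : X.Modules}

/-- the linear polynomial of a subobject -/
noncomputable def PS (A : Subobject E) : ℚ[X] := PL k X (A : X.Modules)

theorem ps_bot : PS k X (⊥ : Subobject E) = 0 := pl_zero k X (isZero_bot X)

theorem alpha_ps (A : Subobject E) : StabCat.alpha 1 (PS k X A) = (grk (A : X.Modules) : ℚ) :=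
  alpha_lin _ _

theorem pl_coker {A B : Subobject E} (h : A ≤ B) (hA : Good X A) (hB : Good X B) :
    PL k X (cokernel (Subobject.ofLE A B h)) = PS k X B - PS k X A := by
  have h1 : PS k X B = PS k X A + PL k X (cokernel (Subobject.ofLE A B h)) :=
    pl_add k X (cokerSC (Subobject.ofLE A B h)) (cokerSC_shortExact _) hA hB
      (isCoh_coker k X h hA hB)
  rw [h1]
  ring

theorem pl_biprod {F G : X.Modules} (hF : Coh.IsCoh F) (hG : Coh.IsCoh G) :
    PL k X (F ⊞ G) = PL k X F + PL k X G := by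
  have hS : (ShortComplex.mk (biprod.inl : F ⟶ F ⊞ G) (biprod.snd : F ⊞ G ⟶ G)
      (by simp)).ShortExact := (ShortComplex.Splitting.ofHasBinaryBiproduct F G).shortExact
  have h2 : Coh.IsCoh (F ⊞ G) := isCoh_biprod k X hF hG
  have h3 := pl_add k X _ hS hF h2 hG
  exact h3

theorem ps_mod (hE : Coh.IsCoh E) {A B : Subobject E} (hA : Good X A) (hB : Good X B) :
    PS k X (A ⊔ B) + PS k X (A ⊓ B) = PS k X A + PS k X B := by
  have hS := supInfSC_shortExact A B
  have gS := good_sup k X hE hA hB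
  have gI := good_inf k X hE hA hB
  have h1 : PL k X ((A : X.Modules) ⊞ (B : X.Modules)) = PS k X (A ⊓ B) + PS k X (A ⊔ B) :=
    pl_add k X (supInfSC A B) hS gI (isCoh_biprod k X hA hB) gS
  have h2 : PL k X ((A : X.Modules) ⊞ (B : X.Modules)) = PS k X A + PS k X B :=
    pl_biprod k X hA hB
  rw [← h2, h1]
  ring

theorem evPos_sub (hdim : topologicalKrullDim X = 1) {A B : Subobject E} (hA : Good X A)
    (hB : Good X B) (hlt : A < B) : EvPos (PS k X B - PS k X A) := by
  rw [← pl_coker k X hlt.le hA hB]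
  exact evPos_pl k X hdim (isCoh_coker k X hlt.le hA hB)
    (fun h0 => (not_le_of_gt hlt) (le_of_isZero_cokernel_ofLE hlt.le h0))

include k in
theorem grk_le {A B : Subobject E} (hA : Good X A) (hB : Good X B) (h : A ≤ B) :
    grk (A : X.Modules) ≤ grk (B : X.Modules) := by
  have h1 : grk (B : X.Modules) = grk (A : X.Modules) +
      grk (cokernel (Subobject.ofLE A B h)) :=
    grk_add (cokerSC (Subobject.ofLE A B h)) (cokerSC_shortExact _) hA
      (isCoh_coker k X h hA hB)
  omega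

/-- the numerical datum on the lattice of subobjects of a coherent module on a curve -/
noncomputable def datum (hdim : topologicalKrullDim X = 1) (hE : Coh.IsCoh E) :
    Datum (Subobject E) GK where
  good := Good X
  v := fun A => germ (PS k X A)
  α := fun A => (grk (A : X.Modules) : ℤ)
  good_inf := fun hC hD => good_inf k X hE hC hD
  good_sup := fun hC hD => good_sup k X hE hC hD
  wf := wf_good k X hE
  v_mod := fun hC hD => by
    rw [← map_add, ← map_add, ps_mod k X hE hC hD]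
  α_mod := fun {C D} hC hD => by
    have h := ps_mod k X hE hC hD
    have h2 : StabCat.alpha 1 (PS k X (C ⊔ D)) + StabCat.alpha 1 (PS k X (C ⊓ D)) =
        StabCat.alpha 1 (PS k X C) + StabCat.alpha 1 (PS k X D) := by
      rw [← alpha_add, ← alpha_add, h]
    rw [alpha_ps, alpha_ps, alpha_ps, alpha_ps] at h2
    exact_mod_cast h2
  v_lt := fun hC hD hlt => by
    rw [← sub_pos, ← map_sub]
    exact germ_pos_of_evPos (evPos_sub k X hdim hC hD hlt)
  α_le := fun hC hD hle => by
    exact_mod_cast grk_le k X hC hD hle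

end Datum

section Translate

variable (k : Type u) [Field k] (X : Scheme.{u}) [X.Over (Spec (CommRingCat.of k))]
  [IsProper (X ↘ Spec (CommRingCat.of k))] [IsIntegral X] {E : X.Modules}
  (hdim : topologicalKrullDim X = 1) (hE : Coh.IsCoh E)

theorem a_datum (A B : Subobject E) :
    (datum k X hdim hE).a A B =
      ((StabCat.alpha 1 (PS k X B - PS k X A) : ℚ) : GK) := by
  change ((((grk (B : X.Modules) : ℤ) - (grk (A : X.Modules) : ℤ) : ℤ)) : GK) = _
  rw [alpha_sub, alpha_ps, alpha_ps]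
  push_cast
  rfl

theorem w_datum (A B : Subobject E) :
    (datum k X hdim hE).w A B = germ (PS k X B - PS k X A) := by
  rw [map_sub]
  rfl

theorem le_iff_redLE (A B C : Subobject E) :
    (datum k X hdim hE).a A B * (datum k X hdim hE).w A C ≤
        (datum k X hdim hE).a A C * (datum k X hdim hE).w A B ↔
      StabCat.RedLE 1 (PS k X C - PS k X A) (PS k X B - PS k X A) := by
  rw [a_datum, a_datum, w_datum, w_datum, redLE_iff]

theorem eq_iff_redEq (A B C : Subobject E) :
    (datum k X hdim hE).a A B * (datum k X hdim hE).w A C =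
        (datum k X hdim hE).a A C * (datum k X hdim hE).w A B ↔
      StabCat.RedEq 1 (PS k X C - PS k X A) (PS k X B - PS k X A) := by
  rw [a_datum, a_datum, w_datum, w_datum, redEq_iff]

theorem lt_iff_redLT (A B D : Subobject E) :
    (datum k X hdim hE).a A B * (datum k X hdim hE).w B D <
        (datum k X hdim hE).a B D * (datum k X hdim hE).w A B ↔
      StabCat.RedLT 1 (PS k X D - PS k X B) (PS k X B - PS k X A) := by
  rw [a_datum, a_datum, w_datum, w_datum, redLT_iff]

end Translate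

section Dict

variable (k : Type u) [Field k] (X : Scheme.{u}) [X.Over (Spec (CommRingCat.of k))]
  [IsProper (X ↘ Spec (CommRingCat.of k))] [IsIntegral X] {E : X.Modules}
  (hdim : topologicalKrullDim X = 1)

theorem slope_le_iff (a b c : ℤ) (r' r₁ : ℕ) :
    (a - r' * c) * (r₁ : ℤ) ≤ (b - r₁ * c) * (r' : ℤ) ↔ (r₁ : ℚ) * (a : ℚ) ≤ (r' : ℚ) * (b : ℚ) := by
  have e : (b - r₁ * c) * (r' : ℤ) - (a - r' * c) * (r₁ : ℤ) = r' * b - r₁ * a := by ring
  rw [← sub_nonneg, e, sub_nonneg]
  exact_mod_cast Iff.rfl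

theorem slope_lt_iff (a b c : ℤ) (r' r₁ : ℕ) :
    (a - r' * c) * (r₁ : ℤ) < (b - r₁ * c) * (r' : ℤ) ↔ (r₁ : ℚ) * (a : ℚ) < (r' : ℚ) * (b : ℚ) := by
  have e : (b - r₁ * c) * (r' : ℤ) - (a - r' * c) * (r₁ : ℤ) = r' * b - r₁ * a := by ring
  rw [← sub_pos, e, sub_pos]
  exact_mod_cast Iff.rfl

theorem slope_eq_iff (a b c : ℤ) (r' r₁ : ℕ) :
    (a - r' * c) * (r₁ : ℤ) = (b - r₁ * c) * (r' : ℤ) ↔ (r₁ : ℚ) * (a : ℚ) = (r' : ℚ) * (b : ℚ) := by
  have e : (b - r₁ * c) * (r' : ℤ) - (a - r' * c) * (r₁ : ℤ) = r' * b - r₁ * a := by ring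
  rw [eq_comm, ← sub_eq_zero, e, sub_eq_zero, eq_comm]
  exact_mod_cast Iff.rfl

/-- slope comparison in terms of the linear polynomials -/
theorem deg_le_iff (G B : X.Modules) (r' r₁ : ℕ) :
    Curv2.deg k X G r' * (r₁ : ℤ) ≤ Curv2.deg k X B r₁ * (r' : ℤ) ↔
      StabCat.RedLE 1 (lin r' (Curv2.euler k X G)) (lin r₁ (Curv2.euler k X B)) := by
  rw [redLE_lin]
  unfold Curv2.deg
  exact slope_le_iff _ _ _ _ _

theorem deg_lt_iff (G B : X.Modules) (r' r₁ : ℕ) :
    Curv2.deg k X G r' * (r₁ : ℤ) < Curv2.deg k X B r₁ * (r' : ℤ) ↔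
      StabCat.RedLT 1 (lin r' (Curv2.euler k X G)) (lin r₁ (Curv2.euler k X B)) := by
  rw [redLT_lin]
  unfold Curv2.deg
  exact slope_lt_iff _ _ _ _ _

theorem deg_eq_iff (G B : X.Modules) (r' r₁ : ℕ) :
    Curv2.deg k X G r' * (r₁ : ℤ) = Curv2.deg k X B r₁ * (r' : ℤ) ↔
      StabCat.RedEq 1 (lin r' (Curv2.euler k X G)) (lin r₁ (Curv2.euler k X B)) := by
  rw [redEq_lin]
  unfold Curv2.deg
  exact slope_eq_iff _ _ _ _ _

omit [IsProper (X ↘ Spec (CommRingCat.of k))] in
theorem pl_of_rank {G : X.Modules} {n : ℕ} (hG : FlatMod.IsFinLocFreeOfRank n G) :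
    PL k X G = lin n (Curv2.euler k X G) := by
  unfold PL
  rw [grk_of_rank hG]

theorem ps_mk {G : X.Modules} (j : G ⟶ E) [Mono j] : PS k X (Subobject.mk j) = PL k X G :=
  pl_iso k X (Subobject.underlyingIso j)

omit [X.Over (Spec (CommRingCat.of k))] [IsProper (X ↘ Spec (CommRingCat.of k))] [IsIntegral X] in
theorem good_mk {G : X.Modules} (j : G ⟶ E) [Mono j] (hG : Coh.IsCoh G) :
    Good X (Subobject.mk j) :=
  isCoh_of_iso' X (Subobject.underlyingIso j).symm hG

omit [X.Over (Spec (CommRingCat.of k))] [IsProper (X ↘ Spec (CommRingCat.of k))] [IsIntegral X] in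
theorem isCoh_of_rank {G : X.Modules} {n : ℕ} (hG : FlatMod.IsFinLocFreeOfRank n G) :
    Coh.IsCoh G :=
  Groth.Agent.Lib.Helper5.LocalCoh.isCoh_of_isFinLocFree _ (FinLen.isFinLocFree_of_rank hG)

include k in
theorem locFree_of_good (hX : ∀ x : X, ValuationRing (X.presheaf.stalk x)) {r : ℕ}
    (hE : FlatMod.IsFinLocFreeOfRank r E) {D : Subobject E} (hD : Good X D) :
    FlatMod.IsFinLocFreeOfRank (grk (D : X.Modules)) (D : X.Modules) := by
  haveI : (D : X.Modules).IsQuasicoherent := hD.1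
  obtain ⟨n, hn, -⟩ := VB.sub_locFree k X hX hE D.arrow
  rw [grk_of_rank hn]
  exact hn

include k in
theorem grk_pos_of_bot_lt (hX : ∀ x : X, ValuationRing (X.presheaf.stalk x)) {r : ℕ}
    (hE : FlatMod.IsFinLocFreeOfRank r E) {D : Subobject E} (hD : Good X D) (hlt : ⊥ < D) :
    0 < grk (D : X.Modules) := by
  have h1 := locFree_of_good k X hX hE hD
  refine Nat.pos_of_ne_zero (fun h0 => not_isZero_of_bot_lt X hlt ?_)
  rw [h0] at h1
  exact VB.isZero_of_rank_zero h1

theorem pureAbove_bot (hX : ∀ x : X, ValuationRing (X.presheaf.stalk x)) {r : ℕ}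
    (hE : FlatMod.IsFinLocFreeOfRank r E) (hEc : Coh.IsCoh E) :
    (datum k X hdim hEc).PureAbove ⊥ := by
  intro D hD hlt
  change ((grk ((⊥ : Subobject E) : X.Modules) : ℕ) : ℤ) < ((grk (D : X.Modules) : ℕ) : ℤ)
  rw [grk_of_isZero (isZero_bot X)]
  exact_mod_cast grk_pos_of_bot_lt k X hX hE hD hlt

theorem bot_lt_mk {G : X.Modules} (j : G ⟶ E) [Mono j] (h0 : ¬ IsZero G) :
    (⊥ : Subobject E) < Subobject.mk j := by
  rw [bot_lt_iff_ne_bot]
  intro he
  apply h0
  have h1 : IsZero ((Subobject.mk j : Subobject E) : X.Modules) := by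
    rw [he]
    exact isZero_bot X
  exact IsZero.of_iso h1 (Subobject.underlyingIso j).symm

include hdim in
/-- S14149 -/
theorem exists_maxSlope (hX : ∀ x : X, ValuationRing (X.presheaf.stalk x))
    (r : ℕ) (hr : 0 < r) (E : X.Modules) (hE : FlatMod.IsFinLocFreeOfRank r E) :
    ∃ (E₁ : X.Modules) (r₁ : ℕ) (i₁ : E₁ ⟶ E), Mono i₁ ∧ 0 < r₁ ∧ FlatMod.IsFinLocFreeOfRank r₁ E₁ ∧
      (∀ (G : X.Modules) (r' : ℕ) (j : G ⟶ E), Mono j → 0 < r' → FlatMod.IsFinLocFreeOfRank r' G →
        Curv2.deg k X G r' * (r₁ : ℤ) ≤ Curv2.deg k X E₁ r₁ * (r' : ℤ)) ∧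
      (∀ (G : X.Modules) (r' : ℕ) (j : G ⟶ E), Mono j → 0 < r' → FlatMod.IsFinLocFreeOfRank r' G →
        Curv2.deg k X G r' * (r₁ : ℤ) = Curv2.deg k X E₁ r₁ * (r' : ℤ) → r' ≤ r₁) ∧
      (∀ (G : X.Modules) (r' : ℕ) (i : G ⟶ E₁), Mono i → 0 < r' → FlatMod.IsFinLocFreeOfRank r' G →
      Curv2.deg k X G r' * (r₁ : ℤ) ≤ Curv2.deg k X E₁ r₁ * (r' : ℤ)) := by
  have hEc : Coh.IsCoh E := isCoh_of_rank X hE
  have h0 : ¬ IsZero E := VB.not_isZero_of_rank_pos X hr hE
  obtain ⟨B, hBg, hBlt, hBmax⟩ := (datum k X hdim hEc).exists_relMax ⊥ (good_bot X)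
    (pureAbove_bot k X hdim hX hE hEc) ⟨⊤, good_top X hEc, bot_lt_top_of_not_isZero X h0⟩
  have hBg' : Good X B := hBg
  have hBf := locFree_of_good k X hX hE hBg'
  have hBpos := grk_pos_of_bot_lt k X hX hE hBg' hBlt
  have key : ∀ (G : X.Modules) (r' : ℕ) (j : G ⟶ E), Mono j → 0 < r' →
      FlatMod.IsFinLocFreeOfRank r' G →
      Curv2.deg k X G r' * (grk (B : X.Modules) : ℤ) ≤
        Curv2.deg k X (B : X.Modules) (grk (B : X.Modules)) * (r' : ℤ) ∧
      (Curv2.deg k X G r' * (grk (B : X.Modules) : ℤ) =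
        Curv2.deg k X (B : X.Modules) (grk (B : X.Modules)) * (r' : ℤ) → r' ≤ grk (B : X.Modules)) := by
    intro G r' j hj hr' hG
    haveI := hj
    have hCg : Good X (Subobject.mk j) := good_mk X j (isCoh_of_rank X hG)
    have hClt : (⊥ : Subobject E) < Subobject.mk j :=
      bot_lt_mk X j (VB.not_isZero_of_rank_pos X hr' hG)
    obtain ⟨h1, h2⟩ := hBmax (Subobject.mk j) hCg hClt
    rw [le_iff_redLE, ps_bot, sub_zero, sub_zero, ps_mk, pl_of_rank k X hG] at h1
    rw [eq_iff_redEq, ps_bot, sub_zero, sub_zero, ps_mk, pl_of_rank k X hG] at h2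
    have e : PS k X B = lin (grk (B : X.Modules)) (Curv2.euler k X (B : X.Modules)) := rfl
    rw [e] at h1 h2
    refine ⟨(deg_le_iff k X _ _ _ _).2 h1, fun he => ?_⟩
    have hle := h2 ((deg_eq_iff k X _ _ _ _).1 he)
    have := grk_le k X hCg hBg' hle
    rw [grk_of_iso (Subobject.underlyingIso j), grk_of_rank hG] at this
    exact this
  refine ⟨(B : X.Modules), grk (B : X.Modules), B.arrow, inferInstance, hBpos, hBf,
    fun G r' j hj hr' hG => (key G r' j hj hr' hG).1,
    fun G r' j hj hr' hG => (key G r' j hj hr' hG).2, fun G r' i hi hr' hG => ?_⟩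
  haveI := hi
  exact (key G r' (i ≫ B.arrow) (mono_comp _ _) hr' hG).1

end Dict

end Groth.Agent.Lead.VBL
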