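import Mathlib
import Groth.Agent.Lib.Lead.VBL1
import Groth.Agent.Lib.Lead.Ref1K

set_option autoImplicit false
set_option backward.isDefEq.respectTransparency.types false
set_option synthInstance.maxHeartbeats 400000
set_option linter.style.haveILetI false
set_option linter.unusedSectionVars false
set_option linter.unusedVariables false

universe u

open CategoryTheory CategoryTheory.Limits AlgebraicGeometry TopologicalSpace Opposite Polynomial

namespace Groth.Agent.Lead.VBL

open Groth.Agent.Lead.HP Groth.Agent.Helper1 Groth.Agent.Lead.HN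
open Groth.Agent.Lib.Helper5.StalkAdj Groth.Agent.Helper1.Dv

section Stalks

variable {X : Scheme.{u}}

theorem stalkL_eq_stalkMapₗ {F G : X.Modules} (φ : F ⟶ G) (x : X) :
    stalkL φ x = RefHull.stalkMapₗ φ x := by
  apply LinearMap.ext
  intro v
  obtain ⟨U, hx, s, rfl⟩ := TopCat.Presheaf.exists_germ_eq F.presheaf v
  rw [stalkL_germ, RefHull.stalkMapₗ_germ]

theorem stalkL_injective_of_mono {F G : X.Modules} (φ : F ⟶ G) [Mono φ] (x : X) :
    Function.Injective (stalkL φ x) := by
  haveI : Mono ((stalkSh X x).map φ) := inferInstance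
  exact (ModuleCat.mono_iff_injective _).1 this

theorem stalkL_comp {F G H : X.Modules} (φ : F ⟶ G) (ψ : G ⟶ H) (x : X) (v : F.presheaf.stalk x) :
    stalkL (φ ≫ ψ) x v = stalkL ψ x (stalkL φ x v) := by
  unfold stalkL
  rw [Functor.map_comp]
  rfl

theorem stalkL_zero {F G : X.Modules} (x : X) (v : F.presheaf.stalk x) :
    stalkL (0 : F ⟶ G) x v = 0 := by
  unfold stalkL
  rw [Functor.map_zero]
  rfl

/-- a finitely presented module with free stalks is finite locally free -/
theorem isFinLocFree_of_free_stalks (F : X.Modules) (hF : CohB1.IsFP F)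
    (h : ∀ y : X, y ∈ Ref1.freeLocus F) : FlatMod.IsFinLocFree F := by
  haveI : SheafOfModules.IsFinitePresentation (R := X.ringCatSheaf) F := hF
  haveI : F.IsQuasicoherent := inferInstance
  rw [Groth.Agent.Lead.FLF.isFinLocFree_iff_affineOpens]
  intro W hW
  haveI := Groth.Agent.Lead.FP.fp_sections_of_isFP F hF hW
  have hproj : Module.Projective Γ(X, W) Γ(F, W) := by
    rw [← Module.freeLocus_eq_univ_iff, Set.eq_univ_iff_forall]
    intro p
    have hy : hW.fromSpec p ∈ W := by
      have : hW.fromSpec p ∈ Set.range hW.fromSpec := ⟨p, rfl⟩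
      rwa [hW.range_fromSpec] at this
    have e : hW.primeIdealOf ⟨hW.fromSpec p, hy⟩ = p :=
      hW.fromSpec.isOpenEmbedding.injective (hW.fromSpec_primeIdealOf ⟨hW.fromSpec p, hy⟩)
    rw [← e, ← Ref1.mem_freeLocus_iff F hW _ hy]
    exact h _
  exact ⟨inferInstance, hproj⟩

variable [IsIntegral X] [IsLocallyNoetherian X]

/-- torsion free stalks over valuation rings are free -/
theorem mem_freeLocus_of_torsionFree (hX : ∀ x : X, ValuationRing (X.presheaf.stalk x))
    (F : X.Modules) (hF : Coh.IsCoh F) (x : X)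
    (htf : Module.IsTorsionFree (X.presheaf.stalk x) (F.presheaf.stalk x)) :
    x ∈ Ref1.freeLocus F := by
  haveI : IsPrincipalIdealRing (X.presheaf.stalk x) :=
    ((tfae_of_isNoetherianRing_of_isLocalRing_of_isDomain
      (R := X.presheaf.stalk x)).out 1 0).1 (hX x)
  haveI : Module.Finite (X.presheaf.stalk x) (F.presheaf.stalk x) :=
    Groth.Agent.Helper7.FinType.stalk_finite_of_isCoh F hF x
  exact Module.free_of_finite_type_torsion_free'

theorem isTorsionFree_structureModule : TorSh.IsTorsionFree (Coh.structureModule X) := by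
  intro x
  exact Function.Injective.moduleIsTorsionFree (RH.unitEquiv x).symm
    (RH.unitEquiv x).symm.injective (fun r m => map_smul _ r m)

/-- a coherent module which embeds in its bidual has torsion free stalks -/
theorem isTorsionFree_of_mono_bidualMap (Q : X.Modules) (hQ : Coh.IsCoh Q)
    [Mono (RefHull.bidualMap Q)] : TorSh.IsTorsionFree Q := by
  intro x
  have hd : Coh.IsCoh (RefHull.dual Q) := RH.isCoh_homSh hQ Ref1.isCoh_structureModule
  have hdd : TorSh.IsTorsionFree (RefHull.ddual Q) :=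
    RH.isTorsionFree_homSh hd.1 hd.2 isTorsionFree_structureModule
  haveI := hdd x
  exact Function.Injective.moduleIsTorsionFree (stalkL (RefHull.bidualMap Q) x)
    (stalkL_injective_of_mono _ x) (fun r m => map_smul _ r m)

/-- the kernel of the map to the bidual is generically zero -/
theorem grk_kernel_bidualMap (Q : X.Modules) (hQ : Coh.IsCoh Q) :
    grk (kernel (RefHull.bidualMap Q)) = 0 := by
  have hb := (Ref1.stalkMapₗ_bidualMap_generic_bijective hQ).1
  rw [← stalkL_eq_stalkMapₗ] at hb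
  have hs : Subsingleton ((kernel (RefHull.bidualMap Q)).presheaf.stalk (genericPoint X)) := by
    refine ⟨fun a b => ?_⟩
    apply stalkL_injective_of_mono (kernel.ι (RefHull.bidualMap Q)) (genericPoint X)
    apply hb
    rw [← stalkL_comp, ← stalkL_comp, kernel.condition, stalkL_zero, stalkL_zero]
  unfold grk
  haveI := hs
  exact Module.finrank_zero_of_subsingleton

end Stalks

section Lattice

variable {S : Type*} [Lattice S] {K : Type*} [Field K] [LinearOrder K] [IsStrictOrderedRing K]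
  (𝔇 : Datum S K)

theorem pureAbove_of_le {A B : S} (hpA : 𝔇.PureAbove A) (hB : 𝔇.good B) (hAB : A < B)
    (P1 : ∀ C, 𝔇.good C → A < C → 𝔇.a A B * 𝔇.w A C ≤ 𝔇.a A C * 𝔇.w A B) :
    𝔇.PureAbove B := by
  intro D hD hBD
  by_contra h
  have hα : 𝔇.α D = 𝔇.α B := le_antisymm (not_lt.1 h) (𝔇.α_le hB hD hBD.le)
  have ha : 𝔇.a A D = 𝔇.a A B := by
    unfold Datum.a
    rw [hα]
  have h1 := P1 D hD (hAB.trans hBD)
  rw [ha] at h1
  have hpos := 𝔇.a_pos hpA hB hAB
  have h2 : 𝔇.w A D ≤ 𝔇.w A B := le_of_mul_le_mul_left h1 hpos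
  exact (not_le_of_gt (𝔇.w_lt A hB hD hBD)) h2

theorem relMax_of_le_of_lt {A B : S} (hB : 𝔇.good B) (hAB : A < B)
    (P1 : ∀ C, 𝔇.good C → A < C → 𝔇.a A B * 𝔇.w A C ≤ 𝔇.a A C * 𝔇.w A B)
    (P2 : ∀ D, 𝔇.good D → B < D → 𝔇.a A B * 𝔇.w B D < 𝔇.a B D * 𝔇.w A B) :
    𝔇.RelMax A B := by
  refine ⟨hB, hAB, fun C hC hAC => ⟨P1 C hC hAC, fun heq => ?_⟩⟩
  by_contra hCB
  have hBD : B < B ⊔ C := lt_of_le_of_ne le_sup_left (fun h => hCB (le_sup_right.trans h.ge))
  have gS := 𝔇.good_sup hB hC
  have gI := 𝔇.good_inf hB hC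
  have hAI : A ≤ B ⊓ C := le_inf hAB.le hAC.le
  have hI : 𝔇.a A B * 𝔇.w A (B ⊓ C) ≤ 𝔇.a A (B ⊓ C) * 𝔇.w A B := by
    rcases hAI.eq_or_lt with h | h
    · rw [← h, 𝔇.a_self, 𝔇.w_self]
      simp
    · exact P1 _ gI h
  have e1 := 𝔇.w_mod A hB hC
  have e2 := 𝔇.a_mod A hB hC
  have h2 := P2 _ gS hBD
  have e3 := 𝔇.w_add A B (B ⊔ C)
  have e4 := 𝔇.a_add A B (B ⊔ C)
  have e5 : 𝔇.w B (B ⊔ C) = 𝔇.w A C - 𝔇.w A (B ⊓ C) := by linarith
  have e6 : 𝔇.a B (B ⊔ C) = 𝔇.a A C - 𝔇.a A (B ⊓ C) := by linarith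
  rw [e5, e6, mul_sub, sub_mul] at h2
  linarith

theorem lt_of_relMax {A B D : S} (h1 : 𝔇.RelMax A B) (hD : 𝔇.good D) (hBD : B < D) :
    𝔇.a A B * 𝔇.w B D < 𝔇.a B D * 𝔇.w A B := by
  have hAD : A < D := h1.2.1.trans hBD
  obtain ⟨h3, h4⟩ := h1.2.2 D hD hAD
  have hlt : 𝔇.a A B * 𝔇.w A D < 𝔇.a A D * 𝔇.w A B := by
    refine lt_of_le_of_ne h3 (fun he => ?_)
    exact (not_le_of_gt hBD) (h4 he)
  rw [𝔇.a_add A B D, 𝔇.w_add A B D, mul_add, add_mul] at hlt
  linarith

end Lattice

section Sat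

variable (k : Type u) [Field k] (X : Scheme.{u}) [X.Over (Spec (CommRingCat.of k))]
  [IsProper (X ↘ Spec (CommRingCat.of k))] [IsIntegral X] {E : X.Modules}
  (hdim : topologicalKrullDim X = 1)

include k in
theorem isCoh_kernel {F G : X.Modules} (f : F ⟶ G) (hF : Coh.IsCoh F) (hG : Coh.IsCoh G) :
    Coh.IsCoh (kernel f) := by
  haveI := Euler.isNoetherian_of_proper k X
  haveI : F.IsQuasicoherent := hF.1
  haveI : G.IsQuasicoherent := hG.1
  exact FtLocal.isCoh_of_mono (kernel.ι f) hF (QcAbel.isQuasicoherent_kernel f)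

include k in
/-- the quotient by a saturated subobject is finite locally free -/
theorem isFinLocFree_coker_of_saturated (hX : ∀ x : X, ValuationRing (X.presheaf.stalk x))
    {B C : Subobject E} (hBC : B ≤ C) (hB : Good X B) (hC : Good X C)
    (hsat : ∀ D, Good X D → B ≤ D → D ≤ C → grk (D : X.Modules) = grk (B : X.Modules) → D = B) :
    FlatMod.IsFinLocFree (cokernel (Subobject.ofLE B C hBC)) := by
  haveI := Euler.isNoetherian_of_proper k X
  have hQ : Coh.IsCoh (cokernel (Subobject.ofLE B C hBC)) := isCoh_coker k X hBC hB hC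
  have hd : Coh.IsCoh (RefHull.dual (cokernel (Subobject.ofLE B C hBC))) :=
    RH.isCoh_homSh hQ Ref1.isCoh_structureModule
  have hdd : Coh.IsCoh (RefHull.ddual (cokernel (Subobject.ofLE B C hBC))) :=
    RH.isCoh_homSh hd Ref1.isCoh_structureModule
  have hT : Coh.IsCoh (kernel (RefHull.bidualMap (cokernel (Subobject.ofLE B C hBC)))) :=
    isCoh_kernel k X _ hQ hdd
  have hz : IsZero (kernel (RefHull.bidualMap (cokernel (Subobject.ofLE B C hBC)))) := by
    by_contra hnz
    have hlt := lt_preSub_of_not_isZero hBC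
      (kernel.ι (RefHull.bidualMap (cokernel (Subobject.ofLE B C hBC)))) hnz
    have hD : Good X (preSub hBC
        (kernel.ι (RefHull.bidualMap (cokernel (Subobject.ofLE B C hBC))))) :=
      isCoh_X₂ k X (preSubSC_shortExact hBC _) hB hT
    have hrk : grk ((preSub hBC
        (kernel.ι (RefHull.bidualMap (cokernel (Subobject.ofLE B C hBC)))) : Subobject E) :
          X.Modules) = grk (B : X.Modules) := by
      have h1 : grk ((preSub hBC
        (kernel.ι (RefHull.bidualMap (cokernel (Subobject.ofLE B C hBC)))) : Subobject E) :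
          X.Modules) = grk (B : X.Modules) +
            grk (kernel (RefHull.bidualMap (cokernel (Subobject.ofLE B C hBC)))) :=
        grk_add (preSubSC hBC _) (preSubSC_shortExact hBC _) hB hT
      rw [grk_kernel_bidualMap _ hQ, add_zero] at h1
      exact h1
    exact hlt.ne' (hsat _ hD (le_preSub hBC _) (preSub_le hBC _) hrk)
  haveI : Mono (RefHull.bidualMap (cokernel (Subobject.ofLE B C hBC))) :=
    Preadditive.mono_of_isZero_kernel _ hz
  have htf := isTorsionFree_of_mono_bidualMap _ hQ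
  exact isFinLocFree_of_free_stalks _ (FpLocal.isFP_of_isCoh _ hQ)
    (fun y => mem_freeLocus_of_torsionFree hX _ hQ y (htf y))

end Sat

end Groth.Agent.Lead.VBL
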