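import Mathlib
import Groth.Agent.Lib.Lead.VBL2

set_option autoImplicit false
set_option backward.isDefEq.respectTransparency.types false
set_option synthInstance.maxHeartbeats 400000
set_option linter.style.haveILetI false
set_option linter.unusedSectionVars false
set_option linter.unusedVariables false

universe u

open CategoryTheory CategoryTheory.Limits AlgebraicGeometry TopologicalSpace Opposite Polynomial

namespace Groth.Agent.Lead.VBL

open Groth.Agent.Lead.HP Groth.Agent.Helper1 Groth.Agent.Lead.HN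
open Groth.Agent.Lib.Helper5.StalkAdj Groth.Agent.Helper1.Dv Groth.Agent.Lead.FLF

section Iso

variable {X : Scheme.{u}}

theorem isFinLocFreeOfRank_of_iso {M M' : X.Modules} (e : M ≅ M') {n : ℕ}
    (h : FlatMod.IsFinLocFreeOfRank n M) : FlatMod.IsFinLocFreeOfRank n M' := by
  intro x
  obtain ⟨U, hx, ⟨i⟩⟩ := h x
  exact ⟨U, hx, ⟨(Scheme.Modules.restrictFunctor U.ι).mapIso e.symm ≪≫ i⟩⟩

end Iso

section Quot

variable (k : Type u) [Field k] (X : Scheme.{u}) [X.Over (Spec (CommRingCat.of k))]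
  [IsProper (X ↘ Spec (CommRingCat.of k))] [IsIntegral X] {E : X.Modules}
  (hdim : topologicalKrullDim X = 1)

/-- the quotient by a subobject presented by a monomorphism -/
noncomputable def cokerIsoOf (B : Subobject E) {E₁ : X.Modules} (i₁ : E₁ ⟶ E)
    (e : (B : X.Modules) ≅ E₁) (he : e.hom ≫ i₁ = B.arrow) :
    cokernel (Subobject.ofLE B ⊤ le_top) ≅ cokernel i₁ :=
  cokerTopIso X B ≪≫ cokernel.mapIso B.arrow i₁ e (Iso.refl E)
    (by rw [Iso.refl_hom, Category.comp_id, he])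

theorem locFree_coker_of_pureAbove (hX : ∀ x : X, ValuationRing (X.presheaf.stalk x))
    (hEc : Coh.IsCoh E) {B : Subobject E} (hB : Good X B)
    (hp : (datum k X hdim hEc).PureAbove B) :
    ∃ n : ℕ, FlatMod.IsFinLocFreeOfRank n (cokernel (Subobject.ofLE B ⊤ le_top)) := by
  have h1 := isFinLocFree_coker_of_saturated k X hX (le_top : B ≤ ⊤) hB (good_top X hEc)
    (fun D hD hBD _ hrk => by
      by_contra hne
      have hlt : B < D := lt_of_le_of_ne hBD (Ne.symm hne)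
      have := hp D hD hlt
      change ((grk (B : X.Modules) : ℕ) : ℤ) < ((grk (D : X.Modules) : ℕ) : ℤ) at this
      rw [hrk] at this
      exact lt_irrefl _ this)
  exact VB.exists_rank _ h1

/-- the sheaf-level slope bound for subobjects gives the lattice-level one -/
theorem lattice_P1 (hX : ∀ x : X, ValuationRing (X.presheaf.stalk x)) {r : ℕ}
    (hE : FlatMod.IsFinLocFreeOfRank r E) (hEc : Coh.IsCoh E) (B : Subobject E)
    {E₁ : X.Modules} {r₁ : ℕ} (hE₁ : FlatMod.IsFinLocFreeOfRank r₁ E₁)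
    (e : (B : X.Modules) ≅ E₁)
    (P1 : ∀ (F : X.Modules) (r' : ℕ) (j : F ⟶ E), Mono j → 0 < r' →
      FlatMod.IsFinLocFreeOfRank r' F →
        Curv2.deg k X F r' * (r₁ : ℤ) ≤ Curv2.deg k X E₁ r₁ * (r' : ℤ))
    (C : Subobject E) (hC : (datum k X hdim hEc).good C) (hlt : ⊥ < C) :
    (datum k X hdim hEc).a ⊥ B * (datum k X hdim hEc).w ⊥ C ≤
      (datum k X hdim hEc).a ⊥ C * (datum k X hdim hEc).w ⊥ B := by
  have hC' : Good X C := hC
  have h1 := P1 (C : X.Modules) (grk (C : X.Modules)) C.arrow inferInstance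
    (grk_pos_of_bot_lt k X hX hE hC' hlt) (locFree_of_good k X hX hE hC')
  rw [deg_le_iff] at h1
  rw [le_iff_redLE, ps_bot, sub_zero, sub_zero]
  have e1 : PS k X B = lin r₁ (Curv2.euler k X E₁) := by
    unfold PS
    rw [pl_iso k X e, pl_of_rank k X hE₁]
  rw [e1]
  exact h1

/-- the sheaf-level strict slope bound for subobjects of the quotient gives the lattice-level
one -/
theorem lattice_P2 (hX : ∀ x : X, ValuationRing (X.presheaf.stalk x))
    (hEc : Coh.IsCoh E) (B : Subobject E) (hB : Good X B)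
    (hp : (datum k X hdim hEc).PureAbove B)
    {E₁ : X.Modules} {r₁ : ℕ} (hE₁ : FlatMod.IsFinLocFreeOfRank r₁ E₁) (i₁ : E₁ ⟶ E)
    (e : (B : X.Modules) ≅ E₁) (he : e.hom ≫ i₁ = B.arrow)
    (P2 : ∀ (Q : X.Modules) (s : ℕ) (j : Q ⟶ cokernel i₁), Mono j → 0 < s →
      FlatMod.IsFinLocFreeOfRank s Q →
        Curv2.deg k X Q s * (r₁ : ℤ) < Curv2.deg k X E₁ r₁ * (s : ℤ))
    (D : Subobject E) (hD : (datum k X hdim hEc).good D) (hlt : B < D) :
    (datum k X hdim hEc).a ⊥ B * (datum k X hdim hEc).w B D <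
      (datum k X hdim hEc).a B D * (datum k X hdim hEc).w ⊥ B := by
  have hD' : Good X D := hD
  obtain ⟨n, hn⟩ := locFree_coker_of_pureAbove k X hdim hX hEc hB hp
  have hQc : Coh.IsCoh (cokernel (Subobject.ofLE B D hlt.le)) := isCoh_coker k X hlt.le hB hD'
  haveI : (cokernel (Subobject.ofLE B D hlt.le)).IsQuasicoherent := hQc.1
  obtain ⟨s, hs, -⟩ := VB.sub_locFree k X hX hn (quotMapSub hlt.le (le_top : D ≤ ⊤))
  have hrk : grk (D : X.Modules) = grk (B : X.Modules) +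
      grk (cokernel (Subobject.ofLE B D hlt.le)) :=
    grk_add (cokerSC (Subobject.ofLE B D hlt.le)) (cokerSC_shortExact _) hB hQc
  have hpos : 0 < s := by
    have h1 := hp D hD hlt
    change ((grk (B : X.Modules) : ℕ) : ℤ) < ((grk (D : X.Modules) : ℕ) : ℤ) at h1
    rw [← grk_of_rank hs]
    omega
  have h2 := P2 (cokernel (Subobject.ofLE B D hlt.le)) s
    (quotMapSub hlt.le (le_top : D ≤ ⊤) ≫ (cokerIsoOf X B i₁ e he).hom) (mono_comp _ _) hpos hs
  rw [deg_lt_iff, ← pl_of_rank k X hs, pl_coker k X hlt.le hB hD'] at h2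
  rw [lt_iff_redLT, ps_bot, sub_zero]
  have e1 : PS k X B = lin r₁ (Curv2.euler k X E₁) := by
    unfold PS
    rw [pl_iso k X e, pl_of_rank k X hE₁]
  rw [e1] at h2 ⊢
  exact h2

/-- the maximal destabilising subobject has quotient of strictly smaller slopes -/
theorem sheaf_P2 (hEc : Coh.IsCoh E) (B : Subobject E)
    (hrel : (datum k X hdim hEc).RelMax ⊥ B)
    {E₁ : X.Modules} {r₁ : ℕ} (hE₁ : FlatMod.IsFinLocFreeOfRank r₁ E₁) (i₁ : E₁ ⟶ E)
    (e : (B : X.Modules) ≅ E₁) (he : e.hom ≫ i₁ = B.arrow)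
    (Q : X.Modules) (s : ℕ) (j : Q ⟶ cokernel i₁) (hj : Mono j) (hs : 0 < s)
    (hQ : FlatMod.IsFinLocFreeOfRank s Q) :
    Curv2.deg k X Q s * (r₁ : ℤ) < Curv2.deg k X E₁ r₁ * (s : ℤ) := by
  haveI := hj
  have hB : Good X B := hrel.1
  have hQc : Coh.IsCoh Q := isCoh_of_rank X hQ
  have hQ0 : ¬ IsZero Q := VB.not_isZero_of_rank_pos X hs hQ
  haveI : Mono (j ≫ (cokerIsoOf X B i₁ e he).inv) := mono_comp _ _
  have hlt := lt_preSub_of_not_isZero (le_top : B ≤ ⊤) (j ≫ (cokerIsoOf X B i₁ e he).inv) hQ0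
  have hD : Good X (preSub (le_top : B ≤ ⊤) (j ≫ (cokerIsoOf X B i₁ e he).inv)) :=
    isCoh_X₂ k X (preSubSC_shortExact _ _) hB hQc
  have h1 : PS k X (preSub (le_top : B ≤ ⊤) (j ≫ (cokerIsoOf X B i₁ e he).inv)) =
      PS k X B + PL k X Q :=
    pl_add k X (preSubSC (le_top : B ≤ ⊤) (j ≫ (cokerIsoOf X B i₁ e he).inv))
      (preSubSC_shortExact _ _) hB hD hQc
  have h2 := lt_of_relMax (datum k X hdim hEc) hrel hD hlt
  rw [lt_iff_redLT, ps_bot, sub_zero, h1, add_sub_cancel_left] at h2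
  have e1 : PS k X B = lin r₁ (Curv2.euler k X E₁) := by
    unfold PS
    rw [pl_iso k X e, pl_of_rank k X hE₁]
  rw [e1, pl_of_rank k X hQ] at h2
  exact (deg_lt_iff k X _ _ _ _).2 h2

/-- a subobject satisfying the two slope conditions is the maximal destabilising one -/
theorem relMax_of_sheaf (hX : ∀ x : X, ValuationRing (X.presheaf.stalk x)) {r : ℕ}
    (hE : FlatMod.IsFinLocFreeOfRank r E) (hEc : Coh.IsCoh E)
    {E₁ : X.Modules} {r₁ : ℕ} (i₁ : E₁ ⟶ E) [Mono i₁] (hr₁ : 0 < r₁)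
    (hE₁ : FlatMod.IsFinLocFreeOfRank r₁ E₁)
    (P1 : ∀ (F : X.Modules) (r' : ℕ) (j : F ⟶ E), Mono j → 0 < r' →
      FlatMod.IsFinLocFreeOfRank r' F →
        Curv2.deg k X F r' * (r₁ : ℤ) ≤ Curv2.deg k X E₁ r₁ * (r' : ℤ))
    (P2 : ∀ (Q : X.Modules) (s : ℕ) (j : Q ⟶ cokernel i₁), Mono j → 0 < s →
      FlatMod.IsFinLocFreeOfRank s Q →
        Curv2.deg k X Q s * (r₁ : ℤ) < Curv2.deg k X E₁ r₁ * (s : ℤ)) :
    (datum k X hdim hEc).RelMax ⊥ (Subobject.mk i₁) := by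
  have hB : Good X (Subobject.mk i₁) := good_mk X i₁ (isCoh_of_rank X hE₁)
  have hlt : (⊥ : Subobject E) < Subobject.mk i₁ :=
    bot_lt_mk X i₁ (VB.not_isZero_of_rank_pos X hr₁ hE₁)
  have LP1 := lattice_P1 k X hdim hX hE hEc (Subobject.mk i₁) hE₁ (Subobject.underlyingIso i₁) P1
  have hpB := pureAbove_of_le (datum k X hdim hEc) (pureAbove_bot k X hdim hX hE hEc) hB hlt LP1
  have LP2 := lattice_P2 k X hdim hX hEc (Subobject.mk i₁) hB hpB hE₁ i₁
    (Subobject.underlyingIso i₁) (Subobject.underlyingIso_hom_comp_eq_mk i₁) P2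
  exact relMax_of_le_of_lt (datum k X hdim hEc) hB hlt LP1 LP2

include hdim in
/-- S16470 -/
theorem existsUnique_maxDestab (hX : ∀ x : X, ValuationRing (X.presheaf.stalk x))
    (r : ℕ) (hr : 0 < r) (E : X.Modules) (hE : FlatMod.IsFinLocFreeOfRank r E) :
    (∃ (E₁ : X.Modules) (r₁ : ℕ) (i₁ : E₁ ⟶ E), Mono i₁ ∧ 0 < r₁ ∧ FlatMod.IsFinLocFreeOfRank r₁ E₁ ∧
      (∀ (F : X.Modules) (r' : ℕ) (j : F ⟶ E), Mono j → 0 < r' → FlatMod.IsFinLocFreeOfRank r' F →
        Curv2.deg k X F r' * (r₁ : ℤ) ≤ Curv2.deg k X E₁ r₁ * (r' : ℤ)) ∧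
      (∀ (Q : X.Modules) (s : ℕ) (j : Q ⟶ cokernel i₁), Mono j → 0 < s → FlatMod.IsFinLocFreeOfRank s Q →
        Curv2.deg k X Q s * (r₁ : ℤ) < Curv2.deg k X E₁ r₁ * (s : ℤ))) ∧
    (∀ (E₁ E₁' : X.Modules) (r₁ r₁' : ℕ) (i₁ : E₁ ⟶ E) (i₁' : E₁' ⟶ E),
      Mono i₁ → 0 < r₁ → FlatMod.IsFinLocFreeOfRank r₁ E₁ →
      (∀ (F : X.Modules) (r' : ℕ) (j : F ⟶ E), Mono j → 0 < r' → FlatMod.IsFinLocFreeOfRank r' F →
        Curv2.deg k X F r' * (r₁ : ℤ) ≤ Curv2.deg k X E₁ r₁ * (r' : ℤ)) →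
      (∀ (Q : X.Modules) (s : ℕ) (j : Q ⟶ cokernel i₁), Mono j → 0 < s → FlatMod.IsFinLocFreeOfRank s Q →
        Curv2.deg k X Q s * (r₁ : ℤ) < Curv2.deg k X E₁ r₁ * (s : ℤ)) →
      Mono i₁' → 0 < r₁' → FlatMod.IsFinLocFreeOfRank r₁' E₁' →
      (∀ (F : X.Modules) (r' : ℕ) (j : F ⟶ E), Mono j → 0 < r' → FlatMod.IsFinLocFreeOfRank r' F →
        Curv2.deg k X F r' * (r₁' : ℤ) ≤ Curv2.deg k X E₁' r₁' * (r' : ℤ)) →
      (∀ (Q : X.Modules) (s : ℕ) (j : Q ⟶ cokernel i₁'), Mono j → 0 < s → FlatMod.IsFinLocFreeOfRank s Q →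
        Curv2.deg k X Q s * (r₁' : ℤ) < Curv2.deg k X E₁' r₁' * (s : ℤ)) →
      ∃ e : E₁ ≅ E₁', e.hom ≫ i₁' = i₁) := by
  have hEc : Coh.IsCoh E := isCoh_of_rank X hE
  have h0 : ¬ IsZero E := VB.not_isZero_of_rank_pos X hr hE
  constructor
  · obtain ⟨B, hrel⟩ := (datum k X hdim hEc).exists_relMax ⊥ (good_bot X)
      (pureAbove_bot k X hdim hX hE hEc) ⟨⊤, good_top X hEc, bot_lt_top_of_not_isZero X h0⟩
    have hBg : Good X B := hrel.1
    have hBf := locFree_of_good k X hX hE hBg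
    have hBpos := grk_pos_of_bot_lt k X hX hE hBg hrel.2.1
    refine ⟨(B : X.Modules), grk (B : X.Modules), B.arrow, inferInstance, hBpos, hBf,
      fun G r' j hj hr' hG => ?_, fun Q s j hj hs hQ => ?_⟩
    · haveI := hj
      have hCg : Good X (Subobject.mk j) := good_mk X j (isCoh_of_rank X hG)
      have hClt : (⊥ : Subobject E) < Subobject.mk j :=
        bot_lt_mk X j (VB.not_isZero_of_rank_pos X hr' hG)
      obtain ⟨h1, -⟩ := hrel.2.2 (Subobject.mk j) hCg hClt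
      rw [le_iff_redLE, ps_bot, sub_zero, sub_zero, ps_mk, pl_of_rank k X hG] at h1
      exact (deg_le_iff k X _ _ _ _).2 h1
    · exact sheaf_P2 k X hdim hEc B hrel hBf B.arrow (Iso.refl _)
        (by rw [Iso.refl_hom, Category.id_comp]) Q s j hj hs hQ
  · intro E₁ E₁' r₁ r₁' i₁ i₁' hi₁ hr₁ hE₁ P1 P2 hi₁' hr₁' hE₁' P1' P2'
    haveI := hi₁
    haveI := hi₁'
    have h1 := relMax_of_sheaf k X hdim hX hE hEc i₁ hr₁ hE₁ P1 P2
    have h2 := relMax_of_sheaf k X hdim hX hE hEc i₁' hr₁' hE₁' P1' P2'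
    have heq := (datum k X hdim hEc).relMax_unique h1 h2
    exact ⟨Subobject.isoOfMkEqMk i₁ i₁' heq, Subobject.ofMkLEMk_comp _⟩

end Quot

end Groth.Agent.Lead.VBL
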