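import Mathlib
import Groth.Agent.Lib.Lead.VBL3

set_option autoImplicit false
set_option backward.isDefEq.respectTransparency.types false
set_option synthInstance.maxHeartbeats 400000
set_option linter.style.haveILetI false
set_option linter.unusedSectionVars false
set_option linter.unusedVariables false

universe u

open CategoryTheory CategoryTheory.Limits AlgebraicGeometry TopologicalSpace Opposite Polynomial

namespace Groth.Agent.Lead.VBL

open Groth.Agent.Lead.HP Groth.Agent.Helper1 Groth.Agent.Lead.HN
open Groth.Agent.Lib.Helper5.StalkAdj Groth.Agent.Helper1.Dv Groth.Agent.Lead.FLF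

section Pack

variable (k : Type u) [Field k] (X : Scheme.{u}) [X.Over (Spec (CommRingCat.of k))]
  [IsProper (X ↘ Spec (CommRingCat.of k))] [IsIntegral X] {E : X.Modules}
  (hdim : topologicalKrullDim X = 1)

include hdim in
/-- comparison of Euler characteristics of nested coherent subobjects of the same rank -/
theorem euler_lt_of_lt {A B : Subobject E} (hA : Good X A) (hB : Good X B) (hlt : A < B)
    (hrk : grk (B : X.Modules) = grk (A : X.Modules)) :
    Curv2.euler k X (A : X.Modules) < Curv2.euler k X (B : X.Modules) := by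
  obtain ⟨N, hN⟩ := evPos_sub k X hdim hA hB hlt
  have h1 := hN N le_rfl
  unfold PS PL at h1
  rw [hrk, lin_sub, sub_self, eval_lin, zero_mul, add_zero] at h1
  have h2 : ((Curv2.euler k X (A : X.Modules) : ℤ) : ℚ) < (Curv2.euler k X (B : X.Modules) : ℚ) := by
    linarith
  exact_mod_cast h2

include hdim in
/-- the saturation of a locally free subsheaf, with its locally free quotient -/
theorem exists_sat_quot (hX : ∀ x : X, ValuationRing (X.presheaf.stalk x)) {r : ℕ}
    (hE : FlatMod.IsFinLocFreeOfRank r E) {G : X.Modules} {r' : ℕ} (i : G ⟶ E) [Mono i]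
    (hG : FlatMod.IsFinLocFreeOfRank r' G) :
    ∃ (B' : Subobject E) (n : ℕ), Good X B' ∧ Subobject.mk i ≤ B' ∧
      FlatMod.IsFinLocFreeOfRank r' (B' : X.Modules) ∧
      FlatMod.IsFinLocFreeOfRank n (cokernel B'.arrow) ∧ r = r' + n ∧
      Curv2.euler k X E = Curv2.euler k X (B' : X.Modules) + Curv2.euler k X (cokernel B'.arrow) ∧
      Curv2.euler k X G ≤ Curv2.euler k X (B' : X.Modules) ∧
      (Curv2.euler k X G = Curv2.euler k X (B' : X.Modules) → B' = Subobject.mk i) := by
  have hEc : Coh.IsCoh E := isCoh_of_rank X hE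
  have hB : Good X (Subobject.mk i) := good_mk X i (isCoh_of_rank X hG)
  obtain ⟨B', hB', hle, hα, hpure⟩ := (datum k X hdim hEc).exists_saturation (Subobject.mk i) hB
  have hB'g : Good X B' := hB'
  obtain ⟨n, hn⟩ := locFree_coker_of_pureAbove k X hdim hX hEc hB'g hpure
  have hn' : FlatMod.IsFinLocFreeOfRank n (cokernel B'.arrow) :=
    isFinLocFreeOfRank_of_iso (cokerTopIso X B') hn
  have hQc : Coh.IsCoh (cokernel B'.arrow) := isCoh_of_rank X hn'
  have hrk' : grk (B' : X.Modules) = r' := by
    have h1 : ((grk (B' : X.Modules) : ℕ) : ℤ) = ((grk ((Subobject.mk i : Subobject E) : X.Modules) : ℕ) : ℤ) :=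
      hα
    have h2 : grk (B' : X.Modules) = grk ((Subobject.mk i : Subobject E) : X.Modules) := by
      exact_mod_cast h1
    rw [h2, grk_of_iso (Subobject.underlyingIso i), grk_of_rank hG]
  have hrk : grk E = grk (B' : X.Modules) + grk (cokernel B'.arrow) :=
    grk_add (cokerSC B'.arrow) (cokerSC_shortExact _) hB'g hQc
  rw [grk_of_rank hE, hrk', grk_of_rank hn'] at hrk
  have heu : Curv2.euler k X E =
      Curv2.euler k X (B' : X.Modules) + Curv2.euler k X (cokernel B'.arrow) :=
    Euler.euler_additive k X (cokerSC B'.arrow) (cokerSC_shortExact _) hB'g hEc hQc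
  have hBf : FlatMod.IsFinLocFreeOfRank r' (B' : X.Modules) := by
    have := locFree_of_good k X hX hE hB'g
    rwa [hrk'] at this
  have heG : Curv2.euler k X G =
      Curv2.euler k X ((Subobject.mk i : Subobject E) : X.Modules) :=
    Euler.euler_iso k X (Subobject.underlyingIso i).symm
  refine ⟨B', n, hB'g, hle, hBf, hn', hrk, heu, ?_, ?_⟩
  · rcases hle.eq_or_lt with h | h
    · rw [heG, h]
    · rw [heG]
      exact (euler_lt_of_lt k X hdim hB hB'g h
        (by rw [hrk', grk_of_iso (Subobject.underlyingIso i), grk_of_rank hG])).le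
  · intro he
    rcases hle.eq_or_lt with h | h
    · exact h.symm
    · exfalso
      have := euler_lt_of_lt k X hdim hB hB'g h
        (by rw [hrk', grk_of_iso (Subobject.underlyingIso i), grk_of_rank hG])
      rw [← heG, he] at this
      exact lt_irrefl _ this

/-- the kernel of an epimorphism of vector bundles -/
theorem ker_of_epi (hX : ∀ x : X, ValuationRing (X.presheaf.stalk x)) {r s : ℕ} {F : X.Modules}
    (hE : FlatMod.IsFinLocFreeOfRank r E) (hF : FlatMod.IsFinLocFreeOfRank s F) (p : E ⟶ F)
    [Epi p] :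
    ∃ rK : ℕ, FlatMod.IsFinLocFreeOfRank rK (kernel p) ∧ r = rK + s ∧
      Curv2.deg k X E r = Curv2.deg k X (kernel p) rK + Curv2.deg k X F s := by
  have hEc : Coh.IsCoh E := isCoh_of_rank X hE
  have hFc : Coh.IsCoh F := isCoh_of_rank X hF
  haveI : E.IsQuasicoherent := hEc.1
  haveI : F.IsQuasicoherent := hFc.1
  haveI : (kernel p).IsQuasicoherent := QcAbel.isQuasicoherent_kernel p
  obtain ⟨rK, hK, -⟩ := VB.sub_locFree k X hX hE (kernel.ι p)
  have hS : (ShortComplex.mk (kernel.ι p) p (kernel.condition p)).ShortExact :=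
    { exact := ShortComplex.exact_of_f_is_kernel _ (kernelIsKernel p)
      mono_f := inferInstanceAs (Mono (kernel.ι p))
      epi_g := inferInstanceAs (Epi p) }
  exact ⟨rK, hK, Euler.rank_add_of_shortExact (genericPoint X) _ hS rK r s hK hE hF,
    Euler.deg_additive k X _ hS rK r s hK hE hF⟩

theorem deg_zero_of_isZero {K : X.Modules} (h : IsZero K) : Curv2.deg k X K 0 = 0 := by
  unfold Curv2.deg
  rw [VB.euler_of_isZero k X h]
  simp

omit [IsProper (X ↘ Spec (CommRingCat.of k))] in
theorem isZero_of_mono_zero {G : X.Modules} (i : G ⟶ E) [Mono i] (h : i = 0) : IsZero G :=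
  IsZero.of_mono_eq_zero i h

include hdim in
/-- S14151 -/
theorem quot_iff_sub (hX : ∀ x : X, ValuationRing (X.presheaf.stalk x))
    (r : ℕ) (hr : 0 < r) (E : X.Modules) (hE : FlatMod.IsFinLocFreeOfRank r E) :
    ((∀ (F : X.Modules) (s : ℕ) (p : E ⟶ F), Epi p → 0 < s → FlatMod.IsFinLocFreeOfRank s F →
      Curv2.deg k X E r * (s : ℤ) ≤ Curv2.deg k X F s * (r : ℤ)) ↔
      (∀ (G : X.Modules) (r' : ℕ) (i : G ⟶ E), Mono i → 0 < r' → FlatMod.IsFinLocFreeOfRank r' G →
      Curv2.deg k X G r' * (r : ℤ) ≤ Curv2.deg k X E r * (r' : ℤ))) ∧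
    ((∀ (F : X.Modules) (s : ℕ) (p : E ⟶ F), Epi p → 0 < s → FlatMod.IsFinLocFreeOfRank s F → (¬ IsIso p) →
      Curv2.deg k X E r * (s : ℤ) < Curv2.deg k X F s * (r : ℤ)) ↔
      (∀ (G : X.Modules) (r' : ℕ) (i : G ⟶ E), Mono i → 0 < r' → FlatMod.IsFinLocFreeOfRank r' G → (¬ IsIso i) →
      Curv2.deg k X G r' * (r : ℤ) < Curv2.deg k X E r * (r' : ℤ))) := by
  refine ⟨⟨fun hq G r' i hi hr' hG => ?_, fun hs F s p hp hs' hF => ?_⟩,
    ⟨fun hq G r' i hi hr' hG hni => ?_, fun hs F s p hp hs' hF hni => ?_⟩⟩
  · haveI := hi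
    obtain ⟨B', n, hB', hle, hBf, hn, hrk, heu, hle_eu, -⟩ := exists_sat_quot k X hdim hX hE i hG
    by_cases hn0 : n = 0
    · subst hn0
      have h0 := VB.euler_of_isZero k X (VB.isZero_of_rank_zero hn)
      rw [h0, add_zero] at heu
      rw [add_zero] at hrk
      subst hrk
      unfold Curv2.deg
      exact mul_le_mul_of_nonneg_right (by linarith) (Int.natCast_nonneg _)
    · have H1 := hq (cokernel B'.arrow) n (cokernel.π _) inferInstance (Nat.pos_of_ne_zero hn0) hn
      subst hrk
      unfold Curv2.deg at H1 ⊢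
      rw [heu] at H1 ⊢
      have H4 := mul_le_mul_of_nonneg_right hle_eu (Int.natCast_nonneg (r' + n))
      push_cast at H1 H4 ⊢
      nlinarith [H1, H4]
  · haveI := hp
    obtain ⟨rK, hK, hrk, hdeg⟩ := ker_of_epi k X hX hE hF p
    by_cases h0 : rK = 0
    · subst h0
      rw [deg_zero_of_isZero k X (VB.isZero_of_rank_zero hK), zero_add] at hdeg
      rw [zero_add] at hrk
      subst hrk
      rw [hdeg]
    · have H1 := hs (kernel p) rK (kernel.ι p) inferInstance (Nat.pos_of_ne_zero h0) hK
      subst hrk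
      rw [hdeg] at H1 ⊢
      push_cast at H1 ⊢
      nlinarith [H1]
  · haveI := hi
    obtain ⟨B', n, hB', hle, hBf, hn, hrk, heu, hle_eu, heq⟩ := exists_sat_quot k X hdim hX hE i hG
    by_cases hn0 : n = 0
    · subst hn0
      have hz := VB.isZero_of_rank_zero hn
      have h0 := VB.euler_of_isZero k X hz
      rw [h0, add_zero] at heu
      rw [add_zero] at hrk
      subst hrk
      have hne : Curv2.euler k X G ≠ Curv2.euler k X (B' : X.Modules) := by
        intro he
        have hB := heq he
        apply hni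
        subst hB
        haveI : IsIso (Subobject.mk i).arrow := isIso_of_isZero_cokernel _ hz
        have e1 : i = (Subobject.underlyingIso i).inv ≫ (Subobject.mk i).arrow :=
          (Subobject.underlyingIso_arrow i).symm
        rw [e1]
        infer_instance
      have hlt : Curv2.euler k X G < Curv2.euler k X (B' : X.Modules) := lt_of_le_of_ne hle_eu hne
      unfold Curv2.deg
      have hrpos : (0 : ℤ) < (r : ℤ) := by exact_mod_cast hr
      exact mul_lt_mul_of_pos_right (by linarith) hrpos
    · have hnp : ¬ IsIso (cokernel.π B'.arrow) := by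
        intro hiso
        have hB0 : B'.arrow = 0 := by
          rw [← cancel_mono (cokernel.π B'.arrow), cokernel.condition, Limits.zero_comp]
        have hi0 : i = 0 := by
          rw [← Subobject.ofMkLE_arrow hle, hB0, Limits.comp_zero]
        exact VB.not_isZero_of_rank_pos X hr' hG (isZero_of_mono_zero X i hi0)
      have H1 := hq (cokernel B'.arrow) n (cokernel.π _) inferInstance (Nat.pos_of_ne_zero hn0) hn
        hnp
      subst hrk
      unfold Curv2.deg at H1 ⊢
      rw [heu] at H1 ⊢
      have H4 := mul_le_mul_of_nonneg_right hle_eu (Int.natCast_nonneg (r' + n))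
      push_cast at H1 H4 ⊢
      nlinarith [H1, H4]
  · haveI := hp
    obtain ⟨rK, hK, hrk, hdeg⟩ := ker_of_epi k X hX hE hF p
    by_cases h0 : rK = 0
    · exfalso
      subst h0
      apply hni
      haveI : Mono p := Preadditive.mono_of_isZero_kernel p (VB.isZero_of_rank_zero hK)
      exact isIso_of_mono_of_epi p
    · have hnK : ¬ IsIso (kernel.ι p) := by
        intro hiso
        have hp0 : p = 0 := by
          rw [← cancel_epi (kernel.ι p), kernel.condition, Limits.comp_zero]
        exact VB.not_isZero_of_rank_pos X hs' hF (IsZero.of_epi_eq_zero p hp0)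
      have H1 := hs (kernel p) rK (kernel.ι p) inferInstance (Nat.pos_of_ne_zero h0) hK hnK
      subst hrk
      rw [hdeg] at H1 ⊢
      push_cast at H1 ⊢
      nlinarith [H1]

end Pack

end Groth.Agent.Lead.VBL
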