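import Mathlib
import Groth.Agent.Lib.Lead.VBL4

set_option autoImplicit false
set_option backward.isDefEq.respectTransparency.types false
set_option synthInstance.maxHeartbeats 400000
set_option linter.style.haveILetI false
set_option linter.unusedSectionVars false
set_option linter.unusedVariables false

universe u

open CategoryTheory CategoryTheory.Limits AlgebraicGeometry TopologicalSpace Opposite Polynomial

namespace Groth.Agent.Lead.VBL

open Groth.Agent.Lead.HP Groth.Agent.Helper1 Groth.Agent.Lead.HN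
open Groth.Agent.Lib.Helper5.StalkAdj Groth.Agent.Helper1.Dv Groth.Agent.Lead.FLF

section Arith

theorem arith_eq {dE dF dK dI : ℤ} {r s rK rI : ℕ} (hr : 0 < r) (hs : 0 < s)
    (hμ : dE * (s : ℤ) = dF * (r : ℤ)) (hd : dE = dK + dI) (hrk : r = rK + rI)
    (hA : 0 < rK → dK * (r : ℤ) ≤ dE * (rK : ℤ)) (hB : 0 < rI → dI * (s : ℤ) ≤ dF * (rI : ℤ))
    (hZK : rK = 0 → dK = 0) (hZI : rI = 0 → dI = 0) :
    dK * (r : ℤ) = dE * (rK : ℤ) ∧ dI * (s : ℤ) = dF * (rI : ℤ) := by
  have hr' : (0 : ℤ) < (r : ℤ) := by exact_mod_cast hr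
  have hs' : (0 : ℤ) < (s : ℤ) := by exact_mod_cast hs
  have hrk' : (r : ℤ) = (rK : ℤ) + (rI : ℤ) := by exact_mod_cast hrk
  rcases Nat.eq_zero_or_pos rK with h0 | hK
  · have hdK := hZK h0
    subst h0
    rw [hdK, zero_add] at hd
    rw [zero_add] at hrk
    subst hrk
    subst hd
    refine ⟨by simp [hdK], hμ⟩
  rcases Nat.eq_zero_or_pos rI with h0 | hI
  · have hdI := hZI h0
    subst h0
    rw [hdI, add_zero] at hd
    rw [add_zero] at hrk
    subst hrk
    subst hd
    refine ⟨rfl, by simp [hdI]⟩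
  have h1 := hA hK
  have h2 := hB hI
  -- dI * r ≤ dE * rI
  have h3 : dI * (r : ℤ) ≤ dE * (rI : ℤ) := by
    have h4 : dI * (r : ℤ) * (s : ℤ) ≤ dE * (rI : ℤ) * (s : ℤ) := by
      calc dI * (r : ℤ) * (s : ℤ) = (dI * (s : ℤ)) * (r : ℤ) := by ring
        _ ≤ (dF * (rI : ℤ)) * (r : ℤ) := mul_le_mul_of_nonneg_right h2 hr'.le
        _ = (dF * (r : ℤ)) * (rI : ℤ) := by ring
        _ = (dE * (s : ℤ)) * (rI : ℤ) := by rw [hμ]
        _ = dE * (rI : ℤ) * (s : ℤ) := by ring
    exact le_of_mul_le_mul_right h4 hs'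
  have h5 : dK * (r : ℤ) + dI * (r : ℤ) = dE * (rK : ℤ) + dE * (rI : ℤ) := by
    rw [hd, hrk']
    ring
  have e1 : dK * (r : ℤ) = dE * (rK : ℤ) := by linarith
  have e2 : dI * (r : ℤ) = dE * (rI : ℤ) := by linarith
  refine ⟨e1, ?_⟩
  have h6 : dI * (s : ℤ) * (r : ℤ) = dF * (rI : ℤ) * (r : ℤ) := by
    calc dI * (s : ℤ) * (r : ℤ) = (dI * (r : ℤ)) * (s : ℤ) := by ring
      _ = (dE * (rI : ℤ)) * (s : ℤ) := by rw [e2]
      _ = (dE * (s : ℤ)) * (rI : ℤ) := by ring
      _ = (dF * (r : ℤ)) * (rI : ℤ) := by rw [hμ]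
      _ = dF * (rI : ℤ) * (r : ℤ) := by ring
  exact mul_right_cancel₀ hr'.ne' h6

theorem arith_ss {dG dE dK : ℤ} {r rK n : ℕ} (hr : 0 < r)
    (h1 : dG * (r : ℤ) ≤ dE * (n : ℤ)) (h2 : dK * (r : ℤ) = dE * (rK : ℤ)) :
    dG * (rK : ℤ) ≤ dK * (n : ℤ) := by
  have hr' : (0 : ℤ) < (r : ℤ) := by exact_mod_cast hr
  have h3 : dG * (rK : ℤ) * (r : ℤ) ≤ dK * (n : ℤ) * (r : ℤ) := by
    calc dG * (rK : ℤ) * (r : ℤ) = (dG * (r : ℤ)) * (rK : ℤ) := by ring
      _ ≤ (dE * (n : ℤ)) * (rK : ℤ) := mul_le_mul_of_nonneg_right h1 (Int.natCast_nonneg _)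
      _ = (dE * (rK : ℤ)) * (n : ℤ) := by ring
      _ = (dK * (r : ℤ)) * (n : ℤ) := by rw [h2]
      _ = dK * (n : ℤ) * (r : ℤ) := by ring
  exact le_of_mul_le_mul_right h3 hr'

end Arith

section KerCoker

variable (k : Type u) [Field k] (X : Scheme.{u}) [X.Over (Spec (CommRingCat.of k))]
  [IsProper (X ↘ Spec (CommRingCat.of k))] [IsIntegral X]
  (hdim : topologicalKrullDim X = 1)

omit [IsProper (X ↘ Spec (CommRingCat.of k))] in
theorem deg_of_euler {M N : X.Modules} {m : ℕ} (h : Curv2.euler k X M = Curv2.euler k X N) :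
    Curv2.deg k X M m = Curv2.deg k X N m := by
  unfold Curv2.deg
  rw [h]

include hdim in
/-- S16469 -/
theorem ker_coker (hX : ∀ x : X, ValuationRing (X.presheaf.stalk x))
    (r s : ℕ) (hr : 0 < r) (hs : 0 < s) (E F : X.Modules)
    (hE : FlatMod.IsFinLocFreeOfRank r E) (hF : FlatMod.IsFinLocFreeOfRank s F)
    (hEss : ModFun.IsSlopeSemistable k X E r) (hFss : ModFun.IsSlopeSemistable k X F s)
    (hμ : Curv2.deg k X E r * (s : ℤ) = Curv2.deg k X F s * (r : ℤ)) (f : E ⟶ F) :
    (∃ r₀ : ℕ, FlatMod.IsFinLocFreeOfRank r₀ (kernel f) ∧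
        Curv2.deg k X (kernel f) r₀ * (r : ℤ) = Curv2.deg k X E r * (r₀ : ℤ) ∧
        ∀ (G : X.Modules) (n : ℕ) (j : G ⟶ kernel f), Mono j → 0 < n → FlatMod.IsFinLocFreeOfRank n G →
          Curv2.deg k X G n * (r₀ : ℤ) ≤ Curv2.deg k X (kernel f) r₀ * (n : ℤ)) ∧
      (∃ s₀ : ℕ, FlatMod.IsFinLocFreeOfRank s₀ (cokernel f) ∧
        Curv2.deg k X (cokernel f) s₀ * (s : ℤ) = Curv2.deg k X F s * (s₀ : ℤ) ∧
        ∀ (G : X.Modules) (n : ℕ) (j : G ⟶ cokernel f), Mono j → 0 < n → FlatMod.IsFinLocFreeOfRank n G →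
          Curv2.deg k X G n * (s₀ : ℤ) ≤ Curv2.deg k X (cokernel f) s₀ * (n : ℤ)) := by
  obtain ⟨rK, rI, hK, hI, hrk, hIs, hdeg, -⟩ := VB.ker_im k X hX hE hF f
  have hFc : Coh.IsCoh F := isCoh_of_rank X hF
  have hIc : Coh.IsCoh (Abelian.image f) := isCoh_of_rank X hI
  obtain ⟨eK, eI⟩ := arith_eq hr hs hμ hdeg hrk
    (fun h => hEss (kernel f) rK (kernel.ι f) inferInstance h hK)
    (fun h => hFss (Abelian.image f) rI (Abelian.image.ι f) inferInstance h hI)
    (fun h => by subst h; exact deg_zero_of_isZero k X (VB.isZero_of_rank_zero hK))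
    (fun h => by subst h; exact deg_zero_of_isZero k X (VB.isZero_of_rank_zero hI))
  constructor
  · refine ⟨rK, hK, eK, fun G n j hj hn hG => ?_⟩
    haveI := hj
    have h1 := hEss G n (j ≫ kernel.ι f) (mono_comp _ _) hn hG
    exact arith_ss hr h1 eK
  · -- the image is saturated
    have hI' : Good X (Subobject.mk (Abelian.image.ι f)) := good_mk X _ hIc
    have heI : Curv2.euler k X ((Subobject.mk (Abelian.image.ι f) : Subobject F) : X.Modules) =
        Curv2.euler k X (Abelian.image f) :=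
      Euler.euler_iso k X (Subobject.underlyingIso (Abelian.image.ι f))
    have hgI : grk ((Subobject.mk (Abelian.image.ι f) : Subobject F) : X.Modules) = rI := by
      rw [grk_of_iso (Subobject.underlyingIso (Abelian.image.ι f)), grk_of_rank hI]
    have hpure : (datum k X hdim hFc).PureAbove (Subobject.mk (Abelian.image.ι f)) := by
      intro D hD hlt
      have hD' : Good X D := hD
      refine lt_of_le_of_ne ((datum k X hdim hFc).α_le hI' hD hlt.le) (fun he => ?_)
      have he' : grk (D : X.Modules) = rI := by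
        have h1 : ((grk ((Subobject.mk (Abelian.image.ι f) : Subobject F) : X.Modules) : ℕ) : ℤ) =
          ((grk (D : X.Modules) : ℕ) : ℤ) := he
        have h2 : grk ((Subobject.mk (Abelian.image.ι f) : Subobject F) : X.Modules) =
          grk (D : X.Modules) := by exact_mod_cast h1
        rw [← h2, hgI]
      have hlt_eu := euler_lt_of_lt k X hdim hI' hD' hlt (by rw [he', hgI])
      have hDf := locFree_of_good k X hX hF hD'
      rw [he'] at hDf
      rcases Nat.eq_zero_or_pos rI with h0 | hpos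
      · subst h0
        have hz := VB.isZero_of_rank_zero hDf
        have : ⊥ < D := lt_of_le_of_lt bot_le hlt
        exact not_isZero_of_bot_lt X this hz
      · have h3 := hFss (D : X.Modules) rI D.arrow inferInstance hpos hDf
        rw [← eI] at h3
        have hs' : (0 : ℤ) < (s : ℤ) := by exact_mod_cast hs
        have h4 : Curv2.deg k X (D : X.Modules) rI ≤ Curv2.deg k X (Abelian.image f) rI :=
          le_of_mul_le_mul_right h3 hs'
        unfold Curv2.deg at h4
        rw [← heI] at h4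
        linarith
    obtain ⟨s₀, hs₀⟩ := locFree_coker_of_pureAbove k X hdim hX hFc hI' hpure
    have hC : FlatMod.IsFinLocFreeOfRank s₀ (cokernel f) :=
      isFinLocFreeOfRank_of_iso (cokerImageIso X f) hs₀
    have hS : (ShortComplex.mk (Abelian.image.ι f) (cokernel.π f)
        (kernel.condition (cokernel.π f))).ShortExact :=
      { exact := ShortComplex.exact_of_f_is_kernel _ (kernelIsKernel (cokernel.π f))
        mono_f := inferInstanceAs (Mono (Abelian.image.ι f))
        epi_g := inferInstanceAs (Epi (cokernel.π f)) }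
    have hrk2 : s = rI + s₀ := Euler.rank_add_of_shortExact (genericPoint X) _ hS rI s s₀ hI hF hC
    have hdeg2 : Curv2.deg k X F s = Curv2.deg k X (Abelian.image f) rI +
        Curv2.deg k X (cokernel f) s₀ := Euler.deg_additive k X _ hS rI s s₀ hI hF hC
    have eC : Curv2.deg k X (cokernel f) s₀ * (s : ℤ) = Curv2.deg k X F s * (s₀ : ℤ) := by
      have hrk2' : (s : ℤ) = (rI : ℤ) + (s₀ : ℤ) := by exact_mod_cast hrk2
      have e1 : Curv2.deg k X (cokernel f) s₀ = Curv2.deg k X F s -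
          Curv2.deg k X (Abelian.image f) rI := by linarith
      rw [e1, sub_mul, eI, hrk2']
      ring
    refine ⟨s₀, hC, eC, fun G n j hj hn hG => ?_⟩
    haveI := hj
    have hGc : Coh.IsCoh G := isCoh_of_rank X hG
    have hG0 : ¬ IsZero G := VB.not_isZero_of_rank_pos X hn hG
    haveI : Mono (j ≫ (cokerImageIso X f).inv) := mono_comp _ _
    have hD : Good X (preSub (le_top : Subobject.mk (Abelian.image.ι f) ≤ ⊤)
        (j ≫ (cokerImageIso X f).inv)) :=
      isCoh_X₂ k X (preSubSC_shortExact _ _) hI' hGc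
    have hgD : grk ((preSub (le_top : Subobject.mk (Abelian.image.ι f) ≤ ⊤)
        (j ≫ (cokerImageIso X f).inv) : Subobject F) : X.Modules) = rI + n := by
      have h1 : grk ((preSub (le_top : Subobject.mk (Abelian.image.ι f) ≤ ⊤)
        (j ≫ (cokerImageIso X f).inv) : Subobject F) : X.Modules) =
          grk ((Subobject.mk (Abelian.image.ι f) : Subobject F) : X.Modules) + grk G :=
        grk_add (preSubSC (le_top : Subobject.mk (Abelian.image.ι f) ≤ ⊤)
          (j ≫ (cokerImageIso X f).inv)) (preSubSC_shortExact _ _) hI' hGc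
      rw [h1, hgI, grk_of_rank hG]
    have heD : Curv2.euler k X ((preSub (le_top : Subobject.mk (Abelian.image.ι f) ≤ ⊤)
        (j ≫ (cokerImageIso X f).inv) : Subobject F) : X.Modules) =
          Curv2.euler k X (Abelian.image f) + Curv2.euler k X G := by
      have h1 := Euler.euler_additive k X (preSubSC (le_top : Subobject.mk (Abelian.image.ι f) ≤ ⊤)
          (j ≫ (cokerImageIso X f).inv)) (preSubSC_shortExact _ _) hI' hD hGc
      rw [← heI]
      exact h1
    have hDf := locFree_of_good k X hX hF hD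
    rw [hgD] at hDf
    have h3 := hFss _ (rI + n) (preSub (le_top : Subobject.mk (Abelian.image.ι f) ≤ ⊤)
        (j ≫ (cokerImageIso X f).inv)).arrow inferInstance (by omega) hDf
    have h4 : Curv2.deg k X G n * (s : ℤ) ≤ Curv2.deg k X F s * (n : ℤ) := by
      have e2 : Curv2.deg k X ((preSub (le_top : Subobject.mk (Abelian.image.ι f) ≤ ⊤)
        (j ≫ (cokerImageIso X f).inv) : Subobject F) : X.Modules) (rI + n) =
          Curv2.deg k X (Abelian.image f) rI + Curv2.deg k X G n := by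
        unfold Curv2.deg
        rw [heD]
        push_cast
        ring
      rw [e2] at h3
      push_cast at h3
      have h5 : (Curv2.deg k X (Abelian.image f) rI + Curv2.deg k X G n) * (s : ℤ) =
          Curv2.deg k X (Abelian.image f) rI * (s : ℤ) + Curv2.deg k X G n * (s : ℤ) := by ring
      rw [h5, eI] at h3
      linarith
    exact arith_ss hs h4 eC

end KerCoker

end Groth.Agent.Lead.VBL
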