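import Mathlib
import Groth.Agent.Lib.Lead.VBL5
import Groth.Agent.Lib.Helper1.VB3

set_option autoImplicit false
set_option backward.isDefEq.respectTransparency.types false
set_option synthInstance.maxHeartbeats 400000
set_option linter.style.haveILetI false
set_option linter.unusedSectionVars false
set_option linter.unusedVariables false

universe u

open CategoryTheory CategoryTheory.Limits AlgebraicGeometry TopologicalSpace Opposite Polynomial

namespace Groth.Agent.Lead.VBL

open Groth.Agent.Lead.HP Groth.Agent.Helper1 Groth.Agent.Lead.HN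
open Groth.Agent.Lib.Helper5.StalkAdj Groth.Agent.Helper1.Dv Groth.Agent.Lead.FLF

section IsoStable

variable (k : Type u) [Field k] (X : Scheme.{u}) [X.Over (Spec (CommRingCat.of k))]
  [IsProper (X ↘ Spec (CommRingCat.of k))] [IsIntegral X]
  (hdim : topologicalKrullDim X = 1)

include hdim in
/-- S11810 -/
theorem isIso_of_ne_zero (hX : ∀ x : X, ValuationRing (X.presheaf.stalk x))
    (r : ℕ) (hr : 0 < r) (E E' : X.Modules) (hE : FlatMod.IsFinLocFreeOfRank r E)
    (hE' : FlatMod.IsFinLocFreeOfRank r E')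
    (hdeg : Curv2.deg k X E r = Curv2.deg k X E' r)
    (hss : (∀ (F : X.Modules) (r' : ℕ) (i : F ⟶ E), Mono i → 0 < r' → FlatMod.IsFinLocFreeOfRank r' F →
      Curv2.deg k X F r' * (r : ℤ) ≤ Curv2.deg k X E r * (r' : ℤ)))
    (hss' : (∀ (F : X.Modules) (r' : ℕ) (i : F ⟶ E'), Mono i → 0 < r' → FlatMod.IsFinLocFreeOfRank r' F →
      Curv2.deg k X F r' * (r : ℤ) ≤ Curv2.deg k X E' r * (r' : ℤ)))
    (hst : (∀ (F : X.Modules) (r' : ℕ) (i : F ⟶ E), Mono i → 0 < r' → r' < r → FlatMod.IsFinLocFreeOfRank r' F →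
      Curv2.deg k X F r' * (r : ℤ) < Curv2.deg k X E r * (r' : ℤ)) ∨
      (∀ (F : X.Modules) (r' : ℕ) (i : F ⟶ E'), Mono i → 0 < r' → r' < r → FlatMod.IsFinLocFreeOfRank r' F →
      Curv2.deg k X F r' * (r : ℤ) < Curv2.deg k X E' r * (r' : ℤ)))
    (f : E ⟶ E') (hf : f ≠ 0) : IsIso f := by
  obtain ⟨rK, rI, hK, hI, hrk, hIs, hd, hpos⟩ := VB.ker_im k X hX hE hE' f
  have hrI := hpos hf
  have hμ : Curv2.deg k X E r * (r : ℤ) = Curv2.deg k X E' r * (r : ℤ) := by rw [hdeg]
  obtain ⟨eK, eI⟩ := arith_eq hr hr hμ hd hrk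
    (fun h => hss (kernel f) rK (kernel.ι f) inferInstance h hK)
    (fun h => hss' (Abelian.image f) rI (Abelian.image.ι f) inferInstance h hI)
    (fun h => by subst h; exact deg_zero_of_isZero k X (VB.isZero_of_rank_zero hK))
    (fun h => by subst h; exact deg_zero_of_isZero k X (VB.isZero_of_rank_zero hI))
  have hrK : rK = 0 := by
    by_contra h0
    rcases hst with h | h
    · have h1 := h (kernel f) rK (kernel.ι f) inferInstance (Nat.pos_of_ne_zero h0) (by omega) hK
      rw [eK] at h1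
      exact lt_irrefl _ h1
    · have h1 := h (Abelian.image f) rI (Abelian.image.ι f) inferInstance hrI (by omega) hI
      rw [eI] at h1
      exact lt_irrefl _ h1
  subst hrK
  have hz := VB.isZero_of_rank_zero hK
  haveI : Mono f := Preadditive.mono_of_kernel_zero (hz.eq_of_src _ _)
  have hgen := VB.subsingleton_stalk_cokernel_of_rank_eq hE hE' f
  have hEc := isCoh_of_rank X hE
  have hFc := isCoh_of_rank X hE'
  exact (Curve.deg_le_of_mono_generic_iso k X hdim E E' hEc hFc r f hgen).2.1 hdeg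

end IsoStable

end Groth.Agent.Lead.VBL
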