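import Mathlib
import Groth.Agent.Lib.Lead.VBL6

set_option autoImplicit false
set_option backward.isDefEq.respectTransparency.types false
set_option synthInstance.maxHeartbeats 400000
set_option linter.style.haveILetI false
set_option linter.unusedSectionVars false
set_option linter.unusedVariables false

universe u

open CategoryTheory CategoryTheory.Limits AlgebraicGeometry TopologicalSpace Opposite Polynomial

namespace Groth.Agent.Lead.VBL

open Groth.Agent.Lead.HP Groth.Agent.Helper1 Groth.Agent.Lead.HN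
open Groth.Agent.Lib.Helper5.StalkAdj Groth.Agent.Helper1.Dv Groth.Agent.Lead.FLF

section LB

variable (k : Type u) [Field k] (X : Scheme.{u}) [X.Over (Spec (CommRingCat.of k))]
  [IsProper (X ↘ Spec (CommRingCat.of k))] [IsIntegral X]
  (hdim : topologicalKrullDim X = 1)

omit [IsProper (X ↘ Spec (CommRingCat.of k))] in
theorem not_isZero_of_isInvertible {L : X.Modules} (hL : PicF.IsInvertible L) : ¬ IsZero L :=
  VB.not_isZero_of_rank_pos X Nat.one_pos (Curve.isFinLocFreeOfRank_one hL)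

/-- the degree of the quotient line bundle -/
theorem deg_coker_lb {E L : X.Modules} (hE : FlatMod.IsFinLocFreeOfRank 2 E)
    (hL : PicF.IsInvertible L) (i : L ⟶ E) [Mono i] (hq : PicF.IsInvertible (cokernel i)) :
    Curv2.deg k X E 2 = Curv2.deg k X L 1 + Curv2.deg k X (cokernel i) 1 :=
  Euler.deg_additive k X (cokerSC i) (cokerSC_shortExact i) 1 2 1
    (Curve.isFinLocFreeOfRank_one hL) hE (Curve.isFinLocFreeOfRank_one hq)

include hdim in
/-- a sub line bundle inside another one of the same degree -/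
theorem lift_iso {E L L' : X.Modules} (hL : PicF.IsInvertible L) (hL' : PicF.IsInvertible L')
    (i : L ⟶ E) (i' : L' ⟶ E) [Mono i] [Mono i']
    (hd : Curv2.deg k X L' 1 = Curv2.deg k X L 1) (hc : i' ≫ cokernel.π i = 0) :
    ∃ t : L' ≅ L, t.hom ≫ i = i' := by
  have ht : Abelian.monoLift i i' hc ≫ i = i' := Abelian.monoLift_comp _ _ _
  have hne : Abelian.monoLift i i' hc ≠ 0 := by
    intro h0
    rw [h0, Limits.zero_comp] at ht
    exact not_isZero_of_isInvertible X hL' (IsZero.of_mono_eq_zero i' ht.symm)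
  haveI := (Curve.deg_le_of_hom k X hdim hL' hL _ hne).2 hd
  exact ⟨asIso (Abelian.monoLift i i' hc), ht⟩

include hdim in
/-- S11830 -/
theorem gr_wellDefined (E : X.Modules) (hE : FlatMod.IsFinLocFreeOfRank 2 E)
    (L L' : X.Modules) (hL : PicF.IsInvertible L) (hL' : PicF.IsInvertible L')
    (i : L ⟶ E) (i' : L' ⟶ E) [Mono i] [Mono i']
    (hq : PicF.IsInvertible (cokernel i)) (hq' : PicF.IsInvertible (cokernel i'))
    (hd : 2 * Curv2.deg k X L 1 = Curv2.deg k X E 2) (hd' : 2 * Curv2.deg k X L' 1 = Curv2.deg k X E 2) :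
    Nonempty (L ⊞ cokernel i ≅ L' ⊞ cokernel i') := by
  have h1 := deg_coker_lb k X hE hL i hq
  have h2 := deg_coker_lb k X hE hL' i' hq'
  have hLL : Curv2.deg k X L' 1 = Curv2.deg k X L 1 := by omega
  by_cases hc : i' ≫ cokernel.π i = 0
  · obtain ⟨t, ht⟩ := lift_iso k X hdim hL hL' i i' hLL hc
    exact ⟨biprod.mapIso t.symm (cokernel.mapIso i' i t (Iso.refl E)
      (by rw [Iso.refl_hom, Category.comp_id, ht])).symm⟩
  · have hc' : i ≫ cokernel.π i' ≠ 0 := by
      intro h0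
      obtain ⟨t, ht⟩ := lift_iso k X hdim hL' hL i' i hLL.symm h0
      apply hc
      have : i' = t.inv ≫ i := by rw [← ht, Iso.inv_hom_id_assoc]
      rw [this, Category.assoc, cokernel.condition, Limits.comp_zero]
    haveI := (Curve.deg_le_of_hom k X hdim hL' hq _ hc).2 (by omega)
    haveI := (Curve.deg_le_of_hom k X hdim hL hq' _ hc').2 (by omega)
    exact ⟨biprod.mapIso (asIso (i ≫ cokernel.π i')) (asIso (i' ≫ cokernel.π i)).symm ≪≫
      biprod.braiding _ _⟩

include hdim in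
/-- S11827 -/
theorem subbundle_eq_or_deg_le (hX : ∀ x : X, ValuationRing (X.presheaf.stalk x))
    (S : ShortComplex X.Modules) (hS : S.ShortExact)
    (hL : PicF.IsInvertible S.X₁) (hM : PicF.IsInvertible S.X₃)
    (N : X.Modules) (hN : PicF.IsInvertible N) (j : N ⟶ S.X₂) [Mono j]
    (hq : PicF.IsInvertible (cokernel j)) :
    (∃ φ : N ≅ S.X₁, φ.hom ≫ S.f = j) ∨ Curv2.deg k X N 1 ≤ Curv2.deg k X S.X₃ 1 := by
  by_cases hc : j ≫ S.g = 0
  · left
    haveI := hS.mono_f
    have hφ : hS.exact.lift j hc ≫ S.f = j := hS.exact.lift_f j hc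
    have hne : hS.exact.lift j hc ≠ 0 := by
      intro h0
      rw [h0, Limits.zero_comp] at hφ
      exact not_isZero_of_isInvertible X hN (IsZero.of_mono_eq_zero j hφ.symm)
    haveI := Curve.mono_of_ne_zero hN hL _ hne
    -- the cokernel of the lift embeds in the invertible quotient
    haveI : Mono (quotMap j (hS.exact.lift j hc) S.f hφ) := mono_quotMap _ _ _ _
    have hNc := isCoh_of_rank X (Curve.isFinLocFreeOfRank_one hN)
    have hLc := isCoh_of_rank X (Curve.isFinLocFreeOfRank_one hL)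
    haveI := Euler.isNoetherian_of_proper k X
    have hQc : Coh.IsCoh (cokernel (hS.exact.lift j hc)) := FtLocal.isCoh_cokernel hNc hLc _
    haveI : (cokernel (hS.exact.lift j hc)).IsQuasicoherent := hQc.1
    obtain ⟨r', hr', -⟩ := VB.sub_locFree k X hX (Curve.isFinLocFreeOfRank_one hq)
      (quotMap j (hS.exact.lift j hc) S.f hφ)
    have hrk := Euler.rank_add_of_shortExact (genericPoint X) (cokerSC (hS.exact.lift j hc))
      (cokerSC_shortExact _) 1 1 r' (Curve.isFinLocFreeOfRank_one hN)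
      (Curve.isFinLocFreeOfRank_one hL) hr'
    have h0 : r' = 0 := by omega
    subst h0
    have hz := VB.isZero_of_rank_zero hr'
    haveI : Epi (hS.exact.lift j hc) := Preadditive.epi_of_cokernel_zero (hz.eq_of_tgt _ _)
    haveI : IsIso (hS.exact.lift j hc) := isIso_of_mono_of_epi _
    exact ⟨asIso (hS.exact.lift j hc), hφ⟩
  · right
    exact (Curve.deg_le_of_hom k X hdim hN hM _ hc).1

end LB

section KS

variable (k : Type u) [Field k] (X : Scheme.{u}) [X.Over (Spec (CommRingCat.of k))]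
  [IsProper (X ↘ Spec (CommRingCat.of k))] [IsIntegral X]
  (hdim : topologicalKrullDim X = 1)

theorem euler_biprod {F G : X.Modules} (hF : Coh.IsCoh F) (hG : Coh.IsCoh G) :
    Curv2.euler k X (F ⊞ G) = Curv2.euler k X F + Curv2.euler k X G := by
  have hS : (ShortComplex.mk (biprod.inl : F ⟶ F ⊞ G) (biprod.snd : F ⊞ G ⟶ G)
      (by simp)).ShortExact := (ShortComplex.Splitting.ofHasBinaryBiproduct F G).shortExact
  have h2 : Coh.IsCoh (F ⊞ G) := isCoh_biprod k X hF hG
  have h3 := Euler.euler_additive k X _ hS hF h2 hG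
  exact h3

include k hdim in
/-- S11829 -/
theorem krullSchmidt_lb (L₁ L₂ M₁ M₂ : X.Modules) (h₁ : PicF.IsInvertible L₁)
    (h₂ : PicF.IsInvertible L₂) (h₃ : PicF.IsInvertible M₁) (h₄ : PicF.IsInvertible M₂)
    (e : L₁ ⊞ L₂ ≅ M₁ ⊞ M₂) :
    (Nonempty (L₁ ≅ M₁) ∧ Nonempty (L₂ ≅ M₂)) ∨ (Nonempty (L₁ ≅ M₂) ∧ Nonempty (L₂ ≅ M₁)) := by
  have c₁ := isCoh_of_rank X (Curve.isFinLocFreeOfRank_one h₁)
  have c₂ := isCoh_of_rank X (Curve.isFinLocFreeOfRank_one h₂)
  have c₃ := isCoh_of_rank X (Curve.isFinLocFreeOfRank_one h₃)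
  have c₄ := isCoh_of_rank X (Curve.isFinLocFreeOfRank_one h₄)
  have hsum : Curv2.deg k X L₁ 1 + Curv2.deg k X L₂ 1 =
      Curv2.deg k X M₁ 1 + Curv2.deg k X M₂ 1 := by
    have h := Euler.euler_iso k X e
    rw [euler_biprod k X c₁ c₂, euler_biprod k X c₃ c₄] at h
    unfold Curv2.deg
    linarith
  have z₁ := not_isZero_of_isInvertible X h₁
  have z₂ := not_isZero_of_isInvertible X h₂
  have z₃ := not_isZero_of_isInvertible X h₃
  have z₄ := not_isZero_of_isInvertible X h₄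
  have key : ((biprod.inl : L₁ ⟶ L₁ ⊞ L₂) ≫ e.hom ≫ biprod.fst ≠ 0 ∧
      (biprod.inr : L₂ ⟶ L₁ ⊞ L₂) ≫ e.hom ≫ biprod.snd ≠ 0) ∨
      ((biprod.inr : L₂ ⟶ L₁ ⊞ L₂) ≫ e.hom ≫ biprod.fst ≠ 0 ∧
      (biprod.inl : L₁ ⟶ L₁ ⊞ L₂) ≫ e.hom ≫ biprod.snd ≠ 0) := by
    by_contra hcon
    rw [not_or, not_and_or, not_and_or, not_not, not_not, not_not, not_not] at hcon
    obtain ⟨hA, hB⟩ := hcon
    rcases hA with ha | hd <;> rcases hB with hb | hc
    · -- first row zero
      apply z₃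
      have h0 : e.hom ≫ (biprod.fst : M₁ ⊞ M₂ ⟶ M₁) = 0 := by
        apply biprod.hom_ext'
        · rw [ha, Limits.comp_zero]
        · rw [hb, Limits.comp_zero]
      have h1 : (biprod.fst : M₁ ⊞ M₂ ⟶ M₁) = 0 := by
        rw [← cancel_epi e.hom, h0, Limits.comp_zero]
      rw [IsZero.iff_id_eq_zero, ← biprod.inl_fst, h1, Limits.comp_zero]
    · -- first column zero
      apply z₁
      have h0 : (biprod.inl : L₁ ⟶ L₁ ⊞ L₂) ≫ e.hom = 0 := by
        apply biprod.hom_ext
        · rw [Category.assoc, ha, Limits.zero_comp]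
        · rw [Category.assoc, hc, Limits.zero_comp]
      have h1 : (biprod.inl : L₁ ⟶ L₁ ⊞ L₂) = 0 := by
        rw [← cancel_mono e.hom, h0, Limits.zero_comp]
      rw [IsZero.iff_id_eq_zero, ← biprod.inl_fst, h1, Limits.zero_comp]
    · -- second column zero
      apply z₂
      have h0 : (biprod.inr : L₂ ⟶ L₁ ⊞ L₂) ≫ e.hom = 0 := by
        apply biprod.hom_ext
        · rw [Category.assoc, hb, Limits.zero_comp]
        · rw [Category.assoc, hd, Limits.zero_comp]
      have h1 : (biprod.inr : L₂ ⟶ L₁ ⊞ L₂) = 0 := by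
        rw [← cancel_mono e.hom, h0, Limits.zero_comp]
      rw [IsZero.iff_id_eq_zero, ← biprod.inr_snd, h1, Limits.zero_comp]
    · -- second row zero
      apply z₄
      have h0 : e.hom ≫ (biprod.snd : M₁ ⊞ M₂ ⟶ M₂) = 0 := by
        apply biprod.hom_ext'
        · rw [hc, Limits.comp_zero]
        · rw [hd, Limits.comp_zero]
      have h1 : (biprod.snd : M₁ ⊞ M₂ ⟶ M₂) = 0 := by
        rw [← cancel_epi e.hom, h0, Limits.comp_zero]
      rw [IsZero.iff_id_eq_zero, ← biprod.inr_snd, h1, Limits.comp_zero]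
  rcases key with ⟨ha, hd⟩ | ⟨hb, hc⟩
  · left
    have A := Curve.deg_le_of_hom k X hdim h₁ h₃ _ ha
    have D := Curve.deg_le_of_hom k X hdim h₂ h₄ _ hd
    haveI := A.2 (by linarith [A.1, D.1])
    haveI := D.2 (by linarith [A.1, D.1])
    exact ⟨⟨asIso ((biprod.inl : L₁ ⟶ L₁ ⊞ L₂) ≫ e.hom ≫ biprod.fst)⟩,
      ⟨asIso ((biprod.inr : L₂ ⟶ L₁ ⊞ L₂) ≫ e.hom ≫ biprod.snd)⟩⟩
  · right
    have B := Curve.deg_le_of_hom k X hdim h₂ h₃ _ hb
    have C := Curve.deg_le_of_hom k X hdim h₁ h₄ _ hc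
    haveI := B.2 (by linarith [B.1, C.1])
    haveI := C.2 (by linarith [B.1, C.1])
    exact ⟨⟨asIso ((biprod.inl : L₁ ⟶ L₁ ⊞ L₂) ≫ e.hom ≫ biprod.snd)⟩,
      ⟨asIso ((biprod.inr : L₂ ⟶ L₁ ⊞ L₂) ≫ e.hom ≫ biprod.fst)⟩⟩

end KS

end Groth.Agent.Lead.VBL
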