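import Mathlib
import Groth.Agent.Lib.Lead.VBL7
import Groth.Agent.Lib.Helper1.Simple2

set_option autoImplicit false
set_option backward.isDefEq.respectTransparency.types false
set_option synthInstance.maxHeartbeats 400000
set_option linter.style.haveILetI false
set_option linter.unusedSectionVars false
set_option linter.unusedVariables false

universe u

open CategoryTheory CategoryTheory.Limits AlgebraicGeometry TopologicalSpace Opposite Polynomial

namespace Groth.Agent.Lead.VBL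

open Groth.Agent.Lead.HP Groth.Agent.Helper1 Groth.Agent.Lead.HN
open Groth.Agent.Lib.Helper5.StalkAdj Groth.Agent.Helper1.Dv Groth.Agent.Lead.FLF

section Simple

variable (k : Type u) [Field k] [IsAlgClosed k] (X : Scheme.{u}) [X.Over (Spec (CommRingCat.of k))]
  [IsIntegral X] [IsProper (X ↘ Spec (CommRingCat.of k))] [Smooth (X ↘ Spec (CommRingCat.of k))]
  (hdim : topologicalKrullDim X = 1)

include hdim in
/-- endomorphisms of a line bundle are scalars -/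
theorem endo_lb {L : X.Modules} (hL : PicF.IsInvertible L) (a : L ⟶ L) : ∃ c : k, a = c • 𝟙 L :=
  Simple.endo_eq_smul_id k X hdim 1 L (Curve.isFinLocFreeOfRank_one hL)
    (fun G s i _ _ h0 h1 => absurd h1 (by omega)) a

omit [IsAlgClosed k] [IsIntegral X] [IsProper (X ↘ Spec (CommRingCat.of k))]
  [Smooth (X ↘ Spec (CommRingCat.of k))] in
theorem toSheaf_map_smul_id (E : X.Modules) (c : k) :
    (SheafOfModules.toSheaf X.ringCatSheaf).map (c • 𝟙 E) =
      Coh.smulAb E (Coh.toGlobal (X ↘ Spec (CommRingCat.of k)) c) := by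
  rw [KLin.smul_id]
  rfl

include hdim in
/-- S11818 (morphism form) -/
theorem simple_of_nonsplit (S : ShortComplex X.Modules) (hS : S.ShortExact)
    (hL : PicF.IsInvertible S.X₁) (hM : PicF.IsInvertible S.X₃)
    (hdeg : Curv2.deg k X S.X₃ 1 < Curv2.deg k X S.X₁ 1)
    (hhom : ∀ g : S.X₃ ⟶ S.X₁, g = 0) (hns : ¬ IsSplitEpi S.g)
    (φ : S.X₂ ⟶ S.X₂) : ∃ c : k, φ = c • 𝟙 S.X₂ := by
  haveI := hS.mono_f
  haveI := hS.epi_g
  have h1 : (S.f ≫ φ) ≫ S.g = 0 := by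
    by_contra hne
    have := (Curve.deg_le_of_hom k X hdim hL hM _ hne).1
    omega
  have ha : hS.exact.lift (S.f ≫ φ) h1 ≫ S.f = S.f ≫ φ := hS.exact.lift_f _ h1
  obtain ⟨c, hc⟩ := endo_lb k X hdim hL (hS.exact.lift (S.f ≫ φ) h1)
  have h2 : S.f ≫ (φ - c • 𝟙 S.X₂) = 0 := by
    rw [Preadditive.comp_sub, Linear.comp_smul, Category.comp_id, ← ha, hc, Linear.smul_comp,
      Category.id_comp, sub_self]
  have hb : S.g ≫ hS.exact.desc (φ - c • 𝟙 S.X₂) h2 = φ - c • 𝟙 S.X₂ := hS.exact.g_desc _ h2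
  obtain ⟨μ, hμ⟩ := endo_lb k X hdim hM (hS.exact.desc (φ - c • 𝟙 S.X₂) h2 ≫ S.g)
  have hμ0 : μ = 0 := by
    by_contra hne
    apply hns
    refine IsSplitEpi.mk' ⟨μ⁻¹ • hS.exact.desc (φ - c • 𝟙 S.X₂) h2, ?_⟩
    rw [Linear.smul_comp, hμ, smul_smul, inv_mul_cancel₀ hne, one_smul]
  have hb0 : hS.exact.desc (φ - c • 𝟙 S.X₂) h2 ≫ S.g = 0 := by rw [hμ, hμ0, zero_smul]
  have hb1 : hS.exact.desc (φ - c • 𝟙 S.X₂) h2 = 0 := by
    have h3 := hS.exact.lift_f _ hb0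
    rw [hhom (hS.exact.lift _ hb0), Limits.zero_comp] at h3
    exact h3.symm
  rw [hb1, Limits.comp_zero] at hb
  exact ⟨c, sub_eq_zero.1 hb.symm⟩

end Simple

section Cat

variable {C : Type*} [Category C] [Abelian C]

/-- a direct summand is the kernel of the complementary idempotent -/
noncomputable def summandKernelIso {E E₁ E₂ : C} (e : E ≅ E₁ ⊞ E₂) :
    kernel (e.hom ≫ (biprod.snd : E₁ ⊞ E₂ ⟶ E₂) ≫ (biprod.inr : E₂ ⟶ E₁ ⊞ E₂) ≫ e.inv) ≅ E₁ where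
  hom := kernel.ι _ ≫ e.hom ≫ biprod.fst
  inv := kernel.lift _ (biprod.inl ≫ e.inv) (by simp)
  hom_inv_id := by
    rw [← cancel_mono (kernel.ι _)]
    simp only [Category.assoc, kernel.lift_ι, Category.id_comp]
    have h := kernel.condition
      (e.hom ≫ (biprod.snd : E₁ ⊞ E₂ ⟶ E₂) ≫ (biprod.inr : E₂ ⟶ E₁ ⊞ E₂) ≫ e.inv)
    have t : kernel.ι (e.hom ≫ (biprod.snd : E₁ ⊞ E₂ ⟶ E₂) ≫ (biprod.inr : E₂ ⟶ E₁ ⊞ E₂) ≫ e.inv) ≫
        e.hom ≫ ((biprod.fst : E₁ ⊞ E₂ ⟶ E₁) ≫ biprod.inl + (biprod.snd : E₁ ⊞ E₂ ⟶ E₂) ≫ biprod.inr) ≫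
          e.inv =
        kernel.ι (e.hom ≫ (biprod.snd : E₁ ⊞ E₂ ⟶ E₂) ≫ (biprod.inr : E₂ ⟶ E₁ ⊞ E₂) ≫ e.inv) := by
      rw [biprod.total]
      simp
    rw [Preadditive.add_comp, Preadditive.comp_add, Preadditive.comp_add] at t
    simp only [Category.assoc] at t h
    rw [h, add_zero] at t
    exact t
  inv_hom_id := by simp

end Cat

section Alg

theorem torsionFree_mid {R : Type*} [CommRing R] {A B C : Type*} [AddCommGroup A] [Module R A]
    [AddCommGroup B] [Module R B] [AddCommGroup C] [Module R C] (f : A →ₗ[R] B) (g : B →ₗ[R] C)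
    (hf : Function.Injective f) (hex : Function.Exact f g) [Module.IsTorsionFree R A]
    [Module.IsTorsionFree R C] : Module.IsTorsionFree R B where
  isSMulRegular r hr b b' h := by
    have hA := Module.IsTorsionFree.isSMulRegular (M := A) hr
    have hC := Module.IsTorsionFree.isSMulRegular (M := C) hr
    have h0 : r • (b - b') = 0 := by
      rw [smul_sub]
      exact sub_eq_zero.2 h
    have h1 : g (b - b') = 0 := by
      apply hC
      change r • g (b - b') = r • 0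
      rw [← map_smul, h0, map_zero, smul_zero]
    obtain ⟨a, ha⟩ := (hex (b - b')).1 h1
    have h2 : a = 0 := by
      apply hA
      change r • a = r • 0
      rw [smul_zero]
      apply hf
      rw [map_smul, ha, h0, map_zero]
    rw [h2, map_zero] at ha
    exact sub_eq_zero.1 ha.symm

end Alg

section Ext

variable (k : Type u) [Field k] (X : Scheme.{u}) [X.Over (Spec (CommRingCat.of k))]
  [IsProper (X ↘ Spec (CommRingCat.of k))] [IsIntegral X]
  (hdim : topologicalKrullDim X = 1)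

include k in
/-- an extension of vector bundles on a regular curve is a vector bundle -/
theorem locFree_mid (hX : ∀ x : X, ValuationRing (X.presheaf.stalk x))
    (S : ShortComplex X.Modules) (hS : S.ShortExact) {r₁ r₃ : ℕ}
    (h₁ : FlatMod.IsFinLocFreeOfRank r₁ S.X₁) (h₃ : FlatMod.IsFinLocFreeOfRank r₃ S.X₃) :
    FlatMod.IsFinLocFreeOfRank (r₁ + r₃) S.X₂ := by
  haveI := Euler.isNoetherian_of_proper k X
  have c₁ := isCoh_of_rank X h₁
  have c₃ := isCoh_of_rank X h₃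
  have c₂ : Coh.IsCoh S.X₂ := isCoh_X₂ k X hS c₁ c₃
  have hfree : ∀ y : X, y ∈ Ref1.freeLocus S.X₂ := by
    intro y
    apply mem_freeLocus_of_torsionFree hX S.X₂ c₂ y
    have hT := hS.map_of_exact (stalkSh X y)
    have hinj : Function.Injective (stalkL S.f y) :=
      (ModuleCat.mono_iff_injective _).1 hT.mono_f
    have hex : Function.Exact (stalkL S.f y) (stalkL S.g y) :=
      (ShortComplex.ShortExact.moduleCat_exact_iff_function_exact _).1 hT.exact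
    have f₁ := Groth.Agent.Lib.Helper5.StalkFree.free_finite_stalk_of_isFinLocFree S.X₁
      (FinLen.isFinLocFree_of_rank h₁) y
    have f₃ := Groth.Agent.Lib.Helper5.StalkFree.free_finite_stalk_of_isFinLocFree S.X₃
      (FinLen.isFinLocFree_of_rank h₃) y
    haveI i₁ : Module.Free (X.presheaf.stalk y) (S.X₁.presheaf.stalk y) := f₁.1
    haveI i₃ : Module.Free (X.presheaf.stalk y) (S.X₃.presheaf.stalk y) := f₃.1
    haveI : Module.IsTorsionFree (X.presheaf.stalk y) (S.X₁.presheaf.stalk y) :=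
      Module.Free.instIsTorsionFree _ _
    haveI : Module.IsTorsionFree (X.presheaf.stalk y) (S.X₃.presheaf.stalk y) :=
      Module.Free.instIsTorsionFree _ _
    exact torsionFree_mid (stalkL S.f y) (stalkL S.g y) hinj hex
  have hlf := isFinLocFree_of_free_stalks S.X₂ (FpLocal.isFP_of_isCoh _ c₂) hfree
  obtain ⟨r₂, h₂⟩ := VB.exists_rank S.X₂ hlf
  have := Euler.rank_add_of_shortExact (genericPoint X) S hS r₁ r₂ r₃ h₁ h₂ h₃
  rw [← this]
  exact h₂

end Ext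

section Indec

variable (k : Type u) [Field k] (X : Scheme.{u}) [X.Over (Spec (CommRingCat.of k))]
  [IsProper (X ↘ Spec (CommRingCat.of k))] [IsIntegral X]
  (hdim : topologicalKrullDim X = 1)

omit [X.Over (Spec (CommRingCat.of k))] [IsProper (X ↘ Spec (CommRingCat.of k))] [IsIntegral X] in
theorem isInvertible_of_rank_one {K : X.Modules} (hK : FlatMod.IsFinLocFreeOfRank 1 K) :
    PicF.IsInvertible K := fun x => by
  obtain ⟨U, hxU, ⟨e⟩⟩ := hK x
  exact ⟨U, hxU, ⟨e ≪≫ Dv.coprodOneIso (Coh.structureModule (↑U : Scheme.{u}))⟩⟩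

include k in
theorem summand_coh {E E₁ E₂ : X.Modules} (hEc : Coh.IsCoh E) (e : E ≅ E₁ ⊞ E₂) : Coh.IsCoh E₁ :=
  isCoh_of_iso' X (summandKernelIso e) (isCoh_kernel k X _ hEc hEc)

theorem summand_pack (hX : ∀ x : X, ValuationRing (X.presheaf.stalk x)) {r : ℕ}
    {E E₁ E₂ : X.Modules} (hE : FlatMod.IsFinLocFreeOfRank r E) (e : E ≅ E₁ ⊞ E₂) :
    ∃ r₁ r₂ : ℕ, FlatMod.IsFinLocFreeOfRank r₁ E₁ ∧ FlatMod.IsFinLocFreeOfRank r₂ E₂ ∧
      r = r₁ + r₂ ∧ Curv2.deg k X E r = Curv2.deg k X E₁ r₁ + Curv2.deg k X E₂ r₂ := by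
  have hEc := isCoh_of_rank X hE
  have c₁ := summand_coh k X hEc e
  have c₂ := summand_coh k X hEc (e ≪≫ biprod.braiding E₁ E₂)
  haveI : E₁.IsQuasicoherent := c₁.1
  haveI : E₂.IsQuasicoherent := c₂.1
  haveI : Mono ((biprod.inl : E₁ ⟶ E₁ ⊞ E₂) ≫ e.inv) := mono_comp _ _
  haveI : Mono ((biprod.inr : E₂ ⟶ E₁ ⊞ E₂) ≫ e.inv) := mono_comp _ _
  obtain ⟨r₁, h₁, -⟩ := VB.sub_locFree k X hX hE ((biprod.inl : E₁ ⟶ E₁ ⊞ E₂) ≫ e.inv)
  obtain ⟨r₂, h₂, -⟩ := VB.sub_locFree k X hX hE ((biprod.inr : E₂ ⟶ E₁ ⊞ E₂) ≫ e.inv)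
  have hS : (ShortComplex.mk ((biprod.inl : E₁ ⟶ E₁ ⊞ E₂) ≫ e.inv)
      (e.hom ≫ (biprod.snd : E₁ ⊞ E₂ ⟶ E₂)) (by simp)).ShortExact := by
    refine ShortComplex.shortExact_of_iso ?_
      (ShortComplex.Splitting.ofHasBinaryBiproduct E₁ E₂).shortExact
    exact ShortComplex.isoMk (Iso.refl _) e.symm (Iso.refl _) (by simp) (by simp)
  exact ⟨r₁, r₂, h₁, h₂, Euler.rank_add_of_shortExact (genericPoint X) _ hS r₁ r r₂ h₁ hE h₂,
    Euler.deg_additive k X _ hS r₁ r r₂ h₁ hE h₂⟩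

include hdim in
/-- S11819 (morphism form) -/
theorem indec_not_simple (hX : ∀ x : X, ValuationRing (X.presheaf.stalk x))
    (S : ShortComplex X.Modules) (hS : S.ShortExact)
    (hL : PicF.IsInvertible S.X₁) (hM : PicF.IsInvertible S.X₃)
    (g : S.X₃ ⟶ S.X₁) (hg : g ≠ 0) (hns : ¬ IsSplitEpi S.g) :
    (¬ IsZero S.X₂ ∧ ∀ (E₁ E₂ : X.Modules), Nonempty (S.X₂ ≅ E₁ ⊞ E₂) → IsZero E₁ ∨ IsZero E₂) ∧
      ∃ φ : S.X₂ ⟶ S.X₂, ∀ c : k, φ ≠ c • 𝟙 S.X₂ := by
  haveI := hS.mono_f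
  haveI := hS.epi_g
  have hL1 := Curve.isFinLocFreeOfRank_one hL
  have hM1 := Curve.isFinLocFreeOfRank_one hM
  have hE : FlatMod.IsFinLocFreeOfRank 2 S.X₂ := locFree_mid k X hX S hS hL1 hM1
  have hz : ¬ IsZero S.X₂ := fun h => not_isZero_of_isInvertible X hL (IsZero.of_mono S.f h)
  refine ⟨⟨hz, ?_⟩, ⟨S.g ≫ g ≫ S.f, fun c hc => ?_⟩⟩
  · rintro E₁ E₂ ⟨e⟩
    by_contra hcon
    rw [not_or] at hcon
    obtain ⟨z₁, z₂⟩ := hcon
    obtain ⟨r₁, r₂, f₁, f₂, hr, hd⟩ := summand_pack k X hX hE e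
    have hr₁ : r₁ ≠ 0 := fun h => z₁ (VB.isZero_of_rank_zero (h ▸ f₁))
    have hr₂ : r₂ ≠ 0 := fun h => z₂ (VB.isZero_of_rank_zero (h ▸ f₂))
    have e₁ : r₁ = 1 := by omega
    have e₂ : r₂ = 1 := by omega
    subst e₁ e₂
    have I₁ := isInvertible_of_rank_one X f₁
    have I₂ := isInvertible_of_rank_one X f₂
    have degL : Curv2.deg k X S.X₂ 2 = Curv2.deg k X S.X₁ 1 + Curv2.deg k X S.X₃ 1 :=
      Euler.deg_additive k X S hS 1 2 1 hL1 hE hM1
    have hML := (Curve.deg_le_of_hom k X hdim hM hL g hg).1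
    have split : ∀ (N : X.Modules) (j : N ⟶ S.X₂), IsIso (j ≫ S.g) → False := by
      intro N j hj
      exact hns (IsSplitEpi.mk' ⟨inv (j ≫ S.g) ≫ j, by rw [Category.assoc, IsIso.inv_hom_id]⟩)
    have hsum : e.hom ≫ (biprod.fst : E₁ ⊞ E₂ ⟶ E₁) ≫ ((biprod.inl : E₁ ⟶ E₁ ⊞ E₂) ≫ e.inv) ≫ S.g +
        e.hom ≫ (biprod.snd : E₁ ⊞ E₂ ⟶ E₂) ≫ ((biprod.inr : E₂ ⟶ E₁ ⊞ E₂) ≫ e.inv) ≫ S.g = S.g := by
      have t : e.hom ≫ ((biprod.fst : E₁ ⊞ E₂ ⟶ E₁) ≫ biprod.inl +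
          (biprod.snd : E₁ ⊞ E₂ ⟶ E₂) ≫ biprod.inr) ≫ e.inv ≫ S.g = S.g := by
        rw [biprod.total]
        simp
      rw [Preadditive.add_comp, Preadditive.comp_add] at t
      simpa only [Category.assoc] using t
    have lift_ne : ∀ (N : X.Modules) (j : N ⟶ S.X₂) [Mono j], ¬ IsZero N → (hc : j ≫ S.g = 0) →
        hS.exact.lift j hc ≠ 0 := by
      intro N j _ hN hc h0
      have h1 := hS.exact.lift_f j hc
      rw [h0, Limits.zero_comp] at h1
      exact hN (IsZero.of_mono_eq_zero j h1.symm)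
    haveI : Mono ((biprod.inl : E₁ ⟶ E₁ ⊞ E₂) ≫ e.inv) := mono_comp _ _
    haveI : Mono ((biprod.inr : E₂ ⟶ E₁ ⊞ E₂) ≫ e.inv) := mono_comp _ _
    by_cases c₁ : ((biprod.inl : E₁ ⟶ E₁ ⊞ E₂) ≫ e.inv) ≫ S.g = 0
    · have c₂ : ((biprod.inr : E₂ ⟶ E₁ ⊞ E₂) ≫ e.inv) ≫ S.g ≠ 0 := by
        intro c₂
        rw [c₁, c₂, Limits.comp_zero, Limits.comp_zero, Limits.comp_zero, Limits.comp_zero,
          add_zero] at hsum
        exact not_isZero_of_isInvertible X hM (IsZero.of_epi_eq_zero S.g hsum.symm)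
      have A := (Curve.deg_le_of_hom k X hdim I₁ hL _ (lift_ne E₁ _ z₁ c₁)).1
      have B := Curve.deg_le_of_hom k X hdim I₂ hM _ c₂
      exact split E₂ _ (B.2 (by linarith [B.1]))
    · by_cases c₂ : ((biprod.inr : E₂ ⟶ E₁ ⊞ E₂) ≫ e.inv) ≫ S.g = 0
      · have A := (Curve.deg_le_of_hom k X hdim I₂ hL _ (lift_ne E₂ _ z₂ c₂)).1
        have B := Curve.deg_le_of_hom k X hdim I₁ hM _ c₁
        exact split E₁ _ (B.2 (by linarith [B.1]))
      · have A := Curve.deg_le_of_hom k X hdim I₁ hM _ c₁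
        have B := Curve.deg_le_of_hom k X hdim I₂ hM _ c₂
        exact split E₁ _ (A.2 (by linarith [A.1, B.1]))
  · have hsq : (S.g ≫ g ≫ S.f) ≫ (S.g ≫ g ≫ S.f) = 0 := by
      simp only [Category.assoc]
      rw [S.zero_assoc]
      simp
    rw [hc, Linear.smul_comp, Linear.comp_smul, Category.id_comp, smul_smul] at hsq
    by_cases h0 : c = 0
    · rw [h0, zero_smul] at hc
      apply hg
      rw [← cancel_mono S.f, ← cancel_epi S.g, hc, Limits.zero_comp, Limits.comp_zero]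
    · apply hz
      rw [IsZero.iff_id_eq_zero]
      have h1 := congrArg (fun ψ : S.X₂ ⟶ S.X₂ => (c * c)⁻¹ • ψ) hsq
      simp only [smul_smul, smul_zero] at h1
      rw [inv_mul_cancel₀ (mul_ne_zero h0 h0), one_smul] at h1
      exact h1

end Indec

end Groth.Agent.Lead.VBL
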