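import Mathlib
import Groth.Agent.Lib.Lead.VBL8
import Groth.Agent.Lib.Helper1.HH0

set_option autoImplicit false
set_option backward.isDefEq.respectTransparency.types false
set_option synthInstance.maxHeartbeats 400000
set_option linter.style.haveILetI false
set_option linter.unusedSectionVars false
set_option linter.unusedVariables false

universe u

open CategoryTheory CategoryTheory.Limits AlgebraicGeometry TopologicalSpace Opposite Polynomial

namespace Groth.Agent.Lead.VBL

open Groth.Agent.Lead.HP Groth.Agent.Helper1 Groth.Agent.Lead.HN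
open Groth.Agent.Lib.Helper5.StalkAdj Groth.Agent.Helper1.Dv Groth.Agent.Lead.FLF
open Groth.Agent.Lib.Helper4

section HomFin

variable {X : Scheme.{u}} {E F : X.Modules}

theorem hom_ext_of_stalkMapₗ {φ ψ : E ⟶ F}
    (h : ∀ x, RefHull.stalkMapₗ φ x = RefHull.stalkMapₗ ψ x) : φ = ψ := by
  apply Scheme.Modules.hom_ext
  intro U
  ext s
  apply TopCat.Presheaf.section_ext ⟨F.presheaf, F.isSheaf⟩ U
  intro x hx
  have h1 := RefHull.stalkMapₗ_germ φ x hx s
  have h2 := RefHull.stalkMapₗ_germ ψ x hx s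
  rw [h x] at h1
  exact h1.symm.trans h2

theorem stalkMapₗ_add (φ ψ : E ⟶ F) (x : X) :
    RefHull.stalkMapₗ (φ + ψ) x = RefHull.stalkMapₗ φ x + RefHull.stalkMapₗ ψ x := by
  apply LinearMap.ext
  intro v
  obtain ⟨U, hx, s, rfl⟩ := TopCat.Presheaf.exists_germ_eq E.presheaf v
  rw [LinearMap.add_apply, RefHull.stalkMapₗ_germ, RefHull.stalkMapₗ_germ, RefHull.stalkMapₗ_germ,
    ← map_add]
  rfl

end HomFin

section HomFin2

variable (k : Type u) [Field k] (X : Scheme.{u}) [X.Over (Spec (CommRingCat.of k))]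
  [IsProper (X ↘ Spec (CommRingCat.of k))]

/-- the `k`-module structure on the global sections of a module -/
noncomputable def modΓ (M : X.Modules) : Module k (M.val.obj (op ⊤)) :=
  Module.compHom (M.val.obj (op ⊤)) (Coh.toGlobal (X ↘ Spec (CommRingCat.of k)))

theorem finite_Γ (M : X.Modules) (hM : Coh.IsCoh M) :
    letI := modΓ k X M
    Module.Finite k (M.val.obj (op ⊤)) := by
  letI := modΓ k X M
  let e : Coh.HH X M 0 ≃ₗ[k] M.val.obj (op ⊤) :=
    { HH0.equiv X M with
      map_smul' := fun a x => HH0.equiv_smul_over X M a x }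
  haveI := T2Main1.t2 k X M hM 0
  exact Module.Finite.equiv e

variable {X} in
theorem stalkMapₗ_smul {E F : X.Modules} (c : k) (φ : E ⟶ F) (x : X) :
    RefHull.stalkMapₗ (c • φ) x =
      X.presheaf.germ ⊤ x trivial (Coh.toGlobal (X ↘ Spec (CommRingCat.of k)) c) •
        RefHull.stalkMapₗ φ x := by
  apply LinearMap.ext
  intro v
  obtain ⟨U, hx, s, rfl⟩ := TopCat.Presheaf.exists_germ_eq E.presheaf v
  rw [LinearMap.smul_apply, RefHull.stalkMapₗ_germ, RefHull.stalkMapₗ_germ, KLin.smul_app_apply,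
    Mero.germ_smul]
  congr 1
  exact TopCat.Presheaf.germ_res_apply X.presheaf (homOfLE (le_top : U ≤ ⊤)) x hx _

/-- morphisms as global sections of the sheaf Hom -/
noncomputable def toΓ (E F : X.Modules) :
    letI := modΓ k X (RefHull.homSh E F)
    (E ⟶ F) →ₗ[k] (RefHull.homSh E F).val.obj (op ⊤) :=
  letI := modΓ k X (RefHull.homSh E F)
  { toFun := fun φ => RefHull.ofHom φ ⊤
    map_add' := fun φ ψ => by
      apply Subtype.ext
      funext x
      exact stalkMapₗ_add φ ψ x.1
    map_smul' := fun c φ => by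
      apply Subtype.ext
      funext x
      exact stalkMapₗ_smul k c φ x.1 }

theorem toΓ_injective (E F : X.Modules) : Function.Injective (toΓ k X E F) := by
  intro φ ψ h
  apply hom_ext_of_stalkMapₗ
  intro x
  have := congrArg (fun g : (RefHull.homSh E F).val.obj (op ⊤) => g.1 ⟨x, trivial⟩) h
  exact this

/-- morphisms between coherent modules on a proper scheme over a field form a finite dimensional
space -/
theorem finite_hom (E F : X.Modules) (hE : Coh.IsCoh E) (hF : Coh.IsCoh F) :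
    Module.Finite k (E ⟶ F) := by
  haveI : IsLocallyNoetherian X :=
    LocallyOfFiniteType.isLocallyNoetherian (X ↘ Spec (CommRingCat.of k))
  letI := modΓ k X (RefHull.homSh E F)
  haveI := finite_Γ k X (RefHull.homSh E F) (RH.isCoh_homSh hE hF)
  exact Module.Finite.of_injective (toΓ k X E F) (toΓ_injective k X E F)

end HomFin2

section Alg


variable (k : Type*) {A : Type*} [Field k] [Ring A] [Algebra k A] [FiniteDimensional k A]

include k in
theorem isNilpotent_or_isUnit (hid : ∀ e : A, e * e = e → e = 0 ∨ e = 1) (a : A) :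
    IsNilpotent a ∨ IsUnit a := by
  have hint : IsIntegral k a := Algebra.IsIntegral.isIntegral a
  have hm0 : minpoly k a ≠ 0 := minpoly.ne_zero hint
  obtain ⟨q, hq, hnd⟩ := Polynomial.exists_eq_pow_rootMultiplicity_mul_and_not_dvd (minpoly k a) hm0 0
  rw [C_0, sub_zero] at hq hnd
  set n := rootMultiplicity 0 (minpoly k a) with hn
  have hcop : IsCoprime ((X : k[X]) ^ n) q :=
    IsCoprime.pow_left ((Polynomial.irreducible_X).coprime_iff_not_dvd.2 hnd)
  obtain ⟨u, v, huv⟩ := hcop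
  have hma : aeval a (minpoly k a) = 0 := minpoly.aeval k a
  have he : aeval a (v * q) * aeval a (v * q) = aeval a (v * q) := by
    have h1 : (v * q) * (v * q) - v * q = -(u * v) * minpoly k a := by
      have h2 : v * q = 1 - u * X ^ n := by linear_combination huv
      rw [hq]
      linear_combination (v * q) * huv
    have h3 := congrArg (aeval a) h1
    rw [map_sub, map_mul, map_mul (aeval a) (-(u * v)), hma, mul_zero, sub_eq_zero] at h3
    exact h3
  rcases hid _ he with h0 | h1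
  · -- unit
    right
    have hd : minpoly k a ∣ v * q := minpoly.dvd k a h0
    have hd2 : (X : k[X]) ^ n ∣ v * q := (Dvd.intro _ hq.symm).trans hd
    have hd3 : (X : k[X]) ^ n ∣ v := IsCoprime.dvd_of_dvd_mul_right ⟨u, v, huv⟩ hd2
    have hd4 : (X : k[X]) ^ n ∣ 1 := by
      rw [← huv]
      exact dvd_add (Dvd.intro_left _ rfl) (Dvd.dvd.mul_right hd3 q)
    have hn0 : n = 0 := by
      by_contra hne
      have : (X : k[X]) ∣ 1 := (dvd_pow_self X hne).trans hd4
      exact Polynomial.not_isUnit_X (isUnit_of_dvd_one this)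
    rw [hn0, pow_zero, one_mul] at hq
    have hc : q.coeff 0 ≠ 0 := by
      intro hc
      apply hnd
      rw [Polynomial.X_dvd_iff]
      exact hc
    have hq0 : aeval a q = 0 := by rw [← hq]; exact hma
    have h5 : aeval a (divX q) * a + algebraMap k A (q.coeff 0) = 0 := by
      have := congrArg (aeval a) (Polynomial.divX_mul_X_add q)
      rw [map_add, map_mul, aeval_X, aeval_C, hq0] at this
      exact this
    have hcomm : aeval a (divX q) * a = a * aeval a (divX q) := by
      have : aeval a (divX q * X) = aeval a (X * divX q) := by rw [mul_comm]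
      rw [map_mul, map_mul, aeval_X] at this
      exact this
    refine ⟨⟨a, -(algebraMap k A (q.coeff 0)⁻¹) * aeval a (divX q), ?_, ?_⟩, rfl⟩
    · have h6 : a * aeval a (divX q) = -algebraMap k A (q.coeff 0) := by
        rw [← hcomm]
        exact eq_neg_of_add_eq_zero_left h5
      have h7 : a * (-(algebraMap k A (q.coeff 0)⁻¹) * aeval a (divX q)) =
          -(algebraMap k A (q.coeff 0)⁻¹) * (a * aeval a (divX q)) := by
        rw [← mul_assoc, ← mul_assoc, neg_mul, mul_neg, Algebra.commutes]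
      rw [h7, h6, neg_mul_neg, ← map_mul, inv_mul_cancel₀ hc, map_one]
    · have h6 : aeval a (divX q) * a = -algebraMap k A (q.coeff 0) :=
        eq_neg_of_add_eq_zero_left h5
      rw [mul_assoc, h6, mul_neg, neg_mul, neg_neg, ← map_mul, inv_mul_cancel₀ hc, map_one]
  · -- nilpotent
    left
    have h2 : aeval a (u * X ^ n) = 0 := by
      have h3 : u * X ^ n = 1 - v * q := by linear_combination huv
      rw [h3, map_sub, map_one, h1, sub_self]
    have hd : minpoly k a ∣ u * X ^ n := minpoly.dvd k a h2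
    have hd2 : q ∣ u * X ^ n := (Dvd.intro_left _ hq.symm).trans hd
    have hd3 : q ∣ u := IsCoprime.dvd_of_dvd_mul_right (IsCoprime.symm ⟨u, v, huv⟩) hd2
    have hd4 : q ∣ 1 := by
      rw [← huv]
      exact dvd_add (Dvd.dvd.mul_right hd3 _) (Dvd.intro_left _ rfl)
    have hu : IsUnit q := isUnit_of_dvd_one hd4
    have hu2 : IsUnit (aeval a q) := hu.map (aeval a)
    refine ⟨n, ?_⟩
    have h4 : a ^ n * aeval a q = 0 := by
      have := hma
      rw [hq, map_mul, map_pow, aeval_X] at this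
      exact this
    exact (hu2.mul_left_eq_zero).1 h4

include k in
theorem isUnit_or_isUnit_of_isUnit_add (hid : ∀ e : A, e * e = e → e = 0 ∨ e = 1) (a b : A)
    (h : IsUnit (a + b)) : IsUnit a ∨ IsUnit b := by
  obtain ⟨w, hw⟩ := h
  rcases isNilpotent_or_isUnit k hid (↑w⁻¹ * a) with hnil | hunit
  · right
    have h1 : ↑w⁻¹ * b = 1 - ↑w⁻¹ * a := by
      have : ↑w⁻¹ * (a + b) = 1 := by rw [← hw]; exact w.inv_mul
      rw [mul_add] at this
      exact eq_sub_of_add_eq' this
    have h2 : IsUnit (↑w⁻¹ * b) := by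
      rw [h1]
      exact hnil.isUnit_one_sub
    exact (Units.isUnit_units_mul w⁻¹ b).1 h2
  · left
    exact (Units.isUnit_units_mul w⁻¹ a).1 hunit


end Alg

section Idem

variable {C : Type*} [Category C] [Abelian C]

/-- projection to the kernel of an idempotent -/
noncomputable def idemP₁ {E : C} (e : E ⟶ E) (he : e ≫ e = e) : E ⟶ kernel e :=
  kernel.lift e (𝟙 E - e) (by rw [Preadditive.sub_comp, Category.id_comp, he, sub_self])

/-- projection to the kernel of the complementary idempotent -/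
noncomputable def idemP₂ {E : C} (e : E ⟶ E) (he : e ≫ e = e) : E ⟶ kernel (𝟙 E - e) :=
  kernel.lift (𝟙 E - e) e (by rw [Preadditive.comp_sub, Category.comp_id, he, sub_self])

theorem idemP₁_ι {E : C} (e : E ⟶ E) (he : e ≫ e = e) : idemP₁ e he ≫ kernel.ι e = 𝟙 E - e :=
  kernel.lift_ι _ _ _

theorem idemP₂_ι {E : C} (e : E ⟶ E) (he : e ≫ e = e) :
    idemP₂ e he ≫ kernel.ι (𝟙 E - e) = e :=
  kernel.lift_ι _ _ _

/-- an idempotent endomorphism splits the object as a biproduct of two kernels -/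
noncomputable def idemIso {E : C} (e : E ⟶ E) (he : e ≫ e = e) :
    E ≅ kernel e ⊞ kernel (𝟙 E - e) where
  hom := biprod.lift (idemP₁ e he) (idemP₂ e he)
  inv := biprod.desc (kernel.ι e) (kernel.ι (𝟙 E - e))
  hom_inv_id := by
    rw [biprod.lift_desc, idemP₁_ι, idemP₂_ι, sub_add_cancel]
  inv_hom_id := by
    have h1 : kernel.ι (𝟙 E - e) ≫ e = kernel.ι (𝟙 E - e) := by
      have := kernel.condition (𝟙 E - e)
      rw [Preadditive.comp_sub, Category.comp_id, sub_eq_zero] at this
      exact this.symm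
    apply biprod.hom_ext'
    · rw [biprod.inl_desc_assoc, Category.comp_id]
      apply biprod.hom_ext
      · rw [Category.assoc, biprod.lift_fst, biprod.inl_fst]
        apply (cancel_mono (kernel.ι e)).1
        rw [Category.assoc, idemP₁_ι, Preadditive.comp_sub, Category.comp_id,
          kernel.condition, sub_zero, Category.id_comp]
      · rw [Category.assoc, biprod.lift_snd, biprod.inl_snd]
        apply (cancel_mono (kernel.ι (𝟙 E - e))).1
        rw [Category.assoc, idemP₂_ι, kernel.condition, Limits.zero_comp]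
    · rw [biprod.inr_desc_assoc, Category.comp_id]
      apply biprod.hom_ext
      · rw [Category.assoc, biprod.lift_fst, biprod.inr_fst]
        apply (cancel_mono (kernel.ι e)).1
        rw [Category.assoc, idemP₁_ι, Limits.zero_comp, Preadditive.comp_sub,
          Category.comp_id, h1, sub_self]
      · rw [Category.assoc, biprod.lift_snd, biprod.inr_snd]
        apply (cancel_mono (kernel.ι (𝟙 E - e))).1
        rw [Category.assoc, idemP₂_ι, h1, Category.id_comp]

theorem idem_trivial {E : C}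
    (hind : ∀ (E₁ E₂ : C), Nonempty (E ≅ E₁ ⊞ E₂) → IsZero E₁ ∨ IsZero E₂)
    (e : E ⟶ E) (he : e ≫ e = e) : e = 0 ∨ e = 𝟙 E := by
  rcases hind _ _ ⟨idemIso e he⟩ with h | h
  · right
    have h1 := idemP₁_ι e he
    rw [h.eq_of_tgt (idemP₁ e he) 0, Limits.zero_comp] at h1
    exact (sub_eq_zero.1 h1.symm).symm
  · left
    have h1 := idemP₂_ι e he
    rw [h.eq_of_tgt (idemP₂ e he) 0, Limits.zero_comp] at h1
    exact h1.symm

theorem indec_of_local {E : C} (hloc : ∀ f₁ f₂ : E ⟶ E, IsIso (f₁ + f₂) → IsIso f₁ ∨ IsIso f₂)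
    (E₁ E₂ : C) (φ : E ≅ E₁ ⊞ E₂) : IsZero E₁ ∨ IsZero E₂ := by
  have hsum : φ.hom ≫ (biprod.fst ≫ biprod.inl) ≫ φ.inv + φ.hom ≫ (biprod.snd ≫ biprod.inr) ≫ φ.inv
      = 𝟙 E := by
    rw [← Preadditive.comp_add, ← Preadditive.add_comp, biprod.total, Category.id_comp,
      Iso.hom_inv_id]
  have hiso : IsIso (φ.hom ≫ (biprod.fst ≫ biprod.inl) ≫ φ.inv +
      φ.hom ≫ (biprod.snd ≫ biprod.inr) ≫ φ.inv) := by
    rw [hsum]; infer_instance
  rcases hloc _ _ hiso with h | h
  · right
    have h1 : (φ.hom ≫ (biprod.fst ≫ biprod.inl) ≫ φ.inv) ≫ (φ.hom ≫ (biprod.snd : E₁ ⊞ E₂ ⟶ E₂))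
        = 0 := by
      simp
    have h2 : φ.hom ≫ (biprod.snd : E₁ ⊞ E₂ ⟶ E₂) = 0 := by
      haveI := h
      rw [← cancel_epi (φ.hom ≫ (biprod.fst ≫ biprod.inl) ≫ φ.inv), h1, Limits.comp_zero]
    have h3 : (biprod.snd : E₁ ⊞ E₂ ⟶ E₂) = 0 := by
      rw [← cancel_epi φ.hom, h2, Limits.comp_zero]
    rw [IsZero.iff_id_eq_zero, ← biprod.inr_snd (X := E₁) (Y := E₂), h3, Limits.comp_zero]
  · left
    have h1 : (φ.hom ≫ (biprod.snd ≫ biprod.inr) ≫ φ.inv) ≫ (φ.hom ≫ (biprod.fst : E₁ ⊞ E₂ ⟶ E₁))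
        = 0 := by
      simp
    have h2 : φ.hom ≫ (biprod.fst : E₁ ⊞ E₂ ⟶ E₁) = 0 := by
      haveI := h
      rw [← cancel_epi (φ.hom ≫ (biprod.snd ≫ biprod.inr) ≫ φ.inv), h1, Limits.comp_zero]
    have h3 : (biprod.fst : E₁ ⊞ E₂ ⟶ E₁) = 0 := by
      rw [← cancel_epi φ.hom, h2, Limits.comp_zero]
    rw [IsZero.iff_id_eq_zero, ← biprod.inl_fst (X := E₁) (Y := E₂), h3, Limits.comp_zero]

end Idem

section LocalEnd

variable (k : Type u) [Field k] (X : Scheme.{u}) [X.Over (Spec (CommRingCat.of k))]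
  [IsProper (X ↘ Spec (CommRingCat.of k))]

include k in
/-- the endomorphism ring of an indecomposable coherent module on a proper `k`-scheme is local -/
theorem local_of_indec (E : X.Modules) (hE : Coh.IsCoh E)
    (hind : ∀ (E₁ E₂ : X.Modules), Nonempty (E ≅ E₁ ⊞ E₂) → IsZero E₁ ∨ IsZero E₂)
    (f₁ f₂ : E ⟶ E) (h : IsIso (f₁ + f₂)) : IsIso f₁ ∨ IsIso f₂ := by
  haveI : Module.Finite k (End E) := finite_hom k X E E hE hE
  have hid : ∀ e : End E, e * e = e → e = 0 ∨ e = 1 := fun e he => idem_trivial hind e he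
  have hu : IsUnit ((show End E from f₁) + (show End E from f₂)) :=
    (isUnit_iff_isIso (f₁ + f₂)).2 h
  rcases isUnit_or_isUnit_of_isUnit_add k hid _ _ hu with h1 | h1
  · exact Or.inl ((isUnit_iff_isIso f₁).1 h1)
  · exact Or.inr ((isUnit_iff_isIso f₂).1 h1)

end LocalEnd

section S11820

variable (k : Type u) [Field k] (X : Scheme.{u}) [X.Over (Spec (CommRingCat.of k))]
  [IsIntegral X] [IsProper (X ↘ Spec (CommRingCat.of k))]

include k in
/-- S11820 -/
theorem indec_iff_local (r : ℕ) (hr : 0 < r) (E : X.Modules)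
    (hE : FlatMod.IsFinLocFreeOfRank r E) :
    (¬ IsZero E ∧ ∀ (E₁ E₂ : X.Modules), Nonempty (E ≅ E₁ ⊞ E₂) → IsZero E₁ ∨ IsZero E₂) ↔
      ∀ f₁ f₂ : E ⟶ E, IsIso (f₁ + f₂) → IsIso f₁ ∨ IsIso f₂ := by
  constructor
  · rintro ⟨_, hind⟩ f₁ f₂ h
    exact local_of_indec k X E (isCoh_of_rank X hE) hind f₁ f₂ h
  · intro hloc
    refine ⟨VB.not_isZero_of_rank_pos X hr hE, ?_⟩
    rintro E₁ E₂ ⟨φ⟩
    exact indec_of_local hloc E₁ E₂ φ

include k in
/-- S11821 -/
theorem eigen_unique (r : ℕ) (hr : 0 < r) (E : X.Modules)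
    (hE : FlatMod.IsFinLocFreeOfRank r E)
    (hind : (¬ IsZero E ∧ ∀ (E₁ E₂ : X.Modules), Nonempty (E ≅ E₁ ⊞ E₂) → IsZero E₁ ∨ IsZero E₂))
    (f : E ⟶ E) (a b : k)
    (ha : ¬ IsIso ((SheafOfModules.toSheaf X.ringCatSheaf).map f -
      Coh.smulAb E (Coh.toGlobal (X ↘ Spec (CommRingCat.of k)) a)))
    (hb : ¬ IsIso ((SheafOfModules.toSheaf X.ringCatSheaf).map f -
      Coh.smulAb E (Coh.toGlobal (X ↘ Spec (CommRingCat.of k)) b))) :
    a = b := by
  have hloc := (indec_iff_local k X r hr E hE).1 hind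
  have key : ∀ c : k, ¬ IsIso ((SheafOfModules.toSheaf X.ringCatSheaf).map f -
      Coh.smulAb E (Coh.toGlobal (X ↘ Spec (CommRingCat.of k)) c)) → ¬ IsIso (f - c • 𝟙 E) := by
    intro c hc hiso
    apply hc
    have h0 : (SheafOfModules.toSheaf X.ringCatSheaf).map (f - c • 𝟙 E) =
        (SheafOfModules.toSheaf X.ringCatSheaf).map f -
        (SheafOfModules.toSheaf X.ringCatSheaf).map (c • 𝟙 E) := Functor.map_sub _
    rw [toSheaf_map_smul_id] at h0
    rw [← h0]
    exact @Functor.map_isIso _ _ _ _ _ _ (SheafOfModules.toSheaf X.ringCatSheaf)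
      (f - c • 𝟙 E) hiso
  have ha' := key a ha
  have hb' := key b hb
  by_contra hab
  have hne : a - b ≠ 0 := sub_ne_zero.2 hab
  have hsum : (f - b • 𝟙 E) + (-(f - a • 𝟙 E)) = (a - b) • 𝟙 E := by
    rw [sub_smul]
    abel
  have hiso : IsIso ((f - b • 𝟙 E) + (-(f - a • 𝟙 E))) := by
    rw [hsum]
    refine ⟨⟨(a - b)⁻¹ • 𝟙 E, ?_, ?_⟩⟩
    · rw [Linear.smul_comp, Linear.comp_smul, Category.id_comp, smul_smul, mul_inv_cancel₀ hne,
        one_smul]
    · rw [Linear.smul_comp, Linear.comp_smul, Category.id_comp, smul_smul, inv_mul_cancel₀ hne,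
        one_smul]
  rcases hloc _ _ hiso with h | h
  · exact hb' h
  · apply ha'
    have h2 : f - a • 𝟙 E = -(-(f - a • 𝟙 E)) := (neg_neg _).symm
    rw [h2]
    haveI := h
    exact ⟨⟨-(inv (-(f - a • 𝟙 E))), by rw [Preadditive.neg_comp, Preadditive.comp_neg, neg_neg,
      IsIso.hom_inv_id], by rw [Preadditive.neg_comp, Preadditive.comp_neg, neg_neg,
      IsIso.inv_hom_id]⟩⟩

end S11820

end Groth.Agent.Lead.VBL
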