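import Mathlib
import Groth.Agent.Lib.Lead.VBL9
import Groth.Agent.Lib.Helper1.CurveDual5
import Groth.Agent.Lib.Helper1.GenusOne1
import Groth.Agent.Lib.Helper1.InvInv2
import Groth.Agent.Lib.Helper1.TensGenL
import Groth.Agent.Lib.Lead.HP2

/-!
# Duality-free vanishing on curves: sub line bundles killed by a functional on `H¹` (lead)
-/

set_option autoImplicit false
set_option backward.isDefEq.respectTransparency.types false
set_option synthInstance.maxHeartbeats 400000
set_option linter.style.haveILetI false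
set_option linter.unusedSectionVars false
set_option linter.unusedVariables false
universe u
open CategoryTheory CategoryTheory.Limits AlgebraicGeometry TopologicalSpace Opposite

namespace Groth.Agent.Lead.CV

open Groth.Agent.Helper1.QcCech Groth.Agent.Helper1.SubSh Groth.Agent.Helper1.LGen
open Groth.Agent.Helper1.TmulLib Groth.Agent.Helper1 Groth.Agent.Helper1.TwForm
open Groth.Agent.Helper1.TensGen Groth.Agent.Lib.Helper4.TwExact Groth.Agent.Helper1.Dv
open Groth.Agent.Lib.Helper4 Groth.Agent.Helper1.CurveAmp Groth.Agent.Helper1.FinSupp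
open Groth.Agent.Helper1.Euler Groth.Agent.Helper1.Curve Groth.Agent.Helper1.CurveLin
open Groth.Agent.Helper1.CurveDual

section Mul

variable {X : Scheme.{u}}

/-- multiplication by a nonzero section on an invertible module is nonzero -/
theorem mulΓ_ne_zero_left {N M : X.Modules} (hN : PicF.IsInvertible N) (σ : Γ(M, ⊤)) (hσ : σ ≠ 0) :
    mulΓ N M σ ≠ 0 := by
  intro h
  apply hσ
  apply TwistSec.eq_of_locally
  intro x _
  obtain ⟨W, b, hxW, hb⟩ := exists_isGen hN x
  refine ⟨W, le_top, hxW, ?_⟩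
  have hinj := injective_tm_of_isGen_left M hb
  apply hinj
  change tm N M W b (res M (le_top : W ≤ ⊤) σ) = tm N M W b (res M (le_top : W ≤ ⊤) 0)
  have h1 : (mulΓ N M σ).app W b = 0 := by rw [h]; rfl
  rw [mulΓ_app] at h1
  rw [h1]
  have h0 : res M (le_top : W ≤ ⊤) (0 : Γ(M, ⊤)) = 0 := map_zero _
  rw [h0, tm_zero_right]

end Mul

section Core

variable (k : Type u) [Field k] (X : Scheme.{u}) [X.Over (Spec (CommRingCat.of k))]
  [IsIntegral X] [IsProper (X ↘ (Spec (CommRingCat.of k)))]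

/-- if `h¹(N) < h⁰(M)` then some nonzero section of `M` gives a map `N → N ⊗ M ≅ Q` killed by a given
functional on `H¹(Q)` -/
theorem exists_section_killing {N M Q : X.Modules} (hN : Coh.IsCoh N) (hM : Coh.IsCoh M)
    (ε : CohB1.tensorMod N M ≅ Q) (φ : Coh.HH X Q 1 →ₗ[k] k)
    (hlt : Module.finrank k (Coh.HH X N 1) < Module.finrank k (Coh.HH X M 0)) :
    ∃ σ : Γ(M, ⊤), σ ≠ 0 ∧
      ∀ v : Coh.HH X N 1, φ (Canon.HHlin k (mulΓ N M σ ≫ ε.hom) 1 v) = 0 := by
  haveI : FiniteDimensional k (Coh.HH X M 0) := T2Main1.t2 k X M hM 0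
  haveI : FiniteDimensional k (Coh.HH X N 1) := T2Main1.t2 k X N hN 1
  let Ψ : Coh.HH X M 0 →ₗ[k] Module.Dual k (Coh.HH X N 1) :=
    LinearMap.mk₂ k (fun x v => φ (Canon.HHlin k ε.hom 1 (mulH k N M 1 v x)))
      (fun x x' v => by rw [map_add, map_add, map_add])
      (fun c x v => by rw [map_smul, map_smul, map_smul])
      (fun x v v' => by rw [mulH_apply, mulH_apply, mulH_apply, map_add, map_add, map_add])
      (fun c x v => by rw [mulH_apply, mulH_apply, map_smul, map_smul, map_smul])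
  have hker : LinearMap.ker Ψ ≠ ⊥ := by
    apply LinearMap.ker_ne_bot_of_finrank_lt
    rw [Subspace.dual_finrank_eq]
    exact hlt
  obtain ⟨x, hx, hx0⟩ := Submodule.exists_mem_ne_zero_of_ne_bot hker
  refine ⟨HH0.equiv X M x, fun h0 => hx0 ((HH0.equiv X M).injective (h0.trans (map_zero _).symm)),
    fun v => ?_⟩
  have h1 : Ψ x v = 0 := by
    rw [LinearMap.mem_ker] at hx
    rw [hx]; rfl
  rw [HHFin1.HHlin_comp]
  exact h1

/-- an invertible module of negative degree has no nonzero sections -/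
theorem subsingleton_H0_of_deg_neg (hdim : topologicalKrullDim X = 1) {N : X.Modules}
    (hN : PicF.IsInvertible N) (hdeg : Curv2.deg k X N 1 < 0) : Subsingleton (Coh.HH X N 0) := by
  by_contra hns
  rw [not_subsingleton_iff_nontrivial] at hns
  obtain ⟨x, hx⟩ := exists_ne (0 : Coh.HH X N 0)
  have hσ : HH0.equiv X N x ≠ 0 := fun h0 =>
    hx ((HH0.equiv X N).injective (h0.trans (map_zero _).symm))
  have hs : TwistAmple.homOfSec N (HH0.equiv X N x) ≠ 0 := by
    intro h
    apply hσ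
    have h1 := TwistAmple.homOfSec_app N (HH0.equiv X N x) ⊤ 1
    rw [h] at h1
    rw [one_smul] at h1
    have h2 : N.presheaf.map (homOfLE (le_top : (⊤ : X.Opens) ≤ ⊤)).op (HH0.equiv X N x) =
        HH0.equiv X N x := by
      have : (homOfLE (le_top : (⊤ : X.Opens) ≤ ⊤)).op = 𝟙 _ := rfl
      rw [this, N.presheaf.map_id]
      rfl
    rw [h2] at h1
    exact h1.symm
  have := deg_nonneg_of_section k X hdim hN _ hs
  omega

end Core

section Neg

variable (k : Type u) [Field k] [IsAlgClosed k] (X : Scheme.{u}) [X.Over (Spec (CommRingCat.of k))]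
  [IsIntegral X] [IsProper (X ↘ (Spec (CommRingCat.of k)))] [Smooth (X ↘ (Spec (CommRingCat.of k)))]

/-- invertible modules of arbitrary negative degree, together with an inverse -/
theorem exists_neg_line (hdim : topologicalKrullDim X = 1) (d : ℕ) :
    ∃ N M : X.Modules, PicF.IsInvertible N ∧ PicF.IsInvertible M ∧
      Nonempty (CohB1.tensorMod M N ≅ Coh.structureModule X) ∧
      Curv2.deg k X N 1 = -(d : ℤ) ∧ Curv2.deg k X M 1 = (d : ℤ) := by
  haveI := isNoetherian_of_proper k X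
  haveI : IsLocallyNoetherian X := (isNoetherian_of_proper k X).toIsLocallyNoetherian
  obtain ⟨P, -, hP⟩ := PtInv.exists_closedPoint_mem k (X ↘ (Spec (CommRingCat.of k))) ⊤
    (genericPoint X) trivial
  have hI := PtInv.isInvertible_ptIdeal_of_smooth k X hdim P hP
  have hN : PicF.IsInvertible (CohB1.tensorPow (ClSub.idealMod (ptIdeal P hP)) d) :=
    isInvertible_tensorPow hI d
  obtain ⟨M, hM, ⟨e⟩⟩ := InvInv2.exists_inverse hN
  have hdN : Curv2.deg k X (CohB1.tensorPow (ClSub.idealMod (ptIdeal P hP)) d) 1 = -(d : ℤ) := by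
    rw [deg_tensorPow k X hdim.le hI d, PtInv.deg_ptIdeal k X P hP]
    ring
  refine ⟨_, M, hN, hM, ⟨e⟩, hdN, ?_⟩
  have := GenusOne.deg_of_inverse k X hdim hM hN e
  rw [this, hdN]
  ring

end Neg

section Iso

variable {X : Scheme.{u}}

/-- `N ⊗ (Q ⊗ M) ≅ Q` when `M ⊗ N ≅ O` with `M`, `N` invertible -/
theorem nonempty_twist_back {N M : X.Modules} (Q : X.Modules) (hN : PicF.IsInvertible N)
    (hM : PicF.IsInvertible M) (e : CohB1.tensorMod M N ≅ Coh.structureModule X) :
    Nonempty (CohB1.tensorMod N (CohB1.tensorMod Q M) ≅ Q) := by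
  obtain ⟨u⟩ := TwistAmpleOpen.nonempty_tensorMod_unit_iso Q
  have e1 : CohB1.tensorMod N (CohB1.tensorMod Q M) ≅ CohB1.tensorMod (CohB1.tensorMod Q M) N :=
    ((HP.flipIso N).app (CohB1.tensorMod Q M)).symm
  have e2 := GenusOne.assocIso Q hM hN
  have e3 : CohB1.tensorMod Q (CohB1.tensorMod M N) ≅ CohB1.tensorMod Q (Coh.structureModule X) :=
    { hom := KoszTw.tensorMap (𝟙 Q) e.hom
      inv := KoszTw.tensorMap (𝟙 Q) e.inv
      hom_inv_id := by
        rw [← KoszTw.tensorMap_comp, e.hom_inv_id, Category.comp_id, KoszTw.tensorMap_id]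
      inv_hom_id := by
        rw [← KoszTw.tensorMap_comp, e.inv_hom_id, Category.comp_id, KoszTw.tensorMap_id] }
  have e4 : CohB1.tensorMod Q (Coh.structureModule X) ≅ CohB1.tensorMod (Coh.structureModule X) Q :=
    ((HP.flipIso Q).app (Coh.structureModule X)).symm
  exact ⟨e1 ≪≫ e2 ≪≫ e3 ≪≫ e4 ≪≫ u⟩

end Iso

section LemmaA

variable (k : Type u) [Field k] [IsAlgClosed k] (X : Scheme.{u}) [X.Over (Spec (CommRingCat.of k))]
  [IsIntegral X] [IsProper (X ↘ (Spec (CommRingCat.of k)))] [Smooth (X ↘ (Spec (CommRingCat.of k)))]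

/-- in a vector bundle of rank `≥ 2`, some invertible module maps nontrivially with image killed
(on `H¹`) by a given functional -/
theorem exists_line_sub_killed (hdim : topologicalKrullDim X = 1) {r : ℕ} (hr : 2 ≤ r)
    {Q : X.Modules} (hQ : FlatMod.IsFinLocFreeOfRank r Q) (φ : Coh.HH X Q 1 →ₗ[k] k) :
    ∃ (N : X.Modules) (s : N ⟶ Q), PicF.IsInvertible N ∧ s ≠ 0 ∧
      ∀ v : Coh.HH X N 1, φ (Canon.HHlin k s 1 v) = 0 := by
  obtain ⟨d, hd⟩ : ∃ d : ℕ, |Curv2.deg k X Q r| +
      ((r : ℤ) + 1) * |Curv2.euler k X (Coh.structureModule X)| + 1 ≤ (d : ℤ) :=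
    ⟨(|Curv2.deg k X Q r| +
      ((r : ℤ) + 1) * |Curv2.euler k X (Coh.structureModule X)| + 1).toNat, by
      rw [Int.toNat_of_nonneg (by positivity)]⟩
  obtain ⟨N, M, hN, hM, ⟨e⟩, hdN, hdM⟩ := exists_neg_line k X hdim d
  obtain ⟨ε⟩ := nonempty_twist_back Q hN hM e
  have hNc := InvQc.isCoh_of_isInvertible N hN
  have hMc := InvQc.isCoh_of_isInvertible M hM
  have hQc : Coh.IsCoh Q := VBL.isCoh_of_rank X hQ
  have hTc : Coh.IsCoh (CohB1.tensorMod Q M) := isCoh_tensor Q M hQc hMc
  have hdpos : (0 : ℤ) < d := by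
    have h1 := abs_nonneg (Curv2.deg k X Q r)
    have h2 := abs_nonneg (Curv2.euler k X (Coh.structureModule X))
    have h3 : (0 : ℤ) ≤ ((r : ℤ) + 1) * |Curv2.euler k X (Coh.structureModule X)| := by positivity
    linarith
  haveI h0N : Subsingleton (Coh.HH X N 0) :=
    subsingleton_H0_of_deg_neg k X hdim hN (by rw [hdN]; linarith)
  have eN := euler_eq_h0_sub_h1 k X hdim.le N hNc.1
  have h0N' : Module.finrank k (Coh.HH X N 0) = 0 := Module.finrank_zero_of_subsingleton
  have eT := euler_eq_h0_sub_h1 k X hdim.le (CohB1.tensorMod Q M) hTc.1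
  have hdT := deg_tensor_locFree k X hdim.le r 1 Q M hQ (isFinLocFreeOfRank_one hM)
  have hlt : Module.finrank k (Coh.HH X N 1) < Module.finrank k (Coh.HH X (CohB1.tensorMod Q M) 0) := by
    rw [mul_one] at hdT
    unfold Curv2.deg at hdN hdM hdT hd
    rw [h0N'] at eN
    push_cast at eN hdT hdN hdM
    have a1 := neg_abs_le (Curv2.euler k X Q - (r : ℤ) * Curv2.euler k X (Coh.structureModule X))
    have a2 := neg_abs_le (Curv2.euler k X (Coh.structureModule X))
    have a3 : (0 : ℤ) ≤ ((r : ℤ) + 1) *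
        (|Curv2.euler k X (Coh.structureModule X)| + Curv2.euler k X (Coh.structureModule X)) := by
      apply mul_nonneg (by positivity) (by linarith)
    have hr' : (2 : ℤ) ≤ r := by exact_mod_cast hr
    have a4 : (2 : ℤ) * d ≤ (r : ℤ) * d := by nlinarith
    have h1T : (0 : ℤ) ≤ (Module.finrank k (Coh.HH X (CohB1.tensorMod Q M) 1) : ℤ) :=
      Int.natCast_nonneg _
    have : (Module.finrank k (Coh.HH X N 1) : ℤ) <
        (Module.finrank k (Coh.HH X (CohB1.tensorMod Q M) 0) : ℤ) := by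
      nlinarith
    exact_mod_cast this
  obtain ⟨σ, hσ, hkill⟩ := exists_section_killing k X hNc hTc ε φ hlt
  refine ⟨N, mulΓ N _ σ ≫ ε.hom, hN, ?_, hkill⟩
  intro h
  apply mulΓ_ne_zero_left hN σ hσ
  rw [← cancel_mono ε.hom, h, Limits.zero_comp]

end LemmaA

end Groth.Agent.Lead.CV
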