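import Mathlib
import Groth.Agent.Lib.Lead.CV1

/-!
# Duality-free vanishing on curves: a quotient line bundle carrying a given functional on `H¹` (lead)
-/

set_option autoImplicit false
set_option backward.isDefEq.respectTransparency.types false
set_option synthInstance.maxHeartbeats 400000
set_option linter.style.haveILetI false
set_option linter.unusedSectionVars false
set_option linter.unusedVariables false
universe u
open CategoryTheory CategoryTheory.Limits AlgebraicGeometry TopologicalSpace Opposite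

namespace Groth.Agent.Lead.CV

open Groth.Agent.Helper1.QcCech Groth.Agent.Helper1.SubSh Groth.Agent.Helper1.LGen
open Groth.Agent.Helper1.TmulLib Groth.Agent.Helper1 Groth.Agent.Helper1.TwForm
open Groth.Agent.Helper1.TensGen Groth.Agent.Lib.Helper4.TwExact Groth.Agent.Helper1.Dv
open Groth.Agent.Lib.Helper4 Groth.Agent.Helper1.CurveAmp Groth.Agent.Helper1.FinSupp
open Groth.Agent.Helper1.Euler Groth.Agent.Helper1.Curve Groth.Agent.Helper1.CurveLin
open Groth.Agent.Helper1.CurveDual Groth.Agent.Lead.HN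

section RightExact

variable (k : Type u) [Field k] (X : Scheme.{u}) [X.Over (Spec (CommRingCat.of k))]
  [IsIntegral X] [IsProper (X ↘ (Spec (CommRingCat.of k)))]

/-- `H¹` is right exact on a curve: surjectivity -/
theorem surjective_H1_g (hdim : topologicalKrullDim X = 1) {S : ShortComplex X.Modules}
    (hS : S.ShortExact) (h1 : Coh.IsQCoh S.X₁) : Function.Surjective (Canon.HHlin k S.g 1) := by
  haveI := isNoetherian_of_proper k X
  haveI := isSeparated_of_proper k X
  have hK2 : Subsingleton (Coh.HH X S.X₁ (1 + 1)) :=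
    GV1.subsingleton_HH_of_dim_le_one hdim.le _ h1 2 le_rfl
  intro x
  exact HHFin2.exact_g_delta k hS 1 x (Subsingleton.elim (h := hK2) _ _)

/-- a functional on `H¹(S.X₂)` killing the image of `H¹(S.X₁)` descends to `H¹(S.X₃)` -/
theorem exists_descend (hdim : topologicalKrullDim X = 1) {S : ShortComplex X.Modules}
    (hS : S.ShortExact) (h1 : Coh.IsQCoh S.X₁) (φ : Coh.HH X S.X₂ 1 →ₗ[k] k)
    (hkill : ∀ w : Coh.HH X S.X₁ 1, φ (Canon.HHlin k S.f 1 w) = 0) :
    ∃ φ' : Coh.HH X S.X₃ 1 →ₗ[k] k, φ = φ' ∘ₗ Canon.HHlin k S.g 1 := by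
  have hsurj := surjective_H1_g k X hdim hS h1
  have hle : LinearMap.ker (Canon.HHlin k S.g 1) ≤ LinearMap.ker φ := by
    intro x hx
    rw [LinearMap.mem_ker] at hx ⊢
    obtain ⟨y, rfl⟩ := HHFin2.exact_f_g k hS 1 x hx
    exact hkill y
  refine ⟨(LinearMap.ker (Canon.HHlin k S.g 1)).liftQ φ hle ∘ₗ
    ((Canon.HHlin k S.g 1).quotKerEquivOfSurjective hsurj).symm.toLinearMap, ?_⟩
  ext x
  rw [LinearMap.comp_apply, LinearMap.comp_apply]
  have h2 : ((Canon.HHlin k S.g 1).quotKerEquivOfSurjective hsurj).symm (Canon.HHlin k S.g 1 x) =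
      Submodule.Quotient.mk x := by
    rw [LinearEquiv.symm_apply_eq]
    rfl
  change φ x = (LinearMap.ker (Canon.HHlin k S.g 1)).liftQ φ hle
    (((Canon.HHlin k S.g 1).quotKerEquivOfSurjective hsurj).symm (Canon.HHlin k S.g 1 x))
  rw [h2, Submodule.liftQ_apply]

/-- a map with zero-dimensional cokernel is surjective on `H¹` -/
theorem surjective_H1_of_mono_coker_small (hdim : topologicalKrullDim X = 1) {A B : X.Modules}
    (hA : Coh.IsCoh A) (hB : Coh.IsCoh B) (j : A ⟶ B) [Mono j]
    (hQc : Coh.IsCoh (cokernel j))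
    (hQd : topologicalKrullDim ↥(CohB1.support (cokernel j)) ≤ 0) :
    Function.Surjective (Canon.HHlin k j 1) := by
  haveI := isNoetherian_of_proper k X
  haveI := isSeparated_of_proper k X
  have hQ1 : Subsingleton (Coh.HH X (cokernel j) 1) :=
    subsingleton_HH_of_dim_le_zero _ hQc hQd 1 Nat.one_pos
  intro x
  exact HHFin2.exact_f_g k (cokerSC_shortExact j) 1 x (Subsingleton.elim (h := hQ1) _ _)

end RightExact

section Key

variable (k : Type u) [Field k] [IsAlgClosed k] (X : Scheme.{u}) [X.Over (Spec (CommRingCat.of k))]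
  [IsIntegral X] [IsProper (X ↘ (Spec (CommRingCat.of k)))] [Smooth (X ↘ (Spec (CommRingCat.of k)))]

/-- **Key lemma**: a nonzero functional on `H¹` of a vector bundle factors through `H¹` of an
invertible quotient -/
theorem exists_line_quotient (hdim : topologicalKrullDim X = 1) :
    ∀ (n : ℕ) (E : X.Modules), FlatMod.IsFinLocFreeOfRank (n + 1) E →
      ∀ φ : Coh.HH X E 1 →ₗ[k] k,
        ∃ (Q : X.Modules) (p : E ⟶ Q) (φ' : Coh.HH X Q 1 →ₗ[k] k), Epi p ∧ PicF.IsInvertible Q ∧
          φ = φ' ∘ₗ Canon.HHlin k p 1 := by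
  have hX : ∀ x : X, ValuationRing (X.presheaf.stalk x) := fun x =>
    Groth.Agent.Helper1.VB5.valuationRing_stalk_of_smooth k (X ↘ Spec (CommRingCat.of k)) hdim.le x
  intro n
  induction n with
  | zero =>
    intro E hE φ
    refine ⟨E, 𝟙 E, φ, inferInstance, VBL.isInvertible_of_rank_one X hE, ?_⟩
    ext x
    rw [LinearMap.comp_apply, HHFin1.HHlin_id]
  | succ n ih =>
    intro E hE φ
    obtain ⟨N, s, hN, hs, hkill⟩ := exists_line_sub_killed k X hdim (r := n + 1 + 1) (by omega) hE φ
    have hN1 : FlatMod.IsFinLocFreeOfRank 1 N := isFinLocFreeOfRank_one hN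
    -- `s` is a monomorphism
    haveI : Mono s := by
      obtain ⟨rK, rI, hK, hI, hrk, -, -, hpos⟩ := VB.ker_im k X hX hN1 hE s
      have hrI := hpos hs
      have hrK : rK = 0 := by omega
      subst hrK
      exact Preadditive.mono_of_kernel_zero ((VB.isZero_of_rank_zero hK).eq_of_src _ _)
    obtain ⟨B', m, hB'g, hle, hBf, hm, hrk, -, -, -⟩ := VBL.exists_sat_quot k X hdim hX hE s hN1
    have hm' : m = n + 1 := by omega
    subst hm'
    have hB'inv : PicF.IsInvertible (B' : X.Modules) := VBL.isInvertible_of_rank_one X hBf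
    have hNc := InvQc.isCoh_of_isInvertible N hN
    have hB'c : Coh.IsCoh (B' : X.Modules) := hB'g
    -- the comparison map `N → B'`
    have hj : Subobject.ofMkLE s B' hle ≠ 0 := by
      intro h
      apply hs
      rw [← Subobject.ofMkLE_arrow hle, h, Limits.zero_comp]
    obtain ⟨hjm, hQc, hQd, -⟩ := cokernel_package k X hdim hN hB'inv _ hj
    haveI := hjm
    have hjs := surjective_H1_of_mono_coker_small k X hdim hNc hB'c (Subobject.ofMkLE s B' hle)
      hQc hQd
    have hkill' : ∀ w : Coh.HH X (B' : X.Modules) 1, φ (Canon.HHlin k B'.arrow 1 w) = 0 := by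
      intro w
      obtain ⟨v, rfl⟩ := hjs w
      rw [← HHFin1.HHlin_comp, Subobject.ofMkLE_arrow]
      exact hkill v
    obtain ⟨φ', hφ'⟩ := exists_descend k X hdim (cokerSC_shortExact B'.arrow) hB'c.1 φ hkill'
    obtain ⟨Q, p, φ'', hp, hQ, hφ''⟩ := ih (cokernel B'.arrow) hm φ'
    haveI := hp
    refine ⟨Q, cokernel.π B'.arrow ≫ p, φ'', epi_comp _ _, hQ, ?_⟩
    rw [hφ', hφ'']
    ext x
    change φ'' (Canon.HHlin k p 1 (Canon.HHlin k (cokernel.π B'.arrow) 1 x)) =
      φ'' (Canon.HHlin k (cokernel.π B'.arrow ≫ p) 1 x)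
    rw [HHFin1.HHlin_comp]

end Key

end Groth.Agent.Lead.CV
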