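import Mathlib
import Groth.Agent.Lib.Lead.CV2

/-!
# Duality-free vanishing of `H¹` for (semi)stable bundles of large slope on a curve (lead)
-/

set_option autoImplicit false
set_option backward.isDefEq.respectTransparency.types false
set_option synthInstance.maxHeartbeats 400000
set_option linter.style.haveILetI false
set_option linter.unusedSectionVars false
set_option linter.unusedVariables false
universe u
open CategoryTheory CategoryTheory.Limits AlgebraicGeometry TopologicalSpace Opposite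

namespace Groth.Agent.Lead.CV

open Groth.Agent.Helper1.QcCech Groth.Agent.Helper1.SubSh Groth.Agent.Helper1.LGen
open Groth.Agent.Helper1.TmulLib Groth.Agent.Helper1 Groth.Agent.Helper1.TwForm
open Groth.Agent.Helper1.TensGen Groth.Agent.Lib.Helper4.TwExact Groth.Agent.Helper1.Dv
open Groth.Agent.Lib.Helper4 Groth.Agent.Helper1.CurveAmp Groth.Agent.Helper1.FinSupp
open Groth.Agent.Helper1.Euler Groth.Agent.Helper1.Curve Groth.Agent.Helper1.CurveLin
open Groth.Agent.Helper1.CurveDual Groth.Agent.Lead.HN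

section Van

variable (k : Type u) [Field k] [IsAlgClosed k] (X : Scheme.{u}) [X.Over (Spec (CommRingCat.of k))]
  [IsIntegral X] [IsProper (X ↘ (Spec (CommRingCat.of k)))] [Smooth (X ↘ (Spec (CommRingCat.of k)))]

/-- if `H¹(E) ≠ 0` then `E` has an invertible quotient of degree `≤ 2g - 2` -/
theorem exists_quotient_deg_le (hdim : topologicalKrullDim X = 1) {r : ℕ} (hr : 0 < r)
    {E : X.Modules} (hE : FlatMod.IsFinLocFreeOfRank r E) (h1 : ¬ Subsingleton (Coh.HH X E 1)) :
    ∃ (Q : X.Modules) (p : E ⟶ Q), Epi p ∧ PicF.IsInvertible Q ∧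
      Curv2.deg k X Q 1 ≤ 2 * (Curv2.genus k X : ℤ) - 2 := by
  rw [not_subsingleton_iff_nontrivial] at h1
  obtain ⟨x, hx⟩ := exists_ne (0 : Coh.HH X E 1)
  haveI : Module.Free k (Coh.HH X E 1) := Module.Free.of_divisionRing k _
  haveI : Module.Projective k (Coh.HH X E 1) := Module.Projective.of_free
  obtain ⟨φ, hφ⟩ := Module.Projective.exists_dual_ne_zero k hx
  obtain ⟨n, rfl⟩ : ∃ n, r = n + 1 := ⟨r - 1, by omega⟩
  obtain ⟨Q, p, φ', hp, hQ, hφ'⟩ := exists_line_quotient k X hdim n E hE φ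
  refine ⟨Q, p, hp, hQ, ?_⟩
  by_contra hlt
  have hsub := subsingleton_H1_of_deg_ge k X hdim Q hQ (by omega)
  apply hφ
  rw [hφ', LinearMap.comp_apply, Subsingleton.elim (Canon.HHlin k p 1 x) 0, map_zero]

/-- S11812 -/
theorem h1_subsingleton_of_semistable (hdim : topologicalKrullDim X = 1) (r : ℕ) (hr : 0 < r)
    (E : X.Modules) (hE : FlatMod.IsFinLocFreeOfRank r E)
    (hss : ∀ (F : X.Modules) (r' : ℕ) (i : F ⟶ E), Mono i → 0 < r' →
      FlatMod.IsFinLocFreeOfRank r' F → Curv2.deg k X F r' * (r : ℤ) ≤ Curv2.deg k X E r * (r' : ℤ))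
    (hdeg : (r : ℤ) * (2 * (Curv2.genus k X : ℤ) - 2) < Curv2.deg k X E r) :
    Subsingleton (Coh.HH X E 1) := by
  have hX : ∀ x : X, ValuationRing (X.presheaf.stalk x) := fun x =>
    Groth.Agent.Helper1.VB5.valuationRing_stalk_of_smooth k (X ↘ Spec (CommRingCat.of k)) hdim.le x
  by_contra h1
  obtain ⟨Q, p, hp, hQ, hdQ⟩ := exists_quotient_deg_le k X hdim hr hE h1
  haveI := hp
  obtain ⟨rK, hK, hrk, hd⟩ := VBL.ker_of_epi k X hX hE (isFinLocFreeOfRank_one hQ) p
  have hrpos : (0 : ℤ) < r := by exact_mod_cast hr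
  rcases Nat.eq_zero_or_pos rK with h0 | hpos
  · subst h0
    rw [VBL.deg_zero_of_isZero k X (VB.isZero_of_rank_zero hK), zero_add] at hd
    have hr1 : r = 1 := by omega
    subst hr1
    rw [hd] at hdeg
    push_cast at hdeg
    linarith
  · have h2 := hss (kernel p) rK (kernel.ι p) inferInstance hpos hK
    have hrk' : (r : ℤ) = rK + 1 := by exact_mod_cast hrk
    have hrK0 : (0 : ℤ) < rK := by exact_mod_cast hpos
    rw [hd, hrk'] at h2
    rw [hd] at hdeg
    nlinarith

/-- S11813 -/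
theorem h1_subsingleton_of_stable (hdim : topologicalKrullDim X = 1) (r : ℕ) (hr : 2 ≤ r)
    (E : X.Modules) (hE : FlatMod.IsFinLocFreeOfRank r E)
    (hst : ∀ (F : X.Modules) (r' : ℕ) (i : F ⟶ E), Mono i → 0 < r' → r' < r →
      FlatMod.IsFinLocFreeOfRank r' F → Curv2.deg k X F r' * (r : ℤ) < Curv2.deg k X E r * (r' : ℤ))
    (hdeg : (r : ℤ) * (2 * (Curv2.genus k X : ℤ) - 2) ≤ Curv2.deg k X E r) :
    Subsingleton (Coh.HH X E 1) := by
  have hX : ∀ x : X, ValuationRing (X.presheaf.stalk x) := fun x =>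
    Groth.Agent.Helper1.VB5.valuationRing_stalk_of_smooth k (X ↘ Spec (CommRingCat.of k)) hdim.le x
  by_contra h1
  obtain ⟨Q, p, hp, hQ, hdQ⟩ := exists_quotient_deg_le k X hdim (by omega) hE h1
  haveI := hp
  obtain ⟨rK, hK, hrk, hd⟩ := VBL.ker_of_epi k X hX hE (isFinLocFreeOfRank_one hQ) p
  have h2 := hst (kernel p) rK (kernel.ι p) inferInstance (by omega) (by omega) hK
  have hrk' : (r : ℤ) = rK + 1 := by exact_mod_cast hrk
  have hrK0 : (0 : ℤ) < rK := by
    have : 0 < rK := by omega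
    exact_mod_cast this
  rw [hd, hrk'] at h2
  rw [hd] at hdeg
  nlinarith

end Van

end Groth.Agent.Lead.CV
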