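import Mathlib
import Groth.Agent.Lib.Lead.CV3

/-!
# Rank two bundles with many sections: `h⁰`-semistability (lead)
-/

set_option autoImplicit false
set_option backward.isDefEq.respectTransparency.types false
set_option synthInstance.maxHeartbeats 400000
set_option linter.style.haveILetI false
set_option linter.unusedSectionVars false
set_option linter.unusedVariables false
universe u
open CategoryTheory CategoryTheory.Limits AlgebraicGeometry TopologicalSpace Opposite

namespace Groth.Agent.Lead.CV

open Groth.Agent.Helper1.QcCech Groth.Agent.Helper1.SubSh Groth.Agent.Helper1.LGen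
open Groth.Agent.Helper1.TmulLib Groth.Agent.Helper1 Groth.Agent.Helper1.TwForm
open Groth.Agent.Helper1.TensGen Groth.Agent.Lib.Helper4.TwExact Groth.Agent.Helper1.Dv
open Groth.Agent.Lib.Helper4 Groth.Agent.Helper1.CurveAmp Groth.Agent.Helper1.FinSupp
open Groth.Agent.Helper1.Euler Groth.Agent.Helper1.Curve Groth.Agent.Helper1.CurveLin
open Groth.Agent.Helper1.CurveDual Groth.Agent.Lead.HN Groth.Agent.Lead.VBL

section Basic

variable (k : Type u) [Field k] (X : Scheme.{u}) [X.Over (Spec (CommRingCat.of k))]
  [IsIntegral X] [IsProper (X ↘ (Spec (CommRingCat.of k)))]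

/-- a subsheaf of full rank has smaller degree -/
theorem deg_le_of_mono_of_rank_eq (hdim : topologicalKrullDim X = 1) {r : ℕ} {F E : X.Modules}
    (hF : FlatMod.IsFinLocFreeOfRank r F) (hE : FlatMod.IsFinLocFreeOfRank r E) (i : F ⟶ E)
    [Mono i] : Curv2.deg k X F r ≤ Curv2.deg k X E r := by
  haveI := isNoetherian_of_proper k X
  haveI : IsLocallyNoetherian X := (isNoetherian_of_proper k X).toIsLocallyNoetherian
  have hFc : Coh.IsCoh F := isCoh_of_rank X hF
  have hEc : Coh.IsCoh E := isCoh_of_rank X hE
  have hQc : Coh.IsCoh (cokernel i) := FtLocal.isCoh_cokernel hFc hEc i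
  have hg := grk_add (cokerSC i) (cokerSC_shortExact i) hFc hQc
  change grk E = grk F + grk (cokernel i) at hg
  rw [grk_of_rank hE, grk_of_rank hF] at hg
  have hg0 : grk (cokernel i) = 0 := by omega
  have hQd := dim_support_le_zero hdim (cokernel i) hQc (not_mem_support_of_grk_eq_zero hQc hg0)
  have h1 := euler_nonneg_of_dim_le_zero k X (cokernel i) hQc hQd
  have h2 := euler_additive k X (cokerSC i) (cokerSC_shortExact i) hFc hEc hQc
  change Curv2.euler k X E = Curv2.euler k X F + Curv2.euler k X (cokernel i) at h2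
  unfold Curv2.deg
  linarith

/-- the structure sheaf has a nonzero global section -/
theorem h0_O_pos : 0 < Module.finrank k (Coh.HH X (Coh.structureModule X) 0) := by
  have hOc : Coh.IsCoh (Coh.structureModule X) :=
    InvQc.isCoh_of_isInvertible _ GenLoc.isInvertible_O
  haveI : FiniteDimensional k (Coh.HH X (Coh.structureModule X) 0) := T2Main1.t2 k X _ hOc 0
  haveI : Nontrivial (Coh.HH X (Coh.structureModule X) 0) := by
    refine ⟨(HH0.equiv X (Coh.structureModule X)).symm (one' ⊤), 0, fun h => ?_⟩
    have h2 := congrArg (HH0.equiv X (Coh.structureModule X)) h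
    rw [AddEquiv.apply_symm_apply, map_zero] at h2
    exact one_ne_zero_sections (⊤ : X.Opens) (genericPoint X) trivial h2
  exact Module.finrank_pos

/-- S11822 -/
theorem h0Semistable_iff (hdim : topologicalKrullDim X = 1) (E : X.Modules)
    (hE : FlatMod.IsFinLocFreeOfRank 2 E) (h1 : Subsingleton (Coh.HH X E 1))
    (hdeg : 4 * (Curv2.genus k X : ℤ) - 2 ≤ Curv2.deg k X E 2) :
    (∀ (M : X.Modules) (i : M ⟶ E), Mono i → PicF.IsInvertible M →
        2 * Module.finrank k (Coh.HH X M 0) ≤ Module.finrank k (Coh.HH X E 0)) ↔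
      (∀ (F : X.Modules) (r' : ℕ) (i : F ⟶ E), Mono i → 0 < r' → FlatMod.IsFinLocFreeOfRank r' F →
        Curv2.deg k X F r' * (2 : ℤ) ≤ Curv2.deg k X E 2 * (r' : ℤ)) := by
  haveI := isNoetherian_of_proper k X
  have hOc : Coh.IsCoh (Coh.structureModule X) :=
    InvQc.isCoh_of_isInvertible _ GenLoc.isInvertible_O
  have hEc : Coh.IsCoh E := isCoh_of_rank X hE
  have eE := euler_eq_h0_sub_h1 k X hdim.le E hEc.1
  have eO := euler_eq_h0_sub_h1 k X hdim.le (Coh.structureModule X) hOc.1
  have h1E : Module.finrank k (Coh.HH X E 1) = 0 := Module.finrank_zero_of_subsingleton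
  rw [h1E] at eE
  have hOpos := h0_O_pos k X
  constructor
  · intro hh F r' i hi hr' hF
    haveI := hi
    have hle : r' ≤ 2 := rank_le_of_mono (genericPoint X) hF hE i
    have hr2 : r' = 1 ∨ r' = 2 := by omega
    rcases hr2 with rfl | rfl
    · by_contra hlt
      rw [not_le] at hlt
      have hFi : PicF.IsInvertible F := isInvertible_of_rank_one X hF
      have hFc : Coh.IsCoh F := isCoh_of_rank X hF
      have hsub : Subsingleton (Coh.HH X F 1) :=
        subsingleton_H1_of_deg_ge k X hdim F hFi (by push_cast at hlt; omega)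
      have eF := euler_eq_h0_sub_h1 k X hdim.le F hFc.1
      have h1F : Module.finrank k (Coh.HH X F 1) = 0 := Module.finrank_zero_of_subsingleton
      rw [h1F] at eF
      have h2 := hh F i hi hFi
      have h2' : (2 : ℤ) * (Module.finrank k (Coh.HH X F 0) : ℤ) ≤
          (Module.finrank k (Coh.HH X E 0) : ℤ) := by exact_mod_cast h2
      unfold Curv2.deg at hlt
      push_cast at hlt eE eF
      linarith
    · have := deg_le_of_mono_of_rank_eq k X hdim hF hE i
      push_cast
      linarith
  · intro hss M i hi hM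
    haveI := hi
    have hMc : Coh.IsCoh M := InvQc.isCoh_of_isInvertible _ hM
    have h2 := hss M 1 i hi Nat.one_pos (isFinLocFreeOfRank_one hM)
    have eM := euler_eq_h0_sub_h1 k X hdim.le M hMc.1
    by_cases hM1 : Subsingleton (Coh.HH X M 1)
    · have h1M : Module.finrank k (Coh.HH X M 1) = 0 := Module.finrank_zero_of_subsingleton
      rw [h1M] at eM
      unfold Curv2.deg at h2
      push_cast at h2 eM eE
      have : (2 : ℤ) * (Module.finrank k (Coh.HH X M 0) : ℤ) ≤
          (Module.finrank k (Coh.HH X E 0) : ℤ) := by linarith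
      exact_mod_cast this
    · rw [not_subsingleton_iff_nontrivial] at hM1
      obtain ⟨e⟩ := TwistAmpleOpen.nonempty_tensorMod_unit_iso M
      have hnt : Nontrivial (Coh.HH X (CohB1.tensorMod (Coh.structureModule X) M) 1) :=
        (HHFin1.HHequiv k e 1).symm.injective.nontrivial
      have hle := h0_le_h1_of_nontrivial k X hdim (Coh.structureModule X) M hOc hM hnt
      have hle' : (Module.finrank k (Coh.HH X M 0) : ℤ) ≤ (Curv2.genus k X : ℤ) := by
        unfold Curv2.genus
        exact_mod_cast hle
      have hO' : (1 : ℤ) ≤ (Module.finrank k (Coh.HH X (Coh.structureModule X) 0) : ℤ) := by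
        exact_mod_cast hOpos
      unfold Curv2.deg at hdeg
      unfold Curv2.genus at hdeg hle'
      push_cast at hdeg eE eO
      have : (2 : ℤ) * (Module.finrank k (Coh.HH X M 0) : ℤ) ≤
          (Module.finrank k (Coh.HH X E 0) : ℤ) := by linarith
      exact_mod_cast this

end Basic

end Groth.Agent.Lead.CV
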