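import Mathlib
import Groth.Agent.Lib.Lead.CV4
import Groth.Agent.Lib.Helper1.VBQ3
import Groth.Agent.Lib.Helper1.GenusOne2

/-!
# Twisting by an invertible module preserves (semi)stability on a curve (lead)
-/

set_option autoImplicit false
set_option backward.isDefEq.respectTransparency.types false
set_option synthInstance.maxHeartbeats 400000
set_option linter.style.haveILetI false
set_option linter.unusedSectionVars false
set_option linter.unusedVariables false
universe u
open CategoryTheory CategoryTheory.Limits AlgebraicGeometry TopologicalSpace Opposite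

namespace Groth.Agent.Lead.CV

open Groth.Agent.Helper1.QcCech Groth.Agent.Helper1.SubSh Groth.Agent.Helper1.LGen
open Groth.Agent.Helper1.TmulLib Groth.Agent.Helper1 Groth.Agent.Helper1.TwForm
open Groth.Agent.Helper1.TensGen Groth.Agent.Lib.Helper4.TwExact Groth.Agent.Helper1.Dv
open Groth.Agent.Lib.Helper4 Groth.Agent.Helper1.CurveAmp Groth.Agent.Helper1.FinSupp
open Groth.Agent.Helper1.Euler Groth.Agent.Helper1.Curve Groth.Agent.Helper1.CurveLin
open Groth.Agent.Helper1.CurveDual Groth.Agent.Lead.HN Groth.Agent.Lead.VBL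

section Twist

variable (k : Type u) [Field k] (X : Scheme.{u}) [X.Over (Spec (CommRingCat.of k))]
  [IsIntegral X] [IsProper (X ↘ (Spec (CommRingCat.of k)))]

/-- the degree of a twist -/
theorem deg_twist (hdim : topologicalKrullDim X = 1) {r : ℕ} {G N : X.Modules}
    (hG : FlatMod.IsFinLocFreeOfRank r G) (hN : PicF.IsInvertible N) :
    Curv2.deg k X (CohB1.tensorMod G N) r = Curv2.deg k X G r + (r : ℤ) * Curv2.deg k X N 1 := by
  have h := deg_tensor_locFree k X hdim.le r 1 G N hG (isFinLocFreeOfRank_one hN)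
  rw [mul_one] at h
  rw [h]
  push_cast
  ring

/-- a subsheaf of a twist `G ⊗ N` untwists to a subsheaf of `G` -/
theorem exists_untwist (hdim : topologicalKrullDim X = 1) {r' : ℕ} {G N F : X.Modules}
    (hN : PicF.IsInvertible N) (hF : FlatMod.IsFinLocFreeOfRank r' F)
    (i : F ⟶ CohB1.tensorMod G N) [Mono i] :
    ∃ (F' : X.Modules) (j : F' ⟶ G), Mono j ∧ FlatMod.IsFinLocFreeOfRank r' F' ∧
      Curv2.deg k X F' r' = Curv2.deg k X F r' - (r' : ℤ) * Curv2.deg k X N 1 := by
  obtain ⟨N', hN', ⟨e⟩⟩ := InvInv2.exists_inverse hN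
  have hdN' := GenusOne.deg_of_inverse k X hdim hN' hN e
  have e1 := GenusOne.assocIso G hN hN'
  have e2 := TwistTens.tensorModCongrRight G (TildeTens.tensorModComm N N' ≪≫ e)
  have e3 := SecTwist.unitorR G
  haveI : Mono ((TL N').map i) := mono_map (locGen_of_isInvertible N' hN') i
  have hmono : Mono ((TL N').map i ≫ (e1 ≪≫ e2 ≪≫ e3).hom) := mono_comp _ _
  refine ⟨(TL N').obj F, (TL N').map i ≫ (e1 ≪≫ e2 ≪≫ e3).hom, hmono,
    VBQ.isFinLocFreeOfRank_tensor_invertible hF hN', ?_⟩
  change Curv2.deg k X (CohB1.tensorMod F N') r' = _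
  rw [deg_twist k X hdim hF hN', hdN']
  ring

/-- twisting preserves semistability -/
theorem semistable_twist (hdim : topologicalKrullDim X = 1) {r : ℕ} {G N : X.Modules}
    (hG : FlatMod.IsFinLocFreeOfRank r G) (hN : PicF.IsInvertible N)
    (hss : ∀ (F : X.Modules) (r' : ℕ) (i : F ⟶ G), Mono i → 0 < r' →
      FlatMod.IsFinLocFreeOfRank r' F → Curv2.deg k X F r' * (r : ℤ) ≤ Curv2.deg k X G r * (r' : ℤ))
    (F : X.Modules) (r' : ℕ) (i : F ⟶ CohB1.tensorMod G N) (hi : Mono i) (hr' : 0 < r')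
    (hF : FlatMod.IsFinLocFreeOfRank r' F) :
    Curv2.deg k X F r' * (r : ℤ) ≤ Curv2.deg k X (CohB1.tensorMod G N) r * (r' : ℤ) := by
  haveI := hi
  obtain ⟨F', j, hj, hF', hd⟩ := exists_untwist k X hdim (G := G) hN hF i
  have h := hss F' r' j hj hr' hF'
  rw [deg_twist k X hdim hG hN]
  rw [hd] at h
  nlinarith

/-- twisting preserves stability -/
theorem stable_twist (hdim : topologicalKrullDim X = 1) {r : ℕ} {G N : X.Modules}
    (hG : FlatMod.IsFinLocFreeOfRank r G) (hN : PicF.IsInvertible N)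
    (hst : ∀ (F : X.Modules) (r' : ℕ) (i : F ⟶ G), Mono i → 0 < r' → r' < r →
      FlatMod.IsFinLocFreeOfRank r' F → Curv2.deg k X F r' * (r : ℤ) < Curv2.deg k X G r * (r' : ℤ))
    (F : X.Modules) (r' : ℕ) (i : F ⟶ CohB1.tensorMod G N) (hi : Mono i) (hr' : 0 < r')
    (hlt : r' < r) (hF : FlatMod.IsFinLocFreeOfRank r' F) :
    Curv2.deg k X F r' * (r : ℤ) < Curv2.deg k X (CohB1.tensorMod G N) r * (r' : ℤ) := by
  haveI := hi
  obtain ⟨F', j, hj, hF', hd⟩ := exists_untwist k X hdim (G := G) hN hF i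
  have h := hst F' r' j hj hr' hlt hF'
  rw [deg_twist k X hdim hG hN]
  rw [hd] at h
  nlinarith

end Twist

end Groth.Agent.Lead.CV
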