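import Mathlib
import Groth.Agent.Lib.Lead.CV5
import Groth.Agent.Lib.Helper1.PtDeg2
import Groth.Agent.Lib.Lead.TilT6

/-!
# Bounds on `h⁰` of semistable bundles on a curve by twisting down at a point (lead)
-/

set_option autoImplicit false
set_option backward.isDefEq.respectTransparency.types false
set_option synthInstance.maxHeartbeats 400000
set_option linter.style.haveILetI false
set_option linter.unusedSectionVars false
set_option linter.unusedVariables false
universe u
open CategoryTheory CategoryTheory.Limits AlgebraicGeometry TopologicalSpace Opposite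

namespace Groth.Agent.Lead.CV

open Groth.Agent.Helper1.QcCech Groth.Agent.Helper1.SubSh Groth.Agent.Helper1.LGen
open Groth.Agent.Helper1.TmulLib Groth.Agent.Helper1 Groth.Agent.Helper1.TwForm
open Groth.Agent.Helper1.TensGen Groth.Agent.Lib.Helper4.TwExact Groth.Agent.Helper1.Dv
open Groth.Agent.Lib.Helper4 Groth.Agent.Helper1.CurveAmp Groth.Agent.Helper1.FinSupp
open Groth.Agent.Helper1.Euler Groth.Agent.Helper1.Curve Groth.Agent.Helper1.CurveLin
open Groth.Agent.Helper1.CurveDual Groth.Agent.Lead.HN Groth.Agent.Lead.VBL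
open Groth.Agent.Helper1.CurvePt Groth.Agent.Helper1.PtInv Groth.Agent.Helper1.ProjF

section Sec

variable {X : Scheme.{u}}

/-- the map `O → N` attached to a nonzero section is nonzero -/
theorem homOfSec_ne_zero (N : X.Modules) (σ : Γ(N, ⊤)) (hσ : σ ≠ 0) :
    TwistAmple.homOfSec N σ ≠ 0 := by
  intro h
  apply hσ
  have h1 := TwistAmple.homOfSec_app N σ ⊤ 1
  rw [h] at h1
  rw [one_smul] at h1
  have h2 : N.presheaf.map (homOfLE (le_top : (⊤ : X.Opens) ≤ ⊤)).op σ = σ := by
    have : (homOfLE (le_top : (⊤ : X.Opens) ≤ ⊤)).op = 𝟙 _ := rfl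
    rw [this, N.presheaf.map_id]
    rfl
  rw [h2] at h1
  exact h1.symm

end Sec

section H0

variable (k : Type u) [Field k] (X : Scheme.{u}) [X.Over (Spec (CommRingCat.of k))]
  [IsIntegral X] [IsProper (X ↘ (Spec (CommRingCat.of k)))]

include k in
/-- a nonzero map from an invertible module to a vector bundle on a regular curve is a
monomorphism -/
theorem mono_of_ne_zero_of_rank_one (hX : ∀ x : X, ValuationRing (X.presheaf.stalk x))
    {N E : X.Modules} {r : ℕ} (hN1 : FlatMod.IsFinLocFreeOfRank 1 N)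
    (hE : FlatMod.IsFinLocFreeOfRank r E) (s : N ⟶ E) (hs : s ≠ 0) : Mono s := by
  obtain ⟨rK, rI, hK, hI, hrk, -, -, hpos⟩ := VB.ker_im k X hX hN1 hE s
  have hrI := hpos hs
  have hrK : rK = 0 := by omega
  subst hrK
  exact Preadditive.mono_of_kernel_zero ((VB.isZero_of_rank_zero hK).eq_of_src _ _)

/-- the degree of the structure sheaf is zero -/
theorem deg_O : Curv2.deg k X (Coh.structureModule X) 1 = 0 := by
  unfold Curv2.deg
  push_cast
  ring

/-- a semistable bundle of negative degree has no nonzero sections -/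
theorem subsingleton_H0_of_semistable_neg (hdim : topologicalKrullDim X = 1)
    (hX : ∀ x : X, ValuationRing (X.presheaf.stalk x)) {r : ℕ} (hr : 0 < r) {G : X.Modules}
    (hG : FlatMod.IsFinLocFreeOfRank r G)
    (hss : ∀ (F : X.Modules) (r' : ℕ) (i : F ⟶ G), Mono i → 0 < r' →
      FlatMod.IsFinLocFreeOfRank r' F → Curv2.deg k X F r' * (r : ℤ) ≤ Curv2.deg k X G r * (r' : ℤ))
    (hneg : Curv2.deg k X G r < 0) : Subsingleton (Coh.HH X G 0) := by
  by_contra hns
  rw [not_subsingleton_iff_nontrivial] at hns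
  obtain ⟨x, hx⟩ := exists_ne (0 : Coh.HH X G 0)
  have hσ : HH0.equiv X G x ≠ 0 := fun h0 =>
    hx ((HH0.equiv X G).injective (h0.trans (map_zero _).symm))
  have hs := homOfSec_ne_zero G _ hσ
  have hO1 : FlatMod.IsFinLocFreeOfRank 1 (Coh.structureModule X) :=
    isFinLocFreeOfRank_one GenLoc.isInvertible_O
  have hmono := mono_of_ne_zero_of_rank_one k X hX hO1 hG _ hs
  have h := hss _ 1 _ hmono Nat.one_pos hO1
  rw [deg_O k X] at h
  have hrpos : (0 : ℤ) < r := by exact_mod_cast hr
  push_cast at h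
  nlinarith

/-- twisting down at a point `P` with `h⁰(O_P) = 1` lowers `h⁰` by at most the rank -/
theorem h0_le_ptTwist (hdim : topologicalKrullDim X = 1) (P : X) (hP : IsClosed ({P} : Set X))
    (hd : Module.finrank k (Coh.HH X (ClSub.quotMod (ptIdeal P hP)) 0) = 1)
    {r : ℕ} {G : X.Modules} (hG : FlatMod.IsFinLocFreeOfRank r G) :
    Module.finrank k (Coh.HH X G 0) ≤
      Module.finrank k (Coh.HH X (CohB1.tensorMod G (ClSub.idealMod (ptIdeal P hP))) 0) + r := by
  haveI := isNoetherian_of_proper k X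
  haveI : IsLocallyNoetherian X := (isNoetherian_of_proper k X).toIsLocallyNoetherian
  have hZ : topologicalKrullDim ((ptIdeal P hP).support : Set X) ≤ 0 := by
    rw [ptIdeal_support]
    haveI : Nonempty ↥({P} : Set X) := ⟨⟨P, rfl⟩⟩
    exact topologicalKrullDim_zero_of_discreteTopology ↥({P} : Set X)
  have hOc : Coh.IsCoh (Coh.structureModule X) :=
    InvQc.isCoh_of_isInvertible _ GenLoc.isInvertible_O
  have hGc : Coh.IsCoh G := isCoh_of_rank X hG
  have hIc : Coh.IsCoh (ClSub.idealMod (ptIdeal P hP)) := isCoh_idealMod _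
  have hQc : Coh.IsCoh (ClSub.quotMod (ptIdeal P hP)) := isCoh_quotMod _
  have hIGc : Coh.IsCoh (CohB1.tensorMod (ClSub.idealMod (ptIdeal P hP)) G) :=
    isCoh_tensor _ _ hIc hGc
  have hOGc : Coh.IsCoh (CohB1.tensorMod (Coh.structureModule X) G) := isCoh_tensor _ _ hOc hGc
  have hQGc : Coh.IsCoh (CohB1.tensorMod (ClSub.quotMod (ptIdeal P hP)) G) :=
    isCoh_tensor _ _ hQc hGc
  have hQd : topologicalKrullDim ↥(CohB1.support (ClSub.quotMod (ptIdeal P hP))) ≤ 0 :=
    (Groth.Agent.Helper1.Dv.krullDim_le_of_subset (support_quotMod_subset _)).trans hZ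
  have hQGd : topologicalKrullDim
      ↥(CohB1.support (CohB1.tensorMod (ClSub.quotMod (ptIdeal P hP)) G)) ≤ 0 := by
    haveI : (ClSub.quotMod (ptIdeal P hP)).IsQuasicoherent := hQc.1
    haveI : G.IsQuasicoherent := hGc.1
    rw [Groth.Agent.Lead.TilT.support_tensorMod _ _ hQc.2 hGc.2]
    exact (Groth.Agent.Helper1.Dv.krullDim_le_of_subset Set.inter_subset_left).trans hQd
  have hSE := shortExact_map_tensR (hasBases_of_isFinLocFree (Groth.Agent.Helper1.FinLen.isFinLocFree_of_rank hG))
    (IdealModL.S (ptIdeal P hP)) (shortExact_S (ptIdeal P hP))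
  have e3 := euler_tensor_of_dim_zero k X (ClSub.quotMod (ptIdeal P hP)) hQc hQd r G hG
  have e4 := euler_eq_finrank_of_dim_le_zero k X (ClSub.quotMod (ptIdeal P hP)) hQc hQd
  have e5 := euler_eq_finrank_of_dim_le_zero k X
    (CohB1.tensorMod (ClSub.quotMod (ptIdeal P hP)) G) hQGc hQGd
  have hQG : Module.finrank k
      (Coh.HH X (CohB1.tensorMod (ClSub.quotMod (ptIdeal P hP)) G) 0) = r := by
    rw [hd] at e4
    rw [e4, e5] at e3
    push_cast at e3
    have : (Module.finrank k
      (Coh.HH X (CohB1.tensorMod (ClSub.quotMod (ptIdeal P hP)) G) 0) : ℤ) = r := by linarith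
    exact_mod_cast this
  haveI : Module.Finite k (Coh.HH X ((IdealModL.S (ptIdeal P hP)).map (tensR G)).X₁ 0) :=
    T2Main1.t2 k X _ hIGc 0
  haveI : Module.Finite k (Coh.HH X ((IdealModL.S (ptIdeal P hP)).map (tensR G)).X₂ 0) :=
    T2Main1.t2 k X _ hOGc 0
  haveI : Module.Finite k (Coh.HH X ((IdealModL.S (ptIdeal P hP)).map (tensR G)).X₃ 0) :=
    T2Main1.t2 k X _ hQGc 0
  set f₀ := Canon.HHlin k ((IdealModL.S (ptIdeal P hP)).map (tensR G)).f 0 with hf₀
  set g₀ := Canon.HHlin k ((IdealModL.S (ptIdeal P hP)).map (tensR G)).g 0 with hg₀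
  have hinj : Function.Injective f₀ := HHFin3.HHlin_f_zero_injective k hSE
  have hker : LinearMap.ker g₀ = LinearMap.range f₀ := by
    ext s
    constructor
    · intro hs
      obtain ⟨y, hy⟩ := HHFin2.exact_f_g k hSE 0 s hs
      exact ⟨y, hy⟩
    · rintro ⟨y, rfl⟩
      exact HHFin2.g_f k 0 y
  have hrn := LinearMap.finrank_range_add_finrank_ker g₀
  rw [hker, LinearMap.finrank_range_of_inj hinj] at hrn
  have hle : Module.finrank k (LinearMap.range g₀) ≤ r := by
    have := Submodule.finrank_le (LinearMap.range g₀)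
    rw [← hQG]
    exact this
  change Module.finrank k (LinearMap.range g₀) +
    Module.finrank k (Coh.HH X (CohB1.tensorMod (ClSub.idealMod (ptIdeal P hP)) G) 0) =
    Module.finrank k (Coh.HH X (CohB1.tensorMod (Coh.structureModule X) G) 0) at hrn
  obtain ⟨e'⟩ := TwistAmpleOpen.nonempty_tensorMod_unit_iso G
  have h1 := (HHFin1.HHequiv k e' 0).finrank_eq
  have h2 := (HHFin1.HHequiv k
    (TildeTens.tensorModComm (ClSub.idealMod (ptIdeal P hP)) G) 0).finrank_eq
  omega

/-- the ideal sheaf of a closed point `P` has degree `-h⁰(O_P)` -/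
theorem deg_ptIdeal_of_h0 (P : X) (hP : IsClosed ({P} : Set X)) :
    Curv2.deg k X (ClSub.idealMod (ptIdeal P hP)) 1 =
      -(Module.finrank k (Coh.HH X (ClSub.quotMod (ptIdeal P hP)) 0) : ℤ) := by
  haveI := isNoetherian_of_proper k X
  haveI : IsLocallyNoetherian X := (isNoetherian_of_proper k X).toIsLocallyNoetherian
  have hSE := shortExact_S (ptIdeal P hP)
  have hZ : topologicalKrullDim ((ptIdeal P hP).support : Set X) ≤ 0 := by
    rw [ptIdeal_support]
    haveI : Nonempty ↥({P} : Set X) := ⟨⟨P, rfl⟩⟩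
    exact topologicalKrullDim_zero_of_discreteTopology ↥({P} : Set X)
  have hOc : Coh.IsCoh (Coh.structureModule X) :=
    InvQc.isCoh_of_isInvertible _ GenLoc.isInvertible_O
  have hIc : Coh.IsCoh (ClSub.idealMod (ptIdeal P hP)) := isCoh_idealMod _
  have hQc : Coh.IsCoh (ClSub.quotMod (ptIdeal P hP)) := isCoh_quotMod _
  have hQd : topologicalKrullDim ↥(CohB1.support (ClSub.quotMod (ptIdeal P hP))) ≤ 0 :=
    (Groth.Agent.Helper1.Dv.krullDim_le_of_subset (support_quotMod_subset _)).trans hZ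
  have hadd := euler_additive k X _ hSE hIc hOc hQc
  change Curv2.euler k X (Coh.structureModule X) =
    Curv2.euler k X (ClSub.idealMod (ptIdeal P hP)) +
      Curv2.euler k X (ClSub.quotMod (ptIdeal P hP)) at hadd
  have e4 := euler_eq_finrank_of_dim_le_zero k X (ClSub.quotMod (ptIdeal P hP)) hQc hQd
  unfold Curv2.deg
  push_cast at e4 ⊢
  linarith

/-- a semistable bundle of rank `r` and degree `< r m` has `h⁰ ≤ r m` -/
theorem h0_le_of_semistable (hdim : topologicalKrullDim X = 1)
    (hX : ∀ x : X, ValuationRing (X.presheaf.stalk x)) (P : X) (hP : IsClosed ({P} : Set X))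
    (hd : Module.finrank k (Coh.HH X (ClSub.quotMod (ptIdeal P hP)) 0) = 1)
    (hI : PicF.IsInvertible (ClSub.idealMod (ptIdeal P hP))) {r : ℕ} (hr : 0 < r) :
    ∀ (m : ℕ) (G : X.Modules), FlatMod.IsFinLocFreeOfRank r G →
      (∀ (F : X.Modules) (r' : ℕ) (i : F ⟶ G), Mono i → 0 < r' →
        FlatMod.IsFinLocFreeOfRank r' F →
        Curv2.deg k X F r' * (r : ℤ) ≤ Curv2.deg k X G r * (r' : ℤ)) →
      Curv2.deg k X G r < (r : ℤ) * m → Module.finrank k (Coh.HH X G 0) ≤ r * m := by
  have hdI : Curv2.deg k X (ClSub.idealMod (ptIdeal P hP)) 1 = -1 := by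
    rw [deg_ptIdeal_of_h0 k X P hP, hd]
    rfl
  intro m
  induction m with
  | zero =>
    intro G hG hss hdeg
    haveI := subsingleton_H0_of_semistable_neg k X hdim hX hr hG hss (by simpa using hdeg)
    rw [Module.finrank_zero_of_subsingleton]
    exact Nat.zero_le _
  | succ m ih =>
    intro G hG hss hdeg
    have hG' : FlatMod.IsFinLocFreeOfRank r (CohB1.tensorMod G (ClSub.idealMod (ptIdeal P hP))) :=
      VBQ.isFinLocFreeOfRank_tensor_invertible hG hI
    have hss' := semistable_twist k X hdim hG hI hss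
    have hdeg' : Curv2.deg k X (CohB1.tensorMod G (ClSub.idealMod (ptIdeal P hP))) r <
        (r : ℤ) * m := by
      rw [deg_twist k X hdim hG hI, hdI]
      push_cast at hdeg
      linarith
    have h1 := ih _ hG' hss' hdeg'
    have h2 := h0_le_ptTwist k X hdim P hP hd hG
    calc Module.finrank k (Coh.HH X G 0) ≤ _ := h2
      _ ≤ r * m + r := Nat.add_le_add_right h1 r
      _ = r * (m + 1) := by ring

end H0

section Twist

variable (k : Type u) [Field k] [IsAlgClosed k] (X : Scheme.{u}) [X.Over (Spec (CommRingCat.of k))]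
  [IsIntegral X] [IsProper (X ↘ (Spec (CommRingCat.of k)))] [Smooth (X ↘ (Spec (CommRingCat.of k)))]

/-- S16008 (general field) -/
theorem h1_twist_subsingleton_of_bound (hdim : topologicalKrullDim X = 1)
    (r : ℕ) (hr : 0 < r) (E : X.Modules) (hE : FlatMod.IsFinLocFreeOfRank r E) (C : ℤ)
    (hC : ∀ (G : X.Modules) (n : ℕ) (j : G ⟶ E), Mono j → 0 < n → FlatMod.IsFinLocFreeOfRank n G →
      Curv2.deg k X G n * (r : ℤ) ≤ (Curv2.deg k X E r + (r : ℤ) * C) * (n : ℤ))
    (N : X.Modules) (hN : PicF.IsInvertible N)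
    (hbig : (r : ℤ) * ((r : ℤ) - 1) * C + (r : ℤ) * (2 * (Curv2.genus k X : ℤ) - 2) <
      Curv2.deg k X E r + (r : ℤ) * Curv2.deg k X N 1) :
    Subsingleton (Coh.HH X (CohB1.tensorMod E N) 1) := by
  have hX : ∀ x : X, ValuationRing (X.presheaf.stalk x) := fun x =>
    Groth.Agent.Helper1.VB5.valuationRing_stalk_of_smooth k (X ↘ Spec (CommRingCat.of k)) hdim.le x
  have hF : FlatMod.IsFinLocFreeOfRank r (CohB1.tensorMod E N) :=
    VBQ.isFinLocFreeOfRank_tensor_invertible hE hN
  have hdF := deg_twist k X hdim hE hN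
  by_contra h1
  obtain ⟨Q, p, hp, hQ, hdQ⟩ := exists_quotient_deg_le k X hdim hr hF h1
  haveI := hp
  obtain ⟨rK, hK, hrk, hd⟩ := VBL.ker_of_epi k X hX hF (isFinLocFreeOfRank_one hQ) p
  have hrpos : (0 : ℤ) < r := by exact_mod_cast hr
  rcases Nat.eq_zero_or_pos rK with h0 | hpos
  · subst h0
    rw [VBL.deg_zero_of_isZero k X (VB.isZero_of_rank_zero hK), zero_add] at hd
    have hr1 : r = 1 := by omega
    subst hr1
    push_cast at hbig hdF
    linarith
  · obtain ⟨K', j, hj, hK', hdK'⟩ := exists_untwist k X hdim (G := E) hN hK (kernel.ι p)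
    have h2 := hC K' rK j hj hpos hK'
    have hrk' : (r : ℤ) = rK + 1 := by exact_mod_cast hrk
    have hrK0 : (0 : ℤ) < rK := by exact_mod_cast hpos
    rw [hdK'] at h2
    have hKd : Curv2.deg k X (kernel p) rK =
        Curv2.deg k X E r + (r : ℤ) * Curv2.deg k X N 1 - Curv2.deg k X Q 1 := by linarith
    rw [hKd] at h2
    have h3 : Curv2.deg k X E r + (r : ℤ) * Curv2.deg k X N 1 ≤
        (r : ℤ) * Curv2.deg k X Q 1 + (r : ℤ) * ((r : ℤ) - 1) * C := by
      have hrK : (rK : ℤ) = r - 1 := by linarith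
      rw [hrK] at h2
      nlinarith
    nlinarith

end Twist

end Groth.Agent.Lead.CV
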