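import Mathlib
import Groth.Agent.Lib.Lead.CV6

/-!
# Normalized rank two bundles on a curve (lead)
-/

set_option autoImplicit false
set_option backward.isDefEq.respectTransparency.types false
set_option synthInstance.maxHeartbeats 400000
set_option linter.style.haveILetI false
set_option linter.unusedSectionVars false
set_option linter.unusedVariables false
universe u
open CategoryTheory CategoryTheory.Limits AlgebraicGeometry TopologicalSpace Opposite

namespace Groth.Agent.Lead.CV

open Groth.Agent.Helper1.QcCech Groth.Agent.Helper1.SubSh Groth.Agent.Helper1.LGen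
open Groth.Agent.Helper1.TmulLib Groth.Agent.Helper1 Groth.Agent.Helper1.TwForm
open Groth.Agent.Helper1.TensGen Groth.Agent.Lib.Helper4.TwExact Groth.Agent.Helper1.Dv
open Groth.Agent.Lib.Helper4 Groth.Agent.Helper1.CurveAmp Groth.Agent.Helper1.FinSupp
open Groth.Agent.Helper1.Euler Groth.Agent.Helper1.Curve Groth.Agent.Helper1.CurveLin
open Groth.Agent.Helper1.CurveDual Groth.Agent.Lead.HN Groth.Agent.Lead.VBL
open Groth.Agent.Helper1.CurvePt Groth.Agent.Helper1.PtInv Groth.Agent.Helper1.ProjF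

section Normalized

variable (k : Type u) [Field k] (X : Scheme.{u}) [X.Over (Spec (CommRingCat.of k))]
  [IsIntegral X] [IsProper (X ↘ (Spec (CommRingCat.of k)))]

include k in
/-- a monomorphism from the structure sheaf gives a nonzero global section -/
theorem nontrivial_H0_of_mono {F : X.Modules} (hF : Coh.IsCoh F)
    (t : Coh.structureModule X ⟶ F) (ht : Mono t) : Nontrivial (Coh.HH X F 0) := by
  haveI := ht
  have hOc : Coh.IsCoh (Coh.structureModule X) :=
    InvQc.isCoh_of_isInvertible _ GenLoc.isInvertible_O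
  haveI : FiniteDimensional k (Coh.HH X (Coh.structureModule X) 0) := T2Main1.t2 k X _ hOc 0
  obtain ⟨x, hx⟩ : ∃ x : Coh.HH X (Coh.structureModule X) 0, x ≠ 0 := by
    have hpos := h0_O_pos k X
    rw [Module.finrank_pos_iff_exists_ne_zero] at hpos
    exact hpos
  have hinj := HHFin3.HHlin_f_zero_injective k (cokerSC_shortExact t)
  refine ⟨⟨Canon.HHlin k (cokerSC t).f 0 x, 0, fun h => hx (hinj (h.trans (map_zero _).symm))⟩⟩

/-- in a normalized bundle every invertible subsheaf has degree `≤ 0` -/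
theorem deg_le_zero_of_sub_of_normalized (hdim : topologicalKrullDim X = 1) {E L' : X.Modules}
    (hEc : Coh.IsCoh E) (hL' : PicF.IsInvertible L') (i : L' ⟶ E) [Mono i]
    (hneg : ∀ M : X.Modules, PicF.IsInvertible M → Curv2.deg k X M 1 < 0 →
      Subsingleton (Coh.HH X (CohB1.tensorMod E M) 0)) : Curv2.deg k X L' 1 ≤ 0 := by
  by_contra hpos
  rw [not_le] at hpos
  obtain ⟨M, hM, ⟨e⟩⟩ := InvInv2.exists_inverse hL'
  have hdM := GenusOne.deg_of_inverse k X hdim hM hL' e
  have hMc : Coh.IsCoh M := InvQc.isCoh_of_isInvertible _ hM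
  have hTL : Mono ((TL M).map i) := mono_map (locGen_of_isInvertible M hM) i
  have hmono : Mono ((TildeTens.tensorModComm L' M ≪≫ e).inv ≫ (TL M).map i) :=
    mono_comp' inferInstance hTL
  have hnt := nontrivial_H0_of_mono k X (isCoh_tensor _ _ hEc hMc)
    ((TildeTens.tensorModComm L' M ≪≫ e).inv ≫ (TL M).map i) hmono
  have hsub := hneg M hM (by rw [hdM]; linarith)
  exact not_subsingleton _ hsub

/-- S12430: a nonzero section of a normalized rank two bundle has invertible cokernel -/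
theorem isInvertible_cokernel_of_normalized (hdim : topologicalKrullDim X = 1)
    (hX : ∀ x : X, ValuationRing (X.presheaf.stalk x)) {E : X.Modules}
    (hE : FlatMod.IsFinLocFreeOfRank 2 E)
    (hneg : ∀ M : X.Modules, PicF.IsInvertible M → Curv2.deg k X M 1 < 0 →
      Subsingleton (Coh.HH X (CohB1.tensorMod E M) 0))
    (s : Coh.structureModule X ⟶ E) (hs : s ≠ 0) : PicF.IsInvertible (cokernel s) := by
  have hEc : Coh.IsCoh E := isCoh_of_rank X hE
  have hO1 : FlatMod.IsFinLocFreeOfRank 1 (Coh.structureModule X) :=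
    isFinLocFreeOfRank_one GenLoc.isInvertible_O
  haveI : Mono s := mono_of_ne_zero_of_rank_one k X hX hO1 hE s hs
  obtain ⟨B', n, hB'g, hle, hBf, hn, hrk, -, hχ, heq⟩ := VBL.exists_sat_quot k X hdim hX hE s hO1
  have hn1 : n = 1 := by omega
  subst hn1
  have hB'inv : PicF.IsInvertible (B' : X.Modules) := VBL.isInvertible_of_rank_one X hBf
  have hd := deg_le_zero_of_sub_of_normalized k X hdim hEc hB'inv B'.arrow hneg
  have hχ' : Curv2.euler k X (Coh.structureModule X) = Curv2.euler k X (B' : X.Modules) := by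
    unfold Curv2.deg at hd
    push_cast at hd
    linarith
  have hB' := heq hχ'
  have hcok : PicF.IsInvertible (cokernel B'.arrow) := VBL.isInvertible_of_rank_one X hn
  subst hB'
  have harrow : (Subobject.underlyingIso s).inv ≫ (Subobject.mk s).arrow = s := by simp
  have e : cokernel (Subobject.mk s).arrow ≅ cokernel s :=
    (cokernelEpiComp (Subobject.underlyingIso s).inv (Subobject.mk s).arrow).symm ≪≫
      cokernelIsoOfEq harrow
  exact TwistAmpleOpen.isInvertible_of_iso e hcok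

/-- S11353: a decomposable normalized bundle is `O ⊞ L` with `deg L ≤ 0` -/
theorem exists_iso_O_biprod_of_normalized (hdim : topologicalKrullDim X = 1)
    (E L₁ L₂ : X.Modules) (hL₁ : PicF.IsInvertible L₁) (hL₂ : PicF.IsInvertible L₂)
    (hE : Nonempty (E ≅ L₁ ⊞ L₂)) (hn0 : Nontrivial (Coh.HH X E 0))
    (hneg : ∀ M : X.Modules, PicF.IsInvertible M → Curv2.deg k X M 1 < 0 →
      Subsingleton (Coh.HH X (CohB1.tensorMod E M) 0)) :
    ∃ L : X.Modules, PicF.IsInvertible L ∧ Curv2.deg k X L 1 ≤ 0 ∧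
      Nonempty (E ≅ Coh.structureModule X ⊞ L) := by
  obtain ⟨e⟩ := hE
  have hL₁c : Coh.IsCoh L₁ := InvQc.isCoh_of_isInvertible _ hL₁
  have hL₂c : Coh.IsCoh L₂ := InvQc.isCoh_of_isInvertible _ hL₂
  have hEc : Coh.IsCoh E := by
    have h12 : Coh.IsCoh (L₁ ⊞ L₂) := HN.isCoh_biprod k X hL₁c hL₂c
    exact Groth.Agent.Lib.Helper4.LimTopInj.isCoh_of_iso e.symm h12
  obtain ⟨x, hx⟩ := exists_ne (0 : Coh.HH X E 0)
  have hσ : HH0.equiv X E x ≠ 0 := fun h0 =>
    hx ((HH0.equiv X E).injective (h0.trans (map_zero _).symm))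
  have hs := homOfSec_ne_zero E _ hσ
  set s := TwistAmple.homOfSec E (HH0.equiv X E x) with hsdef
  have hd₁ : Curv2.deg k X L₁ 1 ≤ 0 := by
    haveI : Mono (biprod.inl ≫ e.inv : L₁ ⟶ E) := mono_comp _ _
    exact deg_le_zero_of_sub_of_normalized k X hdim hEc hL₁ (biprod.inl ≫ e.inv) hneg
  have hd₂ : Curv2.deg k X L₂ 1 ≤ 0 := by
    haveI : Mono (biprod.inr ≫ e.inv : L₂ ⟶ E) := mono_comp _ _
    exact deg_le_zero_of_sub_of_normalized k X hdim hEc hL₂ (biprod.inr ≫ e.inv) hneg
  have hcase : s ≫ e.hom ≫ biprod.fst ≠ 0 ∨ s ≫ e.hom ≫ biprod.snd ≠ 0 := by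
    by_contra hboth
    rw [not_or, not_not, not_not] at hboth
    apply hs
    have h1 : s ≫ e.hom = 0 := by
      apply biprod.hom_ext
      · rw [Category.assoc, hboth.1, zero_comp]
      · rw [Category.assoc, hboth.2, zero_comp]
    have h2 : (s ≫ e.hom) ≫ e.inv = 0 := by rw [h1, zero_comp]
    rwa [Category.assoc, e.hom_inv_id, Category.comp_id] at h2
  rcases hcase with h | h
  · obtain ⟨e₁⟩ := iso_of_deg_nonpos_of_section k X hdim hL₁ _ h hd₁
    exact ⟨L₂, hL₂, hd₂, ⟨e ≪≫ biprod.mapIso e₁ (Iso.refl L₂)⟩⟩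
  · obtain ⟨e₂⟩ := iso_of_deg_nonpos_of_section k X hdim hL₂ _ h hd₂
    exact ⟨L₁, hL₁, hd₁, ⟨e ≪≫ biprod.braiding L₁ L₂ ≪≫ biprod.mapIso e₂ (Iso.refl L₁)⟩⟩

end Normalized

end Groth.Agent.Lead.CV
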