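import Mathlib
import Groth.Agent.Lib.Helper4.TwExact
import Groth.Agent.Lib.Helper1.TwForm5
import Groth.Agent.Lib.Helper1.ProjF1
import Groth.Prelude.Def_SecTwist

/-!
# Untwisting by an inverse pair of invertible modules is natural (lead)
-/

set_option autoImplicit false
set_option backward.isDefEq.respectTransparency.types false
set_option synthInstance.maxHeartbeats 400000
set_option linter.style.haveILetI false
set_option linter.unusedSectionVars false
set_option linter.unusedVariables false
universe u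
open CategoryTheory CategoryTheory.Limits AlgebraicGeometry TopologicalSpace Opposite

namespace Groth.Agent.Lead.TwNat

open Groth.Agent.Helper1 Groth.Agent.Helper1.QcCech Groth.Agent.Helper1.LGen
open Groth.Agent.Helper1.TensGen Groth.Agent.Helper1.TmulLib Groth.Agent.Helper1.TwForm
open Groth.Agent.Lib.Helper4.TwExact

variable {X : Scheme.{u}} {N N' : X.Modules}

/-- the first twisted form: `(F ⊗ N) ⊗ N'` -/
noncomputable def T₁ (N N' F : X.Modules) :
    Tw N N' F 1 1 (CohB1.tensorMod (CohB1.tensorMod F N) N') :=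
  (((Tw.self N N' F).tensorR (Tw.fst N N')).tensorR (Tw.snd N N')).cast
    (show (0 : ℤ) + 1 + 0 = 1 by norm_num) (show (0 : ℤ) + 0 + 1 = 1 by norm_num)

/-- the second twisted form: `F ⊗ O` -/
noncomputable def T₂ (e : CohB1.tensorMod N N' ≅ Coh.structureModule X) (F : X.Modules) :
    Tw N N' F 1 1 (CohB1.tensorMod F (Coh.structureModule X)) :=
  ((Tw.self N N' F).tensorR (((Tw.fst N N').tensorR (Tw.snd N N')).ofIso e)).cast
    (show (0 : ℤ) + (1 + 0) = 1 by norm_num) (show (0 : ℤ) + (0 + 1) = 1 by norm_num)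

theorem T₁_θ (F : X.Modules) (W : X.Opens) (f : Frame N N' W) (m : Γ(F, W)) :
    (T₁ N N' F).θ W f m =
      tm (CohB1.tensorMod F N) N' W (tm F N W m ((Tw.fst N N').gen W f)) ((Tw.snd N N').gen W f) :=
  rfl

theorem T₂_θ (e : CohB1.tensorMod N N' ≅ Coh.structureModule X) (F : X.Modules) (W : X.Opens)
    (f : Frame N N' W) (m : Γ(F, W)) :
    (T₂ e F).θ W f m =
      tm F (Coh.structureModule X) W m ((((Tw.fst N N').tensorR (Tw.snd N N')).ofIso e).gen W f) :=
  rfl

/-- associativity `(F ⊗ N) ⊗ N' ≅ F ⊗ O` -/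
noncomputable def assoc (hN : PicF.IsInvertible N) (hN' : PicF.IsInvertible N')
    (e : CohB1.tensorMod N N' ≅ Coh.structureModule X) (F : X.Modules) :
    (TL N').obj ((TL N).obj F) ≅ (TL (Coh.structureModule X)).obj F :=
  Tw.iso (T₁ N N' F) (T₂ e F) (locFrame_of_isInvertible hN hN')

theorem assoc_natural (hN : PicF.IsInvertible N) (hN' : PicF.IsInvertible N')
    (e : CohB1.tensorMod N N' ≅ Coh.structureModule X) {F F' : X.Modules} (φ : F ⟶ F') :
    (TL N').map ((TL N).map φ) ≫ (assoc hN hN' e F').hom =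
      (assoc hN hN' e F).hom ≫ (TL (Coh.structureModule X)).map φ := by
  have hloc := locFrame_of_isInvertible hN hN'
  apply Scheme.Modules.hom_ext
  intro U
  ext g
  apply Tw.eq_of_framed hloc
  intro W hW f
  change QcCech.res _ hW ((assoc hN hN' e F').hom.app U (((TL N').map ((TL N).map φ)).app U g)) =
    QcCech.res _ hW (((TL (Coh.structureModule X)).map φ).app U ((assoc hN hN' e F).hom.app U g))
  rw [← QcExt.app_res, ← QcExt.app_res, ← QcExt.app_res, ← QcExt.app_res]
  obtain ⟨m, hm⟩ : ∃ m, (T₁ N N' F).θ W f m = QcCech.res _ hW g :=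
    ⟨_, (T₁ N N' F).θ_inv W f _⟩
  rw [← hm]
  have h1 : (assoc hN hN' e F).hom.app W ((T₁ N N' F).θ W f m) = (T₂ e F).θ W f m :=
    Tw.iso_hom_θ _ _ hloc W f m
  have h3 : (assoc hN hN' e F').hom.app W ((T₁ N N' F').θ W f (φ.app W m)) =
      (T₂ e F').θ W f (φ.app W m) := Tw.iso_hom_θ _ _ hloc W f (φ.app W m)
  have e1 : ((TL N').map ((TL N).map φ)).app W ((T₁ N N' F).θ W f m) =
      (T₁ N N' F').θ W f (φ.app W m) := by
    have a := TL_map_tm (L := N') ((TL N).map φ) W (tm F N W m ((Tw.fst N N').gen W f))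
      ((Tw.snd N N').gen W f)
    have b := TL_map_tm (L := N) φ W m ((Tw.fst N N').gen W f)
    exact a.trans (congrArg (fun z => tm (CohB1.tensorMod F' N) N' W z ((Tw.snd N N').gen W f)) b)
  have e2 : ((TL (Coh.structureModule X)).map φ).app W ((T₂ e F).θ W f m) =
      (T₂ e F').θ W f (φ.app W m) :=
    TL_map_tm (L := Coh.structureModule X) φ W m _
  exact ((congrArg (fun z => (assoc hN hN' e F').hom.app W z) e1).trans h3).trans
    ((congrArg (fun z => ((TL (Coh.structureModule X)).map φ).app W z) h1).trans e2).symm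

/-- the right unit isomorphism -/
noncomputable def unitR (F : X.Modules) : (TL (Coh.structureModule X)).obj F ≅ F :=
  SecTwist.unitorR F

/-- the right unit isomorphism is natural -/
theorem unitR_natural {E C : X.Modules} (π : E ⟶ C) :
    (TL (Coh.structureModule X)).map π ≫ (unitR C).hom = (unitR E).hom ≫ π := by
  apply ProjF.hom_ext_tm
  intro U m r
  change (SecTwist.unitorR C).hom.app U (((TL (Coh.structureModule X)).map π).app U (tm E _ U m r)) =
    π.app U ((SecTwist.unitorR E).hom.app U (tm E _ U m r))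
  rw [TL_map_tm]
  have h1 : (SecTwist.unitorR C).hom.app U (tm C (Coh.structureModule X) U (π.app U m) r) =
      (show Γ(X, U) from r) • π.app U m := SecTwist.unitorR_tmul C U (π.app U m) r
  have h2 : (SecTwist.unitorR E).hom.app U (tm E (Coh.structureModule X) U m r) =
      (show Γ(X, U) from r) • m := SecTwist.unitorR_tmul E U m r
  rw [h1, h2, Scheme.Modules.Hom.app_smul]

/-- untwisting: `(F ⊗ N) ⊗ N' ≅ F` -/
noncomputable def untw (hN : PicF.IsInvertible N) (hN' : PicF.IsInvertible N')
    (e : CohB1.tensorMod N N' ≅ Coh.structureModule X) (F : X.Modules) :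
    (TL N').obj ((TL N).obj F) ≅ F :=
  assoc hN hN' e F ≪≫ unitR F

theorem untw_natural (hN : PicF.IsInvertible N) (hN' : PicF.IsInvertible N')
    (e : CohB1.tensorMod N N' ≅ Coh.structureModule X) {F F' : X.Modules} (φ : F ⟶ F') :
    (TL N').map ((TL N).map φ) ≫ (untw hN hN' e F').hom = (untw hN hN' e F).hom ≫ φ := by
  unfold untw
  rw [Iso.trans_hom, Iso.trans_hom, ← Category.assoc, assoc_natural, Category.assoc,
    unitR_natural, Category.assoc]

/-- twisting by an invertible module is faithful -/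
theorem TL_map_injective (hN : PicF.IsInvertible N) (hN' : PicF.IsInvertible N')
    (e : CohB1.tensorMod N N' ≅ Coh.structureModule X) {F F' : X.Modules} (φ ψ : F ⟶ F')
    (h : (TL N).map φ = (TL N).map ψ) : φ = ψ := by
  have h1 := untw_natural hN hN' e φ
  have h2 := untw_natural hN hN' e ψ
  rw [h] at h1
  have h3 : (untw hN hN' e F).hom ≫ φ = (untw hN hN' e F).hom ≫ ψ := h1.symm.trans h2
  exact (cancel_epi _).1 h3

/-- twisting by an invertible module reflects split epimorphisms -/
theorem isSplitEpi_of_TL (hN : PicF.IsInvertible N) (hN' : PicF.IsInvertible N')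
    (e : CohB1.tensorMod N N' ≅ Coh.structureModule X) {B C : X.Modules} (p : B ⟶ C)
    (t : (TL N).obj C ⟶ (TL N).obj B) (ht : t ≫ (TL N).map p = 𝟙 _) : IsSplitEpi p := by
  have h1 : (TL N').map t ≫ (TL N').map ((TL N).map p) = 𝟙 _ := by
    rw [← CategoryTheory.Functor.map_comp, ht, CategoryTheory.Functor.map_id]
  have h2 := untw_natural hN hN' e p
  refine ⟨⟨⟨(untw hN hN' e C).inv ≫ (TL N').map t ≫ (untw hN hN' e B).hom, ?_⟩⟩⟩
  calc ((untw hN hN' e C).inv ≫ (TL N').map t ≫ (untw hN hN' e B).hom) ≫ p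
      = (untw hN hN' e C).inv ≫ (TL N').map t ≫ ((untw hN hN' e B).hom ≫ p) := by
        simp only [Category.assoc]
    _ = (untw hN hN' e C).inv ≫ (TL N').map t ≫
          ((TL N').map ((TL N).map p) ≫ (untw hN hN' e C).hom) := by rw [h2]
    _ = (untw hN hN' e C).inv ≫ ((TL N').map t ≫ (TL N').map ((TL N).map p)) ≫
          (untw hN hN' e C).hom := by simp only [Category.assoc]
    _ = 𝟙 _ := by rw [h1, Category.id_comp, Iso.inv_hom_id]

end Groth.Agent.Lead.TwNat
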