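import Mathlib
import Groth.Agent.Lib.Lead.CV7
import Groth.Agent.Lib.Lead.TwNat

/-!
# Splitting of extensions by an invertible module on a curve (lead)
-/

set_option autoImplicit false
set_option backward.isDefEq.respectTransparency.types false
set_option synthInstance.maxHeartbeats 400000
set_option linter.style.haveILetI false
set_option linter.unusedSectionVars false
set_option linter.unusedVariables false
universe u
open CategoryTheory CategoryTheory.Limits AlgebraicGeometry TopologicalSpace Opposite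

namespace Groth.Agent.Lead.CV

open Groth.Agent.Helper1.QcCech Groth.Agent.Helper1.SubSh Groth.Agent.Helper1.LGen
open Groth.Agent.Helper1.TmulLib Groth.Agent.Helper1 Groth.Agent.Helper1.TwForm
open Groth.Agent.Helper1.TensGen Groth.Agent.Lib.Helper4.TwExact Groth.Agent.Helper1.Dv
open Groth.Agent.Lib.Helper4 Groth.Agent.Helper1.CurveAmp Groth.Agent.Helper1.FinSupp
open Groth.Agent.Helper1.Euler Groth.Agent.Helper1.Curve Groth.Agent.Helper1.CurveLin
open Groth.Agent.Helper1.CurveDual Groth.Agent.Lead.HN Groth.Agent.Lead.VBL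
open Groth.Agent.Helper1.CurvePt Groth.Agent.Helper1.PtInv Groth.Agent.Helper1.ProjF

section Split

variable (k : Type u) [Field k] (X : Scheme.{u}) [X.Over (Spec (CommRingCat.of k))]

include k in
/-- an extension `0 → A → B → Q → 0` with `Q` invertible splits if `H¹(A ⊗ Q⁻¹) = 0` -/
theorem isSplitEpi_of_h1 {S : ShortComplex X.Modules} (hS : S.ShortExact)
    (hQ : PicF.IsInvertible S.X₃) {L' : X.Modules} (hL' : PicF.IsInvertible L')
    (e : CohB1.tensorMod L' S.X₃ ≅ Coh.structureModule X)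
    (h1 : Subsingleton (Coh.HH X (CohB1.tensorMod S.X₁ L') 1)) : IsSplitEpi S.g := by
  have hSE := shortExact_map (locGen_of_isInvertible L' hL') hS
  let e' : (TL L').obj S.X₃ ≅ Coh.structureModule X := TildeTens.tensorModComm S.X₃ L' ≪≫ e
  let σ₀ : Γ((TL L').obj S.X₃, ⊤) :=
    e'.inv.app ⊤ (show Γ(Coh.structureModule X, ⊤) from (1 : Γ(X, ⊤)))
  have hsub : Subsingleton (Coh.HH X (S.map (TL L')).X₁ (0 + 1)) := h1
  obtain ⟨y, hy⟩ := HHFin2.exact_g_delta k hSE 0 ((HH0.equiv X ((TL L').obj S.X₃)).symm σ₀)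
    (Subsingleton.elim (h := hsub) _ _)
  let τ : Coh.structureModule X ⟶ (TL L').obj S.X₂ :=
    TwistAmple.homOfSec _ (HH0.equiv X ((TL L').obj S.X₂) y)
  have hτ : τ ≫ (TL L').map S.g = e'.inv := by
    apply PFrame.hom_ext_one
    have a1 : (τ ≫ (TL L').map S.g).app ⊤ (show Γ(Coh.structureModule X, ⊤) from (1 : Γ(X, ⊤))) =
        ((TL L').map S.g).app ⊤ (τ.app ⊤ (show Γ(Coh.structureModule X, ⊤) from (1 : Γ(X, ⊤)))) :=
      rfl
    rw [a1, PFrame.homOfSec_app_one]
    have a2 := equiv_HHlin k ((TL L').map S.g) y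
    have a3 : Canon.HHlin k ((TL L').map S.g) 0 y =
        (HH0.equiv X ((TL L').obj S.X₃)).symm σ₀ := hy
    rw [← a2, a3]
    exact (HH0.equiv X ((TL L').obj S.X₃)).apply_symm_apply σ₀
  have ht : (e'.hom ≫ τ) ≫ (TL L').map S.g = 𝟙 _ := by
    rw [Category.assoc, hτ, Iso.hom_inv_id]
  exact Groth.Agent.Lead.TwNat.isSplitEpi_of_TL hL' hQ e S.g (e'.hom ≫ τ) ht

end Split

end Groth.Agent.Lead.CV
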