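import Mathlib
import Groth.Agent.Lib.Lead.CV8
import Groth.Agent.Lib.Lead.VBL9

/-!
# Simple rank two bundles on a curve: the bound on subbundles (lead)
-/

set_option autoImplicit false
set_option backward.isDefEq.respectTransparency.types false
set_option synthInstance.maxHeartbeats 400000
set_option linter.style.haveILetI false
set_option linter.unusedSectionVars false
set_option linter.unusedVariables false
universe u
open CategoryTheory CategoryTheory.Limits AlgebraicGeometry TopologicalSpace Opposite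

namespace Groth.Agent.Lead.CV

open Groth.Agent.Helper1.QcCech Groth.Agent.Helper1.SubSh Groth.Agent.Helper1.LGen
open Groth.Agent.Helper1.TmulLib Groth.Agent.Helper1 Groth.Agent.Helper1.TwForm
open Groth.Agent.Helper1.TensGen Groth.Agent.Lib.Helper4.TwExact Groth.Agent.Helper1.Dv
open Groth.Agent.Lib.Helper4 Groth.Agent.Helper1.CurveAmp Groth.Agent.Helper1.FinSupp
open Groth.Agent.Helper1.Euler Groth.Agent.Helper1.Curve Groth.Agent.Helper1.CurveLin
open Groth.Agent.Helper1.CurveDual Groth.Agent.Lead.HN Groth.Agent.Lead.VBL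
open Groth.Agent.Helper1.CurvePt Groth.Agent.Helper1.PtInv Groth.Agent.Helper1.ProjF

section TLzero

variable {X : Scheme.{u}}

theorem TL_map_zero (L : X.Modules) (M M' : X.Modules) : (TL L).map (0 : M ⟶ M') = 0 := by
  refine ProjF.hom_ext_tm (M := M) (N := L) ((TL L).map (0 : M ⟶ M')) 0 ?_
  intro U m n
  refine (TL_map_tm (L := L) (0 : M ⟶ M') U m n).trans ?_
  have h0 : (0 : M ⟶ M').app U m = 0 := rfl
  rw [h0, tm_zero_left]
  rfl

end TLzero

section Simple

variable (k : Type u) [Field k] [IsAlgClosed k] (X : Scheme.{u}) [X.Over (Spec (CommRingCat.of k))]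
  [IsIntegral X] [IsProper (X ↘ (Spec (CommRingCat.of k)))] [Smooth (X ↘ (Spec (CommRingCat.of k)))]

/-- a nonzero section of `L ⊗ Q⁻¹` gives a nonzero map `Q ⟶ L` -/
theorem exists_hom_ne_zero_of_section {L Q Q' : X.Modules} (hQ : PicF.IsInvertible Q)
    (hQ' : PicF.IsInvertible Q') (e : CohB1.tensorMod Q' Q ≅ Coh.structureModule X)
    (t : Coh.structureModule X ⟶ (TL Q').obj L) (ht : t ≠ 0) : ∃ g : Q ⟶ L, g ≠ 0 := by
  obtain ⟨u₀⟩ := TwistAmpleOpen.nonempty_tensorMod_unit_iso Q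
  let u : (TL Q).obj (Coh.structureModule X) ≅ Q := u₀
  have e₂ : CohB1.tensorMod Q Q' ≅ Coh.structureModule X := TildeTens.tensorModComm Q Q' ≪≫ e
  have hne : (TL Q).map t ≠ 0 := by
    intro h
    apply ht
    have h0 : (TL Q).map t = (TL Q).map (0 : Coh.structureModule X ⟶ (TL Q').obj L) :=
      h.trans (TL_map_zero Q _ _).symm
    exact Groth.Agent.Lead.TwNat.TL_map_injective hQ hQ' e₂ t 0 h0
  refine ⟨u.inv ≫ (TL Q).map t ≫ (Groth.Agent.Lead.TwNat.untw hQ' hQ e L).hom, fun h => hne ?_⟩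
  have h2 : (TL Q).map t ≫ (Groth.Agent.Lead.TwNat.untw hQ' hQ e L).hom = 0 :=
    (cancel_epi u.inv).1 (h.trans comp_zero.symm)
  exact (cancel_mono (Groth.Agent.Lead.TwNat.untw hQ' hQ e L).hom).1 (h2.trans zero_comp.symm)

/-- S11817 (morphism form) -/
theorem two_deg_sub_le_of_simple (hdim : topologicalKrullDim X = 1) (E : X.Modules)
    (hE : FlatMod.IsFinLocFreeOfRank 2 E) (hsimple : ∀ φ : E ⟶ E, ∃ c : k, φ = c • 𝟙 E)
    (L : X.Modules) (hL : PicF.IsInvertible L) (i : L ⟶ E) [Mono i]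
    (hq : PicF.IsInvertible (cokernel i)) :
    2 * Curv2.deg k X L 1 ≤ Curv2.deg k X E 2 + (Curv2.genus k X : ℤ) - 2 := by
  have hX : ∀ x : X, ValuationRing (X.presheaf.stalk x) := fun x =>
    Groth.Agent.Helper1.VB5.valuationRing_stalk_of_smooth k (X ↘ Spec (CommRingCat.of k)) hdim.le x
  haveI := isNoetherian_of_proper k X
  have hS := cokerSC_shortExact i
  have hL1 := isFinLocFreeOfRank_one hL
  have hq1 := isFinLocFreeOfRank_one hq
  have hdeg : Curv2.deg k X E 2 = Curv2.deg k X L 1 + Curv2.deg k X (cokernel i) 1 :=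
    deg_additive k X (cokerSC i) hS 1 2 1 hL1 hE hq1
  obtain ⟨Q', hQ', ⟨e⟩⟩ := InvInv2.exists_inverse hq
  have hdQ' := GenusOne.deg_of_inverse k X hdim hQ' hq e
  have hN : PicF.IsInvertible (CohB1.tensorMod L Q') := isInvertible_tensorMod hL hQ'
  have hdN := GenusOne.deg_tensor_inv k X hdim hL hQ'
  have hNc : Coh.IsCoh (CohB1.tensorMod L Q') := InvQc.isCoh_of_isInvertible _ hN
  have hOc : Coh.IsCoh (Coh.structureModule X) :=
    InvQc.isCoh_of_isInvertible _ GenLoc.isInvertible_O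
  -- the sequence does not split
  have hπ0 : i ≫ cokernel.π i = 0 := cokernel.condition i
  have hns : ¬ IsSplitEpi (cokernel.π i) := by
    intro hsp
    obtain ⟨⟨⟨s, hs⟩⟩⟩ := hsp
    obtain ⟨c, hc⟩ := hsimple (cokernel.π i ≫ s)
    have h1 : c • i = 0 := by
      have h2 : i ≫ (cokernel.π i ≫ s) = 0 := by
        rw [← Category.assoc, hπ0, zero_comp]
      rw [hc, Linear.comp_smul, Category.comp_id] at h2
      exact h2
    rcases smul_eq_zero.1 h1 with hc0 | hi0
    · have h3 : cokernel.π i ≫ s = 0 := by rw [hc, hc0, zero_smul]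
      have h4 : s = 0 := (cancel_epi (cokernel.π i)).1 (h3.trans comp_zero.symm)
      have h5 : 𝟙 (cokernel i) = 0 := by rw [← hs, h4, zero_comp]
      exact VB.not_isZero_of_rank_pos X Nat.one_pos hq1 ((IsZero.iff_id_eq_zero _).2 h5)
    · have h5 : 𝟙 L = 0 := (cancel_mono i).1 (by rw [Category.id_comp, hi0, zero_comp])
      exact VB.not_isZero_of_rank_pos X Nat.one_pos hL1 ((IsZero.iff_id_eq_zero _).2 h5)
  have hns' : ¬ IsSplitEpi (cokerSC i).g := hns
  -- no maps from the quotient to the sub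
  have hhom : ∀ g : cokernel i ⟶ L, g = 0 := by
    intro g
    by_contra hg
    obtain ⟨-, φ, hφ⟩ := VBL.indec_not_simple k X hdim hX (cokerSC i) hS hL hq g hg hns'
    obtain ⟨c, hc⟩ := hsimple φ
    exact hφ c hc
  -- `H⁰(L ⊗ Q') = 0`
  have h0 : Subsingleton (Coh.HH X (CohB1.tensorMod L Q') 0) := by
    by_contra hnt
    rw [not_subsingleton_iff_nontrivial] at hnt
    obtain ⟨x, hx⟩ := exists_ne (0 : Coh.HH X (CohB1.tensorMod L Q') 0)
    have hσ : HH0.equiv X _ x ≠ 0 := fun h0 =>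
      hx ((HH0.equiv X _).injective (h0.trans (map_zero _).symm))
    have ht := homOfSec_ne_zero _ _ hσ
    obtain ⟨g, hg⟩ := exists_hom_ne_zero_of_section X hq hQ' e _ ht
    exact hg (hhom g)
  -- `H¹(L ⊗ Q') ≠ 0`
  have h1 : ¬ Subsingleton (Coh.HH X (CohB1.tensorMod L Q') 1) := fun h =>
    hns' (isSplitEpi_of_h1 k X hS hq hQ' e h)
  rw [not_subsingleton_iff_nontrivial] at h1
  haveI : FiniteDimensional k (Coh.HH X (CohB1.tensorMod L Q') 1) := T2Main1.t2 k X _ hNc 1
  have h1pos : 0 < Module.finrank k (Coh.HH X (CohB1.tensorMod L Q') 1) := Module.finrank_pos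
  have h0z : Module.finrank k (Coh.HH X (CohB1.tensorMod L Q') 0) = 0 :=
    Module.finrank_zero_of_subsingleton
  have eN := euler_eq_h0_sub_h1 k X hdim.le _ hNc.1
  have eO := euler_eq_h0_sub_h1 k X hdim.le (Coh.structureModule X) hOc.1
  have hOpos := h0_O_pos k X
  rw [h0z] at eN
  have hdN' : Curv2.deg k X (CohB1.tensorMod L Q') 1 =
      Curv2.euler k X (CohB1.tensorMod L Q') - Curv2.euler k X (Coh.structureModule X) := by
    unfold Curv2.deg
    push_cast
    ring
  unfold Curv2.genus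
  push_cast at eN eO
  have hO' : (1 : ℤ) ≤ (Module.finrank k (Coh.HH X (Coh.structureModule X) 0) : ℤ) := by
    exact_mod_cast hOpos
  have h1' : (1 : ℤ) ≤ (Module.finrank k (Coh.HH X (CohB1.tensorMod L Q') 1) : ℤ) := by
    exact_mod_cast h1pos
  linarith

end Simple

end Groth.Agent.Lead.CV
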