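import Mathlib
import Groth.Agent.Lib.Lead.CV9

/-!
# Degree bounds for indecomposable rank two bundles on a curve (lead)
-/

set_option autoImplicit false
set_option backward.isDefEq.respectTransparency.types false
set_option synthInstance.maxHeartbeats 400000
set_option linter.style.haveILetI false
set_option linter.unusedSectionVars false
set_option linter.unusedVariables false
universe u
open CategoryTheory CategoryTheory.Limits AlgebraicGeometry TopologicalSpace Opposite

namespace Groth.Agent.Lead.CV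

open Groth.Agent.Helper1.QcCech Groth.Agent.Helper1.SubSh Groth.Agent.Helper1.LGen
open Groth.Agent.Helper1.TmulLib Groth.Agent.Helper1 Groth.Agent.Helper1.TwForm
open Groth.Agent.Helper1.TensGen Groth.Agent.Lib.Helper4.TwExact Groth.Agent.Helper1.Dv
open Groth.Agent.Lib.Helper4 Groth.Agent.Helper1.CurveAmp Groth.Agent.Helper1.FinSupp
open Groth.Agent.Helper1.Euler Groth.Agent.Helper1.Curve Groth.Agent.Helper1.CurveLin
open Groth.Agent.Helper1.CurveDual Groth.Agent.Lead.HN Groth.Agent.Lead.VBL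
open Groth.Agent.Helper1.CurvePt Groth.Agent.Helper1.PtInv Groth.Agent.Helper1.ProjF

section Indec

variable (k : Type u) [Field k] (X : Scheme.{u}) [X.Over (Spec (CommRingCat.of k))]
  [IsIntegral X] [IsProper (X ↘ (Spec (CommRingCat.of k)))]

/-- a split extension of invertible modules is a direct sum -/
theorem nonempty_iso_biprod_of_isSplitEpi {S : ShortComplex X.Modules} (hS : S.ShortExact)
    (h : IsSplitEpi S.g) : Nonempty (S.X₂ ≅ S.X₁ ⊞ S.X₃) := by
  obtain ⟨⟨⟨s, hs⟩⟩⟩ := h
  haveI := hS.mono_f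
  exact ⟨(ShortComplex.Splitting.ofExactOfSection S hS.exact s hs inferInstance).isoBinaryBiproduct⟩

/-- a nonsplit extension `0 → A → E → Q → 0` of invertible modules has
`deg A - deg Q ≤ 2g - 2` -/
theorem deg_sub_le_of_nonsplit (hdim : topologicalKrullDim X = 1) {S : ShortComplex X.Modules}
    (hS : S.ShortExact) (hA : PicF.IsInvertible S.X₁) (hQ : PicF.IsInvertible S.X₃)
    (hns : ¬ IsSplitEpi S.g) :
    Curv2.deg k X S.X₁ 1 - Curv2.deg k X S.X₃ 1 ≤ 2 * (Curv2.genus k X : ℤ) - 2 := by
  obtain ⟨Q', hQ', ⟨e⟩⟩ := InvInv2.exists_inverse hQ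
  have hdQ' := GenusOne.deg_of_inverse k X hdim hQ' hQ e
  have hN : PicF.IsInvertible (CohB1.tensorMod S.X₁ Q') := isInvertible_tensorMod hA hQ'
  have hdN := GenusOne.deg_tensor_inv k X hdim hA hQ'
  by_contra hlt
  rw [not_le] at hlt
  have h1 := subsingleton_H1_of_deg_ge k X hdim _ hN (by rw [hdN, hdQ']; omega)
  exact hns (isSplitEpi_of_h1 k X hS hQ hQ' e h1)

/-- the degree of an invertible module in terms of `h⁰` and `h¹` -/
theorem deg_eq_h0_sub_h1 (hdim : topologicalKrullDim X = 1) {N : X.Modules}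
    (hN : PicF.IsInvertible N) :
    Curv2.deg k X N 1 = (Module.finrank k (Coh.HH X N 0) : ℤ) - Module.finrank k (Coh.HH X N 1) -
      ((Module.finrank k (Coh.HH X (Coh.structureModule X) 0) : ℤ) - (Curv2.genus k X : ℤ)) := by
  haveI := isNoetherian_of_proper k X
  have hNc : Coh.IsCoh N := InvQc.isCoh_of_isInvertible _ hN
  have hOc : Coh.IsCoh (Coh.structureModule X) :=
    InvQc.isCoh_of_isInvertible _ GenLoc.isInvertible_O
  have eN := euler_eq_h0_sub_h1 k X hdim.le N hNc.1
  have eO := euler_eq_h0_sub_h1 k X hdim.le (Coh.structureModule X) hOc.1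
  unfold Curv2.deg Curv2.genus
  push_cast
  linarith

/-- S11347: degree bounds for a normalized indecomposable rank two bundle -/
theorem deg_bounds_of_normalized_indec [IsAlgClosed k] (hdim : topologicalKrullDim X = 1)
    (hreg : ∀ x : X, IsRegularLocalRing (X.presheaf.stalk x))
    (E : X.Modules) (hE : FlatMod.IsFinLocFreeOfRank 2 E) (hn0 : Nontrivial (Coh.HH X E 0))
    (hneg : ∀ M : X.Modules, PicF.IsInvertible M → Curv2.deg k X M 1 < 0 →
      Subsingleton (Coh.HH X (CohB1.tensorMod E M) 0))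
    (hind : ∀ L₁ L₂ : X.Modules, PicF.IsInvertible L₁ → PicF.IsInvertible L₂ →
      IsEmpty (E ≅ L₁ ⊞ L₂)) :
    2 - 2 * (Curv2.genus k X : ℤ) ≤ Curv2.deg k X E 2 ∧
      Curv2.deg k X E 2 ≤ 2 * (Curv2.genus k X : ℤ) := by
  have hX : ∀ x : X, ValuationRing (X.presheaf.stalk x) := fun x => by
    haveI := hreg x
    haveI : IsDomain (X.presheaf.stalk x) := inferInstance
    exact VB5.valuationRing_of_regular _ (VB5.ringKrullDim_stalk_le hdim.le x)
  haveI := isNoetherian_of_proper k X
  haveI : IsLocallyNoetherian X := (isNoetherian_of_proper k X).toIsLocallyNoetherian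
  obtain ⟨x, hx⟩ := exists_ne (0 : Coh.HH X E 0)
  have hσ : HH0.equiv X E x ≠ 0 := fun h0 =>
    hx ((HH0.equiv X E).injective (h0.trans (map_zero _).symm))
  have hs := homOfSec_ne_zero E _ hσ
  set s := TwistAmple.homOfSec E (HH0.equiv X E x) with hsdef
  have hO : PicF.IsInvertible (Coh.structureModule X) := GenLoc.isInvertible_O
  have hO1 := isFinLocFreeOfRank_one hO
  have hQ := isInvertible_cokernel_of_normalized k X hdim hX hE hneg s hs
  have hQ1 := isFinLocFreeOfRank_one hQ
  haveI : Mono s := mono_of_ne_zero_of_rank_one k X hX hO1 hE s hs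
  have hS := cokerSC_shortExact s
  have hdeg : Curv2.deg k X E 2 = Curv2.deg k X (Coh.structureModule X) 1 +
      Curv2.deg k X (cokernel s) 1 := deg_additive k X (cokerSC s) hS 1 2 1 hO1 hE hQ1
  rw [deg_O k X, zero_add] at hdeg
  have hns : ¬ IsSplitEpi (cokerSC s).g := by
    intro hsp
    obtain ⟨e⟩ := nonempty_iso_biprod_of_isSplitEpi X hS hsp
    exact (hind _ _ hO hQ).false e
  constructor
  · have h := deg_sub_le_of_nonsplit k X hdim hS hO hQ hns
    change Curv2.deg k X (Coh.structureModule X) 1 - Curv2.deg k X (cokernel s) 1 ≤ _ at h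
    rw [deg_O k X] at h
    linarith
  · obtain ⟨P, -, hP⟩ := PtInv.exists_closedPoint_mem k (X ↘ (Spec (CommRingCat.of k))) ⊤
      (genericPoint X) trivial
    have hI := GenusOne.isInvertible_ptIdeal_of_regular k X hdim P hP (hreg P)
    have hdI := PtInv.deg_ptIdeal k X P hP
    have hSE := shortExact_map (locGen_of_isInvertible _ hI) hS
    have hH0 := hneg _ hI (by rw [hdI]; norm_num)
    have hOI : PicF.IsInvertible (CohB1.tensorMod (Coh.structureModule X)
        (ClSub.idealMod (ptIdeal P hP))) := isInvertible_tensorMod hO hI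
    have hQI : PicF.IsInvertible (CohB1.tensorMod (cokernel s)
        (ClSub.idealMod (ptIdeal P hP))) := isInvertible_tensorMod hQ hI
    have hdOI := GenusOne.deg_tensor_inv k X hdim hO hI
    have hdQI := GenusOne.deg_tensor_inv k X hdim hQ hI
    rw [deg_O k X, hdI] at hdOI
    rw [hdI] at hdQI
    have hOI0 : Subsingleton (Coh.HH X (CohB1.tensorMod (Coh.structureModule X)
        (ClSub.idealMod (ptIdeal P hP))) 0) :=
      subsingleton_H0_of_deg_neg k X hdim hOI (by rw [hdOI]; norm_num)
    have e1 := deg_eq_h0_sub_h1 k X hdim hOI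
    have e2 := deg_eq_h0_sub_h1 k X hdim hQI
    rw [Module.finrank_zero_of_subsingleton, hdOI] at e1
    rw [hdQI] at e2
    -- `δ` is injective
    have hinj : Function.Injective (HHFin2.deltaLin k hSE 0) := by
      rw [injective_iff_map_eq_zero]
      intro y hy
      obtain ⟨z, hz⟩ := HHFin2.exact_g_delta k hSE 0 y hy
      have hz0 : z = 0 := Subsingleton.elim (h := hH0) _ _
      rw [← hz, hz0, map_zero]
    haveI : Module.Finite k (Coh.HH X ((cokerSC s).map (TL (ClSub.idealMod (ptIdeal P hP)))).X₁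
        (0 + 1)) :=
      T2Main1.t2 k X _ (InvQc.isCoh_of_isInvertible _ hOI) (0 + 1)
    have hle := LinearMap.finrank_le_finrank_of_injective hinj
    change Module.finrank k (Coh.HH X (CohB1.tensorMod (cokernel s)
        (ClSub.idealMod (ptIdeal P hP))) 0) ≤
      Module.finrank k (Coh.HH X (CohB1.tensorMod (Coh.structureModule X)
        (ClSub.idealMod (ptIdeal P hP))) (0 + 1)) at hle
    have hle' : (Module.finrank k (Coh.HH X (CohB1.tensorMod (cokernel s)
        (ClSub.idealMod (ptIdeal P hP))) 0) : ℤ) ≤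
      (Module.finrank k (Coh.HH X (CohB1.tensorMod (Coh.structureModule X)
        (ClSub.idealMod (ptIdeal P hP))) 1) : ℤ) := by exact_mod_cast hle
    have hOpos := h0_O_pos k X
    have hO' : (1 : ℤ) ≤ (Module.finrank k (Coh.HH X (Coh.structureModule X) 0) : ℤ) := by
      exact_mod_cast hOpos
    have hnn : (0 : ℤ) ≤ (Module.finrank k (Coh.HH X (CohB1.tensorMod (cokernel s)
        (ClSub.idealMod (ptIdeal P hP))) 1) : ℤ) := Int.natCast_nonneg _
    push_cast at e1
    linarith

end Indec

section Smooth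

variable (k : Type u) [Field k] [IsAlgClosed k] (X : Scheme.{u}) [X.Over (Spec (CommRingCat.of k))]
  [IsIntegral X] [IsProper (X ↘ (Spec (CommRingCat.of k)))] [Smooth (X ↘ (Spec (CommRingCat.of k)))]

/-- invertible modules of every degree, with inverses -/
theorem exists_line_deg (hdim : topologicalKrullDim X = 1) (n : ℤ) :
    ∃ N N' : X.Modules, PicF.IsInvertible N ∧ PicF.IsInvertible N' ∧
      Nonempty (CohB1.tensorMod N N' ≅ Coh.structureModule X) ∧
      Curv2.deg k X N 1 = n ∧ Curv2.deg k X N' 1 = -n := by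
  obtain ⟨N₀, M₀, hN₀, hM₀, ⟨e⟩, hdN, hdM⟩ := exists_neg_line k X hdim n.natAbs
  rcases le_or_gt 0 n with hn | hn
  · refine ⟨M₀, N₀, hM₀, hN₀, ⟨e⟩, ?_, ?_⟩
    · rw [hdM]; omega
    · rw [hdN]; omega
  · refine ⟨N₀, M₀, hN₀, hM₀, ⟨TildeTens.tensorModComm N₀ M₀ ≪≫ e⟩, ?_, ?_⟩
    · rw [hdN]; omega
    · rw [hdM]; omega

/-- S11482: sub line bundles of an indecomposable rank two bundle -/
theorem sub_deg_bounds_of_indec (hdim : topologicalKrullDim X = 1) (E : X.Modules)
    (hE : FlatMod.IsFinLocFreeOfRank 2 E)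
    (hind : ∀ (E₁ E₂ : X.Modules), Nonempty (E ≅ E₁ ⊞ E₂) → IsZero E₁ ∨ IsZero E₂) :
    (∀ (L : X.Modules) (ι : L ⟶ E), PicF.IsInvertible L → Mono ι →
        2 * Curv2.deg k X L 1 ≤ Curv2.deg k X E 2 + 2 * (Curv2.genus k X : ℤ) - 2) ∧
      ∃ (L : X.Modules) (ι : L ⟶ E), PicF.IsInvertible L ∧ Mono ι ∧
        Curv2.deg k X E 2 - 2 * (Curv2.genus k X : ℤ) ≤ 2 * Curv2.deg k X L 1 := by
  have hX : ∀ x : X, ValuationRing (X.presheaf.stalk x) := fun x =>
    Groth.Agent.Helper1.VB5.valuationRing_stalk_of_smooth k (X ↘ Spec (CommRingCat.of k)) hdim.le x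
  haveI := isNoetherian_of_proper k X
  constructor
  · intro L ι hL hι
    haveI := hι
    have hL1 := isFinLocFreeOfRank_one hL
    obtain ⟨B', n, hB'g, hle, hBf, hn, hrk, -, hχ, -⟩ := VBL.exists_sat_quot k X hdim hX hE ι hL1
    have hn1 : n = 1 := by omega
    subst hn1
    have hB'inv : PicF.IsInvertible (B' : X.Modules) := VBL.isInvertible_of_rank_one X hBf
    have hcok : PicF.IsInvertible (cokernel B'.arrow) := VBL.isInvertible_of_rank_one X hn
    have hS := cokerSC_shortExact B'.arrow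
    have hns : ¬ IsSplitEpi (cokerSC B'.arrow).g := by
      intro hsp
      obtain ⟨e⟩ := nonempty_iso_biprod_of_isSplitEpi X hS hsp
      rcases hind _ _ ⟨e⟩ with h | h
      · exact VB.not_isZero_of_rank_pos X Nat.one_pos hBf h
      · exact VB.not_isZero_of_rank_pos X Nat.one_pos hn h
    have h1 := deg_sub_le_of_nonsplit k X hdim hS hB'inv hcok hns
    change Curv2.deg k X (B' : X.Modules) 1 - Curv2.deg k X (cokernel B'.arrow) 1 ≤ _ at h1
    have hdeg : Curv2.deg k X E 2 = Curv2.deg k X (B' : X.Modules) 1 +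
        Curv2.deg k X (cokernel B'.arrow) 1 :=
      deg_additive k X (cokerSC B'.arrow) hS 1 2 1 hBf hE hn
    have hdL : Curv2.deg k X L 1 ≤ Curv2.deg k X (B' : X.Modules) 1 := by
      unfold Curv2.deg
      linarith
    linarith
  · obtain ⟨N, N', hN, hN', ⟨e⟩, hdN, hdN'⟩ := exists_line_deg k X hdim
      ((2 * (Curv2.genus k X : ℤ) - Curv2.deg k X E 2) / 2)
    have hF : FlatMod.IsFinLocFreeOfRank 2 (CohB1.tensorMod E N) :=
      VBQ.isFinLocFreeOfRank_tensor_invertible hE hN
    have hFc : Coh.IsCoh (CohB1.tensorMod E N) := isCoh_of_rank X hF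
    have hOc : Coh.IsCoh (Coh.structureModule X) :=
      InvQc.isCoh_of_isInvertible _ GenLoc.isInvertible_O
    have hdF := deg_twist k X hdim hE hN
    have eF := euler_eq_h0_sub_h1 k X hdim.le _ hFc.1
    have eO := euler_eq_h0_sub_h1 k X hdim.le (Coh.structureModule X) hOc.1
    have hOpos := h0_O_pos k X
    have hO' : (1 : ℤ) ≤ (Module.finrank k (Coh.HH X (Coh.structureModule X) 0) : ℤ) := by
      exact_mod_cast hOpos
    have hpos : 0 < Module.finrank k (Coh.HH X (CohB1.tensorMod E N) 0) := by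
      have hnn : (0 : ℤ) ≤ (Module.finrank k (Coh.HH X (CohB1.tensorMod E N) 1) : ℤ) :=
        Int.natCast_nonneg _
      have hdF' : Curv2.deg k X (CohB1.tensorMod E N) 2 =
          Curv2.euler k X (CohB1.tensorMod E N) -
            2 * Curv2.euler k X (Coh.structureModule X) := by
        unfold Curv2.deg
        push_cast
        ring
      have hg : (Curv2.genus k X : ℤ) =
          (Module.finrank k (Coh.HH X (Coh.structureModule X) 1) : ℤ) := rfl
      rw [hdN] at hdF
      have : (0 : ℤ) < (Module.finrank k (Coh.HH X (CohB1.tensorMod E N) 0) : ℤ) := by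
        push_cast at hdF
        omega
      exact_mod_cast this
    haveI : FiniteDimensional k (Coh.HH X (CohB1.tensorMod E N) 0) := T2Main1.t2 k X _ hFc 0
    obtain ⟨x, hx⟩ := (Module.finrank_pos_iff_exists_ne_zero (R := k)).1 hpos
    have hσ : HH0.equiv X _ x ≠ 0 := fun h0 =>
      hx ((HH0.equiv X _).injective (h0.trans (map_zero _).symm))
    have ht := homOfSec_ne_zero _ _ hσ
    obtain ⟨g, hg⟩ := exists_hom_ne_zero_of_section X hN' hN e _ ht
    have hmono := mono_of_ne_zero_of_rank_one k X hX (isFinLocFreeOfRank_one hN') hE g hg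
    refine ⟨N', g, hN', hmono, ?_⟩
    rw [hdN']
    omega

end Smooth

end Groth.Agent.Lead.CV
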