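import Mathlib
import Groth.Agent.Lib.Lead.CV10
import Groth.Agent.Lib.Helper1.CurveLin4

/-!
# The Weierstrass gap theorem (lead)
-/

set_option autoImplicit false
set_option backward.isDefEq.respectTransparency.types false
set_option synthInstance.maxHeartbeats 400000
set_option linter.style.haveILetI false
set_option linter.unusedSectionVars false
set_option linter.unusedVariables false
universe u
open CategoryTheory CategoryTheory.Limits AlgebraicGeometry TopologicalSpace Opposite

namespace Groth.Agent.Lead.CV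

open Groth.Agent.Helper1.QcCech Groth.Agent.Helper1.SubSh Groth.Agent.Helper1.LGen
open Groth.Agent.Helper1.TmulLib Groth.Agent.Helper1 Groth.Agent.Helper1.TwForm
open Groth.Agent.Helper1.TensGen Groth.Agent.Lib.Helper4.TwExact Groth.Agent.Helper1.Dv
open Groth.Agent.Lib.Helper4 Groth.Agent.Helper1.CurveAmp Groth.Agent.Helper1.FinSupp
open Groth.Agent.Helper1.Euler Groth.Agent.Helper1.Curve Groth.Agent.Helper1.CurveLin
open Groth.Agent.Helper1.CurveDual Groth.Agent.Lead.HN Groth.Agent.Lead.VBL
open Groth.Agent.Helper1.CurvePt Groth.Agent.Helper1.PtInv Groth.Agent.Helper1.ProjF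

section Count

/-- counting the steps where a slowly increasing function does not increase -/
theorem gaps_count (f : ℕ → ℕ) (h0 : ∀ n, f n ≤ f (n + 1)) (h1 : ∀ n, f (n + 1) ≤ f n + 1)
    (N : ℕ) : ((Finset.range N).filter (fun i => f (i + 1) = f i)).card + f N = N + f 0 := by
  induction N with
  | zero => simp
  | succ N ih =>
    rw [Finset.range_add_one, Finset.filter_insert]
    by_cases h : f (N + 1) = f N
    · rw [if_pos h, Finset.card_insert_of_notMem (by simp), h]
      omega
    · rw [if_neg h]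
      have := h0 N
      have := h1 N
      omega

/-- the set of gaps as a finite set -/
theorem gaps_ncard (f : ℕ → ℕ) (h0 : ∀ n, f n ≤ f (n + 1)) (h1 : ∀ n, f (n + 1) ≤ f n + 1)
    (N g : ℕ) (hbig : ∀ n, N ≤ n → f (n + 1) = f n + 1) (hN : f N + g = N + f 0) :
    {n : ℕ | 1 ≤ n ∧ f n = f (n - 1)}.Finite ∧ {n : ℕ | 1 ≤ n ∧ f n = f (n - 1)}.ncard = g := by
  have hS : {n : ℕ | 1 ≤ n ∧ f n = f (n - 1)} =
      ↑(((Finset.range N).filter (fun i => f (i + 1) = f i)).image (fun i => i + 1)) := by
    ext n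
    simp only [Set.mem_ofPred_eq, Finset.coe_image, Finset.coe_filter, Finset.mem_range,
      Set.mem_image]
    constructor
    · rintro ⟨hn, hf⟩
      obtain ⟨i, rfl⟩ : ∃ i, n = i + 1 := ⟨n - 1, by omega⟩
      refine ⟨i, ⟨?_, by simpa using hf⟩, rfl⟩
      by_contra hi
      have := hbig i (by omega)
      simp only [Nat.add_sub_cancel] at hf
      omega
    · rintro ⟨i, ⟨-, hf⟩, rfl⟩
      exact ⟨by omega, by simpa using hf⟩
  rw [hS]
  refine ⟨Finset.finite_toSet _, ?_⟩
  rw [Set.ncard_coe_finset, Finset.card_image_of_injective _ (add_left_injective 1)]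
  have := gaps_count f h0 h1 N
  omega

end Count

section Gap

variable (k : Type u) [Field k] (X : Scheme.{u}) [X.Over (Spec (CommRingCat.of k))]
  [IsIntegral X] [IsProper (X ↘ (Spec (CommRingCat.of k)))]

/-- twisting down at a point does not increase `h⁰` -/
theorem h0_ptTwist_le (hdim : topologicalKrullDim X = 1) (P : X) (hP : IsClosed ({P} : Set X))
    {r : ℕ} {G : X.Modules} (hG : FlatMod.IsFinLocFreeOfRank r G) :
    Module.finrank k (Coh.HH X (CohB1.tensorMod G (ClSub.idealMod (ptIdeal P hP))) 0) ≤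
      Module.finrank k (Coh.HH X G 0) := by
  haveI := isNoetherian_of_proper k X
  haveI : IsLocallyNoetherian X := (isNoetherian_of_proper k X).toIsLocallyNoetherian
  have hOc : Coh.IsCoh (Coh.structureModule X) :=
    InvQc.isCoh_of_isInvertible _ GenLoc.isInvertible_O
  have hGc : Coh.IsCoh G := isCoh_of_rank X hG
  have hIc : Coh.IsCoh (ClSub.idealMod (ptIdeal P hP)) := isCoh_idealMod _
  have hIGc : Coh.IsCoh (CohB1.tensorMod (ClSub.idealMod (ptIdeal P hP)) G) :=
    isCoh_tensor _ _ hIc hGc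
  have hOGc : Coh.IsCoh (CohB1.tensorMod (Coh.structureModule X) G) := isCoh_tensor _ _ hOc hGc
  have hSE := shortExact_map_tensR
    (hasBases_of_isFinLocFree (Groth.Agent.Helper1.FinLen.isFinLocFree_of_rank hG))
    (IdealModL.S (ptIdeal P hP)) (shortExact_S (ptIdeal P hP))
  haveI : Module.Finite k (Coh.HH X ((IdealModL.S (ptIdeal P hP)).map (tensR G)).X₁ 0) :=
    T2Main1.t2 k X _ hIGc 0
  haveI : Module.Finite k (Coh.HH X ((IdealModL.S (ptIdeal P hP)).map (tensR G)).X₂ 0) :=
    T2Main1.t2 k X _ hOGc 0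
  have hinj : Function.Injective
      (Canon.HHlin k ((IdealModL.S (ptIdeal P hP)).map (tensR G)).f 0) :=
    HHFin3.HHlin_f_zero_injective k hSE
  have hle := LinearMap.finrank_le_finrank_of_injective hinj
  change Module.finrank k (Coh.HH X (CohB1.tensorMod (ClSub.idealMod (ptIdeal P hP)) G) 0) ≤
    Module.finrank k (Coh.HH X (CohB1.tensorMod (Coh.structureModule X) G) 0) at hle
  obtain ⟨e'⟩ := TwistAmpleOpen.nonempty_tensorMod_unit_iso G
  have h1 := (HHFin1.HHequiv k e' 0).finrank_eq
  have h2 := (HHFin1.HHequiv k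
    (TildeTens.tensorModComm (ClSub.idealMod (ptIdeal P hP)) G) 0).finrank_eq
  omega

/-- S11836: the Weierstrass gap theorem -/
theorem gaps [IsAlgClosed k] (hdim : topologicalKrullDim X = 1) (p : X)
    (hp : IsClosed ({p} : Set X)) (hI : PicF.IsInvertible (ClSub.idealMod (ptIdeal p hp)))
    (L : X.Modules) (hL : PicF.IsInvertible L)
    (e : CohB1.tensorMod L (ClSub.idealMod (ptIdeal p hp)) ≅ Coh.structureModule X) :
    {n : ℕ | 1 ≤ n ∧ Module.finrank k (Coh.HH X (CohB1.tensorPow L n) 0) =
        Module.finrank k (Coh.HH X (CohB1.tensorPow L (n - 1)) 0)}.Finite ∧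
      {n : ℕ | 1 ≤ n ∧ Module.finrank k (Coh.HH X (CohB1.tensorPow L n) 0) =
        Module.finrank k (Coh.HH X (CohB1.tensorPow L (n - 1)) 0)}.ncard = Curv2.genus k X := by
  haveI := isNoetherian_of_proper k X
  have hd := finrank_quotMod_pt k X p hp
  have hdI := PtInv.deg_ptIdeal k X p hp
  have hdL : Curv2.deg k X L 1 = 1 := by
    rw [GenusOne.deg_of_inverse k X hdim hL hI e, hdI]
    norm_num
  have hstep : ∀ n : ℕ, Module.finrank k
      (Coh.HH X (CohB1.tensorMod (CohB1.tensorPow L (n + 1)) (ClSub.idealMod (ptIdeal p hp))) 0) =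
      Module.finrank k (Coh.HH X (CohB1.tensorPow L n) 0) := fun n =>
    (HHFin1.HHequiv k (Groth.Agent.Lead.TwNat.untw hL hI e (CohB1.tensorPow L n)) 0).finrank_eq
  have hpow : ∀ n : ℕ, PicF.IsInvertible (CohB1.tensorPow L n) := fun n =>
    isInvertible_tensorPow hL n
  have h0 : ∀ n, Module.finrank k (Coh.HH X (CohB1.tensorPow L n) 0) ≤
      Module.finrank k (Coh.HH X (CohB1.tensorPow L (n + 1)) 0) := by
    intro n
    rw [← hstep n]
    exact h0_ptTwist_le k X hdim p hp (isFinLocFreeOfRank_one (hpow (n + 1)))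
  have h1 : ∀ n, Module.finrank k (Coh.HH X (CohB1.tensorPow L (n + 1)) 0) ≤
      Module.finrank k (Coh.HH X (CohB1.tensorPow L n) 0) + 1 := by
    intro n
    rw [← hstep n]
    exact h0_le_ptTwist k X hdim p hp hd (isFinLocFreeOfRank_one (hpow (n + 1)))
  have hO1 := finrank_HH_zero_eq_one_of_isAlgClosed k X
  have hform : ∀ n : ℕ, 2 * (Curv2.genus k X : ℤ) - 1 ≤ n →
      (Module.finrank k (Coh.HH X (CohB1.tensorPow L n) 0) : ℤ) = n + 1 - Curv2.genus k X := by
    intro n hn
    have hdn := deg_tensorPow k X hdim.le hL n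
    rw [hdL, mul_one] at hdn
    haveI := subsingleton_H1_of_deg_ge k X hdim _ (hpow n) (by rw [hdn]; exact hn)
    have e1 := deg_eq_h0_sub_h1 k X hdim (hpow n)
    rw [Module.finrank_zero_of_subsingleton (M := Coh.HH X (CohB1.tensorPow L n) 1), hdn, hO1] at e1
    push_cast at e1
    linarith
  refine gaps_ncard (fun n => Module.finrank k (Coh.HH X (CohB1.tensorPow L n) 0)) h0 h1
    (2 * Curv2.genus k X - 1) (Curv2.genus k X) ?_ ?_
  · intro n hn
    have a := hform n (by omega)
    have b := hform (n + 1) (by push_cast; omega)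
    push_cast at b
    have : (Module.finrank k (Coh.HH X (CohB1.tensorPow L (n + 1)) 0) : ℤ) =
        (Module.finrank k (Coh.HH X (CohB1.tensorPow L n) 0) : ℤ) + 1 := by linarith
    exact_mod_cast this
  · have a := hform (2 * Curv2.genus k X - 1) (by omega)
    have hz : Module.finrank k (Coh.HH X (CohB1.tensorPow L 0) 0) = 1 := hO1
    change Module.finrank k (Coh.HH X (CohB1.tensorPow L (2 * Curv2.genus k X - 1)) 0) +
      Curv2.genus k X = 2 * Curv2.genus k X - 1 +
        Module.finrank k (Coh.HH X (CohB1.tensorPow L 0) 0)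
    rw [hz]
    have : ((Module.finrank k (Coh.HH X (CohB1.tensorPow L (2 * Curv2.genus k X - 1)) 0) : ℕ) : ℤ) +
        (Curv2.genus k X : ℤ) = ((2 * Curv2.genus k X - 1 : ℕ) : ℤ) + 1 := by
      rw [a]
      ring
    exact_mod_cast this

end Gap

end Groth.Agent.Lead.CV
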