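import Mathlib
import Groth.Agent.Lib.Lead.CV11

/-!
# Rank two bundles of odd degree on a curve of genus one (lead)
-/

set_option autoImplicit false
set_option backward.isDefEq.respectTransparency.types false
set_option synthInstance.maxHeartbeats 400000
set_option linter.style.haveILetI false
set_option linter.unusedSectionVars false
set_option linter.unusedVariables false
universe u
open CategoryTheory CategoryTheory.Limits AlgebraicGeometry TopologicalSpace Opposite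

namespace Groth.Agent.Lead.CV

open Groth.Agent.Helper1.QcCech Groth.Agent.Helper1.SubSh Groth.Agent.Helper1.LGen
open Groth.Agent.Helper1.TmulLib Groth.Agent.Helper1 Groth.Agent.Helper1.TwForm
open Groth.Agent.Helper1.TensGen Groth.Agent.Lib.Helper4.TwExact Groth.Agent.Helper1.Dv
open Groth.Agent.Lib.Helper4 Groth.Agent.Helper1.CurveAmp Groth.Agent.Helper1.FinSupp
open Groth.Agent.Helper1.Euler Groth.Agent.Helper1.Curve Groth.Agent.Helper1.CurveLin
open Groth.Agent.Helper1.CurveDual Groth.Agent.Lead.HN Groth.Agent.Lead.VBL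
open Groth.Agent.Helper1.CurvePt Groth.Agent.Helper1.PtInv Groth.Agent.Helper1.ProjF

section SimpleIndec

variable (k : Type u) [Field k] (X : Scheme.{u}) [X.Over (Spec (CommRingCat.of k))]

/-- a simple module is indecomposable -/
theorem indec_of_simple (E : X.Modules) (hsimple : ∀ φ : E ⟶ E, ∃ c : k, φ = c • 𝟙 E)
    (E₁ E₂ : X.Modules) (e : E ≅ E₁ ⊞ E₂) : IsZero E₁ ∨ IsZero E₂ := by
  obtain ⟨c, hc⟩ := hsimple (e.hom ≫ (biprod.fst ≫ biprod.inl) ≫ e.inv)
  have hp : (biprod.fst ≫ biprod.inl : E₁ ⊞ E₂ ⟶ E₁ ⊞ E₂) = c • 𝟙 (E₁ ⊞ E₂) := by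
    have h1 : e.inv ≫ (e.hom ≫ (biprod.fst ≫ biprod.inl) ≫ e.inv) ≫ e.hom =
        biprod.fst ≫ biprod.inl := by simp
    rw [← h1, hc]
    simp
  by_cases hc0 : c = 0
  · left
    rw [hc0, zero_smul] at hp
    have h2 : (biprod.inl : E₁ ⟶ E₁ ⊞ E₂) ≫
        ((biprod.fst : E₁ ⊞ E₂ ⟶ E₁) ≫ (biprod.inl : E₁ ⟶ E₁ ⊞ E₂)) =
        (biprod.inl : E₁ ⟶ E₁ ⊞ E₂) := by simp
    rw [hp, comp_zero] at h2
    have h3 : 𝟙 E₁ = 0 := by
      have : (biprod.inl : E₁ ⟶ E₁ ⊞ E₂) ≫ biprod.fst = 𝟙 E₁ := biprod.inl_fst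
      rw [← this, ← h2, zero_comp]
    exact (IsZero.iff_id_eq_zero _).2 h3
  · right
    have h2 : (biprod.inr : E₂ ⟶ E₁ ⊞ E₂) ≫
        ((biprod.fst : E₁ ⊞ E₂ ⟶ E₁) ≫ (biprod.inl : E₁ ⟶ E₁ ⊞ E₂)) = 0 := by simp
    rw [hp, Linear.comp_smul, Category.comp_id] at h2
    have h3 : (biprod.inr : E₂ ⟶ E₁ ⊞ E₂) = 0 := (smul_eq_zero.1 h2).resolve_left hc0
    have h4 : 𝟙 E₂ = 0 := by
      have : (biprod.inr : E₂ ⟶ E₁ ⊞ E₂) ≫ biprod.snd = 𝟙 E₂ := biprod.inr_snd
      rw [← this, h3, zero_comp]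
    exact (IsZero.iff_id_eq_zero _).2 h4

end SimpleIndec

section Odd

variable (k : Type u) [Field k] [IsAlgClosed k] (X : Scheme.{u}) [X.Over (Spec (CommRingCat.of k))]
  [IsIntegral X] [IsProper (X ↘ (Spec (CommRingCat.of k)))] [Smooth (X ↘ (Spec (CommRingCat.of k)))]

/-- indecomposable rank two bundles on a genus one curve are semistable -/
theorem semistable_of_indec_genus_one (hdim : topologicalKrullDim X = 1)
    (hg : Curv2.genus k X = 1) (E : X.Modules) (hE : FlatMod.IsFinLocFreeOfRank 2 E)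
    (hind : ∀ (E₁ E₂ : X.Modules), Nonempty (E ≅ E₁ ⊞ E₂) → IsZero E₁ ∨ IsZero E₂)
    (F : X.Modules) (r' : ℕ) (i : F ⟶ E) (hi : Mono i) (hr' : 0 < r')
    (hF : FlatMod.IsFinLocFreeOfRank r' F) :
    Curv2.deg k X F r' * (2 : ℤ) ≤ Curv2.deg k X E 2 * (r' : ℤ) := by
  haveI := hi
  have hle : r' ≤ 2 := rank_le_of_mono (genericPoint X) hF hE i
  have hr2 : r' = 1 ∨ r' = 2 := by omega
  rcases hr2 with rfl | rfl
  · have hFi : PicF.IsInvertible F := VBL.isInvertible_of_rank_one X hF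
    have h := (sub_deg_bounds_of_indec k X hdim E hE hind).1 F i hFi hi
    rw [hg] at h
    push_cast at h ⊢
    linarith
  · have := deg_le_of_mono_of_rank_eq k X hdim hF hE i
    push_cast
    linarith

end Odd

end Groth.Agent.Lead.CV
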