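import Mathlib
import Groth.Agent.Lib.Lead.CV12
import Groth.Agent.Lib.Helper4.KosB2

/-!
# Right exactness of the tensor product of modules, left unit, and global generation (lead)
-/

set_option autoImplicit false
set_option backward.isDefEq.respectTransparency.types false
set_option synthInstance.maxHeartbeats 400000
set_option linter.style.haveILetI false
set_option linter.unusedSectionVars false
set_option linter.unusedVariables false
universe u
open CategoryTheory CategoryTheory.Limits AlgebraicGeometry TopologicalSpace Opposite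

namespace Groth.Agent.Lead.GG

open Groth.Agent.Helper1.QcCech Groth.Agent.Helper1.SubSh Groth.Agent.Helper1.LGen
open Groth.Agent.Helper1.TmulLib Groth.Agent.Helper1 Groth.Agent.Helper1.TwForm
open Groth.Agent.Helper1.TensGen Groth.Agent.Lib.Helper4.TwExact Groth.Agent.Helper1.Dv
open Groth.Agent.Lib.Helper4 Groth.Agent.Lib.Helper4.KosB2
open Groth.Agent.Helper1.CurveAmp Groth.Agent.Helper1.FinSupp
open Groth.Agent.Helper1.Euler Groth.Agent.Helper1.Curve Groth.Agent.Helper1.CurveLin
open Groth.Agent.Helper1.CurveDual Groth.Agent.Lead.HN Groth.Agent.Lead.VBL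
open Groth.Agent.Helper1.CurvePt Groth.Agent.Helper1.PtInv Groth.Agent.Helper1.ProjF

section RightExact

variable {X : Scheme.{u}} {A A' B B' : X.Modules}

/-- local lifting of sections of the presheaf tensor product along a tensor product of two
epimorphisms -/
theorem exists_local_lift_tensor (f : A ⟶ A') (g : B ⟶ B') [Epi f] [Epi g] (V : X.Opens)
    (p : (CohB1.tensorPre A' B').obj (op V)) (x : X) (hx : x ∈ V) :
    ∃ (W : X.Opens) (hW : W ≤ V), x ∈ W ∧ ∃ s : Γ(CohB1.tensorMod A B, W),
      (KoszTw.tensorMap f g).app W s = res (CohB1.tensorMod A' B') hW (toT A' B' V p) := by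
  induction p using TensorProduct.induction_on with
  | zero =>
    refine ⟨V, le_rfl, hx, 0, ?_⟩
    have h0 : toT A' B' V 0 = 0 := map_zero _
    exact (map_zero _).trans
      ((congrArg (fun z => res (CohB1.tensorMod A' B') (le_refl V) z) h0).trans (map_zero _)).symm
  | tmul a' b' =>
    obtain ⟨V₁, hV₁, a, hx₁, ha⟩ := Groth.Agent.Lib.Helper5.LocLift.exists_local_lift f V a' x hx
    obtain ⟨V₂, hV₂, b, hx₂, hb⟩ := Groth.Agent.Lib.Helper5.LocLift.exists_local_lift g V b' x hx
    refine ⟨V₁ ⊓ V₂, inf_le_left.trans hV₁, ⟨hx₁, hx₂⟩,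
      tm A B (V₁ ⊓ V₂) (res A inf_le_left a) (res B inf_le_right b), ?_⟩
    rw [tensorMap_tm, QcExt.app_res, QcExt.app_res]
    have ha' : f.app V₁ a = res A' hV₁ a' := ha
    have hb' : g.app V₂ b = res B' hV₂ b' := hb
    rw [ha', hb', res_res, res_res]
    have h1 : toT A' B' V (a' ⊗ₜ b') = tm A' B' V a' b' := rfl
    exact ((congrArg (fun z => res (CohB1.tensorMod A' B') (inf_le_left.trans hV₁) z) h1).trans
      (res_tm A' B' (inf_le_left.trans hV₁) a' b')).symm
  | add p q hp hq =>
    obtain ⟨W₁, hW₁, hx₁, s₁, hs₁⟩ := hp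
    obtain ⟨W₂, hW₂, hx₂, s₂, hs₂⟩ := hq
    refine ⟨W₁ ⊓ W₂, inf_le_left.trans hW₁, ⟨hx₁, hx₂⟩,
      res _ inf_le_left s₁ + res _ inf_le_right s₂, ?_⟩
    rw [map_add, QcExt.app_res, QcExt.app_res, hs₁, hs₂, res_res, res_res]
    have h2 : toT A' B' V (p + q) = toT A' B' V p + toT A' B' V q := map_add _ _ _
    exact ((congrArg (fun z => res (CohB1.tensorMod A' B') (inf_le_left.trans hW₁) z) h2).trans
      (map_add _ _ _)).symm

/-- the tensor product of two epimorphisms is an epimorphism -/
theorem epi_tensorMap (f : A ⟶ A') (g : B ⟶ B') [Epi f] [Epi g] : Epi (KoszTw.tensorMap f g) := by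
  apply SerreCrit.epi_of_locally_surjective
  intro U t x hx
  obtain ⟨V, hV, p, hxV, hp⟩ := toT_locally_surjective A' B' U t x hx
  obtain ⟨W, hW, hxW, s, hs⟩ := exists_local_lift_tensor f g V p x hxV
  refine ⟨W, hW.trans hV, hxW, s, ?_⟩
  rw [hs, hp, res_res]

end RightExact

section LUnit

variable {X : Scheme.{u}}

/-- the scalar multiplication pairing `O × F → F` -/
noncomputable def lunitP (F : X.Modules) : TensLib.Pairing (Coh.structureModule X) F F where
  β := fun U r l => (show (X.sheaf.obj ⋙ forget₂ CommRingCat RingCat.{u}).obj U from r) • l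
  add_left := fun U m₁ m₂ n => add_smul _ _ _
  smul_left := fun U a m n => mul_smul _ _ _
  add_right := fun U m n₁ n₂ => smul_add _ _ _
  smul_right := fun U a m n => smul_comm _ _ _
  nat := fun f m n => PresheafOfModules.map_smul _ _ _ _

/-- the left unit morphism `O ⊗ F ⟶ F` -/
noncomputable def lunit (F : X.Modules) : CohB1.tensorMod (Coh.structureModule X) F ⟶ F :=
  ProjF.descP (lunitP F)

theorem lunit_tm (F : X.Modules) (U : X.Opens) (r : Γ(Coh.structureModule X, U)) (m : Γ(F, U)) :
    (lunit F).app U (tm (Coh.structureModule X) F U r m) = (show Γ(X, U) from r) • m :=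
  ProjF.descP_tm (lunitP F) U r m

instance isIso_lunit (F : X.Modules) : IsIso (lunit F) := by
  refine ProjF.isIso_descP (lunitP F) (fun _ => True) (fun x => ⟨⊤, trivial, trivial⟩)
    (fun _ _ _ _ => trivial) ?_
  intro V _
  refine TensLib.lift_bijective (LinearMap.mk₂ _ ((lunitP F).β (op V)) ((lunitP F).add_left _)
    ((lunitP F).smul_left _) ((lunitP F).add_right _) ((lunitP F).smul_right _))
    (1 : (X.sheaf.obj ⋙ forget₂ CommRingCat RingCat.{u}).obj (op V)) ?_ ?_
  · have : (fun r : (X.sheaf.obj ⋙ forget₂ CommRingCat RingCat.{u}).obj (op V) =>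
        r • (1 : (X.sheaf.obj ⋙ forget₂ CommRingCat RingCat.{u}).obj (op V))) = id := by
      funext r
      exact mul_one r
    exact this ▸ Function.bijective_id
  · have : (lunitP F).β (op V) (1 : (X.sheaf.obj ⋙ forget₂ CommRingCat RingCat.{u}).obj (op V)) =
        id := by
      funext l
      exact one_smul _ l
    change Function.Bijective ((lunitP F).β (op V)
      (1 : (X.sheaf.obj ⋙ forget₂ CommRingCat RingCat.{u}).obj (op V)))
    rw [this]
    exact Function.bijective_id

/-- the left unit morphism is natural -/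
theorem lunit_natural {F F' : X.Modules} (φ : F ⟶ F') :
    KoszTw.tensorMap (𝟙 (Coh.structureModule X)) φ ≫ lunit F' = lunit F ≫ φ := by
  apply ProjF.hom_ext_tm
  intro U r m
  change (lunit F').app U ((KoszTw.tensorMap (𝟙 (Coh.structureModule X)) φ).app U
    (tm (Coh.structureModule X) F U r m)) = φ.app U ((lunit F).app U (tm _ F U r m))
  have h0 : (KoszTw.tensorMap (𝟙 (Coh.structureModule X)) φ).app U
      (tm (Coh.structureModule X) F U r m) = tm (Coh.structureModule X) F' U r (φ.app U m) :=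
    tensorMap_tm (𝟙 (Coh.structureModule X)) φ U r m
  have h1 : (lunit F').app U (tm (Coh.structureModule X) F' U r (φ.app U m)) =
      (show Γ(X, U) from r) • φ.app U m := lunit_tm F' U r (φ.app U m)
  have h2 : (lunit F).app U (tm (Coh.structureModule X) F U r m) = (show Γ(X, U) from r) • m :=
    lunit_tm F U r m
  rw [h0, h1, h2, Scheme.Modules.Hom.app_smul]

end LUnit

section Sq

variable {X : Scheme.{u}}

/-- interchange: `(f ⊗ B) ≫ (A' ⊗ h) = (A ⊗ h) ≫ (f ⊗ B')` -/
theorem tensR_tensorMap_comm {A A' B B' : X.Modules} (f : A ⟶ A') (h : B ⟶ B') :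
    (tensR B).map f ≫ KoszTw.tensorMap (𝟙 A') h =
      KoszTw.tensorMap (𝟙 A) h ≫ (tensR B').map f := by
  apply ProjF.hom_ext_tm
  intro U a b
  change (KoszTw.tensorMap (𝟙 A') h).app U (((tensR B).map f).app U (tm A B U a b)) =
    ((tensR B').map f).app U ((KoszTw.tensorMap (𝟙 A) h).app U (tm A B U a b))
  have h1 : ((tensR B).map f).app U (tm A B U a b) = tm A' B U (f.app U a) b :=
    tensR_map_tm B f U a b
  have h2 : (KoszTw.tensorMap (𝟙 A) h).app U (tm A B U a b) = tm A B' U a (h.app U b) :=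
    tensorMap_tm (𝟙 A) h U a b
  have h3 : (KoszTw.tensorMap (𝟙 A') h).app U (tm A' B U (f.app U a) b) =
      tm A' B' U (f.app U a) (h.app U b) := tensorMap_tm (𝟙 A') h U (f.app U a) b
  have h4 : ((tensR B').map f).app U (tm A B' U a (h.app U b)) =
      tm A' B' U (f.app U a) (h.app U b) := tensR_map_tm B' f U a (h.app U b)
  rw [h1, h2, h3, h4]

variable (A : Type u) [CommRing A] [X.Over (Spec (CommRingCat.of A))]

theorem app_top_surjective_of_HHlin {M N : X.Modules} (φ : M ⟶ N)
    (h : Function.Surjective (Canon.HHlin A φ 0)) : Function.Surjective (φ.app ⊤) := by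
  intro w
  obtain ⟨y, hy⟩ := h ((HH0.equiv X N).symm w)
  refine ⟨HH0.equiv X M y, ?_⟩
  rw [← CurveLin.equiv_HHlin A, hy, AddEquiv.apply_symm_apply]

end Sq

section Crit

variable (k : Type u) [Field k] [IsAlgClosed k] (X : Scheme.{u}) [X.Over (Spec (CommRingCat.of k))]
  [IsIntegral X] [IsProper (X ↘ Spec (CommRingCat.of k))]

include k in
/-- if `H¹(I_x ⊗ E) = 0` for all closed points `x`, a quotient of `E` killing all global sections
vanishes -/
theorem isZero_of_app_top_eq_zero (hdim : topologicalKrullDim X = 1) {r : ℕ} {E : X.Modules}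
    (hE : FlatMod.IsFinLocFreeOfRank r E)
    (h1 : ∀ (x : X) (hx : IsClosed ({x} : Set X)),
      Subsingleton (Coh.HH X (CohB1.tensorMod (ClSub.idealMod (ptIdeal x hx)) E) 1))
    {C : X.Modules} [C.IsQuasicoherent] (π : E ⟶ C) [Epi π]
    (hπ : ∀ t : Γ(E, ⊤), π.app ⊤ t = 0) : IsZero C := by
  haveI := isNoetherian_of_proper k X
  haveI : IsLocallyNoetherian X := (isNoetherian_of_proper k X).toIsLocallyNoetherian
  have hEc : Coh.IsCoh E := isCoh_of_rank X hE
  haveI : E.IsQuasicoherent := hEc.1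
  have hCc : Coh.IsCoh C := LimTopInj.isCoh_of_epi π hEc
  by_contra hCnz
  have hsupp : (CohB1.support C).Nonempty := by
    rw [Set.nonempty_iff_ne_empty]
    intro he
    exact hCnz (isZero_of_support_subset_empty _ he.subset)
  have hcl : IsClosed (CohB1.support C) := FtGen.isClosed_support _ hCc.2
  obtain ⟨x, hxS, hx⟩ := hcl.exists_closed_singleton hsupp
  have hZ : topologicalKrullDim ((ptIdeal x hx).support : Set X) ≤ 0 := by
    rw [ptIdeal_support]
    haveI : Nonempty ↥({x} : Set X) := ⟨⟨x, rfl⟩⟩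
    exact topologicalKrullDim_zero_of_discreteTopology ↥({x} : Set X)
  have hQc : Coh.IsCoh (ClSub.quotMod (ptIdeal x hx)) := isCoh_quotMod _
  haveI : (ClSub.quotMod (ptIdeal x hx)).IsQuasicoherent := hQc.1
  have hQEc : Coh.IsCoh (CohB1.tensorMod (ClSub.quotMod (ptIdeal x hx)) E) :=
    isCoh_tensor _ _ hQc hEc
  have hQCc : Coh.IsCoh (CohB1.tensorMod (ClSub.quotMod (ptIdeal x hx)) C) :=
    isCoh_tensor _ _ hQc hCc
  have hQd : topologicalKrullDim ↥(CohB1.support (ClSub.quotMod (ptIdeal x hx))) ≤ 0 :=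
    (Groth.Agent.Helper1.Dv.krullDim_le_of_subset (support_quotMod_subset _)).trans hZ
  have hQEd : topologicalKrullDim
      ↥(CohB1.support (CohB1.tensorMod (ClSub.quotMod (ptIdeal x hx)) E)) ≤ 0 := by
    rw [Groth.Agent.Lead.TilT.support_tensorMod _ _ hQc.2 hEc.2]
    exact (Groth.Agent.Helper1.Dv.krullDim_le_of_subset Set.inter_subset_left).trans hQd
  have hQCd : topologicalKrullDim
      ↥(CohB1.support (CohB1.tensorMod (ClSub.quotMod (ptIdeal x hx)) C)) ≤ 0 := by
    rw [Groth.Agent.Lead.TilT.support_tensorMod _ _ hQc.2 hCc.2]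
    exact (Groth.Agent.Helper1.Dv.krullDim_le_of_subset Set.inter_subset_left).trans hQd
  -- step 2: sections of `O ⊗ E` surject onto sections of `Q ⊗ E`
  have hSE := shortExact_map_tensR
    (hasBases_of_isFinLocFree (Groth.Agent.Helper1.FinLen.isFinLocFree_of_rank hE))
    (IdealModL.S (ptIdeal x hx)) (shortExact_S (ptIdeal x hx))
  have hsurj1 : Function.Surjective
      (((IdealModL.S (ptIdeal x hx)).map (tensR E)).g.app ⊤) := by
    apply app_top_surjective_of_HHlin k
    intro y
    haveI : Subsingleton (Coh.HH X ((IdealModL.S (ptIdeal x hx)).map (tensR E)).X₁ (0 + 1)) :=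
      h1 x hx
    exact HHFin2.exact_g_delta k hSE 0 y (Subsingleton.elim _ _)
  -- step 3: sections of `Q ⊗ E` surject onto sections of `Q ⊗ C`
  haveI hψe : Epi (KoszTw.tensorMap (𝟙 (ClSub.quotMod (ptIdeal x hx))) π) := epi_tensorMap _ _
  have hsurj2 : Function.Surjective
      ((KoszTw.tensorMap (𝟙 (ClSub.quotMod (ptIdeal x hx))) π).app ⊤) := by
    haveI : (CohB1.tensorMod (ClSub.quotMod (ptIdeal x hx)) E).IsQuasicoherent := hQEc.1
    haveI : (CohB1.tensorMod (ClSub.quotMod (ptIdeal x hx)) C).IsQuasicoherent := hQCc.1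
    have hKc : Coh.IsCoh (kernel (KoszTw.tensorMap (𝟙 (ClSub.quotMod (ptIdeal x hx))) π)) :=
      FtLocal.isCoh_of_mono (kernel.ι _) hQEc (QcAbel.isQuasicoherent_kernel _)
    have hKd : topologicalKrullDim ↥(CohB1.support
        (kernel (KoszTw.tensorMap (𝟙 (ClSub.quotMod (ptIdeal x hx))) π))) ≤ 0 :=
      (Groth.Agent.Helper1.Dv.krullDim_le_of_subset (support_mono (kernel.ι _))).trans hQEd
    let S2 : ShortComplex X.Modules := ShortComplex.mk
      (kernel.ι (KoszTw.tensorMap (𝟙 (ClSub.quotMod (ptIdeal x hx))) π))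
      (KoszTw.tensorMap (𝟙 (ClSub.quotMod (ptIdeal x hx))) π) (kernel.condition _)
    have hS2 : S2.ShortExact :=
      { exact := ShortComplex.exact_of_f_is_kernel _ (kernelIsKernel _)
        mono_f := inferInstanceAs (Mono (kernel.ι _))
        epi_g := hψe }
    apply app_top_surjective_of_HHlin k
    intro y
    haveI : Subsingleton (Coh.HH X S2.X₁ (0 + 1)) :=
      subsingleton_HH_of_dim_le_zero _ hKc hKd 1 one_pos
    exact HHFin2.exact_g_delta k hS2 0 y (Subsingleton.elim _ _)
  -- step 5: all sections of `Q ⊗ C` vanish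
  have hzero : ∀ t : Γ(CohB1.tensorMod (ClSub.quotMod (ptIdeal x hx)) C, ⊤), t = 0 := by
    intro t
    obtain ⟨u, rfl⟩ := hsurj2 t
    obtain ⟨v, rfl⟩ := hsurj1 u
    have hsq := tensR_tensorMap_comm (IdealModL.S (ptIdeal x hx)).g π
    have h3 : (KoszTw.tensorMap (𝟙 (ClSub.quotMod (ptIdeal x hx))) π).app ⊤
        (((IdealModL.S (ptIdeal x hx)).map (tensR E)).g.app ⊤ v) =
        ((tensR C).map (IdealModL.S (ptIdeal x hx)).g).app ⊤
          ((KoszTw.tensorMap (𝟙 (Coh.structureModule X)) π).app ⊤ v) :=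
      congrArg (fun χ => χ.app ⊤ v) hsq
    have h4 : (KoszTw.tensorMap (𝟙 (Coh.structureModule X)) π).app ⊤ v = 0 := by
      apply FtLocal.app_injective_of_mono (lunit C) ⊤
      rw [map_zero]
      have h5 := congrArg (fun χ => χ.app ⊤ v) (lunit_natural π)
      exact h5.trans (hπ _)
    rw [h3, h4]
    exact map_zero _
  -- step 6: `Q ⊗ C = 0`
  have hsub : Subsingleton (Coh.HH X (CohB1.tensorMod (ClSub.quotMod (ptIdeal x hx)) C) 0) := by
    refine ⟨fun a b => (HH0.equiv X _).injective ?_⟩
    rw [hzero (HH0.equiv X _ a), hzero (HH0.equiv X _ b)]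
  have hQCz : IsZero (CohB1.tensorMod (ClSub.quotMod (ptIdeal x hx)) C) :=
    isZero_of_subsingleton_HH0 k X _ hQCc hQCd hsub
  -- step 7: contradiction on supports
  have hse := Groth.Agent.Lead.EpiPull.support_eq_empty_of_isZero _ hQCz
  rw [Groth.Agent.Lead.TilT.support_tensorMod _ _ hQc.2 hCc.2] at hse
  have hxQ : x ∈ CohB1.support (ClSub.quotMod (ptIdeal x hx)) := by
    have hQnz : ¬ IsZero (ClSub.quotMod (ptIdeal x hx)) := by
      intro hz
      haveI := H1Ext.subsingleton_HH_of_isZero hz 0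
      have h6 := finrank_quotMod_pt k X x hx
      rw [Module.finrank_zero_of_subsingleton] at h6
      exact zero_ne_one h6
    have hne' : (CohB1.support (ClSub.quotMod (ptIdeal x hx))).Nonempty := by
      rw [Set.nonempty_iff_ne_empty]
      intro he
      exact hQnz (isZero_of_support_subset_empty _ he.subset)
    obtain ⟨y, hy⟩ := hne'
    have hy' := support_quotMod_subset _ hy
    rw [ptIdeal_support] at hy'
    rwa [Set.mem_singleton_iff.1 hy'] at hy
  have : x ∈ (∅ : Set X) := hse ▸ ⟨hxQ, hxS⟩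
  exact this

include k in
/-- a vector bundle `E` on a curve with `H¹(I_x ⊗ E) = 0` for all closed points `x` is globally
generated -/
theorem isGloballyGenerated_of_h1_twist (hdim : topologicalKrullDim X = 1) {r : ℕ} {E : X.Modules}
    (hE : FlatMod.IsFinLocFreeOfRank r E)
    (h1 : ∀ (x : X) (hx : IsClosed ({x} : Set X)),
      Subsingleton (Coh.HH X (CohB1.tensorMod (ClSub.idealMod (ptIdeal x hx)) E) 1)) :
    Curv2.IsGloballyGenerated E := by
  rw [GlobGen.isGloballyGenerated_iff]
  have hEc : Coh.IsCoh E := isCoh_of_rank X hE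
  haveI : E.IsQuasicoherent := hEc.1
  haveI hqF : (SheafOfModules.free Γ(E, ⊤) : X.Modules).IsQuasicoherent := inferInstance
  obtain ⟨C, π, hπe, hCq, hπz, hC⟩ : ∃ (C : X.Modules) (π : E ⟶ C), Epi π ∧ C.IsQuasicoherent ∧
      GlobGen.gen E ≫ π = 0 ∧ (IsZero C → Epi (GlobGen.gen E)) :=
    ⟨cokernel (GlobGen.gen E), cokernel.π _, coequalizer.π_epi,
      QcAbel.isQuasicoherent_cokernel _, cokernel.condition _,
      fun hz => Preadditive.epi_of_isZero_cokernel _ hz⟩
  exact hC (isZero_of_app_top_eq_zero k X hdim hE h1 π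
    (GlobGen.app_top_eq_zero_of_gen_comp _ hπz))

end Crit

section Final

variable (k : Type u) [Field k] [IsAlgClosed k] (X : Scheme.{u}) [X.Over (Spec (CommRingCat.of k))]
  [IsIntegral X] [IsProper (X ↘ Spec (CommRingCat.of k))] [Smooth (X ↘ Spec (CommRingCat.of k))]

/-- a semistable bundle of slope `> 2g - 1` is globally generated -/
theorem globGen_of_semistable (hdim : topologicalKrullDim X = 1) (r : ℕ) (hr : 0 < r)
    (E : X.Modules) (hE : FlatMod.IsFinLocFreeOfRank r E)
    (hss : ∀ (F : X.Modules) (r' : ℕ) (i : F ⟶ E), Mono i → 0 < r' →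
      FlatMod.IsFinLocFreeOfRank r' F → Curv2.deg k X F r' * (r : ℤ) ≤ Curv2.deg k X E r * (r' : ℤ))
    (hdeg : (r : ℤ) * (2 * (Curv2.genus k X : ℤ) - 1) < Curv2.deg k X E r) :
    Curv2.IsGloballyGenerated E := by
  haveI := isNoetherian_of_proper k X
  haveI : IsLocallyNoetherian X := (isNoetherian_of_proper k X).toIsLocallyNoetherian
  refine isGloballyGenerated_of_h1_twist k X hdim hE ?_
  intro x hx
  have hI := Groth.Agent.Helper1.PtInv.isInvertible_ptIdeal_of_smooth k X hdim x hx
  have hET := VBQ.isFinLocFreeOfRank_tensor_invertible hE hI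
  have hd := CV.deg_twist k X hdim hE hI
  rw [PtInv.deg_ptIdeal k X x hx] at hd
  have h1 : Subsingleton (Coh.HH X (CohB1.tensorMod E (ClSub.idealMod (ptIdeal x hx))) 1) := by
    refine CV.h1_subsingleton_of_semistable k X hdim r hr _ hET
      (CV.semistable_twist k X hdim hE hI hss) ?_
    rw [hd]
    linarith
  exact (HHFin1.HHequiv k
    (TildeTens.tensorModComm (ClSub.idealMod (ptIdeal x hx)) E) 1).toEquiv.subsingleton

/-- a stable bundle of rank `≥ 2` and slope `≥ 2g - 1` is globally generated -/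
theorem globGen_of_stable (hdim : topologicalKrullDim X = 1) (r : ℕ) (hr : 2 ≤ r)
    (E : X.Modules) (hE : FlatMod.IsFinLocFreeOfRank r E)
    (hst : ∀ (F : X.Modules) (r' : ℕ) (i : F ⟶ E), Mono i → 0 < r' → r' < r →
      FlatMod.IsFinLocFreeOfRank r' F → Curv2.deg k X F r' * (r : ℤ) < Curv2.deg k X E r * (r' : ℤ))
    (hdeg : (r : ℤ) * (2 * (Curv2.genus k X : ℤ) - 1) ≤ Curv2.deg k X E r) :
    Curv2.IsGloballyGenerated E := by
  haveI := isNoetherian_of_proper k X
  haveI : IsLocallyNoetherian X := (isNoetherian_of_proper k X).toIsLocallyNoetherian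
  refine isGloballyGenerated_of_h1_twist k X hdim hE ?_
  intro x hx
  have hI := Groth.Agent.Helper1.PtInv.isInvertible_ptIdeal_of_smooth k X hdim x hx
  have hET := VBQ.isFinLocFreeOfRank_tensor_invertible hE hI
  have hd := CV.deg_twist k X hdim hE hI
  rw [PtInv.deg_ptIdeal k X x hx] at hd
  have h1 : Subsingleton (Coh.HH X (CohB1.tensorMod E (ClSub.idealMod (ptIdeal x hx))) 1) := by
    refine CV.h1_subsingleton_of_stable k X hdim r hr _ hET
      (CV.stable_twist k X hdim hE hI hst) ?_
    rw [hd]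
    linarith
  exact (HHFin1.HHequiv k
    (TildeTens.tensorModComm (ClSub.idealMod (ptIdeal x hx)) E) 1).toEquiv.subsingleton

end Final

end Groth.Agent.Lead.GG
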