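import Mathlib
import Groth.Agent.Lib.Lead.CV2
import Groth.Agent.Lib.Helper1.ColimCoh2
import Groth.Agent.Lib.Lead.FLF1

/-!
# Globally generated modules on curves with `H¹(O) = 0` (lead)
-/

set_option autoImplicit false
set_option backward.isDefEq.respectTransparency.types false
set_option synthInstance.maxHeartbeats 400000
set_option linter.style.haveILetI false
set_option linter.unusedSectionVars false
set_option linter.unusedVariables false
universe u
open CategoryTheory CategoryTheory.Limits AlgebraicGeometry TopologicalSpace Opposite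

namespace Groth.Agent.Lead.GZ

open Groth.Agent.Helper1.QcCech Groth.Agent.Helper1.SubSh Groth.Agent.Helper1.LGen
open Groth.Agent.Helper1.TmulLib Groth.Agent.Helper1 Groth.Agent.Helper1.TwForm
open Groth.Agent.Helper1.TensGen Groth.Agent.Lib.Helper4.TwExact Groth.Agent.Helper1.Dv
open Groth.Agent.Lib.Helper4 Groth.Agent.Helper1.CurveAmp Groth.Agent.Helper1.FinSupp
open Groth.Agent.Helper1.Euler Groth.Agent.Helper1.Curve Groth.Agent.Helper1.CurveLin
open Groth.Agent.Helper1.CurveDual Groth.Agent.Lead.HN

variable (k : Type u) [Field k] (X : Scheme.{u}) [X.Over (Spec (CommRingCat.of k))]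
  [IsProper (X ↘ (Spec (CommRingCat.of k)))]

include k in
/-- on a proper curve with `H¹(O) = 0`, a globally generated quasi-coherent module has `H¹ = 0` -/
theorem h1_subsingleton_of_gg (hdim : topologicalKrullDim X ≤ 1)
    (hg : Subsingleton (Coh.HH X (Coh.structureModule X) 1))
    (E : X.Modules) [E.IsQuasicoherent] (hgg : Curv2.IsGloballyGenerated E) :
    Subsingleton (Coh.HH X E 1) := by
  haveI := isNoetherian_of_proper k X
  haveI := isSeparated_of_proper k X
  obtain ⟨ι, p, hp⟩ := hgg
  haveI := hp
  haveI hqF : (SheafOfModules.free ι : X.Modules).IsQuasicoherent := inferInstance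
  let S : ShortComplex X.Modules := ShortComplex.mk (kernel.ι p) p (kernel.condition p)
  have hS : S.ShortExact :=
    { exact := ShortComplex.exact_of_f_is_kernel _ (kernelIsKernel p)
      mono_f := inferInstanceAs (Mono (kernel.ι p))
      epi_g := hp }
  haveI hK : (kernel p).IsQuasicoherent := QcAbel.isQuasicoherent_kernel p
  have hK2 : Subsingleton (Coh.HH X S.X₁ (1 + 1)) :=
    GV1.subsingleton_HH_of_dim_le_one hdim _ hK 2 le_rfl
  have hF1 : Subsingleton (Coh.HH X (SheafOfModules.free ι : X.Modules) 1) :=
    ColimCoh.subsingleton_HH_sigma (fun _ : ι => Coh.structureModule X) 1 (fun _ => hg)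
  constructor
  intro x y
  obtain ⟨x', hx'⟩ := HHFin2.exact_g_delta k hS 1 x (Subsingleton.elim (h := hK2) _ _)
  obtain ⟨y', hy'⟩ := HHFin2.exact_g_delta k hS 1 y (Subsingleton.elim (h := hK2) _ _)
  rw [← hx', ← hy', Subsingleton.elim (h := hF1) x' y']

end Groth.Agent.Lead.GZ
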