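import Mathlib
import Groth.Agent.Lib.Helper1.CurvePt1
import Groth.Agent.Lib.Helper1.CurveLin4
import Groth.Agent.Lib.Helper4.KosC1
import Groth.Agent.Lib.Helper4.HHFin2
import Groth.Agent.Lib.Helper7.GeomConn.SchemeGlue

/-!
# Connectedness of a closed subscheme and `H¹` of its ideal sheaf (lead)
-/

set_option autoImplicit false
set_option backward.isDefEq.respectTransparency.types false
set_option synthInstance.maxHeartbeats 400000
set_option linter.style.haveILetI false
set_option linter.unusedSectionVars false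
set_option linter.unusedVariables false
universe u
open CategoryTheory CategoryTheory.Limits AlgebraicGeometry TopologicalSpace Opposite

namespace Groth.Agent.Lead.SurfConn

section Alg

variable (k : Type u) [Field k] [IsAlgClosed k] (R : Type u) [CommRing R] [Algebra k R]

/-- a finite reduced connected algebra over an algebraically closed field is the field itself -/
theorem finrank_eq_one_of_idempotents_trivial [Module.Finite k R] [IsReduced R] [Nontrivial R]
    (h : ∀ e : R, IsIdempotentElem e → e = 0 ∨ e = 1) : Module.finrank k R = 1 := by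
  classical
  haveI : IsArtinianRing R := IsArtinianRing.of_finite k R
  have hsub : ∀ m₁ m₂ : MaximalSpectrum R, m₁ = m₂ := by
    intro m₁ m₂
    by_contra hne
    let v : ∀ I : MaximalSpectrum R, R ⧸ I.asIdeal := Pi.single m₁ 1
    have hv : IsIdempotentElem v := by
      change v * v = v
      funext I
      by_cases hI : I = m₁
      · subst hI
        simp [v]
      · simp [v, Pi.single_eq_of_ne hI]
    let e : R := (IsArtinianRing.equivPi R).symm v
    have he : IsIdempotentElem e := by
      change e * e = e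
      rw [← map_mul, hv.eq]
    haveI : Nontrivial (R ⧸ m₁.asIdeal) := Ideal.Quotient.nontrivial_iff.mpr m₁.isMaximal.ne_top
    haveI : Nontrivial (R ⧸ m₂.asIdeal) := Ideal.Quotient.nontrivial_iff.mpr m₂.isMaximal.ne_top
    rcases h e he with h0 | h1
    · have : v = 0 := by
        have := congrArg (IsArtinianRing.equivPi R) h0
        rwa [AlgEquiv.apply_symm_apply, map_zero] at this
      have h2 := congrFun this m₁
      simp [v] at h2
    · have : v = 1 := by
        have := congrArg (IsArtinianRing.equivPi R) h1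
        rwa [AlgEquiv.apply_symm_apply, map_one] at this
      have h2 := congrFun this m₂
      have hne' : m₂ ≠ m₁ := fun h => hne h.symm
      simp [v, Pi.single_eq_of_ne hne'] at h2
  obtain ⟨m, hm⟩ := Ideal.exists_maximal R
  haveI : IsLocalRing R := by
    refine IsLocalRing.of_unique_max_ideal ⟨m, hm, ?_⟩
    intro m' hm'
    exact congrArg MaximalSpectrum.asIdeal (hsub ⟨m', hm'⟩ ⟨m, hm⟩)
  letI : Field R := (IsArtinianRing.isField_of_isReduced_of_isLocalRing R).toField
  haveI : Algebra.IsIntegral k R := Algebra.IsIntegral.of_finite k R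
  have hb := IsAlgClosed.algebraMap_bijective_of_isIntegral (k := k) (K := R)
  let e : k ≃ₗ[k] R := LinearEquiv.ofBijective (Algebra.linearMap k R) hb
  rw [← e.finrank_eq, Module.finrank_self]

end Alg

section Sch

open Groth.Agent.Helper1 Groth.Agent.Lib.Helper4 Groth.Agent.Helper1.CurveLin
open Groth.Agent.Helper1.CurveDual Groth.Agent.Helper1.CurvePt Groth.Agent.Helper1.Euler

section LES
variable (A : Type u) [CommRing A] {X : Scheme.{u}} [X.Over (Spec (CommRingCat.of A))]
variable {S : ShortComplex X.Modules} (hS : S.ShortExact)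

theorem exact_delta_f (i : ℕ) (y : Coh.HH X S.X₁ (i + 1))
    (hy : Canon.HHlin A S.f (i + 1) y = 0) : ∃ x, HHFin2.deltaLin A hS i x = y :=
  Abelian.Ext.covariant_sequence_exact₁.{u, u, u+1} _ (HHFin2.Sab_shortExact hS) y hy rfl

end LES

variable (k : Type u) [Field k] [IsAlgClosed k] (X : Scheme.{u}) [X.Over (Spec (CommRingCat.of k))]
  [IsProper (X ↘ (Spec (CommRingCat.of k)))]

/-- `H⁰(O_D) = k` for a connected reduced closed subscheme -/
theorem finrank_quotMod_eq_one (D : X.IdealSheafData) [ConnectedSpace ↥D.subscheme]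
    [IsReduced D.subscheme] : Module.finrank k (Coh.HH X (ClSub.quotMod D) 0) = 1 := by
  haveI := isNoetherian_of_proper k X
  letI a1 : Algebra k Γ(D.subscheme, ⊤) :=
    (toΓ' k D.subscheme (D.subschemeι ≫ (X ↘ Spec (CommRingCat.of k)))).toAlgebra
  obtain ⟨E⟩ := nonempty_HH_quotMod_linearEquiv k X D
  haveI : Module.Finite k (Coh.HH X (ClSub.quotMod D) 0) :=
    T2Main1.t2 k X _ (isCoh_quotMod _) 0
  haveI : Module.Finite k Γ(D.subscheme, ⊤) := Module.Finite.equiv E
  rw [E.finrank_eq]
  haveI hne : Nonempty ↥D.subscheme := inferInstance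
  haveI : Nontrivial Γ(D.subscheme, ⊤) :=
    @Scheme.component_nontrivial D.subscheme ⊤ ⟨⟨hne.some, trivial⟩⟩
  exact finrank_eq_one_of_idempotents_trivial k _
    (fun e he => Groth.Agent.Helper7.GeomConn.idempotent_trivial_of_connected _ e he)

/-- the image of `1` under `H⁰(O_X) → H⁰(O_D)` is nonzero when `D` is nonempty -/
theorem g_one_ne_zero (D : X.IdealSheafData) [hne : Nonempty ↥D.subscheme] :
    Canon.HHlin k (IdealModL.S D).g 0
      ((HH0.equiv X (Coh.structureModule X)).symm (1 : Γ(X, ⊤))) ≠ 0 := by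
  intro h0
  have h2 := KosC1.HH0_natural k (IdealModL.S D).g
    ((HH0.equiv X (Coh.structureModule X)).symm (1 : Γ(X, ⊤)))
  rw [h0, map_zero] at h2
  have h5 : HH0.equiv X (IdealModL.S D).X₂
      ((HH0.equiv X (Coh.structureModule X)).symm (1 : Γ(X, ⊤))) = (1 : Γ(X, ⊤)) :=
    AddEquiv.apply_symm_apply (HH0.equiv X (Coh.structureModule X)) _
  rw [h5] at h2
  have h3 : (ClSub.toSubscheme D).app ⊤ (1 : Γ(X, ⊤)) = (D.subschemeι.app ⊤).hom 1 :=
    IdealModL.toSubscheme_app D ⊤ 1
  have h4 : (0 : Γ(D.subscheme, D.subschemeι ⁻¹ᵁ ⊤)) = 1 := by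
    rw [← map_one (D.subschemeι.app ⊤).hom]
    exact h2.trans h3
  haveI : Nontrivial Γ(D.subscheme, D.subschemeι ⁻¹ᵁ ⊤) :=
    @Scheme.component_nontrivial D.subscheme _ ⟨⟨hne.some, trivial⟩⟩
  exact zero_ne_one h4

include k in
/-- `H¹(I_D) = 0` for a connected reduced closed subscheme when `H¹(O_X) = 0` -/
theorem h1_idealMod_subsingleton
    (hH1 : Subsingleton (Coh.HH X (Coh.structureModule X) 1))
    (D : X.IdealSheafData) [ConnectedSpace ↥D.subscheme] [IsReduced D.subscheme] :
    Subsingleton (Coh.HH X (ClSub.idealMod D) 1) := by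
  have hS := shortExact_S D
  have h1 := finrank_quotMod_eq_one k X D
  haveI : Nonempty ↥D.subscheme := inferInstance
  have hz := g_one_ne_zero k X D
  have hsurj : ∀ x : Coh.HH X (ClSub.quotMod D) 0,
      ∃ w, Canon.HHlin k (IdealModL.S D).g 0 w = x := by
    intro x
    obtain ⟨c, hc⟩ := (finrank_eq_one_iff_of_nonzero' _ hz).mp h1 x
    exact ⟨c • ((HH0.equiv X (Coh.structureModule X)).symm (1 : Γ(X, ⊤))),
      (map_smul _ _ _).trans hc⟩
  have key : ∀ y : Coh.HH X (ClSub.idealMod D) 1, y = 0 := by
    intro y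
    obtain ⟨x, hx⟩ := exact_delta_f k hS 0 y (Subsingleton.elim (h := hH1) _ _)
    obtain ⟨w, hw⟩ := hsurj x
    rw [← hx, ← hw]
    exact HHFin2.delta_g k hS 0 w
  constructor
  intro a b
  rw [key a, key b]

include k in
/-- a nonempty closed subscheme with `H¹(I_D) = 0` of a proper integral scheme is connected -/
theorem connectedSpace_of_h1_idealMod [IsIntegral X]
    (D : X.IdealSheafData) [hne : Nonempty ↥D.subscheme]
    (hvan : Subsingleton (Coh.HH X (ClSub.idealMod D) 1)) :
    ConnectedSpace ↥D.subscheme := by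
  haveI := isNoetherian_of_proper k X
  have hS := shortExact_S D
  have h0 := finrank_HH_zero_eq_one_of_isAlgClosed k X
  have hsurj : Function.Surjective (Canon.HHlin k (IdealModL.S D).g 0) := fun x =>
    HHFin2.exact_g_delta k hS 0 x (Subsingleton.elim (h := hvan) _ _)
  have hOc : Coh.IsCoh (Coh.structureModule X) :=
    InvQc.isCoh_of_isInvertible _ GenLoc.isInvertible_O
  haveI : Module.Finite k (Coh.HH X (Coh.structureModule X) 0) := T2Main1.t2 k X _ hOc 0
  haveI : Module.Finite k (Coh.HH X (ClSub.quotMod D) 0) :=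
    T2Main1.t2 k X _ (isCoh_quotMod _) 0
  have hle : Module.finrank k (Coh.HH X (ClSub.quotMod D) 0) ≤ 1 := by
    rw [← h0]
    exact LinearMap.finrank_le_finrank_of_surjective hsurj
  letI a1 : Algebra k Γ(D.subscheme, ⊤) :=
    (toΓ' k D.subscheme (D.subschemeι ≫ (X ↘ Spec (CommRingCat.of k)))).toAlgebra
  obtain ⟨E⟩ := nonempty_HH_quotMod_linearEquiv k X D
  haveI : Module.Finite k Γ(D.subscheme, ⊤) := Module.Finite.equiv E
  haveI : Nontrivial Γ(D.subscheme, ⊤) :=
    @Scheme.component_nontrivial D.subscheme ⊤ ⟨⟨hne.some, trivial⟩⟩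
  have h1 : Module.finrank k Γ(D.subscheme, ⊤) = 1 := by
    have h2 : Module.finrank k Γ(D.subscheme, ⊤) ≤ 1 := by
      rw [← E.finrank_eq]
      exact hle
    have h3 : 0 < Module.finrank k Γ(D.subscheme, ⊤) := Module.finrank_pos
    omega
  apply Groth.Agent.Helper7.GeomConn.connectedSpace_of_idempotent_trivial
  intro e he
  obtain ⟨c, hc⟩ := (finrank_eq_one_iff_of_nonzero' (1 : Γ(D.subscheme, ⊤)) one_ne_zero).mp h1 e
  have hcc : c * c = c := by
    have h4 : (c * c) • (1 : Γ(D.subscheme, ⊤)) = c • (1 : Γ(D.subscheme, ⊤)) := by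
      have h5 : e * e = e := he
      rw [← hc] at h5
      rw [smul_mul_smul_comm, mul_one] at h5
      exact h5
    have hinj : Function.Injective (fun a : k => a • (1 : Γ(D.subscheme, ⊤))) :=
      smul_left_injective k one_ne_zero
    exact hinj h4
  have hc01 : c = 0 ∨ c = 1 := by
    rcases eq_or_ne c 0 with h | h
    · exact Or.inl h
    · right
      exact mul_left_cancel₀ h (by rw [hcc, mul_one])
  rcases hc01 with h | h
  · left
    rw [← hc, h, zero_smul]
  · right
    rw [← hc, h, one_smul]

end Sch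

end Groth.Agent.Lead.SurfConn
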