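import Mathlib
import Groth.Agent.Lib.Lead.GZ1
import Groth.Agent.Lib.Lead.GG1
import Groth.Agent.Lib.Lead.SurfConn1
import Groth.Agent.Lib.Lead.TilT5
import Groth.Agent.Lib.Helper4.KrrI

/-!
# `H¹(E ⊗ F) = 0` for globally generated `E` on curves with `H¹(F) = 0` (lead)
-/

set_option autoImplicit false
set_option backward.isDefEq.respectTransparency.types false
set_option synthInstance.maxHeartbeats 400000
set_option linter.style.haveILetI false
set_option linter.unusedSectionVars false
set_option linter.unusedVariables false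
universe u
open CategoryTheory CategoryTheory.Limits AlgebraicGeometry TopologicalSpace Opposite

namespace Groth.Agent.Lead.GZ

open Groth.Agent.Helper1.QcCech Groth.Agent.Helper1.SubSh Groth.Agent.Helper1.LGen
open Groth.Agent.Helper1.TmulLib Groth.Agent.Helper1 Groth.Agent.Helper1.TwForm
open Groth.Agent.Helper1.TensGen Groth.Agent.Lib.Helper4.TwExact Groth.Agent.Helper1.Dv
open Groth.Agent.Lib.Helper4 Groth.Agent.Helper1.CurveAmp Groth.Agent.Helper1.FinSupp
open Groth.Agent.Helper1.Euler Groth.Agent.Helper1.Curve Groth.Agent.Helper1.CurveLin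
open Groth.Agent.Helper1.CurveDual Groth.Agent.Lead.HN Groth.Agent.Helper1.CurvePt

variable (k : Type u) [Field k] (X : Scheme.{u}) [X.Over (Spec (CommRingCat.of k))]
  [IsProper (X ↘ (Spec (CommRingCat.of k)))]

include k in
/-- on a proper curve, if `H¹(F) = 0` and `E` is globally generated then `H¹(E ⊗ F) = 0` -/
theorem h1_tensor_subsingleton_of_gg (hdim : topologicalKrullDim X ≤ 1)
    (F : X.Modules) [F.IsQuasicoherent] (hF : Subsingleton (Coh.HH X F 1))
    (E : X.Modules) [E.IsQuasicoherent] (hgg : Curv2.IsGloballyGenerated E) :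
    Subsingleton (Coh.HH X (CohB1.tensorMod E F) 1) := by
  haveI := isNoetherian_of_proper k X
  haveI := isSeparated_of_proper k X
  obtain ⟨ι, p, hp⟩ := hgg
  haveI := hp
  haveI hqF : (SheafOfModules.free ι : X.Modules).IsQuasicoherent := inferInstance
  let ψ : CohB1.tensorMod (SheafOfModules.free ι : X.Modules) F ⟶ CohB1.tensorMod E F :=
    KoszTw.tensorMap p (𝟙 F)
  haveI hψ : Epi ψ := @Groth.Agent.Lead.GG.epi_tensorMap X _ _ _ _ p (𝟙 F) hp inferInstance
  haveI h1 : (CohB1.tensorMod (SheafOfModules.free ι : X.Modules) F).IsQuasicoherent :=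
    Groth.Agent.Lead.TilT.isQuasicoherent_tensorMod _ _
  haveI h2 : (CohB1.tensorMod E F).IsQuasicoherent :=
    Groth.Agent.Lead.TilT.isQuasicoherent_tensorMod _ _
  let S : ShortComplex X.Modules := ShortComplex.mk (kernel.ι ψ) ψ (kernel.condition ψ)
  have hS : S.ShortExact :=
    { exact := ShortComplex.exact_of_f_is_kernel _ (kernelIsKernel ψ)
      mono_f := inferInstanceAs (Mono (kernel.ι ψ))
      epi_g := hψ }
  haveI hK : (kernel ψ).IsQuasicoherent := QcAbel.isQuasicoherent_kernel ψ
  have hK2 : Subsingleton (Coh.HH X S.X₁ (1 + 1)) :=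
    GV1.subsingleton_HH_of_dim_le_one hdim _ hK 2 le_rfl
  have hF1 : Subsingleton
      (Coh.HH X (CohB1.tensorMod (SheafOfModules.free ι : X.Modules) F) 1) := by
    refine Dv.subsingleton_HH_of_iso (Groth.Agent.Lib.Helper4.KrrI.freeTensorIso ι F) 1 ?_
    exact ColimCoh.subsingleton_HH_sigma (fun _ : ι => F) 1 (fun _ => hF)
  constructor
  intro x y
  obtain ⟨x', hx'⟩ := HHFin2.exact_g_delta k hS 1 x (Subsingleton.elim (h := hK2) _ _)
  obtain ⟨y', hy'⟩ := HHFin2.exact_g_delta k hS 1 y (Subsingleton.elim (h := hK2) _ _)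
  rw [← hx', ← hy', Subsingleton.elim (h := hF1) x' y']

include k in
/-- `H¹(E ⊗ I_p) = 0` for a globally generated `E` on a proper curve with `H¹(O) = 0`
over an algebraically closed field -/
theorem h1_tensor_pt_subsingleton_of_gg [IsAlgClosed k] (hdim : topologicalKrullDim X ≤ 1)
    (hg : Subsingleton (Coh.HH X (Coh.structureModule X) 1))
    (E : X.Modules) [E.IsQuasicoherent] (hgg : Curv2.IsGloballyGenerated E)
    (p : X) (hp : IsClosed ({p} : Set X)) :
    Subsingleton (Coh.HH X (CohB1.tensorMod E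
      (ClSub.idealMod (Scheme.IdealSheafData.vanishingIdeal (⟨{p}, hp⟩ : Closeds X)))) 1) := by
  haveI h1 : IsIntegral (ptIdeal p hp).subscheme := isIntegral_pt p hp
  haveI h2 : IsIntegral
      (Scheme.IdealSheafData.vanishingIdeal (⟨{p}, hp⟩ : Closeds X)).subscheme := h1
  haveI : IsReduced
      (Scheme.IdealSheafData.vanishingIdeal (⟨{p}, hp⟩ : Closeds X)).subscheme := inferInstance
  haveI : IrreducibleSpace
      ↥(Scheme.IdealSheafData.vanishingIdeal (⟨{p}, hp⟩ : Closeds X)).subscheme :=
    inferInstance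
  haveI : ConnectedSpace
      ↥(Scheme.IdealSheafData.vanishingIdeal (⟨{p}, hp⟩ : Closeds X)).subscheme :=
    inferInstance
  have h3 := Groth.Agent.Lead.SurfConn.h1_idealMod_subsingleton k X hg
    (Scheme.IdealSheafData.vanishingIdeal (⟨{p}, hp⟩ : Closeds X))
  haveI : (ClSub.idealMod
      (Scheme.IdealSheafData.vanishingIdeal (⟨{p}, hp⟩ : Closeds X))).IsQuasicoherent :=
    IdealModL.isQuasicoherent_idealMod _
  exact h1_tensor_subsingleton_of_gg k X hdim _ h3 E hgg

end Groth.Agent.Lead.GZ
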