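import Mathlib
import Groth.Agent.Lib.Lead.GZ2
import Groth.Agent.Lib.Helper1.GlobGenLoc
import Groth.Agent.Lib.Helper5.LTen.Assoc1
import Groth.Agent.Lib.Helper1.AmpleLib4
import Groth.Agent.Lib.Helper4.ClBridge4
import Groth.Agent.Lib.Lead.EpiPull
import Groth.Agent.Lib.Lead.TilT6
import Groth.Agent.Lib.Helper4.ZeroDim1
import Groth.Agent.Lib.Helper1.FtSupp
import Groth.Agent.Lib.Helper5.Perf.LocalCoh

/-!
# Closure properties of globally generated modules; `H¹(E ⊗ W) = 0` classes on curves (lead)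
-/

set_option autoImplicit false
set_option backward.isDefEq.respectTransparency.types false
set_option synthInstance.maxHeartbeats 400000
set_option linter.style.haveILetI false
set_option linter.unusedSectionVars false
set_option linter.unusedVariables false
universe u
open CategoryTheory CategoryTheory.Limits AlgebraicGeometry TopologicalSpace Opposite

namespace Groth.Agent.Lead.GZ

open Groth.Agent.Helper1.QcCech Groth.Agent.Helper1.SubSh Groth.Agent.Helper1.LGen
open Groth.Agent.Helper1.TmulLib Groth.Agent.Helper1 Groth.Agent.Helper1.TwForm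
open Groth.Agent.Helper1.TensGen Groth.Agent.Lib.Helper4.TwExact Groth.Agent.Helper1.Dv
open Groth.Agent.Lib.Helper4 Groth.Agent.Helper1.CurveAmp Groth.Agent.Helper1.FinSupp
open Groth.Agent.Helper1.Euler Groth.Agent.Helper1.Curve Groth.Agent.Helper1.CurveLin
open Groth.Agent.Helper1.CurveDual Groth.Agent.Lead.HN Groth.Agent.Helper1.CurvePt
open Groth.Agent.Helper1.GlobGen

section GG

variable {X : Scheme.{u}}

/-- a map killing all global sections kills `gen` -/
theorem gen_comp_eq_zero {M N : X.Modules} (h : M ⟶ N) (hh : ∀ t : Γ(M, ⊤), h.app ⊤ t = 0) :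
    gen M ≫ h = 0 := by
  apply N.freeHomEquiv.injective
  ext1 t
  have h1 : N.freeHomEquiv (gen M ≫ h) t = SheafOfModules.sectionsMap h (secOfTop M t) := by
    rw [SheafOfModules.freeHomEquiv_comp_apply, gen, Equiv.apply_symm_apply]
  rw [h1]
  apply sections_ext_top
  rw [sectionsMap_eval, secOfTop_eval_top, hh]
  rfl

/-- criterion: `M` is globally generated iff every map out of `M` killing the global sections
vanishes -/
theorem isGloballyGenerated_of_forall_eq_zero (M : X.Modules)
    (h : ∀ (N : X.Modules) (π : M ⟶ N), (∀ t : Γ(M, ⊤), π.app ⊤ t = 0) → π = 0) :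
    Curv2.IsGloballyGenerated M := by
  rw [isGloballyGenerated_iff]
  apply Preadditive.epi_of_cancel_zero
  intro N π hπ
  exact h N π (fun t => app_top_eq_zero_of_gen_comp π hπ t)

theorem eq_zero_of_isGloballyGenerated {M N : X.Modules} (hM : Curv2.IsGloballyGenerated M)
    (π : M ⟶ N) (h : ∀ t : Γ(M, ⊤), π.app ⊤ t = 0) : π = 0 := by
  rw [isGloballyGenerated_iff] at hM
  haveI := hM
  have h1 := gen_comp_eq_zero π h
  exact (cancel_epi (gen M)).mp (h1.trans comp_zero.symm)

/-- coproducts of globally generated modules are globally generated -/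
theorem isGloballyGenerated_sigma {ι : Type u} (M : ι → X.Modules)
    (hM : ∀ i, Curv2.IsGloballyGenerated (M i)) : Curv2.IsGloballyGenerated (∐ M) := by
  apply isGloballyGenerated_of_forall_eq_zero
  intro N π hπ
  apply Sigma.hom_ext
  intro i
  rw [comp_zero]
  apply eq_zero_of_isGloballyGenerated (hM i)
  intro t
  have h1 := hπ ((Sigma.ι M i).app ⊤ t)
  exact h1

/-- an extension of globally generated modules is globally generated if global sections lift -/
theorem isGloballyGenerated_of_shortExact {S : ShortComplex X.Modules} (hS : S.ShortExact)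
    (h₁ : Curv2.IsGloballyGenerated S.X₁) (h₃ : Curv2.IsGloballyGenerated S.X₃)
    (hsurj : ∀ t : Γ(S.X₃, ⊤), ∃ t' : Γ(S.X₂, ⊤), S.g.app ⊤ t' = t) :
    Curv2.IsGloballyGenerated S.X₂ := by
  apply isGloballyGenerated_of_forall_eq_zero
  intro N π hπ
  have h1 : S.f ≫ π = 0 := by
    apply eq_zero_of_isGloballyGenerated h₁
    intro t
    exact hπ (S.f.app ⊤ t)
  haveI := hS.epi_g
  obtain ⟨π', hπ'⟩ : ∃ π' : S.X₃ ⟶ N, S.g ≫ π' = π :=
    ⟨hS.exact.desc π h1, hS.exact.g_desc π h1⟩
  have h2 : π' = 0 := by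
    apply eq_zero_of_isGloballyGenerated h₃
    intro t
    obtain ⟨t', rfl⟩ := hsurj t
    have h3 := hπ t'
    rw [← hπ'] at h3
    exact h3
  rw [← hπ', h2, comp_zero]

end GG

section Tens

variable {X : Scheme.{u}}

theorem isGloballyGenerated_structureModule :
    Curv2.IsGloballyGenerated (Coh.structureModule X) := by
  have h : IsSplitEpi (Sigma.desc (fun _ : PUnit.{u+1} => 𝟙 (Coh.structureModule X))) :=
    ⟨⟨Sigma.ι (fun _ : PUnit.{u+1} => Coh.structureModule X) PUnit.unit, by simp⟩⟩
  exact ⟨PUnit.{u+1}, Sigma.desc (fun _ : PUnit.{u+1} => 𝟙 (Coh.structureModule X)),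
    @IsSplitEpi.epi _ _ _ _ _ h⟩

/-- the associator of the tensor product of `O_X`-modules -/
noncomputable def tensorModAssoc (M N P : X.Modules) :
    CohB1.tensorMod (CohB1.tensorMod M N) P ≅ CohB1.tensorMod M (CohB1.tensorMod N P) :=
  Groth.Agent.Lib.Helper5.TenAssoc.assocObj (O := X.sheaf) M N P

theorem isGloballyGenerated_tensorMod {P E : X.Modules} (hP : Curv2.IsGloballyGenerated P)
    (hE : Curv2.IsGloballyGenerated E) : Curv2.IsGloballyGenerated (CohB1.tensorMod P E) := by
  obtain ⟨ι, p, hp⟩ := hP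
  have h1 : Curv2.IsGloballyGenerated (CohB1.tensorMod (SheafOfModules.free ι : X.Modules) E) :=
    AmpleLib.isGloballyGenerated_of_iso (Groth.Agent.Lib.Helper4.KrrI.freeTensorIso ι E).symm
      (isGloballyGenerated_sigma _ (fun _ => hE))
  exact ClBridge4.isGloballyGenerated_of_epi (KoszTw.tensorMap p (𝟙 E))
    (@Groth.Agent.Lead.GG.epi_tensorMap X _ _ _ _ p (𝟙 E) hp inferInstance) h1

theorem tensorPow_gg_qcoh (E : X.Modules) [E.IsQuasicoherent]
    (hgg : Curv2.IsGloballyGenerated E) (n : ℕ) :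
    Curv2.IsGloballyGenerated (CohB1.tensorPow E n) ∧ (CohB1.tensorPow E n).IsQuasicoherent := by
  induction n with
  | zero =>
    exact ⟨isGloballyGenerated_structureModule,
      inferInstanceAs (Coh.structureModule X).IsQuasicoherent⟩
  | succ n ih =>
    haveI := ih.2
    exact ⟨isGloballyGenerated_tensorMod ih.1 hgg,
      Groth.Agent.Lead.TilT.isQuasicoherent_tensorMod _ _⟩

end Tens

section DefAmple

variable (k : Type u) [Field k] (X : Scheme.{u}) [X.Over (Spec (CommRingCat.of k))]
  [IsProper (X ↘ (Spec (CommRingCat.of k)))]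

include k in
theorem defAmple_tensorPow (hdim : topologicalKrullDim X ≤ 1)
    (W : X.Modules) [W.IsQuasicoherent] (E : X.Modules) [E.IsQuasicoherent]
    (hgg : Curv2.IsGloballyGenerated E)
    (h1 : Subsingleton (Coh.HH X (CohB1.tensorMod E W) 1)) (n : ℕ) (hn : 1 ≤ n) :
    Curv2.IsGloballyGenerated (CohB1.tensorPow E n) ∧
      Subsingleton (Coh.HH X (CohB1.tensorMod (CohB1.tensorPow E n) W) 1) := by
  refine ⟨(tensorPow_gg_qcoh E hgg n).1, ?_⟩
  obtain ⟨m, rfl⟩ : ∃ m, n = m + 1 := ⟨n - 1, by omega⟩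
  haveI := (tensorPow_gg_qcoh E hgg m).2
  haveI : (CohB1.tensorMod E W).IsQuasicoherent :=
    Groth.Agent.Lead.TilT.isQuasicoherent_tensorMod _ _
  have h2 := h1_tensor_subsingleton_of_gg k X hdim (CohB1.tensorMod E W) h1
    (CohB1.tensorPow E m) (tensorPow_gg_qcoh E hgg m).1
  exact Dv.subsingleton_HH_of_iso (tensorModAssoc (CohB1.tensorPow E m) E W) 1 h2

end DefAmple

section RightExact

variable {X : Scheme.{u}}

/-- the functor `− ⊗ W` -/
noncomputable abbrev tensR' (W : X.Modules) : X.Modules ⥤ X.Modules :=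
  (DCoh.tensorBi (X := X)).flip.obj W

instance additive_tensR' (W : X.Modules) : (tensR' W).Additive where
  map_add {M N f g} := by
    change ((DCoh.tensorBi (X := X)).map (f + g)).app W = _
    rw [Functor.map_add]
    rfl

instance preservesFiniteColimits_tensR' (W : X.Modules) : PreservesFiniteColimits (tensR' W) := by
  haveI : PreservesColimitsOfSize.{u, u} (tensR' W) :=
    Groth.Agent.Lib.Helper5.TensorSheaf.tensorBi_flip_obj_preservesColimits (O := X.sheaf) W
  exact PreservesColimitsOfSize.preservesFiniteColimits _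

theorem tensR'_exact {S : ShortComplex X.Modules} (hS : S.ShortExact) (W : X.Modules) :
    (S.map (tensR' W)).Exact ∧ Epi ((tensR' W).map S.g) :=
  (Functor.preservesFiniteColimits_iff_forall_exact_map_and_epi (tensR' W)).mp inferInstance S hS

end RightExact

section Curve

variable (k : Type u) [Field k] (X : Scheme.{u}) [X.Over (Spec (CommRingCat.of k))]
  [IsProper (X ↘ (Spec (CommRingCat.of k)))]

include k in
/-- on a proper curve, `H¹` of a quotient of a module with vanishing `H¹` vanishes -/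
theorem h1_subsingleton_of_epi (hdim : topologicalKrullDim X ≤ 1)
    {M N : X.Modules} [M.IsQuasicoherent] [N.IsQuasicoherent] (ψ : M ⟶ N) [hψ : Epi ψ]
    (hM : Subsingleton (Coh.HH X M 1)) : Subsingleton (Coh.HH X N 1) := by
  haveI := isNoetherian_of_proper k X
  haveI := isSeparated_of_proper k X
  let S : ShortComplex X.Modules := ShortComplex.mk (kernel.ι ψ) ψ (kernel.condition ψ)
  have hS : S.ShortExact :=
    { exact := ShortComplex.exact_of_f_is_kernel _ (kernelIsKernel ψ)
      mono_f := inferInstanceAs (Mono (kernel.ι ψ))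
      epi_g := hψ }
  haveI hK : (kernel ψ).IsQuasicoherent := QcAbel.isQuasicoherent_kernel ψ
  have hK2 : Subsingleton (Coh.HH X S.X₁ (1 + 1)) :=
    GV1.subsingleton_HH_of_dim_le_one hdim _ hK 2 le_rfl
  constructor
  intro x y
  obtain ⟨x', hx'⟩ := HHFin2.exact_g_delta k hS 1 x (Subsingleton.elim (h := hK2) _ _)
  obtain ⟨y', hy'⟩ := HHFin2.exact_g_delta k hS 1 y (Subsingleton.elim (h := hK2) _ _)
  rw [← hx', ← hy', Subsingleton.elim (h := hM) x' y']

include k in
/-- vanishing of `H^i` is closed under extensions -/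
theorem hh_subsingleton_of_shortExact {S : ShortComplex X.Modules} (hS : S.ShortExact) (i : ℕ)
    (h₁ : Subsingleton (Coh.HH X S.X₁ i)) (h₃ : Subsingleton (Coh.HH X S.X₃ i)) :
    Subsingleton (Coh.HH X S.X₂ i) := by
  constructor
  intro x y
  obtain ⟨x', hx'⟩ := HHFin2.exact_f_g k hS i x (Subsingleton.elim (h := h₃) _ _)
  obtain ⟨y', hy'⟩ := HHFin2.exact_f_g k hS i y (Subsingleton.elim (h := h₃) _ _)
  rw [← hx', ← hy', Subsingleton.elim (h := h₁) x' y']

include k in
/-- on a proper curve, `H¹(− ⊗ W) = 0` is closed under extensions -/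
theorem h1_tensor_subsingleton_of_shortExact (hdim : topologicalKrullDim X ≤ 1)
    (W : X.Modules) [W.IsQuasicoherent] {S : ShortComplex X.Modules} (hS : S.ShortExact)
    [S.X₁.IsQuasicoherent] [S.X₂.IsQuasicoherent] [S.X₃.IsQuasicoherent]
    (h₁ : Subsingleton (Coh.HH X (CohB1.tensorMod S.X₁ W) 1))
    (h₃ : Subsingleton (Coh.HH X (CohB1.tensorMod S.X₃ W) 1)) :
    Subsingleton (Coh.HH X (CohB1.tensorMod S.X₂ W) 1) := by
  obtain ⟨hex, hepi⟩ := tensR'_exact hS W
  haveI q₁ : (CohB1.tensorMod S.X₁ W).IsQuasicoherent :=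
    Groth.Agent.Lead.TilT.isQuasicoherent_tensorMod _ _
  haveI q₂ : (CohB1.tensorMod S.X₂ W).IsQuasicoherent :=
    Groth.Agent.Lead.TilT.isQuasicoherent_tensorMod _ _
  haveI q₃ : (CohB1.tensorMod S.X₃ W).IsQuasicoherent :=
    Groth.Agent.Lead.TilT.isQuasicoherent_tensorMod _ _
  let T := S.map (tensR' W)
  haveI q₁' : T.X₁.IsQuasicoherent := q₁
  haveI q₂' : T.X₂.IsQuasicoherent := q₂
  haveI q₃' : T.X₃.IsQuasicoherent := q₃
  haveI hK : (kernel T.g).IsQuasicoherent := QcAbel.isQuasicoherent_kernel T.g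
  haveI hl : Epi (kernel.lift T.g T.f T.zero) := T.exact_iff_epi_kernel_lift.mp hex
  have hK1 : Subsingleton (Coh.HH X (kernel T.g) 1) :=
    h1_subsingleton_of_epi k X hdim (kernel.lift T.g T.f T.zero) h₁
  let S' : ShortComplex X.Modules := ShortComplex.mk (kernel.ι T.g) T.g (kernel.condition T.g)
  have hS' : S'.ShortExact :=
    { exact := ShortComplex.exact_of_f_is_kernel _ (kernelIsKernel T.g)
      mono_f := inferInstanceAs (Mono (kernel.ι T.g))
      epi_g := hepi }
  exact hh_subsingleton_of_shortExact k X hS' 1 hK1 h₃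

include k in
theorem defAmple_of_shortExact (hdim : topologicalKrullDim X ≤ 1)
    (hg : Subsingleton (Coh.HH X (Coh.structureModule X) 1))
    (W : X.Modules) [W.IsQuasicoherent] {S : ShortComplex X.Modules} (hS : S.ShortExact)
    [S.X₁.IsQuasicoherent] [S.X₂.IsQuasicoherent] [S.X₃.IsQuasicoherent]
    (h₁ : Curv2.IsGloballyGenerated S.X₁ ∧ Subsingleton (Coh.HH X (CohB1.tensorMod S.X₁ W) 1))
    (h₃ : Curv2.IsGloballyGenerated S.X₃ ∧ Subsingleton (Coh.HH X (CohB1.tensorMod S.X₃ W) 1)) :
    Curv2.IsGloballyGenerated S.X₂ ∧ Subsingleton (Coh.HH X (CohB1.tensorMod S.X₂ W) 1) := by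
  refine ⟨?_, h1_tensor_subsingleton_of_shortExact k X hdim W hS h₁.2 h₃.2⟩
  have h1 : Subsingleton (Coh.HH X S.X₁ (0 + 1)) := h1_subsingleton_of_gg k X hdim hg S.X₁ h₁.1
  apply isGloballyGenerated_of_shortExact hS h₁.1 h₃.1
  apply Groth.Agent.Lead.GG.app_top_surjective_of_HHlin k S.g
  intro t
  exact HHFin2.exact_g_delta k hS 0 t (Subsingleton.elim (h := h1) _ _)

end Curve

section SuppAlg

open TensorProduct

theorem support_tensorProduct_subset_left {R : Type u} [CommRing R] (M N : Type u)
    [AddCommGroup M] [Module R M] [AddCommGroup N] [Module R N] :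
    Module.support R (M ⊗[R] N) ⊆ Module.support R M := by
  intro p hp
  by_contra hM
  rw [Module.notMem_support_iff'] at hM
  revert hp
  change ¬ (p ∈ Module.support R (M ⊗[R] N))
  rw [Module.notMem_support_iff']
  intro t
  induction t using TensorProduct.induction_on with
  | zero => exact ⟨1, p.asIdeal.primeCompl.one_mem, by simp⟩
  | tmul m n =>
    obtain ⟨r, hr, hrm⟩ := hM m
    exact ⟨r, hr, by rw [TensorProduct.smul_tmul', hrm, TensorProduct.zero_tmul]⟩
  | add a b ha hb =>
    obtain ⟨r, hr, hra⟩ := ha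
    obtain ⟨r', hr', hrb⟩ := hb
    refine ⟨r * r', p.asIdeal.primeCompl.mul_mem hr hr', ?_⟩
    have e1 : (r * r') • a = 0 := by rw [mul_comm, mul_smul, hra, smul_zero]
    have e2 : (r * r') • b = 0 := by rw [mul_smul, hrb, smul_zero]
    rw [smul_add, e1, e2, add_zero]

end SuppAlg

section SuppSh

open Groth.Agent.Lead.TilT TensorProduct

theorem support_tensorMod_subset_left {X : Scheme.{u}} (F G : X.Modules) [F.IsQuasicoherent]
    [G.IsQuasicoherent] :
    CohB1.support (CohB1.tensorMod F G) ⊆ CohB1.support F := by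
  intro x
  obtain ⟨_, ⟨V, hV, rfl⟩, hxV, -⟩ := X.isBasis_affineOpens.exists_subset_of_mem_open
    (Set.mem_univ x) isOpen_univ
  have hx' : x ∈ hV.fromSpec.opensRange := by
    rw [IsAffineOpen.opensRange_fromSpec]
    exact hxV
  obtain ⟨x', rfl⟩ := hx'
  have key : ∀ T : X.Modules, hV.fromSpec.base x' ∈ CohB1.support T ↔
      x' ∈ CohB1.support (T.restrict hV.fromSpec) := by
    intro T
    rw [support_restrict]
    rfl
  rw [key, key, support_eq_of_iso (tensorChartIso F G hV.fromSpec),
    support_eq_of_iso (chartIso F hV.fromSpec), support_tilde, support_tilde]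
  intro h
  exact support_tensorProduct_subset_left (R := Γ(X, V)) (chartMod F hV.fromSpec)
    (chartMod G hV.fromSpec) h

end SuppSh

section FinSuppGG

variable {X : Scheme.{u}}

/-- a module whose stalks vanish outside a finite set of closed points is globally generated -/
theorem isGloballyGenerated_of_finite_support (Q : X.Modules) (Z : Set X) (hZf : Z.Finite)
    (hZc : ∀ z ∈ Z, IsClosed ({z} : Set X))
    (hQ : ∀ x, x ∉ Z → Subsingleton (Q.presheaf.stalk x)) : Curv2.IsGloballyGenerated Q := by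
  classical
  apply isGloballyGenerated_of_forall_eq_zero
  intro N π hπ
  apply Scheme.Modules.hom_ext
  intro U
  ext s
  change π.app U s = 0
  apply FinSupp.eq_of_germ_eq N U
  intro x hxU
  rw [map_zero, ← stalkL_germ]
  by_cases hx : x ∈ Z
  · obtain ⟨g, hg⟩ := exists_section_of_germs Q Z hZf hZc hQ
      (fun z => if h : z.1 ∈ U then Q.presheaf.germ U z.1 h s else 0)
    have h1 := hg ⟨x, hx⟩
    rw [dif_pos hxU] at h1
    rw [← h1, stalkL_germ, hπ g, map_zero]
  · haveI := hQ x hx
    rw [Subsingleton.elim (Q.presheaf.germ U x hxU s) 0, map_zero]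

end FinSuppGG

section Tors

variable (k : Type u) [Field k] (X : Scheme.{u}) [X.Over (Spec (CommRingCat.of k))]
  [IsProper (X ↘ (Spec (CommRingCat.of k)))]

include k in
/-- a quasi-coherent module on a proper curve with `H¹(O) = 0` supported at finitely many closed
points is globally generated with `H¹(Q ⊗ W) = 0` -/
theorem defAmple_of_finite_support (hdim : topologicalKrullDim X ≤ 1)
    (hg : Subsingleton (Coh.HH X (Coh.structureModule X) 1))
    (W : X.Modules) [W.IsQuasicoherent] (Q : X.Modules) [Q.IsQuasicoherent]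
    (Z : Set X) (hZf : Z.Finite) (hZc : ∀ z ∈ Z, IsClosed ({z} : Set X))
    (hQ : CohB1.support Q ⊆ Z) :
    Curv2.IsGloballyGenerated Q ∧ Subsingleton (Coh.HH X (CohB1.tensorMod Q W) 1) := by
  refine ⟨isGloballyGenerated_of_finite_support Q Z hZf hZc
    (fun x hx => not_not.1 (fun h => hx (hQ h))), ?_⟩
  haveI : (CohB1.tensorMod Q W).IsQuasicoherent :=
    Groth.Agent.Lead.TilT.isQuasicoherent_tensorMod _ _
  apply h1_subsingleton_of_gg k X hdim hg
  exact isGloballyGenerated_of_finite_support _ Z hZf hZc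
    (fun x hx => not_not.1 (fun h => hx (hQ (support_tensorMod_subset_left Q W h))))

include k in
theorem defAmple_of_cokernel_torsion (hdim : topologicalKrullDim X ≤ 1)
    (hg : Subsingleton (Coh.HH X (Coh.structureModule X) 1))
    (W : X.Modules) [W.IsQuasicoherent] {E₁ E₂ : X.Modules} [E₁.IsQuasicoherent]
    [E₂.IsQuasicoherent] (hft : CohB1.IsFT E₂) (φ : E₁ ⟶ E₂)
    (htors : ∀ x ∈ CohB1.support (cokernel φ), IsClosed ({x} : Set X))
    (h₁ : Curv2.IsGloballyGenerated E₁ ∧ Subsingleton (Coh.HH X (CohB1.tensorMod E₁ W) 1)) :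
    Curv2.IsGloballyGenerated E₂ ∧ Subsingleton (Coh.HH X (CohB1.tensorMod E₂ W) 1) := by
  haveI := isNoetherian_of_proper k X
  obtain ⟨hCq, hCft⟩ := Groth.Agent.Lead.EpiPull.cokernel_qcoh_ft hft φ
  haveI := hCq
  haveI hIq : (Abelian.image φ).IsQuasicoherent := QcAbel.isQuasicoherent_image φ
  let S : ShortComplex X.Modules := ShortComplex.mk (Abelian.image.ι φ) (cokernel.π φ)
    (kernel.condition _)
  have hS : S.Exact := ShortComplex.exact_of_f_is_kernel _ (kernelIsKernel (cokernel.π φ))
  haveI : Mono S.f := inferInstanceAs (Mono (Abelian.image.ι φ))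
  haveI : Epi S.g := inferInstanceAs (Epi (cokernel.π φ))
  have hSE : S.ShortExact := { exact := hS }
  haveI : S.X₁.IsQuasicoherent := hIq
  haveI : S.X₂.IsQuasicoherent := ‹E₂.IsQuasicoherent›
  haveI : S.X₃.IsQuasicoherent := hCq
  have hZcl : IsClosed (CohB1.support (cokernel φ)) := FtGen.isClosed_support _ hCft
  have hZf : (CohB1.support (cokernel φ)).Finite :=
    Groth.Agent.Lib.Helper4.ZeroDim1.finite_of_closed_points _ hZcl htors
  have h₃ := defAmple_of_finite_support k X hdim hg W (cokernel φ) _ hZf htors subset_rfl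
  haveI hepi : Epi (Abelian.factorThruImage φ) := inferInstance
  have hI : Curv2.IsGloballyGenerated (Abelian.image φ) ∧
      Subsingleton (Coh.HH X (CohB1.tensorMod (Abelian.image φ) W) 1) := by
    refine ⟨ClBridge4.isGloballyGenerated_of_epi _ hepi h₁.1, ?_⟩
    haveI : (CohB1.tensorMod E₁ W).IsQuasicoherent :=
      Groth.Agent.Lead.TilT.isQuasicoherent_tensorMod _ _
    haveI : (CohB1.tensorMod (Abelian.image φ) W).IsQuasicoherent :=
      Groth.Agent.Lead.TilT.isQuasicoherent_tensorMod _ _
    haveI : Epi (KoszTw.tensorMap (Abelian.factorThruImage φ) (𝟙 W)) :=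
      @Groth.Agent.Lead.GG.epi_tensorMap X _ _ _ _ (Abelian.factorThruImage φ) (𝟙 W) hepi
        inferInstance
    exact h1_subsingleton_of_epi k X hdim
      (KoszTw.tensorMap (Abelian.factorThruImage φ) (𝟙 W)) h₁.2
  exact defAmple_of_shortExact k X hdim hg W hSE hI h₃

end Tors

end Groth.Agent.Lead.GZ
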