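import Mathlib
import Groth.Prelude.Def_Rees
import Groth.Prelude.Def_BlowUp2

set_option autoImplicit false
set_option backward.isDefEq.respectTransparency.types false
set_option synthInstance.maxHeartbeats 400000
set_option linter.style.haveILetI false
set_option linter.unusedSectionVars false
universe u
open CategoryTheory CategoryTheory.Limits AlgebraicGeometry TopologicalSpace Opposite

namespace Groth.Agent.Lead.Blow

open Polynomial HomogeneousLocalization

variable {A : Type u} [CommRing A] (I : Ideal A)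

/-- the grading of the Rees algebra -/
abbrev gr : ℕ → Submodule A ↥(reesAlgebra I) := Rees.deg (reesAlgebra I)

/-- the degree `n` element `c X^n` of the Rees algebra -/
noncomputable def mono (n : ℕ) (c : A) (hc : c ∈ I ^ n) : ↥(reesAlgebra I) :=
  ⟨monomial n c, reesAlgebra.monomial_mem.mpr hc⟩

theorem mono_mem (n : ℕ) (c : A) (hc : c ∈ I ^ n) : mono I n c hc ∈ gr I n := by
  intro m hm
  change (monomial n c).coeff m = 0
  have hm' : n ≠ m := fun h => hm h.symm
  rw [coeff_monomial, if_neg hm']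

theorem coe_mono (n : ℕ) (c : A) (hc : c ∈ I ^ n) :
    ((mono I n c hc : ↥(reesAlgebra I)) : A[X]) = monomial n c := rfl

theorem exists_mono_of_mem (n : ℕ) (y : ↥(reesAlgebra I)) (hy : y ∈ gr I n) :
    ∃ (c : A) (hc : c ∈ I ^ n), y = mono I n c hc := by
  refine ⟨(y : A[X]).coeff n, y.2 n, ?_⟩
  apply Subtype.ext
  rw [coe_mono]
  ext m
  rw [coeff_monomial]
  split_ifs with h
  · rw [h]
  · exact hy m (Ne.symm h)

theorem mono_mul (n m : ℕ) (c d : A) (hc : c ∈ I ^ n) (hd : d ∈ I ^ m) :
    mono I n c hc * mono I m d hd =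
      mono I (n + m) (c * d) (by rw [pow_add]; exact Ideal.mul_mem_mul hc hd) := by
  apply Subtype.ext
  simp only [Subalgebra.coe_mul, coe_mono, monomial_mul_monomial]

theorem mono_pow (n k : ℕ) (c : A) (hc : c ∈ I ^ n) :
    mono I n c hc ^ k = mono I (n * k) (c ^ k) (by rw [pow_mul]; exact Ideal.pow_mem_pow hc k) := by
  apply Subtype.ext
  simp only [SubmonoidClass.coe_pow, coe_mono, monomial_pow]

theorem algebraMap_eq_mono (c : A) :
    algebraMap A ↥(reesAlgebra I) c = mono I 0 c (by simp) := by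
  apply Subtype.ext
  rfl

theorem mono_eq_zero_iff (n : ℕ) (c : A) (hc : c ∈ I ^ n) : mono I n c hc = 0 ↔ c = 0 := by
  constructor
  · intro h
    have := congrArg (fun y : ↥(reesAlgebra I) => (y : A[X]).coeff n) h
    simpa [coe_mono] using this
  · rintro rfl
    apply Subtype.ext
    simp [coe_mono]

theorem mono_congr {n m : ℕ} {c d : A} (hc : c ∈ I ^ n) (hd : d ∈ I ^ m) (hnm : n = m)
    (hcd : c = d) : mono I n c hc = mono I m d hd := by
  subst hnm
  subst hcd
  rfl

/-- the degree one element `a X` -/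
noncomputable abbrev tX (a : A) (ha : a ∈ I) : ↥(reesAlgebra I) := mono I 1 a (by simpa using ha)

theorem tX_mem (a : A) (ha : a ∈ I) : tX I a ha ∈ gr I 1 := mono_mem I 1 a _


section Chart

variable (a : A) (ha : a ∈ I)

/-- the chart algebra `A[I/a]` as the degree zero part of the localization of the Rees algebra -/
abbrev Chart : Type u := HomogeneousLocalization.Away (gr I) (tX I a ha)

/-- the structure map `A → A[I/a]` -/
noncomputable def chartMap : A →+* Chart I a ha :=
  (algebraMap (gr I 0) (Chart I a ha)).comp (algebraMap A (gr I 0))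

theorem val_chartMap (x : A) :
    (chartMap I a ha x).val =
      algebraMap ↥(reesAlgebra I) (Localization.Away (tX I a ha)) (algebraMap A _ x) := rfl

/-- the fraction `c X^n / (a X)^n` -/
noncomputable def frac (n : ℕ) (c : A) (hc : c ∈ I ^ n) : Chart I a ha :=
  HomogeneousLocalization.Away.mk (gr I) (tX_mem I a ha) n (mono I n c hc)
    (by simpa using mono_mem I n c hc)

theorem val_frac (n : ℕ) (c : A) (hc : c ∈ I ^ n) :
    (frac I a ha n c hc).val =
      Localization.mk (mono I n c hc)
        (⟨tX I a ha ^ n, ⟨n, rfl⟩⟩ : Submonoid.powers (tX I a ha)) := rfl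

theorem exists_frac (z : Chart I a ha) : ∃ (n : ℕ) (c : A) (hc : c ∈ I ^ n), z = frac I a ha n c hc := by
  obtain ⟨n, y, hy, rfl⟩ := HomogeneousLocalization.Away.mk_surjective (gr I) (tX_mem I a ha) z
  have hy' : y ∈ gr I n := by simpa using hy
  obtain ⟨c, hc, rfl⟩ := exists_mono_of_mem I n y hy'
  exact ⟨n, c, hc, rfl⟩

theorem frac_mul_pow (n : ℕ) (c : A) (hc : c ∈ I ^ n) :
    frac I a ha n c hc * chartMap I a ha a ^ n = chartMap I a ha c := by
  apply HomogeneousLocalization.val_injective
  rw [HomogeneousLocalization.val_mul, HomogeneousLocalization.val_pow, val_frac, val_chartMap,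
    val_chartMap, Localization.mk_eq_mk', ← map_pow, mul_comm,
    IsLocalization.mul_mk'_eq_mk'_of_mul, IsLocalization.mk'_eq_iff_eq_mul, ← map_mul]
  congr 1
  change algebraMap A ↥(reesAlgebra I) a ^ n * mono I n c hc =
    algebraMap A ↥(reesAlgebra I) c * tX I a ha ^ n
  rw [algebraMap_eq_mono, algebraMap_eq_mono, mono_pow, mono_pow, mono_mul, mono_mul]
  exact mono_congr I _ _ (by ring) (by ring)

theorem chartMap_eq_frac (c : A) : chartMap I a ha c = frac I a ha 0 c (by simp) := by
  apply HomogeneousLocalization.val_injective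
  rw [val_chartMap, val_frac, Localization.mk_eq_mk', eq_comm, IsLocalization.mk'_eq_iff_eq_mul,
    ← map_mul]
  congr 1
  change mono I 0 c _ = algebraMap A ↥(reesAlgebra I) c * tX I a ha ^ 0
  rw [pow_zero (tX I a ha), mul_one, algebraMap_eq_mono]

theorem frac_eq_zero_iff (n : ℕ) (c : A) (hc : c ∈ I ^ n) :
    frac I a ha n c hc = 0 ↔ ∃ m : ℕ, a ^ m * c = 0 := by
  rw [HomogeneousLocalization.ext_iff_val, val_frac, HomogeneousLocalization.val_zero,
    Localization.mk_eq_mk', IsLocalization.mk'_eq_zero_iff]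
  constructor
  · rintro ⟨⟨_, m, rfl⟩, hm⟩
    refine ⟨m, ?_⟩
    change tX I a ha ^ m * mono I n c hc = 0 at hm
    rw [mono_pow, mono_mul, mono_eq_zero_iff] at hm
    exact hm
  · rintro ⟨m, hm⟩
    refine ⟨⟨tX I a ha ^ m, m, rfl⟩, ?_⟩
    change tX I a ha ^ m * mono I n c hc = 0
    rw [mono_pow, mono_mul, mono_eq_zero_iff]
    exact hm

theorem frac_mul_frac (n m : ℕ) (c d : A) (hc : c ∈ I ^ n) (hd : d ∈ I ^ m) :
    frac I a ha n c hc * frac I a ha m d hd =
      frac I a ha (n + m) (c * d) (by rw [pow_add]; exact Ideal.mul_mem_mul hc hd) := by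
  apply HomogeneousLocalization.val_injective
  rw [HomogeneousLocalization.val_mul, val_frac, val_frac, val_frac, Localization.mk_mul]
  congr 1
  · exact mono_mul I n m c d hc hd
  · apply Subtype.ext
    change tX I a ha ^ n * tX I a ha ^ m = tX I a ha ^ (n + m)
    rw [pow_add]

end Chart

section ChartAlg

/-- abstract characterisation of the affine blow-up algebra `A[I/a]` -/
structure IsChartAlg {C : Type*} [CommRing C] (χ : A →+* C) (a : A) : Prop where
  nzd : χ a ∈ nonZeroDivisors C
  exists_quot : ∀ x ∈ I, ∃ z : C, z * χ a = χ x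
  exists_num : ∀ z : C, ∃ (n : ℕ) (c : A), c ∈ I ^ n ∧ z * χ a ^ n = χ c

variable {I}
variable {C : Type*} [CommRing C] {χ : A →+* C} {a : A}

theorem IsChartAlg.map_eq_span (h : IsChartAlg I χ a) (ha : a ∈ I) :
    Ideal.map χ I = Ideal.span {χ a} := by
  apply le_antisymm
  · rw [Ideal.map_le_iff_le_comap]
    intro x hx
    rw [Ideal.mem_comap, Ideal.mem_span_singleton']
    exact h.exists_quot x hx
  · rw [Ideal.span_le, Set.singleton_subset_iff]
    exact Ideal.mem_map_of_mem _ ha

theorem IsChartAlg.hom_ext (h : IsChartAlg I χ a) {B : Type*} [CommRing B] (σ₁ σ₂ : C →+* B)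
    (hσ : σ₁.comp χ = σ₂.comp χ) (hnzd : σ₁ (χ a) ∈ nonZeroDivisors B) : σ₁ = σ₂ := by
  ext z
  obtain ⟨n, c, -, hz⟩ := h.exists_num z
  have h1 := congrArg σ₁ hz
  have h2 := congrArg σ₂ hz
  rw [map_mul, map_pow] at h1 h2
  have h3 : σ₁ (χ c) = σ₂ (χ c) := RingHom.congr_fun hσ c
  have h4 : σ₁ (χ a) = σ₂ (χ a) := RingHom.congr_fun hσ a
  rw [← h4, ← h3, ← h1] at h2
  exact (mul_cancel_right_mem_nonZeroDivisors (pow_mem hnzd n)).mp h2.symm

end ChartAlg

section ChartIs

variable (a : A) (ha : a ∈ I)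

theorem chart_mul_eq_zero (z : Chart I a ha) (hz : z * chartMap I a ha a = 0) : z = 0 := by
  obtain ⟨n, c, hc, rfl⟩ := exists_frac I a ha z
  rw [chartMap_eq_frac, frac_mul_frac, frac_eq_zero_iff] at hz
  obtain ⟨m, hm⟩ := hz
  rw [frac_eq_zero_iff]
  refine ⟨m + 1, ?_⟩
  rw [pow_succ, mul_assoc, mul_comm a c]
  exact hm

theorem isChartAlg_chart : IsChartAlg I (chartMap I a ha) a where
  nzd := by
    rw [mem_nonZeroDivisors_iff]
    refine ⟨fun z hz => ?_, fun z hz => chart_mul_eq_zero I a ha z hz⟩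
    exact chart_mul_eq_zero I a ha z
      ((mul_comm (G := Chart I a ha) z (chartMap I a ha a)).trans hz)
  exists_quot := fun x hx => by
    refine ⟨frac I a ha 1 x (by simpa using hx), ?_⟩
    have := frac_mul_pow I a ha 1 x (by simpa using hx)
    exact (congrArg (fun t => frac I a ha 1 x (by simpa using hx) * t)
      (pow_one (chartMap I a ha a)).symm).trans this
  exists_num := fun z => by
    obtain ⟨n, c, hc, rfl⟩ := exists_frac I a ha z
    exact ⟨n, c, hc, frac_mul_pow I a ha n c hc⟩

end ChartIs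

end Groth.Agent.Lead.Blow
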