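import Mathlib
import Groth.Agent.Lib.Lead.Blow1

set_option autoImplicit false
set_option backward.isDefEq.respectTransparency.types false
set_option synthInstance.maxHeartbeats 400000
set_option linter.style.haveILetI false
set_option linter.unusedSectionVars false
universe u
open CategoryTheory CategoryTheory.Limits AlgebraicGeometry TopologicalSpace Opposite

namespace Groth.Agent.Lead.Blow

open Polynomial HomogeneousLocalization

variable {A : Type u} [CommRing A] (I : Ideal A)

section ReesHom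

variable {B : Type*} [CommRing B] (φ : A →+* B) (t : B) (ht : t ∈ nonZeroDivisors B)
  (hI : Ideal.map φ I = Ideal.span {t})

include hI in
theorem exists_mul_pow_eq (n : ℕ) (c : A) (hc : c ∈ I ^ n) : ∃ y : B, y * t ^ n = φ c := by
  have h1 : φ c ∈ Ideal.map φ (I ^ n) := Ideal.mem_map_of_mem _ hc
  rw [Ideal.map_pow, hI, Ideal.span_singleton_pow, Ideal.mem_span_singleton'] at h1
  exact h1

include ht hI in
theorem exists_reesHom :
    ∃ ψ : ↥(reesAlgebra I) →+* B, ∀ (n : ℕ) (c : A) (hc : c ∈ I ^ n),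
      ψ (mono I n c hc) * t ^ n = φ c := by
  let Bt := Localization.Away t
  let ι : B →+* Bt := algebraMap B Bt
  have hι : Function.Injective ι :=
    IsLocalization.injective Bt (M := Submonoid.powers t)
      (Submonoid.powers_le.mpr ht)
  let tinv : Bt := IsLocalization.mk' Bt (1 : B) (⟨t, Submonoid.mem_powers t⟩ : Submonoid.powers t)
  have htinv : tinv * ι t = 1 := by
    simp only [tinv, ι]
    exact (IsLocalization.mk'_spec Bt (1 : B)
      (⟨t, Submonoid.mem_powers t⟩ : Submonoid.powers t)).trans (map_one _)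
  let ψ₀ : ↥(reesAlgebra I) →+* Bt :=
    (eval₂RingHom (ι.comp φ) tinv).comp (reesAlgebra I).val.toRingHom
  have hψ₀ : ∀ (n : ℕ) (c : A) (hc : c ∈ I ^ n), ψ₀ (mono I n c hc) * ι t ^ n = ι (φ c) := by
    intro n c hc
    simp only [ψ₀, RingHom.comp_apply]
    change eval₂ (ι.comp φ) tinv (monomial n c) * ι t ^ n = ι (φ c)
    rw [eval₂_monomial, RingHom.comp_apply, mul_assoc, ← mul_pow, htinv, one_pow, mul_one]
  have hrange : ∀ p : ↥(reesAlgebra I), ψ₀ p ∈ ι.range := by
    intro p
    have hp : p = ∑ n ∈ (p : A[X]).support, mono I n ((p : A[X]).coeff n) (p.2 n) := by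
      apply Subtype.ext
      rw [AddSubmonoidClass.coe_finsetSum]
      conv_lhs => rw [(p : A[X]).as_sum_support]
      rfl
    rw [hp, map_sum]
    refine Subring.sum_mem _ (fun n _ => ?_)
    obtain ⟨y, hy⟩ := exists_mul_pow_eq I φ t hI n _ (p.2 n)
    refine ⟨y, ?_⟩
    have h1 := hψ₀ n _ (p.2 n)
    rw [← hy, map_mul, map_pow] at h1
    have hnzd : ι t ^ n ∈ nonZeroDivisors Bt := by
      apply pow_mem
      exact IsUnit.mem_nonZeroDivisors
        (IsLocalization.map_units Bt (⟨t, Submonoid.mem_powers t⟩ : Submonoid.powers t))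
    exact ((mul_cancel_right_mem_nonZeroDivisors hnzd).mp h1).symm
  let e : B ≃+* ι.range := RingEquiv.ofBijective ι.rangeRestrict
    ⟨fun x y hxy => hι (by simpa using congrArg Subtype.val hxy), ι.rangeRestrict_surjective⟩
  let ψ : ↥(reesAlgebra I) →+* B := (e.symm : ι.range →+* B).comp (ψ₀.codRestrict ι.range hrange)
  have hψ : ∀ p, ι (ψ p) = ψ₀ p := by
    intro p
    have h1 : e (ψ p) = ψ₀.codRestrict ι.range hrange p := by
      simp only [ψ, RingHom.comp_apply, RingHom.coe_coe, RingEquiv.apply_symm_apply]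
    have h2 := congrArg Subtype.val h1
    exact h2
  refine ⟨ψ, fun n c hc => ?_⟩
  apply hι
  rw [map_mul, map_pow, hψ]
  exact hψ₀ n c hc

end ReesHom

section Irrelevant

theorem mono_add (n : ℕ) (c d : A) (hc : c ∈ I ^ n) (hd : d ∈ I ^ n) :
    mono I n (c + d) (Ideal.add_mem _ hc hd) = mono I n c hc + mono I n d hd := by
  apply Subtype.ext
  simp [coe_mono]

theorem mono_succ_mem_span (k : ℕ) (c : A) (hc : c ∈ I ^ (k + 1)) :
    mono I (k + 1) c hc ∈ Ideal.span (Set.range fun x : I => tX I x.1 x.2) := by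
  have hc' : c ∈ I ^ k * I := by rwa [← pow_succ]
  have key : ∀ (r : A) (hr : r ∈ I ^ k * I),
      mono I (k + 1) r (by rw [pow_succ]; exact hr) ∈
        Ideal.span (Set.range fun x : I => tX I x.1 x.2) := by
    intro r hr
    refine Submodule.mul_induction_on' (C := fun r hr => mono I (k + 1) r (by rw [pow_succ]; exact hr) ∈
        Ideal.span (Set.range fun x : I => tX I x.1 x.2)) ?_ ?_ hr
    · intro d hd x hx
      have h1 : mono I (k + 1) (d * x) (by rw [pow_succ]; exact Ideal.mul_mem_mul hd hx) =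
          mono I k d hd * tX I x hx := by
        rw [mono_mul]
      rw [h1]
      exact Ideal.mul_mem_left _ _ (Ideal.subset_span ⟨⟨x, hx⟩, rfl⟩)
    · intro c₁ h1 c₂ h2 e1 e2
      have hc₁ : c₁ ∈ I ^ (k + 1) := by rw [pow_succ]; exact h1
      have hc₂ : c₂ ∈ I ^ (k + 1) := by rw [pow_succ]; exact h2
      have := mono_add I (k + 1) c₁ c₂ hc₁ hc₂
      rw [this]
      exact Ideal.add_mem _ e1 e2
  exact key c hc'

theorem irrelevant_le_span :
    (HomogeneousIdeal.irrelevant (gr I)).toIdeal ≤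
      Ideal.span (Set.range fun x : I => tX I x.1 x.2) := by
  rw [HomogeneousIdeal.toIdeal_irrelevant_le]
  intro i hi y hy
  obtain ⟨c, hc, rfl⟩ := exists_mono_of_mem I i y hy
  obtain ⟨k, rfl⟩ : ∃ k, i = k + 1 := ⟨i - 1, by omega⟩
  exact mono_succ_mem_span I k c hc

end Irrelevant

section Alg

variable {I}

theorem eq_top_of_forall_mul {B : Type*} [CommRing B] (t : B) (ht : t ∈ nonZeroDivisors B)
    (S : Set B) (J : Ideal B) (hS : ∀ y ∈ S, ∃ j ∈ J, y = j * t) (hts : t ∈ Ideal.span S) :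
    J = ⊤ := by
  have key : ∀ y ∈ Ideal.span S, ∃ j ∈ J, y = j * t := by
    intro y hy
    induction hy using Submodule.span_induction with
    | mem y hy => exact hS y hy
    | zero => exact ⟨0, J.zero_mem, by simp⟩
    | add y z _ _ hy hz =>
      obtain ⟨j₁, hj₁, rfl⟩ := hy
      obtain ⟨j₂, hj₂, rfl⟩ := hz
      exact ⟨j₁ + j₂, J.add_mem hj₁ hj₂, by ring⟩
    | smul r y _ hy =>
      obtain ⟨j, hj, rfl⟩ := hy
      exact ⟨r * j, J.mul_mem_left r hj, by simp [mul_assoc]⟩
  obtain ⟨j, hj, hjt⟩ := key t hts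
  have h1 : j = 1 := by
    have : j * t = 1 * t := by rw [one_mul]; exact hjt.symm
    exact (mul_cancel_right_mem_nonZeroDivisors ht).mp this
  rw [Ideal.eq_top_iff_one, ← h1]
  exact hj

variable {B : Type*} [CommRing B] (φ : A →+* B) (t : B) (ht : t ∈ nonZeroDivisors B)
  (hI : Ideal.map φ I = Ideal.span {t})

theorem reesHom_algebraMap (ψ : ↥(reesAlgebra I) →+* B)
    (hψ : ∀ (n : ℕ) (c : A) (hc : c ∈ I ^ n), ψ (mono I n c hc) * t ^ n = φ c) (c : A) :
    ψ (algebraMap A ↥(reesAlgebra I) c) = φ c := by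
  rw [algebraMap_eq_mono]
  have := hψ 0 c (by simp)
  rwa [pow_zero t, mul_one] at this

include ht hI in
theorem map_irrelevant_eq_top (ψ : ↥(reesAlgebra I) →+* B)
    (hψ : ∀ (n : ℕ) (c : A) (hc : c ∈ I ^ n), ψ (mono I n c hc) * t ^ n = φ c) :
    Ideal.map ψ (HomogeneousIdeal.irrelevant (gr I)).toIdeal = ⊤ := by
  apply eq_top_of_forall_mul t ht (φ '' (I : Set A))
  · rintro _ ⟨x, hx, rfl⟩
    refine ⟨ψ (tX I x hx), Ideal.mem_map_of_mem _ ?_, ?_⟩
    · exact HomogeneousIdeal.mem_irrelevant_of_mem _ one_pos (tX_mem I x hx)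
    · have := hψ 1 x (by simpa using hx)
      rw [pow_one t] at this
      exact this.symm
  · have : t ∈ Ideal.map φ I := by rw [hI]; exact Ideal.subset_span rfl
    exact this

/-- in a chart `C = A[I/a]` mapping to `B'` where `x ∈ I` generates `I B'`, the fraction `x/a`
becomes a unit -/
theorem isUnit_of_chart {C : Type*} [CommRing C] {χ : A →+* C} {a : A}
    (σ : C →+* B) (x : A) (z : C) (hz : z * χ a = χ x)
    (hnzd : σ (χ x) ∈ nonZeroDivisors B) (ha : σ (χ a) ∈ Ideal.span {σ (χ x)}) : IsUnit (σ z) := by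
  obtain ⟨u, hu⟩ := Ideal.mem_span_singleton'.mp ha
  have h1 := congrArg σ hz
  rw [map_mul, ← hu] at h1
  have h2 : (σ z * u) * σ (χ x) = 1 * σ (χ x) := by
    rw [one_mul, mul_assoc]; exact h1
  have h3 := (mul_cancel_right_mem_nonZeroDivisors hnzd).mp h2
  exact IsUnit.of_mul_eq_one _ h3

/-- the family of cofactors `c_x` with `φ x = c_x t` generates the unit ideal -/
theorem span_cofactors_eq_top (s : I → B) (hs : ∀ x : I, φ x.1 = s x * t) (ht : t ∈ nonZeroDivisors B)
    (hI : Ideal.map φ I = Ideal.span {t}) :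
    Ideal.span (Set.range s) = ⊤ := by
  apply eq_top_of_forall_mul t ht (φ '' (I : Set A))
  · rintro _ ⟨x, hx, rfl⟩
    exact ⟨s ⟨x, hx⟩, Ideal.subset_span ⟨_, rfl⟩, hs ⟨x, hx⟩⟩
  · have : t ∈ Ideal.map φ I := by rw [hI]; exact Ideal.subset_span rfl
    exact this

/-- after inverting the cofactor `c` of `x`, the image of `x` is a nonzerodivisor generating
the image ideal -/
theorem gen_of_localization (x : A) (c : B) (hx : φ x = c * t) (ht : t ∈ nonZeroDivisors B)
    (hI : Ideal.map φ I = Ideal.span {t}) (B' : Type*) [CommRing B'] [Algebra B B']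
    [IsLocalization.Away c B'] :
    ((algebraMap B B').comp φ) x ∈ nonZeroDivisors B' ∧
      Ideal.map ((algebraMap B B').comp φ) I = Ideal.span {((algebraMap B B').comp φ) x} := by
  have hc : IsUnit (algebraMap B B' c) := IsLocalization.Away.algebraMap_isUnit c
  have ht' : algebraMap B B' t ∈ nonZeroDivisors B' :=
    IsLocalization.map_nonZeroDivisors_le (Submonoid.powers c) B' ⟨t, ht, rfl⟩
  have hx' : ((algebraMap B B').comp φ) x = algebraMap B B' c * algebraMap B B' t := by
    rw [RingHom.comp_apply, hx, map_mul]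
  constructor
  · rw [hx']
    exact Submonoid.mul_mem _ hc.mem_nonZeroDivisors ht'
  · rw [← Ideal.map_map, hI, Ideal.map_span, Set.image_singleton, hx']
    exact (Ideal.span_singleton_mul_left_unit hc _).symm

end Alg

end Groth.Agent.Lead.Blow
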