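import Mathlib
import Groth.Agent.Lib.Lead.Blow2
import Groth.Agent.Lib.Helper4.EffCartier
import Groth.Prelude.Def_ega3

set_option autoImplicit false
set_option backward.isDefEq.respectTransparency.types false
set_option synthInstance.maxHeartbeats 400000
set_option linter.style.haveILetI false
set_option linter.unusedSectionVars false
universe u
open CategoryTheory CategoryTheory.Limits AlgebraicGeometry TopologicalSpace Opposite

namespace Groth.Agent.Lead.Blow

open Scheme.IdealSheafData Groth.Agent.Helper4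

section SpecLevel

variable {A : Type u} [CommRing A]

/-- the ideal sheaf on `Spec A` attached to an ideal of `A` -/
noncomputable abbrev specIdeal (I : Ideal A) : (Spec (CommRingCat.of A)).IdealSheafData :=
  ofIdealTop (I.map (Scheme.ΓSpecIso (CommRingCat.of A)).inv.hom)

theorem specIdeal_ideal_top (I : Ideal A) :
    (specIdeal I).ideal ⟨⊤, isAffineOpen_top _⟩ =
      I.map (Scheme.ΓSpecIso (CommRingCat.of A)).inv.hom := by
  rw [ofIdealTop_ideal]
  have h1 : (Spec (CommRingCat.of A)).presheaf.map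
      (homOfLE (le_top : (⊤ : (Spec (CommRingCat.of A)).Opens) ≤ ⊤)).op = 𝟙 _ :=
    (Spec (CommRingCat.of A)).presheaf.map_id _
  rw [h1, CommRingCat.hom_id, Ideal.map_id]

theorem comap_SpecMap {B : Type u} [CommRing B] (φ : A →+* B) (I : Ideal A) :
    (specIdeal I).comap (Spec.map (CommRingCat.ofHom φ)) = specIdeal (I.map φ) := by
  unfold specIdeal
  rw [IdealComap.comap_ofIdealTop, Ideal.map_map, Ideal.map_map]
  congr 2
  have := Scheme.ΓSpecIso_inv_naturality (CommRingCat.ofHom φ)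
  have h2 := congrArg CommRingCat.Hom.hom this
  simp only [CommRingCat.hom_comp, CommRingCat.hom_ofHom] at h2
  exact h2.symm

theorem isEffCartier_specIdeal {B : Type u} [CommRing B] (J : Ideal B) (t : B)
    (ht : t ∈ nonZeroDivisors B) (hJ : J = Ideal.span {t}) :
    BlowUp.IsEffCartierIdeal (specIdeal J) := by
  intro x
  refine ⟨⟨⊤, isAffineOpen_top _⟩, trivial, (Scheme.ΓSpecIso (CommRingCat.of B)).inv.hom t, ?_, ?_⟩
  · let e : B ≃+* Γ(Spec (CommRingCat.of B), ⊤) :=
      (Scheme.ΓSpecIso (CommRingCat.of B)).symm.commRingCatIsoToRingEquiv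
    have : (Scheme.ΓSpecIso (CommRingCat.of B)).inv.hom t = e t := rfl
    rw [this]
    exact (MulEquivClass.map_nonZeroDivisors e).symm ▸ Submonoid.mem_map_of_mem _ ht
  · rw [specIdeal_ideal_top, hJ, Ideal.map_span, Set.image_singleton]

end SpecLevel

section Transfer

/-- effective Cartier ideals can be detected on a jointly surjective family of open immersions -/
theorem isEffCartier_of_openImmersions {X : Scheme.{u}} (𝓙 : X.IdealSheafData)
    (h : ∀ x : X, ∃ (U : Scheme.{u}) (j : U ⟶ X), IsOpenImmersion j ∧ x ∈ Set.range j ∧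
      BlowUp.IsEffCartierIdeal (𝓙.comap j)) :
    BlowUp.IsEffCartierIdeal 𝓙 := by
  intro x
  obtain ⟨U, j, hj, ⟨u, rfl⟩, hC⟩ := h x
  obtain ⟨O, huO, f, hf, hI⟩ := hC u
  refine ⟨⟨j ''ᵁ O.1, O.2.image_of_isOpenImmersion j⟩, ⟨u, huO, rfl⟩,
    (j.appIso O.1).inv.hom f, ?_, ?_⟩
  · let e : Γ(U, O.1) ≃+* Γ(X, j ''ᵁ O.1) := (j.appIso O.1).symm.commRingCatIsoToRingEquiv
    have : (j.appIso O.1).inv.hom f = e f := rfl
    rw [this]
    exact (MulEquivClass.map_nonZeroDivisors e).symm ▸ Submonoid.mem_map_of_mem _ hf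
  · rw [ideal_comap_of_isOpenImmersion] at hI
    have h1 : 𝓙.ideal ⟨j ''ᵁ O.1, O.2.image_of_isOpenImmersion j⟩ =
        Ideal.map (j.appIso O.1).inv.hom (Ideal.comap (j.appIso O.1).inv.hom
          (𝓙.ideal ⟨j ''ᵁ O.1, O.2.image_of_isOpenImmersion j⟩)) := by
      rw [Ideal.map_comap_of_surjective]
      intro y
      refine ⟨(j.appIso O.1).hom.hom y, ?_⟩
      rw [← CommRingCat.comp_apply, Iso.hom_inv_id]
      rfl
    rw [h1, hI, Ideal.map_span, Set.image_singleton]

end Transfer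

section Charts

variable {A : Type u} [CommRing A] (I : Ideal A)

/-- the blow-up `Proj (Rees I) ⟶ Spec A` -/
noncomputable abbrev bl : Proj (gr I) ⟶ Spec (CommRingCat.of A) :=
  Proj (gr I) ↘ Spec (CommRingCat.of A)

theorem bl_eq : bl I = Proj.toSpecZero (gr I) ≫
    Spec.map (CommRingCat.ofHom (algebraMap A (gr I 0))) := rfl

variable (a : A) (ha : a ∈ I)

/-- the inclusion of the chart `Spec A[I/a]` -/
noncomputable abbrev chartι : Spec (CommRingCat.of (Chart I a ha)) ⟶ Proj (gr I) :=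
  Proj.awayι (gr I) (tX I a ha) (tX_mem I a ha) one_pos

theorem chartι_bl : chartι I a ha ≫ bl I = Spec.map (CommRingCat.ofHom (chartMap I a ha)) := by
  rw [bl_eq, Proj.awayι_toSpecZero_assoc, ← Spec.map_comp]
  rfl

theorem opensRange_chartι : (chartι I a ha).opensRange = Proj.basicOpen (gr I) (tX I a ha) :=
  Proj.opensRange_awayι _ _ _ _

theorem exists_chart (p : Proj (gr I)) : ∃ (a : A) (ha : a ∈ I), p ∈ (chartι I a ha).opensRange := by
  have h := Proj.iSup_basicOpen_eq_top (gr I) (fun x : I => tX I x.1 x.2) (irrelevant_le_span I)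
  have hp : p ∈ ⨆ x : I, Proj.basicOpen (gr I) (tX I x.1 x.2) := by rw [h]; trivial
  obtain ⟨x, hx⟩ := Opens.mem_iSup.mp hp
  exact ⟨x.1, x.2, by rw [opensRange_chartι]; exact hx⟩

/-- the inverse image of `I` on the blow-up is an effective Cartier divisor -/
theorem isEffCartier_comap_bl : BlowUp.IsEffCartierIdeal ((specIdeal I).comap (bl I)) := by
  apply isEffCartier_of_openImmersions
  intro p
  obtain ⟨a, ha, hp⟩ := exists_chart I p
  refine ⟨_, chartι I a ha, inferInstance, hp, ?_⟩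
  rw [← comap_comp, chartι_bl, comap_SpecMap]
  exact isEffCartier_specIdeal _ (chartMap I a ha a) (isChartAlg_chart I a ha).nzd
    ((isChartAlg_chart I a ha).map_eq_span ha)

end Charts

section UniqueSpec

variable {A : Type u} [CommRing A] (I : Ideal A) {B : Type u} [CommRing B] (φ : A →+* B)

/-- a lift `Spec B ⟶ Spec A[I/a]` of `Spec φ` is `Spec` of a ring map over `A` -/
theorem exists_ringHom_of_lift (a : A) (ha : a ∈ I)
    (k : Spec (CommRingCat.of B) ⟶ Spec (CommRingCat.of (Chart I a ha)))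
    (hk : k ≫ Spec.map (CommRingCat.ofHom (chartMap I a ha)) = Spec.map (CommRingCat.ofHom φ)) :
    ∃ σ : Chart I a ha →+* B, k = Spec.map (CommRingCat.ofHom σ) ∧ σ.comp (chartMap I a ha) = φ := by
  obtain ⟨σ, rfl⟩ := Spec.map_surjective k
  refine ⟨σ.hom, rfl, ?_⟩
  rw [← Spec.map_comp] at hk
  have := Spec.map_injective hk
  have h2 := congrArg CommRingCat.Hom.hom this
  simpa using h2

theorem lift_unique_of_range (x : A) (hx : x ∈ I) (hnzd : φ x ∈ nonZeroDivisors B)
    (h₁ h₂ : Spec (CommRingCat.of B) ⟶ Proj (gr I))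
    (hh₁ : h₁ ≫ bl I = Spec.map (CommRingCat.ofHom φ))
    (hh₂ : h₂ ≫ bl I = Spec.map (CommRingCat.ofHom φ))
    (hr₁ : Set.range h₁ ⊆ Set.range (chartι I x hx))
    (hr₂ : Set.range h₂ ⊆ Set.range (chartι I x hx)) : h₁ = h₂ := by
  have key : ∀ (h : Spec (CommRingCat.of B) ⟶ Proj (gr I))
      (hh : h ≫ bl I = Spec.map (CommRingCat.ofHom φ))
      (hr : Set.range h ⊆ Set.range (chartι I x hx)),
      ∃ σ : Chart I x hx →+* B, h = Spec.map (CommRingCat.ofHom σ) ≫ chartι I x hx ∧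
        σ.comp (chartMap I x hx) = φ := by
    intro h hh hr
    have hk : IsOpenImmersion.lift (chartι I x hx) h hr ≫
        Spec.map (CommRingCat.ofHom (chartMap I x hx)) = Spec.map (CommRingCat.ofHom φ) := by
      rw [← chartι_bl, ← Category.assoc, IsOpenImmersion.lift_fac, hh]
    obtain ⟨σ, h1, h2⟩ := exists_ringHom_of_lift I φ x hx _ hk
    exact ⟨σ, by rw [← h1, IsOpenImmersion.lift_fac], h2⟩
  obtain ⟨σ₁, e₁, c₁⟩ := key h₁ hh₁ hr₁
  obtain ⟨σ₂, e₂, c₂⟩ := key h₂ hh₂ hr₂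
  have : σ₁ = σ₂ := by
    apply (isChartAlg_chart I x hx).hom_ext σ₁ σ₂ (c₁.trans c₂.symm)
    have : σ₁ (chartMap I x hx x) = φ x := RingHom.congr_fun c₁ x
    rw [this]
    exact hnzd
  rw [e₁, e₂, this]

theorem frac_one_mul (a : A) (ha : a ∈ I) (x : A) (hx : x ∈ I) :
    frac I a ha 1 x (by simpa using hx) * chartMap I a ha a = chartMap I a ha x := by
  have := frac_mul_pow I a ha 1 x (by simpa using hx)
  exact (congrArg (fun t => frac I a ha 1 x (by simpa using hx) * t)
    (pow_one (chartMap I a ha a)).symm).trans this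

theorem isLocalizationElem_eq (a : A) (ha : a ∈ I) (x : A) (hx : x ∈ I) :
    HomogeneousLocalization.Away.isLocalizationElem (tX_mem I a ha) (tX_mem I x hx) =
      frac I a ha 1 x (by simpa using hx) := by
  apply HomogeneousLocalization.val_injective
  rw [val_frac]
  change Localization.mk _ _ = _
  congr 1
  exact pow_one _

/-- generators persist in localizations -/
theorem gen_of_isLocalization (x : A) (hnzd : φ x ∈ nonZeroDivisors B)
    (hmap : Ideal.map φ I = Ideal.span {φ x}) (M : Submonoid B) (B' : Type*) [CommRing B']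
    [Algebra B B'] [IsLocalization M B'] :
    ((algebraMap B B').comp φ) x ∈ nonZeroDivisors B' ∧
      Ideal.map ((algebraMap B B').comp φ) I = Ideal.span {((algebraMap B B').comp φ) x} := by
  constructor
  · exact IsLocalization.map_nonZeroDivisors_le M B' ⟨φ x, hnzd, rfl⟩
  · rw [← Ideal.map_map, hmap, Ideal.map_span, Set.image_singleton]
    rfl

theorem mem_chart_of_gen (x : A) (hx : x ∈ I) (hnzd : φ x ∈ nonZeroDivisors B)
    (hmap : Ideal.map φ I = Ideal.span {φ x})
    (h : Spec (CommRingCat.of B) ⟶ Proj (gr I))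
    (hh : h ≫ bl I = Spec.map (CommRingCat.ofHom φ))
    (q : Spec (CommRingCat.of B)) : h q ∈ (chartι I x hx).opensRange := by
  obtain ⟨a, ha, hq⟩ := exists_chart I (h q)
  have hq' : q ∈ h ⁻¹ᵁ (chartι I a ha).opensRange := hq
  obtain ⟨_, ⟨c, rfl⟩, hqc, hcU⟩ :=
    Opens.isBasis_iff_nbhd.mp (PrimeSpectrum.isBasis_basic_opens (R := B)) hq'
  let B' := Localization.Away c
  let ιc : Spec (CommRingCat.of B') ⟶ Spec (CommRingCat.of B) :=
    Spec.map (CommRingCat.ofHom (algebraMap B B'))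
  have hrange : Set.range ιc = (PrimeSpectrum.basicOpen c : Set (PrimeSpectrum B)) :=
    PrimeSpectrum.localization_away_comap_range B' c
  obtain ⟨q', rfl⟩ : q ∈ Set.range ιc := by rw [hrange]; exact hqc
  have hr : Set.range (ιc ≫ h) ⊆ Set.range (chartι I a ha) := by
    rintro _ ⟨z, rfl⟩
    have : ιc z ∈ (PrimeSpectrum.basicOpen c : Set (PrimeSpectrum B)) := by
      rw [← hrange]; exact ⟨z, rfl⟩
    exact hcU this
  have hk : IsOpenImmersion.lift (chartι I a ha) (ιc ≫ h) hr ≫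
      Spec.map (CommRingCat.ofHom (chartMap I a ha)) =
      Spec.map (CommRingCat.ofHom ((algebraMap B B').comp φ)) := by
    rw [← chartι_bl, ← Category.assoc, IsOpenImmersion.lift_fac, Category.assoc, hh,
      ← Spec.map_comp]
    rfl
  obtain ⟨σ, h1, h2⟩ := exists_ringHom_of_lift I _ a ha _ hk
  obtain ⟨hnzd', hmap'⟩ := gen_of_isLocalization I φ x hnzd hmap (Submonoid.powers c) B'
  have hu : IsUnit (σ (frac I a ha 1 x (by simpa using hx))) := by
    apply isUnit_of_chart σ x _ (frac_one_mul I a ha x hx)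
    · have : σ (chartMap I a ha x) = ((algebraMap B B').comp φ) x := RingHom.congr_fun h2 x
      rw [this]; exact hnzd'
    · have e1 : σ (chartMap I a ha x) = ((algebraMap B B').comp φ) x := RingHom.congr_fun h2 x
      have e2 : σ (chartMap I a ha a) = ((algebraMap B B').comp φ) a := RingHom.congr_fun h2 a
      rw [e1, e2, ← hmap']
      exact Ideal.mem_map_of_mem _ ha
  have hmem : IsOpenImmersion.lift (chartι I a ha) (ιc ≫ h) hr q' ∈
      (chartι I a ha) ⁻¹ᵁ Proj.basicOpen (gr I) (tX I x hx) := by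
    rw [Proj.awayι_preimage_basicOpen (gr I) (tX_mem I a ha) one_pos (tX_mem I x hx) one_pos,
      isLocalizationElem_eq, h1]
    change σ _ ∉ q'.asIdeal
    exact fun hmem => q'.2.ne_top (Ideal.eq_top_of_isUnit_mem _ hmem hu)
  rw [opensRange_chartι]
  have e3 : h (ιc q') = chartι I a ha (IsOpenImmersion.lift (chartι I a ha) (ιc ≫ h) hr q') := by
    rw [← Scheme.Hom.comp_apply, ← Scheme.Hom.comp_apply, IsOpenImmersion.lift_fac]
  rw [e3]
  exact hmem

theorem lift_unique_spec (t : B) (ht : t ∈ nonZeroDivisors B)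
    (hmap : Ideal.map φ I = Ideal.span {t})
    (h₁ h₂ : Spec (CommRingCat.of B) ⟶ Proj (gr I))
    (hh₁ : h₁ ≫ bl I = Spec.map (CommRingCat.ofHom φ))
    (hh₂ : h₂ ≫ bl I = Spec.map (CommRingCat.ofHom φ)) : h₁ = h₂ := by
  have hex : ∀ x : I, ∃ c : B, φ x.1 = c * t := fun x => by
    have : φ x.1 ∈ Ideal.map φ I := Ideal.mem_map_of_mem _ x.2
    rw [hmap, Ideal.mem_span_singleton'] at this
    obtain ⟨c, hc⟩ := this
    exact ⟨c, hc.symm⟩
  choose s hs using hex
  have hspan := span_cofactors_eq_top φ t s hs ht hmap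
  let 𝒰 := Scheme.affineOpenCoverOfSpanRangeEqTop (R := CommRingCat.of B) s hspan
  apply 𝒰.openCover.hom_ext
  intro x
  obtain ⟨hnzd', hmap'⟩ :=
    gen_of_localization φ t x.1 (s x) (hs x) ht hmap (Localization.Away (s x))
  have key : ∀ (h : Spec (CommRingCat.of B) ⟶ Proj (gr I))
      (hh : h ≫ bl I = Spec.map (CommRingCat.ofHom φ)),
      (Spec.map (CommRingCat.ofHom (algebraMap B (Localization.Away (s x)))) ≫ h) ≫ bl I =
        Spec.map (CommRingCat.ofHom ((algebraMap B (Localization.Away (s x))).comp φ)) := by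
    intro h hh
    rw [Category.assoc, hh, ← Spec.map_comp]
    rfl
  apply lift_unique_of_range I ((algebraMap B (Localization.Away (s x))).comp φ) x.1 x.2 hnzd'
  · exact key h₁ hh₁
  · exact key h₂ hh₂
  · rintro _ ⟨q, rfl⟩
    exact mem_chart_of_gen I _ x.1 x.2 hnzd' hmap' _ (key h₁ hh₁) q
  · rintro _ ⟨q, rfl⟩
    exact mem_chart_of_gen I _ x.1 x.2 hnzd' hmap' _ (key h₂ hh₂) q

end UniqueSpec

section ExistSpec

variable {A : Type u} [CommRing A] (I : Ideal A) {B : Type u} [CommRing B] (φ : A →+* B)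

theorem exists_lift_spec (t : B) (ht : t ∈ nonZeroDivisors B)
    (hmap : Ideal.map φ I = Ideal.span {t}) :
    ∃ h : Spec (CommRingCat.of B) ⟶ Proj (gr I),
      h ≫ bl I = Spec.map (CommRingCat.ofHom φ) := by
  obtain ⟨ψ, hψ⟩ := exists_reesHom I φ t ht hmap
  let f : ↥(reesAlgebra I) →+* Γ(Spec (CommRingCat.of B), ⊤) :=
    (Scheme.ΓSpecIso (CommRingCat.of B)).inv.hom.comp ψ
  have hf : Ideal.map f (HomogeneousIdeal.irrelevant (gr I)).toIdeal = ⊤ := by
    rw [← Ideal.map_map, map_irrelevant_eq_top φ t ht hmap ψ hψ, Ideal.map_top]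
  refine ⟨Proj.fromOfGlobalSections (gr I) f hf, ?_⟩
  rw [bl_eq, Proj.fromOfGlobalSections_toSpecZero_assoc, ← Spec.map_comp]
  have e2 : (Spec (CommRingCat.of B)).toSpecΓ ≫
      Spec.map (CommRingCat.ofHom φ ≫ (Scheme.ΓSpecIso (CommRingCat.of B)).inv) =
      Spec.map (CommRingCat.ofHom φ) := by
    rw [Spec.map_comp, ← Category.assoc, ← SpecMap_ΓSpecIso_hom, ← Spec.map_comp,
      Iso.inv_hom_id, Spec.map_id, Category.id_comp]
  rw [← e2]
  congr 2
  ext c
  change (Scheme.ΓSpecIso (CommRingCat.of B)).inv.hom (ψ (algebraMap A ↥(reesAlgebra I) c)) = _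
  rw [reesHom_algebraMap φ t ψ hψ c]
  rfl

end ExistSpec

section General

/-- flat pullback of an effective Cartier ideal (copy of helper4's S10855) -/
theorem isEffCartier_comap_of_flat {X Y : Scheme.{u}} (f : X ⟶ Y) [Flat f]
    (𝓘 : Y.IdealSheafData) (hD : BlowUp.IsEffCartierIdeal 𝓘) :
    BlowUp.IsEffCartierIdeal (𝓘.comap f) := by
  intro x
  obtain ⟨V, hxV, g, hg, hIg⟩ := hD (f x)
  have hxfV : x ∈ f ⁻¹ᵁ V.1 := hxV
  obtain ⟨U, hU, hxU, hUV⟩ := Opens.isBasis_iff_nbhd.mp (X.isBasis_affineOpens) hxfV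
  let U' : X.affineOpens := ⟨U, hU⟩
  have hcomap := IdealComap.ideal_comap_eq_map f 𝓘 U' V hUV
  rw [hIg, Ideal.map_span, Set.image_singleton] at hcomap
  refine ⟨U', hxU, (f.appLE V.1 U hUV).hom g, ?_, hcomap⟩
  have hflat : (f.appLE V.1 U hUV).hom.Flat :=
    HasRingHomProperty.appLE (P := @Flat) f inferInstance V U' hUV
  exact EffCartier.nzd_of_flat _ hflat g hg

variable {A : Type u} [CommRing A] (I : Ideal A) {Y : Scheme.{u}}
  (g : Y ⟶ Spec (CommRingCat.of A))

/-- the ring map `A → Γ(Y, V)` induced by `g` -/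
noncomputable def secMap (V : Y.Opens) : A →+* Γ(Y, V) :=
  (g.appLE ⊤ V (fun _ _ => trivial)).hom.comp (Scheme.ΓSpecIso (CommRingCat.of A)).inv.hom

theorem fromSpec_comp (V : Y.affineOpens) :
    V.2.fromSpec ≫ g = Spec.map (CommRingCat.ofHom (secMap g V.1)) := by
  rw [← IsAffineOpen.SpecMap_appLE_fromSpec g (isAffineOpen_top _) V.2 (fun _ _ => trivial),
    IsAffineOpen.fromSpec_top, Scheme.isoSpec_Spec_inv, ← Spec.map_comp]
  rfl

theorem exists_local_gen (hg : BlowUp.IsEffCartierIdeal ((specIdeal I).comap g)) (y : Y) :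
    ∃ V : Y.affineOpens, y ∈ V.1 ∧ ∃ t : Γ(Y, V.1), t ∈ nonZeroDivisors Γ(Y, V.1) ∧
      Ideal.map (secMap g V.1) I = Ideal.span {t} := by
  obtain ⟨V, hyV, t, ht, hI⟩ := hg y
  refine ⟨V, hyV, t, ht, ?_⟩
  rw [← hI, IdealComap.ideal_comap_eq_map g _ V ⟨⊤, isAffineOpen_top _⟩ (fun _ _ => trivial),
    specIdeal_ideal_top, Ideal.map_map]
  rfl

theorem lift_unique (hg : BlowUp.IsEffCartierIdeal ((specIdeal I).comap g))
    (h₁ h₂ : Y ⟶ Proj (gr I)) (hh₁ : h₁ ≫ bl I = g) (hh₂ : h₂ ≫ bl I = g) : h₁ = h₂ := by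
  apply Scheme.hom_ext_of_forall
  intro y
  obtain ⟨V, hyV, t, ht, hmap⟩ := exists_local_gen I g hg y
  refine ⟨V.1, hyV, ?_⟩
  rw [← cancel_epi V.2.isoSpec.inv, ← Category.assoc, ← Category.assoc,
    IsAffineOpen.isoSpec_inv_ι]
  apply lift_unique_spec I (secMap g V.1) t ht hmap
  · rw [Category.assoc, hh₁, fromSpec_comp]
  · rw [Category.assoc, hh₂, fromSpec_comp]

theorem exists_lift (hg : BlowUp.IsEffCartierIdeal ((specIdeal I).comap g)) :
    ∃ h : Y ⟶ Proj (gr I), h ≫ bl I = g := by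
  choose V hyV t ht hmap using exists_local_gen I g hg
  have hloc : ∀ y, ∃ h : ((V y).1 : Scheme.{u}) ⟶ Proj (gr I), h ≫ bl I = (V y).1.ι ≫ g := by
    intro y
    obtain ⟨h, hh⟩ := exists_lift_spec I (secMap g (V y).1) (t y) (ht y) (hmap y)
    refine ⟨(V y).2.isoSpec.hom ≫ h, ?_⟩
    rw [Category.assoc, hh, ← fromSpec_comp, ← IsAffineOpen.isoSpec_inv_ι, Category.assoc,
      Iso.hom_inv_id_assoc]
  choose h hh using hloc
  let 𝒰 : Y.OpenCover := {
    I₀ := Y, X y := ((V y).1 : Scheme.{u}), f y := (V y).1.ι,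
    mem₀ := by
      rw [Scheme.presieve₀_mem_precoverage_iff]
      refine ⟨fun x ↦ ⟨x, by simpa using hyV x⟩, inferInstance⟩ }
  refine ⟨𝒰.glueMorphisms h ?_, ?_⟩
  · intro x y
    apply lift_unique I (pullback.fst (𝒰.f x) (𝒰.f y) ≫ (V x).1.ι ≫ g)
    · rw [← Category.assoc, comap_comp]
      exact isEffCartier_comap_of_flat _ _ hg
    · rw [Category.assoc, hh]
    · rw [Category.assoc, hh]
      exact (pullback.condition_assoc (f := 𝒰.f x) (g := 𝒰.f y) g).symm
  · apply 𝒰.hom_ext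
    intro y
    rw [← Category.assoc, 𝒰.ι_glueMorphisms, hh]

end General

section Main

variable {A : Type u} [CommRing A] (I : Ideal A)

/-- `Proj` of the Rees algebra is the blow-up of `Spec A` in `I` -/
theorem isBlowUp_bl : BlowUp.IsBlowUp (bl I) (specIdeal I) := by
  refine ⟨isEffCartier_comap_bl I, fun Y g hg => ?_⟩
  obtain ⟨h, hh⟩ := exists_lift I g hg
  exact ⟨h, hh, fun h' hh' => lift_unique I g hg h' h hh' hh⟩

end Main

end Groth.Agent.Lead.Blow
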