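import Mathlib
import Groth.Agent.Lib.Lead.Blow3

set_option autoImplicit false
set_option backward.isDefEq.respectTransparency.types false
set_option synthInstance.maxHeartbeats 400000
set_option linter.style.haveILetI false
set_option linter.unusedSectionVars false
universe u
open CategoryTheory CategoryTheory.Limits AlgebraicGeometry TopologicalSpace Opposite

namespace Groth.Agent.Lead.Blow

open Scheme.IdealSheafData Groth.Agent.Helper4

section GeneralBlowUp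

variable {X : Scheme.{u}} (𝓘 : X.IdealSheafData)

/-- two blow-ups of the same centre are isomorphic over the base -/
theorem exists_iso_of_isBlowUp {X₁ X₂ : Scheme.{u}} (b₁ : X₁ ⟶ X) (b₂ : X₂ ⟶ X)
    (h₁ : BlowUp.IsBlowUp b₁ 𝓘) (h₂ : BlowUp.IsBlowUp b₂ 𝓘) :
    ∃ θ : X₁ ≅ X₂, θ.hom ≫ b₂ = b₁ := by
  obtain ⟨f, hf, -⟩ := h₂.2 X₁ b₁ h₁.1
  obtain ⟨g, hg, -⟩ := h₁.2 X₂ b₂ h₂.1
  have e1 : f ≫ g = 𝟙 _ := by
    obtain ⟨k, hk, huniq⟩ := h₁.2 X₁ b₁ h₁.1
    rw [huniq (f ≫ g) (by change (f ≫ g) ≫ b₁ = b₁; rw [Category.assoc, hg, hf]),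
      huniq (𝟙 _) (Category.id_comp _)]
  have e2 : g ≫ f = 𝟙 _ := by
    obtain ⟨k, hk, huniq⟩ := h₂.2 X₂ b₂ h₂.1
    rw [huniq (g ≫ f) (by change (g ≫ f) ≫ b₂ = b₂; rw [Category.assoc, hf, hg]),
      huniq (𝟙 _) (Category.id_comp _)]
  exact ⟨⟨f, g, e1, e2⟩, hf⟩

/-- blow-ups are stable under flat base change (in the form: any pullback square whose upper
horizontal map is flat) -/
theorem isBlowUp_of_isPullback {X' U U' : Scheme.{u}} {b : X' ⟶ X} {j : U ⟶ X} {j' : U' ⟶ X'}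
    {b' : U' ⟶ U} (sq : IsPullback j' b' b j) [Flat j'] (hb : BlowUp.IsBlowUp b 𝓘) :
    BlowUp.IsBlowUp b' (𝓘.comap j) := by
  constructor
  · rw [← comap_comp, ← sq.w, comap_comp]
    exact isEffCartier_comap_of_flat j' _ hb.1
  · intro Y g hg
    rw [← comap_comp] at hg
    obtain ⟨h₀, hh₀, huniq⟩ := hb.2 Y (g ≫ j) hg
    refine ⟨sq.lift h₀ g hh₀, sq.lift_snd _ _ _, fun h' hh' => ?_⟩
    apply sq.hom_ext
    · rw [sq.lift_fst]
      apply huniq
      rw [Category.assoc, sq.w, ← Category.assoc, hh']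
    · rw [sq.lift_snd, hh']

/-- transport of a blow-up along an isomorphism of the base -/
theorem isBlowUp_comp_iso {X' Z : Scheme.{u}} (b : X' ⟶ X) (θ : X ≅ Z)
    (hb : BlowUp.IsBlowUp b 𝓘) : BlowUp.IsBlowUp (b ≫ θ.hom) (𝓘.comap θ.inv) := by
  have sq : IsPullback (𝟙 X') (b ≫ θ.hom) b θ.inv :=
    IsPullback.of_horiz_isIso ⟨by simp⟩
  exact isBlowUp_of_isPullback 𝓘 sq hb

/-- local data: an open `j : U ⟶ X` around `x` over which `b` restricts to a blow-up -/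
def LocalBlowUp {X' : Scheme.{u}} (b : X' ⟶ X) (x : X) : Prop :=
  ∃ (U U' : Scheme.{u}) (j : U ⟶ X) (j' : U' ⟶ X') (b' : U' ⟶ U),
    IsOpenImmersion j ∧ x ∈ Set.range j ∧ IsPullback j' b' b j ∧ BlowUp.IsBlowUp b' (𝓘.comap j)

theorem isEffCartier_of_local {X' : Scheme.{u}} (b : X' ⟶ X)
    (H : ∀ x : X, LocalBlowUp 𝓘 b x) : BlowUp.IsEffCartierIdeal (𝓘.comap b) := by
  apply isEffCartier_of_openImmersions
  intro x'
  obtain ⟨U, U', j, j', b', hj, ⟨u, hu⟩, sq, hb'⟩ := H (b x')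
  have hj' : IsOpenImmersion j' := MorphismProperty.of_isPullback (P := @IsOpenImmersion) sq.flip hj
  refine ⟨U', j', hj', ?_, ?_⟩
  · obtain ⟨p, hp, -⟩ := Scheme.exists_preimage_of_isPullback sq x' u hu.symm
    exact ⟨p, hp⟩
  · rw [← comap_comp, sq.w, comap_comp]
    exact hb'.1

theorem lift_unique_of_local {X' : Scheme.{u}} (b : X' ⟶ X)
    (H : ∀ x : X, LocalBlowUp 𝓘 b x) {Y : Scheme.{u}} (g : Y ⟶ X)
    (hg : BlowUp.IsEffCartierIdeal (𝓘.comap g)) (h₁ h₂ : Y ⟶ X') (hh₁ : h₁ ≫ b = g)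
    (hh₂ : h₂ ≫ b = g) : h₁ = h₂ := by
  apply Scheme.hom_ext_of_forall
  intro y
  obtain ⟨U, U', j, j', b', hj, hx, sq, hb'⟩ := H (g y)
  let W : Y.Opens := g ⁻¹ᵁ j.opensRange
  refine ⟨W, hx, ?_⟩
  have hr : Set.range (W.ι ≫ g) ⊆ Set.range j := by
    rintro _ ⟨w, rfl⟩
    exact w.2
  let gW : (W : Scheme.{u}) ⟶ U := IsOpenImmersion.lift j (W.ι ≫ g) hr
  have hgW : gW ≫ j = W.ι ≫ g := IsOpenImmersion.lift_fac _ _ _
  have hC : BlowUp.IsEffCartierIdeal ((𝓘.comap j).comap gW) := by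
    rw [← comap_comp, hgW, comap_comp]
    exact isEffCartier_comap_of_flat _ _ hg
  obtain ⟨k, -, huniq⟩ := hb'.2 _ gW hC
  have e1 : (W.ι ≫ h₁) ≫ b = gW ≫ j := by rw [Category.assoc, hh₁, hgW]
  have e2 : (W.ι ≫ h₂) ≫ b = gW ≫ j := by rw [Category.assoc, hh₂, hgW]
  have k1 := huniq (sq.lift (W.ι ≫ h₁) gW e1) (sq.lift_snd _ _ _)
  have k2 := huniq (sq.lift (W.ι ≫ h₂) gW e2) (sq.lift_snd _ _ _)
  rw [← sq.lift_fst (W.ι ≫ h₁) gW e1, ← sq.lift_fst (W.ι ≫ h₂) gW e2, k1, k2]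

theorem exists_lift_of_local {X' : Scheme.{u}} (b : X' ⟶ X)
    (H : ∀ x : X, LocalBlowUp 𝓘 b x) {Y : Scheme.{u}} (g : Y ⟶ X)
    (hg : BlowUp.IsEffCartierIdeal (𝓘.comap g)) : ∃ h : Y ⟶ X', h ≫ b = g := by
  have hloc : ∀ y : Y, ∃ (W : Y.Opens) (h : (W : Scheme.{u}) ⟶ X'), y ∈ W ∧ h ≫ b = W.ι ≫ g := by
    intro y
    obtain ⟨U, U', j, j', b', hj, hx, sq, hb'⟩ := H (g y)
    let W : Y.Opens := g ⁻¹ᵁ j.opensRange
    have hr : Set.range (W.ι ≫ g) ⊆ Set.range j := by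
      rintro _ ⟨w, rfl⟩
      exact w.2
    let gW : (W : Scheme.{u}) ⟶ U := IsOpenImmersion.lift j (W.ι ≫ g) hr
    have hgW : gW ≫ j = W.ι ≫ g := IsOpenImmersion.lift_fac _ _ _
    have hC : BlowUp.IsEffCartierIdeal ((𝓘.comap j).comap gW) := by
      rw [← comap_comp, hgW, comap_comp]
      exact isEffCartier_comap_of_flat _ _ hg
    obtain ⟨k, hk, -⟩ := hb'.2 _ gW hC
    refine ⟨W, k ≫ j', hx, ?_⟩
    rw [Category.assoc, sq.w, ← Category.assoc, hk, hgW]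
  choose W h hyW hh using hloc
  let 𝒰 : Y.OpenCover := {
    I₀ := Y, X y := ((W y) : Scheme.{u}), f y := (W y).ι,
    mem₀ := by
      rw [Scheme.presieve₀_mem_precoverage_iff]
      refine ⟨fun x ↦ ⟨x, by simpa using hyW x⟩, inferInstance⟩ }
  refine ⟨𝒰.glueMorphisms h ?_, ?_⟩
  · intro x y
    apply lift_unique_of_local 𝓘 b H (pullback.fst (𝒰.f x) (𝒰.f y) ≫ (W x).ι ≫ g)
    · rw [← Category.assoc, comap_comp]
      exact isEffCartier_comap_of_flat _ _ hg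
    · rw [Category.assoc, hh]
    · rw [Category.assoc, hh]
      exact (pullback.condition_assoc (f := 𝒰.f x) (g := 𝒰.f y) g).symm
  · apply 𝒰.hom_ext
    intro y
    rw [← Category.assoc, 𝒰.ι_glueMorphisms, hh]

/-- being a blow-up is local on the base -/
theorem isBlowUp_of_local {X' : Scheme.{u}} (b : X' ⟶ X)
    (H : ∀ x : X, LocalBlowUp 𝓘 b x) : BlowUp.IsBlowUp b 𝓘 := by
  refine ⟨isEffCartier_of_local 𝓘 b H, fun Y g hg => ?_⟩
  obtain ⟨h, hh⟩ := exists_lift_of_local 𝓘 b H g hg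
  exact ⟨h, hh, fun h' hh' => lift_unique_of_local 𝓘 b H g hg h' h hh' hh⟩

end GeneralBlowUp

section AffineExist

/-- blow-ups of affine schemes exist -/
theorem exists_isBlowUp_of_isAffine (Z : Scheme.{u}) [IsAffine Z] (𝓙 : Z.IdealSheafData) :
    ∃ (Z' : Scheme.{u}) (b : Z' ⟶ Z), BlowUp.IsBlowUp b 𝓙 := by
  let J : Ideal Γ(Z, ⊤) := 𝓙.ideal ⟨⊤, isAffineOpen_top Z⟩
  refine ⟨Proj (gr J), bl J ≫ Z.isoSpec.inv, ?_⟩
  have h1 := isBlowUp_comp_iso (specIdeal J) (bl J) Z.isoSpec.symm (isBlowUp_bl J)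
  have h2 : (specIdeal J).comap Z.isoSpec.hom = 𝓙 := by
    conv_rhs => rw [IdealComap.eq_ofIdealTop 𝓙]
    unfold specIdeal
    rw [IdealComap.comap_ofIdealTop, Ideal.map_map]
    congr 1
    have : (Z.isoSpec.hom.appTop.hom).comp (Scheme.ΓSpecIso (CommRingCat.of Γ(Z, ⊤))).inv.hom =
        RingHom.id _ := by
      rw [Scheme.isoSpec_hom, Scheme.toSpecΓ_appTop, ← CommRingCat.hom_comp]
      erw [Iso.inv_hom_id]
      rfl
    rw [this, Ideal.map_id]
  rw [← h2]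
  exact h1

end AffineExist

section Glue

variable (X : Scheme.{u}) (𝓘 : X.IdealSheafData)

theorem isBlowUp_toBase (d : Scheme.Cover.RelativeGluingData X.directedAffineCover)
    (hd : ∀ U : X.affineOpens, BlowUp.IsBlowUp (d.natTrans.app U) (𝓘.comap U.1.ι)) :
    BlowUp.IsBlowUp d.toBase 𝓘 := by
  apply isBlowUp_of_local
  intro x
  obtain ⟨U, hU, hxU, -⟩ := Opens.isBasis_iff_nbhd.mp (X.isBasis_affineOpens)
    (show x ∈ (⊤ : X.Opens) from trivial)
  refine ⟨((⟨U, hU⟩ : X.affineOpens).1 : Scheme.{u}), d.functor.obj ⟨U, hU⟩, Scheme.Opens.ι U,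
    colimit.ι d.functor (⟨U, hU⟩ : X.affineOpens), d.natTrans.app ⟨U, hU⟩, inferInstance, ?_, ?_,
    hd ⟨U, hU⟩⟩
  · exact ⟨⟨x, hxU⟩, rfl⟩
  · exact (d.isPullback_natTrans_ι_toBase (⟨U, hU⟩ : X.affineOpens)).flip

/-- blow-ups exist -/
theorem exists_isBlowUp : ∃ (X' : Scheme.{u}) (b : X' ⟶ X), BlowUp.IsBlowUp b 𝓘 := by
  have hex : ∀ U : X.affineOpens, ∃ (B : Scheme.{u}) (β : B ⟶ (U.1 : Scheme.{u})),
      BlowUp.IsBlowUp β (𝓘.comap U.1.ι) := by
    intro U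
    haveI : IsAffine (U.1 : Scheme.{u}) := U.2
    exact exists_isBlowUp_of_isAffine _ _
  choose B β hβ using hex
  have hlift : ∀ (U V : X.affineOpens) (hUV : U ≤ V),
      ∃! f : B U ⟶ B V, f ≫ β V = β U ≫ X.homOfLE hUV := by
    intro U V hUV
    apply (hβ V).2
    rw [← comap_comp, Category.assoc, Scheme.homOfLE_ι, comap_comp]
    exact (hβ U).1
  let F : X.directedAffineCover.I₀ ⥤ Scheme.{u} := {
    obj := B
    map := fun {U V} f => (hlift U V (leOfHom f)).choose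
    map_id := fun U => by
      symm
      apply (hlift U U (leOfHom (𝟙 U))).choose_spec.2
      change 𝟙 (B U) ≫ β U = β U ≫ X.homOfLE _
      rw [Category.id_comp]
      exact ((congrArg (fun t => β U ≫ t) (Scheme.homOfLE_rfl X U.1)).trans
        (Category.comp_id _)).symm
    map_comp := fun {U V W} f g => by
      symm
      apply (hlift U W (leOfHom (f ≫ g))).choose_spec.2
      change ((hlift U V (leOfHom f)).choose ≫ (hlift V W (leOfHom g)).choose) ≫ β W =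
        β U ≫ X.homOfLE _
      rw [Category.assoc, (hlift V W (leOfHom g)).choose_spec.1, ← Category.assoc,
        (hlift U V (leOfHom f)).choose_spec.1, Category.assoc, Scheme.homOfLE_homOfLE] }
  have hFmap : ∀ {U V : X.affineOpens} (f : U ⟶ V),
      F.map f ≫ β V = β U ≫ X.homOfLE (leOfHom f) :=
    fun {U V} f => (hlift U V (leOfHom f)).choose_spec.1
  have hG : ∀ {U V : X.directedAffineCover.I₀} (f : U ⟶ V),
      X.directedAffineCover.functorOfLocallyDirected.map f = X.homOfLE (leOfHom f) :=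
    fun {U V} f => rfl
  let α : F ⟶ X.directedAffineCover.functorOfLocallyDirected := {
    app := fun U => β U
    naturality := fun U V f => by
      rw [hG f]
      exact hFmap f }
  have hα : α.Equifibered := by
    intro U V f
    have hUV : U ≤ V := leOfHom f
    have sq0 := IsPullback.of_hasPullback (β V) (X.homOfLE hUV)
    have hsnd : BlowUp.IsBlowUp (pullback.snd (β V) (X.homOfLE hUV)) (𝓘.comap U.1.ι) := by
      have := isBlowUp_of_isPullback (𝓘.comap V.1.ι) sq0 (hβ V)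
      rwa [← comap_comp, Scheme.homOfLE_ι] at this
    obtain ⟨θ, hθ⟩ := exists_iso_of_isBlowUp (𝓘.comap U.1.ι) (β U) _ (hβ U) hsnd
    have hfst : θ.hom ≫ pullback.fst (β V) (X.homOfLE hUV) = F.map f := by
      apply (hlift U V hUV).choose_spec.2
      change (θ.hom ≫ pullback.fst (β V) (X.homOfLE hUV)) ≫ β V = β U ≫ X.homOfLE hUV
      rw [Category.assoc, pullback.condition, ← Category.assoc, hθ]
    have hcomm : CommSq (F.map f) (α.app U) (α.app V)
        (X.directedAffineCover.functorOfLocallyDirected.map f) :=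
      ⟨α.naturality f⟩
    rw [hG f] at hcomm ⊢
    exact IsPullback.of_iso_pullback hcomm θ hfst hθ
  let d : Scheme.Cover.RelativeGluingData X.directedAffineCover := ⟨F, α, hα⟩
  exact ⟨d.glued, d.toBase, isBlowUp_toBase X 𝓘 d hβ⟩

end Glue

end Groth.Agent.Lead.Blow
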