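import Mathlib
import Groth.Agent.Lib.Lead.Blow4

set_option autoImplicit false
set_option backward.isDefEq.respectTransparency.types false
set_option synthInstance.maxHeartbeats 400000
set_option linter.style.haveILetI false
set_option linter.unusedSectionVars false
universe u
open CategoryTheory CategoryTheory.Limits AlgebraicGeometry TopologicalSpace Opposite

namespace Groth.Agent.Lead.Blow

open Polynomial HomogeneousLocalization

section ReesMap

variable {A B : Type u} [CommRing A] [CommRing B] (φ : A →+* B) (I : Ideal A)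

/-- the map of Rees algebras induced by a ring map -/
noncomputable def reesMap : ↥(reesAlgebra I) →+* ↥(reesAlgebra (I.map φ)) :=
  ((Polynomial.mapRingHom φ).comp (reesAlgebra I).val.toRingHom).codRestrict
    (reesAlgebra (I.map φ)) (fun p => by
      intro n
      change (Polynomial.map φ (p : A[X])).coeff n ∈ (I.map φ) ^ n
      rw [coeff_map, ← Ideal.map_pow]
      exact Ideal.mem_map_of_mem _ (p.2 n))

theorem coe_reesMap (p : ↥(reesAlgebra I)) :
    ((reesMap φ I p : ↥(reesAlgebra (I.map φ))) : B[X]) = Polynomial.map φ (p : A[X]) := rfl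

theorem reesMap_mono (n : ℕ) (c : A) (hc : c ∈ I ^ n) :
    reesMap φ I (mono I n c hc) =
      mono (I.map φ) n (φ c) (by rw [← Ideal.map_pow]; exact Ideal.mem_map_of_mem _ hc) := by
  apply Subtype.ext
  rw [coe_reesMap, coe_mono, coe_mono, map_monomial]

theorem reesMap_algebraMap (c : A) :
    reesMap φ I (algebraMap A ↥(reesAlgebra I) c) = algebraMap B ↥(reesAlgebra (I.map φ)) (φ c) := by
  rw [algebraMap_eq_mono, algebraMap_eq_mono, reesMap_mono]

/-- the graded ring map of Rees algebras -/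
noncomputable def reesGr : GradedRingHom (gr I) (gr (I.map φ)) where
  toRingHom := reesMap φ I
  map_mem := by
    intro i x hx
    obtain ⟨c, hc, rfl⟩ := exists_mono_of_mem I i x hx
    change reesMap φ I (mono I i c hc) ∈ gr (I.map φ) i
    rw [reesMap_mono]
    exact mono_mem _ _ _ _

theorem reesGr_apply (x : ↥(reesAlgebra I)) : reesGr φ I x = reesMap φ I x := rfl

theorem tX_mem_map (y : B) (hy : y ∈ I.map φ) :
    tX (I.map φ) y hy ∈ Ideal.map (reesMap φ I) (HomogeneousIdeal.irrelevant (gr I)).toIdeal := by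
  have key : ∀ (y : B) (hy : y ∈ Ideal.span (φ '' (I : Set A))),
      tX (I.map φ) y hy ∈
        Ideal.map (reesMap φ I) (HomogeneousIdeal.irrelevant (gr I)).toIdeal := by
    intro y hy
    induction hy using Submodule.span_induction with
    | mem y hy =>
      obtain ⟨x, hx, rfl⟩ := hy
      have h1 : tX (I.map φ) (φ x) (Ideal.mem_map_of_mem _ hx) = reesMap φ I (tX I x hx) := by
        rw [reesMap_mono]
      rw [h1]
      exact Ideal.mem_map_of_mem _
        (HomogeneousIdeal.mem_irrelevant_of_mem _ one_pos (tX_mem I x hx))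
    | zero =>
      have : tX (I.map φ) 0 (Ideal.zero_mem _) = 0 := by
        rw [mono_eq_zero_iff]
      rw [this]
      exact Ideal.zero_mem _
    | add y z hy hz h1 h2 =>
      have : tX (I.map φ) (y + z) (Ideal.add_mem _ hy hz) =
          tX (I.map φ) y hy + tX (I.map φ) z hz := by
        apply Subtype.ext
        simp [coe_mono]
      rw [this]
      exact Ideal.add_mem _ h1 h2
    | smul r y hy h1 =>
      have : tX (I.map φ) (r • y) (Ideal.mul_mem_left _ r hy) =
          algebraMap B ↥(reesAlgebra (I.map φ)) r * tX (I.map φ) y hy := by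
        rw [algebraMap_eq_mono, mono_mul]
        exact mono_congr _ _ _ (by ring) (by simp)
      rw [this]
      exact Ideal.mul_mem_left _ _ h1
  exact key y hy

theorem irrelevant_le_map :
    HomogeneousIdeal.irrelevant (gr (I.map φ)) ≤
      (HomogeneousIdeal.irrelevant (gr I)).map (reesGr φ I) := by
  change (HomogeneousIdeal.irrelevant (gr (I.map φ))).toIdeal ≤
    Ideal.map (reesGr φ I) (HomogeneousIdeal.irrelevant (gr I)).toIdeal
  refine (irrelevant_le_span (I.map φ)).trans ?_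
  rw [Ideal.span_le]
  rintro _ ⟨y, rfl⟩
  exact tX_mem_map φ I y.1 y.2

end ReesMap

section ProjMap

variable {A B : Type u} [CommRing A] [CommRing B] (φ : A →+* B) (I : Ideal A)

/-- the map of blow-ups induced by a ring map -/
noncomputable def projMap : Proj (gr (I.map φ)) ⟶ Proj (gr I) :=
  Proj.map (reesGr φ I) (irrelevant_le_map φ I)

theorem away_map_algebraMap (s : ↥(reesAlgebra I)) (c : A) :
    HomogeneousLocalization.Away.map (reesGr φ I) s
      (HomogeneousLocalization.fromZeroRingHom (gr I) (Submonoid.powers s)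
        (algebraMap A (gr I 0) c)) =
    HomogeneousLocalization.fromZeroRingHom (gr (I.map φ)) (Submonoid.powers (reesGr φ I s))
      (algebraMap B (gr (I.map φ) 0) (φ c)) := by
  apply HomogeneousLocalization.val_injective
  change Localization.mk (reesGr φ I (algebraMap A ↥(reesAlgebra I) c)) ⟨reesGr φ I 1, _⟩ =
    Localization.mk (algebraMap B ↥(reesAlgebra (I.map φ)) (φ c)) 1
  apply Localization.mk_eq_mk_iff.mpr
  apply Localization.r_of_eq
  change 1 * reesMap φ I (algebraMap A ↥(reesAlgebra I) c) =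
    reesMap φ I 1 * algebraMap B ↥(reesAlgebra (I.map φ)) (φ c)
  rw [reesMap_algebraMap, map_one]

theorem chart_comm (i : ℕ) (hi : 0 < i) (s : ↥(reesAlgebra I)) (hs : s ∈ gr I i) :
    Proj.awayι (gr (I.map φ)) (reesGr φ I s) ((reesGr φ I).2 hs) hi ≫ projMap φ I ≫ bl I =
      Proj.awayι (gr (I.map φ)) (reesGr φ I s) ((reesGr φ I).2 hs) hi ≫
        bl (I.map φ) ≫ Spec.map (CommRingCat.ofHom φ) := by
  rw [projMap, bl_eq, bl_eq, Proj.awayι_comp_map_assoc (reesGr φ I) _ hi s hs,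
    Proj.awayι_toSpecZero_assoc, Category.assoc, Proj.awayι_toSpecZero_assoc,
    ← Spec.map_comp, ← Spec.map_comp, ← Spec.map_comp, ← Spec.map_comp]
  congr 1
  exact CommRingCat.hom_ext (RingHom.ext fun c => away_map_algebraMap φ I s c)

theorem projMap_bl :
    projMap φ I ≫ bl I = bl (I.map φ) ≫ Spec.map (CommRingCat.ofHom φ) := by
  refine (Proj.mapAffineOpenCover (reesGr φ I) (irrelevant_le_map φ I)).openCover.hom_ext _ _
    fun s ↦ ?_
  exact chart_comm φ I s.1.1 s.1.2 s.2.1 s.2.2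

end ProjMap

section LocalTarget

/-- a property local at the target can be checked on pullback squares along open immersions
covering the target -/
theorem of_local_isPullback {P : MorphismProperty Scheme.{u}} [IsZariskiLocalAtTarget P]
    {X Y : Scheme.{u}} (f : X ⟶ Y)
    (H : ∀ y : Y, ∃ (UX UY : Scheme.{u}) (iX : UX ⟶ X) (iY : UY ⟶ Y) (f' : UX ⟶ UY),
      IsOpenImmersion iY ∧ y ∈ Set.range iY ∧ IsPullback iX f' f iY ∧ P f') : P f := by
  apply IsZariskiLocalAtTarget.of_forall_exists_morphismRestrict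
  intro y
  obtain ⟨UX, UY, iX, iY, f', hiY, hy, sq, hP⟩ := H y
  refine ⟨iY.opensRange, hy, ?_⟩
  rw [P.arrow_mk_iso_iff (morphismRestrictOpensRange f iY)]
  have h1 : sq.isoPullback.hom ≫ pullback.snd f iY = f' := sq.isoPullback_hom_snd
  rw [← h1] at hP
  exact (P.cancel_left_of_respectsIso sq.isoPullback.hom (pullback.snd f iY)).mp hP

end LocalTarget

section ClosedImm

variable {A B : Type u} [CommRing A] [CommRing B] (φ : A →+* B) (I : Ideal A)

theorem away_map_surjective (hφ : Function.Surjective φ) (x : A) (hx : x ∈ I) :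
    Function.Surjective (HomogeneousLocalization.Away.map (reesGr φ I) (tX I x hx)) := by
  intro z
  obtain ⟨n, y, hy, rfl⟩ := HomogeneousLocalization.Away.mk_surjective (gr (I.map φ))
    ((reesGr φ I).2 (tX_mem I x hx)) z
  have hy' : y ∈ gr (I.map φ) n := by simpa using hy
  obtain ⟨c', hc', rfl⟩ := exists_mono_of_mem (I.map φ) n y hy'
  have hc'' : c' ∈ Ideal.map φ (I ^ n) := by rw [Ideal.map_pow]; exact hc'
  obtain ⟨c, hc, rfl⟩ := (Ideal.mem_map_iff_of_surjective φ hφ).mp hc''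
  refine ⟨HomogeneousLocalization.Away.mk (gr I) (tX_mem I x hx) n (mono I n c hc)
    (by simpa using mono_mem I n c hc), ?_⟩
  rw [HomogeneousLocalization.Away.map_mk]
  congr 1
  exact reesMap_mono φ I n c hc

theorem isClosedImmersion_projMap (hφ : Function.Surjective φ) :
    IsClosedImmersion (projMap φ I) := by
  apply of_local_isPullback (P := @IsClosedImmersion)
  intro p
  obtain ⟨x, hx, hp⟩ := exists_chart I p
  refine ⟨_, _, Proj.awayι (gr (I.map φ)) (reesGr φ I (tX I x hx))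
    ((reesGr φ I).2 (tX_mem I x hx)) one_pos, chartι I x hx,
    Spec.map (CommRingCat.ofHom (HomogeneousLocalization.Away.map (reesGr φ I) (tX I x hx))),
    inferInstance, hp, ?_, ?_⟩
  · refine (IsOpenImmersion.isPullback _ _ _ _ ?_ ?_).flip
    · exact Proj.awayι_comp_map (reesGr φ I) (irrelevant_le_map φ I) one_pos (tX I x hx)
        (tX_mem I x hx)
    · rw [Proj.opensRange_awayι, Proj.opensRange_awayι]
      rfl
  · exact IsClosedImmersion.spec_of_surjective _ (away_map_surjective φ I hφ x hx)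

end ClosedImm

section AffineCI

open Scheme.IdealSheafData Groth.Agent.Helper4

theorem comap_isoSpec_hom (Z : Scheme.{u}) [IsAffine Z] (𝓙 : Z.IdealSheafData) :
    (specIdeal (𝓙.ideal ⟨⊤, isAffineOpen_top Z⟩)).comap Z.isoSpec.hom = 𝓙 := by
  conv_rhs => rw [IdealComap.eq_ofIdealTop 𝓙]
  unfold specIdeal
  rw [IdealComap.comap_ofIdealTop, Ideal.map_map]
  congr 1
  have : (Z.isoSpec.hom.appTop.hom).comp (Scheme.ΓSpecIso (CommRingCat.of Γ(Z, ⊤))).inv.hom =
      RingHom.id _ := by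
    rw [Scheme.isoSpec_hom, Scheme.toSpecΓ_appTop, ← CommRingCat.hom_comp]
    erw [Iso.inv_hom_id]
    rfl
  rw [this, Ideal.map_id]

theorem isClosedImmersion_of_isBlowUp_affine {X Y X' Y' : Scheme.{u}} [IsAffine X]
    (𝓘 : X.IdealSheafData) (f : Y ⟶ X) [IsClosedImmersion f]
    (b : X' ⟶ X) (hb : BlowUp.IsBlowUp b 𝓘) (b' : Y' ⟶ Y) (hb' : BlowUp.IsBlowUp b' (𝓘.comap f))
    (f' : Y' ⟶ X') (hf' : f' ≫ b = b' ≫ f) : IsClosedImmersion f' := by
  obtain ⟨hYaff, hsurj⟩ := IsClosedImmersion.isAffine_surjective_of_isAffine f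
  haveI := hYaff
  let I : Ideal Γ(X, ⊤) := 𝓘.ideal ⟨⊤, isAffineOpen_top X⟩
  let φ : Γ(X, ⊤) →+* Γ(Y, ⊤) := f.appTop.hom
  have h2 : (specIdeal I).comap X.isoSpec.hom = 𝓘 := comap_isoSpec_hom X 𝓘
  have h3 : 𝓘.comap X.isoSpec.inv = specIdeal I := by
    rw [← h2, ← comap_comp, Iso.inv_hom_id, comap_id]
  have hb1 : BlowUp.IsBlowUp (b ≫ X.isoSpec.hom) (specIdeal I) := by
    have := isBlowUp_comp_iso 𝓘 b X.isoSpec hb
    rwa [h3] at this
  have hnat : Y.isoSpec.inv ≫ f = Spec.map (CommRingCat.ofHom φ) ≫ X.isoSpec.inv :=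
    (Scheme.isoSpec_inv_naturality f).symm
  have hb2 : BlowUp.IsBlowUp (b' ≫ Y.isoSpec.hom) (specIdeal (I.map φ)) := by
    have := isBlowUp_comp_iso (𝓘.comap f) b' Y.isoSpec hb'
    rwa [← comap_comp, hnat, comap_comp, h3, comap_SpecMap] at this
  obtain ⟨θ, hθ⟩ := exists_iso_of_isBlowUp (specIdeal I) _ (bl I) hb1 (isBlowUp_bl I)
  obtain ⟨θ', hθ'⟩ := exists_iso_of_isBlowUp (specIdeal (I.map φ)) _ (bl (I.map φ)) hb2
    (isBlowUp_bl _)
  haveI : IsClosedImmersion (projMap φ I) := isClosedImmersion_projMap φ I hsurj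
  have key : f' = θ'.hom ≫ projMap φ I ≫ θ.inv := by
    have hC : BlowUp.IsEffCartierIdeal (𝓘.comap (b' ≫ f)) := by
      rw [comap_comp]; exact hb'.1
    obtain ⟨k, -, huniq⟩ := hb.2 Y' (b' ≫ f) hC
    have e1 : θ.inv ≫ b = bl I ≫ X.isoSpec.inv := by
      rw [Iso.inv_comp_eq, ← Category.assoc, hθ, Category.assoc, Iso.hom_inv_id, Category.comp_id]
    have e2 : (θ'.hom ≫ projMap φ I ≫ θ.inv) ≫ b = b' ≫ f := by
      simp only [Category.assoc]
      rw [e1, ← Category.assoc (projMap φ I), projMap_bl, Category.assoc, ← hnat,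
        ← Category.assoc θ'.hom, hθ', Category.assoc, Iso.hom_inv_id_assoc]
    rw [huniq f' hf', huniq _ e2]
  rw [key]
  infer_instance

end AffineCI

section GeneralCI

open Scheme.IdealSheafData Groth.Agent.Helper4

/-- the map induced on blow-ups by a closed immersion (the strict transform) is a closed
immersion -/
theorem isClosedImmersion_of_isBlowUp {X Y X' Y' : Scheme.{u}}
    (𝓘 : X.IdealSheafData) (f : Y ⟶ X) [IsClosedImmersion f]
    (b : X' ⟶ X) (hb : BlowUp.IsBlowUp b 𝓘) (b' : Y' ⟶ Y) (hb' : BlowUp.IsBlowUp b' (𝓘.comap f))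
    (f' : Y' ⟶ X') (hf' : f' ≫ b = b' ≫ f) : IsClosedImmersion f' := by
  apply of_local_isPullback (P := @IsClosedImmersion)
  intro x'
  obtain ⟨U₀, hU, hxU, -⟩ := Opens.isBasis_iff_nbhd.mp (X.isBasis_affineOpens)
    (show b x' ∈ (⊤ : X.Opens) from trivial)
  let U : X.Opens := U₀
  let V : X'.Opens := b ⁻¹ᵁ U
  let W : Y.Opens := f ⁻¹ᵁ U
  let V' : Y'.Opens := b' ⁻¹ᵁ W
  have hV' : f' ⁻¹ᵁ V = V' := by
    change (f' ≫ b) ⁻¹ᵁ U = (b' ≫ f) ⁻¹ᵁ U
    rw [hf']
  have hr : Set.range (V'.ι ≫ f') ⊆ Set.range V.ι := by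
    rintro _ ⟨y, rfl⟩
    have hy : y.1 ∈ f' ⁻¹ᵁ V := by rw [hV']; exact y.2
    exact ⟨⟨f' y.1, hy⟩, rfl⟩
  let f₁' : (V' : Scheme.{u}) ⟶ (V : Scheme.{u}) := IsOpenImmersion.lift V.ι (V'.ι ≫ f') hr
  have hf₁' : f₁' ≫ V.ι = V'.ι ≫ f' := IsOpenImmersion.lift_fac _ _ _
  refine ⟨V', V, V'.ι, V.ι, f₁', inferInstance, ⟨⟨x', hxU⟩, rfl⟩, ?_, ?_⟩
  · refine (IsOpenImmersion.isPullback f₁' V'.ι V.ι f' hf₁'.symm ?_).flip
    rw [Scheme.Opens.opensRange_ι, Scheme.Opens.opensRange_ι, hV']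
  · haveI : IsAffine (U : Scheme.{u}) := hU
    have hb1 : BlowUp.IsBlowUp (b ∣_ U) (𝓘.comap U.ι) :=
      isBlowUp_of_isPullback 𝓘 (isPullback_morphismRestrict b U).flip hb
    have hb2 : BlowUp.IsBlowUp (b' ∣_ W) ((𝓘.comap U.ι).comap (f ∣_ U)) := by
      have := isBlowUp_of_isPullback (𝓘.comap f) (isPullback_morphismRestrict b' W).flip hb'
      rwa [← comap_comp, ← morphismRestrict_ι, comap_comp] at this
    have hcomm : f₁' ≫ (b ∣_ U) = (b' ∣_ W) ≫ (f ∣_ U) := by
      rw [← cancel_mono U.ι, Category.assoc, Category.assoc, morphismRestrict_ι,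
        morphismRestrict_ι, ← Category.assoc, hf₁', Category.assoc, hf',
        ← Category.assoc, ← morphismRestrict_ι, Category.assoc]
    exact isClosedImmersion_of_isBlowUp_affine (𝓘.comap U.ι) (f ∣_ U) (b ∣_ U) hb1 (b' ∣_ W) hb2
      f₁' hcomm

end GeneralCI

section S17385

open Scheme.IdealSheafData Groth.Agent.Helper4

theorem strictTransform_props
    {X X' Z' : Scheme.{u}} (𝓘 𝓙 : X.IdealSheafData) (b : X' ⟶ X) (hb : BlowUp.IsBlowUp b 𝓘)
    (b' : Z' ⟶ 𝓙.subscheme) (hb' : BlowUp.IsBlowUp b' (𝓘.comap 𝓙.subschemeι))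
    (k : Z' ⟶ X') (hk : k ≫ b = b' ≫ 𝓙.subschemeι) :
    IsClosedImmersion k ∧
      IsAffineHom ((k ⁻¹ᵁ (b ⁻¹ᵁ 𝓘.support.compl)).ι ≫ k) ∧
      ((k ⁻¹ᵁ (b ⁻¹ᵁ 𝓘.support.compl)).ι ≫ k).ker = k.ker := by
  have hk1 : IsClosedImmersion k :=
    isClosedImmersion_of_isBlowUp 𝓘 𝓙.subschemeι b hb b' hb' k hk
  have hC : BlowUp.IsEffCartierIdeal ((𝓘.comap b).comap k) := by
    rw [← comap_comp, hk, comap_comp]
    exact hb'.1
  have hW : k ⁻¹ᵁ (b ⁻¹ᵁ 𝓘.support.compl) = ((𝓘.comap b).comap k).support.compl := by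
    ext z
    simp only [support_comap]
    rfl
  refine ⟨hk1, ?_, ?_⟩
  · have h1 : IsAffineHom (k ⁻¹ᵁ (b ⁻¹ᵁ 𝓘.support.compl)).ι := by
      rw [hW]
      exact EffCartier.isAffineHom_compl hC
    infer_instance
  · have h2 : IsSchemeTheoreticallyDominant (k ⁻¹ᵁ (b ⁻¹ᵁ 𝓘.support.compl)).ι := by
      apply EffCartier.dominant_of_compl_le hC
      intro z hz
      rw [hW]
      exact hz
    rw [Scheme.Hom.ker_comp, (k ⁻¹ᵁ (b ⁻¹ᵁ 𝓘.support.compl)).ι.ker_eq_bot, map_bot]

end S17385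

end Groth.Agent.Lead.Blow
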