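import Mathlib
import Groth.Agent.Lib.Lead.Blow7

set_option autoImplicit false
set_option backward.isDefEq.respectTransparency.types false
set_option synthInstance.maxHeartbeats 400000
set_option linter.style.haveILetI false
set_option linter.unusedSectionVars false

universe u
open CategoryTheory CategoryTheory.Limits AlgebraicGeometry TopologicalSpace Opposite

namespace Groth.Agent.Lead.Blow
open Groth.Agent.Helper4 Scheme.IdealSheafData

section Proper

variable {A : Type u} [CommRing A] (I : Ideal A)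

theorem algebraMap_gr_zero_surjective : Function.Surjective (algebraMap A (gr I 0)) := by
  rintro ⟨y, hy⟩
  obtain ⟨c, hc, rfl⟩ := exists_mono_of_mem I 0 y hy
  refine ⟨c, ?_⟩
  apply Subtype.ext
  apply Subtype.ext
  change (algebraMap A (Polynomial A)) c = Polynomial.monomial 0 c
  rfl

theorem finiteType_rees (hI : I.FG) : Algebra.FiniteType (gr I 0) ↥(reesAlgebra I) := by
  have h1 : Algebra.FiniteType A ↥(reesAlgebra I) :=
    (Subalgebra.fg_iff_finiteType _).mp (reesAlgebra.fg hI)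
  have h2 : IsScalarTower A (gr I 0) ↥(reesAlgebra I) :=
    ⟨fun a x y => smul_mul_assoc a x.1 y⟩
  exact Algebra.FiniteType.of_restrictScalars_finiteType A (gr I 0) ↥(reesAlgebra I)

theorem isProper_bl (hI : I.FG) : IsProper (bl I) := by
  rw [bl_eq]
  have := finiteType_rees I hI
  suffices h : ∀ (m : Spec (CommRingCat.of (gr I 0)) ⟶ Spec (CommRingCat.of A)),
      IsClosedImmersion m → IsProper (Proj.toSpecZero (gr I) ≫ m) by
    apply h
    apply IsClosedImmersion.spec_of_surjective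
    exact algebraMap_gr_zero_surjective I
  intro m hm
  infer_instance

end Proper

section ProperGeneral

theorem fg_comap_iso {R S : CommRingCat.{u}} (e : R ≅ S) (I : Ideal R) (h : I.FG) :
    (I.comap e.inv.hom).FG := by
  have h1 : I.comap e.inv.hom = I.map e.hom.hom :=
    Ideal.comap_symm (I := I) e.commRingCatIsoToRingEquiv
  rw [h1]
  exact h.map _

theorem isProper_of_isBlowUp_affine {X X' : Scheme.{u}} [IsAffine X] (𝓘 : X.IdealSheafData)
    (hfg : (𝓘.ideal ⟨⊤, isAffineOpen_top X⟩).FG) (b : X' ⟶ X) (hb : BlowUp.IsBlowUp b 𝓘) :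
    IsProper b := by
  let I : Ideal Γ(X, ⊤) := 𝓘.ideal ⟨⊤, isAffineOpen_top X⟩
  have h2 : (specIdeal I).comap X.isoSpec.hom = 𝓘 := comap_isoSpec_hom X 𝓘
  have h3 : 𝓘.comap X.isoSpec.inv = specIdeal I := by
    rw [← h2, ← comap_comp, Iso.inv_hom_id, comap_id]
  have hb1 : BlowUp.IsBlowUp (b ≫ X.isoSpec.hom) (specIdeal I) := by
    have := isBlowUp_comp_iso 𝓘 b X.isoSpec hb
    rwa [h3] at this
  obtain ⟨θ, hθ⟩ := exists_iso_of_isBlowUp (specIdeal I) _ (bl I) hb1 (isBlowUp_bl I)
  have hbeq : b = θ.hom ≫ bl I ≫ X.isoSpec.inv := by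
    rw [← Category.assoc, hθ, Category.assoc, Iso.hom_inv_id, Category.comp_id]
  have := isProper_bl I hfg
  rw [hbeq]
  infer_instance

/-- a blowing up of a finite type ideal is proper. -/
theorem isProper_of_isBlowUp {X X' : Scheme.{u}} (𝓘 : X.IdealSheafData)
    (hft : BlowUp.IsFiniteTypeIdeal 𝓘) (b : X' ⟶ X) (hb : BlowUp.IsBlowUp b 𝓘) : IsProper b := by
  apply of_local_isPullback (P := @IsProper)
  intro x
  obtain ⟨U₀, hU, hxU, -⟩ := Opens.isBasis_iff_nbhd.mp (X.isBasis_affineOpens)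
    (show x ∈ (⊤ : X.Opens) from trivial)
  let U : X.Opens := U₀
  refine ⟨(b ⁻¹ᵁ U : X'.Opens), U, (b ⁻¹ᵁ U).ι, U.ι, b ∣_ U, inferInstance, ⟨⟨x, hxU⟩, rfl⟩,
    (isPullback_morphismRestrict b U).flip, ?_⟩
  haveI : IsAffine (U : Scheme.{u}) := hU
  have hb1 : BlowUp.IsBlowUp (b ∣_ U) (𝓘.comap U.ι) :=
    isBlowUp_of_isPullback 𝓘 (isPullback_morphismRestrict b U).flip hb
  apply isProper_of_isBlowUp_affine (𝓘.comap U.ι) ?_ (b ∣_ U) hb1
  rw [ideal_comap_of_isOpenImmersion]
  apply fg_comap_iso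
  exact hft _

end ProperGeneral

end Groth.Agent.Lead.Blow
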