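import Mathlib
import Groth.Prelude.Def_W4c6modpairsegaMP
import Groth.Agent.Lib.Helper4.EffCartier
import Groth.Agent.Lib.Helper4.IdealComap
import Groth.Agent.Lib.Helper4.BlowUpLemmas

set_option autoImplicit false
set_option backward.isDefEq.respectTransparency.types false
set_option synthInstance.maxHeartbeats 400000
set_option linter.style.haveILetI false
set_option linter.unusedSectionVars false

universe u
open CategoryTheory CategoryTheory.Limits AlgebraicGeometry TopologicalSpace Opposite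

namespace Groth.Agent.Lead.MP
open Groth.Agent.Helper4

/-- strong scheme-theoretic density of the source of a quasi-compact morphism in its
scheme-theoretic image. -/
theorem image_res_injective {X P : Scheme.{u}} (f : X ⟶ P) [QuasiCompact f]
    (V W : f.image.Opens) (hWV : W ≤ V)
    (hW : ∀ x : X, f.toImage x ∈ V → f.toImage x ∈ W) :
    Function.Injective (f.image.presheaf.map (homOfLE hWV).op).hom := by
  rw [injective_iff_map_eq_zero]
  intro s hs
  refine f.image.IsSheaf.section_ext fun y hy ↦ ?_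
  -- find an affine open `U` of `P` with `y ∈ imageι ⁻¹ U ≤ V`
  obtain ⟨V', hV'o, hV'⟩ := f.imageι.isEmbedding.isInducing.isOpen_iff.mp V.2
  have hyV' : f.imageι y ∈ (⟨V', hV'o⟩ : P.Opens) := by
    have : y ∈ f.imageι ⁻¹' V' := by rw [hV']; exact hy
    exact this
  obtain ⟨U, hU, hyU, hUV'⟩ := Opens.isBasis_iff_nbhd.mp (P.isBasis_affineOpens) hyV'
  have hAV : f.imageι ⁻¹ᵁ U ≤ V := by
    intro z hz
    have : z ∈ f.imageι ⁻¹' V' := hUV' hz
    rw [hV'] at this
    exact this
  refine ⟨f.imageι ⁻¹ᵁ U, hAV, hyU, ?_⟩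
  rw [map_zero]
  apply f.toImage_app_injective ⟨U, hU⟩
  rw [map_zero]
  have hB : f.toImage ⁻¹ᵁ (f.imageι ⁻¹ᵁ U) ≤ f.toImage ⁻¹ᵁ W := by
    intro x hx
    exact hW x (hAV hx)
  have e1 : (f.toImage.app (f.imageι ⁻¹ᵁ U)).hom
      ((f.image.presheaf.map (homOfLE hAV).op).hom s) =
      (f.toImage.appLE W (f.toImage ⁻¹ᵁ (f.imageι ⁻¹ᵁ U)) hB).hom
        ((f.image.presheaf.map (homOfLE hWV).op).hom s) := by
    rw [← CommRingCat.comp_apply, ← CommRingCat.comp_apply, Scheme.Hom.app_eq_appLE,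
      Scheme.Hom.map_appLE, Scheme.Hom.map_appLE]
  rw [e1, hs, map_zero]

/-- `𝓛` is locally principal. -/
def LocPrincipal {P : Scheme.{u}} (𝓛 : P.IdealSheafData) : Prop :=
  ∀ x : P, ∃ U : P.affineOpens, x ∈ U.1 ∧ ∃ a : Γ(P, U.1), 𝓛.ideal U = Ideal.span {a}

theorem LocPrincipal.of_isEffCartier {P : Scheme.{u}} {𝓛 : P.IdealSheafData}
    (h : BlowUp.IsEffCartierIdeal 𝓛) : LocPrincipal 𝓛 := by
  intro x
  obtain ⟨U, hxU, a, -, ha⟩ := h x
  exact ⟨U, hxU, a, ha⟩

theorem LocPrincipal.comap {P Q : Scheme.{u}} {𝓛 : P.IdealSheafData} (h : LocPrincipal 𝓛)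
    (f : Q ⟶ P) : LocPrincipal (𝓛.comap f) :=
  BlowUpLemmas.locPrincipal_comap f 𝓛 h

/-- the open complement of the support of a locally principal ideal is an affine morphism. -/
theorem isAffineHom_of_locPrincipal {P : Scheme.{u}} {𝓛 : P.IdealSheafData} (h : LocPrincipal 𝓛)
    (W : P.Opens) (hW : ∀ x, x ∈ W ↔ x ∉ 𝓛.support) : IsAffineHom W.ι := by
  apply isAffineHom_of_forall_exists_isAffineOpen
  intro x
  obtain ⟨U, hxU, f, hI⟩ := h x
  refine ⟨U.1, hxU, U.2, ?_⟩
  rw [← W.ι.isAffineOpen_iff_of_isOpenImmersion, Scheme.Hom.image_preimage_eq_opensRange_inf,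
    Scheme.Opens.opensRange_ι]
  have : W ⊓ U.1 = P.basicOpen f := by
    ext y
    constructor
    · rintro ⟨hyW, hyU⟩
      exact (EffCartier.mem_basicOpen_iff_not_mem_support U f hI y hyU).mpr ((hW y).mp hyW)
    · intro hy
      have hyU : y ∈ U.1 := P.basicOpen_le f hy
      exact ⟨(hW y).mpr ((EffCartier.mem_basicOpen_iff_not_mem_support U f hI y hyU).mp hy), hyU⟩
  rw [this]
  exact U.2.basicOpen f

/-- **Cartier on the closure**: if `f : X ⟶ P` is quasi-compact and misses the support of the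
locally principal ideal `𝓛`, then `𝓛` pulls back to an effective Cartier divisor on the
scheme-theoretic image of `f`. -/
theorem isEffCartier_image {X P : Scheme.{u}} (f : X ⟶ P) [QuasiCompact f]
    (𝓛 : P.IdealSheafData) (hloc : LocPrincipal 𝓛) (hf : ∀ x : X, f x ∉ 𝓛.support) :
    BlowUp.IsEffCartierIdeal (𝓛.comap f.imageι) := by
  let D : f.image.Opens := f.imageι ⁻¹ᵁ 𝓛.support.compl
  apply EffCartier.of_dense_of_locPrincipal (𝓛.comap f.imageι) D
  · intro V W hWV hW
    apply image_res_injective f V W hWV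
    intro x hx
    apply hW _ hx
    change f.imageι (f.toImage x) ∈ 𝓛.support.compl
    rw [← Scheme.Hom.comp_apply, f.toImage_imageι]
    exact hf x
  · intro y hy
    apply EffCartier.isEffCartierAt_of_comap_ι D _ y hy
    have : (𝓛.comap f.imageι).comap D.ι = ⊤ := by
      rw [← Scheme.IdealSheafData.support_eq_bot_iff]
      ext z
      simp only [Scheme.IdealSheafData.support_comap, Closeds.coe_preimage, Set.mem_preimage,
        Closeds.coe_bot, Set.mem_empty_iff_false, iff_false]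
      exact z.2
    rw [this]
    exact EffCartier.top
  · exact hloc.comap _

theorem isPullback_of_mono {C : Type*} [Category C] {V U P : C} (g : V ⟶ U) (i : U ⟶ P) [Mono i] :
    IsPullback g (𝟙 V) i (g ≫ i) :=
  ⟨⟨by simp⟩, ⟨PullbackCone.IsLimit.mk _ (fun s => s.snd)
    (fun s => by rw [← cancel_mono i]; simpa using s.condition.symm) (fun s => by simp)
    (fun s m _ h₂ => by simpa using h₂)⟩⟩

/-- kernel of a closed immersion is compatible with base change. -/
theorem ker_of_isPullback {Z' Z P P' : Scheme.{u}} {i' : Z' ⟶ P'} {h : Z' ⟶ Z} {j : P' ⟶ P}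
    {i : Z ⟶ P} (sq : IsPullback i' h j i) [IsClosedImmersion i] : i'.ker = i.ker.comap j := by
  have e : i' = sq.isoPullback.hom ≫ pullback.fst j i := by simp
  rw [e, Scheme.Hom.ker_comp_of_isIso, Scheme.IdealSheafData.ker_fst_of_isClosedImmersion]

instance isClosedImmersion_restrict {Z P : Scheme.{u}} (i : Z ⟶ P) [IsClosedImmersion i]
    (U : P.Opens) : IsClosedImmersion (i ∣_ U) :=
  MorphismProperty.of_isPullback (P := @IsClosedImmersion) (isPullback_morphismRestrict i U).flip
    inferInstance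

theorem ker_morphismRestrict {Z P : Scheme.{u}} (i : Z ⟶ P) [IsClosedImmersion i] (U : P.Opens) :
    (i ∣_ U).ker = i.ker.comap U.ι :=
  ker_of_isPullback (isPullback_morphismRestrict i U)

/-- kernel of `g ≫ U.ι` restricted to `U` is the kernel of `g`. -/
theorem ker_comap_ι {V P : Scheme.{u}} (U : P.Opens) (g : V ⟶ U) [QuasiCompact (g ≫ U.ι)] :
    (g ≫ U.ι).ker.comap U.ι = g.ker := by
  apply Scheme.IdealSheafData.ext
  funext W
  rw [Scheme.IdealSheafData.ideal_comap_of_isOpenImmersion]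
  exact (Scheme.ker_ideal_of_isPullback_of_isOpenImmersion (g ≫ U.ι) g (𝟙 V) U.ι
    (isPullback_of_mono g U.ι) W).symm

theorem ker_ι_comap_ι {P : Scheme.{u}} (U : P.Opens) [QuasiCompact U.ι] :
    U.ι.ker.comap U.ι = ⊥ := by
  have h1 : QuasiCompact (𝟙 (U : Scheme.{u}) ≫ U.ι) := by rw [Category.id_comp]; infer_instance
  have := ker_comap_ι U (𝟙 (U : Scheme.{u}))
  rw [Category.id_comp] at this
  rw [this]
  exact Scheme.Hom.ker_eq_bot_of_isIso _

/-- the scheme-theoretic closure of a (quasi-compact) open `U`, restricted to `U`, is `U`. -/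
instance isIso_imageι_restrict {P : Scheme.{u}} (U : P.Opens) [QuasiCompact U.ι] :
    IsIso (U.ι.imageι ∣_ U) := by
  rw [IsClosedImmersion.isIso_iff_ker_eq_bot, ker_morphismRestrict,
    Scheme.IdealSheafData.ker_subschemeι, ker_ι_comap_ι]

theorem isIso_snd_of_isPullback {C : Type*} [Category C] [HasPullbacks C] {P X T S : C}
    {fst : P ⟶ X} {snd : P ⟶ T} {s : X ⟶ S} {g : T ⟶ S} (sq : IsPullback fst snd s g) [IsIso s] :
    IsIso snd := by
  have e : snd = sq.isoPullback.hom ≫ pullback.snd s g := by simp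
  rw [e]
  infer_instance

/-- base change of a morphism which is an isomorphism over an open. -/
theorem isIso_restrict_of_isPullback {P X T S : Scheme.{u}} {fst : P ⟶ X} {snd : P ⟶ T}
    {s : X ⟶ S} {g : T ⟶ S} (sq : IsPullback fst snd s g) (WS : S.Opens) (W : T.Opens)
    (hW : W ≤ g ⁻¹ᵁ WS) [IsIso (s ∣_ WS)] : IsIso (snd ∣_ W) := by
  have hr1 : Set.range (W.ι ≫ g) ⊆ Set.range WS.ι := by
    rintro _ ⟨x, rfl⟩
    rw [Scheme.Opens.range_ι]
    exact hW x.2
  let g' : (W : Scheme.{u}) ⟶ WS := IsOpenImmersion.lift WS.ι (W.ι ≫ g) hr1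
  have hg' : g' ≫ WS.ι = W.ι ≫ g := IsOpenImmersion.lift_fac _ _ _
  have hr2 : Set.range ((snd ⁻¹ᵁ W).ι ≫ fst) ⊆ Set.range (s ⁻¹ᵁ WS).ι := by
    rintro _ ⟨x, rfl⟩
    rw [Scheme.Opens.range_ι]
    change s (fst x.1) ∈ WS
    rw [← Scheme.Hom.comp_apply, sq.w, Scheme.Hom.comp_apply]
    exact hW x.2
  let h : ((snd ⁻¹ᵁ W : P.Opens) : Scheme.{u}) ⟶ (s ⁻¹ᵁ WS : X.Opens) :=
    IsOpenImmersion.lift (s ⁻¹ᵁ WS).ι ((snd ⁻¹ᵁ W).ι ≫ fst) hr2
  have hh : h ≫ (s ⁻¹ᵁ WS).ι = (snd ⁻¹ᵁ W).ι ≫ fst := IsOpenImmersion.lift_fac _ _ _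
  have big : IsPullback ((snd ⁻¹ᵁ W).ι ≫ fst) (snd ∣_ W) s (W.ι ≫ g) :=
    (isPullback_morphismRestrict snd W).flip.paste_horiz sq
  have t : IsPullback (s ⁻¹ᵁ WS).ι (s ∣_ WS) s WS.ι := (isPullback_morphismRestrict s WS).flip
  have left : IsPullback h (snd ∣_ W) (s ∣_ WS) g' := by
    apply IsPullback.of_right (h₁₂ := (s ⁻¹ᵁ WS).ι) (h₂₂ := WS.ι) (v₁₃ := s) _ _ t
    · rw [hh, hg']; exact big
    · rw [← cancel_mono WS.ι, Category.assoc, Category.assoc, hg', morphismRestrict_ι,
        reassoc_of% hh]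
      exact big.w
  exact isIso_snd_of_isPullback left

open ModPair in
theorem mem_interior_iff {X : Scheme.{u}} (I : X.IdealSheafData) (x : X) :
    x ∈ interior I ↔ x ∉ I.support := Iff.rfl

open ModPair in
theorem interior_comap {X Y : Scheme.{u}} (I : Y.IdealSheafData) (f : X ⟶ Y) :
    interior (I.comap f) = f ⁻¹ᵁ interior I := by
  ext x
  change x ∉ (I.comap f).support ↔ f x ∉ I.support
  rw [Scheme.IdealSheafData.support_comap]
  rfl

open ModPair in
/-- an ambient morphism maps the interior into the interior. -/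
theorem interior_le_of_isAmbient {X Y : Scheme.{u}} {I : X.IdealSheafData} {J : Y.IdealSheafData}
    {f : X ⟶ Y} (h : IsAmbient I J f) : interior I ≤ f ⁻¹ᵁ interior J := by
  rw [← interior_comap]
  intro x hx hx'
  exact hx (Scheme.IdealSheafData.support_antitone h hx')

open ModPair in
theorem prodInterior_eq_of_isMinimal_left {S T X : Scheme.{u}} {IS : S.IdealSheafData}
    {IT : T.IdealSheafData} {IX : X.IdealSheafData} {g : T ⟶ S} (hg : IsAmbient IT IS g)
    {s : X ⟶ S} (hs : IsMinimal IX IS s) :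
    prodInterior s g IX IT = (pullback.snd s g) ⁻¹ᵁ interior IT := by
  apply le_antisymm inf_le_right
  refine le_inf ?_ le_rfl
  intro x hx
  have h1 : g (pullback.snd s g x) ∈ interior IS := interior_le_of_isAmbient hg hx
  rw [← Scheme.Hom.comp_apply, ← pullback.condition, Scheme.Hom.comp_apply] at h1
  change pullback.fst s g x ∈ interior IX
  rw [hs, interior_comap]
  exact h1

open ModPair in
theorem prodInterior_eq_of_isMinimal_right {S T X : Scheme.{u}} {IS : S.IdealSheafData}
    {IT : T.IdealSheafData} {IX : X.IdealSheafData} {p : X ⟶ S} (hp : IsAmbient IX IS p)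
    {f : T ⟶ S} (hf : IsMinimal IT IS f) :
    prodInterior p f IX IT = (pullback.fst p f) ⁻¹ᵁ interior IX := by
  apply le_antisymm inf_le_left
  refine le_inf le_rfl ?_
  intro x hx
  have h1 : p (pullback.fst p f x) ∈ interior IS := interior_le_of_isAmbient hp hx
  rw [← Scheme.Hom.comp_apply, pullback.condition, Scheme.Hom.comp_apply] at h1
  change pullback.snd p f x ∈ interior IT
  rw [hf, interior_comap]
  exact h1

open ModPair in
/-- S18735 -/
theorem mprod_of_isAdmBlowup {S T X : Scheme.{u}} (IS : S.IdealSheafData)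
    (IT : T.IdealSheafData) (IX : X.IdealSheafData)
    (hT : BlowUp.IsEffCartierIdeal IT)
    (g : T ⟶ S) (hg : ModPair.IsAmbient IT IS g) (s : X ⟶ S) (hs : ModPair.IsAdmBlowup IX IS s) :
    BlowUp.IsEffCartierIdeal (IT.comap (ModPair.mprodι s g IX IT ≫ pullback.snd s g)) ∧
      ModPair.IsAdmBlowup (IT.comap (ModPair.mprodι s g IX IT ≫ pullback.snd s g)) IT
        (ModPair.mprodι s g IX IT ≫ pullback.snd s g) ∧
      ModPair.IsAmbient (IT.comap (ModPair.mprodι s g IX IT ≫ pullback.snd s g)) IX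
        (ModPair.mprodι s g IX IT ≫ pullback.fst s g) := by
  have hU := prodInterior_eq_of_isMinimal_left hg hs.1
  have hloc : LocPrincipal (IT.comap (pullback.snd s g)) := (LocPrincipal.of_isEffCartier hT).comap _
  have hmem : ∀ x, x ∈ prodInterior s g IX IT ↔ x ∉ (IT.comap (pullback.snd s g)).support := by
    intro x
    rw [hU, ← interior_comap]
    rfl
  have haff : IsAffineHom (prodInterior s g IX IT).ι := isAffineHom_of_locPrincipal hloc _ hmem
  refine ⟨?_, ⟨rfl, ?_, ?_⟩, ?_⟩
  · rw [Scheme.IdealSheafData.comap_comp]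
    apply isEffCartier_image _ _ hloc
    intro x
    exact (hmem _).mp x.2
  · have := hs.2.1
    infer_instance
  · rw [morphismRestrict_comp]
    have h1 : IsIso (pullback.snd s g ∣_ interior IT) := by
      have := hs.2.2
      exact isIso_restrict_of_isPullback (IsPullback.of_hasPullback s g) (interior IS) (interior IT)
        (interior_le_of_isAmbient hg)
    have h2 : IsIso (mprodι s g IX IT ∣_ (pullback.snd s g ⁻¹ᵁ interior IT)) := by
      rw [← hU]
      exact isIso_imageι_restrict _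
    exact IsIso.comp_isIso' h2 h1
  · change _ ≤ _
    rw [hs.1, ← Scheme.IdealSheafData.comap_comp, Category.assoc, pullback.condition,
      ← Category.assoc, Scheme.IdealSheafData.comap_comp _ _ g]
    exact Scheme.IdealSheafData.comap_mono _ hg

open ModPair in
/-- a morphism from a scheme with an effective Cartier divisor, mapping the complement of the
divisor into the open `U`, factors through the scheme-theoretic closure of `U`. -/
theorem ker_image_le_ker {W P : Scheme.{u}} (IW : W.IdealSheafData)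
    (hW : BlowUp.IsEffCartierIdeal IW) (U : P.Opens) [QuasiCompact U.ι] (c₀ : W ⟶ P)
    (hc : interior IW ≤ c₀ ⁻¹ᵁ U) : U.ι.imageι.ker ≤ c₀.ker := by
  suffices h1 : U.ι.ker.comap c₀ ≤ ⊥ by
    have h2 : U.ι.ker ≤ (⊥ : W.IdealSheafData).map c₀ :=
      Scheme.IdealSheafData.le_map_iff_comap_le.mpr h1
    rw [Scheme.IdealSheafData.map_bot] at h2
    rw [Scheme.IdealSheafData.ker_subschemeι]
    exact h2
  have hdom : IsSchemeTheoreticallyDominant (interior IW).ι :=
    EffCartier.dominant_of_compl_le hW (interior IW) (fun x hx => hx)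
  have hr : Set.range ((interior IW).ι ≫ c₀) ⊆ Set.range U.ι := by
    rintro _ ⟨x, rfl⟩
    rw [Scheme.Opens.range_ι]
    exact hc x.2
  have hfac : IsOpenImmersion.lift U.ι ((interior IW).ι ≫ c₀) hr ≫ U.ι = (interior IW).ι ≫ c₀ :=
    IsOpenImmersion.lift_fac _ _ _
  refine (Scheme.IdealSheafData.le_map_comap _ (interior IW).ι).trans ?_
  rw [← Scheme.IdealSheafData.comap_comp, ← hfac, Scheme.IdealSheafData.comap_comp,
    ker_ι_comap_ι, Scheme.IdealSheafData.comap_bot, Scheme.IdealSheafData.map_bot,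
    hdom.ker_eq_bot]

open ModPair in
/-- S18736 -/
theorem mprod_universal {S T X : Scheme.{u}} (IS : S.IdealSheafData)
    (IT : T.IdealSheafData) (IX : X.IdealSheafData)
    (hX : BlowUp.IsEffCartierIdeal IX)
    (p : X ⟶ S) (hp : ModPair.IsAmbient IX IS p) (f : T ⟶ S) (hf : ModPair.IsMinimal IT IS f) :
    BlowUp.IsEffCartierIdeal (IX.comap (ModPair.mprodι p f IX IT ≫ pullback.fst p f)) ∧
      ModPair.IsAmbient (IX.comap (ModPair.mprodι p f IX IT ≫ pullback.fst p f)) IT
        (ModPair.mprodι p f IX IT ≫ pullback.snd p f) ∧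
      ∀ (W : Scheme.{u}) (IW : W.IdealSheafData), BlowUp.IsEffCartierIdeal IW →
        ∀ (a : W ⟶ T) (b : W ⟶ X), ModPair.IsAmbient IW IT a → ModPair.IsAmbient IW IX b →
          a ≫ f = b ≫ p →
          ∃! c : W ⟶ ModPair.mprod p f IX IT,
            c ≫ ModPair.mprodι p f IX IT ≫ pullback.snd p f = a ∧
              c ≫ ModPair.mprodι p f IX IT ≫ pullback.fst p f = b ∧
              ModPair.IsAmbient IW (IX.comap (ModPair.mprodι p f IX IT ≫ pullback.fst p f)) c := by
  have hU := prodInterior_eq_of_isMinimal_right hp hf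
  have hloc : LocPrincipal (IX.comap (pullback.fst p f)) := (LocPrincipal.of_isEffCartier hX).comap _
  have hmem : ∀ x, x ∈ prodInterior p f IX IT ↔ x ∉ (IX.comap (pullback.fst p f)).support := by
    intro x
    rw [hU, ← interior_comap]
    rfl
  have haff : IsAffineHom (prodInterior p f IX IT).ι := isAffineHom_of_locPrincipal hloc _ hmem
  refine ⟨?_, ?_, ?_⟩
  · rw [Scheme.IdealSheafData.comap_comp]
    apply isEffCartier_image _ _ hloc
    intro x
    exact (hmem _).mp x.2
  · change _ ≤ _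
    rw [hf, ← Scheme.IdealSheafData.comap_comp, Category.assoc, ← pullback.condition,
      ← Category.assoc, Scheme.IdealSheafData.comap_comp _ _ p]
    exact Scheme.IdealSheafData.comap_mono _ hp
  · intro W IW hW a b ha hb hab
    have hc : interior IW ≤ (pullback.lift b a hab.symm) ⁻¹ᵁ prodInterior p f IX IT := by
      rw [hU]
      intro x hx
      change pullback.fst p f (pullback.lift b a hab.symm x) ∈ interior IX
      rw [← Scheme.Hom.comp_apply, pullback.lift_fst]
      exact interior_le_of_isAmbient hb hx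
    have hker := ker_image_le_ker IW hW (prodInterior p f IX IT) (pullback.lift b a hab.symm) hc
    refine ⟨IsClosedImmersion.lift (mprodι p f IX IT) (pullback.lift b a hab.symm) hker,
      ⟨?_, ?_, ?_⟩, ?_⟩
    · rw [IsClosedImmersion.lift_fac_assoc, pullback.lift_snd]
    · rw [IsClosedImmersion.lift_fac_assoc, pullback.lift_fst]
    · change _ ≤ _
      rw [← Scheme.IdealSheafData.comap_comp, IsClosedImmersion.lift_fac_assoc, pullback.lift_fst]
      exact hb
    · rintro c ⟨h1, h2, -⟩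
      rw [← cancel_mono (mprodι p f IX IT), IsClosedImmersion.lift_fac]
      apply pullback.hom_ext
      · rw [Category.assoc, h2, pullback.lift_fst]
      · rw [Category.assoc, h1, pullback.lift_snd]

set_option backward.isDefEq.respectTransparency false in
/-- two morphisms over a separated base agreeing on a scheme-theoretically dense part agree. -/
theorem ext_of_stDominant {W X Y Z : Scheme.{u}} {f g : X ⟶ Y} (s : Y ⟶ Z) [IsSeparated s]
    (h : f ≫ s = g ≫ s) (ι : W ⟶ X) [IsSchemeTheoreticallyDominant ι] (hU : ι ≫ f = ι ≫ g) :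
    f = g := by
  let X' : Over Z := Over.mk (f ≫ s)
  let Y' : Over Z := Over.mk s
  let U' : Over Z := Over.mk (ι ≫ f ≫ s)
  let f' : X' ⟶ Y' := Over.homMk f
  let g' : X' ⟶ Y' := Over.homMk g
  let ι' : U' ⟶ X' := Over.homMk ι
  have : IsSeparated Y'.hom := ‹_›
  have hι : ι = (equalizer.lift (f := f') (g := g') ι' (by ext1; exact hU)).left ≫
      (equalizer.ι f' g').left := by
    rw [← Over.comp_left, equalizer.lift_ι]
    rfl
  have hker : (equalizer.ι f' g').left.ker = ⊥ := by
    rw [eq_bot_iff]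
    have h1 := Scheme.Hom.le_ker_comp
      (equalizer.lift (f := f') (g := g') ι' (by ext1; exact hU)).left (equalizer.ι f' g').left
    rw [← hι, IsSchemeTheoreticallyDominant.ker_eq_bot (f := ι)] at h1
    exact h1
  have := (IsClosedImmersion.isIso_iff_ker_eq_bot (f := (equalizer.ι f' g').left)).mpr hker
  rw [← cancel_epi (equalizer.ι f' g').left]
  exact congr($(equalizer.condition f' g').left)

open ModPair in
theorem isAdmBlowup_id {X : Scheme.{u}} (I : X.IdealSheafData) : IsAdmBlowup I I (𝟙 X) :=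
  ⟨(Scheme.IdealSheafData.comap_id I).symm, inferInstance, inferInstance⟩

open ModPair in
theorem isAdmBlowup_comp {X Y Z : Scheme.{u}} {I : X.IdealSheafData} {J : Y.IdealSheafData}
    {K : Z.IdealSheafData} {f : X ⟶ Y} {g : Y ⟶ Z} (hf : IsAdmBlowup I J f)
    (hg : IsAdmBlowup J K g) : IsAdmBlowup I K (f ≫ g) := by
  obtain ⟨hf1, hf2, hf3⟩ := hf
  obtain ⟨hg1, hg2, hg3⟩ := hg
  refine ⟨?_, inferInstance, ?_⟩
  · change I = K.comap (f ≫ g)
    rw [Scheme.IdealSheafData.comap_comp, ← hg1, ← hf1]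
  · rw [morphismRestrict_comp]
    have h1 : IsIso (f ∣_ g ⁻¹ᵁ interior K) := by
      rw [← interior_comap, ← hg1]
      exact hf3
    exact IsIso.comp_isIso' h1 hg3

open ModPair in
/-- two ambient morphisms into `Y` which agree after an admissible blow-up `Y ⟶ Z` agree. -/
theorem eq_of_comp_isAdmBlowup {X Y Z : Scheme.{u}} {I : X.IdealSheafData} {J : Y.IdealSheafData}
    {K : Z.IdealSheafData} (hI : BlowUp.IsEffCartierIdeal I) {f₁ f₂ : X ⟶ Y}
    (h₁ : IsAmbient I J f₁) (h₂ : IsAmbient I J f₂) {s : Y ⟶ Z} (hs : IsAdmBlowup J K s)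
    (h : f₁ ≫ s = f₂ ≫ s) : f₁ = f₂ := by
  obtain ⟨hs1, hs2, hs3⟩ := hs
  have hdom : IsSchemeTheoreticallyDominant (interior I).ι :=
    EffCartier.dominant_of_compl_le hI (interior I) (fun x hx => hx)
  apply ext_of_stDominant s h (interior I).ι
  have hJ : interior J = s ⁻¹ᵁ interior K := by rw [hs1, interior_comap]
  have hr : ∀ (f : X ⟶ Y), IsAmbient I J f →
      Set.range ((interior I).ι ≫ f) ⊆ Set.range (s ⁻¹ᵁ interior K).ι := by
    intro f hf
    rintro _ ⟨x, rfl⟩
    rw [Scheme.Opens.range_ι, ← hJ]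
    exact interior_le_of_isAmbient hf x.2
  rw [← IsOpenImmersion.lift_fac (s ⁻¹ᵁ interior K).ι _ (hr f₁ h₁),
    ← IsOpenImmersion.lift_fac (s ⁻¹ᵁ interior K).ι _ (hr f₂ h₂)]
  congr 1
  rw [← cancel_mono (s ∣_ interior K), ← cancel_mono (interior K).ι]
  simp only [Category.assoc, morphismRestrict_ι, IsOpenImmersion.lift_fac_assoc]
  rw [h]

open ModPair in
/-- S18738 -/
theorem admBlowup_hasRightCalculusOfFractions :
    (ModPair.Pair.admBlowup.{u}).HasRightCalculusOfFractions where
  id_mem P := isAdmBlowup_id P.mod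
  comp_mem f g hf hg := isAdmBlowup_comp hf hg
  exists_rightFraction X Y φ := by
    obtain ⟨h1, h2, h3⟩ := mprod_of_isAdmBlowup φ.Y'.mod X.mod Y.mod X.isEffCartier φ.f.hom φ.f.cond
      φ.s.hom φ.hs
    let X' : Pair.{u} := ⟨_, _, h1⟩
    let t : X' ⟶ X := ⟨mprodι φ.s.hom φ.f.hom Y.mod X.mod ≫ pullback.snd φ.s.hom φ.f.hom, le_rfl⟩
    let f' : X' ⟶ Y := ⟨mprodι φ.s.hom φ.f.hom Y.mod X.mod ≫ pullback.fst φ.s.hom φ.f.hom, h3⟩
    refine ⟨⟨t, h2, f'⟩, ?_⟩
    apply Pair.Hom.ext
    change (_ ≫ _) ≫ _ = (_ ≫ _) ≫ _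
    rw [Category.assoc, Category.assoc, pullback.condition]
  ext X Y Z f₁ f₂ s hs h := by
    refine ⟨X, 𝟙 X, isAdmBlowup_id X.mod, ?_⟩
    rw [Category.id_comp, Category.id_comp]
    apply Pair.Hom.ext
    exact eq_of_comp_isAdmBlowup X.isEffCartier f₁.cond f₂.cond hs (congrArg Pair.Hom.hom h)

end Groth.Agent.Lead.MP
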