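import Mathlib
import Groth.Prelude
import Groth.Agent.Lib.Helper3.FibDepth
import Groth.Agent.Lib.Helper3.FlatDescent

set_option backward.isDefEq.respectTransparency.types false
set_option synthInstance.maxHeartbeats 400000
set_option autoImplicit false
set_option linter.unusedSectionVars false
set_option linter.style.haveILetI false
universe u

open CategoryTheory CategoryTheory.Limits AlgebraicGeometry IsLocalRing

namespace Groth.Agent.Lead.CMAt

open Groth.Agent.Helper8.GorFlat Groth.Agent.Helper8.FlatReg Groth.Agent.Helper8.Serre LocCoh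
open Groth.Agent.Helper3.FibStalk Groth.Agent.Helper3.FibDepth

section Alg

/-- a surjection from a local ring with kernel in the maximal ideal reflects units -/
theorem isUnit_of_surj {R S : Type*} [CommRing R] [CommRing S] [IsLocalRing R] (γ : R →+* S)
    (hk : RingHom.ker γ ≤ maximalIdeal R) (hs : Function.Surjective γ) {r : R}
    (h : IsUnit (γ r)) : IsUnit r := by
  by_contra hr
  have hr' : r ∈ maximalIdeal R := (mem_maximalIdeal r).mpr hr
  obtain ⟨s, hs1⟩ := h.exists_right_inv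
  obtain ⟨r', rfl⟩ := hs s
  have h2 : r * r' - 1 ∈ RingHom.ker γ := by
    rw [RingHom.mem_ker, map_sub, map_mul, hs1, map_one, sub_self]
  have h3 : r * r' - 1 ∈ maximalIdeal R := hk h2
  have h4 : r * r' ∈ maximalIdeal R := Ideal.mul_mem_right _ _ hr'
  have h5 : (1 : R) ∈ maximalIdeal R := by
    have := Ideal.sub_mem _ h4 h3
    simpa using this
  exact (maximalIdeal.isMaximal R).ne_top ((Ideal.eq_top_iff_one _).mpr h5)

theorem map_maximalIdeal_le' {A B : Type*} [CommRing A] [CommRing B] [IsLocalRing A]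
    [IsLocalRing B] (φ : A →+* B) [IsLocalHom φ] :
    (maximalIdeal A).map φ ≤ maximalIdeal B := by
  have h : IsLocalHom φ := inferInstance
  exact ((IsLocalRing.local_hom_TFAE φ).out 0 2).mp h

theorem flat_quot_map {R B : Type u} [CommRing R] [CommRing B] [Algebra R B] (J : Ideal R)
    [Module.Flat R B] : Module.Flat (R ⧸ J) (B ⧸ J.map (algebraMap R B)) :=
  Module.Flat.of_linearEquiv
    (Algebra.TensorProduct.quotIdealMapEquivQuotTensor B J).toLinearEquiv

theorem cm_of_ringEquiv {R S : Type u} [CommRing R] [CommRing S] (e : R ≃+* S)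
    (h : IsCohenMacaulayLocalRing R) : IsCohenMacaulayLocalRing S := by
  haveI : IsNoetherianRing S := isNoetherianRing_of_ringEquiv R e
  haveI : IsLocalRing S := e.isLocalRing
  refine ⟨?_⟩
  rw [Module.supportDim_self_eq_ringKrullDim, ← ringKrullDim_eq_of_ringEquiv e,
    depth_self_eq_of_ringEquiv e]
  exact depth_eq_dim_of_cm R h

variable {A B F : Type u} [CommRing A] [CommRing B] [CommRing F] [IsLocalRing A] [IsLocalRing B]
  [IsLocalRing F] [IsNoetherianRing A] [IsNoetherianRing B] {φ : A →+* B} {γ : B →+* F}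

theorem exists_nat_dim (R : Type u) [CommRing R] [IsLocalRing R] [IsNoetherianRing R] :
    ∃ n : ℕ, ringKrullDim R = (n : WithBot ℕ∞) := by
  have h1 : ringKrullDim R ≠ ⊥ := ringKrullDim_ne_bot
  have h2 : ringKrullDim R ≠ ⊤ := ringKrullDim_ne_top
  obtain ⟨m, hm⟩ := WithBot.ne_bot_iff_exists.mp h1
  have h3 : m ≠ ⊤ := by
    rintro rfl
    exact h2 hm.symm
  obtain ⟨n, hn⟩ := ENat.ne_top_iff_exists.mp h3
  exact ⟨n, by rw [← hm, ← hn]; rfl⟩

theorem cm_iff_of_flData (D : FLData φ γ) :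
    IsCohenMacaulayLocalRing B ↔ IsCohenMacaulayLocalRing A ∧ IsCohenMacaulayLocalRing F := by
  haveI : IsNoetherianRing F := isNoetherianRing_of_surjective B F γ D.surj
  have hdepth := depth_eq_add_of_flData D
  have hdim := ringKrullDim_eq_add_of_flData D
  obtain ⟨nA, hA⟩ := exists_nat_dim A
  obtain ⟨nF, hF⟩ := exists_nat_dim F
  have hlA := depth_le_dim' A
  have hlF := depth_le_dim' F
  have hlB := depth_le_dim' B
  rw [hA] at hlA
  rw [hF] at hlF
  have hdA : depth A A ≠ ⊤ := by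
    intro h
    rw [h] at hlA
    have h' : ((⊤ : ℕ∞) : WithBot ℕ∞) ≤ ((nA : ℕ∞) : WithBot ℕ∞) := hlA
    exact ENat.natCast_ne_top nA (top_le_iff.mp (WithBot.coe_le_coe.mp h'))
  have hdF : depth F F ≠ ⊤ := by
    intro h
    rw [h] at hlF
    have h' : ((⊤ : ℕ∞) : WithBot ℕ∞) ≤ ((nF : ℕ∞) : WithBot ℕ∞) := hlF
    exact ENat.natCast_ne_top nF (top_le_iff.mp (WithBot.coe_le_coe.mp h'))
  obtain ⟨a, ha⟩ := ENat.ne_top_iff_exists.mp hdA
  obtain ⟨f, hf⟩ := ENat.ne_top_iff_exists.mp hdF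
  rw [← ha] at hlA
  rw [← hf] at hlF
  have hlA' : a ≤ nA := by exact_mod_cast hlA
  have hlF' : f ≤ nF := by exact_mod_cast hlF
  constructor
  · intro hB
    have h1 := depth_eq_dim_of_cm B hB
    rw [hdim, hdepth, hA, hF, ← ha, ← hf] at h1
    have h2 : nA + nF = a + f := by exact_mod_cast h1
    have h3 : a = nA := by omega
    have h4 : f = nF := by omega
    refine ⟨⟨?_⟩, ⟨?_⟩⟩
    · rw [Module.supportDim_self_eq_ringKrullDim, hA, ← ha, h3]; rfl
    · rw [Module.supportDim_self_eq_ringKrullDim, hF, ← hf, h4]; rfl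
  · rintro ⟨hA', hF'⟩
    have h1 := depth_eq_dim_of_cm A hA'
    have h2 := depth_eq_dim_of_cm F hF'
    refine ⟨?_⟩
    rw [Module.supportDim_self_eq_ringKrullDim, hdim, hdepth, h1, h2]
    push_cast
    rfl

end Alg

section Comp

variable {A B C Fg Ff Fc : Type u} [CommRing A] [CommRing B] [CommRing C]
    [CommRing Fg] [CommRing Ff] [CommRing Fc]
    [IsLocalRing A] [IsLocalRing B] [IsLocalRing C] [IsLocalRing Fg] [IsLocalRing Ff]
    [IsLocalRing Fc]

theorem exists_flData_comp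
    (φ : A →+* B) (ψ : B →+* C) [IsLocalHom φ] [IsLocalHom ψ] (hψ : ψ.Flat)
    (γg : B →+* Fg) (hγg : Function.Surjective γg)
    (hkg : RingHom.ker γg = (maximalIdeal A).map φ)
    (γf : C →+* Ff) (hγf : Function.Surjective γf)
    (hkf : RingHom.ker γf = (maximalIdeal B).map ψ)
    (γc : C →+* Fc) (hγc : Function.Surjective γc)
    (hkc : RingHom.ker γc = (maximalIdeal A).map (ψ.comp φ)) :
    ∃ (φ' : Fg →+* Fc) (γ' : Fc →+* Ff), FLData φ' γ' := by
  have hmm : (maximalIdeal A).map (ψ.comp φ) = ((maximalIdeal A).map φ).map ψ :=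
    (Ideal.map_map φ ψ).symm
  have h1 : RingHom.ker γg ≤ RingHom.ker (γc.comp ψ) := by
    intro b hb
    rw [hkg] at hb
    rw [RingHom.mem_ker, RingHom.comp_apply, ← RingHom.mem_ker, hkc, hmm]
    exact Ideal.mem_map_of_mem ψ hb
  let φ' : Fg →+* Fc := RingHom.liftOfSurjective γg hγg ⟨γc.comp ψ, h1⟩
  have hφ' : ∀ b, φ' (γg b) = γc (ψ b) := fun b =>
    RingHom.liftOfSurjective_comp_apply γg hγg ⟨γc.comp ψ, h1⟩ b
  have h2 : RingHom.ker γc ≤ RingHom.ker γf := by
    rw [hkc, hkf, hmm]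
    exact Ideal.map_mono (map_maximalIdeal_le' φ)
  let γ' : Fc →+* Ff := RingHom.liftOfSurjective γc hγc ⟨γf, h2⟩
  have hγ' : ∀ c, γ' (γc c) = γf c := fun c =>
    RingHom.liftOfSurjective_comp_apply γc hγc ⟨γf, h2⟩ c
  -- kernels lie in the maximal ideals
  have hkgm : RingHom.ker γg ≤ maximalIdeal B := hkg ▸ map_maximalIdeal_le' φ
  have hkcm : RingHom.ker γc ≤ maximalIdeal C := by
    rw [hkc, hmm]
    exact (Ideal.map_mono (map_maximalIdeal_le' φ)).trans (map_maximalIdeal_le' ψ)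
  -- the image of the maximal ideal
  have hmFg : ∀ b : B, b ∈ maximalIdeal B → γg b ∈ maximalIdeal Fg := by
    intro b hb
    rw [mem_maximalIdeal, mem_nonunits_iff] at hb ⊢
    exact fun hu => hb (isUnit_of_surj γg hkgm hγg hu)
  refine ⟨φ', γ', ?_, ?_, ?_, ?_⟩
  · -- flatness
    letI : Algebra B C := ψ.toAlgebra
    haveI : Module.Flat B C := hψ
    set I : Ideal B := (maximalIdeal A).map φ with hI
    have hq : Module.Flat (B ⧸ I) (C ⧸ I.map (algebraMap B C)) := flat_quot_map I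
    let e1 : (B ⧸ I) ≃+* Fg :=
      (Ideal.quotEquivOfEq hkg.symm).trans (RingHom.quotientKerEquivOfSurjective hγg)
    have hkc' : RingHom.ker γc = I.map (algebraMap B C) := by rw [hkc, hmm]; rfl
    let e2 : (C ⧸ I.map (algebraMap B C)) ≃+* Fc :=
      (Ideal.quotEquivOfEq hkc'.symm).trans (RingHom.quotientKerEquivOfSurjective hγc)
    have he1 : ∀ b : B, e1 (Ideal.Quotient.mk I b) = γg b := fun b => rfl
    have he2 : ∀ c : C, e2 (Ideal.Quotient.mk _ c) = γc c := fun c => rfl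
    have hEq : φ' = (e2 : _ →+* Fc).comp
        ((algebraMap (B ⧸ I) (C ⧸ I.map (algebraMap B C))).comp (e1.symm : Fg →+* _)) := by
      apply RingHom.ext
      intro u
      obtain ⟨b, rfl⟩ := hγg u
      rw [hφ', RingHom.comp_apply, RingHom.comp_apply]
      have : (e1.symm : Fg →+* _) (γg b) = Ideal.Quotient.mk I b := by
        rw [← he1 b]
        exact e1.symm_apply_apply _
      rw [this]
      have h3 : algebraMap (B ⧸ I) (C ⧸ I.map (algebraMap B C)) (Ideal.Quotient.mk I b) =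
          Ideal.Quotient.mk _ (algebraMap B C b) := rfl
      rw [h3]
      exact (he2 _).symm
    rw [hEq]
    refine RingHom.Flat.comp (RingHom.Flat.comp ?_ ?_) ?_
    · exact RingHom.Flat.of_bijective e1.symm.bijective
    · exact (RingHom.flat_algebraMap_iff).mpr hq
    · exact RingHom.Flat.of_bijective e2.bijective
  · -- local hom
    refine ⟨fun u hu => ?_⟩
    obtain ⟨b, rfl⟩ := hγg u
    rw [hφ'] at hu
    have h3 : IsUnit (ψ b) := isUnit_of_surj γc hkcm hγc hu
    exact (isUnit_of_map_unit ψ b h3).map γg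
  · intro y
    obtain ⟨c, rfl⟩ := hγf y
    exact ⟨γc c, hγ' c⟩
  · apply le_antisymm
    · intro v hv
      obtain ⟨c, rfl⟩ := hγc v
      rw [RingHom.mem_ker, hγ', ← RingHom.mem_ker, hkf] at hv
      have h3 : (maximalIdeal B).map ψ ≤ ((maximalIdeal Fg).map φ').comap γc := by
        rw [Ideal.map_le_iff_le_comap]
        intro b hb
        rw [Ideal.mem_comap, Ideal.mem_comap, ← hφ']
        exact Ideal.mem_map_of_mem φ' (hmFg b hb)
      exact h3 hv
    · rw [Ideal.map_le_iff_le_comap]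
      intro u hu
      obtain ⟨b, rfl⟩ := hγg u
      have hb : b ∈ maximalIdeal B := by
        rw [mem_maximalIdeal, mem_nonunits_iff]
        intro hbu
        rw [mem_maximalIdeal, mem_nonunits_iff] at hu
        exact hu (hbu.map γg)
      rw [Ideal.mem_comap, RingHom.mem_ker, hφ', hγ', ← RingHom.mem_ker, hkf]
      exact Ideal.mem_map_of_mem ψ hb

end Comp

section Sch

variable {X Y Z : Scheme.{u}}

theorem S9768_main (f : X ⟶ Y) [IsLocallyNoetherian X] [IsLocallyNoetherian Y] [Flat f]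
    (hX : ∀ x : X, LocCoh.IsCohenMacaulayLocalRing ↑(X.presheaf.stalk x)) (x : X) :
    MoreMor.IsCMAt f x ∧ LocCoh.IsCohenMacaulayLocalRing ↑(Y.presheaf.stalk (f x)) := by
  have hfl : (f.stalkMap x).hom.Flat := Flat.stalkMap f x
  obtain ⟨γ, hγ, hk⟩ := exists_fibre_presentation f x
  have D : FLData (f.stalkMap x).hom γ := ⟨hfl, inferInstance, hγ, hk⟩
  obtain ⟨hA, hF⟩ := (cm_iff_of_flData D).mp (hX x)
  exact ⟨⟨hfl, hF⟩, hA⟩

theorem stalkMap_comp_hom (f : X ⟶ Y) (g : Y ⟶ Z) (x : X) :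
    ((f ≫ g).stalkMap x).hom = (f.stalkMap x).hom.comp (g.stalkMap (f x)).hom := by
  rw [Scheme.Hom.stalkMap_comp]
  rfl

theorem S9766_main (f : X ⟶ Y) (g : Y ⟶ Z) (x : X)
    (hN : IsLocallyNoetherian ((f ≫ g).fiber (g (f x))))
    (hf : MoreMor.IsCMAt f x) (hg : MoreMor.IsCMAt g (f x)) : MoreMor.IsCMAt (f ≫ g) x := by
  obtain ⟨hf1, hf2⟩ := hf
  obtain ⟨hg1, hg2⟩ := hg
  have hcomp := stalkMap_comp_hom f g x
  have hfl : ((f ≫ g).stalkMap x).hom.Flat := by
    rw [hcomp]
    exact RingHom.Flat.comp hg1 hf1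
  refine ⟨hfl, ?_⟩
  obtain ⟨γf, hγf, hkf⟩ := exists_fibre_presentation f x
  obtain ⟨γg, hγg, hkg⟩ := exists_fibre_presentation g (f x)
  obtain ⟨γc, hγc, hkc⟩ := exists_fibre_presentation (f ≫ g) x
  rw [hcomp] at hkc
  obtain ⟨φ', γ', D⟩ := exists_flData_comp (g.stalkMap (f x)).hom (f.stalkMap x).hom hf1
    γg hγg hkg γf hγf hkf γc hγc hkc
  haveI : IsNoetherianRing ((g.fiber (g (f x))).presheaf.stalk (g.asFiber (f x))) := by
    haveI := hg2; infer_instance
  haveI : IsLocallyNoetherian ((f ≫ g).fiber ((f ≫ g) x)) := hN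
  haveI : IsNoetherianRing (((f ≫ g).fiber ((f ≫ g) x)).presheaf.stalk ((f ≫ g).asFiber x)) :=
    inferInstance
  exact (cm_iff_of_flData D).mpr ⟨hg2, hf2⟩

theorem S9767_main (f : X ⟶ Y) (g : Y ⟶ Z) (x : X)
    (hNf : IsLocallyNoetherian (f.fiber (f x))) (hNg : IsLocallyNoetherian (g.fiber (g (f x))))
    (h : MoreMor.IsCMAt (f ≫ g) x) (hfl : (f.stalkMap x).hom.Flat) :
    MoreMor.IsCMAt f x ∧ MoreMor.IsCMAt g (f x) := by
  obtain ⟨h1, h2⟩ := h
  have hcomp := stalkMap_comp_hom f g x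
  have hgfl : (g.stalkMap (f x)).hom.Flat := by
    refine Groth.Agent.Helper3.ringHom_flat_of_comp_of_faithfullyFlat _ (f.stalkMap x).hom ?_ ?_
    · letI : Algebra (Y.presheaf.stalk (f x)) (X.presheaf.stalk x) := (f.stalkMap x).hom.toAlgebra
      haveI : Module.Flat (Y.presheaf.stalk (f x)) (X.presheaf.stalk x) := hfl
      haveI : IsLocalHom (algebraMap (Y.presheaf.stalk (f x)) (X.presheaf.stalk x)) :=
        inferInstanceAs (IsLocalHom (f.stalkMap x).hom)
      exact Module.FaithfullyFlat.of_flat_of_isLocalHom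
    · rw [← hcomp]; exact h1
  obtain ⟨γf, hγf, hkf⟩ := exists_fibre_presentation f x
  obtain ⟨γg, hγg, hkg⟩ := exists_fibre_presentation g (f x)
  obtain ⟨γc, hγc, hkc⟩ := exists_fibre_presentation (f ≫ g) x
  rw [hcomp] at hkc
  obtain ⟨φ', γ', D⟩ := exists_flData_comp (g.stalkMap (f x)).hom (f.stalkMap x).hom hfl
    γg hγg hkg γf hγf hkf γc hγc hkc
  haveI : IsNoetherianRing ((g.fiber (g (f x))).presheaf.stalk (g.asFiber (f x))) :=
    inferInstance
  haveI : IsNoetherianRing (((f ≫ g).fiber ((f ≫ g) x)).presheaf.stalk ((f ≫ g).asFiber x)) := by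
    haveI := h2; infer_instance
  obtain ⟨hA, hF⟩ := (cm_iff_of_flData D).mp h2
  exact ⟨⟨hfl, hF⟩, ⟨hgfl, hA⟩⟩

end Sch

end Groth.Agent.Lead.CMAt
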