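import Mathlib
import Groth.Prelude
import Groth.Agent.Lib.Helper3.RegSm
import Groth.Agent.Lib.Helper8.GenFib1
import Groth.Agent.Lib.Helper8.FlatReg9

/-!
# Local rings at smooth points
-/

set_option autoImplicit false
set_option backward.isDefEq.respectTransparency.types false
set_option synthInstance.maxHeartbeats 400000
set_option linter.style.haveILetI false
set_option linter.unusedSectionVars false

universe u

open AlgebraicGeometry CategoryTheory Limits

namespace Groth.Agent.Lead.SmLoc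

open IsLocalRing

variable {X Y : Scheme.{u}} (f : X ⟶ Y)

theorem mem_smoothLocus_of_exists [LocallyOfFinitePresentation f] (x : X)
    (hx : ∃ U : X.Opens, x ∈ U ∧ Smooth (U.ι ≫ f)) : x ∈ f.smoothLocus := by
  obtain ⟨U, hxU, hU⟩ := hx
  haveI := hU
  have h1 : U.ι ⁻¹ᵁ f.smoothLocus = (U.ι ≫ f).smoothLocus := Scheme.Hom.preimage_smoothLocus_eq U.ι f
  have h0 : (U.ι ≫ f).smoothLocus = ⊤ := Scheme.Hom.smoothLocus_eq_top (U.ι ≫ f)
  rw [h0] at h1
  have h2 : (⟨x, hxU⟩ : U) ∈ U.ι ⁻¹ᵁ f.smoothLocus := by rw [h1]; trivial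
  exact h2

theorem isRegularLocalRing_atPrime_congr {R : Type u} [CommRing R] (p p' : Ideal R) [p.IsPrime]
    [p'.IsPrime] (h : p' = p) (hr : IsRegularLocalRing (Localization.AtPrime p)) :
    IsRegularLocalRing (Localization.AtPrime p') := by
  subst h
  exact hr

theorem S4991_main [IsLocallyNoetherian Y] [LocallyOfFiniteType f] (x : X)
    (hx : ∃ U : X.Opens, x ∈ U ∧ Smooth (U.ι ≫ f)) :
    IsRegularLocalRing (X.presheaf.stalk x) ↔ IsRegularLocalRing (Y.presheaf.stalk (f.base x)) := by
  have hx' := mem_smoothLocus_of_exists f x hx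
  obtain ⟨V, hV, W, hW, hWV, hxW, H⟩ := exists_smooth_of_formallySmooth_stalk f x hx'
  algebraize [(f.appLE V W hWV).hom]
  let p := (hV.primeIdealOf ⟨f x, hWV hxW⟩).asIdeal
  let q := (hW.primeIdealOf ⟨x, hxW⟩).asIdeal
  haveI hqp : q.LiesOver p :=
    ⟨congr($(IsAffineOpen.comap_primeIdealOf_appLE V hV W hW hWV hxW).1).symm⟩
  letI := Y.presheaf.algebra_section_stalk ⟨f x, hWV hxW⟩
  haveI := hV.isLocalization_stalk ⟨f x, hWV hxW⟩
  letI := X.presheaf.algebra_section_stalk ⟨x, hxW⟩
  haveI := hW.isLocalization_stalk ⟨x, hxW⟩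
  let eA : Y.presheaf.stalk (f x) ≃+* Localization.AtPrime p :=
    (IsLocalization.algEquiv p.primeCompl (Y.presheaf.stalk (f x))
      (Localization.AtPrime p)).toRingEquiv
  let eB : X.presheaf.stalk x ≃+* Localization.AtPrime q :=
    (IsLocalization.algEquiv q.primeCompl (X.presheaf.stalk x)
      (Localization.AtPrime q)).toRingEquiv
  haveI : IsNoetherianRing Γ(Y, V) := IsLocallyNoetherian.component_noetherian ⟨V, hV⟩
  haveI : IsNoetherianRing Γ(X, W) := Algebra.FiniteType.isNoetherianRing Γ(Y, V) Γ(X, W)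
  have hp : q.comap (algebraMap Γ(Y, V) Γ(X, W)) = p := (hqp.over).symm
  constructor
  · intro h
    haveI : IsRegularLocalRing (Localization.AtPrime q) := IsRegularLocalRing.of_ringEquiv eB
    haveI := Groth.Agent.Helper8.FlatReg.isRegularLocalRing_of_flat_liesOver Γ(Y, V) Γ(X, W) p q
      inferInstance
    exact IsRegularLocalRing.of_ringEquiv eA.symm
  · intro h
    haveI : IsRegularLocalRing (Localization.AtPrime p) := IsRegularLocalRing.of_ringEquiv eA
    have hbase : IsRegularLocalRing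
        (Localization.AtPrime (q.comap (algebraMap Γ(Y, V) Γ(X, W)))) :=
      isRegularLocalRing_atPrime_congr p _ hp inferInstance
    haveI := Groth.Agent.Helper8.GenFib.isRegularLocalRing_atPrime_of_isRegularHom Γ(Y, V) Γ(X, W)
      (Groth.Agent.Helper3.RegSm.isRegularHom_of_smooth Γ(Y, V) Γ(X, W)) q hbase
    exact IsRegularLocalRing.of_ringEquiv eB.symm

end Groth.Agent.Lead.SmLoc
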