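import Mathlib
import Groth.Agent.Lib.Helper1.SecOps
import Groth.Agent.Lib.Helper1.TrivInv1
import Groth.Agent.Lib.Helper1.GlobField1
import Groth.Agent.Lib.Helper1.HH0
import Groth.Agent.Lib.Helper1.AmpleLib2
import Groth.Agent.Lib.Helper1.InvInv2
import Groth.Agent.Lib.Helper1.GenusOne1
import Groth.Agent.Lib.Helper1.TildeTens
import Groth.Agent.Lib.Helper1.TwistTens

/-!
# Sections of an invertible module and of its inverse on a proper integral scheme (lead)
-/

set_option backward.isDefEq.respectTransparency.types false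
set_option autoImplicit false
set_option linter.style.haveILetI false
universe u
open CategoryTheory CategoryTheory.Limits AlgebraicGeometry TopologicalSpace Opposite

namespace Groth.Agent.Lead.SurfSec

open Groth.Agent.Helper1 Groth.Agent.Helper1.LGen Groth.Agent.Helper1.QcCech
open Groth.Agent.Helper1.TwForm Groth.Agent.Helper1.TensGen Groth.Agent.Helper1.TmulLib

variable {X : Scheme.{u}}

/-- a nonzero section of an invertible module on an integral scheme generates somewhere -/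
theorem genLocus_ne_bot [IsIntegral X] {L : X.Modules} (hL : PicF.IsInvertible L)
    (s : Coh.structureModule X ⟶ L) (hs : s ≠ 0) : CohB1.genLocus L s ≠ ⊥ := by
  obtain ⟨W, a, hxW, ha⟩ := exists_isGen hL (genericPoint X)
  obtain ⟨φ, hφ⟩ := ha.exists_coeff (secVal s W)
  have hO : PicF.IsInvertible (Coh.structureModule X) := GenLoc.isInvertible_O
  haveI : Mono s := Curve.mono_of_ne_zero hO hL s hs
  have hinj := FtLocal.app_injective_of_mono s W
  have hφ0 : φ ≠ 0 := by
    intro h0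
    rw [h0, zero_smul] at hφ
    have h2 : s.app W (show Γ(Coh.structureModule X, W) from (1 : Γ(X, W))) = secVal s W := rfl
    rw [← hφ] at h2
    have h3 : (show Γ(Coh.structureModule X, W) from (1 : Γ(X, W))) = 0 :=
      hinj (h2.trans (map_zero _).symm)
    have h5 : (1 : Γ(X, W)) = 0 := h3
    have h6 : X.basicOpen (1 : Γ(X, W)) = W := X.basicOpen_of_isUnit isUnit_one
    rw [h5, (AlgebraicGeometry.basicOpen_eq_bot_iff (0 : Γ(X, W))).2 rfl] at h6
    rw [← h6] at hxW
    exact hxW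
  have h4 := genLocus_inf_eq_basicOpen s ha φ hφ
  intro hbot
  rw [hbot, bot_inf_eq] at h4
  have : φ = 0 := (AlgebraicGeometry.basicOpen_eq_bot_iff φ).1 h4.symm
  exact hφ0 this

theorem isIso_of_genLocus_eq_top {L : X.Modules} (s : Coh.structureModule X ⟶ L)
    (h : CohB1.genLocus L s = ⊤) : IsIso s := by
  rw [Scheme.Modules.Hom.isIso_iff_isIso_app]
  intro V
  have := AmpleLib.good_of_le_genLocus s V (h ▸ le_top)
  exact (ConcreteCategory.isIso_iff_bijective _).2 this

/-- `(A ⊗ B)^m ≅ A^m ⊗ B^m` (the construction of helper1's `ThmB.tensorPowMulIso`) -/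
noncomputable def tensorPowMulIso {A B : X.Modules} (hA : PicF.IsInvertible A)
    (hB : PicF.IsInvertible B) (m : ℕ) :
    CohB1.tensorPow (CohB1.tensorMod A B) m ≅
      CohB1.tensorMod (CohB1.tensorPow A m) (CohB1.tensorPow B m) :=
  Tw.iso ((((Tw.fst A B).tensorR (Tw.snd A B)).pow m).cast (d₁' := (m : ℤ)) (d₂' := (m : ℤ))
      (by ring) (by ring))
    ((((Tw.fst A B).pow m).tensorR ((Tw.snd A B).pow m)).cast (d₁' := (m : ℤ)) (d₂' := (m : ℤ))
      (by ring) (by ring))
    (locFrame_of_isInvertible hA hB)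

theorem isInvertible_of_inverse' {L M : X.Modules} (hL : PicF.IsInvertible L)
    (e : CohB1.tensorMod M L ≅ Coh.structureModule X) : PicF.IsInvertible M := by
  obtain ⟨K, hK, ⟨eK⟩⟩ := InvInv2.exists_inverse hL
  have i : K ≅ M :=
    (SecTwist.unitorR K).symm ≪≫ TildeTens.tensorModComm _ _ ≪≫
      TwistTens.tensorModCongrLeft e.symm K ≪≫
      GenusOne.assocIso M hL hK ≪≫
      TwistTens.tensorModCongrRight M (TildeTens.tensorModComm L K ≪≫ eK) ≪≫
      SecTwist.unitorR M
  exact TwistAmpleOpen.isInvertible_of_iso i hK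

/-- a nonzero element of `H⁰` gives a nonzero morphism from the structure sheaf -/
theorem exists_hom_ne_zero (N : X.Modules) (h : Nontrivial (Coh.HH X N 0)) :
    ∃ s : Coh.structureModule X ⟶ N, s ≠ 0 := by
  obtain ⟨x, hx⟩ := exists_ne (0 : Coh.HH X N 0)
  refine ⟨TwistAmple.homOfSec N (HH0.equiv X N x), ?_⟩
  intro h0
  have h1 := AmpleLib.secVal_homOfSec N (HH0.equiv X N x) ⊤
  rw [h0] at h1
  have h2 : secVal (0 : Coh.structureModule X ⟶ N) ⊤ = 0 := rfl
  rw [h2, QcCech.res_self] at h1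
  exact hx ((HH0.equiv X N).injective (h1.symm.trans (map_zero _).symm))

theorem main (k : Type u) [Field k] (X : Scheme.{u}) [X.Over (Spec (CommRingCat.of k))]
    [IsProper (X ↘ (Spec (CommRingCat.of k)))] [IsIntegral X]
    (L M : X.Modules) (hL : PicF.IsInvertible L) (hM : ClSub.IsInverseOf M L)
    (hsec : ∀ j : ℕ, 4 ≤ j → Nontrivial (Coh.HH X (CohB1.tensorPow L j) 0))
    (hnt : ∀ j : ℕ, 1 ≤ j → IsEmpty (CohB1.tensorPow L j ≅ Coh.structureModule X))
    (i : ℕ) (hi : 1 ≤ i) :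
    Subsingleton (Coh.HH X (CohB1.tensorPow M i) 0) := by
  by_contra hns
  rw [not_subsingleton_iff_nontrivial] at hns
  obtain ⟨eM⟩ := hM
  have hMi : PicF.IsInvertible M := isInvertible_of_inverse' hL eM
  have hLm := TwForm.isInvertible_tensorPow hL (i * 4)
  have hMm := TwForm.isInvertible_tensorPow hMi (i * 4)
  obtain ⟨s, hs⟩ := exists_hom_ne_zero _ (hsec (i * 4) (by omega))
  obtain ⟨t₀, ht₀⟩ := exists_hom_ne_zero _ hns
  have hGs := genLocus_ne_bot hLm s hs
  have hGt0 := genLocus_ne_bot (TwForm.isInvertible_tensorPow hMi i) t₀ ht₀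
  have hGt : CohB1.genLocus _ (SecOps.ppow hMi t₀ 4) = CohB1.genLocus _ t₀ :=
    SecOps.genLocus_ppow hMi t₀ 4 (by norm_num)
  have hGw := genLocus_tmulHom hMm hLm (SecOps.ppow hMi t₀ 4) s
  obtain ⟨eO⟩ := GenLoc.nonempty_tensorPow_O_iso (X := X) (i * 4)
  let ε : CohB1.tensorMod (CohB1.tensorPow M (i * 4)) (CohB1.tensorPow L (i * 4)) ≅
      Coh.structureModule X :=
    (tensorPowMulIso hMi hL (i * 4)).symm ≪≫ TwistAmpleOpen.tensorPowCongr eM (i * 4) ≪≫ eO
  have hGu : CohB1.genLocus _ (SecTwist.tmulHom (SecOps.ppow hMi t₀ 4) s ≫ ε.hom) =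
      CohB1.genLocus _ t₀ ⊓ CohB1.genLocus _ s := by
    rw [TwistAmple.genLocus_comp_iso, hGw, hGt]
  have hne : CohB1.genLocus _ (SecTwist.tmulHom (SecOps.ppow hMi t₀ 4) s ≫ ε.hom) ≠ ⊥ := by
    rw [hGu]
    have h1 : (CohB1.genLocus _ t₀ : Set X).Nonempty := by
      rw [Set.nonempty_iff_ne_empty]
      intro h
      exact hGt0 (Opens.ext h)
    have h2 : (CohB1.genLocus _ s : Set X).Nonempty := by
      rw [Set.nonempty_iff_ne_empty]
      intro h
      exact hGs (Opens.ext h)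
    obtain ⟨x, hx1, hx2⟩ := nonempty_preirreducible_inter (CohB1.genLocus _ t₀).2
      (CohB1.genLocus _ s).2 h1 h2
    intro hb
    have : x ∈ (⊥ : X.Opens) := hb ▸ (⟨hx1, hx2⟩ : x ∈ CohB1.genLocus _ t₀ ⊓ CohB1.genLocus _ s)
    exact this
  obtain ⟨hF, -, -, -, -⟩ := GlobField.main k X
  have hf : GenLoc.fnO (SecTwist.tmulHom (SecOps.ppow hMi t₀ 4) s ≫ ε.hom) ≠ 0 := by
    intro h0
    apply hne
    rw [GenLoc.genLocus_O, h0]
    exact (AlgebraicGeometry.basicOpen_eq_bot_iff (0 : Γ(X, ⊤))).2 rfl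
  obtain ⟨b, hb⟩ := hF.mul_inv_cancel hf
  have hunit : IsUnit (GenLoc.fnO (SecTwist.tmulHom (SecOps.ppow hMi t₀ 4) s ≫ ε.hom)) :=
    IsUnit.of_mul_eq_one _ hb
  have htop : CohB1.genLocus _ (SecTwist.tmulHom (SecOps.ppow hMi t₀ 4) s ≫ ε.hom) = ⊤ := by
    rw [GenLoc.genLocus_O]
    exact X.basicOpen_of_isUnit hunit
  rw [hGu] at htop
  have hs_top : CohB1.genLocus _ s = ⊤ := top_unique (htop ▸ inf_le_right)
  haveI := isIso_of_genLocus_eq_top s hs_top
  exact (hnt (i * 4) (by omega)).false (asIso s).symm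

end Groth.Agent.Lead.SurfSec
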