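import Mathlib
import Groth.Prelude.Def_Coh

/-!
# A morphism of modules which is bijective on the opens of a basis is an isomorphism (lead)
-/

set_option autoImplicit false
universe u
open CategoryTheory CategoryTheory.Limits AlgebraicGeometry TopologicalSpace Opposite

namespace Groth.Agent.Lead.BasisIso

variable {X : Scheme.{u}}

/-- a morphism of modules which is bijective on all stalks is an isomorphism -/
theorem isIso_of_stalk_bijective {M N : X.Modules} (φ : M ⟶ N)
    (h : ∀ x : X, Function.Bijective
      ((TopCat.Presheaf.stalkFunctor (C := Ab.{u}) x).map φ.mapPresheaf)) : IsIso φ := by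
  let ψ : (⟨M.presheaf, M.isSheaf⟩ : TopCat.Sheaf Ab.{u} X) ⟶ ⟨N.presheaf, N.isSheaf⟩ :=
    ⟨φ.mapPresheaf⟩
  haveI : ∀ x : X, IsIso ((TopCat.Presheaf.stalkFunctor Ab.{u} x).map ψ.1) := fun x =>
    (ConcreteCategory.isIso_iff_bijective _).2 (h x)
  haveI : IsIso ψ := TopCat.Presheaf.isIso_of_stalkFunctor_map_iso ψ
  haveI h2 : IsIso ((TopCat.Sheaf.forget Ab.{u} X).map ψ) := Functor.map_isIso _ ψ
  haveI : IsIso ((Scheme.Modules.toPresheaf X).map φ) := h2
  exact isIso_of_reflects_iso _ (Scheme.Modules.toPresheaf X)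

theorem stalk_surjective_of_isBasis {T : TopCat.{u}} {F G : TopCat.Presheaf Ab.{u} T}
    (α : F ⟶ G) {B : Set (Opens T)} (hB : Opens.IsBasis B)
    (hα : ∀ U ∈ B, Function.Surjective (α.app (op U))) (x : T) :
    Function.Surjective ((TopCat.Presheaf.stalkFunctor Ab.{u} x).map α) := by
  intro t
  obtain ⟨U, hxU, hU, s, rfl⟩ := TopCat.Presheaf.exists_mem_germ_eq_of_isBasis hB _ x t
  obtain ⟨r, rfl⟩ := hα U hU s
  exact ⟨F.germ U x hxU r, TopCat.Presheaf.stalkFunctor_map_germ_apply U x hxU α r⟩

/-- a morphism of modules which is bijective on the sections over the opens of a basis is an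
isomorphism -/
theorem isIso_of_bijective_basis {M N : X.Modules} (φ : M ⟶ N) {B : Set X.Opens}
    (hB : Opens.IsBasis B) (h : ∀ U ∈ B, Function.Bijective (φ.app U)) : IsIso φ := by
  apply isIso_of_stalk_bijective
  intro x
  exact ⟨TopCat.Presheaf.stalkFunctor_map_injective_of_isBasis hB (fun U hU => (h U hU).1) x,
    stalk_surjective_of_isBasis φ.mapPresheaf hB (fun U hU => (h U hU).2) x⟩

/-- a morphism of modules which is bijective on the sections over all affine opens is an
isomorphism (no quasi-coherence needed) -/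
theorem isIso_of_bijective_affineOpens {M N : X.Modules} (φ : M ⟶ N)
    (h : ∀ U : X.Opens, IsAffineOpen U → Function.Bijective (φ.app U)) : IsIso φ :=
  isIso_of_bijective_basis φ X.isBasis_affineOpens (fun U hU => h U hU)

end Groth.Agent.Lead.BasisIso
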