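import Mathlib
import Groth.Agent.Lib.Helper1.InvInv2
import Groth.Agent.Lib.Helper1.InvQc
import Groth.Agent.Lib.Helper1.InvT4
import Groth.Agent.Lib.Helper1.InvT1
import Groth.Agent.Lib.Helper4.TenSec1

/-!
# Invertible modules over affine opens with trivial Picard group (lead)
-/

set_option autoImplicit false
universe u
open CategoryTheory CategoryTheory.Limits AlgebraicGeometry TopologicalSpace Opposite TensorProduct
set_option backward.isDefEq.respectTransparency.types false

namespace Groth.Agent.Lead.InvAff

open Groth.Agent.Helper1 Groth.Agent.Helper1.LGen Groth.Agent.Helper1.QcCech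
open Groth.Agent.Lead.TilT Groth.Agent.Lead.SD

variable {X : Scheme.{u}}

/-- a morphism of modules as a linear map on sections -/
noncomputable def appL {M N : X.Modules} (φ : M ⟶ N) (U : X.Opens) :
    Γ(M, U) →ₗ[Γ(X, U)] Γ(N, U) where
  toFun m := φ.app U m
  map_add' a b := map_add _ a b
  map_smul' r m := Scheme.Modules.Hom.app_smul φ r m

theorem appL_bijective {M N : X.Modules} (e : M ≅ N) (U : X.Opens) :
    Function.Bijective (appL e.hom U) := by
  have : IsIso (e.hom.app U) := inferInstance
  exact (ConcreteCategory.isIso_iff_bijective _).1 this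

/-- sections of the structure module are the ring of sections -/
noncomputable def unitEquiv (U : X.Opens) :
    Γ(Coh.structureModule X, U) ≃ₗ[Γ(X, U)] Γ(X, U) where
  toFun m := m
  invFun m := m
  left_inv _ := rfl
  right_inv _ := rfl
  map_add' _ _ := rfl
  map_smul' _ _ := rfl

/-- sections of an invertible module over an affine open form an invertible module -/
theorem invertible_sections (L : X.Modules) (hL : PicF.IsInvertible L) {U : X.Opens}
    (hU : IsAffineOpen U) : Module.Invertible Γ(X, U) Γ(L, U) := by
  obtain ⟨K, hK, ⟨e⟩⟩ := InvInv2.exists_inverse hL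
  haveI := InvQc.isQuasicoherent_of_isInvertible L hL
  haveI := InvQc.isQuasicoherent_of_isInvertible K hK
  have hb := Groth.Agent.Lib.Helper4.TenSec1.toTₗ_bijective K L hU
  let ψ : (Γ(K, U) ⊗[Γ(X, U)] Γ(L, U)) ≃ₗ[Γ(X, U)] Γ(X, U) :=
    (LinearEquiv.ofBijective ((appL e.hom U).comp (toTₗ K L U))
      ((appL_bijective e U).comp hb)).trans (unitEquiv U)
  exact Module.Invertible.right ψ

attribute [local instance] basicOpenModule

/-- a free generator of the sections of a quasi-coherent module over an affine open is a free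
generator of the module over that open -/
theorem isGen_of_bijective_affine (L : X.Modules) [L.IsQuasicoherent] {U : X.Opens}
    (hU : IsAffineOpen U) (a : Γ(L, U))
    (ha : Function.Bijective (fun r : Γ(X, U) => r • a)) : IsGen L U a := by
  apply InvT.isGen_of_basis a (Set.range (fun g : Γ(X, U) => X.basicOpen g))
  · intro V x hx hVU
    obtain ⟨g, hgV, hxg⟩ := hU.exists_basicOpen_le (V := V) ⟨x, hx⟩ (hVU hx)
    exact ⟨X.basicOpen g, ⟨g, rfl⟩, hxg, hgV⟩
  · rintro _ ⟨g, rfl⟩ hle
    haveI := hU.isLocalization_basicOpen g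
    have h1 : ∀ m : Γ(L, U), ∃ (n : ℕ) (c : Γ(X, U)), (1 : Γ(X, U)) ^ n • m = c • a := by
      intro m
      obtain ⟨c, hc⟩ := ha.2 m
      exact ⟨0, c, by rw [pow_zero, one_smul]; exact hc.symm⟩
    have h2 : ∀ c : Γ(X, U), c • a = 0 → ∃ n : ℕ, (1 : Γ(X, U)) ^ n * c = 0 := by
      intro c hc
      refine ⟨0, ?_⟩
      rw [pow_zero, one_mul]
      apply ha.1
      change c • a = (0 : Γ(X, U)) • a
      rw [hc, zero_smul]
    have := InvT.bijective_smul_of_gen (R := Γ(X, U)) (M := Γ(L, U))
      (A := Γ(X, X.basicOpen g)) (Q := Γ(L, X.basicOpen g)) a 1 g g 1 (by ring) h1 h2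
      (resₗ L g) (isLocalizedModule_res L hU g)
    exact this


/-- an invertible module has a free generator over an affine open whose ring of sections has
trivial Picard group -/
theorem exists_isGen_of_affine (L : X.Modules) (hL : PicF.IsInvertible L) {U : X.Opens}
    (hU : IsAffineOpen U) [Subsingleton (CommRing.Pic Γ(X, U))] :
    ∃ a : Γ(L, U), IsGen L U a := by
  haveI := InvQc.isQuasicoherent_of_isInvertible L hL
  haveI := invertible_sections L hL hU
  have hfree : Module.Free Γ(X, U) Γ(L, U) := inferInstance
  obtain ⟨e⟩ := Module.Invertible.free_iff_linearEquiv.1 hfree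
  refine ⟨e.symm 1, isGen_of_bijective_affine L hU _ ?_⟩
  have : (fun r : Γ(X, U) => r • e.symm 1) = fun r => e.symm r := by
    funext r
    rw [← map_smul, smul_eq_mul, mul_one]
  rw [this]
  exact e.symm.bijective

end Groth.Agent.Lead.InvAff
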