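import Mathlib

set_option autoImplicit false

namespace Groth.Agent.Lead.PnComb

/-- an additive cocycle of the shape `t i j • (δ_i - δ_j)` has constant `t` -/
theorem exists_degree (n : ℕ) (t : Fin (n + 1) → Fin (n + 1) → ℤ)
    (h : ∀ i j k, t i k • (Pi.single i 1 - Pi.single k 1 : Fin (n + 1) → ℤ) =
      t i j • (Pi.single i 1 - Pi.single j 1) + t j k • (Pi.single j 1 - Pi.single k 1)) :
    ∃ d : ℤ, ∀ i j, t i j • (Pi.single i 1 - Pi.single j 1 : Fin (n + 1) → ℤ) =
      d • (Pi.single i 1 - Pi.single j 1) := by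
  refine ⟨t 1 0, ?_⟩
  have key : ∀ i, t i 0 • (Pi.single i 1 - Pi.single 0 1 : Fin (n + 1) → ℤ) =
      t 1 0 • (Pi.single i 1 - Pi.single 0 1) := by
    intro i
    by_cases hi : i = 0
    · subst hi
      rw [sub_self, smul_zero, smul_zero]
    · have hn : n ≠ 0 := by
        rintro rfl
        exact hi (Fin.fin_one_eq_zero i)
      have h10 : (1 : Fin (n + 1)) ≠ 0 := fun h => hn (by have := Fin.one_eq_zero_iff.1 h; omega)
      have h1 := congrFun (h i 1 0) 0
      simp only [Pi.smul_apply, Pi.add_apply, Pi.sub_apply, Pi.single_eq_same,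
        Pi.single_eq_of_ne (Ne.symm hi), Pi.single_eq_of_ne (Ne.symm h10), smul_eq_mul] at h1
      have : t i 0 = t 1 0 := by linarith
      rw [this]
  intro i j
  have h1 := h i j 0
  rw [key i, key j] at h1
  have : t i j • (Pi.single i 1 - Pi.single j 1 : Fin (n + 1) → ℤ) =
      t 1 0 • (Pi.single i 1 - Pi.single 0 1) - t 1 0 • (Pi.single j 1 - Pi.single 0 1) := by
    rw [h1]; abel
  rw [this, ← smul_sub]
  congr 1
  abel

end Groth.Agent.Lead.PnComb
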