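import Mathlib

/-!
# Units of degree-zero Laurent monomials (algebra for the Picard group of projective space) (lead)
-/

set_option autoImplicit false
universe u v w
open MvPolynomial

namespace Groth.Agent.Lead.PnAlg

section Prime
variable {A : Type*} [CommRing A] [IsDomain A]

theorem eq_unit_mul_pow_pow {p q a b : A} (hp : Prime p) (hq : Prime q) {M N : ℕ}
    (h : a * b = p ^ M * q ^ N) : ∃ (c : A) (α β : ℕ), IsUnit c ∧ a = c * (p ^ α * q ^ β) := by
  obtain ⟨i, j, a₁, b₁, hij, h1, ha, hb⟩ := mul_eq_mul_prime_pow hq h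
  have h1' : a₁ * b₁ = 1 * p ^ M := by rw [one_mul, h1]
  obtain ⟨i', j', c, c', hij', h2, ha', hb'⟩ := mul_eq_mul_prime_pow hp h1'
  refine ⟨c, i', i, IsUnit.of_mul_eq_one c' h2.symm, ?_⟩
  rw [ha, ha']; ring

end Prime

section Laurent
variable {R : Type u} [CommRing R] [IsDomain R] {σ : Type v} [Fintype σ] [DecidableEq σ]
variable {K : Type w} [CommRing K] (φ : MvPolynomial σ R →+* K) (x : σ → Kˣ)

/-- the Laurent monomial with exponent vector `e` -/
noncomputable def Φ (e : σ → ℤ) : Kˣ := ∏ k, x k ^ e k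

theorem Φ_add (e e' : σ → ℤ) : Φ x (e + e') = Φ x e * Φ x e' := by
  unfold Φ
  rw [← Finset.prod_mul_distrib]
  refine Finset.prod_congr rfl fun k _ => ?_
  rw [Pi.add_apply, zpow_add]

theorem Φ_zero : Φ x (0 : σ → ℤ) = 1 := by
  unfold Φ
  simp

theorem Φ_neg (e : σ → ℤ) : Φ x (-e) = (Φ x e)⁻¹ := by
  rw [eq_inv_iff_mul_eq_one, ← Φ_add, neg_add_cancel, Φ_zero]

theorem Φ_single (i : σ) (t : ℤ) : Φ x (Pi.single i t) = x i ^ t := by
  unfold Φ
  rw [Finset.prod_eq_single i]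
  · rw [Pi.single_eq_same]
  · intro k _ hk
    rw [Pi.single_eq_of_ne hk, zpow_zero]
  · intro h; exact absurd (Finset.mem_univ i) h

theorem Φ_smul_sub (i j : σ) (t : ℤ) :
    Φ x (t • (Pi.single i 1 - Pi.single j 1)) = x i ^ t * (x j ^ t)⁻¹ := by
  have hs : ∀ (l : σ) (t : ℤ), t • (Pi.single l (1 : ℤ) : σ → ℤ) = Pi.single l t := by
    intro l t
    rw [← Pi.single_smul, smul_eq_mul, mul_one]
  rw [smul_sub, sub_eq_add_neg, Φ_add, Φ_neg, hs, hs, Φ_single, Φ_single]

variable (hx : ∀ k, (x k : K) = φ (X k))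
include hx

theorem Φ_natCast (a : σ → ℕ) : ((Φ x (fun k => (a k : ℤ)) : Kˣ) : K) = φ (∏ k, X k ^ a k) := by
  unfold Φ
  rw [Units.coe_prod, map_prod]
  refine Finset.prod_congr rfl fun k _ => ?_
  rw [zpow_natCast, Units.val_pow_eq_pow_val, hx, map_pow]

theorem monomial_inj (hφ : Function.Injective φ) (c c' : R) (hc : c ≠ 0) (e e' : σ → ℤ)
    (h : φ (C c) * (Φ x e : K) = φ (C c') * (Φ x e' : K)) : e = e' ∧ c = c' := by
  -- shift to natural exponents
  let s : σ → ℤ := fun k => (((e k).natAbs + (e' k).natAbs : ℕ) : ℤ)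
  let a : σ → ℕ := fun k => (e k + s k).toNat
  let a' : σ → ℕ := fun k => (e' k + s k).toNat
  have ha : (fun k => (a k : ℤ)) = e + s := by
    funext k
    simp only [a, s, Pi.add_apply]
    omega
  have ha' : (fun k => (a' k : ℤ)) = e' + s := by
    funext k
    simp only [a', s, Pi.add_apply]
    omega
  have h2 : φ (C c) * (Φ x (e + s) : K) = φ (C c') * (Φ x (e' + s) : K) := by
    rw [Φ_add, Φ_add, Units.val_mul, Units.val_mul, ← mul_assoc, ← mul_assoc, h]
  rw [← ha, ← ha', Φ_natCast φ x hx, Φ_natCast φ x hx, ← map_mul, ← map_mul] at h2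
  have h3 := hφ h2
  have hm : ∀ (b : σ → ℕ) (r : R), C r * ∏ k, X k ^ b k =
      monomial (Finsupp.equivFunOnFinite.symm b) r := by
    intro b r
    rw [monomial_eq, Finsupp.prod_fintype]
    · rfl
    · intro k; exact pow_zero _
  rw [hm, hm, monomial_eq_monomial_iff] at h3
  rcases h3 with ⟨h4, h5⟩ | ⟨h4, _⟩
  · refine ⟨?_, h5⟩
    have h6 : a = a' := Finsupp.equivFunOnFinite.symm.injective h4
    funext k
    have h7 := congrFun ha k
    have h8 := congrFun ha' k
    have h9 := congrFun h6 k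
    simp only [Pi.add_apply] at h7 h8
    omega
  · exact absurd h4 hc

end Laurent


section Units
variable {R : Type u} [CommRing R] [IsDomain R] {σ : Type v} [Fintype σ] [DecidableEq σ]
variable {K : Type w} [CommRing K] (φ : MvPolynomial σ R →+* K) (x : σ → Kˣ)
variable (hx : ∀ k, (x k : K) = φ (X k))
include hx

/-- the shape of a unit of the degree-zero part of the localization at `X i * X j` -/
theorem unit_form (i j : σ) (m : ℕ) (a b : MvPolynomial σ R) (ha : a.IsHomogeneous (m * 2))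
    (M : ℕ) (hab : a * b = (X i * X j) ^ M) (v : K) (hv : v * φ (X i * X j) ^ m = φ a) :
    ∃ (c : Rˣ) (t : ℤ), v = φ (C (c : R)) *
      ((Φ x (t • (Pi.single i 1 - Pi.single j 1)) : Kˣ) : K) := by
  rw [mul_pow] at hab
  obtain ⟨c₀, α, β, hc₀, ha'⟩ := eq_unit_mul_pow_pow (X_prime (R := R) (i := i))
    (X_prime (R := R) (i := j)) hab
  obtain ⟨c, hc, rfl⟩ := (isUnit_iff_eq_C_of_isReduced).1 hc₀
  have hane : a ≠ 0 := by
    intro h0
    rw [h0, zero_mul] at hab
    exact (mul_ne_zero (pow_ne_zero _ (X_ne_zero i)) (pow_ne_zero _ (X_ne_zero j))) hab.symm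
  have hhom : a.IsHomogeneous (α + β) := by
    rw [ha']
    exact ((isHomogeneous_X_pow i α).mul (isHomogeneous_X_pow j β)).C_mul c
  have hdeg : α + β = m * 2 := hhom.inj_right ha hane
  refine ⟨hc.unit, (α : ℤ) - m, ?_⟩
  have hu : φ (X i * X j) ^ m = ((x i * x j) ^ m : Kˣ) := by
    rw [Units.val_pow_eq_pow_val, Units.val_mul, hx, hx, map_mul]
  have hv' : v = φ a * (((x i * x j) ^ m)⁻¹ : Kˣ) := by
    rw [← hv, hu, mul_assoc, Units.mul_inv, mul_one]
  have hφa : φ a = φ (C c) * ((x i ^ α * x j ^ β : Kˣ) : K) := by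
    rw [ha', map_mul, map_mul, map_pow, map_pow, Units.val_mul, Units.val_pow_eq_pow_val,
      Units.val_pow_eq_pow_val, hx, hx]
  have key : x i ^ α * x j ^ β * ((x i * x j) ^ m)⁻¹ =
      Φ x (((α : ℤ) - m) • (Pi.single i 1 - Pi.single j 1)) := by
    have hs : ∀ (l : σ) (t : ℤ), t • (Pi.single l (1 : ℤ) : σ → ℤ) = Pi.single l t := by
      intro l t
      rw [← Pi.single_smul, smul_eq_mul, mul_one]
    rw [smul_sub, sub_eq_add_neg, Φ_add, Φ_neg, hs, hs, Φ_single, Φ_single]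
    have e1 : x i ^ α = x i ^ m * x i ^ ((α : ℤ) - m) := by
      rw [← zpow_natCast, ← zpow_natCast, ← zpow_add]
      congr 1; ring
    have e2 : x j ^ β = x j ^ m * (x j ^ ((α : ℤ) - m))⁻¹ := by
      rw [← zpow_natCast, ← zpow_natCast, ← zpow_neg, ← zpow_add]
      congr 1
      have : ((α + β : ℕ) : ℤ) = ((m * 2 : ℕ) : ℤ) := by rw [hdeg]
      push_cast at this
      linarith
    rw [e1, e2, mul_pow, mul_inv_eq_iff_eq_mul]
    simp only [mul_comm, mul_left_comm, mul_assoc]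
  rw [hv', hφa, mul_assoc, ← Units.val_mul, key, IsUnit.unit_spec]

end Units

end Groth.Agent.Lead.PnAlg
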