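import Mathlib
import Groth.Prelude.Def_Twist2
import Groth.Agent.Lib.Helper1.TwistTriv
import Groth.Agent.Lib.Helper1.LGen

/-!
# Evaluation of functions and twisted sections on `Proj` at a point (lead)
-/

set_option autoImplicit false
universe u
open CategoryTheory AlgebraicGeometry TopologicalSpace Opposite HomogeneousLocalization

namespace Groth.Agent.Lead.PnEv

open Groth.Agent.Helper1 Groth.Agent.Helper1.LGen Groth.Agent.Helper1.QcCech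
  Groth.Agent.Helper1.TwistTriv

variable {R A : Type u} [CommRing R] [CommRing A] [Algebra R A] (𝒜 : ℕ → Submodule R A)
  [GradedAlgebra 𝒜] (ξ : ProjectiveSpectrum 𝒜)

/-- evaluation of a function at the point `ξ` -/
noncomputable def ev (V : (Proj 𝒜).Opens) (hξ : ξ ∈ V) : Γ(Proj 𝒜, V) →+* Twist.Loc 𝒜 ξ where
  toFun s := ((show Twist.O (𝒜 := 𝒜) (op V) from s).1 ⟨ξ, hξ⟩).val
  map_one' := HomogeneousLocalization.val_one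
  map_mul' s t := HomogeneousLocalization.val_mul _ _
  map_zero' := HomogeneousLocalization.val_zero
  map_add' s t := HomogeneousLocalization.val_add _ _

theorem ev_res {V V' : (Proj 𝒜).Opens} (h : V' ≤ V) (hξ : ξ ∈ V') (s : Γ(Proj 𝒜, V)) :
    ev 𝒜 ξ V' hξ (resR h s) = ev 𝒜 ξ V (h hξ) s := rfl

theorem ev_awayToSection (f : A) (hξ : ξ ∈ Proj.basicOpen 𝒜 f) (z : Away 𝒜 f) :
    ev 𝒜 ξ (Proj.basicOpen 𝒜 f) hξ ((Proj.awayToSection 𝒜 f).hom z) =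
      IsLocalization.map (M := Submonoid.powers f) (T := ξ.asHomogeneousIdeal.toIdeal.primeCompl)
        (Twist.Loc 𝒜 ξ) (RingHom.id A) (Submonoid.powers_le.mpr hξ) z.val :=
  ProjectiveSpectrum.Proj.awayToSection_apply 𝒜 f z ⟨ξ, hξ⟩

theorem ev_awayToSection_mk {d : ℕ} {f : A} (hf : f ∈ 𝒜 d) (hξ : ξ ∈ Proj.basicOpen 𝒜 f) (m : ℕ)
    (a : A) (ha : a ∈ 𝒜 (m • d)) :
    ev 𝒜 ξ (Proj.basicOpen 𝒜 f) hξ ((Proj.awayToSection 𝒜 f).hom (Away.mk 𝒜 hf m a ha)) *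
      algebraMap A (Twist.Loc 𝒜 ξ) f ^ m = algebraMap A (Twist.Loc 𝒜 ξ) a := by
  rw [ev_awayToSection, Away.val_mk, Localization.mk_eq_mk', IsLocalization.map_mk']
  rw [← map_pow]
  exact IsLocalization.mk'_spec _ _ _


theorem exists_rep {d : ℕ} (hd : 0 < d) {f : A} (hf : f ∈ 𝒜 d)
    (s : Γ(Proj 𝒜, Proj.basicOpen 𝒜 f)) :
    ∃ (m : ℕ) (a : A) (ha : a ∈ 𝒜 (m • d)),
      s = (Proj.awayToSection 𝒜 f).hom (Away.mk 𝒜 hf m a ha) := by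
  have hiso : IsIso (Proj.awayToSection 𝒜 f) := by
    have := (Proj.basicOpenIsoAway 𝒜 f hf hd).isIso_hom
    rwa [Proj.basicOpenIsoAway_hom] at this
  obtain ⟨z, rfl⟩ := ((ConcreteCategory.isIso_iff_bijective _).1 hiso).2 s
  obtain ⟨m, a, ha, rfl⟩ := Away.mk_surjective 𝒜 hf z
  exact ⟨m, a, ha, rfl⟩

theorem exists_ev_eq {d : ℕ} (hd : 0 < d) {f : A} (hf : f ∈ 𝒜 d) (V : (Proj 𝒜).Opens)
    (hV : V = Proj.basicOpen 𝒜 f) (hξ : ξ ∈ V) (s : Γ(Proj 𝒜, V)) :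
    ∃ (m : ℕ) (a : A), a ∈ 𝒜 (m • d) ∧
      ev 𝒜 ξ V hξ s * algebraMap A (Twist.Loc 𝒜 ξ) f ^ m = algebraMap A (Twist.Loc 𝒜 ξ) a ∧
      (a = 0 → s = 0) := by
  subst hV
  obtain ⟨m, a, ha, rfl⟩ := exists_rep 𝒜 hd hf s
  refine ⟨m, a, ha, ev_awayToSection_mk 𝒜 ξ hf hξ m a ha, ?_⟩
  intro h0
  subst h0
  have : Away.mk 𝒜 hf m 0 ha = 0 := by
    apply HomogeneousLocalization.val_injective
    rw [Away.val_mk, HomogeneousLocalization.val_zero, Localization.mk_zero]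
  rw [this, map_zero]

theorem algebraMap_injective [IsDomain A] :
    Function.Injective (algebraMap A (Twist.Loc 𝒜 ξ)) := by
  apply IsLocalization.injective (Twist.Loc 𝒜 ξ)
    (M := ξ.asHomogeneousIdeal.toIdeal.primeCompl)
  intro a ha
  apply mem_nonZeroDivisors_of_ne_zero
  rintro rfl
  exact ha (Ideal.zero_mem _)

theorem ev_injective [IsDomain A] {d : ℕ} (hd : 0 < d) {f : A} (hf : f ∈ 𝒜 d)
    (V : (Proj 𝒜).Opens) (hV : V = Proj.basicOpen 𝒜 f) (hξ : ξ ∈ V) :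
    Function.Injective (ev 𝒜 ξ V hξ) := by
  rw [injective_iff_map_eq_zero]
  intro s hs
  obtain ⟨m, a, -, h1, h2⟩ := exists_ev_eq 𝒜 ξ hd hf V hV hξ s
  rw [hs, zero_mul] at h1
  apply h2
  apply algebraMap_injective 𝒜 ξ
  rw [← h1, map_zero]


/-- evaluation of a twisted section at the point `ξ` -/
noncomputable def evT (d : ℤ) (V : (Proj 𝒜).Opens) (hξ : ξ ∈ V) (t : Γ(Twist.twist 𝒜 d, V)) :
    Twist.Loc 𝒜 ξ :=
  (((show Twist.sectN (𝒜 := 𝒜) d (op V) from t).1 ⟨ξ, hξ⟩).1 : Twist.Loc 𝒜 ξ)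

theorem evT_smul (d : ℤ) (V : (Proj 𝒜).Opens) (hξ : ξ ∈ V) (r : Γ(Proj 𝒜, V))
    (t : Γ(Twist.twist 𝒜 d, V)) :
    evT 𝒜 ξ d V hξ (r • t) = ev 𝒜 ξ V hξ r * evT 𝒜 ξ d V hξ t :=
  smul_sec_val 𝒜 V r t ⟨ξ, hξ⟩

theorem evT_res (d : ℤ) {V V' : (Proj 𝒜).Opens} (h : V' ≤ V) (hξ : ξ ∈ V')
    (t : Γ(Twist.twist 𝒜 d, V)) :
    evT 𝒜 ξ d V' hξ (res (Twist.twist 𝒜 d) h t) = evT 𝒜 ξ d V (h hξ) t := rfl

/-- the fraction `a/b` as a section of `O(m)` -/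
noncomputable def frac {i j : ℕ} {a b : A} (ha : a ∈ 𝒜 i) (hb : b ∈ 𝒜 j) {m : ℤ}
    (hm : (i : ℤ) = j + m) (V : (Proj 𝒜).Opens) (hbV : ∀ x : V, b ∉ x.1.asHomogeneousIdeal) :
    Γ(Twist.twist 𝒜 m, V) :=
  fracSec 𝒜 ha hb hm V hbV

theorem evT_frac {i j : ℕ} {a b : A} (ha : a ∈ 𝒜 i) (hb : b ∈ 𝒜 j) {m : ℤ}
    (hm : (i : ℤ) = j + m) (V : (Proj 𝒜).Opens) (hbV : ∀ x : V, b ∉ x.1.asHomogeneousIdeal)
    (hξ : ξ ∈ V) :
    evT 𝒜 ξ m V hξ (frac 𝒜 ha hb hm V hbV) = Localization.mk a ⟨b, hbV ⟨ξ, hξ⟩⟩ := rfl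

theorem isGen_frac {i j : ℕ} {a b : A} (ha : a ∈ 𝒜 i) (hb : b ∈ 𝒜 j) {m : ℤ}
    (hm : (i : ℤ) = j + m) (V : (Proj 𝒜).Opens) (hbV : ∀ x : V, b ∉ x.1.asHomogeneousIdeal)
    (haV : ∀ x : V, a ∉ x.1.asHomogeneousIdeal) :
    IsGen (Twist.twist 𝒜 m) V (frac 𝒜 ha hb hm V hbV) := by
  intro W hW
  exact fracSec_bijective 𝒜 ha hb hm W (fun x => hbV ⟨x.1, hW x.2⟩) (fun x => haV ⟨x.1, hW x.2⟩)

end Groth.Agent.Lead.PnEv
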