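import Mathlib
import Groth.Agent.Lib.Lead.PnAlg
import Groth.Agent.Lib.Lead.PnEv
import Groth.Agent.Lib.Helper6.ProjChart

/-!
# Functions on the standard charts of projective space over a domain (lead)
-/

set_option autoImplicit false
universe u
open CategoryTheory AlgebraicGeometry TopologicalSpace Opposite HomogeneousLocalization MvPolynomial

namespace Groth.Agent.Lead.PnPoly

open Groth.Agent.Helper1 Groth.Agent.Helper1.LGen Groth.Agent.Helper1.QcCech
open Groth.Agent.Lead.PnAlg Groth.Agent.Lead.PnEv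

variable (n : ℕ) (R : Type u) [CommRing R] [IsDomain R]

/-- the standard chart -/
noncomputable abbrev U (k : Fin (n + 1)) : (Proj (CohB1.polyGrading n R)).Opens :=
  Proj.basicOpen (CohB1.polyGrading n R) (X k)

/-- the generic point of projective space over a domain -/
noncomputable def gen : ProjectiveSpectrum (CohB1.polyGrading n R) where
  asHomogeneousIdeal := ⊥
  isPrime := by
    rw [HomogeneousIdeal.toIdeal_bot]
    exact Ideal.isPrime_bot
  not_irrelevant_le := by
    intro h
    have h1 : (X 0 : MvPolynomial (Fin (n + 1)) R) ∈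
        HomogeneousIdeal.irrelevant (CohB1.polyGrading n R) := by
      rw [HomogeneousIdeal.mem_irrelevant_iff, GradedRing.proj_apply]
      rw [DirectSum.decompose_of_mem_ne (CohB1.polyGrading n R)
        (show (X 0 : MvPolynomial (Fin (n + 1)) R) ∈ CohB1.polyGrading n R 1 from
          isHomogeneous_X R 0) (by norm_num)]
    have h2 := h h1
    have h3 : (X 0 : MvPolynomial (Fin (n + 1)) R) ∈
        (⊥ : HomogeneousIdeal (CohB1.polyGrading n R)).toIdeal := h2
    rw [HomogeneousIdeal.toIdeal_bot, Ideal.mem_bot] at h3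
    exact X_ne_zero _ h3

theorem gen_notMem (a : MvPolynomial (Fin (n + 1)) R) (ha : a ≠ 0) :
    a ∉ (gen n R).asHomogeneousIdeal := by
  intro h
  have h3 : a ∈ (⊥ : HomogeneousIdeal (CohB1.polyGrading n R)).toIdeal := h
  rw [HomogeneousIdeal.toIdeal_bot, Ideal.mem_bot] at h3
  exact ha h3

theorem gen_mem (k : Fin (n + 1)) : gen n R ∈ U n R k :=
  (Proj.mem_basicOpen _ _ _).2 (gen_notMem n R _ (X_ne_zero k))

/-- the ambient ring of fractions -/
abbrev K : Type u := Twist.Loc (CohB1.polyGrading n R) (gen n R)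

/-- the inclusion of the polynomial ring -/
noncomputable abbrev φ : MvPolynomial (Fin (n + 1)) R →+* K n R :=
  algebraMap (MvPolynomial (Fin (n + 1)) R) (K n R)

theorem φ_injective : Function.Injective (φ n R) :=
  algebraMap_injective (CohB1.polyGrading n R) (gen n R)

/-- the variables as units -/
noncomputable def xu (k : Fin (n + 1)) : (K n R)ˣ :=
  (IsLocalization.map_units (K n R)
    (⟨X k, gen_notMem n R _ (X_ne_zero k)⟩ :
      (gen n R).asHomogeneousIdeal.toIdeal.primeCompl)).unit

theorem xu_val (k : Fin (n + 1)) : ((xu n R k : (K n R)ˣ) : K n R) = φ n R (X k) := rfl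


theorem X_mul_X_mem (i j : Fin (n + 1)) :
    (X i * X j : MvPolynomial (Fin (n + 1)) R) ∈ CohB1.polyGrading n R 2 :=
  (isHomogeneous_X R i).mul (isHomogeneous_X R j)

theorem inf_eq (i j : Fin (n + 1)) :
    U n R i ⊓ U n R j = Proj.basicOpen (CohB1.polyGrading n R) (X i * X j) :=
  (Proj.basicOpen_mul _ _ _).symm

theorem gen_mem_inf (i j : Fin (n + 1)) : gen n R ∈ U n R i ⊓ U n R j :=
  ⟨gen_mem n R i, gen_mem n R j⟩

/-- evaluation at the generic point on a double overlap -/
noncomputable abbrev ev2 (i j : Fin (n + 1)) :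
    Γ(Proj (CohB1.polyGrading n R), U n R i ⊓ U n R j) →+* K n R :=
  ev (CohB1.polyGrading n R) (gen n R) (U n R i ⊓ U n R j) (gen_mem_inf n R i j)

theorem ev2_injective (i j : Fin (n + 1)) : Function.Injective (ev2 n R i j) :=
  ev_injective (CohB1.polyGrading n R) (gen n R) (by norm_num) (X_mul_X_mem n R i j) _
    (inf_eq n R i j) _

/-- the shape of the units on a double overlap -/
theorem unit_form2 (i j : Fin (n + 1))
    (u u' : Γ(Proj (CohB1.polyGrading n R), U n R i ⊓ U n R j)) (h : u * u' = 1) :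
    ∃ (c : Rˣ) (t : ℤ), ev2 n R i j u = φ n R (C (c : R)) *
      ((Φ (xu n R) (t • (Pi.single i 1 - Pi.single j 1)) : (K n R)ˣ) : K n R) := by
  obtain ⟨m, a, ha, h1, -⟩ := exists_ev_eq (CohB1.polyGrading n R) (gen n R) (by norm_num)
    (X_mul_X_mem n R i j) _ (inf_eq n R i j) (gen_mem_inf n R i j) u
  obtain ⟨l, b, hb, h2, -⟩ := exists_ev_eq (CohB1.polyGrading n R) (gen n R) (by norm_num)
    (X_mul_X_mem n R i j) _ (inf_eq n R i j) (gen_mem_inf n R i j) u'
  have hab : a * b = (X i * X j) ^ (m + l) := by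
    apply φ_injective n R
    rw [map_mul, ← h1, ← h2, map_pow, pow_add]
    have h3 : ev2 n R i j u * ev2 n R i j u' = 1 := by rw [← map_mul, h, map_one]
    calc ev2 n R i j u * φ n R (X i * X j) ^ m * (ev2 n R i j u' * φ n R (X i * X j) ^ l)
        = (ev2 n R i j u * ev2 n R i j u') * (φ n R (X i * X j) ^ m * φ n R (X i * X j) ^ l) := by
          ring
      _ = _ := by rw [h3, one_mul]
  exact unit_form (φ n R) (xu n R) (xu_val n R) i j m a b ha (m + l) hab _ h1


theorem X_pow_mem (k : Fin (n + 1)) (e : ℕ) :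
    (X k ^ e : MvPolynomial (Fin (n + 1)) R) ∈ CohB1.polyGrading n R e :=
  isHomogeneous_X_pow k e

/-- the generator `X_k ^ d` of `O(d)` over the chart `U k` -/
noncomputable def tt (d : ℤ) (k : Fin (n + 1)) :
    Γ(Twist.twist (CohB1.polyGrading n R) d, U n R k) :=
  frac (CohB1.polyGrading n R) (X_pow_mem n R k d.toNat) (X_pow_mem n R k (-d).toNat)
    (by have := Int.toNat_sub_toNat_neg d; omega) (U n R k)
    (fun x h => x.2 (x.1.isPrime.mem_of_pow_mem _ h))

theorem isGen_tt (d : ℤ) (k : Fin (n + 1)) :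
    IsGen (Twist.twist (CohB1.polyGrading n R) d) (U n R k) (tt n R d k) :=
  isGen_frac _ _ _ _ _ _ (fun x h => x.2 (x.1.isPrime.mem_of_pow_mem _ h))

theorem evT_tt (d : ℤ) (k : Fin (n + 1)) :
    evT (CohB1.polyGrading n R) (gen n R) d (U n R k) (gen_mem n R k) (tt n R d k) =
      ((xu n R k ^ d : (K n R)ˣ) : K n R) := by
  have h1 : evT (CohB1.polyGrading n R) (gen n R) d (U n R k) (gen_mem n R k) (tt n R d k) *
      φ n R (X k ^ (-d).toNat) = φ n R (X k ^ d.toNat) := by
    unfold tt
    rw [evT_frac, Localization.mk_eq_mk']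
    exact IsLocalization.mk'_spec _ _ _
  have h2 : ((xu n R k ^ d : (K n R)ˣ) : K n R) * φ n R (X k ^ (-d).toNat) =
      φ n R (X k ^ d.toNat) := by
    rw [map_pow, map_pow, ← xu_val, ← Units.val_pow_eq_pow_val, ← Units.val_pow_eq_pow_val,
      ← Units.val_mul, ← zpow_natCast, ← zpow_natCast, ← zpow_add]
    congr 2
    have := Int.toNat_sub_toNat_neg d
    omega
  have hu : IsUnit (φ n R (X k ^ (-d).toNat)) := by
    rw [map_pow, ← xu_val, ← Units.val_pow_eq_pow_val]
    exact Units.isUnit _
  exact hu.mul_left_injective (h1.trans h2.symm)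

/-- constant functions on a chart -/
noncomputable def const (k : Fin (n + 1)) :
    R →+* Γ(Proj (CohB1.polyGrading n R), U n R k) :=
  ((Proj.awayToSection (CohB1.polyGrading n R) (X k)).hom).comp
    ((fromZeroRingHom (CohB1.polyGrading n R) (Submonoid.powers (X k))).comp
      (algebraMap R (CohB1.polyGrading n R 0)))

theorem ev_const (k : Fin (n + 1)) (c : R) :
    ev (CohB1.polyGrading n R) (gen n R) (U n R k) (gen_mem n R k) (const n R k c) =
      φ n R (C c) := by
  change ev (CohB1.polyGrading n R) (gen n R) (Proj.basicOpen (CohB1.polyGrading n R) (X k))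
    (gen_mem n R k) ((Proj.awayToSection (CohB1.polyGrading n R) (X k)).hom
      (fromZeroRingHom (CohB1.polyGrading n R) (Submonoid.powers (X k))
        (algebraMap R (CohB1.polyGrading n R 0) c))) = _
  rw [ev_awayToSection]
  have : (fromZeroRingHom (CohB1.polyGrading n R) (Submonoid.powers (X k))
      (algebraMap R (CohB1.polyGrading n R 0) c)).val =
      algebraMap (MvPolynomial (Fin (n + 1)) R)
        (Localization.Away (X k : MvPolynomial (Fin (n + 1)) R)) (C c) := by
    rw [← Localization.mk_one_eq_algebraMap]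
    rfl
  rw [this, IsLocalization.map_eq]
  rfl

theorem pic_subsingleton [UniqueFactorizationMonoid R] (k : Fin (n + 1)) :
    Subsingleton (CommRing.Pic Γ(Proj (CohB1.polyGrading n R), U n R k)) := by
  let e : MvPolynomial {j : Fin (n + 1) // j ≠ k} R ≃+*
      Γ(Proj (CohB1.polyGrading n R), U n R k) :=
    (RingEquiv.ofBijective (Groth.Agent.Lib.Helper6.ProjChart.phi k)
      (Groth.Agent.Lib.Helper6.ProjChart.phi_bijective k)).trans
      (Proj.basicOpenIsoAway (CohB1.polyGrading n R) (X k) (isHomogeneous_X R k)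
        (by norm_num)).commRingCatIsoToRingEquiv
  have : IsDomain Γ(Proj (CohB1.polyGrading n R), U n R k) :=
    MulEquiv.isDomain _ e.symm.toMulEquiv
  have : UniqueFactorizationMonoid Γ(Proj (CohB1.polyGrading n R), U n R k) :=
    e.toMulEquiv.uniqueFactorizationMonoid inferInstance
  infer_instance

end Groth.Agent.Lead.PnPoly
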