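import Mathlib
import Groth.Agent.Lib.Lead.PnPoly
import Groth.Agent.Lib.Lead.PnComb
import Groth.Agent.Lib.Lead.InvAff
import Groth.Agent.Lib.Helper1.CocycleIso
import Groth.Agent.Lib.Helper1.TwForm1

/-!
# The Picard group of projective space over a factorial domain (lead)
-/

set_option autoImplicit false
universe u
open CategoryTheory AlgebraicGeometry TopologicalSpace Opposite HomogeneousLocalization MvPolynomial

namespace Groth.Agent.Lead.PnMain

open Groth.Agent.Helper1 Groth.Agent.Helper1.LGen Groth.Agent.Helper1.QcCech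
open Groth.Agent.Lead.PnAlg Groth.Agent.Lead.PnEv Groth.Agent.Lead.PnPoly
open Groth.Agent.Helper1.CocycleIso Groth.Agent.Helper1.TwForm Groth.Agent.Helper1.TensGen

variable (n : ℕ) (R : Type u) [CommRing R] [IsDomain R]

/-- the intersection of all charts -/
noncomputable def W₀ : (Proj (CohB1.polyGrading n R)).Opens :=
  Proj.basicOpen (CohB1.polyGrading n R) (∏ k : Fin (n + 1), X k)

theorem W₀_le (k : Fin (n + 1)) : W₀ n R ≤ U n R k :=
  Proj.basicOpen_mono _ _ _ (Finset.dvd_prod_of_mem _ (Finset.mem_univ k))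

theorem gen_mem_W₀ : gen n R ∈ W₀ n R :=
  (Proj.mem_basicOpen _ _ _).2
    (gen_notMem n R _ (Finset.prod_ne_zero_iff.2 fun k _ => X_ne_zero k))

/-- evaluation on the intersection of all charts -/
noncomputable abbrev ev0 : Γ(Proj (CohB1.polyGrading n R), W₀ n R) →+* K n R :=
  ev (CohB1.polyGrading n R) (gen n R) (W₀ n R) (gen_mem_W₀ n R)

variable {n R}

/-- the cocycle relation of transition functions, evaluated at the generic point -/
theorem cocycle_ev {L : (Proj (CohB1.polyGrading n R)).Modules}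
    (s : ∀ k, Γ(L, U n R k)) (hs : ∀ k, IsGen L (U n R k) (s k))
    (u : ∀ i j, Γ(Proj (CohB1.polyGrading n R), U n R i ⊓ U n R j))
    (hu : ∀ i j, res L inf_le_left (s i) = u i j • res L inf_le_right (s j))
    (i j k : Fin (n + 1)) :
    ev2 n R i k (u i k) = ev2 n R i j (u i j) * ev2 n R j k (u j k) := by
  have hW : ∀ a b : Fin (n + 1), res L (W₀_le n R a) (s a) =
      resR (le_inf (W₀_le n R a) (W₀_le n R b)) (u a b) • res L (W₀_le n R b) (s b) := by
    intro a b
    have := congrArg (res L (le_inf (W₀_le n R a) (W₀_le n R b))) (hu a b)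
    rwa [res_smul, res_res, res_res] at this
  have h1 : resR (le_inf (W₀_le n R i) (W₀_le n R k)) (u i k) • res L (W₀_le n R k) (s k) =
      (resR (le_inf (W₀_le n R i) (W₀_le n R j)) (u i j) *
        resR (le_inf (W₀_le n R j) (W₀_le n R k)) (u j k)) • res L (W₀_le n R k) (s k) := by
    rw [← hW i k, mul_smul, ← hW j k, ← hW i j]
  have h2 := (IsGen.bijective_self ((hs k).res (W₀_le n R k))).1 h1
  have h3 := congrArg (ev0 n R) h2
  rw [map_mul] at h3
  exact h3


/-- the algebraic consequence: constants and exponents of the transition functions -/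
theorem exists_data (e : Fin (n + 1) → Fin (n + 1) → K n R)
    (c : Fin (n + 1) → Fin (n + 1) → Rˣ) (t : Fin (n + 1) → Fin (n + 1) → ℤ)
    (he : ∀ i j, e i j = φ n R (C (c i j : R)) *
      ((Φ (xu n R) (t i j • (Pi.single i 1 - Pi.single j 1)) : (K n R)ˣ) : K n R))
    (hcoc : ∀ i j k, e i k = e i j * e j k) :
    ∃ d : ℤ, ∀ i j, e i j * (φ n R (C (c j 0 : R)) * ((xu n R j ^ d : (K n R)ˣ) : K n R)) =
      φ n R (C (c i 0 : R)) * ((xu n R i ^ d : (K n R)ˣ) : K n R) := by
  have hc : ∀ i j k, t i k • (Pi.single i 1 - Pi.single k 1 : Fin (n + 1) → ℤ) =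
      t i j • (Pi.single i 1 - Pi.single j 1) + t j k • (Pi.single j 1 - Pi.single k 1) ∧
      (c i k : R) = (c i j : R) * (c j k : R) := by
    intro i j k
    have h1 := hcoc i j k
    rw [he, he, he] at h1
    have h2 : φ n R (C (c i k : R)) *
        ((Φ (xu n R) (t i k • (Pi.single i 1 - Pi.single k 1)) : (K n R)ˣ) : K n R) =
        φ n R (C ((c i j : R) * (c j k : R))) *
        ((Φ (xu n R) (t i j • (Pi.single i 1 - Pi.single j 1) +
          t j k • (Pi.single j 1 - Pi.single k 1)) : (K n R)ˣ) : K n R) := by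
      rw [h1, Φ_add, Units.val_mul, map_mul, map_mul]
      ring
    exact monomial_inj (φ n R) (xu n R) (xu_val n R) (φ_injective n R) _ _
      (c i k).ne_zero _ _ h2
  obtain ⟨d, hd⟩ := Groth.Agent.Lead.PnComb.exists_degree n t (fun i j k => (hc i j k).1)
  refine ⟨d, fun i j => ?_⟩
  rw [he, hd, Φ_smul_sub, (hc i j 0).2, map_mul, map_mul, Units.val_mul]
  have : ((xu n R j ^ d)⁻¹ : (K n R)ˣ) * (xu n R j ^ d : (K n R)ˣ) = 1 := inv_mul_cancel _
  have h3 : (((xu n R j ^ d)⁻¹ : (K n R)ˣ) : K n R) * ((xu n R j ^ d : (K n R)ˣ) : K n R) = 1 := by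
    rw [← Units.val_mul, this, Units.val_one]
  calc φ n R (C (c i j : R)) * (((xu n R i ^ d : (K n R)ˣ) : K n R) *
        (((xu n R j ^ d)⁻¹ : (K n R)ˣ) : K n R)) *
        (φ n R (C (c j 0 : R)) * ((xu n R j ^ d : (K n R)ˣ) : K n R))
      = φ n R (C (c i j : R)) * φ n R (C (c j 0 : R)) * ((xu n R i ^ d : (K n R)ˣ) : K n R) *
        ((((xu n R j ^ d)⁻¹ : (K n R)ˣ) : K n R) * ((xu n R j ^ d : (K n R)ˣ) : K n R)) := by ring
    _ = _ := by rw [h3, mul_one]


variable (n R)

/-- **every invertible module on projective space over a factorial domain is a twist** -/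
theorem exists_iso_twist [UniqueFactorizationMonoid R]
    (L : (Proj (CohB1.polyGrading n R)).Modules) (hL : PicF.IsInvertible L) :
    ∃ d : ℤ, Nonempty (L ≅ Twist.twist (CohB1.polyGrading n R) d) := by
  have hgen : ∀ k, ∃ a : Γ(L, U n R k), IsGen L (U n R k) a := fun k => by
    haveI := pic_subsingleton n R k
    exact Groth.Agent.Lead.InvAff.exists_isGen_of_affine L hL
      (Proj.isAffineOpen_basicOpen (CohB1.polyGrading n R) (X k) (isHomogeneous_X R k)
        (by norm_num))
  choose s hs using hgen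
  have hu : ∀ i j, ∃ u : (Γ(Proj (CohB1.polyGrading n R), U n R i ⊓ U n R j))ˣ,
      res L inf_le_left (s i) =
        (u : Γ(Proj (CohB1.polyGrading n R), U n R i ⊓ U n R j)) • res L inf_le_right (s j) :=
    fun i j => IsGen.exists_unit ((hs j).res inf_le_right) ((hs i).res inf_le_left)
  choose u hu using hu
  have hshape : ∀ i j, ∃ (c : Rˣ) (t : ℤ), ev2 n R i j (u i j) = φ n R (C (c : R)) *
      ((Φ (xu n R) (t • (Pi.single i 1 - Pi.single j 1)) : (K n R)ˣ) : K n R) :=
    fun i j => unit_form2 n R i j (u i j) ((u i j)⁻¹ : (Γ(Proj (CohB1.polyGrading n R),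
      U n R i ⊓ U n R j))ˣ) (Units.mul_inv _)
  choose c t hct using hshape
  obtain ⟨d, hd⟩ := exists_data (fun i j => ev2 n R i j (u i j)) c t hct
    (cocycle_ev s hs (fun i j => u i j) hu)
  refine ⟨d, ?_⟩
  let cu : ∀ k, (Γ(Proj (CohB1.polyGrading n R), U n R k))ˣ :=
    fun k => Units.map (const n R k).toMonoidHom (c k 0)
  let b : ∀ k, Γ(Twist.twist (CohB1.polyGrading n R) d, U n R k) :=
    fun k => (cu k : Γ(Proj (CohB1.polyGrading n R), U n R k)) • tt n R d k
  have hb : ∀ k, IsGen (Twist.twist (CohB1.polyGrading n R) d) (U n R k) (b k) :=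
    fun k => IsGen.smul_unit (isGen_tt n R d k) (cu k)
  have hevb : ∀ k, evT (CohB1.polyGrading n R) (gen n R) d (U n R k) (gen_mem n R k) (b k) =
      φ n R (C (c k 0 : R)) * ((xu n R k ^ d : (K n R)ˣ) : K n R) := by
    intro k
    rw [evT_smul, evT_tt]
    exact congrArg (· * ((xu n R k ^ d : (K n R)ˣ) : K n R)) (ev_const n R k _)
  refine ⟨GenFam.iso
    { ι := ULift.{u} (Fin (n + 1))
      W := fun k => U n R k.down
      a := fun k => s k.down
      b := fun k => b k.down
      ha := fun k => hs k.down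
      hb := fun k => hb k.down
      cov := ?_
      compat := ?_ }⟩
  · intro x
    have hx : x ∈ (⨆ i : Fin (n + 1), U n R i) := by
      rw [show (⨆ i : Fin (n + 1), U n R i) = ⊤ from
        Groth.Agent.Lib.Helper6.ProjChart.cover n R]
      trivial
    obtain ⟨i, hi⟩ := Opens.mem_iSup.1 hx
    exact ⟨⟨i⟩, hi⟩
  · rintro ⟨i⟩ ⟨j⟩ v hv
    have hv' : v = u i j :=
      (IsGen.bijective_self ((hs j).res inf_le_right)).1 (hv.symm.trans (hu i j))
    obtain ⟨v', hv''⟩ := ((hb j).res inf_le_right).exists_coeff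
      (res (Twist.twist (CohB1.polyGrading n R) d) inf_le_left (b i))
    suffices h : v' = u i j by
      rw [hv', ← h]
      exact hv''.symm
    apply ev2_injective n R i j
    have h1 := congrArg (evT (CohB1.polyGrading n R) (gen n R) d (U n R i ⊓ U n R j)
      (gen_mem_inf n R i j)) hv''
    rw [evT_smul, evT_res, evT_res, hevb, hevb] at h1
    have h2 := hd i j
    have hunit : IsUnit (φ n R (C (c j 0 : R)) * ((xu n R j ^ d : (K n R)ˣ) : K n R)) := by
      apply IsUnit.mul
      · exact ((c j 0).isUnit.map C).map (φ n R)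
      · exact Units.isUnit _
    exact hunit.mul_left_injective (h1.trans h2.symm)

end Groth.Agent.Lead.PnMain
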