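import Mathlib
import Groth.Prelude.Def_FlatFun
import Groth.Agent.Lib.Helper5.Stalk.Faithful

set_option autoImplicit false
universe u
open CategoryTheory CategoryTheory.Limits AlgebraicGeometry Opposite

set_option backward.isDefEq.respectTransparency.types false

namespace Groth.Agent.Lead.FpqcSh

/-- sheaf criterion for the sub-presheaf of the final presheaf generated by a stable local
condition -/
theorem isSheaf_genPSp {S : Scheme.{u}} (K : Precoverage Scheme.{u}) [K.HasPullbacks]
    [K.IsStableUnderBaseChange] (P : Over S → Prop)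
    (hstab : ∀ ⦃T T₀ : Over S⦄ (_ : T ⟶ T₀), P T₀ → P T)
    (hloc : ∀ (T : Over S) (R : Presieve T), R.map (Over.forget S) ∈ K T.left →
      (∀ ⦃T' : Over S⦄ (g : T' ⟶ T), R g → P T') → P T) :
    Presheaf.IsSheaf (QuotSh.J K S) (FlatFun.genPSp S P) := by
  rw [isSheaf_iff_isSheaf_of_type]
  change Presieve.IsSheaf (K.toGrothendieck.over S) _
  rw [over_toGrothendieck_eq_toGrothendieck_comap_forget,
    Precoverage.isSheaf_toGrothendieck_iff_of_isStableUnderBaseChange]
  intro T R hR x hx
  have hT : P T := by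
    refine hloc T R hR ?_
    intro T' g hg
    exact (FlatFun.genPSp_nonempty_iff_of_stable P hstab T').1 ⟨x g hg⟩
  obtain ⟨y⟩ := FlatFun.genPSp_nonempty_of P hT
  refine ⟨y, ?_, ?_⟩
  · intro T' g hg
    exact (FlatFun.genPSp_subsingleton S P (op T')).elim _ _
  · intro z _
    exact (FlatFun.genPSp_subsingleton S P (op T)).elim _ _

section Modules

open Groth.Agent.Lib.Helper5.StalkAdj

variable {Y : Scheme.{u}}

/-- a flat covering family, detecting a property `Q` of pulled back morphisms -/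
def FlatLocally {M N : Y.Modules} (χ : M ⟶ N)
    (Q : ∀ {Y' : Scheme.{u}} {M' N' : Y'.Modules}, (M' ⟶ N') → Prop) : Prop :=
  ∀ y : Y, ∃ (Y' : Scheme.{u}) (g : Y' ⟶ Y), Flat g ∧ y ∈ Set.range g.base ∧
    Q ((Scheme.Modules.pullback g).map χ)

theorem hom_eq_zero_of_flatLocally {M N : Y.Modules} (χ : M ⟶ N)
    (h : FlatLocally χ (fun ψ => ψ = 0)) : χ = 0 := by
  apply hom_eq_zero_of_stalks
  intro y
  obtain ⟨Y', g, hg, ⟨x, rfl⟩, h0⟩ := h y
  haveI := hg
  have hnat : (stalkSh Y' x).map ((Scheme.Modules.pullback g).map χ) ≫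
      (stalkPullbackIso g x).hom.app N = (stalkPullbackIso g x).hom.app M ≫
        (ModuleCat.extendScalars.{u, u, u} (g.stalkMap x).hom).map
          ((stalkSh Y (g x)).map χ) :=
    (stalkPullbackIso g x).hom.naturality χ
  rw [h0, Functor.map_zero, zero_comp] at hnat
  have h1 : (ModuleCat.extendScalars.{u, u, u} (g.stalkMap x).hom).map
      ((stalkSh Y (g x)).map χ) = 0 := by
    rw [← cancel_epi ((stalkPullbackIso g x).hom.app M), ← hnat, comp_zero]
  exact eq_zero_of_extendScalars_map_eq_zero _ (faithfullyFlat_stalkMap g x) _ h1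

theorem isZero_of_flatLocally (M : Y.Modules)
    (h : ∀ y : Y, ∃ (Y' : Scheme.{u}) (g : Y' ⟶ Y), Flat g ∧ y ∈ Set.range g.base ∧
      IsZero ((Scheme.Modules.pullback g).obj M)) : IsZero M := by
  rw [IsZero.iff_id_eq_zero]
  apply hom_eq_zero_of_flatLocally
  intro y
  obtain ⟨Y', g, hg, hy, h0⟩ := h y
  exact ⟨Y', g, hg, hy, h0.eq_of_src _ _⟩

theorem epi_of_flatLocally {M N : Y.Modules} (χ : M ⟶ N)
    (h : FlatLocally χ (fun ψ => Epi ψ)) : Epi χ := by
  have hz : IsZero (cokernel χ) := by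
    apply isZero_of_flatLocally
    intro y
    obtain ⟨Y', g, hg, hy, h0⟩ := h y
    refine ⟨Y', g, hg, hy, ?_⟩
    haveI : (Scheme.Modules.pullback g).IsLeftAdjoint :=
      (Scheme.Modules.pullbackPushforwardAdjunction g).isLeftAdjoint
    haveI := h0
    exact (isZero_cokernel_of_epi ((Scheme.Modules.pullback g).map χ)).of_iso
      (PreservesCokernel.iso (Scheme.Modules.pullback g) χ)
  exact Preadditive.epi_of_isZero_cokernel χ hz

theorem mono_of_flatLocally {M N : Y.Modules} (χ : M ⟶ N)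
    (h : FlatLocally χ (fun ψ => Mono ψ)) : Mono χ := by
  have hz : IsZero (kernel χ) := by
    apply isZero_of_flatLocally
    intro y
    obtain ⟨Y', g, hg, hy, h0⟩ := h y
    refine ⟨Y', g, hg, hy, ?_⟩
    haveI := hg
    haveI := h0
    exact (isZero_kernel_of_mono ((Scheme.Modules.pullback g).map χ)).of_iso
      (PreservesKernel.iso (Scheme.Modules.pullback g) χ)
  exact Preadditive.mono_of_isZero_kernel χ hz

theorem isIso_of_flatLocally {M N : Y.Modules} (χ : M ⟶ N)
    (h : FlatLocally χ (fun ψ => IsIso ψ)) : IsIso χ := by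
  haveI : Mono χ := mono_of_flatLocally χ (fun y => by
    obtain ⟨Y', g, hg, hy, h0⟩ := h y
    haveI := h0
    exact ⟨Y', g, hg, hy, inferInstance⟩)
  haveI : Epi χ := epi_of_flatLocally χ (fun y => by
    obtain ⟨Y', g, hg, hy, h0⟩ := h y
    haveI := h0
    exact ⟨Y', g, hg, hy, inferInstance⟩)
  exact isIso_of_mono_of_epi χ

end Modules

section BaseChange

variable {X S : Scheme.{u}} (f : X ⟶ S)

/-- the comparison morphism between base changes of `X` -/
noncomputable def bc {T' T : Over S} (g : T' ⟶ T) : pullback f T'.hom ⟶ pullback f T.hom :=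
  pullback.lift (pullback.fst f T'.hom) (pullback.snd f T'.hom ≫ g.left)
    (by rw [Category.assoc, Over.w g, pullback.condition])

@[reassoc (attr := simp)]
theorem bc_fst {T' T : Over S} (g : T' ⟶ T) :
    bc f g ≫ pullback.fst f T.hom = pullback.fst f T'.hom := pullback.lift_fst _ _ _

@[reassoc (attr := simp)]
theorem bc_snd {T' T : Over S} (g : T' ⟶ T) :
    bc f g ≫ pullback.snd f T.hom = pullback.snd f T'.hom ≫ g.left := pullback.lift_snd _ _ _

theorem isPullback_bc {T' T : Over S} (g : T' ⟶ T) :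
    IsPullback (bc f g) (pullback.snd f T'.hom) (pullback.snd f T.hom) g.left := by
  refine IsPullback.of_right (h₁₂ := pullback.fst f T.hom) (v₁₃ := f) (h₂₂ := T.hom) ?_ ?_
    (IsPullback.of_hasPullback f T.hom)
  · rw [bc_fst, Over.w g]
    exact (IsPullback.of_hasPullback f T'.hom)
  · exact bc_snd f g

theorem flat_bc {T' T : Over S} (g : T' ⟶ T) (hg : Flat g.left) : Flat (bc f g) :=
  MorphismProperty.of_isPullback (P := @Flat) (isPullback_bc f g).flip hg

theorem exists_preimage_bc {T' T : Over S} (g : T' ⟶ T) (y : ↥(pullback f T.hom)) (t' : T'.left)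
    (h : (pullback.snd f T.hom).base y = g.left.base t') :
    ∃ y' : ↥(pullback f T'.hom), (bc f g).base y' = y := by
  obtain ⟨z, hz1, hz2⟩ := Scheme.Pullback.exists_preimage_pullback
    (f := pullback.snd f T.hom) (g := g.left) y t' h
  refine ⟨(isPullback_bc f g).isoPullback.inv.base z, ?_⟩
  rw [← Scheme.Hom.comp_apply, IsPullback.isoPullback_inv_fst]
  exact hz1

/-- pulling back to `X_T` and then to `X_{T'}` is pulling back to `X_{T'}` -/
noncomputable def bcIso {T' T : Over S} (g : T' ⟶ T) :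
    Scheme.Modules.pullback (pullback.fst f T.hom) ⋙ Scheme.Modules.pullback (bc f g) ≅
      Scheme.Modules.pullback (pullback.fst f T'.hom) :=
  Scheme.Modules.pullbackComp (bc f g) (pullback.fst f T.hom) ≪≫
    Scheme.Modules.pullbackCongr (bc_fst f g)

/-- extracting the data of an fpqc covering of `T` in `Over S` -/
theorem exists_of_mem_fpqc {T : Over S} (R : Presieve T)
    (hR : R.map (Over.forget S) ∈ Scheme.fpqcPrecoverage T.left) (t : T.left) :
    ∃ (T' : Over S) (g : T' ⟶ T), R g ∧ Flat g.left ∧ t ∈ Set.range g.left.base := by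
  have h1 : R.map (Over.forget S) ∈ Scheme.precoverage @Flat T.left :=
    Scheme.propQCPrecoverage_le_precoverage _ hR
  obtain ⟨Y, k, hk, ht⟩ := (Presieve.mem_comap_jointlySurjectivePrecoverage_iff _).1 h1.1 t
  have hflat : Flat k := h1.2 hk
  obtain ⟨hg⟩ := hk
  exact ⟨_, _, hg, hflat, ht⟩

/-- the fpqc sheaf property for conditions on the base change of a morphism of modules that are
stable under pullback and flat-local -/
theorem isSheaf_fpqc (Q : ∀ {Y : Scheme.{u}} {M N : Y.Modules}, (M ⟶ N) → Prop)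
    (hQnat : ∀ {Y Y' : Scheme.{u}} {A B : Y.Modules ⥤ Y'.Modules} (_ : A ≅ B) {M N : Y.Modules}
      (χ : M ⟶ N), Q (A.map χ) → Q (B.map χ))
    (hQpull : ∀ {Y' Y : Scheme.{u}} (g : Y' ⟶ Y) {M N : Y.Modules} (χ : M ⟶ N),
      Q χ → Q ((Scheme.Modules.pullback g).map χ))
    (hQloc : ∀ {Y : Scheme.{u}} {M N : Y.Modules} (χ : M ⟶ N), FlatLocally χ Q → Q χ)
    {F G : X.Modules} (v : F ⟶ G) :
    Presheaf.IsSheaf (QuotSh.J Scheme.fpqcPrecoverage S)
      (FlatFun.genPSp S
        (fun T => Q ((Scheme.Modules.pullback (pullback.fst f T.hom)).map v))) := by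
  refine isSheaf_genPSp _ _ ?_ ?_
  · intro T T₀ g h0
    exact hQnat (bcIso f g) v (hQpull (bc f g) _ h0)
  · intro T R hR hall
    apply hQloc
    intro y
    obtain ⟨T', g, hg, hflat, t', ht'⟩ := exists_of_mem_fpqc R hR ((pullback.snd f T.hom).base y)
    obtain ⟨y', hy'⟩ := exists_preimage_bc f g y t' ht'.symm
    exact ⟨_, bc f g, flat_bc f g hflat, ⟨y', hy'⟩, hQnat (bcIso f g).symm v (hall g hg)⟩

theorem isSheaf_fpqc_isIso {F G : X.Modules} (v : F ⟶ G) :
    Presheaf.IsSheaf (QuotSh.J Scheme.fpqcPrecoverage S)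
      (FlatFun.genPSp S
        (fun T => IsIso ((Scheme.Modules.pullback (pullback.fst f T.hom)).map v))) := by
  refine isSheaf_fpqc f (fun ψ => IsIso ψ) ?_ ?_ ?_ v
  · intro Y Y' A B E M N χ h
    exact (NatIso.isIso_map_iff E χ).1 h
  · intro Y' Y g M N χ h
    haveI := h
    infer_instance
  · intro Y M N χ h
    exact isIso_of_flatLocally χ h

theorem isSheaf_fpqc_epi {F G : X.Modules} (v : F ⟶ G) :
    Presheaf.IsSheaf (QuotSh.J Scheme.fpqcPrecoverage S)
      (FlatFun.genPSp S
        (fun T => Epi ((Scheme.Modules.pullback (pullback.fst f T.hom)).map v))) := by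
  refine isSheaf_fpqc f (fun ψ => Epi ψ) ?_ ?_ ?_ v
  · intro Y Y' A B E M N χ h
    haveI := h
    have e : B.map χ = E.inv.app M ≫ A.map χ ≫ E.hom.app N := by
      rw [E.hom.naturality χ, Iso.inv_hom_id_app_assoc]
    rw [e]
    infer_instance
  · intro Y' Y g M N χ h
    haveI := h
    haveI : (Scheme.Modules.pullback g).PreservesEpimorphisms :=
      Functor.preservesEpimorphisms_of_adjunction (Scheme.Modules.pullbackPushforwardAdjunction g)
    infer_instance
  · intro Y M N χ h
    exact epi_of_flatLocally χ h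

theorem isSheaf_fpqc_zero {F G : X.Modules} (v : F ⟶ G) :
    Presheaf.IsSheaf (QuotSh.J Scheme.fpqcPrecoverage S)
      (FlatFun.genPSp S
        (fun T => (Scheme.Modules.pullback (pullback.fst f T.hom)).map v = 0)) := by
  refine isSheaf_fpqc f (fun ψ => ψ = 0) ?_ ?_ ?_ v
  · intro Y Y' A B E M N χ h
    have e : B.map χ = E.inv.app M ≫ A.map χ ≫ E.hom.app N := by
      rw [E.hom.naturality χ, Iso.inv_hom_id_app_assoc]
    rw [e, h, zero_comp, comp_zero]
  · intro Y' Y g M N χ h
    rw [h, Functor.map_zero]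
  · intro Y M N χ h
    exact hom_eq_zero_of_flatLocally χ h

end BaseChange

end Groth.Agent.Lead.FpqcSh
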