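import Mathlib
import Groth.Prelude.Def_Omega2
import Groth.Agent.Lib.Lead.IdM2
import Groth.Agent.Lib.Helper1.TildeBC

/-!
# The conormal sheaf: localisation, invariance under isomorphisms, affine computation (lead)
-/

set_option autoImplicit false
universe u
open CategoryTheory CategoryTheory.Limits AlgebraicGeometry TopologicalSpace Opposite TensorProduct
set_option backward.isDefEq.respectTransparency.types false

namespace Groth.Agent.Lead.IdM

open Groth.Agent.Helper1 Groth.Agent.Helper1.IdealModL Groth.Agent.Lead.CIU Groth.Agent.Lead.BCU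
  Groth.Agent.Lead.TilT

section General

variable {X Y : Scheme.{u}} (I : X.IdealSheafData)

/-- the pullback of the ideal sheaf along an open immersion is the ideal sheaf of the pulled back
ideal -/
noncomputable def pullbackIdealModIso (j : Y ⟶ X) [IsOpenImmersion j] :
    (Scheme.Modules.pullback j).obj (ClSub.idealMod I) ≅ ClSub.idealMod (I.comap j) :=
  ((Scheme.Modules.restrictFunctorIsoPullback j).app (ClSub.idealMod I)).symm ≪≫
    (exists_restrictIso I j).choose

end General

section Conormal

variable {Z X V W : Scheme.{u}} (i : Z ⟶ X) (i' : V ⟶ W) (j' : V ⟶ Z) (j : W ⟶ X)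

theorem comap_ker_of_isPullback [IsOpenImmersion j] [QuasiCompact i] (H : IsPullback i' j' j i) :
    i.ker.comap j = i'.ker := by
  apply Scheme.IdealSheafData.ext
  funext U
  rw [Scheme.IdealSheafData.ideal_comap_of_isOpenImmersion,
    Scheme.ker_ideal_of_isPullback_of_isOpenImmersion i i' j' j H U]

/-- the conormal sheaf is compatible with restriction to an open subscheme of the target -/
noncomputable def conormalRestrictIso [IsOpenImmersion j] [QuasiCompact i]
    (H : IsPullback i' j' j i) :
    (Scheme.Modules.pullback j').obj (Omega.conormal i) ≅ Omega.conormal i' :=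
  (Scheme.Modules.pullbackComp j' i).app (ClSub.idealMod i.ker) ≪≫
    (Scheme.Modules.pullbackCongr H.w.symm).app (ClSub.idealMod i.ker) ≪≫
    ((Scheme.Modules.pullbackComp i' j).app (ClSub.idealMod i.ker)).symm ≪≫
    (Scheme.Modules.pullback i').mapIso (pullbackIdealModIso i.ker j) ≪≫
    (Scheme.Modules.pullback i').mapIso (eqToIso (by rw [comap_ker_of_isPullback i i' j' j H]))

end Conormal

section Iso

variable {Z X X' : Scheme.{u}}

/-- the conormal sheaf is invariant under isomorphisms of the target -/
noncomputable def conormalIsoOfIso (i : Z ⟶ X) (i' : Z ⟶ X') (g : X' ⟶ X) [IsIso g]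
    [QuasiCompact i] (h : i' ≫ g = i) : Omega.conormal i ≅ Omega.conormal i' :=
  ((Scheme.Modules.pullbackId Z).app (Omega.conormal i)).symm ≪≫
    conormalRestrictIso i i' (𝟙 Z) g (IsPullback.of_vert_isIso ⟨by rw [h, Category.id_comp]⟩)

end Iso

section Affine

variable {B A : Type u} [CommRing B] [CommRing A] [Algebra B A]

/-- **the conormal sheaf of a morphism of affine schemes** -/
theorem conormal_spec :
    Nonempty (Omega.conormal (Spec.map (CommRingCat.ofHom (algebraMap B A))) ≅
      tilde (R := CommRingCat.of A)
        (ModuleCat.of A (A ⊗[B] (RingHom.ker (algebraMap B A))))) := by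
  obtain ⟨e⟩ := TildeBC.result B A (RingHom.ker (algebraMap B A))
  refine ⟨?_ ≪≫ e⟩
  refine (Scheme.Modules.pullback _).mapIso ?_
  refine tildeIso _ ≪≫ (tilde.functor (CommRingCat.of B)).mapIso ?_
  exact (LinearEquiv.ofEq _ _ (idealOf_ker (CommRingCat.ofHom (algebraMap B A)))).toModuleIso

end Affine

end Groth.Agent.Lead.IdM
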