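import Mathlib

/-!
# Algebra: the cotangent module of a surjection as a base change of its kernel (lead)
-/

set_option autoImplicit false
universe u
open TensorProduct

namespace Groth.Agent.Lead.KaeAlg

section General

variable {T S : Type u} [CommRing T] [CommRing S] [Algebra T S]

/-- for a surjective ring map `T → S` with kernel `I`, `S ⊗_T I ≃ I / I²` -/
noncomputable def tensorKerEquivCotangent (hs : Function.Surjective (algebraMap T S)) :
    S ⊗[T] (RingHom.ker (algebraMap T S)) ≃ₗ[T] (RingHom.ker (algebraMap T S)).Cotangent :=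
  (TensorProduct.congr
      (Ideal.quotientKerAlgEquivOfSurjective (f := Algebra.ofId T S) hs).symm.toLinearEquiv
      (LinearEquiv.refl T (RingHom.ker (algebraMap T S)))).trans
    (TensorProduct.quotTensorEquivQuotSMul (RingHom.ker (algebraMap T S))
      (RingHom.ker (algebraMap T S)))

end General

section Kaehler0

variable (R S : Type u) [CommRing R] [CommRing S] [Algebra R S]

lemma smul_kaehler_eq (s : S) (ω : Ω[S⁄R]) : s • ω = (s ⊗ₜ[R] (1 : S)) • ω := by
  have h : (s ⊗ₜ[R] (1 : S)) = s • (1 : S ⊗[R] S) := by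
    rw [Algebra.TensorProduct.one_def, TensorProduct.smul_tmul', smul_eq_mul, mul_one]
  rw [h, smul_assoc, one_smul]

lemma smul_cotangent_eq (s : S) (ω : (KaehlerDifferential.ideal R S).Cotangent) :
    (show Ω[S⁄R] from ω) = ω → s • (show Ω[S⁄R] from ω) = ((s ⊗ₜ[R] (1 : S)) • ω : _) := by
  intro _
  exact smul_kaehler_eq R S s ω

end Kaehler0

section Kaehler

variable (R S : Type u) [CommRing R] [CommRing S] [Algebra R S]

/-- `S` as an algebra over `S ⊗[R] S` via multiplication -/
@[reducible] noncomputable def mulAlgebra : Algebra (S ⊗[R] S) S :=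
  (Algebra.TensorProduct.lmul' R : S ⊗[R] S →ₐ[R] S).toRingHom.toAlgebra

attribute [local instance] mulAlgebra

lemma algebraMap_mul_apply (t : S ⊗[R] S) :
    algebraMap (S ⊗[R] S) S t = Algebra.TensorProduct.lmul' R t := rfl

lemma algebraMap_mul_surjective : Function.Surjective (algebraMap (S ⊗[R] S) S) := by
  intro s
  exact ⟨s ⊗ₜ 1, by rw [algebraMap_mul_apply]; simp⟩

lemma ker_eq : RingHom.ker (algebraMap (S ⊗[R] S) S) = KaehlerDifferential.ideal R S := by
  ext t
  rfl

/-- the `S ⊗[R] S`-linear equivalence `S ⊗ I ≃ I/I²` -/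
noncomputable def kaehlerEquivT :
    S ⊗[S ⊗[R] S] (KaehlerDifferential.ideal R S) ≃ₗ[S ⊗[R] S]
      (KaehlerDifferential.ideal R S).Cotangent :=
  tensorKerEquivCotangent (algebraMap_mul_surjective R S)

lemma smul_eq_tmul_one_smul (s : S) (z : S ⊗[S ⊗[R] S] (KaehlerDifferential.ideal R S)) :
    s • z = (s ⊗ₜ[R] (1 : S)) • z := by
  induction z using TensorProduct.induction_on with
  | zero => rw [smul_zero, smul_zero]
  | tmul s' x =>
    rw [TensorProduct.smul_tmul', TensorProduct.smul_tmul']
    congr 1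
    show s * s' = Algebra.TensorProduct.lmul' R (s ⊗ₜ[R] (1 : S)) * s'
    simp
  | add z z' hz hz' => rw [smul_add, smul_add, hz, hz']

/-- **`S ⊗_{S ⊗ S} I ≃ Ω_{S/R}` as `S`-modules** -/
noncomputable def kaehlerEquiv :
    S ⊗[S ⊗[R] S] (KaehlerDifferential.ideal R S) ≃ₗ[S] Ω[S⁄R] :=
  { (kaehlerEquivT R S).toAddEquiv with
    map_smul' := fun s z => by
      change kaehlerEquivT R S (s • z) = s • (show Ω[S⁄R] from kaehlerEquivT R S z)
      rw [smul_eq_tmul_one_smul, map_smul]
      exact (smul_cotangent_eq R S s _ rfl).symm }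

end Kaehler

end Groth.Agent.Lead.KaeAlg
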