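import Mathlib
import Groth.Prelude.Def_Omega2
import Groth.Agent.Lib.Lead.IdM3
import Groth.Agent.Lib.Lead.KaeAlg

/-!
# The sheaf of differentials: localisation on source and target, affine computation (lead)
-/

set_option autoImplicit false
universe u
open CategoryTheory CategoryTheory.Limits AlgebraicGeometry TopologicalSpace Opposite TensorProduct
set_option backward.isDefEq.respectTransparency.types false

namespace Groth.Agent.Lead.IdM

section Local

variable {X S V U : Scheme.{u}} (f : X ⟶ S) (fV : V ⟶ U) (jV : V ⟶ X) (jU : U ⟶ S)

/-- the map between the double fibre products -/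
noncomputable abbrev diagMap (w : jV ≫ f = fV ≫ jU) : pullback fV fV ⟶ pullback f f :=
  pullback.map fV fV f f jV jV jU w.symm w.symm

theorem diagMap_fst (w : jV ≫ f = fV ≫ jU) :
    diagMap f fV jV jU w ≫ pullback.fst f f = pullback.fst fV fV ≫ jV :=
  pullback.lift_fst _ _ _

theorem diagMap_snd (w : jV ≫ f = fV ≫ jU) :
    diagMap f fV jV jU w ≫ pullback.snd f f = pullback.snd fV fV ≫ jV :=
  pullback.lift_snd _ _ _

theorem isPullback_diag [Mono jV] (w : jV ≫ f = fV ≫ jU) :
    IsPullback (pullback.diagonal fV) jV (diagMap f fV jV jU w) (pullback.diagonal f) := by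
  refine ⟨⟨?_⟩, ⟨PullbackCone.IsLimit.mk _ (fun s => s.fst ≫ pullback.fst fV fV) ?_ ?_ ?_⟩⟩
  · apply pullback.hom_ext
    · rw [Category.assoc, diagMap_fst, pullback.diagonal_fst_assoc, Category.assoc,
        pullback.diagonal_fst, Category.comp_id]
    · rw [Category.assoc, diagMap_snd, pullback.diagonal_snd_assoc, Category.assoc,
        pullback.diagonal_snd, Category.comp_id]
  · intro s
    have hc := s.condition
    have h1 : s.fst ≫ pullback.fst fV fV ≫ jV = s.snd := by
      have := congrArg (fun t => t ≫ pullback.fst f f) hc
      simp only [Category.assoc, diagMap_fst, pullback.diagonal_fst, Category.comp_id] at this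
      exact this
    have h2 : s.fst ≫ pullback.snd fV fV ≫ jV = s.snd := by
      have := congrArg (fun t => t ≫ pullback.snd f f) hc
      simp only [Category.assoc, diagMap_snd, pullback.diagonal_snd, Category.comp_id] at this
      exact this
    apply pullback.hom_ext
    · rw [Category.assoc, pullback.diagonal_fst, Category.comp_id]
    · rw [Category.assoc, pullback.diagonal_snd, Category.comp_id]
      rw [← cancel_mono jV, Category.assoc, Category.assoc, h1, h2]
  · intro s
    have hc := s.condition
    have := congrArg (fun t => t ≫ pullback.fst f f) hc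
    simp only [Category.assoc, diagMap_fst, pullback.diagonal_fst, Category.comp_id] at this
    rw [Category.assoc]
    exact this
  · intro s m h1 h2
    have := congrArg (fun t => t ≫ pullback.fst fV fV) h1
    simp only [Category.assoc, pullback.diagonal_fst, Category.comp_id] at this
    exact this

/-- **the sheaf of differentials is compatible with restriction to open subschemes of source and
target** -/
noncomputable def omegaRestrictIso [IsOpenImmersion jV] [IsOpenImmersion jU]
    [QuasiCompact (pullback.diagonal f)] (w : jV ≫ f = fV ≫ jU) :
    (Scheme.Modules.pullback jV).obj (Omega.sheaf f) ≅ Omega.sheaf fV :=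
  conormalRestrictIso (pullback.diagonal f) (pullback.diagonal fV) jV (diagMap f fV jV jU w)
    (isPullback_diag f fV jV jU w)

end Local

end Groth.Agent.Lead.IdM
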