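import Mathlib
import Groth.Prelude.Def_Omega2
import Groth.Agent.Lib.Lead.IdM4
import Groth.Agent.Lib.Lead.FpqcSh

/-!
# The sheaf of differentials on affine pieces (lead)
-/

set_option autoImplicit false
universe u
open CategoryTheory CategoryTheory.Limits AlgebraicGeometry TopologicalSpace Opposite TensorProduct
set_option backward.isDefEq.respectTransparency.types false

namespace Groth.Agent.Lead.IdM

open Groth.Agent.Lead.KaeAlg

section Spec

attribute [local instance] mulAlgebra

theorem diag_eq (R A : Type u) [CommRing R] [CommRing A] [Algebra R A] :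
    Spec.map (CommRingCat.ofHom (algebraMap (A ⊗[R] A) A)) ≫ (pullbackSpecIso R A A).inv =
      pullback.diagonal (Spec.map (CommRingCat.ofHom (algebraMap R A))) := by
  apply pullback.hom_ext
  · rw [Category.assoc, pullbackSpecIso_inv_fst, pullback.diagonal_fst, ← Spec.map_comp,
      ← Spec.map_id]
    congr 1
    ext a
    change Algebra.TensorProduct.lmul' R (a ⊗ₜ[R] (1 : A)) = a
    simp
  · rw [Category.assoc, pullbackSpecIso_inv_snd, pullback.diagonal_snd, ← Spec.map_comp,
      ← Spec.map_id]
    congr 1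
    ext a
    change Algebra.TensorProduct.lmul' R ((1 : A) ⊗ₜ[R] a) = a
    simp

/-- **the sheaf of differentials of `Spec A → Spec R` is the module associated to `Ω[A⁄R]`** -/
theorem omega_spec (R A : Type u) [CommRing R] [CommRing A] [Algebra R A] :
    Nonempty (Omega.sheaf (Spec.map (CommRingCat.ofHom (algebraMap R A))) ≅
      tilde (R := CommRingCat.of A) (ModuleCat.of A (Ω[A⁄R]))) := by
  obtain ⟨e⟩ := conormal_spec (B := A ⊗[R] A) (A := A)
  refine ⟨conormalIsoOfIso (pullback.diagonal (Spec.map (CommRingCat.ofHom (algebraMap R A))))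
    (Spec.map (CommRingCat.ofHom (algebraMap (A ⊗[R] A) A))) (pullbackSpecIso R A A).inv
    (diag_eq R A) ≪≫ e ≪≫ (tilde.functor (CommRingCat.of A)).mapIso ?_⟩
  exact (kaehlerEquiv R A).toModuleIso

end Spec

section Zero

theorem isZero_tilde_iff {R : CommRingCat.{u}} (M : ModuleCat.{u} R) :
    IsZero (tilde M) ↔ Subsingleton M := by
  constructor
  · intro h
    have h1 : (tilde.functor R).map (𝟙 M) = (tilde.functor R).map 0 :=
      h.eq_of_src _ _
    have h2 : 𝟙 M = 0 := (tilde.functor R).map_injective h1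
    exact ModuleCat.subsingleton_of_isZero ((IsZero.iff_id_eq_zero M).2 h2)
  · intro h
    exact (tilde.functor R).map_isZero (ModuleCat.isZero_of_subsingleton M)

end Zero

section AffinePieces

variable {X S : Scheme.{u}} (f : X ⟶ S)

/-- **the sheaf of differentials on an affine piece** -/
theorem omega_affine [QuasiCompact (pullback.diagonal f)] {U : S.Opens} (hU : IsAffineOpen U)
    {V : X.Opens} (hV : IsAffineOpen V) (e : V ≤ f ⁻¹ᵁ U) :
    letI := (f.appLE U V e).hom.toAlgebra
    Nonempty ((Scheme.Modules.pullback hV.fromSpec).obj (Omega.sheaf f) ≅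
      tilde (R := Γ(X, V)) (ModuleCat.of Γ(X, V) (Ω[Γ(X, V)⁄Γ(S, U)]))) := by
  letI := (f.appLE U V e).hom.toAlgebra
  obtain ⟨e2⟩ := omega_spec Γ(S, U) Γ(X, V)
  exact ⟨omegaRestrictIso f (Spec.map (f.appLE U V e)) hV.fromSpec hU.fromSpec
    (IsAffineOpen.SpecMap_appLE_fromSpec f hU hV e).symm ≪≫ e2⟩

end AffinePieces

end Groth.Agent.Lead.IdM
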