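import Mathlib
import Groth.Prelude.Def_Omega2
import Groth.Agent.Lib.Lead.IdM5
import Groth.Agent.Lib.Lead.PBQc
import Groth.Agent.Lib.Lead.TilT6
import Groth.Agent.Lib.Helper1.FtLocal
import Groth.Agent.Lib.Helper4.EffCartier

/-!
# The sheaf of differentials: quasi-coherence, finite type, support, unramifiedness (lead)
-/

set_option autoImplicit false
universe u
open CategoryTheory CategoryTheory.Limits AlgebraicGeometry TopologicalSpace Opposite TensorProduct
set_option backward.isDefEq.respectTransparency.types false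

namespace Groth.Agent.Lead.IdM

open Groth.Agent.Lead.FpqcSh Groth.Agent.Lead.TilT Groth.Agent.Helper1

instance isQuasicoherent_conormal {Z X : Scheme.{u}} (i : Z ⟶ X) :
    (Omega.conormal i).IsQuasicoherent :=
  Groth.Agent.Lead.PB.isQuasicoherent_pullback i (ClSub.idealMod i.ker)

instance isQuasicoherent_omega {X S : Scheme.{u}} (f : X ⟶ S) :
    (Omega.sheaf f).IsQuasicoherent :=
  isQuasicoherent_conormal (pullback.diagonal f)

variable {X S : Scheme.{u}} (f : X ⟶ S)

/-- **`f` is formally unramified iff its sheaf of differentials vanishes** -/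
theorem formallyUnramified_iff_isZero_omega [QuasiCompact (pullback.diagonal f)] :
    FormallyUnramified f ↔ IsZero (Omega.sheaf f) := by
  constructor
  · intro hf
    apply isZero_of_flatLocally
    intro y
    obtain ⟨_, ⟨U, hU, rfl⟩, hyU, -⟩ := S.isBasis_affineOpens.exists_subset_of_mem_open
      (Set.mem_univ (f.base y)) isOpen_univ
    obtain ⟨_, ⟨V, hV, rfl⟩, hyV, hVU⟩ := X.isBasis_affineOpens.exists_subset_of_mem_open
      (show y ∈ (f ⁻¹ᵁ U : X.Opens) from hyU) (f ⁻¹ᵁ U).2
    refine ⟨_, hV.fromSpec, inferInstance, ?_, ?_⟩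
    · rw [hV.range_fromSpec]
      exact hyV
    · letI := (f.appLE U V hVU).hom.toAlgebra
      obtain ⟨e⟩ := omega_affine f hU hV hVU
      refine IsZero.of_iso ?_ e
      rw [isZero_tilde_iff]
      have := hf.formallyUnramified_appLE hU hV hVU
      exact this.subsingleton_kaehlerDifferential
  · intro hz
    refine ⟨fun {U} hU {V} hV e => ?_⟩
    letI := (f.appLE U V e).hom.toAlgebra
    obtain ⟨e2⟩ := omega_affine f hU hV e
    have h1 : IsZero ((Scheme.Modules.pullback hV.fromSpec).obj (Omega.sheaf f)) :=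
      (Scheme.Modules.pullback hV.fromSpec).map_isZero hz
    have h2 := (isZero_tilde_iff _).1 (IsZero.of_iso h1 e2.symm)
    exact ⟨h2⟩

/-- the restriction of the sheaf of differentials to an affine piece -/
theorem omega_restrict_affine [QuasiCompact (pullback.diagonal f)] {U : S.Opens}
    (hU : IsAffineOpen U) {V : X.Opens} (hV : IsAffineOpen V) (e : V ≤ f ⁻¹ᵁ U) :
    letI := (f.appLE U V e).hom.toAlgebra
    Nonempty ((Omega.sheaf f).restrict hV.fromSpec ≅
      tilde (R := Γ(X, V)) (ModuleCat.of Γ(X, V) (Ω[Γ(X, V)⁄Γ(S, U)]))) := by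
  letI := (f.appLE U V e).hom.toAlgebra
  obtain ⟨e2⟩ := omega_affine f hU hV e
  exact ⟨(Scheme.Modules.restrictFunctorIsoPullback hV.fromSpec).app (Omega.sheaf f) ≪≫ e2⟩

theorem mem_support_omega_iff [QuasiCompact (pullback.diagonal f)] {U : S.Opens}
    (hU : IsAffineOpen U) {V : X.Opens} (hV : IsAffineOpen V) (e : V ≤ f ⁻¹ᵁ U)
    (x' : Spec Γ(X, V)) :
    letI := (f.appLE U V e).hom.toAlgebra
    hV.fromSpec.base x' ∈ CohB1.support (Omega.sheaf f) ↔
      x' ∈ Module.support Γ(X, V) (Ω[Γ(X, V)⁄Γ(S, U)]) := by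
  letI := (f.appLE U V e).hom.toAlgebra
  obtain ⟨e2⟩ := omega_restrict_affine f hU hV e
  have h1 : hV.fromSpec.base x' ∈ CohB1.support (Omega.sheaf f) ↔
      x' ∈ CohB1.support ((Omega.sheaf f).restrict hV.fromSpec) := by
    rw [support_restrict]
    rfl
  rw [h1, support_eq_of_iso e2, support_tilde]
  rfl

/-- **the sheaf of differentials of a morphism locally of finite type is of finite type** -/
theorem isFT_omega [LocallyOfFiniteType f] [QuasiCompact (pullback.diagonal f)] :
    CohB1.IsFT (Omega.sheaf f) := by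
  refine FtLocal.isFiniteType_of_affine_charts (Omega.sheaf f)
    (I := {p : X.affineOpens × S.affineOpens // p.1.1 ≤ f ⁻¹ᵁ p.2.1})
    (fun p => Γ(X, p.1.1.1)) (fun p => p.1.1.2.fromSpec) ?_ (fun p => ?_)
  · have h := Groth.Agent.Helper4.EffCartier.iSup_affine_le_preimage f
    rw [← h]
    congr 1
    funext p
    exact IsAffineOpen.opensRange_fromSpec _
  · obtain ⟨⟨⟨V, hV⟩, ⟨U, hU⟩⟩, e⟩ := p
    letI := (f.appLE U V e).hom.toAlgebra
    have hft : Algebra.FiniteType Γ(S, U) Γ(X, V) :=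
      HasRingHomProperty.appLE (P := @LocallyOfFiniteType) f inferInstance ⟨U, hU⟩ ⟨V, hV⟩ e
    obtain ⟨e2⟩ := omega_restrict_affine f hU hV e
    haveI : Module.Finite Γ(X, V) (ModuleCat.of Γ(X, V) (Ω[Γ(X, V)⁄Γ(S, U)])) :=
      inferInstanceAs (Module.Finite Γ(X, V) (Ω[Γ(X, V)⁄Γ(S, U)]))
    haveI := finite_tilde_top (ModuleCat.of Γ(X, V) (Ω[Γ(X, V)⁄Γ(S, U)]))
    exact Module.Finite.equiv (sectionsEquivOfIso e2 ⊤).symm

end Groth.Agent.Lead.IdM
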