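import Mathlib
import Groth.Prelude.Def_Omega4

set_option autoImplicit false
universe u
open CategoryTheory CategoryTheory.Limits AlgebraicGeometry TopologicalSpace Opposite

set_option backward.isDefEq.respectTransparency.types false

namespace Groth.Agent.Lead.DerU

open OmegaSh

section Push

variable {X S X' S' : Scheme.{u}} {f : X ⟶ S} {f' : X' ⟶ S'} (h : X' ⟶ X) {b : S' ⟶ S}
  (hsq : f' ≫ b = h ≫ f) {Ω' : X'.Modules} (d' : Der f' Ω')

/-- the value of the pushed-forward derivation. -/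
noncomputable def pushVal (U : X.Opens) (s : Γ(X, U)) :
    Γ((Scheme.Modules.pushforward h).obj Ω', U) :=
  d'.app (h ⁻¹ᵁ U) (h.app U s)

theorem pushVal_add (U : X.Opens) (s t : Γ(X, U)) :
    pushVal h d' U (s + t) = pushVal h d' U s + pushVal h d' U t := by
  simp only [pushVal]
  rw [map_add, map_add]
  rfl

theorem der_mul {Y Z : Scheme.{u}} {g : Y ⟶ Z} {M : Y.Modules} (D : Der g M) (U : Y.Opens)
    (a c : Γ(Y, U)) : D.app U (a * c) = a • D.app U c + c • D.app U a :=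
  D.d_mul (X := op U) a c

theorem der_map {Y Z : Scheme.{u}} {g : Y ⟶ Z} {M : Y.Modules} (D : Der g M) {U V : Y.Opens}
    (e : V ≤ U) (a : Γ(Y, U)) :
    D.app V (Y.presheaf.map (homOfLE e).op a) = M.presheaf.map (homOfLE e).op (D.app U a) :=
  D.d_map (homOfLE e).op a

theorem der_app {Y Z : Scheme.{u}} {g : Y ⟶ Z} {M : Y.Modules} (D : Der g M) (V : Z.Opens)
    (c : Γ(Z, V)) : D.app (g ⁻¹ᵁ V) (g.app V c) = 0 :=
  D.d_app (X := op V) c

theorem pushVal_mul (U : X.Opens) (s t : Γ(X, U)) :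
    pushVal h d' U (s * t) = s • pushVal h d' U t + t • pushVal h d' U s := by
  simp only [pushVal, map_mul]
  rw [der_mul]
  rfl

theorem pushVal_map {U V : X.Opens} (e : V ≤ U) (s : Γ(X, U)) :
    pushVal h d' V (X.presheaf.map (homOfLE e).op s) =
      ((Scheme.Modules.pushforward h).obj Ω').presheaf.map (homOfLE e).op (pushVal h d' U s) := by
  simp only [pushVal]
  have h1 : h.app V (X.presheaf.map (homOfLE e).op s) =
      X'.presheaf.map (homOfLE (h.preimage_mono e)).op (h.app U s) := by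
    have := h.naturality (homOfLE e).op
    exact congr($this s)
  rw [h1, der_map]
  rfl

include hsq in
theorem pushVal_app (V : S.Opens) (c : Γ(S, V)) :
    pushVal h d' (f ⁻¹ᵁ V) (f.app V c) = 0 := by
  simp only [pushVal]
  have h1 : h.app (f ⁻¹ᵁ V) (f.app V c) = (h ≫ f).appLE V (h ⁻¹ᵁ (f ⁻¹ᵁ V)) le_rfl c := by
    have e : (h ≫ f).appLE V (h ⁻¹ᵁ (f ⁻¹ᵁ V)) le_rfl = (h ≫ f).app V :=
      Scheme.Hom.appLE_eq_app (f := h ≫ f)
    rw [e, Scheme.Hom.comp_app]; rfl
  have hle : h ⁻¹ᵁ (f ⁻¹ᵁ V) ≤ (f' ≫ b) ⁻¹ᵁ V := by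
    rw [hsq]; exact le_rfl
  have h2 : (h ≫ f).appLE V (h ⁻¹ᵁ (f ⁻¹ᵁ V)) le_rfl = (f' ≫ b).appLE V (h ⁻¹ᵁ (f ⁻¹ᵁ V)) hle :=
    appLE_congr_hom hsq.symm _ _
  have h3 : (f' ≫ b).appLE V (h ⁻¹ᵁ (f ⁻¹ᵁ V)) hle c =
      X'.presheaf.map (homOfLE (show h ⁻¹ᵁ (f ⁻¹ᵁ V) ≤ f' ⁻¹ᵁ (b ⁻¹ᵁ V) from hle)).op
        (f'.app (b ⁻¹ᵁ V) (b.app V c)) := by
    rw [Scheme.Hom.appLE, Scheme.Hom.comp_app]
    rfl
  rw [h1, h2, h3, der_map, der_app, map_zero]
  rfl

/-- a derivation of `O_{X'}` over `S'` gives a derivation of `O_X` over `S` into the pushforward,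
for a commutative square. -/
noncomputable def pushDer : Der f ((Scheme.Modules.pushforward h).obj Ω') where
  d {U} := AddMonoidHom.mk' (fun s => pushVal h d' U.unop s) (pushVal_add h d' U.unop)
  d_mul {U} a c := pushVal_mul h d' U.unop a c
  d_map {_ _} i s := pushVal_map h d' i.unop.le s
  d_app {V} c := pushVal_app h hsq d' V.unop c

theorem pushDer_app (U : X.Opens) (s : Γ(X, U)) :
    (pushDer h hsq d').app U s = d'.app (h ⁻¹ᵁ U) (h.app U s) := rfl

end Push

section Adj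

variable {X X' : Scheme.{u}} (h : X' ⟶ X) {Ω : X.Modules} {Ω' : X'.Modules}

/-- the adjunct of a map out of a pullback. -/
noncomputable def adj (c : (Scheme.Modules.pullback h).obj Ω ⟶ Ω') :
    Ω ⟶ (Scheme.Modules.pushforward h).obj Ω' :=
  (Scheme.Modules.pullbackPushforwardAdjunction h).homEquiv Ω Ω' c

theorem adj_app (c : (Scheme.Modules.pullback h).obj Ω ⟶ Ω') (U : X.Opens) (x : Γ(Ω, U)) :
    (adj h c).app U x = c.app (h ⁻¹ᵁ U) (pullSect h Ω U x) := by
  unfold adj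
  rw [Adjunction.homEquiv_unit, Scheme.Modules.Hom.comp_app, ConcreteCategory.comp_apply,
    Scheme.Modules.pushforward_map_app]
  rfl

theorem adj_bijective :
    Function.Bijective (adj h : ((Scheme.Modules.pullback h).obj Ω ⟶ Ω') → _) :=
  ((Scheme.Modules.pullbackPushforwardAdjunction h).homEquiv Ω Ω').bijective

end Adj

section Compat

variable {X S X' S' : Scheme.{u}} {f : X ⟶ S} {f' : X' ⟶ S'} (h : X' ⟶ X) {b : S' ⟶ S}
  (hsq : f' ≫ b = h ≫ f) {Ω : X.Modules} (d : Der f Ω) {Ω' : X'.Modules} (d' : Der f' Ω')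

theorem postcomp_app {F : X.Modules} (α : Ω ⟶ F) (U : X.Opens) (s : Γ(X, U)) :
    Der.app (d.postcomp α.val) U s = α.app U (d.app U s) := rfl

theorem der_ext {F : X.Modules} {D₁ D₂ : Der f F}
    (H : ∀ (U : X.Opens) (s : Γ(X, U)), D₁.app U s = D₂.app U s) : D₁ = D₂ := by
  apply PresheafOfModules.Derivation.ext
  funext U
  apply AddMonoidHom.ext
  intro a
  exact H U.unop a

theorem isDiffCompat_iff (c : (Scheme.Modules.pullback h).obj Ω ⟶ Ω') :
    IsDiffCompat h d d' c ↔ d.postcomp (adj h c).val = pushDer h hsq d' := by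
  constructor
  · intro H
    apply der_ext
    intro U s
    rw [postcomp_app, adj_app, pushDer_app]
    exact H U s
  · intro H U s
    have := congrArg (fun D : Der f ((Scheme.Modules.pushforward h).obj Ω') => D.app U s) H
    simp only [postcomp_app, adj_app, pushDer_app] at this
    exact this

include hsq in
theorem existsUnique_diffCompat (hd : IsUniversal d) :
    ∃! c : (Scheme.Modules.pullback h).obj Ω ⟶ Ω', IsDiffCompat h d d' c := by
  obtain ⟨α, hα, hα'⟩ := hd ((Scheme.Modules.pushforward h).obj Ω') (pushDer h hsq d')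
  obtain ⟨c, hc⟩ := (adj_bijective h (Ω := Ω) (Ω' := Ω')).2 α
  refine ⟨c, ?_, ?_⟩
  · change IsDiffCompat h d d' c
    rw [isDiffCompat_iff h hsq d d', hc]
    exact hα
  · intro c' hc'
    change IsDiffCompat h d d' c' at hc'
    rw [isDiffCompat_iff h hsq d d'] at hc'
    have := hα' _ hc'
    exact (adj_bijective h).1 (this.trans hc.symm)

end Compat

end Groth.Agent.Lead.DerU
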