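import Mathlib

set_option autoImplicit false
universe u

namespace Groth.Agent.Lead.OmU

section Uniq

variable {R T T' N' : Type*} [CommRing R] [CommRing T] [Algebra R T]
  [CommRing T'] [AddCommGroup N'] [Module T' N']

/-- derivation-like maps on a localisation are determined by their values on the original ring. -/
theorem locDer_ext (r : R) [IsLocalization.Away r T] (σ : T →+* T') (E₁ E₂ : T →+ N')
    (h₁ : ∀ a b, E₁ (a * b) = σ a • E₁ b + σ b • E₁ a)
    (h₂ : ∀ a b, E₂ (a * b) = σ a • E₂ b + σ b • E₂ a)
    (hag : ∀ b : R, E₁ (algebraMap R T b) = E₂ (algebraMap R T b)) : E₁ = E₂ := by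
  ext t
  obtain ⟨⟨a, ⟨_, n, rfl⟩⟩, hs⟩ := IsLocalization.surj (Submonoid.powers r) t
  simp only at hs
  have hu : IsUnit (σ (algebraMap R T (r ^ n))) := by
    rw [map_pow]
    exact ((IsLocalization.Away.algebraMap_isUnit r).pow n).map σ
  have e1 := h₁ t (algebraMap R T (r ^ n))
  have e2 := h₂ t (algebraMap R T (r ^ n))
  rw [hs, hag] at e1
  rw [hs] at e2
  rw [hag (r ^ n)] at e1
  have e3 : σ (algebraMap R T (r ^ n)) • E₁ t = σ (algebraMap R T (r ^ n)) • E₂ t := by
    have := e1.symm.trans e2
    exact add_left_cancel this
  exact hu.smul_left_cancel.1 e3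

end Uniq

section Exist

variable {R T N : Type u} [CommRing R] [CommRing T] [Algebra R T] (r : R)
  [IsLocalization.Away r T] [AddCommGroup N] [Module T N]
  (δ : R →+ N) (hδ : ∀ a b, δ (a * b) = algebraMap R T a • δ b + algebraMap R T b • δ a)

/-- the opposite module structure (local). -/
@[reducible] noncomputable def opModule : Module Tᵐᵒᵖ N :=
  Module.compHom N ((RingHom.id T).fromOpposite (fun _ _ => mul_comm _ _))

attribute [local instance] opModule

theorem isCentralScalar_op : IsCentralScalar T N := ⟨fun _ _ => rfl⟩

attribute [local instance] isCentralScalar_op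

include hδ in
theorem δ_one : δ 1 = 0 := by
  have := hδ 1 1
  simp only [mul_one, map_one, one_smul] at this
  exact left_eq_add.mp this

/-- the ring map into the trivial square zero extension given by a derivation. -/
noncomputable def toTsze : R →+* TrivSqZeroExt T N where
  toFun b := (algebraMap R T b, δ b)
  map_one' := by
    apply TrivSqZeroExt.ext
    · exact map_one _
    · exact δ_one δ hδ
  map_mul' a b := by
    apply TrivSqZeroExt.ext
    · exact map_mul _ _ _
    · change δ (a * b) = algebraMap R T a • δ b + MulOpposite.op (algebraMap R T b) • δ a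
      rw [hδ]
      rfl
  map_zero' := by
    apply TrivSqZeroExt.ext
    · exact map_zero _
    · exact map_zero δ
  map_add' a b := by
    apply TrivSqZeroExt.ext
    · exact map_add _ _ _
    · exact map_add δ _ _

theorem isUnit_toTsze : IsUnit (toTsze δ hδ r) := by
  rw [TrivSqZeroExt.isUnit_iff_isUnit_fst]
  exact IsLocalization.Away.algebraMap_isUnit r

/-- the lifted ring map. -/
noncomputable def liftTsze : T →+* TrivSqZeroExt T N :=
  IsLocalization.Away.lift r (isUnit_toTsze r δ hδ)

theorem liftTsze_algebraMap (b : R) : liftTsze r δ hδ (algebraMap R T b) = toTsze δ hδ b :=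
  IsLocalization.Away.lift_eq r _ b

theorem fst_liftTsze (t : T) : (liftTsze r δ hδ t).fst = t := by
  have h : ((TrivSqZeroExt.fstHom T T N).toRingHom.comp (liftTsze r δ hδ)) = RingHom.id T := by
    apply IsLocalization.ringHom_ext (Submonoid.powers r)
    ext b
    change (liftTsze r δ hδ (algebraMap R T b)).fst = algebraMap R T b
    rw [liftTsze_algebraMap]
    rfl
  exact congr($h t)

/-- the extension of a derivation to a localisation. -/
noncomputable def locExt : T →+ N where
  toFun t := (liftTsze r δ hδ t).snd
  map_zero' := by rw [map_zero]; rfl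
  map_add' a b := by rw [map_add]; rfl

theorem locExt_algebraMap (b : R) : locExt r δ hδ (algebraMap R T b) = δ b := by
  change (liftTsze r δ hδ (algebraMap R T b)).snd = δ b
  rw [liftTsze_algebraMap]
  rfl

theorem locExt_mul (s t : T) :
    locExt r δ hδ (s * t) = s • locExt r δ hδ t + t • locExt r δ hδ s := by
  change (liftTsze r δ hδ (s * t)).snd = _
  rw [map_mul, TrivSqZeroExt.snd_mul, fst_liftTsze, fst_liftTsze]
  rfl

end Exist

end Groth.Agent.Lead.OmU
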