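import Mathlib
import Groth.Prelude.Def_Omega4
import Groth.Agent.Lib.Lead.OmU0
import Groth.Agent.Lib.Lead.DerU1

set_option autoImplicit false
universe u
open CategoryTheory CategoryTheory.Limits AlgebraicGeometry TopologicalSpace Opposite

set_option backward.isDefEq.respectTransparency.types false

namespace Groth.Agent.Lead.OmU

open OmegaSh Groth.Agent.Lead.DerU

section Sep

variable {X : Scheme.{u}} (F : X.Modules)

/-- sections of a module agreeing locally agree. -/
theorem section_ext {U : X.Opens} (s t : Γ(F, U))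
    (h : ∀ x ∈ U, ∃ (V : X.Opens) (hV : V ≤ U), x ∈ V ∧
      F.presheaf.map (homOfLE hV).op s = F.presheaf.map (homOfLE hV).op t) : s = t := by
  have hF : TopCat.Presheaf.IsSheaf F.presheaf := F.isSheaf
  exact TopCat.Presheaf.IsSheaf.section_ext hF h

theorem res_injective_of_eq {U V : X.Opens} (h : V = U) (hle : V ≤ U) :
    Function.Injective (F.presheaf.map (homOfLE hle).op) := by
  subst h
  intro x y hxy
  have : F.presheaf.map (homOfLE hle).op = 𝟙 _ := F.presheaf.map_id _
  rw [this] at hxy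
  exact hxy

end Sep

section Inj

variable {X S : Scheme.{u}} [IsAffine X] {f : X ⟶ S} {F : X.Modules}

theorem der_eq_on_basicOpen (D₁ D₂ : Der f F)
    (h : ∀ s : Γ(X, ⊤), D₁.app ⊤ s = D₂.app ⊤ s) (r : Γ(X, ⊤)) :
    D₁.app (X.basicOpen r) = D₂.app (X.basicOpen r) := by
  haveI := IsAffineOpen.isLocalization_basicOpen (isAffineOpen_top X) r
  refine locDer_ext r (RingHom.id _) _ _ (fun a b => der_mul D₁ _ a b) (fun a b => der_mul D₂ _ a b) ?_
  intro b
  have e1 := der_map D₁ (X.basicOpen_le r) b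
  have e2 := der_map D₂ (X.basicOpen_le r) b
  change D₁.app (X.basicOpen r) (X.presheaf.map (homOfLE (X.basicOpen_le r)).op b) =
    D₂.app (X.basicOpen r) (X.presheaf.map (homOfLE (X.basicOpen_le r)).op b)
  rw [e1, e2, h]

/-- a derivation on an affine scheme is determined by its global sections. -/
theorem der_ext_of_top (D₁ D₂ : Der f F) (h : ∀ s : Γ(X, ⊤), D₁.app ⊤ s = D₂.app ⊤ s) :
    D₁ = D₂ := by
  apply der_ext
  intro W s
  apply section_ext F
  intro x hx
  obtain ⟨_, ⟨_, ⟨r, rfl⟩, rfl⟩, hxr, hrW⟩ := (isBasis_basicOpen X).exists_subset_of_mem_open hx W.isOpen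
  refine ⟨X.basicOpen r, hrW, hxr, ?_⟩
  rw [← der_map D₁ hrW s, ← der_map D₂ hrW s, der_eq_on_basicOpen D₁ D₂ h r]

end Inj

section Exist

variable {X : Scheme.{u}} [IsAffine X] (F : X.Modules)
  (δ : Γ(X, ⊤) →+ Γ(F, ⊤)) (hδ : ∀ a b : Γ(X, ⊤), δ (a * b) = a • δ b + b • δ a)

/-- the restriction of `δ` to a basic open. -/
noncomputable def δr (r : Γ(X, ⊤)) : Γ(X, ⊤) →+ Γ(F, X.basicOpen r) :=
  (F.presheaf.map (homOfLE (X.basicOpen_le r)).op).hom.comp δ

theorem δr_apply (r b : Γ(X, ⊤)) :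
    δr F δ r b = F.presheaf.map (homOfLE (X.basicOpen_le r)).op (δ b) := rfl

include hδ in
theorem δr_mul (r a b : Γ(X, ⊤)) :
    δr F δ r (a * b) = algebraMap Γ(X, ⊤) Γ(X, X.basicOpen r) a • δr F δ r b +
      algebraMap Γ(X, ⊤) Γ(X, X.basicOpen r) b • δr F δ r a := by
  rw [δr_apply, hδ, map_add, Scheme.Modules.map_smul, Scheme.Modules.map_smul]
  rfl

/-- the extension of `δ` to a basic open. -/
noncomputable def αr (r : Γ(X, ⊤)) : Γ(X, X.basicOpen r) →+ Γ(F, X.basicOpen r) :=
  haveI := IsAffineOpen.isLocalization_basicOpen (isAffineOpen_top X) r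
  locExt r (δr F δ r) (δr_mul F δ hδ r)

theorem αr_res (r b : Γ(X, ⊤)) :
    αr F δ hδ r (X.presheaf.map (homOfLE (X.basicOpen_le r)).op b) =
      F.presheaf.map (homOfLE (X.basicOpen_le r)).op (δ b) := by
  haveI := IsAffineOpen.isLocalization_basicOpen (isAffineOpen_top X) r
  exact locExt_algebraMap r (δr F δ r) (δr_mul F δ hδ r) b

theorem αr_mul (r : Γ(X, ⊤)) (s t : Γ(X, X.basicOpen r)) :
    αr F δ hδ r (s * t) = s • αr F δ hδ r t + t • αr F δ hδ r s := by
  haveI := IsAffineOpen.isLocalization_basicOpen (isAffineOpen_top X) r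
  exact locExt_mul r (δr F δ r) (δr_mul F δ hδ r) s t

theorem αr_natural (r s : Γ(X, ⊤)) (hsr : X.basicOpen s ≤ X.basicOpen r)
    (t : Γ(X, X.basicOpen r)) :
    F.presheaf.map (homOfLE hsr).op (αr F δ hδ r t) =
      αr F δ hδ s (X.presheaf.map (homOfLE hsr).op t) := by
  haveI := IsAffineOpen.isLocalization_basicOpen (isAffineOpen_top X) r
  have key := locDer_ext r (X.presheaf.map (homOfLE hsr).op).hom
    ((F.presheaf.map (homOfLE hsr).op).hom.comp (αr F δ hδ r))
    ((αr F δ hδ s).comp (X.presheaf.map (homOfLE hsr).op).hom.toAddMonoidHom) ?_ ?_ ?_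
  · exact congr($key t)
  · intro a b
    change F.presheaf.map (homOfLE hsr).op (αr F δ hδ r (a * b)) = _
    rw [αr_mul, map_add, Scheme.Modules.map_smul, Scheme.Modules.map_smul]
    rfl
  · intro a b
    change αr F δ hδ s (X.presheaf.map (homOfLE hsr).op (a * b)) = _
    rw [map_mul, αr_mul]
    rfl
  · intro b
    change F.presheaf.map (homOfLE hsr).op (αr F δ hδ r
        (X.presheaf.map (homOfLE (X.basicOpen_le r)).op b)) =
      αr F δ hδ s (X.presheaf.map (homOfLE hsr).op
        (X.presheaf.map (homOfLE (X.basicOpen_le r)).op b))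
    rw [αr_res, res_res, αr_res, resM_resM]
    rfl

end Exist

section Glue

variable {X : Scheme.{u}} [IsAffine X] (F : X.Modules)
  (δ : Γ(X, ⊤) →+ Γ(F, ⊤)) (hδ : ∀ a b : Γ(X, ⊤), δ (a * b) = a • δ b + b • δ a)

/-- the presheaf of abelian groups underlying the structure sheaf. -/
noncomputable abbrev Opre (X : Scheme.{u}) : TopCat.Presheaf Ab X :=
  (Coh.structureModule X).presheaf

/-- the sheaf of abelian groups underlying a module. -/
noncomputable def abSheaf : TopCat.Sheaf Ab X := ⟨F.presheaf, F.isSheaf⟩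

/-- the extension on the basis of basic opens, as a natural transformation. -/
noncomputable def αNat :
    (inducedFunctor (X.basicOpen : Γ(X, ⊤) → X.Opens)).op ⋙ Opre X ⟶
      (inducedFunctor (X.basicOpen : Γ(X, ⊤) → X.Opens)).op ⋙ (abSheaf F).1 where
  app r := AddCommGrpCat.ofHom (αr F δ hδ r.unop)
  naturality r s i := by
    ext t
    exact (αr_natural F δ hδ r.unop s.unop (leOfHom i.unop.hom) t).symm

/-- the extension to all opens. -/
noncomputable def dNat : Opre X ⟶ (abSheaf F).1 :=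
  TopCat.Sheaf.restrictHomEquivHom (Opre X) (abSheaf F) (isBasis_basicOpen X) (αNat F δ hδ)

theorem dNat_basicOpen (r : Γ(X, ⊤)) (t : Γ(X, X.basicOpen r)) :
    (dNat F δ hδ).app (op (X.basicOpen r)) t = αr F δ hδ r t := by
  have := TopCat.Sheaf.extend_hom_app (Opre X) (abSheaf F) (isBasis_basicOpen X) (αNat F δ hδ) r
  exact congr($this t)

theorem dNat_map {U V : X.Opens} (e : V ≤ U) (s : Γ(X, U)) :
    (dNat F δ hδ).app (op V) (X.presheaf.map (homOfLE e).op s) =
      F.presheaf.map (homOfLE e).op ((dNat F δ hδ).app (op U) s) := by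
  have := (dNat F δ hδ).naturality (homOfLE e).op
  exact congr($this s)

end Glue

section Leib

variable {X : Scheme.{u}} [IsAffine X] (F : X.Modules)
  (δ : Γ(X, ⊤) →+ Γ(F, ⊤)) (hδ : ∀ a b : Γ(X, ⊤), δ (a * b) = a • δ b + b • δ a)

/-- the extension on sections over an arbitrary open. -/
noncomputable def dApp (W : X.Opens) : Γ(X, W) →+ Γ(F, W) := ((dNat F δ hδ).app (op W)).hom

theorem dApp_basicOpen (r : Γ(X, ⊤)) (t : Γ(X, X.basicOpen r)) :
    dApp F δ hδ (X.basicOpen r) t = αr F δ hδ r t := dNat_basicOpen F δ hδ r t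

theorem dApp_map {U V : X.Opens} (e : V ≤ U) (s : Γ(X, U)) :
    dApp F δ hδ V (X.presheaf.map (homOfLE e).op s) =
      F.presheaf.map (homOfLE e).op (dApp F δ hδ U s) := dNat_map F δ hδ e s

theorem dApp_mul (W : X.Opens) (a b : Γ(X, W)) :
    dApp F δ hδ W (a * b) = a • dApp F δ hδ W b + b • dApp F δ hδ W a := by
  apply section_ext F
  intro x hx
  obtain ⟨_, ⟨_, ⟨r, rfl⟩, rfl⟩, hxr, hrW⟩ :=
    (isBasis_basicOpen X).exists_subset_of_mem_open hx W.isOpen
  refine ⟨X.basicOpen r, hrW, hxr, ?_⟩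
  rw [← dApp_map, map_mul, dApp_basicOpen, αr_mul, map_add, Scheme.Modules.map_smul,
    Scheme.Modules.map_smul, ← dApp_map, ← dApp_map, dApp_basicOpen, dApp_basicOpen]

variable {S : Scheme.{u}} [IsAffine S] (f : X ⟶ S) (hk : ∀ c : Γ(S, ⊤), δ (f.appTop c) = 0)

include hk in
theorem αr_kill (a : Γ(S, ⊤)) (z : Γ(S, S.basicOpen a)) :
    αr F δ hδ (f.appTop a) (f.appLE (S.basicOpen a) (X.basicOpen (f.appTop a))
      (Scheme.preimage_basicOpen f a).ge z) = 0 := by
  have := IsAffineOpen.isLocalization_basicOpen (isAffineOpen_top S) a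
  have := IsAffineOpen.isLocalization_basicOpen (isAffineOpen_top X) (f.appTop a)
  obtain ⟨⟨c', ⟨_, n, rfl⟩⟩, hs⟩ := IsLocalization.surj (Submonoid.powers a) z
  simp only at hs
  set g := f.appLE (S.basicOpen a) (X.basicOpen (f.appTop a)) (Scheme.preimage_basicOpen f a).ge
    with hg
  have hgρ : ∀ y : Γ(S, ⊤), g (algebraMap Γ(S, ⊤) Γ(S, S.basicOpen a) y) =
      X.presheaf.map (homOfLE (X.basicOpen_le (f.appTop a))).op (f.appTop y) := by
    intro y
    change (S.presheaf.map (homOfLE (S.basicOpen_le a)).op ≫ g) y = _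
    rw [hg, Scheme.Hom.map_appLE]
    rfl
  have h1 := congrArg g hs
  rw [map_mul, hgρ, hgρ] at h1
  have h2 := congrArg (αr F δ hδ (f.appTop a)) h1
  rw [αr_mul, αr_res, αr_res, hk, hk, map_zero, smul_zero, zero_add] at h2
  have hu : IsUnit (X.presheaf.map (homOfLE (X.basicOpen_le (f.appTop a))).op
      (f.appTop (a ^ n))) := by
    rw [map_pow, map_pow]
    exact (IsLocalization.Away.algebraMap_isUnit (S := Γ(X, X.basicOpen (f.appTop a)))
      (f.appTop a)).pow n
  exact (hu.smul_left_cancel (y := (0 : Γ(F, X.basicOpen (f.appTop a))))).1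
    (h2.trans (smul_zero _).symm)

include hk in
theorem dApp_app (V : S.Opens) (c : Γ(S, V)) :
    dApp F δ hδ (f ⁻¹ᵁ V) (f.app V c) = 0 := by
  apply section_ext F
  intro x hx
  obtain ⟨_, ⟨_, ⟨a, rfl⟩, rfl⟩, hxa, haV0⟩ :=
    (isBasis_basicOpen S).exists_subset_of_mem_open (show f x ∈ V from hx) V.isOpen
  have haV : S.basicOpen a ≤ V := haV0
  have e : X.basicOpen (f.appTop a) ≤ f ⁻¹ᵁ V :=
    le_trans (Scheme.preimage_basicOpen f a).ge (f.preimage_mono haV)
  have hmem : x ∈ X.basicOpen (f.appTop a) := (Scheme.preimage_basicOpen f a).le hxa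
  refine ⟨X.basicOpen (f.appTop a), e, hmem, ?_⟩
  refine Eq.trans ?_ (map_zero _).symm
  rw [← dApp_map, dApp_basicOpen]
  have h3 : X.presheaf.map (homOfLE e).op (f.app V c) =
      f.appLE (S.basicOpen a) (X.basicOpen (f.appTop a)) (Scheme.preimage_basicOpen f a).ge
        (S.presheaf.map (homOfLE haV).op c) := by
    change _ = (S.presheaf.map (homOfLE haV).op ≫ f.appLE (S.basicOpen a)
      (X.basicOpen (f.appTop a)) (Scheme.preimage_basicOpen f a).ge) c
    rw [Scheme.Hom.map_appLE]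
    rfl
  rw [h3]
  exact αr_kill F δ hδ f hk a _

/-- **the derivation on an affine scheme extending an algebraic derivation** -/
noncomputable def extDer : Der f F where
  d {U} := dApp F δ hδ U.unop
  d_mul {U} a c := dApp_mul F δ hδ U.unop a c
  d_map {_ _} i s := dApp_map F δ hδ i.unop.le s
  d_app {V} c := dApp_app F δ hδ f hk V.unop c

theorem extDer_app (W : X.Opens) (s : Γ(X, W)) :
    (extDer F δ hδ f hk).app W s = dApp F δ hδ W s := rfl

theorem extDer_top (s : Γ(X, ⊤)) : (extDer F δ hδ f hk).app ⊤ s = δ s := by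
  have h1 : X.basicOpen (1 : Γ(X, ⊤)) = ⊤ := Scheme.basicOpen_of_isUnit _ isUnit_one
  apply res_injective_of_eq F h1 (X.basicOpen_le 1)
  rw [extDer_app, ← dApp_map, dApp_basicOpen, αr_res]

end Leib

end Groth.Agent.Lead.OmU
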