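import Mathlib
import Groth.Prelude.Def_Omega4
import Groth.Agent.Lib.Lead.OmU1

set_option autoImplicit false
universe u
open CategoryTheory CategoryTheory.Limits AlgebraicGeometry TopologicalSpace Opposite

set_option backward.isDefEq.respectTransparency.types false

namespace Groth.Agent.Lead.OmU

open OmegaSh Groth.Agent.Lead.DerU

section SpecBasics

variable {B : CommRingCat.{u}} (F : (Spec B).Modules)

theorem smul_top (b : B) (x : Γ(F, ⊤)) : b • x = (Scheme.ΓSpecIso B).inv b • x := by
  rw [Scheme.Modules.smul_Spec_def]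
  congr 1

theorem inv_hom_apply (s : Γ(Spec B, ⊤)) :
    (Scheme.ΓSpecIso B).inv ((Scheme.ΓSpecIso B).hom s) = s := by
  rw [← ConcreteCategory.comp_apply, Iso.hom_inv_id]
  rfl

theorem hom_inv_apply (b : B) :
    (Scheme.ΓSpecIso B).hom ((Scheme.ΓSpecIso B).inv b) = b := by
  rw [← ConcreteCategory.comp_apply, Iso.inv_hom_id]
  rfl

end SpecBasics

section SpecDer

variable (A B : CommRingCat.{u}) [Algebra A B]

/-- the morphism of affine schemes of an algebra. -/
noncomputable abbrev fAB : Spec B ⟶ Spec A := Spec.map (CommRingCat.ofHom (algebraMap A B))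

theorem appTop_inv (a : A) :
    (fAB A B).appTop ((Scheme.ΓSpecIso A).inv a) = (Scheme.ΓSpecIso B).inv (algebraMap A B a) := by
  have := Scheme.ΓSpecIso_inv_naturality (CommRingCat.ofHom (algebraMap A B))
  exact congr($this a).symm

variable {A B} (F : (Spec B).Modules) (δ : B →+ Γ(F, ⊤))
  (hδ : ∀ a b : B, δ (a * b) = a • δ b + b • δ a) (hk : ∀ a : A, δ (algebraMap A B a) = 0)

/-- `δ` transported to global sections. -/
noncomputable def δΓ : Γ(Spec B, ⊤) →+ Γ(F, ⊤) :=
  δ.comp (Scheme.ΓSpecIso B).hom.hom.toAddMonoidHom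

theorem δΓ_apply (s : Γ(Spec B, ⊤)) : δΓ F δ s = δ ((Scheme.ΓSpecIso B).hom s) := rfl

include hδ in
theorem δΓ_mul (s t : Γ(Spec B, ⊤)) : δΓ F δ (s * t) = s • δΓ F δ t + t • δΓ F δ s := by
  rw [δΓ_apply, map_mul, hδ, smul_top, smul_top, inv_hom_apply, inv_hom_apply]
  rfl

include hk in
theorem δΓ_kill (c : Γ(Spec A, ⊤)) : δΓ F δ ((fAB A B).appTop c) = 0 := by
  have h1 : c = (Scheme.ΓSpecIso A).inv ((Scheme.ΓSpecIso A).hom c) := (inv_hom_apply c).symm
  rw [h1, appTop_inv, δΓ_apply, hom_inv_apply, hk]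

/-- **the derivation on `Spec B` over `Spec A` with prescribed global sections** -/
noncomputable def specDer : Der (fAB A B) F :=
  extDer F (δΓ F δ) (δΓ_mul F δ hδ) (fAB A B) (δΓ_kill F δ hk)

theorem specDer_top (t : B) :
    (specDer F δ hδ hk).app ⊤ ((Scheme.ΓSpecIso B).inv t) = δ t := by
  rw [specDer, extDer_top, δΓ_apply, hom_inv_apply]

theorem specDer_ext {S : Scheme.{u}} {f : Spec B ⟶ S} (D₁ D₂ : Der f F)
    (h : ∀ t : B, D₁.app ⊤ ((Scheme.ΓSpecIso B).inv t) = D₂.app ⊤ ((Scheme.ΓSpecIso B).inv t)) :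
    D₁ = D₂ := by
  apply der_ext_of_top
  intro s
  rw [← inv_hom_apply s]
  exact h _

end SpecDer

section Tilde

variable (A B : CommRingCat.{u}) [Algebra A B] (L : Type u) [AddCommGroup L] [Module B L]

/-- the canonical map from a module to the global sections of its associated sheaf. -/
noncomputable def τ : L →ₗ[B] Γ(tilde (ModuleCat.of B L), ⊤) :=
  (tilde.toOpen (ModuleCat.of B L) ⊤).hom

theorem τ_bijective : Function.Bijective (τ B L) := by
  have h : IsIso (tilde.toOpen (ModuleCat.of B L) ⊤) := inferInstance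
  exact (ConcreteCategory.isIso_iff_bijective _).1 h

variable {B L} [Module A L] [IsScalarTower A B L] (δ : Derivation A B L)

/-- **the derivation of the structure sheaf of `Spec B` into the sheaf associated to a module
extending an algebraic derivation** -/
noncomputable def tildeDer : Der (fAB A B) (tilde (ModuleCat.of B L)) :=
  specDer (tilde (ModuleCat.of B L))
    ((τ B L).toAddMonoidHom.comp (δ : B →ₗ[A] L).toAddMonoidHom)
    (fun a b => by
      change τ B L (δ (a * b)) = a • τ B L (δ b) + b • τ B L (δ a)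
      rw [Derivation.leibniz, map_add, map_smul, map_smul])
    (fun a => by
      change τ B L (δ (algebraMap A B a)) = 0
      rw [Derivation.map_algebraMap, map_zero])

theorem tildeDer_top (t : B) :
    (tildeDer A δ).app ⊤ ((Scheme.ΓSpecIso B).inv t) = τ B L (δ t) := by
  rw [tildeDer, specDer_top]
  rfl

end Tilde

section Universal

variable (A B : CommRingCat.{u}) [Algebra A B]

/-- the universal derivation on `Spec B` over `Spec A`. -/
noncomputable def dΩ : Der (fAB A B) (tilde (ModuleCat.of B Ω[B⁄A])) :=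
  tildeDer A (KaehlerDifferential.D A B)

theorem dΩ_top (t : B) :
    (dΩ A B).app ⊤ ((Scheme.ΓSpecIso B).inv t) = τ B Ω[B⁄A] (KaehlerDifferential.D A B t) :=
  tildeDer_top A _ t

variable {A B} {F : (Spec B).Modules} (D' : Der (fAB A B) F)

/-- the algebraic derivation of a derivation of sheaves. -/
noncomputable def algδ : B →+ Γ(F, ⊤) :=
  (D'.app ⊤).comp (Scheme.ΓSpecIso B).inv.hom.toAddMonoidHom

theorem algδ_apply (t : B) : algδ D' t = D'.app ⊤ ((Scheme.ΓSpecIso B).inv t) := rfl

theorem algδ_mul (a b : B) : algδ D' (a * b) = a • algδ D' b + b • algδ D' a := by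
  rw [algδ_apply, map_mul, der_mul, smul_top, smul_top]
  rfl

theorem algδ_kill (a : A) : algδ D' (algebraMap A B a) = 0 := by
  rw [algδ_apply, ← appTop_inv]
  exact der_app D' ⊤ _

/-- the module structure over the base ring. -/
@[reducible] noncomputable def modA (F : (Spec B).Modules) : Module A Γ(F, ⊤) :=
  Module.compHom Γ(F, ⊤) (algebraMap A B)

attribute [local instance] modA

theorem towerA (F : (Spec B).Modules) : IsScalarTower A B Γ(F, ⊤) :=
  IsScalarTower.of_compHom A B Γ(F, ⊤)

attribute [local instance] towerA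

/-- the algebraic derivation, bundled. -/
noncomputable def algDer : Derivation A B Γ(F, ⊤) :=
  Derivation.mk'
    { toFun := algδ D'
      map_add' := map_add _
      map_smul' := fun a b => by
        change algδ D' (a • b) = algebraMap A B a • algδ D' b
        rw [Algebra.smul_def, algδ_mul, algδ_kill, smul_zero, add_zero] }
    (algδ_mul D')

theorem algDer_apply (t : B) : algDer D' t = D'.app ⊤ ((Scheme.ΓSpecIso B).inv t) := rfl

/-- the linear map out of the module of differentials. -/
noncomputable def algLin : Ω[B⁄A] →ₗ[B] Γ(F, ⊤) := (algDer D').liftKaehlerDifferential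

theorem algLin_D (t : B) :
    algLin D' (KaehlerDifferential.D A B t) = D'.app ⊤ ((Scheme.ΓSpecIso B).inv t) :=
  (algDer D').liftKaehlerDifferential_comp_D t

/-- the global sections of a map out of the associated sheaf, as a linear map. -/
noncomputable def ΓLin (β : tilde (ModuleCat.of B Ω[B⁄A]) ⟶ F) : Ω[B⁄A] →ₗ[B] Γ(F, ⊤) where
  toFun m := β.app ⊤ (τ B Ω[B⁄A] m)
  map_add' x y := by rw [map_add, map_add]
  map_smul' b x := by
    rw [map_smul, smul_top, Scheme.Modules.Hom.app_smul, ← smul_top]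
    rfl

theorem ΓLin_apply (β : tilde (ModuleCat.of B Ω[B⁄A]) ⟶ F) (m : Ω[B⁄A]) :
    ΓLin β m = β.app ⊤ (τ B Ω[B⁄A] m) := rfl

/-- the global sections object. -/
noncomputable abbrev ΓObj (F : (Spec B).Modules) : ModuleCat.{u} B := ModuleCat.of B Γ(F, ⊤)

theorem adj_eq (β : tilde (ModuleCat.of B Ω[B⁄A]) ⟶ F) :
    tilde.adjunction.homEquiv (ModuleCat.of B Ω[B⁄A]) F β =
      (ModuleCat.ofHom (ΓLin β) : ModuleCat.of B Ω[B⁄A] ⟶ ΓObj F) := by
  rw [Adjunction.homEquiv_unit]
  rfl

/-- the map of sheaves of modules induced by a derivation. -/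
noncomputable def univMap : tilde (ModuleCat.of B Ω[B⁄A]) ⟶ F :=
  (tilde.adjunction.homEquiv (ModuleCat.of B Ω[B⁄A]) F).symm
    (ModuleCat.ofHom (algLin D') : ModuleCat.of B Ω[B⁄A] ⟶ ΓObj F)

theorem ΓLin_univMap : ΓLin (univMap D') = algLin D' := by
  have h := adj_eq (univMap D')
  rw [univMap, Equiv.apply_symm_apply] at h
  have h2 := congrArg ModuleCat.Hom.hom h
  exact h2.symm

theorem univMap_τ (m : Ω[B⁄A]) : (univMap D').app ⊤ (τ B Ω[B⁄A] m) = algLin D' m := by
  rw [← ΓLin_apply, ΓLin_univMap]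

theorem postcomp_univMap : (dΩ A B).postcomp (univMap D').val = D' := by
  apply specDer_ext
  intro t
  rw [postcomp_app, dΩ_top, univMap_τ, algLin_D]

theorem univMap_unique (β : tilde (ModuleCat.of B Ω[B⁄A]) ⟶ F)
    (hβ : (dΩ A B).postcomp β.val = D') : β = univMap D' := by
  apply (tilde.adjunction.homEquiv (ModuleCat.of B Ω[B⁄A]) F).injective
  rw [adj_eq, adj_eq]
  congr 1
  apply Derivation.liftKaehlerDifferential_unique
  ext t
  change ΓLin β (KaehlerDifferential.D A B t) = ΓLin (univMap D') (KaehlerDifferential.D A B t)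
  rw [ΓLin_apply, ΓLin_apply, univMap_τ, algLin_D, ← dΩ_top, ← postcomp_app, hβ]

variable (A B) in
/-- **the derivation `dΩ` is universal** -/
theorem isUniversal_dΩ : IsUniversal (dΩ A B) := by
  intro F D'
  exact ⟨univMap D', postcomp_univMap D', fun β hβ => univMap_unique D' β hβ⟩

end Universal

end Groth.Agent.Lead.OmU
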