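import Mathlib
import Groth.Prelude.Def_Omega4
import Groth.Agent.Lib.Lead.OmU2

set_option autoImplicit false
universe u
open CategoryTheory CategoryTheory.Limits AlgebraicGeometry TopologicalSpace Opposite

set_option backward.isDefEq.respectTransparency.types false

namespace Groth.Agent.Lead.OmU

open OmegaSh Groth.Agent.Lead.DerU

section Restr

variable {X S Y : Scheme.{u}} {f : X ⟶ S} (j : Y ⟶ X) [IsOpenImmersion j] {F : X.Modules}
  (D : Der f F)

/-- the value of the restricted derivation. -/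
noncomputable def restrVal (V : Y.Opens) (s : Γ(Y, V)) : Γ(F.restrict j, V) :=
  D.app (j ''ᵁ V) ((j.appIso V).inv s)

theorem restrVal_add (V : Y.Opens) (s t : Γ(Y, V)) :
    restrVal j D V (s + t) = restrVal j D V s + restrVal j D V t := by
  simp only [restrVal]
  rw [map_add, map_add]
  rfl

theorem restrVal_mul (V : Y.Opens) (s t : Γ(Y, V)) :
    restrVal j D V (s * t) = s • restrVal j D V t + t • restrVal j D V s := by
  simp only [restrVal]
  rw [map_mul, der_mul]
  rfl

theorem restrVal_map {U V : Y.Opens} (e : V ≤ U) (s : Γ(Y, U)) :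
    restrVal j D V (Y.presheaf.map (homOfLE e).op s) =
      (F.restrict j).presheaf.map (homOfLE e).op (restrVal j D U s) := by
  simp only [restrVal]
  have h1 : (j.appIso V).inv (Y.presheaf.map (homOfLE e).op s) =
      X.presheaf.map (homOfLE (j.image_mono e)).op ((j.appIso U).inv s) := by
    have := j.appIso_inv_naturality (homOfLE e).op
    exact congr($this s)
  rw [h1, der_map]
  rfl

theorem restrVal_app (W : S.Opens) (c : Γ(S, W)) :
    restrVal j D ((j ≫ f) ⁻¹ᵁ W) ((j ≫ f).app W c) = 0 := by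
  change D.app (j ''ᵁ (j ⁻¹ᵁ (f ⁻¹ᵁ W))) ((j.appIso (j ⁻¹ᵁ (f ⁻¹ᵁ W))).inv ((j ≫ f).app W c)) = 0
  have h1 : (j.appIso (j ⁻¹ᵁ (f ⁻¹ᵁ W))).inv ((j ≫ f).app W c) =
      X.presheaf.map (homOfLE (j.image_preimage_le (f ⁻¹ᵁ W))).op (f.app W c) := by
    have := j.app_appIso_inv (f ⁻¹ᵁ W)
    have h2 := congr($this (f.app W c))
    rw [Scheme.Hom.comp_app]
    exact h2
  rw [h1, der_map, der_app, map_zero]

/-- **the restriction of a derivation along an open immersion** -/
noncomputable def restrDer : Der (j ≫ f) (F.restrict j) where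
  d {V} := AddMonoidHom.mk' (fun s => restrVal j D V.unop s) (restrVal_add j D V.unop)
  d_mul {V} a c := restrVal_mul j D V.unop a c
  d_map {_ _} i s := restrVal_map j D i.unop.le s
  d_app {W} c := restrVal_app j D W.unop c

theorem restrDer_app (V : Y.Opens) (s : Γ(Y, V)) :
    (restrDer j D).app V s = D.app (j ''ᵁ V) ((j.appIso V).inv s) := rfl

end Restr

section RestrUniv

variable {X S Y : Scheme.{u}} {f : X ⟶ S} (j : Y ⟶ X) [IsOpenImmersion j] {Ω' : X.Modules}
  (d : Der f Ω')

theorem eqToHom_op_eq {P : Scheme.{u}} {U V : P.Opens} (h : U = V) :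
    (eqToHom h).op = (homOfLE h.le).op := rfl

/-- the adjunct of a map out of a restriction, on sections. -/
theorem restr_adj_symm_app {G : Y.Modules} (α : Ω' ⟶ (Scheme.Modules.pushforward j).obj G)
    (V : Y.Opens) (x : Γ(Ω', j ''ᵁ V)) :
    (((Scheme.Modules.restrictAdjunction j).homEquiv Ω' G).symm α).app V x =
      G.presheaf.map (homOfLE (j.preimage_image_eq V).ge).op (α.app (j ''ᵁ V) x) := by
  rw [Adjunction.homEquiv_counit, Scheme.Modules.Hom.comp_app, ConcreteCategory.comp_apply,
    Scheme.Modules.restrictAdjunction_counit_app_app]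
  rfl

theorem restr_adj_app {G : Y.Modules} (β : Ω'.restrict j ⟶ G) (U : X.Opens) (x : Γ(Ω', U)) :
    (((Scheme.Modules.restrictAdjunction j).homEquiv Ω' G) β).app U x =
      β.app (j ⁻¹ᵁ U) (Ω'.presheaf.map (homOfLE (j.image_preimage_le U)).op x) := by
  rw [Adjunction.homEquiv_unit, Scheme.Modules.Hom.comp_app, ConcreteCategory.comp_apply,
    Scheme.Modules.restrictAdjunction_unit_app_app]
  rfl

theorem app_appIso_inv_apply (U : X.Opens) (s : Γ(X, U)) :
    (j.appIso (j ⁻¹ᵁ U)).inv (j.app U s) =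
      X.presheaf.map (homOfLE (j.image_preimage_le U)).op s := by
  have := j.app_appIso_inv U
  exact congr($this s)

theorem appIso_inv_app_apply (V : Y.Opens) (s : Γ(Y, V)) :
    Y.presheaf.map (homOfLE (j.preimage_image_eq V).ge).op (j.app (j ''ᵁ V) ((j.appIso V).inv s)) =
      s := by
  have := j.appIso_inv_app_presheafMap V
  exact congr($this s)

include d in
theorem isUniversal_restrDer (hd : IsUniversal d) : IsUniversal (restrDer j d) := by
  intro G E
  obtain ⟨α, hα, hα'⟩ := hd _ (pushDer j (Category.comp_id (j ≫ f)) E)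
  have hαs : ∀ (U : X.Opens) (s : Γ(X, U)), α.app U (d.app U s) =
      E.app (j ⁻¹ᵁ U) (j.app U s) := by
    intro U s
    have := congrArg (fun D : Der f ((Scheme.Modules.pushforward j).obj G) => D.app U s) hα
    exact this
  refine ⟨((Scheme.Modules.restrictAdjunction j).homEquiv Ω' G).symm α, ?_, ?_⟩
  · apply der_ext
    intro V s
    rw [postcomp_app, restrDer_app, restr_adj_symm_app, hαs, ← der_map, appIso_inv_app_apply]
  · intro β' hβ'
    have hβs : ∀ (V : Y.Opens) (s : Γ(Y, V)), β'.app V ((restrDer j d).app V s) = E.app V s := by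
      intro V s
      have := congrArg (fun D : Der (j ≫ f) G => D.app V s) hβ'
      exact this
    have h1 : (Scheme.Modules.restrictAdjunction j).homEquiv Ω' G β' = α := by
      apply hα'
      apply der_ext
      intro U s
      rw [postcomp_app, restr_adj_app, ← der_map, pushDer_app, ← hβs, restrDer_app,
        app_appIso_inv_apply]
    rw [← h1, Equiv.symm_apply_apply]

end RestrUniv

section Base

variable {X S' S : Scheme.{u}} (g : X ⟶ S') (k : S' ⟶ S) [IsOpenImmersion k] {F : X.Modules}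

theorem toBase_kill (D : Der (g ≫ k) F) (W' : S'.Opens) (c' : Γ(S', W')) :
    D.app (g ⁻¹ᵁ W') (g.app W' c') = 0 := by
  have h0 := der_app D (k ''ᵁ W') ((k.appIso W').inv c')
  have e1 : g ⁻¹ᵁ (k ⁻¹ᵁ (k ''ᵁ W')) ≤ g ⁻¹ᵁ W' := g.preimage_mono (k.preimage_image_eq W').le
  have e2 : g ⁻¹ᵁ (k ⁻¹ᵁ (k ''ᵁ W')) = g ⁻¹ᵁ W' := by rw [k.preimage_image_eq W']
  have h1a : (g ≫ k).app (k ''ᵁ W') ((k.appIso W').inv c') =
      g.app (k ⁻¹ᵁ (k ''ᵁ W')) (k.app (k ''ᵁ W') ((k.appIso W').inv c')) := by
    rw [Scheme.Hom.comp_app]; rfl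
  have h1 : g.app (k ⁻¹ᵁ (k ''ᵁ W')) (k.app (k ''ᵁ W') ((k.appIso W').inv c')) =
      X.presheaf.map (homOfLE e1).op (g.app W' c') := by
    have h2 : k.app (k ''ᵁ W') ((k.appIso W').inv c') =
        S'.presheaf.map (homOfLE (k.preimage_image_eq W').le).op c' := by
      have := k.appIso_inv_app W'
      exact congr($this c')
    rw [h2]
    have h3 := g.naturality (homOfLE (k.preimage_image_eq W').le).op
    exact congr($h3 c')
  change D.app (g ⁻¹ᵁ (k ⁻¹ᵁ (k ''ᵁ W'))) ((g ≫ k).app (k ''ᵁ W') ((k.appIso W').inv c')) = 0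
    at h0
  rw [h1a, h1, der_map] at h0
  apply res_injective_of_eq F e2 e1
  rw [h0, map_zero]

/-- a derivation over `S` is a derivation over an open subscheme through which the morphism
factors. -/
noncomputable def toBase (D : Der (g ≫ k) F) : Der g F where
  d {U} := D.d (X := U)
  d_mul {U} a c := D.d_mul a c
  d_map {_ _} i s := D.d_map i s
  d_app {W'} c' := toBase_kill g k D W'.unop c'

theorem toBase_app (D : Der (g ≫ k) F) (U : X.Opens) (s : Γ(X, U)) :
    (toBase g k D).app U s = D.app U s := rfl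

/-- a derivation over an open subscheme of `S` is a derivation over `S`. -/
noncomputable def fromBase (D : Der g F) : Der (g ≫ k) F where
  d {U} := D.d (X := U)
  d_mul {U} a c := D.d_mul a c
  d_map {_ _} i s := D.d_map i s
  d_app {W} c := by
    have h := der_app D (k ⁻¹ᵁ W.unop) (k.app W.unop c)
    have h1 : (g ≫ k).app W.unop c = g.app (k ⁻¹ᵁ W.unop) (k.app W.unop c) := by
      rw [Scheme.Hom.comp_app]; rfl
    change D.app (g ⁻¹ᵁ (k ⁻¹ᵁ W.unop)) ((g ≫ k).app W.unop c) = 0
    rw [h1]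
    exact h

theorem fromBase_app (D : Der g F) (U : X.Opens) (s : Γ(X, U)) :
    (fromBase g k D).app U s = D.app U s := rfl

theorem isUniversal_toBase {Ω' : X.Modules} (d : Der (g ≫ k) Ω') (hd : IsUniversal d) :
    IsUniversal (toBase g k d) := by
  intro G D
  obtain ⟨α, hα, hα'⟩ := hd G (fromBase g k D)
  refine ⟨α, ?_, ?_⟩
  · apply der_ext
    intro U s
    have := congrArg (fun D' : Der (g ≫ k) G => D'.app U s) hα
    exact this
  · intro β hβ
    apply hα'
    apply der_ext
    intro U s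
    have := congrArg (fun D' : Der g G => D'.app U s) hβ
    exact this

end Base

section Cast

variable {X S : Scheme.{u}} {f f' : X ⟶ S} {F : X.Modules}

/-- transport of a derivation along an equality of morphisms. -/
def castDer (h : f = f') (D : Der f F) : Der f' F := h ▸ D

theorem castDer_app (h : f = f') (D : Der f F) (U : X.Opens) (s : Γ(X, U)) :
    (castDer h D).app U s = D.app U s := by
  subst h
  rfl

theorem isUniversal_castDer (h : f = f') {Ω' : X.Modules} (d : Der f Ω') (hd : IsUniversal d) :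
    IsUniversal (castDer h d) := by
  subst h
  exact hd

end Cast

section Unique

variable {X S : Scheme.{u}} {f : X ⟶ S} {Ω₁ Ω₂ : X.Modules} (d₁ : Der f Ω₁) (d₂ : Der f Ω₂)

theorem postcomp_comp {F G : X.Modules} (α : Ω₁ ⟶ F) (β : F ⟶ G) :
    d₁.postcomp (α ≫ β).val = (d₁.postcomp α.val).postcomp β.val := by
  apply der_ext
  intro U s
  rfl

theorem postcomp_id : d₁.postcomp (𝟙 Ω₁ : Ω₁ ⟶ Ω₁).val = d₁ := by
  apply der_ext
  intro U s
  rfl

/-- **universal derivations are unique up to unique isomorphism** -/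
theorem exists_iso_of_universal (h₁ : IsUniversal d₁) (h₂ : IsUniversal d₂) :
    ∃ e : Ω₁ ≅ Ω₂, d₁.postcomp e.hom.val = d₂ := by
  obtain ⟨α, hα, -⟩ := h₁ Ω₂ d₂
  obtain ⟨β, hβ, -⟩ := h₂ Ω₁ d₁
  refine ⟨⟨α, β, ?_, ?_⟩, hα⟩
  · apply (h₁ Ω₁ d₁).unique
    · change d₁.postcomp (α ≫ β).val = d₁
      rw [postcomp_comp, hα, hβ]
    · exact postcomp_id d₁
  · apply (h₂ Ω₂ d₂).unique
    · change d₂.postcomp (β ≫ α).val = d₂
      rw [postcomp_comp, hβ, hα]
    · exact postcomp_id d₂

end Unique

section Local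

variable {X S : Scheme.{u}} (f : X ⟶ S) {Ω' : X.Modules} (d : Der f Ω')
  {U : X.Opens} (hU : IsAffineOpen U) {V : S.Opens} (hV : IsAffineOpen V) (e : U ≤ f ⁻¹ᵁ V)

/-- the derivation induced on an affine piece. -/
noncomputable def localDer :
    Der (Spec.map (f.appLE V U e)) (Ω'.restrict hU.fromSpec) :=
  toBase (Spec.map (f.appLE V U e)) hV.fromSpec
    (castDer (IsAffineOpen.SpecMap_appLE_fromSpec f hV hU e).symm (restrDer hU.fromSpec d))

theorem localDer_app (W : (Spec Γ(X, U)).Opens) (s : Γ(Spec Γ(X, U), W)) :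
    (localDer f d hU hV e).app W s =
      d.app (hU.fromSpec ''ᵁ W) ((hU.fromSpec.appIso W).inv s) := by
  rw [localDer, toBase_app, castDer_app, restrDer_app]

theorem isUniversal_localDer (hd : IsUniversal d) : IsUniversal (localDer f d hU hV e) :=
  isUniversal_toBase _ _ _ (isUniversal_castDer _ _ (isUniversal_restrDer _ d hd))

/-- **a universal derivation is, on affine pieces, the algebraic one** -/
theorem exists_iso_tilde (hd : IsUniversal d) :
    letI := (f.appLE V U e).hom.toAlgebra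
    ∃ ε : Ω'.restrict hU.fromSpec ≅ tilde (ModuleCat.of Γ(X, U) Ω[Γ(X, U)⁄Γ(S, V)]),
      (localDer f d hU hV e).postcomp ε.hom.val = dΩ Γ(S, V) Γ(X, U) := by
  letI := (f.appLE V U e).hom.toAlgebra
  exact exists_iso_of_universal (localDer f d hU hV e) (dΩ Γ(S, V) Γ(X, U))
    (isUniversal_localDer f d hU hV e hd) (isUniversal_dΩ Γ(S, V) Γ(X, U))

end Local

end Groth.Agent.Lead.OmU
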