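import Mathlib
import Groth.Prelude.Def_Omega4
import Groth.Prelude.Def_CohB1
import Groth.Agent.Lib.Lead.OmU3
import Groth.Agent.Lib.Lead.TilT6
import Groth.Agent.Lib.Helper1.FtLocal
import Groth.Agent.Lib.Helper1.QcAbel
import Groth.Agent.Lib.Helper1.QCohLib
import Groth.Agent.Lib.Helper4.EffCartier
import Groth.Agent.Lib.Lead.IdM6

set_option autoImplicit false
universe u
open CategoryTheory CategoryTheory.Limits AlgebraicGeometry TopologicalSpace Opposite

set_option backward.isDefEq.respectTransparency.types false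

namespace Groth.Agent.Lead.OmU

open OmegaSh Groth.Agent.Lead.DerU Groth.Agent.Lead.TilT Groth.Agent.Helper1
  Groth.Agent.Lead.FpqcSh Groth.Agent.Lead.IdM

section Qc

variable {X S : Scheme.{u}} {f : X ⟶ S} {Ω' : X.Modules} (d : Der f Ω')

theorem iSup_charts (f : X ⟶ S) :
    ⨆ p : {p : X.affineOpens × S.affineOpens // p.1.1 ≤ f ⁻¹ᵁ p.2.1},
      (p.1.1.2.fromSpec).opensRange = ⊤ := by
  have h := Groth.Agent.Helper4.EffCartier.iSup_affine_le_preimage f
  rw [← h]
  congr 1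
  funext p
  exact IsAffineOpen.opensRange_fromSpec _

include d in
/-- **the receptacle of a universal derivation is quasi-coherent** -/
theorem isQuasicoherent_of_universal (hd : IsUniversal d) : Ω'.IsQuasicoherent := by
  refine QCohLib.isQuasicoherent_of_affine_charts Ω'
    (I := {p : X.affineOpens × S.affineOpens // p.1.1 ≤ f ⁻¹ᵁ p.2.1})
    (fun p => Γ(X, p.1.1.1)) (fun p => p.1.1.2.fromSpec) (iSup_charts f) (fun p => ?_)
  obtain ⟨⟨⟨U, hU⟩, ⟨V, hV⟩⟩, e⟩ := p
  letI := (f.appLE V U e).hom.toAlgebra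
  obtain ⟨ε, -⟩ := exists_iso_tilde f d hU hV e hd
  haveI : (Ω'.restrict hU.fromSpec).IsQuasicoherent := QcAbel.isQuasicoherent_of_iso ε.symm
  infer_instance

include d in
/-- **the sheaf of differentials of a morphism locally of finite type is of finite type** -/
theorem isFT_of_universal [LocallyOfFiniteType f] (hd : IsUniversal d) : CohB1.IsFT Ω' := by
  haveI := isQuasicoherent_of_universal d hd
  refine FtLocal.isFiniteType_of_affine_charts Ω'
    (I := {p : X.affineOpens × S.affineOpens // p.1.1 ≤ f ⁻¹ᵁ p.2.1})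
    (fun p => Γ(X, p.1.1.1)) (fun p => p.1.1.2.fromSpec) (iSup_charts f) (fun p => ?_)
  obtain ⟨⟨⟨U, hU⟩, ⟨V, hV⟩⟩, e⟩ := p
  letI := (f.appLE V U e).hom.toAlgebra
  have hft : Algebra.FiniteType Γ(S, V) Γ(X, U) :=
    HasRingHomProperty.appLE (P := @LocallyOfFiniteType) f inferInstance ⟨V, hV⟩ ⟨U, hU⟩ e
  obtain ⟨ε, -⟩ := exists_iso_tilde f d hU hV e hd
  haveI : Module.Finite Γ(X, U) (ModuleCat.of Γ(X, U) (Ω[Γ(X, U)⁄Γ(S, V)])) :=
    inferInstanceAs (Module.Finite Γ(X, U) (Ω[Γ(X, U)⁄Γ(S, V)]))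
  haveI := finite_tilde_top (ModuleCat.of Γ(X, U) (Ω[Γ(X, U)⁄Γ(S, V)]))
  exact Module.Finite.equiv (sectionsEquivOfIso ε ⊤).symm

end Qc

section Unram

variable {X S : Scheme.{u}} {f : X ⟶ S} {Ω' : X.Modules} (d : Der f Ω')

include d in
theorem restrict_iso_tilde (hd : IsUniversal d) {U : X.Opens} (hU : IsAffineOpen U)
    {V : S.Opens} (hV : IsAffineOpen V) (e : U ≤ f ⁻¹ᵁ V) :
    letI := (f.appLE V U e).hom.toAlgebra
    Nonempty (Ω'.restrict hU.fromSpec ≅
      tilde (ModuleCat.of Γ(X, U) Ω[Γ(X, U)⁄Γ(S, V)])) := by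
  letI := (f.appLE V U e).hom.toAlgebra
  obtain ⟨ε, -⟩ := exists_iso_tilde f d hU hV e hd
  exact ⟨ε⟩

include d in
theorem pullback_iso_tilde (hd : IsUniversal d) {U : X.Opens} (hU : IsAffineOpen U)
    {V : S.Opens} (hV : IsAffineOpen V) (e : U ≤ f ⁻¹ᵁ V) :
    letI := (f.appLE V U e).hom.toAlgebra
    Nonempty ((Scheme.Modules.pullback hU.fromSpec).obj Ω' ≅
      tilde (ModuleCat.of Γ(X, U) Ω[Γ(X, U)⁄Γ(S, V)])) := by
  letI := (f.appLE V U e).hom.toAlgebra
  obtain ⟨ε⟩ := restrict_iso_tilde d hd hU hV e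
  exact ⟨((Scheme.Modules.restrictFunctorIsoPullback hU.fromSpec).app Ω').symm ≪≫ ε⟩

include d in
/-- **`f` is formally unramified iff its sheaf of differentials vanishes** -/
theorem formallyUnramified_iff_isZero (hd : IsUniversal d) :
    FormallyUnramified f ↔ IsZero Ω' := by
  constructor
  · intro hf
    apply isZero_of_flatLocally
    intro y
    obtain ⟨_, ⟨V, hV, rfl⟩, hyV, -⟩ := S.isBasis_affineOpens.exists_subset_of_mem_open
      (Set.mem_univ (f.base y)) isOpen_univ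
    obtain ⟨_, ⟨U, hU, rfl⟩, hyU, hUV⟩ := X.isBasis_affineOpens.exists_subset_of_mem_open
      (show y ∈ (f ⁻¹ᵁ V : X.Opens) from hyV) (f ⁻¹ᵁ V).2
    refine ⟨_, hU.fromSpec, inferInstance, ?_, ?_⟩
    · rw [hU.range_fromSpec]
      exact hyU
    · letI := (f.appLE V U hUV).hom.toAlgebra
      obtain ⟨ε⟩ := pullback_iso_tilde d hd hU hV hUV
      refine IsZero.of_iso ?_ ε
      rw [isZero_tilde_iff]
      have := hf.formallyUnramified_appLE hV hU hUV
      exact this.subsingleton_kaehlerDifferential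
  · intro hz
    refine ⟨fun {V} hV {U} hU e => ?_⟩
    letI := (f.appLE V U e).hom.toAlgebra
    obtain ⟨ε⟩ := pullback_iso_tilde d hd hU hV e
    have h1 : IsZero ((Scheme.Modules.pullback hU.fromSpec).obj Ω') :=
      (Scheme.Modules.pullback hU.fromSpec).map_isZero hz
    have h2 := (isZero_tilde_iff _).1 (IsZero.of_iso h1 ε.symm)
    exact ⟨h2⟩

end Unram

end Groth.Agent.Lead.OmU
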