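import Mathlib
import Groth.Prelude.Def_Omega4
import Groth.Prelude.Def_CohB1
import Groth.Agent.Lib.Lead.OmU4
import Groth.Agent.Lib.Lead.FP2

set_option autoImplicit false
universe u
open CategoryTheory CategoryTheory.Limits AlgebraicGeometry TopologicalSpace Opposite

set_option backward.isDefEq.respectTransparency.types false

namespace Groth.Agent.Lead.OmU

open OmegaSh Groth.Agent.Lead.DerU Groth.Agent.Lead.TilT Groth.Agent.Helper1

section TauE

variable (B : CommRingCat.{u}) (L : Type u) [AddCommGroup L] [Module B L]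

/-- `τ` as a linear equivalence. -/
noncomputable def τe : L ≃ₗ[B] Γ(tilde (ModuleCat.of B L), ⊤) :=
  LinearEquiv.ofBijective (τ B L) (τ_bijective B L)

theorem τe_apply (l : L) : τe B L l = τ B L l := rfl

theorem τe_symm_τ (l : L) : (τe B L).symm (τ B L l) = l :=
  (τe B L).symm_apply_apply l

end TauE

section Kaehler

variable {X S : Scheme.{u}} (f : X ⟶ S) {Ω' : X.Modules} (d : Der f Ω') (hd : IsUniversal d)
  {U : X.Opens} (hU : IsAffineOpen U) {V : S.Opens} (hV : IsAffineOpen V) (e : U ≤ f ⁻¹ᵁ V)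

/-- the chosen isomorphism with the sheaf associated to the module of differentials. -/
noncomputable def εIso :
    letI := (f.appLE V U e).hom.toAlgebra
    Ω'.restrict hU.fromSpec ≅ tilde (ModuleCat.of Γ(X, U) Ω[Γ(X, U)⁄Γ(S, V)]) :=
  letI := (f.appLE V U e).hom.toAlgebra
  (exists_iso_tilde f d hU hV e hd).choose

theorem εIso_spec :
    letI := (f.appLE V U e).hom.toAlgebra
    (localDer f d hU hV e).postcomp (εIso f d hd hU hV e).hom.val = dΩ Γ(S, V) Γ(X, U) :=
  letI := (f.appLE V U e).hom.toAlgebra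
  (exists_iso_tilde f d hU hV e hd).choose_spec

/-- **sections of the sheaf of differentials over an affine open are the module of
differentials** -/
noncomputable def sectionsKaehler :
    letI := (f.appLE V U e).hom.toAlgebra
    Γ(Ω', U) ≃ₗ[Γ(X, U)] Ω[Γ(X, U)⁄Γ(S, V)] :=
  letI := (f.appLE V U e).hom.toAlgebra
  (Groth.Agent.Lead.FLF.sectionsLinearEquiv hU Ω').symm ≪≫ₗ
    (sectionsEquivOfIso (εIso f d hd hU hV e) ⊤) ≪≫ₗ
    (τe Γ(X, U) Ω[Γ(X, U)⁄Γ(S, V)]).symm

theorem res_eq_appIso_inv (s : Γ(X, U)) :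
    X.presheaf.map (homOfLE (QcLoc.image_top hU).le).op s =
      (hU.fromSpec.appIso ⊤).inv ((Scheme.ΓSpecIso Γ(X, U)).inv s) := by
  have h := QcLoc.star2 hU ⊤
  have h2 := congr($h s)
  have h3 : (Spec Γ(X, U)).presheaf.map (⊤ : (Spec Γ(X, U)).Opens).leTop.op = 𝟙 _ :=
    (Spec Γ(X, U)).presheaf.map_id _
  rw [h3, Category.id_comp] at h2
  exact h2.symm

theorem sectionsKaehler_d (s : Γ(X, U)) :
    letI := (f.appLE V U e).hom.toAlgebra
    sectionsKaehler f d hd hU hV e (d.app U s) = KaehlerDifferential.D Γ(S, V) Γ(X, U) s := by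
  letI := (f.appLE V U e).hom.toAlgebra
  change (τe Γ(X, U) Ω[Γ(X, U)⁄Γ(S, V)]).symm ((εIso f d hd hU hV e).hom.app ⊤
    (Ω'.presheaf.map (homOfLE (QcLoc.image_top hU).le).op (d.app U s))) = _
  rw [← der_map, res_eq_appIso_inv, ← localDer_app f d hU hV e, ← postcomp_app, εIso_spec,
    dΩ_top, τe_symm_τ]

end Kaehler

section FP

variable {X S : Scheme.{u}} {f : X ⟶ S} {Ω' : X.Modules} (d : Der f Ω')

include d in
/-- **the sheaf of differentials of a morphism locally of finite presentation is of finite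
presentation** -/
theorem isFP_of_universal [LocallyOfFinitePresentation f] (hd : IsUniversal d) :
    CohB1.IsFP Ω' := by
  haveI := isQuasicoherent_of_universal d hd
  apply Groth.Agent.Lead.FP.isFP_of_fp_sections
  intro x
  obtain ⟨_, ⟨V, hV, rfl⟩, hxV, -⟩ := S.isBasis_affineOpens.exists_subset_of_mem_open
    (Set.mem_univ (f.base x)) isOpen_univ
  obtain ⟨_, ⟨U, hU, rfl⟩, hxU, hUV⟩ := X.isBasis_affineOpens.exists_subset_of_mem_open
    (show x ∈ (f ⁻¹ᵁ V : X.Opens) from hxV) (f ⁻¹ᵁ V).2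
  refine ⟨U, hU, hxU, ?_⟩
  letI := (f.appLE V U hUV).hom.toAlgebra
  have hfp : Algebra.FinitePresentation Γ(S, V) Γ(X, U) :=
    HasRingHomProperty.appLE (P := @LocallyOfFinitePresentation) f inferInstance ⟨V, hV⟩ ⟨U, hU⟩
      hUV
  exact Module.FinitePresentation.of_equiv (sectionsKaehler f d hd hU hV hUV).symm

end FP

end Groth.Agent.Lead.OmU
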