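import Mathlib
import Groth.Prelude

set_option autoImplicit false
set_option backward.isDefEq.respectTransparency.types false
set_option synthInstance.maxHeartbeats 400000
set_option linter.style.haveILetI false
set_option linter.unusedSectionVars false
universe u

open TensorProduct

namespace Groth.Agent.Lead.OmSm

section Split

variable {A : Type u} [CommRing A] {M N : Type u} [AddCommGroup M] [AddCommGroup N]
  [Module A M] [Module A N]

/-- a split surjection decomposes the source -/
noncomputable def splitEquiv (π : M →ₗ[A] N) (s : N →ₗ[A] M) (h : π ∘ₗ s = LinearMap.id) :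
    M ≃ₗ[A] (LinearMap.ker π × N) where
  toFun x := (⟨x - s (π x), by
    rw [LinearMap.mem_ker, map_sub]
    have := LinearMap.congr_fun h (π x)
    simp only [LinearMap.comp_apply, LinearMap.id_apply] at this
    rw [this, sub_self]⟩, π x)
  invFun y := y.1.1 + s y.2
  map_add' x y := by
    ext
    · simp only [map_add, Prod.fst_add, Submodule.coe_add]
      abel
    · simp
  map_smul' r x := by
    ext
    · simp [smul_sub]
    · simp
  left_inv x := by simp
  right_inv y := by
    have h1 : π (y.1.1) = 0 := y.1.2
    have h2 : π (s y.2) = y.2 := LinearMap.congr_fun h y.2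
    ext
    · simp [h1, h2]
    · simp [h1, h2]

end Split

section Rank

variable {A : Type u} [CommRing A] {P1 P2 P3 : Type u} [AddCommGroup P1] [AddCommGroup P2]
  [AddCommGroup P3] [Module A P1] [Module A P2] [Module A P3]
  [Module.Finite A P1] [Module.Projective A P1] [Module.Finite A P2] [Module.Projective A P2]
  [Module.Finite A P3] [Module.Projective A P3]

/-- an exact sequence of finite projective modules whose ranks add up is left exact -/
theorem injective_of_rankAtStalk (φ : P1 →ₗ[A] P2) (π : P2 →ₗ[A] P3) (hex : Function.Exact φ π)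
    (hπ : Function.Surjective π)
    (hrank : ∀ q : PrimeSpectrum A, Module.rankAtStalk (R := A) P2 q =
      Module.rankAtStalk (R := A) P1 q + Module.rankAtStalk (R := A) P3 q) :
    Function.Injective φ := by
  obtain ⟨s, hs⟩ := Module.projective_lifting_property π LinearMap.id hπ
  let e2 := splitEquiv π s hs
  -- the kernel is finite projective
  let r2 : P2 →ₗ[A] LinearMap.ker π := (LinearMap.fst A _ _) ∘ₗ e2.toLinearMap
  have hr2 : r2 ∘ₗ (LinearMap.ker π).subtype = LinearMap.id := by
    ext x
    have hx : π x.1 = 0 := x.2
    simp [r2, e2, splitEquiv, hx]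
  haveI : Module.Projective A (LinearMap.ker π) :=
    Module.Projective.of_split (LinearMap.ker π).subtype r2 hr2
  haveI : Module.Finite A (LinearMap.ker π) := Module.Finite.of_surjective r2
    (fun y => ⟨y.1, LinearMap.congr_fun hr2 y⟩)
  let g : P1 →ₗ[A] LinearMap.ker π := φ.codRestrict (LinearMap.ker π) (fun x => by
    rw [LinearMap.mem_ker]
    exact (hex (φ x)).mpr ⟨x, rfl⟩)
  have hg : Function.Surjective g := by
    rintro ⟨y, hy⟩
    obtain ⟨x, hx⟩ := (hex y).mp hy
    exact ⟨x, Subtype.ext hx⟩
  obtain ⟨t, ht⟩ := Module.projective_lifting_property g LinearMap.id hg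
  let e1 := splitEquiv g t ht
  let r1 : P1 →ₗ[A] LinearMap.ker g := (LinearMap.fst A _ _) ∘ₗ e1.toLinearMap
  have hr1 : r1 ∘ₗ (LinearMap.ker g).subtype = LinearMap.id := by
    ext x
    have hx : g x.1 = 0 := x.2
    simp [r1, e1, splitEquiv, hx]
  haveI : Module.Projective A (LinearMap.ker g) :=
    Module.Projective.of_split (LinearMap.ker g).subtype r1 hr1
  haveI : Module.Finite A (LinearMap.ker g) := Module.Finite.of_surjective r1
    (fun y => ⟨y.1, LinearMap.congr_fun hr1 y⟩)
  have h2 : Module.rankAtStalk (R := A) P2 =
      Module.rankAtStalk (R := A) (LinearMap.ker π) + Module.rankAtStalk (R := A) P3 := by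
    rw [Module.rankAtStalk_eq_of_equiv e2, Module.rankAtStalk_prod]
  have h1 : Module.rankAtStalk (R := A) P1 =
      Module.rankAtStalk (R := A) (LinearMap.ker g) +
        Module.rankAtStalk (R := A) (LinearMap.ker π) := by
    rw [Module.rankAtStalk_eq_of_equiv e1, Module.rankAtStalk_prod]
  have h0 : Module.rankAtStalk (R := A) (LinearMap.ker g) = 0 := by
    funext q
    have a1 := congrFun h1 q
    have a2 := congrFun h2 q
    have a3 := hrank q
    simp only [Pi.add_apply] at a1 a2
    simp only [Pi.zero_apply]
    omega
  haveI : Subsingleton (LinearMap.ker g) := Module.rankAtStalk_eq_zero_iff_subsingleton.mp h0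
  have hginj : Function.Injective g := by
    rw [← LinearMap.ker_eq_bot]
    exact Submodule.eq_bot_of_subsingleton
  intro x y hxy
  apply hginj
  exact Subtype.ext hxy

end Rank


section JZ

variable (K R B : Type u) [CommRing K] [CommRing R] [CommRing B] [Algebra K R] [Algebra R B]
  [Algebra K B] [IsScalarTower K R B]

/-- Jacobi–Zariski: formally smooth source, projective relative differentials and additive ranks
imply that the relative algebra is formally smooth -/
theorem formallySmooth_of_rank [Algebra.FormallySmooth K B] [Module.Finite B Ω[B⁄K]]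
    [Module.Finite R Ω[R⁄K]] [Module.Projective R Ω[R⁄K]]
    [Module.Finite B Ω[B⁄R]] [Module.Projective B Ω[B⁄R]]
    (hrank : ∀ q : PrimeSpectrum B, Module.rankAtStalk (R := B) Ω[B⁄K] q =
      Module.rankAtStalk (R := B) (B ⊗[R] Ω[R⁄K]) q + Module.rankAtStalk (R := B) Ω[B⁄R] q) :
    Algebra.FormallySmooth R B := by
  have hinj : Function.Injective (KaehlerDifferential.mapBaseChange K R B) :=
    injective_of_rankAtStalk (KaehlerDifferential.mapBaseChange K R B)
      (KaehlerDifferential.map K R B B) (KaehlerDifferential.exact_mapBaseChange_map K R B)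
      (KaehlerDifferential.map_surjective K R B) hrank
  refine ⟨inferInstance, ⟨fun x y => ?_⟩⟩
  have key : ∀ z : Algebra.H1Cotangent R B, z = 0 := by
    intro z
    have h1 : KaehlerDifferential.mapBaseChange K R B (Algebra.H1Cotangent.δ K R B z) = 0 :=
      (Algebra.H1Cotangent.exact_δ_mapBaseChange K R B _).mpr ⟨z, rfl⟩
    have h2 : Algebra.H1Cotangent.δ K R B z = 0 := hinj (h1.trans (map_zero _).symm)
    obtain ⟨w, hw⟩ := (Algebra.H1Cotangent.exact_map_δ K R B z).mp h2
    rw [← hw, Subsingleton.elim w 0, map_zero]
  rw [key x, key y]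

end JZ

end Groth.Agent.Lead.OmSm
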