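import Mathlib
import Groth.Prelude.Def_Omega2
import Groth.Agent.Lib.Lead.IdM6
import Groth.Agent.Lib.Lead.EpiPull
import Groth.Agent.Lib.Helper1.FtSupp

/-!
# The conormal sheaf of an immersion on affine charts; finite type (lead)
-/

set_option autoImplicit false
universe u
open CategoryTheory CategoryTheory.Limits AlgebraicGeometry TopologicalSpace Opposite TensorProduct
set_option backward.isDefEq.respectTransparency.types false

namespace Groth.Agent.Lead.IdM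

open Groth.Agent.Lead.FpqcSh Groth.Agent.Lead.TilT Groth.Agent.Helper1

section Charts

variable {Y X : Scheme.{u}} (j : Y ⟶ X)

theorem isPullback_fromSpec {W : X.Opens} (hW : IsAffineOpen W)
    (hV : IsAffineOpen (j ⁻¹ᵁ W)) :
    IsPullback (Spec.map (j.appLE W (j ⁻¹ᵁ W) le_rfl)) hV.fromSpec hW.fromSpec j := by
  apply IsOpenImmersion.isPullback
  · exact (IsAffineOpen.SpecMap_appLE_fromSpec j hW hV le_rfl).symm
  · rw [hW.opensRange_fromSpec, hV.opensRange_fromSpec]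

/-- **the conormal sheaf on an affine chart** -/
theorem conormal_affine [QuasiCompact j] {W : X.Opens} (hW : IsAffineOpen W)
    (hV : IsAffineOpen (j ⁻¹ᵁ W)) :
    letI := (j.appLE W (j ⁻¹ᵁ W) le_rfl).hom.toAlgebra
    Nonempty ((Scheme.Modules.pullback hV.fromSpec).obj (Omega.conormal j) ≅
      tilde (R := Γ(Y, j ⁻¹ᵁ W)) (ModuleCat.of Γ(Y, j ⁻¹ᵁ W)
        (Γ(Y, j ⁻¹ᵁ W) ⊗[Γ(X, W)] (RingHom.ker (algebraMap Γ(X, W) Γ(Y, j ⁻¹ᵁ W)))))) := by
  letI := (j.appLE W (j ⁻¹ᵁ W) le_rfl).hom.toAlgebra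
  obtain ⟨e2⟩ := conormal_spec (B := Γ(X, W)) (A := Γ(Y, j ⁻¹ᵁ W))
  exact ⟨conormalRestrictIso j (Spec.map (j.appLE W (j ⁻¹ᵁ W) le_rfl)) hV.fromSpec hW.fromSpec
    (isPullback_fromSpec j hW hV) ≪≫ e2⟩

theorem conormal_restrict_affine [QuasiCompact j] {W : X.Opens} (hW : IsAffineOpen W)
    (hV : IsAffineOpen (j ⁻¹ᵁ W)) :
    letI := (j.appLE W (j ⁻¹ᵁ W) le_rfl).hom.toAlgebra
    Nonempty ((Omega.conormal j).restrict hV.fromSpec ≅
      tilde (R := Γ(Y, j ⁻¹ᵁ W)) (ModuleCat.of Γ(Y, j ⁻¹ᵁ W)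
        (Γ(Y, j ⁻¹ᵁ W) ⊗[Γ(X, W)] (RingHom.ker (algebraMap Γ(X, W) Γ(Y, j ⁻¹ᵁ W)))))) := by
  letI := (j.appLE W (j ⁻¹ᵁ W) le_rfl).hom.toAlgebra
  obtain ⟨e2⟩ := conormal_affine j hW hV
  exact ⟨(Scheme.Modules.restrictFunctorIsoPullback hV.fromSpec).app (Omega.conormal j) ≪≫ e2⟩

theorem mem_support_conormal_iff [QuasiCompact j] {W : X.Opens} (hW : IsAffineOpen W)
    (hV : IsAffineOpen (j ⁻¹ᵁ W)) (x' : Spec Γ(Y, j ⁻¹ᵁ W)) :
    letI := (j.appLE W (j ⁻¹ᵁ W) le_rfl).hom.toAlgebra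
    hV.fromSpec.base x' ∈ CohB1.support (Omega.conormal j) ↔
      x' ∈ Module.support Γ(Y, j ⁻¹ᵁ W)
        (Γ(Y, j ⁻¹ᵁ W) ⊗[Γ(X, W)] (RingHom.ker (algebraMap Γ(X, W) Γ(Y, j ⁻¹ᵁ W)))) := by
  letI := (j.appLE W (j ⁻¹ᵁ W) le_rfl).hom.toAlgebra
  obtain ⟨e2⟩ := conormal_restrict_affine j hW hV
  have h1 : hV.fromSpec.base x' ∈ CohB1.support (Omega.conormal j) ↔
      x' ∈ CohB1.support ((Omega.conormal j).restrict hV.fromSpec) := by
    rw [support_restrict]
    rfl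
  rw [h1, support_eq_of_iso e2, support_tilde]
  rfl

end Charts

section Immersion

variable {Y X : Scheme.{u}} (j : Y ⟶ X) [IsImmersion j]

/-- an immersion is a closed immersion over any open inside the coborder of its range -/
theorem isClosedImmersion_morphismRestrict (W : X.Opens) (hW : W ≤ j.coborderRange) :
    IsClosedImmersion (j ∣_ W) := by
  refine IsClosedImmersion.of_isPreimmersion _ ?_
  have h1 : IsClosed (Subtype.val ⁻¹' (Set.range j.base) : Set (coborder (Set.range j.base))) :=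
    isClosed_preimage_val_coborder
  have h2 : Continuous (Set.inclusion (show (W : Set X) ⊆ coborder (Set.range j.base) from hW)) :=
    continuous_inclusion _
  have h3 := h1.preimage h2
  have hr : Set.range (j ∣_ W).base = (Set.inclusion
      (show (W : Set X) ⊆ coborder (Set.range j.base) from hW)) ⁻¹'
        (Subtype.val ⁻¹' (Set.range j.base)) := by
    ext x
    constructor
    · rintro ⟨y, rfl⟩
      exact ⟨y.1, (morphismRestrict_base_coe j W y).symm⟩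
    · rintro ⟨y, hy⟩
      have hyW : y ∈ j ⁻¹ᵁ W := by
        change j.base y ∈ W
        have : j.base y = x.1 := hy
        rw [this]
        exact x.2
      refine ⟨⟨y, hyW⟩, Subtype.ext ?_⟩
      rw [morphismRestrict_base_coe]
      exact hy
  rw [hr]
  exact h3

theorem isAffineOpen_preimage_of_le_coborder {W : X.Opens} (hW : IsAffineOpen W)
    (hWc : W ≤ j.coborderRange) : IsAffineOpen (j ⁻¹ᵁ W) := by
  haveI := isClosedImmersion_morphismRestrict j W hWc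
  haveI : IsAffine W.toScheme := hW
  exact (IsClosedImmersion.isAffine_surjective_of_isAffine (j ∣_ W)).1

theorem app_surjective_of_le_coborder {W : X.Opens} (hW : IsAffineOpen W)
    (hWc : W ≤ j.coborderRange) : Function.Surjective (j.appLE W (j ⁻¹ᵁ W) le_rfl).hom := by
  haveI := isClosedImmersion_morphismRestrict j W hWc
  haveI : IsAffine W.toScheme := hW
  have h := (IsClosedImmersion.isAffine_surjective_of_isAffine (j ∣_ W)).2
  rw [morphismRestrict_appTop] at h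
  have key : ∀ (W' : X.Opens) (e : W' = W) (e' : (j ⁻¹ᵁ W).ι ''ᵁ ⊤ = j ⁻¹ᵁ W'),
      Function.Surjective (j.app W' ≫ Y.presheaf.map (eqToHom e').op).hom →
      Function.Surjective (j.appLE W (j ⁻¹ᵁ W) le_rfl).hom := by
    intro W' e e' hs
    subst e
    rw [Scheme.Hom.appLE_eq_app]
    have hb : Function.Bijective (Y.presheaf.map (eqToHom e').op).hom :=
      ConcreteCategory.bijective_of_isIso (Y.presheaf.map (eqToHom e').op)
    rw [CommRingCat.hom_comp, RingHom.coe_comp] at hs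
    exact (Function.Surjective.of_comp_iff' hb _).1 hs
  exact key _ (by simp) _ h

theorem ker_fg_of_le_coborder [LocallyOfFinitePresentation j] {W : X.Opens}
    (hW : IsAffineOpen W) (hWc : W ≤ j.coborderRange) :
    (RingHom.ker (j.appLE W (j ⁻¹ᵁ W) le_rfl).hom).FG := by
  have hV := isAffineOpen_preimage_of_le_coborder j hW hWc
  have hs := app_surjective_of_le_coborder j hW hWc
  letI := (j.appLE W (j ⁻¹ᵁ W) le_rfl).hom.toAlgebra
  have hfp : Algebra.FinitePresentation Γ(X, W) Γ(Y, j ⁻¹ᵁ W) :=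
    HasRingHomProperty.appLE (P := @LocallyOfFinitePresentation) j inferInstance
      ⟨W, hW⟩ ⟨j ⁻¹ᵁ W, hV⟩ le_rfl
  exact Algebra.FinitePresentation.ker_fG_of_surjective
    (Algebra.ofId Γ(X, W) Γ(Y, j ⁻¹ᵁ W)) hs

/-- **the conormal sheaf of a quasi-compact immersion locally of finite presentation is of finite
type** -/
theorem isFT_conormal [QuasiCompact j] [LocallyOfFinitePresentation j] :
    CohB1.IsFT (Omega.conormal j) := by
  refine FtLocal.isFiniteType_of_affine_charts (Omega.conormal j)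
    (I := {W : X.affineOpens // W.1 ≤ j.coborderRange})
    (fun W => Γ(Y, j ⁻¹ᵁ W.1.1))
    (fun W => (isAffineOpen_preimage_of_le_coborder j W.1.2 W.2).fromSpec) ?_ (fun W => ?_)
  · rw [eq_top_iff]
    intro y _
    obtain ⟨_, ⟨W, hW, rfl⟩, hyW, hWc⟩ := X.isBasis_affineOpens.exists_subset_of_mem_open
      (show j.base y ∈ (j.coborderRange : Set X) from subset_coborder ⟨y, rfl⟩)
      j.coborderRange.2
    rw [Opens.mem_iSup]
    refine ⟨⟨⟨W, hW⟩, hWc⟩, ?_⟩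
    rw [IsAffineOpen.opensRange_fromSpec]
    exact hyW
  · obtain ⟨⟨W, hW⟩, hWc⟩ := W
    have hV := isAffineOpen_preimage_of_le_coborder j hW hWc
    letI := (j.appLE W (j ⁻¹ᵁ W) le_rfl).hom.toAlgebra
    have hfg : (RingHom.ker (algebraMap Γ(X, W) Γ(Y, j ⁻¹ᵁ W))).FG :=
      ker_fg_of_le_coborder j hW hWc
    obtain ⟨e2⟩ := conormal_restrict_affine j hW hV
    haveI : Module.Finite Γ(X, W) (RingHom.ker (algebraMap Γ(X, W) Γ(Y, j ⁻¹ᵁ W))) :=
      Module.Finite.of_fg hfg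
    haveI : Module.Finite Γ(Y, j ⁻¹ᵁ W) (ModuleCat.of Γ(Y, j ⁻¹ᵁ W)
        (Γ(Y, j ⁻¹ᵁ W) ⊗[Γ(X, W)] (RingHom.ker (algebraMap Γ(X, W) Γ(Y, j ⁻¹ᵁ W))))) :=
      inferInstanceAs (Module.Finite Γ(Y, j ⁻¹ᵁ W)
        (Γ(Y, j ⁻¹ᵁ W) ⊗[Γ(X, W)] (RingHom.ker (algebraMap Γ(X, W) Γ(Y, j ⁻¹ᵁ W)))))
    haveI := finite_tilde_top (ModuleCat.of Γ(Y, j ⁻¹ᵁ W)
        (Γ(Y, j ⁻¹ᵁ W) ⊗[Γ(X, W)] (RingHom.ker (algebraMap Γ(X, W) Γ(Y, j ⁻¹ᵁ W)))))
    exact Module.Finite.equiv (sectionsEquivOfIso e2 ⊤).symm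

end Immersion

end Groth.Agent.Lead.IdM
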