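import Mathlib
import Groth.Prelude.Def_Omega4
import Groth.Agent.Lib.Lead.OmU1

set_option autoImplicit false
universe u
open CategoryTheory CategoryTheory.Limits AlgebraicGeometry TopologicalSpace Opposite

set_option backward.isDefEq.respectTransparency.types false

namespace Groth.Agent.Lead.OmU

open OmegaSh Groth.Agent.Lead.DerU

section Glue

variable {X : Scheme.{u}} {M N : X.Modules}

theorem hom_app_res (φ : M ⟶ N) {U V : X.Opens} (e : V ≤ U) (m : Γ(M, U)) :
    φ.app V (M.presheaf.map (homOfLE e).op m) = N.presheaf.map (homOfLE e).op (φ.app U m) := by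
  have := (Scheme.Modules.Hom.mapPresheaf φ).naturality (homOfLE e).op
  exact congr($this m)

/-- two morphisms of modules agreeing on a basis are equal. -/
theorem hom_ext_of_nhds (φ ψ : M ⟶ N)
    (h : ∀ (x : X) (O : X.Opens), x ∈ O → ∃ U : X.Opens, x ∈ U ∧ U ≤ O ∧
      ∀ m : Γ(M, U), φ.app U m = ψ.app U m) : φ = ψ := by
  apply Scheme.Modules.hom_ext
  intro W
  ext m
  apply section_ext N
  intro x hx
  obtain ⟨U, hxU, hUW, hU⟩ := h x W hx
  refine ⟨U, hUW, hxU, ?_⟩
  rw [← hom_app_res, ← hom_app_res, hU]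

variable {ι : Type u} (B : ι → X.Opens) (hB : Opens.IsBasis (Set.range B))
  (a : ∀ i, Γ(M, B i) →+ Γ(N, B i))

/-- the family on the basis as a natural transformation. -/
noncomputable def basisNat (hnat : ∀ (i j : ι) (h : B j ≤ B i) (m : Γ(M, B i)),
    a j (M.presheaf.map (homOfLE h).op m) = N.presheaf.map (homOfLE h).op (a i m)) :
    (inducedFunctor B).op ⋙ M.presheaf ⟶ (inducedFunctor B).op ⋙ (abSheaf N).1 where
  app i := AddCommGrpCat.ofHom (a i.unop)
  naturality i j k := by
    ext t
    exact hnat i.unop j.unop (leOfHom k.unop.hom) t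

/-- the extension to all opens. -/
noncomputable def glueNat (hnat : ∀ (i j : ι) (h : B j ≤ B i) (m : Γ(M, B i)),
    a j (M.presheaf.map (homOfLE h).op m) = N.presheaf.map (homOfLE h).op (a i m)) :
    M.presheaf ⟶ (abSheaf N).1 :=
  TopCat.Sheaf.restrictHomEquivHom M.presheaf (abSheaf N) hB (basisNat B a hnat)

variable (hnat : ∀ (i j : ι) (h : B j ≤ B i) (m : Γ(M, B i)),
    a j (M.presheaf.map (homOfLE h).op m) = N.presheaf.map (homOfLE h).op (a i m))

/-- the extension on sections. -/
noncomputable def glueApp (W : X.Opens) : Γ(M, W) →+ Γ(N, W) :=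
  ((glueNat B hB a hnat).app (op W)).hom

theorem glueApp_basis (i : ι) (t : Γ(M, B i)) :
    glueApp B hB a hnat (B i) t = a i t := by
  have := TopCat.Sheaf.extend_hom_app M.presheaf (abSheaf N) hB (basisNat B a hnat) i
  exact congr($this t)

theorem glueApp_map {U V : X.Opens} (e : V ≤ U) (s : Γ(M, U)) :
    glueApp B hB a hnat V (M.presheaf.map (homOfLE e).op s) =
      N.presheaf.map (homOfLE e).op (glueApp B hB a hnat U s) := by
  have := (glueNat B hB a hnat).naturality (homOfLE e).op
  exact congr($this s)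

theorem glueApp_smul
    (hlin : ∀ (i : ι) (r : Γ(X, B i)) (m : Γ(M, B i)), a i (r • m) = r • a i m)
    (W : X.Opens) (r : Γ(X, W)) (m : Γ(M, W)) :
    glueApp B hB a hnat W (r • m) = r • glueApp B hB a hnat W m := by
  apply section_ext N
  intro x hx
  obtain ⟨_, ⟨_, ⟨i, rfl⟩, rfl⟩, hxi, hiW⟩ := hB.exists_subset_of_mem_open hx W.isOpen
  refine ⟨B i, hiW, hxi, ?_⟩
  rw [← glueApp_map, Scheme.Modules.map_smul, Scheme.Modules.map_smul, glueApp_basis, hlin,
    ← glueApp_map, glueApp_basis]

/-- **gluing a morphism of modules from linear maps on a basis** -/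
noncomputable def glueHom
    (hlin : ∀ (i : ι) (r : Γ(X, B i)) (m : Γ(M, B i)), a i (r • m) = r • a i m) : M ⟶ N :=
  ⟨PresheafOfModules.homMk (glueNat B hB a hnat)
    (fun U r m => glueApp_smul B hB a hnat hlin U.unop r m)⟩

theorem glueHom_basis
    (hlin : ∀ (i : ι) (r : Γ(X, B i)) (m : Γ(M, B i)), a i (r • m) = r • a i m)
    (i : ι) (t : Γ(M, B i)) :
    (glueHom B hB a hnat hlin).app (B i) t = a i t :=
  glueApp_basis B hB a hnat i t

end Glue

end Groth.Agent.Lead.OmU
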