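import Mathlib
import Groth.Prelude.Def_Omega4
import Groth.Agent.Lib.Lead.OmU1
import Groth.Agent.Lib.Lead.OmU13a

set_option autoImplicit false
universe u
open CategoryTheory CategoryTheory.Limits AlgebraicGeometry TopologicalSpace Opposite

set_option backward.isDefEq.respectTransparency.types false

namespace Groth.Agent.Lead.OmU

open OmegaSh Groth.Agent.Lead.DerU

section ChartLin

variable {X Y : Scheme.{u}} {f : X ⟶ Y} {F : X.Modules} (D : Der f F)
  {U : X.Opens} {V : Y.Opens} (e : U ≤ f ⁻¹ᵁ V)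

theorem der_appLE (a : Γ(Y, V)) : D.app U (f.appLE V U e a) = 0 := by
  have h1 : f.appLE V U e a = X.presheaf.map (homOfLE e).op (f.app V a) := by
    rw [Scheme.Hom.appLE]
    rfl
  rw [h1, der_map, der_app, map_zero]

/-- the linear map from the module of differentials of a chart induced by a derivation. -/
noncomputable def chartLin :
    letI := (f.appLE V U e).hom.toAlgebra
    Ω[Γ(X, U)⁄Γ(Y, V)] →ₗ[Γ(X, U)] Γ(F, U) :=
  letI := (f.appLE V U e).hom.toAlgebra
  letI : Module Γ(Y, V) Γ(F, U) := Module.compHom _ (f.appLE V U e).hom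
  haveI : IsScalarTower Γ(Y, V) Γ(X, U) Γ(F, U) := ⟨fun a b n => by
    change ((f.appLE V U e).hom a * b) • n = (f.appLE V U e).hom a • b • n
    exact mul_smul _ _ _⟩
  (Derivation.mk' (R := Γ(Y, V))
    { toFun := fun s => D.app U s
      map_add' := fun s t => map_add _ s t
      map_smul' := fun a s => by
        change D.app U ((f.appLE V U e).hom a * s) = (f.appLE V U e).hom a • D.app U s
        rw [der_mul]
        have : D.app U ((f.appLE V U e).hom a) = 0 := der_appLE D e a
        rw [this, smul_zero, add_zero] }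
    (fun s t => der_mul D U s t)).liftKaehlerDifferential

theorem chartLin_D (s : Γ(X, U)) :
    letI := (f.appLE V U e).hom.toAlgebra
    chartLin D e (KaehlerDifferential.D Γ(Y, V) Γ(X, U) s) = D.app U s := by
  letI := (f.appLE V U e).hom.toAlgebra
  letI : Module Γ(Y, V) Γ(F, U) := Module.compHom _ (f.appLE V U e).hom
  haveI : IsScalarTower Γ(Y, V) Γ(X, U) Γ(F, U) := ⟨fun a b n => by
    change ((f.appLE V U e).hom a * b) • n = (f.appLE V U e).hom a • b • n
    exact mul_smul _ _ _⟩
  exact Derivation.liftKaehlerDifferential_comp_D _ s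

/-- induction principle on the module of differentials of a chart. -/
theorem kaehler_induction
    (P : (letI := (f.appLE V U e).hom.toAlgebra; Ω[Γ(X, U)⁄Γ(Y, V)]) → Prop)
    (hD : ∀ s : Γ(X, U), letI := (f.appLE V U e).hom.toAlgebra
      P (KaehlerDifferential.D Γ(Y, V) Γ(X, U) s))
    (h0 : P 0) (hadd : ∀ x y, P x → P y → P (x + y))
    (hsmul : ∀ (b : Γ(X, U)) x, P x → P (b • x)) : ∀ κ, P κ := by
  letI := (f.appLE V U e).hom.toAlgebra
  intro κ
  have hκ : κ ∈ Submodule.span Γ(X, U) (Set.range (KaehlerDifferential.D Γ(Y, V) Γ(X, U))) := by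
    rw [KaehlerDifferential.span_range_derivation]; trivial
  induction hκ using Submodule.span_induction with
  | mem x hx =>
    obtain ⟨s, rfl⟩ := hx
    exact hD s
  | zero => exact h0
  | add x y _ _ hx hy => exact hadd x y hx hy
  | smul b x _ hx => exact hsmul b x hx

end ChartLin

section Criterion

variable {X Y : Scheme.{u}} {f : X ⟶ Y} {Ω' : X.Modules} (d : Der f Ω')

/-- a pair of opens of source and target -/
structure Chart (f : X ⟶ Y) where
  U : X.Opens
  V : Y.Opens
  e : U ≤ f ⁻¹ᵁ V

/-- on the chart, the sections of the module are the module of differentials. -/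
def Good (c : Chart f) : Prop :=
  letI := (f.appLE c.V c.U c.e).hom.toAlgebra
  Function.Bijective (chartLin d c.e)

variable {F : X.Modules} (D : Der f F)

/-- the candidate factorisation on a good chart -/
noncomputable def aLin (c : Chart f) (hc : Good d c) : Γ(Ω', c.U) →ₗ[Γ(X, c.U)] Γ(F, c.U) :=
  letI := (f.appLE c.V c.U c.e).hom.toAlgebra
  (chartLin D c.e) ∘ₗ (LinearEquiv.ofBijective (chartLin d c.e) hc).symm.toLinearMap

theorem aLin_chartLin (c : Chart f) (hc : Good d c)
    (κ : (letI := (f.appLE c.V c.U c.e).hom.toAlgebra; Ω[Γ(X, c.U)⁄Γ(Y, c.V)])) :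
    aLin d D c hc (chartLin d c.e κ) = chartLin D c.e κ := by
  letI := (f.appLE c.V c.U c.e).hom.toAlgebra
  change chartLin D c.e ((LinearEquiv.ofBijective (chartLin d c.e) hc).symm (chartLin d c.e κ)) = _
  congr 1
  exact (LinearEquiv.ofBijective (chartLin d c.e) hc).symm_apply_apply κ

theorem aLin_d (c : Chart f) (hc : Good d c) (s : Γ(X, c.U)) :
    aLin d D c hc (d.app c.U s) = D.app c.U s := by
  rw [← chartLin_D d c.e, aLin_chartLin, chartLin_D]

theorem aLin_nat (c c' : Chart f) (hc : Good d c) (hc' : Good d c') (h : c'.U ≤ c.U)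
    (m : Γ(Ω', c.U)) :
    aLin d D c' hc' (Ω'.presheaf.map (homOfLE h).op m) =
      F.presheaf.map (homOfLE h).op (aLin d D c hc m) := by
  obtain ⟨κ, rfl⟩ := hc.2 m
  rw [aLin_chartLin]
  refine kaehler_induction c.e (fun κ => aLin d D c' hc' (Ω'.presheaf.map (homOfLE h).op
    (chartLin d c.e κ)) = F.presheaf.map (homOfLE h).op (chartLin D c.e κ)) ?_ ?_ ?_ ?_ κ
  · intro s
    rw [chartLin_D, chartLin_D, ← der_map, ← der_map, aLin_d]
  · simp only [map_zero]
  · intro x y hx hy
    rw [map_add, map_add, map_add, map_add, map_add, hx, hy]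
  · intro b x hx
    rw [(chartLin d c.e).map_smul, (chartLin D c.e).map_smul, Scheme.Modules.map_smul,
      Scheme.Modules.map_smul, (aLin d D c' hc').map_smul, hx]

include d in
/-- **criterion for universality**: a derivation is universal as soon as, on a basis of charts,
its module of sections is the module of differentials. -/
theorem isUniversal_of_good
    (h : ∀ (x : X) (O : X.Opens), x ∈ O → ∃ c : Chart f, x ∈ c.U ∧ c.U ≤ O ∧ Good d c) :
    IsUniversal d := by
  intro F D
  let ι := {c : Chart f // Good d c}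
  let B : ι → X.Opens := fun c => c.1.U
  have hB : Opens.IsBasis (Set.range B) := by
    rw [Opens.isBasis_iff_nbhd]
    intro O x hx
    obtain ⟨c, hxc, hcO, hc⟩ := h x O hx
    exact ⟨c.U, ⟨⟨c, hc⟩, rfl⟩, hxc, hcO⟩
  let a : ∀ i : ι, Γ(Ω', B i) →+ Γ(F, B i) := fun i => (aLin d D i.1 i.2).toAddMonoidHom
  have hnat : ∀ (i j : ι) (h : B j ≤ B i) (m : Γ(Ω', B i)),
      a j (Ω'.presheaf.map (homOfLE h).op m) = F.presheaf.map (homOfLE h).op (a i m) :=
    fun i j h m => aLin_nat d D i.1 j.1 i.2 j.2 h m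
  have hlin : ∀ (i : ι) (r : Γ(X, B i)) (m : Γ(Ω', B i)), a i (r • m) = r • a i m :=
    fun i r m => (aLin d D i.1 i.2).map_smul r m
  refine ⟨glueHom B hB a hnat hlin, ?_, ?_⟩
  · apply der_ext
    intro W s
    rw [postcomp_app]
    apply section_ext F
    intro x hx
    obtain ⟨c, hxc, hcW, hc⟩ := h x W hx
    refine ⟨c.U, hcW, hxc, ?_⟩
    rw [← hom_app_res, ← der_map, ← der_map]
    exact (glueHom_basis B hB a hnat hlin ⟨c, hc⟩ _).trans (aLin_d d D c hc _)
  · intro α' hα'
    apply hom_ext_of_nhds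
    intro x O hx
    obtain ⟨c, hxc, hcO, hc⟩ := h x O hx
    refine ⟨c.U, hxc, hcO, ?_⟩
    intro m
    obtain ⟨κ, rfl⟩ := hc.2 m
    rw [glueHom_basis B hB a hnat hlin ⟨c, hc⟩]
    change _ = aLin d D c hc _
    rw [aLin_chartLin]
    refine kaehler_induction c.e (fun κ => α'.app c.U (chartLin d c.e κ) = chartLin D c.e κ)
      ?_ ?_ ?_ ?_ κ
    · intro s
      rw [chartLin_D, chartLin_D, ← postcomp_app, hα']
    · simp only [map_zero]
    · intro x y hx hy
      rw [map_add, map_add, map_add, hx, hy]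
    · intro b x hx
      rw [(chartLin d c.e).map_smul, (chartLin D c.e).map_smul, Scheme.Modules.Hom.app_smul, hx]

end Criterion

end Groth.Agent.Lead.OmU
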