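import Mathlib
import Groth.Agent.Lib.Lead.BCU1

set_option autoImplicit false
universe u
open TensorProduct

namespace Groth.Agent.Lead.OmU

open Groth.Agent.Lead.BCU

section K

variable {A B C : Type u} [CommRing A] [CommRing B] [CommRing C] [Algebra A B]
  (ι₁ ι₂ : B →+* C) (μ : C →+* B) (hμ₁ : ∀ b, μ (ι₁ b) = b) (hμ₂ : ∀ b, μ (ι₂ b) = b)
  (ε : B ⊗[A] B ≃+* C) (hε : ∀ a b, ε (a ⊗ₜ[A] b) = ι₁ a * ι₂ b)

include hμ₁ hμ₂ hε in
theorem mu_eps (x : B ⊗[A] B) : μ (ε x) = Algebra.TensorProduct.lmul' (S := B) A x := by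
  induction x using TensorProduct.induction_on with
  | zero => simp
  | tmul a b => rw [hε, map_mul, hμ₁, hμ₂, Algebra.TensorProduct.lmul'_apply_tmul]
  | add x y hx hy => rw [map_add, map_add, hx, hy, map_add]

include hμ₁ hμ₂ hε in
theorem ker_le_span : RingHom.ker μ ≤ Ideal.span (Set.range fun b : B => ι₂ b - ι₁ b) := by
  intro c hc
  have h1 : ε.symm c ∈ KaehlerDifferential.ideal A B := by
    rw [RingHom.mem_ker]
    have := mu_eps ι₁ ι₂ μ hμ₁ hμ₂ ε hε (ε.symm c)
    rw [RingEquiv.apply_symm_apply] at this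
    change Algebra.TensorProduct.lmul' (S := B) A (ε.symm c) = 0
    rw [← this]
    exact hc
  rw [← KaehlerDifferential.span_range_eq_ideal] at h1
  have h2 : ε (ε.symm c) ∈ Ideal.map (ε : B ⊗[A] B →+* C)
      (Ideal.span (Set.range fun s : B => (1 : B) ⊗ₜ[A] s - s ⊗ₜ[A] (1 : B))) :=
    Ideal.mem_map_of_mem _ h1
  rw [RingEquiv.apply_symm_apply, Ideal.map_span] at h2
  refine Ideal.span_mono ?_ h2
  rintro _ ⟨_, ⟨b, rfl⟩, rfl⟩
  refine ⟨b, ?_⟩
  change ι₂ b - ι₁ b = ε (1 ⊗ₜ[A] b - b ⊗ₜ[A] 1)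
  rw [map_sub, hε, hε, map_one, map_one, one_mul, mul_one]

variable {M N : Type u} [AddCommGroup M] [Module C M] [AddCommGroup N] [Module B N]
  (ιM : M →ₗ[C] C) (hιM : Function.Injective ιM) (hker : ∀ m, μ (ιM m) = 0)
  (l : M → N) (hl : IsBC μ l)
  (θ : Ω[B⁄A] →ₗ[B] N) (mb : B → M) (hmb : ∀ b, ιM (mb b) = ι₂ b - ι₁ b)
  (hθ : ∀ b, θ (KaehlerDifferential.D A B b) = l (mb b))

include hμ₁ hμ₂ hε hιM hker hmb in
theorem span_mb_eq_top : Submodule.span C (Set.range mb) = ⊤ := by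
  rw [eq_top_iff]
  intro m _
  have h1 : ιM m ∈ Ideal.span (Set.range fun b : B => ι₂ b - ι₁ b) :=
    ker_le_span ι₁ ι₂ μ hμ₁ hμ₂ ε hε (hker m)
  have h2 : (Set.range fun b : B => ι₂ b - ι₁ b) = ιM '' (Set.range mb) := by
    ext c
    constructor
    · rintro ⟨b, rfl⟩
      exact ⟨mb b, ⟨b, rfl⟩, hmb b⟩
    · rintro ⟨_, ⟨b, rfl⟩, rfl⟩
      exact ⟨b, (hmb b).symm⟩
  rw [h2, Ideal.span, ← Submodule.map_span] at h1
  obtain ⟨m', hm', he⟩ := h1
  rwa [← hιM he]

include hμ₁ hμ₂ hε hker hl in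
/-- a derivation factors through the base change of the kernel of the multiplication. -/
theorem exists_lift_der {Q : Type u} [AddCommGroup Q] [Module B Q] [Module A Q]
    [IsScalarTower A B Q] (E : Derivation A B Q) :
    ∃ ρ : N →ₗ[B] Q, ∀ m : M, ρ (l m) = E.tensorProductTo (ε.symm (ιM m)) := by
  letI : Algebra C B := μ.toAlgebra
  letI : Module C N := Module.compHom N μ
  haveI : IsScalarTower C B N := ⟨fun a a' n => by
    change (μ a * a') • n = μ a • a' • n
    exact mul_smul _ _ _⟩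
  obtain ⟨l', hl', hb⟩ := hl
  letI : Module C Q := Module.compHom _ μ
  haveI : IsScalarTower C B Q := ⟨fun a a' n => by
    change (μ a * a') • n = μ a • a' • n
    exact mul_smul _ _ _⟩
  have hcQ : ∀ (c : C) (n : Q), c • n = μ c • n := fun _ _ => rfl
  let g : M →ₗ[C] Q :=
    { toFun := fun m => E.tensorProductTo (ε.symm (ιM m))
      map_add' := fun m m' => by rw [map_add, map_add, map_add]
      map_smul' := fun c m => by
        rw [RingHom.id_apply, map_smul, smul_eq_mul, map_mul, Derivation.tensorProductTo_mul, hcQ]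
        have e1 : Algebra.TensorProduct.lmul' (S := B) A (ε.symm c) = μ c := by
          rw [← mu_eps ι₁ ι₂ μ hμ₁ hμ₂ ε hε, RingEquiv.apply_symm_apply]
        have e2 : Algebra.TensorProduct.lmul' (S := B) A (ε.symm (ιM m)) = 0 := by
          rw [← mu_eps ι₁ ι₂ μ hμ₁ hμ₂ ε hε, RingEquiv.apply_symm_apply, hker]
        rw [e1, e2, zero_smul, add_zero] }
  refine ⟨hb.lift g, fun m => ?_⟩
  rw [← hl', hb.lift_eq]
  rfl

include hμ₁ hμ₂ hε hιM hker hl hmb in
theorem range_le_of_mb (S : Submodule B N) (hS : ∀ b, l (mb b) ∈ S) : S = ⊤ := by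
  letI : Algebra C B := μ.toAlgebra
  letI : Module C N := Module.compHom N μ
  haveI : IsScalarTower C B N := ⟨fun a a' n => by
    change (μ a * a') • n = μ a • a' • n
    exact mul_smul _ _ _⟩
  obtain ⟨l', hl', hb⟩ := hl
  have hcN : ∀ (c : C) (n : N), c • n = μ c • n := fun _ _ => rfl
  rw [eq_top_iff]
  intro n _
  have key : ∀ m : M, l' m ∈ S := by
    intro m
    have hm : m ∈ Submodule.span C (Set.range mb) := by
      rw [span_mb_eq_top ι₁ ι₂ μ hμ₁ hμ₂ ε hε ιM hιM hker mb hmb]; trivial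
    induction hm using Submodule.span_induction with
    | mem x hx =>
      obtain ⟨b, rfl⟩ := hx
      rw [hl']
      exact hS b
    | zero => rw [map_zero]; exact zero_mem _
    | add x y _ _ hx hy => rw [map_add]; exact add_mem hx hy
    | smul c x _ hx =>
      rw [map_smul, hcN]
      exact Submodule.smul_mem _ _ hx
  exact hb.inductionOn n (fun n => n ∈ S) (zero_mem _) key
    (fun s n hn => Submodule.smul_mem _ s hn) (fun n₁ n₂ h₁ h₂ => add_mem h₁ h₂)

include hμ₁ hμ₂ hε hιM hker hl hmb hθ in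
/-- **the conormal module of the diagonal is the module of differentials** -/
theorem kaehler_bijective : Function.Bijective θ := by
  constructor
  · obtain ⟨ρ, hρ'⟩ := exists_lift_der ι₁ ι₂ μ hμ₁ hμ₂ ε hε ιM hker l hl (KaehlerDifferential.D A B)
    have hρ : ρ ∘ₗ θ = LinearMap.id := by
      apply Derivation.liftKaehlerDifferential_unique
      ext b
      change ρ (θ (KaehlerDifferential.D A B b)) = KaehlerDifferential.D A B b
      rw [hθ, hρ', hmb]
      have e3 : ε.symm (ι₂ b - ι₁ b) = (1 : B) ⊗ₜ[A] b - b ⊗ₜ[A] (1 : B) := by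
        rw [RingEquiv.symm_apply_eq, map_sub, hε, hε, map_one, map_one, one_mul, mul_one]
      rw [e3, map_sub, Derivation.tensorProductTo_tmul, Derivation.tensorProductTo_tmul, one_smul,
        Derivation.map_one_eq_zero, smul_zero, sub_zero]
    intro x y hxy
    have := congrArg ρ hxy
    change (ρ ∘ₗ θ) x = (ρ ∘ₗ θ) y at this
    rwa [hρ] at this
  · rw [← LinearMap.range_eq_top]
    apply range_le_of_mb ι₁ ι₂ μ hμ₁ hμ₂ ε hε ιM hιM hker l hl mb hmb
    intro b
    exact ⟨KaehlerDifferential.D A B b, hθ b⟩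

end K

end Groth.Agent.Lead.OmU
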