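import Mathlib
import Groth.Prelude.Def_Omega4
import Groth.Agent.Lib.Lead.OmU13b
import Groth.Agent.Lib.Lead.OmU13c
import Groth.Agent.Lib.Lead.BCU3
import Groth.Agent.Lib.Lead.IdM7
import Groth.Agent.Lib.Helper1.IdealModL

set_option autoImplicit false
universe u
open CategoryTheory CategoryTheory.Limits AlgebraicGeometry TopologicalSpace Opposite TensorProduct

set_option backward.isDefEq.respectTransparency.types false

namespace Groth.Agent.Lead.OmU

open OmegaSh Groth.Agent.Lead.DerU Groth.Agent.Lead.BCU Groth.Agent.Lead.IdM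
  Groth.Agent.Helper1.IdealModL

section DiagChart

variable {X Y : Scheme.{u}} (f : X ⟶ Y)
  {U : X.Opens} (hU : IsAffineOpen U) {V : Y.Opens} (hV : IsAffineOpen V) (e : U ≤ f ⁻¹ᵁ V)

include hU hV e in
theorem isAffineOpen_diagNbhd : IsAffineOpen (diagNbhd f U) := by
  haveI : IsAffine (V : Scheme) := hV
  haveI : IsAffine (U : Scheme) := hU
  exact .of_isIso
    (Scheme.Hom.isPullback_resLE (IsPullback.of_hasPullback f f) e e rfl).isoPullback.hom

include hU hV in
theorem isPushout_diagNbhd :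
    IsPushout (f.appLE V U e) (f.appLE V U e)
      ((pullback.fst f f).appLE U (diagNbhd f U) inf_le_left)
      ((pullback.snd f f).appLE U (diagNbhd f U) inf_le_right) :=
  (isIso_pushoutSection_iff (IsPullback.of_hasPullback f f) e e rfl).mp
    (isIso_pushoutSection_of_isAffineOpen (IsPullback.of_hasPullback f f) e e rfl hV hU hU)

include hU hV in
/-- the sections over the diagonal neighbourhood are the tensor product. -/
theorem exists_tensorEquiv :
    letI := (f.appLE V U e).hom.toAlgebra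
    ∃ ε : Γ(X, U) ⊗[Γ(Y, V)] Γ(X, U) ≃+* Γ(pullback f f, diagNbhd f U),
      ∀ a b : Γ(X, U), ε (a ⊗ₜ b) =
        ((pullback.fst f f).appLE U (diagNbhd f U) inf_le_left).hom a *
          ((pullback.snd f f).appLE U (diagNbhd f U) inf_le_right).hom b := by
  letI := (f.appLE V U e).hom.toAlgebra
  have tp := CommRingCat.isPushout_tensorProduct Γ(Y, V) Γ(X, U) Γ(X, U)
  have hpo := isPushout_diagNbhd f hU hV e
  let iso := tp.isoIsPushout _ _ hpo
  refine ⟨iso.commRingCatIsoToRingEquiv, fun a b => ?_⟩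
  have h1 : ∀ a : Γ(X, U), iso.hom (a ⊗ₜ[Γ(Y, V)] (1 : Γ(X, U))) =
      ((pullback.fst f f).appLE U (diagNbhd f U) inf_le_left).hom a := fun a =>
    congr($(tp.inl_isoIsPushout_hom _ _ hpo) a)
  have h2 : ∀ b : Γ(X, U), iso.hom ((1 : Γ(X, U)) ⊗ₜ[Γ(Y, V)] b) =
      ((pullback.snd f f).appLE U (diagNbhd f U) inf_le_right).hom b := fun b =>
    congr($(tp.inr_isoIsPushout_hom _ _ hpo) b)
  have h3 : a ⊗ₜ[Γ(Y, V)] b = (a ⊗ₜ[Γ(Y, V)] (1 : Γ(X, U))) * ((1 : Γ(X, U)) ⊗ₜ[Γ(Y, V)] b) := by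
    rw [Algebra.TensorProduct.tmul_mul_tmul, mul_one, one_mul]
  change iso.hom (a ⊗ₜ[Γ(Y, V)] b) = _
  rw [h3, map_mul, h1, h2]

end DiagChart

section GoodChart

variable {X Y : Scheme.{u}} (f : X ⟶ Y) [QuasiSeparated f]
  {U : X.Opens} (hU : IsAffineOpen U) {V : Y.Opens} (hV : IsAffineOpen V) (e : U ≤ f ⁻¹ᵁ V)

theorem retr_appLE (p : pullback f f ⟶ X) (hp : pullback.diagonal f ≫ p = 𝟙 X)
    (ep : diagNbhd f U ≤ p ⁻¹ᵁ U) (b : Γ(X, U)) :
    ((pullback.diagonal f).appLE (diagNbhd f U) U (le_preimage_diagNbhd f U)).hom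
      ((p.appLE U (diagNbhd f U) ep).hom b) = b := by
  have h : p.appLE U (diagNbhd f U) ep ≫
      (pullback.diagonal f).appLE (diagNbhd f U) U (le_preimage_diagNbhd f U) = 𝟙 _ := by
    rw [Scheme.Hom.appLE_comp_appLE]
    exact id_appLE_eq_id hp _
  exact congr($h b)

include hU hV in
/-- **on an affine chart the frozen sheaf of differentials is the module of differentials** -/
theorem good_dOmega : Good (dOmega f) ⟨U, V, e⟩ := by
  unfold Good
  letI := (f.appLE V U e).hom.toAlgebra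
  have hW := isAffineOpen_diagNbhd f hU hV e
  obtain ⟨ε, hε⟩ := exists_tensorEquiv f hU hV e
  have eΔ : U ≤ pullback.diagonal f ⁻¹ᵁ diagNbhd f U := le_preimage_diagNbhd f U
  refine kaehler_bijective
    ((pullback.fst f f).appLE U (diagNbhd f U) inf_le_left).hom
    ((pullback.snd f f).appLE U (diagNbhd f U) inf_le_right).hom
    ((pullback.diagonal f).appLE (diagNbhd f U) U eΔ).hom
    (retr_appLE f _ (pullback.diagonal_fst f) _) (retr_appLE f _ (pullback.diagonal_snd f) _) ε hε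
    (ιL (pullback.diagonal f).ker (diagNbhd f U)) (ιL_injective _ _) ?_
    (unitRes (pullback.diagonal f) (ClSub.idealMod (pullback.diagonal f).ker) eΔ)
    (isBC_unitRes (pullback.diagonal f) (ClSub.idealMod (pullback.diagonal f).ker) hW hU eΔ)
    (chartLin (dOmega f) e) (idealLift f U) ?_ ?_
  · intro m
    have hm : ιL (pullback.diagonal f).ker (diagNbhd f U) m ∈
        (pullback.diagonal f).ker.ideal ⟨diagNbhd f U, hW⟩ := by
      rw [← range_ιL (pullback.diagonal f).ker ⟨diagNbhd f U, hW⟩]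
      exact ⟨m, rfl⟩
    rw [Scheme.Hom.ker_apply, RingHom.mem_ker] at hm
    change (X.presheaf.map (homOfLE eΔ).op).hom
      (((pullback.diagonal f).app (diagNbhd f U)).hom _) = 0
    rw [hm, map_zero]
  · intro b
    rw [ιL_apply, ι_idealLift]
    rfl
  · intro b
    exact chartLin_D (dOmega f) e b

/-- **the canonical derivation into the frozen sheaf of differentials is universal** -/
theorem isUniversal_dOmega : IsUniversal (dOmega f) := by
  apply isUniversal_of_good
  intro x O hx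
  obtain ⟨_, ⟨V, hV, rfl⟩, hxV, -⟩ := Y.isBasis_affineOpens.exists_subset_of_mem_open
    (Set.mem_univ (f x)) isOpen_univ
  obtain ⟨_, ⟨U, hU, rfl⟩, hxU, hUV⟩ := X.isBasis_affineOpens.exists_subset_of_mem_open
    (show x ∈ ((f ⁻¹ᵁ V ⊓ O : X.Opens) : Set X) from ⟨hxV, hx⟩) (f ⁻¹ᵁ V ⊓ O).2
  exact ⟨⟨U, V, fun y hy => (hUV hy).1⟩, hxU, fun y hy => (hUV hy).2,
    good_dOmega f hU hV _⟩

end GoodChart

end Groth.Agent.Lead.OmU
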