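import Mathlib
import Groth.Prelude
import Groth.Agent.Lib.Lead.OmSm9
import Groth.Agent.Lib.Lead.OmU13d
import Groth.Agent.Lib.Lead.FLF6
import Groth.Agent.Lib.Helper4.DimFT4
import Groth.Agent.Lib.Helper2.AlgSp.FibreDimField
import Groth.Agent.Lib.Helper2.Sch.SmoothOmegaRank

set_option autoImplicit false
set_option backward.isDefEq.respectTransparency.types false
set_option synthInstance.maxHeartbeats 400000
set_option linter.style.haveILetI false
set_option linter.unusedSectionVars false
universe u

open CategoryTheory CategoryTheory.Limits AlgebraicGeometry IsLocalRing Topology TopologicalSpace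
open TensorProduct

namespace Groth.Agent.Lead.OmSm

open OmegaSh Groth.Agent.Lead.OmU Groth.Agent.Lead.FLF

/-- the local dimension of an irreducible scheme of finite type over a field is its dimension -/
theorem localDim_eq_dim_of_irreducible (k : Type u) [Field k] {X : Scheme.{u}}
    (qX : X ⟶ Spec (CommRingCat.of k)) [LocallyOfFiniteType qX] [IrreducibleSpace X] (x : X) :
    FlatMor.localDim X x = topologicalKrullDim X := by
  letI : X.Over (Spec (CommRingCat.of k)) := ⟨qX⟩
  haveI : LocallyOfFiniteType (X ↘ (Spec (CommRingCat.of k))) := ‹LocallyOfFiniteType qX›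
  unfold FlatMor.localDim
  apply le_antisymm
  · exact iInf_le_of_le ⟨⊤, trivial⟩ (by
      exact (Groth.Agent.Lib.Helper4.DimFT4.S1618_main k X ⊤ ⟨x, trivial⟩).le)
  · refine le_iInf fun U => ?_
    exact (Groth.Agent.Lib.Helper4.DimFT4.S1618_main k X U.1 ⟨x, U.2⟩).ge

/-- on a smooth irreducible variety the differentials are locally free of rank the dimension -/
theorem isFinLocFreeOfRank_omega_of_smooth (k : Type u) [Field k] {X : Scheme.{u}}
    (qX : X ⟶ Spec (CommRingCat.of k)) [Smooth qX] [QuasiSeparated qX] [IrreducibleSpace X]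
    (d : ℕ) (hd : topologicalKrullDim X = d) :
    FlatMod.IsFinLocFreeOfRank d (Omega.sheaf qX) := by
  intro x
  obtain ⟨U, m, hxU, he, hm⟩ := Groth.Agent.Helper2.SmoothRelDim.S5019_main qX (Omega.sheaf qX)
    (dOmega qX) (isUniversal_dOmega qX) x
  haveI : Subsingleton ↥(Spec (CommRingCat.of k)) :=
    inferInstanceAs (Subsingleton (PrimeSpectrum k))
  rw [Groth.Agent.Helper2.FibreDimField.fibreDimAt_eq_localDim_of_subsingleton,
    localDim_eq_dim_of_irreducible k qX, hd] at hm
  have : d = m := by exact_mod_cast hm
  subst this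
  exact ⟨U, hxU, he⟩

end Groth.Agent.Lead.OmSm
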