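import Mathlib
import Groth.Agent.Lib.Lead.ODiv1
import Groth.Agent.Lib.Helper1.VT13
import Groth.Agent.Lib.Helper1.VT16
import Groth.Agent.Lib.Helper1.PnVA
import Groth.Agent.Lib.Helper1.InvQc
import Groth.Agent.Lib.Helper1.TwistExt2
import Groth.Agent.Lib.Helper1.SymU5
import Groth.Prelude.Def_MoreMor

set_option autoImplicit false
set_option backward.isDefEq.respectTransparency.types false
set_option synthInstance.maxHeartbeats 400000
set_option linter.style.haveILetI false
set_option linter.unusedSectionVars false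
universe u
open CategoryTheory CategoryTheory.Limits AlgebraicGeometry TopologicalSpace Opposite

namespace Groth.Agent.Lead.ODiv

open Groth.Agent.Helper1 Groth.Agent.Helper1.QcCech Groth.Agent.Helper1.LGen
open Groth.Agent.Helper1.VT Groth.Agent.Helper1.TmulLib Groth.Agent.Helper1.TwistSec
open Groth.Agent.Helper1.TwForm Groth.Agent.Helper1.AmpleLib

variable {X : Scheme.{u}}

theorem genLocus_secHom_eq (I : X.IdealSheafData) (hI : BlowUp.IsEffCartierIdeal I) :
    CohB1.genLocus (OD I) (secHom I) = I.support.compl := by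
  ext z
  change z ∈ CohB1.genLocus (OD I) (secHom I) ↔ z ∈ (I.support : Set X)ᶜ
  rw [mem_genLocus_secHom_iff I hI]
  rfl

/-- a section of an invertible module over the complement of an effective Cartier divisor becomes
a global section of an invertible module, with the same locus of generation, after twisting -/
theorem exists_section_of_compl (I : X.IdealSheafData) (hI : BlowUp.IsEffCartierIdeal I)
    [CompactSpace X] [QuasiSeparatedSpace X] (F : X.Modules) (hF : PicF.IsInvertible F)
    (m : Γ(F, I.support.compl)) :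
    ∃ (M : X.Modules) (σ : Γ(M, ⊤)), PicF.IsInvertible M ∧ gl M σ = gl F m := by
  have hOD := isInvertible_OD I hI
  have hW := genLocus_secHom_eq I hI
  set G₀ := CohB1.genLocus (OD I) (secHom I) with hG₀
  let t : Γ(F, G₀) := res F (le_of_eq hW) m
  have hglt : gl F t = gl F m := by
    rw [gl_res]
    exact inf_eq_left.mpr ((gl_le F m).trans (le_of_eq hW.symm))
  haveI : F.IsQuasicoherent := InvQc.isQuasicoherent_of_isInvertible F hF
  obtain ⟨n₀, h⟩ := exists_twist_extends_ge hOD (secHom I) F t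
  obtain ⟨t', ht'⟩ := h n₀ le_rfl
  have hODn : PicF.IsInvertible (CohB1.tensorPow (OD I) n₀) := isInvertible_tensorPow hOD n₀
  have hA : PicF.IsInvertible (CohB1.tensorMod F (CohB1.tensorPow (OD I) n₀)) :=
    isInvertible_tensorMod hF hODn
  refine ⟨CohB1.tensorMod (CohB1.tensorMod F (CohB1.tensorPow (OD I) n₀)) (OD I),
    tm _ (OD I) ⊤ t' (sec I), isInvertible_tensorMod hA hOD, ?_⟩
  rw [gl_tm hA hOD]
  have h1 : gl (OD I) (sec I) = G₀ := PnVA.gl_top_eq_genLocus (OD I) (sec I)
  rw [h1, ← gl_res _ (le_top : G₀ ≤ ⊤) t', ht', twist_eq, gl_tm hF hODn, hglt]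
  have h2 : gl (CohB1.tensorPow (OD I) n₀) (gpow (secVal (secHom I) G₀) n₀) = G₀ := by
    apply le_antisymm (gl_le _ _)
    apply le_gl _ _ le_rfl
    rw [res_self]
    exact isGen_gpow (isGen_secVal (secHom I) le_rfl) n₀
  rw [h2]
  exact inf_eq_left.mpr ((gl_le F m).trans (le_of_eq hW.symm))

theorem S1500_main {X : Scheme.{u}} {m : ℕ} (D : Fin m → X.IdealSheafData)
    (hD : ∀ i, BlowUp.IsEffCartierIdeal (D i)) (hcap : ⋂ i, ((D i).support : Set ↑X) = ∅)
    (L : Fin m → X.Modules) (hL : ∀ i, PicF.IsInvertible (L i))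
    (hamp : ∀ i, CohB1.IsAmple ((L i).restrict (Scheme.Opens.ι (D i).support.compl))) :
    MoreMor.HasAmpleFamily X := by
  have hcov : ∀ x : X, ∃ i, x ∈ (D i).support.compl := by
    intro x
    by_contra hx
    simp only [not_exists] at hx
    have : x ∈ ⋂ i, ((D i).support : Set ↑X) := by
      rw [Set.mem_iInter]
      intro i
      by_contra hxi
      exact hx i hxi
    rw [hcap] at this
    exact this
  have hcompact : ∀ i, IsCompact (((D i).support.compl : X.Opens) : Set X) := fun i =>
    isCompact_iff_compactSpace.mpr (hamp i).2.1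
  haveI hX : CompactSpace X := by
    constructor
    have h1 : (Set.univ : Set X) = ⋃ i, (((D i).support.compl : X.Opens) : Set X) := by
      ext x
      simp only [Set.mem_univ, Set.mem_iUnion, true_iff]
      exact hcov x
    rw [h1]
    exact isCompact_iUnion hcompact
  haveI hqs : QuasiSeparatedSpace X := by
    rw [quasiSeparatedSpace_iff_forall_affineOpens]
    intro U V
    have hUV : (U ∩ V : Set X) =
        ⋃ i, (((U.1 ⊓ (D i).support.compl : X.Opens) : Set X) ∩
          ((V.1 ⊓ (D i).support.compl : X.Opens) : Set X)) := by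
      ext x
      simp only [Set.mem_inter_iff, SetLike.mem_coe, Set.mem_iUnion, Opens.coe_inf]
      constructor
      · rintro ⟨hxU, hxV⟩
        obtain ⟨i, hi⟩ := hcov x
        exact ⟨i, ⟨hxU, hi⟩, ⟨hxV, hi⟩⟩
      · rintro ⟨i, ⟨hxU, -⟩, ⟨hxV, -⟩⟩
        exact ⟨hxU, hxV⟩
    rw [hUV]
    apply isCompact_iUnion
    intro i
    haveI := Groth.Agent.Helper4.EffCartier.isAffineHom_compl (hD i)
    have haffU : IsAffineOpen (U.1 ⊓ (D i).support.compl) := by
      have h1 : IsAffineOpen ((Scheme.Opens.ι (X := X) (D i).support.compl) ⁻¹ᵁ U.1) := U.2.preimage (Scheme.Opens.ι (X := X) (D i).support.compl)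
      have h2 := h1.image_of_isOpenImmersion (Scheme.Opens.ι (X := X) (D i).support.compl)
      rwa [Scheme.Hom.image_preimage_eq_opensRange_inf, Scheme.Opens.opensRange_ι, inf_comm] at h2
    have haffV : IsAffineOpen (V.1 ⊓ (D i).support.compl) := by
      have h1 : IsAffineOpen ((Scheme.Opens.ι (X := X) (D i).support.compl) ⁻¹ᵁ V.1) := V.2.preimage (Scheme.Opens.ι (X := X) (D i).support.compl)
      have h2 := h1.image_of_isOpenImmersion (Scheme.Opens.ι (X := X) (D i).support.compl)
      rwa [Scheme.Hom.image_preimage_eq_opensRange_inf, Scheme.Opens.opensRange_ι, inf_comm] at h2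
    haveI : QuasiSeparatedSpace ↥((D i).support.compl : X.Opens) :=
      quasiSeparatedSpace_of_isAmple (hamp i)
    have hqsi : IsQuasiSeparated (((D i).support.compl : X.Opens) : Set X) :=
      (isQuasiSeparated_iff_quasiSeparatedSpace _ ((D i).support.compl : X.Opens).isOpen).2
        inferInstance
    exact hqsi _ _ (fun y hy => hy.2) (U.1 ⊓ (D i).support.compl).isOpen haffU.isCompact
      (fun y hy => hy.2) (V.1 ⊓ (D i).support.compl).isOpen haffV.isCompact
  refine ⟨hX, fun x => ?_⟩
  obtain ⟨i, hxW⟩ := hcov x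
  obtain ⟨n, s, hxs, haff⟩ := (hamp i).2.2 ⟨x, hxW⟩
  obtain ⟨m', hm'⟩ := SymInvLocU.exists_section_of_restrict (hL i) (D i).support.compl (n + 1) s
  obtain ⟨M, σ, hM, hσ⟩ := exists_section_of_compl (D i) (hD i) (CohB1.tensorPow (L i) (n + 1))
    (isInvertible_tensorPow (hL i) (n + 1)) m'
  obtain ⟨e⟩ := VT.nonempty_unit_tensorMod_iso M
  have hgl : CohB1.genLocus (CohB1.tensorPow M 1) (TwistAmple.homOfSec M σ ≫ e.inv) =
      (Scheme.Opens.ι (X := X) (D i).support.compl) ''ᵁ (CohB1.genLocus _ s) := by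
    have h1 : CohB1.genLocus (CohB1.tensorPow M 1) (TwistAmple.homOfSec M σ ≫ e.inv) =
        CohB1.genLocus M (TwistAmple.homOfSec M σ) :=
      TwistAmple.genLocus_comp_iso (TwistAmple.homOfSec M σ) e.symm
    rw [h1, ← PnVA.gl_top_eq_genLocus, hσ, hm']
  refine ⟨M, 1, TwistAmple.homOfSec M σ ≫ e.inv, hM, le_rfl, ?_, ?_⟩
  · rw [hgl]
    exact ⟨⟨x, hxW⟩, hxs, rfl⟩
  · rw [hgl]
    exact haff.image_of_isOpenImmersion _

end Groth.Agent.Lead.ODiv
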