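import Mathlib
import Groth.Agent.S8875
import Groth.Agent.S8872
import Groth.Agent.Lib.Helper4.Fitting13

/-!
# The locally free locus of given rank via Fitting ideals (lead)
-/

set_option autoImplicit false
universe u
open CategoryTheory CategoryTheory.Limits AlgebraicGeometry TopologicalSpace
set_option backward.isDefEq.respectTransparency.types false

namespace Groth.Agent.Lead.FittStrat

open Groth.Agent.Lead.FittSh

variable {X : Scheme.{u}} (F : X.Modules) [F.IsQuasicoherent]

theorem sheafIdeal_mono (hF : CohB1.IsFT F) {k k' : ℕ} (h : k ≤ k') :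
    Fitt.sheafIdeal F k ≤ Fitt.sheafIdeal F k' := by
  rw [Scheme.IdealSheafData.le_def]
  intro U
  rw [sheafIdeal_ideal F hF k U, sheafIdeal_ideal F hF k' U]
  exact Groth.Agent.Helper4.Fitting.ideal_mono h

/-- the ideal sheaf which must vanish on the locus of rank `r` -/
noncomputable def lowIdeal (r : ℕ) : X.IdealSheafData :=
  if r = 0 then ⊥ else Fitt.sheafIdeal F (r - 1)

/-- **local freeness of rank `r` of a pullback in terms of two Fitting ideals** -/
theorem isFinLocFreeOfRank_pullback_iff (hF : CohB1.IsFT F) (r : ℕ) {T : Scheme.{u}} (f : T ⟶ X) :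
    FlatMod.IsFinLocFreeOfRank r ((Scheme.Modules.pullback f).obj F) ↔
      (lowIdeal F r).comap f = ⊥ ∧ (Fitt.sheafIdeal F r).comap f = ⊤ := by
  haveI hq : ((Scheme.Modules.pullback f).obj F).IsQuasicoherent :=
    Groth.Agent.Lead.PB.isQuasicoherent_pullback f F
  have hft := Groth.Agent.Lead.PB.isFT_pullback f F hF
  rw [Groth.Agent.S8875.result T _ hq hft r]
  have hcomap : ∀ k, Fitt.sheafIdeal ((Scheme.Modules.pullback f).obj F) k =
      (Fitt.sheafIdeal F k).comap f :=
    fun k => (Groth.Agent.S8872.result f F ‹_› hF k).symm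
  constructor
  · rintro ⟨h1, h2⟩
    refine ⟨?_, ?_⟩
    · unfold lowIdeal
      split_ifs with hr
      · exact Scheme.IdealSheafData.comap_bot f
      · rw [← hcomap]
        exact h1 (r - 1) (by omega)
    · rw [← hcomap]
      exact h2 r le_rfl
  · rintro ⟨h1, h2⟩
    refine ⟨?_, ?_⟩
    · intro k hk
      rw [hcomap, ← le_bot_iff, ← h1]
      apply Scheme.IdealSheafData.comap_mono
      unfold lowIdeal
      rw [if_neg (by omega)]
      exact sheafIdeal_mono F hF (by omega)
    · intro k hk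
      rw [hcomap, ← top_le_iff, ← h2]
      apply Scheme.IdealSheafData.comap_mono
      exact sheafIdeal_mono F hF hk

section Imm

/-- the locally closed subscheme `V(𝓐) ∖ V(𝓑)` and its universal property -/
theorem exists_immersion_of_ideals' {X : Scheme.{u}} (𝓐 𝓑 : X.IdealSheafData) :
    ∃ (Z : Scheme.{u}) (i : Z ⟶ X), IsImmersion i ∧ (∀ (T : Scheme.{u}) (f : T ⟶ X),
      (∃ g : T ⟶ Z, g ≫ i = f) ↔ (𝓐.comap f = ⊥ ∧ 𝓑.comap f = ⊤)) ∧
      (𝓑 = ⊤ → IsClosedImmersion i) := by
  let U : X.Opens := 𝓑.support.compl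
  refine ⟨pullback 𝓐.subschemeι U.ι, pullback.fst _ _ ≫ 𝓐.subschemeι, inferInstance, ?_, ?_⟩
  swap
  · intro hB
    have hU : U = ⊤ := by
      ext x
      simp only [U, hB, Scheme.IdealSheafData.support_top]
      simp
    haveI : IsIso U.ι := by
      rw [hU]
      exact (Scheme.topIso X).isIso_hom
    infer_instance
  intro T f
  constructor
  · rintro ⟨g, rfl⟩
    refine ⟨?_, ?_⟩
    · rw [← le_bot_iff]
      apply Scheme.IdealSheafData.le_map_iff_comap_le.1
      rw [Scheme.IdealSheafData.map_bot]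
      have h1 : 𝓐 = 𝓐.subschemeι.ker := (Scheme.IdealSheafData.ker_subschemeι 𝓐).symm
      rw [← Category.assoc]
      conv_lhs => rw [h1]
      exact Scheme.Hom.le_ker_comp _ _
    · rw [← Scheme.IdealSheafData.support_eq_bot_iff, Scheme.IdealSheafData.support_comap]
      ext t
      simp only [TopologicalSpace.Closeds.coe_preimage, Set.mem_preimage, SetLike.mem_coe,
        TopologicalSpace.Closeds.coe_bot, Set.mem_empty_iff_false, iff_false]
      intro ht
      have h2 : (g ≫ pullback.fst 𝓐.subschemeι U.ι ≫ 𝓐.subschemeι) t =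
          U.ι ((g ≫ pullback.snd 𝓐.subschemeι U.ι) t) := by
        rw [pullback.condition]
        rfl
      have h3 : U.ι ((g ≫ pullback.snd 𝓐.subschemeι U.ι) t) ∈ U :=
        ((g ≫ pullback.snd 𝓐.subschemeι U.ι) t).2
      rw [← h2] at h3
      exact h3 ht
  · rintro ⟨h1, h2⟩
    have hk : 𝓐.subschemeι.ker ≤ f.ker := by
      rw [Scheme.IdealSheafData.ker_subschemeι, ← Scheme.IdealSheafData.map_bot]
      apply Scheme.IdealSheafData.le_map_iff_comap_le.2
      rw [h1]
    have hr : Set.range f ⊆ Set.range U.ι := by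
      rw [Scheme.Opens.range_ι]
      rintro _ ⟨t, rfl⟩
      intro ht
      have h3 : t ∈ ((𝓑.comap f).support : Set T) := by
        rw [Scheme.IdealSheafData.support_comap]
        exact ht
      rw [h2, Scheme.IdealSheafData.support_top] at h3
      exact h3
    refine ⟨pullback.lift (IsClosedImmersion.lift 𝓐.subschemeι f hk)
      (IsOpenImmersion.lift U.ι f hr) ?_, ?_⟩
    · rw [IsClosedImmersion.lift_fac, IsOpenImmersion.lift_fac]
    · rw [← Category.assoc, pullback.lift_fst, IsClosedImmersion.lift_fac]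

/-- the locally closed subscheme `V(𝓐) ∖ V(𝓑)` and its universal property -/
theorem exists_immersion_of_ideals {X : Scheme.{u}} (𝓐 𝓑 : X.IdealSheafData) :
    ∃ (Z : Scheme.{u}) (i : Z ⟶ X), IsImmersion i ∧ ∀ (T : Scheme.{u}) (f : T ⟶ X),
      (∃ g : T ⟶ Z, g ≫ i = f) ↔ (𝓐.comap f = ⊥ ∧ 𝓑.comap f = ⊤) := by
  obtain ⟨Z, i, hi, h, -⟩ := exists_immersion_of_ideals' 𝓐 𝓑
  exact ⟨Z, i, hi, h⟩

end Imm

end Groth.Agent.Lead.FittStrat
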