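import Mathlib
import Groth.Agent.Lib.Lead.LimZ3
import Groth.Agent.Lib.Lead.FittStrat
import Groth.Agent.S8873

/-!
# Ideal sheaves and local freeness of given rank in a cofiltered limit of schemes (lead)
-/

set_option autoImplicit false
universe u
open CategoryTheory CategoryTheory.Limits AlgebraicGeometry TopologicalSpace
set_option backward.isDefEq.respectTransparency.types false

namespace Groth.Agent.Lead.LimZ

section Ideals

variable {I : Type u} [SmallCategory I] [IsCofiltered I] (D : I ⥤ Scheme.{u}) (c : Cone D)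
  (hc : IsLimit c) [∀ (i j : I) (f : i ⟶ j), IsAffineHom (D.map f)] (i₀ : I)

include hc in
/-- an ideal sheaf on a quasi-compact stage whose inverse image on the limit is the unit ideal has
unit inverse image at some later stage -/
theorem exists_comap_eq_top [CompactSpace (D.obj i₀)] (𝓑 : (D.obj i₀).IdealSheafData)
    (h : 𝓑.comap (c.π.app i₀) = ⊤) : ∃ (j : I) (φ : j ⟶ i₀), 𝓑.comap (D.map φ) = ⊤ := by
  let D' : Over i₀ ⥤ Scheme.{u} := Over.forget i₀ ⋙ D
  haveI : ∀ {a b : Over i₀} (f : a ⟶ b), IsAffineHom (D'.map f) := by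
    intro a b f; dsimp [D']; infer_instance
  haveI : ∀ a : Over i₀, CompactSpace (D'.obj a) := by
    intro a
    exact QuasiCompact.compactSpace_of_compactSpace (D.map a.hom)
  have hc' := (Functor.Initial.isLimitWhiskerEquiv (Over.forget i₀) c).symm hc
  let U : (D.obj i₀).Opens := 𝓑.support.compl
  have key : ∀ {T : Scheme.{u}} (f : T ⟶ D.obj i₀), 𝓑.comap f = ⊤ ↔ f ⁻¹ᵁ U = ⊤ := by
    intro T f
    rw [← Scheme.IdealSheafData.support_eq_bot_iff, Scheme.IdealSheafData.support_comap]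
    constructor
    · intro h1
      ext t
      simp only [TopologicalSpace.Opens.map_coe, Set.mem_preimage, SetLike.mem_coe,
        TopologicalSpace.Opens.coe_top, Set.mem_univ, iff_true]
      intro ht
      have : t ∈ ((𝓑.support.preimage f.continuous : Closeds T) : Set T) := ht
      rw [h1] at this
      exact this
    · intro h1
      ext t
      simp only [TopologicalSpace.Closeds.coe_preimage, Set.mem_preimage, SetLike.mem_coe,
        TopologicalSpace.Closeds.coe_bot, Set.mem_empty_iff_false, iff_false]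
      intro ht
      have h2 : t ∈ f ⁻¹ᵁ U := by rw [h1]; trivial
      exact h2 ht
  have hU' : (c.whisker (Over.forget i₀)).π.app (Over.mk (𝟙 i₀)) ⁻¹ᵁ U = ⊤ := (key _).1 h
  obtain ⟨j, fji, hj⟩ := exists_map_eq_top D' _ hc' (i := Over.mk (𝟙 i₀)) U hU'
  exact ⟨j.left, fji.left, (key _).2 hj⟩

/-- the vanishing condition at stage `k` for the ideal over `W` -/
def KillAt (𝓐 : (D.obj i₀).IdealSheafData) (k : Over i₀) (W : (D.obj i₀).affineOpens) : Prop :=
  ∀ g ∈ 𝓐.ideal W, (D.map k.hom).appLE W.1 (D.map k.hom ⁻¹ᵁ W.1) le_rfl g = 0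

omit [IsCofiltered I] [∀ (i j : I) (f : i ⟶ j), IsAffineHom (D.map f)] in
theorem killAt_mono (𝓐 : (D.obj i₀).IdealSheafData) {j k : Over i₀} (f : k ⟶ j)
    (W : (D.obj i₀).affineOpens) (h : KillAt D i₀ 𝓐 j W) : KillAt D i₀ 𝓐 k W := by
  intro g hg
  have e1 : D.map f.left ≫ D.map j.hom = D.map k.hom := by rw [← D.map_comp, Over.w f]
  rw [← appLE_comp_eq (D.map f.left) (D.map j.hom) (D.map k.hom) e1 le_rfl
    (le_map D i₀ W.1 f) le_rfl g, h g hg, map_zero]

include hc in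
theorem exists_killAt (𝓐 : (D.obj i₀).IdealSheafData) (W : (D.obj i₀).affineOpens)
    (hfg : (𝓐.ideal W).FG) (h : 𝓐.comap (c.π.app i₀) = ⊥) : ∃ k, KillAt D i₀ 𝓐 k W := by
  classical
  haveI : ∀ {i j : I} (f : i ⟶ j), IsAffineHom (D.map f) := fun f => inferInstance
  haveI : IsAffineHom (c.π.app i₀) := isAffineHom_π_app D c hc i₀
  obtain ⟨T, hT⟩ := hfg
  have hWc : IsAffineOpen (c.π.app i₀ ⁻¹ᵁ W.1) := W.2.preimage _
  have h1 : ∀ g ∈ T, ∃ k : Over i₀,
      (D.map k.hom).appLE W.1 (D.map k.hom ⁻¹ᵁ W.1) le_rfl g = 0 := by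
    intro g hg
    have hg' : g ∈ 𝓐.ideal W := by rw [← hT]; exact Ideal.subset_span hg
    have h2 : (c.π.app i₀).appLE W.1 (c.π.app i₀ ⁻¹ᵁ W.1) le_rfl g = 0 := by
      have h3 := Groth.Agent.Helper4.IdealComap.ideal_comap_eq_map (c.π.app i₀) 𝓐
        ⟨c.π.app i₀ ⁻¹ᵁ W.1, hWc⟩ W le_rfl
      rw [h, Scheme.IdealSheafData.ideal_bot] at h3
      have h4 : (c.π.app i₀).appLE W.1 (c.π.app i₀ ⁻¹ᵁ W.1) le_rfl g ∈
          (𝓐.ideal W).map ((c.π.app i₀).appLE W.1 (c.π.app i₀ ⁻¹ᵁ W.1) le_rfl).hom :=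
        Ideal.mem_map_of_mem _ hg'
      rw [← h3] at h4
      exact h4
    rw [← Scheme.Hom.app_eq_appLE] at h2
    obtain ⟨j, f, hf⟩ := exists_app_map_eq_zero_of_isLimit D c hc W.2.isCompact g h2
    refine ⟨Over.mk f, ?_⟩
    rw [← Scheme.Hom.app_eq_appLE]
    exact hf
  obtain ⟨k, hk⟩ := exists_common
    (fun (k : Over i₀) (g : Γ(D.obj i₀, W.1)) =>
      (D.map k.hom).appLE W.1 (D.map k.hom ⁻¹ᵁ W.1) le_rfl g = 0)
    (fun {j k} f g hg => by
      have e1 : D.map f.left ≫ D.map j.hom = D.map k.hom := by rw [← D.map_comp, Over.w f]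
      rw [← appLE_comp_eq (D.map f.left) (D.map j.hom) (D.map k.hom) e1 le_rfl
        (le_map D i₀ W.1 f) le_rfl g, hg, map_zero]) T h1
  refine ⟨k, ?_⟩
  intro g hg
  rw [← hT] at hg
  have hle : Ideal.span (T : Set Γ(D.obj i₀, W.1)) ≤
      RingHom.ker ((D.map k.hom).appLE W.1 (D.map k.hom ⁻¹ᵁ W.1) le_rfl).hom := by
    rw [Ideal.span_le]
    intro x hx
    exact hk x hx
  exact hle hg

include hc in
/-- an ideal sheaf of finite type on a quasi-compact stage whose inverse image on the limit is zero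
has zero inverse image at some later stage -/
theorem exists_comap_eq_bot [CompactSpace (D.obj i₀)] (𝓐 : (D.obj i₀).IdealSheafData)
    (hft : ∀ U : (D.obj i₀).affineOpens, (𝓐.ideal U).FG)
    (h : 𝓐.comap (c.π.app i₀) = ⊥) : ∃ (j : I) (φ : j ⟶ i₀), 𝓐.comap (D.map φ) = ⊥ := by
  classical
  haveI : ∀ {i j : I} (f : i ⟶ j), IsAffineHom (D.map f) := fun f => inferInstance
  obtain ⟨S, hSfin, hScov⟩ := (isCompact_iff_finite_and_eq_biUnion_affineOpens
    (X := D.obj i₀) (U := ⊤)).1 isCompact_univ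
  obtain ⟨k, hk⟩ := exists_common
    (fun (k : Over i₀) (W : (D.obj i₀).affineOpens) => KillAt D i₀ 𝓐 k W)
    (fun f W h => killAt_mono D i₀ 𝓐 f W h) hSfin.toFinset
    (fun W _ => exists_killAt D c hc i₀ 𝓐 W (hft W) h)
  refine ⟨k.left, k.hom, ?_⟩
  refine Scheme.IdealSheafData.ext_of_iSup_eq_top
    (fun W : S => (⟨D.map k.hom ⁻¹ᵁ W.1.1, W.1.2.preimage (D.map k.hom)⟩ :
      (D.obj k.left).affineOpens)) ?_ (fun W => ?_)
  · rw [eq_top_iff]
    intro x _
    have hx : (D.map k.hom) x ∈ (⊤ : (D.obj i₀).Opens) := trivial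
    rw [hScov] at hx
    simp only [TopologicalSpace.Opens.mem_iSup] at hx
    obtain ⟨W, hWS, hxW⟩ := hx
    exact TopologicalSpace.Opens.mem_iSup.2 ⟨⟨W, hWS⟩, hxW⟩
  · rw [Groth.Agent.Helper4.IdealComap.ideal_comap_eq_map (D.map k.hom) 𝓐 _ W.1 le_rfl,
      Scheme.IdealSheafData.ideal_bot, Pi.bot_apply]
    rw [Ideal.map_eq_bot_iff_le_ker]
    intro g hg
    exact hk W.1 (hSfin.mem_toFinset.2 W.2) g hg

end Ideals

section LocFree

open Groth.Agent.Lead.FittStrat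

variable {I : Type u} [SmallCategory I] [IsCofiltered I] (D : I ⥤ Scheme.{u}) (c : Cone D)
  (hc : IsLimit c) [∀ (i j : I) (f : i ⟶ j), IsAffineHom (D.map f)] (i₀ : I)

include hc in
theorem isFinLocFreeOfRank_pullback_iff_eventually [CompactSpace (D.obj i₀)]
    (F₀ : (D.obj i₀).Modules) [F₀.IsQuasicoherent] (hF₀fp : CohB1.IsFP F₀) (n : ℕ) :
    FlatMod.IsFinLocFreeOfRank n ((Scheme.Modules.pullback (c.π.app i₀)).obj F₀) ↔
      ∃ (j : I) (φ : j ⟶ i₀),
        FlatMod.IsFinLocFreeOfRank n ((Scheme.Modules.pullback (D.map φ)).obj F₀) := by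
  have hft : CohB1.IsFT F₀ := by
    haveI : SheafOfModules.IsFinitePresentation (R := (D.obj i₀).ringCatSheaf) F₀ := hF₀fp
    exact (inferInstance : SheafOfModules.IsFiniteType (R := (D.obj i₀).ringCatSheaf) F₀)
  have hlow : ∀ U : (D.obj i₀).affineOpens, ((lowIdeal F₀ n).ideal U).FG := by
    intro U
    unfold lowIdeal
    split_ifs with hn
    · rw [Scheme.IdealSheafData.ideal_bot, Pi.bot_apply]
      exact Submodule.fg_bot
    · exact Groth.Agent.S8873.result (D.obj i₀) F₀ hF₀fp (n - 1) U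
  constructor
  · intro h
    rw [isFinLocFreeOfRank_pullback_iff F₀ hft n] at h
    obtain ⟨h1, h2⟩ := h
    obtain ⟨j₁, φ₁, hj₁⟩ := exists_comap_eq_bot D c hc i₀ _ hlow h1
    obtain ⟨j₂, φ₂, hj₂⟩ := exists_comap_eq_top D c hc i₀ _ h2
    obtain ⟨k, ψ₁, ψ₂, hk⟩ := IsCofilteredOrEmpty.cone_objs j₁ j₂
    obtain ⟨l, θ, hθ⟩ := IsCofilteredOrEmpty.cone_maps (ψ₁ ≫ φ₁) (ψ₂ ≫ φ₂)
    refine ⟨l, θ ≫ ψ₁ ≫ φ₁, ?_⟩
    rw [isFinLocFreeOfRank_pullback_iff F₀ hft n]
    refine ⟨?_, ?_⟩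
    · rw [← Category.assoc, D.map_comp, Scheme.IdealSheafData.comap_comp, hj₁,
        Scheme.IdealSheafData.comap_bot]
    · rw [hθ, ← Category.assoc, D.map_comp, Scheme.IdealSheafData.comap_comp, hj₂,
        Scheme.IdealSheafData.comap_top]
  · rintro ⟨j, φ, h⟩
    rw [isFinLocFreeOfRank_pullback_iff F₀ hft n] at h ⊢
    obtain ⟨h1, h2⟩ := h
    rw [← c.w φ]
    refine ⟨?_, ?_⟩
    · rw [Scheme.IdealSheafData.comap_comp, h1, Scheme.IdealSheafData.comap_bot]
    · rw [Scheme.IdealSheafData.comap_comp, h2, Scheme.IdealSheafData.comap_top]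

end LocFree

end Groth.Agent.Lead.LimZ
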