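import Mathlib
import Groth.Agent.Lib.Lead.FlatLoc9
import Groth.Agent.Lib.Helper1.LocalCrit

/-!
# Critère de platitude par fibres: base change and descent of flatness at a prime (lead)
-/

set_option autoImplicit false
set_option backward.isDefEq.respectTransparency.types false
set_option synthInstance.maxHeartbeats 400000
universe u

namespace Groth.Agent.Lead.CritFib

open TensorProduct

attribute [local instance] Algebra.TensorProduct.rightAlgebra

section BC

variable {R S R' S' : Type u} [CommRing R] [CommRing S] [CommRing R'] [CommRing S']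
  [Algebra R S] [Algebra R R'] [Algebra S S'] [Algebra R' S'] [Algebra R S'] [IsScalarTower R S S']
  [IsScalarTower R R' S']
  {M M' : Type u} [AddCommGroup M] [Module S M] [Module R M] [IsScalarTower R S M]
  [AddCommGroup M'] [Module S' M'] [Module R' M'] [IsScalarTower R' S' M'] [Module S M']
  [IsScalarTower S S' M']

/-- the canonical map from `M'` to `S' ⊗[S] M_q` -/
noncomputable def locTensorMap (f : M →ₗ[S] M') (hf : IsBaseChange S' f) (q : Ideal S)
    [q.IsPrime] : M' →ₗ[S'] S' ⊗[S] LocalizedModule q.primeCompl M :=
  (AlgebraTensorModule.lTensor S' S' (LocalizedModule.mkLinearMap q.primeCompl M)) ∘ₗ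
    hf.equiv.symm.toLinearMap

theorem isLocalizedModule_locTensorMap (f : M →ₗ[S] M') (hf : IsBaseChange S' f) (q : Ideal S)
    [q.IsPrime] :
    IsLocalizedModule (Algebra.algebraMapSubmonoid S' q.primeCompl) (locTensorMap f hf q) := by
  haveI : IsLocalizedModule q.primeCompl ((locTensorMap f hf q).restrictScalars S) := by
    have h3 : (locTensorMap f hf q).restrictScalars S =
        ((LocalizedModule.mkLinearMap q.primeCompl M).lTensor S') ∘ₗ
        (hf.equiv.symm.restrictScalars S).toLinearMap := by
      ext; rfl
    rw [h3]
    haveI := Groth.Agent.Helper7.FlatAtBC.isLocalizedModule_lTensor q.primeCompl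
      (LocalizedModule.mkLinearMap q.primeCompl M) S'
    infer_instance
  exact IsLocalizedModule.of_restrictScalars q.primeCompl (locTensorMap f hf q)

/-- flatness at `q'` of the base change follows from flatness of the base change of the
localization. -/
theorem flat_localizedModule_of_flat_tensor [Algebra.IsPushout R S R' S']
    (f : M →ₗ[S] M') (hf : IsBaseChange S' f) (q' : Ideal S') [q'.IsPrime]
    (hflat : Module.Flat R' (R' ⊗[R] LocalizedModule (q'.comap (algebraMap S S')).primeCompl M)) :
    Module.Flat R' (LocalizedModule q'.primeCompl M') := by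
  let q : Ideal S := q'.comap (algebraMap S S')
  haveI : q.IsPrime := Ideal.comap_isPrime _ _
  let N := LocalizedModule q.primeCompl M
  haveI : Algebra.IsPushout R R' S S' := Algebra.IsPushout.symm inferInstance
  have hflat2 : Module.Flat R' (S' ⊗[S] N) :=
    Module.Flat.of_linearEquiv (Algebra.IsPushout.cancelBaseChange R R' S S' N)
  let T₀ : Submonoid S' := Algebra.algebraMapSubmonoid S' q.primeCompl
  haveI : IsLocalizedModule T₀ (locTensorMap f hf q) := isLocalizedModule_locTensorMap f hf q
  have hle : T₀ ≤ q'.primeCompl := by
    rintro _ ⟨x, hx, rfl⟩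
    exact hx
  let g := IsLocalizedModule.liftOfLE T₀ q'.primeCompl hle (locTensorMap f hf q)
    (LocalizedModule.mkLinearMap q'.primeCompl M')
  exact Groth.Agent.Helper7.FlatAtBC.flat_of_isLocalizedModule (A := R') (B := S') q'.primeCompl g

/-- for a surjective base change `S → S'`, the base change of the localization at `q` is the
localization of the base change at `q'`. -/
theorem nonempty_tensor_equiv_localizedModule [Algebra.IsPushout R S R' S']
    (f : M →ₗ[S] M') (hf : IsBaseChange S' f) (q' : Ideal S') [q'.IsPrime]
    (hs : Function.Surjective (algebraMap S S')) :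
    Nonempty (R' ⊗[R] LocalizedModule (q'.comap (algebraMap S S')).primeCompl M ≃ₗ[R']
      LocalizedModule q'.primeCompl M') := by
  let q : Ideal S := q'.comap (algebraMap S S')
  haveI : q.IsPrime := Ideal.comap_isPrime _ _
  let N := LocalizedModule q.primeCompl M
  haveI : Algebra.IsPushout R R' S S' := Algebra.IsPushout.symm inferInstance
  let T₀ : Submonoid S' := Algebra.algebraMapSubmonoid S' q.primeCompl
  have hT : T₀ = q'.primeCompl := by
    ext x
    constructor
    · rintro ⟨y, hy, rfl⟩
      exact hy
    · intro hx
      obtain ⟨y, rfl⟩ := hs x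
      exact ⟨y, hx, rfl⟩
  haveI : IsLocalizedModule T₀ (locTensorMap f hf q) := isLocalizedModule_locTensorMap f hf q
  haveI : IsLocalizedModule q'.primeCompl (locTensorMap f hf q) := hT ▸ this
  let e : S' ⊗[S] N ≃ₗ[S'] LocalizedModule q'.primeCompl M' :=
    IsLocalizedModule.linearEquiv q'.primeCompl (locTensorMap f hf q)
      (LocalizedModule.mkLinearMap q'.primeCompl M')
  exact ⟨(Algebra.IsPushout.cancelBaseChange R R' S S' N).symm ≪≫ₗ e.restrictScalars R'⟩

end BC

end Groth.Agent.Lead.CritFib
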