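import Mathlib
import Groth.Agent.Lib.Lead.CritFib1

/-!
# Critère de platitude par fibres: descent of flatness at a prime along a flat base change (lead)
-/

set_option autoImplicit false
set_option backward.isDefEq.respectTransparency.types false
set_option synthInstance.maxHeartbeats 400000
set_option linter.style.haveILetI false
universe u

namespace Groth.Agent.Lead.CritFib

open TensorProduct

attribute [local instance] Algebra.TensorProduct.rightAlgebra

section FFD

variable {R S R' S' : Type u} [CommRing R] [CommRing S] [CommRing R'] [CommRing S']
  [Algebra R S] [Algebra R R'] [Algebra S S'] [Algebra R' S'] [Algebra R S'] [IsScalarTower R S S']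
  [IsScalarTower R R' S']
  {M M' : Type u} [AddCommGroup M] [Module S M] [Module R M] [IsScalarTower R S M]
  [AddCommGroup M'] [Module S' M'] [Module R' M'] [IsScalarTower R' S' M'] [Module S M']
  [IsScalarTower S S' M'] [Module R M'] [IsScalarTower R S' M'] [IsScalarTower R R' M']

set_option backward.isDefEq.respectTransparency false in
set_option maxHeartbeats 1000000 in
/-- **Descent of flatness at a prime** along a flat base change. -/
theorem flat_localizedModule_of_flat_baseChange [Module.Flat R R'] [Module.Flat S S']
    (f : M →ₗ[S] M') (hf : IsBaseChange S' f) (q' : Ideal S') [q'.IsPrime]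
    (hflat : Module.Flat R' (LocalizedModule q'.primeCompl M')) :
    Module.Flat R (LocalizedModule (q'.comap (algebraMap S S')).primeCompl M) := by
  let q : Ideal S := q'.comap (algebraMap S S')
  haveI : q.IsPrime := Ideal.comap_isPrime _ _
  let L := Localization.AtPrime q
  let L' := Localization.AtPrime q'
  let φ : L →+* L' := Localization.localRingHom q q' (algebraMap S S') rfl
  letI : Algebra L L' := φ.toAlgebra
  haveI : IsScalarTower S L L' :=
    .of_algebraMap_eq fun x ↦ (Localization.localRingHom_to_map _ _ _ rfl x).symm
  have hφ : φ.Flat := RingHom.Flat.localRingHom (f := algebraMap S S')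
    (RingHom.flat_algebraMap_iff.mpr inferInstance) q' q rfl
  haveI : Module.Flat L L' := hφ
  haveI : IsLocalHom (algebraMap L L') := Localization.isLocalHom_localRingHom _ _ _ rfl
  haveI : Module.FaithfullyFlat L L' := Module.FaithfullyFlat.of_flat_of_isLocalHom
  let N := LocalizedModule q.primeCompl M
  let N' := LocalizedModule q'.primeCompl M'
  have hmk : IsBaseChange L (LocalizedModule.mkLinearMap q.primeCompl M) :=
    IsLocalizedModule.isBaseChange q.primeCompl L _
  have hmk' : IsBaseChange L' (LocalizedModule.mkLinearMap q'.primeCompl M') :=
    IsLocalizedModule.isBaseChange q'.primeCompl L' _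
  let g : M →ₗ[S] N' := ((LocalizedModule.mkLinearMap q'.primeCompl M').restrictScalars S) ∘ₗ f
  have hg : IsBaseChange L' g := IsBaseChange.comp hf hmk'
  letI : Module L N' := Module.compHom N' (algebraMap L L')
  haveI : IsScalarTower L L' N' := IsScalarTower.of_compHom L L' N'
  haveI : IsScalarTower S L N' := IsScalarTower.to₁₂₄ S L L' N'
  let h : N →ₗ[L] N' := hmk.lift g
  have hh : IsBaseChange L' h := by
    apply IsBaseChange.of_comp hmk
    rw [IsBaseChange.lift_comp]
    exact hg
  let e : L' ⊗[L] N ≃ₗ[L'] N' := hh.equiv
  haveI : IsScalarTower R L L' := .of_algebraMap_eq fun r ↦ by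
    rw [IsScalarTower.algebraMap_apply R S L]
    show _ = φ _
    rw [Localization.localRingHom_to_map, ← IsScalarTower.algebraMap_apply R S S',
      ← IsScalarTower.algebraMap_apply R S' L']
  haveI : Module.Flat R N' := Module.Flat.trans R R' N'
  haveI : Module.Flat R (L' ⊗[L] N) := Module.Flat.of_linearEquiv (e.restrictScalars R)
  exact Groth.Agent.Helper1.LocalCrit.flat_of_flat_tensorProduct_of_faithfullyFlat (R := R)
    (S := L) L' N

end FFD

end Groth.Agent.Lead.CritFib
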