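import Mathlib
import Groth.Agent.Lib.Lead.CritFib2

/-!
# Critère de platitude par fibres: flatness of the fibre module, basic forms (lead)
-/

set_option autoImplicit false
set_option backward.isDefEq.respectTransparency.types false
set_option synthInstance.maxHeartbeats 400000
set_option linter.style.haveILetI false
universe u

namespace Groth.Agent.Lead.CritFib

open TensorProduct

attribute [local instance] Algebra.TensorProduct.rightAlgebra

section Basic

variable {R : Type u} [CommRing R] (I : Ideal R) (N : Type u) [AddCommGroup N] [Module R N]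

/-- base change of fibre flatness to any algebra killing `I` -/
theorem flat_tensor_of_qflat {R' : Type u} [CommRing R'] [Algebra R R']
    (hI : ∀ x ∈ I, algebraMap R R' x = 0)
    [Module.Flat (R ⧸ I) ((R ⧸ I) ⊗[R] N)] : Module.Flat R' (R' ⊗[R] N) := by
  letI : Algebra (R ⧸ I) R' := (Ideal.Quotient.lift I (algebraMap R R') hI).toAlgebra
  haveI : IsScalarTower R (R ⧸ I) R' := IsScalarTower.of_algebraMap_eq fun x => rfl
  exact Module.Flat.of_linearEquiv
    (AlgebraTensorModule.cancelBaseChange R (R ⧸ I) R' R' N).symm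

/-- the two forms of the fibre module -/
theorem qflat_iff_flat_quotient :
    Module.Flat (R ⧸ I) ((R ⧸ I) ⊗[R] N) ↔
      Module.Flat (R ⧸ I) (N ⧸ (I • ⊤ : Submodule R N)) := by
  let e : (R ⧸ I) ⊗[R] N ≃ₗ[R ⧸ I] N ⧸ (I • ⊤ : Submodule R N) :=
    (TensorProduct.quotTensorEquivQuotSMul N I).extendScalarsOfSurjective
      Ideal.Quotient.mk_surjective
  exact ⟨fun _ => Module.Flat.of_linearEquiv e.symm, fun _ => Module.Flat.of_linearEquiv e⟩

end Basic

section Loc

variable {R S : Type u} [CommRing R] [CommRing S] [Algebra R S] (W : Submonoid R)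
  [IsLocalization W S] (I : Ideal R) (N : Type u) [AddCommGroup N] [Module R N] [Module S N]
  [IsScalarTower R S N]

/-- the fibre module over a localization of the base ring -/
noncomputable def qflatLocEquiv :
    (R ⧸ I) ⊗[R] N ≃ₗ[R ⧸ I] (S ⧸ I.map (algebraMap R S)) ⊗[S] N := by
  let S' := S ⧸ I.map (algebraMap R S)
  let e1 : S' ⊗[S] N ≃ₗ[R] S' ⊗[R] N :=
    (IsLocalization.moduleTensorEquiv W S S' N).restrictScalars R
  let e2 : S' ≃ₗ[R] (R ⧸ I) ⊗[R] S :=
    (Algebra.TensorProduct.quotIdealMapEquivQuotTensor S I).toLinearEquiv.restrictScalars R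
  let e3 : S' ⊗[R] N ≃ₗ[R] ((R ⧸ I) ⊗[R] S) ⊗[R] N := TensorProduct.congr e2 (LinearEquiv.refl R N)
  let e4 : ((R ⧸ I) ⊗[R] S) ⊗[R] N ≃ₗ[R] (R ⧸ I) ⊗[R] (S ⊗[R] N) := TensorProduct.assoc R _ _ _
  let e5 : (R ⧸ I) ⊗[R] (S ⊗[R] N) ≃ₗ[R] (R ⧸ I) ⊗[R] N :=
    TensorProduct.congr (LinearEquiv.refl R _) ((IsLocalization.moduleLid W S N).restrictScalars R)
  exact ((e1 ≪≫ₗ e3 ≪≫ₗ e4 ≪≫ₗ e5).symm).extendScalarsOfSurjective Ideal.Quotient.mk_surjective

include W in
/-- fibre flatness over a localization of the base ring descends to the base ring -/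
theorem qflat_of_localization
    [Module.Flat (S ⧸ I.map (algebraMap R S)) ((S ⧸ I.map (algebraMap R S)) ⊗[S] N)] :
    Module.Flat (R ⧸ I) ((R ⧸ I) ⊗[R] N) := by
  haveI : Module.Flat (R ⧸ I) ((S ⧸ I.map (algebraMap R S)) ⊗[S] N) :=
    (Module.flat_iff_of_isLocalization (S := S ⧸ I.map (algebraMap R S))
      (p := Algebra.algebraMapSubmonoid (R ⧸ I) W)
      (M := (S ⧸ I.map (algebraMap R S)) ⊗[S] N)).mp inferInstance
  exact Module.Flat.of_linearEquiv (qflatLocEquiv (S := S) W I N)

end Loc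

end Groth.Agent.Lead.CritFib
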