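import Mathlib
import Groth.Agent.Lib.Lead.CritFib3

/-!
# Critère de platitude par fibres: the fibre module as a localization of the quotient (lead)
-/

set_option autoImplicit false
set_option backward.isDefEq.respectTransparency.types false
set_option synthInstance.maxHeartbeats 400000
set_option linter.style.haveILetI false
universe u

namespace Groth.Agent.Lead.CritFib

open TensorProduct

attribute [local instance] Algebra.TensorProduct.rightAlgebra

section Quot

variable {R S : Type u} [CommRing R] [CommRing S] [Algebra R S] (I : Ideal R)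

/-- the quotient by an extended ideal is a pushout -/
theorem isPushout_quotient :
    Algebra.IsPushout R (R ⧸ I) S (S ⧸ I.map (algebraMap R S)) := by
  haveI : Algebra.IsPushout R (R ⧸ I) S ((R ⧸ I) ⊗[R] S) := inferInstance
  refine Algebra.IsPushout.of_equiv (R := R) (R' := R ⧸ I) (S := S) (S' := (R ⧸ I) ⊗[R] S)
    (Algebra.TensorProduct.quotIdealMapEquivQuotTensor S I).symm ?_
  ext s
  simp only [RingHom.coe_comp, Function.comp_apply]
  show (Algebra.TensorProduct.quotIdealMapEquivQuotTensor S I).symm _ = _
  rw [AlgEquiv.symm_apply_eq]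
  rfl

end Quot

section Quot2

variable {R S : Type u} [CommRing R] [CommRing S] [Algebra R S] (I : Ideal R)
  (M : Type u) [AddCommGroup M] [Module S M] [Module R M] [IsScalarTower R S M]
  (q' : Ideal (S ⧸ I.map (algebraMap R S))) [q'.IsPrime]

/-- the fibre module of the localization is the localization of the fibre module -/
theorem nonempty_qflat_equiv :
    Nonempty ((R ⧸ I) ⊗[R] LocalizedModule
        (q'.comap (algebraMap S (S ⧸ I.map (algebraMap R S)))).primeCompl M ≃ₗ[R ⧸ I]
      LocalizedModule q'.primeCompl ((S ⧸ I.map (algebraMap R S)) ⊗[S] M)) := by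
  haveI : Algebra.IsPushout R S (R ⧸ I) (S ⧸ I.map (algebraMap R S)) :=
    (isPushout_quotient (S := S) I).symm
  exact nonempty_tensor_equiv_localizedModule (R := R) (S := S) (R' := R ⧸ I)
    (S' := S ⧸ I.map (algebraMap R S)) (TensorProduct.mk S (S ⧸ I.map (algebraMap R S)) M 1)
    (TensorProduct.isBaseChange S M _) q' Ideal.Quotient.mk_surjective

theorem qflat_iff_flat_localizedModule_quotient :
    Module.Flat (R ⧸ I) ((R ⧸ I) ⊗[R] LocalizedModule
        (q'.comap (algebraMap S (S ⧸ I.map (algebraMap R S)))).primeCompl M) ↔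
      Module.Flat (R ⧸ I)
        (LocalizedModule q'.primeCompl ((S ⧸ I.map (algebraMap R S)) ⊗[S] M)) := by
  obtain ⟨e⟩ := nonempty_qflat_equiv I M q'
  exact ⟨fun _ => Module.Flat.of_linearEquiv e.symm, fun _ => Module.Flat.of_linearEquiv e⟩

end Quot2

end Groth.Agent.Lead.CritFib
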