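import Mathlib
import Groth.Agent.Lib.Lead.CritFib4

/-!
# Critère de platitude par fibres: the fibre ring is flat over the quotient at a stage (lead)
-/

set_option autoImplicit false
set_option backward.isDefEq.respectTransparency.types false
set_option synthInstance.maxHeartbeats 400000
set_option linter.style.haveILetI false
universe u

namespace Groth.Agent.Lead.CritFib

open TensorProduct

attribute [local instance] Algebra.TensorProduct.rightAlgebra

section FlatField

/-- a field containing a domain is flat over it -/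
theorem flat_of_injective_field {D K : Type u} [CommRing D] [Field K] [Algebra D K]
    (h : Function.Injective (algebraMap D K)) : Module.Flat D K := by
  haveI : FaithfulSMul D K := (faithfulSMul_iff_algebraMap_injective D K).mpr h
  haveI : IsDomain D := IsDomain.of_faithfulSMul D K
  letI := FractionRing.liftAlgebra D K
  haveI := FractionRing.isScalarTower_liftAlgebra D K
  haveI : Module.Flat D (FractionRing D) := IsLocalization.flat _ (nonZeroDivisors D)
  exact Module.Flat.trans D (FractionRing D) K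

end FlatField

section FlatFib

variable {R₁ R X₁ X : Type u} [CommRing R₁] [CommRing R] [CommRing X₁] [CommRing X]
  [Algebra R₁ R] [Algebra R₁ X₁] [Algebra R X] [Algebra X₁ X] [Algebra R₁ X]
  [IsScalarTower R₁ R X] [IsScalarTower R₁ X₁ X] [Algebra.IsPushout R₁ R X₁ X]

set_option backward.isDefEq.respectTransparency false in
set_option maxHeartbeats 1000000 in
/-- the fibre ring of `X` over `κ(p)` is flat over the quotient of the model `X₁` by the
contraction of `p` -/
theorem flat_fibre_quotient (p : Ideal R) [p.IsPrime] (𝔞 : Ideal X₁)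
    (h𝔞 : 𝔞 = (p.comap (algebraMap R₁ R)).map (algebraMap R₁ X₁))
    [Algebra (X₁ ⧸ 𝔞) (X ⊗[R] p.ResidueField)]
    (hc : ∀ x : X₁, algebraMap (X₁ ⧸ 𝔞) (X ⊗[R] p.ResidueField) (Ideal.Quotient.mk 𝔞 x) =
      algebraMap X₁ X x ⊗ₜ 1) :
    Module.Flat (X₁ ⧸ 𝔞) (X ⊗[R] p.ResidueField) := by
  subst h𝔞
  let p₁ : Ideal R₁ := p.comap (algebraMap R₁ R)
  haveI : p₁.IsPrime := Ideal.comap_isPrime _ _
  letI a1 : Algebra R₁ p.ResidueField :=
    ((algebraMap R p.ResidueField).comp (algebraMap R₁ R)).toAlgebra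
  haveI t1 : IsScalarTower R₁ R p.ResidueField := .of_algebraMap_eq' rfl
  have hker : ∀ x ∈ p₁, algebraMap R₁ p.ResidueField x = 0 := by
    intro x hx
    show algebraMap R p.ResidueField (algebraMap R₁ R x) = 0
    rw [Ideal.algebraMap_residueField_eq_zero]
    exact hx
  letI a2 : Algebra (R₁ ⧸ p₁) p.ResidueField :=
    (Ideal.Quotient.lift p₁ (algebraMap R₁ p.ResidueField) hker).toAlgebra
  haveI t2 : IsScalarTower R₁ (R₁ ⧸ p₁) p.ResidueField := .of_algebraMap_eq fun x => rfl
  have hinj : Function.Injective (algebraMap (R₁ ⧸ p₁) p.ResidueField) := by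
    apply RingHom.lift_injective_of_ker_le_ideal
    intro x hx
    have : algebraMap R p.ResidueField (algebraMap R₁ R x) = 0 := hx
    rw [Ideal.algebraMap_residueField_eq_zero] at this
    exact this
  haveI : Module.Flat (R₁ ⧸ p₁) p.ResidueField := flat_of_injective_field hinj
  -- the key identity
  have hkey : ∀ r : R₁, (algebraMap R₁ X r ⊗ₜ[R] (1 : p.ResidueField) : X ⊗[R] p.ResidueField) =
      1 ⊗ₜ algebraMap R₁ p.ResidueField r := by
    intro r
    rw [IsScalarTower.algebraMap_apply R₁ R X, Algebra.algebraMap_eq_smul_one, smul_tmul,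
      ← Algebra.algebraMap_eq_smul_one]
    rfl
  haveI t3 : IsScalarTower R₁ p.ResidueField (X ⊗[R] p.ResidueField) :=
    .of_algebraMap_eq fun r => by
      rw [Algebra.TensorProduct.algebraMap_apply, Algebra.TensorProduct.algebraMap_eq_includeRight]
      exact hkey r
  letI a4 : Algebra (R₁ ⧸ p₁) (X ⊗[R] p.ResidueField) :=
    ((algebraMap p.ResidueField (X ⊗[R] p.ResidueField)).comp
      (algebraMap (R₁ ⧸ p₁) p.ResidueField)).toAlgebra
  haveI t4 : IsScalarTower (R₁ ⧸ p₁) p.ResidueField (X ⊗[R] p.ResidueField) :=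
    .of_algebraMap_eq' rfl
  haveI t5 : IsScalarTower X₁ (X₁ ⧸ p₁.map (algebraMap R₁ X₁)) (X ⊗[R] p.ResidueField) :=
    .of_algebraMap_eq fun x => by
      rw [Algebra.TensorProduct.algebraMap_apply]
      exact (hc x).symm
  haveI t6 : IsScalarTower R₁ (X₁ ⧸ p₁.map (algebraMap R₁ X₁)) (X ⊗[R] p.ResidueField) :=
    .of_algebraMap_eq fun r => by
      rw [IsScalarTower.algebraMap_apply R₁ X₁ (X₁ ⧸ p₁.map (algebraMap R₁ X₁)),
        ← IsScalarTower.algebraMap_apply X₁ (X₁ ⧸ p₁.map (algebraMap R₁ X₁)),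
        ← IsScalarTower.algebraMap_apply R₁ X₁]
  haveI t7 : IsScalarTower (R₁ ⧸ p₁) (X₁ ⧸ p₁.map (algebraMap R₁ X₁)) (X ⊗[R] p.ResidueField) :=
    .of_algebraMap_eq fun r => by
      obtain ⟨r, rfl⟩ := Ideal.Quotient.mk_surjective r
      show algebraMap p.ResidueField _ (algebraMap R₁ p.ResidueField r) = _
      rw [← IsScalarTower.algebraMap_apply R₁ p.ResidueField,
        IsScalarTower.algebraMap_apply R₁ (X₁ ⧸ p₁.map (algebraMap R₁ X₁))]
      rfl
  -- the big rectangle over `R₁ → R → κ`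
  have hbig : Algebra.IsPushout R₁ p.ResidueField X₁ (X ⊗[R] p.ResidueField) :=
    (Algebra.IsPushout.comp_iff R₁ R X₁ (S' := X) (T := p.ResidueField)
      (T' := X ⊗[R] p.ResidueField)).mpr inferInstance
  -- the right square over `R₁ → R₁ ⧸ p₁ → κ`
  haveI := isPushout_quotient (R := R₁) (S := X₁) p₁
  have hright : Algebra.IsPushout (R₁ ⧸ p₁) p.ResidueField (X₁ ⧸ p₁.map (algebraMap R₁ X₁))
      (X ⊗[R] p.ResidueField) :=
    (Algebra.IsPushout.comp_iff R₁ (R₁ ⧸ p₁) X₁ (S' := X₁ ⧸ p₁.map (algebraMap R₁ X₁))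
      (T := p.ResidueField) (T' := X ⊗[R] p.ResidueField)).mp hbig
  exact Module.Flat.isBaseChange (R := R₁ ⧸ p₁) (S := X₁ ⧸ p₁.map (algebraMap R₁ X₁))
    (M := p.ResidueField) (X ⊗[R] p.ResidueField) hright.symm.out

end FlatFib

end Groth.Agent.Lead.CritFib
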