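import Mathlib
import Groth.Agent.Lib.Lead.CritFib5

/-!
# Critère de platitude par fibres: the fibre over the residue field (lead)
-/

set_option autoImplicit false
set_option backward.isDefEq.respectTransparency.types false
set_option synthInstance.maxHeartbeats 400000
set_option linter.style.haveILetI false
universe u

namespace Groth.Agent.Lead.CritFib

open TensorProduct

attribute [local instance] Algebra.TensorProduct.rightAlgebra

section FibAlg

variable (R B C K : Type u) [CommRing R] [CommRing B] [CommRing C] [CommRing K]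
  [Algebra R B] [Algebra R C] [Algebra B C] [IsScalarTower R B C] [Algebra R K]

/-- the algebra structure of `C ⊗ K` over `B ⊗ K` -/
noncomputable def fibAlg : Algebra (B ⊗[R] K) (C ⊗[R] K) :=
  (Algebra.TensorProduct.map (IsScalarTower.toAlgHom R B C) (AlgHom.id R K)).toRingHom.toAlgebra

attribute [local instance] fibAlg

theorem fibAlg_tmul (b : B) (k : K) :
    algebraMap (B ⊗[R] K) (C ⊗[R] K) (b ⊗ₜ k) = algebraMap B C b ⊗ₜ k := rfl

instance fibAlg_tower_left : IsScalarTower B (B ⊗[R] K) (C ⊗[R] K) :=
  .of_algebraMap_eq fun b => by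
    rw [Algebra.TensorProduct.algebraMap_apply, Algebra.TensorProduct.algebraMap_apply,
      fibAlg_tmul]
    rfl

instance fibAlg_tower_right : IsScalarTower K (B ⊗[R] K) (C ⊗[R] K) :=
  .of_algebraMap_eq fun k => by
    rw [Algebra.TensorProduct.algebraMap_eq_includeRight,
      Algebra.TensorProduct.algebraMap_eq_includeRight]
    show _ = algebraMap (B ⊗[R] K) (C ⊗[R] K) (1 ⊗ₜ k)
    rw [fibAlg_tmul, map_one]
    rfl

instance fibAlg_isPushout : Algebra.IsPushout B C (B ⊗[R] K) (C ⊗[R] K) :=
  Algebra.IsPushout.tensorProduct_tensorProduct R K B C (by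
    ext k
    show algebraMap (B ⊗[R] K) (C ⊗[R] K) (1 ⊗ₜ k) = _
    rw [fibAlg_tmul, map_one]
    rfl)

end FibAlg

section FibPrime

variable {R C : Type u} [CommRing R] [CommRing C] [Algebra R C] (p : Ideal R) [p.IsPrime]
  (q : Ideal C) [q.IsPrime] [q.LiesOver p]

/-- the canonical map from the fibre ring to the residue field of `q` -/
noncomputable def fibToResidue : C ⊗[R] p.ResidueField →ₐ[R] q.ResidueField :=
  Algebra.TensorProduct.lift (IsScalarTower.toAlgHom R C q.ResidueField)
    (Ideal.ResidueField.mapₐ p q (Algebra.ofId R C) (Ideal.over_def q p)) (fun _ _ => .all _ _)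

/-- a prime of the fibre ring `C ⊗ κ(p)` lying over `q` -/
noncomputable def fibPrime : Ideal (C ⊗[R] p.ResidueField) :=
  RingHom.ker (fibToResidue p q).toRingHom

instance fibPrime_isPrime : (fibPrime p q).IsPrime := RingHom.ker_isPrime _

theorem comap_fibPrime :
    (fibPrime p q).comap (algebraMap C (C ⊗[R] p.ResidueField)) = q := by
  ext x
  rw [Ideal.mem_comap, fibPrime, RingHom.mem_ker]
  show fibToResidue p q (x ⊗ₜ 1) = 0 ↔ _
  rw [fibToResidue, Algebra.TensorProduct.lift_tmul, map_one, mul_one]
  exact Ideal.algebraMap_residueField_eq_zero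

end FibPrime

section StepA

variable {R B C : Type u} [CommRing R] [CommRing B] [CommRing C] [Algebra R B] [Algebra R C]
  [Algebra B C] [IsScalarTower R B C]
  (M : Type u) [AddCommGroup M] [Module C M] [Module B M] [IsScalarTower B C M]
  (p : Ideal R) [p.IsPrime] (q : Ideal C) [q.IsPrime] [q.LiesOver p]

attribute [local instance] fibAlg

theorem algebraMap_fibre_eq_zero (x : B) (hx : x ∈ p.map (algebraMap R B)) :
    algebraMap B (B ⊗[R] p.ResidueField) x = 0 := by
  have hle : p.map (algebraMap R B) ≤ RingHom.ker (algebraMap B (B ⊗[R] p.ResidueField)) := by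
    rw [Ideal.map_le_iff_le_comap]
    intro r hr
    rw [Ideal.mem_comap, RingHom.mem_ker, Algebra.TensorProduct.algebraMap_apply]
    show (algebraMap R B r) ⊗ₜ[R] (1 : p.ResidueField) = 0
    rw [show (algebraMap R B r) = r • (1 : B) from Algebra.algebraMap_eq_smul_one r, smul_tmul,
      ← Algebra.algebraMap_eq_smul_one, Ideal.algebraMap_residueField_eq_zero.mpr hr, tmul_zero]
  exact hle hx

set_option backward.isDefEq.respectTransparency false in
set_option maxHeartbeats 1000000 in
/-- fibre flatness passes to the fibre over the residue field -/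
theorem flat_fibre_of_qflat
    (h : Module.Flat (B ⧸ p.map (algebraMap R B))
      ((B ⧸ p.map (algebraMap R B)) ⊗[B] LocalizedModule q.primeCompl M)) :
    Module.Flat (B ⊗[R] p.ResidueField)
      (LocalizedModule (fibPrime p q).primeCompl ((C ⊗[R] p.ResidueField) ⊗[C] M)) := by
  haveI := h
  have h1 : Module.Flat (B ⊗[R] p.ResidueField)
      ((B ⊗[R] p.ResidueField) ⊗[B] LocalizedModule q.primeCompl M) :=
    flat_tensor_of_qflat (p.map (algebraMap R B)) (LocalizedModule q.primeCompl M)
      (algebraMap_fibre_eq_zero p)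
  have key : ∀ (P P' : Ideal C) [P.IsPrime] [P'.IsPrime], P = P' →
      Module.Flat (B ⊗[R] p.ResidueField)
        ((B ⊗[R] p.ResidueField) ⊗[B] LocalizedModule P.primeCompl M) →
      Module.Flat (B ⊗[R] p.ResidueField)
        ((B ⊗[R] p.ResidueField) ⊗[B] LocalizedModule P'.primeCompl M) := by
    intro P P' _ _ h
    subst h
    exact id
  have h2 := key _ _ (comap_fibPrime p q).symm h1
  exact flat_localizedModule_of_flat_tensor (R := B) (S := C) (R' := B ⊗[R] p.ResidueField)
    (S' := C ⊗[R] p.ResidueField) (TensorProduct.mk C (C ⊗[R] p.ResidueField) M 1)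
    (TensorProduct.isBaseChange C M (C ⊗[R] p.ResidueField)) (fibPrime p q) h2

end StepA

end Groth.Agent.Lead.CritFib
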