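import Mathlib
import Groth.Agent.Lib.Lead.CritFib7

/-!
# Critère de platitude par fibres: the Noetherian case at a prime (lead)
-/

set_option autoImplicit false
set_option backward.isDefEq.respectTransparency.types false
set_option synthInstance.maxHeartbeats 400000
set_option linter.style.haveILetI false
universe u

namespace Groth.Agent.Lead.CritFib

open TensorProduct

section Noeth

variable {T B₁ C₁ : Type u} [CommRing T] [CommRing B₁] [CommRing C₁] [Algebra T B₁] [Algebra T C₁]
  [Algebra B₁ C₁] [IsScalarTower T B₁ C₁] [IsNoetherianRing B₁] [IsNoetherianRing C₁]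
  (M₁ : Type u) [AddCommGroup M₁] [Module C₁ M₁] [Module B₁ M₁] [IsScalarTower B₁ C₁ M₁]
  [Module T M₁] [IsScalarTower T C₁ M₁] [Module.Finite C₁ M₁]
  (q₁ : Ideal C₁) [q₁.IsPrime]

set_option backward.isDefEq.respectTransparency false in
set_option maxHeartbeats 1000000 in
/-- **Critère de platitude par fibres**, Noetherian case, at a prime. -/
theorem flat_of_flat_of_qflat_noetherian
    (hflat : Module.Flat T (LocalizedModule q₁.primeCompl M₁))
    (hq : Module.Flat (B₁ ⧸ (q₁.comap (algebraMap T C₁)).map (algebraMap T B₁))
      ((B₁ ⧸ (q₁.comap (algebraMap T C₁)).map (algebraMap T B₁)) ⊗[B₁]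
        LocalizedModule q₁.primeCompl M₁)) :
    Module.Flat B₁ (LocalizedModule q₁.primeCompl M₁) := by
  let L := Localization.AtPrime q₁
  let N := LocalizedModule q₁.primeCompl M₁
  let 𝔭 : Ideal T := q₁.comap (algebraMap T C₁)
  haveI : IsNoetherianRing L := IsLocalization.isNoetherianRing q₁.primeCompl L inferInstance
  haveI : Module.Finite L N := Module.Finite.of_isLocalizedModule q₁.primeCompl
    (LocalizedModule.mkLinearMap q₁.primeCompl M₁)
  haveI := hq
  refine Groth.Agent.Helper1.LocalCrit.flat_of_rTensor_injective_of_flat_quotient (R := B₁)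
    (S := L) (M := N) (𝔭.map (algebraMap T B₁)) ?_ ?_
  · -- the extended ideal is proper in the local ring
    intro htop
    have hle : (𝔭.map (algebraMap T B₁)).map (algebraMap B₁ L) ≤ IsLocalRing.maximalIdeal L := by
      rw [Ideal.map_map, Ideal.map_le_iff_le_comap]
      intro t ht
      rw [Ideal.mem_comap, RingHom.comp_apply, ← IsScalarTower.algebraMap_apply T B₁ L,
        IsScalarTower.algebraMap_apply T C₁ L]
      exact (IsLocalization.AtPrime.to_map_mem_maximal_iff L q₁ _).mpr ht
    exact (IsLocalRing.maximalIdeal.isMaximal L).ne_top (top_le_iff.mp (htop ▸ hle))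
  · exact Groth.Agent.Helper1.LocalCrit.rTensor_map_subtype_injective (R := T) (S := B₁) 𝔭 N
      (Module.Flat.rTensor_preserves_injective_linearMap _ (Submodule.subtype_injective _))

end Noeth

end Groth.Agent.Lead.CritFib
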