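import Mathlib
import Groth.Agent.Lib.Lead.CritFib8
import Groth.Agent.Lib.Lead.FlatLoc11

/-!
# Critère de platitude par fibres: from a Noetherian stage of a model (lead)
-/

set_option autoImplicit false
set_option backward.isDefEq.respectTransparency.types false
set_option synthInstance.maxHeartbeats 400000
set_option linter.style.haveILetI false
universe u

namespace Groth.Agent.Lead.CritFib

open TensorProduct Groth.Agent.Lead.FlatLoc

attribute [local instance] Algebra.TensorProduct.rightAlgebra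

section Aux

variable (R₂ R₃ S₂ S : Type u) [CommRing R₂] [CommRing R₃] [CommRing S₂] [CommRing S]
  [Algebra R₂ R₃] [Algebra R₂ S₂] [Algebra S₂ S] [Algebra R₂ S] [Algebra R₃ S]
  [IsScalarTower R₂ S₂ S] [IsScalarTower R₂ R₃ S]

theorem algTensor'_tmul (s : S₂) (r : R₃) :
    letI := algTensor' R₂ R₃ S₂ S
    algebraMap (S₂ ⊗[R₂] R₃) S (s ⊗ₜ r) = algebraMap S₂ S s * algebraMap R₃ S r := by
  letI := algTensor' R₂ R₃ S₂ S
  show (tensorHom R₂ R₃ S₂ S) (s ⊗ₜ r) = _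
  simp

end Aux

section Stage

variable (R₂ R₃ R B₂ B C₂ C : Type u) [CommRing R₂] [CommRing R₃] [CommRing R] [CommRing B₂]
  [CommRing B] [CommRing C₂] [CommRing C]
  [Algebra R₂ R₃] [Algebra R₃ R] [Algebra R₂ R] [IsScalarTower R₂ R₃ R]
  -- `B`
  [Algebra R₂ B₂] [Algebra R B] [Algebra B₂ B] [Algebra R₂ B] [Algebra R₃ B]
  [IsScalarTower R₂ R B] [IsScalarTower R₂ B₂ B] [IsScalarTower R₃ R B] [IsScalarTower R₂ R₃ B]
  [Algebra.IsPushout R₂ R B₂ B]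
  -- `C`
  [Algebra R₂ C₂] [Algebra R C] [Algebra C₂ C] [Algebra R₂ C] [Algebra R₃ C]
  [IsScalarTower R₂ R C] [IsScalarTower R₂ C₂ C] [IsScalarTower R₃ R C] [IsScalarTower R₂ R₃ C]
  [Algebra.IsPushout R₂ R C₂ C]
  -- `B → C`
  [Algebra B₂ C₂] [IsScalarTower R₂ B₂ C₂] [Algebra B C] [IsScalarTower R B C]
  [Algebra B₂ C] [IsScalarTower B₂ C₂ C] [IsScalarTower B₂ B C]
  -- finiteness
  [IsNoetherianRing R₃] [Algebra.FiniteType R₂ C₂]
  (M₂ M : Type u) [AddCommGroup M₂] [Module C₂ M₂] [Module.Finite C₂ M₂]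
  [AddCommGroup M] [Module C M] [Module C₂ M] [IsScalarTower C₂ C M]
  [Module B M] [IsScalarTower B C M]
  (h₃ : M₂ →ₗ[C₂] M) (hh₃ : IsBaseChange C h₃)
  (p : Ideal R) [p.IsPrime] (q : Ideal C) [q.IsPrime] [q.LiesOver p]

attribute [local instance] fibAlg

set_option backward.isDefEq.respectTransparency false in
set_option maxHeartbeats 2000000 in
include hh₃ in
/-- the critère, given flatness over the base at a Noetherian stage of a model -/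
theorem flat_of_stage (hB₂ : Algebra.FiniteType R₂ B₂)
    (hstage : letI := algTensor' R₂ R₃ C₂ C
      Module.Flat R₃ (LocalizedModule (q.comap (algebraMap (C₂ ⊗[R₂] R₃) C)).primeCompl
        ((C₂ ⊗[R₂] R₃) ⊗[C₂] M₂)))
    (h2 : Module.Flat (B ⧸ p.map (algebraMap R B))
      ((B ⧸ p.map (algebraMap R B)) ⊗[B] LocalizedModule q.primeCompl M)) :
    Module.Flat B (LocalizedModule q.primeCompl M) := by
  letI aB := algTensor' R₂ R₃ B₂ B
  letI aC := algTensor' R₂ R₃ C₂ C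
  obtain ⟨tB1, -, -, -, hpushB, -⟩ := transfer' R₂ R₃ R B₂ B B₂ B (Algebra.linearMap B₂ B)
    (IsBaseChange.linearMap B₂ B)
  obtain ⟨tC1, mC, tC4, f, hpushC, hbcC⟩ := transfer' R₂ R₃ R C₂ C M₂ M h₃ hh₃
  haveI : Algebra.IsPushout R₃ R (B₂ ⊗[R₂] R₃) B := hpushB
  haveI : Algebra.IsPushout R₃ R (C₂ ⊗[R₂] R₃) C := hpushC
  haveI tR₃ : IsScalarTower R₃ B C := .of_algebraMap_eq fun r => by
    rw [IsScalarTower.algebraMap_apply R₃ R C, IsScalarTower.algebraMap_apply R₃ R B,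
      ← IsScalarTower.algebraMap_apply R B C]
  letI aBC : Algebra (B₂ ⊗[R₂] R₃) C :=
    ((algebraMap B C).comp (algebraMap (B₂ ⊗[R₂] R₃) B)).toAlgebra
  haveI tBC1 : IsScalarTower (B₂ ⊗[R₂] R₃) B C := .of_algebraMap_eq' rfl
  haveI tBC2 : IsScalarTower (B₂ ⊗[R₂] R₃) (C₂ ⊗[R₂] R₃) C := .of_algebraMap_eq fun x => by
    induction x using TensorProduct.induction_on with
    | zero => simp
    | tmul b r =>
      show algebraMap B C (algebraMap (B₂ ⊗[R₂] R₃) B (b ⊗ₜ r)) =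
        algebraMap (C₂ ⊗[R₂] R₃) C (algebraMap B₂ C₂ b ⊗ₜ r)
      rw [algTensor'_tmul, algTensor'_tmul, map_mul, ← IsScalarTower.algebraMap_apply B₂ B C,
        ← IsScalarTower.algebraMap_apply R₃ B C, ← IsScalarTower.algebraMap_apply B₂ C₂ C]
    | add x y hx hy => simp only [map_add, hx, hy]
  -- descend the fibre flatness
  have hq1 := qflat_descend (R₁ := R₃) (R := R) (B₁ := B₂ ⊗[R₂] R₃) (B := B)
    (C₁ := C₂ ⊗[R₂] R₃) (C := C) ((C₂ ⊗[R₂] R₃) ⊗[C₂] M₂) M f hbcC p q h2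
  -- the stage is Noetherian
  haveI : Algebra.FiniteType R₃ (B₂ ⊗[R₂] R₃) := finiteType_tensor_right (A₀ := R₂) (B₀ := B₂) R₃
  haveI : Algebra.FiniteType R₃ (C₂ ⊗[R₂] R₃) := finiteType_tensor_right (A₀ := R₂) (B₀ := C₂) R₃
  haveI : IsNoetherianRing (B₂ ⊗[R₂] R₃) := Algebra.FiniteType.isNoetherianRing R₃ _
  haveI : IsNoetherianRing (C₂ ⊗[R₂] R₃) := Algebra.FiniteType.isNoetherianRing R₃ _
  have hideal : (q.comap (algebraMap (C₂ ⊗[R₂] R₃) C)).comap (algebraMap R₃ (C₂ ⊗[R₂] R₃)) =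
      p.comap (algebraMap R₃ R) := by
    ext x
    rw [Ideal.mem_comap, Ideal.mem_comap, Ideal.mem_comap,
      ← IsScalarTower.algebraMap_apply R₃ (C₂ ⊗[R₂] R₃) C, IsScalarTower.algebraMap_apply R₃ R C,
      Ideal.over_def q p]
    rfl
  have key : ∀ (I I' : Ideal (B₂ ⊗[R₂] R₃)), I = I' →
      Module.Flat ((B₂ ⊗[R₂] R₃) ⧸ I) (((B₂ ⊗[R₂] R₃) ⧸ I) ⊗[B₂ ⊗[R₂] R₃]
        LocalizedModule (q.comap (algebraMap (C₂ ⊗[R₂] R₃) C)).primeCompl
          ((C₂ ⊗[R₂] R₃) ⊗[C₂] M₂)) →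
      Module.Flat ((B₂ ⊗[R₂] R₃) ⧸ I') (((B₂ ⊗[R₂] R₃) ⧸ I') ⊗[B₂ ⊗[R₂] R₃]
        LocalizedModule (q.comap (algebraMap (C₂ ⊗[R₂] R₃) C)).primeCompl
          ((C₂ ⊗[R₂] R₃) ⊗[C₂] M₂)) := by
    intro I I' h
    subst h
    exact id
  have hq2 := key _ _ (congrArg (Ideal.map (algebraMap R₃ (B₂ ⊗[R₂] R₃))) hideal.symm) hq1
  have hB₁ := flat_of_flat_of_qflat_noetherian (T := R₃) (B₁ := B₂ ⊗[R₂] R₃)
    (C₁ := C₂ ⊗[R₂] R₃) ((C₂ ⊗[R₂] R₃) ⊗[C₂] M₂) (q.comap (algebraMap (C₂ ⊗[R₂] R₃) C))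
    hstage hq2
  -- base change up
  haveI hpo : Algebra.IsPushout (B₂ ⊗[R₂] R₃) (C₂ ⊗[R₂] R₃) B C := by
    haveI : Algebra.IsPushout R₃ (B₂ ⊗[R₂] R₃) R B := hpushB.symm
    exact (Algebra.IsPushout.comp_iff R₃ (B₂ ⊗[R₂] R₃) R (S' := B) (T := C₂ ⊗[R₂] R₃)
      (T' := C)).mp hpushC.symm
  exact flat_localizedModule_of_isBaseChange (R := B₂ ⊗[R₂] R₃) (S := C₂ ⊗[R₂] R₃) (R' := B)
    (S' := C) f hbcC q hB₁

end Stage

end Groth.Agent.Lead.CritFib
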