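import Mathlib
import Groth.Agent.Lib.Lead.CritFib9

/-!
# Critère de platitude par fibres: for a model over a Noetherian ring (lead)
-/

set_option autoImplicit false
set_option backward.isDefEq.respectTransparency.types false
set_option synthInstance.maxHeartbeats 400000
set_option linter.style.haveILetI false
universe u

namespace Groth.Agent.Lead.CritFib

open TensorProduct Groth.Agent.Lead.FlatLoc Groth.Agent.Helper3.ColimFlat

attribute [local instance] Algebra.TensorProduct.rightAlgebra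

section Model

variable (R₂ R B₂ B C₂ C : Type u) [CommRing R₂] [CommRing R] [CommRing B₂]
  [CommRing B] [CommRing C₂] [CommRing C] [IsNoetherianRing R₂]
  [Algebra R₂ R]
  -- `B`
  [Algebra R₂ B₂] [Algebra R B] [Algebra B₂ B] [Algebra R₂ B]
  [IsScalarTower R₂ R B] [IsScalarTower R₂ B₂ B] [Algebra.IsPushout R₂ R B₂ B]
  -- `C`
  [Algebra R₂ C₂] [Algebra R C] [Algebra C₂ C] [Algebra R₂ C]
  [IsScalarTower R₂ R C] [IsScalarTower R₂ C₂ C] [Algebra.IsPushout R₂ R C₂ C]
  -- `B → C`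
  [Algebra B₂ C₂] [IsScalarTower R₂ B₂ C₂] [Algebra B C] [IsScalarTower R B C]
  [Algebra B₂ C] [IsScalarTower B₂ C₂ C] [IsScalarTower B₂ B C]
  -- finiteness
  [Algebra.FiniteType R₂ C₂]
  (M₂ M : Type u) [AddCommGroup M₂] [Module C₂ M₂] [Module R₂ M₂] [IsScalarTower R₂ C₂ M₂]
  [Module.Finite C₂ M₂]
  [AddCommGroup M] [Module C M] [Module C₂ M] [IsScalarTower C₂ C M]
  [Module B M] [IsScalarTower B C M] [Module R M] [IsScalarTower R C M]
  (h₃ : M₂ →ₗ[C₂] M) (hh₃ : IsBaseChange C h₃)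
  (p : Ideal R) [p.IsPrime] (q : Ideal C) [q.IsPrime] [q.LiesOver p]

set_option backward.isDefEq.respectTransparency false in
set_option maxHeartbeats 2000000 in
include hh₃ in
/-- the critère, given a model over a Noetherian ring -/
theorem flat_of_model (hB₂ : Algebra.FiniteType R₂ B₂)
    (h1 : Module.Flat R (LocalizedModule q.primeCompl M))
    (h2 : Module.Flat (B ⧸ p.map (algebraMap R B))
      ((B ⧸ p.map (algebraMap R B)) ⊗[B] LocalizedModule q.primeCompl M)) :
    Module.Flat B (LocalizedModule q.primeCompl M) := by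
  haveI : ∀ i : FGSub R₂ R, IsNoetherianRing ↥i.1 := isNoetherianRing_fgSub R₂ R
  have h1' : Module.Flat R (Localization.AtPrime q ⊗[C₂] M₂) :=
    (flat_localizedModule_iff_tensor R C₂ C M₂ M h₃ hh₃ q).mp h1
  have h1'' : Module.Flat R
      (Localization.AtPrime (q.comap (tensorHom R₂ R C₂ C)) ⊗[C₂] M₂) :=
    (flat_tensor_localization_iff R₂ R C₂ C M₂ q).mp h1'
  obtain ⟨i, hi⟩ := exists_stage_flat_at (fun i : FGSub R₂ R => ↥i.1)
    (fun i j h => Subalgebra.inclusion (show i.1 ≤ j.1 from h)) R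
    (isDirectedColimitRing_fgSub R₂ R) C₂ M₂ (q.comap (tensorHom R₂ R C₂ C))
  have h3 := hi i le_rfl
  have h4 := (flat_localizedModule_iff M₂ ↥i.1 _).mpr h3
  have key : ∀ (P P' : Ideal (C₂ ⊗[R₂] ↥i.1)) [P.IsPrime] [P'.IsPrime], P = P' →
      Module.Flat ↥i.1 (LocalizedModule P.primeCompl ((C₂ ⊗[R₂] ↥i.1) ⊗[C₂] M₂)) →
      Module.Flat ↥i.1 (LocalizedModule P'.primeCompl ((C₂ ⊗[R₂] ↥i.1) ⊗[C₂] M₂)) := by
    intro P P' _ _ h
    subst h
    exact id
  letI := algTensor' R₂ ↥i.1 C₂ C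
  have hcomp : (tensorHom R₂ R C₂ C).comp
      (tmap (fun i : FGSub R₂ R => ↥i.1) R C₂ i) = tensorHom R₂ ↥i.1 C₂ C := by
    apply Algebra.TensorProduct.ext'
    intro s x
    simp [IsScalarTower.algebraMap_apply ↥i.1 R C]
  have hQ : (q.comap (tensorHom R₂ R C₂ C)).comap
      (tmap (fun i : FGSub R₂ R => ↥i.1) R C₂ i) =
      q.comap (algebraMap (C₂ ⊗[R₂] ↥i.1) C) := by
    ext x
    simp only [Ideal.mem_comap]
    rw [← AlgHom.comp_apply, hcomp]
    rfl
  have h5 := key _ _ hQ h4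
  exact flat_of_stage R₂ ↥i.1 R B₂ B C₂ C M₂ M h₃ hh₃ p q hB₂ h5 h2

end Model

end Groth.Agent.Lead.CritFib
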