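import Mathlib
import Groth.Agent.Lib.Lead.CritFib10
import Groth.Agent.Lib.Helper3.ColimFlat8

/-!
# Critère de platitude par fibres: existence of a model diagram (lead)
-/

set_option autoImplicit false
set_option backward.isDefEq.respectTransparency.types false
set_option synthInstance.maxHeartbeats 400000
set_option linter.style.haveILetI false
universe u

namespace Groth.Agent.Lead.CritFib

open TensorProduct Groth.Agent.Helper3.ColimFlat

attribute [local instance] Algebra.TensorProduct.rightAlgebra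

section Diagram

variable (A B C M : Type u) [CommRing A] [CommRing B] [CommRing C] [Algebra A B] [Algebra B C]
  [Algebra A C] [IsScalarTower A B C]
  [AddCommGroup M] [Module C M]

section Aux

variable {A B C}
variable {ι σ ι' σ' : Type} [Finite ι] [Finite σ] [Finite ι'] [Finite σ']
  (P : Algebra.Presentation A B ι σ) (Q : Algebra.Presentation B C ι' σ')
  (R₂ : Type u) [CommRing R₂] [Algebra R₂ A] [Algebra R₂ B] [Algebra R₂ C]
  [IsScalarTower R₂ A B] [IsScalarTower R₂ A C]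
  [P.HasCoeffs R₂] [(Q.comp P).HasCoeffs R₂]

theorem coeffs_subset_comp : P.coeffs ⊆ (Q.comp P).coeffs := by
  intro x hx
  obtain ⟨_, ⟨r, rfl⟩, hx⟩ := hx
  refine Set.mem_iUnion.mpr ⟨Sum.inr r, ?_⟩
  rw [Algebra.Presentation.comp_relation_inr]
  simp only [Finset.mem_coe] at hx ⊢
  obtain ⟨n, hn, rfl⟩ := MvPolynomial.mem_coeffs_iff.mp hx
  rw [← MvPolynomial.coeff_rename_mapDomain Sum.inr Sum.inr_injective]
  apply MvPolynomial.coeff_mem_coeffs
  rw [MvPolynomial.coeff_rename_mapDomain Sum.inr Sum.inr_injective]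
  exact MvPolynomial.mem_support_iff.mp hn

/-- the algebra structure of `B` over its model -/
noncomputable def modelAlgebra : Algebra (P.ModelOfHasCoeffs R₂) B :=
  ((P.tensorModelOfHasCoeffsEquiv R₂).toAlgHom.toRingHom.comp
    (Algebra.TensorProduct.includeRight :
      P.ModelOfHasCoeffs R₂ →ₐ[R₂] A ⊗[R₂] P.ModelOfHasCoeffs R₂).toRingHom).toAlgebra

theorem modelAlgebra_mk (x : MvPolynomial ι R₂) :
    letI := modelAlgebra P R₂
    algebraMap (P.ModelOfHasCoeffs R₂) B (Ideal.Quotient.mk _ x) = MvPolynomial.aeval P.val x := by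
  letI := modelAlgebra P R₂
  show P.tensorModelOfHasCoeffsEquiv R₂ ((1 : A) ⊗ₜ[R₂] (Ideal.Quotient.mk _ x)) = _
  rw [Algebra.Presentation.tensorModelOfHasCoeffsEquiv_tmul, map_one, one_mul]

theorem modelAlgebra_tower :
    letI := modelAlgebra P R₂
    IsScalarTower R₂ (P.ModelOfHasCoeffs R₂) B := by
  letI := modelAlgebra P R₂
  refine IsScalarTower.of_algebraMap_eq (R := R₂) (S := P.ModelOfHasCoeffs R₂) (A := B)
    (fun r => ?_)
  have : algebraMap R₂ (P.ModelOfHasCoeffs R₂) r = Ideal.Quotient.mk _ (MvPolynomial.C r) := rfl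
  rw [this, modelAlgebra_mk, MvPolynomial.aeval_C]

theorem modelAlgebra_isPushout :
    letI := modelAlgebra P R₂
    haveI := modelAlgebra_tower P R₂
    Algebra.IsPushout R₂ A (P.ModelOfHasCoeffs R₂) B := by
  letI := modelAlgebra P R₂
  haveI := modelAlgebra_tower P R₂
  haveI : IsScalarTower R₂ (P.ModelOfHasCoeffs R₂) (A ⊗[R₂] (P.ModelOfHasCoeffs R₂)) :=
    Algebra.TensorProduct.right_isScalarTower
  haveI : Algebra.IsPushout R₂ A (P.ModelOfHasCoeffs R₂) (A ⊗[R₂] (P.ModelOfHasCoeffs R₂)) :=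
    TensorProduct.isPushout
  exact Algebra.IsPushout.of_equiv (R := R₂) (R' := A) (S := P.ModelOfHasCoeffs R₂)
    (S' := A ⊗[R₂] (P.ModelOfHasCoeffs R₂)) (P.tensorModelOfHasCoeffsEquiv R₂) rfl

theorem rename_relationOfHasCoeffs (hinj : Function.Injective (algebraMap R₂ A)) (r : σ) :
    MvPolynomial.rename Sum.inr (P.relationOfHasCoeffs R₂ r) =
      (Q.comp P).relationOfHasCoeffs R₂ (Sum.inr r) := by
  apply MvPolynomial.map_injective _ hinj
  rw [MvPolynomial.map_rename, Algebra.Presentation.map_relationOfHasCoeffs,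
    Algebra.Presentation.map_relationOfHasCoeffs, Algebra.Presentation.comp_relation_inr]

/-- the map between the models -/
noncomputable def modelMap (hinj : Function.Injective (algebraMap R₂ A)) :
    P.ModelOfHasCoeffs R₂ →ₐ[R₂] (Q.comp P).ModelOfHasCoeffs R₂ :=
  Ideal.Quotient.liftₐ _
    ((Ideal.Quotient.mkₐ R₂ _).comp (MvPolynomial.rename Sum.inr)) (by
      simp_rw [← RingHom.mem_ker, ← SetLike.le_def, Ideal.span_le]
      rintro a ⟨r, rfl⟩
      simp only [SetLike.mem_coe, RingHom.mem_ker, AlgHom.coe_comp, Function.comp_apply,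
        Ideal.Quotient.mkₐ_eq_mk]
      rw [rename_relationOfHasCoeffs P Q R₂ hinj, Ideal.Quotient.eq_zero_iff_mem]
      exact Ideal.subset_span ⟨_, rfl⟩)

theorem modelMap_mk (hinj : Function.Injective (algebraMap R₂ A)) (x : MvPolynomial ι R₂) :
    modelMap P Q R₂ hinj (Ideal.Quotient.mk _ x) =
      Ideal.Quotient.mk _ (MvPolynomial.rename Sum.inr x) := rfl

theorem modelMap_compat (hinj : Function.Injective (algebraMap R₂ A))
    (y : P.ModelOfHasCoeffs R₂) :
    letI := modelAlgebra P R₂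
    letI := modelAlgebra (Q.comp P) R₂
    algebraMap ((Q.comp P).ModelOfHasCoeffs R₂) C (modelMap P Q R₂ hinj y) =
      algebraMap B C (algebraMap (P.ModelOfHasCoeffs R₂) B y) := by
  letI := modelAlgebra P R₂
  letI := modelAlgebra (Q.comp P) R₂
  obtain ⟨x, rfl⟩ := Ideal.Quotient.mk_surjective y
  rw [modelMap_mk, modelAlgebra_mk, modelAlgebra_mk, MvPolynomial.aeval_rename]
  have : (Q.comp P).val ∘ Sum.inr = algebraMap B C ∘ P.val := by
    ext i
    simp [Algebra.Presentation.comp]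
  rw [this]
  haveI : IsScalarTower R₂ B C := IsScalarTower.of_algebraMap_eq (R := R₂) (S := B) (A := C)
    (fun r => by
      rw [IsScalarTower.algebraMap_apply R₂ A C, IsScalarTower.algebraMap_apply A B C,
        ← IsScalarTower.algebraMap_apply R₂ A B])
  exact (MvPolynomial.comp_aeval_apply (f := P.val) (IsScalarTower.toAlgHom R₂ B C) x).symm

end Aux

set_option maxHeartbeats 2000000 in
/-- a tower `A → B → C` of finitely presented algebras with a finitely presented `C`-module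
descends to a finitely generated subring of `A` -/
theorem exists_model_diagram_aux {ι σ ι' σ' : Type} [Finite ι] [Finite σ] [Finite ι'] [Finite σ']
    (P : Algebra.Presentation A B ι σ) (Q : Algebra.Presentation B C ι' σ')
    [Module.FinitePresentation C M] :
    ∃ (R₂ : Subalgebra ℤ A), R₂.FG ∧ ∃ (B₂ : Type u) (_ : CommRing B₂) (_ : Algebra R₂ B₂)
      (_ : Algebra B₂ B) (_ : IsScalarTower R₂ B₂ B)
      (C₂ : Type u) (_ : CommRing C₂) (_ : Algebra R₂ C₂)
      (_ : Algebra C₂ C) (_ : IsScalarTower R₂ C₂ C)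
      (_ : Algebra B₂ C₂) (_ : IsScalarTower R₂ B₂ C₂) (_ : Algebra B₂ C)
      (_ : IsScalarTower B₂ C₂ C) (_ : IsScalarTower B₂ B C)
      (M₂ : Type u) (_ : AddCommGroup M₂)
      (_ : Module C₂ M₂) (_ : Module C₂ M) (_ : IsScalarTower C₂ C M) (h₃ : M₂ →ₗ[C₂] M),
      Algebra.FiniteType R₂ B₂ ∧ Algebra.FiniteType R₂ C₂ ∧ Module.Finite C₂ M₂ ∧
        Algebra.IsPushout R₂ A B₂ B ∧ Algebra.IsPushout R₂ A C₂ C ∧ IsBaseChange C h₃ := by
  classical
  obtain ⟨W, hWdef⟩ : ∃ W : Algebra.Presentation A C (ι' ⊕ ι) (σ' ⊕ σ), W = Q.comp P := ⟨_, rfl⟩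
  obtain ⟨n, m, f, g, hf, hfg⟩ := Module.FinitePresentation.exists_fin' C M
  have hsurj : Function.Surjective (MvPolynomial.aeval (R := A) W.val) := by
    intro x
    obtain ⟨y, hy⟩ := W.toGenerators.algebraMap_surjective x
    exact ⟨y, by rw [← hy, Algebra.Generators.algebraMap_apply]⟩
  choose p hp using fun (uv : Fin m × Fin n) => hsurj (g (Pi.single uv.1 1) uv.2)
  obtain ⟨R₂, hR₂, hrange⟩ : ∃ R₂ : Subalgebra ℤ A, R₂.FG ∧
      (W.coeffs ∪ ⋃ uv, ((p uv).coeffs : Set A)) ⊆ Set.range (algebraMap R₂ A) := by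
    have hsfin : (W.coeffs ∪ ⋃ uv, ((p uv).coeffs : Set A)).Finite := W.finite_coeffs.union
      (Set.finite_iUnion fun _ => Finset.finite_toSet _)
    refine ⟨Algebra.adjoin ℤ (W.coeffs ∪ ⋃ uv, ((p uv).coeffs : Set A)),
      ⟨hsfin.toFinset, by simp⟩, ?_⟩
    intro x hx
    exact ⟨⟨x, Algebra.subset_adjoin hx⟩, rfl⟩
  haveI hW : W.HasCoeffs R₂ := ⟨fun x hx => hrange (Or.inl hx)⟩
  subst hWdef
  haveI hP : P.HasCoeffs R₂ := ⟨fun x hx => hrange (Or.inl (coeffs_subset_comp P Q hx))⟩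
  have hinj : Function.Injective (algebraMap R₂ A) := Subtype.val_injective
  letI algB₂B := modelAlgebra P R₂
  letI algC₂C := modelAlgebra (Q.comp P) R₂
  haveI tB := modelAlgebra_tower P R₂
  haveI tC := modelAlgebra_tower (Q.comp P) R₂
  letI algB₂C₂ : Algebra (P.ModelOfHasCoeffs R₂) ((Q.comp P).ModelOfHasCoeffs R₂) :=
    (modelMap P Q R₂ hinj).toRingHom.toAlgebra
  haveI tBC : IsScalarTower R₂ (P.ModelOfHasCoeffs R₂) ((Q.comp P).ModelOfHasCoeffs R₂) :=
    IsScalarTower.of_algebraMap_eq (R := R₂) (S := P.ModelOfHasCoeffs R₂)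
      (A := (Q.comp P).ModelOfHasCoeffs R₂) (fun r => ((modelMap P Q R₂ hinj).commutes r).symm)
  letI algB₂C : Algebra (P.ModelOfHasCoeffs R₂) C :=
    ((algebraMap B C).comp (algebraMap (P.ModelOfHasCoeffs R₂) B)).toAlgebra
  haveI t1 : IsScalarTower (P.ModelOfHasCoeffs R₂) B C :=
    IsScalarTower.of_algebraMap_eq (R := P.ModelOfHasCoeffs R₂) (S := B) (A := C) (fun _ => rfl)
  haveI t2 : IsScalarTower (P.ModelOfHasCoeffs R₂) ((Q.comp P).ModelOfHasCoeffs R₂) C :=
    IsScalarTower.of_algebraMap_eq (R := P.ModelOfHasCoeffs R₂) (S := (Q.comp P).ModelOfHasCoeffs R₂)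
      (A := C) (fun y => (modelMap_compat P Q R₂ hinj y).symm)
  have hp0 : ∀ uv, ∃ q : MvPolynomial _ R₂, MvPolynomial.map (algebraMap R₂ A) q = p uv := by
    intro uv
    have : p uv ∈ Set.range (MvPolynomial.map (algebraMap R₂ A)) := by
      rw [MvPolynomial.mem_range_map_iff_coeffs_subset]
      exact fun x hx => hrange (Or.inr (Set.mem_iUnion.mpr ⟨uv, hx⟩))
    exact this
  choose p0 hp0 using hp0
  let Φ₀ : Fin m → Fin n → (Q.comp P).ModelOfHasCoeffs R₂ :=
    fun u v => Ideal.Quotient.mk _ (p0 (u, v))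
  have hΦ : ∀ u v, algebraMap ((Q.comp P).ModelOfHasCoeffs R₂) C (Φ₀ u v) =
      g (Pi.single u 1) v := by
    intro u v
    rw [modelAlgebra_mk, ← MvPolynomial.aeval_map_algebraMap A, hp0, hp]
  letI : Module ((Q.comp P).ModelOfHasCoeffs R₂) M :=
    Module.compHom M (algebraMap ((Q.comp P).ModelOfHasCoeffs R₂) C)
  haveI : IsScalarTower ((Q.comp P).ModelOfHasCoeffs R₂) C M :=
    IsScalarTower.of_compHom ((Q.comp P).ModelOfHasCoeffs R₂) C M
  obtain ⟨h₃, hh₃⟩ := exists_isBaseChange_coker Φ₀ g f hf hfg hΦ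
  refine ⟨R₂, hR₂, P.ModelOfHasCoeffs R₂, inferInstance, inferInstance, algB₂B, tB,
    (Q.comp P).ModelOfHasCoeffs R₂, inferInstance, inferInstance, algC₂C, tC,
    algB₂C₂, tBC, algB₂C, t2, t1,
    (Fin n → (Q.comp P).ModelOfHasCoeffs R₂) ⧸ LinearMap.range (colMap Φ₀), inferInstance,
    inferInstance, inferInstance, inferInstance, h₃, ?_, ?_, inferInstance, ?_, ?_, hh₃⟩
  · infer_instance
  · infer_instance
  · exact modelAlgebra_isPushout P R₂
  · exact modelAlgebra_isPushout (Q.comp P) R₂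

/-- a tower `A → B → C` of finitely presented algebras with a finitely presented `C`-module
descends to a finitely generated subring of `A` -/
theorem exists_model_diagram [Algebra.FinitePresentation A B] [Algebra.FinitePresentation B C]
    [Module.FinitePresentation C M] :
    ∃ (R₂ : Subalgebra ℤ A), R₂.FG ∧ ∃ (B₂ : Type u) (_ : CommRing B₂) (_ : Algebra R₂ B₂)
      (_ : Algebra B₂ B) (_ : IsScalarTower R₂ B₂ B)
      (C₂ : Type u) (_ : CommRing C₂) (_ : Algebra R₂ C₂)
      (_ : Algebra C₂ C) (_ : IsScalarTower R₂ C₂ C)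
      (_ : Algebra B₂ C₂) (_ : IsScalarTower R₂ B₂ C₂) (_ : Algebra B₂ C)
      (_ : IsScalarTower B₂ C₂ C) (_ : IsScalarTower B₂ B C)
      (M₂ : Type u) (_ : AddCommGroup M₂)
      (_ : Module C₂ M₂) (_ : Module C₂ M) (_ : IsScalarTower C₂ C M) (h₃ : M₂ →ₗ[C₂] M),
      Algebra.FiniteType R₂ B₂ ∧ Algebra.FiniteType R₂ C₂ ∧ Module.Finite C₂ M₂ ∧
        Algebra.IsPushout R₂ A B₂ B ∧ Algebra.IsPushout R₂ A C₂ C ∧ IsBaseChange C h₃ :=
  exists_model_diagram_aux A B C M (Algebra.Presentation.ofFinitePresentation A B)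
    (Algebra.Presentation.ofFinitePresentation B C)

set_option maxHeartbeats 2000000 in
/-- **Critère de platitude par fibres**, finitely presented case, pointwise form -/
theorem critere_fp [Algebra.FinitePresentation A B] [Algebra.FinitePresentation B C]
    [Module.FinitePresentation C M] [Module B M] [IsScalarTower B C M] [Module A M]
    [IsScalarTower A C M] (p : Ideal A) [p.IsPrime] (q : Ideal C) [q.IsPrime] [q.LiesOver p]
    (h1 : Module.Flat A (LocalizedModule q.primeCompl M))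
    (h2 : Module.Flat (B ⧸ p.map (algebraMap A B))
      ((B ⧸ p.map (algebraMap A B)) ⊗[B] LocalizedModule q.primeCompl M)) :
    Module.Flat B (LocalizedModule q.primeCompl M) := by
  obtain ⟨R₂, hR₂, B₂, _, _, _, _, C₂, _, _, _, _, _, _, _, _, _, M₂, _, _, _, _, h₃,
    hB₂, hC₂, hM₂, hpB, hpC, hh₃⟩ := exists_model_diagram A B C M
  haveI : Algebra.FiniteType ℤ R₂ := (Subalgebra.fg_iff_finiteType R₂).mp hR₂
  haveI : IsNoetherianRing R₂ := Algebra.FiniteType.isNoetherianRing ℤ R₂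
  letI : Module R₂ M₂ := Module.compHom M₂ (algebraMap R₂ C₂)
  haveI : IsScalarTower R₂ C₂ M₂ := IsScalarTower.of_compHom R₂ C₂ M₂
  exact flat_of_model R₂ A B₂ B C₂ C M₂ M h₃ hh₃ p q hB₂ h1 h2

end Diagram

end Groth.Agent.Lead.CritFib
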