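import Mathlib
import Groth.Agent.Lib.Lead.CritFib7

/-!
# Critère de platitude par fibres: descent of fibre flatness, general form (lead)
-/

set_option autoImplicit false
set_option backward.isDefEq.respectTransparency.types false
set_option synthInstance.maxHeartbeats 400000
set_option linter.style.haveILetI false
universe u

namespace Groth.Agent.Lead.CritFib

open TensorProduct

attribute [local instance] Algebra.TensorProduct.rightAlgebra

section Crux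

variable {R₁ R B₁ B C₁ C : Type u} [CommRing R₁] [CommRing R] [CommRing B₁] [CommRing B]
  [CommRing C₁] [CommRing C]
  [Algebra R₁ R]
  [Algebra R₁ B₁] [Algebra R B] [Algebra B₁ B] [Algebra R₁ B] [IsScalarTower R₁ R B]
  [IsScalarTower R₁ B₁ B]
  [Algebra R₁ C₁] [Algebra R C] [Algebra C₁ C] [Algebra R₁ C] [IsScalarTower R₁ R C]
  [IsScalarTower R₁ C₁ C] [Algebra.IsPushout R₁ R C₁ C]
  [Algebra B₁ C₁] [IsScalarTower R₁ B₁ C₁] [Algebra B C] [IsScalarTower R B C]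
  [Algebra B₁ C] [IsScalarTower B₁ C₁ C] [IsScalarTower B₁ B C]
  (M₁ M : Type u) [AddCommGroup M₁] [Module C₁ M₁] [Module B₁ M₁] [IsScalarTower B₁ C₁ M₁]
  [AddCommGroup M] [Module C M] [Module B M] [IsScalarTower B C M] [Module C₁ M]
  [IsScalarTower C₁ C M]
  (g : M₁ →ₗ[C₁] M) (hg : IsBaseChange C g)
  (p : Ideal R) [p.IsPrime] (q : Ideal C) [q.IsPrime] [q.LiesOver p]

attribute [local instance] fibAlg

set_option backward.isDefEq.respectTransparency false in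
set_option maxHeartbeats 2000000 in
include hg in
/-- **Descent of fibre flatness to a model.** -/
theorem qflat_descend'
    (fB₀ : ∀ (a : Algebra (B₁ ⧸ (p.comap (algebraMap R₁ R)).map (algebraMap R₁ B₁))
        (B ⊗[R] p.ResidueField)),
      (∀ x : B₁, @algebraMap _ _ _ _ a (Ideal.Quotient.mk _ x) = algebraMap B₁ B x ⊗ₜ 1) →
      @Module.Flat (B₁ ⧸ (p.comap (algebraMap R₁ R)).map (algebraMap R₁ B₁))
        (B ⊗[R] p.ResidueField) _ _ a.toModule)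
    (h : Module.Flat (B ⧸ p.map (algebraMap R B))
      ((B ⧸ p.map (algebraMap R B)) ⊗[B] LocalizedModule q.primeCompl M)) :
    Module.Flat (B₁ ⧸ (p.comap (algebraMap R₁ R)).map (algebraMap R₁ B₁))
      ((B₁ ⧸ (p.comap (algebraMap R₁ R)).map (algebraMap R₁ B₁)) ⊗[B₁]
        LocalizedModule (q.comap (algebraMap C₁ C)).primeCompl M₁) := by
  have hA := flat_fibre_of_qflat M p q h
  let p₁ : Ideal R₁ := p.comap (algebraMap R₁ R)
  let I₁ : Ideal B₁ := p₁.map (algebraMap R₁ B₁)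
  let J₁ : Ideal C₁ := I₁.map (algebraMap B₁ C₁)
  -- `B₁ ⧸ I₁ → B ⊗ κ`
  have hB : ∀ x ∈ I₁, algebraMap B₁ (B ⊗[R] p.ResidueField) x = 0 := by
    have hle : I₁ ≤ RingHom.ker (algebraMap B₁ (B ⊗[R] p.ResidueField)) := by
      rw [Ideal.map_le_iff_le_comap]
      intro r hr
      rw [Ideal.mem_comap, RingHom.mem_ker,
        IsScalarTower.algebraMap_apply B₁ B (B ⊗[R] p.ResidueField),
        ← IsScalarTower.algebraMap_apply R₁ B₁ B, IsScalarTower.algebraMap_apply R₁ R B]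
      exact algebraMap_fibre_eq_zero p _ (Ideal.mem_map_of_mem _ hr)
    exact fun x hx => hle hx
  letI aB : Algebra (B₁ ⧸ I₁) (B ⊗[R] p.ResidueField) :=
    (Ideal.Quotient.lift I₁ (algebraMap B₁ (B ⊗[R] p.ResidueField)) hB).toAlgebra
  have hcB : ∀ x : B₁, algebraMap (B₁ ⧸ I₁) (B ⊗[R] p.ResidueField) (Ideal.Quotient.mk I₁ x) =
      algebraMap B₁ B x ⊗ₜ 1 := fun x => rfl
  haveI fB : Module.Flat (B₁ ⧸ I₁) (B ⊗[R] p.ResidueField) := fB₀ aB hcB
  -- `C₁ ⧸ J₁ → C ⊗ κ`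
  have hJ : J₁ = p₁.map (algebraMap R₁ C₁) := by
    show (p₁.map (algebraMap R₁ B₁)).map (algebraMap B₁ C₁) = _
    rw [Ideal.map_map, ← IsScalarTower.algebraMap_eq]
  have hC : ∀ x ∈ J₁, algebraMap C₁ (C ⊗[R] p.ResidueField) x = 0 := by
    have hle : J₁ ≤ RingHom.ker (algebraMap C₁ (C ⊗[R] p.ResidueField)) := by
      rw [hJ, Ideal.map_le_iff_le_comap]
      intro r hr
      rw [Ideal.mem_comap, RingHom.mem_ker,
        IsScalarTower.algebraMap_apply C₁ C (C ⊗[R] p.ResidueField),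
        ← IsScalarTower.algebraMap_apply R₁ C₁ C, IsScalarTower.algebraMap_apply R₁ R C]
      exact algebraMap_fibre_eq_zero p _ (Ideal.mem_map_of_mem _ hr)
    exact fun x hx => hle hx
  letI aC : Algebra (C₁ ⧸ J₁) (C ⊗[R] p.ResidueField) :=
    (Ideal.Quotient.lift J₁ (algebraMap C₁ (C ⊗[R] p.ResidueField)) hC).toAlgebra
  have hcC : ∀ x : C₁, algebraMap (C₁ ⧸ J₁) (C ⊗[R] p.ResidueField) (Ideal.Quotient.mk J₁ x) =
      algebraMap C₁ C x ⊗ₜ 1 := fun x => rfl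
  haveI fC : Module.Flat (C₁ ⧸ J₁) (C ⊗[R] p.ResidueField) :=
    flat_fibre_quotient (R₁ := R₁) (R := R) (X₁ := C₁) (X := C) p J₁ hJ hcC
  -- `B₁ ⧸ I₁ → C ⊗ κ`
  letI aBC : Algebra (B₁ ⧸ I₁) (C ⊗[R] p.ResidueField) :=
    ((algebraMap (B ⊗[R] p.ResidueField) (C ⊗[R] p.ResidueField)).comp
      (algebraMap (B₁ ⧸ I₁) (B ⊗[R] p.ResidueField))).toAlgebra
  haveI t1 : IsScalarTower (B₁ ⧸ I₁) (B ⊗[R] p.ResidueField) (C ⊗[R] p.ResidueField) :=
    .of_algebraMap_eq' rfl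
  haveI t2 : IsScalarTower (B₁ ⧸ I₁) (C₁ ⧸ J₁) (C ⊗[R] p.ResidueField) :=
    .of_algebraMap_eq fun x => by
      obtain ⟨x, rfl⟩ := Ideal.Quotient.mk_surjective x
      show algebraMap (B ⊗[R] p.ResidueField) (C ⊗[R] p.ResidueField)
        (algebraMap B₁ B x ⊗ₜ 1) = algebraMap C₁ C (algebraMap B₁ C₁ x) ⊗ₜ 1
      rw [fibAlg_tmul, ← IsScalarTower.algebraMap_apply B₁ B C,
        ← IsScalarTower.algebraMap_apply B₁ C₁ C]
  -- the modules
  let Mκ := (C ⊗[R] p.ResidueField) ⊗[C] M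
  let g' : M₁ →ₗ[C₁] Mκ :=
    ((TensorProduct.mk C (C ⊗[R] p.ResidueField) M 1).restrictScalars C₁) ∘ₗ g
  have hg' : IsBaseChange (C ⊗[R] p.ResidueField) g' :=
    IsBaseChange.comp hg (TensorProduct.isBaseChange C M (C ⊗[R] p.ResidueField))
  haveI t3 : IsScalarTower C₁ (C₁ ⧸ J₁) (C ⊗[R] p.ResidueField) := .of_algebraMap_eq fun x => rfl
  have hbar := TensorProduct.isBaseChange C₁ M₁ (C₁ ⧸ J₁)
  let fbar : (C₁ ⧸ J₁) ⊗[C₁] M₁ →ₗ[C₁ ⧸ J₁] Mκ := hbar.lift g'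
  have hfbar : IsBaseChange (C ⊗[R] p.ResidueField) fbar := by
    apply IsBaseChange.of_comp hbar
    rw [IsBaseChange.lift_comp]
    exact hg'
  have hdesc := flat_localizedModule_of_flat_baseChange (R := B₁ ⧸ I₁) (S := C₁ ⧸ J₁)
    (R' := B ⊗[R] p.ResidueField) (S' := C ⊗[R] p.ResidueField) fbar hfbar (fibPrime p q) hA
  have hq := (qflat_iff_flat_localizedModule_quotient I₁ M₁
    ((fibPrime p q).comap (algebraMap (C₁ ⧸ J₁) (C ⊗[R] p.ResidueField)))).mpr hdesc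
  have hprime : ((fibPrime p q).comap (algebraMap (C₁ ⧸ J₁) (C ⊗[R] p.ResidueField))).comap
      (algebraMap C₁ (C₁ ⧸ J₁)) = q.comap (algebraMap C₁ C) := by
    ext x
    rw [Ideal.mem_comap, Ideal.mem_comap, Ideal.mem_comap]
    show algebraMap C₁ C x ⊗ₜ 1 ∈ fibPrime p q ↔ _
    have h1 : algebraMap C₁ C x ∈ (fibPrime p q).comap (algebraMap C (C ⊗[R] p.ResidueField)) ↔
        algebraMap C₁ C x ⊗ₜ 1 ∈ fibPrime p q := Iff.rfl
    rw [← h1, comap_fibPrime]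
  have key : ∀ (P P' : Ideal C₁) [P.IsPrime] [P'.IsPrime], P = P' →
      Module.Flat (B₁ ⧸ I₁) ((B₁ ⧸ I₁) ⊗[B₁] LocalizedModule P.primeCompl M₁) →
      Module.Flat (B₁ ⧸ I₁) ((B₁ ⧸ I₁) ⊗[B₁] LocalizedModule P'.primeCompl M₁) := by
    intro P P' _ _ h
    subst h
    exact id
  exact key _ _ hprime hq

end Crux

end Groth.Agent.Lead.CritFib
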