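import Mathlib
import Groth.Agent.Lib.Lead.CritFib11
import Groth.Agent.Lib.Lead.CritFib12

/-!
# Critère de platitude par fibres: finite type middle ring (lead)
-/

set_option autoImplicit false
set_option backward.isDefEq.respectTransparency.types false
set_option synthInstance.maxHeartbeats 400000
set_option linter.style.haveILetI false
universe u

namespace Groth.Agent.Lead.CritFib

open TensorProduct

attribute [local instance] Algebra.TensorProduct.rightAlgebra

section FG

variable {A P K : Type u} [CommRing A] [CommRing P] [CommRing K] [Algebra A P] [Algebra A K]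

theorem exists_fg_le_map_eq [IsNoetherianRing (P ⊗[A] K)] (I : Ideal P) :
    ∃ I' : Ideal P, I' ≤ I ∧ I'.FG ∧
      I'.map (Algebra.TensorProduct.includeLeft : P →ₐ[A] P ⊗[A] K) =
        I.map (Algebra.TensorProduct.includeLeft : P →ₐ[A] P ⊗[A] K) := by
  classical
  set f : P →ₐ[A] P ⊗[A] K := Algebra.TensorProduct.includeLeft with hf
  have hfg : (I.map f).FG := IsNoetherian.noetherian _
  rw [Ideal.map] at hfg
  obtain ⟨s', hs', hspan⟩ := (Submodule.fg_span_iff_fg_span_finset_subset (f '' (I : Set P))).mp hfg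
  obtain ⟨t, ht, rfl⟩ := Finset.subset_set_image_iff.mp hs'
  refine ⟨Ideal.span (t : Set P), Ideal.span_le.mpr ht, ⟨t, rfl⟩, ?_⟩
  rw [Ideal.map_span, Ideal.map]
  rw [Finset.coe_image] at hspan
  exact hspan.symm

end FG

section Bij

variable {A P B K : Type u} [CommRing A] [CommRing P] [CommRing B] [CommRing K] [Algebra A P]
  [Algebra A B] [Algebra A K] (π : P →ₐ[A] B) (hπ : Function.Surjective π) (I' : Ideal P)
  (hI' : I' ≤ RingHom.ker π)
  (hmap : I'.map (Algebra.TensorProduct.includeLeft : P →ₐ[A] P ⊗[A] K) =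
    (RingHom.ker π).map (Algebra.TensorProduct.includeLeft : P →ₐ[A] P ⊗[A] K))

/-- the map from the finitely presented quotient -/
def quotMap : P ⧸ I' →ₐ[A] B := Ideal.Quotient.liftₐ I' π (fun a ha => hI' ha)

theorem quotMap_mk (x : P) : quotMap π I' hI' (Ideal.Quotient.mk I' x) = π x := rfl

include hπ in
theorem quotMap_surjective : Function.Surjective (quotMap π I' hI') := by
  intro b
  obtain ⟨x, rfl⟩ := hπ b
  exact ⟨Ideal.Quotient.mk I' x, rfl⟩

include hπ hmap in
theorem bijective_map_quotMap :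
    Function.Bijective (Algebra.TensorProduct.map (quotMap π I' hI') (AlgHom.id A K)) := by
  refine ⟨?_, Algebra.TensorProduct.map_surjective _ _ (quotMap_surjective π hπ I' hI')
    Function.surjective_id⟩
  rw [injective_iff_map_eq_zero]
  intro x hx
  have hθ : Function.Surjective (Algebra.TensorProduct.map (Ideal.Quotient.mkₐ A I')
      (AlgHom.id A K)) :=
    Algebra.TensorProduct.map_surjective _ _ Ideal.Quotient.mk_surjective Function.surjective_id
  obtain ⟨y, rfl⟩ := hθ x
  have hcomp : (Algebra.TensorProduct.map (quotMap π I' hI') (AlgHom.id A K)).comp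
      (Algebra.TensorProduct.map (Ideal.Quotient.mkₐ A I') (AlgHom.id A K)) =
      Algebra.TensorProduct.map π (AlgHom.id A K) := by
    apply Algebra.TensorProduct.ext'
    intro a k
    rfl
  have hy : y ∈ RingHom.ker (Algebra.TensorProduct.map π (AlgHom.id A K)) := by
    rw [RingHom.mem_ker, ← hcomp]
    exact hx
  rw [Algebra.TensorProduct.rTensor_ker π hπ, ← hmap] at hy
  have h2 := Algebra.TensorProduct.rTensor_ker (R := A) (C := K) (Ideal.Quotient.mkₐ A I')
    Ideal.Quotient.mk_surjective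
  have h3 : RingHom.ker (Ideal.Quotient.mkₐ A I') = I' := by
    ext z
    rw [RingHom.mem_ker, Ideal.Quotient.mkₐ_eq_mk, Ideal.Quotient.eq_zero_iff_mem]
  rw [h3] at h2
  rw [← h2] at hy
  exact hy

end Bij

section Surj

theorem flat_of_surjective {R S N : Type u} [CommRing R] [CommRing S] [Algebra R S]
    (h : Function.Surjective (algebraMap R S)) [AddCommGroup N] [Module R N] [Module S N]
    [IsScalarTower R S N] [Module.Flat R N] : Module.Flat S N := by
  haveI := TensorProduct.CompatibleSMul.of_algebraMap_surjective (M := S) (N := N) h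
  exact Module.Flat.of_linearEquiv (TensorProduct.lidOfCompatibleSMul R S N).symm

end Surj

section FibFlat

variable {A P B : Type u} [CommRing A] [CommRing P] [CommRing B] [Algebra A P]
  [Algebra A B] (p : Ideal A) [p.IsPrime] (π : P →ₐ[A] B) (hπ : Function.Surjective π)
  (I' : Ideal P) (hI' : I' ≤ RingHom.ker π)
  (hmap : I'.map (Algebra.TensorProduct.includeLeft : P →ₐ[A] P ⊗[A] p.ResidueField) =
    (RingHom.ker π).map (Algebra.TensorProduct.includeLeft : P →ₐ[A] P ⊗[A] p.ResidueField))

set_option backward.isDefEq.respectTransparency false in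
set_option maxHeartbeats 1000000 in
include hπ hmap in
theorem flat_fibre_quotMap (𝔞 : Ideal (P ⧸ I')) (h𝔞 : 𝔞 = p.map (algebraMap A (P ⧸ I')))
    (a : Algebra ((P ⧸ I') ⧸ 𝔞) (B ⊗[A] p.ResidueField))
    (ha : ∀ x : P ⧸ I', @algebraMap _ _ _ _ a (Ideal.Quotient.mk _ x) =
      quotMap π I' hI' x ⊗ₜ 1) :
    @Module.Flat ((P ⧸ I') ⧸ 𝔞) (B ⊗[A] p.ResidueField) _ _ a.toModule := by
  letI := a
  have h0 : ∀ x ∈ 𝔞, algebraMap (P ⧸ I') ((P ⧸ I') ⊗[A] p.ResidueField) x = 0 := by
    intro x hx
    rw [h𝔞] at hx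
    exact algebraMap_fibre_eq_zero p x hx
  letI a' : Algebra ((P ⧸ I') ⧸ 𝔞) ((P ⧸ I') ⊗[A] p.ResidueField) :=
    (Ideal.Quotient.lift 𝔞 (algebraMap (P ⧸ I') ((P ⧸ I') ⊗[A] p.ResidueField)) h0).toAlgebra
  have hc : ∀ x : P ⧸ I', algebraMap ((P ⧸ I') ⧸ 𝔞) ((P ⧸ I') ⊗[A] p.ResidueField)
      (Ideal.Quotient.mk 𝔞 x) = algebraMap (P ⧸ I') (P ⧸ I') x ⊗ₜ 1 := fun x => rfl
  haveI f1 : Module.Flat ((P ⧸ I') ⧸ 𝔞) ((P ⧸ I') ⊗[A] p.ResidueField) :=
    flat_fibre_quotient (R₁ := A) (R := A) (X₁ := P ⧸ I') (X := P ⧸ I') p 𝔞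
      (by rw [h𝔞, Algebra.algebraMap_self, Ideal.comap_id]) hc
  let φ := Algebra.TensorProduct.map (quotMap π I' hI') (AlgHom.id A p.ResidueField)
  have hφ : Function.Bijective φ := bijective_map_quotMap π hπ I' hI' hmap
  let ψ : ((P ⧸ I') ⊗[A] p.ResidueField) →ₗ[(P ⧸ I') ⧸ 𝔞] (B ⊗[A] p.ResidueField) :=
    { toFun := φ
      map_add' := map_add φ
      map_smul' := by
        intro r x
        obtain ⟨r, rfl⟩ := Ideal.Quotient.mk_surjective r
        rw [Algebra.smul_def, Algebra.smul_def, map_mul, RingHom.id_apply, hc, ha]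
        rfl }
  exact Module.Flat.of_linearEquiv (LinearEquiv.ofBijective ψ hφ).symm

end FibFlat

section Stage2

variable (A B C M : Type u) [CommRing A] [CommRing B] [CommRing C] [Algebra A B] [Algebra B C]
  [Algebra A C] [IsScalarTower A B C] [AddCommGroup M] [Module C M] [Module B M]
  [IsScalarTower B C M] [Module A M] [IsScalarTower A C M]
  (p : Ideal A) [p.IsPrime] (q : Ideal C) [q.IsPrime] [q.LiesOver p]

set_option maxHeartbeats 2000000 in
theorem critere_ft_aux {P : Type u} [CommRing P] [Algebra A P] [Algebra.FinitePresentation A P]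
    [IsNoetherianRing (P ⊗[A] p.ResidueField)] (π : P →ₐ[A] B) (hπ : Function.Surjective π)
    [Algebra.FinitePresentation A C] [Module.FinitePresentation C M]
    (h1 : Module.Flat A (LocalizedModule q.primeCompl M))
    (h2 : Module.Flat (B ⧸ p.map (algebraMap A B))
      ((B ⧸ p.map (algebraMap A B)) ⊗[B] LocalizedModule q.primeCompl M)) :
    Module.Flat B (LocalizedModule q.primeCompl M) := by
  obtain ⟨I', hI', hfg, hmap⟩ := exists_fg_le_map_eq (A := A) (K := p.ResidueField)
    (RingHom.ker π)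
  haveI : Algebra.FinitePresentation A (P ⧸ I') := Algebra.FinitePresentation.quotient hfg
  letI aB'B : Algebra (P ⧸ I') B := (quotMap π I' hI').toRingHom.toAlgebra
  haveI t0 : IsScalarTower A (P ⧸ I') B := IsScalarTower.of_algebraMap_eq
    (fun r => ((quotMap π I' hI').commutes r).symm)
  letI aB'C : Algebra (P ⧸ I') C := ((algebraMap B C).comp (algebraMap (P ⧸ I') B)).toAlgebra
  haveI t1 : IsScalarTower (P ⧸ I') B C := IsScalarTower.of_algebraMap_eq (fun _ => rfl)
  haveI t2 : IsScalarTower A (P ⧸ I') C := IsScalarTower.of_algebraMap_eq (fun r => by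
    rw [IsScalarTower.algebraMap_apply (P ⧸ I') B C, ← IsScalarTower.algebraMap_apply A (P ⧸ I') B,
      ← IsScalarTower.algebraMap_apply A B C])
  haveI : Algebra.FinitePresentation (P ⧸ I') C :=
    Algebra.FinitePresentation.of_restrict_scalars_finitePresentation A (P ⧸ I') C
  letI mB'M : Module (P ⧸ I') M := Module.compHom M (algebraMap (P ⧸ I') C)
  haveI t3 : IsScalarTower (P ⧸ I') C M := IsScalarTower.of_compHom (P ⧸ I') C M
  have hg : IsBaseChange C (LinearMap.id : M →ₗ[C] M) :=
    IsBaseChange.ofEquiv (LinearEquiv.refl C M)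
  have hq0 := qflat_descend' (R₁ := A) (R := A) (B₁ := P ⧸ I') (B := B) (C₁ := C) (C := C) M M
    (LinearMap.id : M →ₗ[C] M) hg p q
    (fun a ha => flat_fibre_quotMap p π hπ I' hI' hmap _
      (by rw [Algebra.algebraMap_self, Ideal.comap_id]) a ha)
    h2
  have key : ∀ (p' : Ideal A) (q' : Ideal C) [q'.IsPrime], p' = p → q' = q →
      Module.Flat ((P ⧸ I') ⧸ p'.map (algebraMap A (P ⧸ I')))
        (((P ⧸ I') ⧸ p'.map (algebraMap A (P ⧸ I'))) ⊗[P ⧸ I']
          LocalizedModule q'.primeCompl M) →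
      Module.Flat ((P ⧸ I') ⧸ p.map (algebraMap A (P ⧸ I')))
        (((P ⧸ I') ⧸ p.map (algebraMap A (P ⧸ I'))) ⊗[P ⧸ I']
          LocalizedModule q.primeCompl M) := by
    intro p' q' _ hp hq
    subst hp
    subst hq
    exact id
  have h2' := key _ _ (by rw [Algebra.algebraMap_self, Ideal.comap_id])
    (by rw [Algebra.algebraMap_self, Ideal.comap_id]) hq0
  have h3 : Module.Flat (P ⧸ I') (LocalizedModule q.primeCompl M) :=
    critere_fp A (P ⧸ I') C M p q h1 h2'
  haveI t4 : IsScalarTower (P ⧸ I') B (LocalizedModule q.primeCompl M) := by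
    refine IsScalarTower.of_algebraMap_smul (fun r x => ?_)
    rw [← IsScalarTower.algebraMap_smul C r x, ← IsScalarTower.algebraMap_smul C (algebraMap (P ⧸ I') B r) x]
    rfl
  exact flat_of_surjective (R := P ⧸ I') (S := B) (quotMap_surjective π hπ I' hI')

/-- **Critère de platitude par fibres**, pointwise form, `B` of finite type over `A` and
`C` of finite presentation over `A`. -/
theorem critere_ft [Algebra.FiniteType A B] [Algebra.FinitePresentation A C]
    [Module.FinitePresentation C M]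
    (h1 : Module.Flat A (LocalizedModule q.primeCompl M))
    (h2 : Module.Flat (B ⧸ p.map (algebraMap A B))
      ((B ⧸ p.map (algebraMap A B)) ⊗[B] LocalizedModule q.primeCompl M)) :
    Module.Flat B (LocalizedModule q.primeCompl M) := by
  obtain ⟨n, π, hπ⟩ := (Algebra.FiniteType.iff_quotient_mvPolynomial'' (R := A) (S := B)).mp
    inferInstance
  haveI : IsNoetherianRing (p.ResidueField ⊗[A] MvPolynomial (Fin n) A) :=
    Algebra.FiniteType.isNoetherianRing p.ResidueField _
  haveI : IsNoetherianRing (MvPolynomial (Fin n) A ⊗[A] p.ResidueField) :=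
    isNoetherianRing_of_ringEquiv _
      (Algebra.TensorProduct.comm A p.ResidueField (MvPolynomial (Fin n) A)).toRingEquiv
  exact critere_ft_aux A B C M p q π hπ h1 h2

end Stage2

end Groth.Agent.Lead.CritFib
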