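import Mathlib
import Groth.Agent.Lib.Lead.CritFib13

/-!
# Critère de platitude par fibres: abstract stalk form (lead)
-/

set_option autoImplicit false
set_option backward.isDefEq.respectTransparency.types false
set_option synthInstance.maxHeartbeats 400000
set_option linter.style.haveILetI false
universe u

namespace Groth.Agent.Lead.CritFib

open TensorProduct

section Transfer

variable {R : Type u} [CommRing R] (I : Ideal R) {N N' : Type u} [AddCommGroup N] [Module R N]
  [AddCommGroup N'] [Module R N']

theorem qflat_of_linearEquiv (e : N ≃ₗ[R] N')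
    (h : Module.Flat (R ⧸ I) ((R ⧸ I) ⊗[R] N)) : Module.Flat (R ⧸ I) ((R ⧸ I) ⊗[R] N') := by
  haveI := h
  exact Module.Flat.of_linearEquiv
    (AlgebraTensorModule.congr (LinearEquiv.refl (R ⧸ I) (R ⧸ I)) e).symm

end Transfer

section Stalk

set_option maxHeartbeats 1000000 in
/-- **Critère de platitude par fibres**, abstract stalk form. -/
theorem critere_stalk (A B C M : Type u) [CommRing A] [CommRing B] [CommRing C] [Algebra A B]
    [Algebra B C] [Algebra A C] [IsScalarTower A B C] [AddCommGroup M] [Module C M]
    [Algebra.FiniteType A B] [Algebra.FinitePresentation A C] [Module.FinitePresentation C M]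
    (p : Ideal A) [p.IsPrime] (p' : Ideal B) [p'.IsPrime] (q : Ideal C) [q.IsPrime]
    [q.LiesOver p]
    (N : Type u) [AddCommGroup N] [Module C N] [Module B N] [Module A N] [IsScalarTower B C N]
    [IsScalarTower A C N]
    (ι : M →ₗ[C] N) [IsLocalizedModule q.primeCompl ι]
    (OY : Type u) [CommRing OY] [Algebra B OY] [IsLocalization.AtPrime OY p'] [Module OY N]
    [IsScalarTower B OY N]
    (𝔪 : Ideal OY) (h𝔪 : 𝔪 = (p.map (algebraMap A B)).map (algebraMap B OY))
    (h1 : Module.Flat A N)
    (h2 : Module.Flat (OY ⧸ 𝔪) (N ⧸ (𝔪 • ⊤ : Submodule OY N))) :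
    Module.Flat OY N := by
  subst h𝔪
  letI : Module B M := Module.compHom M (algebraMap B C)
  haveI : IsScalarTower B C M := IsScalarTower.of_compHom B C M
  letI : Module A M := Module.compHom M (algebraMap A C)
  haveI : IsScalarTower A C M := IsScalarTower.of_compHom A C M
  have h2a : Module.Flat (OY ⧸ (p.map (algebraMap A B)).map (algebraMap B OY))
      ((OY ⧸ (p.map (algebraMap A B)).map (algebraMap B OY)) ⊗[OY] N) :=
    (qflat_iff_flat_quotient _ N).mpr h2
  haveI := h2a
  have h2b : Module.Flat (B ⧸ p.map (algebraMap A B)) ((B ⧸ p.map (algebraMap A B)) ⊗[B] N) :=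
    qflat_of_localization (S := OY) p'.primeCompl (p.map (algebraMap A B)) N
  let e : LocalizedModule q.primeCompl M ≃ₗ[C] N := IsLocalizedModule.iso q.primeCompl ι
  have h2c := qflat_of_linearEquiv (p.map (algebraMap A B)) (e.restrictScalars B).symm h2b
  haveI := h1
  have h1c : Module.Flat A (LocalizedModule q.primeCompl M) :=
    Module.Flat.of_linearEquiv (e.restrictScalars A)
  have h3 := critere_ft A B C M p q h1c h2c
  haveI : Module.Flat B N := Module.Flat.of_linearEquiv (e.restrictScalars B).symm
  exact (Module.flat_iff_of_isLocalization OY p'.primeCompl N).mpr inferInstance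

end Stalk

end Groth.Agent.Lead.CritFib
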