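import Mathlib
import Groth.Agent.Lib.Lead.CritFib14
import Groth.Agent.Lib.Lead.FlatLoc14

/-!
# Critère de platitude par fibres: scheme level, module version (lead)
-/

set_option autoImplicit false
set_option backward.isDefEq.respectTransparency.types false
set_option synthInstance.maxHeartbeats 400000
set_option linter.style.haveILetI false
universe u

open AlgebraicGeometry CategoryTheory TopologicalSpace

namespace Groth.Agent.Lead.CritFib

open Groth.Agent.Lead.FO Groth.Agent.Lead.SD Scheme.Modules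

attribute [local instance] stalkModule

set_option maxHeartbeats 1000000 in
theorem isFlatOverAt_of_fibre_aux {X Y S : Scheme.{u}} (f : X ⟶ Y) (g : Y ⟶ S)
    [LocallyOfFinitePresentation (f ≫ g)] [LocallyOfFiniteType g]
    (F : X.Modules) [F.IsQuasicoherent] (hfp : CohB1.IsFP F)
    {W : S.Opens} {V : Y.Opens} {U : X.Opens} (hW : IsAffineOpen W) (hV : IsAffineOpen V)
    (hU : IsAffineOpen U) (hUV' : U ≤ f ⁻¹ᵁ V) (hVW' : V ≤ g ⁻¹ᵁ W) (x : U)
    (h1 : FlatMod.IsFlatOverAt (f ≫ g) F x.1)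
    (h2 : letI := FlatMod.moduleStalkOver f F x.1
      Module.Flat (↑(Y.presheaf.stalk (f x.1)) ⧸ Ideal.map (g.stalkMap (f x.1)).hom
          (IsLocalRing.maximalIdeal ↑(S.presheaf.stalk (g (f x.1)))))
        (↑(F.presheaf.stalk x.1) ⧸ (Ideal.map (g.stalkMap (f x.1)).hom
          (IsLocalRing.maximalIdeal ↑(S.presheaf.stalk (g (f x.1)))) •
          (⊤ : Submodule ↑(Y.presheaf.stalk (f x.1)) ↑(F.presheaf.stalk x.1))))) :
    FlatMod.IsFlatOverAt f F x.1 := by
  have hUW' : U ≤ (f ≫ g) ⁻¹ᵁ W := fun z hz => hVW' (hUV' hz)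
  let yV : V := ⟨f x.1, hUV' x.2⟩
  let sW : W := ⟨g (f x.1), hUW' x.2⟩
  letI algAB : Algebra Γ(S, W) Γ(Y, V) := (g.appLE W V hVW').hom.toAlgebra
  letI algBC : Algebra Γ(Y, V) Γ(X, U) := (f.appLE V U hUV').hom.toAlgebra
  letI algAC : Algebra Γ(S, W) Γ(X, U) := ((f ≫ g).appLE W U hUW').hom.toAlgebra
  haveI tABC : IsScalarTower Γ(S, W) Γ(Y, V) Γ(X, U) := IsScalarTower.of_algebraMap_eq' (by
    show ((f ≫ g).appLE W U hUW').hom = (f.appLE V U hUV').hom.comp (g.appLE W V hVW').hom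
    rw [← CommRingCat.hom_comp, Scheme.Hom.appLE_comp_appLE])
  haveI ftAB : Algebra.FiniteType Γ(S, W) Γ(Y, V) :=
    HasRingHomProperty.appLE (P := @LocallyOfFiniteType) g inferInstance ⟨W, hW⟩ ⟨V, hV⟩ hVW'
  haveI fpAC : Algebra.FinitePresentation Γ(S, W) Γ(X, U) :=
    HasRingHomProperty.appLE (P := @LocallyOfFinitePresentation) (f ≫ g) inferInstance
      ⟨W, hW⟩ ⟨U, hU⟩ hUW'
  haveI fpM : Module.FinitePresentation Γ(X, U) Γ(F, U) :=
    Groth.Agent.Lead.FP.fp_sections_of_isFP F hfp hU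
  letI mB := stalkOver f F hUV' x
  letI mA := stalkOver (f ≫ g) F hUW' x
  haveI tB : IsScalarTower Γ(Y, V) Γ(X, U) (F.presheaf.stalk x.1) :=
    IsScalarTower.of_algebraMap_smul fun r m => rfl
  haveI tA : IsScalarTower Γ(S, W) Γ(X, U) (F.presheaf.stalk x.1) :=
    IsScalarTower.of_algebraMap_smul fun r m => rfl
  haveI locM := isLocalizedModule_germ F hU x
  letI algBOY := Y.presheaf.algebra_section_stalk yV
  haveI locOY := hV.isLocalization_stalk yV
  letI mOY := FlatMod.moduleStalkOver f F x.1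
  haveI tOY : IsScalarTower Γ(Y, V) (Y.presheaf.stalk (f x.1)) (F.presheaf.stalk x.1) :=
    IsScalarTower.of_algebraMap_smul fun r m => by
      change (f.stalkMap x.1).hom (Y.presheaf.germ V (f x.1) (hUV' x.2) r) • m =
        X.presheaf.germ U x.1 x.2 ((f.appLE V U hUV').hom r) • m
      rw [stalkMap_germ_eq f hUV' x]
  haveI hlo : (hU.primeIdealOf x).asIdeal.LiesOver (hW.primeIdealOf sW).asIdeal := ⟨by
    have := IsAffineOpen.comap_primeIdealOf_appLE (f := f ≫ g) W hW U hU hUW' x.2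
    exact (congrArg PrimeSpectrum.asIdeal this).symm⟩
  have h1' : Module.Flat Γ(S, W) (F.presheaf.stalk x.1) :=
    (isFlatOverAt_iff_flat_stalkOver (f ≫ g) F hW hUW' x).mp h1
  letI algAOS := S.presheaf.algebra_section_stalk sW
  haveI locOS := hW.isLocalization_stalk sW
  have h𝔪 : Ideal.map (g.stalkMap (f x.1)).hom
      (IsLocalRing.maximalIdeal ↑(S.presheaf.stalk (g (f x.1)))) =
      (((hW.primeIdealOf sW).asIdeal).map (algebraMap Γ(S, W) Γ(Y, V))).map
        (algebraMap Γ(Y, V) (Y.presheaf.stalk (f x.1))) := by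
    rw [← IsLocalization.AtPrime.map_eq_maximalIdeal (hW.primeIdealOf sW).asIdeal
      (S.presheaf.stalk (g (f x.1))), Ideal.map_map, Ideal.map_map]
    congr 1
    ext r
    exact stalkMap_germ_eq g hVW' yV r
  exact critere_stalk Γ(S, W) Γ(Y, V) Γ(X, U) Γ(F, U) (hW.primeIdealOf sW).asIdeal
    (hV.primeIdealOf yV).asIdeal (hU.primeIdealOf x).asIdeal (F.presheaf.stalk x.1) (germₗ F x)
    (Y.presheaf.stalk (f x.1)) _ h𝔪 h1' h2

/-- **Critère de platitude par fibres**, module version: flatness over `Y` at `x`. -/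
theorem isFlatOverAt_of_fibre {X Y S : Scheme.{u}} (f : X ⟶ Y) (g : Y ⟶ S)
    [LocallyOfFinitePresentation (f ≫ g)] [LocallyOfFiniteType g]
    (F : X.Modules) [F.IsQuasicoherent] (hfp : CohB1.IsFP F) (x : X)
    (h1 : FlatMod.IsFlatOverAt (f ≫ g) F x)
    (h2 : letI := FlatMod.moduleStalkOver f F x
      Module.Flat (↑(Y.presheaf.stalk (f x)) ⧸ Ideal.map (g.stalkMap (f x)).hom
          (IsLocalRing.maximalIdeal ↑(S.presheaf.stalk (g (f x)))))
        (↑(F.presheaf.stalk x) ⧸ (Ideal.map (g.stalkMap (f x)).hom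
          (IsLocalRing.maximalIdeal ↑(S.presheaf.stalk (g (f x)))) •
          (⊤ : Submodule ↑(Y.presheaf.stalk (f x)) ↑(F.presheaf.stalk x))))) :
    FlatMod.IsFlatOverAt f F x := by
  obtain ⟨_, ⟨W, hW, rfl⟩, hsW, -⟩ :=
    S.isBasis_affineOpens.exists_subset_of_mem_open (Set.mem_univ (g (f x))) isOpen_univ
  obtain ⟨_, ⟨V, hV, rfl⟩, hyV, hVW⟩ :=
    Y.isBasis_affineOpens.exists_subset_of_mem_open (show f x ∈ (g ⁻¹ᵁ W : Set Y) from hsW)
      (g ⁻¹ᵁ W).isOpen
  obtain ⟨_, ⟨U, hU, rfl⟩, hxU, hUV⟩ :=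
    X.isBasis_affineOpens.exists_subset_of_mem_open (show x ∈ (f ⁻¹ᵁ V : Set X) from hyV)
      (f ⁻¹ᵁ V).isOpen
  exact isFlatOverAt_of_fibre_aux f g F hfp hW hV hU hUV hVW ⟨x, hxU⟩ h1 h2

theorem stalk_finite_of_isFP {X : Scheme.{u}} (F : X.Modules) [F.IsQuasicoherent]
    (hfp : CohB1.IsFP F) (x : X) :
    Module.Finite (X.presheaf.stalk x) (F.presheaf.stalk x) := by
  obtain ⟨_, ⟨U, hU, rfl⟩, hxU, -⟩ :=
    X.isBasis_affineOpens.exists_subset_of_mem_open (Set.mem_univ x) isOpen_univ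
  obtain ⟨xU, rfl⟩ : ∃ xU : U, xU.1 = x := ⟨⟨x, hxU⟩, rfl⟩
  haveI fpM : Module.FinitePresentation Γ(X, U) Γ(F, U) :=
    Groth.Agent.Lead.FP.fp_sections_of_isFP F hfp hU
  haveI locM := isLocalizedModule_germ F hU xU
  haveI := hU.isLocalization_stalk xU
  exact Module.Finite.of_isLocalizedModule (hU.primeIdealOf xU).asIdeal.primeCompl (germₗ F xU)

/-- **Critère de platitude par fibres**, module version: flatness of the base at `f x`. -/
theorem flat_stalkMap_of_isFlatOverAt {X Y S : Scheme.{u}} (f : X ⟶ Y) (g : Y ⟶ S)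
    (F : X.Modules) [F.IsQuasicoherent] (hfp : CohB1.IsFP F) (x : X)
    (hx : Nontrivial ↑(F.presheaf.stalk x))
    (h1 : FlatMod.IsFlatOverAt (f ≫ g) F x) (h2 : FlatMod.IsFlatOverAt f F x) :
    (g.stalkMap (f x)).hom.Flat := by
  letI algRS : Algebra (S.presheaf.stalk (g (f x))) (Y.presheaf.stalk (f x)) :=
    (g.stalkMap (f x)).hom.toAlgebra
  letI algST : Algebra (Y.presheaf.stalk (f x)) (X.presheaf.stalk x) :=
    (f.stalkMap x).hom.toAlgebra
  haveI : IsLocalHom (algebraMap (Y.presheaf.stalk (f x)) (X.presheaf.stalk x)) :=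
    inferInstanceAs (IsLocalHom (f.stalkMap x).hom)
  letI mS := FlatMod.moduleStalkOver f F x
  letI mR : Module (S.presheaf.stalk (g (f x))) (F.presheaf.stalk x) :=
    FlatMod.moduleStalkOver (f ≫ g) F x
  haveI tST : IsScalarTower (Y.presheaf.stalk (f x)) (X.presheaf.stalk x) (F.presheaf.stalk x) :=
    IsScalarTower.of_algebraMap_smul fun r m => rfl
  haveI tRS : IsScalarTower (S.presheaf.stalk (g (f x))) (Y.presheaf.stalk (f x))
      (F.presheaf.stalk x) :=
    IsScalarTower.of_algebraMap_smul fun r m => by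
      change (f.stalkMap x).hom ((g.stalkMap (f x)).hom r) • m = ((f ≫ g).stalkMap x).hom r • m
      rw [Scheme.Hom.stalkMap_comp]
      rfl
  haveI := stalk_finite_of_isFP F hfp x
  haveI : Module.Flat (Y.presheaf.stalk (f x)) (F.presheaf.stalk x) := h2
  haveI : Module.Flat (S.presheaf.stalk (g (f x))) (F.presheaf.stalk x) := h1
  haveI : Module.FaithfullyFlat (Y.presheaf.stalk (f x)) (F.presheaf.stalk x) :=
    Groth.Agent.Helper1.LocalCrit.faithfullyFlat_of_flat_of_finite_of_isLocalHom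
      (S' := X.presheaf.stalk x) (F.presheaf.stalk x)
  exact Groth.Agent.Helper1.LocalCrit.flat_of_faithfullyFlat_of_flat (F.presheaf.stalk x)

/-- flatness over `Y` and flatness of `Y` over `S` give flatness over `S` -/
theorem isFlatOverAt_comp {X Y S : Scheme.{u}} (f : X ⟶ Y) (g : Y ⟶ S)
    (F : X.Modules) (x : X)
    (h1 : (g.stalkMap (f x)).hom.Flat) (h2 : FlatMod.IsFlatOverAt f F x) :
    FlatMod.IsFlatOverAt (f ≫ g) F x := by
  letI algRS : Algebra (S.presheaf.stalk (g (f x))) (Y.presheaf.stalk (f x)) :=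
    (g.stalkMap (f x)).hom.toAlgebra
  letI mS := FlatMod.moduleStalkOver f F x
  letI mR : Module (S.presheaf.stalk (g (f x))) (F.presheaf.stalk x) :=
    FlatMod.moduleStalkOver (f ≫ g) F x
  haveI tRS : IsScalarTower (S.presheaf.stalk (g (f x))) (Y.presheaf.stalk (f x))
      (F.presheaf.stalk x) :=
    IsScalarTower.of_algebraMap_smul fun r m => by
      change (f.stalkMap x).hom ((g.stalkMap (f x)).hom r) • m = ((f ≫ g).stalkMap x).hom r • m
      rw [Scheme.Hom.stalkMap_comp]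
      rfl
  haveI : Module.Flat (Y.presheaf.stalk (f x)) (F.presheaf.stalk x) := h2
  haveI : Module.Flat (S.presheaf.stalk (g (f x))) (Y.presheaf.stalk (f x)) := h1
  exact Module.Flat.trans (S.presheaf.stalk (g (f x))) (Y.presheaf.stalk (f x))
    (F.presheaf.stalk x)

/-- flatness passes to the fibre module -/
theorem flat_fibre_of_flat {R : Type u} [CommRing R] (I : Ideal R) (N : Type u) [AddCommGroup N]
    [Module R N] [Module.Flat R N] : Module.Flat (R ⧸ I) (N ⧸ (I • ⊤ : Submodule R N)) :=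
  (qflat_iff_flat_quotient I N).mp inferInstance

end Groth.Agent.Lead.CritFib
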