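import Mathlib
import Groth.Prelude.Def_ega3
import Groth.Agent.Lib.Helper4.ChartPkg1
import Groth.Agent.Lib.Helper3.LerayCol2

/-!
# Upper semicontinuity of the fibre ranks of a flat coherent module along a proper morphism to a
locally Noetherian base (lead; from helper4's chart package)
-/

set_option backward.isDefEq.respectTransparency.types false
set_option synthInstance.maxHeartbeats 400000
set_option autoImplicit false
set_option linter.unusedSectionVars false
universe u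
open CategoryTheory CategoryTheory.Limits AlgebraicGeometry TopologicalSpace Opposite TensorProduct Topology
open Groth.Agent.Helper1.FlatCxL
open Groth.Agent.Lib.Helper4.FibRank1
open Groth.Agent.Lib.Helper4.ExchAlg1
open Groth.Agent.Lib.Helper4.ExchAlg2
open Groth.Agent.Lib.Helper4.ChartPkg1

namespace Groth.Agent.Lead.FibSemi

variable {X S : Scheme.{u}} (f : X ⟶ S) [IsProper f] [IsLocallyNoetherian S]
  (F : X.Modules) (hF : Coh.IsCoh F) (hfl : FlatMod.IsFlatOver f F)

include hF hfl in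
theorem eventually_fiberRank_le_chart {V : S.Opens} (hV : IsAffineOpen V) (p : ℕ)
    (y₀ : PrimeSpectrum Γ(S, V)) :
    ∀ᶠ y' in 𝓝 y₀, CohIII.fiberRank f F p (hV.fromSpec y') ≤
      CohIII.fiberRank f F p (hV.fromSpec y₀) := by
  haveI := Groth.Agent.Helper3.LerayCol.hasInjectiveResolutions X
  haveI : IsNoetherianRing Γ(S, V) := IsLocallyNoetherian.component_noetherian ⟨V, hV⟩
  obtain ⟨K, hff, hneg, ⟨b, hb⟩, hsec, hrank, hvan⟩ := exists_chart_complex f F hF hfl hV
  haveI : ∀ i, Module.Finite Γ(S, V) (K.X i) := fun i => (hff i).1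
  haveI : ∀ i, Module.Free Γ(S, V) (K.X i) := fun i => (hff i).2
  filter_upwards [eventually_fibreRank_le (Wq K ((p : ℤ) - 1) (p : ℤ)) y₀,
    eventually_fibreRank_le (Wq K (p : ℤ) ((p : ℤ) + 1)) y₀] with y' h1 h2
  have e1 := hrank p y'
  have e2 := hrank p y₀
  have e3 : fibreRank (A := Γ(S, V)) (K.X ((p : ℤ) + 1)) y' =
      fibreRank (A := Γ(S, V)) (K.X ((p : ℤ) + 1)) y₀ := by
    rw [fibreRank_free, fibreRank_free]
  have h1' : fibreRank (A := Γ(S, V)) (Wq K ((p : ℤ) - 1) (p : ℤ)) y' ≤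
      fibreRank (A := Γ(S, V)) (Wq K ((p : ℤ) - 1) (p : ℤ)) y₀ := h1
  have h2' : fibreRank (A := Γ(S, V)) (Wq K (p : ℤ) ((p : ℤ) + 1)) y' ≤
      fibreRank (A := Γ(S, V)) (Wq K (p : ℤ) ((p : ℤ) + 1)) y₀ := h2
  omega

include hF hfl in
/-- upper semicontinuity of `y ↦ dim H^p(X_y, F_y)` -/
theorem isOpen_fiberRank_lt (p n : ℕ) : IsOpen {y : S | CohIII.fiberRank f F p y < n} := by
  rw [isOpen_iff_mem_nhds]
  intro y₀ hy₀
  obtain ⟨_, ⟨V, hV, rfl⟩, hyV, -⟩ := S.isBasis_affineOpens.exists_subset_of_mem_open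
    (Set.mem_univ y₀) isOpen_univ
  let y₀' : PrimeSpectrum Γ(S, V) := hV.primeIdealOf ⟨y₀, hyV⟩
  have hy' : hV.fromSpec y₀' = y₀ := hV.fromSpec_primeIdealOf ⟨y₀, hyV⟩
  have h1 := eventually_fiberRank_le_chart f F hF hfl hV p y₀'
  have h2 : hV.fromSpec.base '' {y' | CohIII.fiberRank f F p (hV.fromSpec y') ≤
      CohIII.fiberRank f F p (hV.fromSpec y₀')} ∈ 𝓝 (hV.fromSpec y₀') :=
    hV.fromSpec.isOpenEmbedding.isOpenMap.image_mem_nhds h1
  rw [hy'] at h2
  refine Filter.mem_of_superset h2 ?_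
  rintro _ ⟨y', hy1, rfl⟩
  have : CohIII.fiberRank f F p (hV.fromSpec y') ≤ CohIII.fiberRank f F p y₀ := by
    exact hy1
  exact lt_of_le_of_lt this hy₀

include hF hfl in
theorem isClosed_le_fiberRank (p n : ℕ) : IsClosed {y : S | n ≤ CohIII.fiberRank f F p y} := by
  have h := isOpen_fiberRank_lt f F hF hfl p n
  rw [← isClosed_compl_iff] at h
  convert h using 1
  ext y
  simp

end Groth.Agent.Lead.FibSemi
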