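import Mathlib
import Groth.Agent.Lib.Helper1.TrivInv1
import Groth.Agent.Lib.Helper1.CurveLin2
import Groth.Agent.Lib.Helper1.HH0
import Groth.Agent.Lib.Lead.PicCalc

/-!
# Triviality of an invertible module on a proper integral scheme over a field, through `H^0`
-/

set_option backward.isDefEq.respectTransparency.types false
set_option autoImplicit false
universe u
open CategoryTheory CategoryTheory.Limits AlgebraicGeometry TopologicalSpace Opposite

namespace Groth.Agent.Lead.TrivFib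

open Groth.Agent.Helper1 Groth.Agent.Helper1.QcCech Groth.Agent.Helper1.PFrame
open Groth.Agent.Lead.PicCalc

variable {X : Scheme.{u}}

theorem nontrivial_HH0_iff (E : X.Modules) :
    Nontrivial (Coh.HH X E 0) ↔ ∃ σ : Γ(E, ⊤), σ ≠ 0 := by
  constructor
  · intro h
    obtain ⟨x, hx⟩ := exists_ne (0 : Coh.HH X E 0)
    exact ⟨HH0.equiv X E x, fun h0 => hx ((HH0.equiv X E).map_eq_zero_iff.mp h0)⟩
  · rintro ⟨σ, hσ⟩
    refine ⟨⟨(HH0.equiv X E).symm σ, 0, fun h0 => hσ ?_⟩⟩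
    have := congrArg (HH0.equiv X E) h0
    rw [AddEquiv.apply_symm_apply, map_zero] at this
    exact this

theorem exists_hom_ne_zero_iff (E : X.Modules) :
    (∃ s : Coh.structureModule X ⟶ E, s ≠ 0) ↔ ∃ σ : Γ(E, ⊤), σ ≠ 0 := by
  constructor
  · rintro ⟨s, hs⟩
    refine ⟨s.app ⊤ (show Γ(Coh.structureModule X, ⊤) from (1 : Γ(X, ⊤))), fun h0 => hs ?_⟩
    apply hom_ext_one
    rw [h0]
    rfl
  · rintro ⟨σ, hσ⟩
    refine ⟨TwistAmple.homOfSec E σ, fun h0 => hσ ?_⟩
    rw [← homOfSec_app_one E σ, h0]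
    rfl

/-- the criterion: `L` is trivial iff `L` and an inverse of `L` both have nonzero sections -/
theorem iso_iff_nontrivial (k : Type u) [Field k] (p : X ⟶ Spec (CommRingCat.of k)) [IsProper p]
    [IsIntegral X] (L K : X.Modules) (hL : PicF.IsInvertible L) (hK : PicF.IsInvertible K)
    (e : Nonempty (CohB1.tensorMod K L ≅ Coh.structureModule X)) :
    Nonempty (L ≅ Coh.structureModule X) ↔
      Nontrivial (Coh.HH X L 0) ∧ Nontrivial (Coh.HH X K 0) := by
  have hKL : PicF.cl K * PicF.cl L = 1 := cl_eq_of_iso e.some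
  constructor
  · rintro ⟨eL⟩
    have h1 : PicF.cl L = 1 := cl_eq_of_iso eL
    have h2 : PicF.cl K = 1 := by rw [h1, mul_one] at hKL; exact hKL
    obtain ⟨eK⟩ : Nonempty (K ≅ Coh.structureModule X) := nonempty_iso_of_cl_eq h2
    refine ⟨?_, ?_⟩
    · rw [nontrivial_HH0_iff, ← exists_hom_ne_zero_iff]
      exact ((TrivInv.iso_iff_sections k p L hL).mp ⟨eL⟩).1
    · rw [nontrivial_HH0_iff, ← exists_hom_ne_zero_iff]
      exact ((TrivInv.iso_iff_sections k p K hK).mp ⟨eK⟩).1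
  · rintro ⟨h1, h2⟩
    rw [nontrivial_HH0_iff] at h1 h2
    obtain ⟨σ', hσ'⟩ := h2
    refine (TrivInv.iso_iff_sections k p L hL).mpr ⟨(exists_hom_ne_zero_iff L).mpr h1, ?_⟩
    refine ⟨CurveAmp.mulΓ L K σ' ≫ (commIso L K ≪≫ e.some).hom, fun h0 => ?_⟩
    apply CurveLin.mulΓ_ne_zero hL hK σ' hσ'
    rw [← cancel_mono (commIso L K ≪≫ e.some).hom, h0, zero_comp]

end Groth.Agent.Lead.TrivFib
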