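import Mathlib
import Groth.Prelude.Def_ega3
import Groth.Agent.Lib.Lead.FibSemi
import Groth.Agent.Lib.Lead.TrivFib
import Groth.Agent.Lib.Helper4.T2Main1
import Groth.Agent.Lib.Helper1.InvInv2
import Groth.Agent.Lib.Helper1.InvFt
import Groth.Agent.Lib.Helper1.PullGen2
import Groth.Agent.Lib.Helper5.Perf.RelPerf

/-!
# The locus of points of the base over which an invertible module is trivial on the fibre
-/

set_option backward.isDefEq.respectTransparency.types false
set_option synthInstance.maxHeartbeats 400000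
set_option autoImplicit false
set_option linter.style.haveILetI false
universe u
open CategoryTheory CategoryTheory.Limits AlgebraicGeometry TopologicalSpace Opposite

namespace Groth.Agent.Lead.TrivLocus

open Groth.Agent.Helper1 Groth.Agent.Lead.PicCalc Groth.Agent.Lead.TrivFib

variable {X Y : Scheme.{u}} (f : X ⟶ Y)

instance isProper_fiberToSpec [IsProper f] (y : Y) : IsProper (f.fiberToSpecResidueField y) :=
  MorphismProperty.pullback_snd _ _ inferInstance

theorem finite_fiberH [IsProper f] (L : X.Modules) (hL : PicF.IsInvertible L) (y : Y) (p : ℕ) :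
    Module.Finite (Y.residueField y) (CohIII.fiberH f L y p) := by
  letI : (f.fiber y).Over (Spec (CommRingCat.of (Y.residueField y))) :=
    ⟨f.fiberToSpecResidueField y⟩
  haveI : IsProper ((f.fiber y) ↘ Spec (CommRingCat.of (Y.residueField y))) :=
    isProper_fiberToSpec f y
  exact Groth.Agent.Lib.Helper4.T2Main1.t2 (Y.residueField y) (f.fiber y) (CohIII.fiberMod f L y)
    (InvQc.isCoh_of_isInvertible _ (PullGen.isInvertible_pullback (f.fiberι y) hL)) p

theorem one_le_fiberRank_iff [IsProper f] (L : X.Modules) (hL : PicF.IsInvertible L) (y : Y) :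
    1 ≤ CohIII.fiberRank f L 0 y ↔ Nontrivial (CohIII.fiberH f L y 0) := by
  haveI := finite_fiberH f L hL y 0
  exact Module.finrank_pos_iff

theorem fiber_iso_iff [IsProper f] (hint : ∀ y, IsIntegral (f.fiber y)) (L K : X.Modules)
    (hL : PicF.IsInvertible L) (hK : PicF.IsInvertible K)
    (e : Nonempty (CohB1.tensorMod K L ≅ Coh.structureModule X)) (y : Y) :
    Nonempty (CohIII.fiberMod f L y ≅ Coh.structureModule (f.fiber y)) ↔
      1 ≤ CohIII.fiberRank f L 0 y ∧ 1 ≤ CohIII.fiberRank f K 0 y := by
  haveI := hint y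
  have hLy := PullGen.isInvertible_pullback (f.fiberι y) hL
  have hKy := PullGen.isInvertible_pullback (f.fiberι y) hK
  have ey : Nonempty (CohB1.tensorMod (CohIII.fiberMod f K y) (CohIII.fiberMod f L y) ≅
      Coh.structureModule (f.fiber y)) := by
    apply nonempty_iso_of_cl_eq
    have h1 : PicF.cl K * PicF.cl L = 1 := cl_eq_of_iso e.some
    have h2 := congrArg (PicF.pullCl (f.fiberι y)) h1
    rw [pull_mul, pull_one] at h2
    exact h2
  rw [one_le_fiberRank_iff f L hL, one_le_fiberRank_iff f K hK]
  exact iso_iff_nontrivial (Y.residueField y) (f.fiberToSpecResidueField y) _ _ hLy hKy ey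

/-- S16760 -/
theorem isClosed_trivial_locus [IsProper f] [Flat f] [IsLocallyNoetherian Y]
    (hgeo : ∀ (K : Type u) [Field K] (x : Spec (CommRingCat.of K) ⟶ Y), IsIntegral (pullback f x))
    (L : X.Modules) (hL : PicF.IsInvertible L) :
    IsClosed {y : Y | Nonempty (CohIII.fiberMod f L y ≅ Coh.structureModule (f.fiber y))} := by
  obtain ⟨K, hK, e⟩ := InvInv2.exists_inverse hL
  have hint : ∀ y, IsIntegral (f.fiber y) := fun y =>
    hgeo (Y.residueField y) (Y.fromSpecResidueField y)
  have hset : {y : Y | Nonempty (CohIII.fiberMod f L y ≅ Coh.structureModule (f.fiber y))} =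
      {y | 1 ≤ CohIII.fiberRank f L 0 y} ∩ {y | 1 ≤ CohIII.fiberRank f K 0 y} := by
    ext y
    exact fiber_iso_iff f hint L K hL hK e y
  rw [hset]
  have fl : ∀ N : X.Modules, PicF.IsInvertible N → FlatMod.IsFlatOver f N := fun N hN =>
    Groth.Agent.Lib.Helper5.LpullLib.isFlatOver_of_isFinLocFree f N
      (Groth.Agent.Helper1.FinLen.isFinLocFree_of_rank (Curve.isFinLocFreeOfRank_one hN))
  exact (Groth.Agent.Lead.FibSemi.isClosed_le_fiberRank f L (InvQc.isCoh_of_isInvertible L hL)
    (fl L hL) 0 1).inter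
    (Groth.Agent.Lead.FibSemi.isClosed_le_fiberRank f K (InvQc.isCoh_of_isInvertible K hK)
      (fl K hK) 0 1)

end Groth.Agent.Lead.TrivLocus
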