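import Mathlib
import Groth.Agent.Lib.Lead.HN10
import Groth.Agent.Lib.Lead.TilT6
import Groth.Agent.Lib.Helper1.GenusOne1
import Groth.Agent.Lib.Helper1.VA5

set_option autoImplicit false
set_option backward.isDefEq.respectTransparency.types false
set_option synthInstance.maxHeartbeats 400000
set_option linter.style.haveILetI false
set_option linter.unusedSectionVars false
set_option linter.unusedVariables false

universe u

open CategoryTheory CategoryTheory.Limits AlgebraicGeometry TopologicalSpace Opposite Polynomial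

namespace Groth.Agent.Lead.HZ

open Groth.Agent.Lead.HP Groth.Agent.Helper1 Groth.Agent.Lead.HN

section Gen

variable (k : Type u) [Field k] (X : Scheme.{u}) [X.Over (Spec (CommRingCat.of k))]
  [IsProper (X ↘ Spec (CommRingCat.of k))] (O : ℤ → X.Modules)
  (hinv : ∀ m, PicF.IsInvertible (O m))
  (hadd : ∀ a b : ℤ, Nonempty (CohB1.tensorMod (O a) (O b) ≅ O (a + b)))
  (hpow : ∀ m : ℕ, Nonempty (O (m : ℤ) ≅ CohB1.tensorPow (O 1) m))

include hpow in
omit [IsProper (X ↘ Spec (CommRingCat.of k))] in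
theorem euler_twist_nat (F : X.Modules) (m : ℕ) :
    Curv2.euler k X (ShStab.twist X (O 1) F m) = Curv2.euler k X (CohB1.tensorMod F (O (m : ℤ))) := by
  obtain ⟨e⟩ := hpow m
  exact Euler.euler_iso k X (TwistTens.tensorModCongrRight F e.symm)

include hinv hadd in
omit [IsProper (X ↘ Spec (CommRingCat.of k))] in
theorem euler_shift (F : X.Modules) (a b : ℤ) :
    Curv2.euler k X (CohB1.tensorMod (CohB1.tensorMod F (O a)) (O b)) =
      Curv2.euler k X (CohB1.tensorMod F (O (a + b))) := by
  obtain ⟨e⟩ := hadd a b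
  exact Euler.euler_iso k X
    (GenusOne.assocIso F (hinv a) (hinv b) ≪≫ TwistTens.tensorModCongrRight F e)

include hinv hadd hpow in
/-- the Hilbert polynomial computes the Euler characteristic of all integral twists -/
theorem hilbZ_of_isHilbPoly (F : X.Modules) (hF : Coh.IsCoh F) (d : ℕ)
    (hsupp : topologicalKrullDim (CohB1.support F) ≤ d) {P : ℚ[X]}
    (hP : ShStab.IsHilbPoly k X (O 1) F P) (m : ℤ) :
    (Curv2.euler k X (CohB1.tensorMod F (O m)) : ℚ) = P.eval (m : ℚ) := by
  rcases le_total 0 m with hm | hm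
  · obtain ⟨m', rfl⟩ := Int.eq_ofNat_of_zero_le hm
    rw [← euler_twist_nat k X O hpow F m', hP m']
    push_cast
    rfl
  · obtain ⟨N, hN⟩ : ∃ N : ℕ, m = -(N : ℤ) := ⟨(-m).toNat, by omega⟩
    subst hN
    have hcN : Coh.IsCoh (O (-(N : ℤ))) := InvQc.isCoh_of_isInvertible _ (hinv _)
    have hFN : Coh.IsCoh (CohB1.tensorMod F (O (-(N : ℤ)))) := Euler.isCoh_tensor F _ hF hcN
    have hsub : CohB1.support (CohB1.tensorMod F (O (-(N : ℤ)))) ⊆ CohB1.support F := by
      haveI := hF.1
      haveI := hcN.1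
      rw [Groth.Agent.Lead.TilT.support_tensorMod F _ hF.2 hcN.2]
      exact Set.inter_subset_left
    obtain ⟨PN, hPN, -⟩ := exists_isHilbPoly k X (O 1) (hinv 1) _ hFN d
      ((dim_le_of_subset hsub).trans hsupp)
    have key : PN.comp (Polynomial.X + Polynomial.C (N : ℚ)) = P := by
      apply eq_of_eval_nat_eq
      intro m'
      rw [eval_comp, eval_add, eval_X, eval_C]
      have h1 := hPN (m' + N)
      rw [euler_twist_nat k X O hpow _ (m' + N), euler_shift k X O hinv hadd F] at h1
      have h2 := hP m'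
      rw [euler_twist_nat k X O hpow F m'] at h2
      have e : (-(N : ℤ) + ((m' + N : ℕ) : ℤ)) = (m' : ℤ) := by push_cast; ring
      rw [e] at h1
      rw [← h2, h1]
      push_cast
      rfl
    have h0 := hPN 0
    rw [euler_twist_nat k X O hpow _ 0, euler_shift k X O hinv hadd F] at h0
    have e : (-(N : ℤ) + ((0 : ℕ) : ℤ)) = -(N : ℤ) := by push_cast; ring
    rw [e] at h0
    rw [h0, ← key, eval_comp, eval_add, eval_X, eval_C]
    push_cast
    congr 1
    ring

include hpow in
omit [IsProper (X ↘ Spec (CommRingCat.of k))] in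
theorem isHilbPoly_of_hilbZ (F : X.Modules) {P : ℚ[X]}
    (h : ∀ m : ℤ, (Curv2.euler k X (CohB1.tensorMod F (O m)) : ℚ) = P.eval (m : ℚ)) :
    ShStab.IsHilbPoly k X (O 1) F P := by
  intro m
  rw [euler_twist_nat k X O hpow F m, h (m : ℤ)]
  push_cast
  rfl

end Gen

section Pn

variable (n : ℕ) (k : Type u) [Field k]

theorem pn_inv (m : ℤ) : PicF.IsInvertible (Twist.twistProjSpace n k m) :=
  (TwistTens.twist_package (CohB1.polyGrading n k)
    (Groth.Agent.Lib.Helper4.SerreFin.hcov1 n k)).1 m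

theorem pn_add (a b : ℤ) : Nonempty (CohB1.tensorMod (Twist.twistProjSpace n k a)
    (Twist.twistProjSpace n k b) ≅ Twist.twistProjSpace n k (a + b)) :=
  (TwistTens.twist_package (CohB1.polyGrading n k)
    (Groth.Agent.Lib.Helper4.SerreFin.hcov1 n k)).2.1 a b

theorem pn_pow (m : ℕ) : Nonempty (Twist.twistProjSpace n k (m : ℤ) ≅
    CohB1.tensorPow (Twist.twistProjSpace n k 1) m) :=
  (TwistTens.twist_package (CohB1.polyGrading n k)
    (Groth.Agent.Lib.Helper4.SerreFin.hcov1 n k)).2.2 m

instance pn_proper : IsProper (CohB1.ProjSpace n k ↘ Spec (CommRingCat.of k)) :=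
  VA5.isProper_toSpec n k

/-- on projective space, being the Hilbert polynomial for natural twists by `O(1)` is the same as
computing the Euler characteristic of all integral twists -/
theorem pn_isHilbPoly_iff (F : (CohB1.ProjSpace n k).Modules) (hF : Coh.IsCoh F) (d : ℕ)
    (hsupp : topologicalKrullDim (CohB1.support F) ≤ d) (P : ℚ[X]) :
    ShStab.IsHilbPoly k (CohB1.ProjSpace n k) (Twist.twistProjSpace n k 1) F P ↔
      ∀ m : ℤ, (Curv2.euler k (CohB1.ProjSpace n k)
        (CohB1.tensorMod F (Twist.twistProjSpace n k m)) : ℚ) = P.eval (m : ℚ) :=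
  ⟨fun h m => hilbZ_of_isHilbPoly k _ (Twist.twistProjSpace n k) (pn_inv n k) (pn_add n k)
    (pn_pow n k) F hF d hsupp h m,
   fun h => isHilbPoly_of_hilbZ k _ (Twist.twistProjSpace n k) (pn_pow n k) F h⟩

end Pn

end Groth.Agent.Lead.HZ
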