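import Mathlib
import Groth.Agent.Lib.Lead.HP10

set_option autoImplicit false
set_option backward.isDefEq.respectTransparency.types false
set_option synthInstance.maxHeartbeats 400000
set_option linter.style.haveILetI false
set_option linter.unusedSectionVars false

universe u

open CategoryTheory CategoryTheory.Limits AlgebraicGeometry TopologicalSpace Opposite Polynomial

namespace Groth.Agent.Lead.HP

open Groth.Agent.Helper1 Groth.Agent.Helper1.Dv

section PolyFacts

/-- an eventually nonnegative polynomial of degree `≤ n` with vanishing `n`-th multiplicity has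
nonnegative `(n-1)`-st multiplicity -/
theorem alpha_pred_nonneg {R : ℚ[X]} (hR : EvNonneg R) {n : ℕ} (hn : 1 ≤ n)
    (hdeg : R.natDegree ≤ n) (h0 : StabCat.alpha n R = 0) : 0 ≤ StabCat.alpha (n - 1) R := by
  have hc : R.coeff n = 0 := by
    unfold StabCat.alpha at h0
    rcases mul_eq_zero.mp h0 with h | h
    · exact absurd h (Nat.cast_ne_zero.mpr (Nat.factorial_ne_zero n))
    · exact h
  have hdeg' : R.natDegree ≤ n - 1 := by
    rw [natDegree_le_iff_coeff_eq_zero]
    intro j hj
    rcases (show n ≤ j by omega).lt_or_eq with h | h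
    · exact coeff_eq_zero_of_natDegree_lt (lt_of_le_of_lt hdeg h)
    · rw [← h]; exact hc
  unfold StabCat.alpha
  exact mul_nonneg (Nat.cast_nonneg _) (hR.coeff_nonneg hdeg')

end PolyFacts

section Mu

variable (k : Type u) [Field k] (X : Scheme.{u}) [X.Over (Spec (CommRingCat.of k))]
  [IsProper (X ↘ Spec (CommRingCat.of k))] (L : X.Modules)

/-- the slope of a nonzero coherent submodule of a pure slope-semistable module -/
theorem hatSlope_sub_le (hL : CohB1.IsAmple L) {n : ℕ} (hn : 1 ≤ n) {E : X.Modules}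
    (hp : ShStab.IsPure X E n) (hE : ShStab.IsMuSemistable k X L E n) {S : X.Modules} (ι : S ⟶ E)
    [Mono ι] (hS : Coh.IsCoh S) (hS0 : ¬ IsZero S) {pS pE : ℚ[X]}
    (hpS : ShStab.IsHilbPoly k X L S pS) (hpE : ShStab.IsHilbPoly k X L E pE) :
    0 < StabCat.alpha n pS ∧ StabCat.hatSlope n pS ≤ StabCat.hatSlope n pE := by
  obtain ⟨hb, hba, hdS, hdE, hnn, -⟩ :=
    alpha_facts_of_isPure k X L hL hE.1 hE.2.1 hp ι hS hS0 hpS hpE
  refine ⟨hb, ?_⟩
  rcases hba.lt_or_eq with hlt | heq
  · exact hE.2.2.2.2 S ι inferInstance hS pS pE hpS hpE hb hlt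
  · have hdeg : (pE - pS).natDegree ≤ n := (natDegree_sub_le _ _).trans (max_le hdE hdS)
    have h0 : StabCat.alpha n (pE - pS) = 0 := by rw [alpha_sub, heq, sub_self]
    have h1 := alpha_pred_nonneg hnn hn hdeg h0
    rw [alpha_sub] at h1
    unfold StabCat.hatSlope
    rw [← heq]
    exact div_le_div_of_nonneg_right (by linarith) hb.le

/-- mediant inequality -/
theorem mediant_ge {aE bE aS bS : ℚ} (haS : 0 < aS) (haI : 0 < aE - aS)
    (h : bS / aS ≤ bE / aE) : bE / aE ≤ (bE - bS) / (aE - aS) := by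
  have haE : 0 < aE := by linarith
  rw [div_le_div_iff₀ haS haE] at h
  rw [div_le_div_iff₀ haE haI]
  nlinarith

/-- S18965 -/
theorem hom_eq_zero_of_hatSlope_lt (hL : CohB1.IsAmple L) (n : ℕ) (hn : 1 ≤ n)
    (F G : X.Modules) (hFt : ShStab.IsPure X F n) (hGt : ShStab.IsPure X G n)
    (hF : ShStab.IsMuSemistable k X L F n) (hG : ShStab.IsMuSemistable k X L G n)
    (pF pG : ℚ[X]) (hpF : ShStab.IsHilbPoly k X L F pF) (hpG : ShStab.IsHilbPoly k X L G pG)
    (hlt : StabCat.hatSlope n pG < StabCat.hatSlope n pF) (φ : F ⟶ G) : φ = 0 := by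
  by_contra hφ
  have hKc := isCoh_kernel k X hF.1 hG.1 φ
  have hIc := isCoh_image k X hF.1 hG.1 φ
  obtain ⟨pK, hpK⟩ := exists_isHilbPoly_sub k X L hL hFt (kernel.ι φ) hKc
  have hpI := isHilbPoly_image k X L hL.1 hF.1 hG.1 φ hpF hpK
  have hI0 := not_isZero_image X φ hφ
  obtain ⟨haI, h1⟩ := hatSlope_sub_le k X L hL hn hGt hG (Abelian.image.ι φ) hIc hI0 hpI hpG
  have h2 : StabCat.hatSlope n pF ≤ StabCat.hatSlope n (pF - pK) := by
    by_cases hK0 : IsZero (kernel φ)
    · rw [isHilbPoly_zero_unique k X L hK0 hpK, sub_zero]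
    · obtain ⟨haK, h3⟩ := hatSlope_sub_le k X L hL hn hFt hF (kernel.ι φ) hKc hK0 hpK hpF
      rw [alpha_sub] at haI
      unfold StabCat.hatSlope at h3 ⊢
      rw [alpha_sub, alpha_sub]
      exact mediant_ge haK haI h3
  exact absurd (h2.trans h1) (not_le.mpr hlt)

end Mu

end Groth.Agent.Lead.HP
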