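import Mathlib
import Groth.Prelude.Def_C1
import Groth.Prelude.Def_Pi1
import Groth.Prelude.Def_RefFun
import Groth.Prelude.Def_Ref1Cl
import Groth.Prelude.Def_PicGrp
import Groth.Agent.Lib.Lead.Ref1K

/-!
# The group of rank one reflexive modules on a normal scheme (lead)
-/

set_option autoImplicit false
set_option backward.isDefEq.respectTransparency.types false
set_option synthInstance.maxHeartbeats 400000
set_option linter.style.haveILetI false
set_option linter.unusedSectionVars false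
universe u

open CategoryTheory CategoryTheory.Limits AlgebraicGeometry TopologicalSpace Opposite

namespace Groth.Agent.Lead.Ref1

open Groth.Agent.Helper1.QcCech Groth.Agent.Helper1.LGen Groth.Agent.Lead.RkSch Groth.Agent.Lead.SD
  Groth.Agent.Lib.Helper6.CDiv1 Groth.Agent.Helper1 Groth.Agent.Lead.RH Groth.Agent.Lead.SecOrd
  Groth.Agent.Lead.FLF Groth.Agent.Helper1.TmulLib Groth.Agent.Helper1.TensGen

variable {X : Scheme.{u}} [IsIntegral X] [IsLocallyNoetherian X]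

/-- `F` has a nonzero rational section whose orders at the points of codimension one are given by `D` -/
def HasDiv (F : X.Modules) (D : X → ℤ) : Prop :=
  ∃ ŝ : F.presheaf.stalk (genericPoint X), ŝ ≠ 0 ∧ ∀ x : X, Order.coheight x = 1 →
    Cyc.secOrdAt F (genericPoint X) x (gen x) (mkη F ŝ) = D x

theorem exists_ne_zero_generic {F : X.Modules} (hF : RefHull.IsRef1 F) :
    ∃ ŝ : F.presheaf.stalk (genericPoint X), ŝ ≠ 0 := by
  obtain ⟨W, a, hη, ha⟩ := exists_isGen_generic hF.2.2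
  obtain ⟨h0, -⟩ := (freeAt_iff a _ hη).1 (freeAt_of_isGen ha _ hη)
  refine ⟨F.presheaf.germ W _ hη a, fun h => ?_⟩
  have := h0 1 (by rw [one_smul, h])
  exact one_ne_zero this

theorem exists_hasDiv {F : X.Modules} (hF : RefHull.IsRef1 F) : ∃ D : X → ℤ, HasDiv F D := by
  obtain ⟨ŝ, hŝ⟩ := exists_ne_zero_generic hF
  exact ⟨fun x => Cyc.secOrdAt F (genericPoint X) x (gen x) (mkη F ŝ), ŝ, hŝ, fun x _ => rfl⟩

theorem iso_of_hasDiv (hX : Pi1.IsNormalScheme X) {F G : X.Modules} (hF : RefHull.IsRef1 F)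
    (hG : RefHull.IsRef1 G) {D : X → ℤ} (hDF : HasDiv F D) (hDG : HasDiv G D) :
    Nonempty (F ≅ G) := by
  obtain ⟨ŝ, hŝ, h1⟩ := hDF
  obtain ⟨ť, hť, h2⟩ := hDG
  refine (S16086_main hX F G hF hG (mkη F ŝ) (fun h => hŝ ((mkη_eq_zero_iff F ŝ).1 h))
    (mkη G ť) (fun h => hť ((mkη_eq_zero_iff G ť).1 h))).2 ⟨1, one_ne_zero, fun x hx => ?_⟩
  rw [h1 x hx, h2 x hx, ord_one, add_zero]

theorem hasDiv_refTensor (hX : Pi1.IsNormalScheme X) {F G : X.Modules} (hF : RefHull.IsRef1 F)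
    (hG : RefHull.IsRef1 G) {D E : X → ℤ} (hDF : HasDiv F D) (hDG : HasDiv G E) :
    HasDiv (RefHull.ddual (CohB1.tensorMod F G)) (D + E) := by
  obtain ⟨ŝ, hŝ, h1⟩ := hDF
  obtain ⟨ť, hť, h2⟩ := hDG
  obtain ⟨w, hw, h3⟩ := S16090_main hX F G hF hG (mkη F ŝ)
    (fun h => hŝ ((mkη_eq_zero_iff F ŝ).1 h)) (mkη G ť) (fun h => hť ((mkη_eq_zero_iff G ť).1 h))
  obtain ⟨ŵ, rfl⟩ := mkη_surjective _ w
  refine ⟨ŵ, fun h => hw ((mkη_eq_zero_iff _ ŵ).2 h), fun x hx => ?_⟩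
  rw [h3 x hx, h1 x hx, h2 x hx]
  rfl

theorem hasDiv_dual (hX : Pi1.IsNormalScheme X) {F : X.Modules} (hF : RefHull.IsRef1 F)
    {D : X → ℤ} (hDF : HasDiv F D) : HasDiv (RefHull.dual F) (-D) := by
  obtain ⟨ŝ, hŝ, h1⟩ := hDF
  obtain ⟨θ, hθ, h2⟩ := exists_dual_section hX hF ŝ hŝ
  refine ⟨θ, hθ, fun x hx => ?_⟩
  rw [h2 x hx, h1 x hx]
  rfl

open Groth.Agent.S8869.H8869 in
theorem hasDiv_structureModule : HasDiv (Coh.structureModule X) 0 := by
  have hη : genericPoint X ∈ (⊤ : X.Opens) := Opens.mem_top _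
  obtain ⟨h0, -⟩ := (freeAt_iff (toM X 1) _ hη).1 (freeAt_of_isGen (isGen_one (X := X)) _ hη)
  refine ⟨(1 : X.functionField) • (Coh.structureModule X).presheaf.germ ⊤ _ hη (toM X 1), ?_, ?_⟩
  · intro h
    exact one_ne_zero (h0 1 h)
  · intro x hx
    haveI : Ring.KrullDimLE 1 (X.presheaf.stalk x) := krullDimLE_of_coheight_le hx.le
    rw [secOrdAt_eq (isGen_one (X := X)) x (Opens.mem_top x) _ 1, ordFrac_eq_ord x hx, ord_one]
    rfl

/-- the class of the dual -/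
noncomputable def dualCl : PicF.Cl X → PicF.Cl X :=
  Quot.lift (fun F => PicF.cl (RefHull.dual F)) (by
    rintro F F' ⟨e⟩
    exact Quot.sound ⟨RefFun.homComapIso e _⟩)

theorem S16085_main (hX : Pi1.IsNormalScheme X) :
    ∃ (mul : {c : PicF.Cl X // ∃ F : X.Modules, PicF.cl F = c ∧ RefHull.IsRef1 F} →
          {c : PicF.Cl X // ∃ F : X.Modules, PicF.cl F = c ∧ RefHull.IsRef1 F} →
            {c : PicF.Cl X // ∃ F : X.Modules, PicF.cl F = c ∧ RefHull.IsRef1 F})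
      (one : {c : PicF.Cl X // ∃ F : X.Modules, PicF.cl F = c ∧ RefHull.IsRef1 F})
      (inv : {c : PicF.Cl X // ∃ F : X.Modules, PicF.cl F = c ∧ RefHull.IsRef1 F} →
          {c : PicF.Cl X // ∃ F : X.Modules, PicF.cl F = c ∧ RefHull.IsRef1 F}),
      (∀ a b, mul a b = mul b a) ∧ (∀ a b c, mul (mul a b) c = mul a (mul b c)) ∧
        (∀ a, mul one a = a) ∧ (∀ a, mul (inv a) a = one) ∧
        (∀ (F G : X.Modules) (hF : RefHull.IsRef1 F) (hG : RefHull.IsRef1 G),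
          (mul ⟨PicF.cl F, F, rfl, hF⟩ ⟨PicF.cl G, G, rfl, hG⟩).1 =
            PicF.cl (RefHull.ddual (CohB1.tensorMod F G))) ∧
        one.1 = PicF.cl (Coh.structureModule X) ∧
        (∀ (F : X.Modules) (hF : RefHull.IsRef1 F),
          (inv ⟨PicF.cl F, F, rfl, hF⟩).1 = PicF.cl (RefHull.dual F)) := by
  let mul : RefFun.Ref1Set X → RefFun.Ref1Set X → RefFun.Ref1Set X := fun a b =>
    ⟨RefFun.refMulCl a.1 b.1, by
      obtain ⟨F, hF1, hF⟩ := a.2
      obtain ⟨G, hG1, hG⟩ := b.2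
      exact ⟨RefHull.ddual (CohB1.tensorMod F G), by rw [← hF1, ← hG1]; rfl, isRef1_refTensor hF hG⟩⟩
  let one : RefFun.Ref1Set X := ⟨PicF.cl (Coh.structureModule X), _, rfl, isRef1_structureModule⟩
  let inv : RefFun.Ref1Set X → RefFun.Ref1Set X := fun a =>
    ⟨dualCl a.1, by
      obtain ⟨F, hF1, hF⟩ := a.2
      exact ⟨RefHull.dual F, by rw [← hF1]; rfl, isRef1_dual hF⟩⟩
  have hmul : ∀ (F G : X.Modules) (hF : RefHull.IsRef1 F) (hG : RefHull.IsRef1 G),
      mul (RefFun.cls F hF) (RefFun.cls G hG) =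
        RefFun.cls (RefHull.ddual (CohB1.tensorMod F G)) (isRef1_refTensor hF hG) :=
    fun F G hF hG => Subtype.ext rfl
  have hinv : ∀ (F : X.Modules) (hF : RefHull.IsRef1 F),
      inv (RefFun.cls F hF) = RefFun.cls (RefHull.dual F) (isRef1_dual hF) :=
    fun F hF => Subtype.ext rfl
  have hone : one = RefFun.cls (Coh.structureModule X) isRef1_structureModule := rfl
  refine ⟨mul, one, inv, ?_, ?_, ?_, ?_, fun F G hF hG => rfl, rfl, fun F hF => rfl⟩
  · intro a b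
    obtain ⟨F, hF, rfl⟩ := RefFun.exists_eq_cls a
    obtain ⟨G, hG, rfl⟩ := RefFun.exists_eq_cls b
    obtain ⟨D, hD⟩ := exists_hasDiv hF
    obtain ⟨E, hE⟩ := exists_hasDiv hG
    rw [hmul, hmul]
    refine (RefFun.cls_eq_cls_iff _ _).2 (iso_of_hasDiv hX (isRef1_refTensor hF hG) (isRef1_refTensor hG hF)
      (hasDiv_refTensor hX hF hG hD hE) ?_)
    rw [add_comm]
    exact hasDiv_refTensor hX hG hF hE hD
  · intro a b c
    obtain ⟨F, hF, rfl⟩ := RefFun.exists_eq_cls a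
    obtain ⟨G, hG, rfl⟩ := RefFun.exists_eq_cls b
    obtain ⟨K, hK, rfl⟩ := RefFun.exists_eq_cls c
    obtain ⟨D, hD⟩ := exists_hasDiv hF
    obtain ⟨E, hE⟩ := exists_hasDiv hG
    obtain ⟨E', hE'⟩ := exists_hasDiv hK
    rw [hmul, hmul, hmul, hmul]
    refine (RefFun.cls_eq_cls_iff _ _).2 (iso_of_hasDiv hX
      (isRef1_refTensor (isRef1_refTensor hF hG) hK) (isRef1_refTensor hF (isRef1_refTensor hG hK))
      (hasDiv_refTensor hX (isRef1_refTensor hF hG) hK (hasDiv_refTensor hX hF hG hD hE) hE') ?_)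
    rw [add_assoc]
    exact hasDiv_refTensor hX hF (isRef1_refTensor hG hK) hD (hasDiv_refTensor hX hG hK hE hE')
  · intro a
    obtain ⟨F, hF, rfl⟩ := RefFun.exists_eq_cls a
    obtain ⟨D, hD⟩ := exists_hasDiv hF
    rw [hone, hmul]
    refine (RefFun.cls_eq_cls_iff _ _).2 (iso_of_hasDiv hX
      (isRef1_refTensor isRef1_structureModule hF) hF
      (hasDiv_refTensor hX isRef1_structureModule hF hasDiv_structureModule hD) ?_)
    rw [zero_add]
    exact hD
  · intro a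
    obtain ⟨F, hF, rfl⟩ := RefFun.exists_eq_cls a
    obtain ⟨D, hD⟩ := exists_hasDiv hF
    rw [hinv, hmul, hone]
    refine (RefFun.cls_eq_cls_iff _ _).2 (iso_of_hasDiv hX
      (isRef1_refTensor (isRef1_dual hF) hF) isRef1_structureModule
      (hasDiv_refTensor hX (isRef1_dual hF) hF (hasDiv_dual hX hF hD) hD) ?_)
    rw [neg_add_cancel]
    exact hasDiv_structureModule

end Groth.Agent.Lead.Ref1
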