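import Mathlib
import Groth.Prelude.Def_C1
import Groth.Agent.Lib.Lead.SecOrd1

/-!
# Local finiteness of the divisor of a rational section of an invertible module (lead)
-/

set_option autoImplicit false
set_option backward.isDefEq.respectTransparency.types false
set_option synthInstance.maxHeartbeats 400000
set_option linter.style.haveILetI false
set_option linter.unusedSectionVars false
universe u

open CategoryTheory CategoryTheory.Limits AlgebraicGeometry TopologicalSpace Opposite

namespace Groth.Agent.Lead.SecOrd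

open Groth.Agent.Helper1.QcCech Groth.Agent.Helper1.LGen Groth.Agent.Lead.RkSch Groth.Agent.Lead.SD

variable {X : Scheme.{u}} [IsIntegral X] [IsLocallyNoetherian X]

theorem mem_minimalPrimes_of_ordFrac_ne_zero {V : X.Opens} (hV : IsAffineOpen V) (x : V)
    (hdim : ringKrullDim (X.presheaf.stalk x.1) = 1) (p q : Γ(X, V)) (hp : p ≠ 0) (hq : q ≠ 0)
    (hord : CycAlg.ordFrac (X.presheaf.stalk x.1) X.functionField
      (algebraMap (X.presheaf.stalk x.1) X.functionField (X.presheaf.germ V x.1 x.2 p) /
        algebraMap (X.presheaf.stalk x.1) X.functionField (X.presheaf.germ V x.1 x.2 q)) ≠ 0) :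
    (hV.primeIdealOf x).asIdeal ∈ (Ideal.span {p * q}).minimalPrimes := by
  haveI : Nonempty V := ⟨x⟩
  haveI := hV.isLocalization_stalk x
  have hmem : p * q ∈ (hV.primeIdealOf x).asIdeal := by
    by_contra hcon
    have hp' : p ∈ (hV.primeIdealOf x).asIdeal.primeCompl := fun h =>
      hcon (Ideal.mul_mem_right _ _ h)
    have hq' : q ∈ (hV.primeIdealOf x).asIdeal.primeCompl := fun h =>
      hcon (Ideal.mul_mem_left _ _ h)
    have hup : IsUnit (X.presheaf.germ V x.1 x.2 p) := (isUnit_germ_iff hV x p).2 hp'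
    have huq : IsUnit (X.presheaf.germ V x.1 x.2 q) := (isUnit_germ_iff hV x q).2 hq'
    apply hord
    have : algebraMap (X.presheaf.stalk x.1) X.functionField (X.presheaf.germ V x.1 x.2 p) /
        algebraMap (X.presheaf.stalk x.1) X.functionField (X.presheaf.germ V x.1 x.2 q) =
        algebraMap (X.presheaf.stalk x.1) X.functionField
          ((hup.unit * huq.unit⁻¹ : (X.presheaf.stalk x.1)ˣ) : X.presheaf.stalk x.1) := by
      have hq0 : algebraMap (X.presheaf.stalk x.1) X.functionField
          (X.presheaf.germ V x.1 x.2 q) ≠ 0 := (huq.map _).ne_zero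
      rw [div_eq_iff hq0, ← map_mul]
      congr 1
      have h1 : ((huq.unit⁻¹ : (X.presheaf.stalk x.1)ˣ) : X.presheaf.stalk x.1) *
          X.presheaf.germ V x.1 x.2 q = 1 := by
        have := Units.inv_mul huq.unit
        rwa [IsUnit.unit_spec] at this
      rw [Units.val_mul, mul_assoc, h1, mul_one, IsUnit.unit_spec]
    rw [this, ordFrac_unit]
  have hle : Ideal.span {p * q} ≤ (hV.primeIdealOf x).asIdeal :=
    (Ideal.span_singleton_le_iff_mem _).2 hmem
  have hht : (hV.primeIdealOf x).asIdeal.height = 1 := by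
    have h1 := IsLocalization.AtPrime.ringKrullDim_eq_height (hV.primeIdealOf x).asIdeal
      (X.presheaf.stalk x.1)
    rw [hdim] at h1
    exact (WithBot.coe_injective h1).symm
  haveI : (hV.primeIdealOf x).asIdeal.FiniteHeight := ⟨Or.inr (by rw [hht]; exact ENat.one_ne_top)⟩
  apply Ideal.mem_minimalPrimes_of_height_le hle
  rw [hht]
  apply Ideal.one_le_height_span_singleton_of_mem_nonZeroDivisors
  exact mem_nonZeroDivisors_of_ne_zero (mul_ne_zero hp hq)

theorem primeIdealOf_injective {V : X.Opens} (hV : IsAffineOpen V) :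
    Function.Injective hV.primeIdealOf := by
  intro x y hxy
  have h1 := hV.fromSpec_primeIdealOf x
  have h2 := hV.fromSpec_primeIdealOf y
  rw [hxy] at h1
  exact Subtype.ext (h1.symm.trans h2)

theorem S8923_main (L : X.Modules) (hL : PicF.IsInvertible L)
    (s : Cyc.secFibre L (genericPoint X)) (hs : s ≠ 0) :
    LocallyFinite (fun x : {x : X // ringKrullDim (X.presheaf.stalk x) = 1 ∧
        Cyc.secOrdAt L (genericPoint X) x
          ((genericPoint_spec X).specializes (Set.mem_univ x)) s ≠ 0} =>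
      closure ({x.1} : Set X)) := by
  classical
  intro y
  obtain ⟨W, a, hyW, ha⟩ := exists_isGen hL y
  obtain ⟨_, ⟨V, hV₀, rfl⟩, hyV, hVW⟩ := X.isBasis_affineOpens.exists_subset_of_mem_open hyW W.2
  have hV : IsAffineOpen V := hV₀
  have ha' : IsGen L V (res L hVW a) := ha.res hVW
  have hηV : genericPoint X ∈ V := genericPoint_mem V y hyV
  obtain ⟨g, hg⟩ := exists_eq_mkη_smul ha' hηV s
  have hg0 : g ≠ 0 := by
    rintro rfl
    apply hs
    rw [hg, zero_smul]
    exact (mkη_eq_zero_iff L 0).2 rfl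
  haveI : Nonempty V := ⟨⟨y, hyV⟩⟩
  haveI : IsFractionRing Γ(X, V) X.functionField :=
    functionField_isFractionRing_of_isAffineOpen X V hV
  haveI : IsNoetherianRing Γ(X, V) := IsLocallyNoetherian.component_noetherian ⟨V, hV⟩
  obtain ⟨p, q, hq, hpq⟩ := IsFractionRing.div_surjective (A := Γ(X, V)) g
  have hq0 : q ≠ 0 := nonZeroDivisors.ne_zero hq
  have hp0 : p ≠ 0 := by
    rintro rfl
    apply hg0
    rw [← hpq, map_zero, zero_div]
  have key : ∀ (x : X) (hxV : x ∈ V) (h : genericPoint X ⤳ x),
      ringKrullDim (X.presheaf.stalk x) = 1 → Cyc.secOrdAt L (genericPoint X) x h s ≠ 0 →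
      (hV.primeIdealOf ⟨x, hxV⟩).asIdeal ∈ (Ideal.span {p * q}).minimalPrimes := by
    intro x hxV h hdim hord
    haveI : Ring.KrullDimLE 1 (X.presheaf.stalk x) := Ring.krullDimLE_iff.2 hdim.le
    rw [hg, secOrdAt_eq ha' x hxV _ g] at hord
    apply mem_minimalPrimes_of_ordFrac_ne_zero hV ⟨x, hxV⟩ hdim p q hp0 hq0
    have e1 : algebraMap (X.presheaf.stalk x) X.functionField (X.presheaf.germ V x hxV p) =
        algebraMap Γ(X, V) X.functionField p :=
      Scheme.algebraMap_germ_eq_germToFunctionField X hxV p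
    have e2 : algebraMap (X.presheaf.stalk x) X.functionField (X.presheaf.germ V x hxV q) =
        algebraMap Γ(X, V) X.functionField q :=
      Scheme.algebraMap_germ_eq_germToFunctionField X hxV q
    rw [e1, e2, hpq]
    exact hord
  refine ⟨V, V.2.mem_nhds hyV, ?_⟩
  have hSfin : (Ideal.span {p * q}).minimalPrimes.Finite :=
    Ideal.finite_minimalPrimes_of_isNoetherianRing _ _
  let f : {x : X // ringKrullDim (X.presheaf.stalk x) = 1 ∧
        Cyc.secOrdAt L (genericPoint X) x
          ((genericPoint_spec X).specializes (Set.mem_univ x)) s ≠ 0} → Ideal Γ(X, V) :=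
    fun i => if h : i.1 ∈ V then (hV.primeIdealOf ⟨i.1, h⟩).asIdeal else ⊥
  have hmemV : ∀ i : {x : X // ringKrullDim (X.presheaf.stalk x) = 1 ∧
        Cyc.secOrdAt L (genericPoint X) x
          ((genericPoint_spec X).specializes (Set.mem_univ x)) s ≠ 0},
      (closure ({i.1} : Set X) ∩ V).Nonempty → i.1 ∈ V := by
    rintro i ⟨z, hz1, hz2⟩
    exact (specializes_iff_mem_closure.2 hz1).mem_open V.2 hz2
  refine Set.Finite.of_injOn (f := f) (t := (Ideal.span {p * q}).minimalPrimes) ?_ ?_ hSfin
  · intro i hi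
    have hiV : i.1 ∈ V := hmemV i hi
    change f i ∈ _
    simp only [f, dif_pos hiV]
    exact key i.1 hiV _ i.2.1 i.2.2
  · intro i hi j hj hij
    have hiV : i.1 ∈ V := hmemV i hi
    have hjV : j.1 ∈ V := hmemV j hj
    simp only [f, dif_pos hiV, dif_pos hjV] at hij
    have h1 : hV.primeIdealOf ⟨i.1, hiV⟩ = hV.primeIdealOf ⟨j.1, hjV⟩ := PrimeSpectrum.ext hij
    have h2 := primeIdealOf_injective hV h1
    have h3 : i.1 = j.1 := congrArg (fun z : V => (z : X)) h2
    exact Subtype.ext h3

end Groth.Agent.Lead.SecOrd
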