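import Mathlib
import Groth.Prelude.Def_C1
import Groth.Prelude.Def_Pi1
import Groth.Agent.Lib.Lead.Ref1L
import Groth.Agent.Lib.Lead.SecOrd2

/-!
# Orders of vanishing on a normal integral locally Noetherian scheme: auxiliary lemmas (lead)
-/

set_option autoImplicit false
set_option backward.isDefEq.respectTransparency.types false
set_option synthInstance.maxHeartbeats 400000
set_option linter.style.haveILetI false
set_option linter.unusedSectionVars false
universe u

open CategoryTheory CategoryTheory.Limits AlgebraicGeometry TopologicalSpace Opposite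

namespace Groth.Agent.Lead.WD

open Groth.Agent.Helper1.QcCech Groth.Agent.Helper1.LGen Groth.Agent.Lead.RkSch Groth.Agent.Lead.SD
  Groth.Agent.Lib.Helper6.CDiv1 Groth.Agent.Helper1 Groth.Agent.Lead.RH Groth.Agent.Lead.SecOrd
  Groth.Agent.Lead.Ref1

variable {X : Scheme.{u}} [IsIntegral X] [IsLocallyNoetherian X]

/-- the map from the sections over an open containing the generic point to the function field -/
noncomputable def toK (U : X.Opens) (hη : genericPoint X ∈ U) : Γ(X, U) →+* X.functionField :=
  (X.presheaf.germ U (genericPoint X) hη).hom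

theorem toK_injective (U : X.Opens) (hη : genericPoint X ∈ U) : Function.Injective (toK U hη) :=
  germ_injective_of_isIntegral X (genericPoint X) hη

theorem algebraMap_germ (U : X.Opens) (hη : genericPoint X ∈ U) (x : X) (hx : x ∈ U) (r : Γ(X, U)) :
    algebraMap (X.presheaf.stalk x) X.functionField (X.presheaf.germ U x hx r) = toK U hη r := by
  haveI : Nonempty U := ⟨⟨x, hx⟩⟩
  exact Scheme.algebraMap_germ_eq_germToFunctionField X hx r

theorem toK_res {U V : X.Opens} (h : V ≤ U) (hη : genericPoint X ∈ V) (r : Γ(X, U)) :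
    toK V hη (X.presheaf.map (homOfLE h).op r) = toK U (h hη) r :=
  TopCat.Presheaf.germ_res_apply X.presheaf (homOfLE h) (genericPoint X) hη r

theorem ord_pow (x : X) {f : X.functionField} (hf : f ≠ 0) (n : ℕ) :
    Scheme.ord (f ^ n) x = n * Scheme.ord f x := by
  induction n with
  | zero => simp [SecOrd.ord_one]
  | succ k ih =>
    rw [pow_succ, Scheme.ord_mul (pow_ne_zero k hf) hf, ih]
    push_cast
    ring

theorem ord_zpow (x : X) {f : X.functionField} (hf : f ≠ 0) (n : ℤ) :
    Scheme.ord (f ^ n) x = n * Scheme.ord f x := by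
  obtain ⟨k, rfl | rfl⟩ := n.eq_nat_or_neg
  · rw [zpow_natCast, ord_pow x hf]
  · rw [zpow_neg, zpow_natCast, SecOrd.ord_inv x (pow_ne_zero k hf), ord_pow x hf]
    ring

theorem ord_div (x : X) {f g : X.functionField} (hf : f ≠ 0) (hg : g ≠ 0) :
    Scheme.ord (f / g) x = Scheme.ord f x - Scheme.ord g x := by
  rw [div_eq_mul_inv, Scheme.ord_mul hf (inv_ne_zero hg), SecOrd.ord_inv x hg]
  ring

/-- the order of a regular function is nonnegative -/
theorem ord_toK_nonneg (U : X.Opens) (hη : genericPoint X ∈ U) (x : X) (hx : x ∈ U)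
    (r : Γ(X, U)) : 0 ≤ Scheme.ord (toK U hη r) x := by
  by_cases h1 : Order.coheight x = 1
  · by_cases hr : toK U hη r = 0
    · rw [hr, Scheme.ord_zero]
      rfl
    · exact ord_nonneg_of_inStalk x h1 _ hr ⟨X.presheaf.germ U x hx r, algebraMap_germ U hη x hx r⟩
  · rw [Scheme.ord_eq_zero_of_coheight_neq_one h1]

/-- a regular function vanishing at a point of codimension one has positive order there -/
theorem one_le_ord_of_not_mem_basicOpen (hX : Pi1.IsNormalScheme X) (U : X.Opens)
    (hη : genericPoint X ∈ U) (x : X) (hx : x ∈ U) (h1 : Order.coheight x = 1) (r : Γ(X, U))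
    (hr : r ≠ 0) (hxr : x ∉ X.basicOpen r) : 1 ≤ Scheme.ord (toK U hη r) x := by
  haveI := isDVR_of_coheight_one hX x h1
  have hr' : toK U hη r ≠ 0 := fun h => hr (toK_injective U hη (h.trans (map_zero _).symm))
  have h0 := ord_toK_nonneg U hη x hx r
  have hne : Scheme.ord (toK U hη r) x ≠ 0 := by
    intro h
    rw [Scheme.ord_eq_iff h1 hr'] at h
    have h2 : Ring.ordFrac (X.presheaf.stalk x) (toK U hη r) = 1 := by
      have : ((Multiplicative.ofAdd (0 : ℤ) : Multiplicative ℤ) : WithZero (Multiplicative ℤ)) = 1 := by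
        rw [ofAdd_zero]
        rfl
      rw [← this]
      exact h
    rw [← algebraMap_germ U hη x hx r] at h2
    have h3 := (Ring.isUnit_iff_ordFrac_one_of_isDiscreteValuationRing
      (R := X.presheaf.stalk x) (K := X.functionField)).2 h2
    exact hxr ((Scheme.mem_basicOpen X r x hx).2 h3)
  omega


/-- on an affine open a nonzero rational function has only finitely many zeros and poles of codimension one -/
theorem finite_ord_ne_zero {V : X.Opens} (hV : IsAffineOpen V) (g : X.functionField) (hg : g ≠ 0) :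
    {x : X | x ∈ V ∧ Order.coheight x = 1 ∧ Scheme.ord g x ≠ 0}.Finite := by
  classical
  by_cases hne : Nonempty V
  swap
  · refine Set.Finite.subset Set.finite_empty ?_
    rintro x ⟨hx, -, -⟩
    exact (hne ⟨⟨x, hx⟩⟩).elim
  haveI := hne
  haveI : IsFractionRing Γ(X, V) X.functionField :=
    functionField_isFractionRing_of_isAffineOpen X V hV
  haveI : IsNoetherianRing Γ(X, V) := IsLocallyNoetherian.component_noetherian ⟨V, hV⟩
  obtain ⟨p, q, hq, hpq⟩ := IsFractionRing.div_surjective (A := Γ(X, V)) g
  have hq0 : q ≠ 0 := nonZeroDivisors.ne_zero hq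
  have hp0 : p ≠ 0 := by
    rintro rfl
    apply hg
    rw [← hpq, map_zero, zero_div]
  have key : ∀ (x : X) (hxV : x ∈ V), Order.coheight x = 1 → Scheme.ord g x ≠ 0 →
      (hV.primeIdealOf ⟨x, hxV⟩).asIdeal ∈ (Ideal.span {p * q}).minimalPrimes := by
    intro x hxV h1 hord
    have hdim : ringKrullDim (X.presheaf.stalk x) = 1 := (dim_eq_one_iff x).2 h1
    apply mem_minimalPrimes_of_ordFrac_ne_zero hV ⟨x, hxV⟩ hdim p q hp0 hq0
    have e1 : algebraMap (X.presheaf.stalk x) X.functionField (X.presheaf.germ V x hxV p) =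
        algebraMap Γ(X, V) X.functionField p :=
      Scheme.algebraMap_germ_eq_germToFunctionField X hxV p
    have e2 : algebraMap (X.presheaf.stalk x) X.functionField (X.presheaf.germ V x hxV q) =
        algebraMap Γ(X, V) X.functionField q :=
      Scheme.algebraMap_germ_eq_germToFunctionField X hxV q
    rw [e1, e2, hpq, ordFrac_eq_ord x h1]
    exact hord
  have hSfin : (Ideal.span {p * q}).minimalPrimes.Finite :=
    Ideal.finite_minimalPrimes_of_isNoetherianRing _ _
  let f : X → Ideal Γ(X, V) :=
    fun i => if h : i ∈ V then (hV.primeIdealOf ⟨i, h⟩).asIdeal else ⊥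
  refine Set.Finite.of_injOn (f := f) (t := (Ideal.span {p * q}).minimalPrimes) ?_ ?_ hSfin
  · rintro i ⟨hiV, h1, h2⟩
    change f i ∈ _
    simp only [f, dif_pos hiV]
    exact key i hiV h1 h2
  · rintro i ⟨hiV, -, -⟩ j ⟨hjV, -, -⟩ hij
    simp only [f, dif_pos hiV, dif_pos hjV] at hij
    have h1 : hV.primeIdealOf ⟨i, hiV⟩ = hV.primeIdealOf ⟨j, hjV⟩ := PrimeSpectrum.ext hij
    have h2 := primeIdealOf_injective hV h1
    exact congrArg (fun z : V => (z : X)) h2

/-- two points of codimension at most one, one specializing to the other -/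
theorem eq_of_specializes {x y : X} (h : y ⤳ x) (hy : Order.coheight y = 1)
    (hx : Order.coheight x ≤ 1) : y = x := by
  by_contra hne
  have hle : x ≤ y := h
  have hlt : x < y := by
    refine lt_iff_le_not_ge.2 ⟨hle, fun hyx => hne ?_⟩
    have h' : x ⤳ y := hyx
    exact (h.antisymm h').eq
  have h2 := Order.coheight_strictAnti hlt (by rw [hy]; exact ENat.one_lt_top)
  rw [hy] at h2
  exact absurd (lt_of_lt_of_le h2 hx) (lt_irrefl _)

/-- rational functions of any prescribed order at a point of codimension one -/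
theorem exists_ord_eq (hX : Pi1.IsNormalScheme X) (x : X) (h1 : Order.coheight x = 1) (n : ℤ) :
    ∃ c : X.functionField, c ≠ 0 ∧ Scheme.ord c x = n := by
  haveI := isDVR_of_coheight_one hX x h1
  obtain ⟨ϖ, hϖ⟩ := IsDiscreteValuationRing.exists_irreducible (X.presheaf.stalk x)
  have hc0 : algebraMap (X.presheaf.stalk x) X.functionField ϖ ≠ 0 := by
    intro h
    exact hϖ.ne_zero (IsFractionRing.injective (X.presheaf.stalk x) X.functionField
      (h.trans (map_zero _).symm))
  have h2 : Scheme.ord (algebraMap (X.presheaf.stalk x) X.functionField ϖ) x = 1 := by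
    rw [Scheme.ord_eq_iff h1 hc0]
    have := Ring.ordFrac_irreducible (R := X.presheaf.stalk x) (K := X.functionField) hϖ
    exact this
  refine ⟨(algebraMap (X.presheaf.stalk x) X.functionField ϖ) ^ n, zpow_ne_zero n hc0, ?_⟩
  rw [ord_zpow x hc0, h2, mul_one]


/-- a rational function which lies in all the local rings at the points of an open is a section there -/
theorem exists_section_of_inStalk (U : X.Opens) (hη : genericPoint X ∈ U) (u : X.functionField)
    (h : ∀ y ∈ U, InStalk y u) : ∃ r : Γ(X, U), toK U hη r = u := by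
  have hloc : ∀ y : U, ∃ (W : X.Opens) (_ : y.1 ∈ W) (_ : W ≤ U) (hηW : genericPoint X ∈ W)
      (s : Γ(X, W)), toK W hηW s = u := by
    intro y
    obtain ⟨r, hr⟩ := h y.1 y.2
    obtain ⟨W, hyW, s, hs⟩ := TopCat.Presheaf.exists_germ_eq X.presheaf r
    have hηW : genericPoint X ∈ W ⊓ U := ⟨(gen y.1).mem_open W.2 hyW, hη⟩
    refine ⟨W ⊓ U, ⟨hyW, y.2⟩, inf_le_right, hηW, X.presheaf.map (homOfLE inf_le_left).op s, ?_⟩
    rw [toK_res, ← hr, ← hs, algebraMap_germ W _ y.1 hyW s]
  choose W hyW hWU hηW sf hsf using hloc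
  have hcompat : TopCat.Presheaf.IsCompatible X.presheaf W sf := by
    intro i j
    have hηij : genericPoint X ∈ W i ⊓ W j := ⟨hηW i, hηW j⟩
    apply toK_injective (W i ⊓ W j) hηij
    have e1 := toK_res (inf_le_left : W i ⊓ W j ≤ W i) hηij (sf i)
    have e2 := toK_res (inf_le_right : W i ⊓ W j ≤ W j) hηij (sf j)
    exact e1.trans ((hsf i).trans ((hsf j).symm.trans e2.symm))
  have hcover : U ≤ iSup W := by
    intro x hx
    exact Opens.mem_iSup.mpr ⟨⟨x, hx⟩, hyW ⟨x, hx⟩⟩
  obtain ⟨s, hs, -⟩ := X.sheaf.existsUnique_gluing' W U (fun y => homOfLE (hWU y)) hcover sf hcompat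
  refine ⟨s, ?_⟩
  have h1 := hs ⟨genericPoint X, hη⟩
  have e := toK_res (hWU ⟨genericPoint X, hη⟩) (hηW _) s
  rw [← e]
  have h2 : X.presheaf.map (homOfLE (hWU ⟨genericPoint X, hη⟩)).op s = sf ⟨genericPoint X, hη⟩ := h1
  rw [h2]
  exact hsf _

/-- Hartogs: a rational function without poles of codimension one on an open is a section there -/
theorem hartogs_section (hX : Pi1.IsNormalScheme X) (U : X.Opens) (hη : genericPoint X ∈ U)
    (u : X.functionField) (H : ∀ y ∈ U, Order.coheight y = 1 → 0 ≤ Scheme.ord u y) :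
    ∃ r : Γ(X, U), toK U hη r = u := by
  by_cases hu : u = 0
  · exact ⟨0, by rw [hu, map_zero]⟩
  · apply exists_section_of_inStalk U hη u
    intro y hy
    exact inStalk_of_ord_nonneg_all hX y u hu (fun z hzy hz => H z (hzy.mem_open U.2 hy) hz)

theorem coheight_genericPoint : Order.coheight (genericPoint X) = 0 := by
  rw [Order.coheight_eq_zero]
  intro b _
  exact gen b

/-- a nonzero function on an affine open vanishing at a given point of codimension one -/
theorem exists_nonzero_vanishing {U : X.Opens} (hU : IsAffineOpen U) (y : X) (hy : y ∈ U)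
    (h1 : Order.coheight y = 1) : ∃ π : Γ(X, U), π ≠ 0 ∧ y ∉ X.basicOpen π := by
  have hηU : genericPoint X ∈ U := (gen y).mem_open U.2 hy
  have hcl : genericPoint X ∉ closure ({y} : Set X) := by
    intro hmem
    have h2 : y ⤳ genericPoint X := specializes_iff_mem_closure.2 hmem
    have h3 : y = genericPoint X := ((gen y).antisymm h2).eq.symm
    rw [h3, coheight_genericPoint] at h1
    exact zero_ne_one h1
  let V : X.Opens := ⟨(closure ({y} : Set X))ᶜ, isClosed_closure.isOpen_compl⟩
  have hηV : genericPoint X ∈ V := hcl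
  obtain ⟨f, hfV, hηf⟩ := hU.exists_basicOpen_le (V := V) ⟨genericPoint X, hηV⟩ hηU
  refine ⟨f, ?_, fun hyf => ?_⟩
  · rintro rfl
    rw [Scheme.basicOpen_zero] at hηf
    exact hηf
  · exact hfV hyf (subset_closure rfl)

/-- a nonzero function on an affine open vanishing at finitely many given points of codimension one -/
theorem exists_nonzero_vanishing_finset {U : X.Opens} (hU : IsAffineOpen U)
    (hη : genericPoint X ∈ U) (T : Finset X)
    (hT : ∀ y ∈ T, y ∈ U ∧ Order.coheight y = 1) :
    ∃ a : Γ(X, U), a ≠ 0 ∧ ∀ y ∈ T, y ∉ X.basicOpen a := by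
  classical
  induction T using Finset.induction_on with
  | empty => exact ⟨1, fun h => by
      have := congrArg (toK U hη) h
      rw [map_one, map_zero] at this
      exact one_ne_zero this, fun y hy => absurd hy (Finset.notMem_empty y)⟩
  | insert y T hyT ih =>
    obtain ⟨a, ha, haT⟩ := ih (fun z hz => hT z (Finset.mem_insert_of_mem hz))
    obtain ⟨hyU, hy1⟩ := hT y (Finset.mem_insert_self y T)
    obtain ⟨π, hπ, hyπ⟩ := exists_nonzero_vanishing hU y hyU hy1
    refine ⟨π * a, ?_, ?_⟩
    · intro h
      have := congrArg (toK U hη) h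
      rw [map_mul, map_zero] at this
      rcases mul_eq_zero.1 this with h' | h'
      · exact hπ (toK_injective U hη (h'.trans (map_zero _).symm))
      · exact ha (toK_injective U hη (h'.trans (map_zero _).symm))
    · intro z hz
      rw [Scheme.basicOpen_mul]
      rcases Finset.mem_insert.1 hz with rfl | hz'
      · exact fun h => hyπ h.1
      · exact fun h => haT z hz' h.2

end Groth.Agent.Lead.WD
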