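import Mathlib
import Groth.Prelude.Def_C1
import Groth.Prelude.Def_Pi1
import Groth.Prelude.Def_MeroSh
import Groth.Agent.Lib.Lead.WD1

/-!
# The module `O_X(D)` of a Weil divisor on a normal integral locally Noetherian scheme (lead)
-/

set_option autoImplicit false
set_option backward.isDefEq.respectTransparency.types false
set_option synthInstance.maxHeartbeats 400000
set_option linter.style.haveILetI false
set_option linter.unusedSectionVars false
universe u

open CategoryTheory CategoryTheory.Limits AlgebraicGeometry TopologicalSpace Opposite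

namespace Groth.Agent.Lead.WD

open Groth.Agent.Helper1.QcCech Groth.Agent.Helper1.LGen Groth.Agent.Lead.RkSch Groth.Agent.Lead.SD
  Groth.Agent.Lib.Helper6.CDiv1 Groth.Agent.Helper1 Groth.Agent.Lead.RH Groth.Agent.Lead.SecOrd
  Groth.Agent.Lead.Ref1

variable {X : Scheme.{u}} [IsIntegral X] [IsLocallyNoetherian X]

/-- the condition cutting out the sections of `O_X(D)` over `U` inside the function field -/
def OrdCond (D : X → ℤ) (U : X.Opens) (c : X.functionField) : Prop :=
  c = 0 ∨ ∀ y ∈ U, Order.coheight y = 1 → 0 ≤ D y + Scheme.ord c y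

theorem OrdCond.mono {D : X → ℤ} {U V : X.Opens} (h : V ≤ U) {c : X.functionField}
    (hc : OrdCond D U c) : OrdCond D V c :=
  hc.imp id (fun H y hy => H y (h hy))

theorem ordCond_zero (D : X → ℤ) (U : X.Opens) : OrdCond D U 0 := Or.inl rfl

theorem OrdCond.add (hX : Pi1.IsNormalScheme X) {D : X → ℤ} {U : X.Opens} {c c' : X.functionField}
    (hc : OrdCond D U c) (hc' : OrdCond D U c') : OrdCond D U (c + c') := by
  by_cases h0 : c + c' = 0
  · exact Or.inl h0
  by_cases hc0 : c = 0
  · rw [hc0, zero_add]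
    exact hc'
  by_cases hc'0 : c' = 0
  · rw [hc'0, add_zero]
    exact hc
  refine Or.inr fun y hy h1 => ?_
  haveI := isDVR_of_coheight_one hX y h1
  have h2 := Scheme.ord_add (x := y) h0
  have h3 := (hc.resolve_left hc0) y hy h1
  have h4 := (hc'.resolve_left hc'0) y hy h1
  rcases min_le_iff.1 h2 with h | h <;> omega

theorem OrdCond.smul {D : X → ℤ} {U V : X.Opens} (hVU : V ≤ U) (hη : genericPoint X ∈ U)
    (r : Γ(X, U)) {c : X.functionField} (hc : OrdCond D V c) : OrdCond D V (toK U hη r * c) := by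
  by_cases hc0 : c = 0
  · rw [hc0, mul_zero]
    exact Or.inl rfl
  by_cases hr0 : toK U hη r = 0
  · rw [hr0, zero_mul]
    exact Or.inl rfl
  refine Or.inr fun y hy h1 => ?_
  rw [Scheme.ord_mul hr0 hc0]
  have h2 := ord_toK_nonneg U hη y (hVU hy) r
  have h3 := (hc.resolve_left hc0) y hy h1
  omega

/-- the prelocal predicate: a constant function whose value satisfies the order condition -/
def pre (D : X → ℤ) : TopCat.PrelocalPredicate (fun _ : X => (X.functionField : Type u)) where
  pred {U} f := ∃ c : X.functionField, (∀ x : U, f x = c) ∧ OrdCond D U c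
  res {V U} i f := by
    rintro ⟨c, hc, h⟩
    exact ⟨c, fun x => hc (i x), h.mono i.le⟩

/-- the local predicate: locally a constant whose value satisfies the order condition -/
def loc (D : X → ℤ) : TopCat.LocalPredicate (fun _ : X => (X.functionField : Type u)) :=
  (pre D).sheafify

theorem isModPred (hX : Pi1.IsNormalScheme X) (D : X → ℤ) : Mero.IsModPred (loc D) where
  zero U := fun x => ⟨U, x.2, 𝟙 _, 0, fun _ => rfl, ordCond_zero D U⟩
  add U f g hf hg := fun x => by
    obtain ⟨Va, ma, ia, ca, hca, ha⟩ := hf x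
    obtain ⟨Vb, mb, ib, cb, hcb, hb⟩ := hg x
    refine ⟨Va ⊓ Vb, ⟨ma, mb⟩, homOfLE inf_le_left ≫ ia, ca + cb, fun y => ?_,
      (ha.mono inf_le_left).add hX (hb.mono inf_le_right)⟩
    have wa := hca ⟨y.1, y.2.1⟩
    have wb := hcb ⟨y.1, y.2.2⟩
    dsimp only at wa wb
    change f (ia ⟨y.1, y.2.1⟩) + g (ib ⟨y.1, y.2.2⟩) = _
    rw [wa, wb]
  smul U r f hf := fun x => by
    obtain ⟨V, m, i, c, hc, h⟩ := hf x
    have hη : genericPoint X ∈ U := (gen x.1).mem_open U.2 x.2
    refine ⟨V, m, i, toK U hη r * c, fun y => ?_, h.smul i.le hη r⟩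
    have w := hc y
    dsimp only at w
    change X.presheaf.germ U _ _ r • f (i y) = _
    rw [w, Algebra.smul_def, algebraMap_germ U hη]

/-- the module `O_X(D)` -/
noncomputable def OD (hX : Pi1.IsNormalScheme X) (D : X → ℤ) : X.Modules :=
  haveI := isModPred hX D
  Mero.modOf (loc D)


section Sections

variable (hX : Pi1.IsNormalScheme X) (D : X → ℤ)

/-- the value of a section of `O_X(D)`: an element of the function field -/
noncomputable def val (U : X.Opens) (hη : genericPoint X ∈ U) (f : Γ(OD hX D, U)) :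
    X.functionField := f.1 ⟨genericPoint X, hη⟩

theorem val_eq (U : X.Opens) (hη : genericPoint X ∈ U) (f : Γ(OD hX D, U)) (x : U) :
    f.1 x = val hX D U hη f := by
  obtain ⟨V, m, i, c, hc, -⟩ := f.2 x
  have hηV : genericPoint X ∈ V := (gen x.1).mem_open V.2 m
  have h1 := hc ⟨x.1, m⟩
  have h2 := hc ⟨genericPoint X, hηV⟩
  dsimp only at h1 h2
  have e1 : i ⟨x.1, m⟩ = x := Subtype.ext rfl
  have e2 : i ⟨genericPoint X, hηV⟩ = ⟨genericPoint X, hη⟩ := Subtype.ext rfl
  rw [e1] at h1
  rw [e2] at h2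
  unfold val
  rw [h1, h2]

theorem ordCond_val (U : X.Opens) (hη : genericPoint X ∈ U) (f : Γ(OD hX D, U)) :
    OrdCond D U (val hX D U hη f) := by
  by_cases h0 : val hX D U hη f = 0
  · exact Or.inl h0
  refine Or.inr fun y hy h1 => ?_
  obtain ⟨V, m, i, c, hc, h⟩ := f.2 ⟨y, hy⟩
  have h2 := hc ⟨y, m⟩
  dsimp only at h2
  have e1 : i ⟨y, m⟩ = ⟨y, hy⟩ := Subtype.ext rfl
  rw [e1, val_eq hX D U hη f] at h2
  rw [h2] at h0 ⊢
  exact (h.resolve_left h0) y m h1

theorem ext_val (U : X.Opens) (hη : genericPoint X ∈ U) (f g : Γ(OD hX D, U))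
    (h : val hX D U hη f = val hX D U hη g) : f = g :=
  Subtype.ext (funext fun x => by rw [val_eq hX D U hη f, val_eq hX D U hη g, h])

theorem subsingleton_of_not_mem (U : X.Opens) (hη : genericPoint X ∉ U) (f g : Γ(OD hX D, U)) :
    f = g :=
  Subtype.ext (funext fun x => absurd ((gen x.1).mem_open U.2 x.2) hη)

/-- the section with a given value -/
noncomputable def mk (U : X.Opens) (c : X.functionField) (h : OrdCond D U c) : Γ(OD hX D, U) :=
  ⟨fun _ => c, fun x => ⟨U, x.2, 𝟙 _, c, fun _ => rfl, h⟩⟩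

theorem val_mk (U : X.Opens) (hη : genericPoint X ∈ U) (c : X.functionField)
    (h : OrdCond D U c) : val hX D U hη (mk hX D U c h) = c := rfl

theorem smul_apply (U : X.Opens) (hη : genericPoint X ∈ U) (r : Γ(X, U)) (f : Γ(OD hX D, U))
    (x : U) : (r • f).1 x = toK U hη r * f.1 x := by
  haveI := isModPred hX D
  have h : (r • f).1 x = X.presheaf.germ U x.1 x.2 r • f.1 x :=
    Mero.modOf_smul_apply (loc D) r f x
  refine h.trans ?_
  change X.presheaf.germ U x.1 x.2 r • f.1 x = _
  rw [Algebra.smul_def, algebraMap_germ U hη]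

theorem val_smul (U : X.Opens) (hη : genericPoint X ∈ U) (r : Γ(X, U)) (f : Γ(OD hX D, U)) :
    val hX D U hη (r • f) = toK U hη r * val hX D U hη f :=
  smul_apply hX D U hη r f ⟨genericPoint X, hη⟩

theorem val_res {U V : X.Opens} (h : V ≤ U) (hη : genericPoint X ∈ V) (f : Γ(OD hX D, U)) :
    val hX D V hη ((OD hX D).presheaf.map (homOfLE h).op f) = val hX D U (h hη) f := rfl

theorem val_add (U : X.Opens) (hη : genericPoint X ∈ U) (f g : Γ(OD hX D, U)) :
    val hX D U hη (f + g) = val hX D U hη f + val hX D U hη g := rfl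

theorem val_zero (U : X.Opens) (hη : genericPoint X ∈ U) :
    val hX D U hη (0 : Γ(OD hX D, U)) = 0 := rfl

theorem eq_zero_of_val (U : X.Opens) (hη : genericPoint X ∈ U) (f : Γ(OD hX D, U))
    (h : val hX D U hη f = 0) : f = 0 :=
  ext_val hX D U hη f 0 (h.trans (val_zero hX D U hη).symm)


theorem eq_bot_of_not_mem (U : X.Opens) (hη : genericPoint X ∉ U) : U = ⊥ := by
  ext z
  simp only [Opens.coe_bot, Set.mem_empty_iff_false, iff_false]
  exact fun hz => hη ((gen z).mem_open U.2 hz)

/-- a section whose divisor is exactly `-D` on an open is a free generator there -/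
theorem isGen_mk (V : X.Opens) (c : X.functionField) (hc0 : c ≠ 0)
    (hc : ∀ y ∈ V, Order.coheight y = 1 → D y + Scheme.ord c y = 0) :
    IsGen (OD hX D) V (mk hX D V c (Or.inr fun y hy h1 => (hc y hy h1).ge)) := by
  intro V' hV'
  by_cases hη : genericPoint X ∈ V'
  · constructor
    · intro r r' h
      have h1 := congrArg (val hX D V' hη) h
      simp only [val_smul] at h1
      have h2 : val hX D V' hη (res (OD hX D) hV'
          (mk hX D V c (Or.inr fun y hy h1 => (hc y hy h1).ge))) = c := rfl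
      rw [h2] at h1
      exact toK_injective V' hη (mul_right_cancel₀ hc0 h1)
    · intro f
      have hf := ordCond_val hX D V' hη f
      obtain ⟨r, hr⟩ := hartogs_section hX V' hη (val hX D V' hη f / c) (by
        intro y hy h1
        by_cases h0 : val hX D V' hη f = 0
        · rw [h0, zero_div, Scheme.ord_zero]
          rfl
        · rw [ord_div y h0 hc0]
          have h2 := (hf.resolve_left h0) y hy h1
          have h3 := hc y (hV' hy) h1
          omega)
      refine ⟨r, ?_⟩
      apply ext_val hX D V' hη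
      rw [val_smul, hr]
      have h2 : val hX D V' hη (res (OD hX D) hV'
          (mk hX D V c (Or.inr fun y hy h1 => (hc y hy h1).ge))) = c := rfl
      rw [h2, div_mul_cancel₀ _ hc0]
  · have hbot := eq_bot_of_not_mem V' hη
    constructor
    · intro r r' _
      haveI : Subsingleton Γ(X, V') := by rw [hbot]; infer_instance
      exact Subsingleton.elim _ _
    · intro f
      exact ⟨0, subsingleton_of_not_mem hX D V' hη _ _⟩

/-- `O_X(D)` is torsion free -/
theorem isTorsionFree_OD : TorSh.IsTorsionFree (OD hX D) := by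
  intro x
  refine Module.IsTorsionFree.of_smul_eq_zero (fun r m h => ?_)
  obtain ⟨V, hxV, f, rfl⟩ := TopCat.Presheaf.exists_germ_eq (OD hX D).presheaf m
  obtain ⟨V', hxV', ρ, rfl⟩ := TopCat.Presheaf.exists_germ_eq X.presheaf r
  have hxW : x ∈ V ⊓ V' := ⟨hxV, hxV'⟩
  have e1 : (OD hX D).presheaf.germ V x hxV f = (OD hX D).presheaf.germ (V ⊓ V') x hxW
      ((OD hX D).presheaf.map (homOfLE (inf_le_left : V ⊓ V' ≤ V)).op f) :=
    (TopCat.Presheaf.germ_res_apply (OD hX D).presheaf (homOfLE inf_le_left) x hxW f).symm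
  have e2 : X.presheaf.germ V' x hxV' ρ = X.presheaf.germ (V ⊓ V') x hxW
      (X.presheaf.map (homOfLE (inf_le_right : V ⊓ V' ≤ V')).op ρ) :=
    (TopCat.Presheaf.germ_res_apply X.presheaf (homOfLE inf_le_right) x hxW ρ).symm
  rw [e1, e2, ← SD.germ_smul] at h
  obtain ⟨W', hxW', i1, i2, hh⟩ := TopCat.Presheaf.germ_eq (OD hX D).presheaf x hxW hxW _ 0
    (h.trans (map_zero _).symm)
  have hηW' : genericPoint X ∈ W' := (gen x).mem_open W'.2 hxW'
  have hηW : genericPoint X ∈ V ⊓ V' := i1.le hηW'
  have h3 := congrArg (val hX D W' hηW') hh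
  have h4 : val hX D W' hηW' ((OD hX D).presheaf.map i1.op
      (X.presheaf.map (homOfLE (inf_le_right : V ⊓ V' ≤ V')).op ρ •
        (OD hX D).presheaf.map (homOfLE (inf_le_left : V ⊓ V' ≤ V)).op f)) =
      toK V' hηW.2 ρ * val hX D V hηW.1 f := by
    have := val_smul hX D (V ⊓ V') hηW
      (X.presheaf.map (homOfLE (inf_le_right : V ⊓ V' ≤ V')).op ρ)
      ((OD hX D).presheaf.map (homOfLE (inf_le_left : V ⊓ V' ≤ V)).op f)
    rw [toK_res] at this
    exact this
  have h5 : val hX D W' hηW' ((OD hX D).presheaf.map i2.op 0) = 0 := rfl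
  rw [h4, h5] at h3
  rcases mul_eq_zero.1 h3 with h6 | h6
  · left
    have : ρ = 0 := toK_injective V' hηW.2 (h6.trans (map_zero _).symm)
    rw [this, map_zero]
  · right
    rw [eq_zero_of_val hX D V hηW.1 f h6, map_zero]

/-- sections of `O_X(D)` extend uniquely over closed subsets of codimension at least two -/
theorem restrict_bijective_OD (U V : X.Opens) (hVU : V ≤ U)
    (hcodim : ∀ x : X, x ∈ U → x ∉ V → (2 : WithBot ℕ∞) ≤ ringKrullDim (X.presheaf.stalk x)) :
    Function.Bijective ((OD hX D).presheaf.map (homOfLE hVU).op) := by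
  by_cases hη : genericPoint X ∈ U
  · have hηV : genericPoint X ∈ V := generic_mem_of_codim hcodim _ hη
    constructor
    · intro f g h
      apply ext_val hX D U hη
      exact congrArg (val hX D V hηV) h
    · intro g
      have hg := ordCond_val hX D V hηV g
      have hg' : OrdCond D U (val hX D V hηV g) :=
        hg.imp id (fun H y hy h1 => H y (codim_one_mem_of_codim hcodim y hy h1) h1)
      refine ⟨mk hX D U _ hg', ?_⟩
      apply ext_val hX D V hηV
      rfl
  · have hηV : genericPoint X ∉ V := fun h => hη (hVU h)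
    constructor
    · intro f g _
      exact subsingleton_of_not_mem hX D U hη f g
    · intro g
      exact ⟨0, subsingleton_of_not_mem hX D V hηV _ _⟩


include hX in
/-- near a point of codimension at most one a Weil divisor is principal -/
theorem exists_chart (hD0 : ∀ x : X, Order.coheight x ≠ 1 → D x = 0)
    (hDfin : LocallyFiniteSupport D) (x : X) (hx : Order.coheight x ≤ 1) :
    ∃ (V : X.Opens) (c : X.functionField), x ∈ V ∧ c ≠ 0 ∧
      ∀ y ∈ V, Order.coheight y = 1 → D y + Scheme.ord c y = 0 := by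
  classical
  obtain ⟨_, ⟨V₀, hV₀, rfl⟩, hxV₀, -⟩ := X.isBasis_affineOpens.exists_subset_of_mem_open
    (Set.mem_univ x) isOpen_univ
  have hV₀' : IsAffineOpen V₀ := hV₀
  obtain ⟨c, hc0, hcx⟩ : ∃ c : X.functionField, c ≠ 0 ∧
      (Order.coheight x = 1 → Scheme.ord c x = - D x) := by
    by_cases h1 : Order.coheight x = 1
    · obtain ⟨c, hc0, hc⟩ := exists_ord_eq hX x h1 (- D x)
      exact ⟨c, hc0, fun _ => hc⟩
    · exact ⟨1, one_ne_zero, fun h => absurd h h1⟩
  have hB1 := finite_ord_ne_zero hV₀' c hc0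
  have hB2 : ((V₀ : Set X) ∩ Function.support D).Finite :=
    hDfin.finite_inter_support_of_isCompact hV₀'.isCompact
  let B : Set X := ({y : X | y ∈ V₀ ∧ Order.coheight y = 1 ∧ Scheme.ord c y ≠ 0} ∪
    ((V₀ : Set X) ∩ Function.support D)) \ {x}
  have hBfin : B.Finite := (hB1.union hB2).subset Set.sdiff_subset
  have hB1' : ∀ y ∈ B, Order.coheight y = 1 := by
    rintro y ⟨hy | hy, -⟩
    · exact hy.2.1
    · by_contra hne
      exact hy.2 (hD0 y hne)
  have hZ : IsClosed (⋃ y ∈ B, closure ({y} : Set X)) :=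
    hBfin.isClosed_biUnion (fun _ _ => isClosed_closure)
  let V : X.Opens := V₀ ⊓ ⟨(⋃ y ∈ B, closure ({y} : Set X))ᶜ, hZ.isOpen_compl⟩
  have hxV : x ∈ V := by
    refine ⟨hxV₀, fun hmem => ?_⟩
    simp only [Set.mem_iUnion, exists_prop] at hmem
    obtain ⟨y, hyB, hxy⟩ := hmem
    have h2 : y ⤳ x := specializes_iff_mem_closure.2 hxy
    exact hyB.2 (eq_of_specializes h2 (hB1' y hyB) hx)
  refine ⟨V, c, hxV, hc0, fun y hy h1 => ?_⟩
  by_cases hyx : y = x
  · subst hyx
    rw [hcx h1]
    ring
  · have hyB : y ∉ B := by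
      intro hyB
      apply hy.2
      simp only [Set.mem_iUnion, exists_prop]
      exact ⟨y, hyB, subset_closure rfl⟩
    have h2 : Scheme.ord c y = 0 := by
      by_contra hne
      exact hyB ⟨Or.inl ⟨hy.1, h1, hne⟩, hyx⟩
    have h3 : D y = 0 := by
      by_contra hne
      exact hyB ⟨Or.inr ⟨hy.1, hne⟩, hyx⟩
    rw [h2, h3]
    rfl

end Sections

end Groth.Agent.Lead.WD
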