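import Mathlib
import Groth.Prelude.Def_C1
import Groth.Prelude.Def_Pi1
import Groth.Prelude.Def_MeroSh
import Groth.Agent.Lib.Lead.WD2
import Groth.Agent.Lib.Helper1.QcLoc
import Groth.Agent.Lib.Helper1.TildeQC

/-!
# Quasi-coherence from the localization property on affine opens; coherence of `O_X(D)` (lead)
-/

set_option autoImplicit false
set_option backward.isDefEq.respectTransparency.types false
set_option synthInstance.maxHeartbeats 400000
set_option linter.style.haveILetI false
set_option linter.unusedSectionVars false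
universe u

open CategoryTheory CategoryTheory.Limits AlgebraicGeometry TopologicalSpace Opposite

namespace Groth.Agent.Lead.WD

open Groth.Agent.Helper1.QcCech Groth.Agent.Helper1.LGen Groth.Agent.Lead.RkSch Groth.Agent.Lead.SD
  Groth.Agent.Lib.Helper6.CDiv1 Groth.Agent.Helper1 Groth.Agent.Lead.RH Groth.Agent.Lead.SecOrd
  Groth.Agent.Lead.Ref1

section General

variable {X : Scheme.{u}}

theorem map_injective_of_eq (M : X.Modules) {O O' : X.Opens} (e : O = O') :
    Function.Injective (M.presheaf.map (homOfLE e.le).op) := by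
  have : IsIso (M.presheaf.map (homOfLE e.le).op) := by
    have : IsIso (homOfLE e.le) := ⟨homOfLE e.ge, Subsingleton.elim _ _, Subsingleton.elim _ _⟩
    infer_instance
  exact ((ConcreteCategory.isIso_iff_bijective _).1 this).1

/-- a module whose sections over an affine open localize correctly is quasi-coherent there -/
theorem isIso_fromTildeΓ_of_extend_kill (M : X.Modules) {U : X.Opens} (hU : IsAffineOpen U)
    (hext : ∀ (f : Γ(X, U)) (s : Γ(M, X.basicOpen f)), ∃ (n : ℕ) (t : Γ(M, U)),
      M.presheaf.map (homOfLE (X.basicOpen_le f)).op t =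
        ((X.presheaf.map (homOfLE (X.basicOpen_le f)).op).hom f) ^ n • s)
    (hkill : ∀ (f : Γ(X, U)) (t : Γ(M, U)),
      M.presheaf.map (homOfLE (X.basicOpen_le f)).op t = 0 → ∃ n : ℕ, f ^ n • t = 0) :
    IsIso (M.restrict hU.fromSpec).fromTildeΓ := by
  apply TildeQC.isIso_fromTildeΓ_of
  · intro f x
    have e := hU.fromSpec_image_basicOpen f
    have e0 := QcLoc.image_top hU
    let s : Γ(M, X.basicOpen f) := M.presheaf.map (homOfLE e.ge).op x
    obtain ⟨n, t, ht⟩ := hext f s
    refine ⟨n, M.presheaf.map (homOfLE e0.le).op t, ?_⟩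
    rw [TildeQC.act_def, QcLoc.smul_eq hU M (PrimeSpectrum.basicOpen f) (f ^ n) x]
    apply map_injective_of_eq M e.symm
    rw [Scheme.Modules.map_smul]
    have h1 : M.presheaf.map (homOfLE e.symm.le).op
        ((M.restrict hU.fromSpec).presheaf.map (PrimeSpectrum.basicOpen f).leTop.op
          (M.presheaf.map (homOfLE e0.le).op t)) =
        M.presheaf.map (homOfLE (X.basicOpen_le f)).op t := by
      change M.presheaf.map _ (M.presheaf.map _ (M.presheaf.map (homOfLE e0.le).op t)) = _
      rw [← ConcreteCategory.comp_apply, ← ConcreteCategory.comp_apply, ← Functor.map_comp,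
        ← Functor.map_comp]
      congr 1
    rw [h1, ht]
    congr 1
    rw [map_pow, map_pow]
    congr 1
    rw [← ConcreteCategory.comp_apply, ← Functor.map_comp]
    rfl
  · intro f t ht
    have e := hU.fromSpec_image_basicOpen f
    have e0 := QcLoc.image_top hU
    let t' : Γ(M, U) := M.presheaf.map (homOfLE e0.ge).op t
    have h1 : M.presheaf.map (homOfLE (X.basicOpen_le f)).op t' = 0 := by
      have h2 : M.presheaf.map (homOfLE e.symm.le).op
          ((M.restrict hU.fromSpec).presheaf.map (PrimeSpectrum.basicOpen f).leTop.op t) = 0 := by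
        rw [ht]
        exact map_zero _
      refine Eq.trans ?_ h2
      change M.presheaf.map _ (M.presheaf.map _ t) = M.presheaf.map _ (M.presheaf.map _ t)
      rw [← ConcreteCategory.comp_apply, ← ConcreteCategory.comp_apply, ← Functor.map_comp,
        ← Functor.map_comp]
      congr 1
    obtain ⟨k, hk⟩ := hkill f t' h1
    refine ⟨k, ?_⟩
    rw [TildeQC.act_def, QcLoc.smul_eq hU M ⊤ (f ^ k) t]
    apply map_injective_of_eq M e0.symm
    rw [Scheme.Modules.map_smul]
    refine Eq.trans ?_ (hk.trans (map_zero _).symm)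
    congr 1
    rw [← ConcreteCategory.comp_apply, ← Functor.map_comp]
    have : (homOfLE (QcLoc.image_le hU ⊤)).op ≫ (homOfLE e0.symm.le).op = 𝟙 _ :=
      Subsingleton.elim _ _
    rw [this, CategoryTheory.Functor.map_id]
    rfl


/-- a module whose sections over every affine open localize correctly is quasi-coherent -/
theorem isQuasicoherent_of_extend_kill (M : X.Modules)
    (hext : ∀ (U : X.Opens) (_ : IsAffineOpen U) (f : Γ(X, U)) (s : Γ(M, X.basicOpen f)),
      ∃ (n : ℕ) (t : Γ(M, U)), M.presheaf.map (homOfLE (X.basicOpen_le f)).op t =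
        ((X.presheaf.map (homOfLE (X.basicOpen_le f)).op).hom f) ^ n • s)
    (hkill : ∀ (U : X.Opens) (_ : IsAffineOpen U) (f : Γ(X, U)) (t : Γ(M, U)),
      M.presheaf.map (homOfLE (X.basicOpen_le f)).op t = 0 → ∃ n : ℕ, f ^ n • t = 0) :
    M.IsQuasicoherent := by
  refine QCohLib.isQuasicoherent_of_affine_charts M (I := X.affineOpens)
    (fun V => Γ(X, V.1)) (fun V => V.2.fromSpec) ?_ ?_
  · have : ∀ V : X.affineOpens, V.2.fromSpec.opensRange = V.1 := fun V =>
      IsAffineOpen.opensRange_fromSpec V.2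
    simp_rw [this]
    exact iSup_affineOpens_eq_top X
  · intro V
    exact isIso_fromTildeΓ_of_extend_kill M V.2 (hext V.1 V.2) (hkill V.1 V.2)

end General


section ODCoh

variable {X : Scheme.{u}} [IsIntegral X] [IsLocallyNoetherian X]
variable (hX : Pi1.IsNormalScheme X) (D : X → ℤ)

theorem toK_eq_zero_of_not_mem_basicOpen (U : X.Opens) (hη : genericPoint X ∈ U) (f : Γ(X, U))
    (h : genericPoint X ∉ X.basicOpen f) : toK U hη f = 0 := by
  by_contra hne
  apply h
  rw [Scheme.mem_basicOpen X f _ hη]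
  exact isUnit_iff_ne_zero.2 hne

theorem kill_OD (U : X.Opens) (f : Γ(X, U)) (t : Γ(OD hX D, U))
    (ht : (OD hX D).presheaf.map (homOfLE (X.basicOpen_le f)).op t = 0) :
    ∃ n : ℕ, f ^ n • t = 0 := by
  by_cases hηU : genericPoint X ∈ U
  · by_cases hηf : genericPoint X ∈ X.basicOpen f
    · refine ⟨0, ?_⟩
      have h1 := congrArg (val hX D (X.basicOpen f) hηf) ht
      have h2 : val hX D U hηU t = 0 := h1
      rw [eq_zero_of_val hX D U hηU t h2, smul_zero]
    · refine ⟨1, ?_⟩
      apply eq_zero_of_val hX D U hηU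
      rw [val_smul, pow_one, toK_eq_zero_of_not_mem_basicOpen U hηU f hηf, zero_mul]
  · exact ⟨0, subsingleton_of_not_mem hX D U hηU _ _⟩

variable (hDfin : LocallyFiniteSupport D)

include hDfin in
theorem extend_OD {U : X.Opens} (hU : IsAffineOpen U) (f : Γ(X, U))
    (s : Γ(OD hX D, X.basicOpen f)) :
    ∃ (n : ℕ) (t : Γ(OD hX D, U)), (OD hX D).presheaf.map (homOfLE (X.basicOpen_le f)).op t =
      ((X.presheaf.map (homOfLE (X.basicOpen_le f)).op).hom f) ^ n • s := by
  classical
  by_cases hηf : genericPoint X ∈ X.basicOpen f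
  swap
  · exact ⟨0, 0, subsingleton_of_not_mem hX D _ hηf _ _⟩
  have hηU : genericPoint X ∈ U := X.basicOpen_le f hηf
  set c := val hX D (X.basicOpen f) hηf s with hc
  have hcond := ordCond_val hX D (X.basicOpen f) hηf s
  rw [← hc] at hcond
  by_cases hc0 : c = 0
  · refine ⟨0, 0, ?_⟩
    apply ext_val hX D _ hηf
    rw [pow_zero, one_smul, ← hc, hc0]
    rfl
  have hf0 : f ≠ 0 := by
    rintro rfl
    rw [Scheme.basicOpen_zero] at hηf
    exact hηf
  have hfK : toK U hηU f ≠ 0 := fun h => hf0 (toK_injective U hηU (h.trans (map_zero _).symm))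
  -- the bad points
  have hSfin : {y : X | y ∈ U ∧ Order.coheight y = 1 ∧ D y + Scheme.ord c y < 0}.Finite := by
    refine ((finite_ord_ne_zero hU c hc0).union
      (hDfin.finite_inter_support_of_isCompact hU.isCompact)).subset ?_
    rintro y ⟨hyU, h1, hlt⟩
    by_cases h0 : Scheme.ord c y = 0
    · right
      refine ⟨hyU, fun hD => ?_⟩
      rw [h0, hD] at hlt
      exact lt_irrefl _ hlt
    · left
      exact ⟨hyU, h1, h0⟩
  have hSf : ∀ y ∈ hSfin.toFinset, 1 ≤ Scheme.ord (toK U hηU f) y := by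
    intro y hy
    obtain ⟨hyU, h1, hlt⟩ := (Set.Finite.mem_toFinset hSfin).1 hy
    apply one_le_ord_of_not_mem_basicOpen hX U hηU y hyU h1 f hf0
    intro hyf
    have := (hcond.resolve_left hc0) y hyf h1
    omega
  let n : ℕ := ∑ y ∈ hSfin.toFinset, (D y + Scheme.ord c y).natAbs
  have hc' : OrdCond D U (toK U hηU f ^ n * c) := by
    refine Or.inr fun y hyU h1 => ?_
    rw [Scheme.ord_mul (pow_ne_zero n hfK) hc0, ord_pow y hfK]
    have h0 := ord_toK_nonneg U hηU y hyU f
    by_cases hyS : y ∈ hSfin.toFinset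
    · have h2 := hSf y hyS
      have h3 : (D y + Scheme.ord c y).natAbs ≤ n :=
        Finset.single_le_sum (f := fun y => (D y + Scheme.ord c y).natAbs)
          (fun _ _ => Nat.zero_le _) hyS
      have h4 : (n : ℤ) ≤ n * Scheme.ord (toK U hηU f) y := by nlinarith
      have h5 : -(D y + Scheme.ord c y) ≤ ((D y + Scheme.ord c y).natAbs : ℤ) := by
        rw [← Int.natAbs_neg]
        exact Int.le_natAbs
      have h6 : ((D y + Scheme.ord c y).natAbs : ℤ) ≤ n := by exact_mod_cast h3
      linarith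
    · have h2 : ¬ (D y + Scheme.ord c y < 0) := fun hlt =>
        hyS ((Set.Finite.mem_toFinset hSfin).2 ⟨hyU, h1, hlt⟩)
      have h4 : (0 : ℤ) ≤ n * Scheme.ord (toK U hηU f) y := by positivity
      linarith
  refine ⟨n, mk hX D U _ hc', ?_⟩
  apply ext_val hX D _ hηf
  rw [val_smul, map_pow, toK_res, ← hc]
  rfl


include hX hDfin in
/-- on an affine open the sections of `O_X(D)` have bounded denominators -/
theorem exists_bound {U : X.Opens} (hU : IsAffineOpen U) (hηU : genericPoint X ∈ U)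
    (hD0 : ∀ x : X, Order.coheight x ≠ 1 → D x = 0) :
    ∃ a : X.functionField, a ≠ 0 ∧ ∀ c : X.functionField, OrdCond D U c →
      ∃ r : Γ(X, U), toK U hηU r = a * c := by
  classical
  have hTfin : ((U : Set X) ∩ Function.support D).Finite :=
    hDfin.finite_inter_support_of_isCompact hU.isCompact
  have hT : ∀ y ∈ hTfin.toFinset, y ∈ U ∧ Order.coheight y = 1 := by
    intro y hy
    obtain ⟨hyU, hyD⟩ := (Set.Finite.mem_toFinset hTfin).1 hy
    refine ⟨hyU, ?_⟩
    by_contra hne
    exact hyD (hD0 y hne)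
  obtain ⟨a₀, ha₀, haT⟩ := exists_nonzero_vanishing_finset hU hηU hTfin.toFinset hT
  have haK : toK U hηU a₀ ≠ 0 := fun h => ha₀ (toK_injective U hηU (h.trans (map_zero _).symm))
  let N : ℕ := ∑ y ∈ hTfin.toFinset, (D y).natAbs
  refine ⟨toK U hηU a₀ ^ N, pow_ne_zero N haK, fun c hc => ?_⟩
  apply hartogs_section hX U hηU
  intro y hyU h1
  by_cases hc0 : c = 0
  · rw [hc0, mul_zero, Scheme.ord_zero]
    rfl
  rw [Scheme.ord_mul (pow_ne_zero N haK) hc0, ord_pow y haK]
  have h0 := ord_toK_nonneg U hηU y hyU a₀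
  have h2 := (hc.resolve_left hc0) y hyU h1
  by_cases hyT : y ∈ hTfin.toFinset
  · have h3 := one_le_ord_of_not_mem_basicOpen hX U hηU y hyU h1 a₀ ha₀ (haT y hyT)
    have h4 : (D y).natAbs ≤ N :=
      Finset.single_le_sum (f := fun y => (D y).natAbs) (fun _ _ => Nat.zero_le _) hyT
    have h5 : (N : ℤ) ≤ N * Scheme.ord (toK U hηU a₀) y := by nlinarith
    have h6 : D y ≤ ((D y).natAbs : ℤ) := Int.le_natAbs
    have h7 : ((D y).natAbs : ℤ) ≤ N := by exact_mod_cast h4
    linarith
  · have h3 : D y = 0 := by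
      by_contra hne
      exact hyT ((Set.Finite.mem_toFinset hTfin).2 ⟨hyU, hne⟩)
    have h4 : (0 : ℤ) ≤ N * Scheme.ord (toK U hηU a₀) y := by positivity
    rw [h3] at h2
    linarith

include hDfin in
theorem finite_OD {U : X.Opens} (hU : IsAffineOpen U)
    (hD0 : ∀ x : X, Order.coheight x ≠ 1 → D x = 0) :
    Module.Finite Γ(X, U) Γ((OD hX D).restrict hU.fromSpec, ⊤) := by
  have e0 := QcLoc.image_top hU
  by_cases hηU : genericPoint X ∈ U
  swap
  · have hηW : genericPoint X ∉ hU.fromSpec ''ᵁ ⊤ := by rw [e0]; exact hηU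
    haveI : Subsingleton Γ((OD hX D).restrict hU.fromSpec, ⊤) :=
      ⟨fun a b => subsingleton_of_not_mem hX D (hU.fromSpec ''ᵁ ⊤) hηW a b⟩
    infer_instance
  have hηW : genericPoint X ∈ hU.fromSpec ''ᵁ ⊤ := by rw [e0]; exact hηU
  obtain ⟨a, ha, hbound⟩ := exists_bound hX D hDfin hU hηU hD0
  have hcond : ∀ t : Γ((OD hX D).restrict hU.fromSpec, ⊤),
      OrdCond D U (val hX D (hU.fromSpec ''ᵁ ⊤) hηW t) := fun t =>
    (ordCond_val hX D (hU.fromSpec ''ᵁ ⊤) hηW t).mono e0.ge
  let L₀ : Γ((OD hX D).restrict hU.fromSpec, ⊤) → Γ(X, U) := fun t =>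
    (hbound _ (hcond t)).choose
  have hL₀ : ∀ t, toK U hηU (L₀ t) = a * val hX D (hU.fromSpec ''ᵁ ⊤) hηW t := fun t =>
    (hbound _ (hcond t)).choose_spec
  have hsmul : ∀ (r : Γ(X, U)) (t : Γ((OD hX D).restrict hU.fromSpec, ⊤)),
      val hX D (hU.fromSpec ''ᵁ ⊤) hηW (r • t) =
        toK U hηU r * val hX D (hU.fromSpec ''ᵁ ⊤) hηW t := by
    intro r t
    rw [QcLoc.smul_eq hU (OD hX D) ⊤ r t]
    refine (val_smul hX D (hU.fromSpec ''ᵁ ⊤) hηW _ t).trans ?_
    rw [toK_res]
  let L : Γ((OD hX D).restrict hU.fromSpec, ⊤) →ₗ[Γ(X, U)] Γ(X, U) :=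
    { toFun := L₀
      map_add' := fun t t' => by
        apply toK_injective U hηU
        rw [map_add, hL₀, hL₀, hL₀, ← mul_add]
        rfl
      map_smul' := fun r t => by
        apply toK_injective U hηU
        rw [RingHom.id_apply, smul_eq_mul, map_mul, hL₀, hL₀, hsmul]
        ring }
  have hinj : Function.Injective L := by
    intro t t' h
    have h1 : toK U hηU (L₀ t) = toK U hηU (L₀ t') := congrArg (toK U hηU) h
    rw [hL₀, hL₀] at h1
    exact ext_val hX D (hU.fromSpec ''ᵁ ⊤) hηW t t' (mul_left_cancel₀ ha h1)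
  haveI : IsNoetherianRing Γ(X, U) := IsLocallyNoetherian.component_noetherian ⟨U, hU⟩
  exact Module.Finite.of_injective L hinj

end ODCoh

end Groth.Agent.Lead.WD
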