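import Mathlib
import Groth.Prelude.Def_C1
import Groth.Prelude.Def_Pi1
import Groth.Prelude.Def_MeroSh
import Groth.Agent.Lib.Lead.WD3
import Groth.Agent.Lib.Helper1.FtLocal

/-!
# Weil divisors and rank one reflexive modules on a normal scheme (lead)
-/

set_option autoImplicit false
set_option backward.isDefEq.respectTransparency.types false
set_option synthInstance.maxHeartbeats 400000
set_option linter.style.haveILetI false
set_option linter.unusedSectionVars false
universe u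

open CategoryTheory CategoryTheory.Limits AlgebraicGeometry TopologicalSpace Opposite

namespace Groth.Agent.Lead.WD

open Groth.Agent.Helper1.QcCech Groth.Agent.Helper1.LGen Groth.Agent.Lead.RkSch Groth.Agent.Lead.SD
  Groth.Agent.Lib.Helper6.CDiv1 Groth.Agent.Helper1 Groth.Agent.Lead.RH Groth.Agent.Lead.SecOrd
  Groth.Agent.Lead.Ref1

variable {X : Scheme.{u}} [IsIntegral X] [IsLocallyNoetherian X]
variable (hX : Pi1.IsNormalScheme X) (D : X → ℤ)

section Ref1

variable (hD0 : ∀ x : X, Order.coheight x ≠ 1 → D x = 0) (hDfin : LocallyFiniteSupport D)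

include hD0 hDfin in
theorem isCoh_OD : Coh.IsCoh (OD hX D) := by
  have hq : (OD hX D).IsQuasicoherent :=
    isQuasicoherent_of_extend_kill (OD hX D)
      (fun U hU f s => extend_OD hX D hDfin hU f s)
      (fun U _ f t ht => kill_OD hX D U f t ht)
  haveI := hq
  exact ⟨hq, FtLocal.isFiniteType_of_affineOpens (OD hX D)
    (fun V hV => finite_OD hX D hDfin hV hD0)⟩

include hD0 hDfin in
theorem isRef1_OD : RefHull.IsRef1 (OD hX D) := by
  have hcoh := isCoh_OD hX D hD0 hDfin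
  refine ⟨hcoh, isReflexive_of_extension hX hcoh (isTorsionFree_OD hX D)
    (restrict_bijective_OD hX D), ?_⟩
  obtain ⟨V, c, hηV, hc0, hc⟩ := exists_chart hX D hD0 hDfin (genericPoint X)
    (by rw [coheight_genericPoint]; exact zero_le_one)
  exact genInvertible_of_isGen (isGen_mk hX D V c hc0 hc) hηV

/-- germs at the generic point of sections with proportional values -/
theorem germ_eq_smul_germ {V V' : X.Opens} (hη : genericPoint X ∈ V) (hη' : genericPoint X ∈ V')
    (f : Γ(OD hX D, V)) (f' : Γ(OD hX D, V')) (k : X.functionField)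
    (h : val hX D V hη f = k * val hX D V' hη' f') :
    (OD hX D).presheaf.germ V (genericPoint X) hη f =
      k • (OD hX D).presheaf.germ V' (genericPoint X) hη' f' := by
  obtain ⟨W, hηW, γ, rfl⟩ := TopCat.Presheaf.exists_germ_eq X.presheaf k
  have hηW' : genericPoint X ∈ W ⊓ V ⊓ V' := ⟨⟨hηW, hη⟩, hη'⟩
  have hle1 : W ⊓ V ⊓ V' ≤ V := inf_le_left.trans inf_le_right
  have hle2 : W ⊓ V ⊓ V' ≤ V' := inf_le_right
  have hle3 : W ⊓ V ⊓ V' ≤ W := inf_le_left.trans inf_le_left
  have e1 : (OD hX D).presheaf.germ V (genericPoint X) hη f =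
      (OD hX D).presheaf.germ (W ⊓ V ⊓ V') (genericPoint X) hηW'
        ((OD hX D).presheaf.map (homOfLE hle1).op f) :=
    (TopCat.Presheaf.germ_res_apply (OD hX D).presheaf (homOfLE hle1) _ hηW' f).symm
  have e2 : (OD hX D).presheaf.germ V' (genericPoint X) hη' f' =
      (OD hX D).presheaf.germ (W ⊓ V ⊓ V') (genericPoint X) hηW'
        ((OD hX D).presheaf.map (homOfLE hle2).op f') :=
    (TopCat.Presheaf.germ_res_apply (OD hX D).presheaf (homOfLE hle2) _ hηW' f').symm
  have e3 : X.presheaf.germ W (genericPoint X) hηW γ =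
      X.presheaf.germ (W ⊓ V ⊓ V') (genericPoint X) hηW'
        (X.presheaf.map (homOfLE hle3).op γ) :=
    (TopCat.Presheaf.germ_res_apply X.presheaf (homOfLE hle3) _ hηW' γ).symm
  rw [e1, e2, e3, ← SD.germ_smul]
  congr 1
  apply ext_val hX D _ hηW'
  rw [val_smul, val_res, val_res, h, toK_res]
  rfl

include hD0 hDfin in
theorem hasDiv_OD : HasDiv (OD hX D) D := by
  obtain ⟨V₀, c₀, hηV₀, hc₀0, hc₀⟩ := exists_chart hX D hD0 hDfin (genericPoint X)
    (by rw [coheight_genericPoint]; exact zero_le_one)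
  have ha₀ := isGen_mk hX D V₀ c₀ hc₀0 hc₀
  obtain ⟨h0, -⟩ := (freeAt_iff _ _ hηV₀).1 (freeAt_of_isGen ha₀ _ hηV₀)
  refine ⟨c₀⁻¹ • (OD hX D).presheaf.germ V₀ (genericPoint X) hηV₀
    (mk hX D V₀ c₀ (Or.inr fun y hy h1 => (hc₀ y hy h1).ge)), ?_, ?_⟩
  · intro h
    exact inv_ne_zero hc₀0 (h0 _ h)
  · intro x hx
    obtain ⟨V, c, hxV, hc0, hc⟩ := exists_chart hX D hD0 hDfin x hx.le
    have hηV : genericPoint X ∈ V := (gen x).mem_open V.2 hxV
    have ha := isGen_mk hX D V c hc0 hc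
    have e : c₀⁻¹ • (OD hX D).presheaf.germ V₀ (genericPoint X) hηV₀
        (mk hX D V₀ c₀ (Or.inr fun y hy h1 => (hc₀ y hy h1).ge)) =
        c⁻¹ • (OD hX D).presheaf.germ V (genericPoint X) hηV
          (mk hX D V c (Or.inr fun y hy h1 => (hc y hy h1).ge)) := by
      rw [germ_eq_smul_germ hX D hηV₀ hηV
        (mk hX D V₀ c₀ (Or.inr fun y hy h1 => (hc₀ y hy h1).ge))
        (mk hX D V c (Or.inr fun y hy h1 => (hc y hy h1).ge)) (c₀ / c) (by
        rw [val_mk, val_mk, div_mul_cancel₀ _ hc0]), smul_smul]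
      congr 1
      field_simp
    haveI : Ring.KrullDimLE 1 (X.presheaf.stalk x) := krullDimLE_of_coheight_le hx.le
    rw [e, secOrdAt_eq ha x hxV (gen x) c⁻¹, ordFrac_eq_ord x hx, SecOrd.ord_inv x hc0]
    have := hc x hxV hx
    omega

end Ref1


section LocFin

include hX in
/-- finitely many points of codimension one of an affine open lie outside a given nonempty open -/
theorem finite_codim_one_not_mem {V : X.Opens} (hV : IsAffineOpen V) (W₀ : X.Opens)
    (hηW₀ : genericPoint X ∈ W₀) :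
    {x : X | x ∈ V ∧ Order.coheight x = 1 ∧ x ∉ W₀}.Finite := by
  by_cases hηV : genericPoint X ∈ V
  swap
  · refine Set.Finite.subset Set.finite_empty ?_
    rintro x ⟨hx, -, -⟩
    exact (hηV ((gen x).mem_open V.2 hx)).elim
  obtain ⟨f, hfW, hηf⟩ := hV.exists_basicOpen_le (V := W₀) ⟨genericPoint X, hηW₀⟩ hηV
  have hf0 : f ≠ 0 := by
    rintro rfl
    rw [Scheme.basicOpen_zero] at hηf
    exact hηf
  have hfK : toK V hηV f ≠ 0 := fun h => hf0 (toK_injective V hηV (h.trans (map_zero _).symm))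
  refine (finite_ord_ne_zero hV (toK V hηV f) hfK).subset ?_
  rintro x ⟨hxV, h1, hxW⟩
  refine ⟨hxV, h1, ?_⟩
  have := one_le_ord_of_not_mem_basicOpen hX V hηV x hxV h1 f hf0 (fun h => hxW (hfW h))
  omega

include hX in
/-- the divisor of a nonzero rational section of a rank one reflexive module is locally finite -/
theorem locallyFinite_secOrd {F : X.Modules} (hF : RefHull.IsRef1 F)
    (ŝ : F.presheaf.stalk (genericPoint X)) (hŝ : ŝ ≠ 0) :
    LocallyFiniteSupport (fun x : X => if Order.coheight x = 1 then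
      Cyc.secOrdAt F (genericPoint X) x (gen x) (mkη F ŝ) else 0) := by
  intro z
  obtain ⟨_, ⟨V, hV₀, rfl⟩, hzV, -⟩ := X.isBasis_affineOpens.exists_subset_of_mem_open
    (Set.mem_univ z) isOpen_univ
  have hV : IsAffineOpen V := hV₀
  refine ⟨V, V.2.mem_nhds hzV, ?_⟩
  obtain ⟨W₀, a₀, hηW₀, ha₀⟩ := exists_isGen_generic hF.2.2
  obtain ⟨g, hg⟩ := exists_eq_mkη_smul ha₀ hηW₀ (mkη F ŝ)
  have hg0 : g ≠ 0 := by
    rintro rfl
    rw [zero_smul] at hg
    exact hŝ ((mkη_eq_zero_iff F ŝ).1 (hg.trans ((mkη_eq_zero_iff F 0).2 rfl)))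
  refine ((finite_ord_ne_zero hV g hg0).union
    (finite_codim_one_not_mem hX hV W₀ hηW₀)).subset ?_
  rintro x ⟨hxV, hxs⟩
  have hxs' : (if Order.coheight x = 1 then
      Cyc.secOrdAt F (genericPoint X) x (gen x) (mkη F ŝ) else 0) ≠ 0 := hxs
  by_cases h1 : Order.coheight x = 1
  · rw [if_pos h1] at hxs'
    by_cases hxW : x ∈ W₀
    · left
      refine ⟨hxV, h1, ?_⟩
      haveI : Ring.KrullDimLE 1 (X.presheaf.stalk x) := krullDimLE_of_coheight_le h1.le
      rw [hg, secOrdAt_eq ha₀ x hxW (gen x) g, ordFrac_eq_ord x h1] at hxs'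
      exact hxs'
    · right
      exact ⟨hxV, h1, hxW⟩
  · rw [if_neg h1] at hxs'
    exact absurd rfl hxs'

end LocFin

theorem S16087_main (X : Scheme.{u}) [IsIntegral X] [IsLocallyNoetherian X]
    (hX : Pi1.IsNormalScheme X) :
    (∀ (F : X.Modules) (hF : RefHull.IsRef1 F) (s : Cyc.secFibre F (genericPoint ↥X)), s ≠ 0 →
        ∃ D : AlgebraicCycle X ℤ, (∀ x : ↥X, Order.coheight x ≠ 1 → D x = 0) ∧
          ∀ (x : ↥X), Order.coheight x = 1 →
            D x = Cyc.secOrdAt F (genericPoint ↥X) x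
              ((genericPoint_spec ↥X).specializes (Set.mem_univ x)) s) ∧
      ∀ D : AlgebraicCycle X ℤ, (∀ x : ↥X, Order.coheight x ≠ 1 → D x = 0) →
        ∃ (F : X.Modules) (_ : RefHull.IsRef1 F) (s : Cyc.secFibre F (genericPoint ↥X)), s ≠ 0 ∧
          ∀ (x : ↥X), Order.coheight x = 1 →
            D x = Cyc.secOrdAt F (genericPoint ↥X) x
              ((genericPoint_spec ↥X).specializes (Set.mem_univ x)) s := by
  constructor
  · intro F hF s hs
    obtain ⟨ŝ, rfl⟩ := mkη_surjective F s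
    have hŝ : ŝ ≠ 0 := fun h => hs ((mkη_eq_zero_iff F ŝ).2 h)
    refine ⟨⟨fun x : X => if Order.coheight x = 1 then
      Cyc.secOrdAt F (genericPoint X) x (gen x) (mkη F ŝ) else 0, fun _ _ => Set.mem_univ _,
      fun z _ => locallyFinite_secOrd hX hF ŝ hŝ z⟩, ?_, ?_⟩
    · intro x hx
      exact if_neg hx
    · intro x hx
      exact if_pos hx
  · intro D hD0
    have hDfin : LocallyFiniteSupport (D : X → ℤ) := D.locallyFiniteSupport
    obtain ⟨ŝ, hŝ, h⟩ := hasDiv_OD hX (D : X → ℤ) hD0 hDfin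
    refine ⟨OD hX (D : X → ℤ), isRef1_OD hX (D : X → ℤ) hD0 hDfin, mkη _ ŝ,
      fun h0 => hŝ ((mkη_eq_zero_iff _ ŝ).1 h0), fun x hx => ?_⟩
    exact (h x hx).symm

end Groth.Agent.Lead.WD
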