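import Mathlib
import Groth.Prelude.Def_C1
import Groth.Prelude.Def_Pi1
import Groth.Prelude.Def_CDiv
import Groth.Agent.Lib.Lead.WD4
import Groth.Agent.Lib.Helper6.CDiv1.FactThm

/-!
# Weil divisors are divisors of rational sections of invertible modules iff the scheme is
locally factorial (lead)
-/

set_option autoImplicit false
set_option backward.isDefEq.respectTransparency.types false
set_option synthInstance.maxHeartbeats 400000
set_option linter.style.haveILetI false
set_option linter.unusedSectionVars false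
universe u

open CategoryTheory CategoryTheory.Limits AlgebraicGeometry TopologicalSpace Opposite

namespace Groth.Agent.Lead.WD

open Groth.Agent.Helper1.QcCech Groth.Agent.Helper1.LGen Groth.Agent.Lead.RkSch Groth.Agent.Lead.SD
  Groth.Agent.Lib.Helper6.CDiv1 Groth.Agent.Helper1 Groth.Agent.Lead.RH Groth.Agent.Lead.SecOrd
  Groth.Agent.Lead.Ref1

variable {X : Scheme.{u}} [IsIntegral X] [IsLocallyNoetherian X]

/-- two local generators of a module near a point differ, generically, by a unit of the local ring -/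
theorem exists_unit_of_isGen {L : X.Modules} {W W' : X.Opens} {a : Γ(L, W)} {b : Γ(L, W')}
    (ha : IsGen L W a) (hb : IsGen L W' b) (y : X) (hy : y ∈ W) (hy' : y ∈ W')
    (g g' : X.functionField)
    (h : g • L.presheaf.germ W (genericPoint X) ((gen y).mem_open W.2 hy) a =
      g' • L.presheaf.germ W' (genericPoint X) ((gen y).mem_open W'.2 hy') b) :
    ∃ u : (X.presheaf.stalk y)ˣ,
      g = g' * algebraMap (X.presheaf.stalk y) X.functionField (u : X.presheaf.stalk y) := by
  have hηW := (gen y).mem_open W.2 hy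
  have hηW' := (gen y).mem_open W'.2 hy'
  obtain ⟨ha0, ha1⟩ := (freeAt_iff a y hy).1 (freeAt_of_isGen ha y hy)
  obtain ⟨hb0, hb1⟩ := (freeAt_iff b y hy').1 (freeAt_of_isGen hb y hy')
  obtain ⟨hη0, -⟩ := (freeAt_iff a _ hηW).1 (freeAt_of_isGen ha _ hηW)
  obtain ⟨ρ, hρ⟩ := ha1 (L.presheaf.germ W' y hy' b)
  obtain ⟨σ, hσ⟩ := hb1 (L.presheaf.germ W y hy a)
  have hρσ : σ * ρ = 1 := by
    have h1 : (σ * ρ - 1) • L.presheaf.germ W y hy a = 0 := by
      rw [sub_smul, one_smul, mul_smul, hρ, hσ, sub_self]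
    exact sub_eq_zero.1 (ha0 _ h1)
  have hu : IsUnit ρ := IsUnit.of_mul_eq_one σ (by rw [mul_comm]; exact hρσ)
  refine ⟨hu.unit, ?_⟩
  rw [IsUnit.unit_spec]
  have hsp : L.presheaf.germ W' (genericPoint X) hηW' b =
      (X.presheaf.stalkSpecializes (gen y)).hom ρ • L.presheaf.germ W (genericPoint X) hηW a := by
    have := congrArg (spM L (gen y)) hρ
    rw [spM_smul, spM_germ, spM_germ] at this
    exact this.symm
  rw [hsp, smul_smul] at h
  have h3 : (g - g' * (X.presheaf.stalkSpecializes (gen y)).hom ρ) •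
      L.presheaf.germ W (genericPoint X) hηW a = 0 := by
    rw [sub_smul, h, sub_self]
  exact sub_eq_zero.1 (hη0 _ h3)

theorem ord_algebraMap_unit (x : X) (hx : Order.coheight x = 1) (u : (X.presheaf.stalk x)ˣ) :
    Scheme.ord (algebraMap (X.presheaf.stalk x) X.functionField (u : X.presheaf.stalk x)) x = 0 := by
  haveI : Ring.KrullDimLE 1 (X.presheaf.stalk x) := krullDimLE_of_coheight_le hx.le
  rw [← ordFrac_eq_ord x hx, ordFrac_unit]


/-- the Cartier divisor of a nonzero rational section of an invertible module: its local equations have the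
orders of the section -/
theorem exists_divisor_of_section (L : X.Modules) (hL : PicF.IsInvertible L)
    (ŝ : L.presheaf.stalk (genericPoint X)) (hŝ : ŝ ≠ 0) :
    ∃ D : CDiv.Divisor X, ∀ (x : X), Order.coheight x = 1 → ∀ f : CDiv.KUnits X,
      D.1 x = CDiv.germOf X x f →
        Scheme.ord (f : X.functionField) x =
          Cyc.secOrdAt L (genericPoint X) x (gen x) (mkη L ŝ) := by
  choose W a hxW ha using fun x => exists_isGen hL x
  have hηW : ∀ x, genericPoint X ∈ W x := fun x => (gen x).mem_open (W x).2 (hxW x)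
  choose g hg using fun x => exists_eq_mkη_smul (ha x) (hηW x) (mkη L ŝ)
  have hg' : ∀ x, ŝ = g x • L.presheaf.germ (W x) (genericPoint X) (hηW x) (a x) :=
    fun x => mkη_injective L (hg x)
  have hg0 : ∀ x, g x ≠ 0 := by
    intro x h0
    apply hŝ
    rw [hg' x, h0, zero_smul]
  have key : ∀ (x y : X) (hy : y ∈ W x), ∃ u : (X.presheaf.stalk y)ˣ,
      g y = g x * algebraMap (X.presheaf.stalk y) X.functionField (u : X.presheaf.stalk y) :=
    fun x y hy => exists_unit_of_isGen (ha y) (ha x) y (hxW y) hy (g y) (g x)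
      ((hg' y).symm.trans (hg' x))
  refine ⟨⟨fun x => CDiv.germOf X x (Units.mk0 (g x) (hg0 x)), fun x =>
    ⟨W x, Units.mk0 (g x) (hg0 x), hxW x, fun y hy => ?_⟩⟩, ?_⟩
  · obtain ⟨u, hu⟩ := key x y hy
    change (QuotientGroup.mk (Units.mk0 (g y) (hg0 y)) : CDiv.Germ X y) =
      QuotientGroup.mk (Units.mk0 (g x) (hg0 x))
    rw [QuotientGroup.eq, mem_stalkUnits_iff]
    refine ⟨u⁻¹, ?_⟩
    have hu0 : algebraMap (X.presheaf.stalk y) X.functionField (u : X.presheaf.stalk y) ≠ 0 :=
      ((u.isUnit).map _).ne_zero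
    have h1 : algebraMap (X.presheaf.stalk y) X.functionField ((u⁻¹ : (X.presheaf.stalk y)ˣ) :
        X.presheaf.stalk y) * algebraMap (X.presheaf.stalk y) X.functionField
          (u : X.presheaf.stalk y) = 1 := by
      rw [← map_mul, Units.inv_mul, map_one]
    rw [Units.val_mul, Units.val_inv_eq_inv_val, Units.val_mk0, Units.val_mk0, hu]
    have hgx := hg0 x
    rw [mul_inv, mul_comm (g x)⁻¹, mul_assoc, inv_mul_cancel₀ hgx, mul_one]
    exact eq_inv_of_mul_eq_one_left h1
  · intro x hx f hf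
    have hf' : (QuotientGroup.mk (Units.mk0 (g x) (hg0 x)) : CDiv.Germ X x) =
        QuotientGroup.mk f := hf
    rw [QuotientGroup.eq, mem_stalkUnits_iff] at hf'
    obtain ⟨u, hu⟩ := hf'
    rw [Units.val_mul, Units.val_inv_eq_inv_val, Units.val_mk0] at hu
    have hfe : (f : X.functionField) =
        g x * algebraMap (X.presheaf.stalk x) X.functionField (u : X.presheaf.stalk x) := by
      rw [hu, ← mul_assoc, mul_inv_cancel₀ (hg0 x), one_mul]
    have hu0 : algebraMap (X.presheaf.stalk x) X.functionField (u : X.presheaf.stalk x) ≠ 0 :=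
      ((u.isUnit).map _).ne_zero
    haveI : Ring.KrullDimLE 1 (X.presheaf.stalk x) := krullDimLE_of_coheight_le hx.le
    rw [hfe, Scheme.ord_mul (hg0 x) hu0, ord_algebraMap_unit x hx u, add_zero, hg x,
      secOrdAt_eq (ha x) x (hxW x) (gen x) (g x), ordFrac_eq_ord x hx]


theorem S5105_main (X : Scheme.{u}) [IsIntegral X]
    [IsLocallyNoetherian X] (hX : Pi1.IsNormalScheme X) :
    (∀ Z : ↥X → ℤ, (∀ x : ↥X, Order.coheight x ≠ 1 → Z x = 0) →
        (∀ x : ↥X, ∃ W : X.Opens, x ∈ W ∧ {z : ↥X | z ∈ W ∧ Z z ≠ 0}.Finite) →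
        ∃ (L : X.Modules) (_ : PicF.IsInvertible L) (s : Cyc.secFibre L (genericPoint ↥X)), s ≠ 0 ∧
          ∀ x : ↥X, Order.coheight x = 1 →
            Cyc.secOrdAt L (genericPoint ↥X) x (genericPoint_specializes x) s = Z x) ↔
      ∀ x : ↥X, UniqueFactorizationMonoid ↑(X.presheaf.stalk x) := by
  classical
  constructor
  · intro H
    rw [ufd_iff_divisors hX]
    intro x₀ hx₀
    obtain ⟨L, hL, s, hs, hord⟩ := H (fun x => if x = x₀ then 1 else 0)
      (fun x hx => if_neg (fun (h : x = x₀) => hx (h.symm ▸ hx₀)))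
      (fun x => ⟨⊤, trivial, (Set.finite_singleton x₀).subset (by
        rintro z ⟨-, hz⟩
        by_contra hne
        exact hz (if_neg hne))⟩)
    obtain ⟨ŝ, rfl⟩ := mkη_surjective L s
    have hŝ : ŝ ≠ 0 := fun h => hs ((mkη_eq_zero_iff L ŝ).2 h)
    obtain ⟨D, hD⟩ := exists_divisor_of_section L hL ŝ hŝ
    refine ⟨D, fun f hf => ?_, fun x hx hx1 f hf => ?_⟩
    · rw [hD x₀ hx₀ f hf]
      exact (hord x₀ hx₀).trans (if_pos rfl)
    · rw [hD x hx1 f hf]
      exact (hord x hx1).trans (if_neg hx)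
  · intro hufd Z hZ0 hZfin
    have hDfin : LocallyFiniteSupport Z := by
      intro z
      obtain ⟨W, hzW, hfin⟩ := hZfin z
      exact ⟨W, W.2.mem_nhds hzW, hfin.subset (fun y hy => ⟨hy.1, hy.2⟩)⟩
    have hF := isRef1_OD hX Z hZ0 hDfin
    have hinv : PicF.IsInvertible (OD hX Z) := by
      apply TwForm.isInvertible_of_locGen
      intro x
      haveI := hufd x
      haveI : Module.IsReflexive (X.presheaf.stalk x) ((OD hX Z).presheaf.stalk x) :=
        (isReflexive_iff (FpLocal.isFP_of_isCoh _ hF.1)).1 hF.2.1 x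
      exact exists_isGen_at hF.1 hF.2.2 x
    obtain ⟨ŝ, hŝ, h⟩ := hasDiv_OD hX Z hZ0 hDfin
    exact ⟨OD hX Z, hinv, mkη _ ŝ, fun h0 => hŝ ((mkη_eq_zero_iff _ ŝ).1 h0), fun x hx => h x hx⟩

end Groth.Agent.Lead.WD
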