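import Mathlib
import Groth.Prelude.Def_C1
import Groth.Prelude.Def_Pi1
import Groth.Agent.Lib.Lead.WD5

/-!
# Orders of vanishing on an open subscheme (lead)
-/

set_option autoImplicit false
set_option backward.isDefEq.respectTransparency.types false
set_option synthInstance.maxHeartbeats 400000
set_option linter.style.haveILetI false
set_option linter.unusedSectionVars false
universe u

open CategoryTheory CategoryTheory.Limits AlgebraicGeometry TopologicalSpace Opposite

namespace Groth.Agent.Lead.OpT

open Groth.Agent.Lead.SecOrd Groth.Agent.Lead.Ref1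

variable {X : Scheme.{u}} [IsIntegral X] (U : X.Opens) [Nonempty U]

theorem ι_genericPoint : U.ι (genericPoint (U : Scheme.{u})) = genericPoint X :=
  genericPoint_eq_of_isOpenImmersion U.ι

/-- the function field of an open subscheme is the function field -/
noncomputable def kIso : (U : Scheme.{u}).functionField ≅ X.functionField :=
  U.stalkIso (genericPoint (U : Scheme.{u})) ≪≫
    X.presheaf.stalkCongr (Inseparable.of_eq (ι_genericPoint U))

/-- the function field of an open subscheme is the function field, as a ring isomorphism -/
noncomputable def kEquiv : (U : Scheme.{u}).functionField ≃+* X.functionField :=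
  (kIso U).commRingCatIsoToRingEquiv

/-- the local ring of an open subscheme at a point, as a ring isomorphism -/
noncomputable def sEquiv (x : U) : (U : Scheme.{u}).presheaf.stalk x ≃+* X.presheaf.stalk x.1 :=
  (U.stalkIso x).commRingCatIsoToRingEquiv

theorem kEquiv_algebraMap (x : U) (r : (U : Scheme.{u}).presheaf.stalk x) :
    kEquiv U (algebraMap ((U : Scheme.{u}).presheaf.stalk x) (U : Scheme.{u}).functionField r) =
      algebraMap (X.presheaf.stalk x.1) X.functionField (sEquiv U x r) := by
  obtain ⟨r', rfl⟩ := (sEquiv U x).symm.surjective r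
  rw [RingEquiv.apply_symm_apply]
  apply (kEquiv U).symm.injective
  rw [RingEquiv.symm_apply_apply]
  have h := Scheme.Hom.stalkSpecializes_stalkMap U.ι (genericPoint (U : Scheme.{u})) x
    (genericPoint_specializes (show (U : Scheme.{u}) from x))
  have h1 := congrArg (fun φ => φ.hom r') h
  simp only [CommRingCat.hom_comp, RingHom.coe_comp, Function.comp_apply] at h1
  have e1 : (sEquiv U x).symm r' = (U.ι.stalkMap x).hom r' :=
    congrArg (fun φ => φ.hom r') (Scheme.Opens.stalkIso_inv U x)
  have e2 : (kEquiv U).symm (algebraMap (X.presheaf.stalk x.1) X.functionField r') =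
      (U.ι.stalkMap (genericPoint (U : Scheme.{u}))).hom
        ((X.presheaf.stalkSpecializes (specializes_of_eq (ι_genericPoint U))).hom
          ((X.presheaf.stalkSpecializes (genericPoint_specializes x.1)).hom r')) := by
    change (kIso U).inv.hom _ = _
    have e4 : (kIso U).inv = X.presheaf.stalkSpecializes (specializes_of_eq (ι_genericPoint U)) ≫
        U.ι.stalkMap (genericPoint (U : Scheme.{u})) := by
      unfold kIso
      rw [Iso.trans_inv, Scheme.Opens.stalkIso_inv]
      rfl
    rw [e4]
    rfl
  rw [e1, e2]
  have e3 := congrArg (fun φ => φ.hom r') (TopCat.Presheaf.stalkSpecializes_comp X.presheaf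
    (specializes_of_eq (ι_genericPoint U)) (genericPoint_specializes x.1))
  simp only [CommRingCat.hom_comp, RingHom.coe_comp, Function.comp_apply] at e3
  rw [e3]
  exact h1.symm


theorem coheight_eq (x : U) :
    Order.coheight (show (U : Scheme.{u}) from x) = Order.coheight x.1 :=
  (coheight_eq_of_isOpenImmersion (x := show (U : Scheme.{u}) from x) U.ι).symm

variable [IsLocallyNoetherian X]

theorem ord_eq (g : (U : Scheme.{u}).functionField) (x : U) :
    Scheme.ord g (show (U : Scheme.{u}) from x) = Scheme.ord (kEquiv U g) x.1 := by
  by_cases hx : Order.coheight x.1 = 1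
  · have hx' : Order.coheight (show (U : Scheme.{u}) from x) = 1 := by rw [coheight_eq, hx]
    by_cases hg : g = 0
    · subst hg
      rw [map_zero, Scheme.ord_zero, Scheme.ord_zero]
      rfl
    · have hg' : kEquiv U g ≠ 0 := (map_ne_zero_iff _ (kEquiv U).injective).2 hg
      rw [Scheme.ord_eq_iff hx' hg]
      have h2 := (Scheme.ord_eq_iff hx hg' (n := Scheme.ord (kEquiv U g) x.1)).1 rfl
      rw [← h2]
      haveI : Ring.KrullDimLE 1 (X.presheaf.stalk x.1) := krullDimLE_of_coheight_le hx.le
      haveI : Ring.KrullDimLE 1 ((U : Scheme.{u}).presheaf.stalk x) :=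
        krullDimLE_of_coheight_le hx'.le
      exact (ordFrac_ringEquiv (sEquiv U x) (kEquiv U) (kEquiv_algebraMap U x) g).symm
  · have hx' : Order.coheight (show (U : Scheme.{u}) from x) ≠ 1 := by rwa [coheight_eq]
    rw [Scheme.ord_eq_zero_of_coheight_neq_one hx, Scheme.ord_eq_zero_of_coheight_neq_one hx']

end Groth.Agent.Lead.OpT
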