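import Mathlib
import Groth.Prelude.Def_C1
import Groth.Prelude.Def_Pi1
import Groth.Agent.Lib.Lead.OpT1

/-!
# Principal prime divisors, factorial local rings and trivial Picard groups (lead)
-/

set_option autoImplicit false
set_option backward.isDefEq.respectTransparency.types false
set_option synthInstance.maxHeartbeats 400000
set_option linter.style.haveILetI false
set_option linter.unusedSectionVars false
universe u

open CategoryTheory CategoryTheory.Limits AlgebraicGeometry TopologicalSpace Opposite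

namespace Groth.Agent.Lead.Div21

open Groth.Agent.Helper1.QcCech Groth.Agent.Helper1.LGen Groth.Agent.Lead.RkSch Groth.Agent.Lead.SD
  Groth.Agent.Lib.Helper6.CDiv1 Groth.Agent.Helper1 Groth.Agent.Lead.RH Groth.Agent.Lead.SecOrd
  Groth.Agent.Lead.Ref1 Groth.Agent.Lead.WD Groth.Agent.Lead.OpT

variable {X : Scheme.{u}} [IsIntegral X] [IsLocallyNoetherian X]

/-- a global equation of the prime divisor with generic point `ζ` -/
def GlobalEq (ζ : X) (g : Γ(X, ⊤)) : Prop :=
  (∀ (x : X) (h : ζ ⤳ x),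
    (IsLocalRing.maximalIdeal (X.presheaf.stalk ζ)).comap (X.presheaf.stalkSpecializes h).hom =
      Ideal.span {X.presheaf.germ ⊤ x trivial g}) ∧
  ∀ x : X, ¬ ζ ⤳ x → IsUnit (X.presheaf.germ ⊤ x trivial g)

/-- a rational function whose divisor is the prime divisor with generic point `x₀` -/
def PrimePrincipal (x₀ : X) (f : X.functionField) : Prop :=
  f ≠ 0 ∧ Scheme.ord f x₀ = 1 ∧ ∀ x : X, x ≠ x₀ → Order.coheight x = 1 → Scheme.ord f x = 0

theorem ufd_of_globalEq (H : ∀ ζ : X, Order.coheight ζ = 1 → ∃ g, GlobalEq ζ g) (x : X) :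
    UniqueFactorizationMonoid (X.presheaf.stalk x) := by
  apply UniqueFactorizationMonoid.of_forall_isPrincipal_of_height_eq_one
  intro P hP hPh
  obtain ⟨x₀, h, hx₀, rfl⟩ := exists_specPrime_eq P hPh
  obtain ⟨g, hg, -⟩ := H x₀ hx₀
  exact ⟨⟨_, hg x h⟩⟩

theorem normal_of_ufd (H : ∀ x : X, UniqueFactorizationMonoid (X.presheaf.stalk x)) :
    Pi1.IsNormalScheme X := by
  intro x
  haveI := H x
  exact ⟨inferInstance, inferInstance⟩

theorem primePrincipal_of_globalEq {ζ : X} (hζ : Order.coheight ζ = 1) {g : Γ(X, ⊤)}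
    (hg : GlobalEq ζ g) : PrimePrincipal ζ (toK ⊤ (Opens.mem_top _) g) := by
  have hη : genericPoint X ∈ (⊤ : X.Opens) := Opens.mem_top _
  have hπ : IsLocalRing.maximalIdeal (X.presheaf.stalk ζ) =
      Ideal.span {X.presheaf.germ ⊤ ζ trivial g} := by
    rw [← specPrime_refl ζ (specializes_refl ζ)]
    exact hg.1 ζ (specializes_refl ζ)
  have hK : algebraMap (X.presheaf.stalk ζ) X.functionField (X.presheaf.germ ⊤ ζ trivial g) =
      toK ⊤ hη g := algebraMap_germ ⊤ hη ζ trivial g
  have hπ0 : X.presheaf.germ ⊤ ζ trivial g ≠ 0 := by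
    intro h0
    rw [h0, Ideal.span_singleton_eq_bot.2 rfl] at hπ
    have hf := IsLocalRing.isField_iff_maximalIdeal_eq.2 hπ
    have h1 := ringKrullDim_eq_zero_of_isField hf
    rw [ringKrullDim_stalk_eq_coheight, hζ] at h1
    exact one_ne_zero h1
  have hπK : algebraMap (X.presheaf.stalk ζ) X.functionField (X.presheaf.germ ⊤ ζ trivial g) ≠ 0 :=
    (map_ne_zero_iff _ (IsFractionRing.injective _ _)).2 hπ0
  refine ⟨by rw [← hK]; exact hπK, ?_, ?_⟩
  · have := ord_eq_one_of_generator ζ hζ _ hπ hπK (Units.mk0 _ hπK) rfl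
    rw [Units.val_mk0, hK] at this
    exact this
  · intro x hx hx1
    have hns : ¬ ζ ⤳ x := not_specializes_of_coheight hζ hx1 hx
    have hu := hg.2 x hns
    have := ord_algebraMap_unit x hx1 hu.unit
    rw [IsUnit.unit_spec, algebraMap_germ ⊤ hη x trivial g] at this
    exact this

theorem exists_globalEq (hX : Pi1.IsNormalScheme X) {x₀ : X} (hx₀ : Order.coheight x₀ = 1)
    {f : X.functionField} (hf : PrimePrincipal x₀ f) : ∃ g, GlobalEq x₀ g := by
  classical
  have hη : genericPoint X ∈ (⊤ : X.Opens) := Opens.mem_top _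
  obtain ⟨hf0, hf1, hf2⟩ := hf
  have hord : ∀ y : X, Order.coheight y = 1 → Scheme.ord f y = if y = x₀ then 1 else 0 := by
    intro y hy
    by_cases h : y = x₀
    · rw [if_pos h, h, hf1]
    · rw [if_neg h, hf2 y h hy]
  obtain ⟨g, hg⟩ := hartogs_section hX ⊤ hη f (fun y _ hy => by
    rw [hord y hy]
    split_ifs <;> omega)
  have hπK : ∀ x : X, algebraMap (X.presheaf.stalk x) X.functionField
      (X.presheaf.germ ⊤ x trivial g) = f := fun x => (algebraMap_germ ⊤ hη x trivial g).trans hg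
  refine ⟨g, ?_, ?_⟩
  · intro x h
    change specPrime h = _
    apply le_antisymm
    · intro a ha
      rw [Ideal.mem_span_singleton']
      by_cases ha0 : a = 0
      · exact ⟨0, by rw [zero_mul, ha0]⟩
      have haK : algebraMap (X.presheaf.stalk x) X.functionField a ≠ 0 :=
        (map_ne_zero_iff _ (IsFractionRing.injective _ _)).2 ha0
      have hin : InStalk x (algebraMap (X.presheaf.stalk x) X.functionField a * f⁻¹) := by
        apply inStalk_of_ord_nonneg_all hX x _ (mul_ne_zero haK (inv_ne_zero hf0))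
        intro z hzx hz1
        rw [Scheme.ord_mul haK (inv_ne_zero hf0), SecOrd.ord_inv z hf0, hord z hz1]
        have h0 : 0 ≤ Scheme.ord (algebraMap (X.presheaf.stalk x) X.functionField a) z :=
          ord_nonneg_of_inStalk z hz1 _ haK (inStalk_of_specializes hzx ⟨a, rfl⟩)
        by_cases hz : z = x₀
        · subst hz
          rw [if_pos rfl]
          haveI : IsDiscreteValuationRing (X.presheaf.stalk z) := isDVR_of_coheight_one hX z hz1
          have hnu : ¬ IsUnit ((X.presheaf.stalkSpecializes h).hom a) := (mem_specPrime h a).1 ha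
          have hne : (X.presheaf.stalkSpecializes h).hom a ≠ 0 := by
            intro h0'
            apply haK
            rw [← algebraMap_stalkSpecializes h a, h0', map_zero]
          have := one_le_ord_of_not_isUnit z ((X.presheaf.stalkSpecializes h).hom a) hne hnu
          rw [algebraMap_stalkSpecializes] at this
          omega
        · rw [if_neg hz]
          omega
      obtain ⟨b, hb⟩ := hin
      refine ⟨b, ?_⟩
      apply IsFractionRing.injective (X.presheaf.stalk x) X.functionField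
      rw [map_mul, hb, hπK]
      field_simp
    · rw [Ideal.span_singleton_le_iff_mem, mem_specPrime]
      intro hu
      have := ord_algebraMap_unit x₀ hx₀ hu.unit
      rw [IsUnit.unit_spec, algebraMap_stalkSpecializes, hπK, hf1] at this
      exact one_ne_zero this
  · intro x hx
    have hin : InStalk x f⁻¹ := by
      apply inStalk_of_ord_nonneg_all hX x _ (inv_ne_zero hf0)
      intro z hzx hz1
      rw [SecOrd.ord_inv z hf0, hord z hz1, if_neg (by rintro rfl; exact hx hzx)]
      simp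
    obtain ⟨b, hb⟩ := hin
    refine IsUnit.of_mul_eq_one b ?_
    apply IsFractionRing.injective (X.presheaf.stalk x) X.functionField
    rw [map_mul, hb, hπK, map_one, mul_inv_cancel₀ hf0]


section PicTrivial

/-- the divisor of a nonzero rational section of a module with a generic free generator is locally finite -/
theorem locallyFinite_secOrd_of_isGen (hX : Pi1.IsNormalScheme X) {F : X.Modules} {W₀ : X.Opens}
    {a₀ : Γ(F, W₀)} (hηW₀ : genericPoint X ∈ W₀) (ha₀ : IsGen F W₀ a₀)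
    (ŝ : F.presheaf.stalk (genericPoint X)) (hŝ : ŝ ≠ 0) :
    LocallyFiniteSupport (fun x : X => if Order.coheight x = 1 then
      Cyc.secOrdAt F (genericPoint X) x (gen x) (mkη F ŝ) else 0) := by
  intro z
  obtain ⟨_, ⟨V, hV₀, rfl⟩, hzV, -⟩ := X.isBasis_affineOpens.exists_subset_of_mem_open
    (Set.mem_univ z) isOpen_univ
  have hV : IsAffineOpen V := hV₀
  refine ⟨V, V.2.mem_nhds hzV, ?_⟩
  obtain ⟨g, hg⟩ := exists_eq_mkη_smul ha₀ hηW₀ (mkη F ŝ)
  have hg0 : g ≠ 0 := by
    rintro rfl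
    rw [zero_smul] at hg
    exact hŝ ((mkη_eq_zero_iff F ŝ).1 (hg.trans ((mkη_eq_zero_iff F 0).2 rfl)))
  refine ((finite_ord_ne_zero hV g hg0).union
    (finite_codim_one_not_mem hX hV W₀ hηW₀)).subset ?_
  rintro x ⟨hxV, hxs⟩
  have hxs' : (if Order.coheight x = 1 then
      Cyc.secOrdAt F (genericPoint X) x (gen x) (mkη F ŝ) else 0) ≠ 0 := hxs
  by_cases h1 : Order.coheight x = 1
  · rw [if_pos h1] at hxs'
    by_cases hxW : x ∈ W₀
    · left
      refine ⟨hxV, h1, ?_⟩
      haveI : Ring.KrullDimLE 1 (X.presheaf.stalk x) := krullDimLE_of_coheight_le h1.le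
      rw [hg, secOrdAt_eq ha₀ x hxW (gen x) g, ordFrac_eq_ord x h1] at hxs'
      exact hxs'
    · right
      exact ⟨hxV, h1, hxW⟩
  · rw [if_neg h1] at hxs'
    exact absurd rfl hxs'

theorem ord_prod {ι : Type*} (s : Finset ι) (φ : ι → X.functionField) (hφ : ∀ i ∈ s, φ i ≠ 0)
    (x : X) : Scheme.ord (∏ i ∈ s, φ i) x = ∑ i ∈ s, Scheme.ord (φ i) x := by
  classical
  induction s using Finset.induction_on with
  | empty => simp [SecOrd.ord_one]
  | insert a s ha ih =>
    rw [Finset.prod_insert ha, Finset.sum_insert ha,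
      Scheme.ord_mul (hφ a (Finset.mem_insert_self a s))
        (Finset.prod_ne_zero_iff.2 (fun i hi => hφ i (Finset.mem_insert_of_mem hi))),
      ih (fun i hi => hφ i (Finset.mem_insert_of_mem hi))]

/-- a divisor with finite support is principal if all prime divisors are -/
theorem exists_ord_eq_of_primePrincipal
    (H : ∀ x₀ : X, Order.coheight x₀ = 1 → ∃ f, PrimePrincipal x₀ f)
    (D : X → ℤ) (hD0 : ∀ x : X, Order.coheight x ≠ 1 → D x = 0)
    (hfin : (Function.support D).Finite) :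
    ∃ f : X.functionField, f ≠ 0 ∧ ∀ x : X, Order.coheight x = 1 → Scheme.ord f x = D x := by
  classical
  have H' : ∀ x₀ : X, ∃ f : X.functionField, Order.coheight x₀ = 1 → PrimePrincipal x₀ f := by
    intro x₀
    by_cases h : Order.coheight x₀ = 1
    · obtain ⟨f, hf⟩ := H x₀ h
      exact ⟨f, fun _ => hf⟩
    · exact ⟨0, fun h' => absurd h' h⟩
  choose φ hφ using H'
  have h1 : ∀ z ∈ hfin.toFinset, Order.coheight z = 1 := by
    intro z hz
    by_contra hne
    exact (hfin.mem_toFinset.1 hz) (hD0 z hne)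
  have hne : ∀ z ∈ hfin.toFinset, φ z ^ D z ≠ 0 :=
    fun z hz => zpow_ne_zero _ (hφ z (h1 z hz)).1
  refine ⟨∏ z ∈ hfin.toFinset, φ z ^ D z, Finset.prod_ne_zero_iff.2 hne, ?_⟩
  intro x hx
  rw [ord_prod _ _ hne]
  have h2 : ∀ z ∈ hfin.toFinset, Scheme.ord (φ z ^ D z) x = if z = x then D x else 0 := by
    intro z hz
    obtain ⟨hz0, hz1, hz2⟩ := hφ z (h1 z hz)
    rw [ord_zpow x hz0]
    by_cases hzx : z = x
    · subst hzx
      rw [if_pos rfl, hz1, mul_one]
    · rw [if_neg hzx, hz2 x (fun h => hzx h.symm) hx, mul_zero]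
  rw [Finset.sum_congr rfl h2, Finset.sum_ite_eq']
  split_ifs with hmem
  · rfl
  · by_contra hne'
    exact hmem (hfin.mem_toFinset.2 (fun h0 => hne' h0.symm))

theorem trivial_of_primePrincipal [CompactSpace X] (hX : Pi1.IsNormalScheme X)
    (H : ∀ x₀ : X, Order.coheight x₀ = 1 → ∃ f, PrimePrincipal x₀ f)
    (L : X.Modules) (hL : PicF.IsInvertible L) : Nonempty (L ≅ Coh.structureModule X) := by
  classical
  obtain ⟨W₀, a₀, hηW₀, ha₀⟩ := exists_isGen hL (genericPoint X)
  obtain ⟨h0, -⟩ := (freeAt_iff a₀ _ hηW₀).1 (freeAt_of_isGen ha₀ _ hηW₀)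
  have hŝ : L.presheaf.germ W₀ _ hηW₀ a₀ ≠ 0 := fun h => one_ne_zero (h0 1 (by rw [one_smul, h]))
  have hlf := locallyFinite_secOrd_of_isGen hX hηW₀ ha₀ _ hŝ
  have hfin := hlf.finite_inter_support_of_isCompact isCompact_univ
  rw [Set.univ_inter] at hfin
  obtain ⟨f, hf0, hf⟩ := exists_ord_eq_of_primePrincipal H _
    (fun x hx => if_neg hx) hfin
  refine S5103_main hX L hL (mkη L (L.presheaf.germ W₀ _ hηW₀ a₀))
    (fun h => hŝ ((mkη_eq_zero_iff L _).1 h)) f hf0 (fun x hx => ?_)
  rw [hf x hx, if_pos hx]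

end PicTrivial


section Opens

theorem normal_opens (hX : Pi1.IsNormalScheme X) (U : X.Opens) :
    Pi1.IsNormalScheme (U : Scheme.{u}) := by
  intro x
  haveI : Nonempty U := ⟨x⟩
  obtain ⟨h1, h2⟩ := hX (show U from x).1
  haveI := h1
  haveI := h2
  exact ⟨inferInstance, IsIntegrallyClosed.of_equiv (sEquiv U x).symm⟩

theorem compactSpace_opens [CompactSpace X] (U : X.Opens) : CompactSpace (U : Scheme.{u}) := by
  haveI : IsNoetherian X := {}
  exact isCompact_iff_compactSpace.1 (NoetherianSpace.isCompact (U : Set X))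

theorem iso_of_isEmpty {Y : Scheme.{u}} [IsEmpty Y] (M N : Y.Modules) : Nonempty (M ≅ N) := by
  have hsub : ∀ (P : Y.Modules) (V : Y.Opens), Subsingleton Γ(P, V) := fun P V =>
    Module.subsingleton Γ(Y, V) _
  haveI : IsIso (0 : M ⟶ N) := by
    apply TwForm.isIso_of_app_bijective
    intro V
    haveI := hsub M V
    haveI := hsub N V
    exact ⟨fun a b _ => Subsingleton.elim a b, fun b => ⟨0, Subsingleton.elim _ _⟩⟩
  exact ⟨asIso (0 : M ⟶ N)⟩

end Opens


section Main

theorem isInvertible_OD_of_ufd (hX : Pi1.IsNormalScheme X)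
    (hufd : ∀ x : X, UniqueFactorizationMonoid (X.presheaf.stalk x)) (Z : X → ℤ)
    (hZ0 : ∀ x : X, Order.coheight x ≠ 1 → Z x = 0) (hDfin : LocallyFiniteSupport Z) :
    PicF.IsInvertible (OD hX Z) := by
  have hF := isRef1_OD hX Z hZ0 hDfin
  apply TwForm.isInvertible_of_locGen
  intro x
  haveI := hufd x
  haveI : Module.IsReflexive (X.presheaf.stalk x) ((OD hX Z).presheaf.stalk x) :=
    (isReflexive_iff (FpLocal.isFP_of_isCoh _ hF.1)).1 hF.2.1 x
  exact exists_isGen_at hF.1 hF.2.2 x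

/-- an invertible `O_X(Z)` which is trivial comes from a principal divisor -/
theorem exists_ord_eq_of_iso (hX : Pi1.IsNormalScheme X) (Z : X → ℤ)
    (hZ0 : ∀ x : X, Order.coheight x ≠ 1 → Z x = 0) (hDfin : LocallyFiniteSupport Z)
    (e : OD hX Z ≅ Coh.structureModule X) :
    ∃ f : X.functionField, f ≠ 0 ∧ ∀ x : X, Order.coheight x = 1 → Scheme.ord f x = Z x := by
  have hF := isRef1_OD hX Z hZ0 hDfin
  obtain ⟨ŝ, hŝ, h1⟩ := hasDiv_OD hX Z hZ0 hDfin
  obtain ⟨ť, hť, h2⟩ := hasDiv_structureModule (X := X)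
  obtain ⟨f, hf0, hf⟩ := (S16086_main hX _ _ hF isRef1_structureModule (mkη _ ŝ)
    (fun h => hŝ ((mkη_eq_zero_iff _ ŝ).1 h)) (mkη _ ť)
    (fun h => hť ((mkη_eq_zero_iff _ ť).1 h))).1 ⟨e⟩
  refine ⟨f, hf0, fun x hx => ?_⟩
  have := hf x hx
  rw [h1 x hx, h2 x hx] at this
  simp only [Pi.zero_apply, zero_add] at this
  exact this.symm

theorem trivial_on_opens [CompactSpace X]
    (hufd : ∀ x : X, UniqueFactorizationMonoid (X.presheaf.stalk x))
    (hpic : ∀ L : X.Modules, PicF.IsInvertible L → Nonempty (L ≅ Coh.structureModule X))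
    (U : X.Opens) [Nonempty U] (L : (U : Scheme.{u}).Modules) (hL : PicF.IsInvertible L) :
    Nonempty (L ≅ Coh.structureModule (U : Scheme.{u})) := by
  classical
  have hX := normal_of_ufd hufd
  have hU := normal_opens hX U
  haveI := compactSpace_opens U
  obtain ⟨W₀, a₀, hηW₀, ha₀⟩ := exists_isGen hL (genericPoint (U : Scheme.{u}))
  obtain ⟨h0, -⟩ := (freeAt_iff a₀ _ hηW₀).1 (freeAt_of_isGen ha₀ _ hηW₀)
  have hŝ : L.presheaf.germ W₀ _ hηW₀ a₀ ≠ 0 := fun h => one_ne_zero (h0 1 (by rw [one_smul, h]))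
  have hlf := locallyFinite_secOrd_of_isGen hU hηW₀ ha₀ _ hŝ
  have hfin := hlf.finite_inter_support_of_isCompact isCompact_univ
  rw [Set.univ_inter] at hfin
  let DU : ↥(U : Scheme.{u}) → ℤ := fun x => if Order.coheight x = 1 then
      Cyc.secOrdAt L (genericPoint (U : Scheme.{u})) x (gen x)
        (mkη L (L.presheaf.germ W₀ _ hηW₀ a₀)) else 0
  let Z : X → ℤ := fun x => if h : x ∈ U then DU (show (U : Scheme.{u}) from ⟨x, h⟩) else 0
  have hZU : ∀ u : U, Z u.1 = DU (show (U : Scheme.{u}) from u) := fun u => dif_pos u.2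
  have hZ0 : ∀ x : X, Order.coheight x ≠ 1 → Z x = 0 := by
    intro x hx
    by_cases h : x ∈ U
    · rw [hZU ⟨x, h⟩]
      exact if_neg (by rw [coheight_eq U ⟨x, h⟩]; exact hx)
    · exact dif_neg h
  have hZfin : (Function.support Z).Finite := by
    refine (hfin.image (fun u : U => u.1)).subset ?_
    intro x hx
    by_cases h : x ∈ U
    · refine ⟨⟨x, h⟩, ?_, rfl⟩
      have hx' : Z x ≠ 0 := hx
      rw [hZU ⟨x, h⟩] at hx'
      exact hx'
    · exact absurd (dif_neg h) hx
  have hZlf : LocallyFiniteSupport Z :=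
    fun z => ⟨Set.univ, Filter.univ_mem, by rw [Set.univ_inter]; exact hZfin⟩
  obtain ⟨e⟩ := hpic _ (isInvertible_OD_of_ufd hX hufd Z hZ0 hZlf)
  obtain ⟨f, hf0, hf⟩ := exists_ord_eq_of_iso hX Z hZ0 hZlf e
  refine S5103_main hU L hL (mkη L (L.presheaf.germ W₀ _ hηW₀ a₀))
    (fun h => hŝ ((mkη_eq_zero_iff L _).1 h)) ((kEquiv U).symm f)
    ((map_ne_zero_iff _ (kEquiv U).symm.injective).2 hf0) (fun u hu => ?_)
  have h1 := ord_eq U ((kEquiv U).symm f) u
  rw [RingEquiv.apply_symm_apply] at h1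
  have h2 := hf (show U from u).1 ((coheight_eq U u).symm.trans hu)
  have h3 := hZU u
  rw [h1, h2, h3]
  exact (if_pos hu).symm

theorem primePrincipal_of_opens_picTrivial (hX : Pi1.IsNormalScheme X)
    (hpic : ∀ (U : X.Opens) (L : (U : Scheme.{u}).Modules), PicF.IsInvertible L →
      Nonempty (L ≅ Coh.structureModule (U : Scheme.{u})))
    (x₀ : X) (hx₀ : Order.coheight x₀ = 1) : ∃ f, PrimePrincipal x₀ f := by
  classical
  let Z : X → ℤ := fun x => if x = x₀ then 1 else 0
  have hZ0 : ∀ x : X, Order.coheight x ≠ 1 → Z x = 0 :=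
    fun x hx => if_neg (fun (h : x = x₀) => hx (h.symm ▸ hx₀))
  have hZsupp : Function.support Z ⊆ {x₀} := by
    intro z hz
    by_contra hne
    exact hz (if_neg hne)
  have hZlf : LocallyFiniteSupport Z :=
    fun z => ⟨Set.univ, Filter.univ_mem, by
      rw [Set.univ_inter]; exact (Set.finite_singleton x₀).subset hZsupp⟩
  let S : Set X := {x | ∃ (V : X.Opens) (c : X.functionField), x ∈ V ∧ c ≠ 0 ∧
    ∀ y ∈ V, Order.coheight y = 1 → Z y + Scheme.ord c y = 0}
  have hS : IsOpen S := by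
    rw [isOpen_iff_forall_mem_open]
    rintro x ⟨V, c, hxV, hc0, hc⟩
    exact ⟨V, fun y hy => ⟨V, c, hy, hc0, hc⟩, V.2, hxV⟩
  let U : X.Opens := ⟨S, hS⟩
  have hcodim : ∀ x : X, Order.coheight x ≤ 1 → x ∈ U :=
    fun x hx => exists_chart hX Z hZ0 hZlf x hx
  haveI : Nonempty U := ⟨⟨genericPoint X, hcodim _ (by
    rw [coheight_genericPoint]; exact zero_le_one)⟩⟩
  have hU := normal_opens hX U
  let Z' : ↥(U : Scheme.{u}) → ℤ := fun u => Z (show U from u).1
  have hZ'0 : ∀ u : ↥(U : Scheme.{u}), Order.coheight u ≠ 1 → Z' u = 0 := by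
    intro u hu
    exact hZ0 _ (by rw [← coheight_eq U u]; exact hu)
  have hZ'lf : LocallyFiniteSupport Z' := by
    intro z
    refine ⟨Set.univ, Filter.univ_mem, ?_⟩
    rw [Set.univ_inter]
    refine Set.Subsingleton.finite ?_
    intro a ha b hb
    have h1 : (show U from a).1 = x₀ := hZsupp ha
    have h2 : (show U from b).1 = x₀ := hZsupp hb
    exact Subtype.ext (h1.trans h2.symm)
  have hinv : PicF.IsInvertible (OD hU Z') := by
    apply TwForm.isInvertible_of_locGen
    intro u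
    obtain ⟨V, c, huV, hc0, hc⟩ := (show U from u).2
    have hc0' : (kEquiv U).symm c ≠ 0 := (map_ne_zero_iff _ (kEquiv U).symm.injective).2 hc0
    have hgen := isGen_mk hU Z' (U.ι ⁻¹ᵁ V) ((kEquiv U).symm c) hc0' (fun y hy hy1 => by
      have h1 := ord_eq U ((kEquiv U).symm c) y
      rw [RingEquiv.apply_symm_apply] at h1
      rw [h1]
      exact hc (show U from y).1 hy ((coheight_eq U y).symm.trans hy1))
    exact ⟨U.ι ⁻¹ᵁ V, _, huV, hgen⟩
  obtain ⟨e⟩ := hpic U _ hinv
  obtain ⟨f', hf'0, hf'⟩ := exists_ord_eq_of_iso hU Z' hZ'0 hZ'lf e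
  have key : ∀ x : X, Order.coheight x = 1 → Scheme.ord (kEquiv U f') x = Z x := by
    intro x hx
    have hxU : x ∈ U := hcodim x hx.le
    have h1 := ord_eq U f' ⟨x, hxU⟩
    rw [← h1]
    exact hf' _ ((coheight_eq U ⟨x, hxU⟩).trans hx)
  refine ⟨kEquiv U f', (map_ne_zero_iff _ (kEquiv U).injective).2 hf'0, ?_, ?_⟩
  · rw [key x₀ hx₀]
    exact if_pos rfl
  · intro x hx hx1
    rw [key x hx1]
    exact if_neg hx

end Main

end Groth.Agent.Lead.Div21
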