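import Mathlib
import Groth.Prelude.Def_ParaF
import Groth.Agent.S2882
import Groth.Agent.S2825
import Groth.Agent.S0938

/-!
# Parafactorial pairs: transport lemmas (lead)
-/

set_option autoImplicit false
universe u
open CategoryTheory CategoryTheory.Limits AlgebraicGeometry TopologicalSpace
set_option backward.isDefEq.respectTransparency.types false

namespace Groth.Agent.Lead.ParaF

open Scheme.Modules Groth.Agent.S2882

section unit
variable {U X : Scheme.{u}} (j : U ⟶ X) [IsOpenImmersion j]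
  (h : ∀ V : X.Opens,
    Function.Bijective (X.presheaf.map (homOfLE (inf_le_left : V ⊓ j.opensRange ≤ V)).op))

include h in
theorem bij_of_eq {A B : X.Opens} (hBA : B ≤ A) (hB : B = A ⊓ j.opensRange) :
    Function.Bijective (X.presheaf.map (homOfLE hBA).op) := by
  subst hB; exact h A

include h in
theorem unit_isIso (E : X.Modules) (hE : FlatMod.IsFinLocFree E) :
    IsIso ((restrictAdjunction j).unit.app E) := by
  have key : ∀ (V' : X.Opens) (x : X), x ∈ V' → ∃ (W : X.Opens) (A₀ B₀ : (W : Scheme.{u}).Opens)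
      (hBA : B₀ ≤ A₀), x ∈ W.ι ''ᵁ A₀ ∧ W.ι ''ᵁ A₀ ≤ V' ∧
        W.ι ''ᵁ B₀ = (W.ι ''ᵁ A₀) ⊓ j.opensRange ∧
        Function.Bijective ((E.restrict W.ι).presheaf.map (homOfLE hBA).op) := by
    intro V' x hx
    obtain ⟨W, n, hxW, ⟨e⟩⟩ := hE x
    have hA : W.ι ''ᵁ (W.ι ⁻¹ᵁ V') = W ⊓ V' := image_preimage_ι X W V'
    have hB : W.ι ''ᵁ (W.ι ⁻¹ᵁ (V' ⊓ j.opensRange)) = W ⊓ (V' ⊓ j.opensRange) :=
      image_preimage_ι X W _
    have hBA : W.ι ⁻¹ᵁ (V' ⊓ j.opensRange) ≤ W.ι ⁻¹ᵁ V' := fun y hy => hy.1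
    have hBeq : W.ι ''ᵁ (W.ι ⁻¹ᵁ (V' ⊓ j.opensRange)) =
        (W.ι ''ᵁ (W.ι ⁻¹ᵁ V')) ⊓ j.opensRange := by
      rw [hA, hB, inf_assoc]
    refine ⟨W, W.ι ⁻¹ᵁ V', W.ι ⁻¹ᵁ (V' ⊓ j.opensRange), hBA, ?_, ?_, hBeq, ?_⟩
    · rw [hA]; exact ⟨hxW, hx⟩
    · rw [hA]; exact inf_le_right
    · refine res_bijective_of_iso (W : Scheme.{u}) n e hBA ?_
      exact bij_of_eq j h (Scheme.Hom.image_mono W.ι hBA) hBeq
  apply isIso_of_locally
  · intro V' t ht x hx
    obtain ⟨W, A₀, B₀, hBA, hxA, hAV, hBeq, hbij⟩ := key V' x hx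
    refine ⟨W.ι ''ᵁ A₀, hAV, hxA, ?_⟩
    refine hbij.1 (Eq.trans ?_ (map_zero _).symm)
    have hle : W.ι ''ᵁ B₀ ≤ j ''ᵁ (j ⁻¹ᵁ V') := by
      rw [Scheme.Hom.image_preimage_eq_opensRange_inf, hBeq]
      exact le_inf inf_le_right (inf_le_left.trans hAV)
    have h1 : E.presheaf.map (homOfLE hle).op
        (E.presheaf.map (homOfLE (j.image_preimage_le V')).op t) = 0 := by
      have : E.presheaf.map (homOfLE (j.image_preimage_le V')).op t = 0 := ht
      rw [this, map_zero]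
    rw [map_map] at h1
    show E.presheaf.map (homOfLE (Scheme.Hom.image_mono W.ι hBA)).op
      (E.presheaf.map (homOfLE hAV).op t) = 0
    rw [map_map]
    exact h1
  · intro V' σ x hx
    obtain ⟨W, A₀, B₀, hBA, hxA, hAV, hBeq, hbij⟩ := key V' x hx
    have hle : W.ι ''ᵁ B₀ ≤ j ''ᵁ (j ⁻¹ᵁ V') := by
      rw [Scheme.Hom.image_preimage_eq_opensRange_inf, hBeq]
      exact le_inf inf_le_right (inf_le_left.trans hAV)
    let σ0 : Γ(E, j ''ᵁ (j ⁻¹ᵁ V')) := σ
    obtain ⟨t, ht⟩ := hbij.2 (E.presheaf.map (homOfLE hle).op σ0)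
    refine ⟨W.ι ''ᵁ A₀, hAV, hxA, t, ?_⟩
    have hC : j ''ᵁ (j ⁻¹ᵁ (W.ι ''ᵁ A₀)) ≤ W.ι ''ᵁ B₀ := by
      rw [Scheme.Hom.image_preimage_eq_opensRange_inf, hBeq, inf_comm]
    have ht' : E.presheaf.map (homOfLE (Scheme.Hom.image_mono W.ι hBA)).op t =
        E.presheaf.map (homOfLE hle).op σ0 := ht
    show E.presheaf.map (homOfLE (j.image_preimage_le (W.ι ''ᵁ A₀))).op t =
      E.presheaf.map (homOfLE (Scheme.Hom.image_mono j
        (Scheme.Hom.preimage_mono j hAV))).op σ0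
    have h2 := congrArg (E.presheaf.map (homOfLE hC).op) ht'
    rw [map_map, map_map] at h2
    exact h2

include h in
theorem restrict_hom_bijective (L L' : X.Modules) (hL' : FlatMod.IsFinLocFree L') :
    Function.Bijective (fun φ : L ⟶ L' => (restrictFunctor j).map φ) := by
  haveI := unit_isIso j h L' hL'
  have key : ∀ φ : L ⟶ L', (restrictAdjunction j).homEquiv L _ ((restrictFunctor j).map φ) =
      φ ≫ (restrictAdjunction j).unit.app L' := by
    intro φ
    rw [Adjunction.homEquiv_unit]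
    exact ((restrictAdjunction j).unit.naturality φ).symm
  constructor
  · intro φ ψ hφψ
    have : φ ≫ (restrictAdjunction j).unit.app L' = ψ ≫ (restrictAdjunction j).unit.app L' := by
      rw [← key, ← key]
      exact congrArg _ hφψ
    exact (cancel_mono _).1 this
  · intro ψ
    refine ⟨(restrictAdjunction j).homEquiv L _ ψ ≫ inv ((restrictAdjunction j).unit.app L'), ?_⟩
    apply ((restrictAdjunction j).homEquiv L _).injective
    show (restrictAdjunction j).homEquiv L _ ((restrictFunctor j).map _) = _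
    rw [key]
    simp

end unit

section inv
variable {X : Scheme.{u}}

theorem isInvertible_of_iso {L L' : X.Modules} (e : L ≅ L') (h : PicF.IsInvertible L) :
    PicF.IsInvertible L' := by
  intro x
  obtain ⟨U, hx, ⟨i⟩⟩ := h x
  exact ⟨U, hx, ⟨(restrictFunctor U.ι).mapIso e.symm ≪≫ i⟩⟩

/-- restricting a trivialisation further -/
noncomputable def unitOfComp {W Z X : Scheme.{u}} (c : W ⟶ Z) (a : Z ⟶ X) (a' : W ⟶ X)
    [IsOpenImmersion c] [IsOpenImmersion a] [IsOpenImmersion a'] (h : c ≫ a = a')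
    (M : X.Modules) (e : M.restrict a ≅ Coh.structureModule Z) :
    M.restrict a' ≅ Coh.structureModule W :=
  (restrictFunctorCongr h.symm).app M ≪≫ (restrictFunctorComp c a).app M ≪≫
    (restrictFunctor c).mapIso e ≪≫ restrictUnitIso c

theorem isInvertible_restrict {Y : Scheme.{u}} (j : Y ⟶ X) [IsOpenImmersion j] (M : X.Modules)
    (h : PicF.IsInvertible M) : PicF.IsInvertible (M.restrict j) := by
  intro y
  obtain ⟨U, hxU, ⟨e⟩⟩ := h (j y)
  refine ⟨j ⁻¹ᵁ U, hxU, ⟨?_⟩⟩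
  have e' : M.restrict ((j ⁻¹ᵁ U).ι ≫ j) ≅ Coh.structureModule (↑(j ⁻¹ᵁ U)) :=
    unitOfComp (j ∣_ U) U.ι ((j ⁻¹ᵁ U).ι ≫ j) (morphismRestrict_ι j U) M e
  exact ((restrictFunctorComp (j ⁻¹ᵁ U).ι j).app M).symm ≪≫ e'

theorem isInvertible_unit : PicF.IsInvertible (Coh.structureModule X) :=
  fun _ => ⟨⊤, trivial, ⟨restrictUnitIso _⟩⟩

end inv

section ire
open _root_.ParaF

variable {U W V : Scheme.{u}}

theorem invRestrictEquiv_congr {j j' : U ⟶ V} [IsOpenImmersion j] [IsOpenImmersion j']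
    (hjj' : j = j') (h : InvRestrictEquiv j) : InvRestrictEquiv j' := by
  subst hjj'; exact h

theorem restrict_map_comp (i : U ⟶ W) (k : W ⟶ V) [IsOpenImmersion i] [IsOpenImmersion k]
    {L L' : V.Modules} (φ : L ⟶ L') :
    (restrictFunctor (i ≫ k)).map φ = (restrictFunctorComp i k).hom.app L ≫
      (restrictFunctor i).map ((restrictFunctor k).map φ) ≫
        (restrictFunctorComp i k).inv.app L' := by
  have := (restrictFunctorComp i k).hom.naturality φ
  rw [← Category.assoc, ← Functor.comp_map, ← this, Category.assoc, Iso.hom_inv_id_app,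
    Category.comp_id]

theorem conj_bijective {C : Type*} [Category C] {A A' B B' : C} (a : A' ≅ A) (b : B ≅ B') :
    Function.Bijective (fun φ : A ⟶ B => a.hom ≫ φ ≫ b.hom) := by
  constructor
  · intro φ ψ h
    have h' : a.hom ≫ φ ≫ b.hom = a.hom ≫ ψ ≫ b.hom := h
    rwa [cancel_epi, cancel_mono] at h'
  · intro ψ
    exact ⟨a.inv ≫ ψ ≫ b.inv, by simp⟩

theorem invRestrictEquiv_comp (i : U ⟶ W) (k : W ⟶ V) [IsOpenImmersion i] [IsOpenImmersion k]
    (hi : InvRestrictEquiv i) (hk : InvRestrictEquiv k) : InvRestrictEquiv (i ≫ k) := by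
  refine ⟨fun L L' hL hL' => ?_, fun L₀ hL₀ => ?_⟩
  · have h1 := hk.1 L L' hL hL'
    have h2 := hi.1 (L.restrict k) (L'.restrict k) (isInvertible_restrict k L hL)
      (isInvertible_restrict k L' hL')
    have h3 := conj_bijective ((restrictFunctorComp i k).app L) ((restrictFunctorComp i k).app L').symm
    have : (fun φ : L ⟶ L' => (restrictFunctor (i ≫ k)).map φ) =
        (fun ψ => ((restrictFunctorComp i k).app L).hom ≫ ψ ≫
          ((restrictFunctorComp i k).app L').symm.hom) ∘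
        (fun ψ => (restrictFunctor i).map ψ) ∘ (fun φ : L ⟶ L' => (restrictFunctor k).map φ) := by
      funext φ
      exact restrict_map_comp i k φ
    rw [this]
    exact h3.comp (h2.comp h1)
  · obtain ⟨L₁, hL₁, ⟨e₁⟩⟩ := hi.2 L₀ hL₀
    obtain ⟨L, hL, ⟨e⟩⟩ := hk.2 L₁ hL₁
    exact ⟨L, hL, ⟨(restrictFunctorComp i k).app L ≪≫ (restrictFunctor i).mapIso e ≪≫ e₁⟩⟩

/-- a functor which is bijective on the relevant morphism sets lifts isomorphisms -/
theorem nonempty_iso_of_bijective {C D : Type*} [Category C] [Category D] (F : C ⥤ D) {A B : C}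
    (hAB : Function.Surjective (fun φ : A ⟶ B => F.map φ))
    (hBA : Function.Surjective (fun φ : B ⟶ A => F.map φ))
    (hAA : Function.Injective (fun φ : A ⟶ A => F.map φ))
    (hBB : Function.Injective (fun φ : B ⟶ B => F.map φ))
    (e : F.obj A ≅ F.obj B) : Nonempty (A ≅ B) := by
  obtain ⟨φ, hφ⟩ := hAB e.hom
  obtain ⟨ψ, hψ⟩ := hBA e.inv
  refine ⟨⟨φ, ψ, hAA ?_, hBB ?_⟩⟩
  · show F.map (φ ≫ ψ) = F.map (𝟙 A)
    have h1 : F.map φ = e.hom := hφ
    have h2 : F.map ψ = e.inv := hψ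
    rw [F.map_comp, h1, h2, e.hom_inv_id, F.map_id]
  · show F.map (ψ ≫ φ) = F.map (𝟙 B)
    have h1 : F.map φ = e.hom := hφ
    have h2 : F.map ψ = e.inv := hψ
    rw [F.map_comp, h1, h2, e.inv_hom_id, F.map_id]

theorem invRestrictEquiv_of_comp (i : U ⟶ W) (k : W ⟶ V) [IsOpenImmersion i] [IsOpenImmersion k]
    (hik : InvRestrictEquiv (i ≫ k)) (hi : InvRestrictEquiv i) : InvRestrictEquiv k := by
  refine ⟨fun L L' hL hL' => ?_, fun L₀ hL₀ => ?_⟩
  · have h1 := hik.1 L L' hL hL'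
    have h2 := hi.1 (L.restrict k) (L'.restrict k) (isInvertible_restrict k L hL)
      (isInvertible_restrict k L' hL')
    have h3 := conj_bijective ((restrictFunctorComp i k).app L) ((restrictFunctorComp i k).app L').symm
    have : (fun φ : L ⟶ L' => (restrictFunctor (i ≫ k)).map φ) =
        ((fun ψ => ((restrictFunctorComp i k).app L).hom ≫ ψ ≫
          ((restrictFunctorComp i k).app L').symm.hom) ∘
        (fun ψ => (restrictFunctor i).map ψ)) ∘ (fun φ : L ⟶ L' => (restrictFunctor k).map φ) := by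
      funext φ
      exact restrict_map_comp i k φ
    rw [this] at h1
    have h4 := h3.comp h2
    constructor
    · exact Function.Injective.of_comp h1.1
    · exact (Function.Surjective.of_comp_iff' h4 _).1 h1.2
  · obtain ⟨L, hL, ⟨e⟩⟩ := hik.2 (L₀.restrict i) (isInvertible_restrict i L₀ hL₀)
    refine ⟨L, hL, ?_⟩
    have e' : (restrictFunctor i).obj (L.restrict k) ≅ (restrictFunctor i).obj L₀ :=
      ((restrictFunctorComp i k).app L).symm ≪≫ e
    have hLk := isInvertible_restrict k L hL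
    exact nonempty_iso_of_bijective (restrictFunctor i) (hi.1 _ _ hLk hL₀).2 (hi.1 _ _ hL₀ hLk).2
      (hi.1 _ _ hLk hLk).1 (hi.1 _ _ hL₀ hL₀).1 e'

/-- restriction along an isomorphism is an equivalence -/
noncomputable def restrictEquivalence (e : U ≅ V) : V.Modules ≌ U.Modules :=
  CategoryTheory.Equivalence.mk (restrictFunctor e.hom) (restrictFunctor e.inv)
    (restrictFunctorId.symm ≪≫ restrictFunctorCongr e.inv_hom_id.symm ≪≫
      restrictFunctorComp e.inv e.hom)
    ((restrictFunctorComp e.hom e.inv).symm ≪≫ restrictFunctorCongr e.hom_inv_id ≪≫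
      restrictFunctorId)

theorem invRestrictEquiv_iso (e : U ≅ V) : InvRestrictEquiv e.hom := by
  refine ⟨fun L L' _ _ => ?_, fun L₀ hL₀ => ?_⟩
  · have hF : (restrictFunctor e.hom).IsEquivalence :=
      (restrictEquivalence e).isEquivalence_functor
    exact ⟨fun φ ψ h => (restrictFunctor e.hom).map_injective h,
      fun ψ => (restrictFunctor e.hom).map_surjective ψ⟩
  · refine ⟨L₀.restrict e.inv, isInvertible_restrict e.inv L₀ hL₀, ⟨?_⟩⟩
    exact ((restrictFunctorComp e.hom e.inv).app L₀).symm ≪≫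
      (restrictFunctorCongr e.hom_inv_id).app L₀ ≪≫ restrictFunctorId.app L₀

/-- `InvRestrictEquiv` is invariant under isomorphisms of arrows -/
theorem invRestrictEquiv_of_arrowIso {U' V' : Scheme.{u}} (j : U ⟶ V) (j' : U' ⟶ V')
    [IsOpenImmersion j] [IsOpenImmersion j'] (e₁ : U ≅ U') (e₂ : V ≅ V')
    (sq : j ≫ e₂.hom = e₁.hom ≫ j') (h : InvRestrictEquiv j') : InvRestrictEquiv j := by
  have h1 : InvRestrictEquiv (e₁.hom ≫ j') := invRestrictEquiv_comp _ _ (invRestrictEquiv_iso e₁) h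
  have h2 : InvRestrictEquiv (j ≫ e₂.hom) := invRestrictEquiv_congr sq.symm h1
  have h3 : InvRestrictEquiv ((j ≫ e₂.hom) ≫ e₂.symm.hom) :=
    invRestrictEquiv_comp _ _ h2 (invRestrictEquiv_iso e₂.symm)
  exact invRestrictEquiv_congr (by simp) h3

end ire

end Groth.Agent.Lead.ParaF
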