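import Mathlib
import Groth.Prelude.Def_C1
import Groth.Prelude.Def_Pi1
import Groth.Agent.Lib.Lead.Div21A
import Groth.Agent.Lib.Helper1.InvFt
import Groth.Agent.Lib.Helper1.SubExt8
import Groth.Agent.Lib.Lead.ParaF1
import Groth.Agent.Lib.Helper9.RegUFD.Main
import Groth.Agent.Lib.Helper1.Conn1

/-!
# Extending invertible modules from an open subscheme of a locally factorial scheme (lead)
-/

set_option autoImplicit false
set_option backward.isDefEq.respectTransparency.types false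
set_option synthInstance.maxHeartbeats 400000
set_option linter.style.haveILetI false
set_option linter.unusedSectionVars false
universe u
open CategoryTheory CategoryTheory.Limits AlgebraicGeometry TopologicalSpace Opposite

namespace Groth.Agent.Lead.PicExt

open Groth.Agent.Helper1.QcCech Groth.Agent.Helper1.LGen Groth.Agent.Lead.RkSch Groth.Agent.Lead.SD
  Groth.Agent.Lib.Helper6.CDiv1 Groth.Agent.Helper1 Groth.Agent.Lead.RH Groth.Agent.Lead.SecOrd
  Groth.Agent.Lead.Ref1 Groth.Agent.Lead.WD Groth.Agent.Lead.OpT Groth.Agent.Lead.Div21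

section Inv

variable {X : Scheme.{u}} [IsIntegral X] [IsLocallyNoetherian X]

theorem isRef1_of_isInvertible {L : X.Modules} (hL : PicF.IsInvertible L) : RefHull.IsRef1 L := by
  have hcoh := InvQc.isCoh_of_isInvertible L hL
  have hFP := FpLocal.isFP_of_isCoh L hcoh
  refine ⟨hcoh, ?_, ?_⟩
  · rw [isReflexive_iff hFP]
    intro x
    obtain ⟨W, a, hxW, ha⟩ := exists_isGen hL x
    obtain ⟨h0, h1⟩ := (freeAt_iff a x hxW).1 (freeAt_of_isGen ha x hxW)
    let f : X.presheaf.stalk x →ₗ[X.presheaf.stalk x] L.presheaf.stalk x :=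
      LinearMap.toSpanSingleton _ _ (L.presheaf.germ W x hxW a)
    have hf : Function.Bijective f := by
      constructor
      · rw [injective_iff_map_eq_zero]
        intro ρ hρ
        exact h0 ρ hρ
      · intro v
        obtain ⟨ρ, hρ⟩ := h1 v
        exact ⟨ρ, hρ⟩
    let e := LinearEquiv.ofBijective f hf
    haveI : Module.Free (X.presheaf.stalk x) (L.presheaf.stalk x) := Module.Free.of_equiv e
    haveI : Module.Finite (X.presheaf.stalk x) (L.presheaf.stalk x) := Module.Finite.equiv e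
    change Module.IsReflexive _ _
    infer_instance
  · obtain ⟨W, a, hη, ha⟩ := exists_isGen hL (genericPoint X)
    exact genInvertible_of_isGen ha hη

end Inv

section Restr

variable {X : Scheme.{u}} [IsIntegral X] [IsLocallyNoetherian X] (hX : Pi1.IsNormalScheme X)
  (U : X.Opens) [Nonempty U] (Z : X → ℤ)

theorem mem_image_generic {W : (U : Scheme.{u}).Opens}
    (hη : genericPoint (U : Scheme.{u}) ∈ W) : genericPoint X ∈ U.ι ''ᵁ W :=
  ⟨genericPoint (U : Scheme.{u}), hη, ι_genericPoint U⟩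

theorem generic_mem_of_image {W : (U : Scheme.{u}).Opens}
    (hη : genericPoint X ∈ U.ι ''ᵁ W) : genericPoint (U : Scheme.{u}) ∈ W := by
  obtain ⟨y, hy, e⟩ := hη
  have : y = genericPoint (U : Scheme.{u}) := by
    apply U.ι.isOpenEmbedding.injective
    rw [ι_genericPoint U]
    exact e
  rw [← this]
  exact hy

theorem kEquiv_toK {W : (U : Scheme.{u}).Opens} (hη : genericPoint (U : Scheme.{u}) ∈ W)
    (r : Γ((U : Scheme.{u}), W)) :
    kEquiv U (toK W hη r) = toK (U.ι ''ᵁ W) (mem_image_generic U hη) ((U.ι.appIso W).inv r) := by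
  have h1 : (U.ι.appIso W).inv r = r := by
    rw [Scheme.Opens.ι_appIso]
    rfl
  rw [h1]
  change (X.presheaf.stalkSpecializes (Inseparable.of_eq (ι_genericPoint U)).ge).hom
    ((U.stalkIso (genericPoint (U : Scheme.{u}))).hom.hom
      ((U : Scheme.{u}).presheaf.germ W (genericPoint (U : Scheme.{u})) hη r)) = _
  have h2 := congrArg (fun φ => φ.hom r)
    (Scheme.Opens.germ_stalkIso_hom U (V := W) (genericPoint (U : Scheme.{u})) hη)
  simp only [CommRingCat.hom_comp, RingHom.coe_comp, Function.comp_apply] at h2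
  rw [h2]
  exact TopCat.Presheaf.germ_stalkSpecializes_apply X.presheaf _ _ _

/-- the restriction of the divisor -/
def DU : ↥(U : Scheme.{u}) → ℤ := fun u => Z (U.ι u)

theorem ordCond_iff (W : (U : Scheme.{u}).Opens) (c : (U : Scheme.{u}).functionField) :
    OrdCond (DU U Z) W c ↔ OrdCond Z (U.ι ''ᵁ W) (kEquiv U c) := by
  unfold OrdCond
  refine or_congr (map_eq_zero_iff _ (kEquiv U).injective).symm ⟨fun H x hx h1 => ?_, fun H y hy h1 => ?_⟩
  · obtain ⟨y, hy, rfl⟩ := hx
    have h2 := H y hy (by rw [← h1]; exact coheight_eq U y)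
    rw [ord_eq U c y] at h2
    exact h2
  · have h2 := H (U.ι y) ⟨y, hy, rfl⟩ (by rw [← h1]; exact (coheight_eq U y).symm)
    rw [ord_eq U c y]
    exact h2

variable (hU : Pi1.IsNormalScheme (U : Scheme.{u}))

open Classical in
/-- the sectionwise comparison map -/
noncomputable def Φ (W : (U : Scheme.{u}).Opens) (f : Γ(OD hU (DU U Z), W)) :
    Γ((OD hX Z).restrict U.ι, W) :=
  if hη : genericPoint (U : Scheme.{u}) ∈ W then
    (show Γ((OD hX Z).restrict U.ι, W) from
      WD.mk hX Z (U.ι ''ᵁ W) (kEquiv U (val hU (DU U Z) W hη f))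
        ((ordCond_iff U Z W _).1 (ordCond_val hU (DU U Z) W hη f)))
  else 0

theorem Φ_pos {W : (U : Scheme.{u}).Opens} (hη : genericPoint (U : Scheme.{u}) ∈ W)
    (f : Γ(OD hU (DU U Z), W)) :
    Φ hX U Z hU W f = (show Γ((OD hX Z).restrict U.ι, W) from
      WD.mk hX Z (U.ι ''ᵁ W) (kEquiv U (val hU (DU U Z) W hη f))
        ((ordCond_iff U Z W _).1 (ordCond_val hU (DU U Z) W hη f))) := by
  unfold Φ
  rw [dif_pos hη]

theorem val_Φ {W : (U : Scheme.{u}).Opens} (hη : genericPoint (U : Scheme.{u}) ∈ W)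
    (f : Γ(OD hU (DU U Z), W)) :
    val hX Z (U.ι ''ᵁ W) (mem_image_generic U hη)
      (show Γ(OD hX Z, U.ι ''ᵁ W) from Φ hX U Z hU W f) = kEquiv U (val hU (DU U Z) W hη f) := by
  rw [Φ_pos hX U Z hU hη]
  rfl

theorem eq_of_not_mem {W : (U : Scheme.{u}).Opens} (hη : genericPoint (U : Scheme.{u}) ∉ W)
    (a b : Γ((OD hX Z).restrict U.ι, W)) : a = b :=
  WD.subsingleton_of_not_mem hX Z (U.ι ''ᵁ W) (fun h => hη (generic_mem_of_image U h))
    (show Γ(OD hX Z, U.ι ''ᵁ W) from a) (show Γ(OD hX Z, U.ι ''ᵁ W) from b)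

theorem ext_restrict {W : (U : Scheme.{u}).Opens} (hη : genericPoint (U : Scheme.{u}) ∈ W)
    (a b : Γ((OD hX Z).restrict U.ι, W))
    (h : val hX Z (U.ι ''ᵁ W) (mem_image_generic U hη) (show Γ(OD hX Z, U.ι ''ᵁ W) from a) =
      val hX Z (U.ι ''ᵁ W) (mem_image_generic U hη) (show Γ(OD hX Z, U.ι ''ᵁ W) from b)) : a = b :=
  ext_val hX Z (U.ι ''ᵁ W) (mem_image_generic U hη) _ _ h

theorem Φ_add (W : (U : Scheme.{u}).Opens) (f g : Γ(OD hU (DU U Z), W)) :
    Φ hX U Z hU W (f + g) = Φ hX U Z hU W f + Φ hX U Z hU W g := by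
  by_cases hη : genericPoint (U : Scheme.{u}) ∈ W
  · apply ext_restrict hX U Z hη
    rw [val_Φ hX U Z hU hη, val_add]
    change _ = val hX Z _ _ (show Γ(OD hX Z, U.ι ''ᵁ W) from Φ hX U Z hU W f) +
      val hX Z _ _ (show Γ(OD hX Z, U.ι ''ᵁ W) from Φ hX U Z hU W g)
    rw [val_Φ hX U Z hU hη, val_Φ hX U Z hU hη, map_add]
  · exact eq_of_not_mem hX U Z hη _ _

theorem Φ_smul (W : (U : Scheme.{u}).Opens) (r : Γ((U : Scheme.{u}), W))
    (f : Γ(OD hU (DU U Z), W)) :
    Φ hX U Z hU W (r • f) = r • Φ hX U Z hU W f := by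
  by_cases hη : genericPoint (U : Scheme.{u}) ∈ W
  · apply ext_restrict hX U Z hη
    rw [val_Φ hX U Z hU hη, val_smul, SubSh.smul_restrict U.ι]
    change _ = val hX Z _ _ ((U.ι.appIso W).inv r •
      (show Γ(OD hX Z, U.ι ''ᵁ W) from Φ hX U Z hU W f))
    rw [val_smul, val_Φ hX U Z hU hη, map_mul, kEquiv_toK U hη r]
  · exact eq_of_not_mem hX U Z hη _ _

theorem Φ_res (W W' : (U : Scheme.{u}).Opens) (h : W' ≤ W) (f : Γ(OD hU (DU U Z), W)) :
    QcCech.res ((OD hX Z).restrict U.ι) h (Φ hX U Z hU W f) =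
      Φ hX U Z hU W' (QcCech.res (OD hU (DU U Z)) h f) := by
  by_cases hη : genericPoint (U : Scheme.{u}) ∈ W'
  · apply ext_restrict hX U Z hη
    rw [val_Φ hX U Z hU hη]
    have e1 : val hU (DU U Z) W' hη (QcCech.res (OD hU (DU U Z)) h f) =
        val hU (DU U Z) W (h hη) f := rfl
    rw [e1, ← val_Φ hX U Z hU (h hη)]
    rfl
  · exact eq_of_not_mem hX U Z hη _ _

/-- the comparison morphism -/
noncomputable def cmp : OD hU (DU U Z) ⟶ (OD hX Z).restrict U.ι :=
  TwForm.homMk _ _ (Φ hX U Z hU) (Φ_add hX U Z hU) (Φ_smul hX U Z hU) (Φ_res hX U Z hU)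

theorem isIso_cmp : IsIso (cmp hX U Z hU) := by
  apply TwForm.isIso_of_app_bijective
  intro W
  change Function.Bijective (Φ hX U Z hU W)
  by_cases hη : genericPoint (U : Scheme.{u}) ∈ W
  · constructor
    · intro f g hfg
      apply ext_val hU (DU U Z) W hη
      apply (kEquiv U).injective
      rw [← val_Φ hX U Z hU hη, ← val_Φ hX U Z hU hη, hfg]
    · intro g
      let c := val hX Z (U.ι ''ᵁ W) (mem_image_generic U hη) (show Γ(OD hX Z, U.ι ''ᵁ W) from g)
      have hc : OrdCond Z (U.ι ''ᵁ W) c := ordCond_val hX Z _ _ _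
      have hc' : OrdCond (DU U Z) W ((kEquiv U).symm c) := by
        rw [ordCond_iff, RingEquiv.apply_symm_apply]
        exact hc
      refine ⟨WD.mk hU (DU U Z) W ((kEquiv U).symm c) hc', ?_⟩
      apply ext_restrict hX U Z hη
      rw [val_Φ hX U Z hU hη, val_mk, RingEquiv.apply_symm_apply]
  · constructor
    · intro f g _
      exact WD.subsingleton_of_not_mem hU (DU U Z) W hη f g
    · intro g
      exact ⟨0, eq_of_not_mem hX U Z hη _ _⟩

theorem restrict_OD_iso : Nonempty ((OD hX Z).restrict U.ι ≅ OD hU (DU U Z)) := by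
  haveI := isIso_cmp hX U Z hU
  exact ⟨(asIso (cmp hX U Z hU)).symm⟩

end Restr

section Main

/-- extension of an invertible module from an open of an integral normal Noetherian scheme with
factorial local rings -/
theorem exists_extension {X : Scheme.{u}} [IsIntegral X] [IsLocallyNoetherian X] [CompactSpace X]
    (hufd : ∀ x : X, UniqueFactorizationMonoid (X.presheaf.stalk x)) (U : X.Opens)
    (M : (U : Scheme.{u}).Modules) (hM : PicF.IsInvertible M) :
    ∃ L : X.Modules, PicF.IsInvertible L ∧ Nonempty (L.restrict U.ι ≅ M) := by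
  classical
  have hX := normal_of_ufd hufd
  by_cases hne : Nonempty U
  swap
  · haveI : IsEmpty (U : Scheme.{u}) := not_nonempty_iff.1 hne
    exact ⟨Coh.structureModule X, Groth.Agent.Lead.ParaF.isInvertible_unit, iso_of_isEmpty _ _⟩
  haveI := hne
  have hU := normal_opens hX U
  haveI := compactSpace_opens U
  obtain ⟨W₀, a₀, hηW₀, ha₀⟩ := exists_isGen hM (genericPoint (U : Scheme.{u}))
  obtain ⟨h0, -⟩ := (freeAt_iff a₀ _ hηW₀).1 (freeAt_of_isGen ha₀ _ hηW₀)
  have hŝ : M.presheaf.germ W₀ _ hηW₀ a₀ ≠ 0 := fun h => one_ne_zero (h0 1 (by rw [one_smul, h]))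
  have hlf := locallyFinite_secOrd_of_isGen hU hηW₀ ha₀ _ hŝ
  have hfin := hlf.finite_inter_support_of_isCompact isCompact_univ
  rw [Set.univ_inter] at hfin
  let D₀ : ↥(U : Scheme.{u}) → ℤ := fun x => if Order.coheight x = 1 then
      Cyc.secOrdAt M (genericPoint (U : Scheme.{u})) x (gen x)
        (mkη M (M.presheaf.germ W₀ _ hηW₀ a₀)) else 0
  let Z : X → ℤ := fun x => if h : x ∈ U then D₀ (show (U : Scheme.{u}) from ⟨x, h⟩) else 0
  have hZU : ∀ u : U, Z u.1 = D₀ (show (U : Scheme.{u}) from u) := fun u => dif_pos u.2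
  have hZ0 : ∀ x : X, Order.coheight x ≠ 1 → Z x = 0 := by
    intro x hx
    by_cases h : x ∈ U
    · rw [hZU ⟨x, h⟩]
      exact if_neg (by rw [coheight_eq U ⟨x, h⟩]; exact hx)
    · exact dif_neg h
  have hZfin : (Function.support Z).Finite := by
    refine (hfin.image (fun u : U => u.1)).subset ?_
    intro x hx
    by_cases h : x ∈ U
    · refine ⟨⟨x, h⟩, ?_, rfl⟩
      have hx' : Z x ≠ 0 := hx
      rw [hZU ⟨x, h⟩] at hx'
      exact hx'
    · exact absurd (dif_neg h) hx
  have hZlf : LocallyFiniteSupport Z :=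
    fun z => ⟨Set.univ, Filter.univ_mem, by rw [Set.univ_inter]; exact hZfin⟩
  refine ⟨OD hX Z, isInvertible_OD_of_ufd hX hufd Z hZ0 hZlf, ?_⟩
  obtain ⟨e1⟩ := restrict_OD_iso hX U Z hU
  have hDU : ∀ u : ↥(U : Scheme.{u}), DU U Z u = D₀ u := fun u => hZU (show U from u)
  have hD0' : ∀ u : ↥(U : Scheme.{u}), Order.coheight u ≠ 1 → DU U Z u = 0 := by
    intro u hu
    rw [hDU u]
    exact if_neg hu
  have hDfin' : LocallyFiniteSupport (DU U Z) := by
    have : DU U Z = D₀ := funext hDU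
    rw [this]
    exact hlf
  have h2 : HasDiv M (DU U Z) :=
    ⟨M.presheaf.germ W₀ _ hηW₀ a₀, hŝ, fun u hu => by rw [hDU u]; exact (if_pos hu).symm⟩
  obtain ⟨e2⟩ := iso_of_hasDiv hU (isRef1_OD hU _ hD0' hDfin') (isRef1_of_isInvertible hM)
    (hasDiv_OD hU _ hD0' hDfin') h2
  exact ⟨e1 ≪≫ e2⟩

theorem S7887_main (X : Scheme.{u}) [IsNoetherian X] [ConnectedSpace X]
    (hreg : ∀ x : X, IsRegularLocalRing (X.presheaf.stalk x)) (U : X.Opens)
    (M : (U : Scheme.{u}).Modules) (hM : PicF.IsInvertible M) :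
    ∃ L : X.Modules, PicF.IsInvertible L ∧ Nonempty (L.restrict U.ι ≅ M) := by
  have hufd : ∀ x : X, UniqueFactorizationMonoid (X.presheaf.stalk x) := fun x => by
    haveI := hreg x
    exact Groth.Agent.Helper9.RegUFD.ufd _
  haveI : IsIntegral X := Groth.Agent.Helper1.Conn1.isIntegral_of_connected X (fun x => by
    haveI := hreg x
    exact Groth.Agent.Helper8.RLR.isDomain _)
  exact exists_extension hufd U M hM

end Main

end Groth.Agent.Lead.PicExt
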