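import Mathlib
import Groth.Prelude.Def_ParaF
import Groth.Prelude.Def_FEt
import Groth.Agent.Lib.Lead.PicExt1
import Groth.Agent.Lib.Helper1.InvInv2

/-!
# Factorial local rings are parafactorial (lead)
-/

set_option autoImplicit false
set_option backward.isDefEq.respectTransparency.types false
set_option synthInstance.maxHeartbeats 400000
set_option linter.style.haveILetI false
set_option linter.unusedSectionVars false
universe u
open CategoryTheory CategoryTheory.Limits AlgebraicGeometry TopologicalSpace Opposite

namespace Groth.Agent.Lead.ParaF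

open Groth.Agent.Helper1.QcCech Groth.Agent.Helper1.LGen Groth.Agent.Lead.RkSch Groth.Agent.Lead.SD
  Groth.Agent.Lib.Helper6.CDiv1 Groth.Agent.Helper1 Groth.Agent.Lead.RH Groth.Agent.Lead.SecOrd
  Groth.Agent.Lead.Ref1 Groth.Agent.Lead.WD Groth.Agent.Lead.OpT Groth.Agent.Lead.Div21
  Groth.Agent.Lead.PicExt

section Hartogs

variable {X : Scheme.{u}} [IsIntegral X] [IsLocallyNoetherian X]

/-- Hartogs for the structure sheaf of a normal scheme -/
theorem hartogs_bijective (hX : Pi1.IsNormalScheme X) {A B : X.Opens} (hBA : B ≤ A)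
    (hcodim : ∀ x : X, x ∈ A → x ∉ B → (2 : WithBot ℕ∞) ≤ ringKrullDim (X.presheaf.stalk x)) :
    Function.Bijective (X.presheaf.map (homOfLE hBA).op) := by
  by_cases hη : genericPoint X ∈ A
  · have hηB : genericPoint X ∈ B := generic_mem_of_codim hcodim _ hη
    constructor
    · intro f g h
      apply toK_injective A hη
      rw [← toK_res hBA hηB f, ← toK_res hBA hηB g]
      exact congrArg _ h
    · intro g
      obtain ⟨r, hr⟩ := hartogs_section hX A hη (toK B hηB g) (fun y hy h1 =>
        ord_toK_nonneg B hηB y (codim_one_mem_of_codim hcodim y hy h1) g)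
      refine ⟨r, ?_⟩
      apply toK_injective B hηB
      rw [← hr]
      exact toK_res hBA hηB r
  · have hA : A = ⊥ := WD.eq_bot_of_not_mem A hη
    have hB : B = ⊥ := le_bot_iff.1 (hA ▸ hBA)
    subst hA
    subst hB
    exact ⟨fun f g _ => Subsingleton.elim f g, fun g => ⟨0, Subsingleton.elim _ _⟩⟩

end Hartogs

section LemmaP

open _root_.ParaF

variable {X : Scheme.{u}} [IsIntegral X] [IsLocallyNoetherian X] [CompactSpace X]

/-- the complement of a closed subset of codimension at least two in a Noetherian integral scheme with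
factorial local rings: restriction of invertible modules is an equivalence -/
theorem invRestrictEquiv_of_ufd
    (hufd : ∀ x : X, UniqueFactorizationMonoid (X.presheaf.stalk x)) (R : X.Opens)
    (hR : ∀ x : X, x ∉ R → (2 : WithBot ℕ∞) ≤ ringKrullDim (X.presheaf.stalk x)) :
    InvRestrictEquiv R.ι := by
  have hX := normal_of_ufd hufd
  refine ⟨fun L L' hL hL' => ?_, fun L₀ hL₀ => exists_extension hufd R L₀ hL₀⟩
  refine restrict_hom_bijective R.ι (fun V => ?_) L L' (InvInv2.isFinLocFree_of_isInvertible hL')
  refine hartogs_bijective hX _ (fun x _ hx => hR x (fun hxR => hx ⟨?_, ?_⟩))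
  · assumption
  · rw [Scheme.Opens.opensRange_ι]
    exact hxR

end LemmaP

section SpecLocal

open _root_.ParaF

theorem ufd_stalk_of_isAffineOpen {X : Scheme.{u}} {V : X.Opens} (hV : IsAffineOpen V)
    (h : UniqueFactorizationMonoid Γ(X, V)) (x : V) :
    UniqueFactorizationMonoid (X.presheaf.stalk x.1) := by
  haveI := hV.isLocalization_stalk x
  exact UniqueFactorizationMonoid.of_isLocalization (hV.primeIdealOf x).asIdeal.primeCompl _

theorem ufd_stalk_Spec (R : Type u) [CommRing R] [UniqueFactorizationMonoid R]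
    (x : Spec (CommRingCat.of R)) :
    UniqueFactorizationMonoid ((Spec (CommRingCat.of R)).presheaf.stalk x) := by
  have h : UniqueFactorizationMonoid Γ(Spec (CommRingCat.of R), ⊤) :=
    (Scheme.ΓSpecIso (CommRingCat.of R)).commRingCatIsoToRingEquiv.symm.toMulEquiv.uniqueFactorizationMonoid
      (inferInstanceAs (UniqueFactorizationMonoid R))
  exact ufd_stalk_of_isAffineOpen (isAffineOpen_top _) h ⟨x, trivial⟩

theorem picTrivial_of_local (A : Type u) [CommRing A] [IsLocalRing A] :
    PicTrivial (Spec (CommRingCat.of A)) := by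
  intro L hL
  obtain ⟨W, a, hxW, ha⟩ := exists_isGen hL (IsLocalRing.closedPoint A)
  have hW : W = ⊤ := (IsLocalRing.closedPoint_mem_iff W).1 hxW
  subst hW
  have hiso : IsIso (TwistAmple.homOfSec L a) := by
    apply TwForm.isIso_of_app_bijective
    intro V
    exact ha V le_top
  exact ⟨(@asIso _ _ _ _ _ hiso).symm⟩

/-- invertible modules on opens of the spectrum of a factorial Noetherian local ring are trivial -/
theorem picTrivial_opens_of_ufd_local (A : Type u) [CommRing A] [IsDomain A] [IsNoetherianRing A]
    [IsLocalRing A] [UniqueFactorizationMonoid A] (U : (Spec (CommRingCat.of A)).Opens) :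
    PicTrivial (U : Scheme.{u}) := by
  intro L hL
  by_cases hne : Nonempty U
  · haveI := hne
    exact trivial_on_opens (fun x => ufd_stalk_Spec A x) (picTrivial_of_local A) U L hL
  · haveI : IsEmpty (U : Scheme.{u}) := not_nonempty_iff.1 hne
    exact iso_of_isEmpty _ _

theorem S9549_main (A : Type u) [CommRing A] [IsRegularLocalRing A] :
    PicTrivial (↑(FEt.puncturedSpec A) : Scheme.{u}) := by
  haveI : IsDomain A := Groth.Agent.Helper8.RLR.isDomain A
  haveI : UniqueFactorizationMonoid A := Groth.Agent.Helper9.RegUFD.ufd A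
  exact picTrivial_opens_of_ufd_local A (FEt.puncturedSpec A)

theorem ringKrullDim_stalk_closedPoint (A : Type u) [CommRing A] [IsLocalRing A] :
    ringKrullDim ((Spec (CommRingCat.of A)).presheaf.stalk (IsLocalRing.closedPoint A)) =
      ringKrullDim A :=
  ringKrullDim_eq_of_ringEquiv
    (stalkClosedPointIso (CommRingCat.of A)).commRingCatIsoToRingEquiv

theorem S2834_main (A : Type u) [CommRing A] [IsDomain A] [IsNoetherianRing A] [IsLocalRing A]
    (hA : UniqueFactorizationMonoid A) (hdim : (2 : WithBot ℕ∞) ≤ ringKrullDim A) :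
    IsParafactorialLocalRing A := by
  intro V
  let Y : Closeds (Spec (CommRingCat.of A)) :=
    ⟨{IsLocalRing.closedPoint A}, IsLocalRing.isClosed_singleton_closedPoint A⟩
  let Yc : (Spec (CommRingCat.of A)).Opens := Y.compl
  change InvRestrictEquiv ((Spec (CommRingCat.of A)).homOfLE (inf_le_left : V ⊓ Yc ≤ V))
  have hYc : ∀ x : Spec (CommRingCat.of A), x ∉ Yc → x = IsLocalRing.closedPoint A := by
    intro x hx
    by_contra hne
    exact hx hne
  by_cases hV : IsLocalRing.closedPoint A ∈ V
  · have hVtop : V = ⊤ := (IsLocalRing.closedPoint_mem_iff V).1 hV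
    subst hVtop
    have hP : InvRestrictEquiv Yc.ι :=
      invRestrictEquiv_of_ufd (fun x => ufd_stalk_Spec A x) Yc (fun x hx => by
        rw [hYc x hx, ringKrullDim_stalk_closedPoint]
        exact hdim)
    refine invRestrictEquiv_of_arrowIso _ Yc.ι
      ((Spec (CommRingCat.of A)).isoOfEq (top_inf_eq Yc)) (Spec (CommRingCat.of A)).topIso ?_ hP
    rw [Scheme.topIso_hom, Scheme.homOfLE_ι, Scheme.isoOfEq_hom_ι]
  · have hle : V ≤ Yc := by
      intro x hx hxY
      have : x = IsLocalRing.closedPoint A := hxY
      exact hV (this ▸ hx)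
    have heq : V ⊓ Yc = V := inf_eq_left.2 hle
    have h1 := invRestrictEquiv_iso ((Spec (CommRingCat.of A)).isoOfEq heq)
    exact invRestrictEquiv_congr (Scheme.isoOfEq_hom _ heq) h1

end SpecLocal

end Groth.Agent.Lead.ParaF
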