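import Mathlib
import Groth.Agent.Lib.Lead.VBL9
import Groth.Agent.Lib.Lead.HP11
import Groth.Agent.Lib.Lead.ParaF3
import Groth.Agent.Lib.Helper4.DimFT4
import Groth.Agent.Lib.Helper6.Normal.Scheme

set_option autoImplicit false
set_option backward.isDefEq.respectTransparency.types false
set_option synthInstance.maxHeartbeats 400000
set_option linter.style.haveILetI false
set_option linter.unusedSectionVars false
set_option linter.unusedVariables false

universe u

open CategoryTheory CategoryTheory.Limits AlgebraicGeometry TopologicalSpace Opposite Polynomial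

namespace Groth.Agent.Lead.MuRef

open Groth.Agent.Lead.HP Groth.Agent.Helper1

section Chain

variable {X : Scheme.{u}}

/-- the irreducible closed subset `closure {x}` -/
def clPt (x : X) : IrreducibleCloseds X where
  carrier := closure {x}
  isIrreducible' := isIrreducible_singleton.closure
  isClosed' := isClosed_closure

theorem clPt_le_of_specializes {x y : X} (h : x ⤳ y) : clPt y ≤ clPt x := by
  change closure {y} ⊆ closure {x}
  exact isClosed_closure.closure_subset_iff.mpr (Set.singleton_subset_iff.mpr h.mem_closure)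

theorem clPt_lt_of_specializes {x y : X} (h : x ⤳ y) (hne : x ≠ y) : clPt y < clPt x := by
  refine lt_of_le_of_ne (clPt_le_of_specializes h) ?_
  intro he
  apply hne
  have h1 : x ∈ (clPt y : Set X) := by
    rw [he]
    exact subset_closure rfl
  have h2 : y ⤳ x := specializes_iff_mem_closure.mpr h1
  exact (h.antisymm h2).eq

/-- a chain of primes of the quotient by the prime of `z` gives a chain of irreducible closed subsets
of `closure {z}` -/
theorem exists_chain_closure {U : X.Opens} (hU : IsAffineOpen U) (z : X) (hz : z ∈ U) (m : ℕ)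
    (hm : (m : WithBot ℕ∞) ≤ ringKrullDim (Γ(X, U) ⧸ (hU.primeIdealOf ⟨z, hz⟩).asIdeal)) :
    ∃ l : LTSeries (IrreducibleCloseds X), l.length = m ∧ (l.last : Set X) ⊆ closure {z} := by
  set p := (hU.primeIdealOf ⟨z, hz⟩).asIdeal with hp
  obtain ⟨s, hs⟩ := Order.le_krullDim_iff.mp hm
  -- the point of `X` attached to a prime of the quotient
  let g : PrimeSpectrum (Γ(X, U) ⧸ p) → X := fun q =>
    hU.fromSpec (PrimeSpectrum.comap (Ideal.Quotient.mk p) q)
  have hg : ∀ q q' : PrimeSpectrum (Γ(X, U) ⧸ p), q < q' → clPt (g q') < clPt (g q) := by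
    intro q q' hlt
    have hcm : PrimeSpectrum.comap (Ideal.Quotient.mk p) q <
        PrimeSpectrum.comap (Ideal.Quotient.mk p) q' := by
      refine lt_of_le_of_ne ?_ ?_
      · exact Ideal.comap_mono hlt.le
      · intro he
        exact hlt.ne (PrimeSpectrum.comap_injective_of_surjective _
          Ideal.Quotient.mk_surjective he)
    apply clPt_lt_of_specializes
    · exact ((PrimeSpectrum.le_iff_specializes _ _).1 hcm.le).map hU.fromSpec.continuous
    · intro he
      exact hcm.ne (hU.fromSpec.isOpenEmbedding.injective he)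
  let l : LTSeries (IrreducibleCloseds X) :=
    { length := s.length
      toFun := fun i => clPt (g (s (Fin.rev i)))
      step := fun i => by
        change clPt (g (s (Fin.rev i.castSucc))) < clPt (g (s (Fin.rev i.succ)))
        apply hg
        rw [Fin.rev_succ, Fin.rev_castSucc]
        exact s.step (Fin.rev i) }
  refine ⟨l, hs, ?_⟩
  · have hl : l.last = clPt (g s.head) := by
      change clPt (g (s (Fin.rev (Fin.last s.length)))) = clPt (g (s 0))
      rw [Fin.rev_last]
    rw [hl]
    change closure {g s.head} ⊆ closure {z}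
    have h1 : z ⤳ g s.head := by
      have h2 : hU.primeIdealOf ⟨z, hz⟩ ≤ PrimeSpectrum.comap (Ideal.Quotient.mk p) s.head := by
        change p ≤ Ideal.comap (Ideal.Quotient.mk p) s.head.asIdeal
        intro a ha
        rw [Ideal.mem_comap, Ideal.Quotient.eq_zero_iff_mem.mpr ha]
        exact Ideal.zero_mem _
      have h3 := ((PrimeSpectrum.le_iff_specializes _ _).1 h2).map hU.fromSpec.continuous
      rwa [hU.fromSpec_primeIdealOf ⟨z, hz⟩] at h3
    exact isClosed_closure.closure_subset_iff.mpr (Set.singleton_subset_iff.mpr h1.mem_closure)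

end Chain

section Dim

open Groth.Agent.Lib.Helper4.DimFT1 Groth.Agent.Lib.Helper4.DimFT2 Groth.Agent.Lib.Helper4.DimFT3
  Groth.Agent.Lib.Helper4.DimFT4

variable (k : Type u) [Field k] (X : Scheme.{u}) [X.Over (Spec (CommRingCat.of k))]
  [LocallyOfFiniteType (X ↘ Spec (CommRingCat.of k))] [IsIntegral X]

theorem withBot_arith (n : ℕ) (h : ℕ∞) (d : WithBot ℕ∞) (hh : h ≤ 1)
    (hsum : (h : WithBot ℕ∞) + d = (n : WithBot ℕ∞)) : ((n - 1 : ℕ) : WithBot ℕ∞) ≤ d := by
  induction d using WithBot.recBotCoe with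
  | bot => rw [WithBot.add_bot] at hsum; exact absurd hsum.symm (WithBot.coe_ne_bot)
  | coe d =>
    rw [← WithBot.coe_add] at hsum
    have h1 : h + d = (n : ℕ∞) := WithBot.coe_injective hsum
    have h2 : ((n - 1 : ℕ) : ℕ∞) ≤ d := by
      induction d using ENat.recTopCoe with
      | top => exact le_top
      | coe d =>
        induction h using ENat.recTopCoe with
        | top => rw [top_add] at h1; exact absurd h1 (ENat.top_ne_coe n)
        | coe h =>
          have h3 : h + d = n := by exact_mod_cast h1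
          have h4 : h ≤ 1 := by exact_mod_cast hh
          have : n - 1 ≤ d := by omega
          exact_mod_cast this
    exact WithBot.coe_le_coe.mpr h2

include k in
/-- in an integral scheme of dimension `n`, locally of finite type over a field, the closure of a point
of codimension at most one contains a chain of irreducible closed subsets of length `n - 1` -/
theorem exists_chain_of_stalk_dim_le_one (n : ℕ)
    (hX : topologicalKrullDim X = (n : WithBot ℕ∞)) (z : X)
    (hz : ringKrullDim (X.presheaf.stalk z) ≤ 1) :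
    ∃ l : LTSeries (IrreducibleCloseds X), l.length = n - 1 ∧ (l.last : Set X) ⊆ closure {z} := by
  obtain ⟨U, hU, hzU, -⟩ := exists_isAffineOpen_mem_and_subset (U := (⊤ : X.Opens)) (x := z)
    (by simp)
  letI := secAlgebra k X U
  haveI := finiteType_sections k X hU
  haveI : Nonempty U := ⟨⟨z, hzU⟩⟩
  have h1 := height_add_dim_quotient k Γ(X, U) (hU.primeIdealOf ⟨z, hzU⟩).asIdeal
  have h2 : ringKrullDim Γ(X, U) = (n : WithBot ℕ∞) := by
    rw [← topologicalKrullDim_affineOpen hU, ← hX]
    exact S1618_main k X U ⟨z, hzU⟩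
  have h3 := ringKrullDim_stalk_eq_height hU z hzU
  rw [h2] at h1
  rw [h3] at hz
  have h4 : (hU.primeIdealOf ⟨z, hzU⟩).asIdeal.height ≤ 1 := by exact_mod_cast hz
  exact exists_chain_closure hU z hzU (n - 1) (withBot_arith n _ _ h4 h1)

end Dim

section Mu

variable (k : Type u) [Field k] (X : Scheme.{u}) [X.Over (Spec (CommRingCat.of k))]
  [IsProper (X ↘ Spec (CommRingCat.of k))] (L : X.Modules)

/-- strict mediant inequality -/
theorem strict_mediant {aE bE aS bS : ℚ} (haS : 0 < aS) (haI : 0 < aE - aS)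
    (h : bS / aS < bE / aE) : bE / aE < (bE - bS) / (aE - aS) := by
  have haE : 0 < aE := by linarith
  rw [div_lt_div_iff₀ haS haE] at h
  rw [div_lt_div_iff₀ haE haI]
  nlinarith

/-- numerical consequences of a nonzero morphism between slope-stable pure modules -/
theorem muStable_hom_facts (hL : CohB1.IsAmple L) (n : ℕ) (hn : 1 ≤ n)
    (F G : X.Modules) (hFt : ShStab.IsPure X F n) (hGt : ShStab.IsPure X G n)
    (hF : ShStab.IsMuStable k X L F n) (hG : ShStab.IsMuStable k X L G n)
    (pF pG : ℚ[X]) (hpF : ShStab.IsHilbPoly k X L F pF) (hpG : ShStab.IsHilbPoly k X L G pG)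
    (hle : StabCat.hatSlope n pG ≤ StabCat.hatSlope n pF) (φ : F ⟶ G) (hφ : φ ≠ 0) :
    Mono φ ∧ StabCat.alpha n (pG - pF) = 0 ∧ StabCat.alpha (n - 1) (pG - pF) = 0 := by
  have hKc := isCoh_kernel k X hF.1 hG.1 φ
  have hIc := isCoh_image k X hF.1 hG.1 φ
  obtain ⟨pK, hpK⟩ := exists_isHilbPoly_sub k X L hL hFt (kernel.ι φ) hKc
  have hpI := isHilbPoly_image k X L hL.1 hF.1 hG.1 φ hpF hpK
  have hI0 := not_isZero_image X φ hφ
  obtain ⟨haI, haIG, hdI, hdG, hnn, -⟩ :=
    alpha_facts_of_isPure k X L hL hG.1 hG.2.1 hGt (Abelian.image.ι φ) hIc hI0 hpI hpG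
  -- slope of the image against `G`
  have h1 : StabCat.hatSlope n (pF - pK) ≤ StabCat.hatSlope n pG ∧
      (StabCat.alpha n (pF - pK) < StabCat.alpha n pG →
        StabCat.hatSlope n (pF - pK) < StabCat.hatSlope n pG) := by
    rcases haIG.lt_or_eq with hlt | heq
    · have := hG.2.2.2.2 _ (Abelian.image.ι φ) inferInstance hIc _ pG hpI hpG haI hlt
      exact ⟨this.le, fun _ => this⟩
    · refine ⟨?_, fun h => absurd heq h.ne⟩
      have hdeg : (pG - (pF - pK)).natDegree ≤ n := (natDegree_sub_le _ _).trans (max_le hdG hdI)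
      have h0 : StabCat.alpha n (pG - (pF - pK)) = 0 := by rw [alpha_sub, heq, sub_self]
      have h1 := alpha_pred_nonneg hnn hn hdeg h0
      rw [alpha_sub] at h1
      unfold StabCat.hatSlope
      rw [← heq]
      exact div_le_div_of_nonneg_right (by linarith) haI.le
  -- slope of the image against `F`
  have h2 : StabCat.hatSlope n pF ≤ StabCat.hatSlope n (pF - pK) ∧
      (¬ IsZero (kernel φ) → StabCat.hatSlope n pF < StabCat.hatSlope n (pF - pK)) := by
    by_cases hK0 : IsZero (kernel φ)
    · rw [isHilbPoly_zero_unique k X L hK0 hpK, sub_zero]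
      exact ⟨le_rfl, fun h => absurd hK0 h⟩
    · obtain ⟨haK, haKF, -, -, -, -⟩ :=
        alpha_facts_of_isPure k X L hL hF.1 hF.2.1 hFt (kernel.ι φ) hKc hK0 hpK hpF
      have haI' := haI
      rw [alpha_sub] at haI'
      have hlt : StabCat.alpha n pK < StabCat.alpha n pF := by linarith
      have h3 := hF.2.2.2.2 _ (kernel.ι φ) inferInstance hKc pK pF hpK hpF haK hlt
      have h4 : StabCat.hatSlope n pF < StabCat.hatSlope n (pF - pK) := by
        unfold StabCat.hatSlope at h3 ⊢
        rw [alpha_sub, alpha_sub]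
        exact strict_mediant haK haI' h3
      exact ⟨h4.le, fun _ => h4⟩
  have hK0 : IsZero (kernel φ) := by
    by_contra hK0
    have := h2.2 hK0
    linarith [h1.1]
  have hpK0 : pK = 0 := isHilbPoly_zero_unique k X L hK0 hpK
  rw [hpK0, sub_zero] at h1 haI haIG
  have haeq : StabCat.alpha n pF = StabCat.alpha n pG := by
    rcases haIG.lt_or_eq with hlt | heq
    · have := h1.2 hlt
      linarith
    · exact heq
  refine ⟨mono_of_isZero_kernel X φ hK0, ?_, ?_⟩
  · rw [alpha_sub, haeq, sub_self]
  · have hsl : StabCat.hatSlope n pF = StabCat.hatSlope n pG := le_antisymm h1.1 hle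
    unfold StabCat.hatSlope at hsl
    rw [haeq] at hsl
    have haG : StabCat.alpha n pG ≠ 0 := by rw [← haeq]; exact haI.ne'
    have := (div_left_inj' haG).1 hsl
    rw [alpha_sub, this, sub_self]

end Mu

section Codim

open Groth.Agent.Helper1.Dv

variable (k : Type u) [Field k] (X : Scheme.{u}) [X.Over (Spec (CommRingCat.of k))]
  [IsProper (X ↘ Spec (CommRingCat.of k))] [IsIntegral X] (L : X.Modules)

theorem poly_eq_zero_of_coeffs {P : ℚ[X]} {n : ℕ} (hdeg : P.natDegree ≤ n) (hge : n - 1 ≤ P.natDegree)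
    (h1 : StabCat.alpha n P = 0) (h2 : StabCat.alpha (n - 1) P = 0) : P = 0 := by
  by_contra hP
  have hc : ∀ m, StabCat.alpha m P = 0 → P.coeff m = 0 := by
    intro m hm
    unfold StabCat.alpha at hm
    rcases mul_eq_zero.mp hm with h | h
    · exact absurd h (Nat.cast_ne_zero.mpr (Nat.factorial_ne_zero m))
    · exact h
  have hlc : P.coeff P.natDegree ≠ 0 := by
    rw [coeff_natDegree]
    exact leadingCoeff_ne_zero.mpr hP
  have : P.natDegree = n ∨ P.natDegree = n - 1 := by omega
  rcases this with h | h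
  · rw [h] at hlc; exact hlc (hc n h1)
  · rw [h] at hlc; exact hlc (hc (n - 1) h2)

/-- the cokernel of a monomorphism whose Hilbert polynomials agree in the two top degrees has no
points of codimension at most one in its support -/
theorem notMem_support_cokernel (hL : CohB1.IsAmple L) (n : ℕ)
    (hX : topologicalKrullDim X = (n : WithBot ℕ∞)) {F G : X.Modules} (hF : Coh.IsCoh F)
    (hG : Coh.IsCoh G) (φ : F ⟶ G) [Mono φ] {pF pG : ℚ[X]}
    (hpF : ShStab.IsHilbPoly k X L F pF) (hpG : ShStab.IsHilbPoly k X L G pG)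
    (h1 : StabCat.alpha n (pG - pF) = 0) (h2 : StabCat.alpha (n - 1) (pG - pF) = 0) (z : X)
    (hz : ringKrullDim (X.presheaf.stalk z) ≤ 1) : z ∉ CohB1.support (cokernel φ) := by
  intro hzs
  have hQ : Coh.IsCoh (cokernel φ) := FtLocal.isCoh_cokernel hF hG φ
  let S : ShortComplex X.Modules := ShortComplex.mk φ (cokernel.π φ) (cokernel.condition φ)
  have hS : S.Exact := ShortComplex.exact_of_g_is_cokernel _ (cokernelIsCokernel φ)
  have : Mono S.f := inferInstanceAs (Mono φ)
  have : Epi S.g := inferInstanceAs (Epi (cokernel.π φ))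
  have hSE : S.ShortExact := { exact := hS }
  have hpQ : ShStab.IsHilbPoly k X L (cokernel φ) (pG - pF) :=
    isHilbPoly_sub_left k X L hL.1 S hSE hF hG hQ hpF hpG
  have hdQ : topologicalKrullDim (CohB1.support (cokernel φ)) ≤ (n : WithBot ℕ∞) := by
    rw [← hX]
    exact topologicalKrullDim_subspace_le X _
  have fQ := hilbPoly_facts k X L hL _ hQ n hdQ hpQ
  obtain ⟨l, hl, hlast⟩ := exists_chain_of_stalk_dim_le_one k X n hX z hz
  have hcl : closure ({z} : Set X) ⊆ CohB1.support (cokernel φ) :=
    (FtGen.isClosed_support _ hQ.2).closure_subset_iff.mpr (Set.singleton_subset_iff.mpr hzs)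
  have hge := natDegree_ge_of_chain k X L hL n (n - 1) (cokernel φ) hQ hdQ l hl
    (hlast.trans hcl) _ hpQ
  have h0 := poly_eq_zero_of_coeffs fQ.1 hge h1 h2
  rw [h0] at hpQ
  have hz0 := isZero_of_isHilbPoly_zero k X L hL _ hQ hpQ
  rw [support_isZero hz0] at hzs
  exact hzs

end Codim

section Refl

open Groth.Agent.Helper1.Dv Groth.Agent.Lead.Ref1 Groth.Agent.Lead.VBL Groth.Agent.Helper1.CurveLin
  Groth.Agent.Lead.SecOrd

variable {X : Scheme.{u}} [IsIntegral X]

/-- a module with injective specialization maps is pure of the dimension of `X` -/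
theorem isPure_of_spInj (n : ℕ) (hX : topologicalKrullDim X = (n : WithBot ℕ∞)) {F : X.Modules}
    (hFs : SpInj F) : ShStab.IsPure X F n := by
  intro S ι hι hS hS0
  haveI := hι
  have hη : genericPoint X ∈ CohB1.support S := by
    have hne : ¬ (CohB1.support S ⊆ ∅) := fun h => hS0 (isZero_of_support_subset_empty S h)
    obtain ⟨y, hy, -⟩ := Set.not_subset.1 hne
    intro hsub
    apply hy
    constructor
    intro v v'
    have h1 : spM S (gen y) v = spM S (gen y) v' := hsub.elim _ _
    have h2 := congrArg (RefHull.stalkMapₗ ι (genericPoint X)) h1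
    rw [stalkMapₗ_spM, stalkMapₗ_spM] at h2
    have h3 := hFs y h2
    rw [← stalkL_eq_stalkMapₗ] at h3
    exact Groth.Agent.Lead.VBL.stalkL_injective_of_mono ι y h3
  have hcl : CohB1.support S = Set.univ := by
    apply Set.eq_univ_of_forall
    intro x
    exact (gen x).mem_closed (FtGen.isClosed_support S hS.2) hη
  rw [hcl, ← hX]
  exact IsHomeomorph.topologicalKrullDim_eq _ (Homeomorph.Set.univ X).isHomeomorph

theorem ringKrullDim_stalk_genericPoint :
    ringKrullDim (X.presheaf.stalk (genericPoint X)) = 0 := by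
  rw [AlgebraicGeometry.ringKrullDim_stalk_eq_coheight]
  have : Order.coheight (genericPoint X) = 0 := by
    rw [Order.coheight_eq_zero]
    intro y _
    exact gen y
  rw [this]
  rfl

/-- a monomorphism of reflexive coherent modules on a normal integral scheme which is surjective at all
points of codimension at most one is an isomorphism -/
theorem isIso_of_codim_one [IsLocallyNoetherian X] (hXn : Pi1.IsNormalScheme X) {F G : X.Modules}
    (hF : Coh.IsCoh F) (hG : Coh.IsCoh G) (hFr : RefHull.IsReflexive F)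
    (hGr : RefHull.IsReflexive G) (φ : F ⟶ G) [Mono φ]
    (h : ∀ z : X, ringKrullDim (X.presheaf.stalk z) ≤ 1 → z ∉ CohB1.support (cokernel φ)) :
    IsIso φ := by
  have hFs := spInj_of_isReflexive hF hFr
  have hGs := spInj_of_isReflexive hG hGr
  have hFh := hart_of_isReflexive hXn hF hFr
  have hinj : ∀ z : X, Function.Injective (RefHull.stalkMapₗ φ z) := by
    intro z
    rw [← stalkL_eq_stalkMapₗ]
    exact Groth.Agent.Lead.VBL.stalkL_injective_of_mono φ z
  have hsur : ∀ z : X, ringKrullDim (X.presheaf.stalk z) ≤ 1 →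
      Function.Surjective (RefHull.stalkMapₗ φ z) := by
    intro z hz
    rw [← stalkL_eq_stalkMapₗ]
    exact stalkL_surjective_of_notMem_support φ z (h z hz)
  have hη : ringKrullDim (X.presheaf.stalk (genericPoint X)) ≤ 1 := by
    rw [ringKrullDim_stalk_genericPoint]
    exact zero_le_one
  let e := Equiv.ofBijective _ ⟨hinj (genericPoint X), hsur _ hη⟩
  apply isIso_of_generic hFs hGs φ (hinj _)
  intro y w
  have h1 : ∀ z : X, Order.coheight z = 1 → ∀ v : G.presheaf.stalk z,
      e.symm (spM G (gen z) v) ∈ Set.range (spM F (gen z)) := by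
    intro z hz v
    have hz' : ringKrullDim (X.presheaf.stalk z) ≤ 1 := by
      rw [AlgebraicGeometry.ringKrullDim_stalk_eq_coheight, hz]
      rfl
    obtain ⟨u, rfl⟩ := hsur z hz' v
    refine ⟨u, ?_⟩
    rw [← stalkMapₗ_spM]
    exact (e.symm_apply_apply _).symm
  obtain ⟨v, hv⟩ := range_of_codim_one hFh e.symm h1 y w
  refine ⟨v, ?_⟩
  rw [hv]
  exact e.apply_symm_apply _

end Refl

section Main

open Groth.Agent.Lead.Ref1 Groth.Agent.Lead.VBL

variable (k : Type u) [Field k] (X : Scheme.{u}) [X.Over (Spec (CommRingCat.of k))]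
  [IsIntegral X] [IsProper (X ↘ Spec (CommRingCat.of k))] [Smooth (X ↘ Spec (CommRingCat.of k))]
  (L : X.Modules)

include k in
theorem isNormalScheme_of_smooth_field : Pi1.IsNormalScheme X :=
  Groth.Agent.Lib.Helper6.Normal.isNormalScheme_of_smooth (X ↘ Spec (CommRingCat.of k))
    (Groth.Agent.Lead.ParaF.isNormalScheme_Spec k)

/-- S18966 -/
theorem isIso_of_isMuStable_reflexive (n : ℕ) (hn : 1 ≤ n)
    (hX : topologicalKrullDim X = (n : WithBot ℕ∞)) (hL : CohB1.IsAmple L)
    (F G : X.Modules) (hFr : RefHull.IsReflexive F) (hGr : RefHull.IsReflexive G)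
    (hF : ShStab.IsMuStable k X L F n) (hG : ShStab.IsMuStable k X L G n)
    (pF pG : ℚ[X]) (hpF : ShStab.IsHilbPoly k X L F pF) (hpG : ShStab.IsHilbPoly k X L G pG)
    (hle : StabCat.hatSlope n pG ≤ StabCat.hatSlope n pF) (φ : F ⟶ G) (hφ : φ ≠ 0) : IsIso φ := by
  haveI : IsLocallyNoetherian X :=
    LocallyOfFiniteType.isLocallyNoetherian (X ↘ Spec (CommRingCat.of k))
  have hXn := isNormalScheme_of_smooth_field k X
  have hFt : ShStab.IsPure X F n := isPure_of_spInj n hX (spInj_of_isReflexive hF.1 hFr)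
  have hGt : ShStab.IsPure X G n := isPure_of_spInj n hX (spInj_of_isReflexive hG.1 hGr)
  obtain ⟨hmono, h1, h2⟩ :=
    muStable_hom_facts k X L hL n hn F G hFt hGt hF hG pF pG hpF hpG hle φ hφ
  haveI := hmono
  exact isIso_of_codim_one hXn hF.1 hG.1 hFr hGr φ
    (fun z hz => notMem_support_cokernel k X L hL n hX hF.1 hG.1 φ hpF hpG h1 h2 z hz)

/-- S18968, morphism form -/
theorem end_eq_smul_of_isMuStable_reflexive [IsAlgClosed k] (n : ℕ) (hn : 1 ≤ n)
    (hX : topologicalKrullDim X = (n : WithBot ℕ∞)) (hL : CohB1.IsAmple L)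
    (F : X.Modules) (hFr : RefHull.IsReflexive F) (hF : ShStab.IsMuStable k X L F n)
    (φ : F ⟶ F) : ∃ c : k, φ = c • 𝟙 F := by
  haveI : IsLocallyNoetherian X :=
    LocallyOfFiniteType.isLocallyNoetherian (X ↘ Spec (CommRingCat.of k))
  have hFt : ShStab.IsPure X F n := isPure_of_spInj n hX (spInj_of_isReflexive hF.1 hFr)
  obtain ⟨P, hP⟩ := exists_isHilbPoly_of_isPure k X L hL hF.1 hFt
  haveI : Module.Finite k (End F) := finite_hom k X F F hF.1 hF.1
  haveI : Nontrivial (End F) := by
    refine ⟨⟨(1 : End F), 0, ?_⟩⟩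
    intro h
    exact hF.2.1 ((IsZero.iff_id_eq_zero F).2 h)
  obtain ⟨c, hc⟩ := spectrum.nonempty_of_isAlgClosed_of_finiteDimensional k (show End F from φ)
  refine ⟨c, ?_⟩
  by_contra hne
  have hψ : c • 𝟙 F - φ ≠ 0 := fun h => hne (sub_eq_zero.mp h).symm
  have hiso := isIso_of_isMuStable_reflexive k X L n hn hX hL F F hFr hFr hF hF P P hP hP le_rfl
    (c • 𝟙 F - φ) hψ
  rw [spectrum.mem_iff] at hc
  apply hc
  have : (algebraMap k (End F) c - (show End F from φ)) = (show End F from c • 𝟙 F - φ) := by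
    rw [Algebra.algebraMap_eq_smul_one]
    rfl
  rw [this]
  exact (isUnit_iff_isIso _).2 hiso

/-- S18968 -/
theorem end_scalar_of_isMuStable_reflexive [IsAlgClosed k] (n : ℕ) (hn : 1 ≤ n)
    (hX : topologicalKrullDim X = (n : WithBot ℕ∞)) (hL : CohB1.IsAmple L)
    (F : X.Modules) (hFr : RefHull.IsReflexive F) (hF : ShStab.IsMuStable k X L F n)
    (φ : F ⟶ F) :
    ∃ c : k, ∀ (V : X.Opens) (s : F.val.obj (Opposite.op V)),
        (φ.val.app (Opposite.op V)) s =
          (X.ringCatSheaf.obj.map (homOfLE (le_top : V ≤ ⊤)).op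
            (Coh.toGlobal (X ↘ Spec (CommRingCat.of k)) c :
              X.ringCatSheaf.obj.obj (Opposite.op ⊤))) • s := by
  obtain ⟨c, hc⟩ := end_eq_smul_of_isMuStable_reflexive k X L n hn hX hL F hFr hF φ
  refine ⟨c, fun V s => ?_⟩
  rw [hc]
  exact KLin.smul_app_apply c (𝟙 F) V s

end Main

end Groth.Agent.Lead.MuRef
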