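import Mathlib

set_option autoImplicit false
universe u
open Module

namespace Groth.Agent.Lead.DetLA

variable {R : Type*} [CommRing R] {M : Type*} [AddCommGroup M] [Module R M]

/-- if `b` is a basis of `M` with `n` elements then `b 0 ∧ ⋯ ∧ b (n-1)` freely generates the
top exterior power -/
theorem bijective_smul_ιMulti {n : ℕ} (b : Fin n → M)
    (hb : Function.Bijective (fun r : Fin n → R => ∑ i, r i • b i)) :
    Function.Bijective (fun r : R => r • exteriorPower.ιMulti R n b) := by
  classical
  let e : (Fin n → R) ≃ₗ[R] M := LinearEquiv.ofBijective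
    { toFun := fun r => ∑ i, r i • b i
      map_add' := fun r s => by
        simp only [Pi.add_apply, add_smul, Finset.sum_add_distrib]
      map_smul' := fun c r => by
        simp only [Pi.smul_apply, smul_eq_mul, mul_smul, RingHom.id_apply, Finset.smul_sum] } hb
  let B : Basis (Fin n) R M := Basis.ofEquivFun e.symm
  have hB : ∀ i, B i = b i := by
    intro i
    rw [Basis.coe_ofEquivFun]
    change e (Pi.single i 1) = b i
    change ∑ j, (Pi.single i (1 : R) : Fin n → R) j • b j = b i
    rw [Finset.sum_eq_single i]
    · rw [Pi.single_eq_same, one_smul]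
    · intro j _ hji
      rw [Pi.single_eq_of_ne hji, zero_smul]
    · intro h; exact absurd (Finset.mem_univ i) h
  let BB := B.exteriorPower n
  let s0 : Set.powersetCard (Fin n) n :=
    Set.powersetCard.ofFinEmbEquiv (RelEmbedding.refl (· ≤ ·))
  have hs : ∀ s : Set.powersetCard (Fin n) n, s = s0 := by
    have huniv : ∀ s : Set.powersetCard (Fin n) n, (s : Finset (Fin n)) = Finset.univ := by
      intro s
      apply Finset.eq_univ_of_card
      rw [Set.powersetCard.card_eq, Fintype.card_fin]
    intro s
    apply Subtype.ext
    rw [huniv s, huniv s0]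
  have h0 : BB s0 = exteriorPower.ιMulti R n b := by
    rw [exteriorPower.basis_apply]
    unfold exteriorPower.ιMulti_family
    congr 1
    funext i
    rw [Function.comp_apply, hB]
    congr 1
    exact congrFun (congrArg DFunLike.coe (Set.powersetCard.ofFinEmbEquiv.symm_apply_apply
      (RelEmbedding.refl (· ≤ ·)))) i
  rw [← h0]
  constructor
  · intro r r' h
    have := congrArg (fun x => BB.repr x s0) h
    simpa using this
  · intro x
    refine ⟨BB.repr x s0, ?_⟩
    apply BB.ext_elem
    intro s
    rw [hs s]
    simp

end Groth.Agent.Lead.DetLA
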