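import Mathlib
import Groth.Prelude.Def_ExtPow2
import Groth.Prelude.Def_Pic
import Groth.Prelude.Def_FlatMod2
import Groth.Agent.Lib.Helper1.PFrame3
import Groth.Agent.Lib.Helper1.VBQ1
import Groth.Agent.Lib.Lead.BasisIso
import Groth.Agent.Lib.Lead.DetLA

/-!
# The top exterior power of a locally free module of rank `n` is invertible (lead)
-/

set_option backward.isDefEq.respectTransparency.types false
set_option autoImplicit false
universe u
open CategoryTheory CategoryTheory.Limits AlgebraicGeometry TopologicalSpace Opposite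

namespace Groth.Agent.Lead.DetInv

open Groth.Agent.Helper1 Groth.Agent.Helper1.PFrame Groth.Agent.Helper1.QcCech
  Groth.Agent.Helper1.VBQ

variable {X : Scheme.{u}}

/-- on an affine open over which `E` has a basis, the wedge of the basis generates an `n`-th
exterior power -/
theorem bijective_smul_gen (n : ℕ) (E ω : X.Modules)
    (φ : ∀ U : X.affineOpens, (ω.val.obj (op U.1)) ≃ₗ[Γ(X, U.1)]
      ↥(⋀[Γ(X, U.1)]^n (E.val.obj (op U.1))))
    (hφ : ∀ (U V : X.affineOpens) (h : V.1 ≤ U.1) (e : Fin n → E.val.obj (op U.1)),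
      ω.val.map (homOfLE h).op ((φ U).symm (exteriorPower.ιMulti _ n e)) =
        (φ V).symm (exteriorPower.ιMulti _ n (fun j => E.val.map (homOfLE h).op (e j))))
    (W : X.affineOpens) (b : Fin n → Γ(E, W.1)) (hb : IsBasisOn E W.1 b)
    (V : X.affineOpens) (h : V.1 ≤ W.1) :
    Function.Bijective (fun r : Γ(X, V.1) =>
      r • res ω h (show Γ(ω, W.1) from (φ W).symm (exteriorPower.ιMulti _ n b))) := by
  let bV : Fin n → E.val.obj (op V.1) := fun j => E.val.map (homOfLE h).op (b j)
  have h1 : res ω h (show Γ(ω, W.1) from (φ W).symm (exteriorPower.ιMulti _ n b)) =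
      (show Γ(ω, V.1) from (φ V).symm (exteriorPower.ιMulti _ n bV)) := hφ W V h b
  rw [h1]
  have h2 : Function.Bijective (fun r : Fin n → Γ(X, V.1) => ∑ i, r i • bV i) := hb V.1 h
  have h3 := Groth.Agent.Lead.DetLA.bijective_smul_ιMulti
    (R := Γ(X, V.1)) (M := E.val.obj (op V.1)) bV h2
  have h4 : (fun r : Γ(X, V.1) => r • (show Γ(ω, V.1) from (φ V).symm
        (exteriorPower.ιMulti _ n bV))) =
      (φ V).symm ∘ (fun r : Γ(X, V.1) => r • exteriorPower.ιMulti _ n bV) := by
    funext r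
    exact ((φ V).symm.map_smul r _).symm
  rw [h4]
  exact (φ V).symm.bijective.comp h3

/-- **the top exterior power of a locally free module of rank `n` is invertible** -/
theorem isInvertible_of_isExtPow (n : ℕ) (E ω : X.Modules)
    (hE : FlatMod.IsFinLocFreeOfRank n E) (hω : ExtPow.IsExtPow n E ω) :
    PicF.IsInvertible ω := by
  obtain ⟨φ, hφ⟩ := hω
  intro x
  obtain ⟨U, hxU, ⟨e⟩⟩ := hE x
  obtain ⟨b, hb⟩ := exists_isFrame_of_iso E U e
  have hbU : IsBasisOn E U b := hb.isBasisOn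
  obtain ⟨W, hW, hxW, hWU'⟩ : ∃ W : X.Opens, IsAffineOpen W ∧ x ∈ W ∧ W ≤ U := by
    obtain ⟨_, ⟨W, hW, rfl⟩, hxW, hWU⟩ :=
      X.isBasis_affineOpens.exists_subset_of_mem_open hxU U.2
    exact ⟨W, hW, hxW, hWU⟩
  have hbW : IsBasisOn E W (fun i => res E hWU' (b i)) := hbU.res hWU'
  let g : Γ(ω, W) := (φ ⟨W, hW⟩).symm (exteriorPower.ιMulti _ n (fun i => res E hWU' (b i)))
  refine ⟨W, hxW, ?_⟩
  let ψ : Coh.structureModule (↑W : Scheme.{u}) ⟶ ω.restrict W.ι :=
    psi (fun _ : Fin 1 => g) 0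
  haveI : IsIso ψ := by
    apply Groth.Agent.Lead.BasisIso.isIso_of_bijective_affineOpens
    intro V' hV'
    have hV : IsAffineOpen (W.ι ''ᵁ V') := hV'.image_of_isOpenImmersion W.ι
    have key := bijective_smul_gen n E ω φ hφ ⟨W, hW⟩ (fun i => res E hWU' (b i)) hbW
      ⟨W.ι ''ᵁ V', hV⟩ (W.ι_image_le V')
    have hb2 : Function.Bijective ((W.ι.appIso V').inv.hom) :=
      (ConcreteCategory.isIso_iff_bijective (W.ι.appIso V').inv).1 inferInstance
    have : (fun s : Γ(Coh.structureModule (↑W : Scheme.{u}), V') => ψ.app V' s) =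
        (fun r : Γ(X, W.ι ''ᵁ V') => r • res ω (W.ι_image_le V') g) ∘
          (W.ι.appIso V').inv.hom := by
      funext s
      exact psi_app (fun _ : Fin 1 => g) 0 V' s
    show Function.Bijective (fun s : Γ(Coh.structureModule (↑W : Scheme.{u}), V') => ψ.app V' s)
    rw [this]
    exact key.comp hb2
  exact ⟨(asIso ψ).symm⟩

end Groth.Agent.Lead.DetInv
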