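import Mathlib
import Groth.Prelude
import Groth.Agent.Lib.Lead.OmSm9

set_option autoImplicit false
set_option backward.isDefEq.respectTransparency.types false
set_option synthInstance.maxHeartbeats 400000
set_option linter.style.haveILetI false
set_option linter.unusedSectionVars false
universe u

open TensorProduct

namespace Groth.Agent.Lead.OmSm

/-- ring-hom form of the rank criterion for smoothness -/
theorem smooth_of_ranks {K₀ R B : Type u} [CommRing K₀] [CommRing R] [CommRing B]
    [IsNoetherianRing K₀]
    (φY : K₀ →+* R) (φ : R →+* B) (φX : K₀ →+* B) (hcomp : φ.comp φY = φX)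
    (hR : φY.Smooth) (hB : φX.Smooth)
    (hfin : letI := φ.toAlgebra; Module.Finite B Ω[B⁄R])
    (hproj : letI := φ.toAlgebra; Module.Projective B Ω[B⁄R])
    (a b c : ℕ) (habc : b = a + c)
    (ha : letI := φY.toAlgebra; ∀ p : PrimeSpectrum R, Module.rankAtStalk (R := R) Ω[R⁄K₀] p = a)
    (hb : letI := φX.toAlgebra; ∀ q : PrimeSpectrum B, Module.rankAtStalk (R := B) Ω[B⁄K₀] q = b)
    (hc : letI := φ.toAlgebra; ∀ q : PrimeSpectrum B, Module.rankAtStalk (R := B) Ω[B⁄R] q = c) :
    φ.Smooth := by
  algebraize [φY, φ, φX]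
  haveI : IsScalarTower K₀ R B := .of_algebraMap_eq' (by
    rw [RingHom.algebraMap_toAlgebra, RingHom.algebraMap_toAlgebra, RingHom.algebraMap_toAlgebra,
      hcomp])
  haveI : Module.Finite B Ω[B⁄R] := hfin
  haveI : Module.Projective B Ω[B⁄R] := hproj
  haveI : IsNoetherianRing R := Algebra.FiniteType.isNoetherianRing K₀ R
  haveI : Algebra.FiniteType R B := Algebra.FiniteType.of_restrictScalars_finiteType K₀ R B
  haveI : Algebra.FinitePresentation R B := Algebra.FinitePresentation.of_finiteType.mp inferInstance
  have hfs : Algebra.FormallySmooth R B := by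
    apply formallySmooth_of_rank K₀ R B
    intro q
    rw [hb q, hc q, Module.rankAtStalk_baseChange, ha, habc]
  change Algebra.Smooth R B
  exact ⟨hfs, inferInstance⟩

end Groth.Agent.Lead.OmSm
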