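import Mathlib
import Groth.Prelude
import Groth.Agent.Lib.Lead.OmSm10
import Groth.Agent.Lib.Lead.OmSm11

set_option autoImplicit false
set_option backward.isDefEq.respectTransparency.types false
set_option synthInstance.maxHeartbeats 400000
set_option linter.style.haveILetI false
set_option linter.unusedSectionVars false
universe u

open CategoryTheory CategoryTheory.Limits AlgebraicGeometry IsLocalRing Topology TopologicalSpace
open TensorProduct

namespace Groth.Agent.Lead.OmSm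

open OmegaSh Groth.Agent.Lead.OmU Groth.Agent.Lead.FLF

/-- ranks of sections of a module locally free of rank `d` with a universal derivation -/
theorem rank_kaehler_of_isFinLocFreeOfRank {X Y : Scheme.{u}} (f : X ⟶ Y) (Ω' : X.Modules)
    (d : OmegaSh.Der f Ω') (hd : OmegaSh.IsUniversal d) (r : ℕ)
    (h : FlatMod.IsFinLocFreeOfRank r Ω') {U : Y.Opens} (hU : IsAffineOpen U) {V : X.Opens}
    (hV : IsAffineOpen V) (e : V ≤ f ⁻¹ᵁ U) :
    letI := (f.appLE U V e).hom.toAlgebra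
    Module.Finite Γ(X, V) Ω[Γ(X, V)⁄Γ(Y, U)] ∧ Module.Projective Γ(X, V) Ω[Γ(X, V)⁄Γ(Y, U)] ∧
      ∀ q : PrimeSpectrum Γ(X, V), Module.rankAtStalk (R := Γ(X, V)) Ω[Γ(X, V)⁄Γ(Y, U)] q = r := by
  letI := (f.appLE U V e).hom.toAlgebra
  obtain ⟨hM, hr⟩ := (isFinLocFreeOfRank_iff Ω' r).mp h
  haveI := isQuasicoherent_of_isFinLocFree Ω' hM
  obtain ⟨h1, h2⟩ := (isFinLocFree_iff_affineOpens Ω').1 hM V hV
  have E := sectionsKaehler f d hd hV hU e
  refine ⟨Module.Finite.equiv E, Module.Projective.of_equiv E, fun q => ?_⟩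
  rw [← Module.rankAtStalk_eq_of_equiv E]
  exact hr V hV q


/-- the relative differentials locally free of the expected rank imply smoothness -/
theorem smooth_of_isFinLocFreeOfRank (k : Type u) [Field k]
    {X Y : Scheme.{u}} (qY : Y ⟶ Spec (CommRingCat.of k)) (f : X ⟶ Y)
    [IrreducibleSpace X] [QuasiSeparated (f ≫ qY)] [Smooth (f ≫ qY)]
    [IrreducibleSpace Y] [QuasiSeparated qY] [Smooth qY] [QuasiSeparated f]
    (n dY : ℕ) (hY : topologicalKrullDim ↥Y = dY)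
    (hX : topologicalKrullDim ↥X = ((dY + n : ℕ) : WithBot ℕ∞))
    (h : FlatMod.IsFinLocFreeOfRank n (Omega.sheaf f)) : Smooth f := by
  refine ⟨fun {U} hU {V} hV e => ?_⟩
  have eY : U ≤ qY ⁻¹ᵁ ⊤ := fun _ _ => trivial
  have eX : V ≤ (f ≫ qY) ⁻¹ᵁ ⊤ := fun _ _ => trivial
  have htop : IsAffineOpen (⊤ : (Spec (CommRingCat.of k)).Opens) := isAffineOpen_top _
  haveI : IsNoetherianRing Γ(Spec (CommRingCat.of k), ⊤) :=
    isNoetherianRing_of_ringEquiv k (Scheme.ΓSpecIso (CommRingCat.of k)).symm.commRingCatIsoToRingEquiv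
  have hcomp : (f.appLE U V e).hom.comp (qY.appLE ⊤ U eY).hom = ((f ≫ qY).appLE ⊤ V eX).hom := by
    rw [← CommRingCat.hom_comp, Scheme.Hom.appLE_comp_appLE]
  obtain ⟨a1, a2, a3⟩ := rank_kaehler_of_isFinLocFreeOfRank qY (Omega.sheaf qY) (dOmega qY)
    (isUniversal_dOmega qY) dY (isFinLocFreeOfRank_omega_of_smooth k qY dY hY) htop hU eY
  obtain ⟨b1, b2, b3⟩ := rank_kaehler_of_isFinLocFreeOfRank (f ≫ qY) (Omega.sheaf (f ≫ qY))
    (dOmega (f ≫ qY)) (isUniversal_dOmega (f ≫ qY)) (dY + n)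
    (isFinLocFreeOfRank_omega_of_smooth k (f ≫ qY) (dY + n) hX) htop hV eX
  obtain ⟨c1, c2, c3⟩ := rank_kaehler_of_isFinLocFreeOfRank f (Omega.sheaf f) (dOmega f)
    (isUniversal_dOmega f) n h hU hV e
  exact smooth_of_ranks (qY.appLE ⊤ U eY).hom (f.appLE U V e).hom ((f ≫ qY).appLE ⊤ V eX).hom hcomp
    (qY.smooth_appLE htop hU eY) ((f ≫ qY).smooth_appLE htop hV eX) c1 c2 dY (dY + n) n rfl a3 b3 c3


/-- S10937 -/
theorem S10937_main (k : Type u) [Field k]
    {X Y : Scheme.{u}} (qX : X ⟶ Spec (CommRingCat.of k)) (qY : Y ⟶ Spec (CommRingCat.of k))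
    [IsIntegral X] [IsSeparated qX] [Smooth qX]
    [IsIntegral Y] [IsSeparated qY] [Smooth qY]
    (f : X ⟶ Y) (hf : f ≫ qY = qX) (n dY : ℕ) (hY : topologicalKrullDim ↥Y = dY)
    (hX : topologicalKrullDim ↥X = ((dY + n : ℕ) : WithBot ℕ∞)) :
    SmoothOfRelativeDimension n f ↔ FlatMod.IsFinLocFreeOfRank n (Omega.sheaf f) := by
  subst hf
  haveI : IsSeparated f := IsSeparated.of_comp f qY
  have hrankuniq : ∀ (x : X) (U₁ U₂ : X.Opens) (m₁ m₂ : ℕ), x ∈ U₁ → x ∈ U₂ →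
      Nonempty ((Omega.sheaf f).restrict U₁.ι ≅ FlatMod.freeMod (↑U₁) m₁) →
      Nonempty ((Omega.sheaf f).restrict U₂.ι ≅ FlatMod.freeMod (↑U₂) m₂) →
      FlatMod.IsFinLocFree (Omega.sheaf f) → m₁ = m₂ := by
    rintro x U₁ U₂ m₁ m₂ h1 h2 ⟨e1⟩ ⟨e2⟩ hM
    haveI := isQuasicoherent_of_isFinLocFree (Omega.sheaf f) hM
    obtain ⟨_, ⟨V, hV, rfl⟩, hxV, -⟩ := X.isBasis_affineOpens.exists_subset_of_mem_open
      (Set.mem_univ x) isOpen_univ
    have r1 := rankAtStalk_of_free_nhds (Omega.sheaf f) hM hV ⟨x, hxV⟩ U₁ h1 m₁ e1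
    have r2 := rankAtStalk_of_free_nhds (Omega.sheaf f) hM hV ⟨x, hxV⟩ U₂ h2 m₂ e2
    exact r1.symm.trans r2
  constructor
  · intro hsm
    haveI : Smooth f := SmoothOfRelativeDimension.smooth n f
    have hall : ∀ x : X, ∃ (U : X.Opens) (m : ℕ), x ∈ U ∧
        Nonempty ((Omega.sheaf f).restrict U.ι ≅ FlatMod.freeMod (↑U) m) ∧
        FlatMor.fibreDimAt f x = (m : WithBot ℕ∞) := fun x =>
      Groth.Agent.Helper2.SmoothRelDim.S5019_main f (Omega.sheaf f)
        (dOmega f) (isUniversal_dOmega f) x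
    intro x
    obtain ⟨U, m, hxU, he, hm⟩ := hall x
    rw [Groth.Agent.Helper2.SmoothRelDim.S2768_main n f x] at hm
    have : n = m := by exact_mod_cast hm
    subst this
    exact ⟨U, hxU, he⟩
  · intro h
    haveI : Smooth f := smooth_of_isFinLocFreeOfRank k qY f n dY hY hX h
    have hM := isFinLocFree_of_isFinLocFreeOfRank (Omega.sheaf f) n h
    constructor
    intro x
    obtain ⟨U, hU, V, hV, hx, e, m, hm, hfib⟩ :=
      Groth.Agent.Helper2.SmoothRelDim.exists_affine_standardSmooth f x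
    obtain ⟨U', m', hxU', he', hm'⟩ := Groth.Agent.Helper2.SmoothRelDim.S5019_main f (Omega.sheaf f)
        (dOmega f) (isUniversal_dOmega f) x
    obtain ⟨U'', hxU'', he''⟩ := h x
    have e1 : m' = n := hrankuniq x U' U'' m' n hxU' hxU'' he' he'' hM
    have e2 : m = m' := by
      have := (hfib x hx).symm.trans hm'
      exact_mod_cast this
    subst e1
    subst e2
    exact ⟨U, hU, V, hV, hx, e, hm⟩

end Groth.Agent.Lead.OmSm
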