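import Mathlib
import Groth.Prelude.Def_ThetaK
import Groth.Agent.Lib.Lead.PicCalc

/-!
# Picard classes over a group object: the Mumford condition in terms of points
-/

universe u

set_option backward.isDefEq.respectTransparency.types false
set_option autoImplicit false

open CategoryTheory CategoryTheory.Limits MonoidalCategory CartesianMonoidalCategory MonObj AlgebraicGeometry

namespace Groth.Agent.Lead.PicCalcGrp

open Groth.Agent.Lead.PicCalc

variable {S : Scheme.{u}}

/-- pullback of classes along a morphism over `S` -/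
noncomputable def pl {A B : Over S} (f : A ⟶ B) (c : PicF.Cl B.left) : PicF.Cl A.left :=
  PicF.pullCl f.left c

theorem pl_def {A B : Over S} (f : A ⟶ B) (c : PicF.Cl B.left) :
    pl f c = PicF.pullCl f.left c := rfl

theorem pl_comp {A B C : Over S} (f : A ⟶ B) (g : B ⟶ C) (c : PicF.Cl C.left) :
    pl (f ≫ g) c = pl f (pl g c) := pull_comp f.left g.left c

theorem pl_id {A : Over S} (c : PicF.Cl A.left) : pl (𝟙 A) c = c := pull_id c

theorem pl_mul {A B : Over S} (f : A ⟶ B) (a b : PicF.Cl B.left) :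
    pl f (a * b) = pl f a * pl f b := pull_mul f.left a b

theorem pl_one {A B : Over S} (f : A ⟶ B) : pl f (1 : PicF.Cl B.left) = 1 := pull_one f.left

theorem isInvertibleCl_pl {A B : Over S} (f : A ⟶ B) {c : PicF.Cl B.left}
    (hc : PicF.IsInvertibleCl c) : PicF.IsInvertibleCl (pl f c) :=
  isInvertibleCl_pull f.left hc

theorem pl_cl {A B : Over S} (f : A ⟶ B) (M : B.left.Modules) :
    pl f (PicF.cl M) = PicF.cl ((Scheme.Modules.pullback f.left).obj M) := rfl

section Grp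

variable (A : Over S) [GrpObj A]

theorem whiskerLeft_comp_mul {Z : Over S} (z : Z ⟶ A) :
    (A ◁ z) ≫ μ[A] = fst A Z * (snd A Z ≫ z) := by
  rw [Hom.mul_def]
  congr 1

/-- the Mumford relation for `z` with class `c` on the source of `z`, in terms of points -/
def Rel (P : PicF.Cl A.left) {Z : Over S} (z : Z ⟶ A) (c : PicF.Cl Z.left) : Prop :=
  ∀ (T : Over S) (a : T ⟶ A) (b : T ⟶ Z),
    pl b c * pl a P * pl (b ≫ z) P = pl (a * (b ≫ z)) P

theorem rel_iff (P : PicF.Cl A.left) {Z : Over S} (z : Z ⟶ A) (c : PicF.Cl Z.left) :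
    pl (snd A Z) c * pl (fst A Z) P * pl (snd A Z ≫ z) P = pl ((A ◁ z) ≫ μ[A]) P ↔
      Rel A P z c := by
  rw [whiskerLeft_comp_mul]
  constructor
  · intro h T a b
    have h2 := congrArg (pl (lift a b)) h
    rw [pl_mul, pl_mul, ← pl_comp, ← pl_comp, ← pl_comp, ← pl_comp, lift_snd, lift_fst,
      comp_mul, lift_fst, lift_snd_assoc] at h2
    exact h2
  · intro h
    exact h _ (fst A Z) (snd A Z)

theorem isMumfordTriv_iff (L : A.left.Modules) {Z : Over S} (z : Z ⟶ A) :
    ThetaGrp.IsMumfordTriv A L z ↔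
      ∃ c : PicF.Cl Z.left, PicF.IsInvertibleCl c ∧ Rel A (PicF.cl L) z c := by
  constructor
  · rintro ⟨M, hM, h⟩
    refine ⟨PicF.cl M, isInvertibleCl_cl hM, (rel_iff A _ z _).mp ?_⟩
    exact (isLambdaSheaf_iff _ _ _ L _).mp h
  · rintro ⟨c, ⟨M, rfl, hM⟩, h⟩
    refine ⟨M, hM, (isLambdaSheaf_iff _ _ _ L _).mpr ?_⟩
    exact (rel_iff A _ z _).mpr h

variable {A}

/-- products: the class of the first factor works -/
theorem Rel.mul {P : PicF.Cl A.left} {Z : Over S} {z₁ z₂ : Z ⟶ A} {c₁ c₂ : PicF.Cl Z.left}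
    (h₁ : Rel A P z₁ c₁) (h₂ : Rel A P z₂ c₂) : Rel A P (z₁ * z₂) c₁ := by
  intro T a b
  have e1 := h₂ T (a * (b ≫ z₁)) b
  have e2 := h₁ T a b
  have e3 := h₂ T (b ≫ z₁) b
  rw [comp_mul, ← _root_.mul_assoc, ← e1, ← e2, ← e3]
  simp only [_root_.mul_assoc, _root_.mul_comm, _root_.mul_left_comm]

section triv

variable (hS : ∀ c : PicF.Cl (𝟙_ (Over S)).left, PicF.IsInvertibleCl c → c = 1)
include hS

theorem pl_one_hom {P : PicF.Cl A.left} (hP : PicF.IsInvertibleCl P) (T : Over S) :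
    pl (1 : T ⟶ A) P = 1 := by
  rw [Hom.one_def, pl_comp, hS _ (isInvertibleCl_pl _ hP), pl_one]

theorem Rel.one {P : PicF.Cl A.left} (hP : PicF.IsInvertibleCl P) (Z : Over S) :
    Rel A P (1 : Z ⟶ A) 1 := by
  intro T a b
  rw [comp_one, _root_.mul_one, pl_one, _root_.one_mul, pl_one_hom hS hP, _root_.mul_one]

theorem Rel.inv {P : PicF.Cl A.left} (hP : PicF.IsInvertibleCl P) {Z : Over S} {z : Z ⟶ A}
    {c : PicF.Cl Z.left} (h : Rel A P z c) : Rel A P z⁻¹ 1 := by
  intro T a b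
  have e1 := h T (a * (b ≫ z)⁻¹) b
  have e2 := h T ((b ≫ z)⁻¹) b
  rw [_root_.inv_mul_cancel_right] at e1
  rw [_root_.inv_mul_cancel, pl_one_hom hS hP] at e2
  rw [GrpObj.comp_inv, pl_one, _root_.one_mul, ← e1]
  calc pl b c * pl (a * (b ≫ z)⁻¹) P * pl (b ≫ z) P * pl (b ≫ z)⁻¹ P
      = pl (a * (b ≫ z)⁻¹) P * (pl b c * pl (b ≫ z)⁻¹ P * pl (b ≫ z) P) := by
        simp only [_root_.mul_assoc, _root_.mul_comm, _root_.mul_left_comm]
    _ = pl (a * (b ≫ z)⁻¹) P := by rw [e2, _root_.mul_one]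

/-- the class in the Mumford relation is trivial -/
theorem Rel.eq_one {P : PicF.Cl A.left} (hP : PicF.IsInvertibleCl P) {Z : Over S} {z : Z ⟶ A}
    {c : PicF.Cl Z.left} (h : Rel A P z c) : c = 1 := by
  have e := h Z 1 (𝟙 Z)
  rw [Category.id_comp, _root_.one_mul, pl_id, pl_one_hom hS hP, _root_.mul_one] at e
  exact (IsUnit.mul_eq_right (isUnit_of_isInvertibleCl (isInvertibleCl_pl z hP))).mp e

end triv

end Grp

/-- over a field, an invertible class on the base is trivial -/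
theorem unit_trivial (k : Type u) [Field k]
    (c : PicF.Cl (𝟙_ (Over (Spec (CommRingCat.of k)))).left) (hc : PicF.IsInvertibleCl c) :
    c = 1 := by
  have : Subsingleton ((𝟙_ (Over (Spec (CommRingCat.of k)))).left) :=
    inferInstanceAs (Subsingleton (PrimeSpectrum k))
  have : Nonempty ((𝟙_ (Over (Spec (CommRingCat.of k)))).left) :=
    inferInstanceAs (Nonempty (PrimeSpectrum k))
  exact eq_one_of_isInvertibleCl_of_subsingleton hc

end Groth.Agent.Lead.PicCalcGrp
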