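import Mathlib
import Groth.Prelude.Def_ega3
import Groth.Prelude.Def_Pic
import Groth.Agent.Lib.Lead.TrivLocus
import Groth.Agent.Lib.Helper7.GeomConn.SmoothH0
import Groth.Agent.Lib.Helper4.HModDelta1
import Groth.Agent.Lib.Helper1.HProj2
import Groth.Agent.Lib.Lead.PicCalcGrp

/-!
# Corollaries of the seesaw theorem (lead); the seesaw statement itself is a hypothesis here
-/

set_option backward.isDefEq.respectTransparency.types false
set_option synthInstance.maxHeartbeats 400000
set_option autoImplicit false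
set_option linter.style.haveILetI false
universe u
open CategoryTheory CategoryTheory.Limits AlgebraicGeometry TopologicalSpace Opposite

namespace Groth.Agent.Lead.SeesawCor

open Groth.Agent.Helper1 Groth.Agent.Lead.PicCalc

/-- the statement of the seesaw theorem over a reduced base -/
def SeesawStmt : Prop :=
  ∀ {X Y : Scheme.{u}} (f : X ⟶ Y) [IsProper f] [Flat f] [IsLocallyNoetherian Y] [IsReduced Y]
    (_ : ∀ y : Y, Module.finrank (Y.residueField y) Γ(f.fiber y, ⊤) = 1)
    (L : X.Modules) (_ : PicF.IsInvertible L),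
    ((∃ M : Y.Modules, PicF.IsInvertible M ∧ Nonempty ((Scheme.Modules.pullback f).obj M ≅ L)) ↔
        ∀ y : Y, Nonempty (CohIII.fiberMod f L y ≅ Coh.structureModule (f.fiber y))) ∧
      ((∀ y : Y, Nonempty (CohIII.fiberMod f L y ≅ Coh.structureModule (f.fiber y))) →
        PicF.IsInvertible ((Scheme.Modules.pushforward f).obj L) ∧
          IsIso ((Scheme.Modules.pullbackPushforwardAdjunction f).counit.app L))

theorem finrank_HH_zero_eq_finrank_Γ (k : Type u) [Field k] (X : Scheme.{u})
    (p : X ⟶ Spec (CommRingCat.of k)) :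
    letI a1 : Algebra k Γ(X, ⊤) := (Groth.Agent.Helper7.GeomConn.toΓ k X p).toAlgebra
    letI a2 : X.Over (Spec (CommRingCat.of k)) := ⟨p⟩
    Module.finrank k (Coh.HH X (Coh.structureModule X) 0) = Module.finrank k Γ(X, ⊤) := by
  letI a1 : Algebra k Γ(X, ⊤) := (Groth.Agent.Helper7.GeomConn.toΓ k X p).toAlgebra
  letI a2 : X.Over (Spec (CommRingCat.of k)) := ⟨p⟩
  obtain ⟨e⟩ := Groth.Agent.Helper7.GeomConn.nonempty_HH_zero_linearEquiv k X
  exact e.finrank_eq

theorem finrank_fiber_eq_one {X Y : Scheme.{u}} (f : X ⟶ Y) [IsProper f]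
    [GeometricallyConnected f] [GeometricallyReduced f] (y : Y) :
    Module.finrank (Y.residueField y) Γ(f.fiber y, ⊤) = 1 := by
  letI : (f.fiber y).Over (Spec (CommRingCat.of (Y.residueField y))) :=
    ⟨f.fiberToSpecResidueField y⟩
  haveI : IsProper ((f.fiber y) ↘ Spec (CommRingCat.of (Y.residueField y))) :=
    Groth.Agent.Lead.TrivLocus.isProper_fiberToSpec f y
  haveI : GeometricallyReduced ((f.fiber y) ↘ Spec (CommRingCat.of (Y.residueField y))) :=
    inferInstanceAs (GeometricallyReduced (f.fiberToSpecResidueField y))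
  haveI : GeometricallyConnected ((f.fiber y) ↘ Spec (CommRingCat.of (Y.residueField y))) :=
    inferInstanceAs (GeometricallyConnected (f.fiberToSpecResidueField y))
  have h := Groth.Agent.Helper7.GeomConn.finrank_HH_zero_eq_one (Y.residueField y) (f.fiber y)
  rw [← h]
  exact (finrank_HH_zero_eq_finrank_Γ (Y.residueField y) (f.fiber y)
    (f.fiberToSpecResidueField y)).symm

theorem s14419 (H : SeesawStmt.{u}) {X Y : Scheme.{u}} (f : X ⟶ Y)
    [IsLocallyNoetherian Y] [IsReduced Y] [Flat f] [IsProper f]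
    [GeometricallyConnected f] [GeometricallyReduced f]
    (L : X.Modules) (hL : PicF.IsInvertible L)
    (htriv : ∀ y : Y, Nonempty ((Scheme.Modules.pullback (f.fiberι y)).obj L ≅
      Coh.structureModule (f.fiber y))) :
    PicF.IsInvertible ((Scheme.Modules.pushforward f).obj L) ∧
      IsIso ((Scheme.Modules.pullbackPushforwardAdjunction f).counit.app L) :=
  (H f (finrank_fiber_eq_one f) L hL).2 htriv

/-! ### fibres trivial: fibre rank in terms of global functions -/

theorem finrank_HH_congr (k : Type u) [Field k] (X : Scheme.{u}) [X.Over (Spec (CommRingCat.of k))]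
    {M N : X.Modules} (e : M ≅ N) (n : ℕ) :
    Module.finrank k (Coh.HH X M n) = Module.finrank k (Coh.HH X N n) :=
  ((Groth.Agent.Lib.Helper4.HModDelta1.HModF k X n).mapIso e).toLinearEquiv.finrank_eq

theorem fiberRank_eq_of_trivial {X Y : Scheme.{u}} (f : X ⟶ Y) (E : X.Modules) (y : Y)
    (h : Nonempty (CohIII.fiberMod f E y ≅ Coh.structureModule (f.fiber y))) :
    CohIII.fiberRank f E 0 y = Module.finrank (Y.residueField y) Γ(f.fiber y, ⊤) := by
  obtain ⟨e⟩ := h
  letI : (f.fiber y).Over (Spec (CommRingCat.of (Y.residueField y))) :=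
    ⟨f.fiberToSpecResidueField y⟩
  have h1 := finrank_HH_congr (Y.residueField y) (f.fiber y) e 0
  have h2 := finrank_HH_zero_eq_finrank_Γ (Y.residueField y) (f.fiber y)
    (f.fiberToSpecResidueField y)
  exact h1.trans h2

/-- global functions of an integral proper scheme over an algebraically closed field -/
theorem finrank_Γ_eq_one_of_isAlgClosed (κ : Type u) [Field κ] [IsAlgClosed κ] (X : Scheme.{u})
    (p : X ⟶ Spec (CommRingCat.of κ)) [IsProper p] [IsIntegral X] :
    letI a1 : Algebra κ Γ(X, ⊤) := (Groth.Agent.Helper7.GeomConn.toΓ κ X p).toAlgebra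
    Module.finrank κ Γ(X, ⊤) = 1 := by
  letI a1 : Algebra κ Γ(X, ⊤) := (Groth.Agent.Helper7.GeomConn.toΓ κ X p).toAlgebra
  haveI : Module.Finite κ Γ(X, ⊤) := Groth.Agent.Helper7.GeomConn.finite_globalSections κ X p
  haveI : Algebra.IsIntegral κ Γ(X, ⊤) := Algebra.IsIntegral.of_finite κ Γ(X, ⊤)
  have hs : Function.Surjective (algebraMap κ Γ(X, ⊤)) :=
    (IsAlgClosed.algebraMap_bijective_of_isIntegral (k := κ) (K := Γ(X, ⊤))).2
  rw [finrank_eq_one_iff_of_nonzero' (1 : Γ(X, ⊤)) one_ne_zero]
  intro w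
  obtain ⟨c, hc⟩ := hs w
  exact ⟨c, by rw [Algebra.smul_def, mul_one, hc]⟩

theorem finrank_fiber_closedPoint (k : Type u) [Field k] [IsAlgClosed k] {X Y : Scheme.{u}}
    (g : Y ⟶ Spec (CommRingCat.of k)) [LocallyOfFiniteType g] (f : X ⟶ Y) [IsProper f]
    (y : Y) (hy : IsClosed ({y} : Set Y)) [IsIntegral (f.fiber y)] :
    Module.finrank (Y.residueField y) Γ(f.fiber y, ⊤) = 1 := by
  haveI : IsAlgClosed (Y.residueField y) :=
    IsAlgClosed.of_ringEquiv (k := k) (Y.residueField y)
      (residueFieldIsoBase g y hy).symm.commRingCatIsoToRingEquiv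
  haveI := Groth.Agent.Lead.TrivLocus.isProper_fiberToSpec f y
  exact finrank_Γ_eq_one_of_isAlgClosed (Y.residueField y) (f.fiber y)
    (f.fiberToSpecResidueField y)

theorem s10925 (H : SeesawStmt.{u}) (k : Type u) [Field k] [IsAlgClosed k]
    {X Y : Scheme.{u}} (g : Y ⟶ Spec (CommRingCat.of k)) [LocallyOfFiniteType g] [QuasiCompact g]
    [IsIntegral Y] (n : ℕ) (i : X ⟶ CohB1.ProjSpaceOver n Y) [IsClosedImmersion i]
    (f : X ⟶ Y) (hf : f = i ≫ CohB1.ProjSpaceOver.toBase n Y) [Flat f]
    (hint : ∀ y : Y, IsIntegral (f.fiber y))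
    (E : X.Modules) (hE : PicF.IsInvertible E)
    (htriv : ∀ y : Y, Nonempty ((Scheme.Modules.pullback (f.fiberι y)).obj E ≅
      Coh.structureModule (f.fiber y))) :
    PicF.IsInvertible ((Scheme.Modules.pushforward f).obj E) ∧
      IsIso ((Scheme.Modules.pullbackPushforwardAdjunction f).counit.app E) := by
  haveI : IsProper f := by rw [hf]; infer_instance
  haveI : IsLocallyNoetherian Y := LocallyOfFiniteType.isLocallyNoetherian g
  haveI : CompactSpace Y := QuasiCompact.compactSpace_of_compactSpace g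
  obtain ⟨K, hK, e⟩ := InvInv2.exists_inverse hE
  have hfl : FlatMod.IsFlatOver f E :=
    Groth.Agent.Lib.Helper5.LpullLib.isFlatOver_of_isFinLocFree f E
      (Groth.Agent.Helper1.FinLen.isFinLocFree_of_rank (Curve.isFinLocFreeOfRank_one hE))
  have hcl := Groth.Agent.Lead.FibSemi.isClosed_le_fiberRank f E
    (InvQc.isCoh_of_isInvertible E hE) hfl 0 2
  have hge : ∀ y, 1 ≤ CohIII.fiberRank f E 0 y := fun y =>
    ((Groth.Agent.Lead.TrivLocus.fiber_iso_iff f hint E K hE hK e y).mp (htriv y)).1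
  have hempty : {y : Y | 2 ≤ CohIII.fiberRank f E 0 y} = ∅ := by
    by_contra hne
    obtain ⟨y, hy2, hyc⟩ := hcl.exists_closed_singleton (Set.nonempty_iff_ne_empty.mpr hne)
    haveI := hint y
    have h1 := fiberRank_eq_of_trivial f E y (htriv y)
    have h2 := finrank_fiber_closedPoint k g f y hyc
    have h3 : 2 ≤ CohIII.fiberRank f E 0 y := hy2
    omega
  have h0 : ∀ y : Y, Module.finrank (Y.residueField y) Γ(f.fiber y, ⊤) = 1 := by
    intro y
    rw [← fiberRank_eq_of_trivial f E y (htriv y)]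
    have h1 : ¬ 2 ≤ CohIII.fiberRank f E 0 y := fun h => by
      have : y ∈ ({y : Y | 2 ≤ CohIII.fiberRank f E 0 y} : Set Y) := h
      rw [hempty] at this
      exact this
    have h2 := hge y
    omega
  exact (H f h0 E hE).2 htriv

/-! ### abelian varieties: translation invariant invertible modules -/

section AV

open MonoidalCategory CartesianMonoidalCategory MonObj Groth.Agent.Lead.PicCalcGrp

theorem geomConnected_of_geomIrreducible {X Y : Scheme.{u}} (f : X ⟶ Y)
    [GeometricallyIrreducible f] : GeometricallyConnected f :=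
  ⟨fun K _ y Z fst snd h => by
    haveI : IrreducibleSpace Z :=
      GeometricallyIrreducible.geometrically_irreducibleSpace (f := f) y fst snd h
    infer_instance⟩

variable (K : Type u) [Field K] [IsAlgClosed K] (A : Over (Spec (CommRingCat.of K)))
  [GrpObj A]

/-- the easy direction: the Mumford relation gives translation invariance -/
theorem transl_of_mumford (P : PicF.Cl A.left) (hP : PicF.IsInvertibleCl P)
    (h : pl (fst A A * snd A A) P = pl (fst A A) P * pl (snd A A) P)
    (a : 𝟙_ (Over (Spec (CommRingCat.of K))) ⟶ A) :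
    pl (𝟙 A * (toUnit A ≫ a)) P = P := by
  have h2 := congrArg (pl (lift (𝟙 A) (toUnit A ≫ a))) h
  rw [pl_mul, ← pl_comp, ← pl_comp, ← pl_comp, comp_mul, lift_fst, lift_snd, pl_id,
    pl_comp (toUnit A) a, unit_trivial K _ (isInvertibleCl_pl a hP), pl_one, _root_.mul_one] at h2
  exact h2

variable [IsProper A.hom] [GeometricallyIntegral A.hom]

/-- the class of the Mumford module on the fibre of the second projection over a closed point -/
theorem fiber_class_closedPoint (P Q : PicF.Cl A.left) (hQ : PicF.IsInvertibleCl Q)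
    (hQP : Q * P = 1)
    (htr : ∀ a : 𝟙_ (Over (Spec (CommRingCat.of K))) ⟶ A, pl (𝟙 A * (toUnit A ≫ a)) P = P)
    (y : A.left) (hy : IsClosed ({y} : Set A.left)) :
    PicF.pullCl ((snd A A).left.fiberι y)
      (pl (fst A A * snd A A) P * pl (fst A A) Q * pl (snd A A) Q) = 1 := by
  let f : (A ⊗ A).left ⟶ A.left := (snd A A).left
  let a₀ : Spec (CommRingCat.of K) ⟶ A.left := pointOfClosedPoint A.hom y hy
  have ha₀ : a₀ ≫ A.hom = 𝟙 _ := pointOfClosedPoint_comp A.hom y hy
  let a : 𝟙_ (Over (Spec (CommRingCat.of K))) ⟶ A := Over.homMk a₀ ha₀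
  let Fb : Over (Spec (CommRingCat.of K)) := Over.mk (f.fiberι y ≫ (A ⊗ A).hom)
  let ι' : Fb ⟶ A ⊗ A := Over.homMk (f.fiberι y) rfl
  have hv : ι' ≫ snd A A = toUnit Fb ≫ a := by
    ext
    change f.fiberι y ≫ f = (f.fiberι y ≫ (A ⊗ A).hom) ≫ a₀
    have h1 : (A ⊗ A).hom = f ≫ A.hom := by
      change pullback.fst A.hom A.hom ≫ A.hom = pullback.snd A.hom A.hom ≫ A.hom
      exact pullback.condition
    have h2 : (A.left.fromSpecResidueField y ≫ A.hom) ≫ a₀ = A.left.fromSpecResidueField y := by
      change _ ≫ (Spec.map (residueFieldIsoBase A.hom y hy).hom ≫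
        A.left.fromSpecResidueField y) = _
      rw [← SpecMap_residueFieldIsoBase_inv A.hom y hy, ← Category.assoc, ← Spec.map_comp,
        Iso.hom_inv_id, Spec.map_id, Category.id_comp]
    calc f.fiberι y ≫ f = f.fiberToSpecResidueField y ≫ A.left.fromSpecResidueField y :=
          f.fiber_fac y
      _ = f.fiberToSpecResidueField y ≫ (A.left.fromSpecResidueField y ≫ A.hom) ≫ a₀ := by
          rw [h2]
      _ = (f.fiberι y ≫ (A ⊗ A).hom) ≫ a₀ := by
          rw [h1, f.fiber_fac_assoc y]
          simp only [Category.assoc]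
  have hmul : ι' ≫ (fst A A * snd A A) = (ι' ≫ fst A A) ≫ (𝟙 A * (toUnit A ≫ a)) := by
    rw [comp_mul, comp_mul, hv, Category.comp_id, ← Category.assoc,
      toUnit_unique ((ι' ≫ fst A A) ≫ toUnit A) (toUnit Fb)]
  change pl ι' _ = 1
  rw [pl_mul, pl_mul, ← pl_comp, ← pl_comp, ← pl_comp, hmul, pl_comp _ (𝟙 A * (toUnit A ≫ a)),
    htr a, hv, pl_comp (toUnit Fb) a, unit_trivial K _ (isInvertibleCl_pl a hQ), pl_one,
    _root_.mul_one, ← pl_mul, _root_.mul_comm P Q, hQP, pl_one]

theorem mumford_of_transl (H : SeesawStmt.{u}) (L : A.left.Modules) (hL : PicF.IsInvertible L)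
    (htr : ∀ a : 𝟙_ (Over (Spec (CommRingCat.of K))) ⟶ A,
      pl (𝟙 A * (toUnit A ≫ a)) (PicF.cl L) = PicF.cl L) :
    pl (fst A A * snd A A) (PicF.cl L) =
      pl (fst A A) (PicF.cl L) * pl (snd A A) (PicF.cl L) := by
  have hP : PicF.IsInvertibleCl (PicF.cl L) := isInvertibleCl_cl hL
  obtain ⟨Q, hQ, hQP⟩ := exists_inv_of_isInvertibleCl hP
  obtain ⟨M, hMc, hM⟩ : PicF.IsInvertibleCl
      (pl (fst A A * snd A A) (PicF.cl L) * pl (fst A A) Q * pl (snd A A) Q) :=
    isInvertibleCl_mul (isInvertibleCl_mul (isInvertibleCl_pl _ hP) (isInvertibleCl_pl _ hQ))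
      (isInvertibleCl_pl _ hQ)
  let f : (A ⊗ A).left ⟶ A.left := (snd A A).left
  haveI : IsProper f := MorphismProperty.pullback_snd (P := @IsProper) _ _ inferInstance
  haveI : Flat A.hom := inferInstance
  haveI : Flat f := inferInstanceAs (Flat (pullback.snd A.hom A.hom))
  haveI : GeometricallyIntegral f :=
    inferInstanceAs (GeometricallyIntegral (pullback.snd A.hom A.hom))
  haveI : IsLocallyNoetherian A.left := LocallyOfFiniteType.isLocallyNoetherian A.hom
  haveI : IsIntegral A.left := GeometricallyIntegral.isIntegral_of_subsingleton A.hom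
  haveI : JacobsonSpace A.left := LocallyOfFiniteType.jacobsonSpace (Y := Spec _) A.hom
  haveI : GeometricallyConnected f := geomConnected_of_geomIrreducible f
  have hgeo : ∀ (K' : Type u) [Field K'] (x : Spec (CommRingCat.of K') ⟶ A.left),
      IsIntegral (pullback f x) := fun K' _ x =>
    GeometricallyIntegral.geometrically_isIntegral (f := f) x (pullback.fst f x)
      (pullback.snd f x) (IsPullback.of_hasPullback f x)
  have hZ := Groth.Agent.Lead.TrivLocus.isClosed_trivial_locus f hgeo M hM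
  have hall : ∀ y : A.left,
      Nonempty (CohIII.fiberMod f M y ≅ Coh.structureModule (f.fiber y)) := by
    have hsub : closedPoints A.left ⊆
        {y | Nonempty (CohIII.fiberMod f M y ≅ Coh.structureModule (f.fiber y))} := by
      intro y hy
      apply nonempty_iso_of_cl_eq
      change PicF.pullCl (f.fiberι y) (PicF.cl M) = 1
      rw [hMc]
      exact fiber_class_closedPoint K A (PicF.cl L) Q hQ hQP htr y hy
    have h2 := hZ.closure_subset_iff.mpr hsub
    rw [closure_closedPoints] at h2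
    exact fun y => h2 (Set.mem_univ y)
  obtain ⟨N, hN, ⟨eN⟩⟩ := (H f (finrank_fiber_eq_one f) M hM).1.mpr hall
  have hcN : pl (fst A A * snd A A) (PicF.cl L) * pl (fst A A) Q * pl (snd A A) Q =
      pl (snd A A) (PicF.cl N) := by
    rw [← hMc]
    exact (cl_eq_of_iso eN).symm
  have h1 := congrArg (pl (lift (toUnit A ≫ η[A]) (𝟙 A))) hcN
  have hl : pl (lift (toUnit A ≫ η[A]) (𝟙 A))
      (pl (fst A A * snd A A) (PicF.cl L) * pl (fst A A) Q * pl (snd A A) Q) = 1 := by
    rw [pl_mul, pl_mul, ← pl_comp, ← pl_comp, ← pl_comp, comp_mul, lift_fst, lift_snd,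
      ← Hom.one_def, _root_.one_mul, pl_id, pl_one_hom (unit_trivial K) hQ, _root_.mul_one,
      pl_id, _root_.mul_comm, hQP]
  have hr : pl (lift (toUnit A ≫ η[A]) (𝟙 A)) (pl (snd A A) (PicF.cl N)) = PicF.cl N := by
    rw [← pl_comp, lift_snd, pl_id]
  rw [hl, hr] at h1
  have hc1 : pl (fst A A * snd A A) (PicF.cl L) * pl (fst A A) Q * pl (snd A A) Q = 1 := by
    rw [hcN, ← h1, pl_one]
  have e1 : pl (fst A A) Q * pl (fst A A) (PicF.cl L) = 1 := by rw [← pl_mul, hQP, pl_one]
  have e2 : pl (snd A A) Q * pl (snd A A) (PicF.cl L) = 1 := by rw [← pl_mul, hQP, pl_one]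
  calc pl (fst A A * snd A A) (PicF.cl L)
      = pl (fst A A * snd A A) (PicF.cl L) * (pl (fst A A) Q * pl (fst A A) (PicF.cl L)) *
          (pl (snd A A) Q * pl (snd A A) (PicF.cl L)) := by
        rw [e1, e2, _root_.mul_one, _root_.mul_one]
    _ = (pl (fst A A * snd A A) (PicF.cl L) * pl (fst A A) Q * pl (snd A A) Q) *
          (pl (fst A A) (PicF.cl L) * pl (snd A A) (PicF.cl L)) := by
        simp only [_root_.mul_assoc, _root_.mul_comm, _root_.mul_left_comm]
    _ = _ := by rw [hc1, _root_.one_mul]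

theorem s12004 (H : SeesawStmt.{u}) (L : A.left.Modules) (hL : PicF.IsInvertible L) :
    (∀ a : 𝟙_ (Over (Spec (CommRingCat.of K))) ⟶ A,
      Nonempty ((Scheme.Modules.pullback ((𝟙 A * (toUnit A ≫ a))).left).obj L ≅ L)) ↔
      Nonempty ((Scheme.Modules.pullback (fst A A * snd A A).left).obj L ≅
        CohB1.tensorMod ((Scheme.Modules.pullback (fst A A).left).obj L)
          ((Scheme.Modules.pullback (snd A A).left).obj L)) := by
  have hP : PicF.IsInvertibleCl (PicF.cl L) := isInvertibleCl_cl hL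
  constructor
  · intro h
    apply nonempty_iso_of_cl_eq
    rw [cl_tensor]
    exact mumford_of_transl K A H L hL (fun a => cl_eq_of_iso (h a).some)
  · intro h a
    apply nonempty_iso_of_cl_eq
    refine transl_of_mumford K A (PicF.cl L) hP ?_ a
    have h2 := cl_eq_of_iso h.some
    rw [cl_tensor] at h2
    exact h2

theorem s12005 (H : SeesawStmt.{u}) (B : Over (Spec (CommRingCat.of K)))
    [GrpObj B] [IsProper B.hom] [GeometricallyIntegral B.hom]
    (α β : A ⟶ B) (L : B.left.Modules) (hL : PicF.IsInvertible L)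
    (hLinv : ∀ a : 𝟙_ (Over (Spec (CommRingCat.of K))) ⟶ B,
      Nonempty ((Scheme.Modules.pullback ((𝟙 B * (toUnit B ≫ a))).left).obj L ≅ L)) :
    Nonempty ((Scheme.Modules.pullback (α * β).left).obj L ≅
      CohB1.tensorMod ((Scheme.Modules.pullback (α).left).obj L)
        ((Scheme.Modules.pullback (β).left).obj L)) := by
  have h := mumford_of_transl K B H L hL (fun a => cl_eq_of_iso (hLinv a).some)
  have h2 := congrArg (pl (lift α β)) h
  rw [pl_mul, ← pl_comp, ← pl_comp, ← pl_comp, comp_mul, lift_fst, lift_snd] at h2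
  apply nonempty_iso_of_cl_eq
  rw [cl_tensor]
  exact h2

end AV

end Groth.Agent.Lead.SeesawCor
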