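import Mathlib
import Groth.Prelude.Def_Canon
import Groth.Prelude.Def_RedSub
import Groth.Agent.Lib.Lead.DetInv
import Groth.Agent.Lib.Lead.SeesawCor
import Groth.Agent.Lib.Lead.OmSm12
import Groth.Agent.Lib.Helper4.SecNbhd5
import Groth.Agent.Lib.Helper1.HProj2
import Groth.Agent.Lib.Helper1.TwForm4

/-!
# Pluricanonical evaluation over a reduced base (lead)
-/

set_option backward.isDefEq.respectTransparency.types false
set_option synthInstance.maxHeartbeats 400000
set_option autoImplicit false
set_option linter.style.haveILetI false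
universe u
open CategoryTheory CategoryTheory.Limits AlgebraicGeometry TopologicalSpace Opposite

namespace Groth.Agent.Lead.CanonSeesaw

open Groth.Agent.Helper1

/-- a locally projective morphism is proper -/
theorem isProper_of_isLocallyProjective {X S : Scheme.{u}} (f : X ⟶ S)
    (hproj : RedSub.IsLocallyProjective (Over.mk f)) : IsProper f := by
  choose V hsV n e he hfac using hproj
  have hcov : (⨆ s : S, V s) = ⊤ := by
    apply le_antisymm le_top
    intro s _
    exact Opens.mem_iSup.2 ⟨s, hsV s⟩
  rw [IsZariskiLocalAtTarget.iff_of_iSup_eq_top (P := @IsProper) V hcov]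
  intro s
  haveI := he s
  have h1 : IsProper (pullback.snd f (V s).ι) := by
    have h2 : e s ≫ CohB1.ProjSpaceOver.toBase (n s) ((V s : S.Opens) : Scheme.{u}) =
        pullback.snd f (V s).ι := hfac s
    rw [← h2]
    infer_instance
  unfold morphismRestrict
  infer_instance

/-- the differentials of a smooth morphism of relative dimension `n` are locally free of rank `n` -/
theorem isFinLocFreeOfRank_omega {X S : Scheme.{u}} (f : X ⟶ S) (n : ℕ)
    [SmoothOfRelativeDimension n f] [QuasiSeparated f] :
    FlatMod.IsFinLocFreeOfRank n (Omega.sheaf f) := by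
  haveI : Smooth f := SmoothOfRelativeDimension.smooth n f
  intro x
  obtain ⟨U, m, hxU, he, hm⟩ := Groth.Agent.Helper2.SmoothRelDim.S5019_main f (Omega.sheaf f)
    (OmegaSh.dOmega f) (Groth.Agent.Lead.OmU.isUniversal_dOmega f) x
  rw [Groth.Agent.Helper2.SmoothRelDim.S2768_main n f x] at hm
  have : n = m := by exact_mod_cast hm
  subst this
  exact ⟨U, hxU, he⟩

/-- the canonical sheaf of a smooth morphism is invertible -/
theorem isInvertible_of_isTopDiff {X S : Scheme.{u}} (f : X ⟶ S) (n : ℕ)
    [SmoothOfRelativeDimension n f] [QuasiSeparated f] (ω : X.Modules)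
    (hω : Canon.IsTopDiff f n ω) : PicF.IsInvertible ω :=
  Groth.Agent.Lead.DetInv.isInvertible_of_isExtPow n _ ω (isFinLocFreeOfRank_omega f n) hω

theorem s19497 (H : Groth.Agent.Lead.SeesawCor.SeesawStmt.{u})
    {X S : Scheme.{u}} [IsLocallyNoetherian S] (f : X ⟶ S)
    (hproj : RedSub.IsLocallyProjective (Over.mk f))
    (n : ℕ) [SmoothOfRelativeDimension n f] [GeometricallyConnected f]
    (ω : X.Modules) (hω : Canon.IsTopDiff f n ω) (m : ℕ)
    (htriv : ∀ s : ↥S, Nonempty ((Scheme.Modules.pullback (f.fiberι s)).obj (CohB1.tensorPow ω m) ≅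
      Coh.structureModule (f.fiber s))) [AlgebraicGeometry.IsReduced S] :
    IsIso ((Scheme.Modules.pullbackPushforwardAdjunction f).counit.app (CohB1.tensorPow ω m)) := by
  haveI : Smooth f := SmoothOfRelativeDimension.smooth n f
  haveI : IsProper f := isProper_of_isLocallyProjective f hproj
  haveI : GeometricallyReduced f :=
    Groth.Agent.Lib.Helper4.SecNbhd5.geometricallyReduced_of_smooth f
  have hωinv : PicF.IsInvertible ω := isInvertible_of_isTopDiff f n ω hω
  have hL := Groth.Agent.Helper1.TwForm.isInvertible_tensorPow hωinv m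
  exact (Groth.Agent.Lead.SeesawCor.s14419 H f _ hL htriv).2

end Groth.Agent.Lead.CanonSeesaw
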