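import Mathlib
import Groth.Agent.Lib.Lead.PnMain
import Groth.Agent.Lib.Helper1.PullGen2
import Groth.Agent.Lib.Helper1.QcExt

/-!
# Twists of different degrees on projective space are not isomorphic (lead)
-/

set_option autoImplicit false
universe u
open CategoryTheory AlgebraicGeometry TopologicalSpace Opposite HomogeneousLocalization MvPolynomial

namespace Groth.Agent.Lead.PnUniq

open Groth.Agent.Helper1 Groth.Agent.Helper1.LGen Groth.Agent.Helper1.QcCech
open Groth.Agent.Lead.PnAlg Groth.Agent.Lead.PnEv Groth.Agent.Lead.PnPoly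
open Groth.Agent.Helper1.CocycleIso Groth.Agent.Helper1.TwForm Groth.Agent.Helper1.TensGen

variable (n : ℕ) (R : Type u) [CommRing R] [IsDomain R]

/-- evaluation of a unit on a chart is a constant -/
theorem ev_unit_const (k : Fin (n + 1)) (w : (Γ(Proj (CohB1.polyGrading n R), U n R k))ˣ) :
    ∃ c : Rˣ, ev (CohB1.polyGrading n R) (gen n R) (U n R k) (gen_mem n R k)
      (w : Γ(Proj (CohB1.polyGrading n R), U n R k)) = φ n R (C (c : R)) := by
  have hle : U n R k ⊓ U n R k ≤ U n R k := inf_le_left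
  obtain ⟨c, t, h⟩ := unit_form2 n R k k (resR hle (w : Γ(Proj (CohB1.polyGrading n R), U n R k)))
    (resR hle ((w⁻¹ : (Γ(Proj (CohB1.polyGrading n R), U n R k))ˣ) :
      Γ(Proj (CohB1.polyGrading n R), U n R k)))
    (by rw [← map_mul, Units.mul_inv, map_one])
  refine ⟨c, ?_⟩
  rw [sub_self, smul_zero, Φ_zero, Units.val_one, mul_one] at h
  exact h

/-- the transition function of `O(d)` -/
theorem exists_trans (d : ℤ) (i j : Fin (n + 1)) :
    ∃ v : Γ(Proj (CohB1.polyGrading n R), U n R i ⊓ U n R j),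
      v • res (Twist.twist (CohB1.polyGrading n R) d) inf_le_right (tt n R d j) =
        res (Twist.twist (CohB1.polyGrading n R) d) inf_le_left (tt n R d i) ∧
      ev2 n R i j v * ((xu n R j ^ d : (K n R)ˣ) : K n R) = ((xu n R i ^ d : (K n R)ˣ) : K n R) := by
  obtain ⟨v, hv⟩ := ((isGen_tt n R d j).res (inf_le_right : U n R i ⊓ U n R j ≤ U n R j)).exists_coeff
    (res (Twist.twist (CohB1.polyGrading n R) d) inf_le_left (tt n R d i))
  refine ⟨v, hv, ?_⟩
  have h1 := congrArg (evT (CohB1.polyGrading n R) (gen n R) d (U n R i ⊓ U n R j)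
    (gen_mem_inf n R i j)) hv
  rw [evT_smul, evT_res, evT_res, evT_tt, evT_tt] at h1
  exact h1

variable {n R}

theorem twist_iso_unique (hn : 1 ≤ n) (d d' : ℤ)
    (ψ : Twist.twist (CohB1.polyGrading n R) d ≅ Twist.twist (CohB1.polyGrading n R) d') :
    d = d' := by
  have h10 : (1 : Fin (n + 1)) ≠ 0 := fun h => by
    have := Fin.one_eq_zero_iff.1 h; omega
  have hw : ∀ k, ∃ w : (Γ(Proj (CohB1.polyGrading n R), U n R k))ˣ,
      ψ.hom.app (U n R k) (tt n R d k) =
        (w : Γ(Proj (CohB1.polyGrading n R), U n R k)) • tt n R d' k :=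
    fun k => IsGen.exists_unit (isGen_tt n R d' k)
      (PullGen.isGen_of_iso_app ψ (isGen_tt n R d k))
  choose w hw using hw
  obtain ⟨v, hv, hev⟩ := exists_trans n R d 0 1
  obtain ⟨v', hv', hev'⟩ := exists_trans n R d' 0 1
  obtain ⟨c0, hc0⟩ := ev_unit_const n R 0 (w 0)
  obtain ⟨c1, hc1⟩ := ev_unit_const n R 1 (w 1)
  -- apply ψ
  have h1 := congrArg (ψ.hom.app (U n R 0 ⊓ U n R 1)) hv
  rw [Scheme.Modules.Hom.app_smul, QcExt.app_res, QcExt.app_res, hw, hw, res_smul, res_smul,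
    ← hv', smul_smul, smul_smul] at h1
  have h2 := (IsGen.bijective_self ((isGen_tt n R d' 1).res
    (inf_le_right : U n R 0 ⊓ U n R 1 ≤ U n R 1))).1 h1
  have h3 := congrArg (ev2 n R 0 1) h2
  rw [map_mul, map_mul] at h3
  have e0 : ev2 n R 0 1 (resR inf_le_left (w 0 : Γ(Proj (CohB1.polyGrading n R), U n R 0))) =
      φ n R (C (c0 : R)) := hc0
  have e1 : ev2 n R 0 1 (resR inf_le_right (w 1 : Γ(Proj (CohB1.polyGrading n R), U n R 1))) =
      φ n R (C (c1 : R)) := hc1
  rw [e0, e1] at h3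
  -- h3 : ev2 v * φ(C c1) = φ(C c0) * ev2 v'
  have hv2 : ev2 n R 0 1 v = ((Φ (xu n R) (d • (Pi.single 0 1 - Pi.single 1 1)) : (K n R)ˣ) : K n R) := by
    rw [Φ_smul_sub, Units.val_mul, ← hev, mul_assoc, ← Units.val_mul, mul_inv_cancel,
      Units.val_one, mul_one]
  have hv2' : ev2 n R 0 1 v' =
      ((Φ (xu n R) (d' • (Pi.single 0 1 - Pi.single 1 1)) : (K n R)ˣ) : K n R) := by
    rw [Φ_smul_sub, Units.val_mul, ← hev', mul_assoc, ← Units.val_mul, mul_inv_cancel,
      Units.val_one, mul_one]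
  rw [hv2, hv2', mul_comm] at h3
  obtain ⟨h4, -⟩ := monomial_inj (φ n R) (xu n R) (xu_val n R) (φ_injective n R) _ _
    c1.ne_zero _ _ h3
  have h5 := congrFun h4 0
  simp only [Pi.smul_apply, Pi.sub_apply, Pi.single_eq_same, Pi.single_eq_of_ne (Ne.symm h10),
    smul_eq_mul, sub_zero, mul_one] at h5
  exact h5

end Groth.Agent.Lead.PnUniq
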