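import Mathlib
import Groth.Agent.Lib.Lead.CritFib15
import Groth.Agent.Lib.Lead.SL1

/-!
# Critère de platitude par fibres: the case `Y = X` and local freeness (lead)
-/

set_option autoImplicit false
set_option backward.isDefEq.respectTransparency.types false
set_option synthInstance.maxHeartbeats 400000
set_option linter.style.haveILetI false
universe u

open AlgebraicGeometry CategoryTheory TopologicalSpace

namespace Groth.Agent.Lead.CritFib

open Groth.Agent.Lead.FO Groth.Agent.Lead.SD Scheme.Modules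

attribute [local instance] stalkModule

set_option maxHeartbeats 1000000 in
theorem isFlatAt_of_fibre_aux {X S : Scheme.{u}} (f : X ⟶ S)
    [LocallyOfFinitePresentation f]
    (F : X.Modules) [F.IsQuasicoherent] (hfp : CohB1.IsFP F)
    {W : S.Opens} {U : X.Opens} (hW : IsAffineOpen W)
    (hU : IsAffineOpen U) (hUW' : U ≤ f ⁻¹ᵁ W) (x : U)
    (h1 : FlatMod.IsFlatOverAt f F x.1)
    (h2 : Module.Flat (↑(X.presheaf.stalk x.1) ⧸ Ideal.map (f.stalkMap x.1).hom
          (IsLocalRing.maximalIdeal ↑(S.presheaf.stalk (f x.1))))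
        (↑(F.presheaf.stalk x.1) ⧸ (Ideal.map (f.stalkMap x.1).hom
          (IsLocalRing.maximalIdeal ↑(S.presheaf.stalk (f x.1))) •
          (⊤ : Submodule ↑(X.presheaf.stalk x.1) ↑(F.presheaf.stalk x.1))))) :
    FlatMod.IsFlatAt F x.1 := by
  let sW : W := ⟨f x.1, hUW' x.2⟩
  letI algAC : Algebra Γ(S, W) Γ(X, U) := (f.appLE W U hUW').hom.toAlgebra
  haveI fpAC : Algebra.FinitePresentation Γ(S, W) Γ(X, U) :=
    HasRingHomProperty.appLE (P := @LocallyOfFinitePresentation) f inferInstance
      ⟨W, hW⟩ ⟨U, hU⟩ hUW'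
  haveI fpM : Module.FinitePresentation Γ(X, U) Γ(F, U) :=
    Groth.Agent.Lead.FP.fp_sections_of_isFP F hfp hU
  letI mA := stalkOver f F hUW' x
  haveI tA : IsScalarTower Γ(S, W) Γ(X, U) (F.presheaf.stalk x.1) :=
    IsScalarTower.of_algebraMap_smul fun r m => rfl
  haveI locM := isLocalizedModule_germ F hU x
  letI algCOX := X.presheaf.algebra_section_stalk x
  haveI locOX := hU.isLocalization_stalk x
  haveI hlo : (hU.primeIdealOf x).asIdeal.LiesOver (hW.primeIdealOf sW).asIdeal := ⟨by
    have := IsAffineOpen.comap_primeIdealOf_appLE (f := f) W hW U hU hUW' x.2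
    exact (congrArg PrimeSpectrum.asIdeal this).symm⟩
  have h1' : Module.Flat Γ(S, W) (F.presheaf.stalk x.1) :=
    (isFlatOverAt_iff_flat_stalkOver f F hW hUW' x).mp h1
  letI algAOS := S.presheaf.algebra_section_stalk sW
  haveI locOS := hW.isLocalization_stalk sW
  have h𝔪 : Ideal.map (f.stalkMap x.1).hom
      (IsLocalRing.maximalIdeal ↑(S.presheaf.stalk (f x.1))) =
      (((hW.primeIdealOf sW).asIdeal).map (algebraMap Γ(S, W) Γ(X, U))).map
        (algebraMap Γ(X, U) (X.presheaf.stalk x.1)) := by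
    rw [← IsLocalization.AtPrime.map_eq_maximalIdeal (hW.primeIdealOf sW).asIdeal
      (S.presheaf.stalk (f x.1)), Ideal.map_map, Ideal.map_map]
    congr 1
    ext r
    exact stalkMap_germ_eq f hUW' x r
  exact critere_stalk Γ(S, W) Γ(X, U) Γ(X, U) Γ(F, U) (hW.primeIdealOf sW).asIdeal
    (hU.primeIdealOf x).asIdeal (hU.primeIdealOf x).asIdeal (F.presheaf.stalk x.1) (germₗ F x)
    (X.presheaf.stalk x.1) _ h𝔪 h1' h2

/-- a finitely presented quasi-coherent module with flat stalk at `x` is free near `x` -/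
theorem exists_free_nhd_of_isFlatAt {X : Scheme.{u}} (F : X.Modules) [F.IsQuasicoherent]
    (hfp : CohB1.IsFP F) {U : X.Opens} (hU : IsAffineOpen U) (x : U)
    (h : FlatMod.IsFlatAt F x.1) :
    ∃ (U' : X.Opens) (n : ℕ), x.1 ∈ U' ∧
      Nonempty (F.restrict U'.ι ≅ FlatMod.freeMod (↑U') n) := by
  haveI fpM : Module.FinitePresentation Γ(X, U) Γ(F, U) :=
    Groth.Agent.Lead.FP.fp_sections_of_isFP F hfp hU
  haveI locM := isLocalizedModule_germ F hU x
  letI algCOX := X.presheaf.algebra_section_stalk x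
  haveI locOX := hU.isLocalization_stalk x
  haveI : Module.Finite (X.presheaf.stalk x.1) (F.presheaf.stalk x.1) :=
    Module.Finite.of_isLocalizedModule (hU.primeIdealOf x).asIdeal.primeCompl (germₗ F x)
  haveI : Module.Flat (X.presheaf.stalk x.1) (F.presheaf.stalk x.1) := h
  haveI : Module.Free (X.presheaf.stalk x.1) (F.presheaf.stalk x.1) :=
    Module.free_of_flat_of_isLocalRing
  let b := Module.finBasis (X.presheaf.stalk x.1) (F.presheaf.stalk x.1)
  obtain ⟨r, hr, b', -⟩ := Module.FinitePresentation.exists_basis_localizedModule_powers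
    (hU.primeIdealOf x).asIdeal.primeCompl (germₗ F x) (X.presheaf.stalk x.1) b
  exact ⟨X.basicOpen r, _, (mem_basicOpen_iff hU x r).mpr hr,
    Groth.Agent.Lead.SL.free_basicOpen_of_basis F hU r _ b'⟩

end Groth.Agent.Lead.CritFib
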