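import Mathlib
import Groth.Agent.Lib.Lead.CritFib16
import Groth.Agent.Lib.Helper3.FibStalk
import Groth.Prelude.Def_MoreMor

/-!
# Critère de platitude par fibres: the local ring of a fibre (lead)
-/

set_option autoImplicit false
set_option backward.isDefEq.respectTransparency.types false
set_option synthInstance.maxHeartbeats 400000
set_option linter.style.haveILetI false
universe u

namespace Groth.Agent.Lead.CritFib

open TensorProduct

section Square

variable {R₁ R₂ R' T T' : Type u} [CommRing R₁] [CommRing R₂] [CommRing R'] [CommRing T]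
  [CommRing T'] [Algebra R₂ T]

set_option maxHeartbeats 1000000 in
/-- flatness of a map between quotients in terms of the fibre module -/
theorem flat_iff_qflat_of_square (β : R₁ →+* R') (α : T →+* T') (Φ : R' →+* T') (σ : R₁ ≃+* R₂)
    (hcomm : ∀ r, Φ (β r) = α (algebraMap R₂ T (σ r)))
    (hβ : Function.Surjective β) (hα : Function.Surjective α)
    (I₂ : Ideal R₂) (hkα : RingHom.ker α = I₂.map (algebraMap R₂ T))
    (hkβ : RingHom.ker β = I₂.comap σ.toRingHom) :
    Φ.Flat ↔ Module.Flat (R₂ ⧸ I₂) ((R₂ ⧸ I₂) ⊗[R₂] T) := by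
  let β₂ : R₂ →+* R' := β.comp σ.symm.toRingHom
  have hβ₂ : Function.Surjective β₂ := hβ.comp σ.symm.surjective
  have hkβ₂ : RingHom.ker β₂ = I₂ := by
    ext x
    rw [RingHom.mem_ker]
    show β (σ.symm x) = 0 ↔ _
    rw [← RingHom.mem_ker, hkβ, Ideal.mem_comap]
    show σ (σ.symm x) ∈ I₂ ↔ _
    rw [RingEquiv.apply_symm_apply]
  let eR : R₂ ⧸ I₂ ≃+* R' :=
    (Ideal.quotEquivOfEq hkβ₂.symm).trans (RingHom.quotientKerEquivOfSurjective hβ₂)
  let eT : T ⧸ I₂.map (algebraMap R₂ T) ≃+* T' :=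
    (Ideal.quotEquivOfEq hkα.symm).trans (RingHom.quotientKerEquivOfSurjective hα)
  have heR : ∀ r : R₂, eR (Ideal.Quotient.mk I₂ r) = β (σ.symm r) := fun r => rfl
  have heT : ∀ t : T, eT (Ideal.Quotient.mk _ t) = α t := fun t => rfl
  have hsq : Φ.comp eR.toRingHom =
      eT.toRingHom.comp (algebraMap (R₂ ⧸ I₂) (T ⧸ I₂.map (algebraMap R₂ T))) := by
    ext r
    show Φ (eR (Ideal.Quotient.mk I₂ r)) = eT (algebraMap (R₂ ⧸ I₂) _ (Ideal.Quotient.mk I₂ r))
    rw [heR, hcomm, RingEquiv.apply_symm_apply]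
    rfl
  rw [← RingHom.Flat.comp_iff_of_bijective_right (g := eR.toRingHom) eR.bijective, hsq,
    RingHom.Flat.comp_iff_of_bijective_left (g := eT.toRingHom) eT.bijective,
    RingHom.flat_algebraMap_iff]
  exact Module.Flat.equiv_iff
    (Algebra.TensorProduct.quotIdealMapEquivQuotTensor T I₂).toLinearEquiv

end Square

section Sch

open AlgebraicGeometry CategoryTheory CategoryTheory.Limits IsLocalRing

theorem stalkCongr_rfl_apply {Y : Scheme.{u}} {y : Y} (h : y = y)
    (r : Y.presheaf.stalk y) :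
    (Y.presheaf.stalkCongr (.of_eq h)).commRingCatIsoToRingEquiv r = r := by
  show (Y.presheaf.stalkCongr (.of_eq h)).hom r = r
  simp [TopCat.Presheaf.stalkCongr]

theorem map_maximalIdeal_comap_stalkCongr {Y S : Scheme.{u}} (g : Y ⟶ S) {y₁ y₂ : Y}
    (h : y₁ = y₂) :
    (maximalIdeal (S.presheaf.stalk (g y₁))).map (g.stalkMap y₁).hom =
      ((maximalIdeal (S.presheaf.stalk (g y₂))).map (g.stalkMap y₂).hom).comap
        (Y.presheaf.stalkCongr (.of_eq h)).commRingCatIsoToRingEquiv.toRingHom := by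
  subst h
  ext r
  rw [Ideal.mem_comap]
  show _ ↔ (Y.presheaf.stalkCongr (.of_eq rfl)).commRingCatIsoToRingEquiv r ∈ _
  rw [stalkCongr_rfl_apply rfl]

variable {X Y S : Scheme.{u}} (f : X ⟶ Y) (g : Y ⟶ S) (s : S)

theorem fiberMap_comp_fiberι :
    MoreMor.fiberMap f g s ≫ g.fiberι s = (f ≫ g).fiberι s ≫ f :=
  pullback.lift_fst _ _ _

set_option maxHeartbeats 1000000 in
/-- flatness of the map of fibres at `x'` in terms of the fibre module of `𝒪_{X,x}` -/
theorem flat_fiberMap_iff (x' : (f ≫ g).fiber s) :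
    ((MoreMor.fiberMap f g s).stalkMap x').hom.Flat ↔
      letI := (f.stalkMap ((f ≫ g).fiberι s x')).hom.toAlgebra
      Module.Flat (Y.presheaf.stalk (f ((f ≫ g).fiberι s x')) ⧸
          Ideal.map (g.stalkMap (f ((f ≫ g).fiberι s x'))).hom
            (maximalIdeal (S.presheaf.stalk (g (f ((f ≫ g).fiberι s x'))))))
        ((Y.presheaf.stalk (f ((f ≫ g).fiberι s x')) ⧸
          Ideal.map (g.stalkMap (f ((f ≫ g).fiberι s x'))).hom
            (maximalIdeal (S.presheaf.stalk (g (f ((f ≫ g).fiberι s x')))))) ⊗[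
            Y.presheaf.stalk (f ((f ≫ g).fiberι s x'))]
          X.presheaf.stalk ((f ≫ g).fiberι s x')) := by
  letI := (f.stalkMap ((f ≫ g).fiberι s x')).hom.toAlgebra
  have e := fiberMap_comp_fiberι f g s
  have hpt : (g.fiberι s) ((MoreMor.fiberMap f g s) x') = f ((f ≫ g).fiberι s x') :=
    congrArg (fun k : (f ≫ g).fiber s ⟶ Y => k x') e
  refine flat_iff_qflat_of_square ((g.fiberι s).stalkMap ((MoreMor.fiberMap f g s) x')).hom
    (((f ≫ g).fiberι s).stalkMap x').hom ((MoreMor.fiberMap f g s).stalkMap x').hom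
    (Y.presheaf.stalkCongr (.of_eq hpt)).commRingCatIsoToRingEquiv ?_
    ((g.fiberι s).stalkMap_surjective _) (((f ≫ g).fiberι s).stalkMap_surjective x') _ ?_ ?_
  · intro r
    have h1 := Scheme.Hom.stalkMap_congr_hom _ _ e x'
    rw [Scheme.Hom.stalkMap_comp, Scheme.Hom.stalkMap_comp] at h1
    exact congrArg (fun k => k.hom r) h1
  · rw [Groth.Agent.Helper3.FibStalk.ker_stalkMap_fiberι (f ≫ g) s x', Scheme.Hom.stalkMap_comp,
      Ideal.map_map]
    rfl
  · rw [Groth.Agent.Helper3.FibStalk.ker_stalkMap_fiberι g s ((MoreMor.fiberMap f g s) x')]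
    exact map_maximalIdeal_comap_stalkCongr g hpt

end Sch

end Groth.Agent.Lead.CritFib
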