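import Mathlib
import Groth.Agent.Lib.Lead.CritFib17

/-!
# Critère de platitude par fibres: scheme level, ring version (lead)
-/

set_option autoImplicit false
set_option backward.isDefEq.respectTransparency.types false
set_option synthInstance.maxHeartbeats 400000
set_option linter.style.haveILetI false
universe u

open AlgebraicGeometry CategoryTheory TopologicalSpace TensorProduct

namespace Groth.Agent.Lead.CritFib

open Groth.Agent.Lead.FO Groth.Agent.Lead.SD IsLocalRing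

set_option maxHeartbeats 1000000 in
theorem flat_stalkMap_of_fibre_aux {X Y S : Scheme.{u}} (f : X ⟶ Y) (g : Y ⟶ S)
    [LocallyOfFinitePresentation (f ≫ g)] [LocallyOfFiniteType g]
    {W : S.Opens} {V : Y.Opens} {U : X.Opens} (hW : IsAffineOpen W) (hV : IsAffineOpen V)
    (hU : IsAffineOpen U) (hUV' : U ≤ f ⁻¹ᵁ V) (hVW' : V ≤ g ⁻¹ᵁ W) (x : U)
    (h1 : ((f ≫ g).stalkMap x.1).hom.Flat)
    (h2 : letI := (f.stalkMap x.1).hom.toAlgebra
      Module.Flat (Y.presheaf.stalk (f x.1) ⧸ Ideal.map (g.stalkMap (f x.1)).hom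
          (maximalIdeal (S.presheaf.stalk (g (f x.1)))))
        ((Y.presheaf.stalk (f x.1) ⧸ Ideal.map (g.stalkMap (f x.1)).hom
          (maximalIdeal (S.presheaf.stalk (g (f x.1))))) ⊗[Y.presheaf.stalk (f x.1)]
          X.presheaf.stalk x.1)) :
    (f.stalkMap x.1).hom.Flat := by
  have hUW' : U ≤ (f ≫ g) ⁻¹ᵁ W := fun z hz => hVW' (hUV' hz)
  let yV : V := ⟨f x.1, hUV' x.2⟩
  let sW : W := ⟨g (f x.1), hUW' x.2⟩
  letI algAB : Algebra Γ(S, W) Γ(Y, V) := (g.appLE W V hVW').hom.toAlgebra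
  letI algBC : Algebra Γ(Y, V) Γ(X, U) := (f.appLE V U hUV').hom.toAlgebra
  letI algAC : Algebra Γ(S, W) Γ(X, U) := ((f ≫ g).appLE W U hUW').hom.toAlgebra
  haveI tABC : IsScalarTower Γ(S, W) Γ(Y, V) Γ(X, U) := IsScalarTower.of_algebraMap_eq' (by
    show ((f ≫ g).appLE W U hUW').hom = (f.appLE V U hUV').hom.comp (g.appLE W V hVW').hom
    rw [← CommRingCat.hom_comp, Scheme.Hom.appLE_comp_appLE])
  haveI ftAB : Algebra.FiniteType Γ(S, W) Γ(Y, V) :=
    HasRingHomProperty.appLE (P := @LocallyOfFiniteType) g inferInstance ⟨W, hW⟩ ⟨V, hV⟩ hVW'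
  haveI fpAC : Algebra.FinitePresentation Γ(S, W) Γ(X, U) :=
    HasRingHomProperty.appLE (P := @LocallyOfFinitePresentation) (f ≫ g) inferInstance
      ⟨W, hW⟩ ⟨U, hU⟩ hUW'
  letI algCOX := X.presheaf.algebra_section_stalk x
  haveI locOX := hU.isLocalization_stalk x
  letI algBOY := Y.presheaf.algebra_section_stalk yV
  haveI locOY := hV.isLocalization_stalk yV
  letI algAOS := S.presheaf.algebra_section_stalk sW
  haveI locOS := hW.isLocalization_stalk sW
  letI algOYOX : Algebra (Y.presheaf.stalk (f x.1)) (X.presheaf.stalk x.1) :=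
    (f.stalkMap x.1).hom.toAlgebra
  letI algOSOX : Algebra (S.presheaf.stalk (g (f x.1))) (X.presheaf.stalk x.1) :=
    ((f ≫ g).stalkMap x.1).hom.toAlgebra
  letI algBOX : Algebra Γ(Y, V) (X.presheaf.stalk x.1) :=
    ((algebraMap Γ(X, U) (X.presheaf.stalk x.1)).comp (algebraMap Γ(Y, V) Γ(X, U))).toAlgebra
  letI algAOX : Algebra Γ(S, W) (X.presheaf.stalk x.1) :=
    ((algebraMap Γ(X, U) (X.presheaf.stalk x.1)).comp (algebraMap Γ(S, W) Γ(X, U))).toAlgebra
  haveI tBCX : IsScalarTower Γ(Y, V) Γ(X, U) (X.presheaf.stalk x.1) :=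
    IsScalarTower.of_algebraMap_eq' rfl
  haveI tACX : IsScalarTower Γ(S, W) Γ(X, U) (X.presheaf.stalk x.1) :=
    IsScalarTower.of_algebraMap_eq' rfl
  haveI tBYX : IsScalarTower Γ(Y, V) (Y.presheaf.stalk (f x.1)) (X.presheaf.stalk x.1) :=
    IsScalarTower.of_algebraMap_eq fun r => (stalkMap_germ_eq f hUV' x r).symm
  haveI tASX : IsScalarTower Γ(S, W) (S.presheaf.stalk (g (f x.1))) (X.presheaf.stalk x.1) :=
    IsScalarTower.of_algebraMap_eq fun r => (stalkMap_germ_eq (f ≫ g) hUW' x r).symm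
  haveI locM : IsLocalizedModule (hU.primeIdealOf x).asIdeal.primeCompl
      (Algebra.linearMap Γ(X, U) (X.presheaf.stalk x.1)) :=
    (isLocalizedModule_iff_isLocalization' _ _).mpr locOX
  haveI hlo : (hU.primeIdealOf x).asIdeal.LiesOver (hW.primeIdealOf sW).asIdeal := ⟨by
    have := IsAffineOpen.comap_primeIdealOf_appLE (f := f ≫ g) W hW U hU hUW' x.2
    exact (congrArg PrimeSpectrum.asIdeal this).symm⟩
  have h1' : Module.Flat Γ(S, W) (X.presheaf.stalk x.1) := by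
    haveI : Module.Flat (S.presheaf.stalk (g (f x.1))) (X.presheaf.stalk x.1) := h1
    exact (Module.flat_iff_of_isLocalization (S.presheaf.stalk (g (f x.1)))
      (hW.primeIdealOf sW).asIdeal.primeCompl (X.presheaf.stalk x.1)).mp inferInstance
  have h𝔪 : Ideal.map (g.stalkMap (f x.1)).hom
      (maximalIdeal ↑(S.presheaf.stalk (g (f x.1)))) =
      (((hW.primeIdealOf sW).asIdeal).map (algebraMap Γ(S, W) Γ(Y, V))).map
        (algebraMap Γ(Y, V) (Y.presheaf.stalk (f x.1))) := by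
    rw [← IsLocalization.AtPrime.map_eq_maximalIdeal (hW.primeIdealOf sW).asIdeal
      (S.presheaf.stalk (g (f x.1))), Ideal.map_map, Ideal.map_map]
    congr 1
    ext r
    exact stalkMap_germ_eq g hVW' yV r
  have h2' := (qflat_iff_flat_quotient _ _).mp h2
  exact critere_stalk Γ(S, W) Γ(Y, V) Γ(X, U) Γ(X, U) (hW.primeIdealOf sW).asIdeal
    (hV.primeIdealOf yV).asIdeal (hU.primeIdealOf x).asIdeal (X.presheaf.stalk x.1)
    (Algebra.linearMap Γ(X, U) (X.presheaf.stalk x.1))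
    (Y.presheaf.stalk (f x.1)) _ h𝔪 h1' h2'

/-- flatness of `f ≫ g` at `x` and of `f` at `x` give flatness of `g` at `f x` -/
theorem flat_stalkMap_base_of_flat {X Y S : Scheme.{u}} (f : X ⟶ Y) (g : Y ⟶ S) (x : X)
    (h1 : ((f ≫ g).stalkMap x).hom.Flat) (h2 : (f.stalkMap x).hom.Flat) :
    (g.stalkMap (f x)).hom.Flat := by
  letI algRS : Algebra (S.presheaf.stalk (g (f x))) (Y.presheaf.stalk (f x)) :=
    (g.stalkMap (f x)).hom.toAlgebra
  letI algST : Algebra (Y.presheaf.stalk (f x)) (X.presheaf.stalk x) :=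
    (f.stalkMap x).hom.toAlgebra
  letI algRT : Algebra (S.presheaf.stalk (g (f x))) (X.presheaf.stalk x) :=
    ((f ≫ g).stalkMap x).hom.toAlgebra
  haveI : IsLocalHom (algebraMap (Y.presheaf.stalk (f x)) (X.presheaf.stalk x)) :=
    inferInstanceAs (IsLocalHom (f.stalkMap x).hom)
  haveI tRS : IsScalarTower (S.presheaf.stalk (g (f x))) (Y.presheaf.stalk (f x))
      (X.presheaf.stalk x) :=
    IsScalarTower.of_algebraMap_eq fun r => by
      change ((f ≫ g).stalkMap x).hom r = (f.stalkMap x).hom ((g.stalkMap (f x)).hom r)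
      rw [Scheme.Hom.stalkMap_comp]
      rfl
  haveI : Module.Flat (Y.presheaf.stalk (f x)) (X.presheaf.stalk x) := h2
  haveI : Module.Flat (S.presheaf.stalk (g (f x))) (X.presheaf.stalk x) := h1
  haveI : Module.FaithfullyFlat (Y.presheaf.stalk (f x)) (X.presheaf.stalk x) :=
    Module.FaithfullyFlat.of_flat_of_isLocalHom
  exact Groth.Agent.Helper1.LocalCrit.flat_of_faithfullyFlat_of_flat (X.presheaf.stalk x)

theorem flat_stalkMap_comp {X Y S : Scheme.{u}} (f : X ⟶ Y) (g : Y ⟶ S) (x : X)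
    (h1 : (g.stalkMap (f x)).hom.Flat) (h2 : (f.stalkMap x).hom.Flat) :
    ((f ≫ g).stalkMap x).hom.Flat := by
  rw [Scheme.Hom.stalkMap_comp]
  exact RingHom.Flat.comp h1 h2

/-- **Critère de platitude par fibres**, ring version, at a point of the fibre. -/
theorem critere_fibre_point {X Y S : Scheme.{u}} (f : X ⟶ Y) (g : Y ⟶ S)
    [LocallyOfFinitePresentation (f ≫ g)] [LocallyOfFiniteType g] (s : S)
    (x' : (f ≫ g).fiber s) :
    (((f ≫ g).stalkMap ((f ≫ g).fiberι s x')).hom.Flat ∧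
      ((MoreMor.fiberMap f g s).stalkMap x').hom.Flat) ↔
    ((g.stalkMap (f ((f ≫ g).fiberι s x'))).hom.Flat ∧
      (f.stalkMap ((f ≫ g).fiberι s x')).hom.Flat) := by
  constructor
  · rintro ⟨h1, h2⟩
    have h2' := (flat_fiberMap_iff f g s x').mp h2
    obtain ⟨_, ⟨W, hW, rfl⟩, hsW, -⟩ :=
      S.isBasis_affineOpens.exists_subset_of_mem_open
        (Set.mem_univ (g (f ((f ≫ g).fiberι s x')))) isOpen_univ
    obtain ⟨_, ⟨V, hV, rfl⟩, hyV, hVW⟩ :=
      Y.isBasis_affineOpens.exists_subset_of_mem_open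
        (show f ((f ≫ g).fiberι s x') ∈ (g ⁻¹ᵁ W : Set Y) from hsW) (g ⁻¹ᵁ W).isOpen
    obtain ⟨_, ⟨U, hU, rfl⟩, hxU, hUV⟩ :=
      X.isBasis_affineOpens.exists_subset_of_mem_open
        (show (f ≫ g).fiberι s x' ∈ (f ⁻¹ᵁ V : Set X) from hyV) (f ⁻¹ᵁ V).isOpen
    have h3 := flat_stalkMap_of_fibre_aux f g hW hV hU hUV hVW ⟨_, hxU⟩ h1 h2'
    exact ⟨flat_stalkMap_base_of_flat f g _ h1 h3, h3⟩
  · rintro ⟨h1, h2⟩
    refine ⟨flat_stalkMap_comp f g _ h1 h2, (flat_fiberMap_iff f g s x').mpr ?_⟩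
    letI := (f.stalkMap ((f ≫ g).fiberι s x')).hom.toAlgebra
    haveI : Module.Flat (Y.presheaf.stalk (f ((f ≫ g).fiberι s x')))
      (X.presheaf.stalk ((f ≫ g).fiberι s x')) := h2
    infer_instance

/-- if `f ≫ g` is locally of finite presentation and `g` is locally of finite type, then `f` is
locally of finite presentation -/
theorem locallyOfFinitePresentation_of_comp {X Y S : Scheme.{u}} (f : X ⟶ Y) (g : Y ⟶ S)
    [LocallyOfFinitePresentation (f ≫ g)] [LocallyOfFiniteType g] :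
    LocallyOfFinitePresentation f := by
  rw [HasRingHomProperty.iff_exists_appLE (P := @LocallyOfFinitePresentation)
    (RingHom.finitePresentation_stableUnderComposition.stableUnderCompositionWithLocalizationAway
      RingHom.finitePresentation_holdsForLocalizationAway).left]
  intro x
  obtain ⟨_, ⟨W, hW, rfl⟩, hsW, -⟩ :=
    S.isBasis_affineOpens.exists_subset_of_mem_open (Set.mem_univ (g (f x))) isOpen_univ
  obtain ⟨_, ⟨V, hV, rfl⟩, hyV, hVW⟩ :=
    Y.isBasis_affineOpens.exists_subset_of_mem_open (show f x ∈ (g ⁻¹ᵁ W : Set Y) from hsW)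
      (g ⁻¹ᵁ W).isOpen
  obtain ⟨_, ⟨U, hU, rfl⟩, hxU, hUV⟩ :=
    X.isBasis_affineOpens.exists_subset_of_mem_open (show x ∈ (f ⁻¹ᵁ V : Set X) from hyV)
      (f ⁻¹ᵁ V).isOpen
  have hUV' : U ≤ f ⁻¹ᵁ V := hUV
  have hVW' : V ≤ g ⁻¹ᵁ W := hVW
  have hUW' : U ≤ (f ≫ g) ⁻¹ᵁ W := fun z hz => hVW' (hUV' hz)
  refine ⟨⟨V, hV⟩, ⟨U, hU⟩, hxU, hUV', ?_⟩
  letI algAB : Algebra Γ(S, W) Γ(Y, V) := (g.appLE W V hVW').hom.toAlgebra
  letI algBC : Algebra Γ(Y, V) Γ(X, U) := (f.appLE V U hUV').hom.toAlgebra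
  letI algAC : Algebra Γ(S, W) Γ(X, U) := ((f ≫ g).appLE W U hUW').hom.toAlgebra
  haveI tABC : IsScalarTower Γ(S, W) Γ(Y, V) Γ(X, U) := IsScalarTower.of_algebraMap_eq' (by
    show ((f ≫ g).appLE W U hUW').hom = (f.appLE V U hUV').hom.comp (g.appLE W V hVW').hom
    rw [← CommRingCat.hom_comp, Scheme.Hom.appLE_comp_appLE])
  haveI ftAB : Algebra.FiniteType Γ(S, W) Γ(Y, V) :=
    HasRingHomProperty.appLE (P := @LocallyOfFiniteType) g inferInstance ⟨W, hW⟩ ⟨V, hV⟩ hVW'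
  haveI fpAC : Algebra.FinitePresentation Γ(S, W) Γ(X, U) :=
    HasRingHomProperty.appLE (P := @LocallyOfFinitePresentation) (f ≫ g) inferInstance
      ⟨W, hW⟩ ⟨U, hU⟩ hUW'
  exact Algebra.FinitePresentation.of_restrict_scalars_finitePresentation Γ(S, W) Γ(Y, V) Γ(X, U)

theorem flat_stalkMap_iff_of_eq {X Y : Scheme.{u}} (f : X ⟶ Y) {x₁ x₂ : X} (h : x₁ = x₂) :
    (f.stalkMap x₁).hom.Flat ↔ (f.stalkMap x₂).hom.Flat := by
  subst h
  rfl

/-- **Critère de platitude par fibres**, ring version. -/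
theorem critere_fibre {X Y S : Scheme.{u}} (f : X ⟶ Y) (g : Y ⟶ S)
    [LocallyOfFinitePresentation (f ≫ g)] [LocallyOfFiniteType g] (x : X) :
    (((f ≫ g).stalkMap x).hom.Flat ∧
      ((MoreMor.fiberMap f g (g (f x))).stalkMap ((f ≫ g).asFiber x)).hom.Flat) ↔
    ((g.stalkMap (f x)).hom.Flat ∧ (f.stalkMap x).hom.Flat) := by
  have hx : (f ≫ g).fiberι (g (f x)) ((f ≫ g).asFiber x) = x := (f ≫ g).fiberι_asFiber x
  have key := critere_fibre_point f g (g (f x)) ((f ≫ g).asFiber x)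
  rw [flat_stalkMap_iff_of_eq (f ≫ g) hx, flat_stalkMap_iff_of_eq f hx,
    flat_stalkMap_iff_of_eq g (congrArg (fun z => f z) hx)] at key
  exact key

theorem isOpen_flat_flat {X Y S : Scheme.{u}} (f : X ⟶ Y) (g : Y ⟶ S)
    [LocallyOfFinitePresentation (f ≫ g)] [LocallyOfFiniteType g] :
    IsOpen {x : X | (g.stalkMap (f x)).hom.Flat ∧ (f.stalkMap x).hom.Flat} := by
  haveI := locallyOfFinitePresentation_of_comp f g
  have h : {x : X | (g.stalkMap (f x)).hom.Flat ∧ (f.stalkMap x).hom.Flat} =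
      {x : X | ((f ≫ g).stalkMap x).hom.Flat} ∩ {x : X | (f.stalkMap x).hom.Flat} := by
    ext x
    constructor
    · rintro ⟨h1, h2⟩
      exact ⟨flat_stalkMap_comp f g x h1 h2, h2⟩
    · rintro ⟨h1, h2⟩
      exact ⟨flat_stalkMap_base_of_flat f g x h1 h2, h2⟩
  rw [h]
  exact (Groth.Agent.Lead.FlatLoc.isOpen_flatLocus_of_locallyOfFinitePresentation (f ≫ g)).inter
    (Groth.Agent.Lead.FlatLoc.isOpen_flatLocus_of_locallyOfFinitePresentation f)

end Groth.Agent.Lead.CritFib
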