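import Mathlib
import Groth.Agent.Lib.Lead.CritFib18

/-!
# Critère de platitude par fibres: the map of fibres as a base change (lead)
-/

set_option autoImplicit false
set_option backward.isDefEq.respectTransparency.types false
set_option synthInstance.maxHeartbeats 400000
set_option linter.style.haveILetI false
universe u

open AlgebraicGeometry CategoryTheory CategoryTheory.Limits TopologicalSpace

namespace Groth.Agent.Lead.CritFib

variable {X Y S : Scheme.{u}} (f : X ⟶ Y) (g : Y ⟶ S) (s : S)

theorem fiberMap_comp_fiberToSpecResidueField :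
    MoreMor.fiberMap f g s ≫ g.fiberToSpecResidueField s = (f ≫ g).fiberToSpecResidueField s :=
  pullback.lift_snd _ _ _

/-- the map of fibres is the base change of `f` along the inclusion of the fibre of `g` -/
theorem isPullback_fiberMap :
    IsPullback ((f ≫ g).fiberι s) (MoreMor.fiberMap f g s) f (g.fiberι s) := by
  have t : IsPullback (g.fiberι s) (g.fiberToSpecResidueField s) g (S.fromSpecResidueField s) :=
    IsPullback.of_hasPullback _ _
  have s0 : IsPullback ((f ≫ g).fiberι s) ((f ≫ g).fiberToSpecResidueField s) (f ≫ g)
      (S.fromSpecResidueField s) := IsPullback.of_hasPullback _ _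
  refine IsPullback.of_bot ?_ (fiberMap_comp_fiberι f g s).symm t
  rw [fiberMap_comp_fiberToSpecResidueField]
  exact s0

theorem flat_fiberMap_of_flat_snd [Flat (pullback.snd f (g.fiberι s))] :
    Flat (MoreMor.fiberMap f g s) := by
  rw [← (isPullback_fiberMap f g s).isoPullback_hom_snd]
  infer_instance

/-- flat on fibres and flat over the base implies flat base (at points of the image) -/
theorem flat_stalkMap_of_flat_fibres [LocallyOfFinitePresentation (f ≫ g)]
    [LocallyOfFiniteType g] [Flat (f ≫ g)]
    (hf : ∀ s : S, Flat (pullback.snd f (g.fiberι s))) (x : X) :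
    (g.stalkMap (f x)).hom.Flat ∧ (f.stalkMap x).hom.Flat := by
  haveI := hf (g (f x))
  haveI := flat_fiberMap_of_flat_snd f g (g (f x))
  exact (critere_fibre f g x).mp ⟨Flat.stalkMap (f ≫ g) x,
    Flat.stalkMap (MoreMor.fiberMap f g (g (f x))) _⟩

end Groth.Agent.Lead.CritFib
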