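import Mathlib
import Groth.Agent.Lib.Lead.CritFib19
import Groth.Agent.Lib.Helper6.EtLoc.SmoothBC
import Groth.Prelude.Def_ega3

/-!
# Critère de platitude par fibres: smoothness at a point in terms of the map of fibres (lead)
-/

set_option autoImplicit false
set_option backward.isDefEq.respectTransparency.types false
set_option synthInstance.maxHeartbeats 400000
set_option linter.style.haveILetI false
universe u

open AlgebraicGeometry CategoryTheory CategoryTheory.Limits TopologicalSpace

namespace Groth.Agent.Lead.CritFib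

open Groth.Agent.Lib.Helper6.EtLoc

/-- Smooth locus and base change, when `f` is flat at the image point. -/
theorem mem_smoothLocus_of_flatAt_left {X S X' S' : Scheme.{u}} (f : X ⟶ S) (g : S' ⟶ S)
    (f' : X' ⟶ S') (g' : X' ⟶ X) (h : IsPullback g' f' f g)
    [LocallyOfFinitePresentation f] [LocallyOfFinitePresentation f']
    (x' : X') (hx' : x' ∈ f'.smoothLocus) (hfl : (f.stalkMap (g' x')).hom.Flat) :
    g' x' ∈ f.smoothLocus := by
  have hlfp' : LocallyOfFinitePresentation (f'.fiberToSpecResidueField (f' x')) :=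
    MorphismProperty.of_isPullback (P := @LocallyOfFinitePresentation)
      (IsPullback.of_hasPullback f' (S'.fromSpecResidueField (f' x'))) inferInstance
  have hlfp : LocallyOfFinitePresentation (f.fiberToSpecResidueField (g (f' x'))) :=
    MorphismProperty.of_isPullback (P := @LocallyOfFinitePresentation)
      (IsPullback.of_hasPullback f (S.fromSpecResidueField (g (f' x')))) inferInstance
  have hz' : f'.asFiber x' ∈ (f'.fiberToSpecResidueField (f' x')).smoothLocus :=
    ((Groth.Agent.S2156.result f' x').mp hx').2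
  obtain ⟨T, sq, hT⟩ := exists_fiber_square h (f' x')
  have hflat : Flat (Spec.map (g.residueFieldMap (f' x'))) :=
    Flat.SpecMap_iff.mpr (RingHom.Flat.of_isField (Field.toIsField _) _)
  have hz := mem_smoothLocus_of_flat (f.fiberToSpecResidueField (g (f' x')))
    (Spec.map (g.residueFieldMap (f' x'))) (f'.fiberToSpecResidueField (f' x')) T sq _ hz'
  have hpt : f.fiberι (g (f' x')) (T (f'.asFiber x')) = g' x' := by
    rw [← Scheme.Hom.comp_apply, hT, Scheme.Hom.comp_apply, f'.fiberι_asFiber]
  have hfx : f (g' x') = g (f' x') := by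
    rw [← Scheme.Hom.comp_apply, ← Scheme.Hom.comp_apply, h.w]
  exact (mem_smoothLocus_iff_fiber_aux f (g' x') (g (f' x')) hfx _ hpt).mpr ⟨hfl, hz⟩

theorem fiberMapOver_eq {X Y S : Scheme.{u}} (f : X ⟶ Y) (g : Y ⟶ S) (s : S) :
    CohIII.fiberMapOver f (f ≫ g) g rfl s = MoreMor.fiberMap f g s := by
  apply pullback.hom_ext
  · exact (pullback.lift_fst _ _ _).trans (pullback.lift_fst _ _ _).symm
  · exact (pullback.lift_snd _ _ _).trans ((Category.comp_id _).trans (pullback.lift_snd _ _ _).symm)

theorem locallyOfFinitePresentation_fiberMap {X Y S : Scheme.{u}} (f : X ⟶ Y) (g : Y ⟶ S) (s : S)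
    [LocallyOfFinitePresentation f] : LocallyOfFinitePresentation (MoreMor.fiberMap f g s) :=
  MorphismProperty.of_isPullback (P := @LocallyOfFinitePresentation) (isPullback_fiberMap f g s)
    inferInstance

theorem mem_smoothLocus_fiberMap_iff {X Y S : Scheme.{u}} (f : X ⟶ Y) (g : Y ⟶ S)
    [LocallyOfFinitePresentation (f ≫ g)] [LocallyOfFiniteType g] (s : S)
    (x' : (f ≫ g).fiber s) (hflat : ((f ≫ g).stalkMap ((f ≫ g).fiberι s x')).hom.Flat)
    [LocallyOfFinitePresentation f] [LocallyOfFinitePresentation (MoreMor.fiberMap f g s)] :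
    x' ∈ (MoreMor.fiberMap f g s).smoothLocus ↔ (f ≫ g).fiberι s x' ∈ f.smoothLocus := by
  constructor
  · intro hx'
    have h1 := flat_stalkMap_of_mem_smoothLocus (MoreMor.fiberMap f g s) x' hx'
    have h2 := ((critere_fibre_point f g s x').mp ⟨hflat, h1⟩).2
    exact mem_smoothLocus_of_flatAt_left f (g.fiberι s) (MoreMor.fiberMap f g s)
      ((f ≫ g).fiberι s) (isPullback_fiberMap f g s) x' hx' h2
  · intro hx
    exact mem_smoothLocus_of_isPullback f (g.fiberι s) (MoreMor.fiberMap f g s)
      ((f ≫ g).fiberι s) (isPullback_fiberMap f g s) x' hx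

theorem exists_smooth_nhd_iff {X Y : Scheme.{u}} (f : X ⟶ Y) [LocallyOfFinitePresentation f]
    (x : X) : (∃ U : X.Opens, x ∈ U ∧ Smooth (U.ι ≫ f)) ↔ x ∈ f.smoothLocus := by
  constructor
  · rintro ⟨U, hxU, hs⟩
    exact mem_smoothLocus_of_smooth_comp U.ι f hs x ⟨⟨x, hxU⟩, rfl⟩
  · intro hx
    exact ⟨f.smoothLocus, hx, smooth_of_forall_mem_smoothLocus _ f fun v => v.2⟩

end Groth.Agent.Lead.CritFib
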