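import Mathlib
import Groth.Agent.Lib.Lead.CritFib20
import Groth.Agent.Lib.Helper6.EtLoc.UnramFiberMap

/-!
# Critère de platitude par fibres: étaleness at a point in terms of the map of fibres (lead)
-/

set_option autoImplicit false
set_option backward.isDefEq.respectTransparency.types false
set_option synthInstance.maxHeartbeats 400000
set_option linter.style.haveILetI false
universe u

open AlgebraicGeometry CategoryTheory CategoryTheory.Limits TopologicalSpace

namespace Groth.Agent.Lead.CritFib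

open Groth.Agent.Lib.Helper6.EtLoc

/-- a morphism locally of finite presentation which is flat at `x` is flat on a neighbourhood -/
theorem exists_flat_nhd {X Y : Scheme.{u}} (f : X ⟶ Y) [LocallyOfFinitePresentation f] (x : X)
    (hx : (f.stalkMap x).hom.Flat) : ∃ U : X.Opens, x ∈ U ∧ Flat (U.ι ≫ f) := by
  refine ⟨⟨_, Groth.Agent.Lead.FlatLoc.isOpen_flatLocus_of_locallyOfFinitePresentation f⟩, hx, ?_⟩
  apply Flat.of_stalkMap
  intro u
  exact (flat_stalkMap_comp_iff _ f u).mp u.2

theorem etale_restrict_of_le {X Y : Scheme.{u}} (f : X ⟶ Y) {U U' : X.Opens} (h : U ≤ U') :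
    U.ι ≫ f = X.homOfLE h ≫ (U'.ι ≫ f) := by
  rw [← Category.assoc, Scheme.homOfLE_ι]

/-- étale at a point: flat at the point and unramified near the point -/
theorem exists_etale_nhd_of_flat_of_unramified {X Y : Scheme.{u}} (f : X ⟶ Y)
    [LocallyOfFinitePresentation f] (x : X) (hx : (f.stalkMap x).hom.Flat)
    (U₁ : X.Opens) (hxU₁ : x ∈ U₁) (hU₁ : FormallyUnramified (U₁.ι ≫ f)) :
    ∃ U : X.Opens, x ∈ U ∧ Etale (U.ι ≫ f) := by
  obtain ⟨U₂, hxU₂, hU₂⟩ := exists_flat_nhd f x hx
  refine ⟨U₁ ⊓ U₂, ⟨hxU₁, hxU₂⟩, ?_⟩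
  rw [Etale.iff_flat_and_formallyUnramified]
  refine ⟨?_, ?_, inferInstance⟩
  · rw [etale_restrict_of_le f (inf_le_right : U₁ ⊓ U₂ ≤ U₂)]
    infer_instance
  · rw [etale_restrict_of_le f (inf_le_left : U₁ ⊓ U₂ ≤ U₁)]
    haveI : FormallyUnramified (X.homOfLE (inf_le_left : U₁ ⊓ U₂ ≤ U₁)) := inferInstance
    exact MorphismProperty.comp_mem @FormallyUnramified _ _ inferInstance hU₁

end Groth.Agent.Lead.CritFib
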