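import Mathlib
import Groth.Agent.Lib.Lead.CV12

/-!
# Semistable Higgs-type pairs on a curve (lead)
-/

set_option autoImplicit false
set_option backward.isDefEq.respectTransparency.types false
set_option synthInstance.maxHeartbeats 400000
set_option linter.style.haveILetI false
set_option linter.unusedSectionVars false
set_option linter.unusedVariables false
universe u
open CategoryTheory CategoryTheory.Limits AlgebraicGeometry TopologicalSpace Opposite

namespace Groth.Agent.Lead.Higgs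

open Groth.Agent.Helper1.QcCech Groth.Agent.Helper1.SubSh Groth.Agent.Helper1.LGen
open Groth.Agent.Helper1.TmulLib Groth.Agent.Helper1 Groth.Agent.Helper1.TwForm
open Groth.Agent.Helper1.TensGen Groth.Agent.Lib.Helper4.TwExact Groth.Agent.Helper1.Dv
open Groth.Agent.Lib.Helper4 Groth.Agent.Helper1.CurveAmp Groth.Agent.Helper1.FinSupp
open Groth.Agent.Helper1.Euler Groth.Agent.Helper1.Curve Groth.Agent.Helper1.CurveLin
open Groth.Agent.Helper1.CurveDual Groth.Agent.Lead.HN Groth.Agent.Lead.VBL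
open Groth.Agent.Helper1.CurvePt Groth.Agent.Helper1.PtInv Groth.Agent.Helper1.ProjF

section Main

variable (k : Type u) [Field k] (X : Scheme.{u}) [X.Over (Spec (CommRingCat.of k))]
  [IsIntegral X] [IsProper (X ↘ Spec (CommRingCat.of k))]

/-- the cokernel of a subbundle of maximal slope is locally free -/
theorem coker_locFree_of_maxSlope (hdim : topologicalKrullDim X = 1)
    (hX : ∀ x : X, ValuationRing (X.presheaf.stalk x)) {r : ℕ} {E : X.Modules}
    (hE : FlatMod.IsFinLocFreeOfRank r E) {E₁ : X.Modules} {r₁ : ℕ} (hr₁ : 0 < r₁) (i₁ : E₁ ⟶ E)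
    [Mono i₁] (hE₁ : FlatMod.IsFinLocFreeOfRank r₁ E₁)
    (P1 : ∀ (F : X.Modules) (r' : ℕ) (j : F ⟶ E), Mono j → 0 < r' → FlatMod.IsFinLocFreeOfRank r' F →
      Curv2.deg k X F r' * (r₁ : ℤ) ≤ Curv2.deg k X E₁ r₁ * (r' : ℤ)) :
    ∃ n : ℕ, FlatMod.IsFinLocFreeOfRank n (cokernel i₁) ∧ r = r₁ + n := by
  obtain ⟨B', n, hB', hle, hBf, hn, hrk, heu, hle_eu, heq⟩ := exists_sat_quot k X hdim hX hE i₁ hE₁
  have h1 := P1 (B' : X.Modules) r₁ B'.arrow inferInstance hr₁ hBf
  have hr₁' : (0 : ℤ) < r₁ := by exact_mod_cast hr₁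
  have h2 : Curv2.deg k X (B' : X.Modules) r₁ ≤ Curv2.deg k X E₁ r₁ := le_of_mul_le_mul_right h1 hr₁'
  have h3 : Curv2.euler k X (B' : X.Modules) ≤ Curv2.euler k X E₁ := by
    unfold Curv2.deg at h2
    linarith
  have hB'eq := heq (le_antisymm hle_eu h3)
  subst hB'eq
  refine ⟨n, isFinLocFreeOfRank_of_iso (cokernel.mapIso _ _ (Subobject.underlyingIso i₁) (Iso.refl E)
    (by simp)) hn, hrk⟩

/-- a semistable pair `(E, φ : E → E ⊗ L)` with `deg L ≤ 0` has semistable underlying bundle -/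
theorem semistable_of_pair (hdim : topologicalKrullDim X = 1)
    (hX : ∀ x : X, ValuationRing (X.presheaf.stalk x)) {L : X.Modules} (hL : PicF.IsInvertible L)
    (hL0 : Curv2.deg k X L 1 ≤ 0)
    (r : ℕ) (hr : 0 < r) (E : X.Modules) (hE : FlatMod.IsFinLocFreeOfRank r E)
    (φ : E ⟶ CohB1.tensorMod E L)
    (hss : ∀ (G : X.Modules) (n : ℕ) (j : G ⟶ E) (χ : G ⟶ CohB1.tensorMod G L), Mono j → 0 < n →
      FlatMod.IsFinLocFreeOfRank n G → χ ≫ (tensR L).map j = j ≫ φ →
      Curv2.deg k X G n * (r : ℤ) ≤ Curv2.deg k X E r * (n : ℤ)) :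
    ∀ (G : X.Modules) (n : ℕ) (j : G ⟶ E), Mono j → 0 < n → FlatMod.IsFinLocFreeOfRank n G →
      Curv2.deg k X G n * (r : ℤ) ≤ Curv2.deg k X E r * (n : ℤ) := by
  obtain ⟨E₁, r₁, i₁, hi₁, hr₁, hE₁, P1, P2⟩ := (existsUnique_maxDestab k X hdim hX r hr E hE).1
  haveI := hi₁
  obtain ⟨n, hC, hrn⟩ := coker_locFree_of_maxSlope k X hdim hX hE hr₁ i₁ hE₁ P1
  let S : ShortComplex X.Modules := ShortComplex.mk i₁ (cokernel.π i₁) (cokernel.condition i₁)
  have hS : S.ShortExact :=
    { exact := ShortComplex.exact_cokernel i₁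
      mono_f := hi₁
      epi_g := inferInstanceAs (Epi (cokernel.π i₁)) }
  have hSL := shortExact_map_tensR
    (hasBases_of_isFinLocFree (FinLen.isFinLocFree_of_rank (isFinLocFreeOfRank_one hL))) S hS
  haveI := hSL.mono_f
  have hr₁' : (0 : ℤ) < r₁ := by exact_mod_cast hr₁
  have hc : (i₁ ≫ φ) ≫ (tensR L).map (cokernel.π i₁) = 0 := by
    by_contra hne
    have hCL : FlatMod.IsFinLocFreeOfRank n (CohB1.tensorMod (cokernel i₁) L) :=
      VBQ.isFinLocFreeOfRank_tensor_invertible hC hL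
    obtain ⟨c, hcdef⟩ : ∃ c : E₁ ⟶ CohB1.tensorMod (cokernel i₁) L,
        c = (i₁ ≫ φ) ≫ (tensR L).map (cokernel.π i₁) := ⟨_, rfl⟩
    rw [← hcdef] at hne
    obtain ⟨rK, rI, hK, hI, hrk, hIs, hdeg, hpos⟩ := VB.ker_im k X hX hE₁ hCL c
    have hrI := hpos hne
    haveI : Mono (Abelian.image.ι c) := inferInstance
    obtain ⟨I', j', hj', hI', hdI'⟩ := CV.exists_untwist k X hdim (G := cokernel i₁) hL hI
      (Abelian.image.ι c)
    have h2 := P2 I' rI j' hj' hrI hI'
    have hrI' : (0 : ℤ) < rI := by exact_mod_cast hrI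
    have hrk' : (r₁ : ℤ) = rK + rI := by exact_mod_cast hrk
    rcases Nat.eq_zero_or_pos rK with h0 | hK0
    · subst h0
      rw [deg_zero_of_isZero k X (VB.isZero_of_rank_zero hK), zero_add] at hdeg
      have hrr : (r₁ : ℤ) = rI := by simpa using hrk'
      rw [hdI', hdeg, hrr] at h2
      nlinarith [mul_nonneg (mul_nonneg hrI'.le hrI'.le) (neg_nonneg.2 hL0)]
    · have hK0' : (0 : ℤ) < rK := by exact_mod_cast hK0
      have h1 := P1 _ rK (kernel.ι c ≫ i₁) (mono_comp _ _) hK0 hK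
      rw [hdI'] at h2
      have e1 : Curv2.deg k X (kernel c) rK =
          Curv2.deg k X E₁ r₁ - Curv2.deg k X (Abelian.image c) rI := by linarith
      have e2 : (rK : ℤ) = r₁ - rI := by linarith
      rw [e1, e2] at h1
      have h6 : Curv2.deg k X E₁ r₁ * (rI : ℤ) ≤ Curv2.deg k X (Abelian.image c) rI * (r₁ : ℤ) := by
        linarith
      have h7 := mul_nonneg (mul_nonneg hrI'.le hr₁'.le) (neg_nonneg.2 hL0)
      have h8 : (Curv2.deg k X (Abelian.image c) rI - ↑rI * Curv2.deg k X L 1) * (r₁ : ℤ) =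
          Curv2.deg k X (Abelian.image c) rI * (r₁ : ℤ) + (rI : ℤ) * (r₁ : ℤ) * (-Curv2.deg k X L 1) := by
        ring
      rw [h8] at h2
      linarith
  have hχf : hSL.exact.lift (i₁ ≫ φ) hc ≫ (tensR L).map i₁ = i₁ ≫ φ := hSL.exact.lift_f _ hc
  have h3 := hss E₁ r₁ i₁ (hSL.exact.lift (i₁ ≫ φ) hc) hi₁ hr₁ hE₁ hχf
  intro G m j hj hm hG
  have h4 := P1 G m j hj hm hG
  have hm' : (0 : ℤ) < m := by exact_mod_cast hm
  have hr' : (0 : ℤ) < r := by exact_mod_cast hr
  have h5 : (Curv2.deg k X G m * (r : ℤ)) * (r₁ : ℤ) ≤ (Curv2.deg k X E r * (m : ℤ)) * (r₁ : ℤ) := by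
    nlinarith [mul_le_mul_of_nonneg_right h4 hr'.le, mul_le_mul_of_nonneg_right h3 hm'.le]
  exact le_of_mul_le_mul_right h5 hr₁'

/-- a nonzero map between semistable bundles forces the slope inequality -/
theorem slope_le_of_hom (hdim : topologicalKrullDim X = 1)
    (hX : ∀ x : X, ValuationRing (X.presheaf.stalk x)) {r s : ℕ} {E F : X.Modules}
    (hE : FlatMod.IsFinLocFreeOfRank r E) (hF : FlatMod.IsFinLocFreeOfRank s F)
    (hEss : ∀ (G : X.Modules) (n : ℕ) (j : G ⟶ E), Mono j → 0 < n → FlatMod.IsFinLocFreeOfRank n G →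
      Curv2.deg k X G n * (r : ℤ) ≤ Curv2.deg k X E r * (n : ℤ))
    (hFss : ∀ (G : X.Modules) (n : ℕ) (j : G ⟶ F), Mono j → 0 < n → FlatMod.IsFinLocFreeOfRank n G →
      Curv2.deg k X G n * (s : ℤ) ≤ Curv2.deg k X F s * (n : ℤ))
    (f : E ⟶ F) (hne : f ≠ 0) :
    Curv2.deg k X E r * (s : ℤ) ≤ Curv2.deg k X F s * (r : ℤ) := by
  obtain ⟨rK, rI, hK, hI, hrk, hIs, hdeg, hpos⟩ := VB.ker_im k X hX hE hF f
  have hrI := hpos hne
  have hrI' : (0 : ℤ) < rI := by exact_mod_cast hrI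
  have hrk' : (r : ℤ) = rK + rI := by exact_mod_cast hrk
  have h2 := hFss _ rI (Abelian.image.ι f) inferInstance hrI hI
  have h6 : Curv2.deg k X E r * (rI : ℤ) ≤ Curv2.deg k X (Abelian.image f) rI * (r : ℤ) := by
    rcases Nat.eq_zero_or_pos rK with h0 | hK0
    · subst h0
      rw [deg_zero_of_isZero k X (VB.isZero_of_rank_zero hK), zero_add] at hdeg
      have hrr : (r : ℤ) = rI := by simpa using hrk'
      rw [hdeg, hrr]
    · have h1 := hEss _ rK (kernel.ι f) inferInstance hK0 hK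
      have e1 : Curv2.deg k X (kernel f) rK =
          Curv2.deg k X E r - Curv2.deg k X (Abelian.image f) rI := by linarith
      have e2 : (rK : ℤ) = r - rI := by linarith
      rw [e1, e2] at h1
      linarith
  have h9 : (Curv2.deg k X E r * (s : ℤ)) * (rI : ℤ) ≤ (Curv2.deg k X F s * (r : ℤ)) * (rI : ℤ) := by
    have hs0 : (0 : ℤ) ≤ s := by positivity
    have hr0 : (0 : ℤ) ≤ r := by positivity
    nlinarith [mul_le_mul_of_nonneg_right h6 hs0, mul_le_mul_of_nonneg_right h2 hr0]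
  exact le_of_mul_le_mul_right h9 hrI'

/-- S16003: a semistable pair with nonzero Higgs field has `deg L ≥ 0` -/
theorem deg_nonneg_of_pair (hdim : topologicalKrullDim X = 1)
    (hX : ∀ x : X, ValuationRing (X.presheaf.stalk x)) {L : X.Modules} (hL : PicF.IsInvertible L)
    (r : ℕ) (hr : 0 < r) (E : X.Modules) (hE : FlatMod.IsFinLocFreeOfRank r E)
    (φ : E ⟶ CohB1.tensorMod E L)
    (hss : ∀ (G : X.Modules) (n : ℕ) (j : G ⟶ E) (χ : G ⟶ CohB1.tensorMod G L), Mono j → 0 < n →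
      FlatMod.IsFinLocFreeOfRank n G → χ ≫ (tensR L).map j = j ≫ φ →
      Curv2.deg k X G n * (r : ℤ) ≤ Curv2.deg k X E r * (n : ℤ))
    (hφ : φ ≠ 0) :
    0 ≤ Curv2.deg k X L 1 := by
  by_contra hneg
  rw [not_le] at hneg
  have hEss := semistable_of_pair k X hdim hX hL hneg.le r hr E hE φ hss
  have hELss := CV.semistable_twist k X hdim hE hL hEss
  have h := slope_le_of_hom k X hdim hX hE (VBQ.isFinLocFreeOfRank_tensor_invertible hE hL)
    hEss hELss φ hφ
  rw [CV.deg_twist k X hdim hE hL] at h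
  have hr' : (0 : ℤ) < r := by exact_mod_cast hr
  nlinarith [mul_pos hr' hr']

/-- S16002: morphisms of semistable tuples respect slopes -/
theorem slope_le_of_hom_tuples (hdim : topologicalKrullDim X = 1)
    (hX : ∀ x : X, ValuationRing (X.presheaf.stalk x))
    {ι : Type*} (L : ι → X.Modules) (hL : ∀ i, PicF.IsInvertible (L i))
    (r s : ℕ) (hr : 0 < r) (hs : 0 < s)
    (E F : X.Modules) (hE : FlatMod.IsFinLocFreeOfRank r E) (hF : FlatMod.IsFinLocFreeOfRank s F)
    (φ : ∀ i, E ⟶ (tensR (L i)).obj E) (ψ : ∀ i, F ⟶ (tensR (L i)).obj F)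
    (hEss : ∀ (G : X.Modules) (n : ℕ) (j : G ⟶ E), Mono j → 0 < n → FlatMod.IsFinLocFreeOfRank n G →
      (∀ i, ∃ χ : G ⟶ (tensR (L i)).obj G, χ ≫ (tensR (L i)).map j = j ≫ φ i) →
      Curv2.deg k X G n * (r : ℤ) ≤ Curv2.deg k X E r * (n : ℤ))
    (hFss : ∀ (G : X.Modules) (n : ℕ) (j : G ⟶ F), Mono j → 0 < n → FlatMod.IsFinLocFreeOfRank n G →
      (∀ i, ∃ χ : G ⟶ (tensR (L i)).obj G, χ ≫ (tensR (L i)).map j = j ≫ ψ i) →
      Curv2.deg k X G n * (s : ℤ) ≤ Curv2.deg k X F s * (n : ℤ))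
    (f : E ⟶ F) (hf : ∀ i, f ≫ ψ i = φ i ≫ (tensR (L i)).map f) (hne : f ≠ 0) :
    Curv2.deg k X E r * (s : ℤ) ≤ Curv2.deg k X F s * (r : ℤ) := by
  obtain ⟨rK, rI, hK, hI, hrk, hIs, hdeg, hpos⟩ := VB.ker_im k X hX hE hF f
  have hrI := hpos hne
  have hrI' : (0 : ℤ) < rI := by exact_mod_cast hrI
  have hrk' : (r : ℤ) = rK + rI := by exact_mod_cast hrk
  -- exactness of twisting
  have hB : ∀ i, HasBases (L i) := fun i =>
    hasBases_of_isFinLocFree (FinLen.isFinLocFree_of_rank (isFinLocFreeOfRank_one (hL i)))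
  have hTL := fun i => shortExact_map_tensR (hB i) (H1Ext.kerIm f) (H1Ext.kerIm_shortExact f)
  have hmono : ∀ i, Mono ((tensR (L i)).map (Abelian.image.ι f)) := fun i => by
    let S' : ShortComplex X.Modules := ShortComplex.mk (Abelian.image.ι f)
      (cokernel.π (Abelian.image.ι f)) (cokernel.condition _)
    have hS' : S'.ShortExact :=
      { exact := ShortComplex.exact_cokernel _
        mono_f := inferInstanceAs (Mono (Abelian.image.ι f))
        epi_g := inferInstanceAs (Epi (cokernel.π (Abelian.image.ι f))) }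
    exact (shortExact_map_tensR (hB i) S' hS').mono_f
  have hfac : ∀ i, (tensR (L i)).map (Abelian.factorThruImage f) ≫
      (tensR (L i)).map (Abelian.image.ι f) = (tensR (L i)).map f := fun i => by
    rw [← Functor.map_comp, Abelian.image.fac]
  -- the image is invariant
  have h2 := hFss _ rI (Abelian.image.ι f) inferInstance hrI hI (fun i => by
    haveI := hmono i
    have sq : CommSq (φ i ≫ (tensR (L i)).map (Abelian.factorThruImage f))
        (Abelian.factorThruImage f) ((tensR (L i)).map (Abelian.image.ι f))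
        (Abelian.image.ι f ≫ ψ i) := ⟨by
      rw [Category.assoc, hfac i, ← hf i, ← Category.assoc, Abelian.image.fac]⟩
    haveI : StrongEpi (Abelian.factorThruImage f) := strongEpi_of_epi _
    exact ⟨sq.lift, sq.fac_right⟩)
  have h6 : Curv2.deg k X E r * (rI : ℤ) ≤ Curv2.deg k X (Abelian.image f) rI * (r : ℤ) := by
    rcases Nat.eq_zero_or_pos rK with h0 | hK0
    · subst h0
      rw [deg_zero_of_isZero k X (VB.isZero_of_rank_zero hK), zero_add] at hdeg
      have hrr : (r : ℤ) = rI := by simpa using hrk'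
      rw [hdeg, hrr]
    · have h1 := hEss _ rK (kernel.ι f) inferInstance hK0 hK (fun i => by
        haveI := hmono i
        haveI := (hTL i).mono_f
        have hz : (kernel.ι f ≫ φ i) ≫ (tensR (L i)).map (Abelian.factorThruImage f) = 0 := by
          rw [← cancel_mono ((tensR (L i)).map (Abelian.image.ι f)), Category.assoc, Category.assoc,
            hfac i, ← hf i, ← Category.assoc, kernel.condition, zero_comp, zero_comp]
        exact ⟨(hTL i).exact.lift _ hz, (hTL i).exact.lift_f _ hz⟩)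
      have e1 : Curv2.deg k X (kernel f) rK =
          Curv2.deg k X E r - Curv2.deg k X (Abelian.image f) rI := by linarith
      have e2 : (rK : ℤ) = r - rI := by linarith
      rw [e1, e2] at h1
      linarith
  have h9 : (Curv2.deg k X E r * (s : ℤ)) * (rI : ℤ) ≤ (Curv2.deg k X F s * (r : ℤ)) * (rI : ℤ) := by
    have hs0 : (0 : ℤ) ≤ s := by positivity
    have hr0 : (0 : ℤ) ≤ r := by positivity
    nlinarith [mul_le_mul_of_nonneg_right h6 hs0, mul_le_mul_of_nonneg_right h2 hr0]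
  exact le_of_mul_le_mul_right h9 hrI'

end Main

end Groth.Agent.Lead.Higgs
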