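import Mathlib
import Groth.Agent.Lib.Lead.Higgs1
import Groth.Agent.Lib.Helper5.Perf.Pull
import Groth.Agent.Lib.Helper5.Stalk.FlatPull
import Groth.Agent.Lib.Helper1.P1Iso3

/-!
# Semistability can be tested on subbundles invariant under an automorphism (lead)
-/

set_option autoImplicit false
set_option backward.isDefEq.respectTransparency.types false
set_option synthInstance.maxHeartbeats 400000
set_option linter.style.haveILetI false
set_option linter.unusedSectionVars false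
set_option linter.unusedVariables false
universe u
open CategoryTheory CategoryTheory.Limits AlgebraicGeometry TopologicalSpace Opposite

namespace Groth.Agent.Lead.Inv

open Groth.Agent.Helper1.QcCech Groth.Agent.Helper1.SubSh Groth.Agent.Helper1.LGen
open Groth.Agent.Helper1.TmulLib Groth.Agent.Helper1 Groth.Agent.Helper1.TwForm
open Groth.Agent.Helper1.TensGen Groth.Agent.Lib.Helper4.TwExact Groth.Agent.Helper1.Dv
open Groth.Agent.Lib.Helper4 Groth.Agent.Helper1.CurveAmp Groth.Agent.Helper1.FinSupp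
open Groth.Agent.Helper1.Euler Groth.Agent.Helper1.Curve Groth.Agent.Helper1.CurveLin
open Groth.Agent.Helper1.CurveDual Groth.Agent.Lead.HN Groth.Agent.Lead.VBL
open Groth.Agent.Helper1.CurvePt Groth.Agent.Helper1.PtInv Groth.Agent.Helper1.ProjF

section Pull

variable {X Y : Scheme.{u}} (f : X ⟶ Y)

/-- the pullback of a finite locally free module of rank `n` has rank `n` -/
theorem isFinLocFreeOfRank_pullback (M : Y.Modules) {n : ℕ} (hM : FlatMod.IsFinLocFreeOfRank n M) :
    FlatMod.IsFinLocFreeOfRank n ((Scheme.Modules.pullback f).obj M) := by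
  intro x
  obtain ⟨V, hy, ⟨e⟩⟩ := hM (f x)
  refine ⟨f ⁻¹ᵁ V, hy, ⟨?_⟩⟩
  exact (Groth.Agent.Lib.Helper5.PerfPull.restrictPullbackIso f (f ∣_ V)
      (morphismRestrict_ι f V)).app M ≪≫
    (Scheme.Modules.pullback (f ∣_ V)).mapIso e ≪≫
    Groth.Agent.Lib.Helper5.PerfPull.pullbackFreeIso (f ∣_ V) n

end Pull

section Main

variable (k : Type u) [Field k] (X : Scheme.{u}) [X.Over (Spec (CommRingCat.of k))]
  [IsIntegral X] [IsProper (X ↘ Spec (CommRingCat.of k))]

/-- S15156 (core) -/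
theorem semistable_of_invariant_semistable (hdim : topologicalKrullDim X = 1)
    (hX : ∀ x : X, ValuationRing (X.presheaf.stalk x))
    (σ : X ⟶ X) [IsIso σ] (hσS : σ ≫ (X ↘ Spec (CommRingCat.of k)) = X ↘ Spec (CommRingCat.of k))
    (r : ℕ) (hr : 0 < r) (E : X.Modules) (hE : FlatMod.IsFinLocFreeOfRank r E)
    (φ : (Scheme.Modules.pullback σ).obj E ≅ E)
    (hA : ∀ (F : X.Modules) (r' : ℕ) (i : F ⟶ E), Mono i → 0 < r' → FlatMod.IsFinLocFreeOfRank r' F →
      (∃ j : (Scheme.Modules.pullback σ).obj F ⟶ F, j ≫ i = (Scheme.Modules.pullback σ).map i ≫ φ.hom) →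
      Curv2.deg k X F r' * (r : ℤ) ≤ Curv2.deg k X E r * (r' : ℤ)) :
    ∀ (F : X.Modules) (r' : ℕ) (i : F ⟶ E), Mono i → 0 < r' → FlatMod.IsFinLocFreeOfRank r' F →
      Curv2.deg k X F r' * (r : ℤ) ≤ Curv2.deg k X E r * (r' : ℤ) := by
  obtain ⟨E₁, r₁, i₁, hi₁, hr₁, hE₁, P1, P2⟩ := (existsUnique_maxDestab k X hdim hX r hr E hE).1
  haveI := hi₁
  obtain ⟨n, hC, hrn⟩ := Higgs.coker_locFree_of_maxSlope k X hdim hX hE hr₁ i₁ hE₁ P1
  have hr₁' : (0 : ℤ) < r₁ := by exact_mod_cast hr₁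
  -- the pulled back subbundle
  have hE₁' : FlatMod.IsFinLocFreeOfRank r₁ ((Scheme.Modules.pullback σ).obj E₁) :=
    isFinLocFreeOfRank_pullback σ E₁ hE₁
  have hdeg' : Curv2.deg k X ((Scheme.Modules.pullback σ).obj E₁) r₁ = Curv2.deg k X E₁ r₁ := by
    unfold Curv2.deg
    rw [P1Iso.euler_pullback_of_isIso k X X σ hσS E₁ (FinLen.isFinLocFree_of_rank hE₁)]
  haveI : Mono ((Scheme.Modules.pullback σ).map i₁) :=
    Groth.Agent.Lib.Helper5.StalkAdj.mono_pullback_map_of_flat σ i₁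
  haveI hm' : Mono ((Scheme.Modules.pullback σ).map i₁ ≫ φ.hom) := mono_comp _ _
  -- the composite to the cokernel vanishes
  have hd : ((Scheme.Modules.pullback σ).map i₁ ≫ φ.hom) ≫ cokernel.π i₁ = 0 := by
    by_contra hne
    obtain ⟨rK, rI, hK, hI, hrk, hIs, hdeg, hpos⟩ := VB.ker_im k X hX hE₁' hC
      (((Scheme.Modules.pullback σ).map i₁ ≫ φ.hom) ≫ cokernel.π i₁)
    have hrI := hpos hne
    have hrI' : (0 : ℤ) < rI := by exact_mod_cast hrI
    have hrk' : (r₁ : ℤ) = rK + rI := by exact_mod_cast hrk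
    have h2 := P2 _ rI (Abelian.image.ι _) inferInstance hrI hI
    rw [hdeg'] at hdeg
    rcases Nat.eq_zero_or_pos rK with h0 | hK0
    · subst h0
      rw [deg_zero_of_isZero k X (VB.isZero_of_rank_zero hK), zero_add] at hdeg
      have hrr : (r₁ : ℤ) = rI := by simpa using hrk'
      rw [← hdeg, hrr] at h2
      exact lt_irrefl _ h2
    · have h1 := P1 _ rK (kernel.ι (((Scheme.Modules.pullback σ).map i₁ ≫ φ.hom) ≫ cokernel.π i₁) ≫
        ((Scheme.Modules.pullback σ).map i₁ ≫ φ.hom)) (mono_comp _ _) hK0 hK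
      have e1 : Curv2.deg k X (kernel (((Scheme.Modules.pullback σ).map i₁ ≫ φ.hom) ≫
          cokernel.π i₁)) rK = Curv2.deg k X E₁ r₁ -
          Curv2.deg k X (Abelian.image (((Scheme.Modules.pullback σ).map i₁ ≫ φ.hom) ≫
            cokernel.π i₁)) rI := by linarith
      have e2 : (rK : ℤ) = r₁ - rI := by linarith
      rw [e1, e2] at h1
      linarith
  -- hence the pulled back subbundle maps into `E₁`
  let S : ShortComplex X.Modules := ShortComplex.mk i₁ (cokernel.π i₁) (cokernel.condition i₁)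
  have hS : S.ShortExact :=
    { exact := ShortComplex.exact_cokernel i₁
      mono_f := hi₁
      epi_g := inferInstanceAs (Epi (cokernel.π i₁)) }
  haveI := hS.mono_f
  have hj : hS.exact.lift _ hd ≫ i₁ = (Scheme.Modules.pullback σ).map i₁ ≫ φ.hom :=
    hS.exact.lift_f _ hd
  have h3 := hA E₁ r₁ i₁ hi₁ hr₁ hE₁ ⟨hS.exact.lift _ hd, hj⟩
  intro G m j hjm hm hG
  have h4 := P1 G m j hjm hm hG
  have hm' : (0 : ℤ) < m := by exact_mod_cast hm
  have hr' : (0 : ℤ) < r := by exact_mod_cast hr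
  have h5 : (Curv2.deg k X G m * (r : ℤ)) * (r₁ : ℤ) ≤ (Curv2.deg k X E r * (m : ℤ)) * (r₁ : ℤ) := by
    nlinarith [mul_le_mul_of_nonneg_right h4 hr'.le, mul_le_mul_of_nonneg_right h3 hm'.le]
  exact le_of_mul_le_mul_right h5 hr₁'

end Main

end Groth.Agent.Lead.Inv
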