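import Mathlib
import Groth.Prelude
import Groth.Agent.Lib.Helper7.SHens.Main
import Groth.Agent.Lib.Helper7.SHens.Noeth
import Groth.Agent.Lib.Helper7.SHens.Normal
import Groth.Agent.Lib.Helper8.HensGU5

/-!
# Etale local rings over a geometrically unibranch reduced local ring are domains
-/

set_option autoImplicit false
set_option backward.isDefEq.respectTransparency.types false
set_option synthInstance.maxHeartbeats 400000
set_option linter.style.haveILetI false
set_option linter.unusedSectionVars false

universe u

namespace Groth.Agent.Lead.GUnib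

open Groth.Agent.Helper7.SHens IsLocalRing

section Stage

variable {A : Type u} [CommRing A] {K : Type u} [Field K] [Algebra A K]

theorem locMap_mk' (U : Nbhd A K) (a : U.Ring) (s : U.q.primeCompl) :
    locMap U (IsLocalization.mk' U.Loc a s) * ι U s = ι U a := by
  rw [← locMap_algebraMap U s, ← map_mul, IsLocalization.mk'_spec, locMap_algebraMap]

theorem isLocalHom_locMap (U : Nbhd A K) : IsLocalHom (locMap U) := by
  constructor
  intro z hz
  obtain ⟨a, s, rfl⟩ := IsLocalization.exists_mk'_eq U.q.primeCompl z
  have h1 : IsUnit (ι U a) := by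
    rw [← locMap_mk' U a s]
    exact hz.mul (isUnit_ι_of_not_mem U s s.2)
  have h2 : a ∉ U.q := by
    intro ha
    have h3 : σ (ι U a) = 0 := by rw [σ_ι]; exact ha
    exact not_isUnit_of_σ_eq_zero A K h3 h1
  have h4 : IsUnit (algebraMap U.Ring U.Loc a) :=
    IsLocalization.map_units U.Loc (⟨a, h2⟩ : U.q.primeCompl)
  have h5 : IsLocalization.mk' U.Loc a s * algebraMap U.Ring U.Loc s = algebraMap U.Ring U.Loc a :=
    IsLocalization.mk'_spec _ _ _
  exact isUnit_of_mul_isUnit_left (h5 ▸ h4)

theorem locMap_injective (U : Nbhd A K) : Function.Injective (locMap U) := by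
  letI : Algebra U.Ring (G A K) := stageAlgebra U
  have hflat : Module.Flat U.Ring (G A K) := flat_stage U (fun _ => rfl)
  letI : Algebra U.Loc (G A K) := (locMap U).toAlgebra
  haveI : IsScalarTower U.Ring U.Loc (G A K) :=
    IsScalarTower.of_algebraMap_eq (fun x => (locMap_algebraMap U x).symm)
  have hflat' : Module.Flat U.Loc (G A K) :=
    (Module.flat_iff_of_isLocalization U.Loc U.q.primeCompl (G A K)).mpr hflat
  haveI : IsLocalHom (algebraMap U.Loc (G A K)) := isLocalHom_locMap U
  haveI := Module.FaithfullyFlat.of_flat_of_isLocalHom (A := U.Loc) (B := G A K)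
  exact FaithfulSMul.algebraMap_injective U.Loc (G A K)

theorem isDomain_loc_of_isDomain_G (U : Nbhd A K) [IsDomain (G A K)] : IsDomain U.Loc :=
  (locMap_injective U).isDomain (locMap U)

end Stage

section Main

variable (A : Type u) [CommRing A] [IsLocalRing A]

theorem isLocalHom_algebraMap_atPrime (E : Type u) [CommRing E] [Algebra A E] (Q : Ideal E)
    [Q.IsPrime] (hQ : Q.comap (algebraMap A E) = maximalIdeal A) :
    IsLocalHom (algebraMap A (Localization.AtPrime Q)) := by
  constructor
  intro a ha
  by_contra hna
  have h1 : a ∈ maximalIdeal A := (IsLocalRing.mem_maximalIdeal a).mpr hna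
  rw [← hQ, Ideal.mem_comap] at h1
  rw [IsScalarTower.algebraMap_apply A E (Localization.AtPrime Q)] at ha
  have h2 := (IsLocalization.AtPrime.isUnit_to_map_iff (Localization.AtPrime Q) Q _).mp ha
  exact h2 h1

/-- The local ring of an étale algebra over a reduced geometrically unibranch local ring at a
prime over the closed point is a domain. -/
theorem isDomain_localization_of_etale (hred : IsReduced A) (hgu : CAlg2.IsGeomUnibranch A)
    (E : Type u) [CommRing E] [Algebra A E] [Algebra.Etale A E] (Q : Ideal E) [Q.IsPrime]
    (hQ : Q.comap (algebraMap A E) = maximalIdeal A) : IsDomain (Localization.AtPrime Q) := by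
  let K := SeparableClosure (ResidueField A)
  haveI hSH : Hensel.IsStrictHenselization A (G A K) := isStrictHenselization_G A K
  haveI hdom : IsDomain (G A K) :=
    (Groth.Agent.Helper8.HensGU.reduced_and_isGeomUnibranch_iff_isDomain A (G A K)).mp ⟨hred, hgu⟩
  let EQ := Localization.AtPrime Q
  haveI : IsLocalHom (algebraMap A EQ) := isLocalHom_algebraMap_atPrime A E Q hQ
  haveI : Algebra.FormallyUnramified A EQ := Algebra.FormallyUnramified.comp A E EQ
  haveI : Algebra.EssFiniteType A EQ := Algebra.EssFiniteType.comp A E EQ
  haveI : Algebra.IsSeparable (ResidueField A) (ResidueField EQ) := inferInstance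
  let φ : ResidueField EQ →ₐ[ResidueField A] K := IsSepClosed.lift
  let secR : E →+* K := φ.toRingHom.comp ((residue EQ).comp (algebraMap E EQ))
  let sec : E →ₐ[A] K :=
    { secR with
      commutes' := by
        intro a
        change φ (residue EQ (algebraMap E EQ (algebraMap A E a))) = algebraMap A K a
        rw [← IsScalarTower.algebraMap_apply A E EQ,
          IsScalarTower.algebraMap_apply A (ResidueField A) K]
        have h1 : residue EQ (algebraMap A EQ a) =
            algebraMap (ResidueField A) (ResidueField EQ) (residue A a) := rfl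
        rw [h1, φ.commutes]
        rfl }
  have hker : ∀ x : E, sec x = 0 ↔ x ∈ Q := by
    intro x
    change φ (residue EQ (algebraMap E EQ x)) = 0 ↔ _
    rw [map_eq_zero_iff φ φ.toRingHom.injective, residue_eq_zero_iff,
      IsLocalization.AtPrime.to_map_mem_maximal_iff EQ Q]
  let U : Nbhd A K := Nbhd.of E sec
  let e : U.Ring ≃ₐ[A] E := Nbhd.ofEquiv E sec
  haveI : IsDomain U.Loc := isDomain_loc_of_isDomain_G U
  have H : Q.primeCompl.map (e.symm : E ≃+* U.Ring).toMonoidHom = U.q.primeCompl := by
    ext x
    simp only [Submonoid.mem_map, Ideal.mem_primeCompl_iff]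
    constructor
    · rintro ⟨y, hy, rfl⟩
      intro hx
      apply hy
      rw [← hker]
      have h2 := Nbhd.of_sec_apply E sec (e.symm y)
      rw [show (Nbhd.ofEquiv E sec) (e.symm y) = y from e.apply_symm_apply y] at h2
      rw [← h2]
      exact hx
    · intro hx
      refine ⟨e x, ?_, e.symm_apply_apply x⟩
      intro hy
      apply hx
      rw [← hker] at hy
      change U.sec x = 0
      rw [Nbhd.of_sec_apply E sec x]
      exact hy
  exact (IsLocalization.ringEquivOfRingEquiv (Localization.AtPrime Q) (Localization.AtPrime U.q)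
    (e.symm : E ≃+* U.Ring) H).toMulEquiv.isDomain _

end Main

end Groth.Agent.Lead.GUnib
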