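import Mathlib
import Groth.Prelude
import Groth.Agent.Lib.Lead.GUnib1

/-!
# Etale over a geometrically unibranch point: local rings are domains (global base)
-/

set_option autoImplicit false
set_option backward.isDefEq.respectTransparency.types false
set_option synthInstance.maxHeartbeats 400000
set_option linter.style.haveILetI false
set_option linter.unusedSectionVars false

universe u

namespace Groth.Agent.Lead.GUnib

open IsLocalRing TensorProduct

/-- A flat quasi-finite algebra over a domain is algebraic. -/
theorem isAlgebraic_of_quasiFinite_flat (A T : Type u) [CommRing A] [IsDomain A] [CommRing T]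
    [Algebra A T] [Algebra.QuasiFinite A T] [Module.Flat A T] : Algebra.IsAlgebraic A T := by
  constructor
  intro t
  let K := FractionRing A
  let F := K ⊗[A] T
  haveI : Module.Finite K F := Module.Finite.of_quasiFinite
  have h1 : IsIntegral K (Algebra.TensorProduct.includeRight (R := A) (A := K) (B := T) t) :=
    Algebra.IsIntegral.isIntegral _
  have h2 : IsAlgebraic A (Algebra.TensorProduct.includeRight (R := A) (A := K) (B := T) t) :=
    (IsFractionRing.isAlgebraic_iff A K F).mpr h1.isAlgebraic
  have hinj : Function.Injective (Algebra.TensorProduct.includeRight (R := A) (A := K) (B := T)) :=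
    Algebra.TensorProduct.includeRight_injective (IsFractionRing.injective A K)
  exact (isAlgebraic_algHom_iff _ hinj).mp h2

theorem exists_model {R : Type u} [CommRing R] (p : Ideal R) [p.IsPrime]
    [IsDomain (Localization.AtPrime p)]
    (hgu : CAlg2.IsGeomUnibranch (Localization.AtPrime p))
    (E : Type u) [CommRing E] [Algebra R E] [Algebra.Etale R E] (Q : Ideal E) [hQp : Q.IsPrime]
    (hQ : Q.comap (algebraMap R E) = p) :
    ∃ (T : Type u) (_ : CommRing T) (_ : Algebra E T) (_ : Algebra (Localization.AtPrime p) T)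
      (_ : Algebra R T) (_ : IsScalarTower R E T) (_ : IsScalarTower R (Localization.AtPrime p) T),
      IsLocalization.AtPrime T Q ∧ IsDomain T ∧ Algebra.IsAlgebraic (Localization.AtPrime p) T ∧
      Function.Injective (algebraMap (Localization.AtPrime p) T) := by
  let Ap := Localization.AtPrime p
  let Ep := Ap ⊗[R] E
  letI : Algebra E Ep := Algebra.TensorProduct.rightAlgebra
  haveI hloc : IsLocalization (Algebra.algebraMapSubmonoid E p.primeCompl) Ep :=
    IsLocalization.tensorRight Ap p.primeCompl
  have hdisj : Disjoint (Algebra.algebraMapSubmonoid E p.primeCompl : Set E) (Q : Set E) := by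
    rw [Set.disjoint_left]
    rintro x ⟨r, hr, rfl⟩ hx
    apply hr
    rw [← hQ]
    exact hx
  let Q₁ : Ideal Ep := Q.map (algebraMap E Ep)
  haveI hQ₁p : Q₁.IsPrime :=
    IsLocalization.isPrime_of_isPrime_disjoint _ Ep Q hQp hdisj
  have hcomap : Q₁.comap (algebraMap E Ep) = Q :=
    IsLocalization.comap_map_of_isPrime_disjoint _ Ep hQp hdisj
  have hQ₁ : Q₁.comap (algebraMap Ap Ep) = maximalIdeal Ap := by
    have h1 : (Q₁.comap (algebraMap Ap Ep)).comap (algebraMap R Ap) = p := by
      rw [Ideal.comap_comap, ← IsScalarTower.algebraMap_eq R Ap Ep,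
        IsScalarTower.algebraMap_eq R E Ep, ← Ideal.comap_comap, hcomap, hQ]
    have h2 : (maximalIdeal Ap).comap (algebraMap R Ap) = p :=
      IsLocalization.AtPrime.comap_maximalIdeal Ap p
    calc Q₁.comap (algebraMap Ap Ep)
        = ((Q₁.comap (algebraMap Ap Ep)).comap (algebraMap R Ap)).map (algebraMap R Ap) :=
          (IsLocalization.map_comap p.primeCompl Ap _).symm
      _ = p.map (algebraMap R Ap) := by rw [h1]
      _ = ((maximalIdeal Ap).comap (algebraMap R Ap)).map (algebraMap R Ap) := by rw [h2]
      _ = maximalIdeal Ap := IsLocalization.map_comap p.primeCompl Ap _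
  haveI hd := isDomain_localization_of_etale Ap inferInstance hgu Ep Q₁ hQ₁
  let T := Localization.AtPrime Q₁
  haveI : IsScalarTower E Ep T := inferInstance
  have h1 : IsLocalization.AtPrime T (Q₁.comap (algebraMap E Ep)) :=
    IsLocalization.isLocalization_isLocalization_atPrime_isLocalization
      (Algebra.algebraMapSubmonoid E p.primeCompl) T Q₁
  have h2 : IsLocalization Q.primeCompl T := by
    have : (Q₁.comap (algebraMap E Ep)).primeCompl = Q.primeCompl := by
      ext x
      simp only [Ideal.mem_primeCompl_iff]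
      rw [hcomap]
    rw [← this]
    exact h1
  haveI : Algebra.QuasiFinite Ap T := inferInstance
  haveI : Module.Flat Ap T := Module.Flat.trans Ap Ep T
  haveI hlh : IsLocalHom (algebraMap Ap T) := isLocalHom_algebraMap_atPrime Ap Ep Q₁ hQ₁
  have hinjT : Function.Injective (algebraMap Ap T) := by
    have hflat : @Module.Flat Ap T _ _ Algebra.toModule := Module.Flat.trans Ap Ep T
    have hff : @Module.FaithfullyFlat Ap T _ _ Algebra.toModule :=
      @Module.FaithfullyFlat.of_flat_of_isLocalHom Ap T _ _ _ _ _ hflat hlh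
    exact @FaithfulSMul.algebraMap_injective Ap T _ _ _
      (@Module.FaithfullyFlat.faithfulSMul Ap T _ _ _ hff)
  refine ⟨T, inferInstance, inferInstance, inferInstance, inferInstance, ?_, ?_, h2, hd,
    isAlgebraic_of_quasiFinite_flat Ap T, hinjT⟩
  · exact IsScalarTower.of_algebraMap_eq (fun r => by
      rw [IsScalarTower.algebraMap_apply R Ep T, IsScalarTower.algebraMap_apply R E Ep,
        ← IsScalarTower.algebraMap_apply E Ep T])
  · exact IsScalarTower.of_algebraMap_eq (fun r => by
      rw [IsScalarTower.algebraMap_apply R Ep T, IsScalarTower.algebraMap_apply R Ap Ep,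
        ← IsScalarTower.algebraMap_apply Ap Ep T])

theorem isDomain_atPrime_of_etale {R : Type u} [CommRing R] (p : Ideal R) [p.IsPrime]
    [IsDomain (Localization.AtPrime p)]
    (hgu : CAlg2.IsGeomUnibranch (Localization.AtPrime p))
    (E : Type u) [CommRing E] [Algebra R E] [Algebra.Etale R E] (Q : Ideal E) [hQp : Q.IsPrime]
    (hQ : Q.comap (algebraMap R E) = p) : IsDomain (Localization.AtPrime Q) := by
  obtain ⟨T, _, _, _, _, _, _, h2, hd, -, -⟩ := exists_model p hgu E Q hQ
  exact (IsLocalization.algEquiv Q.primeCompl (Localization.AtPrime Q) T).toMulEquiv.isDomain _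

/-- Key annihilation lemma: an ideal `I ≤ Q` of an étale algebra such that `R_p → (E/I)_Q` is
injective is locally zero at `Q`, when `R_p` is a geometrically unibranch domain. -/
theorem exists_mul_eq_zero_of_mem {R : Type u} [CommRing R] (p : Ideal R) [p.IsPrime]
    [IsDomain (Localization.AtPrime p)]
    (hgu : CAlg2.IsGeomUnibranch (Localization.AtPrime p))
    (E : Type u) [CommRing E] [Algebra R E] [Algebra.Etale R E] (Q : Ideal E) [hQp : Q.IsPrime]
    (hQ : Q.comap (algebraMap R E) = p) (I : Ideal E)
    (h : ∀ r : R, ∀ s : E, s ∉ Q → s * algebraMap R E r ∈ I → ∃ t : R, t ∉ p ∧ t * r = 0)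
    (x : E) (hx : x ∈ I) : ∃ s : E, s ∉ Q ∧ s * x = 0 := by
  obtain ⟨T, _, _, _, _, _, _, hloc, hd, halg, hinj⟩ := exists_model p hgu E Q hQ
  let Ap := Localization.AtPrime p
  by_cases hx0 : algebraMap E T x = 0
  · obtain ⟨s, hs⟩ := (IsLocalization.map_eq_zero_iff Q.primeCompl T x).mp hx0
    exact ⟨s.1, s.2, hs⟩
  exfalso
  have hmem : algebraMap E T x ∈ nonZeroDivisors T := mem_nonZeroDivisors_of_ne_zero hx0
  obtain ⟨r, hr0, w, hw⟩ := (halg.isAlgebraic (algebraMap E T x)).exists_nonzero_dvd hmem
  obtain ⟨r₀, t, rfl⟩ := IsLocalization.exists_mk'_eq p.primeCompl r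
  obtain ⟨e, s, rfl⟩ := IsLocalization.exists_mk'_eq Q.primeCompl w
  -- x̄ * mk' e s = algebraMap (mk' r₀ t)
  have h1 : algebraMap E T (x * e * algebraMap R E t) = algebraMap E T (algebraMap R E r₀ * s) := by
    have ha : algebraMap Ap T (IsLocalization.mk' Ap r₀ t) * algebraMap R T t = algebraMap R T r₀ := by
      rw [IsScalarTower.algebraMap_apply R Ap T, ← map_mul, IsLocalization.mk'_spec]
      exact (IsScalarTower.algebraMap_apply R Ap T r₀).symm
    have hb : IsLocalization.mk' T e s * algebraMap E T s = algebraMap E T e :=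
      IsLocalization.mk'_spec _ _ _
    rw [map_mul, map_mul, map_mul, ← IsScalarTower.algebraMap_apply R E T,
      ← IsScalarTower.algebraMap_apply R E T, ← ha, hw, ← hb]
    ring
  obtain ⟨s', hs'⟩ := (IsLocalization.eq_iff_exists Q.primeCompl T).mp h1
  have h2 : (s'.1 * s.1) * algebraMap R E r₀ ∈ I := by
    have : (s'.1 * s.1) * algebraMap R E r₀ = (s'.1 * e * algebraMap R E t) * x := by
      have := hs'
      calc (s'.1 * s.1) * algebraMap R E r₀ = s'.1 * (algebraMap R E r₀ * s.1) := by ring
        _ = s'.1 * (x * e * algebraMap R E t) := hs'.symm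
        _ = (s'.1 * e * algebraMap R E t) * x := by ring
    rw [this]
    exact I.mul_mem_left _ hx
  obtain ⟨t', ht', ht'0⟩ := h r₀ (s'.1 * s.1) (hQp.mul_notMem s'.2 s.2) h2
  apply hr0
  rw [IsLocalization.mk'_eq_zero_iff]
  exact ⟨⟨t', ht'⟩, ht'0⟩

end Groth.Agent.Lead.GUnib
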