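import Mathlib
import Groth.Prelude
import Groth.Agent.Lib.Lead.GUnib2

/-!
# Unramified + dominant over a geometrically unibranch point is étale (algebra)
-/

set_option autoImplicit false
set_option backward.isDefEq.respectTransparency.types false
set_option synthInstance.maxHeartbeats 400000
set_option linter.style.haveILetI false
set_option linter.unusedSectionVars false

universe u

namespace Groth.Agent.Lead.GUnib

open IsLocalRing TensorProduct

section Single

variable (A E : Type u) [CommRing A] [IsDomain A] [CommRing E] [Algebra A E] [Algebra.Etale A E]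
include A

theorem isReduced_of_etale_domain : IsReduced E := by
  let K := FractionRing A
  let F := K ⊗[A] E
  haveI : IsReduced F := Algebra.FormallyUnramified.isReduced_of_field K F
  have hinj : Function.Injective (Algebra.TensorProduct.includeRight (R := A) (A := K) (B := E)) :=
    Algebra.TensorProduct.includeRight_injective (IsFractionRing.injective A K)
  exact isReduced_of_injective _ hinj

theorem under_eq_bot_of_mem_minimalPrimes (q₀ : Ideal E) (hq₀ : q₀ ∈ minimalPrimes E) :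
    q₀.comap (algebraMap A E) = ⊥ := by
  haveI hq₀p : q₀.IsPrime := hq₀.1.1
  let P₀ := q₀.under A
  haveI : P₀.IsPrime := inferInstance
  haveI : q₀.LiesOver P₀ := ⟨rfl⟩
  haveI : (⊥ : Ideal A).IsPrime := Ideal.isPrime_bot
  obtain ⟨P, hPle, hPp, hPl⟩ :=
    Ideal.exists_ideal_le_liesOver_of_le (p := (⊥ : Ideal A)) (q := P₀) q₀ bot_le
  have hle : q₀ ≤ P := hq₀.2 ⟨hPp, bot_le⟩ hPle
  have : P = q₀ := le_antisymm hPle hle
  subst this
  exact (hPl.over).symm

theorem finite_minimalPrimes_of_etale_domain : (minimalPrimes E).Finite := by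
  refine (Algebra.QuasiFinite.finite_primesOver (R := A) (S := E) (⊥ : Ideal A)).subset ?_
  intro q₀ hq₀
  exact ⟨hq₀.1.1, ⟨(under_eq_bot_of_mem_minimalPrimes A E q₀ hq₀).symm⟩⟩

theorem exists_single_of_domain (Q : Ideal E) [hQ : Q.IsPrime] (I : Ideal E)
    (h : ∀ x ∈ I, ∃ s, s ∉ Q ∧ s * x = 0) :
    ∃ g, g ∉ Q ∧ ∀ x ∈ I, g * x = 0 := by
  classical
  haveI : IsReduced E := isReduced_of_etale_domain A E
  have hfin : (minimalPrimes E).Finite := finite_minimalPrimes_of_etale_domain A E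
  let T : Set (Ideal E) := {q₀ | q₀ ∈ minimalPrimes E ∧ ¬ q₀ ≤ Q}
  have hT : T.Finite := hfin.subset (fun q₀ h => h.1)
  have hch : ∀ q₀ : Ideal E, ∃ s : E, q₀ ∈ T → (s ∈ q₀ ∧ s ∉ Q) := by
    intro q₀
    by_cases hq : q₀ ∈ T
    · obtain ⟨s, hs, hsQ⟩ := Set.not_subset.mp hq.2
      exact ⟨s, fun _ => ⟨hs, hsQ⟩⟩
    · exact ⟨0, fun h => absurd h hq⟩
  choose sf hsf using hch
  refine ⟨∏ q₀ ∈ hT.toFinset, sf q₀, ?_, ?_⟩
  · rw [Ideal.IsPrime.prod_mem_iff]
    rintro ⟨q₀, hq₀, hmem⟩
    exact (hsf q₀ (hT.mem_toFinset.mp hq₀)).2 hmem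
  · intro x hx
    obtain ⟨s, hsQ, hsx⟩ := h x hx
    have hnil : (∏ q₀ ∈ hT.toFinset, sf q₀) * x ∈ nilradical E := by
      rw [nilradical, ← Ideal.sInf_minimalPrimes, Ideal.mem_sInf]
      intro q₀ hq₀
      haveI hq₀p : q₀.IsPrime := hq₀.1.1
      by_cases hle : q₀ ≤ Q
      · have h1 : s * x ∈ q₀ := by rw [hsx]; exact q₀.zero_mem
        rcases hq₀p.mem_or_mem h1 with h2 | h2
        · exact absurd (hle h2) hsQ
        · exact q₀.mul_mem_left _ h2
      · have hqT : q₀ ∈ T := ⟨hq₀, hle⟩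
        apply q₀.mul_mem_right
        obtain ⟨c, hc⟩ := Finset.dvd_prod_of_mem sf (hT.mem_toFinset.mpr hqT)
        rw [hc]
        exact q₀.mul_mem_right _ (hsf q₀ hqT).1
    exact (nilradical_eq_zero E ▸ hnil : _ ∈ (0 : Ideal E))

end Single

theorem exists_single_of_fg {E : Type u} [CommRing E] (Q : Ideal E) [hQ : Q.IsPrime] (I : Ideal E)
    (hI : I.FG) (h : ∀ x ∈ I, ∃ s, s ∉ Q ∧ s * x = 0) :
    ∃ g, g ∉ Q ∧ ∀ x ∈ I, g * x = 0 := by
  classical
  obtain ⟨S, rfl⟩ := hI
  have hch : ∀ x : E, ∃ s : E, x ∈ S → (s ∉ Q ∧ s * x = 0) := by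
    intro x
    by_cases hx : x ∈ S
    · obtain ⟨s, hs, hsx⟩ := h x (Ideal.subset_span hx)
      exact ⟨s, fun _ => ⟨hs, hsx⟩⟩
    · exact ⟨0, fun h => absurd h hx⟩
  choose sf hsf using hch
  refine ⟨∏ x ∈ S, sf x, ?_, ?_⟩
  · rw [Ideal.IsPrime.prod_mem_iff]
    rintro ⟨x, hx, hmem⟩
    exact (hsf x hx).1 hmem
  · intro y hy
    refine Submodule.span_induction ?_ ?_ ?_ ?_ hy
    · intro x hx
      obtain ⟨c, hc⟩ := Finset.dvd_prod_of_mem sf hx
      rw [hc, mul_comm (sf x) c, mul_assoc, (hsf x hx).2, mul_zero]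
    · exact mul_zero _
    · intro a b _ _ ha hb
      rw [mul_add, ha, hb, add_zero]
    · intro a b _ hb
      rw [smul_eq_mul, mul_left_comm, hb, mul_zero]

section LocalStructure

variable {R B : Type u} [CommRing R] [CommRing B] [Algebra R B]

theorem map_away_isPrime (q : Ideal B) [hq : q.IsPrime] (f₀ : B) (hf₀ : f₀ ∉ q) :
    (q.map (algebraMap B (Localization.Away f₀))).IsPrime ∧
      (q.map (algebraMap B (Localization.Away f₀))).comap (algebraMap B (Localization.Away f₀)) = q := by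
  have hdisj : Disjoint (Submonoid.powers f₀ : Set B) (q : Set B) :=
    (Ideal.disjoint_powers_iff_notMem_of_isPrime _).mpr hf₀
  exact ⟨IsLocalization.isPrime_of_isPrime_disjoint (.powers f₀) _ _ hq hdisj,
    IsLocalization.comap_map_of_isPrime_disjoint (.powers f₀) _ hq hdisj⟩

/-- Local structure plus annihilation. -/
theorem exists_surjection_ann (q : Ideal B) [hq : q.IsPrime] (p : Ideal R) [p.IsPrime] [q.LiesOver p]
    [IsDomain (Localization.AtPrime p)]
    (hA : CAlg2.IsGeomUnibranch (Localization.AtPrime p)) [Algebra.FiniteType R B]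
    [Algebra.IsUnramifiedAt R q]
    (hinj : Function.Injective (Localization.localRingHom p q (algebraMap R B) (q.over_def p))) :
    ∃ (f₀ : B) (_ : f₀ ∉ q) (P : StandardEtalePair R) (φ : P.Ring →ₐ[R] Localization.Away f₀),
      Function.Surjective φ ∧
      ∀ x ∈ RingHom.ker φ.toRingHom, ∃ s : P.Ring,
        s ∉ (q.map (algebraMap B (Localization.Away f₀))).comap φ.toRingHom ∧ s * x = 0 := by
  obtain ⟨f₀, hf₀, P, φ, hφ⟩ := Algebra.IsUnramifiedAt.exists_hasStandardEtaleSurjectionOn (R := R) q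
  refine ⟨f₀, hf₀, P, φ, hφ, ?_⟩
  let S' := Localization.Away f₀
  let q' : Ideal S' := q.map (algebraMap B S')
  obtain ⟨hq'p, hq'c⟩ := map_away_isPrime q f₀ hf₀
  haveI : q'.IsPrime := hq'p
  let Q' : Ideal P.Ring := q'.comap φ.toRingHom
  haveI : Q'.IsPrime := Ideal.IsPrime.comap _
  have hQ' : Q'.comap (algebraMap R P.Ring) = p := by
    have h1 : φ.toRingHom.comp (algebraMap R P.Ring) = algebraMap R S' := φ.comp_algebraMap
    change (q'.comap φ.toRingHom).comap (algebraMap R P.Ring) = p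
    rw [Ideal.comap_comap, h1, IsScalarTower.algebraMap_eq R B S', ← Ideal.comap_comap, hq'c]
    exact (q.over_def p).symm
  intro x hx
  refine exists_mul_eq_zero_of_mem p hA P.Ring Q' hQ' (RingHom.ker φ.toRingHom) ?_ x hx
  intro r s hs hsr
  have hs' : φ s ∉ q' := hs
  have hsr' : φ s * algebraMap R S' r = 0 := by
    have := hsr
    rw [RingHom.mem_ker, map_mul] at this
    rw [← this]
    congr 1
    exact (φ.commutes r).symm
  obtain ⟨⟨b, ⟨_, n, rfl⟩⟩, hb⟩ := IsLocalization.surj (Submonoid.powers f₀) (φ s)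
  simp only at hb
  have hbq : b ∉ q := by
    intro hbq
    have h1 : algebraMap B S' b ∈ q' := Ideal.mem_map_of_mem _ hbq
    rw [← hb] at h1
    rcases hq'p.mem_or_mem h1 with h2 | h2
    · exact hs' h2
    · have h3 : f₀ ^ n ∈ q := by rw [← hq'c]; exact h2
      exact hf₀ (hq.mem_of_pow_mem n h3)
  have h0 : algebraMap B S' (b * algebraMap R B r) = 0 := by
    rw [map_mul, ← hb, ← IsScalarTower.algebraMap_apply R B S', mul_right_comm, hsr', zero_mul]
  obtain ⟨⟨_, m, rfl⟩, hm⟩ := (IsLocalization.map_eq_zero_iff (Submonoid.powers f₀) S' _).mp h0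
  simp only at hm
  have hc : f₀ ^ m * b ∉ q := hq.mul_notMem (fun h => hf₀ (hq.mem_of_pow_mem m h)) hbq
  have h1 : algebraMap B (Localization.AtPrime q) (algebraMap R B r) = 0 := by
    rw [IsLocalization.map_eq_zero_iff q.primeCompl]
    exact ⟨⟨f₀ ^ m * b, hc⟩, by simpa [mul_assoc] using hm⟩
  have h2 : Localization.localRingHom p q (algebraMap R B) (q.over_def p)
      (algebraMap R (Localization.AtPrime p) r) = 0 := by
    rw [Localization.localRingHom_to_map]
    exact h1
  have h3 : algebraMap R (Localization.AtPrime p) r = 0 := by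
    apply hinj
    rw [h2, map_zero]
  obtain ⟨t, ht⟩ := (IsLocalization.map_eq_zero_iff p.primeCompl (Localization.AtPrime p) r).mp h3
  exact ⟨t.1, t.2, ht⟩

/-- From a single annihilating element to an étale localization. -/
theorem etale_away_of_single {f₀ : B} (q : Ideal B) [hq : q.IsPrime] (hf₀ : f₀ ∉ q)
    (E : Type u) [CommRing E] [Algebra R E] [Algebra.Etale R E]
    (φ : E →ₐ[R] Localization.Away f₀) (hφ : Function.Surjective φ) (g : E)
    (hg : g ∉ (q.map (algebraMap B (Localization.Away f₀))).comap φ.toRingHom)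
    (hgI : ∀ x ∈ RingHom.ker φ.toRingHom, g * x = 0) :
    ∃ g' : B, g' ∉ q ∧ Algebra.Etale R (Localization.Away g') := by
  let S' := Localization.Away f₀
  let q' : Ideal S' := q.map (algebraMap B S')
  obtain ⟨hq'p, hq'c⟩ := map_away_isPrime q f₀ hf₀
  have hg' : φ g ∉ q' := hg
  obtain ⟨⟨b, ⟨_, n, rfl⟩⟩, hb⟩ := IsLocalization.surj (Submonoid.powers f₀) (φ g)
  simp only at hb
  obtain ⟨c, hc⟩ := hφ (algebraMap B S' f₀)
  let g₂ : E := g * c ^ n
  have hφg₂ : φ g₂ = algebraMap B S' b := by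
    rw [map_mul, map_pow, hc, ← map_pow, hb]
  have hbq : b ∉ q := by
    intro hbq
    have h1 : algebraMap B S' b ∈ q' := Ideal.mem_map_of_mem _ hbq
    rw [← hb] at h1
    rcases hq'p.mem_or_mem h1 with h2 | h2
    · exact hg' h2
    · have h3 : f₀ ^ n ∈ q := by rw [← hq'c]; exact h2
      exact hf₀ (hq.mem_of_pow_mem n h3)
  have hg₂I : ∀ x ∈ RingHom.ker φ.toRingHom, g₂ * x = 0 := by
    intro x hx
    change g * c ^ n * x = 0
    rw [mul_right_comm, hgI x hx, zero_mul]
  let Eg := Localization.Away g₂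
  let Sb := Localization.Away (algebraMap B S' b)
  haveI hSb : IsLocalization.Away (φ g₂) Sb := by rw [hφg₂]; infer_instance
  let ψ : Eg →ₐ[R] Sb := IsLocalization.Away.mapₐ Eg Sb φ g₂
  have hψs : Function.Surjective ψ := IsLocalization.Away.mapₐ_surjective_of_surjective g₂ hφ
  have hψi : Function.Injective ψ := by
    rw [injective_iff_map_eq_zero]
    intro y hy
    obtain ⟨e, s, rfl⟩ := IsLocalization.exists_mk'_eq (Submonoid.powers g₂) y
    let s' : Submonoid.powers (φ g₂) := ⟨φ s.1, by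
          obtain ⟨k, hk⟩ := s.2
          exact ⟨k, by rw [← hk, map_pow]⟩⟩
    have h1 : ψ (IsLocalization.mk' Eg e s) = IsLocalization.mk' Sb (φ e) s' := by
      simp only [ψ, IsLocalization.Away.mapₐ_apply, IsLocalization.Away.map,
        IsLocalization.map_mk']
      rfl
    rw [h1] at hy
    obtain ⟨⟨_, j, rfl⟩, hj⟩ :=
      (IsLocalization.mk'_eq_zero_iff (M := Submonoid.powers (φ g₂)) (S := Sb) (φ e) s').mp hy
    simp only at hj
    have h2 : g₂ ^ j * e ∈ RingHom.ker φ.toRingHom := by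
      rw [RingHom.mem_ker, map_mul, map_pow]
      exact hj
    rw [IsLocalization.mk'_eq_zero_iff]
    refine ⟨⟨g₂ ^ (j + 1), j + 1, rfl⟩, ?_⟩
    change g₂ ^ (j + 1) * e = 0
    rw [pow_succ', mul_assoc]
    exact hg₂I _ h2
  haveI : Algebra.Etale R Eg := Algebra.Etale.comp R E Eg
  let eψ : Eg ≃ₐ[R] Sb := AlgEquiv.ofBijective ψ ⟨hψi, hψs⟩
  haveI : Algebra.Etale R Sb := Algebra.Etale.of_equiv eψ
  haveI : IsLocalization.Away (b * f₀) Sb := inferInstance
  let e2 : Sb ≃ₐ[B] Localization.Away (b * f₀) :=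
    IsLocalization.algEquiv (Submonoid.powers (b * f₀)) Sb (Localization.Away (b * f₀))
  refine ⟨b * f₀, hq.mul_notMem hbq hf₀, ?_⟩
  exact Algebra.Etale.of_equiv (e2.restrictScalars R)

end LocalStructure

theorem S2136_main {A B : Type u} [CommRing A] [IsDomain A] [CommRing B]
    [Algebra A B] (q : Ideal B) [q.IsPrime] (p : Ideal A) [p.IsPrime] [q.LiesOver p]
    (hA : CAlg2.IsGeomUnibranch (Localization.AtPrime p)) [Algebra.FiniteType A B]
    [Algebra.IsUnramifiedAt A q]
    (hinj : Function.Injective (Localization.localRingHom p q (algebraMap A B) (q.over_def p))) :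
    ∃ g : B, g ∉ q ∧ Algebra.Etale A (Localization.Away g) := by
  haveI : IsDomain (Localization.AtPrime p) :=
    IsLocalization.isDomain_localization p.primeCompl_le_nonZeroDivisors
  obtain ⟨f₀, hf₀, P, φ, hφ, hann⟩ := exists_surjection_ann q p hA hinj
  obtain ⟨hq'p, -⟩ := map_away_isPrime q f₀ hf₀
  haveI := hq'p
  haveI : ((q.map (algebraMap B (Localization.Away f₀))).comap φ.toRingHom).IsPrime :=
    Ideal.IsPrime.comap _
  obtain ⟨g, hg, hgI⟩ := exists_single_of_domain A P.Ring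
    ((q.map (algebraMap B (Localization.Away f₀))).comap φ.toRingHom)
    (RingHom.ker φ.toRingHom) hann
  exact etale_away_of_single q hf₀ P.Ring φ hφ g hg hgI

theorem exists_etale_away_of_fp {R B : Type u} [CommRing R] [CommRing B]
    [Algebra R B] (q : Ideal B) [q.IsPrime] (p : Ideal R) [p.IsPrime] [q.LiesOver p]
    [IsDomain (Localization.AtPrime p)]
    (hA : CAlg2.IsGeomUnibranch (Localization.AtPrime p)) [Algebra.FinitePresentation R B]
    [Algebra.IsUnramifiedAt R q]
    (hinj : Function.Injective (Localization.localRingHom p q (algebraMap R B) (q.over_def p))) :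
    ∃ g : B, g ∉ q ∧ Algebra.Etale R (Localization.Away g) := by
  obtain ⟨f₀, hf₀, P, φ, hφ, hann⟩ := exists_surjection_ann q p hA hinj
  obtain ⟨hq'p, -⟩ := map_away_isPrime q f₀ hf₀
  haveI := hq'p
  haveI : ((q.map (algebraMap B (Localization.Away f₀))).comap φ.toRingHom).IsPrime :=
    Ideal.IsPrime.comap _
  haveI : Algebra.FinitePresentation R (Localization.Away f₀) :=
    Algebra.FinitePresentation.trans R B (Localization.Away f₀)
  have hfg : (RingHom.ker φ.toRingHom).FG :=
    Algebra.FinitePresentation.ker_fG_of_surjective φ hφ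
  obtain ⟨g, hg, hgI⟩ := exists_single_of_fg
    ((q.map (algebraMap B (Localization.Away f₀))).comap φ.toRingHom)
    (RingHom.ker φ.toRingHom) hfg hann
  exact etale_away_of_single q hf₀ P.Ring φ hφ g hg hgI

end Groth.Agent.Lead.GUnib
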