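import Mathlib
import Groth.Prelude
import Groth.Agent.Lib.Lead.GUnib3
import Groth.Agent.Lib.Helper4.ChevCrit4

/-!
# Unramified + dominant over a geometrically unibranch point is étale (schemes)
-/

set_option autoImplicit false
set_option backward.isDefEq.respectTransparency.types false
set_option synthInstance.maxHeartbeats 400000
set_option linter.style.haveILetI false
set_option linter.unusedSectionVars false

universe u

open AlgebraicGeometry CategoryTheory

namespace Groth.Agent.Lead.GUnib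

section Bridge

variable {X Y : Scheme.{u}}

/-- If `P` holds for `U₀.ι ≫ f`, then `Q` holds for `f.appLE V W` whenever `W ≤ U₀`. -/
theorem appLE_of_restrict {P : MorphismProperty Scheme.{u}}
    {Q : ∀ {R S : Type u} [CommRing R] [CommRing S], (R →+* S) → Prop}
    [HasRingHomProperty P Q] (f : X ⟶ Y) (U₀ : X.Opens) (h : P (U₀.ι ≫ f))
    {V : Y.Opens} (hV : IsAffineOpen V) {W : X.Opens} (hW : IsAffineOpen W) (hWU : W ≤ U₀)
    (e : W ≤ f ⁻¹ᵁ V) : Q (f.appLE V W e).hom := by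
  have h1 : P ((X.homOfLE hWU) ≫ U₀.ι ≫ f) :=
    HasRingHomProperty.comp_of_isOpenImmersion P (X.homOfLE hWU) (U₀.ι ≫ f) h
  rw [Scheme.homOfLE_ι_assoc] at h1
  haveI : IsAffine W.toScheme := hW
  have e' : (⊤ : W.toScheme.Opens) ≤ (W.ι ≫ f) ⁻¹ᵁ V := by
    intro z _
    exact e z.2
  have h2 := HasRingHomProperty.appLE P (W.ι ≫ f) h1 ⟨V, hV⟩ ⟨⊤, isAffineOpen_top _⟩ e'
  have h3 : (W.ι ≫ f).appLE V ⊤ e' = f.appLE V W e ≫ W.ι.appLE W ⊤ W.ι_preimage_self.ge := by
    rw [Scheme.Hom.appLE_comp_appLE]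
  have h4 : IsIso (W.ι.appLE W ⊤ W.ι_preimage_self.ge) := inferInstance
  rw [h3, CommRingCat.hom_comp] at h2
  exact ((HasRingHomProperty.isLocal_ringHomProperty P).respectsIso.cancel_right_isIso _ _).mp h2

/-- If `f.appLE V W` is étale then `W.ι ≫ f` is étale. -/
theorem etale_ι_comp_of_appLE (f : X ⟶ Y) {V : Y.Opens} (hV : IsAffineOpen V) {W : X.Opens}
    (hW : IsAffineOpen W) (e : W ≤ f ⁻¹ᵁ V) (h : (f.appLE V W e).hom.Etale) :
    Etale (W.ι ≫ f) := by
  haveI : IsAffine W.toScheme := hW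
  haveI : IsAffine V.toScheme := hV
  have h1 : Etale (f.resLE V W e) := by
    have h0 : (f.resLE V W e).appTop = V.topIso.hom ≫ f.appLE V W e ≫ W.topIso.inv :=
      Scheme.Hom.resLE_app_top f e
    rw [HasRingHomProperty.iff_of_isAffine (P := @Etale), h0, CommRingCat.hom_comp,
      RingHom.Etale.propertyIsLocal.respectsIso.cancel_left_isIso, CommRingCat.hom_comp,
      RingHom.Etale.propertyIsLocal.respectsIso.cancel_right_isIso]
    exact h
  have h2 : W.ι ≫ f = f.resLE V W e ≫ V.ι := (Scheme.Hom.resLE_comp_ι f e).symm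
  rw [h2]
  infer_instance

end Bridge

section Main

variable {X Y : Scheme.{u}}

/-- Geometric unibranchness of the stalk transfers to the localization of sections. -/
theorem isGeomUnibranch_atPrime_of_stalk {V : Y.Opens} (hV : IsAffineOpen V) (y : Y) (hy : y ∈ V)
    (h : CAlg2.IsGeomUnibranch (Y.presheaf.stalk y)) :
    CAlg2.IsGeomUnibranch (Localization.AtPrime (hV.primeIdealOf ⟨y, hy⟩).asIdeal) := by
  letI := Y.presheaf.algebra_section_stalk ⟨y, hy⟩
  haveI := hV.isLocalization_stalk ⟨y, hy⟩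
  exact Groth.Agent.Lib.Helper4.ChevCrit4.isGeomUnibranch_of_ringEquiv
    (IsLocalization.algEquiv (hV.primeIdealOf ⟨y, hy⟩).asIdeal.primeCompl
      (Y.presheaf.stalk y) (Localization.AtPrime (hV.primeIdealOf ⟨y, hy⟩).asIdeal)).toRingEquiv h

theorem primeIdealOf_le_of_specializes {W : X.Opens} (hW : IsAffineOpen W) {x x' : X}
    (hx : x ∈ W) (hx' : x' ∈ W) (h : x' ⤳ x) :
    (hW.primeIdealOf ⟨x', hx'⟩).asIdeal ≤ (hW.primeIdealOf ⟨x, hx⟩).asIdeal := by
  rw [PrimeSpectrum.asIdeal_le_asIdeal, PrimeSpectrum.le_iff_specializes]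
  have h1 := (hW.fromSpec.isOpenEmbedding.isInducing.specializes_iff
    (x := hW.primeIdealOf ⟨x', hx'⟩) (y := hW.primeIdealOf ⟨x, hx⟩)).mp
    (by rw [hW.fromSpec_primeIdealOf, hW.fromSpec_primeIdealOf]; exact h)
  exact h1

/-- From an étale localization of sections to an étale open neighbourhood. -/
theorem exists_etale_nhd_of_away (f : X ⟶ Y) {V : Y.Opens} (hV : IsAffineOpen V) {W : X.Opens}
    (hW : IsAffineOpen W) (e : W ≤ f ⁻¹ᵁ V) (x : X) (hxW : x ∈ W) (g : Γ(X, W))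
    (hg : g ∉ (hW.primeIdealOf ⟨x, hxW⟩).asIdeal)
    (hget : letI := (f.appLE V W e).hom.toAlgebra; Algebra.Etale Γ(Y, V) (Localization.Away g)) :
    ∃ U : X.Opens, x ∈ U ∧ Etale (U.ι ≫ f) := by
  algebraize [(f.appLE V W e).hom]
  refine ⟨X.basicOpen g, ?_, ?_⟩
  · have h1 : hW.primeIdealOf ⟨x, hxW⟩ ∈ hW.fromSpec ⁻¹ᵁ X.basicOpen g := by
      rw [hW.fromSpec_preimage_basicOpen]
      exact hg
    change hW.fromSpec _ ∈ X.basicOpen g at h1
    rwa [hW.fromSpec_primeIdealOf] at h1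
  · apply etale_ι_comp_of_appLE f hV (hW.basicOpen g) ((X.basicOpen_le g).trans e)
    have := hW.isLocalization_basicOpen g
    have hr : (algebraMap Γ(Y, V) (Localization.Away g)).Etale :=
      RingHom.etale_algebraMap.mpr hget
    convert!
      RingHom.Etale.propertyIsLocal.respectsIso.1 _
        (IsLocalization.algEquiv (.powers g) _ Γ(X, X.basicOpen g)).toRingEquiv hr
    ext a
    dsimp
    rw [IsScalarTower.algebraMap_apply Γ(Y, V) Γ(X, W) (Localization _)]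
    have h1 := (IsLocalization.algEquiv (Submonoid.powers g) (Localization.Away g)
      Γ(X, X.basicOpen g)).commutes (algebraMap Γ(Y, V) Γ(X, W) a)
    refine Eq.trans ?_ h1.symm
    simp only [RingHom.algebraMap_toAlgebra, ← ConcreteCategory.comp_apply,
      Scheme.Hom.appLE_map]

theorem S1451_main (f : X ⟶ Y) [IsIntegral Y] [LocallyOfFiniteType f] (x : X)
    (hY : CAlg2.IsGeomUnibranch (Y.presheaf.stalk (f x)))
    (hsp : ∃ x' : X, x' ⤳ x ∧ f x' = genericPoint ↑Y)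
    (hunr : ∃ U : X.Opens, x ∈ U ∧ FormallyUnramified (U.ι ≫ f)) :
    ∃ U : X.Opens, x ∈ U ∧ Etale (U.ι ≫ f) := by
  obtain ⟨U₀, hxU₀, hU₀⟩ := hunr
  obtain ⟨x', hx'x, hx'η⟩ := hsp
  obtain ⟨_, ⟨V, hV, rfl⟩, hxV, -⟩ :=
    Y.isBasis_affineOpens.exists_subset_of_mem_open (Set.mem_univ (f x)) isOpen_univ
  obtain ⟨_, ⟨W, hW, rfl⟩, hxW, hWle⟩ :=
    X.isBasis_affineOpens.exists_subset_of_mem_open
      (show x ∈ ((f ⁻¹ᵁ V ⊓ U₀ : X.Opens) : Set X) from ⟨hxV, hxU₀⟩) (f ⁻¹ᵁ V ⊓ U₀).2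
  have e : W ≤ f ⁻¹ᵁ V := fun z hz => (hWle hz).1
  have hWU : W ≤ U₀ := fun z hz => (hWle hz).2
  have hft := f.finiteType_appLE hV hW e
  have hunr : (f.appLE V W e).hom.FormallyUnramified :=
    appLE_of_restrict (P := @FormallyUnramified) f U₀ hU₀ hV hW hWU e
  algebraize [(f.appLE V W e).hom]
  let q := (hW.primeIdealOf ⟨x, hxW⟩).asIdeal
  let p := (hV.primeIdealOf ⟨f x, hxV⟩).asIdeal
  haveI : q.LiesOver p :=
    ⟨congr($(IsAffineOpen.comap_primeIdealOf_appLE V hV W hW e hxW).1).symm⟩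
  haveI : Nonempty V := ⟨⟨f x, hxV⟩⟩
  haveI : IsDomain Γ(Y, V) := inferInstance
  have hgu : CAlg2.IsGeomUnibranch (Localization.AtPrime p) :=
    isGeomUnibranch_atPrime_of_stalk hV (f x) hxV hY
  have hx'W : x' ∈ W := hx'x.mem_open W.2 hxW
  let q₀ := (hW.primeIdealOf ⟨x', hx'W⟩).asIdeal
  have hq₀q : q₀ ≤ q := primeIdealOf_le_of_specializes hW hxW hx'W hx'x
  have hq₀ : q₀.comap (algebraMap Γ(Y, V) Γ(X, W)) = ⊥ := by
    have h1 := congr($(IsAffineOpen.comap_primeIdealOf_appLE V hV W hW e hx'W).1)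
    change q₀.comap (f.appLE V W e).hom = _ at h1
    have h2 : (hV.primeIdealOf ⟨f x', e hx'W⟩) = ⊥ := by
      have h3 : (⟨f x', e hx'W⟩ : V) = ⟨genericPoint Y, hx'η ▸ e hx'W⟩ := Subtype.ext hx'η
      rw [h3, hV.primeIdealOf_genericPoint, genericPoint_eq_bot_of_affine]
    rw [h2] at h1
    exact h1
  have hinj : Function.Injective (Localization.localRingHom p q
      (algebraMap Γ(Y, V) Γ(X, W)) (q.over_def p)) := by
    rw [injective_iff_map_eq_zero]
    intro a ha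
    obtain ⟨r, t, rfl⟩ := IsLocalization.exists_mk'_eq p.primeCompl a
    rw [Localization.localRingHom_mk', IsLocalization.mk'_eq_zero_iff] at ha
    obtain ⟨s, hs⟩ := ha
    have h1 : algebraMap Γ(Y, V) Γ(X, W) r ∈ q₀ := by
      have h2 : (s : Γ(X, W)) * algebraMap Γ(Y, V) Γ(X, W) r ∈ q₀ := by rw [hs]; exact q₀.zero_mem
      rcases (inferInstance : q₀.IsPrime).mem_or_mem h2 with h3 | h3
      · exact absurd (hq₀q h3) s.2
      · exact h3
    have h2 : r ∈ q₀.comap (algebraMap Γ(Y, V) Γ(X, W)) := h1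
    rw [hq₀, Ideal.mem_bot] at h2
    rw [h2, IsLocalization.mk'_zero]
  obtain ⟨g, hgq, hget⟩ := S2136_main q p hgu hinj
  exact exists_etale_nhd_of_away f hV hW e x hxW g hgq hget

end Main

end Groth.Agent.Lead.GUnib
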