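import Mathlib
import Groth.Prelude
import Groth.Agent.Lib.Lead.GUnib4
import Groth.Agent.Lib.Helper2.EtaleLocal

/-!
# Etale at a point from étaleness of a composite, over a geometrically unibranch point
-/

set_option autoImplicit false
set_option backward.isDefEq.respectTransparency.types false
set_option synthInstance.maxHeartbeats 400000
set_option linter.style.haveILetI false
set_option linter.unusedSectionVars false

universe u

open AlgebraicGeometry CategoryTheory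

namespace Groth.Agent.Lead.GUnib

variable {X Y : Scheme.{u}}

/-- Etale on an open of an open subscheme pushes forward. -/
theorem etale_image_ι (f : X ⟶ Y) (U : X.Opens) (U'' : U.toScheme.Opens)
    (h : Etale (U''.ι ≫ U.ι ≫ f)) : Etale ((U.ι ''ᵁ U'').ι ≫ f) := by
  have h1 : (U.ι ''ᵁ U'').ι ≫ f = (U.ι.isoImage U'').inv ≫ U''.ι ≫ U.ι ≫ f := by
    rw [← Scheme.Hom.isoImage_inv_ι U.ι U'']
    simp only [Category.assoc]
  rw [h1]
  infer_instance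

theorem etale_ι_of_le (f : X ⟶ Y) {U₁ U : X.Opens} (hle : U₁ ≤ U) (h : Etale (U.ι ≫ f)) :
    Etale (U₁.ι ≫ f) := by
  rw [← Scheme.homOfLE_ι_assoc X hle]
  infer_instance

theorem S1451_local (f : X ⟶ Y) [IsIntegral Y] (x : X)
    (hY : CAlg2.IsGeomUnibranch (Y.presheaf.stalk (f x)))
    (hsp : ∃ x' : X, x' ⤳ x ∧ f x' = genericPoint ↑Y)
    (hunr : ∃ U : X.Opens, x ∈ U ∧ FormallyUnramified (U.ι ≫ f) ∧ LocallyOfFiniteType (U.ι ≫ f)) :
    ∃ U : X.Opens, x ∈ U ∧ Etale (U.ι ≫ f) := by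
  obtain ⟨U, hxU, hunr, hlft⟩ := hunr
  obtain ⟨x', hx'x, hx'η⟩ := hsp
  have hx'U : x' ∈ U := hx'x.mem_open U.2 hxU
  have hsp' : ∃ x'' : U.toScheme, x'' ⤳ (⟨x, hxU⟩ : U.toScheme) ∧
      (U.ι ≫ f) x'' = genericPoint ↑Y := by
    refine ⟨⟨x', hx'U⟩, ?_, hx'η⟩
    exact (U.ι.isOpenEmbedding.isInducing.specializes_iff
      (x := (⟨x', hx'U⟩ : U.toScheme)) (y := (⟨x, hxU⟩ : U.toScheme))).mp hx'x
  have hY' : CAlg2.IsGeomUnibranch (Y.presheaf.stalk ((U.ι ≫ f) (⟨x, hxU⟩ : U.toScheme))) := hY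
  haveI := hunr
  haveI := hlft
  obtain ⟨U'', hxU'', hU''⟩ := S1451_main (U.ι ≫ f) (⟨x, hxU⟩ : U.toScheme) hY' hsp'
    ⟨⊤, trivial, HasRingHomProperty.comp_of_isOpenImmersion @FormallyUnramified
      (⊤ : U.toScheme.Opens).ι (U.ι ≫ f) hunr⟩
  exact ⟨U.ι ''ᵁ U'', ⟨⟨x, hxU⟩, hxU'', rfl⟩, etale_image_ι f U U'' hU''⟩

theorem S1452_main {Z : Scheme.{u}} (f : X ⟶ Y) (g : Y ⟶ Z) [IsIntegral Y] (x : X)
    (hY : CAlg2.IsGeomUnibranch (Y.presheaf.stalk (f x)))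
    (het : ∃ U : X.Opens, x ∈ U ∧ Etale (U.ι ≫ f ≫ g))
    (hsp : ∃ x' : X, x' ⤳ x ∧ f x' = genericPoint ↑Y) :
    (∃ U : X.Opens, x ∈ U ∧ Etale (U.ι ≫ f)) ∧ ∃ V : Y.Opens, f x ∈ V ∧ Etale (V.ι ≫ g) := by
  obtain ⟨U, hxU, hU⟩ := het
  haveI h1 : Etale ((U.ι ≫ f) ≫ g) := by rwa [Category.assoc]
  have hunr : FormallyUnramified (U.ι ≫ f) := FormallyUnramified.of_comp (U.ι ≫ f) g
  have hlft : LocallyOfFiniteType (U.ι ≫ f) := locallyOfFiniteType_of_comp (U.ι ≫ f) g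
  obtain ⟨U₁', hxU₁', hU₁'⟩ := S1451_local f x hY hsp ⟨U, hxU, hunr, hlft⟩
  refine ⟨⟨U₁', hxU₁', hU₁'⟩, ?_⟩
  let U₁ : X.Opens := U₁' ⊓ U
  haveI hU₁f : Etale (U₁.ι ≫ f) := etale_ι_of_le f inf_le_left hU₁'
  have hU₁fg : Etale (U₁.ι ≫ f ≫ g) := etale_ι_of_le (f ≫ g) inf_le_right hU
  let j : U₁.toScheme ⟶ Y := U₁.ι ≫ f
  let V : Y.Opens := ⟨Set.range j, j.isOpenMap.isOpen_range⟩
  have hsub : Set.range j ⊆ Set.range V.ι := by
    rw [Scheme.Opens.range_ι]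
    exact subset_rfl
  let q : U₁.toScheme ⟶ V.toScheme := IsOpenImmersion.lift V.ι j hsub
  have hq : q ≫ V.ι = j := IsOpenImmersion.lift_fac _ _ _
  haveI hqe : Etale q := by
    have h1 : Etale (q ≫ V.ι) := by rw [hq]; exact hU₁f
    exact MorphismProperty.of_postcomp (W := @Etale) (W' := @Etale) q V.ι inferInstance h1
  haveI hqs : Surjective q := by
    constructor
    rintro ⟨y, u, rfl⟩
    refine ⟨u, ?_⟩
    apply V.ι.injective
    rw [← Scheme.Hom.comp_apply, hq]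
    rfl
  have h2 : Etale (q ≫ V.ι ≫ g) := by
    rw [← Category.assoc, hq]
    change Etale ((U₁.ι ≫ f) ≫ g)
    rwa [Category.assoc]
  refine ⟨V, ⟨⟨x, ⟨hxU₁', hxU⟩⟩, rfl⟩, ?_⟩
  exact Groth.Agent.Helper2.EtaleLocal.etale_of_comp_etale_surjective q _ h2

end Groth.Agent.Lead.GUnib
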