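import Mathlib
import Groth.Prelude
import Groth.Agent.Lib.Lead.GUnib5

/-!
# Etale neighbourhood iff unramified + injective stalk map, over a geometrically unibranch point
-/

set_option autoImplicit false
set_option backward.isDefEq.respectTransparency.types false
set_option synthInstance.maxHeartbeats 400000
set_option linter.style.haveILetI false
set_option linter.unusedSectionVars false

universe u

open AlgebraicGeometry CategoryTheory

namespace Groth.Agent.Lead.GUnib

variable {X Y : Scheme.{u}}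

theorem stalkMap_injective_of_flat_nhd (f : X ⟶ Y) (x : X) (U : X.Opens) (hxU : x ∈ U)
    [Flat (U.ι ≫ f)] : Function.Injective (f.stalkMap x) := by
  let xU : U.toScheme := ⟨x, hxU⟩
  have h1 : ((U.ι ≫ f).stalkMap xU).hom.Flat := Flat.stalkMap (U.ι ≫ f) xU
  have h2 : Function.Injective ((U.ι ≫ f).stalkMap xU).hom := by
    algebraize [((U.ι ≫ f).stalkMap xU).hom]
    haveI : IsLocalHom (algebraMap (Y.presheaf.stalk ((U.ι ≫ f) xU)) (U.toScheme.presheaf.stalk xU)) :=
      inferInstanceAs (IsLocalHom ((U.ι ≫ f).stalkMap xU).hom)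
    haveI := Module.FaithfullyFlat.of_flat_of_isLocalHom
      (A := Y.presheaf.stalk ((U.ι ≫ f) xU)) (B := U.toScheme.presheaf.stalk xU)
    exact FaithfulSMul.algebraMap_injective _ _
  have h3 : (U.ι ≫ f).stalkMap xU = f.stalkMap (U.ι xU) ≫ U.ι.stalkMap xU :=
    Scheme.Hom.stalkMap_comp U.ι f xU
  have h5 : ∀ a, ((U.ι ≫ f).stalkMap xU).hom a =
      (U.ι.stalkMap xU).hom ((f.stalkMap (U.ι xU)).hom a) :=
    fun a => congrArg (fun φ => (CommRingCat.Hom.hom φ) a) h3
  intro a b hab
  apply h2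
  rw [h5, h5]
  exact congrArg _ hab

theorem S2753_main (f : X ⟶ Y) [LocallyOfFinitePresentation f] (x : X)
    (hY : IsDomain (Y.presheaf.stalk (f.base x)))
    (hY' : CAlg2.IsGeomUnibranch (Y.presheaf.stalk (f.base x))) :
    (∃ U : X.Opens, x ∈ U ∧ Etale (U.ι ≫ f)) ↔
      (∃ U : X.Opens, x ∈ U ∧ FormallyUnramified (U.ι ≫ f)) ∧
        Function.Injective (f.stalkMap x) := by
  constructor
  · rintro ⟨U, hxU, hU⟩
    haveI := hU
    exact ⟨⟨U, hxU, inferInstance⟩, stalkMap_injective_of_flat_nhd f x U hxU⟩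
  · rintro ⟨⟨U₀, hxU₀, hU₀⟩, hinjs⟩
    obtain ⟨_, ⟨V, hV, rfl⟩, hxV, -⟩ :=
      Y.isBasis_affineOpens.exists_subset_of_mem_open (Set.mem_univ (f x)) isOpen_univ
    obtain ⟨_, ⟨W, hW, rfl⟩, hxW, hWle⟩ :=
      X.isBasis_affineOpens.exists_subset_of_mem_open
        (show x ∈ ((f ⁻¹ᵁ V ⊓ U₀ : X.Opens) : Set X) from ⟨hxV, hxU₀⟩) (f ⁻¹ᵁ V ⊓ U₀).2
    have e : W ≤ f ⁻¹ᵁ V := fun z hz => (hWle hz).1
    have hWU : W ≤ U₀ := fun z hz => (hWle hz).2
    have hfp := f.finitePresentation_appLE hV hW e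
    have hunr : (f.appLE V W e).hom.FormallyUnramified :=
      appLE_of_restrict (P := @FormallyUnramified) f U₀ hU₀ hV hW hWU e
    have hinj' := (RingHom.injective_respectsIso.arrow_mk_iso_iff
      (IsAffineOpen.arrowStalkMapIso f V hV W hW e hxW)).mp hinjs
    algebraize [(f.appLE V W e).hom]
    let q := (hW.primeIdealOf ⟨x, hxW⟩).asIdeal
    let p := (hV.primeIdealOf ⟨f x, hxV⟩).asIdeal
    haveI : q.LiesOver p :=
      ⟨congr($(IsAffineOpen.comap_primeIdealOf_appLE V hV W hW e hxW).1).symm⟩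
    have hgu : CAlg2.IsGeomUnibranch (Localization.AtPrime p) :=
      isGeomUnibranch_atPrime_of_stalk hV (f x) hxV hY'
    haveI : IsDomain (Localization.AtPrime p) := by
      letI := Y.presheaf.algebra_section_stalk ⟨f x, hxV⟩
      haveI := hV.isLocalization_stalk ⟨f x, hxV⟩
      haveI : IsDomain (Y.presheaf.stalk (f x)) := hY
      exact (IsLocalization.algEquiv p.primeCompl (Y.presheaf.stalk (f x))
        (Localization.AtPrime p)).symm.toMulEquiv.isDomain _
    have hinj : Function.Injective (Localization.localRingHom p q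
        (algebraMap Γ(Y, V) Γ(X, W)) (q.over_def p)) := hinj'
    obtain ⟨g, hgq, hget⟩ := exists_etale_away_of_fp q p hgu hinj
    exact exists_etale_nhd_of_away f hV hW e x hxW g hgq hget

end Groth.Agent.Lead.GUnib
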