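import Mathlib
import Groth.Prelude
import Groth.Agent.Lib.Lead.GUnib6

/-!
# Connected + locally irreducible implies irreducible; unramified dominant over geometrically
unibranch integral base is étale with irreducible source
-/

set_option autoImplicit false
set_option backward.isDefEq.respectTransparency.types false
set_option synthInstance.maxHeartbeats 400000
set_option linter.style.haveILetI false
set_option linter.unusedSectionVars false

universe u

open AlgebraicGeometry CategoryTheory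

namespace Groth.Agent.Lead.GUnib

section Top

variable {T : Type*} [TopologicalSpace T]

theorem isIrreducible_union_of_isOpen {N₁ N₂ : Set T} (h₁ : IsIrreducible N₁) (h₂ : IsIrreducible N₂)
    (ho₁ : IsOpen N₁) (ho₂ : IsOpen N₂) (hne : (N₁ ∩ N₂).Nonempty) : IsIrreducible (N₁ ∪ N₂) := by
  refine ⟨h₁.1.mono Set.subset_union_left, ?_⟩
  have key : ∀ A : Set T, IsOpen A → ((N₁ ∪ N₂) ∩ A).Nonempty → (N₁ ∩ A).Nonempty := by
    intro A hA hAne
    obtain ⟨z, hz | hz, hzA⟩ := hAne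
    · exact ⟨z, hz, hzA⟩
    · have h3 : (N₂ ∩ (A ∩ N₁)).Nonempty := by
        apply h₂.2 A N₁ hA ho₁ ⟨z, hz, hzA⟩
        obtain ⟨w, hw1, hw2⟩ := hne
        exact ⟨w, hw2, hw1⟩
      obtain ⟨w, -, hwA, hw1⟩ := h3
      exact ⟨w, hw1, hwA⟩
  intro A B hA hB hAne hBne
  obtain ⟨w, hw1, hwAB⟩ := h₁.2 A B hA hB (key A hA hAne) (key B hB hBne)
  exact ⟨w, Or.inl hw1, hwAB⟩

theorem irreducibleSpace_of_connected_of_locally_irreducible [ConnectedSpace T]
    (h : ∀ x : T, ∃ N : Set T, IsOpen N ∧ x ∈ N ∧ IsIrreducible N) : IrreducibleSpace T := by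
  obtain ⟨x₀⟩ := (inferInstance : Nonempty T)
  let Fam : Set (Set T) := {N | IsOpen N ∧ x₀ ∈ N ∧ IsIrreducible N}
  let M : Set T := ⋃₀ Fam
  have hMo : IsOpen M := isOpen_sUnion (fun N hN => hN.1)
  have hx₀ : x₀ ∈ M := by
    obtain ⟨N, hN⟩ := h x₀
    exact ⟨N, hN, hN.2.1⟩
  have hMirr : IsPreirreducible M := by
    intro A B hA hB hAne hBne
    obtain ⟨a, ⟨N₁, hN₁, haN₁⟩, haA⟩ := hAne
    obtain ⟨b, ⟨N₂, hN₂, hbN₂⟩, hbB⟩ := hBne
    have hU := isIrreducible_union_of_isOpen hN₁.2.2 hN₂.2.2 hN₁.1 hN₂.1 ⟨x₀, hN₁.2.1, hN₂.2.1⟩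
    obtain ⟨w, hw, hwAB⟩ := hU.2 A B hA hB ⟨a, Or.inl haN₁, haA⟩ ⟨b, Or.inr hbN₂, hbB⟩
    have hFam : N₁ ∪ N₂ ∈ Fam := ⟨hN₁.1.union hN₂.1, Or.inl hN₁.2.1, hU⟩
    exact ⟨w, ⟨N₁ ∪ N₂, hFam, hw⟩, hwAB⟩
  have hMc : IsClosed M := by
    rw [← closure_subset_iff_isClosed]
    intro y hy
    obtain ⟨Ny, hNyo, hyNy, hNyirr⟩ := h y
    obtain ⟨z, hzNy, N₁, hN₁, hzN₁⟩ := mem_closure_iff.mp hy Ny hNyo hyNy
    have hU := isIrreducible_union_of_isOpen hN₁.2.2 hNyirr hN₁.1 hNyo ⟨z, hzN₁, hzNy⟩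
    exact ⟨N₁ ∪ Ny, ⟨hN₁.1.union hNyo, Or.inl hN₁.2.1, hU⟩, Or.inr hyNy⟩
  have hMuniv : M = Set.univ := IsClopen.eq_univ ⟨hMc, hMo⟩ ⟨x₀, hx₀⟩
  haveI : PreirreducibleSpace T := ⟨hMuniv ▸ hMirr⟩
  exact ⟨⟨x₀⟩⟩

end Top

section Alg

theorem exists_away_isDomain (A E : Type u) [CommRing A] [IsDomain A] [CommRing E] [Algebra A E]
    [Algebra.Etale A E] (Q : Ideal E) [hQ : Q.IsPrime] [IsDomain (Localization.AtPrime Q)] :
    ∃ g, g ∉ Q ∧ IsDomain (Localization.Away g) := by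
  let EQ := Localization.AtPrime Q
  let I : Ideal E := RingHom.ker (algebraMap E EQ)
  have hI : ∀ x ∈ I, ∃ s, s ∉ Q ∧ s * x = 0 := by
    intro x hx
    obtain ⟨s, hs⟩ := (IsLocalization.map_eq_zero_iff Q.primeCompl EQ x).mp hx
    exact ⟨s.1, s.2, hs⟩
  obtain ⟨g, hgQ, hg⟩ := exists_single_of_domain A E Q I hI
  refine ⟨g, hgQ, ?_⟩
  have hu : ∀ y : Submonoid.powers g, IsUnit (algebraMap E EQ y) := by
    rintro ⟨_, n, rfl⟩
    rw [map_pow]
    exact ((IsLocalization.AtPrime.isUnit_to_map_iff EQ Q g).mpr hgQ).pow n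
  have hinj : Function.Injective (IsLocalization.lift (M := Submonoid.powers g)
      (S := Localization.Away g) hu) := by
    rw [IsLocalization.lift_injective_iff]
    intro x y
    constructor
    · intro hxy
      have := congrArg (IsLocalization.lift (M := Submonoid.powers g)
        (S := Localization.Away g) hu) hxy
      rwa [IsLocalization.lift_eq, IsLocalization.lift_eq] at this
    · intro hxy
      have h1 : x - y ∈ I := by
        rw [RingHom.mem_ker, map_sub, hxy, sub_self]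
      have h2 := hg _ h1
      rw [IsLocalization.eq_iff_exists (Submonoid.powers g)]
      refine ⟨⟨g, 1, pow_one g⟩, ?_⟩
      change g * x = g * y
      rw [← sub_eq_zero, ← mul_sub, h2]
  exact hinj.isDomain _

end Alg

section Sch

variable {X Y : Scheme.{u}}

theorem isIrreducible_of_isAffineOpen_of_isDomain {N : X.Opens} (hN : IsAffineOpen N)
    [IsDomain Γ(X, N)] : IsIrreducible (N : Set X) := by
  have h1 : Set.range hN.fromSpec = (N : Set X) := hN.range_fromSpec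
  rw [← h1, ← Set.image_univ]
  exact (IrreducibleSpace.isIrreducible_univ _).image _ hN.fromSpec.continuous.continuousOn

/-- Local irreducibility (and domain stalk) at a point where `f` is étale, over a geometrically
unibranch point of an integral scheme. -/
theorem exists_irreducible_nhd (f : X ⟶ Y) [IsIntegral Y] (x : X)
    (hY : CAlg2.IsGeomUnibranch (Y.presheaf.stalk (f x)))
    (het : ∃ U : X.Opens, x ∈ U ∧ Etale (U.ι ≫ f)) :
    (∃ N : X.Opens, x ∈ N ∧ IsIrreducible (N : Set X)) ∧ IsDomain (X.presheaf.stalk x) := by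
  obtain ⟨U₀, hxU₀, hU₀⟩ := het
  obtain ⟨_, ⟨V, hV, rfl⟩, hxV, -⟩ :=
    Y.isBasis_affineOpens.exists_subset_of_mem_open (Set.mem_univ (f x)) isOpen_univ
  obtain ⟨_, ⟨W, hW, rfl⟩, hxW, hWle⟩ :=
    X.isBasis_affineOpens.exists_subset_of_mem_open
      (show x ∈ ((f ⁻¹ᵁ V ⊓ U₀ : X.Opens) : Set X) from ⟨hxV, hxU₀⟩) (f ⁻¹ᵁ V ⊓ U₀).2
  have e : W ≤ f ⁻¹ᵁ V := fun z hz => (hWle hz).1
  have hWU : W ≤ U₀ := fun z hz => (hWle hz).2
  have het : (f.appLE V W e).hom.Etale :=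
    appLE_of_restrict (P := @Etale) f U₀ hU₀ hV hW hWU e
  algebraize [(f.appLE V W e).hom]
  let q := (hW.primeIdealOf ⟨x, hxW⟩).asIdeal
  let p := (hV.primeIdealOf ⟨f x, hxV⟩).asIdeal
  have hqp : q.comap (algebraMap Γ(Y, V) Γ(X, W)) = p :=
    congr($(IsAffineOpen.comap_primeIdealOf_appLE V hV W hW e hxW).1)
  haveI : Nonempty V := ⟨⟨f x, hxV⟩⟩
  haveI : IsDomain Γ(Y, V) := inferInstance
  have hgu : CAlg2.IsGeomUnibranch (Localization.AtPrime p) :=
    isGeomUnibranch_atPrime_of_stalk hV (f x) hxV hY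
  haveI : IsDomain (Localization.AtPrime p) :=
    IsLocalization.isDomain_localization p.primeCompl_le_nonZeroDivisors
  haveI hdq : IsDomain (Localization.AtPrime q) :=
    isDomain_atPrime_of_etale p hgu Γ(X, W) q hqp
  constructor
  · obtain ⟨g, hgq, hgd⟩ := exists_away_isDomain Γ(Y, V) Γ(X, W) q
    refine ⟨X.basicOpen g, ?_, ?_⟩
    · have h1 : hW.primeIdealOf ⟨x, hxW⟩ ∈ hW.fromSpec ⁻¹ᵁ X.basicOpen g := by
        rw [hW.fromSpec_preimage_basicOpen]
        exact hgq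
      change hW.fromSpec _ ∈ X.basicOpen g at h1
      rwa [hW.fromSpec_primeIdealOf] at h1
    · have := hW.isLocalization_basicOpen g
      haveI : IsDomain Γ(X, X.basicOpen g) :=
        (IsLocalization.algEquiv (Submonoid.powers g) (Localization.Away g)
          Γ(X, X.basicOpen g)).symm.toMulEquiv.isDomain _
      exact isIrreducible_of_isAffineOpen_of_isDomain (hW.basicOpen g)
  · letI := X.presheaf.algebra_section_stalk ⟨x, hxW⟩
    haveI := hW.isLocalization_stalk ⟨x, hxW⟩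
    exact (IsLocalization.algEquiv q.primeCompl (X.presheaf.stalk x)
      (Localization.AtPrime q)).toMulEquiv.isDomain _

theorem S1450_aux (f : X ⟶ Y) [IsIntegral Y]
    (hY : ∀ y : Y, CAlg2.IsGeomUnibranch (Y.presheaf.stalk y))
    [ConnectedSpace ↑X] [FormallyUnramified f] [LocallyOfFiniteType f]
    (hdom : genericPoint ↑Y ∈ Set.range ⇑f) :
    ∀ x : X, ∃ U : X.Opens, x ∈ U ∧ Etale (U.ι ≫ f) := by
  classical
  let η : Y := genericPoint Y
  let Wset : Set X := {x | ∃ x' : X, x' ⤳ x ∧ f x' = η}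
  have hloc : ∀ x ∈ Wset, ∃ U : X.Opens, x ∈ U ∧ Etale (U.ι ≫ f) := by
    intro x hx
    exact S1451_main f x (hY _) hx ⟨⊤, trivial,
      HasRingHomProperty.comp_of_isOpenImmersion @FormallyUnramified (⊤ : X.Opens).ι f
        inferInstance⟩
  have hopen : IsOpen Wset := by
    rw [isOpen_iff_forall_mem_open]
    intro x hx
    obtain ⟨U, hxU, hU⟩ := hloc x hx
    refine ⟨U, ?_, U.2, hxU⟩
    intro z hzU
    haveI := hU
    haveI : Flat (U.ι ≫ f) := inferInstance
    have hg := Flat.generalizingMap (U.ι ≫ f)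
    obtain ⟨z', hz'z, hz'η⟩ := hg (a := (⟨z, hzU⟩ : U.toScheme)) (b := η)
      (genericPoint_specializes _)
    exact ⟨U.ι z', hz'z.map U.ι.continuous, hz'η⟩
  have hne : Wset.Nonempty := by
    obtain ⟨x, hx⟩ := hdom
    exact ⟨x, x, specializes_rfl, hx⟩
  have hclosed : IsClosed Wset := by
    rw [← closure_subset_iff_isClosed]
    intro x hx
    obtain ⟨_, ⟨(V : Y.Opens), hV, rfl⟩, hxV, -⟩ :=
      Y.isBasis_affineOpens.exists_subset_of_mem_open (Set.mem_univ (f x)) isOpen_univ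
    obtain ⟨_, ⟨(O : X.Opens), hO, rfl⟩, hxO, hOle⟩ :=
      X.isBasis_affineOpens.exists_subset_of_mem_open
        (show x ∈ ((f ⁻¹ᵁ V : X.Opens) : Set X) from hxV) (f ⁻¹ᵁ V).2
    have e : O ≤ f ⁻¹ᵁ V := hOle
    haveI : IsAffine O.toScheme := hO
    haveI : IsAffine V.toScheme := hV
    let g : O.toScheme ⟶ V.toScheme := f.resLE V O e
    haveI : LocallyQuasiFinite f :=
      Groth.Agent.Helper2.EtaleLocal.locallyQuasiFinite_of_unramified f
    haveI : LocallyQuasiFinite g := inferInstance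
    have hηV : η ∈ V := (genericPoint_spec Y).mem_open_set_iff V.2 |>.mpr ⟨f x, trivial, hxV⟩
    let ηV : V.toScheme := ⟨η, hηV⟩
    have hfin : (g ⁻¹' {ηV}).Finite := g.finite_preimage_singleton ηV
    let Fin : Set X := O.ι '' (g ⁻¹' {ηV})
    have hFin : Fin.Finite := hfin.image _
    let C : Set X := ⋃ z ∈ Fin, closure {z}
    have hC : IsClosed C := hFin.isClosed_biUnion (fun z _ => isClosed_closure)
    have hsub : (O : Set X) ∩ Wset ⊆ C := by
      rintro z ⟨hzO, z', hz'z, hz'η⟩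
      have hz'O : z' ∈ O := hz'z.mem_open O.2 hzO
      have hz'Fin : z' ∈ Fin := by
        refine ⟨⟨z', hz'O⟩, ?_, rfl⟩
        change g ⟨z', hz'O⟩ = ηV
        apply Subtype.ext
        have h1 : V.ι (g ⟨z', hz'O⟩) = f (O.ι ⟨z', hz'O⟩) := by
          rw [← Scheme.Hom.comp_apply, ← Scheme.Hom.comp_apply, Scheme.Hom.resLE_comp_ι]
        exact h1.trans hz'η
      exact Set.mem_biUnion hz'Fin (specializes_iff_mem_closure.mp hz'z)
    have hx1 : x ∈ closure ((O : Set X) ∩ Wset) := O.2.inter_closure ⟨hxO, hx⟩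
    have hx2 : x ∈ C := (closure_minimal hsub hC) hx1
    obtain ⟨z', hz'Fin, hxz'⟩ := Set.mem_iUnion₂.mp hx2
    obtain ⟨w, hw, rfl⟩ := hz'Fin
    refine ⟨O.ι w, specializes_iff_mem_closure.mpr hxz', ?_⟩
    have h1 : V.ι (g w) = f (O.ι w) := by
      rw [← Scheme.Hom.comp_apply, ← Scheme.Hom.comp_apply, Scheme.Hom.resLE_comp_ι]
    rw [← h1]
    have h2 : g w = ηV := hw
    rw [h2]
    rfl
  have huniv : Wset = Set.univ := IsClopen.eq_univ ⟨hclosed, hopen⟩ hne
  intro x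
  exact hloc x (huniv ▸ Set.mem_univ x)

theorem etale_of_forall_exists (f : X ⟶ Y)
    (h : ∀ x : X, ∃ U : X.Opens, x ∈ U ∧ Etale (U.ι ≫ f)) : Etale f := by
  choose O hxO hO using h
  have hsup : iSup O = ⊤ := by
    rw [eq_top_iff]
    intro x _
    exact TopologicalSpace.Opens.mem_iSup.mpr ⟨x, hxO x⟩
  rw [IsZariskiLocalAtSource.iff_of_iSup_eq_top (P := @Etale) O hsup]
  exact hO

theorem S1450_main (f : X ⟶ Y) [IsIntegral Y]
    (hY : ∀ y : Y, CAlg2.IsGeomUnibranch (Y.presheaf.stalk y))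
    [ConnectedSpace ↑X] [FormallyUnramified f] [LocallyOfFiniteType f]
    (hdom : genericPoint ↑Y ∈ Set.range ⇑f) :
    Etale f ∧ IrreducibleSpace ↑X ∧ ∀ x : X, IsDomain (X.presheaf.stalk x) := by
  have h := S1450_aux f hY hdom
  refine ⟨etale_of_forall_exists f h, ?_, ?_⟩
  · apply irreducibleSpace_of_connected_of_locally_irreducible
    intro x
    obtain ⟨⟨N, hxN, hN⟩, -⟩ := exists_irreducible_nhd f x (hY _) (h x)
    exact ⟨N, N.2, hxN, hN⟩
  · intro x
    exact (exists_irreducible_nhd f x (hY _) (h x)).2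

end Sch

end Groth.Agent.Lead.GUnib
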