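import Mathlib
import Groth.Prelude
import Groth.Agent.Lib.Lead.GUnib1

/-!
# The strict henselization of a local ring is also a strict henselization of its étale local
extensions; étale local rings over a geometrically unibranch ring are geometrically unibranch
-/

set_option autoImplicit false
set_option backward.isDefEq.respectTransparency.types false
set_option synthInstance.maxHeartbeats 400000
set_option linter.style.haveILetI false
set_option linter.unusedSectionVars false

universe u

namespace Groth.Agent.Lead.GUnib

open Groth.Agent.Helper7.SHens IsLocalRing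

section

variable {A : Type u} [CommRing A] [IsLocalRing A] {K : Type u} [Field K] [Algebra A K]
  [Algebra (ResidueField A) K] [IsScalarTower A (ResidueField A) K]

theorem sec_algebraMap_eq_zero_iff (U : Nbhd A K) (a : A) :
    U.sec (algebraMap A U.Ring a) = 0 ↔ a ∈ maximalIdeal A := by
  rw [AlgHom.commutes, IsScalarTower.algebraMap_apply A (ResidueField A) K,
    map_eq_zero_iff _ (algebraMap (ResidueField A) K).injective]
  exact residue_eq_zero_iff a

theorem isLocalHom_algebraMap_loc (U : Nbhd A K) : IsLocalHom (algebraMap A U.Loc) := by
  constructor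
  intro a ha
  by_contra hna
  have h1 : a ∈ maximalIdeal A := (IsLocalRing.mem_maximalIdeal a).mpr hna
  rw [IsScalarTower.algebraMap_apply A U.Ring U.Loc] at ha
  have h2 := (IsLocalization.AtPrime.isUnit_to_map_iff U.Loc U.q _).mp ha
  exact h2 ((sec_algebraMap_eq_zero_iff U a).mpr h1)

theorem locMap_algebraMap' (U : Nbhd A K) (a : A) :
    locMap U (algebraMap A U.Loc a) = algebraMap A (G A K) a := by
  rw [IsScalarTower.algebraMap_apply A U.Ring U.Loc, locMap_algebraMap, ι_algebraMap]

variable [IsSepClosure (ResidueField A) K]

theorem isStrictHenselization_loc (U : Nbhd A K) :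
    @Hensel.IsStrictHenselization U.Loc (G A K) _ _ _ _ (locMap U).toAlgebra
      (isLocalHom_locMap U) := by
  letI : Algebra U.Loc (G A K) := (locMap U).toAlgebra
  haveI : IsLocalHom (algebraMap U.Loc (G A K)) := isLocalHom_locMap U
  haveI : IsLocalHom (algebraMap A U.Loc) := isLocalHom_algebraMap_loc U
  haveI : IsScalarTower A U.Loc (G A K) :=
    IsScalarTower.of_algebraMap_eq (fun a => (locMap_algebraMap' U a).symm)
  have hmapcomp : (ResidueField.map (algebraMap U.Loc (G A K))).comp
      (ResidueField.map (algebraMap A U.Loc)) = ResidueField.map (algebraMap A (G A K)) := by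
    ext x
    obtain ⟨a, rfl⟩ := residue_surjective x
    simp only [RingHom.comp_apply, ResidueField.map_residue]
    congr 1
    exact (IsScalarTower.algebraMap_apply A U.Loc (G A K) a).symm
  haveI hsc : IsSepClosure (ResidueField A) (ResidueField (G A K)) :=
    isSepClosure_residueField_G A K
  haveI : IsScalarTower (ResidueField A) (ResidueField U.Loc) (ResidueField (G A K)) :=
    IsScalarTower.of_algebraMap_eq (fun x => (RingHom.congr_fun hmapcomp x).symm)
  refine ⟨henselianLocalRing_G A K, ⟨hsc.sep_closed, ?_⟩, ?_⟩
  · haveI := hsc.separable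
    exact Algebra.isSeparable_tower_top_of_isSeparable (ResidueField A) (ResidueField U.Loc)
      (ResidueField (G A K))
  · intro T _ _ f _ τ hτ
    let fA : A →+* T := f.comp (algebraMap A U.Loc)
    haveI : IsLocalHom fA := RingHom.isLocalHom_comp f (algebraMap A U.Loc)
    have hτA : τ.comp (ResidueField.map (algebraMap A (G A K))) = ResidueField.map fA := by
      rw [← hmapcomp, ← RingHom.comp_assoc, hτ]
      ext x
      obtain ⟨a, rfl⟩ := residue_surjective x
      simp only [RingHom.comp_apply, ResidueField.map_residue]
      rfl
    obtain ⟨g, ⟨hg1, hg2⟩, hguniq⟩ := universal (R := A) (K := K) T fA τ hτA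
    refine ⟨g, ⟨?_, hg2⟩, ?_⟩
    · letI : Algebra A T := fA.toAlgebra
      let ψ : U.Ring →ₐ[A] T :=
        { g.comp (ι U) with
          commutes' := fun a => by
            change g (ι U (algebraMap A U.Ring a)) = fA a
            rw [ι_algebraMap, ← hg1]
            rfl }
      let ψ' : U.Ring →ₐ[A] T :=
        { f.comp (algebraMap U.Ring U.Loc) with
          commutes' := fun a => by
            change f (algebraMap U.Ring U.Loc (algebraMap A U.Ring a)) = fA a
            rw [← IsScalarTower.algebraMap_apply A U.Ring U.Loc]
            rfl }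
      have hψ : ψ = ψ' := by
        apply stageHom_unique U ψ ψ'
        intro x
        change residue T (g (ι U x)) = residue T (f (algebraMap U.Ring U.Loc x))
        rw [hg2, ← ResidueField.map_residue f, ← RingHom.congr_fun hτ, RingHom.comp_apply,
          ResidueField.map_residue]
        congr 2
        exact (locMap_algebraMap U x).symm
      apply IsLocalization.ringHom_ext U.q.primeCompl
      ext x
      have := AlgHom.congr_fun hψ x
      change g (locMap U (algebraMap U.Ring U.Loc x)) = f (algebraMap U.Ring U.Loc x)
      rw [locMap_algebraMap]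
      exact this
    · rintro g' ⟨hg'1, hg'2⟩
      apply hguniq
      refine ⟨?_, hg'2⟩
      ext a
      change g' (algebraMap A (G A K) a) = f (algebraMap A U.Loc a)
      rw [← RingHom.congr_fun hg'1, RingHom.comp_apply]
      congr 1
      exact (locMap_algebraMap' U a).symm

theorem isGeomUnibranch_loc (hred : IsReduced A) (hgu : CAlg2.IsGeomUnibranch A) (U : Nbhd A K) :
    IsReduced U.Loc ∧ CAlg2.IsGeomUnibranch U.Loc := by
  haveI hSH : Hensel.IsStrictHenselization A (G A K) := isStrictHenselization_G A K
  have hdom : IsDomain (G A K) :=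
    (Groth.Agent.Helper8.HensGU.reduced_and_isGeomUnibranch_iff_isDomain A (G A K)).mp ⟨hred, hgu⟩
  exact (@Groth.Agent.Helper8.HensGU.reduced_and_isGeomUnibranch_iff_isDomain U.Loc (G A K) _ _ _ _
    (locMap U).toAlgebra (isLocalHom_locMap U) (isStrictHenselization_loc U)).mpr hdom

end

section Model

variable (A : Type u) [CommRing A] [IsLocalRing A]

/-- Every local ring of an étale algebra at a prime over the closed point is a stage local ring. -/
theorem exists_nbhd_equiv (E : Type u) [CommRing E] [Algebra A E] [Algebra.Etale A E] (Q : Ideal E)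
    [Q.IsPrime] (hQ : Q.comap (algebraMap A E) = maximalIdeal A) :
    ∃ U : Nbhd A (SeparableClosure (ResidueField A)),
      Nonempty (Localization.AtPrime Q ≃+* U.Loc) := by
  let K := SeparableClosure (ResidueField A)
  let EQ := Localization.AtPrime Q
  haveI : IsLocalHom (algebraMap A EQ) := isLocalHom_algebraMap_atPrime A E Q hQ
  haveI : Algebra.FormallyUnramified A EQ := Algebra.FormallyUnramified.comp A E EQ
  haveI : Algebra.EssFiniteType A EQ := Algebra.EssFiniteType.comp A E EQ
  haveI : Algebra.IsSeparable (ResidueField A) (ResidueField EQ) := inferInstance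
  let φ : ResidueField EQ →ₐ[ResidueField A] K := IsSepClosed.lift
  let secR : E →+* K := φ.toRingHom.comp ((residue EQ).comp (algebraMap E EQ))
  let sec : E →ₐ[A] K :=
    { secR with
      commutes' := by
        intro a
        change φ (residue EQ (algebraMap E EQ (algebraMap A E a))) = algebraMap A K a
        rw [← IsScalarTower.algebraMap_apply A E EQ,
          IsScalarTower.algebraMap_apply A (ResidueField A) K]
        have h1 : residue EQ (algebraMap A EQ a) =
            algebraMap (ResidueField A) (ResidueField EQ) (residue A a) := rfl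
        rw [h1, φ.commutes]
        rfl }
  have hker : ∀ x : E, sec x = 0 ↔ x ∈ Q := by
    intro x
    change φ (residue EQ (algebraMap E EQ x)) = 0 ↔ _
    rw [map_eq_zero_iff φ φ.toRingHom.injective, residue_eq_zero_iff,
      IsLocalization.AtPrime.to_map_mem_maximal_iff EQ Q]
  let U : Nbhd A K := Nbhd.of E sec
  let e : U.Ring ≃ₐ[A] E := Nbhd.ofEquiv E sec
  have H : Q.primeCompl.map (e.symm : E ≃+* U.Ring).toMonoidHom = U.q.primeCompl := by
    ext x
    simp only [Submonoid.mem_map, Ideal.mem_primeCompl_iff]
    constructor
    · rintro ⟨y, hy, rfl⟩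
      intro hx
      apply hy
      rw [← hker]
      have h2 := Nbhd.of_sec_apply E sec (e.symm y)
      rw [show (Nbhd.ofEquiv E sec) (e.symm y) = y from e.apply_symm_apply y] at h2
      rw [← h2]
      exact hx
    · intro hx
      refine ⟨e x, ?_, e.symm_apply_apply x⟩
      intro hy
      apply hx
      rw [← hker] at hy
      change U.sec x = 0
      rw [Nbhd.of_sec_apply E sec x]
      exact hy
  exact ⟨U, ⟨IsLocalization.ringEquivOfRingEquiv (Localization.AtPrime Q)
    (Localization.AtPrime U.q) (e.symm : E ≃+* U.Ring) H⟩⟩

end Model

end Groth.Agent.Lead.GUnib
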