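import Mathlib
import Groth.Prelude
import Groth.Agent.Lib.Lead.GUnib7
import Groth.Agent.Lib.Lead.GUnib8

/-!
# Etale local rings over a geometrically unibranch point are geometrically unibranch domains
-/

set_option autoImplicit false
set_option backward.isDefEq.respectTransparency.types false
set_option synthInstance.maxHeartbeats 400000
set_option linter.style.haveILetI false
set_option linter.unusedSectionVars false

universe u

open AlgebraicGeometry CategoryTheory

namespace Groth.Agent.Lead.GUnib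

open IsLocalRing TensorProduct

theorem isGeomUnibranch_localization_of_etale (A : Type u) [CommRing A] [IsLocalRing A]
    (hred : IsReduced A) (hgu : CAlg2.IsGeomUnibranch A)
    (E : Type u) [CommRing E] [Algebra A E] [Algebra.Etale A E] (Q : Ideal E) [Q.IsPrime]
    (hQ : Q.comap (algebraMap A E) = maximalIdeal A) :
    CAlg2.IsGeomUnibranch (Localization.AtPrime Q) := by
  obtain ⟨U, ⟨e⟩⟩ := exists_nbhd_equiv A E Q hQ
  exact Groth.Agent.Lib.Helper4.ChevCrit4.isGeomUnibranch_of_ringEquiv e.symm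
    (isGeomUnibranch_loc hred hgu U).2

theorem isGeomUnibranch_atPrime_of_etale {R : Type u} [CommRing R] (p : Ideal R) [p.IsPrime]
    [IsDomain (Localization.AtPrime p)]
    (hgu : CAlg2.IsGeomUnibranch (Localization.AtPrime p))
    (E : Type u) [CommRing E] [Algebra R E] [Algebra.Etale R E] (Q : Ideal E) [hQp : Q.IsPrime]
    (hQ : Q.comap (algebraMap R E) = p) : CAlg2.IsGeomUnibranch (Localization.AtPrime Q) := by
  let Ap := Localization.AtPrime p
  let Ep := Ap ⊗[R] E
  letI : Algebra E Ep := Algebra.TensorProduct.rightAlgebra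
  haveI hloc : IsLocalization (Algebra.algebraMapSubmonoid E p.primeCompl) Ep :=
    IsLocalization.tensorRight Ap p.primeCompl
  have hdisj : Disjoint (Algebra.algebraMapSubmonoid E p.primeCompl : Set E) (Q : Set E) := by
    rw [Set.disjoint_left]
    rintro x ⟨r, hr, rfl⟩ hx
    apply hr
    rw [← hQ]
    exact hx
  let Q₁ : Ideal Ep := Q.map (algebraMap E Ep)
  haveI hQ₁p : Q₁.IsPrime :=
    IsLocalization.isPrime_of_isPrime_disjoint _ Ep Q hQp hdisj
  have hcomap : Q₁.comap (algebraMap E Ep) = Q :=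
    IsLocalization.comap_map_of_isPrime_disjoint _ Ep hQp hdisj
  have hQ₁ : Q₁.comap (algebraMap Ap Ep) = maximalIdeal Ap := by
    have h1 : (Q₁.comap (algebraMap Ap Ep)).comap (algebraMap R Ap) = p := by
      rw [Ideal.comap_comap, ← IsScalarTower.algebraMap_eq R Ap Ep,
        IsScalarTower.algebraMap_eq R E Ep, ← Ideal.comap_comap, hcomap, hQ]
    have h2 : (maximalIdeal Ap).comap (algebraMap R Ap) = p :=
      IsLocalization.AtPrime.comap_maximalIdeal Ap p
    calc Q₁.comap (algebraMap Ap Ep)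
        = ((Q₁.comap (algebraMap Ap Ep)).comap (algebraMap R Ap)).map (algebraMap R Ap) :=
          (IsLocalization.map_comap p.primeCompl Ap _).symm
      _ = p.map (algebraMap R Ap) := by rw [h1]
      _ = ((maximalIdeal Ap).comap (algebraMap R Ap)).map (algebraMap R Ap) := by rw [h2]
      _ = maximalIdeal Ap := IsLocalization.map_comap p.primeCompl Ap _
  have hd := isGeomUnibranch_localization_of_etale Ap inferInstance hgu Ep Q₁ hQ₁
  let T := Localization.AtPrime Q₁
  haveI : IsScalarTower E Ep T := inferInstance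
  have h1 : IsLocalization.AtPrime T (Q₁.comap (algebraMap E Ep)) :=
    IsLocalization.isLocalization_isLocalization_atPrime_isLocalization
      (Algebra.algebraMapSubmonoid E p.primeCompl) T Q₁
  have h2 : IsLocalization Q.primeCompl T := by
    have : (Q₁.comap (algebraMap E Ep)).primeCompl = Q.primeCompl := by
      ext x
      simp only [Ideal.mem_primeCompl_iff]
      rw [hcomap]
    rw [← this]
    exact h1
  exact Groth.Agent.Lib.Helper4.ChevCrit4.isGeomUnibranch_of_ringEquiv
    (IsLocalization.algEquiv Q.primeCompl T (Localization.AtPrime Q)).toRingEquiv hd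

section Sch

variable {X Y : Scheme.{u}}

theorem S2754_main (f : X ⟶ Y) (x : X)
    (hY : IsDomain (Y.presheaf.stalk (f x)))
    (hY' : CAlg2.IsGeomUnibranch (Y.presheaf.stalk (f x)))
    (hf : ∃ U : X.Opens, x ∈ U ∧ Etale (U.ι ≫ f)) :
    IsDomain (X.presheaf.stalk x) ∧ CAlg2.IsGeomUnibranch (X.presheaf.stalk x) := by
  obtain ⟨U₀, hxU₀, hU₀⟩ := hf
  obtain ⟨_, ⟨V, hV, rfl⟩, hxV, -⟩ :=
    Y.isBasis_affineOpens.exists_subset_of_mem_open (Set.mem_univ (f x)) isOpen_univ
  obtain ⟨_, ⟨W, hW, rfl⟩, hxW, hWle⟩ :=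
    X.isBasis_affineOpens.exists_subset_of_mem_open
      (show x ∈ ((f ⁻¹ᵁ V ⊓ U₀ : X.Opens) : Set X) from ⟨hxV, hxU₀⟩) (f ⁻¹ᵁ V ⊓ U₀).2
  have e : W ≤ f ⁻¹ᵁ V := fun z hz => (hWle hz).1
  have hWU : W ≤ U₀ := fun z hz => (hWle hz).2
  have het : (f.appLE V W e).hom.Etale :=
    appLE_of_restrict (P := @Etale) f U₀ hU₀ hV hW hWU e
  algebraize [(f.appLE V W e).hom]
  let q := (hW.primeIdealOf ⟨x, hxW⟩).asIdeal
  let p := (hV.primeIdealOf ⟨f x, hxV⟩).asIdeal
  have hqp : q.comap (algebraMap Γ(Y, V) Γ(X, W)) = p :=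
    congr($(IsAffineOpen.comap_primeIdealOf_appLE V hV W hW e hxW).1)
  have hgu : CAlg2.IsGeomUnibranch (Localization.AtPrime p) :=
    isGeomUnibranch_atPrime_of_stalk hV (f x) hxV hY'
  haveI : IsDomain (Localization.AtPrime p) := by
    letI := Y.presheaf.algebra_section_stalk ⟨f x, hxV⟩
    haveI := hV.isLocalization_stalk ⟨f x, hxV⟩
    haveI : IsDomain (Y.presheaf.stalk (f x)) := hY
    exact (IsLocalization.algEquiv p.primeCompl (Y.presheaf.stalk (f x))
      (Localization.AtPrime p)).symm.toMulEquiv.isDomain _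
  haveI hdq : IsDomain (Localization.AtPrime q) :=
    isDomain_atPrime_of_etale p hgu Γ(X, W) q hqp
  have hgq : CAlg2.IsGeomUnibranch (Localization.AtPrime q) :=
    isGeomUnibranch_atPrime_of_etale p hgu Γ(X, W) q hqp
  letI := X.presheaf.algebra_section_stalk ⟨x, hxW⟩
  haveI := hW.isLocalization_stalk ⟨x, hxW⟩
  exact ⟨(IsLocalization.algEquiv q.primeCompl (X.presheaf.stalk x)
      (Localization.AtPrime q)).toMulEquiv.isDomain _,
    Groth.Agent.Lib.Helper4.ChevCrit4.isGeomUnibranch_of_ringEquiv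
      (IsLocalization.algEquiv q.primeCompl (X.presheaf.stalk x)
        (Localization.AtPrime q)).symm.toRingEquiv hgq⟩

theorem S2755_main (f : X ⟶ Y) [IsIntegral Y]
    (hY : ∀ y : Y, CAlg2.IsGeomUnibranch (Y.presheaf.stalk y))
    [ConnectedSpace X] [LocallyOfFiniteType f] [FormallyUnramified f]
    (hη : ∃ x : X, f.base x = genericPoint Y) :
    Etale f ∧ IsIntegral X ∧ ∀ x : X, CAlg2.IsGeomUnibranch (X.presheaf.stalk x) := by
  have hdom : genericPoint ↑Y ∈ Set.range ⇑f := by
    obtain ⟨x, hx⟩ := hη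
    exact ⟨x, hx⟩
  obtain ⟨h1, h2, h3⟩ := S1450_main f hY hdom
  have hloc := S1450_aux f hY hdom
  refine ⟨h1, ?_, ?_⟩
  · haveI := h2
    haveI : IsReduced X := by
      haveI : ∀ x : X, _root_.IsReduced (X.presheaf.stalk x) := fun x => by
        haveI := h3 x
        infer_instance
      exact isReduced_of_isReduced_stalk X
    exact isIntegral_of_irreducibleSpace_of_isReduced X
  · intro x
    exact (S2754_main f x inferInstance (hY _) (hloc x)).2

end Sch

end Groth.Agent.Lead.GUnib
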