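import Mathlib
import Groth.Prelude
import Groth.Agent.Lib.Lead.GUnib9
import Groth.Agent.Lib.Helper2.EtaleLocal

/-!
# Etale schemes over an irreducible geometrically unibranch (possibly non-reduced) base
-/

set_option autoImplicit false
set_option backward.isDefEq.respectTransparency.types false
set_option synthInstance.maxHeartbeats 400000
set_option linter.style.haveILetI false
set_option linter.unusedSectionVars false

universe u

open AlgebraicGeometry CategoryTheory

namespace Groth.Agent.Lead.GUnib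

open Groth.Agent.Helper7.SHens IsLocalRing TensorProduct

theorem nilradical_eq_comap_of_injective {B C : Type*} [CommRing B] [CommRing C] (φ : B →+* C)
    (h : Function.Injective φ) : nilradical B = (nilradical C).comap φ := by
  ext x
  rw [Ideal.mem_comap, mem_nilradical, mem_nilradical, IsNilpotent.map_iff h]

theorem isPrime_nilradical_of_injective {B C : Type*} [CommRing B] [CommRing C] (φ : B →+* C)
    (h : Function.Injective φ) (hC : (nilradical C).IsPrime) : (nilradical B).IsPrime := by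
  rw [nilradical_eq_comap_of_injective φ h]
  exact Ideal.IsPrime.comap φ

section Local

variable (A : Type u) [CommRing A] [IsLocalRing A]

theorem isPrime_nilradical_loc (hgu : CAlg2.IsGeomUnibranch A)
    (U : Nbhd A (SeparableClosure (ResidueField A))) : (nilradical U.Loc).IsPrime := by
  let K := SeparableClosure (ResidueField A)
  haveI hSH : Hensel.IsStrictHenselization A (G A K) := isStrictHenselization_G A K
  have h1 : CAlgX.HasUniqueMinimalPrime (G A K) :=
    (Groth.Agent.Helper8.HensGU.isGeomUnibranch_iff_hasUniqueMinimalPrime A (G A K)).mp hgu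
  have h2 : (nilradical (G A K)).IsPrime :=
    (Groth.Agent.Helper8.HensUB.hasUniqueMinimalPrime_iff_isPrime_nilradical (G A K)).mp h1
  exact isPrime_nilradical_of_injective (locMap U) (locMap_injective U) h2

theorem isPrime_nilradical_localization_of_etale (hgu : CAlg2.IsGeomUnibranch A)
    (E : Type u) [CommRing E] [Algebra A E] [Algebra.Etale A E] (Q : Ideal E) [Q.IsPrime]
    (hQ : Q.comap (algebraMap A E) = maximalIdeal A) :
    (nilradical (Localization.AtPrime Q)).IsPrime := by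
  obtain ⟨U, ⟨e⟩⟩ := exists_nbhd_equiv A E Q hQ
  exact isPrime_nilradical_of_injective e.toRingHom e.injective (isPrime_nilradical_loc A hgu U)

end Local

theorem isPrime_nilradical_atPrime_of_etale {R : Type u} [CommRing R] (p : Ideal R) [p.IsPrime]
    (hgu : CAlg2.IsGeomUnibranch (Localization.AtPrime p))
    (E : Type u) [CommRing E] [Algebra R E] [Algebra.Etale R E] (Q : Ideal E) [hQp : Q.IsPrime]
    (hQ : Q.comap (algebraMap R E) = p) : (nilradical (Localization.AtPrime Q)).IsPrime := by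
  let Ap := Localization.AtPrime p
  let Ep := Ap ⊗[R] E
  letI : Algebra E Ep := Algebra.TensorProduct.rightAlgebra
  haveI hloc : IsLocalization (Algebra.algebraMapSubmonoid E p.primeCompl) Ep :=
    IsLocalization.tensorRight Ap p.primeCompl
  have hdisj : Disjoint (Algebra.algebraMapSubmonoid E p.primeCompl : Set E) (Q : Set E) := by
    rw [Set.disjoint_left]
    rintro x ⟨r, hr, rfl⟩ hx
    apply hr
    rw [← hQ]
    exact hx
  let Q₁ : Ideal Ep := Q.map (algebraMap E Ep)
  haveI hQ₁p : Q₁.IsPrime :=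
    IsLocalization.isPrime_of_isPrime_disjoint _ Ep Q hQp hdisj
  have hcomap : Q₁.comap (algebraMap E Ep) = Q :=
    IsLocalization.comap_map_of_isPrime_disjoint _ Ep hQp hdisj
  have hQ₁ : Q₁.comap (algebraMap Ap Ep) = maximalIdeal Ap := by
    have h1 : (Q₁.comap (algebraMap Ap Ep)).comap (algebraMap R Ap) = p := by
      rw [Ideal.comap_comap, ← IsScalarTower.algebraMap_eq R Ap Ep,
        IsScalarTower.algebraMap_eq R E Ep, ← Ideal.comap_comap, hcomap, hQ]
    have h2 : (maximalIdeal Ap).comap (algebraMap R Ap) = p :=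
      IsLocalization.AtPrime.comap_maximalIdeal Ap p
    calc Q₁.comap (algebraMap Ap Ep)
        = ((Q₁.comap (algebraMap Ap Ep)).comap (algebraMap R Ap)).map (algebraMap R Ap) :=
          (IsLocalization.map_comap p.primeCompl Ap _).symm
      _ = p.map (algebraMap R Ap) := by rw [h1]
      _ = ((maximalIdeal Ap).comap (algebraMap R Ap)).map (algebraMap R Ap) := by rw [h2]
      _ = maximalIdeal Ap := IsLocalization.map_comap p.primeCompl Ap _
  have hd := isPrime_nilradical_localization_of_etale Ap hgu Ep Q₁ hQ₁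
  let T := Localization.AtPrime Q₁
  haveI : IsScalarTower E Ep T := inferInstance
  have h1 : IsLocalization.AtPrime T (Q₁.comap (algebraMap E Ep)) :=
    IsLocalization.isLocalization_isLocalization_atPrime_isLocalization
      (Algebra.algebraMapSubmonoid E p.primeCompl) T Q₁
  have h2 : IsLocalization Q.primeCompl T := by
    have : (Q₁.comap (algebraMap E Ep)).primeCompl = Q.primeCompl := by
      ext x
      simp only [Ideal.mem_primeCompl_iff]
      rw [hcomap]
    rw [← this]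
    exact h1
  let e := (IsLocalization.algEquiv Q.primeCompl (Localization.AtPrime Q) T)
  exact isPrime_nilradical_of_injective e.toRingEquiv.toRingHom e.injective hd

section Global

variable (R E : Type u) [CommRing R] [CommRing E] [Algebra R E] [Algebra.Etale R E]

theorem under_eq_nilradical_of_mem_minimalPrimes (hN : (nilradical R).IsPrime)
    (q₀ : Ideal E) (hq₀ : q₀ ∈ minimalPrimes E) :
    q₀.comap (algebraMap R E) = nilradical R := by
  haveI hq₀p : q₀.IsPrime := hq₀.1.1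
  let P₀ := q₀.under R
  haveI : P₀.IsPrime := inferInstance
  haveI : q₀.LiesOver P₀ := ⟨rfl⟩
  haveI := hN
  have hle0 : nilradical R ≤ P₀ := nilradical_le_prime P₀
  obtain ⟨P, hPle, hPp, hPl⟩ :=
    Ideal.exists_ideal_le_liesOver_of_le (p := nilradical R) (q := P₀) q₀ hle0
  have hle : q₀ ≤ P := hq₀.2 ⟨hPp, bot_le⟩ hPle
  have : P = q₀ := le_antisymm hPle hle
  subst this
  exact (hPl.over).symm

theorem finite_minimalPrimes_of_etale_of_isPrime_nilradical (hN : (nilradical R).IsPrime) :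
    (minimalPrimes E).Finite := by
  haveI := hN
  refine (Algebra.QuasiFinite.finite_primesOver (R := R) (S := E) (nilradical R)).subset ?_
  intro q₀ hq₀
  exact ⟨hq₀.1.1, ⟨(under_eq_nilradical_of_mem_minimalPrimes R E hN q₀ hq₀).symm⟩⟩

end Global

theorem isIrreducible_of_subset_closure_singleton {T : Type*} [TopologicalSpace T] {S : Set T}
    {ξ : T} (hξ : ξ ∈ S) (h : S ⊆ closure {ξ}) : IsIrreducible S := by
  refine ⟨⟨ξ, hξ⟩, ?_⟩
  intro u v hu hv ⟨a, haS, hau⟩ ⟨b, hbS, hbv⟩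
  have h1 : ξ ∈ u := by
    obtain ⟨z, hzu, hz⟩ := mem_closure_iff.mp (h haS) u hu hau
    rw [Set.mem_singleton_iff.mp hz] at hzu
    exact hzu
  have h2 : ξ ∈ v := by
    obtain ⟨z, hzv, hz⟩ := mem_closure_iff.mp (h hbS) v hv hbv
    rw [Set.mem_singleton_iff.mp hz] at hzv
    exact hzv
  exact ⟨ξ, hξ, h1, h2⟩

/-- If `E` has finitely many minimal primes and `E_Q` has prime nilradical, some basic open
neighbourhood of `Q` is irreducible. -/
theorem exists_basicOpen_isIrreducible {E : Type u} [CommRing E] (hfin : (minimalPrimes E).Finite)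
    (Q : Ideal E) [hQ : Q.IsPrime] (hQn : (nilradical (Localization.AtPrime Q)).IsPrime) :
    ∃ g, g ∉ Q ∧ IsIrreducible (PrimeSpectrum.basicOpen g : Set (PrimeSpectrum E)) := by
  classical
  let EQ := Localization.AtPrime Q
  let P₁ : Ideal E := (nilradical EQ).comap (algebraMap E EQ)
  haveI hP₁ : P₁.IsPrime := Ideal.IsPrime.comap _
  have hP₁Q : P₁ ≤ Q := by
    have h1 : nilradical EQ ≤ maximalIdeal EQ := nilradical_le_prime _
    calc P₁ ≤ (maximalIdeal EQ).comap (algebraMap E EQ) := Ideal.comap_mono h1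
      _ = Q := IsLocalization.AtPrime.comap_maximalIdeal EQ Q
  have hstar : ∀ P : Ideal E, P.IsPrime → P ≤ Q → P₁ ≤ P := by
    intro P hP hPQ
    have hdisj : Disjoint (Q.primeCompl : Set E) (P : Set E) := by
      rw [Set.disjoint_left]
      intro x hx hxP
      exact hx (hPQ hxP)
    have h1 : (P.map (algebraMap E EQ)).IsPrime :=
      IsLocalization.isPrime_of_isPrime_disjoint Q.primeCompl EQ P hP hdisj
    have h2 : (P.map (algebraMap E EQ)).comap (algebraMap E EQ) = P :=
      IsLocalization.comap_map_of_isPrime_disjoint Q.primeCompl EQ hP hdisj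
    rw [← h2]
    exact Ideal.comap_mono (nilradical_le_prime _)
  let T : Set (Ideal E) := {q₀ | q₀ ∈ minimalPrimes E ∧ ¬ q₀ ≤ Q}
  have hT : T.Finite := hfin.subset (fun q₀ h => h.1)
  have hch : ∀ q₀ : Ideal E, ∃ s : E, q₀ ∈ T → (s ∈ q₀ ∧ s ∉ Q) := by
    intro q₀
    by_cases hq₀ : q₀ ∈ T
    · obtain ⟨s, hs, hsQ⟩ := Set.not_subset.mp hq₀.2
      exact ⟨s, fun _ => ⟨hs, hsQ⟩⟩
    · exact ⟨0, fun h => absurd h hq₀⟩
  choose s hs using hch
  let g : E := ∏ q₀ ∈ hT.toFinset, s q₀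
  have hgQ : g ∉ Q := by
    intro hg
    obtain ⟨q₀, hq₀, hsq⟩ := (Ideal.IsPrime.prod_mem_iff).mp hg
    exact (hs q₀ (hT.mem_toFinset.mp hq₀)).2 hsq
  have hgT : ∀ q₀ ∈ T, g ∈ q₀ := by
    intro q₀ hq₀
    exact Ideal.prod_mem q₀ (hT.mem_toFinset.mpr hq₀) (hs q₀ hq₀).1
  refine ⟨g, hgQ, ?_⟩
  let ξ : PrimeSpectrum E := ⟨P₁, hP₁⟩
  apply isIrreducible_of_subset_closure_singleton (ξ := ξ)
  · show g ∉ P₁
    exact fun h => hgQ (hP₁Q h)
  · intro 𝔮 h𝔮
    rw [← specializes_iff_mem_closure, ← PrimeSpectrum.le_iff_specializes]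
    obtain ⟨P, hPmin, hPle⟩ := Ideal.exists_minimalPrimes_le (show (⊥ : Ideal E) ≤ 𝔮.asIdeal from bot_le)
    have hgP : g ∉ P := fun h => h𝔮 (hPle h)
    have hPQ : P ≤ Q := by
      by_contra hcon
      exact hgP (hgT P ⟨hPmin, hcon⟩)
    exact (hstar P hPmin.1.1 hPQ).trans hPle

section Sch

variable {X Y : Scheme.{u}}

theorem isPrime_nilradical_of_isAffineOpen [IrreducibleSpace Y] {V : Y.Opens} (hV : IsAffineOpen V)
    (hne : (V : Set Y).Nonempty) : (nilradical Γ(Y, V)).IsPrime := by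
  obtain ⟨y, hy⟩ := hne
  haveI : Nonempty (Spec Γ(Y, V)) := ⟨hV.primeIdealOf ⟨y, hy⟩⟩
  haveI : IrreducibleSpace (Spec Γ(Y, V)) := hV.fromSpec.isOpenEmbedding.irreducibleSpace
  exact (PrimeSpectrum.irreducibleSpace_iff_isPrime_nilradical (R := Γ(Y, V))).mp
    (inferInstanceAs (IrreducibleSpace (Spec Γ(Y, V))))

/-- Local irreducibility at a point where `f` is étale, over a geometrically
unibranch point of an irreducible scheme. -/
theorem exists_irreducible_nhd' (f : X ⟶ Y) [IrreducibleSpace Y] (x : X)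
    (hY : CAlg2.IsGeomUnibranch (Y.presheaf.stalk (f x)))
    (het : ∃ U : X.Opens, x ∈ U ∧ Etale (U.ι ≫ f)) :
    ∃ N : X.Opens, x ∈ N ∧ IsIrreducible (N : Set X) := by
  obtain ⟨U₀, hxU₀, hU₀⟩ := het
  obtain ⟨_, ⟨V, hV, rfl⟩, hxV, -⟩ :=
    Y.isBasis_affineOpens.exists_subset_of_mem_open (Set.mem_univ (f x)) isOpen_univ
  obtain ⟨_, ⟨W, hW, rfl⟩, hxW, hWle⟩ :=
    X.isBasis_affineOpens.exists_subset_of_mem_open
      (show x ∈ ((f ⁻¹ᵁ V ⊓ U₀ : X.Opens) : Set X) from ⟨hxV, hxU₀⟩) (f ⁻¹ᵁ V ⊓ U₀).2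
  have e : W ≤ f ⁻¹ᵁ V := fun z hz => (hWle hz).1
  have hWU : W ≤ U₀ := fun z hz => (hWle hz).2
  have het : (f.appLE V W e).hom.Etale :=
    appLE_of_restrict (P := @Etale) f U₀ hU₀ hV hW hWU e
  algebraize [(f.appLE V W e).hom]
  let q := (hW.primeIdealOf ⟨x, hxW⟩).asIdeal
  let p := (hV.primeIdealOf ⟨f x, hxV⟩).asIdeal
  have hqp : q.comap (algebraMap Γ(Y, V) Γ(X, W)) = p :=
    congr($(IsAffineOpen.comap_primeIdealOf_appLE V hV W hW e hxW).1)
  have hN : (nilradical Γ(Y, V)).IsPrime := isPrime_nilradical_of_isAffineOpen hV ⟨f x, hxV⟩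
  have hgu : CAlg2.IsGeomUnibranch (Localization.AtPrime p) :=
    isGeomUnibranch_atPrime_of_stalk hV (f x) hxV hY
  have hfin := finite_minimalPrimes_of_etale_of_isPrime_nilradical Γ(Y, V) Γ(X, W) hN
  have hQn := isPrime_nilradical_atPrime_of_etale p hgu Γ(X, W) q hqp
  obtain ⟨g, hgq, hirr⟩ := exists_basicOpen_isIrreducible hfin q hQn
  refine ⟨X.basicOpen g, ?_, ?_⟩
  · have h1 : hW.primeIdealOf ⟨x, hxW⟩ ∈ hW.fromSpec ⁻¹ᵁ X.basicOpen g := by
      rw [hW.fromSpec_preimage_basicOpen]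
      exact hgq
    change hW.fromSpec _ ∈ X.basicOpen g at h1
    rwa [hW.fromSpec_primeIdealOf] at h1
  · rw [← hW.fromSpec_image_basicOpen]
    exact hirr.image _ hW.fromSpec.continuous.continuousOn

end Sch

section Top

variable {T : Type*} [TopologicalSpace T]

theorem eq_closure_of_mem_irreducibleComponents {Z N : Set T} (hZ : Z ∈ irreducibleComponents T)
    (hN : IsIrreducible N) (hNo : IsOpen N) (h : (Z ∩ N).Nonempty) : Z = closure N := by
  have h1 : Z ⊆ closure N :=
    (subset_closure_inter_of_isPreirreducible_of_isOpen hZ.1.2 hNo h).trans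
      (closure_mono Set.inter_subset_right)
  exact le_antisymm h1 (hZ.2 hN.closure h1)

theorem existsUnique_irreducibleComponent
    (hloc : ∀ x : T, ∃ N : Set T, IsOpen N ∧ x ∈ N ∧ IsIrreducible N) (x : T) :
    ∃! Z, Z ∈ irreducibleComponents T ∧ x ∈ Z := by
  obtain ⟨N, hNo, hxN, hN⟩ := hloc x
  obtain ⟨Z, hZ, hxZ⟩ :=
    exists_mem_irreducibleComponents_subset_of_isIrreducible {x} isIrreducible_singleton
  refine ⟨Z, ⟨hZ, hxZ rfl⟩, ?_⟩
  rintro Z' ⟨hZ', hxZ'⟩
  rw [eq_closure_of_mem_irreducibleComponents hZ' hN hNo ⟨x, hxZ', hxN⟩,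
    eq_closure_of_mem_irreducibleComponents hZ hN hNo ⟨x, hxZ rfl, hxN⟩]

theorem isOpen_of_mem_irreducibleComponents
    (hloc : ∀ x : T, ∃ N : Set T, IsOpen N ∧ x ∈ N ∧ IsIrreducible N) {Z : Set T}
    (hZ : Z ∈ irreducibleComponents T) : IsOpen Z := by
  rw [isOpen_iff_forall_mem_open]
  intro x hxZ
  obtain ⟨N, hNo, hxN, hN⟩ := hloc x
  refine ⟨N, ?_, hNo, hxN⟩
  rw [eq_closure_of_mem_irreducibleComponents hZ hN hNo ⟨x, hxZ, hxN⟩]
  exact subset_closure

end Top

section Main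

variable {X Y : Scheme.{u}}

theorem S2787_main (f : X ⟶ Y) [Etale f]
    [IrreducibleSpace Y] (hY : ∀ y : Y, CAlg2.IsGeomUnibranch (Y.presheaf.stalk y)) :
    (∀ x : X, ∃! Z, Z ∈ irreducibleComponents ↥X ∧ x ∈ Z) ∧
    (∀ Z ∈ irreducibleComponents ↥X, IsOpen Z ∧ ∃! x : X, x ∈ Z ∧ f.base x = genericPoint Y) := by
  have hloc : ∀ x : X, ∃ N : Set X, IsOpen N ∧ x ∈ N ∧ IsIrreducible N := by
    intro x
    obtain ⟨N, hxN, hN⟩ := exists_irreducible_nhd' f x (hY _)
      ⟨⊤, trivial, (inferInstance : Etale ((⊤ : X.Opens).ι ≫ f))⟩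
    exact ⟨N, N.2, hxN, hN⟩
  refine ⟨existsUnique_irreducibleComponent hloc, ?_⟩
  intro Z hZ
  have hZo : IsOpen Z := isOpen_of_mem_irreducibleComponents hloc hZ
  refine ⟨hZo, ?_⟩
  have hZc : IsClosed Z := isClosed_of_mem_irreducibleComponents Z hZ
  obtain ⟨ξ, hξ⟩ := QuasiSober.sober hZ.1 hZc
  have hξZ : ξ ∈ Z := hξ.mem
  have hgen : GeneralizingMap f := Flat.generalizingMap f
  have hfξ : f ξ = genericPoint Y := by
    have h1 : genericPoint Y ⤳ f ξ := genericPoint_specializes _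
    obtain ⟨ξ', hξ', hfξ'⟩ := hgen h1
    have h2 : ξ' ∈ Z := hξ'.mem_open hZo hξZ
    have h3 : ξ ⤳ ξ' := hξ.specializes h2
    rw [(h3.antisymm hξ').eq]
    exact hfξ'
  refine ⟨ξ, ⟨hξZ, hfξ⟩, ?_⟩
  rintro x ⟨hxZ, hfx⟩
  have h3 : ξ ⤳ x := hξ.specializes hxZ
  haveI : LocallyQuasiFinite f := Groth.Agent.Helper2.EtaleLocal.locallyQuasiFinite_of_etale f
  have hdisc : _root_.IsDiscrete (f ⁻¹' {genericPoint Y}) := f.isDiscrete_preimage_singleton _
  haveI := hdisc.to_subtype
  let a : ↥(f ⁻¹' {genericPoint Y}) := ⟨ξ, hfξ⟩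
  let b : ↥(f ⁻¹' {genericPoint Y}) := ⟨x, hfx⟩
  have h4 : a ⤳ b := Topology.IsInducing.subtypeVal.specializes_iff.mp h3
  have h5 : a = b := (specializes_iff_eq.mp h4)
  exact (congrArg Subtype.val h5).symm

end Main

end Groth.Agent.Lead.GUnib
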