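import Mathlib
import Groth.Prelude
import Groth.Agent.Lib.Lead.GUnib11
import Groth.Agent.Lib.Helper1.DomGen
import Groth.Agent.Lib.Helper6.EtaleSmoothLQF
import Groth.Agent.Lib.Helper7.UnramBC.Main

/-!
# Quasi-finite morphisms with smooth fibres over a geometrically unibranch base are étale
-/

set_option autoImplicit false
set_option backward.isDefEq.respectTransparency.types false
set_option synthInstance.maxHeartbeats 400000
set_option linter.style.haveILetI false
set_option linter.unusedSectionVars false

universe u

open AlgebraicGeometry CategoryTheory Limits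

namespace Groth.Agent.Lead.GUnib

open IsLocalRing TensorProduct

section Sch

variable {X S : Scheme.{u}}

/-- A morphism locally of finite type all of whose fibres are unramified is unramified. -/
theorem formallyUnramified_of_fibres (f : X ⟶ S) [LocallyOfFiniteType f]
    (h : ∀ s : S, FormallyUnramified (pullback.snd f (S.fromSpecResidueField s))) :
    FormallyUnramified f := by
  rw [Groth.Agent.Helper7.UnramBC.formallyUnramified_iff_forall_unramAt]
  intro x
  let s := f x
  let g := S.fromSpecResidueField s
  have hpb : IsPullback (pullback.fst f g) (pullback.snd f g) f g := IsPullback.of_hasPullback f g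
  obtain ⟨z, hz, -⟩ := Scheme.Pullback.exists_preimage_pullback (f := f) (g := g) x
    (IsLocalRing.closedPoint _) (by
      show f x = S.fromSpecResidueField (f x) _
      rw [Scheme.fromSpecResidueField_apply])
  have h1 := (Groth.Agent.Helper7.UnramBC.unramAt_iff_of_isPullback hpb z).mp
    ((Groth.Agent.Helper7.UnramBC.formallyUnramified_iff_forall_unramAt _).mp (h s) z)
  rw [hz] at h1
  exact h1

theorem isDomain_of_isReduced_of_isGeomUnibranch (A : Type u) [CommRing A] [IsLocalRing A]
    [IsReduced A] (h : CAlg2.IsGeomUnibranch A) : IsDomain A := by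
  have h1 : IsDomain (A ⧸ nilradical A) := h.1.1
  have h2 : (nilradical A).IsPrime := (Ideal.Quotient.isDomain_iff_prime (nilradical A)).mp h1
  have h3 : nilradical A = ⊥ := nilradical_eq_zero A
  rw [h3] at h2
  haveI := h2
  exact IsDomain.of_bot_isPrime A

theorem exists_irreducible_nhd_of_isLocallyNoetherian [IsLocallyNoetherian S] (s : S)
    (h : (nilradical (S.presheaf.stalk s)).IsPrime) :
    ∃ N : S.Opens, s ∈ N ∧ IsIrreducible (N : Set S) := by
  obtain ⟨_, ⟨V, hV, rfl⟩, hsV, -⟩ :=
    S.isBasis_affineOpens.exists_subset_of_mem_open (Set.mem_univ s) isOpen_univ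
  haveI : IsNoetherianRing Γ(S, V) := IsLocallyNoetherian.component_noetherian ⟨V, hV⟩
  let q := (hV.primeIdealOf ⟨s, hsV⟩).asIdeal
  have hfin : (minimalPrimes Γ(S, V)).Finite := minimalPrimes.finite_of_isNoetherianRing Γ(S, V)
  have hQn : (nilradical (Localization.AtPrime q)).IsPrime := by
    letI := S.presheaf.algebra_section_stalk ⟨s, hsV⟩
    haveI := hV.isLocalization_stalk ⟨s, hsV⟩
    let e := IsLocalization.algEquiv q.primeCompl (Localization.AtPrime q) (S.presheaf.stalk s)
    exact isPrime_nilradical_of_injective e.toRingEquiv.toRingHom e.injective h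
  obtain ⟨g, hgq, hirr⟩ := exists_basicOpen_isIrreducible hfin q hQn
  refine ⟨S.basicOpen g, ?_, ?_⟩
  · have h1 : hV.primeIdealOf ⟨s, hsV⟩ ∈ hV.fromSpec ⁻¹ᵁ S.basicOpen g := by
      rw [hV.fromSpec_preimage_basicOpen]
      exact hgq
    change hV.fromSpec _ ∈ S.basicOpen g at h1
    rwa [hV.fromSpec_primeIdealOf] at h1
  · rw [← hV.fromSpec_image_basicOpen]
    exact hirr.image _ hV.fromSpec.continuous.continuousOn

theorem S13423_main [IsLocallyNoetherian S] [IsReduced S]
    (hS : ∀ s : S, CAlg2.IsGeomUnibranch (S.presheaf.stalk s))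
    (f : X ⟶ S) [LocallyOfFiniteType f] [QuasiCompact f] [LocallyQuasiFinite f] [IsDominant f]
    [ConnectedSpace X]
    (hfib : ∀ s : S, Smooth (pullback.snd f (S.fromSpecResidueField s))) :
    Etale f := by
  haveI : FormallyUnramified f := by
    apply formallyUnramified_of_fibres
    intro s
    haveI : LocallyQuasiFinite (pullback.snd f (S.fromSpecResidueField s)) :=
      MorphismProperty.pullback_snd _ _ inferInstance
    haveI : Etale (pullback.snd f (S.fromSpecResidueField s)) :=
      (Groth.Agent.Lib.Helper6.EtaleSmoothLQF.main _).mpr ⟨hfib s, inferInstance⟩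
    infer_instance
  haveI : ConnectedSpace S := by
    rw [connectedSpace_iff_univ]
    have h1 : _root_.IsConnected (Set.range f) := isConnected_range f.continuous
    have h2 := h1.closure
    rw [f.denseRange.closure_range] at h2
    exact h2
  have hdomain : ∀ s : S, IsDomain (S.presheaf.stalk s) := fun s =>
    isDomain_of_isReduced_of_isGeomUnibranch _ (hS s)
  haveI : IrreducibleSpace S := by
    apply irreducibleSpace_of_connected_of_locally_irreducible
    intro s
    haveI := hdomain s
    obtain ⟨N, hsN, hN⟩ := exists_irreducible_nhd_of_isLocallyNoetherian s (by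
      rw [nilradical_eq_zero]
      exact Ideal.isPrime_bot)
    exact ⟨N, N.2, hsN, hN⟩
  haveI : IsIntegral S := isIntegral_of_irreducibleSpace_of_isReduced S
  have hdom : genericPoint S ∈ Set.range f := by
    apply Groth.Agent.Helper1.DomGen.mem_range_of_genMax f
    intro y' hy'
    exact (hy'.antisymm (genericPoint_specializes y')).eq
  exact (S1450_main f hS hdom).1

end Sch

end Groth.Agent.Lead.GUnib
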