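import Mathlib
import Groth.Prelude
import Groth.Agent.Lib.Lead.GUnib12

/-!
# Irreducible components through a point and minimal primes of the stalk
-/

set_option autoImplicit false
set_option backward.isDefEq.respectTransparency.types false
set_option synthInstance.maxHeartbeats 400000
set_option linter.style.haveILetI false
set_option linter.unusedSectionVars false

universe u

open AlgebraicGeometry CategoryTheory Limits

namespace Groth.Agent.Lead.GUnib

open Groth.Agent.Helper1.DomGen

section Comp

variable (U : Scheme.{u}) (u : U)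

/-- The set of points of `Spec 𝒪_{U,u}` that are minimal primes. -/
def minPts : Set (PrimeSpectrum (U.presheaf.stalk u)) :=
  {p | p.asIdeal ∈ minimalPrimes (U.presheaf.stalk u)}

theorem encard_minPts : (minPts U u).encard = (minimalPrimes (U.presheaf.stalk u)).encard := by
  have h1 : minimalPrimes (U.presheaf.stalk u) = PrimeSpectrum.asIdeal '' (minPts U u) := by
    ext P
    constructor
    · intro hP
      exact ⟨⟨P, hP.1.1⟩, hP, rfl⟩
    · rintro ⟨p, hp, rfl⟩
      exact hp
  rw [h1, Set.InjOn.encard_image]
  intro a _ b _ h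
  exact PrimeSpectrum.ext h

/-- Components through `u` correspond to minimal primes of the stalk. -/
theorem encard_components_eq :
    {Z : Set U | Z ∈ irreducibleComponents U ∧ u ∈ Z}.encard =
      (minimalPrimes (U.presheaf.stalk u)).encard := by
  rw [← encard_minPts]
  let j := U.fromSpecStalk u
  have hind : Topology.IsInducing j := j.isEmbedding.isInducing
  have hinj : Function.Injective j := j.isEmbedding.injective
  have hrange : Set.range j = {y | y ⤳ u} := Scheme.range_fromSpecStalk
  let Φ : PrimeSpectrum (U.presheaf.stalk u) → Set U := fun p => closure {j p}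
  have hspec : ∀ p p' : PrimeSpectrum (U.presheaf.stalk u),
      p.asIdeal ≤ p'.asIdeal ↔ j p ⤳ j p' := by
    intro p p'
    rw [PrimeSpectrum.asIdeal_le_asIdeal, PrimeSpectrum.le_iff_specializes]
    exact hind.specializes_iff.symm
  have hΦ : {Z : Set U | Z ∈ irreducibleComponents U ∧ u ∈ Z} = Φ '' (minPts U u) := by
    ext Z
    constructor
    · rintro ⟨hZ, huZ⟩
      obtain ⟨ξ, hξ⟩ := QuasiSober.sober hZ.1 (isClosed_of_mem_irreducibleComponents Z hZ)
      have hξu : ξ ⤳ u := hξ.specializes huZ
      obtain ⟨p, hp⟩ : ∃ p : PrimeSpectrum (U.presheaf.stalk u), j p = ξ := by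
        have : ξ ∈ Set.range j := by rw [hrange]; exact hξu
        exact this
      refine ⟨p, ?_, ?_⟩
      · refine ⟨⟨p.2, bot_le⟩, ?_⟩
        rintro P' ⟨hP', -⟩ hle
        have h1 : j ⟨P', hP'⟩ ⤳ j p := (hspec ⟨P', hP'⟩ p).mp hle
        have hmax : GenMax ξ := genMax_of_mem_irreducibleComponents ξ (by rw [hξ.def]; exact hZ)
        rw [hp] at h1
        have h2 := hmax _ h1
        have h3 : (⟨P', hP'⟩ : PrimeSpectrum _) = p := hinj (h2.trans hp.symm)
        rw [← h3]
      · show closure {j p} = Z
        rw [hp]
        exact hξ.def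
    · rintro ⟨p, hp, rfl⟩
      have hpu : j p ⤳ u := by
        have : j p ∈ Set.range j := ⟨p, rfl⟩
        rw [hrange] at this
        exact this
      refine ⟨?_, specializes_iff_mem_closure.mp hpu⟩
      -- closure {j p} is an irreducible component
      have hirr : IsIrreducible (closure {j p}) := isIrreducible_singleton.closure
      refine ⟨hirr, ?_⟩
      intro S hS hle
      obtain ⟨Z', hZ', hSZ'⟩ := exists_mem_irreducibleComponents_subset_of_isIrreducible S hS
      obtain ⟨ξ', hξ'⟩ := QuasiSober.sober hZ'.1 (isClosed_of_mem_irreducibleComponents Z' hZ')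
      have h1 : ξ' ⤳ j p := hξ'.specializes (hSZ' (hle (subset_closure rfl)))
      have h2 : ξ' ⤳ u := h1.trans hpu
      obtain ⟨p', hp'⟩ : ∃ p' : PrimeSpectrum (U.presheaf.stalk u), j p' = ξ' := by
        have : ξ' ∈ Set.range j := by rw [hrange]; exact h2
        exact this
      rw [← hp'] at h1
      have h3 : p'.asIdeal ≤ p.asIdeal := (hspec p' p).mpr h1
      have h4 : p.asIdeal ≤ p'.asIdeal := hp.2 ⟨p'.2, bot_le⟩ h3
      have h5 : p' = p := PrimeSpectrum.ext (le_antisymm h3 h4)
      intro z hz
      have : z ∈ Z' := hSZ' hz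
      rw [← hξ'.def, ← hp', h5] at this
      exact this
  rw [hΦ, Set.InjOn.encard_image]
  intro a _ b _ h
  have h1 : j a ⤳ j b := by
    rw [specializes_iff_mem_closure]
    show j b ∈ Φ a
    rw [h]
    exact subset_closure rfl
  have h2 : j b ⤳ j a := by
    rw [specializes_iff_mem_closure]
    show j a ∈ Φ b
    rw [← h]
    exact subset_closure rfl
  exact hinj (h1.antisymm h2).eq

end Comp

end Groth.Agent.Lead.GUnib
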