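import Mathlib
import Groth.Prelude
import Groth.Agent.Lib.Lead.GUnib13

/-!
# Minimal primes of the colimit `G A K` and of its stages
-/

set_option autoImplicit false
set_option backward.isDefEq.respectTransparency.types false
set_option synthInstance.maxHeartbeats 400000
set_option linter.style.haveILetI false
set_option linter.unusedSectionVars false

universe u

open AlgebraicGeometry CategoryTheory Limits

namespace Groth.Agent.Lead.GUnib

open Groth.Agent.Helper7.SHens IsLocalRing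

section FF

variable {B C : Type*} [CommRing B] [CommRing C] [Algebra B C]

/-- Under a flat map, minimal primes contract to minimal primes. -/
theorem comap_mem_minimalPrimes_of_flat [Module.Flat B C] (Q : Ideal C)
    (hQ : Q ∈ minimalPrimes C) : Q.comap (algebraMap B C) ∈ minimalPrimes B := by
  haveI hQp : Q.IsPrime := hQ.1.1
  refine ⟨⟨Ideal.IsPrime.comap _, bot_le⟩, ?_⟩
  rintro P' ⟨hP', -⟩ hle
  haveI := hP'
  let P₀ := Q.under B
  haveI : Q.LiesOver P₀ := ⟨rfl⟩
  obtain ⟨Q', hQ'le, hQ'p, hQ'l⟩ :=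
    Ideal.exists_ideal_le_liesOver_of_le (p := P') (q := P₀) Q hle
  have h1 : Q ≤ Q' := hQ.2 ⟨hQ'p, bot_le⟩ hQ'le
  have h2 : Q' = Q := le_antisymm hQ'le h1
  subst h2
  exact (hQ'l.over).symm.le

/-- Under a faithfully flat map, every minimal prime is the contraction of a minimal prime. -/
theorem exists_minimalPrimes_comap_eq [Module.FaithfullyFlat B C] (P : Ideal B)
    (hP : P ∈ minimalPrimes B) :
    ∃ Q ∈ minimalPrimes C, Q.comap (algebraMap B C) = P := by
  haveI hPp : P.IsPrime := hP.1.1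
  obtain ⟨Q₀, hQ₀p, hQ₀l⟩ := Ideal.exists_isPrime_liesOver_of_faithfullyFlat (B := C) P
  obtain ⟨Q, hQmin, hQle⟩ := Ideal.exists_minimalPrimes_le (show (⊥ : Ideal C) ≤ Q₀ from bot_le)
  refine ⟨Q, hQmin, ?_⟩
  haveI := hQmin.1.1
  have h1 : Q.comap (algebraMap B C) ≤ P := by
    rw [hQ₀l.over]
    exact Ideal.comap_mono hQle
  exact le_antisymm h1 (hP.2 ⟨Ideal.IsPrime.comap _, bot_le⟩ h1)

theorem encard_minimalPrimes_le_of_faithfullyFlat [Module.FaithfullyFlat B C] :
    (minimalPrimes B).encard ≤ (minimalPrimes C).encard := by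
  classical
  have hch : ∀ P : Ideal B, ∃ Q : Ideal C, P ∈ minimalPrimes B →
      (Q ∈ minimalPrimes C ∧ Q.comap (algebraMap B C) = P) := by
    intro P
    by_cases hP : P ∈ minimalPrimes B
    · obtain ⟨Q, hQ, hQP⟩ := exists_minimalPrimes_comap_eq (C := C) P hP
      exact ⟨Q, fun _ => ⟨hQ, hQP⟩⟩
    · exact ⟨⊥, fun h => absurd h hP⟩
  choose f hf using hch
  refine Set.encard_le_encard_of_injOn (f := f) (fun P hP => (hf P hP).1) ?_
  intro P hP P' hP' h
  rw [← (hf P hP).2, ← (hf P' hP').2, h]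

end FF

section Stage

variable {A : Type u} [CommRing A] {K : Type u} [Field K] [Algebra A K]

theorem faithfullyFlat_locMap (U : Nbhd A K) :
    letI : Algebra U.Loc (G A K) := (locMap U).toAlgebra
    Module.FaithfullyFlat U.Loc (G A K) := by
  letI : Algebra U.Ring (G A K) := stageAlgebra U
  have hflat : Module.Flat U.Ring (G A K) := flat_stage U (fun _ => rfl)
  letI : Algebra U.Loc (G A K) := (locMap U).toAlgebra
  haveI : IsScalarTower U.Ring U.Loc (G A K) :=
    IsScalarTower.of_algebraMap_eq (fun x => (locMap_algebraMap U x).symm)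
  have hflat' : Module.Flat U.Loc (G A K) :=
    (Module.flat_iff_of_isLocalization U.Loc U.q.primeCompl (G A K)).mpr hflat
  haveI : IsLocalHom (algebraMap U.Loc (G A K)) := isLocalHom_locMap U
  exact Module.FaithfullyFlat.of_flat_of_isLocalHom (A := U.Loc) (B := G A K)

theorem encard_minimalPrimes_loc_le (U : Nbhd A K) :
    (minimalPrimes U.Loc).encard ≤ (minimalPrimes (G A K)).encard := by
  letI : Algebra U.Loc (G A K) := (locMap U).toAlgebra
  haveI := faithfullyFlat_locMap U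
  exact encard_minimalPrimes_le_of_faithfullyFlat

theorem exists_rep_finset (s : Finset (G A K)) :
    ∃ U : Nbhd A K, ∀ c ∈ s, ∃ x : U.Ring, ι U x = c := by
  classical
  induction s using Finset.induction_on with
  | empty => exact ⟨Nbhd.base A K, fun c hc => absurd hc (Finset.notMem_empty c)⟩
  | insert c s hcs ih =>
    obtain ⟨U, hU⟩ := ih
    obtain ⟨Y, y, hy⟩ := exists_rep c
    obtain ⟨Z, f, g, -⟩ := Nbhd.exists_cocone_objs U Y
    refine ⟨Z, ?_⟩
    intro d hd
    rcases Finset.mem_insert.mp hd with rfl | hd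
    · exact ⟨(g : Nbhd.Hom Y Z).toAlgHom y, (ι_hom g y).trans hy⟩
    · obtain ⟨x, hx⟩ := hU d hd
      exact ⟨(f : Nbhd.Hom U Z).toAlgHom x, (ι_hom f x).trans hx⟩

theorem exists_stage_le_encard (n : ℕ) (hn : (n : ℕ∞) ≤ (minimalPrimes (G A K)).encard) :
    ∃ U : Nbhd A K, (n : ℕ∞) ≤ (minimalPrimes U.Loc).encard := by
  classical
  obtain ⟨T, hTsub, hTcard⟩ := Set.exists_subset_encard_eq hn
  have hT : T.Finite := Set.finite_of_encard_eq_coe hTcard
  have hch : ∀ Q Q' : Ideal (G A K), ∃ a : G A K, Q ∈ T → Q' ∈ T → Q ≠ Q' → (a ∈ Q ∧ a ∉ Q') := by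
    intro Q Q'
    by_cases h : Q ∈ T ∧ Q' ∈ T ∧ Q ≠ Q'
    · obtain ⟨hQ, hQ', hne⟩ := h
      have hnle : ¬ Q ≤ Q' := by
        intro hle
        have h1 : Q' ≤ Q := (hTsub hQ').2 ⟨(hTsub hQ).1.1, bot_le⟩ hle
        exact hne (le_antisymm hle h1)
      obtain ⟨a, ha, ha'⟩ := Set.not_subset.mp hnle
      exact ⟨a, fun _ _ _ => ⟨ha, ha'⟩⟩
    · exact ⟨0, fun h1 h2 h3 => absurd ⟨h1, h2, h3⟩ h⟩
  choose a ha using hch
  let s : Finset (G A K) :=
    (hT.toFinset ×ˢ hT.toFinset).image (fun pr => a pr.1 pr.2)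
  obtain ⟨U, hU⟩ := exists_rep_finset s
  refine ⟨U, ?_⟩
  letI : Algebra U.Loc (G A K) := (locMap U).toAlgebra
  haveI := faithfullyFlat_locMap U
  rw [← hTcard]
  refine Set.encard_le_encard_of_injOn (f := fun Q => Q.comap (algebraMap U.Loc (G A K)))
    (fun Q hQ => comap_mem_minimalPrimes_of_flat Q (hTsub hQ)) ?_
  intro Q hQ Q' hQ' heq
  by_contra hne
  obtain ⟨h1, h2⟩ := ha Q Q' hQ hQ' hne
  have hmem : a Q Q' ∈ s := by
    refine Finset.mem_image.mpr ⟨(Q, Q'), ?_, rfl⟩
    exact Finset.mem_product.mpr ⟨hT.mem_toFinset.mpr hQ, hT.mem_toFinset.mpr hQ'⟩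
  obtain ⟨x, hx⟩ := hU _ hmem
  have hx' : algebraMap U.Loc (G A K) (algebraMap U.Ring U.Loc x) = a Q Q' := by
    rw [← hx]
    exact locMap_algebraMap U x
  have h3 : algebraMap U.Ring U.Loc x ∈ Q.comap (algebraMap U.Loc (G A K)) := by
    rw [Ideal.mem_comap, hx']
    exact h1
  have h4 : algebraMap U.Ring U.Loc x ∈ Q'.comap (algebraMap U.Loc (G A K)) := by
    have : Q.comap (algebraMap U.Loc (G A K)) = Q'.comap (algebraMap U.Loc (G A K)) := heq
    rw [← this]
    exact h3
  rw [Ideal.mem_comap, hx'] at h4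
  exact h2 h4

theorem encard_minimalPrimes_G_eq_iSup :
    (minimalPrimes (G A K)).encard = ⨆ U : Nbhd A K, (minimalPrimes U.Loc).encard := by
  apply le_antisymm
  · rw [← ENat.forall_natCast_le_iff_le]
    intro n hn
    obtain ⟨U, hU⟩ := exists_stage_le_encard n hn
    exact hU.trans (le_iSup (fun U : Nbhd A K => (minimalPrimes U.Loc).encard) U)
  · exact iSup_le (fun U => encard_minimalPrimes_loc_le U)

end Stage

end Groth.Agent.Lead.GUnib
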