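import Mathlib
import Groth.Prelude
import Groth.Agent.Lib.Lead.GUnib14

/-!
# Etale neighbourhoods of a point give stages of the strict henselization
-/

set_option autoImplicit false
set_option backward.isDefEq.respectTransparency.types false
set_option synthInstance.maxHeartbeats 400000
set_option linter.style.haveILetI false
set_option linter.unusedSectionVars false

universe u

open AlgebraicGeometry CategoryTheory Limits

namespace Groth.Agent.Lead.GUnib

open Groth.Agent.Helper7.SHens IsLocalRing TensorProduct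

section Ring

/-- An étale algebra with a section to `K` whose kernel is `Q` gives a stage with local ring `E_Q`. -/
theorem exists_nbhd_equiv_of_sec {A : Type u} [CommRing A] {K : Type u} [Field K] [Algebra A K]
    (E : Type u) [CommRing E] [Algebra A E] [Algebra.Etale A E] (Q : Ideal E) [Q.IsPrime]
    (sec : E →ₐ[A] K) (hker : ∀ x : E, sec x = 0 ↔ x ∈ Q) :
    ∃ U : Nbhd A K, Nonempty (Localization.AtPrime Q ≃+* U.Loc) := by
  let U : Nbhd A K := Nbhd.of E sec
  let e : U.Ring ≃ₐ[A] E := Nbhd.ofEquiv E sec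
  have H : Q.primeCompl.map (e.symm : E ≃+* U.Ring).toMonoidHom = U.q.primeCompl := by
    ext x
    simp only [Submonoid.mem_map, Ideal.mem_primeCompl_iff]
    constructor
    · rintro ⟨y, hy, rfl⟩
      intro hx
      apply hy
      rw [← hker]
      have h2 := Nbhd.of_sec_apply E sec (e.symm y)
      rw [show (Nbhd.ofEquiv E sec) (e.symm y) = y from e.apply_symm_apply y] at h2
      rw [← h2]
      exact hx
    · intro hx
      refine ⟨e x, ?_, e.symm_apply_apply x⟩
      intro hy
      apply hx
      rw [← hker] at hy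
      change U.sec x = 0
      rw [Nbhd.of_sec_apply E sec x]
      exact hy
  exact ⟨U, ⟨IsLocalization.ringEquivOfRingEquiv (Localization.AtPrime Q)
    (Localization.AtPrime U.q) (e.symm : E ≃+* U.Ring) H⟩⟩

/-- Base change of an étale algebra along a localization: the local rings agree. -/
theorem exists_baseChange_equiv {R : Type u} [CommRing R] (p : Ideal R) [p.IsPrime]
    (A : Type u) [CommRing A] [IsLocalRing A] [Algebra R A] [IsLocalization.AtPrime A p]
    (E : Type u) [CommRing E] [Algebra R E] (Q : Ideal E) [hQp : Q.IsPrime]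
    (hQ : Q.comap (algebraMap R E) = p) :
    ∃ (Q₁ : Ideal (A ⊗[R] E)) (_ : Q₁.IsPrime),
      Q₁.comap (algebraMap A (A ⊗[R] E)) = maximalIdeal A ∧
      Q₁.comap (Algebra.TensorProduct.includeRight (R := R) (A := A) (B := E)).toRingHom = Q ∧
      Nonempty (Localization.AtPrime Q ≃+* Localization.AtPrime Q₁) := by
  let Ep := A ⊗[R] E
  letI : Algebra E Ep := Algebra.TensorProduct.rightAlgebra
  haveI hloc : IsLocalization (Algebra.algebraMapSubmonoid E p.primeCompl) Ep :=
    IsLocalization.tensorRight A p.primeCompl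
  have hdisj : Disjoint (Algebra.algebraMapSubmonoid E p.primeCompl : Set E) (Q : Set E) := by
    rw [Set.disjoint_left]
    rintro x ⟨r, hr, rfl⟩ hx
    apply hr
    rw [← hQ]
    exact hx
  let Q₁ : Ideal Ep := Q.map (algebraMap E Ep)
  haveI hQ₁p : Q₁.IsPrime :=
    IsLocalization.isPrime_of_isPrime_disjoint _ Ep Q hQp hdisj
  have hcomap : Q₁.comap (algebraMap E Ep) = Q :=
    IsLocalization.comap_map_of_isPrime_disjoint _ Ep hQp hdisj
  have hQ₁ : Q₁.comap (algebraMap A Ep) = maximalIdeal A := by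
    have h1 : (Q₁.comap (algebraMap A Ep)).comap (algebraMap R A) = p := by
      rw [Ideal.comap_comap, ← IsScalarTower.algebraMap_eq R A Ep,
        IsScalarTower.algebraMap_eq R E Ep, ← Ideal.comap_comap, hcomap, hQ]
    have h2 : (maximalIdeal A).comap (algebraMap R A) = p :=
      IsLocalization.AtPrime.comap_maximalIdeal A p
    calc Q₁.comap (algebraMap A Ep)
        = ((Q₁.comap (algebraMap A Ep)).comap (algebraMap R A)).map (algebraMap R A) :=
          (IsLocalization.map_comap p.primeCompl A _).symm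
      _ = p.map (algebraMap R A) := by rw [h1]
      _ = ((maximalIdeal A).comap (algebraMap R A)).map (algebraMap R A) := by rw [h2]
      _ = maximalIdeal A := IsLocalization.map_comap p.primeCompl A _
  refine ⟨Q₁, hQ₁p, hQ₁, hcomap, ?_⟩
  let T := Localization.AtPrime Q₁
  haveI : IsScalarTower E Ep T := inferInstance
  have h1 : IsLocalization.AtPrime T (Q₁.comap (algebraMap E Ep)) :=
    IsLocalization.isLocalization_isLocalization_atPrime_isLocalization
      (Algebra.algebraMapSubmonoid E p.primeCompl) T Q₁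
  have h2 : IsLocalization Q.primeCompl T := by
    have : (Q₁.comap (algebraMap E Ep)).primeCompl = Q.primeCompl := by
      ext x
      simp only [Ideal.mem_primeCompl_iff]
      rw [hcomap]
    rw [← this]
    exact h1
  exact ⟨(IsLocalization.algEquiv Q.primeCompl (Localization.AtPrime Q) T).toRingEquiv⟩

theorem exists_nbhd_equiv_atPrime {R : Type u} [CommRing R] (p : Ideal R) [p.IsPrime]
    (A : Type u) [CommRing A] [IsLocalRing A] [Algebra R A] [IsLocalization.AtPrime A p]
    (E : Type u) [CommRing E] [Algebra R E] [Algebra.Etale R E] (Q : Ideal E) [hQp : Q.IsPrime]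
    (hQ : Q.comap (algebraMap R E) = p) :
    ∃ N : Nbhd A (SeparableClosure (ResidueField A)),
      Nonempty (Localization.AtPrime Q ≃+* N.Loc) := by
  obtain ⟨Q₁, hQ₁p, hQ₁, -, ⟨e₁⟩⟩ := exists_baseChange_equiv p A E Q hQ
  haveI := hQ₁p
  obtain ⟨N, ⟨e₂⟩⟩ := exists_nbhd_equiv A (A ⊗[R] E) Q₁ hQ₁
  exact ⟨N, ⟨e₁.trans e₂⟩⟩

end Ring

section Sch

variable {U X : Scheme.{u}}

theorem exists_stage_of_etale (g : U ⟶ X) [Etale g] (u : U) :
    ∃ N : Nbhd (X.presheaf.stalk (g u))
        (SeparableClosure (ResidueField (X.presheaf.stalk (g u)))),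
      Nonempty (U.presheaf.stalk u ≃+* N.Loc) := by
  obtain ⟨_, ⟨V, hV, rfl⟩, hxV, -⟩ :=
    X.isBasis_affineOpens.exists_subset_of_mem_open (Set.mem_univ (g u)) isOpen_univ
  obtain ⟨_, ⟨W, hW, rfl⟩, huW, hWle⟩ :=
    U.isBasis_affineOpens.exists_subset_of_mem_open
      (show u ∈ ((g ⁻¹ᵁ V : U.Opens) : Set U) from hxV) (g ⁻¹ᵁ V).2
  have e : W ≤ g ⁻¹ᵁ V := hWle
  have het : (g.appLE V W e).hom.Etale :=
    HasRingHomProperty.appLE @Etale g inferInstance ⟨V, hV⟩ ⟨W, hW⟩ e
  algebraize [(g.appLE V W e).hom]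
  let q := (hW.primeIdealOf ⟨u, huW⟩).asIdeal
  let p := (hV.primeIdealOf ⟨g u, hxV⟩).asIdeal
  have hqp : q.comap (algebraMap Γ(X, V) Γ(U, W)) = p :=
    congr($(IsAffineOpen.comap_primeIdealOf_appLE V hV W hW e huW).1)
  letI := X.presheaf.algebra_section_stalk ⟨g u, hxV⟩
  haveI := hV.isLocalization_stalk ⟨g u, hxV⟩
  obtain ⟨N, ⟨e₁⟩⟩ := exists_nbhd_equiv_atPrime p (X.presheaf.stalk (g u)) Γ(U, W) q hqp
  letI := U.presheaf.algebra_section_stalk ⟨u, huW⟩
  haveI := hW.isLocalization_stalk ⟨u, huW⟩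
  exact ⟨N, ⟨(IsLocalization.algEquiv q.primeCompl (U.presheaf.stalk u)
      (Localization.AtPrime q)).toRingEquiv.trans e₁⟩⟩

end Sch

end Groth.Agent.Lead.GUnib
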