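import Mathlib
import Groth.Prelude
import Groth.Agent.Lib.Lead.GUnib15

/-!
# Spreading out an étale algebra over a stalk to an étale neighbourhood
-/

set_option autoImplicit false
set_option backward.isDefEq.respectTransparency.types false
set_option synthInstance.maxHeartbeats 400000
set_option linter.style.haveILetI false
set_option linter.unusedSectionVars false

universe u

open AlgebraicGeometry CategoryTheory Limits

namespace Groth.Agent.Lead.GUnib

open Groth.Agent.Helper7.SHens IsLocalRing TensorProduct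

section Germ

variable (X : Scheme.{u}) (x : X)

theorem exists_affine_germ_range (S : Set (X.presheaf.stalk x)) (hS : S.Finite) :
    ∃ (V : X.Opens) (_ : IsAffineOpen V) (hx : x ∈ V),
      S ⊆ Set.range (X.presheaf.germ V x hx).hom := by
  induction S, hS using Set.Finite.induction_on with
  | empty =>
    obtain ⟨_, ⟨V, hV, rfl⟩, hxV, -⟩ :=
      X.isBasis_affineOpens.exists_subset_of_mem_open (Set.mem_univ x) isOpen_univ
    exact ⟨V, hV, hxV, Set.empty_subset _⟩
  | @insert t S _ _ ih =>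
    obtain ⟨V, hV, hxV, hSV⟩ := ih
    obtain ⟨U', hxU', s', hs'⟩ := X.presheaf.exists_germ_eq t
    obtain ⟨_, ⟨W, hW, rfl⟩, hxW, hWle⟩ :=
      X.isBasis_affineOpens.exists_subset_of_mem_open
        (show x ∈ ((V ⊓ U' : X.Opens) : Set X) from ⟨hxV, hxU'⟩) (V ⊓ U').2
    have hWV : W ≤ V := fun z hz => (hWle hz).1
    have hWU' : W ≤ U' := fun z hz => (hWle hz).2
    refine ⟨W, hW, hxW, ?_⟩
    intro c hc
    rcases Set.mem_insert_iff.mp hc with rfl | hc
    · refine ⟨X.presheaf.map (homOfLE hWU').op s', ?_⟩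
      rw [← hs']
      exact TopCat.Presheaf.germ_res_apply X.presheaf (homOfLE hWU') x hxW s'
    · obtain ⟨s, rfl⟩ := hSV hc
      exact ⟨X.presheaf.map (homOfLE hWV).op s,
        TopCat.Presheaf.germ_res_apply X.presheaf (homOfLE hWV) x hxW s⟩

end Germ

section Spread

variable {R₀ : Type u} [CommRing R₀] (p₀ : Ideal R₀) [p₀.IsPrime]
  (A : Type u) [CommRing A] [IsLocalRing A] [Algebra R₀ A] [IsLocalization.AtPrime A p₀]
  (E : Type u) [CommRing E] [Algebra A E] [Algebra.Etale A E]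
  (Q : Ideal E) [Q.IsPrime]

set_option backward.isDefEq.respectTransparency false in
theorem exists_etale_model' (hQ : Q.comap (algebraMap A E) = maximalIdeal A)
    (E₀ : Type u) [CommRing E₀] [Algebra R₀ E₀] [Algebra.FinitePresentation R₀ E₀]
    (eT : A ⊗[R₀] E₀ ≃ₐ[A] E) :
    ∃ (B : Type u) (_ : CommRing B) (_ : Algebra R₀ B) (_ : Algebra.Etale R₀ B) (u₁ : Ideal B)
      (_ : u₁.IsPrime), u₁.comap (algebraMap R₀ B) = p₀ ∧
        Nonempty (Localization.AtPrime u₁ ≃+* Localization.AtPrime Q) := by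
  letI : Algebra R₀ E := ((algebraMap A E).comp (algebraMap R₀ A)).toAlgebra
  haveI : IsScalarTower R₀ A E := IsScalarTower.of_algebraMap_eq' rfl
  let φ : E₀ →+* E := eT.toRingEquiv.toRingHom.comp
    (Algebra.TensorProduct.includeRight (R := R₀) (A := A) (B := E₀)).toRingHom
  letI algE : Algebra E₀ E := φ.toAlgebra
  haveI : IsScalarTower R₀ E₀ E := by
    apply IsScalarTower.of_algebraMap_eq (R := R₀) (S := E₀) (A := E)
    intro r
    show algebraMap R₀ E r = eT ((1 : A) ⊗ₜ[R₀] (algebraMap R₀ E₀ r))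
    have h1 : ((1 : A) ⊗ₜ[R₀] (algebraMap R₀ E₀ r)) =
        algebraMap A (A ⊗[R₀] E₀) (algebraMap R₀ A r) := by
      calc ((1 : A) ⊗ₜ[R₀] (algebraMap R₀ E₀ r))
          = (1 : A) ⊗ₜ[R₀] (r • (1 : E₀)) := by
            rw [Algebra.algebraMap_eq_smul_one (R := R₀) (A := E₀) r]
        _ = (r • (1 : A)) ⊗ₜ[R₀] (1 : E₀) := (TensorProduct.smul_tmul r 1 1).symm
        _ = (algebraMap R₀ A r) ⊗ₜ[R₀] (1 : E₀) := by
            rw [← Algebra.algebraMap_eq_smul_one (R := R₀) (A := A) r]
        _ = algebraMap A (A ⊗[R₀] E₀) (algebraMap R₀ A r) := by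
            rw [Algebra.TensorProduct.algebraMap_apply]; rfl
    rw [h1, eT.commutes, ← IsScalarTower.algebraMap_apply]
  letI : Algebra E₀ (A ⊗[R₀] E₀) := Algebra.TensorProduct.rightAlgebra
  haveI hloc : IsLocalization (Algebra.algebraMapSubmonoid E₀ p₀.primeCompl) (A ⊗[R₀] E₀) :=
    IsLocalization.tensorRight A p₀.primeCompl
  let eT' : (A ⊗[R₀] E₀) ≃ₐ[E₀] E := AlgEquiv.ofRingEquiv (f := eT.toRingEquiv) (fun x => rfl)
  haveI hlocE : IsLocalization (Algebra.algebraMapSubmonoid E₀ p₀.primeCompl) E :=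
    IsLocalization.isLocalization_of_algEquiv (S := A ⊗[R₀] E₀) _ eT'
  let u₀ : Ideal E₀ := Q.comap (algebraMap E₀ E)
  haveI hu₀ : u₀.IsPrime := Ideal.IsPrime.comap _
  let T := Localization.AtPrime Q
  haveI : IsScalarTower E₀ E T := inferInstance
  haveI hT : IsLocalization.AtPrime T u₀ :=
    IsLocalization.isLocalization_isLocalization_atPrime_isLocalization
      (Algebra.algebraMapSubmonoid E₀ p₀.primeCompl) T Q
  let e₀ : Localization.AtPrime u₀ ≃ₐ[E₀] T := IsLocalization.algEquiv u₀.primeCompl _ _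
  haveI : IsScalarTower R₀ E T := inferInstance
  haveI : IsScalarTower A E T := inferInstance
  haveI : IsScalarTower R₀ A T := by
    apply IsScalarTower.of_algebraMap_eq (R := R₀) (S := A) (A := T)
    intro r
    rw [IsScalarTower.algebraMap_apply R₀ E T, IsScalarTower.algebraMap_apply A E T,
      ← IsScalarTower.algebraMap_apply R₀ A E]
  haveI : IsScalarTower R₀ E₀ T := by
    apply IsScalarTower.of_algebraMap_eq (R := R₀) (S := E₀) (A := T)
    intro r
    rw [IsScalarTower.algebraMap_apply R₀ E T, IsScalarTower.algebraMap_apply E₀ E T,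
      ← IsScalarTower.algebraMap_apply R₀ E₀ E]
  haveI : Algebra.FormallyEtale R₀ A := Algebra.FormallyEtale.of_isLocalization p₀.primeCompl
  haveI : Algebra.FormallyEtale E T := Algebra.FormallyEtale.of_isLocalization Q.primeCompl
  haveI : Algebra.FormallyEtale A T := Algebra.FormallyEtale.comp A E T
  haveI : Algebra.FormallyEtale R₀ T := Algebra.FormallyEtale.comp R₀ A T
  haveI : Algebra.IsEtaleAt R₀ u₀ :=
    Algebra.FormallyEtale.of_equiv (e₀.symm.restrictScalars R₀)
  obtain ⟨g₀, hg₀, hEt⟩ := Algebra.exists_etale_of_isEtaleAt (R := R₀) u₀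
  let B := Localization.Away g₀
  have hdisj : Disjoint (Submonoid.powers g₀ : Set E₀) (u₀ : Set E₀) :=
    (Ideal.disjoint_powers_iff_notMem_of_isPrime _).mpr hg₀
  let u₁ : Ideal B := u₀.map (algebraMap E₀ B)
  haveI hu₁ : u₁.IsPrime := IsLocalization.isPrime_of_isPrime_disjoint (.powers g₀) _ _ hu₀ hdisj
  have hu₁c : u₁.comap (algebraMap E₀ B) = u₀ :=
    IsLocalization.comap_map_of_isPrime_disjoint (.powers g₀) B hu₀ hdisj
  refine ⟨B, inferInstance, inferInstance, hEt, u₁, hu₁, ?_, ?_⟩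
  · rw [IsScalarTower.algebraMap_eq R₀ E₀ B, ← Ideal.comap_comap, hu₁c]
    show (Q.comap (algebraMap E₀ E)).comap (algebraMap R₀ E₀) = p₀
    rw [Ideal.comap_comap, ← IsScalarTower.algebraMap_eq R₀ E₀ E,
      IsScalarTower.algebraMap_eq R₀ A E, ← Ideal.comap_comap, hQ]
    exact IsLocalization.AtPrime.comap_maximalIdeal A p₀
  · let T' := Localization.AtPrime u₁
    haveI h1 : IsLocalization.AtPrime T' (u₁.comap (algebraMap E₀ B)) :=
      IsLocalization.isLocalization_isLocalization_atPrime_isLocalization (Submonoid.powers g₀) T' u₁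
    have key : ∀ (q : Ideal E₀) [q.IsPrime], q = u₀ → IsLocalization.AtPrime T' q →
        IsLocalization.AtPrime T' u₀ := by
      rintro q _ rfl h
      exact h
    haveI : IsLocalization.AtPrime T' u₀ := key _ hu₁c h1
    let e₁ : T' ≃ₐ[E₀] Localization.AtPrime u₀ := IsLocalization.algEquiv u₀.primeCompl _ _
    exact ⟨e₁.toRingEquiv.trans e₀.toRingEquiv⟩

end Spread

section Sch

variable (X : Scheme.{u}) (x : X)

theorem exists_etale_of_stage {K : Type u} [Field K] [Algebra (X.presheaf.stalk x) K]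
    (hK : RingHom.ker (algebraMap (X.presheaf.stalk x) K) = maximalIdeal (X.presheaf.stalk x))
    (N : Nbhd (X.presheaf.stalk x) K) :
    ∃ (U : Scheme.{u}) (g : U ⟶ X) (u : U), Etale g ∧ g u = x ∧
      Nonempty (U.presheaf.stalk u ≃+* N.Loc) := by
  let A := X.presheaf.stalk x
  let E := N.Ring
  have hQ : N.q.comap (algebraMap A E) = maximalIdeal A := by
    rw [← hK]
    ext a
    rw [Ideal.mem_comap, Nbhd.mem_q, RingHom.mem_ker, AlgHom.commutes]
  let P := Algebra.Presentation.ofFinitePresentation A E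
  obtain ⟨V, hV, hxV, hS⟩ := exists_affine_germ_range X x P.coeffs P.finite_coeffs
  let R₀ := Γ(X, V)
  letI := X.presheaf.algebra_section_stalk ⟨x, hxV⟩
  haveI := hV.isLocalization_stalk ⟨x, hxV⟩
  let p₀ := (hV.primeIdealOf ⟨x, hxV⟩).asIdeal
  letI : Algebra R₀ E := ((algebraMap A E).comp (algebraMap R₀ A)).toAlgebra
  haveI : IsScalarTower R₀ A E := IsScalarTower.of_algebraMap_eq' rfl
  haveI : P.HasCoeffs R₀ := ⟨hS⟩
  let E₀ := P.ModelOfHasCoeffs R₀
  let eT : A ⊗[R₀] E₀ ≃ₐ[A] E := P.tensorModelOfHasCoeffsEquiv R₀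
  obtain ⟨B, _, _, hEt, u₁, hu₁p, hu₁, ⟨e⟩⟩ := exists_etale_model' p₀ A E N.q hQ E₀ eT
  let φ : CommRingCat.of R₀ ⟶ CommRingCat.of B := CommRingCat.ofHom (algebraMap R₀ B)
  let g : Spec (CommRingCat.of B) ⟶ X := Spec.map φ ≫ hV.fromSpec
  let u : Spec (CommRingCat.of B) := (⟨u₁, hu₁p⟩ : PrimeSpectrum B)
  refine ⟨Spec (CommRingCat.of B), g, u, ?_, ?_, ?_⟩
  · haveI : Etale (Spec.map φ) := by
      rw [HasRingHomProperty.Spec_iff (P := @Etale)]
      exact RingHom.etale_algebraMap.mpr hEt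
    infer_instance
  · have h1 : Spec.map φ u = hV.primeIdealOf ⟨x, hxV⟩ := PrimeSpectrum.ext hu₁
    show hV.fromSpec (Spec.map φ u) = x
    rw [h1, hV.fromSpec_primeIdealOf]
  · let k : Algebra B ((Spec (CommRingCat.of B)).presheaf.stalk u) :=
      StructureSheaf.stalkAlgebra B u
    haveI : IsLocalization.AtPrime ((Spec (CommRingCat.of B)).presheaf.stalk u) u₁ :=
      StructureSheaf.IsLocalization.to_stalk (CommRingCat.of B) u
    exact ⟨(IsLocalization.algEquiv u₁.primeCompl ((Spec (CommRingCat.of B)).presheaf.stalk u)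
      (Localization.AtPrime u₁)).toRingEquiv.trans e⟩

end Sch

end Groth.Agent.Lead.GUnib
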