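import Mathlib
import Groth.Prelude
import Groth.Agent.Lib.Lead.GUnib16
import Groth.Agent.Lib.Helper8.HensGU13
import Groth.Agent.Lib.Helper8.HensGU9
import Groth.Agent.Lib.Helper4.GeomBranch2

/-!
# Geometric branches at a point via étale neighbourhoods
-/

set_option autoImplicit false
set_option backward.isDefEq.respectTransparency.types false
set_option synthInstance.maxHeartbeats 400000
set_option linter.style.haveILetI false
set_option linter.unusedSectionVars false

universe u

open AlgebraicGeometry CategoryTheory Limits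

namespace Groth.Agent.Lead.GUnib

open Groth.Agent.Helper7.SHens IsLocalRing TensorProduct

theorem encard_minimalPrimes_of_ringEquiv {B C : Type*} [CommRing B] [CommRing C] (e : B ≃+* C) :
    (minimalPrimes B).encard = (minimalPrimes C).encard := by
  have h1 : minimalPrimes B = Ideal.comap e.toRingHom '' minimalPrimes C := by
    have := Ideal.comap_minimalPrimes_eq_of_surjective (f := e.toRingHom) e.surjective ⊥
    have hk : RingHom.ker e.toRingHom = ⊥ :=
      (RingHom.injective_iff_ker_eq_bot e.toRingHom).mp e.injective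
    rw [← RingHom.ker_eq_comap_bot, hk] at this
    exact this
  rw [h1, Set.InjOn.encard_image]
  exact (Ideal.comap_injective_of_surjective e.toRingHom e.surjective).injOn

section Sch

variable (X : Scheme.{u}) (x : X)

theorem S9753_main :
    Brnch.numGeomBranchesAt X x = ⨆ (U : Scheme.{u}) (g : U ⟶ X) (u : U) (_ : Etale g ∧ g u = x),
      {Z : Set ↑U | Z ∈ irreducibleComponents ↑U ∧ u ∈ Z}.encard := by
  let A := X.presheaf.stalk x
  let K := SeparableClosure (ResidueField A)
  haveI hSH : Hensel.IsStrictHenselization A (G A K) := isStrictHenselization_G A K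
  have h1 : Brnch.numGeomBranchesAt X x = (minimalPrimes (G A K)).encard :=
    (Groth.Agent.Helper8.HensGU.card_minimalPrimes_strictHenselization A (G A K)).symm
  have hK : RingHom.ker (algebraMap A K) = maximalIdeal A := by
    rw [IsScalarTower.algebraMap_eq A (ResidueField A) K, ← RingHom.comap_ker,
      (RingHom.injective_iff_ker_eq_bot _).mp (algebraMap (ResidueField A) K).injective,
      ← RingHom.ker_eq_comap_bot]
    exact IsLocalRing.ker_residue
  rw [h1, encard_minimalPrimes_G_eq_iSup]
  apply le_antisymm
  · apply iSup_le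
    intro N
    obtain ⟨U, g, u, hg, hgu, ⟨e⟩⟩ := exists_etale_of_stage X x hK N
    rw [← encard_minimalPrimes_of_ringEquiv e, ← encard_components_eq]
    exact le_iSup₂_of_le U g (le_iSup₂_of_le u ⟨hg, hgu⟩ le_rfl)
  · apply iSup_le
    intro U
    apply iSup_le
    intro g
    apply iSup_le
    intro u
    apply iSup_le
    rintro ⟨hg, rfl⟩
    haveI := hg
    obtain ⟨N, ⟨e⟩⟩ := exists_stage_of_etale g u
    rw [encard_components_eq, encard_minimalPrimes_of_ringEquiv e]
    exact le_iSup (fun N : Nbhd A K => (minimalPrimes N.Loc).encard) N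

theorem one_le_encard_components (U : Scheme.{u}) (u : U) :
    1 ≤ {Z : Set ↑U | Z ∈ irreducibleComponents ↑U ∧ u ∈ Z}.encard := by
  rw [Set.one_le_encard_iff_nonempty]
  exact ⟨irreducibleComponent u, irreducibleComponent_mem_irreducibleComponents u,
    mem_irreducibleComponent⟩

theorem iSup_etale_eq_one_iff :
    (⨆ (U : Scheme.{u}) (g : U ⟶ X) (u : U) (_ : Etale g ∧ g u = x),
      {Z : Set ↑U | Z ∈ irreducibleComponents ↑U ∧ u ∈ Z}.encard) = 1 ↔
    ∀ (U : Scheme.{u}) (g : U ⟶ X) (u : U), Etale g → g u = x →
      {Z : Set ↑U | Z ∈ irreducibleComponents ↑U ∧ u ∈ Z}.encard = 1 := by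
  constructor
  · intro h U g u hg hgu
    apply le_antisymm _ (one_le_encard_components U u)
    rw [← h]
    exact le_iSup₂_of_le U g (le_iSup₂_of_le u ⟨hg, hgu⟩ le_rfl)
  · intro h
    apply le_antisymm
    · apply iSup_le
      intro U
      apply iSup_le
      intro g
      apply iSup_le
      intro u
      apply iSup_le
      rintro ⟨hg, hgu⟩
      exact (h U g u hg hgu).le
    · refine le_trans (one_le_encard_components X x) ?_
      exact le_iSup₂_of_le X (𝟙 X) (le_iSup₂_of_le x ⟨inferInstance, rfl⟩ le_rfl)

theorem S9782_main :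
    CAlg2.IsGeomUnibranch ↑(X.presheaf.stalk x) ↔ ∀ (U : Scheme.{u}) (g : U ⟶ X) (u : U),
      Etale g → g u = x →
      {Z : Set ↑U | Z ∈ irreducibleComponents ↑U ∧ u ∈ Z}.encard = 1 := by
  rw [← iSup_etale_eq_one_iff, ← S9753_main,
    ← Groth.Agent.Lib.Helper4.GeomBranch2.S9236_main]
  rfl

end Sch

end Groth.Agent.Lead.GUnib
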