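import Mathlib
import Groth.Prelude
import Groth.Agent.Lib.Lead.GUnib17

/-!
# Residue-surjective local homomorphisms and elementary étale neighbourhoods
-/

set_option autoImplicit false
set_option backward.isDefEq.respectTransparency.types false
set_option synthInstance.maxHeartbeats 400000
set_option linter.style.haveILetI false
set_option linter.unusedSectionVars false

universe u

open AlgebraicGeometry CategoryTheory Limits

namespace Groth.Agent.Lead.GUnib

open Groth.Agent.Helper7.SHens IsLocalRing TensorProduct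

/-- `f` induces a surjection onto the residue field of the local ring `S`. -/
def ResSurj {A S : Type*} [CommRing A] [CommRing S] [IsLocalRing S] (f : A →+* S) : Prop :=
  ∀ y : S, ∃ a : A, f a - y ∈ maximalIdeal S

section ResSurj

variable {A S A' S' : Type*} [CommRing A] [CommRing S] [IsLocalRing S] [CommRing A']
  [CommRing S'] [IsLocalRing S']

theorem mem_maximalIdeal_ringEquiv (e : S ≃+* S') (y : S) :
    e y ∈ maximalIdeal S' ↔ y ∈ maximalIdeal S := by
  rw [mem_maximalIdeal, mem_maximalIdeal, mem_nonunits_iff, mem_nonunits_iff]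
  exact not_congr (isUnit_map_iff e y)

theorem ResSurj.of_square {f : A →+* S} {f' : A' →+* S'} (e₁ : A ≃+* A') (e₂ : S ≃+* S')
    (h : ∀ a, e₂ (f a) = f' (e₁ a)) (hf : ResSurj f) : ResSurj f' := by
  intro y'
  obtain ⟨a, ha⟩ := hf (e₂.symm y')
  refine ⟨e₁ a, ?_⟩
  have h1 : f' (e₁ a) - y' = e₂ (f a - e₂.symm y') := by
    rw [map_sub, e₂.apply_symm_apply, h]
  rw [h1]
  exact (mem_maximalIdeal_ringEquiv e₂ _).mpr ha

theorem ResSurj.comp_surjective {f : A →+* S} {k : A' →+* A} (hk : Function.Surjective k)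
    (hf : ResSurj f) : ResSurj (f.comp k) := by
  intro y
  obtain ⟨a, ha⟩ := hf y
  obtain ⟨a', rfl⟩ := hk a
  exact ⟨a', ha⟩

theorem ResSurj.of_comp {f : A →+* S} {k : A' →+* A} (hf : ResSurj (f.comp k)) : ResSurj f := by
  intro y
  obtain ⟨a', ha'⟩ := hf y
  exact ⟨k a', ha'⟩

end ResSurj

section LocalRingHom

theorem resSurj_localRingHom_of_section {R₀ B : Type u} [CommRing R₀] [CommRing B] [Algebra R₀ B]
    (u₁ : Ideal B) [u₁.IsPrime] (p₀ : Ideal R₀) [p₀.IsPrime]
    (h : p₀ = u₁.comap (algebraMap R₀ B)) {K : Type u} [Field K] (χ : B →+* K)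
    (hχ : RingHom.ker χ = u₁)
    (hsurj : ∀ c : K, ∃ r s : R₀, s ∉ p₀ ∧
      χ (algebraMap R₀ B s) * c = χ (algebraMap R₀ B r)) :
    ResSurj (Localization.localRingHom p₀ u₁ (algebraMap R₀ B) h) := by
  intro y
  obtain ⟨b, t, rfl⟩ := IsLocalization.exists_mk'_eq u₁.primeCompl y
  have ht : χ t ≠ 0 := by
    intro h0
    have h1 : (t : B) ∈ RingHom.ker χ := RingHom.mem_ker.mpr h0
    rw [hχ] at h1
    exact t.2 h1
  obtain ⟨r, s, hs, hrs⟩ := hsurj (χ b / χ t)
  let s' : p₀.primeCompl := ⟨s, hs⟩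
  refine ⟨IsLocalization.mk' _ r s', ?_⟩
  have hs' : algebraMap R₀ B s ∈ u₁.primeCompl := by
    intro hmem
    apply hs
    rw [h]
    exact hmem
  rw [Localization.localRingHom_mk']
  rw [← IsLocalization.mk'_sub]
  rw [IsLocalization.AtPrime.mk'_mem_maximal_iff (Localization.AtPrime u₁) u₁]
  have hmem : ∀ z : B, χ z = 0 → z ∈ u₁ := by
    intro z hz
    have : z ∈ RingHom.ker χ := RingHom.mem_ker.mpr hz
    rwa [hχ] at this
  apply hmem
  simp only [map_sub, map_mul]
  have : χ (algebraMap R₀ B r) = χ (algebraMap R₀ B s) * (χ b / χ t) := hrs.symm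
  rw [this]
  field_simp
  ring

end LocalRingHom

section Spread

variable {R₀ : Type u} [CommRing R₀] (p₀ : Ideal R₀) [p₀.IsPrime]
  (A : Type u) [CommRing A] [IsLocalRing A] [Algebra R₀ A] [IsLocalization.AtPrime A p₀]
  (E : Type u) [CommRing E] [Algebra A E] [Algebra.Etale A E]
  (Q : Ideal E) [Q.IsPrime]

set_option backward.isDefEq.respectTransparency false in
theorem exists_etale_model_sec (hQ : Q.comap (algebraMap A E) = maximalIdeal A)
    (E₀ : Type u) [CommRing E₀] [Algebra R₀ E₀] [Algebra.FinitePresentation R₀ E₀]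
    (eT : A ⊗[R₀] E₀ ≃ₐ[A] E)
    {K : Type u} [Field K] [Algebra A K] (hAK : Function.Surjective (algebraMap A K))
    (sec : E →ₐ[A] K) (hker : ∀ x : E, sec x = 0 ↔ x ∈ Q) :
    ∃ (B : Type u) (_ : CommRing B) (_ : Algebra R₀ B) (_ : Algebra.Etale R₀ B) (u₁ : Ideal B)
      (_ : u₁.IsPrime) (_ : u₁.comap (algebraMap R₀ B) = p₀),
        Nonempty (Localization.AtPrime u₁ ≃+* Localization.AtPrime Q) ∧
        ResSurj (Localization.localRingHom (u₁.comap (algebraMap R₀ B)) u₁
          (algebraMap R₀ B) rfl) := by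
  letI : Algebra R₀ E := ((algebraMap A E).comp (algebraMap R₀ A)).toAlgebra
  haveI : IsScalarTower R₀ A E := IsScalarTower.of_algebraMap_eq' rfl
  let φ : E₀ →+* E := eT.toRingEquiv.toRingHom.comp
    (Algebra.TensorProduct.includeRight (R := R₀) (A := A) (B := E₀)).toRingHom
  letI algE : Algebra E₀ E := φ.toAlgebra
  haveI : IsScalarTower R₀ E₀ E := by
    apply IsScalarTower.of_algebraMap_eq (R := R₀) (S := E₀) (A := E)
    intro r
    show algebraMap R₀ E r = eT ((1 : A) ⊗ₜ[R₀] (algebraMap R₀ E₀ r))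
    have h1 : ((1 : A) ⊗ₜ[R₀] (algebraMap R₀ E₀ r)) =
        algebraMap A (A ⊗[R₀] E₀) (algebraMap R₀ A r) := by
      calc ((1 : A) ⊗ₜ[R₀] (algebraMap R₀ E₀ r))
          = (1 : A) ⊗ₜ[R₀] (r • (1 : E₀)) := by
            rw [Algebra.algebraMap_eq_smul_one (R := R₀) (A := E₀) r]
        _ = (r • (1 : A)) ⊗ₜ[R₀] (1 : E₀) := (TensorProduct.smul_tmul r 1 1).symm
        _ = (algebraMap R₀ A r) ⊗ₜ[R₀] (1 : E₀) := by
            rw [← Algebra.algebraMap_eq_smul_one (R := R₀) (A := A) r]
        _ = algebraMap A (A ⊗[R₀] E₀) (algebraMap R₀ A r) := by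
            rw [Algebra.TensorProduct.algebraMap_apply]; rfl
    rw [h1, eT.commutes, ← IsScalarTower.algebraMap_apply]
  letI : Algebra E₀ (A ⊗[R₀] E₀) := Algebra.TensorProduct.rightAlgebra
  haveI hloc : IsLocalization (Algebra.algebraMapSubmonoid E₀ p₀.primeCompl) (A ⊗[R₀] E₀) :=
    IsLocalization.tensorRight A p₀.primeCompl
  let eT' : (A ⊗[R₀] E₀) ≃ₐ[E₀] E := AlgEquiv.ofRingEquiv (f := eT.toRingEquiv) (fun x => rfl)
  haveI hlocE : IsLocalization (Algebra.algebraMapSubmonoid E₀ p₀.primeCompl) E :=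
    IsLocalization.isLocalization_of_algEquiv (S := A ⊗[R₀] E₀) _ eT'
  let u₀ : Ideal E₀ := Q.comap (algebraMap E₀ E)
  haveI hu₀ : u₀.IsPrime := Ideal.IsPrime.comap _
  let T := Localization.AtPrime Q
  haveI : IsScalarTower E₀ E T := inferInstance
  haveI hT : IsLocalization.AtPrime T u₀ :=
    IsLocalization.isLocalization_isLocalization_atPrime_isLocalization
      (Algebra.algebraMapSubmonoid E₀ p₀.primeCompl) T Q
  let e₀ : Localization.AtPrime u₀ ≃ₐ[E₀] T := IsLocalization.algEquiv u₀.primeCompl _ _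
  haveI : IsScalarTower R₀ E T := inferInstance
  haveI : IsScalarTower A E T := inferInstance
  haveI : IsScalarTower R₀ A T := by
    apply IsScalarTower.of_algebraMap_eq (R := R₀) (S := A) (A := T)
    intro r
    rw [IsScalarTower.algebraMap_apply R₀ E T, IsScalarTower.algebraMap_apply A E T,
      ← IsScalarTower.algebraMap_apply R₀ A E]
  haveI : IsScalarTower R₀ E₀ T := by
    apply IsScalarTower.of_algebraMap_eq (R := R₀) (S := E₀) (A := T)
    intro r
    rw [IsScalarTower.algebraMap_apply R₀ E T, IsScalarTower.algebraMap_apply E₀ E T,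
      ← IsScalarTower.algebraMap_apply R₀ E₀ E]
  haveI : Algebra.FormallyEtale R₀ A := Algebra.FormallyEtale.of_isLocalization p₀.primeCompl
  haveI : Algebra.FormallyEtale E T := Algebra.FormallyEtale.of_isLocalization Q.primeCompl
  haveI : Algebra.FormallyEtale A T := Algebra.FormallyEtale.comp A E T
  haveI : Algebra.FormallyEtale R₀ T := Algebra.FormallyEtale.comp R₀ A T
  haveI : Algebra.IsEtaleAt R₀ u₀ :=
    Algebra.FormallyEtale.of_equiv (e₀.symm.restrictScalars R₀)
  obtain ⟨g₀, hg₀, hEt⟩ := Algebra.exists_etale_of_isEtaleAt (R := R₀) u₀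
  let B := Localization.Away g₀
  have hdisj : Disjoint (Submonoid.powers g₀ : Set E₀) (u₀ : Set E₀) :=
    (Ideal.disjoint_powers_iff_notMem_of_isPrime _).mpr hg₀
  let u₁ : Ideal B := u₀.map (algebraMap E₀ B)
  haveI hu₁ : u₁.IsPrime := IsLocalization.isPrime_of_isPrime_disjoint (.powers g₀) _ _ hu₀ hdisj
  have hu₁c : u₁.comap (algebraMap E₀ B) = u₀ :=
    IsLocalization.comap_map_of_isPrime_disjoint (.powers g₀) B hu₀ hdisj
  have hcomap : u₁.comap (algebraMap R₀ B) = p₀ := by
    rw [IsScalarTower.algebraMap_eq R₀ E₀ B, ← Ideal.comap_comap, hu₁c]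
    show (Q.comap (algebraMap E₀ E)).comap (algebraMap R₀ E₀) = p₀
    rw [Ideal.comap_comap, ← IsScalarTower.algebraMap_eq R₀ E₀ E,
      IsScalarTower.algebraMap_eq R₀ A E, ← Ideal.comap_comap, hQ]
    exact IsLocalization.AtPrime.comap_maximalIdeal A p₀
  refine ⟨B, inferInstance, inferInstance, hEt, u₁, hu₁, hcomap, ?_, ?_⟩
  · let T' := Localization.AtPrime u₁
    haveI h1 : IsLocalization.AtPrime T' (u₁.comap (algebraMap E₀ B)) :=
      IsLocalization.isLocalization_isLocalization_atPrime_isLocalization (Submonoid.powers g₀) T' u₁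
    have key : ∀ (q : Ideal E₀) [q.IsPrime], q = u₀ → IsLocalization.AtPrime T' q →
        IsLocalization.AtPrime T' u₀ := by
      rintro q _ rfl h
      exact h
    haveI : IsLocalization.AtPrime T' u₀ := key _ hu₁c h1
    let e₁ : T' ≃ₐ[E₀] Localization.AtPrime u₀ := IsLocalization.algEquiv u₀.primeCompl _ _
    exact ⟨e₁.toRingEquiv.trans e₀.toRingEquiv⟩

  · -- the residue condition
    have hunit : IsUnit (algebraMap E₀ T g₀) :=
      IsLocalization.map_units T (⟨g₀, hg₀⟩ : u₀.primeCompl)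
    let ψ : B →+* T := IsLocalization.Away.lift g₀ hunit
    have hψ : ∀ z : E₀, ψ (algebraMap E₀ B z) = algebraMap E₀ T z :=
      fun z => IsLocalization.Away.lift_eq g₀ hunit z
    have hsecunit : ∀ y : Q.primeCompl, IsUnit (sec.toRingHom y) := by
      intro y
      rw [isUnit_iff_ne_zero]
      intro h0
      exact y.2 ((hker y).mp h0)
    let sec' : T →+* K := IsLocalization.lift (M := Q.primeCompl) (g := sec.toRingHom) hsecunit
    have hsec' : ∀ z : E, sec' (algebraMap E T z) = sec z := fun z => IsLocalization.lift_eq _ z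
    let χ : B →+* K := sec'.comp ψ
    have hχE₀ : ∀ z : E₀, χ (algebraMap E₀ B z) = sec (algebraMap E₀ E z) := by
      intro z
      show sec' (ψ (algebraMap E₀ B z)) = _
      rw [hψ, IsScalarTower.algebraMap_apply E₀ E T, hsec']
    have hχR₀ : ∀ r : R₀, χ (algebraMap R₀ B r) = algebraMap A K (algebraMap R₀ A r) := by
      intro r
      rw [IsScalarTower.algebraMap_apply R₀ E₀ B, hχE₀, ← IsScalarTower.algebraMap_apply R₀ E₀ E,
        IsScalarTower.algebraMap_apply R₀ A E, AlgHom.commutes]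
    have hχker : RingHom.ker χ = u₁ := by
      haveI : (RingHom.ker χ).IsPrime := RingHom.ker_isPrime χ
      have h1 : (RingHom.ker χ).comap (algebraMap E₀ B) = u₀ := by
        ext z
        rw [Ideal.mem_comap, RingHom.mem_ker, hχE₀, hker]
        rfl
      calc RingHom.ker χ
          = ((RingHom.ker χ).comap (algebraMap E₀ B)).map (algebraMap E₀ B) :=
            (IsLocalization.map_comap (Submonoid.powers g₀) B _).symm
        _ = u₁ := by rw [h1]
    refine resSurj_localRingHom_of_section u₁ (u₁.comap (algebraMap R₀ B)) rfl χ hχker ?_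
    intro c
    obtain ⟨a, rfl⟩ := hAK c
    obtain ⟨r, s, rfl⟩ := IsLocalization.exists_mk'_eq p₀.primeCompl a
    refine ⟨r, s.1, by rw [hcomap]; exact s.2, ?_⟩
    rw [hχR₀, hχR₀, ← map_mul, IsLocalization.mk'_spec']

end Spread

section SchRes

variable {U X : Scheme.{u}}

theorem bijective_residueFieldMap_iff (g : U ⟶ X) (u : U) :
    Function.Bijective (g.residueFieldMap u) ↔ ResSurj (g.stalkMap u).hom := by
  have hres : ∀ a, (g.residueFieldMap u) (IsLocalRing.residue _ a) =
      IsLocalRing.residue _ ((g.stalkMap u).hom a) := by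
    intro a
    exact IsLocalRing.ResidueField.map_residue (g.stalkMap u).hom a
  constructor
  · intro h y
    obtain ⟨c, hc⟩ := h.2 (IsLocalRing.residue _ y)
    obtain ⟨a, rfl⟩ := IsLocalRing.residue_surjective c
    refine ⟨a, ?_⟩
    rw [← IsLocalRing.residue_eq_zero_iff, map_sub, ← hres, hc, sub_self]
  · intro h
    refine ⟨(g.residueFieldMap u).hom.injective, ?_⟩
    intro z
    obtain ⟨y, rfl⟩ := IsLocalRing.residue_surjective z
    obtain ⟨a, ha⟩ := h y
    refine ⟨IsLocalRing.residue _ a, ?_⟩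
    rw [hres]
    rw [← IsLocalRing.residue_eq_zero_iff, map_sub, sub_eq_zero] at ha
    exact ha

theorem resSurj_of_arrowIso {A S A' S' : CommRingCat.{u}} [IsLocalRing S] [IsLocalRing S']
    {f : A ⟶ S} {f' : A' ⟶ S'} (i : Arrow.mk f ≅ Arrow.mk f') (hf : ResSurj f.hom) :
    ResSurj f'.hom := by
  let e₁ : A ≅ A' := Arrow.leftFunc.mapIso i
  let e₂ : S ≅ S' := Arrow.rightFunc.mapIso i
  refine ResSurj.of_square e₁.commRingCatIsoToRingEquiv e₂.commRingCatIsoToRingEquiv ?_ hf
  intro a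
  have hw : f ≫ i.hom.right = i.hom.left ≫ f' := i.hom.w.symm
  exact congr($(hw).hom a)

theorem resSurj_stalkMap_comp_iff {Y : Scheme.{u}} (a : U ⟶ Y) (j : Y ⟶ X) [IsOpenImmersion j]
    (u : U) : ResSurj ((a ≫ j).stalkMap u).hom ↔ ResSurj (a.stalkMap u).hom := by
  have h1 : (a ≫ j).stalkMap u = j.stalkMap (a u) ≫ a.stalkMap u := Scheme.Hom.stalkMap_comp a j u
  rw [h1]
  constructor
  · intro h
    exact ResSurj.of_comp (k := (j.stalkMap (a u)).hom) h
  · intro h
    have hk : Function.Surjective (j.stalkMap (a u)).hom :=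
      ((ConcreteCategory.isIso_iff_bijective (j.stalkMap (a u))).mp inferInstance).2
    exact ResSurj.comp_surjective hk h

theorem exists_etaleNbhd_of_stage (X : Scheme.{u}) (x : X)
    (N : Nbhd (X.presheaf.stalk x) (ResidueField (X.presheaf.stalk x))) :
    ∃ (U : Scheme.{u}) (g : U ⟶ X) (u : U), Hens2.IsEtaleNbhd g u x ∧
      Nonempty (U.presheaf.stalk u ≃+* N.Loc) := by
  let A := X.presheaf.stalk x
  let E := N.Ring
  have hK : RingHom.ker (algebraMap A (ResidueField A)) = maximalIdeal A := IsLocalRing.ker_residue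
  have hQ : N.q.comap (algebraMap A E) = maximalIdeal A := by
    rw [← hK]
    ext a
    rw [Ideal.mem_comap, Nbhd.mem_q, RingHom.mem_ker, AlgHom.commutes]
  let P := Algebra.Presentation.ofFinitePresentation A E
  obtain ⟨V, hV, hxV, hS⟩ := exists_affine_germ_range X x P.coeffs P.finite_coeffs
  let R₀ := Γ(X, V)
  letI := X.presheaf.algebra_section_stalk ⟨x, hxV⟩
  haveI := hV.isLocalization_stalk ⟨x, hxV⟩
  let p₀ := (hV.primeIdealOf ⟨x, hxV⟩).asIdeal
  letI : Algebra R₀ E := ((algebraMap A E).comp (algebraMap R₀ A)).toAlgebra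
  haveI : IsScalarTower R₀ A E := IsScalarTower.of_algebraMap_eq' rfl
  haveI : P.HasCoeffs R₀ := ⟨hS⟩
  let E₀ := P.ModelOfHasCoeffs R₀
  let eT : A ⊗[R₀] E₀ ≃ₐ[A] E := P.tensorModelOfHasCoeffsEquiv R₀
  obtain ⟨B, _, _, hEt, u₁, hu₁p, hu₁, ⟨e⟩, hres⟩ :=
    exists_etale_model_sec p₀ A E N.q hQ E₀ eT IsLocalRing.residue_surjective N.sec
      (fun _ => Nbhd.mem_q.symm)
  let φ : CommRingCat.of R₀ ⟶ CommRingCat.of B := CommRingCat.ofHom (algebraMap R₀ B)
  let g : Spec (CommRingCat.of B) ⟶ X := Spec.map φ ≫ hV.fromSpec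
  let u : Spec (CommRingCat.of B) := (⟨u₁, hu₁p⟩ : PrimeSpectrum B)
  haveI : Etale (Spec.map φ) := by
    rw [HasRingHomProperty.Spec_iff (P := @Etale)]
    exact RingHom.etale_algebraMap.mpr hEt
  have hgu : g u = x := by
    have h1 : Spec.map φ u = hV.primeIdealOf ⟨x, hxV⟩ := PrimeSpectrum.ext hu₁
    show hV.fromSpec (Spec.map φ u) = x
    rw [h1, hV.fromSpec_primeIdealOf]
  refine ⟨Spec (CommRingCat.of B), g, u, ⟨inferInstance, hgu, ?_⟩, ?_⟩
  · rw [bijective_residueFieldMap_iff]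
    rw [resSurj_stalkMap_comp_iff (Spec.map φ) hV.fromSpec u]
    exact resSurj_of_arrowIso (Scheme.arrowStalkMapSpecIso φ u).symm hres
  · let k : Algebra B ((Spec (CommRingCat.of B)).presheaf.stalk u) :=
      StructureSheaf.stalkAlgebra B u
    haveI : IsLocalization.AtPrime ((Spec (CommRingCat.of B)).presheaf.stalk u) u₁ :=
      StructureSheaf.IsLocalization.to_stalk (CommRingCat.of B) u
    exact ⟨(IsLocalization.algEquiv u₁.primeCompl ((Spec (CommRingCat.of B)).presheaf.stalk u)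
      (Localization.AtPrime u₁)).toRingEquiv.trans e⟩

end SchRes

end Groth.Agent.Lead.GUnib
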