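import Mathlib
import Groth.Prelude
import Groth.Agent.Lib.Lead.GUnib18
import Groth.Agent.Lib.Helper4.BranchCount1

/-!
# Elementary étale neighbourhoods give stages of the henselization
-/

set_option autoImplicit false
set_option backward.isDefEq.respectTransparency.types false
set_option synthInstance.maxHeartbeats 400000
set_option linter.style.haveILetI false
set_option linter.unusedSectionVars false

universe u

open AlgebraicGeometry CategoryTheory Limits

namespace Groth.Agent.Lead.GUnib

open Groth.Agent.Helper7.SHens IsLocalRing TensorProduct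

section Ring

variable {R : Type u} [CommRing R] (p : Ideal R) [p.IsPrime]
  (A : Type u) [CommRing A] [IsLocalRing A] [Algebra R A] [IsLocalization.AtPrime A p]
  (E' : Type u) [CommRing E'] [Algebra R E'] [Algebra.Etale R E'] (q : Ideal E') [hqp : q.IsPrime]

theorem exists_nbhd_equiv_atPrime_res (hq : q.comap (algebraMap R E') = p)
    (hres : ResSurj (Localization.localRingHom p q (algebraMap R E') hq.symm)) :
    ∃ N : Nbhd A (ResidueField A), Nonempty (Localization.AtPrime q ≃+* N.Loc) := by
  let T := Localization.AtPrime q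
  have hunits : ∀ r : p.primeCompl, IsUnit (algebraMap R T r) := by
    intro r
    rw [IsScalarTower.algebraMap_apply R E' T]
    apply IsLocalization.map_units T (⟨algebraMap R E' r, ?_⟩ : q.primeCompl)
    intro hmem
    have h1 : (r : R) ∈ q.comap (algebraMap R E') := hmem
    rw [hq] at h1
    exact r.2 h1
  let lift : A →+* T := IsLocalization.lift (M := p.primeCompl) (g := algebraMap R T) hunits
  have hlift : ∀ r : R, lift (algebraMap R A r) = algebraMap R T r :=
    fun r => IsLocalization.lift_eq _ r
  -- `lift` is residue-surjective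
  have hRS : ResSurj lift := by
    let k : Localization.AtPrime p →+* A :=
      (IsLocalization.algEquiv p.primeCompl (Localization.AtPrime p) A).toRingEquiv.toRingHom
    have hk : Localization.localRingHom p q (algebraMap R E') hq.symm = lift.comp k := by
      apply IsLocalization.ringHom_ext p.primeCompl
      ext r
      simp only [RingHom.comp_apply]
      rw [Localization.localRingHom_to_map]
      have : k (algebraMap R (Localization.AtPrime p) r) = algebraMap R A r :=
        (IsLocalization.algEquiv p.primeCompl (Localization.AtPrime p) A).commutes r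
      rw [this, hlift, IsScalarTower.algebraMap_apply R E' T]
    rw [hk] at hres
    exact ResSurj.of_comp hres
  -- `lift` is local
  have hcomapT : (maximalIdeal T).comap (algebraMap R T) = p := by
    have h0 : (maximalIdeal T).comap (algebraMap E' T) = q :=
      IsLocalization.AtPrime.comap_maximalIdeal T q
    rw [IsScalarTower.algebraMap_eq R E' T, ← Ideal.comap_comap, h0, hq]
  haveI hloc : IsLocalHom lift := by
    apply ((IsLocalRing.local_hom_TFAE lift).out 0 4).mpr
    have h1 : ((maximalIdeal T).comap lift).comap (algebraMap R A) = p := by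
      rw [Ideal.comap_comap]
      have : lift.comp (algebraMap R A) = algebraMap R T := by
        ext r
        exact hlift r
      rw [this, hcomapT]
    calc (maximalIdeal T).comap lift
        = (((maximalIdeal T).comap lift).comap (algebraMap R A)).map (algebraMap R A) :=
          (IsLocalization.map_comap p.primeCompl A _).symm
      _ = p.map (algebraMap R A) := by rw [h1]
      _ = ((maximalIdeal A).comap (algebraMap R A)).map (algebraMap R A) := by
          have h2 : (maximalIdeal A).comap (algebraMap R A) = p :=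
            IsLocalization.AtPrime.comap_maximalIdeal A p
          rw [h2]
      _ = maximalIdeal A := IsLocalization.map_comap p.primeCompl A _
  let ρ : ResidueField A →+* ResidueField T := ResidueField.map lift
  have hρ : Function.Bijective ρ := by
    refine ⟨ρ.injective, ?_⟩
    intro z
    obtain ⟨y, rfl⟩ := IsLocalRing.residue_surjective z
    obtain ⟨a, ha⟩ := hRS y
    refine ⟨IsLocalRing.residue _ a, ?_⟩
    show ResidueField.map lift (IsLocalRing.residue _ a) = _
    rw [ResidueField.map_residue]
    rw [← IsLocalRing.residue_eq_zero_iff, map_sub, sub_eq_zero] at ha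
    exact ha
  let ρe : ResidueField A ≃+* ResidueField T := RingEquiv.ofBijective ρ hρ
  let τ : E' →ₐ[R] ResidueField A :=
    { (ρe.symm.toRingHom.comp ((IsLocalRing.residue T).comp (algebraMap E' T))) with
      commutes' := by
        intro r
        show ρe.symm (IsLocalRing.residue T (algebraMap E' T (algebraMap R E' r))) = _
        rw [← IsScalarTower.algebraMap_apply R E' T, ← hlift r, ← ResidueField.map_residue]
        show ρe.symm (ρe (IsLocalRing.residue A (algebraMap R A r))) = _
        rw [ρe.symm_apply_apply]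
        rfl }
  have hτ : ∀ x : E', τ x = 0 ↔ x ∈ q := by
    intro x
    show ρe.symm (IsLocalRing.residue T (algebraMap E' T x)) = 0 ↔ _
    rw [map_eq_zero_iff ρe.symm ρe.symm.injective, IsLocalRing.residue_eq_zero_iff,
      IsLocalization.AtPrime.to_map_mem_maximal_iff T q]
  let E := A ⊗[R] E'
  let sec : E →ₐ[A] ResidueField A :=
    Algebra.TensorProduct.lift (Algebra.ofId A (ResidueField A)) τ (fun _ _ => Commute.all _ _)
  obtain ⟨Q₁, hQ₁p, hQ₁, hQ₁c, ⟨e₁⟩⟩ := exists_baseChange_equiv p A E' q hq
  haveI := hQ₁p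
  letI : Algebra E' E := Algebra.TensorProduct.rightAlgebra
  haveI hlocE : IsLocalization (Algebra.algebraMapSubmonoid E' p.primeCompl) E :=
    IsLocalization.tensorRight A p.primeCompl
  have hkersec : RingHom.ker sec.toRingHom = Q₁ := by
    have h1 : (RingHom.ker sec.toRingHom).comap (algebraMap E' E) = q := by
      ext x
      rw [Ideal.mem_comap, RingHom.mem_ker]
      show sec ((1 : A) ⊗ₜ[R] x) = 0 ↔ _
      rw [Algebra.TensorProduct.lift_tmul, map_one, one_mul, hτ]
    calc RingHom.ker sec.toRingHom
        = ((RingHom.ker sec.toRingHom).comap (algebraMap E' E)).map (algebraMap E' E) :=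
          (IsLocalization.map_comap (Algebra.algebraMapSubmonoid E' p.primeCompl) E _).symm
      _ = q.map (algebraMap E' E) := by rw [h1]
      _ = (Q₁.comap (algebraMap E' E)).map (algebraMap E' E) := by
          congr 1
          exact hQ₁c.symm
      _ = Q₁ := IsLocalization.map_comap (Algebra.algebraMapSubmonoid E' p.primeCompl) E _
  have hker : ∀ x : E, sec x = 0 ↔ x ∈ Q₁ := by
    intro x
    rw [← hkersec, RingHom.mem_ker]
    rfl
  obtain ⟨N, ⟨e₂⟩⟩ := exists_nbhd_equiv_of_sec E Q₁ sec hker
  exact ⟨N, ⟨e₁.trans e₂⟩⟩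

end Ring

section Sch

variable {U X : Scheme.{u}}

theorem exists_stage_of_etaleNbhd (g : U ⟶ X) (u : U) (hg : Hens2.IsEtaleNbhd g u (g u)) :
    ∃ N : Nbhd (X.presheaf.stalk (g u)) (ResidueField (X.presheaf.stalk (g u))),
      Nonempty (U.presheaf.stalk u ≃+* N.Loc) := by
  haveI := hg.etale
  have hRS : ResSurj (g.stalkMap u).hom := (bijective_residueFieldMap_iff g u).mp hg.residue_bijective
  obtain ⟨_, ⟨V, hV, rfl⟩, hxV, -⟩ :=
    X.isBasis_affineOpens.exists_subset_of_mem_open (Set.mem_univ (g u)) isOpen_univ
  obtain ⟨_, ⟨W, hW, rfl⟩, huW, hWle⟩ :=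
    U.isBasis_affineOpens.exists_subset_of_mem_open
      (show u ∈ ((g ⁻¹ᵁ V : U.Opens) : Set U) from hxV) (g ⁻¹ᵁ V).2
  have e : W ≤ g ⁻¹ᵁ V := hWle
  have het : (g.appLE V W e).hom.Etale :=
    HasRingHomProperty.appLE @Etale g inferInstance ⟨V, hV⟩ ⟨W, hW⟩ e
  have hRS' := resSurj_of_arrowIso (IsAffineOpen.arrowStalkMapIso g V hV W hW e huW) hRS
  algebraize [(g.appLE V W e).hom]
  let q := (hW.primeIdealOf ⟨u, huW⟩).asIdeal
  let p := (hV.primeIdealOf ⟨g u, hxV⟩).asIdeal
  have hqp : q.comap (algebraMap Γ(X, V) Γ(U, W)) = p :=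
    congr($(IsAffineOpen.comap_primeIdealOf_appLE V hV W hW e huW).1)
  letI := X.presheaf.algebra_section_stalk ⟨g u, hxV⟩
  haveI := hV.isLocalization_stalk ⟨g u, hxV⟩
  obtain ⟨N, ⟨e₁⟩⟩ :=
    exists_nbhd_equiv_atPrime_res p (X.presheaf.stalk (g u)) Γ(U, W) q hqp hRS'
  letI := U.presheaf.algebra_section_stalk ⟨u, huW⟩
  haveI := hW.isLocalization_stalk ⟨u, huW⟩
  exact ⟨N, ⟨(IsLocalization.algEquiv q.primeCompl (U.presheaf.stalk u)
      (Localization.AtPrime q)).toRingEquiv.trans e₁⟩⟩

variable (X) (x : X)

theorem S9752_main :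
    Brnch.numBranchesAt X x = ⨆ (U : Scheme.{u}) (g : U ⟶ X) (u : U) (_ : Hens2.IsEtaleNbhd g u x),
      {Z : Set ↑U | Z ∈ irreducibleComponents ↑U ∧ u ∈ Z}.encard := by
  let A := X.presheaf.stalk x
  let K := ResidueField A
  haveI hH : Hensel.IsHenselization A (G A K) := isHenselization_HModel A
  have h1 : Brnch.numBranchesAt X x = (minimalPrimes (G A K)).encard :=
    (Groth.Agent.Helper8.HensGU.card_minimalPrimes_henselization A (G A K)).symm
  rw [h1, encard_minimalPrimes_G_eq_iSup]
  apply le_antisymm
  · apply iSup_le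
    intro N
    obtain ⟨U, g, u, hg, ⟨e⟩⟩ := exists_etaleNbhd_of_stage X x N
    rw [← encard_minimalPrimes_of_ringEquiv e, ← encard_components_eq]
    exact le_iSup₂_of_le U g (le_iSup₂_of_le u hg le_rfl)
  · apply iSup_le
    intro U
    apply iSup_le
    intro g
    apply iSup_le
    intro u
    apply iSup_le
    intro hg
    obtain rfl : g u = x := hg.base_eq
    obtain ⟨N, ⟨e⟩⟩ := exists_stage_of_etaleNbhd g u hg
    rw [encard_components_eq, encard_minimalPrimes_of_ringEquiv e]
    exact le_iSup (fun N : Nbhd A K => (minimalPrimes N.Loc).encard) N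

theorem iSup_etaleNbhd_eq_one_iff :
    (⨆ (U : Scheme.{u}) (g : U ⟶ X) (u : U) (_ : Hens2.IsEtaleNbhd g u x),
      {Z : Set ↑U | Z ∈ irreducibleComponents ↑U ∧ u ∈ Z}.encard) = 1 ↔
    ∀ (U : Scheme.{u}) (g : U ⟶ X) (u : U), Hens2.IsEtaleNbhd g u x →
      {Z : Set ↑U | Z ∈ irreducibleComponents ↑U ∧ u ∈ Z}.encard = 1 := by
  constructor
  · intro h U g u hg
    apply le_antisymm _ (one_le_encard_components U u)
    rw [← h]
    exact le_iSup₂_of_le U g (le_iSup₂_of_le u hg le_rfl)
  · intro h
    apply le_antisymm
    · apply iSup_le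
      intro U
      apply iSup_le
      intro g
      apply iSup_le
      intro u
      apply iSup_le
      intro hg
      exact (h U g u hg).le
    · refine le_trans (one_le_encard_components X x) ?_
      have hid : Hens2.IsEtaleNbhd (𝟙 X) x x := by
        refine ⟨inferInstance, rfl, ?_⟩
        rw [Scheme.residueFieldMap_id]
        exact Function.bijective_id
      exact le_iSup₂_of_le X (𝟙 X) (le_iSup₂_of_le x hid le_rfl)

theorem S9781_main :
    CAlg2.IsUnibranch ↑(X.presheaf.stalk x) ↔ ∀ (U : Scheme.{u}) (g : U ⟶ X) (u : U),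
      Hens2.IsEtaleNbhd g u x →
      {Z : Set ↑U | Z ∈ irreducibleComponents ↑U ∧ u ∈ Z}.encard = 1 := by
  rw [← iSup_etaleNbhd_eq_one_iff, ← S9752_main,
    ← Groth.Agent.Lib.Helper4.BranchCount1.S9235_main]
  rfl

end Sch

end Groth.Agent.Lead.GUnib
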