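import Mathlib
import Groth.Prelude
import Groth.Agent.Lib.Helper3.FibStalk7
import Groth.Agent.Lib.Lead.CMAt1

set_option backward.isDefEq.respectTransparency.types false
set_option synthInstance.maxHeartbeats 400000
set_option autoImplicit false
set_option linter.unusedSectionVars false
set_option linter.style.haveILetI false
universe u

open CategoryTheory CategoryTheory.Limits AlgebraicGeometry IsLocalRing TensorProduct

namespace Groth.Agent.Lead.CMAt

open Groth.Agent.Helper8.GorFlat LocCoh Groth.Agent.Helper3.FibStalk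

/-- the local rings of the spectrum of a CM ring are CM -/
theorem cm_stalk_spec (R : Type u) [CommRing R] (hR : IsCohenMacaulayRing R)
    (p : Spec (CommRingCat.of R)) :
    IsCohenMacaulayLocalRing ((Spec (CommRingCat.of R)).presheaf.stalk p) := by
  letI alg0 : Algebra R ((Spec (CommRingCat.of R)).presheaf.stalk p) :=
    StructureSheaf.stalkAlgebra (R := R) p
  haveI loc0 : IsLocalization.AtPrime ((Spec (CommRingCat.of R)).presheaf.stalk p) p.asIdeal :=
    StructureSheaf.IsLocalization.to_stalk R p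
  haveI := p.isPrime
  exact cm_of_ringEquiv
    (IsLocalization.algEquiv p.asIdeal.primeCompl (Localization.AtPrime p.asIdeal)
      ((Spec (CommRingCat.of R)).presheaf.stalk p)).toRingEquiv
    (hR.isCohenMacaulayLocalRing_localization p.asIdeal)

theorem cm_stalk_of_iso_spec {F : Scheme.{u}} (R : Type u) [CommRing R]
    (hR : IsCohenMacaulayRing R)
    (e : F ≅ Spec (CommRingCat.of R)) (t : F) :
    IsCohenMacaulayLocalRing (F.presheaf.stalk t) := by
  haveI : IsIso (e.hom.stalkMap t) := inferInstance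
  exact cm_of_ringEquiv
    (asIso (e.hom.stalkMap t)).commRingCatIsoToRingEquiv (cm_stalk_spec R hR (e.hom t))

theorem cm_fiber_congr {X Y : Scheme.{u}} (f : X ⟶ Y) {y₁ y₂ : Y} (w₁ : f.fiber y₁)
    (w₂ : f.fiber y₂) (h : f.fiberι y₁ w₁ = f.fiberι y₂ w₂) :
    IsCohenMacaulayLocalRing ((f.fiber y₁).presheaf.stalk w₁) ↔
      IsCohenMacaulayLocalRing ((f.fiber y₂).presheaf.stalk w₂) := by
  have hy : y₁ = y₂ := by
    rw [← apply_fiberι f y₁ w₁, ← apply_fiberι f y₂ w₂, h]
  subst hy
  obtain rfl : w₁ = w₂ := (f.fiberι y₁).isEmbedding.injective h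
  exact Iff.rfl

section BaseField

variable {W W' : Scheme.{u}} (k k' : Type u) [Field k] [Field k'] (ι : k →+* k')
  (h : W ⟶ Spec (CommRingCat.of k)) (h' : W' ⟶ Spec (CommRingCat.of k')) (h₀ : W' ⟶ W)
  (sq : IsPullback h₀ h' h (Spec.map (CommRingCat.ofHom ι)))

include sq in
theorem cm_fiber_of_field_baseChange (hE : ι.EssFiniteType ∨ LocallyOfFiniteType h)
    (w : W) (t : h₀.fiber w) :
    IsCohenMacaulayLocalRing ((h₀.fiber w).presheaf.stalk t) := by
  have sq1 : IsPullback (h₀.fiberι w) (h₀.fiberToSpecResidueField w) h₀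
      (W.fromSpecResidueField w) := IsPullback.of_hasPullback _ _
  have sq2 := sq1.paste_horiz sq.flip
  rcases hE with hι | hh
  · obtain ⟨α, hα⟩ : ∃ α : CommRingCat.of k ⟶ W.residueField w,
        Spec.map α = W.fromSpecResidueField w ≫ h :=
      ⟨Spec.preimage _, Spec.map_preimage _⟩
    rw [← hα] at sq2
    letI : Algebra k k' := ι.toAlgebra
    letI : Algebra k (W.residueField w) := α.hom.toAlgebra
    have hι' : Algebra.EssFiniteType k k' := by
      rw [← RingHom.essFiniteType_algebraMap]
      exact hι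
    let e : h₀.fiber w ≅ Spec (CommRingCat.of (k' ⊗[k] W.residueField w)) :=
      sq2.isoPullback ≪≫ pullbackSpecIso k k' (W.residueField w)
    have hG : IsCohenMacaulayRing (k' ⊗[k] W.residueField w) :=
      isCohenMacaulayRing_tensor_fields k k' _ (Or.inl hι')
    exact cm_stalk_of_iso_spec _ hG e t
  · obtain ⟨α, hα, hαs⟩ := essFiniteType_residue k h w
    rw [← hαs] at sq2
    letI : Algebra k k' := ι.toAlgebra
    letI : Algebra k (W.residueField w) := α.toAlgebra
    have hα' : Algebra.EssFiniteType k (W.residueField w) := by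
      rw [← RingHom.essFiniteType_algebraMap]
      exact hα
    let e : h₀.fiber w ≅ Spec (CommRingCat.of (k' ⊗[k] W.residueField w)) :=
      sq2.isoPullback ≪≫ pullbackSpecIso k k' (W.residueField w)
    have hG : IsCohenMacaulayRing (k' ⊗[k] W.residueField w) :=
      isCohenMacaulayRing_tensor_fields k k' _ (Or.inr hα')
    exact cm_stalk_of_iso_spec _ hG e t

include sq in
theorem cm_of_cm_field_baseChange (w' : W') [IsNoetherianRing (W.presheaf.stalk (h₀ w'))]
    (hG : IsCohenMacaulayLocalRing (W'.presheaf.stalk w')) :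
    IsCohenMacaulayLocalRing (W.presheaf.stalk (h₀ w')) := by
  haveI : Flat h₀ := flat_of_field_baseChange k k' ι h h' h₀ sq
  obtain ⟨γ, hγ, hk⟩ := exists_fibre_presentation h₀ w'
  have D : FLData (h₀.stalkMap w').hom γ := ⟨Flat.stalkMap h₀ w', inferInstance, hγ, hk⟩
  haveI : IsNoetherianRing (W'.presheaf.stalk w') := by haveI := hG; infer_instance
  exact ((cm_iff_of_flData D).mp hG).1

include sq in
theorem cm_field_baseChange_of_cm (hE : ι.EssFiniteType ∨ LocallyOfFiniteType h) (w' : W')
    [IsNoetherianRing (W'.presheaf.stalk w')]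
    (hG : IsCohenMacaulayLocalRing (W.presheaf.stalk (h₀ w'))) :
    IsCohenMacaulayLocalRing (W'.presheaf.stalk w') := by
  haveI : Flat h₀ := flat_of_field_baseChange k k' ι h h' h₀ sq
  obtain ⟨γ, hγ, hk⟩ := exists_fibre_presentation h₀ w'
  have D : FLData (h₀.stalkMap w').hom γ := ⟨Flat.stalkMap h₀ w', inferInstance, hγ, hk⟩
  haveI : IsNoetherianRing (W.presheaf.stalk (h₀ w')) := by haveI := hG; infer_instance
  exact (cm_iff_of_flData D).mpr ⟨hG, cm_fiber_of_field_baseChange k k' ι h h' h₀ sq hE _ _⟩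

end BaseField

/-- the CM analogue of helper3's `main_S3625` -/
theorem cmAt_baseChange (X Y X' Y' : Scheme.{u}) (f : X ⟶ Y) (g : Y' ⟶ Y) (f' : X' ⟶ Y')
    (g' : X' ⟶ X) (hsq : IsPullback g' f' f g) (hfibf : ∀ y, IsLocallyNoetherian (f.fiber y))
    [LocallyOfFiniteType g] (x' : X') :
    (MoreMor.IsCMAt f (g' x') → MoreMor.IsCMAt f' x') ∧
      ((f.stalkMap (g' x')).hom.Flat → MoreMor.IsCMAt f' x' →
        MoreMor.IsCMAt f (g' x')) ∧
      ((g.stalkMap (f' x')).hom.Flat → MoreMor.IsCMAt f' x' →
        MoreMor.IsCMAt f (g' x')) := by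
  have key : ∀ (h₀ : f'.fiber (f' x') ⟶ f.fiber (g (f' x'))),
      h₀ ≫ f.fiberι _ = f'.fiberι _ ≫ g' →
      IsPullback h₀ (f'.fiberToSpecResidueField (f' x'))
        (f.fiberToSpecResidueField (g (f' x'))) (Spec.map (g.residueFieldMap (f' x'))) →
      ((IsCohenMacaulayLocalRing ((f.fiber (f (g' x'))).presheaf.stalk (f.asFiber (g' x'))) →
        IsCohenMacaulayLocalRing ((f'.fiber (f' x')).presheaf.stalk (f'.asFiber x'))) ∧
      (IsCohenMacaulayLocalRing ((f'.fiber (f' x')).presheaf.stalk (f'.asFiber x')) →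
        IsCohenMacaulayLocalRing
          ((f.fiber (f (g' x'))).presheaf.stalk (f.asFiber (g' x'))))) := by
    intro h₀ hh₀ sq
    haveI := hfibf (g (f' x'))
    have hι := essFiniteType_residueFieldMap g (f' x')
    haveI : IsLocallyNoetherian (f'.fiber (f' x')) :=
      isLocallyNoetherian_of_field_baseChange (Y.residueField (g (f' x')))
        (Y'.residueField (f' x')) (g.residueFieldMap (f' x')).hom
        (f.fiberToSpecResidueField (g (f' x'))) (f'.fiberToSpecResidueField (f' x')) h₀ sq hι
    have h2 : f.fiberι (g (f' x')) (h₀ (f'.asFiber x')) =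
        f.fiberι (f (g' x')) (f.asFiber (g' x')) := by
      rw [← Scheme.Hom.comp_apply, hh₀, Scheme.Hom.comp_apply, f'.fiberι_asFiber,
        f.fiberι_asFiber]
    have h3 := cm_fiber_congr f _ _ h2
    constructor
    · intro hG
      exact cm_field_baseChange_of_cm (Y.residueField (g (f' x')))
        (Y'.residueField (f' x')) (g.residueFieldMap (f' x')).hom
        (f.fiberToSpecResidueField (g (f' x'))) (f'.fiberToSpecResidueField (f' x')) h₀ sq
        (Or.inl hι) (f'.asFiber x') (h3.mpr hG)
    · intro hG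
      exact h3.mp (cm_of_cm_field_baseChange (Y.residueField (g (f' x')))
        (Y'.residueField (f' x')) (g.residueFieldMap (f' x')).hom
        (f.fiberToSpecResidueField (g (f' x'))) (f'.fiberToSpecResidueField (f' x')) h₀ sq
        (f'.asFiber x') hG)
  obtain ⟨hup, hdown⟩ := key _ (pullback.lift_fst _ _ _)
    (isPullback_fiberToSpecResidueField_of_isPullback hsq (f' x'))
  refine ⟨?_, ?_, ?_⟩
  · rintro ⟨hfl, hG⟩
    exact ⟨flat_stalkMap_of_isPullback hsq x' hfl, hup hG⟩
  · rintro hfl ⟨_, hG⟩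
    exact ⟨hfl, hdown hG⟩
  · rintro hgfl ⟨hfl', hG⟩
    refine ⟨?_, hdown hG⟩
    have hg'fl : (g'.stalkMap x').hom.Flat := flat_stalkMap_of_isPullback hsq.flip x' hgfl
    have h1 : ((f' ≫ g).stalkMap x').hom.Flat := by
      rw [Groth.Agent.Helper3.FibStalk.stalkMap_comp_hom]
      exact RingHom.Flat.comp hgfl hfl'
    have h2 : ((g' ≫ f).stalkMap x').hom.Flat := flat_stalkMap_congr_hom hsq.w.symm x' h1
    rw [Groth.Agent.Helper3.FibStalk.stalkMap_comp_hom] at h2
    exact Groth.Agent.Helper3.ringHom_flat_of_comp_of_faithfullyFlat _ _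
      (faithfullyFlat_of_flat_of_isLocalHom _ hg'fl) h2

/-- CM analogue of helper3's `main_S3626` -/
theorem cmAt_baseChange_iff (X Y X' Y' : Scheme.{u}) (f : X ⟶ Y) [Flat f] [LocallyOfFiniteType f]
    (g : Y' ⟶ Y) (f' : X' ⟶ Y') (g' : X' ⟶ X) (hsq : IsPullback g' f' f g) (x' : X') :
    MoreMor.IsCMAt f' x' ↔ MoreMor.IsCMAt f (g' x') := by
  haveI : Flat f' := MorphismProperty.of_isPullback (P := @Flat) hsq inferInstance
  haveI : LocallyOfFiniteType f' :=
    MorphismProperty.of_isPullback (P := @LocallyOfFiniteType) hsq inferInstance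
  have key : ∀ (h₀ : f'.fiber (f' x') ⟶ f.fiber (g (f' x'))),
      h₀ ≫ f.fiberι _ = f'.fiberι _ ≫ g' →
      IsPullback h₀ (f'.fiberToSpecResidueField (f' x'))
        (f.fiberToSpecResidueField (g (f' x'))) (Spec.map (g.residueFieldMap (f' x'))) →
      (MoreMor.IsCMAt f' x' ↔ MoreMor.IsCMAt f (g' x')) := by
    intro h₀ hh₀ sq
    haveI : LocallyOfFiniteType (f.fiberToSpecResidueField (g (f' x'))) :=
      MorphismProperty.pullback_snd _ _ inferInstance
    haveI : LocallyOfFiniteType (f'.fiberToSpecResidueField (f' x')) :=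
      MorphismProperty.pullback_snd _ _ inferInstance
    haveI : IsLocallyNoetherian (f.fiber (g (f' x'))) :=
      LocallyOfFiniteType.isLocallyNoetherian (f.fiberToSpecResidueField (g (f' x')))
    haveI : IsLocallyNoetherian (f'.fiber (f' x')) :=
      LocallyOfFiniteType.isLocallyNoetherian (f'.fiberToSpecResidueField (f' x'))
    have h2 : f.fiberι (g (f' x')) (h₀ (f'.asFiber x')) =
        f.fiberι (f (g' x')) (f.asFiber (g' x')) := by
      rw [← Scheme.Hom.comp_apply, hh₀, Scheme.Hom.comp_apply, f'.fiberι_asFiber,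
        f.fiberι_asFiber]
    have h3 := cm_fiber_congr f _ _ h2
    have h1 : IsCohenMacaulayLocalRing ((f'.fiber (f' x')).presheaf.stalk (f'.asFiber x')) ↔
        IsCohenMacaulayLocalRing
          ((f.fiber (g (f' x'))).presheaf.stalk (h₀ (f'.asFiber x'))) := by
      constructor
      · intro hG
        exact cm_of_cm_field_baseChange (Y.residueField (g (f' x')))
          (Y'.residueField (f' x')) (g.residueFieldMap (f' x')).hom
          (f.fiberToSpecResidueField (g (f' x'))) (f'.fiberToSpecResidueField (f' x')) h₀ sq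
          (f'.asFiber x') hG
      · intro hG
        exact cm_field_baseChange_of_cm (Y.residueField (g (f' x')))
          (Y'.residueField (f' x')) (g.residueFieldMap (f' x')).hom
          (f.fiberToSpecResidueField (g (f' x'))) (f'.fiberToSpecResidueField (f' x')) h₀ sq
          (Or.inr inferInstance) (f'.asFiber x') hG
    unfold MoreMor.IsCMAt
    rw [h1, h3]
    exact ⟨fun h => ⟨Flat.stalkMap f _, h.2⟩, fun h => ⟨Flat.stalkMap f' _, h.2⟩⟩
  refine key _ ?_ (isPullback_fiberToSpecResidueField_of_isPullback hsq (f' x'))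
  exact pullback.lift_fst _ _ _

end Groth.Agent.Lead.CMAt
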