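import Mathlib
import Groth.Prelude
import Groth.Agent.Lib.Lead.CMAt2

set_option backward.isDefEq.respectTransparency.types false
set_option synthInstance.maxHeartbeats 400000
set_option autoImplicit false
set_option linter.unusedSectionVars false
set_option linter.style.haveILetI false
universe u

open CategoryTheory CategoryTheory.Limits AlgebraicGeometry IsLocalRing TensorProduct

namespace Groth.Agent.Lead.CMAt

open Groth.Agent.Helper8.GorFlat LocCoh Groth.Agent.Helper3.FibStalk

section BaseField

variable {W W' : Scheme.{u}} (k k' : Type u) [Field k] [Field k'] (ι : k →+* k')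
  (h : W ⟶ Spec (CommRingCat.of k)) (h' : W' ⟶ Spec (CommRingCat.of k')) (h₀ : W' ⟶ W)
  (sq : IsPullback h₀ h' h (Spec.map (CommRingCat.ofHom ι)))

include sq in
/-- descent of locally Noetherian along a field extension -/
theorem isLocallyNoetherian_of_field_baseChange_descent [IsLocallyNoetherian W'] :
    IsLocallyNoetherian W := by
  have key : ∀ (R : CommRingCat.{u}) (j : Spec R ⟶ W) [IsOpenImmersion j],
      IsNoetherianRing R := by
    intro R j _
    have sq1 : IsPullback (pullback.fst h₀ j) (pullback.snd h₀ j) h₀ j :=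
      IsPullback.of_hasPullback _ _
    have sq2 := sq1.paste_horiz sq.flip
    obtain ⟨β, hβ⟩ : ∃ β : CommRingCat.of k ⟶ R, Spec.map β = j ≫ h :=
      ⟨Spec.preimage (j ≫ h), Spec.map_preimage _⟩
    rw [← hβ] at sq2
    letI : Algebra k k' := ι.toAlgebra
    letI : Algebra k R := β.hom.toAlgebra
    let e : pullback h₀ j ≅ Spec (CommRingCat.of (k' ⊗[k] R)) :=
      sq2.isoPullback ≪≫ pullbackSpecIso k k' R
    haveI : IsLocallyNoetherian (pullback h₀ j) :=
      isLocallyNoetherian_of_isOpenImmersion (pullback.fst h₀ j)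
    haveI : IsLocallyNoetherian (Spec (CommRingCat.of (k' ⊗[k] R))) :=
      isLocallyNoetherian_of_isOpenImmersion e.inv
    haveI : IsNoetherianRing (k' ⊗[k] R) :=
      isLocallyNoetherian_Spec (R := CommRingCat.of (k' ⊗[k] R)) |>.mp inferInstance
    haveI : IsNoetherianRing (R ⊗[k] k') :=
      isNoetherianRing_of_ringEquiv _ (Algebra.TensorProduct.comm k k' R).toRingEquiv
    haveI : Module.FaithfullyFlat k k' := inferInstance
    haveI : Module.FaithfullyFlat R (R ⊗[k] k') := inferInstance
    have h1 : IsNoetherian (R ⊗[k] k') ((R ⊗[k] k') ⊗[R] R) :=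
      isNoetherian_of_linearEquiv
        (TensorProduct.AlgebraTensorModule.rid R (R ⊗[k] k') (R ⊗[k] k')).symm
    exact Submodule.IsNoetherian.of_isNoetherian_tensorProduct_of_faithfullyFlat h1
  rw [isLocallyNoetherian_iff_openCover W.affineOpenCover.openCover]
  intro i
  haveI := key (W.affineOpenCover.X i) (W.affineOpenCover.f i)
  exact isLocallyNoetherian_Spec.mpr inferInstance

end BaseField

theorem isLocallyNoetherian_fiber_congr {X Y : Scheme.{u}} (f : X ⟶ Y) {y₁ y₂ : Y} (e : y₁ = y₂)
    (h : IsLocallyNoetherian (f.fiber y₁)) : IsLocallyNoetherian (f.fiber y₂) := by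
  subst e; exact h

theorem isCMAt_congr {X Y : Scheme.{u}} (f : X ⟶ Y) {x₁ x₂ : X} (e : x₁ = x₂)
    (h : MoreMor.IsCMAt f x₁) : MoreMor.IsCMAt f x₂ := by
  subst e; exact h

theorem S1407_main {X Y X' Y' : Scheme.{u}} (f : X ⟶ Y) (f' : X' ⟶ Y') (g' : X' ⟶ X)
    (g : Y' ⟶ Y) [Flat g] [LocallyOfFinitePresentation g] [Surjective g]
    (hc : IsPullback g' f' f g) :
    ((∀ y : Y, IsLocallyNoetherian (f.fiber y)) ∧ ∀ x : X, MoreMor.IsCMAt f x) ↔
      (∀ y' : Y', IsLocallyNoetherian (f'.fiber y')) ∧ ∀ x' : X', MoreMor.IsCMAt f' x' := by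
  constructor
  · rintro ⟨hN, hCM⟩
    refine ⟨fun y' => ?_, fun x' => ?_⟩
    · haveI := hN (g y')
      have sq := isPullback_fiberToSpecResidueField_of_isPullback hc y'
      exact isLocallyNoetherian_of_field_baseChange (Y.residueField (g y'))
        (Y'.residueField y') (g.residueFieldMap y').hom
        (f.fiberToSpecResidueField (g y')) (f'.fiberToSpecResidueField y') _ sq
        (essFiniteType_residueFieldMap g y')
    · exact (cmAt_baseChange X Y X' Y' f g f' g' hc hN x').1 (hCM (g' x'))
  · rintro ⟨hN', hCM'⟩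
    have hN : ∀ y : Y, IsLocallyNoetherian (f.fiber y) := by
      intro y
      obtain ⟨y', rfl⟩ := Surjective.surj (f := g) y
      haveI := hN' y'
      have sq := isPullback_fiberToSpecResidueField_of_isPullback hc y'
      exact isLocallyNoetherian_of_field_baseChange_descent (Y.residueField (g y'))
        (Y'.residueField y') (g.residueFieldMap y').hom
        (f.fiberToSpecResidueField (g y')) (f'.fiberToSpecResidueField y') _ sq
    refine ⟨hN, fun x => ?_⟩
    haveI : Surjective g' := MorphismProperty.of_isPullback (P := @Surjective) hc.flip inferInstance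
    obtain ⟨x', rfl⟩ := Surjective.surj (f := g') x
    exact (cmAt_baseChange X Y X' Y' f g f' g' hc hN x').2.2 (Flat.stalkMap g (f' x')) (hCM' x')

end Groth.Agent.Lead.CMAt
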