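import Mathlib

set_option autoImplicit false
set_option backward.isDefEq.respectTransparency.types false
set_option synthInstance.maxHeartbeats 400000
set_option linter.style.haveILetI false
universe u v

open TensorProduct RingTheory.Sequence

namespace Groth.Agent.Lead.CMQF

/-! ### Lemma K: `Tor₁(R/(rs), M) = 0` for an `M`-regular sequence -/

section K

variable {R : Type u} [CommRing R]

/-- the multiplication map `I ⊗ M → M` -/
noncomputable def mulMap (I : Ideal R) (M : Type v) [AddCommGroup M] [Module R M] : I ⊗[R] M →ₗ[R] M :=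
  (TensorProduct.lid R M).toLinearMap ∘ₗ I.subtype.rTensor M

@[simp] theorem mulMap_tmul (I : Ideal R) (M : Type v) [AddCommGroup M] [Module R M] (a : I) (m : M) :
    mulMap I M (a ⊗ₜ m) = (a : R) • m := by
  simp [mulMap]

theorem rTensor_injective_iff_mulMap (I : Ideal R) (M : Type v) [AddCommGroup M] [Module R M] :
    Function.Injective (I.subtype.rTensor M) ↔ Function.Injective (mulMap I M) := by
  unfold mulMap
  rw [LinearMap.coe_comp, LinearEquiv.coe_coe, (TensorProduct.lid R M).injective.of_comp_iff]

theorem mulMap_injective_cons (r : R) (I' : Ideal R) (M : Type v) [AddCommGroup M] [Module R M]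
    (hr : IsSMulRegular M r)
    (hI' : Function.Injective (mulMap I' (QuotSMulTop r M))) :
    Function.Injective (mulMap (Ideal.span {r} ⊔ I') M) := by
  classical
  set I : Ideal R := Ideal.span {r} ⊔ I' with hIdef
  have hrI : r ∈ I := (le_sup_left : Ideal.span {r} ≤ I) (Ideal.mem_span_singleton_self r)
  have hle : I' ≤ I := le_sup_right
  let rh : I := ⟨r, hrI⟩
  let ι : I' ⊗[R] M →ₗ[R] I ⊗[R] M := (Submodule.inclusion hle).rTensor M
  let π : M →ₗ[R] QuotSMulTop r M := Submodule.mkQ _
  -- Claim A
  have hA : ∀ ξ : I ⊗[R] M, ∃ (m₀ : M) (ξ' : I' ⊗[R] M), ξ = rh ⊗ₜ m₀ + ι ξ' := by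
    intro ξ
    induction ξ using TensorProduct.induction_on with
    | zero => exact ⟨0, 0, by simp⟩
    | tmul a m =>
      obtain ⟨a, ha⟩ := a
      obtain ⟨b, hb, a', ha', rfl⟩ := Submodule.mem_sup.mp ha
      obtain ⟨c, rfl⟩ := Ideal.mem_span_singleton'.mp hb
      refine ⟨c • m, (⟨a', ha'⟩ : I') ⊗ₜ m, ?_⟩
      have h1 : (⟨c * r + a', ha⟩ : I) = c • rh + Submodule.inclusion hle ⟨a', ha'⟩ := by
        apply Subtype.ext
        simp [rh]
      rw [h1, TensorProduct.add_tmul, TensorProduct.smul_tmul]
      rfl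
    | add x y hx hy =>
      obtain ⟨m₁, ξ₁, rfl⟩ := hx
      obtain ⟨m₂, ξ₂, rfl⟩ := hy
      refine ⟨m₁ + m₂, ξ₁ + ξ₂, ?_⟩
      rw [TensorProduct.tmul_add, map_add]
      abel
  -- Claim B
  have hB : ∀ ξ' : I' ⊗[R] M, mulMap I M (ι ξ') = mulMap I' M ξ' := by
    intro ξ'
    induction ξ' using TensorProduct.induction_on with
    | zero => simp
    | tmul a m => simp [ι]
    | add x y hx hy => simp only [map_add, hx, hy]
  -- Claim C
  have hC : ∀ η : I' ⊗[R] M, rh ⊗ₜ[R] (mulMap I' M η) = r • ι η := by
    intro η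
    induction η using TensorProduct.induction_on with
    | zero => simp
    | tmul a m =>
      rw [mulMap_tmul]
      show rh ⊗ₜ[R] ((a : R) • m) = r • ((Submodule.inclusion hle a) ⊗ₜ[R] m)
      rw [← TensorProduct.smul_tmul, TensorProduct.smul_tmul']
      congr 1
      apply Subtype.ext
      simp [rh, mul_comm]
    | add x y hx hy => simp only [map_add, TensorProduct.tmul_add, smul_add, hx, hy]
  -- compatibility with the quotient
  have hπ : ∀ ξ' : I' ⊗[R] M, mulMap I' (QuotSMulTop r M) (π.lTensor I' ξ') = π (mulMap I' M ξ') := by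
    intro ξ'
    induction ξ' using TensorProduct.induction_on with
    | zero => simp
    | tmul a m => simp
    | add x y hx hy => simp only [map_add, hx, hy]
  rw [injective_iff_map_eq_zero]
  intro ξ hξ
  obtain ⟨m₀, ξ', rfl⟩ := hA ξ
  rw [map_add, mulMap_tmul, hB] at hξ
  have hξ0 : r • m₀ + mulMap I' M ξ' = 0 := hξ
  -- reduce mod r
  have h1 : π.lTensor I' ξ' = 0 := by
    apply hI'
    rw [hπ, map_zero]
    have : mulMap I' M ξ' = -(r • m₀) := eq_neg_of_add_eq_zero_right hξ0
    rw [this, map_neg, neg_eq_zero]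
    exact (Submodule.Quotient.mk_eq_zero _).mpr (Submodule.smul_mem_pointwise_smul _ _ _ trivial)
  -- exactness
  have hex : Function.Exact (LinearMap.lsmul R M r) π := by
    intro m
    rw [Submodule.mkQ_apply, Submodule.Quotient.mk_eq_zero]
    constructor
    · intro hm
      obtain ⟨m', -, rfl⟩ := (Submodule.mem_smul_pointwise_iff_exists _ _ _).mp hm
      exact ⟨m', rfl⟩
    · rintro ⟨m', rfl⟩
      exact Submodule.smul_mem_pointwise_smul _ _ _ trivial
  have hsm : ∀ η : I' ⊗[R] M, (LinearMap.lsmul R M r).lTensor I' η = r • η := by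
    intro η
    induction η using TensorProduct.induction_on with
    | zero => simp
    | tmul a m => simp [TensorProduct.tmul_smul]
    | add x y hx hy => simp only [map_add, smul_add, hx, hy]
  obtain ⟨η, hη⟩ := (lTensor_exact I' hex (Submodule.mkQ_surjective _) ξ').mp h1
  have hη' : ξ' = r • η := by
    rw [← hη, hsm]
  have h2 : r • (m₀ + mulMap I' M η) = 0 := by
    rw [smul_add, ← map_smul, ← hη']
    exact hξ0
  have h3 : m₀ = -(mulMap I' M η) := by
    have := hr (by rw [h2, smul_zero] : r • (m₀ + mulMap I' M η) = r • 0)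
    exact eq_neg_of_add_eq_zero_left this
  rw [h3, TensorProduct.tmul_neg, hC, hη', map_smul, neg_add_cancel]

theorem mulMap_injective_ofList (rs : List R) :
    ∀ (M : Type v) [AddCommGroup M] [Module R M], IsWeaklyRegular M rs →
      Function.Injective (mulMap (Ideal.ofList rs) M) := by
  induction rs with
  | nil =>
    intro M _ _ _
    rw [Ideal.ofList_nil]
    haveI : Subsingleton ((⊥ : Ideal R) ⊗[R] M) := by
      refine ⟨fun x y => ?_⟩
      have h0 : ∀ z : (⊥ : Ideal R) ⊗[R] M, z = 0 := by
        intro z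
        induction z using TensorProduct.induction_on with
        | zero => rfl
        | tmul a m =>
          have : a = 0 := Subtype.ext ((Submodule.mem_bot R).mp a.2)
          rw [this, TensorProduct.zero_tmul]
        | add x y hx hy => rw [hx, hy, add_zero]
      rw [h0 x, h0 y]
    exact Function.injective_of_subsingleton _
  | cons r rs ih =>
    intro M _ _ h
    obtain ⟨h1, h2⟩ := (isWeaklyRegular_cons_iff M r rs).mp h
    rw [Ideal.ofList_cons]
    exact mulMap_injective_cons r (Ideal.ofList rs) M h1 (ih (QuotSMulTop r M) h2)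

theorem rTensor_ofList_subtype_injective (rs : List R) (M : Type v) [AddCommGroup M] [Module R M]
    (h : IsWeaklyRegular M rs) :
    Function.Injective ((Ideal.ofList rs).subtype.rTensor M) :=
  (rTensor_injective_iff_mulMap _ M).mpr (mulMap_injective_ofList rs M h)

end K

end Groth.Agent.Lead.CMQF
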