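import Mathlib
import Groth.Agent.Lib.Helper1.LocalCrit
import Groth.Agent.Lib.Lead.CMQF1

set_option autoImplicit false
set_option backward.isDefEq.respectTransparency.types false
set_option synthInstance.maxHeartbeats 400000
set_option linter.style.haveILetI false
universe u v

open TensorProduct RingTheory.Sequence IsLocalRing

namespace Groth.Agent.Lead.CMQF

section N

variable (K : Type u) [Field K] (d : ℕ)

theorem ofList_ofFn_X_eq :
    Ideal.ofList (List.ofFn (fun i : Fin d => (MvPolynomial.X i : MvPolynomial (Fin d) K))) =
      MvPolynomial.idealOfVars (Fin d) K := by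
  unfold Ideal.ofList MvPolynomial.idealOfVars
  congr 1
  ext x
  simp [List.mem_ofFn]

theorem isMaximal_idealOfVars : (MvPolynomial.idealOfVars (Fin d) K).IsMaximal := by
  have hsurj : Function.Surjective (MvPolynomial.constantCoeff (σ := Fin d) (R := K)) := by
    intro k
    exact ⟨MvPolynomial.C k, MvPolynomial.constantCoeff_C _ k⟩
  have hker : RingHom.ker (MvPolynomial.constantCoeff (σ := Fin d) (R := K)) =
      MvPolynomial.idealOfVars (Fin d) K := by
    ext p
    rw [RingHom.mem_ker, ← pow_one (MvPolynomial.idealOfVars (Fin d) K),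
      MvPolynomial.mem_pow_idealOfVars_iff']
    constructor
    · intro h x hx
      have hx0 : x = 0 := by
        ext i
        have : Finsupp.degree x = 0 := by omega
        have h2 := (Finsupp.degree_eq_zero_iff x).mp this
        rw [h2]
      rw [hx0]
      exact h
    · intro h
      exact h 0 (by simp)
  rw [← hker]
  exact RingHom.ker_isMaximal_of_surjective _ hsurj

variable (F : Type v) [CommRing F] [IsLocalRing F] [IsNoetherianRing F]
  [Algebra (MvPolynomial (Fin d) K) F]

/-- **Lemma N (field case)**: a Noetherian local algebra over `K[T₁,…,T_d]` on which the `T_i`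
act as a regular sequence in the maximal ideal is flat over `K[T₁,…,T_d]`. -/
theorem flat_mvPolynomial_of_regular
    (hmem : ∀ i, algebraMap (MvPolynomial (Fin d) K) F (MvPolynomial.X i) ∈ maximalIdeal F)
    (hreg : IsWeaklyRegular F
      (List.ofFn (fun i : Fin d => algebraMap (MvPolynomial (Fin d) K) F (MvPolynomial.X i)))) :
    Module.Flat (MvPolynomial (Fin d) K) F := by
  set I := Ideal.ofList (List.ofFn (fun i : Fin d => (MvPolynomial.X i : MvPolynomial (Fin d) K)))
    with hI
  have hImax : I.IsMaximal := by
    rw [hI, ofList_ofFn_X_eq]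
    exact isMaximal_idealOfVars K d
  have hreg' : IsWeaklyRegular F
      (List.ofFn (fun i : Fin d => (MvPolynomial.X i : MvPolynomial (Fin d) K))) := by
    rw [← isWeaklyRegular_map_algebraMap_iff F F, List.map_ofFn]
    exact hreg
  have h1 : Function.Injective (I.subtype.rTensor F) := rTensor_ofList_subtype_injective _ F hreg'
  have hne : I.map (algebraMap (MvPolynomial (Fin d) K) F) ≠ ⊤ := by
    intro htop
    have hle : I.map (algebraMap (MvPolynomial (Fin d) K) F) ≤ maximalIdeal F := by
      rw [hI, Ideal.map_ofList, List.map_ofFn]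
      unfold Ideal.ofList
      rw [Ideal.span_le]
      intro x hx
      obtain ⟨i, rfl⟩ := (List.mem_ofFn' _ _).mp hx
      exact hmem i
    rw [htop] at hle
    exact (maximalIdeal.isMaximal F).ne_top (top_le_iff.mp hle)
  letI := Ideal.Quotient.field I
  haveI : Module.Flat (MvPolynomial (Fin d) K ⧸ I) ((MvPolynomial (Fin d) K ⧸ I) ⊗[MvPolynomial (Fin d) K] F) :=
    inferInstance
  exact Groth.Agent.Helper1.LocalCrit.flat_of_rTensor_injective_of_flat_quotient
    (R := MvPolynomial (Fin d) K) (S := F) (M := F) I hne h1

end N

end Groth.Agent.Lead.CMQF
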