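import Mathlib

set_option autoImplicit false
set_option backward.isDefEq.respectTransparency.types false
set_option synthInstance.maxHeartbeats 400000
set_option linter.style.haveILetI false
universe u v

open TensorProduct

namespace Groth.Agent.Lead.CMQF

/-- **Lemma U'**: a module over a domain on which all nonzero scalars act bijectively is flat. -/
theorem flat_of_bijective_smul (D : Type u) [CommRing D] [IsDomain D] (G : Type v) [AddCommGroup G]
    [Module D G] (h : ∀ a : D, a ≠ 0 → Function.Bijective (fun g : G => a • g)) :
    Module.Flat D G := by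
  haveI : IsLocalizedModule (nonZeroDivisors D) (LinearMap.id : G →ₗ[D] G) := by
    refine ⟨fun x => ?_, fun y => ⟨(y, 1), by simp⟩, fun {x₁ x₂} hx => ⟨1, by simpa using hx⟩⟩
    rw [Module.End.isUnit_iff]
    exact h x.1 (nonZeroDivisors.ne_zero x.2)
  haveI : Module.Flat (FractionRing D) (LocalizedModule (nonZeroDivisors D) G) := inferInstance
  haveI : Module.Flat D (LocalizedModule (nonZeroDivisors D) G) :=
    (Module.flat_iff_of_isLocalization (FractionRing D) (nonZeroDivisors D)
      (LocalizedModule (nonZeroDivisors D) G)).mp inferInstance
  exact Module.Flat.of_linearEquiv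
    (IsLocalizedModule.iso (nonZeroDivisors D) (LinearMap.id : G →ₗ[D] G)).symm

end Groth.Agent.Lead.CMQF
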