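import Mathlib
import Groth.Agent.Lib.Lead.CMQF2
import Groth.Agent.Lib.Lead.CMQF3
import Groth.Agent.Lib.Lead.CritFib13
import Groth.Agent.Lib.Lead.CMAt1

set_option autoImplicit false
set_option backward.isDefEq.respectTransparency.types false
set_option synthInstance.maxHeartbeats 400000
set_option linter.style.haveILetI false
universe u v

open TensorProduct RingTheory.Sequence IsLocalRing

namespace Groth.Agent.Lead.CMQF

/-- transport of flatness along a ring isomorphism -/
theorem flat_of_ringEquiv {R₁ R₂ : Type*} [CommRing R₁] [CommRing R₂] (e : R₁ ≃+* R₂)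
    (G : Type*) [AddCommGroup G] [Module R₁ G] [Module R₂ G]
    (h : ∀ (r : R₁) (g : G), e r • g = r • g) [Module.Flat R₁ G] : Module.Flat R₂ G := by
  letI : Algebra R₁ R₂ := e.toRingHom.toAlgebra
  haveI : IsScalarTower R₁ R₂ G := IsScalarTower.of_algebraMap_smul fun r g => h r g
  haveI : IsLocalization (⊥ : Submonoid R₁) R₂ :=
    IsLocalization.of_le_isUnit_of_bijective (by
      rintro _ ⟨s, hs, rfl⟩
      rw [SetLike.mem_coe, Submonoid.mem_bot] at hs
      subst hs
      rw [map_one]
      exact isUnit_one) e.bijective
  exact (Module.flat_iff_of_isLocalization R₂ (⊥ : Submonoid R₁) G).mpr inferInstance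

section Q

variable {R : Type u} [CommRing R] (m : Ideal R) [hm : m.IsMaximal] (d : ℕ)
  (L : Type u) [CommRing L] [IsLocalRing L] [Algebra (MvPolynomial (Fin d) R) L]

set_option maxHeartbeats 1000000 in
theorem flat_quotient_mvPolynomial
    (hne : (m.map (MvPolynomial.C (σ := Fin d))).map (algebraMap (MvPolynomial (Fin d) R) L) ≠ ⊤)
    (hN : IsNoetherianRing (L ⧸ (m.map (MvPolynomial.C (σ := Fin d))).map
      (algebraMap (MvPolynomial (Fin d) R) L)))
    (hmem : ∀ i, algebraMap (MvPolynomial (Fin d) R) L (MvPolynomial.X i) ∈ maximalIdeal L)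
    (hreg : IsWeaklyRegular (L ⧸ (m.map (MvPolynomial.C (σ := Fin d))).map
        (algebraMap (MvPolynomial (Fin d) R) L))
      (List.ofFn fun i => Ideal.Quotient.mk ((m.map (MvPolynomial.C (σ := Fin d))).map
        (algebraMap (MvPolynomial (Fin d) R) L))
        (algebraMap (MvPolynomial (Fin d) R) L (MvPolynomial.X i)))) :
    Module.Flat (MvPolynomial (Fin d) R ⧸ m.map (MvPolynomial.C (σ := Fin d)))
      (L ⧸ (m.map (MvPolynomial.C (σ := Fin d))).map (algebraMap (MvPolynomial (Fin d) R) L)) := by
  letI := Ideal.Quotient.field m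
  set J := m.map (MvPolynomial.C (σ := Fin d)) with hJ
  set JL := J.map (algebraMap (MvPolynomial (Fin d) R) L) with hJL
  let e' : MvPolynomial (Fin d) (R ⧸ m) ≃+* (MvPolynomial (Fin d) R ⧸ J) :=
    (MvPolynomial.quotientEquivQuotientMvPolynomial m).toRingEquiv
  have he'X : ∀ i, e' (MvPolynomial.X i) = Ideal.Quotient.mk J (MvPolynomial.X i) := by
    intro i
    show MvPolynomial.eval₂Hom _ _ (MvPolynomial.X i) = _
    rw [MvPolynomial.eval₂Hom_X']
  letI algKF : Algebra (MvPolynomial (Fin d) (R ⧸ m)) (L ⧸ JL) :=
    ((algebraMap (MvPolynomial (Fin d) R ⧸ J) (L ⧸ JL)).comp e'.toRingHom).toAlgebra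
  have halg : ∀ i, algebraMap (MvPolynomial (Fin d) (R ⧸ m)) (L ⧸ JL) (MvPolynomial.X i) =
      Ideal.Quotient.mk JL (algebraMap (MvPolynomial (Fin d) R) L (MvPolynomial.X i)) := by
    intro i
    show algebraMap (MvPolynomial (Fin d) R ⧸ J) (L ⧸ JL) (e' (MvPolynomial.X i)) = _
    rw [he'X]
    rfl
  haveI : Nontrivial (L ⧸ JL) := Ideal.Quotient.nontrivial_iff.mpr hne
  haveI : IsLocalRing (L ⧸ JL) :=
    IsLocalRing.of_surjective' (Ideal.Quotient.mk JL) Ideal.Quotient.mk_surjective
  haveI := hN
  have hmem' : ∀ i, algebraMap (MvPolynomial (Fin d) (R ⧸ m)) (L ⧸ JL) (MvPolynomial.X i) ∈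
      maximalIdeal (L ⧸ JL) := by
    intro i
    rw [halg, mem_maximalIdeal, mem_nonunits_iff]
    intro hu
    have hker : RingHom.ker (Ideal.Quotient.mk JL) ≤ maximalIdeal L := by
      rw [Ideal.mk_ker]
      exact IsLocalRing.le_maximalIdeal hne
    exact (mem_maximalIdeal _).mp (hmem i)
      (Groth.Agent.Lead.CMAt.isUnit_of_surj (Ideal.Quotient.mk JL) hker
        Ideal.Quotient.mk_surjective hu)
  have hreg' : IsWeaklyRegular (L ⧸ JL)
      (List.ofFn (fun i : Fin d => algebraMap (MvPolynomial (Fin d) (R ⧸ m)) (L ⧸ JL)
        (MvPolynomial.X i))) := by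
    have : (fun i : Fin d => algebraMap (MvPolynomial (Fin d) (R ⧸ m)) (L ⧸ JL)
        (MvPolynomial.X i)) = fun i => Ideal.Quotient.mk JL
          (algebraMap (MvPolynomial (Fin d) R) L (MvPolynomial.X i)) := funext halg
    rw [this]
    exact hreg
  haveI : Module.Flat (MvPolynomial (Fin d) (R ⧸ m)) (L ⧸ JL) :=
    flat_mvPolynomial_of_regular (R ⧸ m) d (L ⧸ JL) hmem' hreg'
  exact flat_of_ringEquiv e' (L ⧸ JL) (fun r g => by
    rw [Algebra.smul_def, Algebra.smul_def]
    rfl)

end Q

end Groth.Agent.Lead.CMQF

namespace Groth.Agent.Lead.CMQF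

open Groth.Agent.Lead.CritFib

section Z2

variable {A C : Type u} [CommRing A] [CommRing C] [Algebra A C] [Algebra.FinitePresentation A C]
  (p : Ideal A) [p.IsPrime] (q : Ideal C) [q.IsPrime] [q.LiesOver p]
  (d : ℕ) (s : Fin d → C)

set_option maxHeartbeats 1000000 in
theorem flat_mvPolynomial_localization
    (h1 : Module.Flat A (Localization.AtPrime q))
    (hN : IsNoetherianRing (Localization.AtPrime q ⧸ p.map (algebraMap A (Localization.AtPrime q))))
    (hmem : ∀ i, s i ∈ q)
    (hreg : IsWeaklyRegular (Localization.AtPrime q ⧸ p.map (algebraMap A (Localization.AtPrime q)))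
      (List.ofFn fun i => Ideal.Quotient.mk (p.map (algebraMap A (Localization.AtPrime q)))
        (algebraMap C (Localization.AtPrime q) (s i)))) :
    letI : Algebra (MvPolynomial (Fin d) A) C := (MvPolynomial.aeval s).toAlgebra
    Module.Flat (MvPolynomial (Fin d) A) (LocalizedModule q.primeCompl C) := by
  letI algPC : Algebra (MvPolynomial (Fin d) A) C := (MvPolynomial.aeval s).toAlgebra
  haveI : IsScalarTower A (MvPolynomial (Fin d) A) C :=
    IsScalarTower.of_algebraMap_eq (fun a => (MvPolynomial.aeval_C s a).symm)
  have h1' : Module.Flat A (LocalizedModule q.primeCompl C) := h1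
  have h2 : Module.Flat (MvPolynomial (Fin d) A ⧸ p.map (algebraMap A (MvPolynomial (Fin d) A)))
      ((MvPolynomial (Fin d) A ⧸ p.map (algebraMap A (MvPolynomial (Fin d) A))) ⊗[MvPolynomial (Fin d) A]
        LocalizedModule q.primeCompl C) := by
    -- the local rings
    letI algApL : Algebra (Localization.AtPrime p) (Localization.AtPrime q) :=
      Localization.AtPrime.algebraOfLiesOver p q
    -- the polynomial ring over the local ring of the base
    letI algS₁L : Algebra (MvPolynomial (Fin d) (Localization.AtPrime p)) (Localization.AtPrime q) :=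
      (MvPolynomial.aeval (R := Localization.AtPrime p)
        (fun i => algebraMap C (Localization.AtPrime q) (s i))).toAlgebra
    letI algPS₁ : Algebra (MvPolynomial (Fin d) A) (MvPolynomial (Fin d) (Localization.AtPrime p)) :=
      MvPolynomial.algebraMvPolynomial
    haveI : IsLocalization (p.primeCompl.map (MvPolynomial.C (σ := Fin d)))
        (MvPolynomial (Fin d) (Localization.AtPrime p)) :=
      MvPolynomial.isLocalization p.primeCompl (Localization.AtPrime p)
    have hcomp : ∀ x : MvPolynomial (Fin d) A,
        algebraMap (MvPolynomial (Fin d) (Localization.AtPrime p)) (Localization.AtPrime q)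
          (algebraMap (MvPolynomial (Fin d) A) (MvPolynomial (Fin d) (Localization.AtPrime p)) x) =
        algebraMap C (Localization.AtPrime q) (algebraMap (MvPolynomial (Fin d) A) C x) := by
      intro x
      induction x using MvPolynomial.induction_on with
      | C a =>
        show MvPolynomial.aeval _ (MvPolynomial.map _ (MvPolynomial.C a)) =
          algebraMap C _ (MvPolynomial.aeval s (MvPolynomial.C a))
        rw [MvPolynomial.map_C, MvPolynomial.aeval_C, MvPolynomial.aeval_C,
          ← IsScalarTower.algebraMap_apply, ← IsScalarTower.algebraMap_apply]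
      | add x y hx hy => rw [map_add, map_add, hx, hy, map_add, map_add]
      | mul_X x i hx =>
        rw [map_mul, map_mul, hx, map_mul, map_mul]
        congr 1
        show MvPolynomial.aeval _ (MvPolynomial.map _ (MvPolynomial.X i)) =
          algebraMap C _ (MvPolynomial.aeval s (MvPolynomial.X i))
        rw [MvPolynomial.map_X, MvPolynomial.aeval_X, MvPolynomial.aeval_X]
    haveI tow : IsScalarTower (MvPolynomial (Fin d) A) (MvPolynomial (Fin d) (Localization.AtPrime p))
        (LocalizedModule q.primeCompl C) := by
      refine IsScalarTower.of_algebraMap_smul (fun x z => ?_)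
      show algebraMap (MvPolynomial (Fin d) (Localization.AtPrime p)) (Localization.AtPrime q)
          (algebraMap (MvPolynomial (Fin d) A) (MvPolynomial (Fin d) (Localization.AtPrime p)) x) * z = x • z
      rw [hcomp, ← Algebra.smul_def, algebraMap_smul]
    haveI hflatS₁ : Module.Flat
        (MvPolynomial (Fin d) (Localization.AtPrime p) ⧸
          (p.map (algebraMap A (MvPolynomial (Fin d) A))).map
            (algebraMap (MvPolynomial (Fin d) A) (MvPolynomial (Fin d) (Localization.AtPrime p))))
        ((MvPolynomial (Fin d) (Localization.AtPrime p) ⧸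
          (p.map (algebraMap A (MvPolynomial (Fin d) A))).map
            (algebraMap (MvPolynomial (Fin d) A) (MvPolynomial (Fin d) (Localization.AtPrime p))))
          ⊗[MvPolynomial (Fin d) (Localization.AtPrime p)] LocalizedModule q.primeCompl C) := by
      have hcompA : ∀ a : A, algebraMap (MvPolynomial (Fin d) (Localization.AtPrime p)) (Localization.AtPrime q)
          (algebraMap (MvPolynomial (Fin d) A) (MvPolynomial (Fin d) (Localization.AtPrime p))
            (algebraMap A (MvPolynomial (Fin d) A) a)) = algebraMap A (Localization.AtPrime q) a := by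
        intro a
        rw [hcomp, ← IsScalarTower.algebraMap_apply A (MvPolynomial (Fin d) A) C,
          ← IsScalarTower.algebraMap_apply A C (Localization.AtPrime q)]
      have hJeq : (p.map (algebraMap A (MvPolynomial (Fin d) A))).map
            (algebraMap (MvPolynomial (Fin d) A) (MvPolynomial (Fin d) (Localization.AtPrime p))) =
          (maximalIdeal (Localization.AtPrime p)).map (MvPolynomial.C (σ := Fin d)) := by
        rw [Ideal.map_map, ← IsLocalization.AtPrime.map_eq_maximalIdeal p (Localization.AtPrime p),
          Ideal.map_map]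
        congr 1
        refine RingHom.ext fun a => ?_
        show MvPolynomial.map (algebraMap A (Localization.AtPrime p)) (MvPolynomial.C a) = _
        rw [MvPolynomial.map_C]
        rfl
      have hkey : ((maximalIdeal (Localization.AtPrime p)).map (MvPolynomial.C (σ := Fin d))).map
            (algebraMap (MvPolynomial (Fin d) (Localization.AtPrime p)) (Localization.AtPrime q)) =
          p.map (algebraMap A (Localization.AtPrime q)) := by
        rw [← hJeq, Ideal.map_map, Ideal.map_map]
        congr 1
        exact RingHom.ext fun a => hcompA a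
      rw [hJeq]
      have hne : ((maximalIdeal (Localization.AtPrime p)).map (MvPolynomial.C (σ := Fin d))).map
            (algebraMap (MvPolynomial (Fin d) (Localization.AtPrime p)) (Localization.AtPrime q)) ≠ ⊤ := by
        rw [hkey]
        intro htop
        have hle : p.map (algebraMap A (Localization.AtPrime q)) ≤
            maximalIdeal (Localization.AtPrime q) := by
          rw [Ideal.map_le_iff_le_comap, ← IsLocalization.AtPrime.map_eq_maximalIdeal q,
            IsScalarTower.algebraMap_eq A C (Localization.AtPrime q), ← Ideal.comap_comap]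
          intro a ha
          rw [Ideal.mem_comap]
          refine Ideal.le_comap_map ?_
          have : a ∈ q.under A := by rw [← Ideal.over_def q p]; exact ha
          exact this
        rw [htop] at hle
        exact (maximalIdeal.isMaximal _).ne_top (top_le_iff.mp hle)
      rw [← hkey] at hN hreg
      haveI := flat_quotient_mvPolynomial (maximalIdeal (Localization.AtPrime p)) d
        (Localization.AtPrime q) hne hN (fun i => by
          show MvPolynomial.aeval _ (MvPolynomial.X i) ∈ _
          rw [MvPolynomial.aeval_X, ← IsLocalization.AtPrime.map_eq_maximalIdeal q]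
          exact Ideal.mem_map_of_mem _ (hmem i)) (by
          convert hreg using 4
          show MvPolynomial.aeval _ (MvPolynomial.X _) = _
          rw [MvPolynomial.aeval_X])
      exact Module.Flat.of_linearEquiv (Algebra.TensorProduct.quotIdealMapEquivQuotTensor
        (Localization.AtPrime q) ((maximalIdeal (Localization.AtPrime p)).map
          (MvPolynomial.C (σ := Fin d)))).symm.toLinearEquiv
    exact qflat_of_localization (S := MvPolynomial (Fin d) (Localization.AtPrime p))
      (p.primeCompl.map (MvPolynomial.C (σ := Fin d))) (p.map (algebraMap A (MvPolynomial (Fin d) A)))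
      (LocalizedModule q.primeCompl C)
  exact critere_ft A (MvPolynomial (Fin d) A) C C p q h1' h2

end Z2

end Groth.Agent.Lead.CMQF
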