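import Mathlib
import Groth.Agent.Lib.Lead.CMQF4

set_option autoImplicit false
set_option backward.isDefEq.respectTransparency.types false
set_option synthInstance.maxHeartbeats 400000
set_option linter.style.haveILetI false
universe u v

open TensorProduct RingTheory.Sequence IsLocalRing

namespace Groth.Agent.Lead.CMQF

open Groth.Agent.Lead.CritFib

section Q'

variable {R : Type u} [CommRing R] (m : Ideal R) [hm : m.IsMaximal] (d : ℕ)
  (L : Type u) [CommRing L] [Algebra (MvPolynomial (Fin d) R) L]

set_option maxHeartbeats 1000000 in
theorem flat_quotient_mvPolynomial_of_units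
    (hunit : ∀ a : MvPolynomial (Fin d) R, a ∉ m.map (MvPolynomial.C (σ := Fin d)) →
      IsUnit (algebraMap (MvPolynomial (Fin d) R) L a)) :
    Module.Flat (MvPolynomial (Fin d) R ⧸ m.map (MvPolynomial.C (σ := Fin d)))
      (L ⧸ (m.map (MvPolynomial.C (σ := Fin d))).map (algebraMap (MvPolynomial (Fin d) R) L)) := by
  letI := Ideal.Quotient.field m
  set J := m.map (MvPolynomial.C (σ := Fin d)) with hJ
  set JL := J.map (algebraMap (MvPolynomial (Fin d) R) L) with hJL
  let e' : MvPolynomial (Fin d) (R ⧸ m) ≃+* (MvPolynomial (Fin d) R ⧸ J) :=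
    (MvPolynomial.quotientEquivQuotientMvPolynomial m).toRingEquiv
  haveI : IsDomain (MvPolynomial (Fin d) R ⧸ J) := MulEquiv.isDomain _ e'.symm.toMulEquiv
  refine flat_of_bijective_smul _ _ (fun a ha => ?_)
  obtain ⟨a, rfl⟩ := Ideal.Quotient.mk_surjective a
  have ha' : a ∉ J := fun h => ha (Ideal.Quotient.eq_zero_iff_mem.mpr h)
  have hu : IsUnit (Ideal.Quotient.mk JL (algebraMap (MvPolynomial (Fin d) R) L a)) :=
    (hunit a ha').map _
  have : (fun g : L ⧸ JL => Ideal.Quotient.mk J a • g) =
      fun g => Ideal.Quotient.mk JL (algebraMap (MvPolynomial (Fin d) R) L a) * g := by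
    funext g
    rw [Algebra.smul_def]
    rfl
  rw [this]
  exact ⟨fun x y hxy => hu.mul_left_cancel hxy,
    fun y => ⟨hu.unit⁻¹.1 * y, by
      show _ * (_ * y) = y
      rw [← mul_assoc, IsUnit.mul_val_inv, one_mul]⟩⟩

end Q'

section GEN

variable {A C : Type u} [CommRing A] [CommRing C] [Algebra A C] [Algebra.FinitePresentation A C]
  (p : Ideal A) [p.IsPrime] (q : Ideal C) [q.IsPrime] [q.LiesOver p]
  (d : ℕ) (s : Fin d → C)

set_option maxHeartbeats 1000000 in
/-- generic form of the fibre criterion for a polynomial ring over the base -/
theorem flat_mvPolynomial_localization_of_fibre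
    (h1 : Module.Flat A (Localization.AtPrime q))
    (hfib : letI algApL : Algebra (Localization.AtPrime p) (Localization.AtPrime q) :=
        Localization.AtPrime.algebraOfLiesOver p q
      letI algS₁L : Algebra (MvPolynomial (Fin d) (Localization.AtPrime p)) (Localization.AtPrime q) :=
        (MvPolynomial.aeval (R := Localization.AtPrime p)
          (fun i => algebraMap C (Localization.AtPrime q) (s i))).toAlgebra
      Module.Flat (MvPolynomial (Fin d) (Localization.AtPrime p) ⧸
          (maximalIdeal (Localization.AtPrime p)).map (MvPolynomial.C (σ := Fin d)))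
        (Localization.AtPrime q ⧸
          ((maximalIdeal (Localization.AtPrime p)).map (MvPolynomial.C (σ := Fin d))).map
            (algebraMap (MvPolynomial (Fin d) (Localization.AtPrime p)) (Localization.AtPrime q)))) :
    letI : Algebra (MvPolynomial (Fin d) A) C := (MvPolynomial.aeval s).toAlgebra
    Module.Flat (MvPolynomial (Fin d) A) (LocalizedModule q.primeCompl C) := by
  letI algPC : Algebra (MvPolynomial (Fin d) A) C := (MvPolynomial.aeval s).toAlgebra
  haveI : IsScalarTower A (MvPolynomial (Fin d) A) C :=
    IsScalarTower.of_algebraMap_eq (fun a => (MvPolynomial.aeval_C s a).symm)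
  have h1' : Module.Flat A (LocalizedModule q.primeCompl C) := h1
  have h2 : Module.Flat (MvPolynomial (Fin d) A ⧸ p.map (algebraMap A (MvPolynomial (Fin d) A)))
      ((MvPolynomial (Fin d) A ⧸ p.map (algebraMap A (MvPolynomial (Fin d) A))) ⊗[MvPolynomial (Fin d) A]
        LocalizedModule q.primeCompl C) := by
    -- the local rings
    letI algApL : Algebra (Localization.AtPrime p) (Localization.AtPrime q) :=
      Localization.AtPrime.algebraOfLiesOver p q
    -- the polynomial ring over the local ring of the base
    letI algS₁L : Algebra (MvPolynomial (Fin d) (Localization.AtPrime p)) (Localization.AtPrime q) :=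
      (MvPolynomial.aeval (R := Localization.AtPrime p)
        (fun i => algebraMap C (Localization.AtPrime q) (s i))).toAlgebra
    letI algPS₁ : Algebra (MvPolynomial (Fin d) A) (MvPolynomial (Fin d) (Localization.AtPrime p)) :=
      MvPolynomial.algebraMvPolynomial
    haveI : IsLocalization (p.primeCompl.map (MvPolynomial.C (σ := Fin d)))
        (MvPolynomial (Fin d) (Localization.AtPrime p)) :=
      MvPolynomial.isLocalization p.primeCompl (Localization.AtPrime p)
    have hcomp : ∀ x : MvPolynomial (Fin d) A,
        algebraMap (MvPolynomial (Fin d) (Localization.AtPrime p)) (Localization.AtPrime q)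
          (algebraMap (MvPolynomial (Fin d) A) (MvPolynomial (Fin d) (Localization.AtPrime p)) x) =
        algebraMap C (Localization.AtPrime q) (algebraMap (MvPolynomial (Fin d) A) C x) := by
      intro x
      induction x using MvPolynomial.induction_on with
      | C a =>
        show MvPolynomial.aeval _ (MvPolynomial.map _ (MvPolynomial.C a)) =
          algebraMap C _ (MvPolynomial.aeval s (MvPolynomial.C a))
        rw [MvPolynomial.map_C, MvPolynomial.aeval_C, MvPolynomial.aeval_C,
          ← IsScalarTower.algebraMap_apply, ← IsScalarTower.algebraMap_apply]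
      | add x y hx hy => rw [map_add, map_add, hx, hy, map_add, map_add]
      | mul_X x i hx =>
        rw [map_mul, map_mul, hx, map_mul, map_mul]
        congr 1
        show MvPolynomial.aeval _ (MvPolynomial.map _ (MvPolynomial.X i)) =
          algebraMap C _ (MvPolynomial.aeval s (MvPolynomial.X i))
        rw [MvPolynomial.map_X, MvPolynomial.aeval_X, MvPolynomial.aeval_X]
    haveI tow : IsScalarTower (MvPolynomial (Fin d) A) (MvPolynomial (Fin d) (Localization.AtPrime p))
        (LocalizedModule q.primeCompl C) := by
      refine IsScalarTower.of_algebraMap_smul (fun x z => ?_)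
      show algebraMap (MvPolynomial (Fin d) (Localization.AtPrime p)) (Localization.AtPrime q)
          (algebraMap (MvPolynomial (Fin d) A) (MvPolynomial (Fin d) (Localization.AtPrime p)) x) * z = x • z
      rw [hcomp, ← Algebra.smul_def, algebraMap_smul]
    haveI hflatS₁ : Module.Flat
        (MvPolynomial (Fin d) (Localization.AtPrime p) ⧸
          (p.map (algebraMap A (MvPolynomial (Fin d) A))).map
            (algebraMap (MvPolynomial (Fin d) A) (MvPolynomial (Fin d) (Localization.AtPrime p))))
        ((MvPolynomial (Fin d) (Localization.AtPrime p) ⧸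
          (p.map (algebraMap A (MvPolynomial (Fin d) A))).map
            (algebraMap (MvPolynomial (Fin d) A) (MvPolynomial (Fin d) (Localization.AtPrime p))))
          ⊗[MvPolynomial (Fin d) (Localization.AtPrime p)] LocalizedModule q.primeCompl C) := by
      have hcompA : ∀ a : A, algebraMap (MvPolynomial (Fin d) (Localization.AtPrime p)) (Localization.AtPrime q)
          (algebraMap (MvPolynomial (Fin d) A) (MvPolynomial (Fin d) (Localization.AtPrime p))
            (algebraMap A (MvPolynomial (Fin d) A) a)) = algebraMap A (Localization.AtPrime q) a := by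
        intro a
        rw [hcomp, ← IsScalarTower.algebraMap_apply A (MvPolynomial (Fin d) A) C,
          ← IsScalarTower.algebraMap_apply A C (Localization.AtPrime q)]
      have hJeq : (p.map (algebraMap A (MvPolynomial (Fin d) A))).map
            (algebraMap (MvPolynomial (Fin d) A) (MvPolynomial (Fin d) (Localization.AtPrime p))) =
          (maximalIdeal (Localization.AtPrime p)).map (MvPolynomial.C (σ := Fin d)) := by
        rw [Ideal.map_map, ← IsLocalization.AtPrime.map_eq_maximalIdeal p (Localization.AtPrime p),
          Ideal.map_map]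
        congr 1
        refine RingHom.ext fun a => ?_
        show MvPolynomial.map (algebraMap A (Localization.AtPrime p)) (MvPolynomial.C a) = _
        rw [MvPolynomial.map_C]
        rfl
      have hkey : ((maximalIdeal (Localization.AtPrime p)).map (MvPolynomial.C (σ := Fin d))).map
            (algebraMap (MvPolynomial (Fin d) (Localization.AtPrime p)) (Localization.AtPrime q)) =
          p.map (algebraMap A (Localization.AtPrime q)) := by
        rw [← hJeq, Ideal.map_map, Ideal.map_map]
        congr 1
        exact RingHom.ext fun a => hcompA a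
      rw [hJeq]
      haveI := hfib
      exact Module.Flat.of_linearEquiv (Algebra.TensorProduct.quotIdealMapEquivQuotTensor
        (Localization.AtPrime q) ((maximalIdeal (Localization.AtPrime p)).map
          (MvPolynomial.C (σ := Fin d)))).symm.toLinearEquiv
    exact qflat_of_localization (S := MvPolynomial (Fin d) (Localization.AtPrime p))
      (p.primeCompl.map (MvPolynomial.C (σ := Fin d))) (p.map (algebraMap A (MvPolynomial (Fin d) A)))
      (LocalizedModule q.primeCompl C)
  exact critere_ft A (MvPolynomial (Fin d) A) C C p q h1' h2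

end GEN

end Groth.Agent.Lead.CMQF

namespace Groth.Agent.Lead.CMQF

open Groth.Agent.Lead.CritFib

section Z1

variable {A C : Type u} [CommRing A] [CommRing C] [Algebra A C] [Algebra.FinitePresentation A C]
  (p : Ideal A) [p.IsPrime] (q : Ideal C) [q.IsPrime] [q.LiesOver p]
  (t : ℕ) (h : Fin t → C)

set_option maxHeartbeats 1000000 in
/-- **Step Z1**: adjoining algebraically independent (modulo `q`) elements keeps flatness. -/
theorem flat_mvPolynomial_of_algebraicIndependent
    (h1 : Module.Flat A (Localization.AtPrime q))
    (hQ : ∀ F : MvPolynomial (Fin t) A, MvPolynomial.aeval h F ∈ q →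
      F ∈ p.map (MvPolynomial.C (σ := Fin t))) :
    letI : Algebra (MvPolynomial (Fin t) A) C := (MvPolynomial.aeval h).toAlgebra
    Module.Flat (MvPolynomial (Fin t) A) (LocalizedModule q.primeCompl C) := by
  refine flat_mvPolynomial_localization_of_fibre p q t h h1 ?_
  letI algPC : Algebra (MvPolynomial (Fin t) A) C := (MvPolynomial.aeval h).toAlgebra
  letI algApL : Algebra (Localization.AtPrime p) (Localization.AtPrime q) :=
    Localization.AtPrime.algebraOfLiesOver p q
  letI algS₁L : Algebra (MvPolynomial (Fin t) (Localization.AtPrime p)) (Localization.AtPrime q) :=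
    (MvPolynomial.aeval (R := Localization.AtPrime p)
      (fun i => algebraMap C (Localization.AtPrime q) (h i))).toAlgebra
  letI algPS₁ : Algebra (MvPolynomial (Fin t) A) (MvPolynomial (Fin t) (Localization.AtPrime p)) :=
    MvPolynomial.algebraMvPolynomial
  haveI : IsLocalization (p.primeCompl.map (MvPolynomial.C (σ := Fin t)))
      (MvPolynomial (Fin t) (Localization.AtPrime p)) :=
    MvPolynomial.isLocalization p.primeCompl (Localization.AtPrime p)
  have hcomp : ∀ x : MvPolynomial (Fin t) A,
      algebraMap (MvPolynomial (Fin t) (Localization.AtPrime p)) (Localization.AtPrime q)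
        (algebraMap (MvPolynomial (Fin t) A) (MvPolynomial (Fin t) (Localization.AtPrime p)) x) =
      algebraMap C (Localization.AtPrime q) (algebraMap (MvPolynomial (Fin t) A) C x) := by
    intro x
    induction x using MvPolynomial.induction_on with
    | C a =>
      show MvPolynomial.aeval _ (MvPolynomial.map _ (MvPolynomial.C a)) =
        algebraMap C _ (MvPolynomial.aeval h (MvPolynomial.C a))
      rw [MvPolynomial.map_C, MvPolynomial.aeval_C, MvPolynomial.aeval_C,
        ← IsScalarTower.algebraMap_apply, ← IsScalarTower.algebraMap_apply]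
    | add x y hx hy => rw [map_add, map_add, hx, hy, map_add, map_add]
    | mul_X x i hx =>
      rw [map_mul, map_mul, hx, map_mul, map_mul]
      congr 1
      show MvPolynomial.aeval _ (MvPolynomial.map _ (MvPolynomial.X i)) =
        algebraMap C _ (MvPolynomial.aeval h (MvPolynomial.X i))
      rw [MvPolynomial.map_X, MvPolynomial.aeval_X, MvPolynomial.aeval_X]
  have hJeq : (p.map (MvPolynomial.C (σ := Fin t))).map
        (algebraMap (MvPolynomial (Fin t) A) (MvPolynomial (Fin t) (Localization.AtPrime p))) =
      (maximalIdeal (Localization.AtPrime p)).map (MvPolynomial.C (σ := Fin t)) := by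
    rw [Ideal.map_map, ← IsLocalization.AtPrime.map_eq_maximalIdeal p (Localization.AtPrime p),
      Ideal.map_map]
    congr 1
    refine RingHom.ext fun a => ?_
    show MvPolynomial.map (algebraMap A (Localization.AtPrime p)) (MvPolynomial.C a) = _
    rw [MvPolynomial.map_C]
    rfl
  refine flat_quotient_mvPolynomial_of_units (maximalIdeal (Localization.AtPrime p)) t
    (Localization.AtPrime q) (fun a ha => ?_)
  by_contra hnu
  apply ha
  obtain ⟨⟨F, w⟩, hFw⟩ := IsLocalization.surj (p.primeCompl.map (MvPolynomial.C (σ := Fin t))) a
  have hwu : IsUnit (algebraMap (MvPolynomial (Fin t) A)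
      (MvPolynomial (Fin t) (Localization.AtPrime p)) w) :=
    IsLocalization.map_units _ w
  have hmemL : algebraMap (MvPolynomial (Fin t) (Localization.AtPrime p)) (Localization.AtPrime q)
      (algebraMap (MvPolynomial (Fin t) A) (MvPolynomial (Fin t) (Localization.AtPrime p)) F) ∈
      maximalIdeal (Localization.AtPrime q) := by
    rw [← hFw, map_mul]
    exact Ideal.mul_mem_right _ _ ((mem_maximalIdeal _).mpr hnu)
  rw [hcomp, IsLocalization.AtPrime.to_map_mem_maximal_iff (Localization.AtPrime q) q] at hmemL
  have hF : F ∈ p.map (MvPolynomial.C (σ := Fin t)) := hQ F hmemL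
  have hFJ : algebraMap (MvPolynomial (Fin t) A) (MvPolynomial (Fin t) (Localization.AtPrime p)) F ∈
      (maximalIdeal (Localization.AtPrime p)).map (MvPolynomial.C (σ := Fin t)) := by
    rw [← hJeq]
    exact Ideal.mem_map_of_mem _ hF
  rw [← hFw] at hFJ
  exact (Ideal.mul_unit_mem_iff_mem _ hwu).mp hFJ

end Z1

end Groth.Agent.Lead.CMQF
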