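import Mathlib
import Groth.Agent.Lib.Lead.CMQF5

set_option autoImplicit false
set_option backward.isDefEq.respectTransparency.types false
set_option synthInstance.maxHeartbeats 400000
set_option linter.style.haveILetI false
universe u v

open TensorProduct RingTheory.Sequence IsLocalRing

namespace Groth.Agent.Lead.CMQF

section T

variable {A C : Type u} [CommRing A] [CommRing C] [Algebra A C]
  (p : Ideal A) [p.IsPrime] (q : Ideal C) [q.IsPrime] [q.LiesOver p]

/-- **Lemma T**: a finite family of elements of `C` whose residues form a transcendence basis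
of `C ⧸ q` over `A ⧸ p`. -/
theorem exists_transcendence_lift [Algebra.FiniteType A C] :
    ∃ (t : ℕ) (h : Fin t → C),
      AlgebraicIndependent (A ⧸ p) (fun j => Ideal.Quotient.mk q (h j)) ∧
      Algebra.IsAlgebraic (Algebra.adjoin (A ⧸ p)
        (Set.range fun j => Ideal.Quotient.mk q (h j))) (C ⧸ q) := by
  classical
  obtain ⟨s, hs⟩ := (Algebra.FiniteType.out : (⊤ : Subalgebra A C).FG)
  set sbar : Set (C ⧸ q) := (Ideal.Quotient.mk q) '' (s : Set C) with hsbar
  have htop : Algebra.adjoin (A ⧸ p) sbar = ⊤ := by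
    rw [eq_top_iff]
    rintro x -
    obtain ⟨c, rfl⟩ := Ideal.Quotient.mk_surjective x
    have hc : c ∈ Algebra.adjoin A (s : Set C) := by rw [hs]; trivial
    induction hc using Algebra.adjoin_induction with
    | mem c hc => exact Algebra.subset_adjoin ⟨c, hc, rfl⟩
    | algebraMap a =>
      rw [← Ideal.Quotient.algebraMap_mk_of_liesOver q p a]
      exact Subalgebra.algebraMap_mem _ _
    | add c₁ c₂ _ _ h₁ h₂ => rw [map_add]; exact Subalgebra.add_mem _ h₁ h₂
    | mul c₁ c₂ _ _ h₁ h₂ => rw [map_mul]; exact Subalgebra.mul_mem _ h₁ h₂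
  haveI : Algebra.IsAlgebraic (Algebra.adjoin (A ⧸ p) sbar) (C ⧸ q) := by
    refine ⟨fun x => ?_⟩
    have hx : x ∈ Algebra.adjoin (A ⧸ p) sbar := by rw [htop]; trivial
    exact isAlgebraic_algebraMap (⟨x, hx⟩ : Algebra.adjoin (A ⧸ p) sbar)
  obtain ⟨u, hus, hu⟩ := exists_isTranscendenceBasis_subset (R := A ⧸ p) sbar
  have hfin : u.Finite := (s.finite_toSet.image _).subset hus
  haveI : Fintype u := hfin.fintype
  let e : Fin (Fintype.card u) ≃ u := (Fintype.equivFin u).symm
  have hlift : ∀ j, ∃ c : C, Ideal.Quotient.mk q c = (e j).1 := fun j =>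
    Ideal.Quotient.mk_surjective _
  choose h hh using hlift
  have hfun : (fun j => Ideal.Quotient.mk q (h j)) = ((↑) : u → C ⧸ q) ∘ e := funext hh
  refine ⟨Fintype.card u, h, ?_, ?_⟩
  · rw [hfun]
    exact hu.1.comp e e.injective
  · have hrange : (Set.range fun j => Ideal.Quotient.mk q (h j)) =
        Set.range ((↑) : u → C ⧸ q) := by
      rw [hfun, Set.range_comp, e.range_eq_univ, Set.image_univ]
    rw [hrange]
    haveI : Nontrivial (A ⧸ p) := Ideal.Quotient.nontrivial_iff.mpr (Ideal.IsPrime.ne_top inferInstance)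
    exact hu.isAlgebraic

theorem aeval_map_mk (t : ℕ) (h : Fin t → C) (G : MvPolynomial (Fin t) A) :
    MvPolynomial.aeval (fun j => Ideal.Quotient.mk q (h j))
      (MvPolynomial.map (Ideal.Quotient.mk p) G) = Ideal.Quotient.mk q (MvPolynomial.aeval h G) := by
  induction G using MvPolynomial.induction_on with
  | C a =>
    rw [MvPolynomial.map_C, MvPolynomial.aeval_C, MvPolynomial.aeval_C]
    rfl
  | add x y hx hy => simp only [map_add, hx, hy]
  | mul_X x i hx => simp only [map_mul, hx, MvPolynomial.map_X, MvPolynomial.aeval_X]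

/-- algebraic independence of the residues translates into the description of the contraction -/
theorem mem_map_C_of_aeval_mem (t : ℕ) (h : Fin t → C)
    (hind : AlgebraicIndependent (A ⧸ p) (fun j => Ideal.Quotient.mk q (h j)))
    (F : MvPolynomial (Fin t) A) (hF : MvPolynomial.aeval h F ∈ q) :
    F ∈ p.map (MvPolynomial.C (σ := Fin t)) := by
  have h0 : MvPolynomial.aeval (fun j => Ideal.Quotient.mk q (h j))
      (MvPolynomial.map (Ideal.Quotient.mk p) F) = 0 := by
    have : ∀ G : MvPolynomial (Fin t) A, MvPolynomial.aeval (fun j => Ideal.Quotient.mk q (h j))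
        (MvPolynomial.map (Ideal.Quotient.mk p) G) = Ideal.Quotient.mk q (MvPolynomial.aeval h G) := by
      intro G
      induction G using MvPolynomial.induction_on with
      | C a =>
        rw [MvPolynomial.map_C, MvPolynomial.aeval_C, MvPolynomial.aeval_C]
        rfl
      | add x y hx hy => simp only [map_add, hx, hy]
      | mul_X x i hx => simp only [map_mul, hx, MvPolynomial.map_X, MvPolynomial.aeval_X]
    rw [this]
    exact Ideal.Quotient.eq_zero_iff_mem.mpr hF
  have h1 : MvPolynomial.map (Ideal.Quotient.mk p) F = 0 := by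
    have hinj := hind
    rw [AlgebraicIndependent] at hinj
    exact hinj (by rw [h0, map_zero])
  have h2 : F ∈ RingHom.ker (MvPolynomial.map (σ := Fin t) (Ideal.Quotient.mk p)) := h1
  rw [MvPolynomial.ker_map, Ideal.mk_ker] at h2
  exact h2

/-- **closedness in the fibre**: a prime above `q` meeting the subring generated by `h` in the
same way as `q` equals `q`, if `C ⧸ q` is algebraic over that subring -/
theorem eq_of_le_of_isAlgebraic (t : ℕ) (h : Fin t → C)
    (halg : Algebra.IsAlgebraic (Algebra.adjoin (A ⧸ p)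
      (Set.range fun j => Ideal.Quotient.mk q (h j))) (C ⧸ q))
    (q' : Ideal C) (hle : q ≤ q')
    (hq' : ∀ G : MvPolynomial (Fin t) A, MvPolynomial.aeval h G ∈ q' → MvPolynomial.aeval h G ∈ q) :
    q' = q := by
  by_contra hne
  have hnle : ¬ q' ≤ q := fun h' => hne (le_antisymm h' hle)
  obtain ⟨r, hr', hr⟩ := Set.not_subset.mp hnle
  set S' := Algebra.adjoin (A ⧸ p) (Set.range fun j => Ideal.Quotient.mk q (h j)) with hS'
  have hx0 : Ideal.Quotient.mk q r ≠ 0 := fun h0 => hr (Ideal.Quotient.eq_zero_iff_mem.mp h0)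
  have hxI : Ideal.Quotient.mk q r ∈ q'.map (Ideal.Quotient.mk q) := Ideal.mem_map_of_mem _ hr'
  have hxalg : IsAlgebraic S' (Ideal.Quotient.mk q r) := halg.isAlgebraic _
  have hnb := Ideal.comap_ne_bot_of_algebraic_mem hx0 hxI hxalg
  obtain ⟨y, hyI, hy0⟩ := Submodule.exists_mem_ne_zero_of_ne_bot hnb
  rw [Ideal.mem_comap] at hyI
  have hy1 : (y : C ⧸ q) ∈ (MvPolynomial.aeval (R := A ⧸ p)
      (fun j => Ideal.Quotient.mk q (h j))).range := by
    rw [← Algebra.adjoin_range_eq_range_aeval]
    exact y.2
  obtain ⟨Gbar, hGbar⟩ := hy1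
  obtain ⟨G, rfl⟩ := MvPolynomial.map_surjective (Ideal.Quotient.mk p) Ideal.Quotient.mk_surjective Gbar
  have hGbar' : Ideal.Quotient.mk q (MvPolynomial.aeval h G) = (y : C ⧸ q) := by
    rw [← aeval_map_mk p q t h G]
    exact hGbar
  have hy2 : Ideal.Quotient.mk q (MvPolynomial.aeval h G) ∈ q'.map (Ideal.Quotient.mk q) := by
    rw [hGbar']
    exact hyI
  obtain ⟨z, hz, hzeq⟩ := (Ideal.mem_map_iff_of_surjective _ Ideal.Quotient.mk_surjective).mp hy2
  have hsub : MvPolynomial.aeval h G - z ∈ q := by
    rw [← Ideal.Quotient.eq_zero_iff_mem, map_sub, hzeq, sub_self]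
  have hG' : MvPolynomial.aeval h G ∈ q' := by
    have := Ideal.add_mem _ (hle hsub) hz
    rwa [sub_add_cancel] at this
  have hGq := hq' G hG'
  apply hy0
  apply Subtype.ext
  rw [← hGbar']
  exact Ideal.Quotient.eq_zero_iff_mem.mpr hGq

end T

section D

/-- **generization in the fibre**: if the fibre local ring has dimension `≤ 0`, then no prime of
the fibre is strictly contained in `q` -/
theorem eq_of_le_of_dim_zero {P C : Type u} [CommRing P] [CommRing C] [Algebra P C]
    (q : Ideal C) [q.IsPrime]
    (hdim : ringKrullDim (Localization.AtPrime q ⧸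
      (q.under P).map (algebraMap P (Localization.AtPrime q))) ≤ 0)
    (q' : Ideal C) [q'.IsPrime] (hle : q' ≤ q) (hu : q'.under P = q.under P) : q' = q := by
  set L := Localization.AtPrime q
  set J := (q.under P).map (algebraMap P L) with hJ
  haveI : Ring.KrullDimLE 0 (L ⧸ J) := Ring.krullDimLE_iff.mpr (by simpa using hdim)
  have hdisj : Disjoint (q.primeCompl : Set C) (q' : Set C) := by
    rw [Set.disjoint_left]
    intro c hc hc'
    exact hc (hle hc')
  haveI hq''prime : (q'.map (algebraMap C L)).IsPrime :=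
    IsLocalization.isPrime_of_isPrime_disjoint q.primeCompl L q' inferInstance hdisj
  have hJle : J ≤ q'.map (algebraMap C L) := by
    rw [hJ, IsScalarTower.algebraMap_eq P C L, ← Ideal.map_map, ← hu]
    exact Ideal.map_mono Ideal.map_comap_le
  have hker : RingHom.ker (Ideal.Quotient.mk J) ≤ q'.map (algebraMap C L) := by
    rw [Ideal.mk_ker]; exact hJle
  haveI : ((q'.map (algebraMap C L)).map (Ideal.Quotient.mk J)).IsPrime :=
    Ideal.map_isPrime_of_surjective Ideal.Quotient.mk_surjective hker
  have hmax : ((q'.map (algebraMap C L)).map (Ideal.Quotient.mk J)).IsMaximal :=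
    Ideal.IsPrime.isMaximal' inferInstance
  have hmax' : (q'.map (algebraMap C L)).IsMaximal := by
    have := Ideal.comap_isMaximal_of_surjective (Ideal.Quotient.mk J) Ideal.Quotient.mk_surjective
      (K := (q'.map (algebraMap C L)).map (Ideal.Quotient.mk J))
    rwa [Ideal.comap_map_of_surjective _ Ideal.Quotient.mk_surjective, ← RingHom.ker_eq_comap_bot,
      sup_eq_left.mpr hker] at this
  have heq : q'.map (algebraMap C L) = maximalIdeal L := IsLocalRing.eq_maximalIdeal hmax'
  have h1 : (q'.map (algebraMap C L)).comap (algebraMap C L) = q' :=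
    IsLocalization.comap_map_of_isPrime_disjoint q.primeCompl L inferInstance hdisj
  rw [← h1, heq]
  exact IsLocalization.AtPrime.comap_maximalIdeal L q

/-- a prime which is isolated (for the specialization order) among the primes of its fibre is
a point of quasi-finiteness -/
theorem quasiFiniteAt_of_isolated {P C : Type u} [CommRing P] [CommRing C] [Algebra P C]
    [Algebra.FiniteType P C] (q : Ideal C) [q.IsPrime]
    (h : ∀ q' : Ideal C, q'.IsPrime → q'.under P = q.under P → (q ≤ q' ∨ q' ≤ q) → q' = q) :
    Algebra.QuasiFiniteAt P q := by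
  let qs : PrimeSpectrum C := ⟨q, inferInstance⟩
  refine Algebra.QuasiFiniteAt.of_isOpen_singleton_fiber qs ?_
  let Q := qs.comap (algebraMap P C)
  let e := PrimeSpectrum.preimageHomeomorphFiber P C Q
  rw [← e.isOpen_image, Set.image_singleton]
  haveI : IsNoetherianRing (Q.asIdeal.Fiber C) :=
    Algebra.FiniteType.isNoetherianRing Q.asIdeal.ResidueField _
  haveI : IsJacobsonRing (Q.asIdeal.Fiber C) :=
    isJacobsonRing_of_finiteType (A := Q.asIdeal.ResidueField)
  have key : ∀ z : (PrimeSpectrum.comap (algebraMap P C) ⁻¹' {Q}),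
      (z ⤳ ⟨qs, rfl⟩ ∨ (⟨qs, rfl⟩ : (PrimeSpectrum.comap (algebraMap P C) ⁻¹' {Q})) ⤳ z) →
      z = ⟨qs, rfl⟩ := by
    intro z hz
    apply Subtype.ext
    apply PrimeSpectrum.ext
    have hz2 : z.1.asIdeal.under P = q.under P := congrArg PrimeSpectrum.asIdeal z.2
    refine h z.1.asIdeal z.1.isPrime hz2 ?_
    rcases hz with hz | hz
    · right
      rw [subtype_specializes_iff, ← PrimeSpectrum.le_iff_specializes] at hz
      exact hz
    · left
      rw [subtype_specializes_iff, ← PrimeSpectrum.le_iff_specializes] at hz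
      exact hz
  refine ((PrimeSpectrum.isOpen_singleton_tfae_of_isNoetherian_of_isJacobsonRing
    (e ⟨qs, rfl⟩)).out 2 0 rfl rfl).mp ?_
  constructor
  · rw [← Set.image_singleton, e.isClosed_image, ← closure_subset_iff_isClosed]
    intro z hz
    rw [← specializes_iff_mem_closure] at hz
    exact key z (Or.inr hz)
  · rw [← Set.image_singleton]
    refine e.isOpenEmbedding.generalizingMap.stableUnderGeneralization_image ?_
    intro z z' hzz' hz
    rw [Set.mem_singleton_iff] at hz
    subst hz
    exact key z' (Or.inl hzz')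


end D

section QFM

variable {A P C : Type u} [CommRing A] [CommRing P] [CommRing C] [Algebra A P] [Algebra P C]
  [Algebra A C] [IsScalarTower A P C] [Algebra.FiniteType P C]
  (p : Ideal A) [p.IsPrime] (q : Ideal C) [q.IsPrime] [q.LiesOver p]

set_option maxHeartbeats 1000000 in
theorem quasiFiniteAt_main
    (t : ℕ) (h : Fin t → C) (g : Fin t → P) (hg : ∀ j, algebraMap P C (g j) = h j)
    (halg : Algebra.IsAlgebraic (Algebra.adjoin (A ⧸ p)
      (Set.range fun j => Ideal.Quotient.mk q (h j))) (C ⧸ q))
    (d : ℕ) (σ : Fin d → P) (hσ : ∀ i, algebraMap P C (σ i) ∈ q)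
    (hdim : ringKrullDim ((Localization.AtPrime q ⧸ p.map (algebraMap A (Localization.AtPrime q))) ⧸
      Ideal.ofList (List.ofFn fun i => Ideal.Quotient.mk (p.map (algebraMap A (Localization.AtPrime q)))
        (algebraMap C (Localization.AtPrime q) (algebraMap P C (σ i))))) ≤ 0) :
    Algebra.QuasiFiniteAt P q := by
  refine quasiFiniteAt_of_isolated q (fun q' hq'prime hu hor => ?_)
  rcases hor with hle | hle
  · refine eq_of_le_of_isAlgebraic p q t h halg q' hle (fun G hG => ?_)
    have hGeq : MvPolynomial.aeval h G = algebraMap P C (MvPolynomial.aeval g G) := by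
      rw [← MvPolynomial.aeval_algebraMap_apply]
      have : h = (algebraMap P C) ∘ g := funext fun j => (hg j).symm
      rw [this]
    rw [hGeq] at hG ⊢
    have h1 : MvPolynomial.aeval g G ∈ q'.under P := hG
    rw [hu] at h1
    exact h1
  · refine eq_of_le_of_dim_zero q ?_ q' hle hu
    set L := Localization.AtPrime q
    set pL := p.map (algebraMap A L) with hpL
    set QL := (q.under P).map (algebraMap P L) with hQL
    have hple : pL ≤ QL := by
      rw [hpL, Ideal.map_le_iff_le_comap]
      intro a ha
      rw [Ideal.mem_comap, IsScalarTower.algebraMap_apply A P L]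
      refine Ideal.mem_map_of_mem _ ?_
      show algebraMap P C (algebraMap A P a) ∈ q
      rw [← IsScalarTower.algebraMap_apply A P C]
      have : a ∈ q.under A := by rw [← Ideal.over_def q p]; exact ha
      exact this
    let φ₁ : L ⧸ pL →+* L ⧸ QL := Ideal.Quotient.factor hple
    have hφ₁ : Function.Surjective φ₁ := Ideal.Quotient.factor_surjective hple
    have hker : Ideal.ofList (List.ofFn fun i => Ideal.Quotient.mk pL
        (algebraMap C L (algebraMap P C (σ i)))) ≤ RingHom.ker φ₁ := by
      unfold Ideal.ofList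
      rw [Ideal.span_le]
      intro x hx
      obtain ⟨i, rfl⟩ := (List.mem_ofFn' _ _).mp hx
      rw [SetLike.mem_coe, RingHom.mem_ker]
      show Ideal.Quotient.mk QL (algebraMap C L (algebraMap P C (σ i))) = 0
      rw [Ideal.Quotient.eq_zero_iff_mem, ← IsScalarTower.algebraMap_apply P C L]
      exact Ideal.mem_map_of_mem _ (hσ i)
    let φ₂ := Ideal.Quotient.lift _ φ₁ hker
    have hφ₂ : Function.Surjective φ₂ := Ideal.Quotient.lift_surjective_of_surjective _ hker hφ₁
    exact (ringKrullDim_le_of_surjective φ₂ hφ₂).trans hdim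

end QFM

end Groth.Agent.Lead.CMQF
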