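import Mathlib
import Groth.Agent.Lib.Lead.CMQF6

set_option autoImplicit false
set_option backward.isDefEq.respectTransparency.types false
set_option synthInstance.maxHeartbeats 400000
set_option linter.style.haveILetI false
universe u v

open TensorProduct RingTheory.Sequence IsLocalRing

namespace Groth.Agent.Lead.CMQF

section Transfer

variable {R₁ R₂ C : Type u} [CommRing R₁] [CommRing R₂] [CommRing C] [Algebra R₁ C]
  (e : R₂ ≃+* R₁) (q : Ideal C) [q.IsPrime]

theorem transfer_flat_quasiFinite :
    letI := ((algebraMap R₁ C).comp e.toRingHom).toAlgebra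
    (Module.Flat R₁ (Localization.AtPrime q) → Module.Flat R₂ (Localization.AtPrime q)) ∧
    (Algebra.QuasiFiniteAt R₁ q → Algebra.QuasiFiniteAt R₂ q) := by
  letI algR₂C : Algebra R₂ C := ((algebraMap R₁ C).comp e.toRingHom).toAlgebra
  letI algR₁R₂ : Algebra R₁ R₂ := e.symm.toRingHom.toAlgebra
  have hcomp : ∀ r : R₁, algebraMap R₂ (Localization.AtPrime q) (e.symm r) =
      algebraMap R₁ (Localization.AtPrime q) r := by
    intro r
    rw [IsScalarTower.algebraMap_apply R₂ C (Localization.AtPrime q),
      IsScalarTower.algebraMap_apply R₁ C (Localization.AtPrime q)]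
    congr 1
    show algebraMap R₁ C (e (e.symm r)) = _
    rw [e.apply_symm_apply]
  haveI tow : IsScalarTower R₁ R₂ (Localization.AtPrime q) :=
    IsScalarTower.of_algebraMap_eq (fun r => (hcomp r).symm)
  constructor
  · intro hfl
    haveI := hfl
    exact flat_of_ringEquiv e.symm (Localization.AtPrime q) (fun r g => by
      rw [Algebra.smul_def, Algebra.smul_def, hcomp])
  · intro hqf
    haveI : Algebra.QuasiFinite R₁ (Localization.AtPrime q) := hqf
    exact Algebra.QuasiFinite.of_restrictScalars (R := R₁) (S := R₂) (T := Localization.AtPrime q)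

end Transfer

end Groth.Agent.Lead.CMQF

namespace Groth.Agent.Lead.CMQF

section ALG

variable {A C : Type u} [CommRing A] [CommRing C] [Algebra A C] [Algebra.FinitePresentation A C]
  (p : Ideal A) [p.IsPrime] (q : Ideal C) [q.IsPrime] [q.LiesOver p]

set_option maxHeartbeats 2000000 in
/-- **the algebra form of (⇒)**: flat + Cohen–Macaulay fibre at `q` gives a quasi-finite flat map to
an affine space over the base. -/
theorem exists_flat_quasiFinite
    (h1 : Module.Flat A (Localization.AtPrime q))
    (hN : IsNoetherianRing (Localization.AtPrime q ⧸ p.map (algebraMap A (Localization.AtPrime q))))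
    (d : ℕ) (s : Fin d → C) (hmem : ∀ i, s i ∈ q)
    (hreg : IsWeaklyRegular (Localization.AtPrime q ⧸ p.map (algebraMap A (Localization.AtPrime q)))
      (List.ofFn fun i => Ideal.Quotient.mk (p.map (algebraMap A (Localization.AtPrime q)))
        (algebraMap C (Localization.AtPrime q) (s i))))
    (hdim : ringKrullDim ((Localization.AtPrime q ⧸ p.map (algebraMap A (Localization.AtPrime q))) ⧸
      Ideal.ofList (List.ofFn fun i => Ideal.Quotient.mk (p.map (algebraMap A (Localization.AtPrime q)))
        (algebraMap C (Localization.AtPrime q) (s i)))) ≤ 0) :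
    ∃ (n : ℕ) (ψ : MvPolynomial (ULift.{u} (Fin n)) A →ₐ[A] C),
      letI := ψ.toRingHom.toAlgebra
      Module.Flat (MvPolynomial (ULift.{u} (Fin n)) A) (Localization.AtPrime q) ∧
      Algebra.QuasiFiniteAt (MvPolynomial (ULift.{u} (Fin n)) A) q := by
  obtain ⟨t, h, hind, halg⟩ := exists_transcendence_lift p q
  have hQ := mem_map_C_of_aeval_mem p q t h hind
  letI algA₁C : Algebra (MvPolynomial (Fin t) A) C := (MvPolynomial.aeval h).toAlgebra
  haveI towA : IsScalarTower A (MvPolynomial (Fin t) A) C :=
    IsScalarTower.of_algebraMap_eq (fun a => (MvPolynomial.aeval_C h a).symm)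
  have hfl1 : Module.Flat (MvPolynomial (Fin t) A) (Localization.AtPrime q) :=
    flat_mvPolynomial_of_algebraicIndependent p q t h h1 hQ
  have hQ₁eq : p.map (MvPolynomial.C (σ := Fin t)) = q.under (MvPolynomial (Fin t) A) := by
    apply le_antisymm
    · rw [Ideal.map_le_iff_le_comap]
      intro a ha
      show algebraMap (MvPolynomial (Fin t) A) C (MvPolynomial.C a) ∈ q
      have : a ∈ q.under A := by rw [← Ideal.over_def q p]; exact ha
      have h2 : algebraMap (MvPolynomial (Fin t) A) C (MvPolynomial.C a) = algebraMap A C a :=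
        MvPolynomial.aeval_C h a
      rw [h2]
      exact this
    · intro F hF
      exact hQ F hF
  haveI hQ₁prime : (p.map (MvPolynomial.C (σ := Fin t))).IsPrime := by
    rw [hQ₁eq]; infer_instance
  haveI hQ₁over : q.LiesOver (p.map (MvPolynomial.C (σ := Fin t))) := ⟨hQ₁eq⟩
  haveI : Algebra.FinitePresentation (MvPolynomial (Fin t) A) C :=
    Algebra.FinitePresentation.of_restrict_scalars_finitePresentation A (MvPolynomial (Fin t) A) C
  have hideal : (p.map (MvPolynomial.C (σ := Fin t))).map
      (algebraMap (MvPolynomial (Fin t) A) (Localization.AtPrime q)) =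
      p.map (algebraMap A (Localization.AtPrime q)) := by
    rw [Ideal.map_map]
    congr 1
    refine RingHom.ext fun a => ?_
    show algebraMap (MvPolynomial (Fin t) A) (Localization.AtPrime q) (MvPolynomial.C a) = _
    rw [IsScalarTower.algebraMap_apply (MvPolynomial (Fin t) A) C (Localization.AtPrime q),
      IsScalarTower.algebraMap_apply A C (Localization.AtPrime q)]
    congr 1
    exact MvPolynomial.aeval_C h a
  have hdim0 := hdim
  rw [← hideal] at hN hreg
  have hfl2 := flat_mvPolynomial_localization (A := MvPolynomial (Fin t) A)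
    (p.map (MvPolynomial.C (σ := Fin t))) q d s hfl1 hN hmem hreg
  letI algP₂C : Algebra (MvPolynomial (Fin d) (MvPolynomial (Fin t) A)) C :=
    (MvPolynomial.aeval s).toAlgebra
  haveI towP₂ : IsScalarTower A (MvPolynomial (Fin d) (MvPolynomial (Fin t) A)) C := by
    refine IsScalarTower.of_algebraMap_eq (fun a => ?_)
    rw [IsScalarTower.algebraMap_apply A (MvPolynomial (Fin t) A)
      (MvPolynomial (Fin d) (MvPolynomial (Fin t) A))]
    show _ = MvPolynomial.aeval s (MvPolynomial.C (algebraMap A (MvPolynomial (Fin t) A) a))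
    rw [MvPolynomial.aeval_C, ← IsScalarTower.algebraMap_apply]
  haveI : Algebra.FiniteType (MvPolynomial (Fin d) (MvPolynomial (Fin t) A)) C :=
    Algebra.FiniteType.of_restrictScalars_finiteType A _ C
  have hqf : Algebra.QuasiFiniteAt (MvPolynomial (Fin d) (MvPolynomial (Fin t) A)) q := by
    refine quasiFiniteAt_main (A := A) (P := MvPolynomial (Fin d) (MvPolynomial (Fin t) A)) p q t h
      (fun j => MvPolynomial.C (MvPolynomial.X j)) (fun j => ?_) halg d
      (fun i => MvPolynomial.X i) (fun i => ?_) ?_
    · show MvPolynomial.aeval s (MvPolynomial.C (MvPolynomial.X j)) = h j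
      rw [MvPolynomial.aeval_C]
      exact MvPolynomial.aeval_X h j
    · show MvPolynomial.aeval s (MvPolynomial.X i) ∈ q
      rw [MvPolynomial.aeval_X]
      exact hmem i
    · have hfun : (fun i => Ideal.Quotient.mk (p.map (algebraMap A (Localization.AtPrime q)))
          (algebraMap C (Localization.AtPrime q)
            (algebraMap (MvPolynomial (Fin d) (MvPolynomial (Fin t) A)) C (MvPolynomial.X i)))) =
          fun i => Ideal.Quotient.mk (p.map (algebraMap A (Localization.AtPrime q)))
            (algebraMap C (Localization.AtPrime q) (s i)) := by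
        funext i
        congr 2
        exact MvPolynomial.aeval_X s i
      rw [hfun]
      exact hdim0
  let e₁ : ULift.{u} (Fin (d + t)) ≃ Fin d ⊕ Fin t := Equiv.ulift.trans finSumFinEquiv.symm
  let ε : MvPolynomial (ULift.{u} (Fin (d + t))) A ≃ₐ[A]
      MvPolynomial (Fin d) (MvPolynomial (Fin t) A) :=
    (MvPolynomial.renameEquiv A e₁).trans (MvPolynomial.sumAlgEquiv A (Fin d) (Fin t))
  let ψ : MvPolynomial (ULift.{u} (Fin (d + t))) A →ₐ[A] C :=
    (IsScalarTower.toAlgHom A (MvPolynomial (Fin d) (MvPolynomial (Fin t) A)) C).comp ε.toAlgHom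
  have htr := transfer_flat_quasiFinite (R₁ := MvPolynomial (Fin d) (MvPolynomial (Fin t) A))
    ε.toRingEquiv q
  exact ⟨d + t, ψ, htr.1 hfl2, htr.2 hqf⟩

end ALG

end Groth.Agent.Lead.CMQF
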