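import Mathlib
import Groth.Agent.Lib.Lead.CMQF7
import Groth.Agent.Lib.Helper6.EtLoc.SmoothFiber

set_option autoImplicit false
set_option backward.isDefEq.respectTransparency.types false
set_option synthInstance.maxHeartbeats 400000
set_option linter.style.haveILetI false
universe u v

open AlgebraicGeometry CategoryTheory CategoryTheory.Limits TopologicalSpace IsLocalRing

namespace Groth.Agent.Lead.CMQF

section SpecMap

set_option backward.isDefEq.respectTransparency false in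
theorem flat_stalkMap_SpecMap {R S : CommRingCat.{u}} (φ : R ⟶ S) (x : Spec S)
    (h : letI := φ.hom.toAlgebra
      Module.Flat R (Localization.AtPrime x.asIdeal)) :
    ((Spec.map φ).stalkMap x).hom.Flat := by
  algebraize [φ.hom]
  let _ := Localization.AtPrime.algebraOfLiesOver (x.asIdeal.under R) x.asIdeal
  have h2 : Module.Flat (Localization.AtPrime (x.asIdeal.under R)) (Localization.AtPrime x.asIdeal) :=
    (Module.flat_iff_of_isLocalization (Localization.AtPrime (x.asIdeal.under R))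
      (x.asIdeal.under R).primeCompl (Localization.AtPrime x.asIdeal)).mpr h
  rw [← RingHom.flat_algebraMap_iff] at h2
  exact (RingHom.Flat.respectsIso.arrow_mk_iso_iff (Scheme.arrowStalkMapSpecIso ..)).mpr h2

set_option backward.isDefEq.respectTransparency false in
theorem quasiFiniteAt_SpecMap {R S : CommRingCat.{u}} (φ : R ⟶ S) (x : Spec S)
    (h : letI := φ.hom.toAlgebra
      Algebra.QuasiFiniteAt R x.asIdeal) :
    (Spec.map φ).QuasiFiniteAt x := by
  algebraize [φ.hom]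
  let _ := Localization.AtPrime.algebraOfLiesOver (x.asIdeal.under R) x.asIdeal
  have h2 : Algebra.QuasiFinite (Localization.AtPrime (x.asIdeal.under R))
      (Localization.AtPrime x.asIdeal) := .of_restrictScalars R _ _
  rw [← RingHom.quasiFinite_algebraMap] at h2
  exact (RingHom.QuasiFinite.respectsIso.arrow_mk_iso_iff (Scheme.arrowStalkMapSpecIso ..)).mpr h2

end SpecMap

section Build

theorem flat_stalkMap_iff_of_eq' {X Y : Scheme.{u}} (f : X ⟶ Y) {x₁ x₂ : X} (h : x₁ = x₂) :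
    (f.stalkMap x₁).hom.Flat ↔ (f.stalkMap x₂).hom.Flat := by
  subst h
  rfl

variable {X Y : Scheme.{u}} (f : X ⟶ Y) [LocallyOfFiniteType f]

set_option maxHeartbeats 1000000 in
theorem exists_affineSpace_hom (x : X) {U : X.Opens} (hU : IsAffineOpen U) (hx : x ∈ U)
    {V : Y.Opens} (hV : IsAffineOpen V) (hUV : U ≤ f ⁻¹ᵁ V) (n : ℕ)
    (ψ : MvPolynomial (ULift.{u} (Fin n)) Γ(Y, V) →+* Γ(X, U))
    (hψC : ψ.comp MvPolynomial.C = (f.appLE V U hUV).hom)
    (hfl : letI := ψ.toAlgebra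
      Module.Flat (MvPolynomial (ULift.{u} (Fin n)) Γ(Y, V))
        (Localization.AtPrime (hU.primeIdealOf ⟨x, hx⟩).asIdeal))
    (hqf : letI := ψ.toAlgebra
      Algebra.QuasiFiniteAt (MvPolynomial (ULift.{u} (Fin n)) Γ(Y, V))
        (hU.primeIdealOf ⟨x, hx⟩).asIdeal) :
    ∃ (U' : X.Opens) (hx' : x ∈ U') (g : (U' : Scheme.{u}) ⟶ 𝔸(ULift.{u} (Fin n); Y)),
      g ≫ (𝔸(ULift.{u} (Fin n); Y) ↘ Y) = U'.ι ≫ f ∧ LocallyQuasiFinite g ∧
        (g.stalkMap ⟨x, hx'⟩).hom.Flat := by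
  set t₀ := hU.primeIdealOf ⟨x, hx⟩ with ht₀
  have hkt₀ : hU.fromSpec t₀ = x := hU.fromSpec_primeIdealOf ⟨x, hx⟩
  let ψ' : CommRingCat.of (MvPolynomial (ULift.{u} (Fin n)) Γ(Y, V)) ⟶ Γ(X, U) :=
    CommRingCat.ofHom ψ
  haveI : IsOpenImmersion (AffineSpace.map (ULift.{u} (Fin n)) hV.fromSpec) :=
    MorphismProperty.of_isPullback (P := @IsOpenImmersion)
      (AffineSpace.isPullback_map (n := ULift.{u} (Fin n)) hV.fromSpec).flip inferInstance
  let j : Spec (.of (MvPolynomial (ULift.{u} (Fin n)) Γ(Y, V))) ⟶ 𝔸(ULift.{u} (Fin n); Y) :=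
    (AffineSpace.SpecIso (ULift.{u} (Fin n)) Γ(Y, V)).inv ≫
      AffineSpace.map (ULift.{u} (Fin n)) hV.fromSpec
  haveI : IsOpenImmersion j := inferInstance
  let gT : Spec Γ(X, U) ⟶ 𝔸(ULift.{u} (Fin n); Y) := Spec.map ψ' ≫ j
  have hgT : gT ≫ (𝔸(ULift.{u} (Fin n); Y) ↘ Y) = hU.fromSpec ≫ f := by
    simp only [gT, j, Category.assoc, AffineSpace.map_over, AffineSpace.SpecIso_inv_over_assoc]
    rw [← Spec.map_comp_assoc, ← IsAffineOpen.SpecMap_appLE_fromSpec f hV hU hUV]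
    congr 2
    ext a
    exact congrArg (fun ρ : Γ(Y, V) →+* Γ(X, U) => ρ a) hψC
  haveI : LocallyOfFiniteType gT := by
    haveI : LocallyOfFiniteType (gT ≫ (𝔸(ULift.{u} (Fin n); Y) ↘ Y)) := by
      rw [hgT]; infer_instance
    exact locallyOfFiniteType_of_comp gT (𝔸(ULift.{u} (Fin n); Y) ↘ Y)
  have hflT : (gT.stalkMap t₀).hom.Flat := by
    have h1 := flat_stalkMap_SpecMap ψ' t₀ hfl
    have h2 : (j.stalkMap (Spec.map ψ' t₀)).hom.Flat :=
      RingHom.Flat.of_bijective (ConcreteCategory.bijective_of_isIso (j.stalkMap _))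
    rw [show gT = Spec.map ψ' ≫ j from rfl, Groth.Agent.Lead.CMAt.stalkMap_comp_hom]
    exact RingHom.Flat.comp h2 h1
  have hqfT : gT.QuasiFiniteAt t₀ := by
    rw [show gT = Spec.map ψ' ≫ j from rfl, Scheme.Hom.quasiFiniteAt_comp_iff]
    exact quasiFiniteAt_SpecMap ψ' t₀ hqf
  let T' := gT.quasiFiniteLocus
  have ht₀T' : t₀ ∈ T' := hqfT
  let k' : (T' : Scheme.{u}) ⟶ X := T'.ι ≫ hU.fromSpec
  haveI : IsOpenImmersion k' := inferInstance
  let U' := k'.opensRange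
  have hx' : x ∈ U' := ⟨⟨t₀, ht₀T'⟩, by
    show hU.fromSpec (T'.ι ⟨t₀, ht₀T'⟩) = x
    exact hkt₀⟩
  let g : (U' : Scheme.{u}) ⟶ 𝔸(ULift.{u} (Fin n); Y) := k'.isoOpensRange.inv ≫ T'.ι ≫ gT
  refine ⟨U', hx', g, ?_, ?_, ?_⟩
  · show (k'.isoOpensRange.inv ≫ T'.ι ≫ gT) ≫ _ = _
    rw [Category.assoc, Category.assoc, hgT, ← Category.assoc T'.ι, ← Category.assoc]
    show (k'.isoOpensRange.inv ≫ k') ≫ f = _
    rw [Scheme.Hom.isoOpensRange_inv_comp]
  · show LocallyQuasiFinite (k'.isoOpensRange.inv ≫ T'.ι ≫ gT)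
    infer_instance
  · set v := k'.isoOpensRange.inv ⟨x, hx'⟩ with hv
    have hv1 : k' v = x := by
      have := congrArg (fun ρ : (U' : Scheme.{u}) ⟶ X => ρ ⟨x, hx'⟩)
        (Scheme.Hom.isoOpensRange_inv_comp k')
      exact this
    have hv2 : T'.ι v = t₀ := by
      apply hU.fromSpec.isOpenEmbedding.injective
      rw [hkt₀]
      exact hv1
    refine (Groth.Agent.Lib.Helper6.EtLoc.flat_stalkMap_comp_iff k'.isoOpensRange.inv (T'.ι ≫ gT)
      ⟨x, hx'⟩).mp ?_
    refine (Groth.Agent.Lib.Helper6.EtLoc.flat_stalkMap_comp_iff T'.ι gT v).mp ?_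
    exact (flat_stalkMap_iff_of_eq' gT hv2).mpr hflT

end Build

end Groth.Agent.Lead.CMQF
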