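import Mathlib
import Groth.Agent.Lib.Lead.CritFib13
import Groth.Agent.Lib.Lead.CritFib3

set_option autoImplicit false
set_option backward.isDefEq.respectTransparency.types false
set_option synthInstance.maxHeartbeats 400000
set_option linter.style.haveILetI false
universe u

namespace Groth.Agent.Lead.RelReg

open TensorProduct Polynomial

section PID

theorem pid_quotient_map_C {R : Type u} [CommRing R] (m : Ideal R) [m.IsMaximal] (J : Ideal R[X])
    (hJ : J = m.map C) : IsDomain (R[X] ⧸ J) ∧ IsPrincipalIdealRing (R[X] ⧸ J) := by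
  subst hJ
  letI := Ideal.Quotient.field m
  let e := Ideal.polynomialQuotientEquivQuotientPolynomial m
  exact ⟨e.symm.toMulEquiv.isDomain _, IsPrincipalIdealRing.of_surjective e.toRingHom e.surjective⟩

end PID

section Key

variable {R L : Type u} [CommRing R] [IsLocalRing R] [CommRing L] [IsLocalRing L] (ψ : R →+* L)
  [IsLocalHom ψ] (h' : L) (hh' : h' ∈ IsLocalRing.maximalIdeal L)
  {N : Type u} [AddCommGroup N] [Module L N] (K : Submodule L N)
  (hm : ∀ a ∈ IsLocalRing.maximalIdeal R, ∀ n : N, ψ a • n ∈ K)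
  (hreg : ∀ n : N, h' • n ∈ K → n ∈ K)

include hh' hm hreg in
theorem key (P : R[X]) : ∀ n : N, eval₂ ψ h' P • n ∈ K →
    P ∈ (IsLocalRing.maximalIdeal R).map C ∨ n ∈ K := by
  refine Polynomial.recOnHorner P ?_ ?_ ?_
  · intro n _
    exact Or.inl (Ideal.zero_mem _)
  · intro p a hp0 ha ih n hn
    rw [eval₂_add, eval₂_C, add_smul] at hn
    by_cases hc : a ∈ IsLocalRing.maximalIdeal R
    · have h1 : eval₂ ψ h' p • n ∈ K := by
        have := K.sub_mem hn (hm a hc n)
        simpa using this
      rcases ih n h1 with h2 | h2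
      · exact Or.inl (Ideal.add_mem _ h2 (Ideal.mem_map_of_mem C hc))
      · exact Or.inr h2
    · right
      have hu : IsUnit a := by
        by_contra hna
        exact hc ((IsLocalRing.mem_maximalIdeal a).mpr hna)
      obtain ⟨p', rfl⟩ := Polynomial.X_dvd_iff.mpr hp0
      rw [eval₂_mul, eval₂_X, ← add_smul] at hn
      have hunit : IsUnit (h' * eval₂ ψ h' p' + ψ a) := by
        by_contra hnu
        have h3 : h' * eval₂ ψ h' p' + ψ a ∈ IsLocalRing.maximalIdeal L :=
          (IsLocalRing.mem_maximalIdeal _).mpr hnu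
        have h4 : ψ a ∈ IsLocalRing.maximalIdeal L := by
          have := Ideal.sub_mem _ h3 (Ideal.mul_mem_right (eval₂ ψ h' p') _ hh')
          simpa using this
        exact (IsLocalRing.mem_maximalIdeal _).mp h4 (hu.map ψ)
      obtain ⟨u, hu'⟩ := hunit
      have := K.smul_mem (↑u⁻¹ : L) hn
      rwa [← hu', smul_smul, Units.inv_mul, one_smul] at this
  · intro p _ ih n hn
    rw [eval₂_mul, eval₂_X, mul_comm, mul_smul] at hn
    rcases ih n (hreg _ hn) with h2 | h2
    · exact Or.inl (Ideal.mul_mem_right _ _ h2)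
    · exact Or.inr h2

end Key

end Groth.Agent.Lead.RelReg
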