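import Mathlib
import Groth.Agent.Lib.Lead.CritFib13
import Groth.Agent.Lib.Lead.CritFib3
import Groth.Agent.Lib.Lead.RelReg1

set_option autoImplicit false
set_option backward.isDefEq.respectTransparency.types false
set_option synthInstance.maxHeartbeats 400000
set_option linter.style.haveILetI false
universe u

namespace Groth.Agent.Lead.RelReg

open TensorProduct Polynomial Groth.Agent.Lead.CritFib

attribute [local instance] Polynomial.algebra

section Main

variable (A B : Type u) [CommRing A] [CommRing B] [Algebra A B] [Algebra A[X] B]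
  [IsScalarTower A A[X] B]
  (M : Type u) [AddCommGroup M] [Module B M] [Module A M] [IsScalarTower A B M] [Module A[X] M]
  [IsScalarTower A[X] B M]
  (p : Ideal A) [p.IsPrime] (q : Ideal B) [q.IsPrime] [q.LiesOver p]

/-- the map `A_p[X] → B_q` -/
noncomputable def phi : (Localization.AtPrime p)[X] →+* Localization.AtPrime q :=
  eval₂RingHom (Localization.localRingHom p q (algebraMap A B) (Ideal.LiesOver.over (P := q) (p := p)))
    (algebraMap B (Localization.AtPrime q) (algebraMap A[X] B X))

theorem phi_map (P : A[X]) :
    phi A B p q (P.map (algebraMap A (Localization.AtPrime p))) =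
      algebraMap B (Localization.AtPrime q) (algebraMap A[X] B P) := by
  unfold phi
  rw [coe_eval₂RingHom, eval₂_map]
  have h1 : (Localization.localRingHom p q (algebraMap A B)
      (Ideal.LiesOver.over (P := q) (p := p))).comp (algebraMap A (Localization.AtPrime p)) =
      ((algebraMap B (Localization.AtPrime q)).comp (algebraMap A[X] B)).comp C := by
    ext a
    simp only [RingHom.comp_apply, Localization.localRingHom_to_map]
    rw [← Polynomial.algebraMap_eq, ← IsScalarTower.algebraMap_apply A A[X] B]
  rw [h1]
  have h2 : ∀ (g : A[X] →+* Localization.AtPrime q), g P = eval₂ (g.comp C) (g X) P := by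
    intro g
    conv_lhs => rw [← eval₂_C_X (p := P)]
    exact Polynomial.hom_eval₂ P C g X
  exact (h2 ((algebraMap B (Localization.AtPrime q)).comp (algebraMap A[X] B))).symm


/-- `M_q` as a module over `A_p[X]` -/
@[reducible] noncomputable def polyLocModule :
    Module (Localization.AtPrime p)[X] (LocalizedModule q.primeCompl M) :=
  Module.compHom _ (phi A B p q)

theorem polyLoc_tower :
    letI := polyLocModule A B M p q
    IsScalarTower A[X] (Localization.AtPrime p)[X] (LocalizedModule q.primeCompl M) := by
  letI := polyLocModule A B M p q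
  refine ⟨fun P Q n => ?_⟩
  change phi A B p q (P • Q) • n = P • (phi A B p q Q • n)
  rw [Algebra.smul_def, map_mul, mul_smul, Polynomial.algebraMap_def, coe_mapRingHom, phi_map,
    algebraMap_smul, algebraMap_smul]


theorem map_map_eq :
    (p.map (algebraMap A A[X])).map (algebraMap A[X] (Localization.AtPrime p)[X]) =
      (IsLocalRing.maximalIdeal (Localization.AtPrime p)).map C := by
  rw [Ideal.map_map, ← Localization.AtPrime.map_eq_maximalIdeal, Ideal.map_map]
  congr 1
  ext a
  simp [Polynomial.algebraMap_def]

set_option maxHeartbeats 1000000 in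
theorem flat_fibre_poly (hq : algebraMap A[X] B X ∈ q)
    (hreg : ∀ n : LocalizedModule q.primeCompl M,
      (algebraMap A[X] B X) • n ∈ (p • ⊤ : Submodule A (LocalizedModule q.primeCompl M)) →
        n ∈ (p • ⊤ : Submodule A (LocalizedModule q.primeCompl M))) :
    Module.Flat (A[X] ⧸ p.map (algebraMap A A[X]))
      ((A[X] ⧸ p.map (algebraMap A A[X])) ⊗[A[X]] LocalizedModule q.primeCompl M) := by
  letI := polyLocModule A B M p q
  haveI := polyLoc_tower A B M p q
  haveI : IsLocalization (p.primeCompl.map (C : A →+* A[X])) (Localization.AtPrime p)[X] :=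
    Polynomial.isLocalization p.primeCompl (Localization.AtPrime p)
  set J := (p.map (algebraMap A A[X])).map (algebraMap A[X] (Localization.AtPrime p)[X]) with hJdef
  have hJ : J = (IsLocalRing.maximalIdeal (Localization.AtPrime p)).map C := map_map_eq A p
  obtain ⟨hdom, hpid⟩ := pid_quotient_map_C (IsLocalRing.maximalIdeal (Localization.AtPrime p)) J hJ
  suffices hfl : Module.Flat ((Localization.AtPrime p)[X] ⧸ J)
      (((Localization.AtPrime p)[X] ⧸ J) ⊗[(Localization.AtPrime p)[X]]
        LocalizedModule q.primeCompl M) by
    haveI := hfl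
    exact qflat_of_localization (S := (Localization.AtPrime p)[X])
      (p.primeCompl.map (C : A →+* A[X])) (p.map (algebraMap A A[X]))
      (LocalizedModule q.primeCompl M)
  rw [qflat_iff_flat_quotient]
  refine (Module.Flat.flat_iff_torsion_eq_bot_of_isBezout
    (R := (Localization.AtPrime p)[X] ⧸ J)
    (M := LocalizedModule q.primeCompl M ⧸ (J • ⊤ : Submodule (Localization.AtPrime p)[X]
      (LocalizedModule q.primeCompl M)))).mpr ?_
  rw [Submodule.eq_bot_iff]
  intro x hx
  obtain ⟨⟨a, ha⟩, hax⟩ := (Submodule.mem_torsion_iff x).mp hx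
  obtain ⟨n, rfl⟩ := Submodule.Quotient.mk_surjective _ x
  obtain ⟨P, rfl⟩ := Ideal.Quotient.mk_surjective a
  have hP : P ∉ J := by
    intro hPJ
    have : (Ideal.Quotient.mk J P) = 0 := Ideal.Quotient.eq_zero_iff_mem.mpr hPJ
    exact nonZeroDivisors.ne_zero ha this
  have hPn : P • n ∈ (J • ⊤ : Submodule (Localization.AtPrime p)[X]
      (LocalizedModule q.primeCompl M)) := by
    rw [← Submodule.Quotient.mk_eq_zero]
    exact hax
  rw [Submodule.Quotient.mk_eq_zero]
  -- the three descriptions of `pN`
  have hψ : (Localization.localRingHom p q (algebraMap A B)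
      (Ideal.LiesOver.over (P := q) (p := p))).comp (algebraMap A (Localization.AtPrime p)) =
      algebraMap A (Localization.AtPrime q) := by
    ext a
    simp only [RingHom.comp_apply, Localization.localRingHom_to_map]
    rw [← IsScalarTower.algebraMap_apply A B]
  haveI : IsScalarTower A (Localization.AtPrime p)[X] (LocalizedModule q.primeCompl M) := by
    refine IsScalarTower.of_algebraMap_smul fun a x => ?_
    change phi A B p q (algebraMap A (Localization.AtPrime p)[X] a) • x = a • x
    rw [Polynomial.algebraMap_apply, phi, coe_eval₂RingHom, eval₂_C,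
      Localization.localRingHom_to_map, algebraMap_smul, algebraMap_smul]
  have hJ' : J = p.map (algebraMap A (Localization.AtPrime p)[X]) := by
    rw [hJdef, Ideal.map_map, ← IsScalarTower.algebraMap_eq]
  set K : Submodule (Localization.AtPrime q) (LocalizedModule q.primeCompl M) :=
    (p.map (algebraMap A (Localization.AtPrime q))) • ⊤ with hKdef
  have hK : ∀ x : LocalizedModule q.primeCompl M,
      x ∈ K ↔ x ∈ (p • ⊤ : Submodule A (LocalizedModule q.primeCompl M)) := by
    intro x
    rw [← Submodule.restrictScalars_top A (Localization.AtPrime q),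
      ← Ideal.smul_restrictScalars, Submodule.restrictScalars_mem]
  have hJK : ∀ x : LocalizedModule q.primeCompl M,
      x ∈ (J • ⊤ : Submodule (Localization.AtPrime p)[X] (LocalizedModule q.primeCompl M)) ↔
        x ∈ (p • ⊤ : Submodule A (LocalizedModule q.primeCompl M)) := by
    intro x
    rw [hJ', ← Submodule.restrictScalars_top A (Localization.AtPrime p)[X],
      ← Ideal.smul_restrictScalars, Submodule.restrictScalars_mem]
  rw [hJK, ← hK]
  have hh' : algebraMap B (Localization.AtPrime q) (algebraMap A[X] B X) ∈
      IsLocalRing.maximalIdeal (Localization.AtPrime q) :=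
    (IsLocalization.AtPrime.to_map_mem_maximal_iff (Localization.AtPrime q) q _).mpr hq
  have hm : ∀ a ∈ IsLocalRing.maximalIdeal (Localization.AtPrime p),
      ∀ n : LocalizedModule q.primeCompl M,
      (Localization.localRingHom p q (algebraMap A B)
        (Ideal.LiesOver.over (P := q) (p := p))) a • n ∈ K := by
    intro a ha n
    refine Submodule.smul_mem_smul ?_ Submodule.mem_top
    rw [← hψ, ← Ideal.map_map, Localization.AtPrime.map_eq_maximalIdeal]
    exact Ideal.mem_map_of_mem _ ha
  have hreg' : ∀ n : LocalizedModule q.primeCompl M,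
      algebraMap B (Localization.AtPrime q) (algebraMap A[X] B X) • n ∈ K → n ∈ K := by
    intro n hn
    rw [hK] at hn ⊢
    rw [algebraMap_smul] at hn
    exact hreg n hn
  have hPn' : eval₂ (Localization.localRingHom p q (algebraMap A B)
      (Ideal.LiesOver.over (P := q) (p := p)))
      (algebraMap B (Localization.AtPrime q) (algebraMap A[X] B X)) P • n ∈ K := by
    rw [hK, ← hJK]
    exact hPn
  rcases key _ _ hh' K hm hreg' P n hPn' with h1 | h1
  · exact absurd (hJ ▸ h1) hP
  · exact h1


/-- flatness over `A[X]`: the fibre criterion applied to `A → A[X] → B` -/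
theorem flat_poly [Algebra.FinitePresentation A B] [Module.FinitePresentation B M]
    (hq : algebraMap A[X] B X ∈ q)
    (h1 : Module.Flat A (LocalizedModule q.primeCompl M))
    (hreg : ∀ n : LocalizedModule q.primeCompl M,
      (algebraMap A[X] B X) • n ∈ (p • ⊤ : Submodule A (LocalizedModule q.primeCompl M)) →
        n ∈ (p • ⊤ : Submodule A (LocalizedModule q.primeCompl M))) :
    Module.Flat A[X] (LocalizedModule q.primeCompl M) :=
  critere_ft A A[X] B M p q h1 (flat_fibre_poly A B M p q hq hreg)

end Main

end Groth.Agent.Lead.RelReg
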