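import Mathlib
import Groth.Agent.Lib.Lead.RelReg2

set_option autoImplicit false
set_option backward.isDefEq.respectTransparency.types false
set_option synthInstance.maxHeartbeats 400000
set_option linter.style.haveILetI false
universe u

namespace Groth.Agent.Lead.RelReg

open TensorProduct Polynomial Groth.Agent.Lead.CritFib Pointwise

section Cons

variable (A B : Type u) [CommRing A] [CommRing B] [Algebra A B] [Algebra A[X] B]
  [IsScalarTower A A[X] B]
  (N : Type u) [AddCommGroup N] [Module B N] [Module A N] [IsScalarTower A B N] [Module A[X] N]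
  [IsScalarTower A[X] B N]

include B in
theorem tower_poly : IsScalarTower A A[X] N := by
  refine ⟨fun a P n => ?_⟩
  rw [Algebra.smul_def a P, mul_smul, ← algebraMap_smul B (algebraMap A A[X] a) (P • n),
    ← IsScalarTower.algebraMap_apply A A[X] B, algebraMap_smul]

theorem isSMulRegular_of_flat_poly [Module.Flat A[X] N] :
    IsSMulRegular N (algebraMap A[X] B X) := by
  have h1 : IsSMulRegular N (X : A[X]) :=
    Module.Flat.isSMulRegular_of_nonZeroDivisors Polynomial.X_mem_nonzeroDivisors
  intro x y hxy
  apply h1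
  simpa only [algebraMap_smul] using hxy

theorem flat_quotSMulTop_of_flat_poly [Module.Flat A[X] N] :
    Module.Flat A (QuotSMulTop (algebraMap A[X] B X) N) := by
  haveI := tower_poly A B N
  set I : Ideal A[X] := Ideal.span {X - C (0 : A)} with hI
  have h1 : Module.Flat (A[X] ⧸ I) (N ⧸ (I • ⊤ : Submodule A[X] N)) :=
    (qflat_iff_flat_quotient I N).mp inferInstance
  haveI : Module.Flat A (A[X] ⧸ I) :=
    Module.Flat.of_linearEquiv (Polynomial.quotientSpanXSubCAlgEquiv (0 : A)).toLinearEquiv
  haveI : IsScalarTower A (A[X] ⧸ I) (N ⧸ (I • ⊤ : Submodule A[X] N)) := by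
    refine IsScalarTower.of_algebraMap_smul (R := A) (A := A[X] ⧸ I)
      (M := N ⧸ (I • ⊤ : Submodule A[X] N)) fun a x => ?_
    obtain ⟨n, rfl⟩ := Submodule.Quotient.mk_surjective _ x
    change (I • ⊤ : Submodule A[X] N).mkQ (algebraMap A A[X] a • n) =
      (I • ⊤ : Submodule A[X] N).mkQ (a • n)
    rw [algebraMap_smul]
  have h2 : Module.Flat A (N ⧸ (I • ⊤ : Submodule A[X] N)) :=
    Module.Flat.trans A (A[X] ⧸ I) _
  have heq : (I • ⊤ : Submodule A[X] N).restrictScalars A =
      ((algebraMap A[X] B X) • (⊤ : Submodule B N)).restrictScalars A := by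
    ext x
    simp only [Submodule.restrictScalars_mem]
    rw [hI, Submodule.ideal_span_singleton_smul, Submodule.mem_smul_pointwise_iff_exists,
      Submodule.mem_smul_pointwise_iff_exists]
    simp only [Submodule.mem_top, true_and, map_zero, sub_zero, algebraMap_smul]
  let e1 := (Submodule.Quotient.restrictScalarsEquiv A (I • ⊤ : Submodule A[X] N)).symm
  let e2 := Submodule.quotEquivOfEq _ _ heq
  let e3 := Submodule.Quotient.restrictScalarsEquiv A
    ((algebraMap A[X] B X) • (⊤ : Submodule B N))
  exact Module.Flat.of_linearEquiv (e1.trans (e2.trans e3)).symm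

end Cons

end Groth.Agent.Lead.RelReg
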