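import Mathlib
import Groth.Agent.Lib.Lead.RelReg3
import Groth.Agent.Lib.Lead.FlatLoc11
import Groth.Agent.Lib.Lead.FlatLoc12

set_option autoImplicit false
set_option backward.isDefEq.respectTransparency.types false
set_option synthInstance.maxHeartbeats 400000
set_option linter.style.haveILetI false
universe u

namespace Groth.Agent.Lead.RelReg

open TensorProduct Polynomial Groth.Agent.Lead.CritFib Pointwise

section Pack

variable (A B : Type u) [CommRing A] [CommRing B] [Algebra A B]
  (M : Type u) [AddCommGroup M] [Module B M] [Module A M] [IsScalarTower A B M]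
  (p : Ideal A) [p.IsPrime] (q : Ideal B) [q.IsPrime] [q.LiesOver p] (h : B)

set_option maxHeartbeats 1000000 in
/-- **Slicing by a fibrewise regular element** (EGA IV 11.3.8, finitely presented case): if `M_q`
is flat over `A` and `h ∈ q` is regular on `M_q / p M_q`, then on a neighbourhood `D(g)` of `q`
the element `h` is `M`-regular and `M / hM` is flat over `A`. -/
theorem exists_nhd' [Algebra.FinitePresentation A B] [Module.FinitePresentation B M]
    (hq : h ∈ q) (h1 : Module.Flat A (LocalizedModule q.primeCompl M))
    (hreg : ∀ n : LocalizedModule q.primeCompl M,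
      h • n ∈ (p • ⊤ : Submodule A (LocalizedModule q.primeCompl M)) →
        n ∈ (p • ⊤ : Submodule A (LocalizedModule q.primeCompl M))) :
    ∃ g : B, g ∉ q ∧ ∀ T : Submonoid B,
      (∀ r : Ideal B, r.IsPrime → Disjoint (r : Set B) (T : Set B) → g ∉ r) →
      (Module.Flat A (LocalizedModule T M) ∧ IsSMulRegular (LocalizedModule T M) h ∧
        Module.Flat A (QuotSMulTop h (LocalizedModule T M))) := by
  letI alg : Algebra A[X] B := (Polynomial.aeval (R := A) h).toRingHom.toAlgebra
  have hX : algebraMap A[X] B X = h := Polynomial.aeval_X h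
  haveI : IsScalarTower A A[X] B := IsScalarTower.of_algebraMap_eq fun r => by
    change algebraMap A B r = Polynomial.aeval h (algebraMap A A[X] r)
    rw [Polynomial.algebraMap_apply, Polynomial.aeval_C]
    rfl
  letI : Module A[X] M := Module.compHom M (algebraMap A[X] B)
  haveI : IsScalarTower A[X] B M := IsScalarTower.of_compHom A[X] B M
  haveI : Algebra.FinitePresentation A[X] B :=
    Algebra.FinitePresentation.of_restrict_scalars_finitePresentation A A[X] B
  have hflat : Module.Flat A[X] (LocalizedModule q.primeCompl M) := by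
    refine flat_poly A B M p q (hX ▸ hq) h1 ?_
    rw [hX]
    exact hreg
  have hopen := Groth.Agent.Lead.FlatLoc.isOpen_flatLocus_of_finitePresentation
    (R := A[X]) (S := B) (M := M)
  obtain ⟨_, ⟨_, ⟨g, rfl⟩, rfl⟩, hqg, hgsub⟩ := (PrimeSpectrum.isBasis_basic_opens.exists_subset_of_mem_open
    (show (⟨q, inferInstance⟩ : PrimeSpectrum B) ∈ _ from hflat) hopen)
  refine ⟨g, hqg, fun T hT => ?_⟩
  haveI : Module.Flat A[X] (LocalizedModule T M) := by
    apply Groth.Agent.Lead.FlatLoc.flat_localizedModule_of_forall_prime (A := A[X]) M T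
    intro r _ hdisj
    exact hgsub (show (⟨r, inferInstance⟩ : PrimeSpectrum B) ∈
      (PrimeSpectrum.basicOpen g : Set (PrimeSpectrum B)) from hT r inferInstance hdisj)
  haveI := tower_poly A B (LocalizedModule T M)
  exact ⟨Module.Flat.trans A A[X] (LocalizedModule T M),
    hX ▸ isSMulRegular_of_flat_poly A B (LocalizedModule T M),
    hX ▸ flat_quotSMulTop_of_flat_poly A B (LocalizedModule T M)⟩

theorem exists_nhd [Algebra.FinitePresentation A B] [Module.FinitePresentation B M]
    (hq : h ∈ q) (h1 : Module.Flat A (LocalizedModule q.primeCompl M))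
    (hreg : ∀ n : LocalizedModule q.primeCompl M,
      h • n ∈ (p • ⊤ : Submodule A (LocalizedModule q.primeCompl M)) →
        n ∈ (p • ⊤ : Submodule A (LocalizedModule q.primeCompl M))) :
    ∃ g : B, g ∉ q ∧ ∀ T : Submonoid B, g ∈ T →
      (IsSMulRegular (LocalizedModule T M) h ∧
        Module.Flat A (QuotSMulTop h (LocalizedModule T M))) := by
  obtain ⟨g, hg, hT⟩ := exists_nhd' A B M p q h hq h1 hreg
  refine ⟨g, hg, fun T hgT => (hT T ?_).2⟩
  intro r _ hdisj hgr
  exact Set.disjoint_left.mp hdisj hgr hgT

end Pack

end Groth.Agent.Lead.RelReg
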