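import Mathlib
import Groth.Agent.Lib.Lead.RelReg4

set_option autoImplicit false
set_option backward.isDefEq.respectTransparency.types false
set_option synthInstance.maxHeartbeats 400000
set_option linter.style.haveILetI false
universe u

namespace Groth.Agent.Lead.RelReg

open TensorProduct Polynomial Pointwise

section Plumbing

variable {B : Type u} [CommRing B] (M : Type u) [AddCommGroup M] [Module B M]

theorem fp_quotSMulTop [Module.FinitePresentation B M] (b : B) :
    Module.FinitePresentation B (QuotSMulTop b M) := by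
  refine Module.finitePresentation_of_surjective (b • (⊤ : Submodule B M)).mkQ
    (Submodule.mkQ_surjective _) ?_
  rw [Submodule.ker_mkQ, ← Submodule.ideal_span_singleton_smul]
  have : (⊤ : Submodule B M).FG := Module.Finite.fg_top
  exact Submodule.FG.smul ⟨{b}, by simp⟩ this

/-- quotient by `I • ⊤` is functorial in linear equivalences -/
noncomputable def quotSMulTopCongr {N N' : Type u} [AddCommGroup N] [Module B N] [AddCommGroup N']
    [Module B N'] (I : Ideal B) (e : N ≃ₗ[B] N') :
    (N ⧸ (I • ⊤ : Submodule B N)) ≃ₗ[B] (N' ⧸ (I • ⊤ : Submodule B N')) :=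
  Submodule.Quotient.equiv _ _ e (by
    rw [Submodule.map_smul'', Submodule.map_top, LinearEquiv.range])

/-- `QuotSMulTop` commutes with the quotient by `I • ⊤` -/
noncomputable def quotSMulTopQuotEquiv (N : Type u) [AddCommGroup N] [Module B N] (I : Ideal B)
    (b : B) :
    (QuotSMulTop b N ⧸ (I • ⊤ : Submodule B (QuotSMulTop b N))) ≃ₗ[B]
      QuotSMulTop b (N ⧸ (I • ⊤ : Submodule B N)) :=
  Submodule.quotEquivOfEq _ _ (by rw [Submodule.map_smul'', Submodule.map_top, Submodule.range_mkQ]) ≪≫ₗ
    (Submodule.quotientQuotientEquivQuotientSup (b • ⊤) (I • ⊤)) ≪≫ₗ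
      Submodule.quotEquivOfEq _ _ (sup_comm _ _) ≪≫ₗ
        (Submodule.quotientQuotientEquivQuotientSup (I • ⊤) (b • ⊤)).symm ≪≫ₗ
          Submodule.quotEquivOfEq _ _ (by
            rw [Submodule.map_pointwise_smul, Submodule.map_top, Submodule.range_mkQ])

end Plumbing


section Loc

variable {B : Type u} [CommRing B] (T : Submonoid B) (M : Type u) [AddCommGroup M] [Module B M]
  (b : B)

theorem localized₀_smul_top :
    (b • (⊤ : Submodule B M)).localized₀ T (LocalizedModule.mkLinearMap T M) =
      b • (⊤ : Submodule B (LocalizedModule T M)) := by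
  rw [← Submodule.ideal_span_singleton_smul, ← Submodule.ideal_span_singleton_smul,
    Submodule.localized₀_smul, Submodule.localized₀_top]

/-- localization commutes with `QuotSMulTop` -/
noncomputable def localizedQuotSMulTopEquiv :
    LocalizedModule T (QuotSMulTop b M) ≃ₗ[B] QuotSMulTop b (LocalizedModule T M) :=
  (IsLocalizedModule.iso T ((b • (⊤ : Submodule B M)).toLocalizedQuotient T)) ≪≫ₗ
    ((Submodule.Quotient.restrictScalarsEquiv B
      ((b • (⊤ : Submodule B M)).localized T)).symm ≪≫ₗ
      Submodule.quotEquivOfEq _ _ (localized₀_smul_top T M b))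

end Loc


section Seq

open RingTheory.Sequence

variable (A B : Type u) [CommRing A] [CommRing B] [Algebra A B]
  (p : Ideal A) [p.IsPrime] (q : Ideal B) [q.IsPrime] [q.LiesOver p]

/-- primes disjoint from `q.primeCompl` lie in `q` -/
theorem not_mem_of_disjoint_primeCompl {g : B} (hg : g ∉ q) (r : Ideal B)
    (hdisj : Disjoint (r : Set B) (q.primeCompl : Set B)) : g ∉ r :=
  fun hgr => Set.disjoint_left.mp hdisj hgr hg

theorem hreg_of_isSMulRegular (M : Type u) [AddCommGroup M] [Module B M] [Module A M]
    [IsScalarTower A B M] (b : B)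
    (hb : IsSMulRegular (LocalizedModule q.primeCompl M ⧸
      ((p.map (algebraMap A B)) • ⊤ : Submodule B (LocalizedModule q.primeCompl M))) b)
    (n : LocalizedModule q.primeCompl M)
    (hn : b • n ∈ (p • ⊤ : Submodule A (LocalizedModule q.primeCompl M))) :
    n ∈ (p • ⊤ : Submodule A (LocalizedModule q.primeCompl M)) := by
  have hK : ∀ x : LocalizedModule q.primeCompl M,
      x ∈ ((p.map (algebraMap A B)) • ⊤ : Submodule B (LocalizedModule q.primeCompl M)) ↔
        x ∈ (p • ⊤ : Submodule A (LocalizedModule q.primeCompl M)) := by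
    intro x
    rw [← Submodule.restrictScalars_top A B, ← Ideal.smul_restrictScalars,
      Submodule.restrictScalars_mem]
  rw [← hK] at hn ⊢
  rw [← Submodule.Quotient.mk_eq_zero] at hn ⊢
  apply hb
  change b • Submodule.Quotient.mk n = b • (0 : LocalizedModule q.primeCompl M ⧸ _)
  rw [smul_zero, ← Submodule.Quotient.mk_smul]
  exact hn

set_option maxHeartbeats 2000000 in
/-- **Slicing by a fibrewise regular sequence** (EGA IV 11.3.8): neighbourhood form. -/
theorem seq_nhd [Algebra.FinitePresentation A B] (hs : List B) :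
    ∀ (M : Type u) [AddCommGroup M] [Module B M] [Module A M] [IsScalarTower A B M]
      [Module.FinitePresentation B M], (∀ b ∈ hs, b ∈ q) →
      Module.Flat A (LocalizedModule q.primeCompl M) →
      IsWeaklyRegular (LocalizedModule q.primeCompl M ⧸
        ((p.map (algebraMap A B)) • ⊤ : Submodule B (LocalizedModule q.primeCompl M))) hs →
      ∃ g : B, g ∉ q ∧ ∀ T : Submonoid B,
        (∀ r : Ideal B, r.IsPrime → Disjoint (r : Set B) (T : Set B) → g ∉ r) →
        (IsWeaklyRegular (LocalizedModule T M) hs ∧
          ∀ i ≤ hs.length, Module.Flat A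
            (LocalizedModule T M ⧸ (Ideal.ofList (hs.take i) • ⊤ :
              Submodule B (LocalizedModule T M)))) := by
  induction hs with
  | nil =>
    intro M _ _ _ _ _ _ hfl _
    have hopen := Groth.Agent.Lead.FlatLoc.isOpen_flatLocus_of_finitePresentation
      (R := A) (S := B) (M := M)
    obtain ⟨_, ⟨_, ⟨g, rfl⟩, rfl⟩, hqg, hgsub⟩ :=
      (PrimeSpectrum.isBasis_basic_opens.exists_subset_of_mem_open
        (show (⟨q, inferInstance⟩ : PrimeSpectrum B) ∈ _ from hfl) hopen)
    refine ⟨g, hqg, fun T hT => ⟨IsWeaklyRegular.nil B _, fun i _ => ?_⟩⟩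
    haveI : Module.Flat A (LocalizedModule T M) := by
      apply Groth.Agent.Lead.FlatLoc.flat_localizedModule_of_forall_prime (A := A) M T
      intro r _ hdisj
      exact hgsub (show (⟨r, inferInstance⟩ : PrimeSpectrum B) ∈
        (PrimeSpectrum.basicOpen g : Set (PrimeSpectrum B)) from hT r inferInstance hdisj)
    have hbot : (Ideal.ofList (([] : List B).take i) • ⊤ :
        Submodule B (LocalizedModule T M)) = ⊥ := by
      simp
    exact Module.Flat.of_linearEquiv
      ((Submodule.quotEquivOfEqBot _ hbot).restrictScalars A)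
  | cons b hs' ih =>
    intro M _ _ _ _ _ hmem hfl hw
    rw [isWeaklyRegular_cons_iff] at hw
    obtain ⟨hb, hw'⟩ := hw
    have hbq : b ∈ q := hmem b (List.mem_cons_self)
    obtain ⟨g₁, hg₁, H₁⟩ := exists_nhd' A B M p q b hbq hfl
      (fun n hn => hreg_of_isSMulRegular A B p q M b hb n hn)
    haveI : Module.FinitePresentation B (QuotSMulTop b M) := fp_quotSMulTop M b
    -- the module `M' = M / bM`
    have hfl' : Module.Flat A (LocalizedModule q.primeCompl (QuotSMulTop b M)) := by
      haveI := (H₁ q.primeCompl (fun r _ hd => not_mem_of_disjoint_primeCompl B q hg₁ r hd)).2.2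
      exact Module.Flat.of_linearEquiv
        ((localizedQuotSMulTopEquiv q.primeCompl M b).restrictScalars A)
    have hw'' : IsWeaklyRegular (LocalizedModule q.primeCompl (QuotSMulTop b M) ⧸
        ((p.map (algebraMap A B)) • ⊤ :
          Submodule B (LocalizedModule q.primeCompl (QuotSMulTop b M)))) hs' := by
      refine (LinearEquiv.isWeaklyRegular_congr ?_ hs').mpr hw'
      exact (quotSMulTopCongr (p.map (algebraMap A B))
        (localizedQuotSMulTopEquiv q.primeCompl M b)) ≪≫ₗ
          (quotSMulTopQuotEquiv (LocalizedModule q.primeCompl M) (p.map (algebraMap A B)) b)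
    obtain ⟨g₂, hg₂, H₂⟩ := ih (QuotSMulTop b M) (fun c hc => hmem c (List.mem_cons_of_mem _ hc))
      hfl' hw''
    refine ⟨g₁ * g₂, fun hmul => (Ideal.IsPrime.mem_or_mem inferInstance hmul).elim hg₁ hg₂,
      fun T hT => ?_⟩
    have hT₁ : ∀ r : Ideal B, r.IsPrime → Disjoint (r : Set B) (T : Set B) → g₁ ∉ r :=
      fun r hr hd h => hT r hr hd (Ideal.mul_mem_right _ _ h)
    have hT₂ : ∀ r : Ideal B, r.IsPrime → Disjoint (r : Set B) (T : Set B) → g₂ ∉ r :=
      fun r hr hd h => hT r hr hd (Ideal.mul_mem_left _ _ h)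
    obtain ⟨hflT, hregT, -⟩ := H₁ T hT₁
    obtain ⟨hwT, hflT'⟩ := H₂ T hT₂
    refine ⟨?_, ?_⟩
    · rw [isWeaklyRegular_cons_iff]
      refine ⟨hregT, ?_⟩
      exact (LinearEquiv.isWeaklyRegular_congr (localizedQuotSMulTopEquiv T M b) hs').mp hwT
    · intro i hi
      cases i with
      | zero =>
        have hbot : (Ideal.ofList ((b :: hs').take 0) • ⊤ :
            Submodule B (LocalizedModule T M)) = ⊥ := by
          simp
        haveI := hflT
        exact Module.Flat.of_linearEquiv
          ((Submodule.quotEquivOfEqBot _ hbot).restrictScalars A)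
      | succ j =>
        have hj : j ≤ hs'.length := by simpa using hi
        haveI := hflT' j hj
        rw [List.take_succ_cons]
        exact Module.Flat.of_linearEquiv
          (((Submodule.quotOfListConsSMulTopEquivQuotSMulTopInner (LocalizedModule T M) b
            (hs'.take j)) ≪≫ₗ
            (quotSMulTopCongr (Ideal.ofList (hs'.take j))
              (localizedQuotSMulTopEquiv T M b).symm)).restrictScalars A)

end Seq

end Groth.Agent.Lead.RelReg
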