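import Mathlib
import Groth.Agent.Lib.Lead.RelReg7

set_option autoImplicit false
set_option backward.isDefEq.respectTransparency.types false
set_option synthInstance.maxHeartbeats 400000
set_option linter.style.haveILetI false
universe u

namespace Groth.Agent.Lead.RelReg

open TensorProduct Pointwise

section FibreIso

variable (A B : Type u) [CommRing A] [CommRing B] [Algebra A B]
  (p : Ideal A) [p.IsPrime] (q : Ideal B) [q.IsPrime] [q.LiesOver p]
  (M : Type u) [AddCommGroup M] [Module B M] [Module A M] [IsScalarTower A B M]

/-- `M_q` as a module over `A_p` -/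
@[reducible] noncomputable def locModule :
    Module (Localization.AtPrime p) (LocalizedModule q.primeCompl M) :=
  Module.compHom _ (Localization.localRingHom p q (algebraMap A B)
    (Ideal.LiesOver.over (P := q) (p := p)))

theorem locModule_tower :
    letI := locModule A B p q M
    IsScalarTower A (Localization.AtPrime p) (LocalizedModule q.primeCompl M) := by
  letI := locModule A B p q M
  refine IsScalarTower.of_algebraMap_smul fun a x => ?_
  change (Localization.localRingHom p q (algebraMap A B) (Ideal.LiesOver.over (P := q) (p := p)))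
    (algebraMap A (Localization.AtPrime p) a) • x = a • x
  rw [Localization.localRingHom_to_map, algebraMap_smul, algebraMap_smul]

/-- the fibre of `M_q`: `M_q ⊗ κ(p) ≅ M_q / 𝔪 M_q` -/
noncomputable def fibreEquiv :
    letI := locModule A B p q M
    haveI := locModule_tower A B p q M
    (LocalizedModule q.primeCompl M ⊗[A] p.ResidueField) ≃ₗ[Localization.AtPrime p]
      (LocalizedModule q.primeCompl M ⧸ ((IsLocalRing.maximalIdeal (Localization.AtPrime p)) • ⊤ :
        Submodule (Localization.AtPrime p) (LocalizedModule q.primeCompl M))) :=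
  letI := locModule A B p q M
  haveI := locModule_tower A B p q M
  (IsLocalization.moduleTensorEquiv p.primeCompl (Localization.AtPrime p)
    (LocalizedModule q.primeCompl M) p.ResidueField).symm ≪≫ₗ
    TensorProduct.tensorQuotEquivQuotSMul (LocalizedModule q.primeCompl M)
      (IsLocalRing.maximalIdeal (Localization.AtPrime p))


theorem fibreEquiv_tmul_one (n : LocalizedModule q.primeCompl M) :
    letI := locModule A B p q M
    haveI := locModule_tower A B p q M
    fibreEquiv A B p q M (n ⊗ₜ[A] (1 : p.ResidueField)) = Submodule.Quotient.mk n := by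
  letI := locModule A B p q M
  haveI := locModule_tower A B p q M
  unfold fibreEquiv
  rw [LinearEquiv.trans_apply]
  have h1 : (IsLocalization.moduleTensorEquiv p.primeCompl (Localization.AtPrime p)
      (LocalizedModule q.primeCompl M) p.ResidueField).symm (n ⊗ₜ[A] (1 : p.ResidueField)) =
      n ⊗ₜ[Localization.AtPrime p] (1 : p.ResidueField) := by
    rw [LinearEquiv.symm_apply_eq]
    rfl
  rw [h1]
  exact TensorProduct.tensorQuotEquivQuotSMul_tmul_mk _ n 1 |>.trans (by rw [one_smul])

theorem mem_smul_top_of_tmul_eq_zero (n : LocalizedModule q.primeCompl M)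
    (hn : n ⊗ₜ[A] (1 : p.ResidueField) = 0) :
    n ∈ (p • ⊤ : Submodule A (LocalizedModule q.primeCompl M)) := by
  letI := locModule A B p q M
  haveI := locModule_tower A B p q M
  have h1 : (Submodule.Quotient.mk n : LocalizedModule q.primeCompl M ⧸
      ((IsLocalRing.maximalIdeal (Localization.AtPrime p)) • ⊤ :
        Submodule (Localization.AtPrime p) (LocalizedModule q.primeCompl M))) = 0 := by
    rw [← fibreEquiv_tmul_one, hn, map_zero]
  rw [Submodule.Quotient.mk_eq_zero, ← Localization.AtPrime.map_eq_maximalIdeal,
    ← Submodule.restrictScalars_mem A, Ideal.smul_restrictScalars,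
    Submodule.restrictScalars_top] at h1
  exact h1

theorem exists_tmul_one_eq (t : LocalizedModule q.primeCompl M ⊗[A] p.ResidueField) :
    ∃ n : LocalizedModule q.primeCompl M, n ⊗ₜ[A] (1 : p.ResidueField) = t := by
  letI := locModule A B p q M
  haveI := locModule_tower A B p q M
  obtain ⟨n, hn⟩ := Submodule.Quotient.mk_surjective _ (fibreEquiv A B p q M t)
  refine ⟨n, ?_⟩
  apply (fibreEquiv A B p q M).injective
  rw [fibreEquiv_tmul_one, hn]


/-- `n ↦ n ⊗ 1`, as a `B`-linear map -/
noncomputable def toFibre :
    LocalizedModule q.primeCompl M →ₗ[B] LocalizedModule q.primeCompl M ⊗[A] p.ResidueField where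
  toFun n := n ⊗ₜ[A] (1 : p.ResidueField)
  map_add' x y := TensorProduct.add_tmul x y 1
  map_smul' b x := rfl

theorem toFibre_apply (n : LocalizedModule q.primeCompl M) :
    toFibre A B p q M n = n ⊗ₜ[A] (1 : p.ResidueField) := rfl

theorem ker_toFibre :
    LinearMap.ker (toFibre A B p q M) =
      ((p.map (algebraMap A B)) • ⊤ : Submodule B (LocalizedModule q.primeCompl M)) := by
  have hK : ∀ x : LocalizedModule q.primeCompl M,
      x ∈ ((p.map (algebraMap A B)) • ⊤ : Submodule B (LocalizedModule q.primeCompl M)) ↔
        x ∈ (p • ⊤ : Submodule A (LocalizedModule q.primeCompl M)) := by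
    intro x
    rw [← Submodule.restrictScalars_top A B, ← Ideal.smul_restrictScalars,
      Submodule.restrictScalars_mem]
  apply le_antisymm
  · intro n hn
    rw [hK]
    exact mem_smul_top_of_tmul_eq_zero A B p q M n hn
  · intro x hx
    rw [hK] at hx
    rw [LinearMap.mem_ker]
    refine Submodule.smul_induction_on hx ?_ ?_
    · intro a ha n _
      rw [toFibre_apply, TensorProduct.smul_tmul, Algebra.smul_def, mul_one,
        Ideal.algebraMap_residueField_eq_zero.mpr ha, TensorProduct.tmul_zero]
    · intro x y hx hy
      rw [map_add, hx, hy, add_zero]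

theorem toFibre_surjective : Function.Surjective (toFibre A B p q M) :=
  fun t => exists_tmul_one_eq A B p q M t

/-- the fibre of `M_q` as a quotient, `B`-linearly -/
noncomputable def fibreQuotEquiv :
    (LocalizedModule q.primeCompl M ⧸
      ((p.map (algebraMap A B)) • ⊤ : Submodule B (LocalizedModule q.primeCompl M))) ≃ₗ[B]
      LocalizedModule q.primeCompl M ⊗[A] p.ResidueField :=
  (Submodule.quotEquivOfEq _ _ (ker_toFibre A B p q M).symm) ≪≫ₗ
    (toFibre A B p q M).quotKerEquivOfSurjective (toFibre_surjective A B p q M)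

end FibreIso


section LocI

variable {B : Type u} [CommRing B] (T : Submonoid B) (M : Type u) [AddCommGroup M] [Module B M]
  (I : Ideal B)

theorem localized₀_ideal_smul_top :
    (I • (⊤ : Submodule B M)).localized₀ T (LocalizedModule.mkLinearMap T M) =
      I • (⊤ : Submodule B (LocalizedModule T M)) := by
  rw [Submodule.localized₀_smul, Submodule.localized₀_top]

/-- localization commutes with the quotient by `I • ⊤` -/
noncomputable def localizedQuotEquiv :
    LocalizedModule T (M ⧸ (I • ⊤ : Submodule B M)) ≃ₗ[B]
      (LocalizedModule T M ⧸ (I • ⊤ : Submodule B (LocalizedModule T M))) :=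
  (IsLocalizedModule.iso T ((I • (⊤ : Submodule B M)).toLocalizedQuotient T)) ≪≫ₗ
    ((Submodule.Quotient.restrictScalarsEquiv B
      ((I • (⊤ : Submodule B M)).localized T)).symm ≪≫ₗ
      Submodule.quotEquivOfEq _ _ (localized₀_ideal_smul_top T M I))

end LocI

section S2586

open RingTheory.Sequence

variable {A B : Type u} [CommRing A] [CommRing B] [Algebra A B]

set_option maxHeartbeats 1000000 in
theorem S2586_main [Algebra.FinitePresentation A B] (M : Type u) [AddCommGroup M] [Module B M]
    [Module A M] [IsScalarTower A B M] [Module.FinitePresentation B M] (q : Ideal B) [q.IsPrime]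
    (g : List B) (hg : ∀ b ∈ g, b ∈ q)
    (hflat : Module.Flat A (LocalizedModule q.primeCompl M))
    (hreg : RingTheory.Sequence.IsRegular
      (LocalizedModule q.primeCompl (M ⊗[A] (q.comap (algebraMap A B)).ResidueField)) g) :
    RingTheory.Sequence.IsRegular (LocalizedModule q.primeCompl M) g ∧
      ∀ i ≤ g.length, Module.Flat A
        (LocalizedModule q.primeCompl
          (M ⧸ (Ideal.span {b | b ∈ g.take i} • (⊤ : Submodule B M)))) := by
  haveI hlo : q.LiesOver (q.comap (algebraMap A B)) := ⟨rfl⟩
  let e₁ : LocalizedModule q.primeCompl (M ⊗[A] (q.comap (algebraMap A B)).ResidueField) ≃ₗ[B]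
      (LocalizedModule q.primeCompl M) ⊗[A] (q.comap (algebraMap A B)).ResidueField :=
    IsLocalizedModule.iso q.primeCompl
      (AlgebraTensorModule.rTensor A (q.comap (algebraMap A B)).ResidueField
        (LocalizedModule.mkLinearMap q.primeCompl M))
  let e := e₁ ≪≫ₗ (fibreQuotEquiv A B (q.comap (algebraMap A B)) q M).symm
  have hw := (e.isWeaklyRegular_congr g).mp hreg.toIsWeaklyRegular
  obtain ⟨g₀, hg₀, H⟩ := seq_nhd A B (q.comap (algebraMap A B)) q g M hg hflat hw
  obtain ⟨hwq, hflq⟩ := H q.primeCompl
    (fun r _ hd => not_mem_of_disjoint_primeCompl B q hg₀ r hd)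
  refine ⟨⟨hwq, ?_⟩, fun i hi => ?_⟩
  · intro htop
    apply hreg.top_ne_smul
    let φ : LocalizedModule q.primeCompl M →ₗ[B]
        LocalizedModule q.primeCompl (M ⊗[A] (q.comap (algebraMap A B)).ResidueField) :=
      e.symm.toLinearMap ∘ₗ (Submodule.mkQ _)
    have hφ : LinearMap.range φ = ⊤ := by
      rw [LinearMap.range_comp, Submodule.range_mkQ, Submodule.map_top, LinearEquiv.range]
    calc (⊤ : Submodule B _) = Submodule.map φ ⊤ := by rw [Submodule.map_top, hφ]
      _ = Submodule.map φ (Ideal.ofList g • ⊤) := by rw [← htop]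
      _ = Ideal.ofList g • ⊤ := by rw [Submodule.map_smul'', Submodule.map_top, hφ]
  · haveI := hflq i hi
    exact Module.Flat.of_linearEquiv
      ((localizedQuotEquiv q.primeCompl M (Ideal.ofList (g.take i))).restrictScalars A)

end S2586

end Groth.Agent.Lead.RelReg
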