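import Mathlib
import Groth.Agent.Lib.Lead.RelReg8
import Groth.Prelude.Def_RegImm

set_option autoImplicit false
set_option backward.isDefEq.respectTransparency.types false
set_option synthInstance.maxHeartbeats 400000
set_option linter.style.haveILetI false
universe u

namespace Groth.Agent.Lead.RelReg

open TensorProduct RingTheory.Sequence Pointwise

section Tensor

variable (A B : Type u) [CommRing A] [CommRing B] [Algebra A B]
  (N : Type u) [AddCommGroup N] [Module A N]

/-- multiplication by `r` as an `A`-linear map -/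
noncomputable def smulA (M : Type u) [AddCommGroup M] [Module B M] [Module A M]
    [IsScalarTower A B M] (r : B) : M →ₗ[A] M :=
  (LinearMap.lsmul B M r).restrictScalars A

theorem smul_eq_rTensor (M : Type u) [AddCommGroup M] [Module B M] [Module A M]
    [IsScalarTower A B M] (r : B) (z : M ⊗[A] N) :
    r • z = (smulA A B M r).rTensor N z := by
  induction z using TensorProduct.induction_on with
  | zero => simp
  | tmul m n => rfl
  | add x y hx hy => rw [smul_add, hx, hy, map_add]

theorem isSMulRegular_tensor (M : Type u) [AddCommGroup M] [Module B M] [Module A M]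
    [IsScalarTower A B M] (r : B) (hr : IsSMulRegular M r)
    [Module.Flat A (QuotSMulTop r M)] : IsSMulRegular (M ⊗[A] N) r := by
  let π : M →ₗ[A] QuotSMulTop r M := (Submodule.mkQ (r • (⊤ : Submodule B M))).restrictScalars A
  have hπ : Function.Surjective π := fun y => by
    obtain ⟨x, rfl⟩ := Submodule.Quotient.mk_surjective _ y
    exact ⟨x, rfl⟩
  have hex : Function.Exact (smulA A B M r) π := by
    intro y
    constructor
    · intro hy
      have : y ∈ (r • (⊤ : Submodule B M)) := by
        rw [← Submodule.ker_mkQ (r • (⊤ : Submodule B M))]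
        exact hy
      obtain ⟨x, -, rfl⟩ := (Submodule.mem_smul_pointwise_iff_exists _ _ _).mp this
      exact ⟨x, rfl⟩
    · rintro ⟨x, rfl⟩
      change Submodule.mkQ (r • (⊤ : Submodule B M)) (r • x) = 0
      rw [Submodule.mkQ_apply, Submodule.Quotient.mk_eq_zero]
      exact Submodule.smul_mem_pointwise_smul x r ⊤ trivial
  have hinj := LinearMap.lTensor_injective_of_exact_of_flat π hπ (smulA A B M r) hr hex N
  rw [LinearMap.lTensor_inj_iff_rTensor_inj] at hinj
  intro x y hxy
  apply hinj
  rw [← smul_eq_rTensor, ← smul_eq_rTensor]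
  exact hxy

/-- the `B`-linear quotient map on tensor products -/
noncomputable def tensorMkQ (M : Type u) [AddCommGroup M] [Module B M] [Module A M]
    [IsScalarTower A B M] (r : B) : M ⊗[A] N →ₗ[B] (QuotSMulTop r M) ⊗[A] N :=
  AlgebraTensorModule.rTensor A N (Submodule.mkQ (r • (⊤ : Submodule B M)))

theorem tensorMkQ_surjective (M : Type u) [AddCommGroup M] [Module B M] [Module A M]
    [IsScalarTower A B M] (r : B) : Function.Surjective (tensorMkQ A B N M r) := by
  intro y
  induction y using TensorProduct.induction_on with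
  | zero => exact ⟨0, map_zero _⟩
  | tmul m n =>
    obtain ⟨x, rfl⟩ := Submodule.Quotient.mk_surjective _ m
    exact ⟨x ⊗ₜ n, rfl⟩
  | add x y hx hy =>
    obtain ⟨a, rfl⟩ := hx
    obtain ⟨b, rfl⟩ := hy
    exact ⟨a + b, map_add _ _ _⟩

theorem ker_tensorMkQ (M : Type u) [AddCommGroup M] [Module B M] [Module A M]
    [IsScalarTower A B M] (r : B) :
    LinearMap.ker (tensorMkQ A B N M r) = r • (⊤ : Submodule B (M ⊗[A] N)) := by
  let π : M →ₗ[A] QuotSMulTop r M := (Submodule.mkQ (r • (⊤ : Submodule B M))).restrictScalars A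
  have hπ : Function.Surjective π := fun y => by
    obtain ⟨x, rfl⟩ := Submodule.Quotient.mk_surjective _ y
    exact ⟨x, rfl⟩
  have hex : Function.Exact (smulA A B M r) π := by
    intro y
    constructor
    · intro hy
      have : y ∈ (r • (⊤ : Submodule B M)) := by
        rw [← Submodule.ker_mkQ (r • (⊤ : Submodule B M))]
        exact hy
      obtain ⟨x, -, rfl⟩ := (Submodule.mem_smul_pointwise_iff_exists _ _ _).mp this
      exact ⟨x, rfl⟩
    · rintro ⟨x, rfl⟩
      change Submodule.mkQ (r • (⊤ : Submodule B M)) (r • x) = 0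
      rw [Submodule.mkQ_apply, Submodule.Quotient.mk_eq_zero]
      exact Submodule.smul_mem_pointwise_smul x r ⊤ trivial
  have hex' := rTensor_exact N hex hπ
  ext x
  rw [LinearMap.mem_ker]
  have h1 : tensorMkQ A B N M r x = π.rTensor N x := by
    induction x using TensorProduct.induction_on with
    | zero => simp
    | tmul m n => rfl
    | add x y hx hy => rw [map_add, map_add, hx, hy]
  rw [h1, hex' x]
  constructor
  · rintro ⟨y, rfl⟩
    rw [← smul_eq_rTensor]
    exact Submodule.smul_mem_pointwise_smul y r ⊤ trivial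
  · intro hx
    obtain ⟨y, -, rfl⟩ := (Submodule.mem_smul_pointwise_iff_exists _ _ _).mp hx
    exact ⟨y, (smul_eq_rTensor A B N M r y).symm⟩

/-- `(M ⊗ N)/r ≃ (M/r) ⊗ N` -/
noncomputable def quotSMulTopTensorEquiv (M : Type u) [AddCommGroup M] [Module B M] [Module A M]
    [IsScalarTower A B M] (r : B) :
    QuotSMulTop r (M ⊗[A] N) ≃ₗ[B] (QuotSMulTop r M) ⊗[A] N :=
  (Submodule.quotEquivOfEq _ _ (ker_tensorMkQ A B N M r).symm) ≪≫ₗ
    (tensorMkQ A B N M r).quotKerEquivOfSurjective (tensorMkQ_surjective A B N M r)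

theorem isWeaklyRegular_tensor (rs : List B) :
    ∀ (M : Type u) [AddCommGroup M] [Module B M] [Module A M] [IsScalarTower A B M],
      IsWeaklyRegular M rs →
      (∀ i ≤ rs.length, Module.Flat A (M ⧸ (Ideal.ofList (rs.take i) • ⊤ : Submodule B M))) →
      IsWeaklyRegular (M ⊗[A] N) rs := by
  induction rs with
  | nil => intro M _ _ _ _ _ _; exact IsWeaklyRegular.nil B _
  | cons r rs ih =>
    intro M _ _ _ _ hw hfl
    rw [isWeaklyRegular_cons_iff] at hw ⊢
    obtain ⟨hr, hw'⟩ := hw
    have hflQ : ∀ i ≤ rs.length, Module.Flat A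
        (QuotSMulTop r M ⧸ (Ideal.ofList (rs.take i) • ⊤ : Submodule B (QuotSMulTop r M))) := by
      intro i hi
      haveI := hfl (i + 1) (by simpa using hi)
      rw [List.take_succ_cons] at this
      exact Module.Flat.of_linearEquiv
        ((Submodule.quotOfListConsSMulTopEquivQuotSMulTopInner M r (rs.take i)).symm.restrictScalars A)
    haveI : Module.Flat A (QuotSMulTop r M) := by
      haveI := hflQ 0 (Nat.zero_le _)
      have hbot : (Ideal.ofList (rs.take 0) • ⊤ : Submodule B (QuotSMulTop r M)) = ⊥ := by simp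
      exact Module.Flat.of_linearEquiv
        ((Submodule.quotEquivOfEqBot _ hbot).symm.restrictScalars A)
    refine ⟨isSMulRegular_tensor A B N M r hr, ?_⟩
    exact (LinearEquiv.isWeaklyRegular_congr (quotSMulTopTensorEquiv A B N M r) rs).mpr
      (ih (QuotSMulTop r M) hw' hflQ)

end Tensor

section Pushout

open CategoryTheory

variable (A B : Type u) [CommRing A] [CommRing B] [Algebra A B]

/-- the flatness clause of `IsTransRegularSeq`, in submodule-quotient form -/
theorem flat_quot_smul_top_of_flat_quot (I : Ideal B) [h : Module.Flat A (B ⧸ I)] :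
    Module.Flat A (B ⧸ (I • ⊤ : Submodule B B)) := by
  have hI : (I • ⊤ : Submodule B B) = I := by
    rw [Ideal.smul_top_eq_map, Algebra.algebraMap_self, Ideal.map_id]
    rfl
  exact Module.Flat.of_linearEquiv ((Submodule.quotEquivOfEq _ _ hI).restrictScalars A)

theorem isWeaklyRegular_tensor_ring (A' : Type u) [CommRing A'] [Algebra A A'] (rs : List B)
    (hrs : IsWeaklyRegular B rs)
    (hfl : ∀ i ≤ rs.length, Module.Flat A (B ⧸ Ideal.ofList (rs.take i))) :
    IsWeaklyRegular (B ⊗[A] A')
      (rs.map (Algebra.TensorProduct.includeLeft : B →ₐ[A] B ⊗[A] A')) := by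
  have h1 := isWeaklyRegular_tensor A B A' rs B hrs
    (fun i hi => by haveI := hfl i hi; exact flat_quot_smul_top_of_flat_quot A B _)
  exact (isWeaklyRegular_map_algebraMap_iff (B ⊗[A] A') (B ⊗[A] A') rs).mpr h1

theorem isWeaklyRegular_of_isPushout {A B A' P : CommRingCat.{u}} (α : A ⟶ B) (β : A ⟶ A')
    (inl : B ⟶ P) (inr : A' ⟶ P) (h : IsPushout α β inl inr) (rs : List B)
    (hrs : IsWeaklyRegular B rs)
    (hfl : letI := α.hom.toAlgebra
      ∀ i ≤ rs.length, Module.Flat A (B ⧸ Ideal.ofList (rs.take i))) :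
    IsWeaklyRegular P (rs.map inl.hom) := by
  letI : Algebra A B := α.hom.toAlgebra
  letI : Algebra A A' := β.hom.toAlgebra
  have hα : CommRingCat.ofHom (algebraMap A B) = α := rfl
  have hβ : CommRingCat.ofHom (algebraMap A A') = β := rfl
  have hpo := CommRingCat.isPushout_tensorProduct A B A'
  rw [hα, hβ] at hpo
  obtain ⟨e, he⟩ : ∃ e : CommRingCat.of (B ⊗[A] A') ≅ P, e = hpo.isoIsPushout _ _ h := ⟨_, rfl⟩
  have hinl : CommRingCat.ofHom
      ((Algebra.TensorProduct.includeLeft : B →ₐ[A] B ⊗[A] A').toRingHom) ≫ e.hom = inl := by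
    rw [he]; exact hpo.inl_isoIsPushout_hom _ _ h
  have hmap : rs.map inl.hom =
      (rs.map (Algebra.TensorProduct.includeLeft : B →ₐ[A] B ⊗[A] A')).map e.hom.hom := by
    rw [List.map_map]
    apply List.map_congr_left
    intro b _
    rw [← hinl]
    rfl
  rw [hmap]
  letI : Algebra (B ⊗[A] A') P := e.hom.hom.toAlgebra
  haveI : Module.Flat (B ⊗[A] A') P :=
    RingHom.Flat.of_bijective (ConcreteCategory.bijective_of_isIso e.hom)
  exact IsWeaklyRegular.of_flat (R := (B ⊗[A] A')) (S := P)
    (isWeaklyRegular_tensor_ring A B A' rs hrs hfl)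

end Pushout

section Away

variable (A B : Type u) [CommRing A] [CommRing B] [Algebra A B] (g : B) (hs : List B)
  (B' : Type u) [CommRing B'] [Algebra B B'] [Algebra A B'] [IsScalarTower A B B']

/-- quotient of an algebra `B'` by the extension of an ideal `I` of `B`, as an `A`-module -/
noncomputable def quotMapEquiv (I : Ideal B) :
    (B' ⧸ (I • ⊤ : Submodule B B')) ≃ₗ[A] (B' ⧸ I.map (algebraMap B B')) :=
  let e2 := (Submodule.Quotient.restrictScalarsEquiv A (I • (⊤ : Submodule B B'))).symm
  let e3 := Submodule.quotEquivOfEq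
    ((I • (⊤ : Submodule B B')).restrictScalars A)
    ((I.map (algebraMap B B')).restrictScalars A) (by
      rw [Ideal.smul_top_eq_map]
      rfl)
  let e4 := Submodule.Quotient.restrictScalarsEquiv A (I.map (algebraMap B B'))
  e2.trans (e3.trans e4)

variable [IsLocalization.Away g B']

/-- the conclusions of `seq_nhd` read off in a localization `B'` of `B` away from `g` -/
theorem seq_away
    (h1 : IsWeaklyRegular (LocalizedModule (Submonoid.powers g) B) hs)
    (h2 : ∀ i ≤ hs.length, Module.Flat A
      (LocalizedModule (Submonoid.powers g) B ⧸ (Ideal.ofList (hs.take i) • ⊤ :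
        Submodule B (LocalizedModule (Submonoid.powers g) B)))) :
    RegImm.IsTransRegularSeq A B' (hs.map (algebraMap B B')) := by
  let e : LocalizedModule (Submonoid.powers g) B ≃ₗ[B] B' :=
    IsLocalizedModule.iso (Submonoid.powers g) (Algebra.linearMap B B')
  refine ⟨?_, ?_⟩
  · exact (isWeaklyRegular_map_algebraMap_iff B' B' hs).mpr ((e.isWeaklyRegular_congr hs).mp h1)
  · intro j hj
    rw [List.length_map] at hj
    rw [← List.map_take, ← Ideal.map_ofList]
    haveI := h2 j hj
    exact Module.Flat.of_linearEquiv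
      (((quotSMulTopCongr (Ideal.ofList (hs.take j)) e).restrictScalars A).trans
        (quotMapEquiv A B B' (Ideal.ofList (hs.take j)))).symm

end Away

end Groth.Agent.Lead.RelReg
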