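import Mathlib
import Groth.Agent.Lib.Lead.RelReg9
import Groth.Agent.Lib.Helper4.RelRegBC1

set_option autoImplicit false
set_option backward.isDefEq.respectTransparency.types false
set_option synthInstance.maxHeartbeats 400000
set_option linter.style.haveILetI false
universe u

open AlgebraicGeometry CategoryTheory CategoryTheory.Limits TopologicalSpace RingTheory.Sequence

namespace Groth.Agent.Lead.RelReg

open Groth.Agent.Lib.Helper4.RelRegBC1 Groth.Agent.Lib.Helper4.QuasiRegImm1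

set_option maxHeartbeats 1000000 in
/-- base change of a transversally regular immersion is a regular immersion (pointwise form) -/
theorem isRegularImmersionAt_of_isPullback_of_transRegular {Z X S S' X' Z' : Scheme.{u}}
    (f : X ⟶ S) (i : Z ⟶ X) (g : S' ⟶ S) (f' : X' ⟶ S') (gX : X' ⟶ X)
    (hX : IsPullback gX f' f g) (i' : Z' ⟶ X') (gZ : Z' ⟶ Z) (hZ : IsPullback gZ i' i gX)
    (z' : Z') (h : RegImm.IsTransRegularImmersionAt f i (gZ z')) :
    RegImm.IsRegularImmersionAt .regular i' z' := by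
  obtain ⟨U, V, e, hzU, hcl, rs, ⟨hrs, hfl⟩, hker⟩ := h
  obtain ⟨x', hx'⟩ : ∃ x' : X', x' = i' z' := ⟨_, rfl⟩
  have hx : gX x' = i (gZ z') := by
    rw [hx']
    have h1 : (i' ≫ gX) z' = (gZ ≫ i) z' := by rw [hZ.w]
    exact h1
  have hs : g (f' x') = f (i (gZ z')) := by
    rw [← hx]
    have h1 : (f' ≫ g) x' = (gX ≫ f) x' := by rw [hX.w]
    exact h1
  obtain ⟨V', hV', hs'V', hV'V⟩ := Opens.isBasis_iff_nbhd.mp (S'.isBasis_affineOpens)
    (show f' x' ∈ g ⁻¹ᵁ V.1 from by change g _ ∈ V.1; rw [hs]; exact e hzU)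
  obtain ⟨UY, hUYdef⟩ : ∃ UY : X'.Opens, UY = gX ⁻¹ᵁ U.1 ⊓ f' ⁻¹ᵁ V' := ⟨_, rfl⟩
  have hx'UY : x' ∈ UY := by
    rw [hUYdef]
    refine ⟨?_, hs'V'⟩
    change gX x' ∈ U.1
    rw [hx]; exact hzU
  have hUYaff : IsAffineOpen UY := by
    haveI : IsAffine (V.1 : Scheme.{u}) := V.2
    haveI : IsAffine (V' : Scheme.{u}) := hV'
    haveI : IsAffine (U.1 : Scheme.{u}) := U.2
    exact .of_isIso (Scheme.Hom.isPullback_resLE hX hV'V e hUYdef).isoPullback.hom
  have hiso := AlgebraicGeometry.isIso_pushoutSection_of_isAffineOpen hX hV'V e hUYdef V.2 hV' U.2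
  have hpo := (AlgebraicGeometry.isIso_pushoutSection_iff hX hV'V e hUYdef).mp hiso
  have hUYU : UY ≤ gX ⁻¹ᵁ U.1 := by rw [hUYdef]; exact inf_le_left
  haveI := hcl
  obtain ⟨hcl', hk'⟩ := closedImmersion_ker_of_isPullback i gX i' gZ hZ U.1 U.2 UY hUYaff hUYU
  have hker' : RingHom.ker (i'.app UY).hom =
      Ideal.ofList (rs.map (gX.appLE U.1 UY hUYU).hom) := by
    rw [hk', hker, Ideal.map_ofList]
  have hz'UY : i' z' ∈ UY := by rw [← hx']; exact hx'UY
  refine ⟨⟨UY, hUYaff⟩, hz'UY, hcl', _, ⟨?_, ?_⟩, hker'⟩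
  · exact isWeaklyRegular_of_isPushout _ _ _ _ hpo rs hrs hfl
  · intro htop
    have h1 : (Ideal.ofList (rs.map (gX.appLE U.1 UY hUYU).hom) • ⊤ : Submodule Γ(X', UY) Γ(X', UY))
        = Ideal.ofList (rs.map (gX.appLE U.1 UY hUYU).hom) := by
      rw [smul_eq_mul, Ideal.mul_top]
    rw [h1, ← hker'] at htop
    haveI : Nonempty ↥(i' ⁻¹ᵁ UY) := ⟨⟨z', hz'UY⟩⟩
    exact RingHom.ker_ne_top _ htop.symm

end Groth.Agent.Lead.RelReg
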