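import Mathlib
import Groth.Agent.Lib.Lead.RelReg10

set_option autoImplicit false
set_option backward.isDefEq.respectTransparency.types false
set_option synthInstance.maxHeartbeats 400000
set_option linter.style.haveILetI false
universe u

open AlgebraicGeometry CategoryTheory CategoryTheory.Limits TopologicalSpace RingTheory.Sequence

namespace Groth.Agent.Lead.RelReg

open Groth.Agent.Lib.Helper4.RelRegBC1 Groth.Agent.Lib.Helper4.QuasiRegImm1
  Groth.Agent.Lib.Helper4.RegFlatBC1

/-- a transversally regular immersion is a regular immersion (pointwise) -/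
theorem isRegularImmersionAt_of_transRegular {Z X S : Scheme.{u}} (f : X ⟶ S) (i : Z ⟶ X) (z : Z)
    (h : RegImm.IsTransRegularImmersionAt f i z) : RegImm.IsRegularImmersionAt .regular i z :=
  isRegularImmersionAt_of_isPullback_of_transRegular f i (𝟙 S) f (𝟙 X) IsPullback.of_id_fst
    i (𝟙 Z) IsPullback.of_id_fst z h

/-- closed-immersion form, with the `pullback.map` of the statement -/
theorem isRegularClosedImmersion_pullback_map {Z X S S' : Scheme.{u}} (fU : X ⟶ S) (i : Z ⟶ X)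
    [IsClosedImmersion i] (hi : ∀ z, RegImm.IsTransRegularImmersionAt fU i z) (g : S' ⟶ S)
    (a : Z ⟶ S) (ha : a = i ≫ fU) (h1 : a ≫ 𝟙 S = i ≫ fU) (h2 : g ≫ 𝟙 S = 𝟙 S' ≫ g) :
    Mor2.IsRegularClosedImmersion (pullback.map a g fU g i (𝟙 S') (𝟙 S) h1 h2) := by
  subst ha
  have hright := (IsPullback.of_hasPullback fU g).flip
  have hbig : IsPullback (pullback.map (i ≫ fU) g fU g i (𝟙 S') (𝟙 S) h1 h2 ≫ pullback.snd fU g)
      (pullback.fst (i ≫ fU) g) g (i ≫ fU) := by
    have : pullback.map (i ≫ fU) g fU g i (𝟙 S') (𝟙 S) h1 h2 ≫ pullback.snd fU g =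
        pullback.snd (i ≫ fU) g := by
      unfold pullback.map
      rw [pullback.lift_snd, Category.comp_id]
    rw [this]
    exact (IsPullback.of_hasPullback (i ≫ fU) g).flip
  have hsq := (IsPullback.of_right hbig (by
    unfold pullback.map
    rw [pullback.lift_fst]) hright).flip
  haveI : IsClosedImmersion (pullback.map (i ≫ fU) g fU g i (𝟙 S') (𝟙 S) h1 h2) :=
    MorphismProperty.of_isPullback (P := @IsClosedImmersion) hsq inferInstance
  apply mor2_of_regImm
  refine ⟨inferInstance, fun z' => ?_⟩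
  exact isRegularImmersionAt_of_isPullback_of_transRegular fU i g (pullback.snd fU g)
    (pullback.fst fU g) (IsPullback.of_hasPullback fU g) _ (pullback.fst (i ≫ fU) g) hsq z' (hi _)

theorem isRegularClosedImmersion_of_transRegular {Z X S : Scheme.{u}} (f : X ⟶ S) (i : Z ⟶ X)
    [IsClosedImmersion i] (hi : ∀ z, RegImm.IsTransRegularImmersionAt f i z) :
    Mor2.IsRegularClosedImmersion i := by
  apply mor2_of_regImm
  exact ⟨inferInstance, fun z => isRegularImmersionAt_of_transRegular f i z (hi z)⟩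

/-- transport of a transversally regular sequence along a ring isomorphism -/
theorem isTransRegularSeq_of_ringEquiv {A B B' : Type u} [CommRing A] [CommRing B] [CommRing B']
    (α : A →+* B) (α' : A →+* B') (θ : B ≃+* B') (hθ : θ.toRingHom.comp α = α') (rs : List B)
    (h : letI := α.toAlgebra
      RegImm.IsTransRegularSeq A B rs) :
    letI := α'.toAlgebra
    RegImm.IsTransRegularSeq A B' (rs.map θ) := by
  subst hθ
  letI : Algebra A B := α.toAlgebra
  letI : Algebra A B' := (θ.toRingHom.comp α).toAlgebra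
  let θA : B ≃ₐ[A] B' := AlgEquiv.ofRingEquiv (f := θ) (fun a => rfl)
  obtain ⟨hw, hfl⟩ := h
  refine ⟨?_, ?_⟩
  · letI : Algebra B B' := θ.toRingHom.toAlgebra
    haveI : Module.Flat B B' := RingHom.Flat.of_bijective θ.bijective
    exact IsWeaklyRegular.of_flat (R := B) (S := B') hw
  · intro j hj
    rw [List.length_map] at hj
    haveI := hfl j hj
    have hI : Ideal.ofList ((rs.map θ).take j) = (Ideal.ofList (rs.take j)).map (θA : B →+* B') := by
      rw [← List.map_take, Ideal.map_ofList]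
      rfl
    exact Module.Flat.of_linearEquiv
      (Ideal.quotientEquivAlg (Ideal.ofList (rs.take j)) _ θA hI).toLinearEquiv.symm


theorem ι_comp_appLE_top {X S : Scheme.{u}} (f : X ⟶ S) (V : S.Opens) (U : X.Opens)
    (hUV : U ≤ f ⁻¹ᵁ V) (e : (⊤ : (U : Scheme.{u}).Opens) ≤ (U.ι ≫ f) ⁻¹ᵁ V) :
    (U.ι ≫ f).appLE V ⊤ e = f.appLE V U hUV ≫ U.topIso.inv := by
  have h0 : (⊤ : (U : Scheme.{u}).Opens) ≤ U.ι ⁻¹ᵁ U := fun y _ => y.2
  rw [← Scheme.Hom.appLE_comp_appLE U.ι f V U ⊤ hUV h0]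
  congr 1
  rw [Scheme.Opens.ι_appLE]
  rfl

theorem ker_app_top_spec_quot {X : Scheme.{u}} {U : X.Opens} (hU : IsAffineOpen U)
    (I : Ideal Γ(X, U)) :
    RingHom.ker ((Spec.map (CommRingCat.ofHom (Ideal.Quotient.mk I)) ≫ hU.isoSpec.inv).app ⊤).hom =
      I.comap U.topIso.hom.hom := by
  have h1 : (Spec.map (CommRingCat.ofHom (Ideal.Quotient.mk I)) ≫ hU.isoSpec.inv).appTop =
      U.topIso.hom ≫ CommRingCat.ofHom (Ideal.Quotient.mk I) ≫
        (Scheme.ΓSpecIso (CommRingCat.of (Γ(X, U) ⧸ I))).inv := by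
    rw [Scheme.Hom.comp_appTop, IsAffineOpen.isoSpec_inv_appTop, Category.assoc,
      Scheme.ΓSpecIso_inv_naturality]
  have h2 : ∀ a, ((Spec.map (CommRingCat.ofHom (Ideal.Quotient.mk I)) ≫ hU.isoSpec.inv).app ⊤).hom a
      = (Scheme.ΓSpecIso (CommRingCat.of (Γ(X, U) ⧸ I))).inv.hom
        (Ideal.Quotient.mk I (U.topIso.hom.hom a)) := by
    intro a
    exact congrArg (fun φ => φ.hom a) h1
  have hinj : Function.Injective (Scheme.ΓSpecIso (CommRingCat.of (Γ(X, U) ⧸ I))).inv.hom :=
    (ConcreteCategory.bijective_of_isIso (Scheme.ΓSpecIso (CommRingCat.of (Γ(X, U) ⧸ I))).inv).1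
  ext a
  rw [RingHom.mem_ker, Ideal.mem_comap, h2, ← Ideal.Quotient.eq_zero_iff_mem]
  constructor
  · intro h
    apply hinj
    rw [map_zero]
    exact h
  · intro h
    rw [h]
    exact map_zero _

theorem comap_symm_ofList {B B' : Type u} [CommRing B] [CommRing B'] (θ : B ≃+* B')
    (φ : B' →+* B) (hφ : ∀ b, φ b = θ.symm b) (rs : List B) :
    Ideal.comap φ (Ideal.ofList rs) = Ideal.ofList (rs.map θ) := by
  have h1 : Ideal.ofList (rs.map θ) = Ideal.map θ.toRingHom (Ideal.ofList rs) :=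
    (Ideal.map_ofList θ.toRingHom rs).symm
  rw [h1]
  ext b
  rw [Ideal.mem_comap, hφ]
  constructor
  · intro h
    have := Ideal.mem_map_of_mem θ.toRingHom h
    simpa using this
  · intro h
    obtain ⟨c, hc, rfl⟩ := (Ideal.mem_map_iff_of_surjective θ.toRingHom θ.surjective).mp h
    simpa using hc

/-- the ring isomorphism `Γ(X, U) ≃ Γ(↑U, ⊤)` -/
noncomputable def topEquiv {X : Scheme.{u}} (U : X.Opens) : Γ(X, U) ≃+* Γ(U, ⊤) :=
  U.topIso.symm.commRingCatIsoToRingEquiv

set_option maxHeartbeats 1000000 in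
/-- the closed subscheme of an affine open cut out by a transversally regular sequence is a
transversally regular immersion -/
theorem transReg_spec_quot {X S : Scheme.{u}} (f : X ⟶ S) {V : S.Opens} {U : X.Opens}
    (hV : IsAffineOpen V) (hU : IsAffineOpen U) (hUV : U ≤ f ⁻¹ᵁ V) (rs : List Γ(X, U))
    (htr : letI := (f.appLE V U hUV).hom.toAlgebra
      RegImm.IsTransRegularSeq Γ(S, V) Γ(X, U) rs)
    (z : ↥(Spec (CommRingCat.of (Γ(X, U) ⧸ Ideal.ofList rs)))) :
    RegImm.IsTransRegularImmersionAt (U.ι ≫ f)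
      (Spec.map (CommRingCat.ofHom (Ideal.Quotient.mk (Ideal.ofList rs))) ≫ hU.isoSpec.inv) z := by
  haveI : IsAffine (U : Scheme.{u}) := hU
  have e : (⊤ : (U : Scheme.{u}).Opens) ≤ (U.ι ≫ f) ⁻¹ᵁ V := fun y _ => hUV y.2
  refine ⟨⟨⊤, isAffineOpen_top _⟩, ⟨V, hV⟩, e, trivial, inferInstance,
    rs.map (topEquiv U), ?_, ?_⟩
  · have hcomp : (topEquiv U).toRingHom.comp (f.appLE V U hUV).hom =
        ((U.ι ≫ f).appLE V ⊤ e).hom := by
      rw [ι_comp_appLE_top f V U hUV e]
      rfl
    exact isTransRegularSeq_of_ringEquiv (f.appLE V U hUV).hom _ (topEquiv U) hcomp rs htr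
  · rw [ker_app_top_spec_quot hU]
    exact comap_symm_ofList (topEquiv U) U.topIso.hom.hom (fun b => rfl) rs

end Groth.Agent.Lead.RelReg
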