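import Mathlib
import Groth.Agent.Lib.Lead.RelReg4

set_option autoImplicit false
set_option backward.isDefEq.respectTransparency.types false
set_option synthInstance.maxHeartbeats 400000
set_option linter.style.haveILetI false
universe u

namespace Groth.Agent.Lead.RelReg

open TensorProduct Polynomial Pointwise

section Translate

variable (A B : Type u) [CommRing A] [CommRing B] [Algebra A B]
  (p : Ideal A) [p.IsPrime] (q : Ideal B) [q.IsPrime] [q.LiesOver p]

/-- the fibre regularity hypothesis, read off in a localization `L` of `B` at `q` -/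
theorem hreg_of_nonZeroDivisors (L : Type u) [CommRing L] [Algebra B L] [Algebra A L]
    [IsScalarTower A B L] [IsLocalization.AtPrime L q] (J : Ideal L)
    (hJ : J = p.map (algebraMap A L)) (h₀ : B)
    (hnzd : Ideal.Quotient.mk J (algebraMap B L h₀) ∈ nonZeroDivisors (L ⧸ J))
    (n : LocalizedModule q.primeCompl B)
    (hn : h₀ • n ∈ (p • ⊤ : Submodule A (LocalizedModule q.primeCompl B))) :
    n ∈ (p • ⊤ : Submodule A (LocalizedModule q.primeCompl B)) := by
  let e : LocalizedModule q.primeCompl B ≃ₗ[B] L :=
    IsLocalizedModule.iso q.primeCompl (Algebra.linearMap B L)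
  let eA : LocalizedModule q.primeCompl B ≃ₗ[A] L := e.restrictScalars A
  have hmem : ∀ m : LocalizedModule q.primeCompl B,
      m ∈ (p • ⊤ : Submodule A (LocalizedModule q.primeCompl B)) ↔ e m ∈ J := by
    intro m
    have h1 : Submodule.map eA.toLinearMap (p • ⊤ : Submodule A (LocalizedModule q.primeCompl B)) =
        (p • ⊤ : Submodule A L) := by
      rw [Submodule.map_smul'', Submodule.map_top, LinearEquiv.range]
    have h2 : e m ∈ J ↔ e m ∈ (p • ⊤ : Submodule A L) := by
      rw [hJ, Ideal.smul_top_eq_map, Submodule.restrictScalars_mem]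
    rw [h2, ← h1]
    constructor
    · intro hm
      exact ⟨m, hm, rfl⟩
    · rintro ⟨m', hm', hmm'⟩
      have : m' = m := eA.injective hmm'
      exact this ▸ hm'
  rw [hmem] at hn ⊢
  rw [map_smul, Algebra.smul_def] at hn
  have h3 : Ideal.Quotient.mk J (e n) * Ideal.Quotient.mk J (algebraMap B L h₀) = 0 := by
    rw [← map_mul, mul_comm]
    exact Ideal.Quotient.eq_zero_iff_mem.mpr hn
  exact Ideal.Quotient.eq_zero_iff_mem.mp ((mem_nonZeroDivisors_iff.mp hnzd).2 _ h3)

end Translate


section Away

variable (A B : Type u) [CommRing A] [CommRing B] [Algebra A B] (g h₀ : B)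
  (B' : Type u) [CommRing B'] [Algebra B B'] [Algebra A B'] [IsScalarTower A B B']
  [IsLocalization.Away g B']

/-- the conclusions of `exists_nhd` read off in a localization `B'` of `B` away from `g` -/
theorem away_of_localizedModule
    (h1 : IsSMulRegular (LocalizedModule (Submonoid.powers g) B) h₀)
    (h2 : Module.Flat A (QuotSMulTop h₀ (LocalizedModule (Submonoid.powers g) B))) :
    algebraMap B B' h₀ ∈ nonZeroDivisors B' ∧
      Module.Flat A (B' ⧸ Ideal.span {algebraMap B B' h₀}) := by
  let e : LocalizedModule (Submonoid.powers g) B ≃ₗ[B] B' :=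
    IsLocalizedModule.iso (Submonoid.powers g) (Algebra.linearMap B B')
  have hreg : IsSMulRegular B' h₀ := (e.isSMulRegular_congr h₀).mp h1
  refine ⟨?_, ?_⟩
  · rw [mem_nonZeroDivisors_iff_right]
    intro x hx
    apply hreg
    simp only [smul_zero]
    rw [Algebra.smul_def, mul_comm]
    exact hx
  · let e1 : QuotSMulTop h₀ (LocalizedModule (Submonoid.powers g) B) ≃ₗ[B] QuotSMulTop h₀ B' :=
      QuotSMulTop.congr h₀ e
    have heq : (h₀ • (⊤ : Submodule B B')).restrictScalars A =
        (Ideal.span {algebraMap B B' h₀} : Ideal B').restrictScalars A := by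
      ext x
      simp only [Submodule.restrictScalars_mem]
      rw [Submodule.mem_smul_pointwise_iff_exists, Ideal.mem_span_singleton']
      simp only [Submodule.mem_top, true_and, Algebra.smul_def, mul_comm]
    let e2 := (Submodule.Quotient.restrictScalarsEquiv A (h₀ • (⊤ : Submodule B B'))).symm
    let e3 := Submodule.quotEquivOfEq _ _ heq
    let e4 := Submodule.Quotient.restrictScalarsEquiv A (Ideal.span {algebraMap B B' h₀} : Ideal B')
    haveI := h2
    exact Module.Flat.of_linearEquiv
      ((e1.restrictScalars A).trans (e2.trans (e3.trans e4))).symm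

end Away

end Groth.Agent.Lead.RelReg
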