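import Mathlib
import Groth.Agent.Lib.Lead.RelReg5
import Groth.Agent.Lib.Lead.CritFib16
import Groth.Agent.Lib.Lead.FlatLoc13

set_option autoImplicit false
set_option backward.isDefEq.respectTransparency.types false
set_option synthInstance.maxHeartbeats 400000
set_option linter.style.haveILetI false
universe u

open AlgebraicGeometry CategoryTheory TopologicalSpace

namespace Groth.Agent.Lead.RelReg

open Groth.Agent.Lead.FO Groth.Agent.Lead.SD Scheme.Modules

/-- ring-level package at a point of an affine open -/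
theorem slice_affine {X S : Scheme.{u}} (f : X ⟶ S) [LocallyOfFinitePresentation f]
    {V : S.Opens} {U : X.Opens} (hV : IsAffineOpen V) (hU : IsAffineOpen U) (hUV : U ≤ f ⁻¹ᵁ V)
    (x : U) (hflat : (f.stalkMap x.1).hom.Flat) (h₀ : Γ(X, U))
    (hm : X.presheaf.germ U x.1 x.2 h₀ ∈ IsLocalRing.maximalIdeal (X.presheaf.stalk x.1))
    (hreg : Ideal.Quotient.mk (Ideal.map (f.stalkMap x.1).hom
        (IsLocalRing.maximalIdeal (S.presheaf.stalk (f x.1)))) (X.presheaf.germ U x.1 x.2 h₀) ∈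
      nonZeroDivisors (X.presheaf.stalk x.1 ⧸ Ideal.map (f.stalkMap x.1).hom
        (IsLocalRing.maximalIdeal (S.presheaf.stalk (f x.1))))) :
    letI := (f.appLE V U hUV).hom.toAlgebra
    ∃ g : Γ(X, U), x.1 ∈ X.basicOpen g ∧
      IsSMulRegular (LocalizedModule (Submonoid.powers g) Γ(X, U)) h₀ ∧
      Module.Flat Γ(S, V) (QuotSMulTop h₀ (LocalizedModule (Submonoid.powers g) Γ(X, U))) := by
  let sV : V := ⟨f x.1, hUV x.2⟩
  letI algAB : Algebra Γ(S, V) Γ(X, U) := (f.appLE V U hUV).hom.toAlgebra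
  haveI fpAB : Algebra.FinitePresentation Γ(S, V) Γ(X, U) :=
    HasRingHomProperty.appLE (P := @LocallyOfFinitePresentation) f inferInstance
      ⟨V, hV⟩ ⟨U, hU⟩ hUV
  letI algBL := X.presheaf.algebra_section_stalk x
  haveI locL := hU.isLocalization_stalk x
  haveI hlo : (hU.primeIdealOf x).asIdeal.LiesOver (hV.primeIdealOf sV).asIdeal := ⟨by
    have := IsAffineOpen.comap_primeIdealOf_appLE (f := f) V hV U hU hUV x.2
    exact (congrArg PrimeSpectrum.asIdeal this).symm⟩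
  letI algAS := S.presheaf.algebra_section_stalk sV
  haveI locS := hV.isLocalization_stalk sV
  letI algAL : Algebra Γ(S, V) (X.presheaf.stalk x.1) :=
    ((algebraMap Γ(X, U) (X.presheaf.stalk x.1)).comp (algebraMap Γ(S, V) Γ(X, U))).toAlgebra
  haveI : IsScalarTower Γ(S, V) Γ(X, U) (X.presheaf.stalk x.1) :=
    IsScalarTower.of_algebraMap_eq fun _ => rfl
  have h𝔪 : Ideal.map (f.stalkMap x.1).hom
      (IsLocalRing.maximalIdeal ↑(S.presheaf.stalk (f x.1))) =
      ((hV.primeIdealOf sV).asIdeal).map (algebraMap Γ(S, V) (X.presheaf.stalk x.1)) := by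
    rw [← IsLocalization.AtPrime.map_eq_maximalIdeal (hV.primeIdealOf sV).asIdeal
      (S.presheaf.stalk (f x.1)), Ideal.map_map]
    congr 1
    ext r
    exact stalkMap_germ_eq f hUV x r
  have hfl : Module.Flat Γ(S, V)
      (LocalizedModule (hU.primeIdealOf x).asIdeal.primeCompl Γ(X, U)) := by
    have h1 := (Groth.Agent.Lib.Helper4.RelEffCartierFlat1.flat_stalkMap_iff f V hV U hU hUV
      x.2).mp hflat
    have h2 := (Groth.Agent.Lead.FlatLoc.flat_localRingHom_iff (f.appLE V U hUV).hom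
      (hU.primeIdealOf x).asIdeal).mp h1
    exact h2
  have hq : h₀ ∈ (hU.primeIdealOf x).asIdeal :=
    (IsLocalization.AtPrime.to_map_mem_maximal_iff (X.presheaf.stalk x.1)
      (hU.primeIdealOf x).asIdeal h₀).mp hm
  obtain ⟨g, hg, hT⟩ := exists_nhd Γ(S, V) Γ(X, U) Γ(X, U) (hV.primeIdealOf sV).asIdeal
    (hU.primeIdealOf x).asIdeal h₀ hq hfl
    (fun n hn => hreg_of_nonZeroDivisors Γ(S, V) Γ(X, U) (hV.primeIdealOf sV).asIdeal
      (hU.primeIdealOf x).asIdeal (X.presheaf.stalk x.1) _ h𝔪 h₀ hreg n hn)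
  refine ⟨g, (mem_basicOpen_iff hU x g).mpr hg, ?_⟩
  exact hT (Submonoid.powers g) (Submonoid.mem_powers g)


/-- **Slicing by a fibrewise nonzerodivisor**: scheme form. -/
theorem S1348_main {X S : Scheme.{u}} (f : X ⟶ S) [LocallyOfFinitePresentation f] (x : X)
    (hflat : (f.stalkMap x).hom.Flat) (h : X.presheaf.stalk x)
    (hm : h ∈ IsLocalRing.maximalIdeal (X.presheaf.stalk x))
    (hreg : Ideal.Quotient.mk (Ideal.map (f.stalkMap x).hom
        (IsLocalRing.maximalIdeal (S.presheaf.stalk (f x)))) h ∈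
      nonZeroDivisors (X.presheaf.stalk x ⧸ Ideal.map (f.stalkMap x).hom
        (IsLocalRing.maximalIdeal (S.presheaf.stalk (f x))))) :
    ∃ (U : X.Opens) (hU : IsAffineOpen U) (hx : x ∈ U) (h' : Γ(X, U)),
      X.presheaf.germ U x hx h' = h ∧ h' ∈ nonZeroDivisors Γ(X, U) ∧
      Flat (Spec.map (CommRingCat.ofHom (Ideal.Quotient.mk (Ideal.span {h'}))) ≫ hU.fromSpec ≫ f) ∧
      LocallyOfFinitePresentation
        (Spec.map (CommRingCat.ofHom (Ideal.Quotient.mk (Ideal.span {h'}))) ≫ hU.fromSpec ≫ f) := by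
  obtain ⟨_, ⟨V, hV, rfl⟩, hxV, -⟩ :=
    S.isBasis_affineOpens.exists_subset_of_mem_open (Set.mem_univ (f x)) isOpen_univ
  obtain ⟨W, hxW, h₁, hh₁⟩ := X.presheaf.germ_exist (x := x) h
  obtain ⟨_, ⟨U₀, hU₀, rfl⟩, hxU₀, hU₀sub⟩ :=
    X.isBasis_affineOpens.exists_subset_of_mem_open
      (show x ∈ ((f ⁻¹ᵁ V ⊓ W : X.Opens) : Set X) from ⟨hxV, hxW⟩) (f ⁻¹ᵁ V ⊓ W).isOpen
  have hU₀V : U₀ ≤ f ⁻¹ᵁ V := fun y hy => (hU₀sub hy).1
  have hU₀W : U₀ ≤ W := fun y hy => (hU₀sub hy).2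
  let h₀ : Γ(X, U₀) := X.presheaf.map (homOfLE hU₀W).op h₁
  have hh₀ : X.presheaf.germ U₀ x hxU₀ h₀ = h := by
    rw [← hh₁]
    exact X.presheaf.germ_res_apply (homOfLE hU₀W) x hxU₀ h₁
  obtain ⟨g, hxg, hreg', hfl'⟩ := slice_affine f hV hU₀ hU₀V ⟨x, hxU₀⟩ hflat h₀
    (by rw [hh₀]; exact hm) (by rw [hh₀]; exact hreg)
  have hle : X.basicOpen g ≤ U₀ := X.basicOpen_le g
  have hUV : X.basicOpen g ≤ f ⁻¹ᵁ V := hle.trans hU₀V
  have hU : IsAffineOpen (X.basicOpen g) := hU₀.basicOpen g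
  letI algAB : Algebra Γ(S, V) Γ(X, U₀) := (f.appLE V U₀ hU₀V).hom.toAlgebra
  haveI locB' : IsLocalization.Away g Γ(X, X.basicOpen g) := hU₀.isLocalization_basicOpen g
  letI algAB' : Algebra Γ(S, V) Γ(X, X.basicOpen g) :=
    ((algebraMap Γ(X, U₀) Γ(X, X.basicOpen g)).comp (algebraMap Γ(S, V) Γ(X, U₀))).toAlgebra
  haveI : IsScalarTower Γ(S, V) Γ(X, U₀) Γ(X, X.basicOpen g) :=
    IsScalarTower.of_algebraMap_eq fun _ => rfl
  obtain ⟨hnzd, hflq⟩ := away_of_localizedModule Γ(S, V) Γ(X, U₀) g h₀ Γ(X, X.basicOpen g)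
    hreg' hfl'
  have halg : algebraMap Γ(S, V) Γ(X, X.basicOpen g) = (f.appLE V (X.basicOpen g) hUV).hom := by
    change ((X.presheaf.map (homOfLE hle).op).hom.comp (f.appLE V U₀ hU₀V).hom) = _
    rw [← CommRingCat.hom_comp, Scheme.Hom.appLE_map]
  refine ⟨X.basicOpen g, hU, hxg, algebraMap Γ(X, U₀) Γ(X, X.basicOpen g) h₀, ?_, hnzd, ?_, ?_⟩
  · rw [← hh₀]
    exact X.presheaf.germ_res_apply (homOfLE hle) x hxg h₀
  · have hψ : ((f.appLE V (X.basicOpen g) hUV) ≫ CommRingCat.ofHom (Ideal.Quotient.mk (Ideal.span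
        {algebraMap Γ(X, U₀) Γ(X, X.basicOpen g) h₀}))).hom.Flat := by
      rw [CommRingCat.hom_comp, ← halg]
      exact RingHom.flat_algebraMap_iff.mpr hflq
    haveI : Flat (Spec.map ((f.appLE V (X.basicOpen g) hUV) ≫ CommRingCat.ofHom
        (Ideal.Quotient.mk (Ideal.span {algebraMap Γ(X, U₀) Γ(X, X.basicOpen g) h₀})))) :=
      (HasRingHomProperty.Spec_iff (P := @Flat)).mpr hψ
    rw [← IsAffineOpen.SpecMap_appLE_fromSpec f hV hU hUV, ← Spec.map_comp_assoc]
    infer_instance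
  · have hψ : ((f.appLE V (X.basicOpen g) hUV) ≫ CommRingCat.ofHom (Ideal.Quotient.mk (Ideal.span
        {algebraMap Γ(X, U₀) Γ(X, X.basicOpen g) h₀}))).hom.FinitePresentation := by
      rw [CommRingCat.hom_comp]
      refine RingHom.FinitePresentation.comp ?_ ?_
      · exact RingHom.FinitePresentation.of_surjective _ Ideal.Quotient.mk_surjective
          (by
            rw [CommRingCat.hom_ofHom, Ideal.mk_ker]
            exact ⟨{algebraMap Γ(X, U₀) Γ(X, X.basicOpen g) h₀}, by simp⟩)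
      · exact HasRingHomProperty.appLE (P := @LocallyOfFinitePresentation) f inferInstance
          ⟨V, hV⟩ ⟨X.basicOpen g, hU⟩ hUV
    haveI : LocallyOfFinitePresentation (Spec.map ((f.appLE V (X.basicOpen g) hUV) ≫
        CommRingCat.ofHom
        (Ideal.Quotient.mk (Ideal.span {algebraMap Γ(X, U₀) Γ(X, X.basicOpen g) h₀})))) :=
      (HasRingHomProperty.Spec_iff (P := @LocallyOfFinitePresentation)).mpr hψ
    rw [← IsAffineOpen.SpecMap_appLE_fromSpec f hV hU hUV, ← Spec.map_comp_assoc]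
    infer_instance

end Groth.Agent.Lead.RelReg
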