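import Mathlib
import Groth.Agent.Lib.Lead.RelReg11
import Groth.Agent.Lib.Lead.RelReg6

set_option autoImplicit false
set_option backward.isDefEq.respectTransparency.types false
set_option synthInstance.maxHeartbeats 400000
set_option linter.style.haveILetI false
universe u

open AlgebraicGeometry CategoryTheory CategoryTheory.Limits TopologicalSpace RingTheory.Sequence

namespace Groth.Agent.Lead.RelReg

section Translate

variable (A B : Type u) [CommRing A] [CommRing B] [Algebra A B]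
  (p : Ideal A) (q : Ideal B) [q.IsPrime]
  (L : Type u) [CommRing L] [Algebra B L] [IsLocalization.AtPrime L q]

theorem weaklyRegular_translate (J : Ideal L)
    (hJ : J = (p.map (algebraMap A B)).map (algebraMap B L)) (hs : List B)
    (h : IsWeaklyRegular (L ⧸ J) ((hs.map (algebraMap B L)).map (Ideal.Quotient.mk J))) :
    IsWeaklyRegular (LocalizedModule q.primeCompl B ⧸
      ((p.map (algebraMap A B)) • ⊤ : Submodule B (LocalizedModule q.primeCompl B))) hs := by
  subst hJ
  have h1 := (isWeaklyRegular_map_algebraMap_iff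
    (L ⧸ (p.map (algebraMap A B)).map (algebraMap B L))
    (L ⧸ (p.map (algebraMap A B)).map (algebraMap B L)) (hs.map (algebraMap B L))).mp h
  have h2 := (isWeaklyRegular_map_algebraMap_iff L
    (L ⧸ (p.map (algebraMap A B)).map (algebraMap B L)) hs).mp h1
  let e : LocalizedModule q.primeCompl B ≃ₗ[B] L :=
    IsLocalizedModule.iso q.primeCompl (Algebra.linearMap B L)
  let e' := (quotSMulTopCongr (p.map (algebraMap A B)) e).trans
    (quotMapEquiv B B L (p.map (algebraMap A B)))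
  exact (e'.isWeaklyRegular_congr hs).mpr h2

theorem mem_of_isRegular_quot (J : Ideal L) (hs : List B)
    (h : IsRegular (L ⧸ J) ((hs.map (algebraMap B L)).map (Ideal.Quotient.mk J))) :
    ∀ b ∈ hs, b ∈ q := by
  intro b hb
  by_contra hbq
  apply h.top_ne_smul
  have hu : IsUnit (algebraMap B L b) :=
    IsLocalization.map_units L (⟨b, hbq⟩ : q.primeCompl)
  have hu' : IsUnit (Ideal.Quotient.mk J (algebraMap B L b)) := hu.map _
  have hmem : Ideal.Quotient.mk J (algebraMap B L b) ∈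
      Ideal.ofList ((hs.map (algebraMap B L)).map (Ideal.Quotient.mk J)) := by
    apply Ideal.subset_span
    exact List.mem_map_of_mem (List.mem_map_of_mem hb)
  have htop : Ideal.ofList ((hs.map (algebraMap B L)).map (Ideal.Quotient.mk J)) = ⊤ :=
    Ideal.eq_top_of_isUnit_mem _ hmem hu'
  rw [htop, Submodule.top_smul]

end Translate


open Groth.Agent.Lead.FO Groth.Agent.Lead.SD Scheme.Modules

set_option maxHeartbeats 1000000 in
/-- ring-level package at a point of an affine open: sequence version -/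
theorem seq_affine {X S : Scheme.{u}} (f : X ⟶ S) [LocallyOfFinitePresentation f]
    {V : S.Opens} {U : X.Opens} (hV : IsAffineOpen V) (hU : IsAffineOpen U) (hUV : U ≤ f ⁻¹ᵁ V)
    (x : U) (hflat : (f.stalkMap x.1).hom.Flat) (hs₀ : List Γ(X, U))
    (hreg : IsRegular (X.presheaf.stalk x.1 ⧸ Ideal.map (f.stalkMap x.1).hom
        (IsLocalRing.maximalIdeal (S.presheaf.stalk (f x.1))))
      ((hs₀.map (X.presheaf.germ U x.1 x.2).hom).map (Ideal.Quotient.mk (Ideal.map (f.stalkMap x.1).hom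
        (IsLocalRing.maximalIdeal (S.presheaf.stalk (f x.1))))))) :
    letI := (f.appLE V U hUV).hom.toAlgebra
    ∃ g : Γ(X, U), x.1 ∈ X.basicOpen g ∧
      IsWeaklyRegular (LocalizedModule (Submonoid.powers g) Γ(X, U)) hs₀ ∧
      ∀ i ≤ hs₀.length, Module.Flat Γ(S, V)
        (LocalizedModule (Submonoid.powers g) Γ(X, U) ⧸ (Ideal.ofList (hs₀.take i) • ⊤ :
          Submodule Γ(X, U) (LocalizedModule (Submonoid.powers g) Γ(X, U)))) := by
  let sV : V := ⟨f x.1, hUV x.2⟩
  letI algAB : Algebra Γ(S, V) Γ(X, U) := (f.appLE V U hUV).hom.toAlgebra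
  haveI fpAB : Algebra.FinitePresentation Γ(S, V) Γ(X, U) :=
    HasRingHomProperty.appLE (P := @LocallyOfFinitePresentation) f inferInstance
      ⟨V, hV⟩ ⟨U, hU⟩ hUV
  letI algBL := X.presheaf.algebra_section_stalk x
  haveI locL := hU.isLocalization_stalk x
  haveI hlo : (hU.primeIdealOf x).asIdeal.LiesOver (hV.primeIdealOf sV).asIdeal := ⟨by
    have := IsAffineOpen.comap_primeIdealOf_appLE (f := f) V hV U hU hUV x.2
    exact (congrArg PrimeSpectrum.asIdeal this).symm⟩
  letI algAS := S.presheaf.algebra_section_stalk sV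
  haveI locS := hV.isLocalization_stalk sV
  letI algAL : Algebra Γ(S, V) (X.presheaf.stalk x.1) :=
    ((algebraMap Γ(X, U) (X.presheaf.stalk x.1)).comp (algebraMap Γ(S, V) Γ(X, U))).toAlgebra
  haveI : IsScalarTower Γ(S, V) Γ(X, U) (X.presheaf.stalk x.1) :=
    IsScalarTower.of_algebraMap_eq fun _ => rfl
  have h𝔪 : Ideal.map (f.stalkMap x.1).hom
      (IsLocalRing.maximalIdeal ↑(S.presheaf.stalk (f x.1))) =
      ((hV.primeIdealOf sV).asIdeal).map (algebraMap Γ(S, V) (X.presheaf.stalk x.1)) := by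
    rw [← IsLocalization.AtPrime.map_eq_maximalIdeal (hV.primeIdealOf sV).asIdeal
      (S.presheaf.stalk (f x.1)), Ideal.map_map]
    congr 1
    ext r
    exact stalkMap_germ_eq f hUV x r
  have h𝔪' : Ideal.map (f.stalkMap x.1).hom
      (IsLocalRing.maximalIdeal ↑(S.presheaf.stalk (f x.1))) =
      (((hV.primeIdealOf sV).asIdeal).map (algebraMap Γ(S, V) Γ(X, U))).map
        (algebraMap Γ(X, U) (X.presheaf.stalk x.1)) := by
    rw [h𝔪, Ideal.map_map]
    rfl
  have hfl : Module.Flat Γ(S, V)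
      (LocalizedModule (hU.primeIdealOf x).asIdeal.primeCompl Γ(X, U)) := by
    have h1 := (Groth.Agent.Lib.Helper4.RelEffCartierFlat1.flat_stalkMap_iff f V hV U hU hUV
      x.2).mp hflat
    have h2 := (Groth.Agent.Lead.FlatLoc.flat_localRingHom_iff (f.appLE V U hUV).hom
      (hU.primeIdealOf x).asIdeal).mp h1
    exact h2
  have hmem := mem_of_isRegular_quot Γ(X, U) (hU.primeIdealOf x).asIdeal (X.presheaf.stalk x.1) _
    hs₀ hreg
  have hw := weaklyRegular_translate Γ(S, V) Γ(X, U) (hV.primeIdealOf sV).asIdeal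
    (hU.primeIdealOf x).asIdeal (X.presheaf.stalk x.1) _ h𝔪' hs₀ hreg.toIsWeaklyRegular
  obtain ⟨g, hg, hT⟩ := seq_nhd Γ(S, V) Γ(X, U) (hV.primeIdealOf sV).asIdeal
    (hU.primeIdealOf x).asIdeal hs₀ Γ(X, U) hmem hfl hw
  refine ⟨g, (mem_basicOpen_iff hU x g).mpr hg, ?_⟩
  apply hT (Submonoid.powers g)
  intro r hr hdisj hgr
  exact Set.disjoint_left.mp hdisj hgr (Submonoid.mem_powers g)


theorem exists_list_germ {X : Scheme.{u}} (x : X) (hs : List (X.presheaf.stalk x)) :
    ∃ (W : X.Opens) (hxW : x ∈ W) (l : List Γ(X, W)),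
      l.map (X.presheaf.germ W x hxW).hom = hs := by
  induction hs with
  | nil => exact ⟨⊤, trivial, [], rfl⟩
  | cons h t ih =>
    obtain ⟨W₁, hxW₁, l, hl⟩ := ih
    obtain ⟨W₂, hxW₂, h₁, hh₁⟩ := X.presheaf.germ_exist (x := x) h
    refine ⟨W₁ ⊓ W₂, ⟨hxW₁, hxW₂⟩,
      (X.presheaf.map (homOfLE (inf_le_right : W₁ ⊓ W₂ ≤ W₂)).op).hom h₁ ::
        l.map (X.presheaf.map (homOfLE (inf_le_left : W₁ ⊓ W₂ ≤ W₁)).op).hom, ?_⟩
    rw [List.map_cons, List.map_map, ← hl, ← hh₁]
    congr 1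
    · exact X.presheaf.germ_res_apply (homOfLE inf_le_right) x ⟨hxW₁, hxW₂⟩ h₁
    · apply List.map_congr_left
      intro a _
      exact X.presheaf.germ_res_apply (homOfLE inf_le_left) x ⟨hxW₁, hxW₂⟩ a


set_option maxHeartbeats 2000000 in
/-- **Slicing by a fibrewise regular sequence**: scheme form. -/
theorem S1459_main {X S : Scheme.{u}} (f : X ⟶ S) [LocallyOfFinitePresentation f] (x : X)
    (hflat : (f.stalkMap x).hom.Flat) (hs : List ↑(X.presheaf.stalk x))
    (hreg : RingTheory.Sequence.IsRegular (↑(X.presheaf.stalk x) ⧸ Ideal.map (f.stalkMap x).hom (IsLocalRing.maximalIdeal ↑(S.presheaf.stalk (f x))))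
      (hs.map (Ideal.Quotient.mk (Ideal.map (f.stalkMap x).hom (IsLocalRing.maximalIdeal ↑(S.presheaf.stalk (f x))))))) :
    ∃ (U : X.Opens) (hU : IsAffineOpen U) (hx : x ∈ U) (hs' : List Γ(X, U)), hs'.map (X.presheaf.germ U x hx) = hs ∧
      Mor2.IsRegularClosedImmersion (Spec.map (CommRingCat.ofHom (Ideal.Quotient.mk (Ideal.ofList hs'))) ≫ hU.isoSpec.inv) ∧
      x ∈ Set.range ⇑(Spec.map (CommRingCat.ofHom (Ideal.Quotient.mk (Ideal.ofList hs'))) ≫ hU.fromSpec) ∧
      Flat (Spec.map (CommRingCat.ofHom (Ideal.Quotient.mk (Ideal.ofList hs'))) ≫ hU.fromSpec ≫ f) ∧ LocallyOfFinitePresentation (Spec.map (CommRingCat.ofHom (Ideal.Quotient.mk (Ideal.ofList hs'))) ≫ hU.fromSpec ≫ f) ∧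
      ∀ (S' : Scheme.{u}) (g : S' ⟶ S), Mor2.IsRegularClosedImmersion
        (pullback.map (Spec.map (CommRingCat.ofHom (Ideal.Quotient.mk (Ideal.ofList hs'))) ≫ hU.isoSpec.inv ≫ U.ι ≫ f) g (U.ι ≫ f) g (Spec.map (CommRingCat.ofHom (Ideal.Quotient.mk (Ideal.ofList hs'))) ≫ hU.isoSpec.inv) (𝟙 S') (𝟙 S)
          (Category.comp_id _) ((Category.comp_id g).trans (Category.id_comp g).symm)) := by
  classical
  obtain ⟨_, ⟨V, hV, rfl⟩, hxV, -⟩ :=
    S.isBasis_affineOpens.exists_subset_of_mem_open (Set.mem_univ (f x)) isOpen_univ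
  obtain ⟨W, hxW, hs₁, hhs₁⟩ := exists_list_germ x hs
  obtain ⟨_, ⟨U₀, hU₀, rfl⟩, hxU₀, hU₀sub⟩ :=
    X.isBasis_affineOpens.exists_subset_of_mem_open
      (show x ∈ ((f ⁻¹ᵁ V ⊓ W : X.Opens) : Set X) from ⟨hxV, hxW⟩) (f ⁻¹ᵁ V ⊓ W).isOpen
  have hU₀V : U₀ ≤ f ⁻¹ᵁ V := fun y hy => (hU₀sub hy).1
  have hU₀W : U₀ ≤ W := fun y hy => (hU₀sub hy).2
  let hs₀ : List Γ(X, U₀) := hs₁.map (X.presheaf.map (homOfLE hU₀W).op).hom
  have hhs₀ : hs₀.map (X.presheaf.germ U₀ x hxU₀).hom = hs := by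
    rw [← hhs₁, List.map_map]
    apply List.map_congr_left
    intro a _
    exact X.presheaf.germ_res_apply (homOfLE hU₀W) x hxU₀ a
  obtain ⟨g, hxg, hreg', hfl'⟩ := seq_affine f hV hU₀ hU₀V ⟨x, hxU₀⟩ hflat hs₀
    (by rw [hhs₀]; exact hreg)
  have hle : X.basicOpen g ≤ U₀ := X.basicOpen_le g
  have hUV : X.basicOpen g ≤ f ⁻¹ᵁ V := hle.trans hU₀V
  have hU : IsAffineOpen (X.basicOpen g) := hU₀.basicOpen g
  letI algAB : Algebra Γ(S, V) Γ(X, U₀) := (f.appLE V U₀ hU₀V).hom.toAlgebra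
  haveI locB' : IsLocalization.Away g Γ(X, X.basicOpen g) := hU₀.isLocalization_basicOpen g
  letI algAB' : Algebra Γ(S, V) Γ(X, X.basicOpen g) := (f.appLE V (X.basicOpen g) hUV).hom.toAlgebra
  haveI : IsScalarTower Γ(S, V) Γ(X, U₀) Γ(X, X.basicOpen g) :=
    IsScalarTower.of_algebraMap_eq fun a => by
      change (f.appLE V (X.basicOpen g) hUV).hom a =
        (X.presheaf.map (homOfLE hle).op).hom ((f.appLE V U₀ hU₀V).hom a)
      rw [← Scheme.Hom.appLE_map f hU₀V (homOfLE hle).op]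
      rfl
  have htr := seq_away Γ(S, V) Γ(X, U₀) g hs₀ Γ(X, X.basicOpen g) hreg' hfl'
  obtain ⟨hs', hhs'⟩ : ∃ hs' : List Γ(X, X.basicOpen g),
      hs' = hs₀.map (algebraMap Γ(X, U₀) Γ(X, X.basicOpen g)) := ⟨_, rfl⟩
  rw [← hhs'] at htr
  have hgerm : hs'.map (X.presheaf.germ (X.basicOpen g) x hxg).hom = hs := by
    rw [hhs', ← hhs₀, List.map_map]
    apply List.map_congr_left
    intro a _
    exact X.presheaf.germ_res_apply (homOfLE hle) x hxg a
  have htrans := transReg_spec_quot f hV hU hUV hs' htr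
  have hflq : Module.Flat Γ(S, V) (Γ(X, X.basicOpen g) ⧸ Ideal.ofList hs') := by
    have := htr.2 hs'.length le_rfl
    rwa [List.take_length] at this
  refine ⟨X.basicOpen g, hU, hxg, hs', hgerm, ?_, ?_, ?_, ?_, ?_⟩
  · exact isRegularClosedImmersion_of_transRegular ((X.basicOpen g).ι ≫ f) _ htrans
  · have hq : Ideal.ofList hs' ≤ (hU.primeIdealOf ⟨x, hxg⟩).asIdeal := by
      unfold Ideal.ofList
      rw [Ideal.span_le]
      intro a ha
      have ha' : a ∈ hs' := ha
      letI algBL := X.presheaf.algebra_section_stalk (⟨x, hxg⟩ : ↥(X.basicOpen g))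
      haveI locL := hU.isLocalization_stalk ⟨x, hxg⟩
      have hmem := mem_of_isRegular_quot Γ(X, X.basicOpen g) (hU.primeIdealOf ⟨x, hxg⟩).asIdeal
        (X.presheaf.stalk x) (Ideal.map (f.stalkMap x).hom
          (IsLocalRing.maximalIdeal ↑(S.presheaf.stalk (f x)))) hs'
        (by
          have := hreg
          rw [← hgerm] at this
          exact this)
      exact hmem a ha'
    have hzl : hU.primeIdealOf ⟨x, hxg⟩ ∈ PrimeSpectrum.zeroLocus
        (RingHom.ker (Ideal.Quotient.mk (Ideal.ofList hs')) : Set Γ(X, X.basicOpen g)) := by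
      rw [Ideal.mk_ker]
      exact hq
    rw [← range_comap_of_surjective _ _ Ideal.Quotient.mk_surjective] at hzl
    obtain ⟨z, hz⟩ := hzl
    refine ⟨z, ?_⟩
    rw [Scheme.Hom.comp_apply]
    have h1 : Spec.map (CommRingCat.ofHom (Ideal.Quotient.mk (Ideal.ofList hs'))) z =
        hU.primeIdealOf ⟨x, hxg⟩ := hz
    rw [h1]
    exact hU.fromSpec_primeIdealOf ⟨x, hxg⟩
  · have hψ : ((f.appLE V (X.basicOpen g) hUV) ≫ CommRingCat.ofHom (Ideal.Quotient.mk
        (Ideal.ofList hs'))).hom.Flat := by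
      rw [CommRingCat.hom_comp]
      exact RingHom.flat_algebraMap_iff.mpr hflq
    haveI : Flat (Spec.map ((f.appLE V (X.basicOpen g) hUV) ≫ CommRingCat.ofHom
        (Ideal.Quotient.mk (Ideal.ofList hs')))) :=
      (HasRingHomProperty.Spec_iff (P := @Flat)).mpr hψ
    rw [← IsAffineOpen.SpecMap_appLE_fromSpec f hV hU hUV, ← Spec.map_comp_assoc]
    infer_instance
  · have hψ : ((f.appLE V (X.basicOpen g) hUV) ≫ CommRingCat.ofHom (Ideal.Quotient.mk
        (Ideal.ofList hs'))).hom.FinitePresentation := by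
      rw [CommRingCat.hom_comp]
      refine RingHom.FinitePresentation.comp ?_ ?_
      · exact RingHom.FinitePresentation.of_surjective _ Ideal.Quotient.mk_surjective
          (by
            rw [CommRingCat.hom_ofHom, Ideal.mk_ker]
            exact ⟨hs'.toFinset, by
              unfold Ideal.ofList
              congr 1
              ext a
              simp⟩)
      · exact HasRingHomProperty.appLE (P := @LocallyOfFinitePresentation) f inferInstance
          ⟨V, hV⟩ ⟨X.basicOpen g, hU⟩ hUV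
    haveI : LocallyOfFinitePresentation (Spec.map ((f.appLE V (X.basicOpen g) hUV) ≫
        CommRingCat.ofHom (Ideal.Quotient.mk (Ideal.ofList hs')))) :=
      (HasRingHomProperty.Spec_iff (P := @LocallyOfFinitePresentation)).mpr hψ
    rw [← IsAffineOpen.SpecMap_appLE_fromSpec f hV hU hUV, ← Spec.map_comp_assoc]
    infer_instance
  · intro S' g'
    exact isRegularClosedImmersion_pullback_map ((X.basicOpen g).ι ≫ f) _ htrans g' _
      (Category.assoc _ _ _).symm _ _

end Groth.Agent.Lead.RelReg
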