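import Mathlib
import Groth.Agent.Lib.Lead.RelReg12
import Groth.Agent.Lib.Helper1.FlatQuotQR
import Groth.Agent.Lib.Helper3.FibStalk2

set_option autoImplicit false
set_option backward.isDefEq.respectTransparency.types false
set_option synthInstance.maxHeartbeats 400000
set_option linter.style.haveILetI false
universe u

open AlgebraicGeometry CategoryTheory CategoryTheory.Limits TopologicalSpace RingTheory.Sequence
open TensorProduct

namespace Groth.Agent.Lead.RelReg

section QR

/-- quasi-regularity passes to the quotient by an extended ideal when the quotient by the sequence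
is flat over the base -/
theorem isQuasiRegular_quot_of_flat (A L : Type u) [CommRing A] [CommRing L] [Algebra A L]
    (p : Ideal A) {c : ℕ} (t : Fin c → L) (hq : CAlgX.IsQuasiRegular t)
    (hfl : Module.Flat A (L ⧸ Ideal.span (Set.range t))) :
    CAlgX.IsQuasiRegular
      (fun i => Ideal.Quotient.mk (p.map (algebraMap A L)) (t i)) := by
  have h1 := Groth.Agent.Helper1.FlatQuotQR.main t A (A ⧸ p) hfl hq
  let e := (Algebra.TensorProduct.quotIdealMapEquivQuotTensor L p).symm
  letI : Algebra ((A ⧸ p) ⊗[A] L) (L ⧸ p.map (algebraMap A L)) :=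
    (e : (A ⧸ p) ⊗[A] L →+* L ⧸ p.map (algebraMap A L)).toAlgebra
  haveI : Module.Flat ((A ⧸ p) ⊗[A] L) (L ⧸ p.map (algebraMap A L)) :=
    RingHom.Flat.of_bijective e.bijective
  have h2 := Groth.Agent.Lib.Helper4.RegFlatBC1.isQuasiRegular_of_flat
    (R' := L ⧸ p.map (algebraMap A L)) _ h1
  have h3 : (fun i => algebraMap ((A ⧸ p) ⊗[A] L) (L ⧸ p.map (algebraMap A L))
      ((1 : A ⧸ p) ⊗ₜ[A] t i)) = fun i => Ideal.Quotient.mk (p.map (algebraMap A L)) (t i) := by
    funext i
    change e ((1 : A ⧸ p) ⊗ₜ[A] t i) = _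
    rw [← Algebra.TensorProduct.quotIdealMapEquivQuotTensor_mk, AlgEquiv.symm_apply_apply]
  rw [h3] at h2
  exact h2

/-- quasi-regular sequences in the maximal ideal of a Noetherian local ring are regular -/
theorem isRegular_of_isQuasiRegular_local (R : Type u) [CommRing R] [IsLocalRing R]
    [IsNoetherianRing R] {c : ℕ} (t : Fin c → R) (ht : ∀ i, t i ∈ IsLocalRing.maximalIdeal R)
    (hq : CAlgX.IsQuasiRegular t) : IsRegular R (List.ofFn t) := by
  have hw := Groth.Agent.Helper1.QuasiReg.isWeaklyRegular_of_isQuasiRegular c R t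
    (fun i => by
      rw [← Ideal.jacobson_bot]
      exact IsLocalRing.maximalIdeal_le_jacobson _ (ht i)) hq
  refine IsRegular.of_isWeaklyRegular_of_mem_maximalIdeal R ?_ hw
  intro r hr
  rw [List.mem_ofFn] at hr
  obtain ⟨i, rfl⟩ := hr
  exact ht i

end QR



section FlatQuot

variable (A B : Type u) [CommRing A] [CommRing B] [Algebra A B] (T : Submonoid B)
  (L : Type u) [CommRing L] [Algebra B L] [Algebra A L] [IsScalarTower A B L] [IsLocalization T L]

include T in
theorem flat_quot_map_of_flat_quot (I : Ideal B) [Module.Flat A (B ⧸ I)] :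
    Module.Flat A (L ⧸ I.map (algebraMap B L)) := by
  haveI h1 : Module.Flat A (B ⧸ (I • ⊤ : Submodule B B)) := flat_quot_smul_top_of_flat_quot A B I
  haveI h2 : Module.Flat A (LocalizedModule T (B ⧸ (I • ⊤ : Submodule B B))) :=
    Groth.Agent.Lead.FO.flat_of_isLocalizedModule_algebra (R := A) T
      (LocalizedModule.mkLinearMap T (B ⧸ (I • ⊤ : Submodule B B)))
  let e : LocalizedModule T B ≃ₗ[B] L := IsLocalizedModule.iso T (Algebra.linearMap B L)
  exact Module.Flat.of_linearEquiv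
    (((localizedQuotEquiv T B I).restrictScalars A).trans
      (((quotSMulTopCongr I e).restrictScalars A).trans (quotMapEquiv A B L I))).symm

end FlatQuot

section Fibre

/-- the local ring of the fibre, in quotient form, is Noetherian -/
theorem isNoetherianRing_stalk_quot {X S : Scheme.{u}} (f : X ⟶ S) [LocallyOfFiniteType f] (x : X) :
    IsNoetherianRing (X.presheaf.stalk x ⧸ Ideal.map (f.stalkMap x).hom
      (IsLocalRing.maximalIdeal (S.presheaf.stalk (f x)))) := by
  obtain ⟨γ, hγ, hk⟩ := Groth.Agent.Helper3.FibStalk.exists_fibre_presentation f x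
  haveI : LocallyOfFiniteType (f.fiberToSpecResidueField (f x)) :=
    MorphismProperty.pullback_snd _ _ inferInstance
  haveI : IsLocallyNoetherian (f.fiber (f x)) :=
    LocallyOfFiniteType.isLocallyNoetherian (f.fiberToSpecResidueField (f x))
  haveI : IsNoetherianRing ((f.fiber (f x)).presheaf.stalk (f.asFiber x)) := inferInstance
  rw [← hk]
  exact isNoetherianRing_of_ringEquiv _ (RingHom.quotientKerEquivOfSurjective hγ).symm

end Fibre


section Quasi

open Groth.Agent.Lead.FO Groth.Agent.Lead.SD Scheme.Modules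

theorem ofFn_get_map {α β : Type*} (φ : α → β) (rs : List α) :
    List.ofFn (fun i => φ (rs.get i)) = rs.map φ := by
  apply List.ext_getElem
  · simp
  · intro n h1 h2
    simp

theorem span_range_get {R : Type u} [CommRing R] (rs : List R) :
    Ideal.span (Set.range rs.get) = Ideal.ofList rs := by
  unfold Ideal.ofList
  congr 1
  ext x
  simp [List.mem_iff_get]

set_option maxHeartbeats 1000000 in
/-- a quasi-regular sequence with flat quotient induces a regular sequence in the local ring of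
the fibre -/
theorem isRegular_stalk_quot_of_isQuasiRegular {X S : Scheme.{u}} (f : X ⟶ S)
    [LocallyOfFiniteType f]
    {V : S.Opens} {U : X.Opens} (hV : IsAffineOpen V) (hU : IsAffineOpen U) (hUV : U ≤ f ⁻¹ᵁ V)
    (x : U) (rs : List Γ(X, U)) (hq : CAlgX.IsQuasiRegular rs.get)
    (hmem : ∀ r ∈ rs, r ∈ (hU.primeIdealOf x).asIdeal)
    (hfl : letI := (f.appLE V U hUV).hom.toAlgebra
      Module.Flat Γ(S, V) (Γ(X, U) ⧸ Ideal.ofList rs)) :
    IsRegular (X.presheaf.stalk x.1 ⧸ Ideal.map (f.stalkMap x.1).hom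
        (IsLocalRing.maximalIdeal (S.presheaf.stalk (f x.1))))
      ((rs.map (X.presheaf.germ U x.1 x.2).hom).map (Ideal.Quotient.mk (Ideal.map (f.stalkMap x.1).hom
        (IsLocalRing.maximalIdeal (S.presheaf.stalk (f x.1)))))) := by
  let sV : V := ⟨f x.1, hUV x.2⟩
  letI algAB : Algebra Γ(S, V) Γ(X, U) := (f.appLE V U hUV).hom.toAlgebra
  letI algBL := X.presheaf.algebra_section_stalk x
  haveI locL := hU.isLocalization_stalk x
  letI algAS := S.presheaf.algebra_section_stalk sV
  haveI locS := hV.isLocalization_stalk sV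
  letI algAL : Algebra Γ(S, V) (X.presheaf.stalk x.1) :=
    ((algebraMap Γ(X, U) (X.presheaf.stalk x.1)).comp (algebraMap Γ(S, V) Γ(X, U))).toAlgebra
  haveI : IsScalarTower Γ(S, V) Γ(X, U) (X.presheaf.stalk x.1) :=
    IsScalarTower.of_algebraMap_eq fun _ => rfl
  have h𝔪 : Ideal.map (f.stalkMap x.1).hom
      (IsLocalRing.maximalIdeal ↑(S.presheaf.stalk (f x.1))) =
      ((hV.primeIdealOf sV).asIdeal).map (algebraMap Γ(S, V) (X.presheaf.stalk x.1)) := by
    rw [← IsLocalization.AtPrime.map_eq_maximalIdeal (hV.primeIdealOf sV).asIdeal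
      (S.presheaf.stalk (f x.1)), Ideal.map_map]
    congr 1
    ext r
    exact stalkMap_germ_eq f hUV x r
  -- quasi-regularity in the stalk
  haveI : Module.Flat Γ(X, U) (X.presheaf.stalk x.1) :=
    IsLocalization.flat _ (hU.primeIdealOf x).asIdeal.primeCompl
  have hqL := Groth.Agent.Lib.Helper4.RegFlatBC1.isQuasiRegular_of_flat
    (R' := X.presheaf.stalk x.1) rs.get hq
  have hspan : Ideal.span (Set.range fun i => algebraMap Γ(X, U) (X.presheaf.stalk x.1) (rs.get i)) =
      (Ideal.ofList rs).map (algebraMap Γ(X, U) (X.presheaf.stalk x.1)) := by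
    rw [← span_range_get, Ideal.map_span, ← Set.range_comp]
    rfl
  haveI := hfl
  have hflL : Module.Flat Γ(S, V) (X.presheaf.stalk x.1 ⧸
      Ideal.span (Set.range fun i => algebraMap Γ(X, U) (X.presheaf.stalk x.1) (rs.get i))) := by
    rw [hspan]
    exact flat_quot_map_of_flat_quot Γ(S, V) Γ(X, U) (hU.primeIdealOf x).asIdeal.primeCompl
      (X.presheaf.stalk x.1) (Ideal.ofList rs)
  have hqR := isQuasiRegular_quot_of_flat Γ(S, V) (X.presheaf.stalk x.1)
    (hV.primeIdealOf sV).asIdeal _ hqL hflL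
  rw [← h𝔪] at hqR
  -- the quotient is a Noetherian local ring
  have hJ : Ideal.map (f.stalkMap x.1).hom
      (IsLocalRing.maximalIdeal ↑(S.presheaf.stalk (f x.1))) ≤
      IsLocalRing.maximalIdeal (X.presheaf.stalk x.1) :=
    ((IsLocalRing.local_hom_TFAE (f.stalkMap x.1).hom).out 0 2 rfl rfl).mp inferInstance
  haveI : Nontrivial (X.presheaf.stalk x.1 ⧸ Ideal.map (f.stalkMap x.1).hom
      (IsLocalRing.maximalIdeal ↑(S.presheaf.stalk (f x.1)))) :=
    Ideal.Quotient.nontrivial_iff.mpr (fun h => (IsLocalRing.maximalIdeal.isMaximal _).ne_top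
      (top_le_iff.mp (h ▸ hJ)))
  haveI : IsLocalRing (X.presheaf.stalk x.1 ⧸ Ideal.map (f.stalkMap x.1).hom
      (IsLocalRing.maximalIdeal ↑(S.presheaf.stalk (f x.1)))) :=
    IsLocalRing.of_surjective' _ Ideal.Quotient.mk_surjective
  haveI := isNoetherianRing_stalk_quot f x.1
  have hreg := isRegular_of_isQuasiRegular_local _ _ (fun i => by
    have h1 : algebraMap Γ(X, U) (X.presheaf.stalk x.1) (rs.get i) ∈
        IsLocalRing.maximalIdeal (X.presheaf.stalk x.1) :=
      (IsLocalization.AtPrime.to_map_mem_maximal_iff (X.presheaf.stalk x.1)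
        (hU.primeIdealOf x).asIdeal (rs.get i)).mpr (hmem _ (List.get_mem rs i))
    intro hu
    have hu' : IsUnit (algebraMap Γ(X, U) (X.presheaf.stalk x.1) (rs.get i)) := by
      haveI : IsLocalHom (Ideal.Quotient.mk (Ideal.map (f.stalkMap x.1).hom
          (IsLocalRing.maximalIdeal ↑(S.presheaf.stalk (f x.1))))) :=
        IsLocalHom.of_surjective _ Ideal.Quotient.mk_surjective
      exact (isUnit_map_iff (Ideal.Quotient.mk _) _).mp hu
    exact h1 hu') hqR
  have hlist : (rs.map (X.presheaf.germ U x.1 x.2).hom).map (Ideal.Quotient.mk (Ideal.map (f.stalkMap x.1).hom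
        (IsLocalRing.maximalIdeal (S.presheaf.stalk (f x.1))))) =
      List.ofFn (fun i => Ideal.Quotient.mk (Ideal.map (f.stalkMap x.1).hom
        (IsLocalRing.maximalIdeal (S.presheaf.stalk (f x.1))))
          (algebraMap Γ(X, U) (X.presheaf.stalk x.1) (rs.get i))) := by
    rw [List.map_map]
    exact (ofFn_get_map _ rs).symm
  rw [hlist]
  exact hreg

end Quasi


section Nhd

open Groth.Agent.Lib.Helper4.RelRegBC1 Groth.Agent.Lib.Helper4.QuasiRegImm1 Groth.Agent.Lib.Helper4.RegSpread2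

set_option maxHeartbeats 1000000 in
/-- neighbourhood on which a fibrewise regular sequence of sections is transversally regular -/
theorem transReg_nhd {X S : Scheme.{u}} (f : X ⟶ S) [LocallyOfFinitePresentation f]
    {V : S.Opens} {U : X.Opens} (hV : IsAffineOpen V) (hU : IsAffineOpen U) (hUV : U ≤ f ⁻¹ᵁ V)
    (x : U) (hflat : (f.stalkMap x.1).hom.Flat) (hs₀ : List Γ(X, U))
    (hreg : IsRegular (X.presheaf.stalk x.1 ⧸ Ideal.map (f.stalkMap x.1).hom
        (IsLocalRing.maximalIdeal (S.presheaf.stalk (f x.1))))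
      ((hs₀.map (X.presheaf.germ U x.1 x.2).hom).map (Ideal.Quotient.mk (Ideal.map (f.stalkMap x.1).hom
        (IsLocalRing.maximalIdeal (S.presheaf.stalk (f x.1))))))) :
    ∃ g : Γ(X, U), x.1 ∈ X.basicOpen g ∧
      letI := (f.appLE V (X.basicOpen g) ((X.basicOpen_le g).trans hUV)).hom.toAlgebra
      RegImm.IsTransRegularSeq Γ(S, V) Γ(X, X.basicOpen g)
        (hs₀.map (X.presheaf.map (homOfLE (X.basicOpen_le g)).op).hom) := by
  obtain ⟨g, hxg, hreg', hfl'⟩ := seq_affine f hV hU hUV x hflat hs₀ hreg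
  refine ⟨g, hxg, ?_⟩
  have hle : X.basicOpen g ≤ U := X.basicOpen_le g
  letI algAB : Algebra Γ(S, V) Γ(X, U) := (f.appLE V U hUV).hom.toAlgebra
  haveI locB' : IsLocalization.Away g Γ(X, X.basicOpen g) := hU.isLocalization_basicOpen g
  letI algAB' : Algebra Γ(S, V) Γ(X, X.basicOpen g) :=
    (f.appLE V (X.basicOpen g) (hle.trans hUV)).hom.toAlgebra
  haveI : IsScalarTower Γ(S, V) Γ(X, U) Γ(X, X.basicOpen g) :=
    IsScalarTower.of_algebraMap_eq fun a => by
      change (f.appLE V (X.basicOpen g) (hle.trans hUV)).hom a =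
        (X.presheaf.map (homOfLE hle).op).hom ((f.appLE V U hUV).hom a)
      rw [← Scheme.Hom.appLE_map f hUV (homOfLE hle).op]
      rfl
  exact seq_away Γ(S, V) Γ(X, U) g hs₀ Γ(X, X.basicOpen g) hreg' hfl'

set_option maxHeartbeats 1000000 in
/-- a quasi-regular immersion with flat quotient into a scheme flat and locally of finite
presentation over the base is transversally regular -/
theorem transRegAt_of_quasi {Z X S : Scheme.{u}} (f : X ⟶ S) [LocallyOfFinitePresentation f]
    (i : Z ⟶ X) (z : Z) (hflat : (f.stalkMap (i z)).hom.Flat) (hfl : Flat (i ≫ f))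
    (h : RegImm.IsRegularImmersionAt .quasi i z) : RegImm.IsTransRegularImmersionAt f i z := by
  obtain ⟨V, hV, hsV, -⟩ := Opens.isBasis_iff_nbhd.mp (S.isBasis_affineOpens)
    (show f (i z) ∈ (⊤ : S.Opens) from trivial)
  obtain ⟨U, hUV, hzU, hcl, rs, hrs, hker⟩ := isRegularImmersionAt_shrink .quasi i z h (f ⁻¹ᵁ V) hsV
  haveI := hcl
  obtain ⟨hVZ, hsurj⟩ := affine_surjective_of_isClosedImmersion_restrict i U.1 U.2
  letI algAB : Algebra Γ(S, V) Γ(X, U.1) := (f.appLE V U.1 hUV).hom.toAlgebra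
  -- flatness of the quotient
  have hflat' : ((i.app U.1).hom.comp (f.appLE V U.1 hUV).hom).Flat := by
    have h1 := HasRingHomProperty.appLE @Flat (i ≫ f) hfl ⟨V, hV⟩ ⟨i ⁻¹ᵁ U.1, hVZ⟩
      (by
        intro y hy
        exact hUV hy)
    have h2 : (i ≫ f).appLE V (i ⁻¹ᵁ U.1) (by intro y hy; exact hUV hy) =
        f.appLE V U.1 hUV ≫ i.appLE U.1 (i ⁻¹ᵁ U.1) le_rfl := by
      rw [Scheme.Hom.appLE_comp_appLE]
    rw [h2, ← Scheme.Hom.app_eq_appLE] at h1
    exact h1
  have hQ : Module.Flat Γ(S, V) (Γ(X, U.1) ⧸ Ideal.ofList rs) := by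
    letI : Algebra Γ(X, U.1) Γ(Z, i ⁻¹ᵁ U.1) := (i.app U.1).hom.toAlgebra
    letI : Algebra Γ(S, V) Γ(Z, i ⁻¹ᵁ U.1) :=
      ((i.app U.1).hom.comp (f.appLE V U.1 hUV).hom).toAlgebra
    haveI : IsScalarTower Γ(S, V) Γ(X, U.1) Γ(Z, i ⁻¹ᵁ U.1) :=
      IsScalarTower.of_algebraMap_eq (fun _ => rfl)
    haveI hC : Module.Flat Γ(S, V) Γ(Z, i ⁻¹ᵁ U.1) := hflat'
    have hkerL : (Ideal.ofList rs).restrictScalars Γ(S, V) =
        LinearMap.ker ((Algebra.linearMap Γ(X, U.1) Γ(Z, i ⁻¹ᵁ U.1)).restrictScalars Γ(S, V)) := by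
      rw [← hker]
      ext y
      simp [RingHom.mem_ker, Algebra.linearMap_apply]
      rfl
    have hsurjL : Function.Surjective
        ((Algebra.linearMap Γ(X, U.1) Γ(Z, i ⁻¹ᵁ U.1)).restrictScalars Γ(S, V)) := hsurj
    have e : (Γ(X, U.1) ⧸ Ideal.ofList rs) ≃ₗ[Γ(S, V)] Γ(Z, i ⁻¹ᵁ U.1) :=
      (Submodule.quotEquivOfEq ((Ideal.ofList rs).restrictScalars Γ(S, V)) _ hkerL).trans
        (((Algebra.linearMap Γ(X, U.1) Γ(Z, i ⁻¹ᵁ U.1)).restrictScalars Γ(S, V)).quotKerEquivOfSurjective hsurjL)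
    exact Module.Flat.of_linearEquiv e
  -- membership
  have hmem : ∀ r ∈ rs, r ∈ (U.2.primeIdealOf ⟨i z, hzU⟩).asIdeal := by
    intro r hr
    apply Groth.Agent.Lib.Helper4.RegSpread1.ker_app_le_primeIdealOf i z U.1 U.2 hzU hVZ
    rw [hker]
    exact Ideal.subset_span hr
  have hreg := isRegular_stalk_quot_of_isQuasiRegular f hV U.2 hUV ⟨i z, hzU⟩ rs hrs hmem hQ
  obtain ⟨g, hxg, htr⟩ := transReg_nhd f hV U.2 hUV ⟨i z, hzU⟩ hflat rs hreg
  have hle : X.basicOpen g ≤ U.1 := X.basicOpen_le g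
  have hU' : IsAffineOpen (X.basicOpen g) := U.2.basicOpen g
  have hU'U : X.basicOpen g ≤ (𝟙 X) ⁻¹ᵁ U.1 := hle
  obtain ⟨hcl', hk⟩ := closedImmersion_ker_of_isPullback i (𝟙 X) i (𝟙 Z) (IsPullback.of_id_fst)
    U.1 U.2 (X.basicOpen g) hU' hU'U
  refine ⟨⟨X.basicOpen g, hU'⟩, ⟨V, hV⟩, hle.trans hUV, hxg, hcl', _, htr, ?_⟩
  rw [hk, hker, Ideal.map_ofList]
  congr 2

end Nhd


section S8894

theorem S8894_main {Z X S : Scheme.{u}} (f : X ⟶ S) [Flat f] [LocallyOfFinitePresentation f]
    (i : Z ⟶ X) (hi : RegImm.IsRelRegularImmersion RegImm.Kind.quasi f i) :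
    RegImm.IsRegularImmersion RegImm.Kind.regular i ∧
      ∀ (S' : Scheme.{u}) (g : S' ⟶ S),
        RegImm.IsRegularImmersion RegImm.Kind.regular (pullback.snd i (pullback.fst f g)) := by
  obtain ⟨⟨himm, h⟩, hfl⟩ := hi
  haveI := himm
  have htr : ∀ z, RegImm.IsTransRegularImmersionAt f i z := fun z =>
    transRegAt_of_quasi f i z (Flat.stalkMap f (i z)) hfl (h z)
  refine ⟨⟨himm, fun z => isRegularImmersionAt_of_transRegular f i z (htr z)⟩, fun S' g => ?_⟩
  refine ⟨inferInstance, fun z' => ?_⟩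
  exact isRegularImmersionAt_of_isPullback_of_transRegular f i g (pullback.snd f g)
    (pullback.fst f g) (IsPullback.of_hasPullback f g) _ (pullback.fst i (pullback.fst f g))
    (IsPullback.of_hasPullback i (pullback.fst f g)) z' (htr _)

end S8894

end Groth.Agent.Lead.RelReg
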