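import Mathlib
import Groth.Agent.Lib.Lead.RelReg13

set_option autoImplicit false
set_option backward.isDefEq.respectTransparency.types false
set_option synthInstance.maxHeartbeats 400000
set_option linter.style.haveILetI false
universe u

open AlgebraicGeometry CategoryTheory CategoryTheory.Limits TopologicalSpace RingTheory.Sequence
open TensorProduct

namespace Groth.Agent.Lead.RelReg

section Ring

theorem one_tmul_eq_zero_iff {R M : Type u} [CommRing R] [AddCommGroup M] [Module R M]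
    (a : Ideal R) (x : M) :
    ((1 : R ⧸ a) ⊗ₜ[R] x = 0) ↔ x ∈ a • (⊤ : Submodule R M) := by
  rw [← (TensorProduct.quotTensorEquivQuotSMul M a).map_eq_zero_iff,
    TensorProduct.quotTensorEquivQuotSMul_mk_one_tmul, Submodule.Quotient.mk_eq_zero]

/-- for `N ≤ M` with `M ⧸ N` flat: `aM ∩ N = aN` -/
theorem smul_top_inf_le_smul_of_flat {R M : Type u} [CommRing R] [AddCommGroup M] [Module R M]
    (N : Submodule R M) [Module.Flat R (M ⧸ N)] (a : Ideal R) :
    a • (⊤ : Submodule R M) ⊓ N ≤ a • N := by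
  intro x ⟨hxa, hxN⟩
  have hinj := LinearMap.lTensor_injective_of_exact_of_flat N.mkQ (Submodule.mkQ_surjective N)
    N.subtype N.injective_subtype (LinearMap.exact_subtype_mkQ N) (R ⧸ a)
  have h1 : (1 : R ⧸ a) ⊗ₜ[R] (⟨x, hxN⟩ : N) = 0 := by
    apply hinj
    rw [map_zero, LinearMap.lTensor_tmul]
    exact (one_tmul_eq_zero_iff a x).mpr hxa
  have h2 := (one_tmul_eq_zero_iff a (⟨x, hxN⟩ : N)).mp h1
  have h3 : Submodule.map N.subtype (a • (⊤ : Submodule R N)) = a • N := by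
    rw [Submodule.map_smul'', Submodule.map_top, Submodule.range_subtype]
  rw [← h3]
  exact ⟨⟨x, hxN⟩, h2, rfl⟩


/-- Nakayama lifting of generators of an ideal with flat quotient from the closed fibre -/
theorem ideal_eq_ofList_of_lift (R₀ L F : Type u) [CommRing R₀] [CommRing L] [CommRing F]
    [Algebra R₀ L] [IsLocalRing L] (m : Ideal R₀) (IL : Ideal L) (hfg : IL.FG)
    [Module.Flat R₀ (L ⧸ IL)] (γ : L →+* F) (hγ : Function.Surjective γ)
    (hker : RingHom.ker γ = m.map (algebraMap R₀ L))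
    (hker_le : RingHom.ker γ ≤ IsLocalRing.maximalIdeal L)
    (t : List L) (ht : ∀ a ∈ t, a ∈ IL) (hgen : IL.map γ ≤ (Ideal.ofList t).map γ) :
    IL = Ideal.ofList t := by
  have hle : Ideal.ofList t ≤ IL := by
    unfold Ideal.ofList
    rw [Ideal.span_le]
    exact fun a ha => ht a ha
  refine le_antisymm ?_ hle
  haveI : Module.Flat R₀ (L ⧸ IL.restrictScalars R₀) :=
    Module.Flat.of_linearEquiv (Submodule.Quotient.restrictScalarsEquiv R₀ IL)
  have hinf := smul_top_inf_le_smul_of_flat (IL.restrictScalars R₀) m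
  apply Submodule.le_of_le_smul_of_le_jacobson_bot hfg
    (IsLocalRing.maximalIdeal_le_jacobson (⊥ : Ideal L))
  intro z hz
  have h1 : γ z ∈ (Ideal.ofList t).map γ := hgen (Ideal.mem_map_of_mem γ hz)
  obtain ⟨z', hz', hzz'⟩ := (Ideal.mem_map_iff_of_surjective γ hγ).mp h1
  have h2 : z - z' ∈ RingHom.ker γ := by
    rw [RingHom.mem_ker, map_sub, hzz', sub_self]
  have h3 : z - z' ∈ IL := IL.sub_mem hz (hle hz')
  have h4 : z - z' ∈ m • (⊤ : Submodule R₀ L) := by
    rw [Ideal.smul_top_eq_map]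
    rw [hker] at h2
    exact h2
  have h5 : z - z' ∈ m • (IL.restrictScalars R₀) := hinf ⟨h4, h3⟩
  have h6 : m • (IL.restrictScalars R₀) ≤
      ((IsLocalRing.maximalIdeal L) • IL).restrictScalars R₀ := by
    rw [Submodule.smul_le]
    intro r hr n hn
    rw [Submodule.restrictScalars_mem, show r • n = algebraMap R₀ L r • n from
      (algebraMap_smul L r n).symm]
    have hr' : algebraMap R₀ L r ∈ IsLocalRing.maximalIdeal L := by
      apply hker_le
      rw [hker]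
      exact Ideal.mem_map_of_mem _ hr
    have hn' : n ∈ IL := hn
    exact Submodule.smul_mem_smul hr' hn'
  have h7 : z - z' ∈ (IsLocalRing.maximalIdeal L) • IL := h6 h5
  have : z = z' + (z - z') := by ring
  rw [this]
  exact Submodule.add_mem_sup hz' h7

/-- finitely generated ideals that agree in the localization at a prime agree on a basic open -/
theorem exists_away_map_le {B : Type u} [CommRing B] (q : Ideal B) [q.IsPrime]
    (L : Type u) [CommRing L] [Algebra B L] [IsLocalization.AtPrime L q]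
    (J₁ J₂ : Ideal B) (h₁ : J₁.FG)
    (h : J₁.map (algebraMap B L) ≤ J₂.map (algebraMap B L)) :
    ∃ g : B, g ∉ q ∧ ∀ a ∈ J₁, ∃ n : ℕ, g ^ n * a ∈ J₂ := by
  classical
  obtain ⟨s, rfl⟩ := h₁
  induction s using Finset.induction_on with
  | empty =>
    refine ⟨1, fun h1 => (Ideal.IsPrime.ne_top inferInstance) ((Ideal.eq_top_iff_one q).mpr h1),
      fun a ha => ⟨0, ?_⟩⟩
    simp only [Finset.coe_empty, Ideal.span_empty, Ideal.mem_bot] at ha
    rw [ha, mul_zero]
    exact J₂.zero_mem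
  | insert b s hb ih =>
    have hs : (Ideal.span (s : Set B)).map (algebraMap B L) ≤ J₂.map (algebraMap B L) := by
      refine le_trans (Ideal.map_mono (Ideal.span_mono ?_)) h
      simp
    obtain ⟨g₁, hg₁, H₁⟩ := ih hs
    have hbm : algebraMap B L b ∈ J₂.map (algebraMap B L) :=
      h (Ideal.mem_map_of_mem _ (Ideal.subset_span (by simp)))
    obtain ⟨g₂, hg₂, hg₂b⟩ :=
      (IsLocalization.algebraMap_mem_map_algebraMap_iff q.primeCompl L J₂ b).mp hbm
    refine ⟨g₁ * g₂, fun hmul => (Ideal.IsPrime.mem_or_mem inferInstance hmul).elim hg₁ hg₂, ?_⟩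
    intro a ha
    rw [Finset.coe_insert, Ideal.mem_span_insert] at ha
    obtain ⟨c, a', ha', rfl⟩ := ha
    obtain ⟨n, hn⟩ := H₁ a' ha'
    refine ⟨n + 1, ?_⟩
    have e : (g₁ * g₂) ^ (n + 1) * (c * b + a') =
        (g₁ ^ (n + 1) * g₂ ^ n * c) * (g₂ * b) + (g₂ ^ (n + 1) * g₁) * (g₁ ^ n * a') := by ring
    rw [e]
    exact J₂.add_mem (J₂.mul_mem_left _ hg₂b) (J₂.mul_mem_left _ hn)

theorem map_away_le_of_pow_mul_mem {B : Type u} [CommRing B] (g : B) (B' : Type u) [CommRing B']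
    [Algebra B B'] [IsLocalization.Away g B'] (J₁ J₂ : Ideal B)
    (h : ∀ a ∈ J₁, ∃ n : ℕ, g ^ n * a ∈ J₂) :
    J₁.map (algebraMap B B') ≤ J₂.map (algebraMap B B') := by
  rw [Ideal.map_le_iff_le_comap]
  intro a ha
  obtain ⟨n, hn⟩ := h a ha
  rw [Ideal.mem_comap]
  have hu : IsUnit (algebraMap B B' (g ^ n)) := by
    rw [map_pow]
    exact (IsLocalization.Away.algebraMap_isUnit g).pow n
  rw [← Ideal.unit_mul_mem_iff_mem _ hu, ← map_mul]
  exact Ideal.mem_map_of_mem _ hn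

end Ring


section Sch

open Groth.Agent.Lib.Helper4.RelRegBC1 Groth.Agent.Lib.Helper4.QuasiRegImm1
  Groth.Agent.Lib.Helper4.RegSpread2 Groth.Agent.Lead.FO Groth.Agent.Lead.SD

/-- restriction of the kernel ideal to a smaller affine open -/
theorem ker_app_map_res {X Y : Scheme.{u}} (ι : Y ⟶ X) (U : X.Opens) (hU : IsAffineOpen U)
    [IsClosedImmersion (ι ∣_ U)] (U' : X.Opens) (hU' : IsAffineOpen U') (hle : U' ≤ U) :
    IsClosedImmersion (ι ∣_ U') ∧
      RingHom.ker (ι.app U').hom =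
        (RingHom.ker (ι.app U).hom).map (X.presheaf.map (homOfLE hle).op).hom := by
  have hU'U : U' ≤ (𝟙 X) ⁻¹ᵁ U := hle
  obtain ⟨hcl', hk⟩ := closedImmersion_ker_of_isPullback ι (𝟙 X) ι (𝟙 Y) (IsPullback.of_id_fst)
    U hU U' hU' hU'U
  refine ⟨hcl', ?_⟩
  rw [hk]
  congr 2

/-- flatness of the quotient by the kernel ideal -/
theorem flat_quot_ker_app {X Y S : Scheme.{u}} (f : X ⟶ S) (ι : Y ⟶ X) (hfl : Flat (ι ≫ f))
    {V : S.Opens} {U : X.Opens} (hV : IsAffineOpen V) (hU : IsAffineOpen U) (hUV : U ≤ f ⁻¹ᵁ V)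
    [IsClosedImmersion (ι ∣_ U)] :
    letI := (f.appLE V U hUV).hom.toAlgebra
    Module.Flat Γ(S, V) (Γ(X, U) ⧸ RingHom.ker (ι.app U).hom) := by
  obtain ⟨hVZ, hsurj⟩ := affine_surjective_of_isClosedImmersion_restrict ι U hU
  letI algAB : Algebra Γ(S, V) Γ(X, U) := (f.appLE V U hUV).hom.toAlgebra
  have hflat' : ((ι.app U).hom.comp (f.appLE V U hUV).hom).Flat := by
    have h1 := HasRingHomProperty.appLE @Flat (ι ≫ f) hfl ⟨V, hV⟩ ⟨ι ⁻¹ᵁ U, hVZ⟩
      (by
        intro y hy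
        exact hUV hy)
    have h2 : (ι ≫ f).appLE V (ι ⁻¹ᵁ U) (by intro y hy; exact hUV hy) =
        f.appLE V U hUV ≫ ι.appLE U (ι ⁻¹ᵁ U) le_rfl := by
      rw [Scheme.Hom.appLE_comp_appLE]
    rw [h2, ← Scheme.Hom.app_eq_appLE] at h1
    exact h1
  letI : Algebra Γ(X, U) Γ(Y, ι ⁻¹ᵁ U) := (ι.app U).hom.toAlgebra
  letI : Algebra Γ(S, V) Γ(Y, ι ⁻¹ᵁ U) :=
    ((ι.app U).hom.comp (f.appLE V U hUV).hom).toAlgebra
  haveI : IsScalarTower Γ(S, V) Γ(X, U) Γ(Y, ι ⁻¹ᵁ U) :=
    IsScalarTower.of_algebraMap_eq (fun _ => rfl)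
  haveI hC : Module.Flat Γ(S, V) Γ(Y, ι ⁻¹ᵁ U) := hflat'
  have hkerL : (RingHom.ker (ι.app U).hom).restrictScalars Γ(S, V) =
      LinearMap.ker ((Algebra.linearMap Γ(X, U) Γ(Y, ι ⁻¹ᵁ U)).restrictScalars Γ(S, V)) := by
    ext y
    simp [RingHom.mem_ker, Algebra.linearMap_apply]
    rfl
  have hsurjL : Function.Surjective
      ((Algebra.linearMap Γ(X, U) Γ(Y, ι ⁻¹ᵁ U)).restrictScalars Γ(S, V)) := hsurj
  have e : (Γ(X, U) ⧸ RingHom.ker (ι.app U).hom) ≃ₗ[Γ(S, V)] Γ(Y, ι ⁻¹ᵁ U) :=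
    (Submodule.quotEquivOfEq ((RingHom.ker (ι.app U).hom).restrictScalars Γ(S, V)) _ hkerL).trans
      (((Algebra.linearMap Γ(X, U) Γ(Y, ι ⁻¹ᵁ U)).restrictScalars
        Γ(S, V)).quotKerEquivOfSurjective hsurjL)
  exact Module.Flat.of_linearEquiv e

/-- the kernel ideal is finitely generated when source and target are locally of finite
presentation over a base -/
theorem ker_app_fg {X Y S : Scheme.{u}} (f : X ⟶ S) (ι : Y ⟶ X) [LocallyOfFinitePresentation f]
    [LocallyOfFinitePresentation (ι ≫ f)]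
    {V : S.Opens} {U : X.Opens} (hV : IsAffineOpen V) (hU : IsAffineOpen U) (hUV : U ≤ f ⁻¹ᵁ V)
    [IsClosedImmersion (ι ∣_ U)] : (RingHom.ker (ι.app U).hom).FG := by
  obtain ⟨hVZ, hsurj⟩ := affine_surjective_of_isClosedImmersion_restrict ι U hU
  letI algAB : Algebra Γ(S, V) Γ(X, U) := (f.appLE V U hUV).hom.toAlgebra
  letI : Algebra Γ(S, V) Γ(Y, ι ⁻¹ᵁ U) :=
    ((ι.app U).hom.comp (f.appLE V U hUV).hom).toAlgebra
  haveI : Algebra.FinitePresentation Γ(S, V) Γ(X, U) :=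
    HasRingHomProperty.appLE (P := @LocallyOfFinitePresentation) f inferInstance
      ⟨V, hV⟩ ⟨U, hU⟩ hUV
  haveI : Algebra.FinitePresentation Γ(S, V) Γ(Y, ι ⁻¹ᵁ U) := by
    have h1 := HasRingHomProperty.appLE (P := @LocallyOfFinitePresentation) (ι ≫ f) inferInstance
      ⟨V, hV⟩ ⟨ι ⁻¹ᵁ U, hVZ⟩
      (by
        intro y hy
        exact hUV hy)
    have h2 : (ι ≫ f).appLE V (ι ⁻¹ᵁ U) (by intro y hy; exact hUV hy) =
        f.appLE V U hUV ≫ ι.appLE U (ι ⁻¹ᵁ U) le_rfl := by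
      rw [Scheme.Hom.appLE_comp_appLE]
    rw [h2, ← Scheme.Hom.app_eq_appLE] at h1
    exact h1
  let ψ : Γ(X, U) →ₐ[Γ(S, V)] Γ(Y, ι ⁻¹ᵁ U) :=
    { (ι.app U).hom with commutes' := fun _ => rfl }
  exact Algebra.FinitePresentation.ker_fG_of_surjective ψ hsurj

end Sch


section Fib

open Groth.Agent.Lib.Helper4.RelRegBC1 Groth.Agent.Lib.Helper4.QuasiRegImm1
  Groth.Agent.Lib.Helper4.RegSpread2 Groth.Agent.Lead.FO Groth.Agent.Lead.SD

set_option maxHeartbeats 1000000 in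
/-- the fibrewise quasi-regular immersion gives a regular sequence generating the extension of
the kernel ideal to the local ring of the fibre -/
theorem fibre_regular_data {X S Y : Scheme.{u}} (φ : X ⟶ S) [LocallyOfFiniteType φ] (ι : Y ⟶ X)
    [IsClosedImmersion ι] (s : S) (x' : φ.fiber s) (y : Y) (hy : ι y = φ.fiberι s x')
    (hfib : RegImm.IsRegularImmersion .quasi (pullback.snd ι (φ.fiberι s)))
    {U : X.Opens} (hU : IsAffineOpen U) (hxU : φ.fiberι s x' ∈ U) :
    ∃ tb : List ((φ.fiber s).presheaf.stalk x'), IsRegular ((φ.fiber s).presheaf.stalk x') tb ∧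
      ((RingHom.ker (ι.app U).hom).map (X.presheaf.germ U (φ.fiberι s x') hxU).hom).map
        ((φ.fiberι s).stalkMap x').hom = Ideal.ofList tb := by
  obtain ⟨y_s, -, hsnd⟩ := Scheme.Pullback.exists_preimage_pullback y x' hy
  subst hsnd
  obtain ⟨W', hW'le, hx'W', hcl, tb', hq, hker⟩ := isRegularImmersionAt_shrink .quasi
    (pullback.snd ι (φ.fiberι s)) y_s (hfib.2 y_s) ((φ.fiberι s) ⁻¹ᵁ U) hxU
  obtain ⟨-, hk⟩ := closedImmersion_ker_of_isPullback ι (φ.fiberι s) (pullback.snd ι (φ.fiberι s))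
    (pullback.fst ι (φ.fiberι s)) (IsPullback.of_hasPullback ι (φ.fiberι s)) U hU W'.1 W'.2 hW'le
  haveI := hcl
  obtain ⟨hVaff, -⟩ := affine_surjective_of_isClosedImmersion_restrict
    (pullback.snd ι (φ.fiberι s)) W'.1 W'.2
  have hmem := Groth.Agent.Lib.Helper4.RegSpread1.ker_app_le_primeIdealOf
    (pullback.snd ι (φ.fiberι s)) y_s W'.1 W'.2 hx'W' hVaff
  -- the local ring of the fibre
  haveI : LocallyOfFiniteType (φ.fiberToSpecResidueField s) :=
    MorphismProperty.pullback_snd _ _ inferInstance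
  haveI : IsLocallyNoetherian (φ.fiber s) :=
    LocallyOfFiniteType.isLocallyNoetherian (φ.fiberToSpecResidueField s)
  let xW : W'.1 := ⟨pullback.snd ι (φ.fiberι s) y_s, hx'W'⟩
  letI algFL := (φ.fiber s).presheaf.algebra_section_stalk xW
  haveI locL := W'.2.isLocalization_stalk xW
  haveI : Module.Flat Γ(φ.fiber s, W'.1) ((φ.fiber s).presheaf.stalk xW.1) :=
    IsLocalization.flat _ (W'.2.primeIdealOf xW).asIdeal.primeCompl
  have hqL := Groth.Agent.Lib.Helper4.RegFlatBC1.isQuasiRegular_of_flat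
    (R' := (φ.fiber s).presheaf.stalk xW.1) tb'.get hq
  have hreg := isRegular_of_isQuasiRegular_local _ _ (fun i => by
    refine (IsLocalization.AtPrime.to_map_mem_maximal_iff ((φ.fiber s).presheaf.stalk xW.1)
      (W'.2.primeIdealOf xW).asIdeal (tb'.get i)).mpr (hmem ?_)
    rw [hker]
    exact Ideal.subset_span (List.get_mem tb' i)) hqL
  refine ⟨tb'.map (algebraMap Γ(φ.fiber s, W'.1) ((φ.fiber s).presheaf.stalk xW.1)), ?_, ?_⟩
  · rw [← ofFn_get_map]
    exact hreg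
  · rw [Ideal.map_map, ← Ideal.map_ofList, ← hker, hk, Ideal.map_map]
    congr 1
    ext r
    exact stalkMap_germ_eq (φ.fiberι s) hW'le xW r

end Fib

end Groth.Agent.Lead.RelReg
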