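import Mathlib
import Groth.Agent.Lib.Lead.RelReg14

set_option autoImplicit false
set_option backward.isDefEq.respectTransparency.types false
set_option synthInstance.maxHeartbeats 400000
set_option linter.style.haveILetI false
universe u

open AlgebraicGeometry CategoryTheory CategoryTheory.Limits TopologicalSpace RingTheory.Sequence
open TensorProduct

namespace Groth.Agent.Lead.RelReg

open Groth.Agent.Lib.Helper4.RelRegBC1 Groth.Agent.Lib.Helper4.QuasiRegImm1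
  Groth.Agent.Lib.Helper4.RegSpread2 Groth.Agent.Lead.FO Groth.Agent.Lead.SD

theorem exists_lift_list_mem {L F : Type u} [CommRing L] [CommRing F] (γ : L →+* F)
    (hγ : Function.Surjective γ) (IL : Ideal L) (tb : List F) (h : ∀ b ∈ tb, b ∈ IL.map γ) :
    ∃ t : List L, (∀ a ∈ t, a ∈ IL) ∧ t.map γ = tb := by
  induction tb with
  | nil => exact ⟨[], by simp, rfl⟩
  | cons b tb ih =>
    obtain ⟨t, ht, htb⟩ := ih (fun c hc => h c (List.mem_cons_of_mem _ hc))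
    obtain ⟨a, ha, hab⟩ := (Ideal.mem_map_iff_of_surjective γ hγ).mp (h b List.mem_cons_self)
    refine ⟨a :: t, ?_, by rw [List.map_cons, hab, htb]⟩
    intro c hc
    rcases List.mem_cons.mp hc with rfl | hc
    · exact ha
    · exact ht c hc

/-- transport of a regular sequence along a surjection to the quotient by its kernel -/
theorem isRegular_quot_of_surjective {L F : Type u} [CommRing L] [CommRing F] (γ : L →+* F)
    (hγ : Function.Surjective γ) (J : Ideal L) (hJ : RingHom.ker γ = J) (t : List L)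
    (h : IsRegular F (t.map γ)) : IsRegular (L ⧸ J) (t.map (Ideal.Quotient.mk J)) := by
  subst hJ
  let e : (L ⧸ RingHom.ker γ) ≃+* F := RingHom.quotientKerEquivOfSurjective hγ
  refine (AddEquiv.isRegular_congr (e := e.symm.toAddEquiv) ?_).mp h
  rw [List.forall₂_map_right_iff, List.forall₂_map_left_iff, List.forall₂_same]
  intro a _ x
  change e.symm (γ a * x) = Ideal.Quotient.mk (RingHom.ker γ) a * e.symm x
  rw [map_mul]
  congr 1
  rw [RingEquiv.symm_apply_eq]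
  rfl


set_option maxHeartbeats 4000000 in
/-- fibrewise quasi-regular immersion + flatness ⇒ locally cut out by a regular sequence -/
theorem exists_regular_nhd_of_fibre {X S : Scheme.{u}} (φ : X ⟶ S) [Flat φ]
    [LocallyOfFinitePresentation φ] {Y : Scheme.{u}} (ι : Y ⟶ X) [IsClosedImmersion ι]
    [Flat (ι ≫ φ)] [LocallyOfFinitePresentation (ι ≫ φ)]
    (hfib : ∀ s : S, RegImm.IsRegularImmersion .quasi (pullback.snd ι (φ.fiberι s))) (y : Y) :
    ∃ (U : X.affineOpens) (rs : List Γ(X, U.1)), ι y ∈ U.1 ∧ IsWeaklyRegular Γ(X, U.1) rs ∧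
      RingHom.ker (ι.app U.1).hom = Ideal.ofList rs := by
  classical
  obtain ⟨s, hs⟩ : ∃ s : S, s = φ (ι y) := ⟨_, rfl⟩
  obtain ⟨x', hx'⟩ : ∃ x' : φ.fiber s, φ.fiberι s x' = ι y := by
    subst hs
    exact ⟨φ.asFiber (ι y), φ.fiberι_asFiber (ι y)⟩
  obtain ⟨x, hx⟩ : ∃ x : X, x = φ.fiberι s x' := ⟨_, rfl⟩
  have hxy : x = ι y := hx.trans hx'
  obtain ⟨_, ⟨V, hV, rfl⟩, hxV, -⟩ :=
    S.isBasis_affineOpens.exists_subset_of_mem_open (Set.mem_univ (φ x)) isOpen_univ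
  obtain ⟨_, ⟨U, hU, rfl⟩, hxU, hUsub⟩ :=
    X.isBasis_affineOpens.exists_subset_of_mem_open
      (show x ∈ ((φ ⁻¹ᵁ V : X.Opens) : Set X) from hxV) (φ ⁻¹ᵁ V).isOpen
  have hUV : U ≤ φ ⁻¹ᵁ V := hUsub
  obtain ⟨tb, htb, hgen⟩ := fibre_regular_data φ ι s x' y hx'.symm (hfib s) hU (hx ▸ hxU)
  subst hx
  -- algebra set-up
  let xU : U := ⟨φ.fiberι s x', hxU⟩
  let sV : V := ⟨φ xU.1, hUV xU.2⟩
  letI algAB : Algebra Γ(S, V) Γ(X, U) := (φ.appLE V U hUV).hom.toAlgebra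
  letI algBL := X.presheaf.algebra_section_stalk xU
  haveI locL := hU.isLocalization_stalk xU
  letI algAS := S.presheaf.algebra_section_stalk sV
  haveI locS := hV.isLocalization_stalk sV
  letI algAL : Algebra Γ(S, V) (X.presheaf.stalk xU.1) :=
    ((algebraMap Γ(X, U) (X.presheaf.stalk xU.1)).comp (algebraMap Γ(S, V) Γ(X, U))).toAlgebra
  haveI : IsScalarTower Γ(S, V) Γ(X, U) (X.presheaf.stalk xU.1) :=
    IsScalarTower.of_algebraMap_eq fun _ => rfl
  have h𝔪 : Ideal.map (φ.stalkMap xU.1).hom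
      (IsLocalRing.maximalIdeal ↑(S.presheaf.stalk (φ xU.1))) =
      ((hV.primeIdealOf sV).asIdeal).map (algebraMap Γ(S, V) (X.presheaf.stalk xU.1)) := by
    rw [← IsLocalization.AtPrime.map_eq_maximalIdeal (hV.primeIdealOf sV).asIdeal
      (S.presheaf.stalk (φ xU.1)), Ideal.map_map]
    congr 1
    ext r
    exact stalkMap_germ_eq φ hUV xU r
  have hγ : Function.Surjective ((φ.fiberι s).stalkMap x').hom :=
    (φ.fiberι s).stalkMap_surjective x'
  have hkerγ := Groth.Agent.Helper3.FibStalk.ker_stalkMap_fiberι φ s x'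
  have hJ : Ideal.map (φ.stalkMap xU.1).hom
      (IsLocalRing.maximalIdeal ↑(S.presheaf.stalk (φ xU.1))) ≤
      IsLocalRing.maximalIdeal (X.presheaf.stalk xU.1) :=
    ((IsLocalRing.local_hom_TFAE (φ.stalkMap xU.1).hom).out 0 2 rfl rfl).mp inferInstance
  -- the ideal in the local ring
  obtain ⟨IL, hIL⟩ : ∃ IL : Ideal (X.presheaf.stalk xU.1),
      IL = (RingHom.ker (ι.app U).hom).map (algebraMap Γ(X, U) (X.presheaf.stalk xU.1)) := ⟨_, rfl⟩
  have hILfg : IL.FG := by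
    rw [hIL]
    exact (ker_app_fg φ ι hV hU hUV).map _
  haveI hflI := flat_quot_ker_app φ ι inferInstance hV hU hUV
  haveI hflIL : Module.Flat Γ(S, V) (X.presheaf.stalk xU.1 ⧸ IL) := by
    rw [hIL]
    exact flat_quot_map_of_flat_quot Γ(S, V) Γ(X, U) (hU.primeIdealOf xU).asIdeal.primeCompl
      (X.presheaf.stalk xU.1) _
  have hgen' : IL.map ((φ.fiberι s).stalkMap x').hom = Ideal.ofList tb := by
    rw [hIL]
    exact hgen
  obtain ⟨t, htIL, httb⟩ := exists_lift_list_mem ((φ.fiberι s).stalkMap x').hom hγ IL tb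
    (fun b hb => by rw [hgen']; exact Ideal.subset_span hb)
  have hILt : IL = Ideal.ofList t := by
    refine ideal_eq_ofList_of_lift Γ(S, V) (X.presheaf.stalk xU.1) _ (hV.primeIdealOf sV).asIdeal
      IL hILfg ((φ.fiberι s).stalkMap x').hom hγ (by rw [hkerγ]; exact h𝔪)
      (by rw [hkerγ]; exact hJ) t htIL ?_
    rw [hgen', Ideal.map_ofList, httb]
  have hreg : IsRegular (X.presheaf.stalk xU.1 ⧸ Ideal.map (φ.stalkMap xU.1).hom
        (IsLocalRing.maximalIdeal (S.presheaf.stalk (φ xU.1))))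
      (t.map (Ideal.Quotient.mk (Ideal.map (φ.stalkMap xU.1).hom
        (IsLocalRing.maximalIdeal (S.presheaf.stalk (φ xU.1)))))) :=
    isRegular_quot_of_surjective ((φ.fiberι s).stalkMap x').hom hγ _ hkerγ t (httb ▸ htb)
  -- lift to sections
  obtain ⟨W₂, hxW₂, hs₁, hhs₁⟩ := exists_list_germ xU.1 t
  obtain ⟨_, ⟨U₀, hU₀, rfl⟩, hxU₀, hU₀sub⟩ :=
    X.isBasis_affineOpens.exists_subset_of_mem_open
      (show xU.1 ∈ ((U ⊓ W₂ : X.Opens) : Set X) from ⟨hxU, hxW₂⟩) (U ⊓ W₂).isOpen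
  have hU₀U : U₀ ≤ U := fun z hz => (hU₀sub hz).1
  have hU₀W : U₀ ≤ W₂ := fun z hz => (hU₀sub hz).2
  obtain ⟨hs₀, hhs₀def⟩ : ∃ hs₀ : List Γ(X, U₀),
      hs₀ = hs₁.map (X.presheaf.map (homOfLE hU₀W).op).hom := ⟨_, rfl⟩
  have hhs₀ : hs₀.map (X.presheaf.germ U₀ xU.1 hxU₀).hom = t := by
    rw [hhs₀def, ← hhs₁, List.map_map]
    apply List.map_congr_left
    intro a _
    exact X.presheaf.germ_res_apply (homOfLE hU₀W) xU.1 hxU₀ a
  obtain ⟨g, hxg, htr⟩ := transReg_nhd φ hV hU₀ (hU₀U.trans hUV) ⟨xU.1, hxU₀⟩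
    (Flat.stalkMap φ _) hs₀ (by rw [hhs₀]; exact hreg)
  have hU₁ : IsAffineOpen (X.basicOpen g) := hU₀.basicOpen g
  have hU₁U₀ : X.basicOpen g ≤ U₀ := X.basicOpen_le g
  have hU₁U : X.basicOpen g ≤ U := hU₁U₀.trans hU₀U
  obtain ⟨rs, hrsdef⟩ : ∃ rs : List Γ(X, X.basicOpen g),
      rs = hs₀.map (X.presheaf.map (homOfLE (X.basicOpen_le g)).op).hom := ⟨_, rfl⟩
  rw [← hrsdef] at htr
  have hrsgerm : rs.map (X.presheaf.germ (X.basicOpen g) xU.1 hxg).hom = t := by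
    rw [hrsdef, ← hhs₀, List.map_map]
    apply List.map_congr_left
    intro a _
    exact X.presheaf.germ_res_apply (homOfLE hU₁U₀) xU.1 hxg a
  obtain ⟨hcl₁, hk₁⟩ := ker_app_map_res ι U hU (X.basicOpen g) hU₁ hU₁U
  let xU₁ : X.basicOpen g := ⟨xU.1, hxg⟩
  letI algB₁L := X.presheaf.algebra_section_stalk xU₁
  haveI locL₁ := hU₁.isLocalization_stalk xU₁
  have hI₁L : (RingHom.ker (ι.app (X.basicOpen g)).hom).map
      (algebraMap Γ(X, X.basicOpen g) (X.presheaf.stalk xU₁.1)) = IL := by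
    rw [hk₁, Ideal.map_map, hIL]
    congr 1
    ext r
    exact X.presheaf.germ_res_apply (homOfLE hU₁U) xU.1 hxg r
  have hrsL : (Ideal.ofList rs).map
      (algebraMap Γ(X, X.basicOpen g) (X.presheaf.stalk xU₁.1)) = IL := by
    rw [Ideal.map_ofList, hILt]
    congr 1
  have hfg₁ : (RingHom.ker (ι.app (X.basicOpen g)).hom).FG := by
    haveI := hcl₁
    exact ker_app_fg φ ι hV hU₁ (hU₁U.trans hUV)
  have hfg₂ : (Ideal.ofList rs).FG := ⟨rs.toFinset, by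
    unfold Ideal.ofList
    congr 1
    ext a
    simp⟩
  obtain ⟨g₁, hg₁, H₁⟩ := exists_away_map_le (hU₁.primeIdealOf xU₁).asIdeal
    (X.presheaf.stalk xU₁.1) (RingHom.ker (ι.app (X.basicOpen g)).hom) (Ideal.ofList rs)
    hfg₁ (by rw [hI₁L, hrsL])
  obtain ⟨g₂, hg₂, H₂⟩ := exists_away_map_le (hU₁.primeIdealOf xU₁).asIdeal
    (X.presheaf.stalk xU₁.1) (Ideal.ofList rs) (RingHom.ker (ι.app (X.basicOpen g)).hom)
    hfg₂ (by rw [hI₁L, hrsL])
  have hg' : g₁ * g₂ ∉ (hU₁.primeIdealOf xU₁).asIdeal :=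
    fun hmul => (Ideal.IsPrime.mem_or_mem inferInstance hmul).elim hg₁ hg₂
  have hxU₂ : xU.1 ∈ X.basicOpen (g₁ * g₂) := (mem_basicOpen_iff hU₁ xU₁ (g₁ * g₂)).mpr hg'
  have hU₂ : IsAffineOpen (X.basicOpen (g₁ * g₂)) := hU₁.basicOpen (g₁ * g₂)
  haveI locB₂ : IsLocalization.Away (g₁ * g₂) Γ(X, X.basicOpen (g₁ * g₂)) :=
    hU₁.isLocalization_basicOpen (g₁ * g₂)
  haveI := hcl₁
  obtain ⟨hcl₂, hk₂⟩ := ker_app_map_res ι (X.basicOpen g) hU₁ (X.basicOpen (g₁ * g₂)) hU₂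
    (X.basicOpen_le (g₁ * g₂))
  have hle₁ := map_away_le_of_pow_mul_mem (g₁ * g₂) Γ(X, X.basicOpen (g₁ * g₂))
    (RingHom.ker (ι.app (X.basicOpen g)).hom) (Ideal.ofList rs) (fun a ha => by
      obtain ⟨n, hn⟩ := H₁ a ha
      refine ⟨n, ?_⟩
      have e : (g₁ * g₂) ^ n * a = g₂ ^ n * (g₁ ^ n * a) := by ring
      rw [e]
      exact Ideal.mul_mem_left _ _ hn)
  have hle₂ := map_away_le_of_pow_mul_mem (g₁ * g₂) Γ(X, X.basicOpen (g₁ * g₂))
    (Ideal.ofList rs) (RingHom.ker (ι.app (X.basicOpen g)).hom) (fun a ha => by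
      obtain ⟨n, hn⟩ := H₂ a ha
      refine ⟨n, ?_⟩
      have e : (g₁ * g₂) ^ n * a = g₁ ^ n * (g₂ ^ n * a) := by ring
      rw [e]
      exact Ideal.mul_mem_left _ _ hn)
  haveI : Module.Flat Γ(X, X.basicOpen g) Γ(X, X.basicOpen (g₁ * g₂)) :=
    IsLocalization.flat _ (Submonoid.powers (g₁ * g₂))
  refine ⟨⟨X.basicOpen (g₁ * g₂), hU₂⟩,
    rs.map (algebraMap Γ(X, X.basicOpen g) Γ(X, X.basicOpen (g₁ * g₂))), hxy ▸ hxU₂, ?_, ?_⟩
  · exact IsWeaklyRegular.of_flat htr.1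
  · rw [hk₂, ← Ideal.map_ofList]
    exact le_antisymm hle₁ hle₂


theorem S8896_main {X S : Scheme.{u}} (φ : X ⟶ S) [Flat φ] [LocallyOfFinitePresentation φ]
    (𝓘 : X.IdealSheafData) [Flat (𝓘.subschemeι ≫ φ)]
    [LocallyOfFinitePresentation (𝓘.subschemeι ≫ φ)]
    (hfib : ∀ s : ↥S, RegImm.IsRegularImmersion RegImm.Kind.quasi
      (pullback.snd 𝓘.subschemeι (φ.fiberι s))) :
    RegImm.IsRelRegularImmersion RegImm.Kind.quasi φ 𝓘.subschemeι := by
  refine ⟨⟨inferInstance, fun y => ?_⟩, inferInstance⟩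
  obtain ⟨U, rs, hyU, hw, hker⟩ := exists_regular_nhd_of_fibre φ 𝓘.subschemeι hfib y
  refine ⟨U, hyU, inferInstance, rs, ?_, hker⟩
  change CAlgX.IsQuasiRegular rs.get
  apply Groth.Agent.Helper1.QuasiReg.isQuasiRegular_of_isWeaklyRegular
  rw [List.ofFn_get]
  exact hw

end Groth.Agent.Lead.RelReg
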