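import Mathlib
import Groth.Agent.Lib.Lead.RelReg15
import Groth.Agent.Lib.Helper8.Depth15

set_option autoImplicit false
set_option backward.isDefEq.respectTransparency.types false
set_option synthInstance.maxHeartbeats 400000
set_option linter.style.haveILetI false

universe u

open AlgebraicGeometry CategoryTheory CategoryTheory.Limits TopologicalSpace IsLocalRing
open RingTheory.Sequence

namespace Groth.Agent.Lead.SliceQF

/-- ring-level: the local ring of the fibre of the slice -/
theorem fibre_slice_equiv {OS R T FZ : Type u} [CommRing OS] [CommRing R] [CommRing T] [CommRing FZ]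
    (m : Ideal OS) (φ : OS →+* R) (σ : R →+* T) (hσ : Function.Surjective σ)
    (γ : T →+* FZ) (hγ : Function.Surjective γ) (hkγ : RingHom.ker γ = m.map (σ.comp φ))
    (hs : List R) (hkσ : RingHom.ker σ = Ideal.ofList hs) :
    Nonempty (FZ ≃+* ((R ⧸ m.map φ) ⧸ Ideal.ofList (hs.map (Ideal.Quotient.mk (m.map φ))))) := by
  have hψ : Function.Surjective (γ.comp σ) := hγ.comp hσ
  have hker : RingHom.ker (γ.comp σ) = m.map φ ⊔ Ideal.ofList hs := by
    rw [← RingHom.comap_ker, hkγ, ← Ideal.map_map, Ideal.comap_map_of_surjective σ hσ,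
      ← RingHom.ker_eq_comap_bot, hkσ]
  have e1 : FZ ≃+* R ⧸ (m.map φ ⊔ Ideal.ofList hs) :=
    (RingHom.quotientKerEquivOfSurjective hψ).symm.trans (Ideal.quotEquivOfEq hker)
  have e2 : (R ⧸ m.map φ) ⧸ (Ideal.ofList hs).map (Ideal.Quotient.mk (m.map φ)) ≃+*
      R ⧸ (m.map φ ⊔ Ideal.ofList hs) := DoubleQuot.quotQuotEquivQuotSup _ _
  have h3 : Ideal.ofList (hs.map (Ideal.Quotient.mk (m.map φ))) =
      (Ideal.ofList hs).map (Ideal.Quotient.mk (m.map φ)) := (Ideal.map_ofList _ _).symm
  exact ⟨e1.trans (e2.symm.trans (Ideal.quotEquivOfEq h3.symm))⟩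

/-- a CM local ring has a regular sequence in the maximal ideal with zero-dimensional quotient -/
theorem exists_regular_dim_zero (F : Type u) [CommRing F] [LocCoh.IsCohenMacaulayLocalRing F] :
    ∃ rs : List F, IsRegular F rs ∧ ringKrullDim (F ⧸ Ideal.ofList rs) ≤ 0 := by
  haveI : IsLocalRing F := inferInstance
  haveI : IsNoetherianRing F := inferInstance
  obtain ⟨rs, hw, hle, hdim, -⟩ :=
    Groth.Agent.Helper8.Depth.cm_ring_exists_regular_sequence F (maximalIdeal F) (by
      intro p hp
      have h1 : maximalIdeal F ≤ p := hp.1.2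
      have h2 : p = maximalIdeal F :=
        ((maximalIdeal.isMaximal F).eq_of_le hp.1.1.ne_top h1).symm
      rw [h2])
  refine ⟨rs, ?_, ?_⟩
  · refine IsRegular.of_isWeaklyRegular_of_mem_maximalIdeal F ?_ hw
    intro r hr
    exact hle (Ideal.subset_span hr)
  · rw [hdim]
    exact le_of_eq (ringKrullDim_eq_zero_of_isField
      ((Ideal.Quotient.maximal_ideal_iff_isField_quotient _).mp (maximalIdeal.isMaximal F)))

/-- at a CM point of `f`: a list in the local ring of `X` whose image in the local ring of the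
fibre is a regular sequence with zero-dimensional quotient -/
theorem exists_list_of_isCMAt {X S : Scheme.{u}} (f : X ⟶ S) (x : X) (hcm : MoreMor.IsCMAt f x) :
    ∃ hs : List (X.presheaf.stalk x),
      IsRegular (X.presheaf.stalk x ⧸ Ideal.map (f.stalkMap x).hom
          (maximalIdeal (S.presheaf.stalk (f x))))
        (hs.map (Ideal.Quotient.mk (Ideal.map (f.stalkMap x).hom
          (maximalIdeal (S.presheaf.stalk (f x)))))) ∧
      ringKrullDim ((X.presheaf.stalk x ⧸ Ideal.map (f.stalkMap x).hom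
          (maximalIdeal (S.presheaf.stalk (f x)))) ⧸
        Ideal.ofList (hs.map (Ideal.Quotient.mk (Ideal.map (f.stalkMap x).hom
          (maximalIdeal (S.presheaf.stalk (f x))))))) ≤ 0 := by
  obtain ⟨γ, hγ, hk⟩ := Groth.Agent.Helper3.FibStalk.exists_fibre_presentation f x
  haveI := hcm.2
  obtain ⟨rs, hrs, hdim⟩ := exists_regular_dim_zero ((f.fiber (f x)).presheaf.stalk (f.asFiber x))
  obtain ⟨t, ht⟩ := (List.map_surjective_iff.mpr hγ) rs
  refine ⟨t, ?_, ?_⟩
  · exact Groth.Agent.Lead.RelReg.isRegular_quot_of_surjective γ hγ _ hk t (ht ▸ hrs)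
  · set J := Ideal.map (f.stalkMap x).hom (maximalIdeal (S.presheaf.stalk (f x))) with hJ
    let e : (X.presheaf.stalk x ⧸ J) ≃+* (f.fiber (f x)).presheaf.stalk (f.asFiber x) :=
      (Ideal.quotEquivOfEq hk.symm).trans (RingHom.quotientKerEquivOfSurjective hγ)
    have he : ∀ a, e (Ideal.Quotient.mk J a) = γ a := fun a => rfl
    have hmap : (Ideal.ofList (t.map (Ideal.Quotient.mk J))).map (e : _ →+* _) = Ideal.ofList rs := by
      rw [Ideal.map_ofList, List.map_map, ← ht]
      congr 1
    have e2 := Ideal.quotientEquiv (Ideal.ofList (t.map (Ideal.Quotient.mk J))) (Ideal.ofList rs) e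
      hmap.symm
    rw [ringKrullDim_eq_of_ringEquiv e2]
    exact hdim

/-- zero-dimensional stalk: no proper generizations -/
theorem eq_of_specializes_of_dim_stalk {Y : Scheme.{u}} (y : Y)
    (hdim : ringKrullDim (Y.presheaf.stalk y) ≤ 0) (y' : Y) (h : y' ⤳ y) : y' = y := by
  have hr : y' ∈ Set.range (Y.fromSpecStalk y) := by
    rw [Scheme.range_fromSpecStalk]
    exact h
  obtain ⟨q, rfl⟩ := hr
  haveI : Ring.KrullDimLE 0 (Y.presheaf.stalk y) := (Ring.krullDimLE_iff).mpr hdim
  have hq : q = closedPoint (Y.presheaf.stalk y) := by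
    apply PrimeSpectrum.ext
    haveI := q.2
    haveI : q.asIdeal.IsMaximal := Ideal.IsPrime.isMaximal' (R := Y.presheaf.stalk y) inferInstance
    exact IsLocalRing.eq_maximalIdeal inferInstance
  rw [hq, Scheme.fromSpecStalk_closedPoint]

/-- in a Noetherian ring, a point of the spectrum which is closed and stable under generalization
is open (the Jacobson hypothesis of the Mathlib TFAE is not needed for this direction) -/
theorem isOpen_singleton_of_isClosed_of_stable {R : Type u} [CommRing R] [IsNoetherianRing R]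
    (x : PrimeSpectrum R) (h₁ : IsClosed ({x} : Set (PrimeSpectrum R)))
    (h₂ : StableUnderGeneralization ({x} : Set (PrimeSpectrum R))) :
    IsOpen ({x} : Set (PrimeSpectrum R)) := by
  rw [PrimeSpectrum.isClosed_singleton_iff_isMaximal, ← PrimeSpectrum.isMax_iff] at h₁
  suffices {x} = (⋃ p ∈ { p : PrimeSpectrum R | IsMin p ∧ p ≠ x }, closure {p})ᶜ by
    rw [this, isOpen_compl_iff]
    refine Set.Finite.isClosed_biUnion ?_ (fun _ _ ↦ isClosed_closure)
    exact (PrimeSpectrum.finite_setOfPred_isMin R).subset fun x h ↦ h.1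
  ext p
  simp only [Set.mem_singleton_iff, ne_eq, Set.mem_ofPred_eq, Set.compl_iUnion, Set.mem_iInter,
    Set.mem_compl_iff, and_imp, ← specializes_iff_mem_closure, ← PrimeSpectrum.le_iff_specializes,
    not_imp_not]
  constructor
  · rintro rfl _ _
    rw [PrimeSpectrum.stableUnderGeneralization_singleton, ← PrimeSpectrum.isMin_iff] at h₂
    exact h₂.eq_of_le
  · intro hp
    apply h₁.eq_of_ge
    obtain ⟨q, hq, hq'⟩ := Ideal.exists_minimalPrimes_le (J := p.asIdeal) bot_le
    exact (hp ⟨q, hq.1.1⟩ (PrimeSpectrum.isMin_iff.mpr hq) hq').ge.trans hq'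

/-- a closed point with zero-dimensional local ring in a locally Noetherian scheme is open -/
theorem isOpen_singleton_of_dim_stalk {Y : Scheme.{u}} [IsLocallyNoetherian Y] (y : Y)
    (hcl : IsClosed ({y} : Set Y)) (hdim : ringKrullDim (Y.presheaf.stalk y) ≤ 0) :
    IsOpen ({y} : Set Y) := by
  obtain ⟨W, hW, hyW, -⟩ := Opens.isBasis_iff_nbhd.mp (Y.isBasis_affineOpens)
    (show y ∈ (⊤ : Y.Opens) from trivial)
  haveI : IsNoetherianRing Γ(Y, W) := IsLocallyNoetherian.component_noetherian ⟨W, hW⟩
  let p := hW.primeIdealOf ⟨y, hyW⟩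
  have hp : hW.fromSpec p = y := hW.fromSpec_primeIdealOf ⟨y, hyW⟩
  have hinj : Function.Injective hW.fromSpec := hW.fromSpec.isOpenEmbedding.injective
  have h3 : IsClosed ({p} : Set (PrimeSpectrum Γ(Y, W))) ∧
      StableUnderGeneralization ({p} : Set (PrimeSpectrum Γ(Y, W))) := by
    constructor
    · have : ({p} : Set (PrimeSpectrum Γ(Y, W))) = hW.fromSpec ⁻¹' {y} := by
        ext q
        simp only [Set.mem_singleton_iff]
        constructor
        · rintro rfl; exact hp
        · intro hq; exact hinj (hq.trans hp.symm)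
      rw [this]
      exact hcl.preimage hW.fromSpec.continuous
    · intro a b hab ha
      rw [Set.mem_singleton_iff] at ha ⊢
      rw [ha] at hab
      have h1 : hW.fromSpec b ⤳ hW.fromSpec p := hab.map hW.fromSpec.continuous
      rw [hp] at h1
      have h2 := eq_of_specializes_of_dim_stalk y hdim _ h1
      exact hinj (h2.trans hp.symm)
  have h1 : IsOpen ({p} : Set (PrimeSpectrum Γ(Y, W))) :=
    isOpen_singleton_of_isClosed_of_stable p h3.1 h3.2
  have h2 := hW.fromSpec.isOpenEmbedding.isOpenMap _ h1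
  have h4 : (hW.fromSpec '' ({p} : Set (PrimeSpectrum Γ(Y, W)))) = {y} := by
    ext a
    constructor
    · rintro ⟨q, hq, rfl⟩
      have hq' : q = p := hq
      rw [hq']
      exact hp
    · intro ha
      have ha' : a = y := ha
      exact ⟨p, rfl, hp.trans ha'.symm⟩
  rw [← h4]
  exact h2

/-- closedness of a point in its fibre, in terms of specializations in the total space -/
theorem isClosed_singleton_asFiber_iff {X S : Scheme.{u}} (f : X ⟶ S) (x : X) :
    IsClosed ({f.asFiber x} : Set (f.fiber (f x))) ↔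
      ∀ x' : X, x ⤳ x' → f x' = f x → x' = x := by
  have h0 : ({f.asFiber x} : Set (f.fiber (f x))) =
      (f.fiberHomeo (f x)).symm '' {⟨x, rfl⟩} := by
    rw [Set.image_singleton]
    rfl
  rw [h0, Homeomorph.isClosed_image, ← closure_subset_iff_isClosed]
  constructor
  · intro h x' hsp hx'
    have h1 : (⟨x', hx'⟩ : f ⁻¹' {f x}) ∈ closure ({⟨x, rfl⟩} : Set (f ⁻¹' {f x})) := by
      rw [← specializes_iff_mem_closure]
      exact (subtype_specializes_iff (⟨x, rfl⟩ : f ⁻¹' {f x}) ⟨x', hx'⟩).mpr hsp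
    have h2 := h h1
    rw [Set.mem_singleton_iff] at h2
    exact congrArg Subtype.val h2
  · intro h a ha
    rw [← specializes_iff_mem_closure] at ha
    have ha' := (subtype_specializes_iff (⟨x, rfl⟩ : f ⁻¹' {f x}) a).mp ha
    rw [Set.mem_singleton_iff]
    exact Subtype.ext (h a.1 ha' a.2)

/-- an open point of the fibre is isolated in the fibre -/
theorem exists_opens_of_isOpen_asFiber {X S : Scheme.{u}} (f : X ⟶ S) (x : X)
    (h : IsOpen ({f.asFiber x} : Set (f.fiber (f x)))) :
    ∃ W : X.Opens, x ∈ W ∧ ∀ w ∈ W, f w = f x → w = x := by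
  have h0 : ({f.asFiber x} : Set (f.fiber (f x))) =
      (f.fiberHomeo (f x)).symm '' {⟨x, rfl⟩} := by
    rw [Set.image_singleton]
    rfl
  rw [h0, Homeomorph.isOpen_image, isOpen_induced_iff] at h
  obtain ⟨t, ht, hpre⟩ := h
  refine ⟨⟨t, ht⟩, ?_, ?_⟩
  · have : (⟨x, rfl⟩ : f ⁻¹' {f x}) ∈ Subtype.val ⁻¹' t := by
      rw [hpre]; rfl
    exact this
  · intro w hw hfw
    have : (⟨w, hfw⟩ : f ⁻¹' {f x}) ∈ Subtype.val ⁻¹' t := hw
    rw [hpre, Set.mem_singleton_iff] at this
    exact congrArg Subtype.val this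

/-- transfer of closedness in the fibre along a morphism injective on points -/
theorem isClosed_asFiber_comp {Z X S : Scheme.{u}} (j : Z ⟶ X) (f : X ⟶ S) (z : Z)
    (hj : Function.Injective j)
    (h : IsClosed ({f.asFiber (j z)} : Set (f.fiber (f (j z))))) :
    IsClosed ({(j ≫ f).asFiber z} : Set ((j ≫ f).fiber ((j ≫ f) z))) := by
  rw [isClosed_singleton_asFiber_iff] at h ⊢
  intro z' hsp hz'
  apply hj
  apply h (j z') (hsp.map j.continuous)
  simpa using hz'

end Groth.Agent.Lead.SliceQF
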