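import Mathlib
import Groth.Agent.Lib.Lead.CMQF8
import Groth.Agent.Lib.Lead.SliceQF1
import Groth.Agent.Lib.Lead.RelReg12
import Groth.Agent.Lib.Helper4.RelEffCartierFlat1

set_option autoImplicit false
set_option backward.isDefEq.respectTransparency.types false
set_option synthInstance.maxHeartbeats 400000
set_option linter.style.haveILetI false
universe u v

open TensorProduct RingTheory.Sequence IsLocalRing
open AlgebraicGeometry CategoryTheory CategoryTheory.Limits TopologicalSpace

namespace Groth.Agent.Lead.CMQF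

section Bridge

variable {A C : Type u} [CommRing A] [CommRing C] [Algebra A C] (p : Ideal A) [p.IsPrime]
  (q : Ideal C) [q.IsPrime] [q.LiesOver p]
  (Ox : Type u) [CommRing Ox] [Algebra C Ox] [IsLocalization.AtPrime Ox q]
  [Algebra A Ox] [IsScalarTower A C Ox]

set_option maxHeartbeats 1000000 in
theorem bridge (J : Ideal Ox) (hJ : J = p.map (algebraMap A Ox)) (l : List C)
    (hNoeth : IsNoetherianRing (Ox ⧸ J))
    (hreg : IsRegular (Ox ⧸ J) ((l.map (algebraMap C Ox)).map (Ideal.Quotient.mk J)))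
    (hdim : ringKrullDim ((Ox ⧸ J) ⧸
      Ideal.ofList ((l.map (algebraMap C Ox)).map (Ideal.Quotient.mk J))) ≤ 0) :
    IsNoetherianRing (Localization.AtPrime q ⧸ p.map (algebraMap A (Localization.AtPrime q))) ∧
    (∀ i : Fin l.length, l.get i ∈ q) ∧
    IsWeaklyRegular (Localization.AtPrime q ⧸ p.map (algebraMap A (Localization.AtPrime q)))
      (List.ofFn fun i : Fin l.length =>
        Ideal.Quotient.mk (p.map (algebraMap A (Localization.AtPrime q)))
          (algebraMap C (Localization.AtPrime q) (l.get i))) ∧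
    ringKrullDim ((Localization.AtPrime q ⧸ p.map (algebraMap A (Localization.AtPrime q))) ⧸
      Ideal.ofList (List.ofFn fun i : Fin l.length =>
        Ideal.Quotient.mk (p.map (algebraMap A (Localization.AtPrime q)))
          (algebraMap C (Localization.AtPrime q) (l.get i)))) ≤ 0 := by
  set L := Localization.AtPrime q with hL
  set pL := p.map (algebraMap A L) with hpL
  let eL : L ≃ₐ[C] Ox := IsLocalization.algEquiv q.primeCompl L Ox
  have heA : ∀ a : A, eL (algebraMap A L a) = algebraMap A Ox a := by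
    intro a
    rw [IsScalarTower.algebraMap_apply A C L, eL.commutes, ← IsScalarTower.algebraMap_apply]
  have hpLmap : pL.map (eL.toRingEquiv : L →+* Ox) = J := by
    rw [hJ, hpL, Ideal.map_map]
    congr 1
    exact RingHom.ext heA
  let ebar : L ⧸ pL ≃+* Ox ⧸ J := Ideal.quotientEquiv pL J eL.toRingEquiv hpLmap.symm
  have hebar : ∀ c : C, ebar (Ideal.Quotient.mk pL (algebraMap C L c)) =
      Ideal.Quotient.mk J (algebraMap C Ox c) := by
    intro c
    show Ideal.Quotient.mk J (eL (algebraMap C L c)) = _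
    rw [eL.commutes]
  have hlist : (List.ofFn fun i : Fin l.length => Ideal.Quotient.mk pL (algebraMap C L (l.get i))) =
      l.map (fun c => Ideal.Quotient.mk pL (algebraMap C L c)) := by
    conv_rhs => rw [← List.ofFn_get l]
    rw [List.map_ofFn]
    rfl
  rw [hlist]
  have hlistO : (l.map (algebraMap C Ox)).map (Ideal.Quotient.mk J) =
      l.map (fun c => Ideal.Quotient.mk J (algebraMap C Ox c)) := by
    rw [List.map_map]; rfl
  rw [hlistO] at hreg hdim
  refine ⟨isNoetherianRing_of_ringEquiv _ ebar.symm, ?_, ?_, ?_⟩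
  · intro i
    by_contra hni
    have hu : IsUnit (algebraMap C Ox (l.get i)) :=
      IsLocalization.map_units Ox (⟨l.get i, hni⟩ : q.primeCompl)
    have hu' : IsUnit (Ideal.Quotient.mk J (algebraMap C Ox (l.get i))) := hu.map _
    have hmemI : Ideal.Quotient.mk J (algebraMap C Ox (l.get i)) ∈
        Ideal.ofList (l.map (fun c => Ideal.Quotient.mk J (algebraMap C Ox c))) := by
      apply Ideal.subset_span
      exact List.mem_map.mpr ⟨l.get i, List.get_mem l i, rfl⟩
    have htop : Ideal.ofList (l.map (fun c => Ideal.Quotient.mk J (algebraMap C Ox c))) = ⊤ :=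
      Ideal.eq_top_of_isUnit_mem _ hmemI hu'
    apply hreg.top_ne_smul
    rw [htop, Submodule.top_smul]
  · refine (AddEquiv.isWeaklyRegular_congr (e := ebar.toAddEquiv) ?_).mpr hreg.toIsWeaklyRegular
    rw [List.forall₂_map_right_iff, List.forall₂_map_left_iff, List.forall₂_same]
    intro c _ x
    show ebar (Ideal.Quotient.mk pL (algebraMap C L c) • x) = _
    rw [smul_eq_mul, map_mul, hebar, smul_eq_mul]
    rfl
  · have hmapI : (Ideal.ofList (l.map (fun c => Ideal.Quotient.mk pL (algebraMap C L c)))).map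
        (ebar : L ⧸ pL →+* Ox ⧸ J) =
        Ideal.ofList (l.map (fun c => Ideal.Quotient.mk J (algebraMap C Ox c))) := by
      rw [Ideal.map_ofList, List.map_map]
      congr 1
      apply List.map_congr_left
      intro c _
      exact hebar c
    rw [ringKrullDim_eq_of_ringEquiv (Ideal.quotientEquiv _ _ ebar hmapI.symm)]
    exact hdim

end Bridge

section Mp

variable {X Y : Scheme.{u}} (f : X ⟶ Y) [LocallyOfFinitePresentation f]

set_option maxHeartbeats 2000000 in
theorem S4949_mp (x : X) (hcm : MoreMor.IsCMAt f x) :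
    ∃ (n : ℕ) (U : X.Opens) (hx : x ∈ U) (g : (U : Scheme.{u}) ⟶ 𝔸(ULift.{u} (Fin n); Y)),
      g ≫ (𝔸(ULift.{u} (Fin n); Y) ↘ Y) = U.ι ≫ f ∧ LocallyQuasiFinite g ∧
        (g.stalkMap ⟨x, hx⟩).hom.Flat := by
  obtain ⟨hs, hreg, hdim⟩ := Groth.Agent.Lead.SliceQF.exists_list_of_isCMAt f x hcm
  obtain ⟨W, hxW, l, hl⟩ := Groth.Agent.Lead.RelReg.exists_list_germ x hs
  obtain ⟨_, ⟨V, hV, rfl⟩, hyV, -⟩ :=
    Y.isBasis_affineOpens.exists_subset_of_mem_open (Set.mem_univ (f x)) isOpen_univ
  obtain ⟨_, ⟨U, hU, rfl⟩, hxU, hUsub⟩ :=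
    X.isBasis_affineOpens.exists_subset_of_mem_open
      (show x ∈ ((W ⊓ f ⁻¹ᵁ V : X.Opens) : Set X) from ⟨hxW, hyV⟩) (W ⊓ f ⁻¹ᵁ V).isOpen
  have hUW : U ≤ W := fun z hz => (hUsub hz).1
  have hUV : U ≤ f ⁻¹ᵁ V := fun z hz => (hUsub hz).2
  let l' : List Γ(X, U) := l.map (X.presheaf.map (homOfLE hUW).op).hom
  have hl' : l'.map (X.presheaf.germ U x hxU).hom = hs := by
    rw [List.map_map, ← hl]
    apply List.map_congr_left
    intro a _
    exact X.presheaf.germ_res_apply (homOfLE hUW) x hxU a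
  letI algAC : Algebra Γ(Y, V) Γ(X, U) := (f.appLE V U hUV).hom.toAlgebra
  haveI : Algebra.FinitePresentation Γ(Y, V) Γ(X, U) :=
    HasRingHomProperty.appLE (P := @LocallyOfFinitePresentation) f inferInstance ⟨V, hV⟩ ⟨U, hU⟩ hUV
  set q := (hU.primeIdealOf ⟨x, hxU⟩).asIdeal with hq
  set p := q.comap (f.appLE V U hUV).hom with hp
  haveI : q.LiesOver p := ⟨rfl⟩
  letI algCO : Algebra Γ(X, U) (X.presheaf.stalk x) :=
    TopCat.Presheaf.algebra_section_stalk X.presheaf ⟨x, hxU⟩
  haveI : IsLocalization.AtPrime (X.presheaf.stalk x) q := hU.isLocalization_stalk ⟨x, hxU⟩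
  letI algAO : Algebra Γ(Y, V) (X.presheaf.stalk x) :=
    ((algebraMap Γ(X, U) (X.presheaf.stalk x)).comp (algebraMap Γ(Y, V) Γ(X, U))).toAlgebra
  haveI : IsScalarTower Γ(Y, V) Γ(X, U) (X.presheaf.stalk x) :=
    IsScalarTower.of_algebraMap_eq (fun _ => rfl)
  set J := Ideal.map (f.stalkMap x).hom (maximalIdeal (Y.presheaf.stalk (f x))) with hJdef
  have hJ : J = p.map (algebraMap Γ(Y, V) (X.presheaf.stalk x)) := by
    letI algAOy : Algebra Γ(Y, V) (Y.presheaf.stalk (f x)) :=
      TopCat.Presheaf.algebra_section_stalk Y.presheaf ⟨f x, hyV⟩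
    haveI : IsLocalization.AtPrime (Y.presheaf.stalk (f x)) (hV.primeIdealOf ⟨f x, hyV⟩).asIdeal :=
      hV.isLocalization_stalk ⟨f x, hyV⟩
    have hpV : (hV.primeIdealOf ⟨f x, hyV⟩).asIdeal = p := by
      have := IsAffineOpen.comap_primeIdealOf_appLE V hV U hU hUV hxU
      exact (congrArg PrimeSpectrum.asIdeal this).symm
    have hm : maximalIdeal (Y.presheaf.stalk (f x)) =
        p.map (algebraMap Γ(Y, V) (Y.presheaf.stalk (f x))) := by
      rw [← hpV]
      exact (IsLocalization.AtPrime.map_eq_maximalIdeal _ _).symm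
    rw [hJdef, hm, Ideal.map_map]
    congr 1
    refine RingHom.ext fun a => ?_
    show (f.stalkMap x).hom ((Y.presheaf.germ V (f x) hyV).hom a) =
      (X.presheaf.germ U x hxU).hom ((f.appLE V U hUV).hom a)
    have h2 := Scheme.Hom.germ_stalkMap_apply f V x hyV a
    rw [Scheme.Hom.appLE]
    erw [h2]
    exact (X.presheaf.germ_res_apply (homOfLE hUV) x hxU _).symm
  have hNoeth : IsNoetherianRing (X.presheaf.stalk x ⧸ J) := by
    obtain ⟨γ, hγ, hk⟩ := Groth.Agent.Helper3.FibStalk.exists_fibre_presentation f x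
    haveI := hcm.2
    haveI : IsNoetherianRing ((f.fiber (f x)).presheaf.stalk (f.asFiber x)) := inferInstance
    let e : (X.presheaf.stalk x ⧸ J) ≃+* (f.fiber (f x)).presheaf.stalk (f.asFiber x) :=
      (Ideal.quotEquivOfEq hk.symm).trans (RingHom.quotientKerEquivOfSurjective hγ)
    exact isNoetherianRing_of_ringEquiv _ e.symm
  have h1 : Module.Flat Γ(Y, V) (Localization.AtPrime q) := by
    have hfl := (Groth.Agent.Lib.Helper4.RelEffCartierFlat1.flat_stalkMap_iff f V hV U hU hUV
      hxU).mp hcm.1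
    have hflA : (algebraMap Γ(Y, V) (Localization.AtPrime p)).Flat :=
      RingHom.flat_algebraMap_iff.mpr inferInstance
    have hcomp := RingHom.Flat.comp hflA hfl
    rw [← RingHom.flat_algebraMap_iff]
    convert hcomp using 1
    refine RingHom.ext fun a => ?_
    rw [RingHom.comp_apply, Localization.localRingHom_to_map]
    rfl
  obtain ⟨hN, hmem, hregL, hdimL⟩ := bridge p q (X.presheaf.stalk x) J hJ l' hNoeth
    (by
      have : l'.map (algebraMap Γ(X, U) (X.presheaf.stalk x)) = hs := hl'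
      rw [this]
      exact hreg)
    (by
      have : l'.map (algebraMap Γ(X, U) (X.presheaf.stalk x)) = hs := hl'
      rw [this]
      exact hdim)
  obtain ⟨n, ψ, hflψ, hqfψ⟩ := exists_flat_quasiFinite p q h1 hN l'.length l'.get hmem hregL hdimL
  have hψC : ψ.toRingHom.comp MvPolynomial.C = (f.appLE V U hUV).hom :=
    RingHom.ext fun a => ψ.commutes a
  obtain ⟨U', hx', g, hg1, hg2, hg3⟩ :=
    exists_affineSpace_hom f x hU hxU hV hUV n ψ.toRingHom hψC hflψ hqfψ
  exact ⟨n, U', hx', g, hg1, hg2, hg3⟩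

end Mp

end Groth.Agent.Lead.CMQF
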