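import Mathlib
import Groth.Agent.Lib.Lead.CMQF9
import Groth.Agent.Lib.Lead.CMAt3
import Groth.Agent.Lib.Helper8.CMPoly1
import Groth.Agent.Lib.Helper3.FibDepth
import Groth.Agent.Lib.Helper6.Witt.Exact

set_option autoImplicit false
set_option backward.isDefEq.respectTransparency.types false
set_option synthInstance.maxHeartbeats 400000
set_option linter.style.haveILetI false
universe u v

open AlgebraicGeometry CategoryTheory CategoryTheory.Limits TopologicalSpace IsLocalRing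
open LocCoh

namespace Groth.Agent.Lead.CMQF

section Mpr

/-- a Noetherian local ring of dimension `≤ 0` is Cohen–Macaulay -/
theorem cm_of_dim_zero (R : Type u) [CommRing R] [IsLocalRing R] [IsNoetherianRing R]
    (h : ringKrullDim R ≤ 0) : IsCohenMacaulayLocalRing R := by
  have h0 : ringKrullDim R = 0 := le_antisymm h ringKrullDim_nonneg_of_nontrivial
  have h1 := Groth.Agent.Helper3.FibDepth.depth_le_dim' R
  rw [h0] at h1
  have h2 : depth R R = 0 := by
    have : ((depth R R : ℕ∞) : WithBot ℕ∞) ≤ ((0 : ℕ∞) : WithBot ℕ∞) := h1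
    exact le_antisymm (by exact_mod_cast this) bot_le
  refine ⟨?_⟩
  rw [Module.supportDim_self_eq_ringKrullDim, h0, h2]
  rfl

/-- the local rings of a locally Artinian scheme are Cohen–Macaulay -/
theorem cm_stalk_of_isLocallyArtinian (F : Scheme.{u}) [IsLocallyArtinian F] (w : F) :
    IsCohenMacaulayLocalRing (F.presheaf.stalk w) := by
  haveI : IsNoetherianRing (F.presheaf.stalk w) := inferInstance
  apply cm_of_dim_zero
  have hco : Order.coheight w ≤ (0 : ℕ) := by
    rw [Nat.cast_zero, nonpos_iff_eq_zero, Order.coheight_eq_zero]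
    intro w' hw'
    rw [Scheme.le_iff_specializes] at hw'
    haveI : DiscreteTopology F := inferInstance
    rw [hw'.eq]
  haveI := krullDimLE_of_coheight_le hco
  exact Ring.krullDimLE_iff.mp inferInstance

/-- the fibres of `𝔸ⁿ_Y → Y` have Cohen–Macaulay local rings -/
theorem cm_fiber_affineSpace (n : ℕ) (Y : Scheme.{u}) (y : Y)
    (w : (𝔸(ULift.{u} (Fin n); Y) ↘ Y).fiber y) :
    IsCohenMacaulayLocalRing (((𝔸(ULift.{u} (Fin n); Y) ↘ Y).fiber y).presheaf.stalk w) := by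
  let e1 : 𝔸(ULift.{u} (Fin n); Spec (Y.residueField y)) ≅ (𝔸(ULift.{u} (Fin n); Y) ↘ Y).fiber y :=
    (AffineSpace.isPullback_map (n := ULift.{u} (Fin n)) (Y.fromSpecResidueField y)).isoPullback
  let e : (𝔸(ULift.{u} (Fin n); Y) ↘ Y).fiber y ≅
      Spec (CommRingCat.of (MvPolynomial (ULift.{u} (Fin n)) (Y.residueField y))) :=
    e1.symm ≪≫ AffineSpace.SpecIso (ULift.{u} (Fin n)) (Y.residueField y)
  exact Groth.Agent.Lead.CMAt.cm_stalk_of_iso_spec
    (MvPolynomial (ULift.{u} (Fin n)) (Y.residueField y))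
    (Groth.Agent.Helper8.CplMap.isCohenMacaulayRing_of_isRegularRing _) e w

theorem isLocallyNoetherian_fiber {X Y : Scheme.{u}} (f : X ⟶ Y) [LocallyOfFiniteType f] (y : Y) :
    IsLocallyNoetherian (f.fiber y) := by
  haveI : LocallyOfFiniteType (f.fiberToSpecResidueField y) :=
    MorphismProperty.pullback_snd _ _ inferInstance
  exact LocallyOfFiniteType.isLocallyNoetherian (f.fiberToSpecResidueField y)

set_option maxHeartbeats 1000000 in
theorem S4949_mpr {X Y : Scheme.{u}} (f : X ⟶ Y) [LocallyOfFinitePresentation f] (x : X)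
    (n : ℕ) (U : X.Opens) (hx : x ∈ U) (g : (U : Scheme.{u}) ⟶ 𝔸(ULift.{u} (Fin n); Y))
    (hg : g ≫ (𝔸(ULift.{u} (Fin n); Y) ↘ Y) = U.ι ≫ f) (hqf : LocallyQuasiFinite g)
    (hfl : (g.stalkMap ⟨x, hx⟩).hom.Flat) : MoreMor.IsCMAt f x := by
  set x' : U := ⟨x, hx⟩ with hx'
  have h1 : MoreMor.IsCMAt g x' :=
    ⟨hfl, cm_stalk_of_isLocallyArtinian (g.fiber (g x')) (g.asFiber x')⟩
  have h2 : MoreMor.IsCMAt (𝔸(ULift.{u} (Fin n); Y) ↘ Y) (g x') :=
    ⟨Flat.stalkMap _ _, cm_fiber_affineSpace n Y _ _⟩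
  haveI : LocallyOfFiniteType (g ≫ (𝔸(ULift.{u} (Fin n); Y) ↘ Y)) := by
    rw [hg]; infer_instance
  have h3 : MoreMor.IsCMAt (g ≫ (𝔸(ULift.{u} (Fin n); Y) ↘ Y)) x' :=
    Groth.Agent.Lead.CMAt.S9766_main g (𝔸(ULift.{u} (Fin n); Y) ↘ Y) x'
      (isLocallyNoetherian_fiber _ _) h1 h2
  rw [hg] at h3
  have hflι : (U.ι.stalkMap x').hom.Flat :=
    RingHom.Flat.of_bijective (ConcreteCategory.bijective_of_isIso (U.ι.stalkMap x'))
  have h4 := Groth.Agent.Lead.CMAt.S9767_main U.ι f x' (isLocallyNoetherian_fiber _ _)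
    (isLocallyNoetherian_fiber _ _) h3 hflι
  exact h4.2

end Mpr

end Groth.Agent.Lead.CMQF
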