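import Mathlib
import Groth.Agent.Lib.Lead.CMQF10
import Groth.Agent.Lib.Lead.FlatLoc13
import Groth.Agent.Lib.Helper2.LfpOfComp

set_option autoImplicit false
set_option backward.isDefEq.respectTransparency.types false
set_option synthInstance.maxHeartbeats 400000
set_option linter.style.haveILetI false
universe u v

open AlgebraicGeometry CategoryTheory CategoryTheory.Limits TopologicalSpace IsLocalRing
open LocCoh

namespace Groth.Agent.Lead.CMQF

theorem S4961_main {X Y : Scheme.{u}} (f : X ⟶ Y) [LocallyOfFinitePresentation f] :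
    IsOpen {x : X | MoreMor.IsCMAt f x} := by
  rw [isOpen_iff_forall_mem_open]
  intro x hx
  obtain ⟨n, U, hxU, g, hg, hqf, hfl⟩ := S4949_mp f x hx
  haveI : LocallyOfFinitePresentation (g ≫ (𝔸(ULift.{u} (Fin n); Y) ↘ Y)) := by
    rw [hg]; infer_instance
  haveI : LocallyOfFinitePresentation g :=
    Groth.Agent.Helper2.locallyOfFinitePresentation_of_comp g (𝔸(ULift.{u} (Fin n); Y) ↘ Y)
      inferInstance inferInstance
  have hopen := Groth.Agent.Lead.FlatLoc.isOpen_flatLocus_of_locallyOfFinitePresentation g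
  refine ⟨U.ι '' {x' | (g.stalkMap x').hom.Flat}, ?_, U.ι.isOpenEmbedding.isOpenMap _ hopen,
    ⟨⟨x, hxU⟩, hfl, rfl⟩⟩
  rintro _ ⟨x', hx', rfl⟩
  exact S4949_mpr f (U.ι x') n U x'.2 g hg hqf hx'

end Groth.Agent.Lead.CMQF
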