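import Mathlib
import Groth.Agent.Lib.Lead.RelReg15
import Groth.Agent.Lib.Helper8.Depth15

set_option autoImplicit false
set_option backward.isDefEq.respectTransparency.types false
set_option synthInstance.maxHeartbeats 400000
set_option linter.style.haveILetI false

universe u

open AlgebraicGeometry CategoryTheory CategoryTheory.Limits TopologicalSpace IsLocalRing
open RingTheory.Sequence

namespace Groth.Agent.Lead.SliceQF

section
variable {X : Scheme.{u}} {U : X.Opens} (hU : IsAffineOpen U) (I : Ideal Γ(X, U))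

/-- the closed subscheme of the affine open `U` cut out by `I`, mapped to `X` -/
noncomputable abbrev sliceHom : Spec (CommRingCat.of (Γ(X, U) ⧸ I)) ⟶ X :=
  Spec.map (CommRingCat.ofHom (Ideal.Quotient.mk I)) ≫ hU.fromSpec

theorem sliceHom_preimage : (sliceHom hU I) ⁻¹ᵁ U = ⊤ := by
  rw [sliceHom, Scheme.Hom.comp_preimage, hU.fromSpec_preimage_self]
  rfl

theorem sliceHom_appLE :
    (sliceHom hU I).appLE U ⊤ (by rw [sliceHom_preimage]) =
      CommRingCat.ofHom (Ideal.Quotient.mk I) ≫ (Scheme.ΓSpecIso _).inv := by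
  apply Spec.map_injective
  have h1 := IsAffineOpen.SpecMap_appLE_fromSpec (sliceHom hU I) hU
    (isAffineOpen_top (Spec (CommRingCat.of (Γ(X, U) ⧸ I)))) (by rw [sliceHom_preimage])
  rw [← cancel_mono hU.fromSpec, h1, IsAffineOpen.fromSpec_top, Scheme.isoSpec_Spec_inv, sliceHom,
    Spec.map_comp, Category.assoc]

theorem sliceHom_app_eq (a : Γ(X, U)) :
    (Scheme.ΓSpecIso (CommRingCat.of (Γ(X, U) ⧸ I))).inv.hom (Ideal.Quotient.mk I a) =
      ((Spec (CommRingCat.of (Γ(X, U) ⧸ I))).presheaf.map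
        (homOfLE (show ⊤ ≤ (sliceHom hU I) ⁻¹ᵁ U by rw [sliceHom_preimage])).op).hom
        (((sliceHom hU I).app U).hom a) := by
  have h := sliceHom_appLE hU I
  rw [Scheme.Hom.appLE] at h
  have h2 := congrArg (fun φ => φ.hom a) h
  exact h2.symm

theorem sliceHom_isAffineOpen_preimage : IsAffineOpen ((sliceHom hU I) ⁻¹ᵁ U) := by
  rw [sliceHom_preimage]
  exact isAffineOpen_top _

theorem sliceHom_res_bijective :
    Function.Bijective ((Spec (CommRingCat.of (Γ(X, U) ⧸ I))).presheaf.map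
        (homOfLE (show ⊤ ≤ (sliceHom hU I) ⁻¹ᵁ U by rw [sliceHom_preimage])).op).hom := by
  have h : (⊤ : (Spec (CommRingCat.of (Γ(X, U) ⧸ I))).Opens) = (sliceHom hU I) ⁻¹ᵁ U :=
    (sliceHom_preimage hU I).symm
  exact Groth.Agent.Lib.Helper4.RegSpread2.presheaf_map_eqToHom_bijective h

theorem sliceHom_app_surjective : Function.Surjective ((sliceHom hU I).app U).hom := by
  intro b
  obtain ⟨c, hc⟩ := (ConcreteCategory.bijective_of_isIso
    (Scheme.ΓSpecIso (CommRingCat.of (Γ(X, U) ⧸ I))).inv).2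
      (((Spec (CommRingCat.of (Γ(X, U) ⧸ I))).presheaf.map
        (homOfLE (show ⊤ ≤ (sliceHom hU I) ⁻¹ᵁ U by rw [sliceHom_preimage])).op).hom b)
  obtain ⟨a, rfl⟩ := Ideal.Quotient.mk_surjective c
  refine ⟨a, (sliceHom_res_bijective hU I).1 ?_⟩
  rw [← sliceHom_app_eq]
  exact hc

theorem sliceHom_ker_app : RingHom.ker ((sliceHom hU I).app U).hom = I := by
  ext a
  rw [RingHom.mem_ker, ← (sliceHom_res_bijective hU I).1.eq_iff, map_zero, ← sliceHom_app_eq,
    ← map_zero (Scheme.ΓSpecIso (CommRingCat.of (Γ(X, U) ⧸ I))).inv.hom,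
    (ConcreteCategory.bijective_of_isIso
      (Scheme.ΓSpecIso (CommRingCat.of (Γ(X, U) ⧸ I))).inv).1.eq_iff, Ideal.Quotient.eq_zero_iff_mem]

end

end Groth.Agent.Lead.SliceQF
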