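import Mathlib
import Groth.Agent.Lib.Lead.SliceQF1
import Groth.Agent.Lib.Lead.SliceQF2

set_option autoImplicit false
set_option backward.isDefEq.respectTransparency.types false
set_option synthInstance.maxHeartbeats 400000
set_option linter.style.haveILetI false

universe u

open AlgebraicGeometry CategoryTheory CategoryTheory.Limits TopologicalSpace IsLocalRing
open RingTheory.Sequence

namespace Groth.Agent.Lead.SliceQF

section
variable {X : Scheme.{u}} {U : X.Opens} (hU : IsAffineOpen U)

theorem sliceHom_ker_stalkMap (hs' : List Γ(X, U))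
    (z : Spec (CommRingCat.of (Γ(X, U) ⧸ Ideal.ofList hs')))
    (hzU : sliceHom hU (Ideal.ofList hs') z ∈ U) :
    RingHom.ker ((sliceHom hU (Ideal.ofList hs')).stalkMap z).hom =
      Ideal.ofList (hs'.map (X.presheaf.germ U (sliceHom hU (Ideal.ofList hs') z) hzU).hom) := by
  rw [Groth.Agent.Lib.Helper4.RegSpread1.ker_stalkMap_of_app_surjective
    (sliceHom hU (Ideal.ofList hs')) z U hU hzU (sliceHom_isAffineOpen_preimage hU _)
    (sliceHom_app_surjective hU _), sliceHom_ker_app, Ideal.map_ofList]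

instance (I : Ideal Γ(X, U)) : IsClosedImmersion (Spec.map (CommRingCat.ofHom (Ideal.Quotient.mk I))) :=
  IsClosedImmersion.spec_of_surjective _ Ideal.Quotient.mk_surjective

set_option maxHeartbeats 1000000 in
theorem quasiFiniteAt_slice {S : Scheme.{u}} (f : X ⟶ S) [LocallyOfFiniteType f]
    (hs' : List Γ(X, U))
    (z : Spec (CommRingCat.of (Γ(X, U) ⧸ Ideal.ofList hs')))
    (hzU : sliceHom hU (Ideal.ofList hs') z ∈ U)
    (hcl : IsClosed ({f.asFiber (sliceHom hU (Ideal.ofList hs') z)} :
      Set (f.fiber (f (sliceHom hU (Ideal.ofList hs') z)))))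
    (hdim : ringKrullDim ((X.presheaf.stalk (sliceHom hU (Ideal.ofList hs') z) ⧸
        Ideal.map (f.stalkMap (sliceHom hU (Ideal.ofList hs') z)).hom
          (maximalIdeal (S.presheaf.stalk (f (sliceHom hU (Ideal.ofList hs') z))))) ⧸
        Ideal.ofList ((hs'.map (X.presheaf.germ U (sliceHom hU (Ideal.ofList hs') z) hzU).hom).map
          (Ideal.Quotient.mk (Ideal.map (f.stalkMap (sliceHom hU (Ideal.ofList hs') z)).hom
          (maximalIdeal (S.presheaf.stalk (f (sliceHom hU (Ideal.ofList hs') z)))))))) ≤ 0) :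
    (sliceHom hU (Ideal.ofList hs') ≫ f).QuasiFiniteAt z := by
  set j := sliceHom hU (Ideal.ofList hs') with hj
  haveI : LocallyOfFiniteType (j ≫ f) := inferInstance
  rw [Scheme.Hom.quasiFiniteAt_iff_isOpen_singleton_asFiber]
  haveI : LocallyOfFiniteType ((j ≫ f).fiberToSpecResidueField ((j ≫ f) z)) :=
    MorphismProperty.pullback_snd _ _ inferInstance
  haveI : IsLocallyNoetherian ((j ≫ f).fiber ((j ≫ f) z)) :=
    LocallyOfFiniteType.isLocallyNoetherian ((j ≫ f).fiberToSpecResidueField ((j ≫ f) z))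
  apply isOpen_singleton_of_dim_stalk
  · exact isClosed_asFiber_comp j f z j.isEmbedding.injective hcl
  · obtain ⟨γ, hγ, hk⟩ := Groth.Agent.Helper3.FibStalk.exists_fibre_presentation (j ≫ f) z
    have hcomp : ((j ≫ f).stalkMap z).hom = (j.stalkMap z).hom.comp (f.stalkMap (j z)).hom := by
      rw [Scheme.Hom.stalkMap_comp]
      rfl
    rw [hcomp] at hk
    obtain ⟨e⟩ := fibre_slice_equiv (maximalIdeal (S.presheaf.stalk (f (j z))))
      (f.stalkMap (j z)).hom (j.stalkMap z).hom (j.stalkMap_surjective z) γ hγ hk _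
      (sliceHom_ker_stalkMap hU hs' z hzU)
    rw [ringKrullDim_eq_of_ringEquiv e]
    exact hdim

end

end Groth.Agent.Lead.SliceQF
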