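import Mathlib
import Groth.Agent.Lib.Lead.SliceQF3
import Groth.Agent.Lib.Helper4.RegFlatBC1

set_option autoImplicit false
set_option backward.isDefEq.respectTransparency.types false
set_option synthInstance.maxHeartbeats 400000
set_option linter.style.haveILetI false

universe u

open AlgebraicGeometry CategoryTheory CategoryTheory.Limits TopologicalSpace IsLocalRing
open RingTheory.Sequence

namespace Groth.Agent.Lead.SliceQF

set_option maxHeartbeats 1000000 in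
theorem slice_main {X S : Scheme.{u}} (f : X ⟶ S) [LocallyOfFinitePresentation f]
    {U : X.Opens} (hU : IsAffineOpen U) (I : Ideal Γ(X, U))
    (z₀ : Spec (CommRingCat.of (Γ(X, U) ⧸ I)))
    (hreg : Mor2.IsRegularClosedImmersion
      (Spec.map (CommRingCat.ofHom (Ideal.Quotient.mk I)) ≫ hU.isoSpec.inv))
    (hfl : Flat (sliceHom hU I ≫ f)) (hfp : LocallyOfFinitePresentation (sliceHom hU I ≫ f))
    (hqf : (sliceHom hU I ≫ f).QuasiFiniteAt z₀) :
    ∃ (V : X.Opens) (Z : Scheme.{u}) (i : Z ⟶ (V : Scheme.{u})), Mor2.IsRegularClosedImmersion i ∧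
      sliceHom hU I z₀ ∈ Set.range ⇑(i ≫ V.ι) ∧
      Flat (i ≫ V.ι ≫ f) ∧ LocallyOfFinitePresentation (i ≫ V.ι ≫ f) ∧
      LocallyQuasiFinite (i ≫ V.ι ≫ f) ∧
      ∀ z : Z, f (V.ι (i z)) = f (sliceHom hU I z₀) → V.ι (i z) = sliceHom hU I z₀ := by
  set j := sliceHom hU I with hjdef
  set j₀ : Spec (CommRingCat.of (Γ(X, U) ⧸ I)) ⟶ (U : Scheme.{u}) :=
    Spec.map (CommRingCat.ofHom (Ideal.Quotient.mk I)) ≫ hU.isoSpec.inv with hj₀def
  have hj₀ : j₀ ≫ U.ι = j := by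
    rw [hj₀def, hjdef, sliceHom, Category.assoc]
    rfl
  haveI : IsClosedImmersion j₀ := hreg.1
  haveI : LocallyOfFiniteType (j ≫ f) := inferInstance
  obtain ⟨W₁, hz₀W₁, hW₁⟩ := exists_opens_of_isOpen_asFiber (j ≫ f) z₀
    (Scheme.Hom.quasiFiniteAt_iff_isOpen_singleton_asFiber.mp hqf)
  let W : (Spec (CommRingCat.of (Γ(X, U) ⧸ I))).Opens := (j ≫ f).quasiFiniteLocus ⊓ W₁
  have hz₀W : z₀ ∈ W := ⟨hqf, hz₀W₁⟩
  let V' : (U : Scheme.{u}).Opens :=
    ⟨(j₀ '' ((W : Set _)ᶜ))ᶜ, (j₀.isClosedEmbedding.isClosedMap _ W.isOpen.isClosed_compl).isOpen_compl⟩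
  have hV' : ∀ w, j₀ w ∈ V' ↔ w ∈ W := by
    intro w
    change j₀ w ∉ j₀ '' ((W : Set _)ᶜ) ↔ _
    rw [j₀.isClosedEmbedding.injective.mem_set_image]
    exact not_not
  let V : X.Opens := U.ι ''ᵁ V'
  have hVU : V ≤ U := by
    rintro _ ⟨v, -, rfl⟩
    exact v.2
  have hmemV : ∀ v : (V : Scheme.{u}), X.homOfLE hVU v ∈ V' := by
    intro v
    obtain ⟨v', hv', hvv'⟩ := v.2
    have e1 : U.ι (X.homOfLE hVU v) = v.1 := by
      rw [← Scheme.Hom.comp_apply, Scheme.homOfLE_ι]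
      rfl
    have : X.homOfLE hVU v = v' := by
      apply U.ι.isOpenEmbedding.injective
      exact e1.trans hvv'.symm
    rw [this]
    exact hv'
  let P := pullback j₀ (X.homOfLE hVU)
  let i : P ⟶ (V : Scheme.{u}) := pullback.snd j₀ (X.homOfLE hVU)
  let fst : P ⟶ Spec (CommRingCat.of (Γ(X, U) ⧸ I)) := pullback.fst j₀ (X.homOfLE hVU)
  have hcomm : i ≫ V.ι = fst ≫ j := by
    rw [← hj₀, ← Category.assoc, pullback.condition, Category.assoc, Scheme.homOfLE_ι]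
  have hcomm' : i ≫ V.ι ≫ f = fst ≫ (j ≫ f) := by
    rw [← Category.assoc, hcomm, Category.assoc]
  have hfstW : ∀ p : P, fst p ∈ W := by
    intro p
    rw [← hV']
    have h1 : j₀ (fst p) = X.homOfLE hVU (i p) := by
      rw [← Scheme.Hom.comp_apply, ← Scheme.Hom.comp_apply, pullback.condition]
    rw [h1]
    exact hmemV _
  refine ⟨V, P, i, ?_, ?_, ?_, ?_, ?_, ?_⟩
  · exact Groth.Agent.Lib.Helper4.RegFlatBC1.S2886_main j₀ (X.homOfLE hVU) hreg
  · have hjj : U.ι (j₀ z₀) = j z₀ :=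
      (Scheme.Hom.comp_apply j₀ U.ι z₀).symm.trans (by rw [hj₀])
    have hv₀ : j z₀ ∈ V := ⟨j₀ z₀, (hV' z₀).mpr hz₀W, hjj⟩
    let v₀ : (V : Scheme.{u}) := ⟨j z₀, hv₀⟩
    have h2 : j₀ z₀ = X.homOfLE hVU v₀ := by
      apply U.ι.isOpenEmbedding.injective
      have e1 : U.ι (X.homOfLE hVU v₀) = v₀.1 := by
        rw [← Scheme.Hom.comp_apply, Scheme.homOfLE_ι]
        rfl
      exact hjj.trans e1.symm
    obtain ⟨p, hp1, hp2⟩ := Scheme.Pullback.exists_preimage_pullback (f := j₀)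
      (g := X.homOfLE hVU) z₀ v₀ h2
    refine ⟨p, ?_⟩
    rw [Scheme.Hom.comp_apply]
    have : i p = v₀ := hp2
    rw [this]
    rfl
  · rw [hcomm']
    infer_instance
  · rw [hcomm']
    infer_instance
  · rw [hcomm']
    haveI : LocallyOfFiniteType (fst ≫ (j ≫ f)) := inferInstance
    rw [← Scheme.Hom.quasiFiniteLocus_eq_top_iff, Scheme.Hom.quasiFiniteLocus_comp]
    apply top_le_iff.mp
    intro p _
    exact (hfstW p).1
  · intro p hp
    have h1 : V.ι (i p) = j (fst p) := by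
      rw [← Scheme.Hom.comp_apply, ← Scheme.Hom.comp_apply, hcomm]
    rw [h1] at hp ⊢
    have h2 := hW₁ (fst p) (hfstW p).2 (by simpa using hp)
    rw [h2]

set_option maxHeartbeats 1000000 in
theorem S1349_main {X S : Scheme.{u}} (f : X ⟶ S) [LocallyOfFinitePresentation f] (x : X)
    (hcm : MoreMor.IsCMAt f x) (hcl : IsClosed ({f.asFiber x} : Set ↑(f.fiber (f x)))) :
    ∃ (V : X.Opens) (Z : Scheme.{u}) (i : Z ⟶ (V : Scheme.{u})), Mor2.IsRegularClosedImmersion i ∧ x ∈ Set.range ⇑(i ≫ V.ι) ∧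
      Flat (i ≫ V.ι ≫ f) ∧ LocallyOfFinitePresentation (i ≫ V.ι ≫ f) ∧ LocallyQuasiFinite (i ≫ V.ι ≫ f) ∧
      ∀ z : Z, f (V.ι (i z)) = f x → V.ι (i z) = x := by
  obtain ⟨hs, hreg, hdim⟩ := exists_list_of_isCMAt f x hcm
  obtain ⟨U, hU, hx, hs', hgerm, hreg', ⟨z₀, hz₀⟩, hfl, hfp, -⟩ :=
    Groth.Agent.Lead.RelReg.S1459_main f x hcm.1 hs hreg
  subst hgerm
  have hz₀' : sliceHom hU (Ideal.ofList hs') z₀ = x := hz₀
  subst hz₀'
  have hqf : (sliceHom hU (Ideal.ofList hs') ≫ f).QuasiFiniteAt z₀ :=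
    quasiFiniteAt_slice hU f hs' z₀ hx hcl hdim
  have hfl' : Flat (sliceHom hU (Ideal.ofList hs') ≫ f) := by
    rw [sliceHom, Category.assoc]; exact hfl
  have hfp' : LocallyOfFinitePresentation (sliceHom hU (Ideal.ofList hs') ≫ f) := by
    rw [sliceHom, Category.assoc]; exact hfp
  exact slice_main f hU (Ideal.ofList hs') z₀ hreg' hfl' hfp' hqf

end Groth.Agent.Lead.SliceQF
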