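import Mathlib
import Groth.Agent.Lib.Lead.CMQF11
import Groth.Agent.Lib.Lead.SliceQF4
import Groth.Prelude.Def_CInt

set_option autoImplicit false
set_option backward.isDefEq.respectTransparency.types false
set_option synthInstance.maxHeartbeats 400000
set_option linter.style.haveILetI false
universe u v

open AlgebraicGeometry CategoryTheory CategoryTheory.Limits TopologicalSpace IsLocalRing
open LocCoh RingTheory.Sequence

namespace Groth.Agent.Lead.CMQF

open Groth.Agent.Lead.SliceQF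

/-- the local ring of the fibre is insensitive to open immersions into the source -/
theorem fiberStalk_equiv_of_openImmersion {P Z S : Scheme.{u}} (k : P ⟶ Z) [IsOpenImmersion k]
    (g : Z ⟶ S) (y : P) :
    Nonempty (((k ≫ g).fiber ((k ≫ g) y)).presheaf.stalk ((k ≫ g).asFiber y) ≃+*
      (g.fiber (g (k y))).presheaf.stalk (g.asFiber (k y))) := by
  obtain ⟨γ₁, hγ₁, hk₁⟩ := Groth.Agent.Helper3.FibStalk.exists_fibre_presentation (k ≫ g) y
  obtain ⟨γ₂, hγ₂, hk₂⟩ := Groth.Agent.Helper3.FibStalk.exists_fibre_presentation g (k y)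
  let e : Z.presheaf.stalk (k y) ≃+* P.presheaf.stalk y :=
    (asIso (k.stalkMap y)).commRingCatIsoToRingEquiv
  have he : (e : Z.presheaf.stalk (k y) →+* P.presheaf.stalk y) = (k.stalkMap y).hom := rfl
  have hcomp := Groth.Agent.Lead.CMAt.stalkMap_comp_hom k g y
  have hker : RingHom.ker γ₁ = (RingHom.ker γ₂).map (e : Z.presheaf.stalk (k y) →+* P.presheaf.stalk y) := by
    rw [hk₁, hk₂, hcomp, Ideal.map_map, he]
    rfl
  exact ⟨(RingHom.quotientKerEquivOfSurjective hγ₁).symm.trans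
    ((Ideal.quotientEquiv (RingHom.ker γ₂) (RingHom.ker γ₁) e hker).symm.trans
      (RingHom.quotientKerEquivOfSurjective hγ₂))⟩

section
variable {X : Scheme.{u}} {U : X.Opens} (hU : IsAffineOpen U)

set_option maxHeartbeats 1000000 in
/-- the dimension of the local ring of the fibre of a slice -/
theorem dim_fibre_slice {S : Scheme.{u}} (f : X ⟶ S)
    (hs' : List Γ(X, U))
    (z : Spec (CommRingCat.of (Γ(X, U) ⧸ Ideal.ofList hs')))
    (hzU : sliceHom hU (Ideal.ofList hs') z ∈ U) :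
    ringKrullDim (((sliceHom hU (Ideal.ofList hs') ≫ f).fiber
        ((sliceHom hU (Ideal.ofList hs') ≫ f) z)).presheaf.stalk
          ((sliceHom hU (Ideal.ofList hs') ≫ f).asFiber z)) =
      ringKrullDim ((X.presheaf.stalk (sliceHom hU (Ideal.ofList hs') z) ⧸
        Ideal.map (f.stalkMap (sliceHom hU (Ideal.ofList hs') z)).hom
          (maximalIdeal (S.presheaf.stalk (f (sliceHom hU (Ideal.ofList hs') z))))) ⧸
        Ideal.ofList ((hs'.map (X.presheaf.germ U (sliceHom hU (Ideal.ofList hs') z) hzU).hom).map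
          (Ideal.Quotient.mk (Ideal.map (f.stalkMap (sliceHom hU (Ideal.ofList hs') z)).hom
          (maximalIdeal (S.presheaf.stalk (f (sliceHom hU (Ideal.ofList hs') z)))))))) := by
  set j := sliceHom hU (Ideal.ofList hs') with hj
  obtain ⟨γ, hγ, hk⟩ := Groth.Agent.Helper3.FibStalk.exists_fibre_presentation (j ≫ f) z
  have hcomp : ((j ≫ f).stalkMap z).hom = (j.stalkMap z).hom.comp (f.stalkMap (j z)).hom := by
    rw [Scheme.Hom.stalkMap_comp]
    rfl
  rw [hcomp] at hk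
  obtain ⟨e⟩ := fibre_slice_equiv (maximalIdeal (S.presheaf.stalk (f (j z))))
    (f.stalkMap (j z)).hom (j.stalkMap z).hom (j.stalkMap_surjective z) γ hγ hk _
    (sliceHom_ker_stalkMap hU hs' z hzU)
  exact ringKrullDim_eq_of_ringEquiv e

end

set_option maxHeartbeats 2000000 in
theorem slice_main_cm {X S : Scheme.{u}} (f : X ⟶ S) [LocallyOfFinitePresentation f]
    {U : X.Opens} (hU : IsAffineOpen U) (I : Ideal Γ(X, U))
    (z₀ : Spec (CommRingCat.of (Γ(X, U) ⧸ I)))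
    (hreg : Mor2.IsRegularClosedImmersion
      (Spec.map (CommRingCat.ofHom (Ideal.Quotient.mk I)) ≫ hU.isoSpec.inv))
    (hfl : Flat (sliceHom hU I ≫ f)) (hfp : LocallyOfFinitePresentation (sliceHom hU I ≫ f))
    (hdim : ringKrullDim (((sliceHom hU I ≫ f).fiber ((sliceHom hU I ≫ f) z₀)).presheaf.stalk
      ((sliceHom hU I ≫ f).asFiber z₀)) ≤ 0) :
    ∃ (V : X.Opens) (Y : Scheme.{u}) (i : Y ⟶ (V : Scheme.{u})) (y : Y),
      Mor2.IsRegularClosedImmersion i ∧ V.ι (i y) = sliceHom hU I z₀ ∧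
      Flat (i ≫ V.ι ≫ f) ∧
      (∀ y' : Y, LocCoh.IsCohenMacaulayLocalRing (CInt.fiberStalk (i ≫ V.ι ≫ f) y')) ∧
      ringKrullDim (CInt.fiberStalk (i ≫ V.ι ≫ f) y) = 0 := by
  set j := sliceHom hU I with hjdef
  set j₀ : Spec (CommRingCat.of (Γ(X, U) ⧸ I)) ⟶ (U : Scheme.{u}) :=
    Spec.map (CommRingCat.ofHom (Ideal.Quotient.mk I)) ≫ hU.isoSpec.inv with hj₀def
  have hj₀ : j₀ ≫ U.ι = j := by
    rw [hj₀def, hjdef, sliceHom, Category.assoc]
    rfl
  haveI : IsClosedImmersion j₀ := hreg.1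
  haveI : LocallyOfFiniteType (j ≫ f) := inferInstance
  haveI : IsLocallyNoetherian ((j ≫ f).fiber ((j ≫ f) z₀)) := isLocallyNoetherian_fiber _ _
  have hcm₀ : MoreMor.IsCMAt (j ≫ f) z₀ :=
    ⟨Flat.stalkMap _ _, cm_of_dim_zero _ hdim⟩
  let W : (Spec (CommRingCat.of (Γ(X, U) ⧸ I))).Opens :=
    ⟨{z | MoreMor.IsCMAt (j ≫ f) z}, S4961_main (j ≫ f)⟩
  have hz₀W : z₀ ∈ W := hcm₀
  let V' : (U : Scheme.{u}).Opens :=
    ⟨(j₀ '' ((W : Set _)ᶜ))ᶜ, (j₀.isClosedEmbedding.isClosedMap _ W.isOpen.isClosed_compl).isOpen_compl⟩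
  have hV' : ∀ w, j₀ w ∈ V' ↔ w ∈ W := by
    intro w
    change j₀ w ∉ j₀ '' ((W : Set _)ᶜ) ↔ _
    rw [j₀.isClosedEmbedding.injective.mem_set_image]
    exact not_not
  let V : X.Opens := U.ι ''ᵁ V'
  have hVU : V ≤ U := by
    rintro _ ⟨v, -, rfl⟩
    exact v.2
  have hmemV : ∀ v : (V : Scheme.{u}), X.homOfLE hVU v ∈ V' := by
    intro v
    obtain ⟨v', hv', hvv'⟩ := v.2
    have e1 : U.ι (X.homOfLE hVU v) = v.1 := by
      rw [← Scheme.Hom.comp_apply, Scheme.homOfLE_ι]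
      rfl
    have : X.homOfLE hVU v = v' := by
      apply U.ι.isOpenEmbedding.injective
      exact e1.trans hvv'.symm
    rw [this]
    exact hv'
  let P := pullback j₀ (X.homOfLE hVU)
  let i : P ⟶ (V : Scheme.{u}) := pullback.snd j₀ (X.homOfLE hVU)
  let fst : P ⟶ Spec (CommRingCat.of (Γ(X, U) ⧸ I)) := pullback.fst j₀ (X.homOfLE hVU)
  haveI : IsOpenImmersion fst := inferInstance
  have hcomm : i ≫ V.ι = fst ≫ j := by
    rw [← hj₀, ← Category.assoc, pullback.condition, Category.assoc, Scheme.homOfLE_ι]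
  have hcomm' : i ≫ V.ι ≫ f = fst ≫ (j ≫ f) := by
    rw [← Category.assoc, hcomm, Category.assoc]
  have hfstW : ∀ p : P, fst p ∈ W := by
    intro p
    rw [← hV']
    have h1 : j₀ (fst p) = X.homOfLE hVU (i p) := by
      rw [← Scheme.Hom.comp_apply, ← Scheme.Hom.comp_apply, pullback.condition]
    rw [h1]
    exact hmemV _
  have hjj : U.ι (j₀ z₀) = j z₀ :=
    (Scheme.Hom.comp_apply j₀ U.ι z₀).symm.trans (by rw [hj₀])
  have hv₀ : j z₀ ∈ V := ⟨j₀ z₀, (hV' z₀).mpr hz₀W, hjj⟩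
  let v₀ : (V : Scheme.{u}) := ⟨j z₀, hv₀⟩
  have h2 : j₀ z₀ = X.homOfLE hVU v₀ := by
    apply U.ι.isOpenEmbedding.injective
    have e1 : U.ι (X.homOfLE hVU v₀) = v₀.1 := by
      rw [← Scheme.Hom.comp_apply, Scheme.homOfLE_ι]
      rfl
    exact hjj.trans e1.symm
  obtain ⟨p₀, hp1, hp2⟩ := Scheme.Pullback.exists_preimage_pullback (f := j₀)
    (g := X.homOfLE hVU) z₀ v₀ h2
  have hp1' : fst p₀ = z₀ := hp1
  refine ⟨V, P, i, p₀, ?_, ?_, ?_, ?_, ?_⟩
  · exact Groth.Agent.Lib.Helper4.RegFlatBC1.S2886_main j₀ (X.homOfLE hVU) hreg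
  · have : i p₀ = v₀ := hp2
    rw [this]
    rfl
  · rw [hcomm']
    infer_instance
  · intro y'
    show LocCoh.IsCohenMacaulayLocalRing (((i ≫ V.ι ≫ f).fiber ((i ≫ V.ι ≫ f) y')).presheaf.stalk
      ((i ≫ V.ι ≫ f).asFiber y'))
    rw [hcomm']
    obtain ⟨e⟩ := fiberStalk_equiv_of_openImmersion fst (j ≫ f) y'
    exact Groth.Agent.Lead.CMAt.cm_of_ringEquiv e.symm (hfstW y').2
  · show ringKrullDim (((i ≫ V.ι ≫ f).fiber ((i ≫ V.ι ≫ f) p₀)).presheaf.stalk
      ((i ≫ V.ι ≫ f).asFiber p₀)) = 0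
    rw [hcomm']
    obtain ⟨e⟩ := fiberStalk_equiv_of_openImmersion fst (j ≫ f) p₀
    haveI : IsLocalRing (((fst ≫ j ≫ f).fiber ((fst ≫ j ≫ f) p₀)).presheaf.stalk
      ((fst ≫ j ≫ f).asFiber p₀)) := inferInstance
    refine le_antisymm ?_ ringKrullDim_nonneg_of_nontrivial
    rw [ringKrullDim_eq_of_ringEquiv e]
    have key : ∀ z (hz : z = z₀), ringKrullDim (((j ≫ f).fiber ((j ≫ f) z)).presheaf.stalk
        ((j ≫ f).asFiber z)) ≤ 0 := by
      intro z hz
      subst hz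
      exact hdim
    exact key _ hp1'

set_option maxHeartbeats 1000000 in
theorem S2891_main {X S : Scheme.{u}} (f : X ⟶ S) [LocallyOfFinitePresentation f] (x : X)
    (hflat : (f.stalkMap x).hom.Flat)
    (hCM : LocCoh.IsCohenMacaulayLocalRing (CInt.fiberStalk f x)) :
    ∃ (V : X.Opens) (Y : Scheme.{u}) (j : Y ⟶ (V : Scheme.{u})) (y : Y),
      Mor2.IsRegularClosedImmersion j ∧ (V.ι (j y) = x) ∧ Flat (j ≫ V.ι ≫ f) ∧
      (∀ y' : Y, LocCoh.IsCohenMacaulayLocalRing (CInt.fiberStalk (j ≫ V.ι ≫ f) y')) ∧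
      ringKrullDim (CInt.fiberStalk (j ≫ V.ι ≫ f) y) = 0 := by
  have hcm : MoreMor.IsCMAt f x := ⟨hflat, hCM⟩
  obtain ⟨hs, hreg, hdim⟩ := exists_list_of_isCMAt f x hcm
  obtain ⟨U, hU, hx, hs', hgerm, hreg', ⟨z₀, hz₀⟩, hfl, hfp, -⟩ :=
    Groth.Agent.Lead.RelReg.S1459_main f x hcm.1 hs hreg
  subst hgerm
  have hz₀' : sliceHom hU (Ideal.ofList hs') z₀ = x := hz₀
  subst hz₀'
  have hdimZ := dim_fibre_slice hU f hs' z₀ hx
  have hfl' : Flat (sliceHom hU (Ideal.ofList hs') ≫ f) := by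
    rw [sliceHom, Category.assoc]; exact hfl
  have hfp' : LocallyOfFinitePresentation (sliceHom hU (Ideal.ofList hs') ≫ f) := by
    rw [sliceHom, Category.assoc]; exact hfp
  exact slice_main_cm f hU (Ideal.ofList hs') z₀ hreg' hfl' hfp' (by rw [hdimZ]; exact hdim)

end Groth.Agent.Lead.CMQF
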