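import Mathlib
import Groth.Agent.Lib.Lead.CMQF11
import Groth.Agent.Lib.Helper4.FibDimComp1

set_option autoImplicit false
set_option backward.isDefEq.respectTransparency.types false
set_option synthInstance.maxHeartbeats 400000
set_option linter.style.haveILetI false
universe u v

open AlgebraicGeometry CategoryTheory CategoryTheory.Limits TopologicalSpace IsLocalRing
open LocCoh

namespace Groth.Agent.Lead.CMQF

open Groth.Agent.Lib.Helper4.FibDim1 Groth.Agent.Lib.Helper4.FibDimComp1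
  Groth.Agent.Lib.Helper4.ChevCrit7 Groth.Agent.Lib.Helper4.Aff2 Groth.Agent.Lib.Helper4.UnivOpenT1

/-- the fibres of `𝔸ⁿ_Y → Y` have local dimension `n` everywhere -/
theorem fibreDimAt_affineSpace (n : ℕ) (Y : Scheme.{u}) (w : 𝔸(ULift.{u} (Fin n); Y)) :
    FlatMor.fibreDimAt (𝔸(ULift.{u} (Fin n); Y) ↘ Y) w = (n : WithBot ℕ∞) := by
  obtain ⟨z, -, -, hmax, htr⟩ := exists_fibreMax_tr_eq (𝔸(ULift.{u} (Fin n); Y) ↘ Y) w
  rw [htr]
  have h := (tr_affineSpace (ULift.{u} (Fin n)) Y z).2 hmax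
  have hcard : Cardinal.mk (ULift.{u} (Fin n)) = (n : Cardinal.{u}) := by
    rw [Cardinal.mk_fintype, Fintype.card_ulift, Fintype.card_fin]
  rw [hcard] at h
  have : tr (𝔸(ULift.{u} (Fin n); Y) ↘ Y) z = n := by exact_mod_cast h
  rw [this]

theorem fibreDimAt_of_lqf_flat {U' Y : Scheme.{u}} (n : ℕ) (g : U' ⟶ 𝔸(ULift.{u} (Fin n); Y))
    [LocallyQuasiFinite g] [Flat g] [LocallyOfFinitePresentation g] (x' : U') :
    FlatMor.fibreDimAt (g ≫ (𝔸(ULift.{u} (Fin n); Y) ↘ Y)) x' = (n : WithBot ℕ∞) := by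
  have h0 := fibreDimAt_eq_zero_of_locallyQuasiFinite g x'
  have hn := fibreDimAt_affineSpace n Y (g x')
  apply le_antisymm
  · refine (fibreDimAt_comp_le g (𝔸(ULift.{u} (Fin n); Y) ↘ Y) x').trans ?_
    rw [h0]
    erw [hn]
    simp
  · refine le_trans ?_ (fibreDimAt_comp_ge g (𝔸(ULift.{u} (Fin n); Y) ↘ Y) x'
      (fun z _ => isUnivOpenAt_of_universallyOpen g z))
    rw [h0]
    erw [hn]
    simp

set_option maxHeartbeats 1000000 in
/-- at a CM point of a morphism locally of finite presentation there is a flat, locally quasi-finite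
chart to an affine space over the base -/
theorem exists_flat_lqf_chart {X S : Scheme.{u}} (f : X ⟶ S) [LocallyOfFinitePresentation f]
    (x : X) (hcm : MoreMor.IsCMAt f x) :
    ∃ (n : ℕ) (U : X.Opens) (g : (U : Scheme.{u}) ⟶ 𝔸(ULift.{u} (Fin n); S)), x ∈ U ∧
      g ≫ (𝔸(ULift.{u} (Fin n); S) ↘ S) = U.ι ≫ f ∧ Flat g ∧ LocallyQuasiFinite g ∧
      LocallyOfFinitePresentation g := by
  obtain ⟨n, U, hxU, g, hg, hqf, hfl⟩ := S4949_mp f x hcm
  haveI : LocallyOfFinitePresentation (g ≫ (𝔸(ULift.{u} (Fin n); S) ↘ S)) := by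
    rw [hg]; infer_instance
  haveI : LocallyOfFinitePresentation g :=
    Groth.Agent.Helper2.locallyOfFinitePresentation_of_comp g (𝔸(ULift.{u} (Fin n); S) ↘ S)
      inferInstance inferInstance
  have hopen := Groth.Agent.Lead.FlatLoc.isOpen_flatLocus_of_locallyOfFinitePresentation g
  let W : (U : Scheme.{u}).Opens := ⟨{x' | (g.stalkMap x').hom.Flat}, hopen⟩
  let U₁ : X.Opens := U.ι ''ᵁ W
  have hU₁U : U₁ ≤ U := by
    rintro _ ⟨v, -, rfl⟩
    exact v.2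
  have hxU₁ : x ∈ U₁ := ⟨⟨x, hxU⟩, hfl, rfl⟩
  have hmemW : ∀ v : (U₁ : Scheme.{u}), X.homOfLE hU₁U v ∈ W := by
    intro v
    obtain ⟨v', hv', hvv'⟩ := v.2
    have e1 : U.ι (X.homOfLE hU₁U v) = v.1 := by
      rw [← Scheme.Hom.comp_apply, Scheme.homOfLE_ι]
      rfl
    have : X.homOfLE hU₁U v = v' := by
      apply U.ι.isOpenEmbedding.injective
      exact e1.trans hvv'.symm
    rw [this]
    exact hv'
  let g₁ : (U₁ : Scheme.{u}) ⟶ 𝔸(ULift.{u} (Fin n); S) := X.homOfLE hU₁U ≫ g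
  have hg₁ : g₁ ≫ (𝔸(ULift.{u} (Fin n); S) ↘ S) = U₁.ι ≫ f := by
    show (X.homOfLE hU₁U ≫ g) ≫ _ = _
    rw [Category.assoc, hg, ← Category.assoc, Scheme.homOfLE_ι]
  have hflat₁ : Flat g₁ := by
    apply Flat.of_stalkMap
    intro v
    exact (Groth.Agent.Lib.Helper6.EtLoc.flat_stalkMap_comp_iff (X.homOfLE hU₁U) g v).mp (hmemW v)
  have hqf₁ : LocallyQuasiFinite g₁ := by
    show LocallyQuasiFinite (X.homOfLE hU₁U ≫ g)
    infer_instance
  have hfp₁ : LocallyOfFinitePresentation g₁ := by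
    show LocallyOfFinitePresentation (X.homOfLE hU₁U ≫ g)
    infer_instance
  exact ⟨n, U₁, g₁, hxU₁, hg₁, hflat₁, hqf₁, hfp₁⟩

/-- in the situation of `exists_flat_lqf_chart`, the fibre dimension is `n` on all of `U` -/
theorem fibreDimAt_eq_of_chart {X S : Scheme.{u}} (f : X ⟶ S) [LocallyOfFiniteType f]
    (n : ℕ) (U : X.Opens) (g : (U : Scheme.{u}) ⟶ 𝔸(ULift.{u} (Fin n); S))
    (hg : g ≫ (𝔸(ULift.{u} (Fin n); S) ↘ S) = U.ι ≫ f) [Flat g] [LocallyQuasiFinite g]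
    [LocallyOfFinitePresentation g] (x : X) (hx : x ∈ U) :
    FlatMor.fibreDimAt f x = (n : WithBot ℕ∞) := by
  have hdim := fibreDimAt_of_lqf_flat n g ⟨x, hx⟩
  rw [hg, fibreDimAt_restrict f U ⟨x, hx⟩] at hdim
  exact hdim

theorem S1343_main {X S : Scheme.{u}} (f : X ⟶ S) [Flat f] [LocallyOfFinitePresentation f]
    (x : X) (d : ℕ) (hd : FlatMor.fibreDimAt f x = d) :
    MoreMor.IsCMAt f x ↔ ∃ (U : X.Opens) (g : (U : Scheme.{u}) ⟶ 𝔸(ULift.{u} (Fin d); S)), x ∈ U ∧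
      g ≫ (𝔸(ULift.{u} (Fin d); S) ↘ S) = U.ι ≫ f ∧ Flat g ∧ LocallyQuasiFinite g := by
  constructor
  · intro hcm
    obtain ⟨n, U, g, hxU, hg, hfl, hqf, hfp⟩ := exists_flat_lqf_chart f x hcm
    have hdim := fibreDimAt_eq_of_chart f n U g hg x hxU
    have hnd : n = d := by
      rw [hd] at hdim
      exact_mod_cast hdim.symm
    subst hnd
    exact ⟨U, g, hxU, hg, hfl, hqf⟩
  · rintro ⟨U, g, hx, hg, hfl, hqf⟩
    exact S4949_mpr f x d U hx g hg hqf (Flat.stalkMap g _)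

theorem S9374_main {X S : Scheme.{u}} (f : X ⟶ S) [Flat f]
    [LocallyOfFinitePresentation f] (hcm : ∀ x : X, MoreMor.IsCMAt f x) :
    IsLocallyConstant (fun x : ↑X => FlatMor.fibreDimAt f x) := by
  rw [IsLocallyConstant.iff_exists_open]
  intro x
  obtain ⟨n, U, g, hxU, hg, hfl, hqf, hfp⟩ := exists_flat_lqf_chart f x (hcm x)
  refine ⟨U, U.isOpen, hxU, fun x' hx' => ?_⟩
  rw [fibreDimAt_eq_of_chart f n U g hg x' hx', fibreDimAt_eq_of_chart f n U g hg x hxU]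

end Groth.Agent.Lead.CMQF
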