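import Mathlib
import Groth.Prelude
import Groth.Agent.Lib.Lead.CMAt1

set_option autoImplicit false
set_option backward.isDefEq.respectTransparency.types false
set_option synthInstance.maxHeartbeats 400000
set_option linter.style.haveILetI false
set_option linter.unusedSectionVars false
universe u

open CategoryTheory CategoryTheory.Limits AlgebraicGeometry IsLocalRing RingTheory.Sequence

namespace Groth.Agent.Lead.Coprof

open LocCoh Groth.Agent.Lead.CMAt Groth.Agent.Helper3.FibStalk Groth.Agent.Helper3.FibDepth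
open Groth.Agent.Helper8.GorFlat Groth.Agent.Helper8.FlatReg Groth.Agent.Helper8.Serre

/-- "codepth at most `n`" for a local ring -/
def CoprofLE (R : Type u) [CommRing R] [IsLocalRing R] (n : ℕ) : Prop :=
  ringKrullDim R ≤ ((depth R R : ℕ∞) : WithBot ℕ∞) + n

theorem exists_nat_depth (R : Type u) [CommRing R] [IsLocalRing R] [IsNoetherianRing R] :
    ∃ d r : ℕ, ringKrullDim R = (d : WithBot ℕ∞) ∧ depth R R = (r : ℕ∞) ∧ r ≤ d := by
  obtain ⟨d, hd⟩ := exists_nat_dim R
  have hl := depth_le_dim' R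
  rw [hd] at hl
  have hne : depth R R ≠ ⊤ := by
    intro h
    rw [h] at hl
    have h' : ((⊤ : ℕ∞) : WithBot ℕ∞) ≤ ((d : ℕ∞) : WithBot ℕ∞) := hl
    exact ENat.natCast_ne_top d (top_le_iff.mp (WithBot.coe_le_coe.mp h'))
  obtain ⟨r, hr⟩ := ENat.ne_top_iff_exists.mp hne
  rw [← hr] at hl
  have hrd : r ≤ d := by exact_mod_cast hl
  exact ⟨d, r, hd, hr.symm, hrd⟩

theorem coprofLE_iff_nat (R : Type u) [CommRing R] [IsLocalRing R] (d r : ℕ)
    (hd : ringKrullDim R = (d : WithBot ℕ∞)) (hr : depth R R = (r : ℕ∞)) (n : ℕ) :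
    CoprofLE R n ↔ d ≤ r + n := by
  unfold CoprofLE
  rw [hd, hr]
  constructor
  · intro h
    exact_mod_cast h
  · intro h
    exact_mod_cast h

theorem coprofLE_of_dim_le (R : Type u) [CommRing R] [IsLocalRing R] (n : ℕ)
    (h : ringKrullDim R ≤ (n : WithBot ℕ∞)) : CoprofLE R n := by
  unfold CoprofLE
  refine h.trans ?_
  have h0 : (0 : WithBot ℕ∞) ≤ ((depth R R : ℕ∞) : WithBot ℕ∞) := by
    exact WithBot.coe_le_coe.mpr (zero_le (a := depth R R))
  exact le_add_of_nonneg_left h0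


theorem maximalIdeal_smul_top_ne (R : Type u) [CommRing R] [IsLocalRing R] :
    maximalIdeal R • (⊤ : Submodule R R) ≠ ⊤ := by
  intro h
  have h1 : maximalIdeal R • (⊤ : Submodule R R) = maximalIdeal R := by
    rw [smul_eq_mul, ← Ideal.one_eq_top, mul_one]
  rw [h1] at h
  exact (maximalIdeal.isMaximal R).ne_top h

theorem exists_regular_of_coprofLE (R : Type u) [CommRing R] [IsLocalRing R] [IsNoetherianRing R]
    (n : ℕ) (h : CoprofLE R n) :
    ∃ rs : List R, IsRegular R rs ∧ ringKrullDim R ≤ (rs.length : WithBot ℕ∞) + n := by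
  obtain ⟨d, r, hd, hr, hrd⟩ := exists_nat_depth R
  have h2 : (r : ℕ∞) ≤ idealDepth (maximalIdeal R) R := by
    have : depth R R = idealDepth (maximalIdeal R) R := rfl
    rw [← this, hr]
  obtain ⟨rs, hlen, hw, hmem⟩ :=
    (Groth.Agent.Helper8.Depth.le_idealDepth_iff (maximalIdeal_smul_top_ne R) r).mp h2
  refine ⟨rs, IsRegular.of_isWeaklyRegular_of_mem_maximalIdeal R hmem hw, ?_⟩
  have h3 := (coprofLE_iff_nat R d r hd hr n).mp h
  rw [hd, hlen]
  exact_mod_cast h3

theorem coprofLE_of_ringEquiv {R S : Type u} [CommRing R] [CommRing S] [IsLocalRing R]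
    [IsLocalRing S] (e : R ≃+* S) (n : ℕ) (h : CoprofLE R n) : CoprofLE S n := by
  unfold CoprofLE at h ⊢
  rw [← ringKrullDim_eq_of_ringEquiv e, depth_self_eq_of_ringEquiv e]
  exact h

section FL

variable {A B F : Type u} [CommRing A] [CommRing B] [CommRing F] [IsLocalRing A] [IsLocalRing B]
  [IsLocalRing F] [IsNoetherianRing A] [IsNoetherianRing B] {φ : A →+* B} {γ : B →+* F}

/-- codepth is additive along a flat local homomorphism; here: Cohen–Macaulay base -/
theorem coprofLE_iff_of_flData_cm_base (D : FLData φ γ) (hA : IsCohenMacaulayLocalRing A) (n : ℕ) :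
    CoprofLE B n ↔ CoprofLE F n := by
  haveI : IsNoetherianRing F := isNoetherianRing_of_surjective B F γ D.surj
  have hdepth := depth_eq_add_of_flData D
  have hdim := ringKrullDim_eq_add_of_flData D
  obtain ⟨dA, rA, hdA, hrA, hA'⟩ := exists_nat_depth A
  obtain ⟨dF, rF, hdF, hrF, hF'⟩ := exists_nat_depth F
  have hcm := depth_eq_dim_of_cm A hA
  rw [hdA, hrA] at hcm
  have hcm' : dA = rA := by exact_mod_cast hcm
  have hdB : ringKrullDim B = ((dA + dF : ℕ) : WithBot ℕ∞) := by
    rw [hdim, hdA, hdF]; push_cast; rfl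
  have hrB : depth B B = ((rA + rF : ℕ) : ℕ∞) := by
    rw [hdepth, hrA, hrF]; push_cast; rfl
  rw [coprofLE_iff_nat B _ _ hdB hrB n, coprofLE_iff_nat F _ _ hdF hrF n]
  omega

/-- codepth is additive along a flat local homomorphism; here: Cohen–Macaulay fibre -/
theorem coprofLE_iff_of_flData_cm_fibre (D : FLData φ γ) (hF : IsCohenMacaulayLocalRing F) (n : ℕ) :
    CoprofLE B n ↔ CoprofLE A n := by
  have hdepth := depth_eq_add_of_flData D
  have hdim := ringKrullDim_eq_add_of_flData D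
  obtain ⟨dA, rA, hdA, hrA, hA'⟩ := exists_nat_depth A
  obtain ⟨dF, rF, hdF, hrF, hF'⟩ := exists_nat_depth F
  have hcm := depth_eq_dim_of_cm F hF
  rw [hdF, hrF] at hcm
  have hcm' : dF = rF := by exact_mod_cast hcm
  have hdB : ringKrullDim B = ((dA + dF : ℕ) : WithBot ℕ∞) := by
    rw [hdim, hdA, hdF]; push_cast; rfl
  have hrB : depth B B = ((rA + rF : ℕ) : ℕ∞) := by
    rw [hdepth, hrA, hrF]; push_cast; rfl
  rw [coprofLE_iff_nat B _ _ hdB hrB n, coprofLE_iff_nat A _ _ hdA hrA n]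
  omega

end FL

end Groth.Agent.Lead.Coprof
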