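import Mathlib
import Groth.Agent.Lib.Lead.CMQF7

set_option autoImplicit false
set_option backward.isDefEq.respectTransparency.types false
set_option synthInstance.maxHeartbeats 400000
set_option linter.style.haveILetI false
set_option linter.unusedSectionVars false
universe u v

open TensorProduct RingTheory.Sequence IsLocalRing

namespace Groth.Agent.Lead.Coprof

open Groth.Agent.Lead.CMQF

section ALG

variable {A C : Type u} [CommRing A] [CommRing C] [Algebra A C] [Algebra.FinitePresentation A C]
  (p : Ideal A) [p.IsPrime] (q : Ideal C) [q.IsPrime] [q.LiesOver p]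

theorem trdeg_eq_of_lift (t : ℕ) (h : Fin t → C)
    (hind : AlgebraicIndependent (A ⧸ p) (fun j => Ideal.Quotient.mk q (h j)))
    (halg : Algebra.IsAlgebraic (Algebra.adjoin (A ⧸ p)
        (Set.range fun j => Ideal.Quotient.mk q (h j))) (C ⧸ q)) :
    Algebra.trdeg (A ⧸ p) (C ⧸ q) = (t : Cardinal.{u}) := by
  haveI : Nontrivial (A ⧸ p) :=
    Ideal.Quotient.nontrivial_iff.mpr (Ideal.IsPrime.ne_top inferInstance)
  have hb : IsTranscendenceBasis (A ⧸ p) (fun j => Ideal.Quotient.mk q (h j)) :=
    (hind.isTranscendenceBasis_iff_isAlgebraic).mpr halg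
  have h1 := hb.lift_cardinalMk_eq_trdeg
  simp only [Cardinal.mk_fin, Cardinal.lift_natCast, Cardinal.lift_id'] at h1
  rw [← h1]

set_option maxHeartbeats 2000000 in
/-- flat chart to an affine space from a fibrewise regular sequence (no dimension hypothesis) -/
theorem exists_flat_chart
    (h1 : Module.Flat A (Localization.AtPrime q))
    (hN : IsNoetherianRing (Localization.AtPrime q ⧸ p.map (algebraMap A (Localization.AtPrime q))))
    (d : ℕ) (s : Fin d → C) (hmem : ∀ i, s i ∈ q)
    (hreg : IsWeaklyRegular (Localization.AtPrime q ⧸ p.map (algebraMap A (Localization.AtPrime q)))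
      (List.ofFn fun i => Ideal.Quotient.mk (p.map (algebraMap A (Localization.AtPrime q)))
        (algebraMap C (Localization.AtPrime q) (s i)))) :
    ∃ (t : ℕ) (ψ : MvPolynomial (ULift.{u} (Fin (d + t))) A →ₐ[A] C),
      Algebra.trdeg (A ⧸ p) (C ⧸ q) = (t : Cardinal.{u}) ∧
      letI := ψ.toRingHom.toAlgebra
      Module.Flat (MvPolynomial (ULift.{u} (Fin (d + t))) A) (Localization.AtPrime q) := by
  obtain ⟨t, h, hind, halg⟩ := exists_transcendence_lift p q
  have htr := trdeg_eq_of_lift p q t h hind halg
  have hQ := mem_map_C_of_aeval_mem p q t h hind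
  letI algA₁C : Algebra (MvPolynomial (Fin t) A) C := (MvPolynomial.aeval h).toAlgebra
  haveI towA : IsScalarTower A (MvPolynomial (Fin t) A) C :=
    IsScalarTower.of_algebraMap_eq (fun a => (MvPolynomial.aeval_C h a).symm)
  have hfl1 : Module.Flat (MvPolynomial (Fin t) A) (Localization.AtPrime q) :=
    flat_mvPolynomial_of_algebraicIndependent p q t h h1 hQ
  have hQ₁eq : p.map (MvPolynomial.C (σ := Fin t)) = q.under (MvPolynomial (Fin t) A) := by
    apply le_antisymm
    · rw [Ideal.map_le_iff_le_comap]
      intro a ha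
      show algebraMap (MvPolynomial (Fin t) A) C (MvPolynomial.C a) ∈ q
      have : a ∈ q.under A := by rw [← Ideal.over_def q p]; exact ha
      have h2 : algebraMap (MvPolynomial (Fin t) A) C (MvPolynomial.C a) = algebraMap A C a :=
        MvPolynomial.aeval_C h a
      rw [h2]
      exact this
    · intro F hF
      exact hQ F hF
  haveI hQ₁prime : (p.map (MvPolynomial.C (σ := Fin t))).IsPrime := by
    rw [hQ₁eq]; infer_instance
  haveI hQ₁over : q.LiesOver (p.map (MvPolynomial.C (σ := Fin t))) := ⟨hQ₁eq⟩
  haveI : Algebra.FinitePresentation (MvPolynomial (Fin t) A) C :=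
    Algebra.FinitePresentation.of_restrict_scalars_finitePresentation A (MvPolynomial (Fin t) A) C
  have hideal : (p.map (MvPolynomial.C (σ := Fin t))).map
      (algebraMap (MvPolynomial (Fin t) A) (Localization.AtPrime q)) =
      p.map (algebraMap A (Localization.AtPrime q)) := by
    rw [Ideal.map_map]
    congr 1
    refine RingHom.ext fun a => ?_
    show algebraMap (MvPolynomial (Fin t) A) (Localization.AtPrime q) (MvPolynomial.C a) = _
    rw [IsScalarTower.algebraMap_apply (MvPolynomial (Fin t) A) C (Localization.AtPrime q),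
      IsScalarTower.algebraMap_apply A C (Localization.AtPrime q)]
    congr 1
    exact MvPolynomial.aeval_C h a
  rw [← hideal] at hN hreg
  have hfl2 := flat_mvPolynomial_localization (A := MvPolynomial (Fin t) A)
    (p.map (MvPolynomial.C (σ := Fin t))) q d s hfl1 hN hmem hreg
  letI algP₂C : Algebra (MvPolynomial (Fin d) (MvPolynomial (Fin t) A)) C :=
    (MvPolynomial.aeval s).toAlgebra
  haveI towP₂ : IsScalarTower A (MvPolynomial (Fin d) (MvPolynomial (Fin t) A)) C := by
    refine IsScalarTower.of_algebraMap_eq (fun a => ?_)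
    rw [IsScalarTower.algebraMap_apply A (MvPolynomial (Fin t) A)
      (MvPolynomial (Fin d) (MvPolynomial (Fin t) A))]
    show _ = MvPolynomial.aeval s (MvPolynomial.C (algebraMap A (MvPolynomial (Fin t) A) a))
    rw [MvPolynomial.aeval_C, ← IsScalarTower.algebraMap_apply]
  let e₁ : ULift.{u} (Fin (d + t)) ≃ Fin d ⊕ Fin t := Equiv.ulift.trans finSumFinEquiv.symm
  let ε : MvPolynomial (ULift.{u} (Fin (d + t))) A ≃ₐ[A]
      MvPolynomial (Fin d) (MvPolynomial (Fin t) A) :=
    (MvPolynomial.renameEquiv A e₁).trans (MvPolynomial.sumAlgEquiv A (Fin d) (Fin t))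
  let ψ : MvPolynomial (ULift.{u} (Fin (d + t))) A →ₐ[A] C :=
    (IsScalarTower.toAlgHom A (MvPolynomial (Fin d) (MvPolynomial (Fin t) A)) C).comp ε.toAlgHom
  have htrans := transfer_flat_quasiFinite (R₁ := MvPolynomial (Fin d) (MvPolynomial (Fin t) A))
    ε.toRingEquiv q
  exact ⟨t, ψ, htr, htrans.1 hfl2⟩

end ALG

end Groth.Agent.Lead.Coprof
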