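import Mathlib
import Groth.Prelude
import Groth.Agent.Lib.Lead.CoprofOpen1
import Groth.Agent.Lib.Lead.CoprofOpen2
import Groth.Agent.Lib.Lead.CMQF14
import Groth.Agent.Lib.Helper2.FibDim.StalkFibre
import Groth.Agent.Lib.Helper4.Chev2

set_option autoImplicit false
set_option backward.isDefEq.respectTransparency.types false
set_option synthInstance.maxHeartbeats 400000
set_option linter.style.haveILetI false
set_option linter.unusedSectionVars false
universe u v

open TensorProduct RingTheory.Sequence IsLocalRing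
open AlgebraicGeometry CategoryTheory CategoryTheory.Limits TopologicalSpace

namespace Groth.Agent.Lead.Coprof

open LocCoh Groth.Agent.Lead.CMQF

/-- the locus where the local ring of the fibre has codepth at most `n` -/
def coprofLocus (n : ℕ) {X S : Scheme.{u}} (f : X ⟶ S) : Set X :=
  {x | CoprofLE ((f.fiber (f x)).presheaf.stalk (f.asFiber x)) n}

section Build

variable {X Y : Scheme.{u}} (f : X ⟶ Y) [LocallyOfFinitePresentation f]

set_option maxHeartbeats 1000000 in
theorem exists_flat_affineSpace_hom (x : X) {U : X.Opens} (hU : IsAffineOpen U) (hx : x ∈ U)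
    {V : Y.Opens} (hV : IsAffineOpen V) (hUV : U ≤ f ⁻¹ᵁ V) (n : ℕ)
    (ψ : MvPolynomial (ULift.{u} (Fin n)) Γ(Y, V) →+* Γ(X, U))
    (hψC : ψ.comp MvPolynomial.C = (f.appLE V U hUV).hom)
    (hfl : letI := ψ.toAlgebra
      Module.Flat (MvPolynomial (ULift.{u} (Fin n)) Γ(Y, V))
        (Localization.AtPrime (hU.primeIdealOf ⟨x, hx⟩).asIdeal)) :
    ∃ (U' : X.Opens) (_ : x ∈ U') (g : (U' : Scheme.{u}) ⟶ 𝔸(ULift.{u} (Fin n); Y)),
      g ≫ (𝔸(ULift.{u} (Fin n); Y) ↘ Y) = U'.ι ≫ f ∧ Flat g ∧ LocallyOfFinitePresentation g := by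
  set t₀ := hU.primeIdealOf ⟨x, hx⟩ with ht₀
  have hkt₀ : hU.fromSpec t₀ = x := hU.fromSpec_primeIdealOf ⟨x, hx⟩
  let ψ' : CommRingCat.of (MvPolynomial (ULift.{u} (Fin n)) Γ(Y, V)) ⟶ Γ(X, U) :=
    CommRingCat.ofHom ψ
  haveI : IsOpenImmersion (AffineSpace.map (ULift.{u} (Fin n)) hV.fromSpec) :=
    MorphismProperty.of_isPullback (P := @IsOpenImmersion)
      (AffineSpace.isPullback_map (n := ULift.{u} (Fin n)) hV.fromSpec).flip inferInstance
  let j : Spec (.of (MvPolynomial (ULift.{u} (Fin n)) Γ(Y, V))) ⟶ 𝔸(ULift.{u} (Fin n); Y) :=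
    (AffineSpace.SpecIso (ULift.{u} (Fin n)) Γ(Y, V)).inv ≫
      AffineSpace.map (ULift.{u} (Fin n)) hV.fromSpec
  haveI : IsOpenImmersion j := inferInstance
  let gT : Spec Γ(X, U) ⟶ 𝔸(ULift.{u} (Fin n); Y) := Spec.map ψ' ≫ j
  have hgT : gT ≫ (𝔸(ULift.{u} (Fin n); Y) ↘ Y) = hU.fromSpec ≫ f := by
    simp only [gT, j, Category.assoc, AffineSpace.map_over, AffineSpace.SpecIso_inv_over_assoc]
    rw [← Spec.map_comp_assoc, ← IsAffineOpen.SpecMap_appLE_fromSpec f hV hU hUV]
    congr 2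
    ext a
    exact congrArg (fun ρ : Γ(Y, V) →+* Γ(X, U) => ρ a) hψC
  haveI : LocallyOfFinitePresentation (gT ≫ (𝔸(ULift.{u} (Fin n); Y) ↘ Y)) := by
    rw [hgT]; infer_instance
  haveI : LocallyOfFinitePresentation gT :=
    Groth.Agent.Helper2.locallyOfFinitePresentation_of_comp gT (𝔸(ULift.{u} (Fin n); Y) ↘ Y)
      inferInstance inferInstance
  have hflT : (gT.stalkMap t₀).hom.Flat := by
    have h1 := flat_stalkMap_SpecMap ψ' t₀ hfl
    have h2 : (j.stalkMap (Spec.map ψ' t₀)).hom.Flat :=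
      RingHom.Flat.of_bijective (ConcreteCategory.bijective_of_isIso (j.stalkMap _))
    rw [show gT = Spec.map ψ' ≫ j from rfl, Groth.Agent.Lead.CMAt.stalkMap_comp_hom]
    exact RingHom.Flat.comp h2 h1
  have hopen := Groth.Agent.Lead.FlatLoc.isOpen_flatLocus_of_locallyOfFinitePresentation gT
  let T' : (Spec Γ(X, U)).Opens := ⟨{t | (gT.stalkMap t).hom.Flat}, hopen⟩
  have ht₀T' : t₀ ∈ T' := hflT
  let k' : (T' : Scheme.{u}) ⟶ X := T'.ι ≫ hU.fromSpec
  haveI : IsOpenImmersion k' := inferInstance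
  let U' := k'.opensRange
  have hx' : x ∈ U' := ⟨⟨t₀, ht₀T'⟩, by
    show hU.fromSpec (T'.ι ⟨t₀, ht₀T'⟩) = x
    exact hkt₀⟩
  let g : (U' : Scheme.{u}) ⟶ 𝔸(ULift.{u} (Fin n); Y) := k'.isoOpensRange.inv ≫ T'.ι ≫ gT
  refine ⟨U', hx', g, ?_, ?_, ?_⟩
  · show (k'.isoOpensRange.inv ≫ T'.ι ≫ gT) ≫ _ = _
    rw [Category.assoc, Category.assoc, hgT, ← Category.assoc T'.ι, ← Category.assoc]
    show (k'.isoOpensRange.inv ≫ k') ≫ f = _
    rw [Scheme.Hom.isoOpensRange_inv_comp]
  · apply Flat.of_stalkMap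
    intro v
    refine (Groth.Agent.Lib.Helper6.EtLoc.flat_stalkMap_comp_iff k'.isoOpensRange.inv (T'.ι ≫ gT)
      v).mp ?_
    refine (Groth.Agent.Lib.Helper6.EtLoc.flat_stalkMap_comp_iff T'.ι gT _).mp ?_
    exact (k'.isoOpensRange.inv v).2
  · show LocallyOfFinitePresentation (k'.isoOpensRange.inv ≫ T'.ι ≫ gT)
    infer_instance

end Build


section List

/-- at a point of codepth at most `n` on the fibre: a list in the local ring of `X` whose image in
the local ring of the fibre is a regular sequence of length at least `dim - n` -/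
theorem exists_list_of_coprofLE {X S : Scheme.{u}} (f : X ⟶ S) [LocallyOfFiniteType f] (x : X)
    (n : ℕ) (hc : x ∈ coprofLocus n f) :
    ∃ hs : List (X.presheaf.stalk x),
      IsRegular (X.presheaf.stalk x ⧸ Ideal.map (f.stalkMap x).hom
          (maximalIdeal (S.presheaf.stalk (f x))))
        (hs.map (Ideal.Quotient.mk (Ideal.map (f.stalkMap x).hom
          (maximalIdeal (S.presheaf.stalk (f x)))))) ∧
      ringKrullDim ((f.fiber (f x)).presheaf.stalk (f.asFiber x)) ≤
        (hs.length : WithBot ℕ∞) + n := by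
  obtain ⟨γ, hγ, hk⟩ := Groth.Agent.Helper3.FibStalk.exists_fibre_presentation f x
  haveI : IsLocallyNoetherian (f.fiber (f x)) := isLocallyNoetherian_fiber f (f x)
  haveI : IsNoetherianRing ((f.fiber (f x)).presheaf.stalk (f.asFiber x)) := inferInstance
  obtain ⟨rs, hrs, hdim⟩ := exists_regular_of_coprofLE
    ((f.fiber (f x)).presheaf.stalk (f.asFiber x)) n hc
  obtain ⟨t, ht⟩ := (List.map_surjective_iff.mpr hγ) rs
  refine ⟨t, ?_, ?_⟩
  · exact Groth.Agent.Lead.RelReg.isRegular_quot_of_surjective γ hγ _ hk t (ht ▸ hrs)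
  · have : t.length = rs.length := by rw [← ht, List.length_map]
    rw [this]
    exact hdim

end List

section Bridge

variable {A C : Type u} [CommRing A] [CommRing C] [Algebra A C] (p : Ideal A) [p.IsPrime]
  (q : Ideal C) [q.IsPrime] [q.LiesOver p]
  (Ox : Type u) [CommRing Ox] [Algebra C Ox] [IsLocalization.AtPrime Ox q]
  [Algebra A Ox] [IsScalarTower A C Ox]

set_option maxHeartbeats 1000000 in
theorem bridge' (J : Ideal Ox) (hJ : J = p.map (algebraMap A Ox)) (l : List C)
    (hNoeth : IsNoetherianRing (Ox ⧸ J))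
    (hreg : IsRegular (Ox ⧸ J) ((l.map (algebraMap C Ox)).map (Ideal.Quotient.mk J))) :
    IsNoetherianRing (Localization.AtPrime q ⧸ p.map (algebraMap A (Localization.AtPrime q))) ∧
    (∀ i : Fin l.length, l.get i ∈ q) ∧
    IsWeaklyRegular (Localization.AtPrime q ⧸ p.map (algebraMap A (Localization.AtPrime q)))
      (List.ofFn fun i : Fin l.length =>
        Ideal.Quotient.mk (p.map (algebraMap A (Localization.AtPrime q)))
          (algebraMap C (Localization.AtPrime q) (l.get i))) := by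
  set L := Localization.AtPrime q with hL
  set pL := p.map (algebraMap A L) with hpL
  let eL : L ≃ₐ[C] Ox := IsLocalization.algEquiv q.primeCompl L Ox
  have heA : ∀ a : A, eL (algebraMap A L a) = algebraMap A Ox a := by
    intro a
    rw [IsScalarTower.algebraMap_apply A C L, eL.commutes, ← IsScalarTower.algebraMap_apply]
  have hpLmap : pL.map (eL.toRingEquiv : L →+* Ox) = J := by
    rw [hJ, hpL, Ideal.map_map]
    congr 1
    exact RingHom.ext heA
  let ebar : L ⧸ pL ≃+* Ox ⧸ J := Ideal.quotientEquiv pL J eL.toRingEquiv hpLmap.symm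
  have hebar : ∀ c : C, ebar (Ideal.Quotient.mk pL (algebraMap C L c)) =
      Ideal.Quotient.mk J (algebraMap C Ox c) := by
    intro c
    show Ideal.Quotient.mk J (eL (algebraMap C L c)) = _
    rw [eL.commutes]
  have hlist : (List.ofFn fun i : Fin l.length => Ideal.Quotient.mk pL (algebraMap C L (l.get i))) =
      l.map (fun c => Ideal.Quotient.mk pL (algebraMap C L c)) := by
    conv_rhs => rw [← List.ofFn_get l]
    rw [List.map_ofFn]
    rfl
  rw [hlist]
  have hlistO : (l.map (algebraMap C Ox)).map (Ideal.Quotient.mk J) =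
      l.map (fun c => Ideal.Quotient.mk J (algebraMap C Ox c)) := by
    rw [List.map_map]; rfl
  rw [hlistO] at hreg
  refine ⟨isNoetherianRing_of_ringEquiv _ ebar.symm, ?_, ?_⟩
  · intro i
    by_contra hni
    have hu : IsUnit (algebraMap C Ox (l.get i)) :=
      IsLocalization.map_units Ox (⟨l.get i, hni⟩ : q.primeCompl)
    have hu' : IsUnit (Ideal.Quotient.mk J (algebraMap C Ox (l.get i))) := hu.map _
    have hmemI : Ideal.Quotient.mk J (algebraMap C Ox (l.get i)) ∈
        Ideal.ofList (l.map (fun c => Ideal.Quotient.mk J (algebraMap C Ox c))) := by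
      apply Ideal.subset_span
      exact List.mem_map.mpr ⟨l.get i, List.get_mem l i, rfl⟩
    have htop : Ideal.ofList (l.map (fun c => Ideal.Quotient.mk J (algebraMap C Ox c))) = ⊤ :=
      Ideal.eq_top_of_isUnit_mem _ hmemI hu'
    apply hreg.top_ne_smul
    rw [htop, Submodule.top_smul]
  · refine (AddEquiv.isWeaklyRegular_congr (e := ebar.toAddEquiv) ?_).mpr hreg.toIsWeaklyRegular
    rw [List.forall₂_map_right_iff, List.forall₂_map_left_iff, List.forall₂_same]
    intro c _ x
    show ebar (Ideal.Quotient.mk pL (algebraMap C L c) • x) = _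
    rw [smul_eq_mul, map_mul, hebar, smul_eq_mul]
    rfl

end Bridge

section Chart

variable {X Y : Scheme.{u}} (f : X ⟶ Y) [LocallyOfFinitePresentation f]

open Groth.Agent.Lib.Helper4.FibDim1 in
set_option maxHeartbeats 2000000 in
theorem exists_flat_chart_sch (x : X) (n : ℕ) (hfl : (f.stalkMap x).hom.Flat)
    (hc : x ∈ coprofLocus n f) :
    ∃ (d t : ℕ) (U : X.Opens) (_ : x ∈ U)
      (g : (U : Scheme.{u}) ⟶ 𝔸(ULift.{u} (Fin (d + t)); Y)),
      g ≫ (𝔸(ULift.{u} (Fin (d + t)); Y) ↘ Y) = U.ι ≫ f ∧ Flat g ∧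
        LocallyOfFinitePresentation g ∧ tr f x = t ∧
        ringKrullDim ((f.fiber (f x)).presheaf.stalk (f.asFiber x)) ≤ (d : WithBot ℕ∞) + n := by
  obtain ⟨hs, hreg, hdim⟩ := exists_list_of_coprofLE f x n hc
  obtain ⟨W, hxW, l, hl⟩ := Groth.Agent.Lead.RelReg.exists_list_germ x hs
  obtain ⟨_, ⟨V, hV, rfl⟩, hyV, -⟩ :=
    Y.isBasis_affineOpens.exists_subset_of_mem_open (Set.mem_univ (f x)) isOpen_univ
  obtain ⟨_, ⟨U, hU, rfl⟩, hxU, hUsub⟩ :=
    X.isBasis_affineOpens.exists_subset_of_mem_open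
      (show x ∈ ((W ⊓ f ⁻¹ᵁ V : X.Opens) : Set X) from ⟨hxW, hyV⟩) (W ⊓ f ⁻¹ᵁ V).isOpen
  have hUW : U ≤ W := fun z hz => (hUsub hz).1
  have hUV : U ≤ f ⁻¹ᵁ V := fun z hz => (hUsub hz).2
  let l' : List Γ(X, U) := l.map (X.presheaf.map (homOfLE hUW).op).hom
  have hl' : l'.map (X.presheaf.germ U x hxU).hom = hs := by
    rw [List.map_map, ← hl]
    apply List.map_congr_left
    intro a _
    exact X.presheaf.germ_res_apply (homOfLE hUW) x hxU a
  letI algAC : Algebra Γ(Y, V) Γ(X, U) := (f.appLE V U hUV).hom.toAlgebra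
  haveI : Algebra.FinitePresentation Γ(Y, V) Γ(X, U) :=
    HasRingHomProperty.appLE (P := @LocallyOfFinitePresentation) f inferInstance ⟨V, hV⟩ ⟨U, hU⟩ hUV
  set q := (hU.primeIdealOf ⟨x, hxU⟩).asIdeal with hq
  set p := (hV.primeIdealOf ⟨f x, hUV hxU⟩).asIdeal with hp
  have hpV : p = q.comap (f.appLE V U hUV).hom := by
    have := IsAffineOpen.comap_primeIdealOf_appLE V hV U hU hUV hxU
    exact (congrArg PrimeSpectrum.asIdeal this).symm
  haveI : q.LiesOver p := ⟨hpV⟩
  letI algCO : Algebra Γ(X, U) (X.presheaf.stalk x) :=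
    TopCat.Presheaf.algebra_section_stalk X.presheaf ⟨x, hxU⟩
  haveI : IsLocalization.AtPrime (X.presheaf.stalk x) q := hU.isLocalization_stalk ⟨x, hxU⟩
  letI algAO : Algebra Γ(Y, V) (X.presheaf.stalk x) :=
    ((algebraMap Γ(X, U) (X.presheaf.stalk x)).comp (algebraMap Γ(Y, V) Γ(X, U))).toAlgebra
  haveI : IsScalarTower Γ(Y, V) Γ(X, U) (X.presheaf.stalk x) :=
    IsScalarTower.of_algebraMap_eq (fun _ => rfl)
  set J := Ideal.map (f.stalkMap x).hom (maximalIdeal (Y.presheaf.stalk (f x))) with hJdef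
  have hJ : J = p.map (algebraMap Γ(Y, V) (X.presheaf.stalk x)) := by
    letI algAOy : Algebra Γ(Y, V) (Y.presheaf.stalk (f x)) :=
      TopCat.Presheaf.algebra_section_stalk Y.presheaf ⟨f x, hyV⟩
    haveI : IsLocalization.AtPrime (Y.presheaf.stalk (f x)) (hV.primeIdealOf ⟨f x, hyV⟩).asIdeal :=
      hV.isLocalization_stalk ⟨f x, hyV⟩
    have hm : maximalIdeal (Y.presheaf.stalk (f x)) =
        p.map (algebraMap Γ(Y, V) (Y.presheaf.stalk (f x))) :=
      (IsLocalization.AtPrime.map_eq_maximalIdeal _ _).symm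
    rw [hJdef, hm, Ideal.map_map]
    congr 1
    refine RingHom.ext fun a => ?_
    show (f.stalkMap x).hom ((Y.presheaf.germ V (f x) hyV).hom a) =
      (X.presheaf.germ U x hxU).hom ((f.appLE V U hUV).hom a)
    have h2 := Scheme.Hom.germ_stalkMap_apply f V x hyV a
    rw [Scheme.Hom.appLE]
    erw [h2]
    exact (X.presheaf.germ_res_apply (homOfLE hUV) x hxU _).symm
  haveI : IsLocallyNoetherian (f.fiber (f x)) := isLocallyNoetherian_fiber f (f x)
  have hNoeth : IsNoetherianRing (X.presheaf.stalk x ⧸ J) := by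
    obtain ⟨γ, hγ, hk⟩ := Groth.Agent.Helper3.FibStalk.exists_fibre_presentation f x
    haveI : IsNoetherianRing ((f.fiber (f x)).presheaf.stalk (f.asFiber x)) := inferInstance
    let e : (X.presheaf.stalk x ⧸ J) ≃+* (f.fiber (f x)).presheaf.stalk (f.asFiber x) :=
      (Ideal.quotEquivOfEq hk.symm).trans (RingHom.quotientKerEquivOfSurjective hγ)
    exact isNoetherianRing_of_ringEquiv _ e.symm
  have h1 : Module.Flat Γ(Y, V) (Localization.AtPrime q) := by
    have hfl' := (Groth.Agent.Lib.Helper4.RelEffCartierFlat1.flat_stalkMap_iff f V hV U hU hUV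
      hxU).mp hfl
    have hflA : (algebraMap Γ(Y, V) (Localization.AtPrime (q.comap (f.appLE V U hUV).hom))).Flat :=
      RingHom.flat_algebraMap_iff.mpr inferInstance
    have hcomp := RingHom.Flat.comp hflA hfl'
    rw [← RingHom.flat_algebraMap_iff]
    convert hcomp using 1
    refine RingHom.ext fun a => ?_
    rw [RingHom.comp_apply, Localization.localRingHom_to_map]
    rfl
  obtain ⟨hN, hmem, hregL⟩ := bridge' p q (X.presheaf.stalk x) J hJ l' hNoeth
    (by
      have : l'.map (algebraMap Γ(X, U) (X.presheaf.stalk x)) = hs := hl'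
      rw [this]
      exact hreg)
  obtain ⟨t, ψ, htr, hflψ⟩ := exists_flat_chart p q h1 hN l'.length l'.get hmem hregL
  have hψC : ψ.toRingHom.comp MvPolynomial.C = (f.appLE V U hUV).hom :=
    RingHom.ext fun a => ψ.commutes a
  obtain ⟨U', hx', g, hg1, hg2, hg3⟩ :=
    exists_flat_affineSpace_hom f x hU hxU hV hUV (l'.length + t) ψ.toRingHom hψC hflψ
  have htr' : tr f x = t := by
    have h3 := tr_chart f hV hU hUV x hxU (rfl : algebraMap Γ(Y, V) Γ(X, U) = (f.appLE V U hUV).hom)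
    rw [htr] at h3
    exact_mod_cast h3.symm
  have hlen : l'.length = hs.length := by
    have := congrArg List.length hl'
    rw [List.length_map] at this
    exact this
  refine ⟨l'.length, t, U', hx', g, hg1, hg2, hg3, htr', ?_⟩
  rw [hlen]
  exact hdim

end Chart

end Groth.Agent.Lead.Coprof
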