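import Mathlib
import Groth.Prelude
import Groth.Agent.Lib.Lead.CoprofOpen3
import Groth.Agent.Lib.Lead.CMQF13

set_option autoImplicit false
set_option backward.isDefEq.respectTransparency.types false
set_option synthInstance.maxHeartbeats 400000
set_option linter.style.haveILetI false
set_option linter.unusedSectionVars false
universe u v

open TensorProduct RingTheory.Sequence IsLocalRing
open AlgebraicGeometry CategoryTheory CategoryTheory.Limits TopologicalSpace

namespace Groth.Agent.Lead.Coprof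

open LocCoh Groth.Agent.Lead.CMQF Groth.Agent.Lead.CMAt
open Groth.Agent.Lib.Helper4.FibDim1 Groth.Agent.Lib.Helper4.FibDimComp1
  Groth.Agent.Lib.Helper4.ChevCrit7 Groth.Agent.Lib.Helper4.Aff2 Groth.Agent.Lib.Helper4.UnivOpenT1

theorem mem_coprofLocus (n : ℕ) {X S : Scheme.{u}} (f : X ⟶ S) (x : X) :
    x ∈ coprofLocus n f ↔ CoprofLE ((f.fiber (f x)).presheaf.stalk (f.asFiber x)) n := Iff.rfl

/-- the dimension of the local ring of the fibre is at most the local dimension of the fibre -/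
theorem dim_fibreStalk_le {X Y : Scheme.{u}} (f : X ⟶ Y) [LocallyOfFiniteType f] (x : X) :
    ringKrullDim ((f.fiber (f x)).presheaf.stalk (f.asFiber x)) ≤ FlatMor.fibreDimAt f x := by
  rw [Groth.Agent.Helper2.FibDim.fibreDimAt_eq_stalk_add_tr f x]
  have h0 : (0 : WithBot ℕ∞) ≤ ((tr f x : ℕ) : WithBot ℕ∞) := by exact_mod_cast Nat.zero_le _
  exact le_add_of_nonneg_right h0

/-- codepth of a composition with a morphism with Cohen–Macaulay fibres at the image point -/
theorem coprofLocus_comp_of_flat {X Y Z : Scheme.{u}} (g : X ⟶ Y) (p : Y ⟶ Z)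
    [LocallyOfFiniteType g] [LocallyOfFiniteType p] (x : X) (n : ℕ)
    (hfl : (g.stalkMap x).hom.Flat)
    (hcm : IsCohenMacaulayLocalRing ((p.fiber (p (g x))).presheaf.stalk (p.asFiber (g x))))
    (hx : x ∈ coprofLocus n g) : x ∈ coprofLocus n (g ≫ p) := by
  obtain ⟨γf, hγf, hkf⟩ := Groth.Agent.Helper3.FibStalk.exists_fibre_presentation g x
  obtain ⟨γg, hγg, hkg⟩ := Groth.Agent.Helper3.FibStalk.exists_fibre_presentation p (g x)
  obtain ⟨γc, hγc, hkc⟩ := Groth.Agent.Helper3.FibStalk.exists_fibre_presentation (g ≫ p) x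
  have hcomp := stalkMap_comp_hom g p x
  rw [hcomp] at hkc
  obtain ⟨φ', γ', D⟩ := exists_flData_comp (p.stalkMap (g x)).hom (g.stalkMap x).hom hfl
    γg hγg hkg γf hγf hkf γc hγc hkc
  haveI : IsLocallyNoetherian (p.fiber (p (g x))) := isLocallyNoetherian_fiber p _
  haveI : IsNoetherianRing ((p.fiber (p (g x))).presheaf.stalk (p.asFiber (g x))) := inferInstance
  haveI : IsLocallyNoetherian ((g ≫ p).fiber ((g ≫ p) x)) := isLocallyNoetherian_fiber (g ≫ p) _
  haveI : IsNoetherianRing (((g ≫ p).fiber ((g ≫ p) x)).presheaf.stalk ((g ≫ p).asFiber x)) :=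
    inferInstance
  exact (coprofLE_iff_of_flData_cm_base D hcm n).mpr hx

set_option maxHeartbeats 1000000 in
theorem isOpen_coprofLocus_of_flat {X S : Scheme.{u}} (f : X ⟶ S) [Flat f]
    [LocallyOfFinitePresentation f] (n : ℕ) : IsOpen (coprofLocus n f) := by
  rw [isOpen_iff_forall_mem_open]
  intro x hx
  obtain ⟨d, t, U, hxU, g, hg, hgfl, hgfp, htr, hdim⟩ :=
    exists_flat_chart_sch f x n (Flat.stalkMap f x) hx
  set x₀ : (U : Scheme.{u}) := ⟨x, hxU⟩ with hx₀
  -- fibre dimension of `g` at `x`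
  have hgx : FlatMor.fibreDimAt g x₀ ≤ (n : WithBot ℕ∞) := by
    have h1 := fibreDimAt_comp_ge g (𝔸(ULift.{u} (Fin (d + t)); S) ↘ S) x₀
      (fun z _ => isUnivOpenAt_of_universallyOpen g z)
    have h2 := fibreDimAt_affineSpace (d + t) S (g x₀)
    have h3 : FlatMor.fibreDimAt (g ≫ (𝔸(ULift.{u} (Fin (d + t)); S) ↘ S)) x₀ =
        FlatMor.fibreDimAt f x := by
      rw [hg, fibreDimAt_restrict f U x₀]
      rfl
    have h4 := Groth.Agent.Helper2.FibDim.fibreDimAt_eq_stalk_add_tr f x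
    obtain ⟨a, ha⟩ := exists_fibreDimAt_nat g x₀
    haveI : IsLocallyNoetherian (f.fiber (f x)) := isLocallyNoetherian_fiber f (f x)
    haveI : IsNoetherianRing ((f.fiber (f x)).presheaf.stalk (f.asFiber x)) := inferInstance
    obtain ⟨δ, hδ⟩ := exists_nat_dim ((f.fiber (f x)).presheaf.stalk (f.asFiber x))
    rw [h3, h4, hδ, htr, ha] at h1
    erw [h2] at h1
    rw [hδ] at hdim
    rw [ha]
    have h1' : a + (d + t) ≤ δ + t := by exact_mod_cast h1
    have h2' : δ ≤ d + n := by exact_mod_cast hdim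
    have : a ≤ n := by omega
    exact_mod_cast this
  have hopen := Groth.Agent.Lib.Helper4.Chev2.S0402_main g n
  refine ⟨U.ι '' {x' | FlatMor.fibreDimAt g x' ≤ (n : WithBot ℕ∞)}, ?_,
    U.ι.isOpenEmbedding.isOpenMap _ hopen, ⟨x₀, hgx, rfl⟩⟩
  rintro _ ⟨x', hx', rfl⟩
  have hx'' : FlatMor.fibreDimAt g x' ≤ (n : WithBot ℕ∞) := hx'
  have hg' : x' ∈ coprofLocus n g :=
    coprofLE_of_dim_le _ n ((dim_fibreStalk_le g x').trans hx'')
  have hcomp := coprofLocus_comp_of_flat g (𝔸(ULift.{u} (Fin (d + t)); S) ↘ S) x' n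
    (Flat.stalkMap g x') (cm_fiber_affineSpace (d + t) S _ _) hg'
  rw [hg] at hcomp
  obtain ⟨e⟩ := Groth.Agent.Lead.CMQF.fiberStalk_equiv_of_openImmersion U.ι f x'
  exact coprofLE_of_ringEquiv e n hcomp

end Groth.Agent.Lead.Coprof
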