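import Mathlib
import Groth.Prelude
import Groth.Agent.Lib.Lead.CMAt2

set_option autoImplicit false
set_option backward.isDefEq.respectTransparency.types false
set_option synthInstance.maxHeartbeats 400000
set_option linter.style.haveILetI false
set_option linter.unusedSectionVars false
universe u

open CategoryTheory CategoryTheory.Limits AlgebraicGeometry IsLocalRing TensorProduct

namespace Groth.Agent.Lead.CMCons

open LocCoh Groth.Agent.Lead.CMAt Groth.Agent.Helper3.FibStalk

/-- the locus where the fibre is Cohen–Macaulay -/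
def cmLocus {X S : Scheme.{u}} (f : X ⟶ S) : Set X :=
  {x | IsCohenMacaulayLocalRing ((f.fiber (f x)).presheaf.stalk (f.asFiber x))}

theorem mem_cmLocus {X S : Scheme.{u}} (f : X ⟶ S) (x : X) :
    x ∈ cmLocus f ↔
      IsCohenMacaulayLocalRing ((f.fiber (f x)).presheaf.stalk (f.asFiber x)) := Iff.rfl

set_option maxHeartbeats 1000000 in
theorem cmLocus_baseChange {X Y X' Y' : Scheme.{u}} (f : X ⟶ Y) [LocallyOfFiniteType f]
    (g : Y' ⟶ Y) (f' : X' ⟶ Y') (g' : X' ⟶ X) (hsq : IsPullback g' f' f g) :
    cmLocus f' = g' ⁻¹' cmLocus f := by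
  ext x'
  haveI : LocallyOfFiniteType f' :=
    MorphismProperty.of_isPullback (P := @LocallyOfFiniteType) hsq inferInstance
  have key : ∀ (h₀ : f'.fiber (f' x') ⟶ f.fiber (g (f' x'))),
      h₀ ≫ f.fiberι _ = f'.fiberι _ ≫ g' →
      IsPullback h₀ (f'.fiberToSpecResidueField (f' x'))
        (f.fiberToSpecResidueField (g (f' x'))) (Spec.map (g.residueFieldMap (f' x'))) →
      (x' ∈ cmLocus f' ↔ g' x' ∈ cmLocus f) := by
    intro h₀ hh₀ sq
    haveI : LocallyOfFiniteType (f.fiberToSpecResidueField (g (f' x'))) :=
      MorphismProperty.pullback_snd _ _ inferInstance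
    haveI : LocallyOfFiniteType (f'.fiberToSpecResidueField (f' x')) :=
      MorphismProperty.pullback_snd _ _ inferInstance
    haveI : IsLocallyNoetherian (f.fiber (g (f' x'))) :=
      LocallyOfFiniteType.isLocallyNoetherian (f.fiberToSpecResidueField (g (f' x')))
    haveI : IsLocallyNoetherian (f'.fiber (f' x')) :=
      LocallyOfFiniteType.isLocallyNoetherian (f'.fiberToSpecResidueField (f' x'))
    have h2 : f.fiberι (g (f' x')) (h₀ (f'.asFiber x')) =
        f.fiberι (f (g' x')) (f.asFiber (g' x')) := by
      rw [← Scheme.Hom.comp_apply, hh₀, Scheme.Hom.comp_apply, f'.fiberι_asFiber,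
        f.fiberι_asFiber]
    have h3 := cm_fiber_congr f _ _ h2
    have h1 : IsCohenMacaulayLocalRing ((f'.fiber (f' x')).presheaf.stalk (f'.asFiber x')) ↔
        IsCohenMacaulayLocalRing
          ((f.fiber (g (f' x'))).presheaf.stalk (h₀ (f'.asFiber x'))) := by
      constructor
      · intro hG
        exact cm_of_cm_field_baseChange (Y.residueField (g (f' x')))
          (Y'.residueField (f' x')) (g.residueFieldMap (f' x')).hom
          (f.fiberToSpecResidueField (g (f' x'))) (f'.fiberToSpecResidueField (f' x')) h₀ sq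
          (f'.asFiber x') hG
      · intro hG
        exact cm_field_baseChange_of_cm (Y.residueField (g (f' x')))
          (Y'.residueField (f' x')) (g.residueFieldMap (f' x')).hom
          (f.fiberToSpecResidueField (g (f' x'))) (f'.fiberToSpecResidueField (f' x')) h₀ sq
          (Or.inr inferInstance) (f'.asFiber x') hG
    rw [mem_cmLocus, mem_cmLocus, h1, h3]
  refine key _ ?_ (isPullback_fiberToSpecResidueField_of_isPullback hsq (f' x'))
  exact pullback.lift_fst _ _ _

end Groth.Agent.Lead.CMCons
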