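import Mathlib
import Groth.Prelude
import Groth.Agent.Lib.Lead.CMCons1
import Groth.Agent.Lib.Lead.CMQF13
import Groth.Agent.Lib.Helper7.ConsPair.Top
import Groth.Agent.Lib.Helper9.GenFree.Main2

set_option autoImplicit false
set_option backward.isDefEq.respectTransparency.types false
set_option synthInstance.maxHeartbeats 400000
set_option linter.style.haveILetI false
set_option linter.unusedSectionVars false
universe u

open CategoryTheory CategoryTheory.Limits AlgebraicGeometry IsLocalRing TensorProduct

namespace Groth.Agent.Lead.CMCons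

open LocCoh Groth.Agent.Lead.CMAt

theorem cmLocus_comp_openImmersion {P Z S : Scheme.{u}} (k : P ⟶ Z) [IsOpenImmersion k]
    (g : Z ⟶ S) : cmLocus (k ≫ g) = k ⁻¹' cmLocus g := by
  ext y
  obtain ⟨e⟩ := Groth.Agent.Lead.CMQF.fiberStalk_equiv_of_openImmersion k g y
  exact ⟨fun h => cm_of_ringEquiv e h, fun h => cm_of_ringEquiv e.symm h⟩

theorem cmLocus_eq_of_flat {X S : Scheme.{u}} (f : X ⟶ S) [Flat f] :
    cmLocus f = {x | MoreMor.IsCMAt f x} := by
  ext x
  exact ⟨fun h => ⟨Flat.stalkMap f x, h⟩, fun h => h.2⟩

/-- generic flatness, in the form we need -/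
theorem exists_flat_away (A' T : Type u) [CommRing A'] [IsDomain A'] [CommRing T] [Algebra A' T]
    [Algebra.FiniteType A' T] :
    ∃ a : A', a ≠ 0 ∧ Module.Flat A' (Localization.Away (algebraMap A' T a)) := by
  obtain ⟨a, ha, hfree⟩ :=
    (Groth.Agent.Helper9.GenFree.goodRing_of_finiteType' A' T T).exists_free
  refine ⟨a, ha, ?_⟩
  haveI : Module.Flat (Localization.Away a) (LocalizedModule (Submonoid.powers a) T) :=
    inferInstance
  haveI : Module.Flat A' (LocalizedModule (Submonoid.powers a) T) :=
    Module.Flat.trans A' (Localization.Away a) _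
  haveI : IsLocalization (Algebra.algebraMapSubmonoid T (Submonoid.powers a))
      (Localization.Away (algebraMap A' T a)) := by
    rw [Algebra.algebraMapSubmonoid_powers]
    infer_instance
  exact Module.Flat.of_linearEquiv
    (IsLocalizedModule.iso (Submonoid.powers a)
      (IsScalarTower.toAlgHom A' T (Localization.Away (algebraMap A' T a))).toLinearMap).symm

end Groth.Agent.Lead.CMCons
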