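import Mathlib
import Groth.Agent.Lib.Lead.SliceQF4
import Groth.Agent.Lib.Lead.CMAt2
import Groth.Agent.Lib.Helper8.CMPoly1
import Groth.Agent.Lib.Helper8.Depth36

set_option autoImplicit false
set_option backward.isDefEq.respectTransparency.types false
set_option synthInstance.maxHeartbeats 400000
set_option linter.style.haveILetI false

universe u

open AlgebraicGeometry CategoryTheory CategoryTheory.Limits TopologicalSpace IsLocalRing
open RingTheory.Sequence

namespace Groth.Agent.Lead.CMPt

/-- the generic point of a domain lies in the free locus of every module -/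
theorem bot_mem_freeLocus (P : Type u) [CommRing P] [IsDomain P] (A : Type u) [AddCommGroup A]
    [Module P A] : (⟨⊥, Ideal.isPrime_bot⟩ : PrimeSpectrum P) ∈ Module.freeLocus P A := by
  rw [Module.mem_freeLocus]
  have hF : IsField (Localization.AtPrime (⊥ : Ideal P)) := by
    rw [IsLocalRing.isField_iff_maximalIdeal_eq, ← Localization.AtPrime.map_eq_maximalIdeal,
      Ideal.map_bot]
  letI := hF.toField
  exact Module.Free.of_divisionRing _ _

/-- a nonempty open subset of the spectrum of a Jacobson ring contains a closed point -/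
theorem exists_maximal_mem_of_isOpen (P : Type u) [CommRing P] [IsJacobsonRing P]
    (U : Set (PrimeSpectrum P)) (hU : IsOpen U) (hne : U.Nonempty) :
    ∃ n : PrimeSpectrum P, n ∈ U ∧ n.asIdeal.IsMaximal := by
  haveI : JacobsonSpace (PrimeSpectrum P) := PrimeSpectrum.isJacobsonRing_iff_jacobsonSpace.mp ‹_›
  have hd : Dense (closedPoints (PrimeSpectrum P)) := by
    have := JacobsonSpace.closure_inter_closedPoints (X := PrimeSpectrum P) isClosed_univ
    rw [Set.univ_inter] at this
    exact dense_iff_closure_eq.mpr this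
  obtain ⟨n, hnU, hn⟩ := hd.inter_open_nonempty U hU hne
  exact ⟨n, hnU, (PrimeSpectrum.isClosed_singleton_iff_isMaximal n).mp hn⟩

set_option maxHeartbeats 1000000 in
/-- a nonzero algebra of finite type over a field has a maximal ideal with Cohen–Macaulay
localization -/
theorem exists_maximal_cm (K : Type u) [Field K] (A : Type u) [CommRing A] [Nontrivial A]
    [Algebra K A] [Algebra.FiniteType K A] :
    ∃ m : Ideal A, ∃ _ : m.IsMaximal,
      LocCoh.IsCohenMacaulayLocalRing (Localization.AtPrime m) := by
  obtain ⟨s, g, hinj, hfin⟩ := exists_finite_inj_algHom_of_fg K A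
  letI algPA : Algebra (MvPolynomial (Fin s) K) A := g.toRingHom.toAlgebra
  haveI : Module.Finite (MvPolynomial (Fin s) K) A := hfin
  haveI : IsNoetherianRing A := Algebra.FiniteType.isNoetherianRing K A
  haveI : Module.FinitePresentation (MvPolynomial (Fin s) K) A :=
    Module.finitePresentation_of_finite _ A
  have hPcm : LocCoh.IsCohenMacaulayRing (MvPolynomial (Fin s) K) :=
    Groth.Agent.Helper8.CplMap.isCohenMacaulayRing_of_isRegularRing _
  obtain ⟨n, hnfree, hnmax⟩ := exists_maximal_mem_of_isOpen (MvPolynomial (Fin s) K)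
    (Module.freeLocus (MvPolynomial (Fin s) K) A) Module.isOpen_freeLocus
    ⟨_, bot_mem_freeLocus (MvPolynomial (Fin s) K) A⟩
  haveI := hnmax
  haveI hRcm : LocCoh.IsCohenMacaulayLocalRing (Localization.AtPrime n.asIdeal) :=
    hPcm.isCohenMacaulayLocalRing_localization n.asIdeal
  haveI hfree : Module.Free (Localization.AtPrime n.asIdeal)
      (Localization (Algebra.algebraMapSubmonoid A n.asIdeal.primeCompl)) :=
    (Module.mem_freeLocus_of_isLocalization n (Localization.AtPrime n.asIdeal)
      (Localization (Algebra.algebraMapSubmonoid A n.asIdeal.primeCompl))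
      (IsScalarTower.toAlgHom (MvPolynomial (Fin s) K) A
        (Localization (Algebra.algebraMapSubmonoid A n.asIdeal.primeCompl))).toLinearMap).mp hnfree
  haveI hfinRB : Module.Finite (Localization.AtPrime n.asIdeal)
      (Localization (Algebra.algebraMapSubmonoid A n.asIdeal.primeCompl)) :=
    Module.Finite.of_isLocalizedModule n.asIdeal.primeCompl
      (Rₚ := Localization.AtPrime n.asIdeal)
      (IsScalarTower.toAlgHom (MvPolynomial (Fin s) K) A
        (Localization (Algebra.algebraMapSubmonoid A n.asIdeal.primeCompl))).toLinearMap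
  haveI hnt : Nontrivial (Localization (Algebra.algebraMapSubmonoid A n.asIdeal.primeCompl)) := by
    rw [← not_subsingleton_iff_nontrivial,
      IsLocalization.subsingleton_iff (M := Algebra.algebraMapSubmonoid A n.asIdeal.primeCompl)]
    rintro ⟨p, hp, hp0⟩
    have : p = 0 := hinj (by rw [map_zero]; exact hp0)
    rw [this] at hp
    exact hp (Ideal.zero_mem _)
  obtain ⟨Mx, hMx⟩ := Ideal.exists_maximal
    (Localization (Algebra.algebraMapSubmonoid A n.asIdeal.primeCompl))
  haveI := hMx
  haveI hflatRB : Module.Flat (Localization.AtPrime n.asIdeal)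
      (Localization (Algebra.algebraMapSubmonoid A n.asIdeal.primeCompl)) := inferInstance
  haveI hflat : Module.Flat (Localization.AtPrime n.asIdeal) (Localization.AtPrime Mx) :=
    Module.Flat.trans (Localization.AtPrime n.asIdeal)
      (Localization (Algebra.algebraMapSubmonoid A n.asIdeal.primeCompl)) (Localization.AtPrime Mx)
  haveI hint : Algebra.IsIntegral (Localization.AtPrime n.asIdeal)
      (Localization (Algebra.algebraMapSubmonoid A n.asIdeal.primeCompl)) :=
    Algebra.IsIntegral.of_finite _ _
  -- the contraction of `Mx` to `R` is the maximal ideal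
  have hcomapR : Mx.comap (algebraMap (Localization.AtPrime n.asIdeal)
      (Localization (Algebra.algebraMapSubmonoid A n.asIdeal.primeCompl))) =
      maximalIdeal (Localization.AtPrime n.asIdeal) := by
    haveI : (Mx.comap (algebraMap (Localization.AtPrime n.asIdeal)
        (Localization (Algebra.algebraMapSubmonoid A n.asIdeal.primeCompl)))).IsMaximal :=
      Ideal.isMaximal_comap_of_isIntegral_of_isMaximal Mx
    exact IsLocalRing.eq_maximalIdeal inferInstance
  haveI hloc : IsLocalHom (algebraMap (Localization.AtPrime n.asIdeal) (Localization.AtPrime Mx)) := by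
    apply ((IsLocalRing.local_hom_TFAE (algebraMap (Localization.AtPrime n.asIdeal)
      (Localization.AtPrime Mx))).out 0 4).mpr
    rw [IsScalarTower.algebraMap_eq (Localization.AtPrime n.asIdeal)
      (Localization (Algebra.algebraMapSubmonoid A n.asIdeal.primeCompl)) (Localization.AtPrime Mx),
      ← Ideal.comap_comap]
    have h1 : Ideal.comap (algebraMap (Localization (Algebra.algebraMapSubmonoid A n.asIdeal.primeCompl))
        (Localization.AtPrime Mx)) (maximalIdeal (Localization.AtPrime Mx)) = Mx :=
      IsLocalization.AtPrime.under_maximalIdeal (Localization.AtPrime Mx) Mx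
    rw [h1, hcomapR]
  have hdim : ringKrullDim (Localization.AtPrime Mx) ≤
      ringKrullDim (Localization.AtPrime n.asIdeal) := by
    rw [IsLocalization.AtPrime.ringKrullDim_eq_height Mx (Localization.AtPrime Mx)]
    exact (Ideal.height_le_ringKrullDim_of_ne_top hMx.ne_top).trans
      (Groth.Agent.Helper8.Depth.ringKrullDim_le_of_isIntegral _ _)
  have hS : LocCoh.IsCohenMacaulayLocalRing (Localization.AtPrime Mx) :=
    (Groth.Agent.Helper8.Depth.cm_of_flat_of_dim_le (Localization.AtPrime n.asIdeal)
      (Localization.AtPrime Mx) (Or.inr hdim)).1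
  haveI hprime : (Mx.comap (algebraMap A
      (Localization (Algebra.algebraMapSubmonoid A n.asIdeal.primeCompl)))).IsPrime :=
    Ideal.comap_isPrime _ _
  have hcomapP : (Mx.comap (algebraMap A
      (Localization (Algebra.algebraMapSubmonoid A n.asIdeal.primeCompl)))).comap
      (algebraMap (MvPolynomial (Fin s) K) A) = n.asIdeal := by
    rw [Ideal.comap_comap, ← IsScalarTower.algebraMap_eq,
      IsScalarTower.algebraMap_eq (MvPolynomial (Fin s) K) (Localization.AtPrime n.asIdeal)
        (Localization (Algebra.algebraMapSubmonoid A n.asIdeal.primeCompl)),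
      ← Ideal.comap_comap, hcomapR]
    exact IsLocalization.AtPrime.under_maximalIdeal (Localization.AtPrime n.asIdeal) n.asIdeal
  haveI hintPA : Algebra.IsIntegral (MvPolynomial (Fin s) K) A := Algebra.IsIntegral.of_finite _ _
  have hmax : (Mx.comap (algebraMap A
      (Localization (Algebra.algebraMapSubmonoid A n.asIdeal.primeCompl)))).IsMaximal := by
    apply Ideal.isMaximal_of_isIntegral_of_isMaximal_comap (R := MvPolynomial (Fin s) K)
    rw [hcomapP]
    exact hnmax
  refine ⟨_, hmax, ?_⟩
  exact Groth.Agent.Lead.CMAt.cm_of_ringEquiv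
    (IsLocalization.localizationLocalizationAtPrimeIsoLocalization
      (Algebra.algebraMapSubmonoid A n.asIdeal.primeCompl) Mx).symm.toRingEquiv hS

set_option maxHeartbeats 1000000 in
/-- a nonempty scheme locally of finite type over a field has a closed point with
Cohen–Macaulay local ring -/
theorem exists_closed_cm_point {K : Type u} [Field K] {Y : Scheme.{u}}
    (g : Y ⟶ Spec (CommRingCat.of K)) [LocallyOfFiniteType g] [Nonempty Y] :
    ∃ y : Y, IsClosed ({y} : Set Y) ∧ LocCoh.IsCohenMacaulayLocalRing (Y.presheaf.stalk y) := by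
  obtain ⟨y₀⟩ := ‹Nonempty Y›
  obtain ⟨W, hW, hy₀W, -⟩ := Opens.isBasis_iff_nbhd.mp (Y.isBasis_affineOpens)
    (show y₀ ∈ (⊤ : Y.Opens) from trivial)
  have hle : W ≤ g ⁻¹ᵁ ⊤ := le_top
  have hft : (g.appLE ⊤ W hle).hom.FiniteType :=
    HasRingHomProperty.appLE (P := @LocallyOfFiniteType) g inferInstance
      ⟨⊤, isAffineOpen_top _⟩ ⟨W, hW⟩ hle
  have hft' : ((g.appLE ⊤ W hle).hom.comp (Scheme.ΓSpecIso (CommRingCat.of K)).inv.hom).FiniteType :=
    hft.comp (RingHom.FiniteType.of_surjective _
      (ConcreteCategory.bijective_of_isIso (Scheme.ΓSpecIso (CommRingCat.of K)).inv).2)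
  letI algKA : Algebra K Γ(Y, W) :=
    ((g.appLE ⊤ W hle).hom.comp (Scheme.ΓSpecIso (CommRingCat.of K)).inv.hom).toAlgebra
  haveI : Algebra.FiniteType K Γ(Y, W) := hft'
  haveI : Nontrivial Γ(Y, W) := by
    by_contra h
    rw [not_nontrivial_iff_subsingleton] at h
    exact (hW.primeIdealOf ⟨y₀, hy₀W⟩).2.ne_top (Subsingleton.elim _ _)
  obtain ⟨m, hm, hcm⟩ := exists_maximal_cm K Γ(Y, W)
  haveI := hm
  let pm : Spec Γ(Y, W) := ⟨m, hm.isPrime⟩
  haveI : JacobsonSpace Y := LocallyOfFiniteType.jacobsonSpace g
  have hcl : IsClosed ({hW.fromSpec pm} : Set Y) := by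
    have h1 := hW.fromSpec.isOpenEmbedding.preimage_closedPoints
    have h2 : pm ∈ closedPoints (Spec Γ(Y, W)) :=
      (PrimeSpectrum.isClosed_singleton_iff_isMaximal pm).mpr hm
    rw [← h1] at h2
    exact h2
  refine ⟨hW.fromSpec pm, hcl, ?_⟩
  have hyW : hW.fromSpec pm ∈ W := by
    have := hW.range_fromSpec
    rw [← SetLike.mem_coe, ← this]
    exact ⟨pm, rfl⟩
  have hq : hW.primeIdealOf ⟨hW.fromSpec pm, hyW⟩ = pm := by
    apply hW.fromSpec.isOpenEmbedding.injective
    exact hW.fromSpec_primeIdealOf ⟨hW.fromSpec pm, hyW⟩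
  letI := Y.presheaf.algebra_section_stalk (⟨hW.fromSpec pm, hyW⟩ : W)
  have hloc := hW.isLocalization_stalk ⟨hW.fromSpec pm, hyW⟩
  rw [hq] at hloc
  haveI : IsLocalization.AtPrime (Y.presheaf.stalk (hW.fromSpec pm)) m := hloc
  exact Groth.Agent.Lead.CMAt.cm_of_ringEquiv
    (IsLocalization.algEquiv m.primeCompl (Localization.AtPrime m)
      (Y.presheaf.stalk (hW.fromSpec pm))).toRingEquiv hcm

/-- every nonempty fibre of a morphism locally of finite type has a point closed in the fibre at
which the fibre is Cohen–Macaulay -/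
theorem exists_closed_cm_point_fibre {X S : Scheme.{u}} (f : X ⟶ S) [LocallyOfFiniteType f]
    (x₀ : X) :
    ∃ x : X, f x = f x₀ ∧ IsClosed ({f.asFiber x} : Set (f.fiber (f x))) ∧
      LocCoh.IsCohenMacaulayLocalRing ((f.fiber (f x)).presheaf.stalk (f.asFiber x)) := by
  haveI : Nonempty (f.fiber (f x₀)) := ⟨f.asFiber x₀⟩
  haveI : LocallyOfFiniteType (f.fiberToSpecResidueField (f x₀)) :=
    MorphismProperty.pullback_snd _ _ inferInstance
  obtain ⟨y, hycl, hycm⟩ := exists_closed_cm_point (K := S.residueField (f x₀))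
    (f.fiberToSpecResidueField (f x₀))
  have hfx : f (f.fiberι (f x₀) y) = f x₀ := by
    have : f.fiberι (f x₀) y ∈ Set.range (f.fiberι (f x₀)) := ⟨y, rfl⟩
    rw [f.range_fiberι] at this
    exact this
  refine ⟨f.fiberι (f x₀) y, hfx, ?_, ?_⟩
  · rw [Groth.Agent.Lead.SliceQF.isClosed_singleton_asFiber_iff]
    intro x' hsp hx'
    have hx'r : x' ∈ Set.range (f.fiberι (f x₀)) := by
      rw [f.range_fiberι]
      exact hx'.trans hfx
    obtain ⟨y', rfl⟩ := hx'r
    have h1 : y ⤳ y' := (f.fiberι (f x₀)).isEmbedding.isInducing.specializes_iff.mp hsp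
    have h2 : y' ∈ ({y} : Set _) := h1.mem_closed hycl (Set.mem_singleton y)
    rw [Set.mem_singleton_iff] at h2
    rw [h2]
  · exact (Groth.Agent.Lead.CMAt.cm_fiber_congr f y (f.asFiber (f.fiberι (f x₀) y))
      (f.fiberι_asFiber _).symm).mp hycm

end Groth.Agent.Lead.CMPt
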