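import Mathlib
import Groth.Agent.Lib.Lead.CMQF11
import Groth.Agent.Lib.Lead.CMPt1

set_option autoImplicit false
set_option backward.isDefEq.respectTransparency.types false
set_option synthInstance.maxHeartbeats 400000
set_option linter.style.haveILetI false
universe u v

open AlgebraicGeometry CategoryTheory CategoryTheory.Limits TopologicalSpace IsLocalRing
open LocCoh

namespace Groth.Agent.Lead.CMQF

theorem dense_cm_fibre {X S : Scheme.{u}} (f : X ⟶ S) [Flat f] [LocallyOfFiniteType f] (s : S) :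
    Dense ((f.fiberι s) ⁻¹' {x : X | MoreMor.IsCMAt f x}) := by
  rw [dense_iff_inter_open]
  intro W₀ hW₀ hne
  let W : (f.fiber s).Opens := ⟨W₀, hW₀⟩
  haveI : Nonempty (W : Scheme.{u}) := by
    obtain ⟨w, hw⟩ := hne
    exact ⟨⟨w, hw⟩⟩
  haveI : LocallyOfFiniteType (f.fiberToSpecResidueField s) :=
    MorphismProperty.pullback_snd _ _ inferInstance
  haveI : LocallyOfFiniteType (W.ι ≫ f.fiberToSpecResidueField s) := inferInstance
  obtain ⟨w, -, hcm⟩ := Groth.Agent.Lead.CMPt.exists_closed_cm_point (K := S.residueField s)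
    (W.ι ≫ f.fiberToSpecResidueField s)
  refine ⟨W.ι w, w.2, ?_⟩
  show MoreMor.IsCMAt f (f.fiberι s (W.ι w))
  refine ⟨Flat.stalkMap f _, ?_⟩
  have h1 : IsCohenMacaulayLocalRing ((f.fiber s).presheaf.stalk (W.ι w)) :=
    Groth.Agent.Lead.CMAt.cm_of_ringEquiv
      (asIso (W.ι.stalkMap w)).commRingCatIsoToRingEquiv.symm hcm
  exact (Groth.Agent.Lead.CMAt.cm_fiber_congr f (W.ι w) (f.asFiber (f.fiberι s (W.ι w)))
    (f.fiberι_asFiber _).symm).mp h1

theorem S1341_main {X S : Scheme.{u}} (f : X ⟶ S) [Flat f] [LocallyOfFinitePresentation f] :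
    IsOpen {x : ↑X | MoreMor.IsCMAt f x} ∧
      ∀ s : S, Dense ((f.fiberι s) ⁻¹' {x : ↑X | MoreMor.IsCMAt f x}) :=
  ⟨S4961_main f, fun s => dense_cm_fibre f s⟩

end Groth.Agent.Lead.CMQF
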