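import Mathlib
import Groth.Prelude
import Groth.Agent.Lib.Lead.CMCons2
import Groth.Agent.Lib.Lead.CMQF12

set_option autoImplicit false
set_option backward.isDefEq.respectTransparency.types false
set_option synthInstance.maxHeartbeats 400000
set_option linter.style.haveILetI false
set_option linter.unusedSectionVars false
universe u

open CategoryTheory CategoryTheory.Limits AlgebraicGeometry IsLocalRing TensorProduct Topology

namespace Groth.Agent.Lead.CMCons

open LocCoh Groth.Agent.Lead.CMAt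

set_option maxHeartbeats 2000000 in
theorem cmLocus_constructible_noeth (A B : Type u) [CommRing A] [CommRing B] [Algebra A B]
    [IsNoetherianRing A] [Algebra.FiniteType A B] :
    IsConstructible (cmLocus (Spec.map (CommRingCat.ofHom (algebraMap A B)))) := by
  haveI : IsNoetherianRing B := Algebra.FiniteType.isNoetherianRing A B
  set f := Spec.map (CommRingCat.ofHom (algebraMap A B)) with hf
  haveI : LocallyOfFiniteType f := by
    rw [hf, HasRingHomProperty.Spec_iff (P := @LocallyOfFiniteType)]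
    exact (RingHom.finiteType_algebraMap (A := A) (B := B)).mpr inferInstance
  apply Groth.Agent.Helper7.ConsPair.isConstructible_of_forall_prime B
  intro x
  let q : Ideal B := x.asIdeal
  haveI : q.IsPrime := x.isPrime
  let p : Ideal A := q.comap (algebraMap A B)
  haveI : p.IsPrime := Ideal.IsPrime.comap _
  obtain ⟨a, ha, hflat⟩ := exists_flat_away (A ⧸ p) ((A ⧸ p) ⊗[A] B)
  let g : Spec (CommRingCat.of (A ⧸ p)) ⟶ Spec (CommRingCat.of A) :=
    Spec.map (CommRingCat.ofHom (algebraMap A (A ⧸ p)))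
  let f' : Spec (CommRingCat.of ((A ⧸ p) ⊗[A] B)) ⟶ Spec (CommRingCat.of (A ⧸ p)) :=
    Spec.map (CommRingCat.ofHom (Algebra.TensorProduct.includeLeftRingHom))
  let g' : Spec (CommRingCat.of ((A ⧸ p) ⊗[A] B)) ⟶ Spec (CommRingCat.of B) :=
    Spec.map (CommRingCat.ofHom
      (Algebra.TensorProduct.includeRight : B →ₐ[A] (A ⧸ p) ⊗[A] B).toRingHom)
  have hsq : IsPullback g' f' f g :=
    (isPullback_SpecMap_of_isPushout _ _ _ _ (CommRingCat.isPushout_tensorProduct A (A ⧸ p) B)).flip
  have hbc : cmLocus f' = g' ⁻¹' cmLocus f := cmLocus_baseChange f g f' g' hsq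
  set aT : (A ⧸ p) ⊗[A] B := algebraMap (A ⧸ p) ((A ⧸ p) ⊗[A] B) a with haT
  let j : Spec (CommRingCat.of (Localization.Away aT)) ⟶ Spec (CommRingCat.of ((A ⧸ p) ⊗[A] B)) :=
    Spec.map (CommRingCat.ofHom (algebraMap ((A ⧸ p) ⊗[A] B) (Localization.Away aT)))
  haveI : IsOpenImmersion j := IsOpenImmersion.of_isLocalization aT
  have hjf' : j ≫ f' = Spec.map (CommRingCat.ofHom (algebraMap (A ⧸ p) (Localization.Away aT))) := by
    rw [← Spec.map_comp]
    rfl
  haveI : Flat (j ≫ f') := by
    rw [hjf', HasRingHomProperty.Spec_iff (P := @Flat)]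
    exact (RingHom.flat_algebraMap_iff).mpr hflat
  haveI : Algebra.FinitePresentation (A ⧸ p) ((A ⧸ p) ⊗[A] B) :=
    Algebra.FinitePresentation.of_finiteType.mp inferInstance
  haveI : Algebra.FinitePresentation (A ⧸ p) (Localization.Away aT) :=
    Algebra.FinitePresentation.trans (A ⧸ p) ((A ⧸ p) ⊗[A] B) _
  haveI : LocallyOfFinitePresentation (j ≫ f') := by
    rw [hjf', HasRingHomProperty.Spec_iff (P := @LocallyOfFinitePresentation)]
    exact (RingHom.finitePresentation_algebraMap).mpr inferInstance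
  have hopen : IsOpen (cmLocus (j ≫ f')) := by
    rw [cmLocus_eq_of_flat]
    exact (Groth.Agent.Lead.CMQF.S1341_main (j ≫ f')).1
  have hj : cmLocus (j ≫ f') = j ⁻¹' cmLocus f' := cmLocus_comp_openImmersion j f'
  let φ : (A ⧸ p) ⊗[A] B →ₐ[A] B ⧸ q :=
    Algebra.TensorProduct.lift (Ideal.quotientMapₐ q (Algebra.ofId A B) le_rfl)
      (Ideal.Quotient.mkₐ A q) (fun _ _ => Commute.all _ _)
  let k : Spec (CommRingCat.of (B ⧸ q)) ⟶ Spec (CommRingCat.of ((A ⧸ p) ⊗[A] B)) :=
    Spec.map (CommRingCat.ofHom φ.toRingHom)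
  have hk : k ≫ g' = Groth.Agent.Helper7.ConsPair.primeIncl B x := by
    rw [← Spec.map_comp]
    congr 1
    ext b
    show φ (1 ⊗ₜ b) = Ideal.Quotient.mk q b
    simp [φ]
  have hφa : φ aT ≠ 0 := by
    have h1 : φ aT = Ideal.quotientMapₐ q (Algebra.ofId A B) le_rfl a := by
      simp [φ, haT, Algebra.TensorProduct.algebraMap_apply]
      rfl
    rw [h1]
    intro h0
    apply ha
    have hinj : Function.Injective (Ideal.quotientMap q (algebraMap A B) le_rfl) :=
      Ideal.quotientMap_injective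
    exact hinj (by rw [map_zero]; exact h0)
  let ξ : Spec (CommRingCat.of (B ⧸ q)) := ⟨⊥, Ideal.isPrime_bot⟩
  have hrange : Set.range j = {y | aT ∉ y.asIdeal} := by
    have := PrimeSpectrum.localization_away_comap_range (Localization.Away aT) aT
    ext y
    rw [show Set.range j = Set.range (PrimeSpectrum.comap
      (algebraMap ((A ⧸ p) ⊗[A] B) (Localization.Away aT))) from rfl, this]
    rfl
  have hξW : k ξ ∈ Set.range j := by
    rw [hrange]
    show aT ∉ (k ξ).asIdeal
    intro hmem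
    apply hφa
    have : φ aT ∈ (⊥ : Ideal (B ⧸ q)) := hmem
    simpa using this
  have hopen1 : IsOpen (k ⁻¹' (j '' cmLocus (j ≫ f'))) :=
    (j.isOpenEmbedding.isOpenMap _ hopen).preimage k.continuous
  have hsub1 : k ⁻¹' (j '' cmLocus (j ≫ f')) ⊆
      (Groth.Agent.Helper7.ConsPair.primeIncl B x) ⁻¹' cmLocus f := by
    rintro z ⟨y, hy, hyz⟩
    rw [hj] at hy
    have h2 : k z ∈ cmLocus f' := hyz ▸ hy
    rw [hbc] at h2
    show (Groth.Agent.Helper7.ConsPair.primeIncl B x) z ∈ cmLocus f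
    rw [← hk]
    exact h2
  by_cases hξ : ξ ∈ k ⁻¹' (j '' cmLocus (j ≫ f'))
  · left
    exact ⟨ξ, interior_maximal hsub1 hopen1 hξ⟩
  · right
    have hopen2 : IsOpen (k ⁻¹' Set.range j) := j.isOpenEmbedding.isOpen_range.preimage k.continuous
    refine ⟨ξ, interior_maximal ?_ hopen2 hξW⟩
    rintro z ⟨y, hyz⟩ hzE
    apply hξ
    have hz1 : z ∈ k ⁻¹' (j '' cmLocus (j ≫ f')) := by
      refine ⟨y, ?_, hyz⟩
      rw [hj]
      show j y ∈ cmLocus f'
      rw [hyz, hbc]
      show g' (k z) ∈ cmLocus f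
      rw [← Scheme.Hom.comp_apply, hk]
      exact hzE
    have hsp : ξ ⤳ z :=
      (PrimeSpectrum.le_iff_specializes (R := B ⧸ q) ξ z).mp bot_le
    exact hsp.mem_open hopen1 hz1

end Groth.Agent.Lead.CMCons
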