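import Mathlib
import Groth.Prelude
import Groth.Agent.Lib.Lead.CMCons3

set_option autoImplicit false
set_option backward.isDefEq.respectTransparency.types false
set_option synthInstance.maxHeartbeats 400000
set_option linter.style.haveILetI false
set_option linter.unusedSectionVars false
universe u

open CategoryTheory CategoryTheory.Limits AlgebraicGeometry IsLocalRing TensorProduct Topology

namespace Groth.Agent.Lead.CMCons

open LocCoh Groth.Agent.Lead.CMAt

set_option maxHeartbeats 2000000 in
theorem cmLocus_constructible_affine (A B : Type u) [CommRing A] [CommRing B] [Algebra A B]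
    [Algebra.FinitePresentation A B] :
    IsConstructible (cmLocus (Spec.map (CommRingCat.ofHom (algebraMap A B)))) := by
  classical
  let P := Algebra.Presentation.ofFinitePresentation A B
  let e : A ⊗[P.Core] P.ModelOfHasCoeffs P.Core ≃ₐ[A] B := P.tensorModelOfHasCoeffsEquiv P.Core
  haveI : IsNoetherianRing P.Core := Algebra.FiniteType.isNoetherianRing ℤ P.Core
  have h0 := cmLocus_constructible_noeth P.Core (P.ModelOfHasCoeffs P.Core)
  set f₀ := Spec.map (CommRingCat.ofHom (algebraMap P.Core (P.ModelOfHasCoeffs P.Core))) with hf₀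
  haveI : LocallyOfFiniteType f₀ := by
    rw [hf₀, HasRingHomProperty.Spec_iff (P := @LocallyOfFiniteType)]
    exact (RingHom.finiteType_algebraMap (A := P.Core) (B := P.ModelOfHasCoeffs P.Core)).mpr
      inferInstance
  let g : Spec (CommRingCat.of A) ⟶ Spec (CommRingCat.of P.Core) :=
    Spec.map (CommRingCat.ofHom (algebraMap P.Core A))
  let f' : Spec (CommRingCat.of (A ⊗[P.Core] P.ModelOfHasCoeffs P.Core)) ⟶
      Spec (CommRingCat.of A) :=
    Spec.map (CommRingCat.ofHom (Algebra.TensorProduct.includeLeftRingHom))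
  let g' : Spec (CommRingCat.of (A ⊗[P.Core] P.ModelOfHasCoeffs P.Core)) ⟶
      Spec (CommRingCat.of (P.ModelOfHasCoeffs P.Core)) :=
    Spec.map (CommRingCat.ofHom
      (Algebra.TensorProduct.includeRight :
        P.ModelOfHasCoeffs P.Core →ₐ[P.Core] A ⊗[P.Core] P.ModelOfHasCoeffs P.Core).toRingHom)
  have hsq : IsPullback g' f' f₀ g :=
    (isPullback_SpecMap_of_isPushout _ _ _ _
      (CommRingCat.isPushout_tensorProduct P.Core A (P.ModelOfHasCoeffs P.Core))).flip
  have hbc : cmLocus f' = g' ⁻¹' cmLocus f₀ := cmLocus_baseChange f₀ g f' g' hsq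
  let εr : CommRingCat.of (A ⊗[P.Core] P.ModelOfHasCoeffs P.Core) ⟶ CommRingCat.of B :=
    CommRingCat.ofHom e.toRingHom
  haveI : IsIso εr := (ConcreteCategory.isIso_iff_bijective εr).mpr e.bijective
  let ε : Spec (CommRingCat.of B) ⟶ Spec (CommRingCat.of (A ⊗[P.Core] P.ModelOfHasCoeffs P.Core)) :=
    Spec.map εr
  haveI : IsIso ε := inferInstance
  have hε : Spec.map (CommRingCat.ofHom (algebraMap A B)) = ε ≫ f' := by
    rw [← Spec.map_comp]
    congr 1
    ext a
    show algebraMap A B a = e (a ⊗ₜ 1)
    exact (e.commutes a).symm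
  rw [hε, cmLocus_comp_openImmersion ε f', hbc]
  exact ε.isConstructible_preimage (g'.isConstructible_preimage h0)

end Groth.Agent.Lead.CMCons
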