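import Mathlib
import Groth.Prelude
import Groth.Agent.Lib.Lead.CMCons4

set_option autoImplicit false
set_option backward.isDefEq.respectTransparency.types false
set_option synthInstance.maxHeartbeats 400000
set_option linter.style.haveILetI false
set_option linter.unusedSectionVars false
universe u

open CategoryTheory CategoryTheory.Limits AlgebraicGeometry IsLocalRing TensorProduct Topology

namespace Groth.Agent.Lead.CMCons

open LocCoh Groth.Agent.Lead.CMAt

theorem isPullback_id_of_mono {U V S : Scheme.{u}} (a : U ⟶ V) (i : V ⟶ S) [Mono i] :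
    IsPullback (𝟙 U) a (a ≫ i) i := by
  have h1 : IsPullback (𝟙 U) a a (𝟙 V) := IsPullback.id_horiz a
  have h2 : IsPullback (𝟙 V) (𝟙 V) i i := IsKernelPair.id_of_mono i
  have h3 := h1.paste_vert h2
  rwa [Category.comp_id] at h3

theorem cmLocus_comp_mono {U V S : Scheme.{u}} (a : U ⟶ V) (i : V ⟶ S) [Mono i]
    [LocallyOfFiniteType (a ≫ i)] : cmLocus a = cmLocus (a ≫ i) := by
  have := cmLocus_baseChange (a ≫ i) i a (𝟙 U) (isPullback_id_of_mono a i)
  rw [this]
  rfl

set_option maxHeartbeats 1000000 in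
theorem S3421_main {X S : Scheme.{u}} (f : X ⟶ S) [LocallyOfFinitePresentation f] :
    IsLocallyConstructible (cmLocus f) := by
  intro x
  obtain ⟨_, ⟨V, hV, rfl⟩, hxV, -⟩ := S.isBasis_affineOpens.exists_subset_of_mem_open
    (Set.mem_univ (f x)) isOpen_univ
  obtain ⟨_, ⟨U, hU, rfl⟩, hxU, hUV⟩ := X.isBasis_affineOpens.exists_subset_of_mem_open
    (show x ∈ ((f ⁻¹ᵁ V : X.Opens) : Set X) from hxV) (f ⁻¹ᵁ V).isOpen
  refine ⟨U, U.isOpen.mem_nhds hxU, U.isOpen, ?_⟩
  have e : U ≤ f ⁻¹ᵁ V := hUV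
  have hfp : (f.appLE V U e).hom.FinitePresentation :=
    HasRingHomProperty.appLE (P := @LocallyOfFinitePresentation) f inferInstance ⟨V, hV⟩ ⟨U, hU⟩ e
  letI : Algebra Γ(S, V) Γ(X, U) := (f.appLE V U e).hom.toAlgebra
  haveI : Algebra.FinitePresentation Γ(S, V) Γ(X, U) := hfp
  have h0 := cmLocus_constructible_affine Γ(S, V) Γ(X, U)
  have hσ : Spec.map (CommRingCat.ofHom (algebraMap Γ(S, V) Γ(X, U))) = Spec.map (f.appLE V U e) := rfl
  rw [hσ] at h0
  have hcomm : Spec.map (f.appLE V U e) ≫ hV.fromSpec = hU.fromSpec ≫ f :=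
    IsAffineOpen.SpecMap_appLE_fromSpec f hV hU e
  haveI : LocallyOfFiniteType (Spec.map (f.appLE V U e) ≫ hV.fromSpec) := by
    rw [hcomm]; infer_instance
  rw [cmLocus_comp_mono (Spec.map (f.appLE V U e)) hV.fromSpec, hcomm,
    cmLocus_comp_openImmersion hU.fromSpec f] at h0
  have h1 := hU.isoSpec.hom.isConstructible_preimage h0
  have h2 : hU.isoSpec.hom ⁻¹' (hU.fromSpec ⁻¹' cmLocus f) =
      (Scheme.Opens.ι U) ⁻¹' cmLocus f := by
    ext y
    simp only [Set.mem_preimage]
    have : hU.fromSpec (hU.isoSpec.hom y) = (Scheme.Opens.ι U) y := by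
      rw [← Scheme.Hom.comp_apply, hU.isoSpec_hom_fromSpec]
    rw [this]
  rw [h2] at h1
  exact h1

end Groth.Agent.Lead.CMCons

namespace Groth.Agent.Lead.CMCons

open LocCoh Groth.Agent.Lead.CMAt

theorem S3437_main {X S : Scheme.{u}} (f : X ⟶ S)
    [LocallyOfFinitePresentation f] [QuasiCompact f] :
    IsLocallyConstructible {s : S |
      ∀ z : ↥(f.fiber s), IsCohenMacaulayLocalRing ((f.fiber s).presheaf.stalk z)} := by
  have h1 : IsLocallyConstructible (f '' (cmLocus f)ᶜ) :=
    f.isLocallyConstructible_image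
      (Groth.Agent.Helper7.ProConsLib.isLocallyConstructible_compl (S3421_main f))
  have h2 := Groth.Agent.Helper7.ProConsLib.isLocallyConstructible_compl h1
  convert h2 using 1
  ext s
  simp only [Set.mem_setOf_eq, Set.mem_compl_iff, Set.mem_image, not_exists, not_and]
  constructor
  · intro h x hx hfx
    subst hfx
    exact hx (h (f.asFiber x))
  · intro h z
    have hz : f (f.fiberι s z) = s := Groth.Agent.Helper3.FibStalk.apply_fiberι f s z
    by_contra hcm
    refine h (f.fiberι s z) ?_ hz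
    intro hmem
    exact hcm ((cm_fiber_congr f z (f.asFiber (f.fiberι s z)) (f.fiberι_asFiber _).symm).mpr hmem)

end Groth.Agent.Lead.CMCons
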