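import Mathlib
import Groth.Prelude
import Groth.Agent.Lib.Helper7.ConsPair.Top
import Groth.Agent.Lib.Helper9.GenFree.Main2
import Groth.Agent.Lib.Lead.CMCons5

set_option autoImplicit false
set_option backward.isDefEq.respectTransparency.types false
set_option synthInstance.maxHeartbeats 400000
set_option linter.style.haveILetI false
set_option linter.unusedSectionVars false
universe u

open CategoryTheory CategoryTheory.Limits AlgebraicGeometry IsLocalRing TensorProduct Topology

namespace Groth.Agent.Lead.FibCons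

open Groth.Agent.Lead.CMCons

/-- A "fibrewise locus": a subset `L f` of the source of every morphism, compatible with base
change (for `f` locally of finite type) and with open immersions into the source, and open for
flat morphisms locally of finite presentation. -/
structure FibLocus (L : ∀ {X S : Scheme.{u}} (_ : X ⟶ S), Set X) : Prop where
  baseChange : ∀ {X Y X' Y' : Scheme.{u}} (f : X ⟶ Y) [LocallyOfFinitePresentation f]
    (g : Y' ⟶ Y) (f' : X' ⟶ Y') (g' : X' ⟶ X), IsPullback g' f' f g → L f' = g' ⁻¹' L f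
  openImm : ∀ {P Z S : Scheme.{u}} (k : P ⟶ Z) [IsOpenImmersion k] (g : Z ⟶ S),
    L (k ≫ g) = k ⁻¹' L g
  isOpen : ∀ {X S : Scheme.{u}} (h : X ⟶ S) [Flat h] [LocallyOfFinitePresentation h],
    IsOpen (L h)

variable {L : ∀ {X S : Scheme.{u}} (_ : X ⟶ S), Set X}

theorem FibLocus.comp_mono (hL : FibLocus L) {U V S : Scheme.{u}} (a : U ⟶ V) (i : V ⟶ S)
    [Mono i] [LocallyOfFinitePresentation (a ≫ i)] : L a = L (a ≫ i) := by
  have := hL.baseChange (a ≫ i) i a (𝟙 U) (isPullback_id_of_mono a i)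
  rw [this]
  rfl

set_option maxHeartbeats 2000000 in
theorem FibLocus.constructible_noeth (hL : FibLocus L) (A B : Type u) [CommRing A] [CommRing B]
    [Algebra A B] [IsNoetherianRing A] [Algebra.FiniteType A B] :
    IsConstructible (L (Spec.map (CommRingCat.ofHom (algebraMap A B)))) := by
  haveI : IsNoetherianRing B := Algebra.FiniteType.isNoetherianRing A B
  set f := Spec.map (CommRingCat.ofHom (algebraMap A B)) with hf
  haveI : Algebra.FinitePresentation A B := Algebra.FinitePresentation.of_finiteType.mp inferInstance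
  haveI : LocallyOfFinitePresentation f := by
    rw [hf, HasRingHomProperty.Spec_iff (P := @LocallyOfFinitePresentation)]
    exact (RingHom.finitePresentation_algebraMap).mpr inferInstance
  apply Groth.Agent.Helper7.ConsPair.isConstructible_of_forall_prime B
  intro x
  let q : Ideal B := x.asIdeal
  haveI : q.IsPrime := x.isPrime
  let p : Ideal A := q.comap (algebraMap A B)
  haveI : p.IsPrime := Ideal.IsPrime.comap _
  obtain ⟨a, ha, hflat⟩ := exists_flat_away (A ⧸ p) ((A ⧸ p) ⊗[A] B)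
  let g : Spec (CommRingCat.of (A ⧸ p)) ⟶ Spec (CommRingCat.of A) :=
    Spec.map (CommRingCat.ofHom (algebraMap A (A ⧸ p)))
  let f' : Spec (CommRingCat.of ((A ⧸ p) ⊗[A] B)) ⟶ Spec (CommRingCat.of (A ⧸ p)) :=
    Spec.map (CommRingCat.ofHom (Algebra.TensorProduct.includeLeftRingHom))
  let g' : Spec (CommRingCat.of ((A ⧸ p) ⊗[A] B)) ⟶ Spec (CommRingCat.of B) :=
    Spec.map (CommRingCat.ofHom
      (Algebra.TensorProduct.includeRight : B →ₐ[A] (A ⧸ p) ⊗[A] B).toRingHom)
  have hsq : IsPullback g' f' f g :=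
    (isPullback_SpecMap_of_isPushout _ _ _ _ (CommRingCat.isPushout_tensorProduct A (A ⧸ p) B)).flip
  have hbc : L f' = g' ⁻¹' L f := hL.baseChange f g f' g' hsq
  set aT : (A ⧸ p) ⊗[A] B := algebraMap (A ⧸ p) ((A ⧸ p) ⊗[A] B) a with haT
  let j : Spec (CommRingCat.of (Localization.Away aT)) ⟶ Spec (CommRingCat.of ((A ⧸ p) ⊗[A] B)) :=
    Spec.map (CommRingCat.ofHom (algebraMap ((A ⧸ p) ⊗[A] B) (Localization.Away aT)))
  haveI : IsOpenImmersion j := IsOpenImmersion.of_isLocalization aT
  have hjf' : j ≫ f' = Spec.map (CommRingCat.ofHom (algebraMap (A ⧸ p) (Localization.Away aT))) := by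
    rw [← Spec.map_comp]
    rfl
  haveI : Flat (j ≫ f') := by
    rw [hjf', HasRingHomProperty.Spec_iff (P := @Flat)]
    exact (RingHom.flat_algebraMap_iff).mpr hflat
  haveI : Algebra.FinitePresentation (A ⧸ p) ((A ⧸ p) ⊗[A] B) :=
    Algebra.FinitePresentation.of_finiteType.mp inferInstance
  haveI : Algebra.FinitePresentation (A ⧸ p) (Localization.Away aT) :=
    Algebra.FinitePresentation.trans (A ⧸ p) ((A ⧸ p) ⊗[A] B) _
  haveI : LocallyOfFinitePresentation (j ≫ f') := by
    rw [hjf', HasRingHomProperty.Spec_iff (P := @LocallyOfFinitePresentation)]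
    exact (RingHom.finitePresentation_algebraMap).mpr inferInstance
  have hopen : IsOpen (L (j ≫ f')) := hL.isOpen (j ≫ f')
  have hj : L (j ≫ f') = j ⁻¹' L f' := hL.openImm j f'
  let φ : (A ⧸ p) ⊗[A] B →ₐ[A] B ⧸ q :=
    Algebra.TensorProduct.lift (Ideal.quotientMapₐ q (Algebra.ofId A B) le_rfl)
      (Ideal.Quotient.mkₐ A q) (fun _ _ => Commute.all _ _)
  let k : Spec (CommRingCat.of (B ⧸ q)) ⟶ Spec (CommRingCat.of ((A ⧸ p) ⊗[A] B)) :=
    Spec.map (CommRingCat.ofHom φ.toRingHom)
  have hk : k ≫ g' = Groth.Agent.Helper7.ConsPair.primeIncl B x := by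
    rw [← Spec.map_comp]
    congr 1
    ext b
    show φ (1 ⊗ₜ b) = Ideal.Quotient.mk q b
    simp [φ]
  have hφa : φ aT ≠ 0 := by
    have h1 : φ aT = Ideal.quotientMapₐ q (Algebra.ofId A B) le_rfl a := by
      simp [φ, haT, Algebra.TensorProduct.algebraMap_apply]
      rfl
    rw [h1]
    intro h0
    apply ha
    have hinj : Function.Injective (Ideal.quotientMap q (algebraMap A B) le_rfl) :=
      Ideal.quotientMap_injective
    exact hinj (by rw [map_zero]; exact h0)
  let ξ : Spec (CommRingCat.of (B ⧸ q)) := ⟨⊥, Ideal.isPrime_bot⟩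
  have hrange : Set.range j = {y | aT ∉ y.asIdeal} := by
    have := PrimeSpectrum.localization_away_comap_range (Localization.Away aT) aT
    ext y
    rw [show Set.range j = Set.range (PrimeSpectrum.comap
      (algebraMap ((A ⧸ p) ⊗[A] B) (Localization.Away aT))) from rfl, this]
    rfl
  have hξW : k ξ ∈ Set.range j := by
    rw [hrange]
    show aT ∉ (k ξ).asIdeal
    intro hmem
    apply hφa
    have : φ aT ∈ (⊥ : Ideal (B ⧸ q)) := hmem
    simpa using this
  have hopen1 : IsOpen (k ⁻¹' (j '' L (j ≫ f'))) :=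
    (j.isOpenEmbedding.isOpenMap _ hopen).preimage k.continuous
  have hsub1 : k ⁻¹' (j '' L (j ≫ f')) ⊆
      (Groth.Agent.Helper7.ConsPair.primeIncl B x) ⁻¹' L f := by
    rintro z ⟨y, hy, hyz⟩
    rw [hj] at hy
    have h2 : k z ∈ L f' := hyz ▸ hy
    rw [hbc] at h2
    show (Groth.Agent.Helper7.ConsPair.primeIncl B x) z ∈ L f
    rw [← hk]
    exact h2
  by_cases hξ : ξ ∈ k ⁻¹' (j '' L (j ≫ f'))
  · left
    exact ⟨ξ, interior_maximal hsub1 hopen1 hξ⟩
  · right
    have hopen2 : IsOpen (k ⁻¹' Set.range j) := j.isOpenEmbedding.isOpen_range.preimage k.continuous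
    refine ⟨ξ, interior_maximal ?_ hopen2 hξW⟩
    rintro z ⟨y, hyz⟩ hzE
    apply hξ
    have hz1 : z ∈ k ⁻¹' (j '' L (j ≫ f')) := by
      refine ⟨y, ?_, hyz⟩
      rw [hj]
      show j y ∈ L f'
      rw [hyz, hbc]
      show g' (k z) ∈ L f
      rw [← Scheme.Hom.comp_apply, hk]
      exact hzE
    have hsp : ξ ⤳ z :=
      (PrimeSpectrum.le_iff_specializes (R := B ⧸ q) ξ z).mp bot_le
    exact hsp.mem_open hopen1 hz1

set_option maxHeartbeats 2000000 in
theorem FibLocus.constructible_affine (hL : FibLocus L) (A B : Type u) [CommRing A] [CommRing B]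
    [Algebra A B] [Algebra.FinitePresentation A B] :
    IsConstructible (L (Spec.map (CommRingCat.ofHom (algebraMap A B)))) := by
  classical
  let P := Algebra.Presentation.ofFinitePresentation A B
  let e : A ⊗[P.Core] P.ModelOfHasCoeffs P.Core ≃ₐ[A] B := P.tensorModelOfHasCoeffsEquiv P.Core
  haveI : IsNoetherianRing P.Core := Algebra.FiniteType.isNoetherianRing ℤ P.Core
  have h0 := hL.constructible_noeth P.Core (P.ModelOfHasCoeffs P.Core)
  set f₀ := Spec.map (CommRingCat.ofHom (algebraMap P.Core (P.ModelOfHasCoeffs P.Core))) with hf₀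
  haveI : LocallyOfFinitePresentation f₀ := by
    rw [hf₀, HasRingHomProperty.Spec_iff (P := @LocallyOfFinitePresentation)]
    exact (RingHom.finitePresentation_algebraMap).mpr inferInstance
  let g : Spec (CommRingCat.of A) ⟶ Spec (CommRingCat.of P.Core) :=
    Spec.map (CommRingCat.ofHom (algebraMap P.Core A))
  let f' : Spec (CommRingCat.of (A ⊗[P.Core] P.ModelOfHasCoeffs P.Core)) ⟶
      Spec (CommRingCat.of A) :=
    Spec.map (CommRingCat.ofHom (Algebra.TensorProduct.includeLeftRingHom))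
  let g' : Spec (CommRingCat.of (A ⊗[P.Core] P.ModelOfHasCoeffs P.Core)) ⟶
      Spec (CommRingCat.of (P.ModelOfHasCoeffs P.Core)) :=
    Spec.map (CommRingCat.ofHom
      (Algebra.TensorProduct.includeRight :
        P.ModelOfHasCoeffs P.Core →ₐ[P.Core] A ⊗[P.Core] P.ModelOfHasCoeffs P.Core).toRingHom)
  have hsq : IsPullback g' f' f₀ g :=
    (isPullback_SpecMap_of_isPushout _ _ _ _
      (CommRingCat.isPushout_tensorProduct P.Core A (P.ModelOfHasCoeffs P.Core))).flip
  have hbc : L f' = g' ⁻¹' L f₀ := hL.baseChange f₀ g f' g' hsq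
  let εr : CommRingCat.of (A ⊗[P.Core] P.ModelOfHasCoeffs P.Core) ⟶ CommRingCat.of B :=
    CommRingCat.ofHom e.toRingHom
  haveI : IsIso εr := (ConcreteCategory.isIso_iff_bijective εr).mpr e.bijective
  let ε : Spec (CommRingCat.of B) ⟶ Spec (CommRingCat.of (A ⊗[P.Core] P.ModelOfHasCoeffs P.Core)) :=
    Spec.map εr
  haveI : IsIso ε := inferInstance
  have hε : Spec.map (CommRingCat.ofHom (algebraMap A B)) = ε ≫ f' := by
    rw [← Spec.map_comp]
    congr 1
    ext a
    show algebraMap A B a = e (a ⊗ₜ 1)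
    exact (e.commutes a).symm
  rw [hε, hL.openImm ε f', hbc]
  exact ε.isConstructible_preimage (g'.isConstructible_preimage h0)

set_option maxHeartbeats 1000000 in
theorem FibLocus.isLocallyConstructible (hL : FibLocus L) {X S : Scheme.{u}} (f : X ⟶ S)
    [LocallyOfFinitePresentation f] : IsLocallyConstructible (L f) := by
  intro x
  obtain ⟨_, ⟨V, hV, rfl⟩, hxV, -⟩ := S.isBasis_affineOpens.exists_subset_of_mem_open
    (Set.mem_univ (f x)) isOpen_univ
  obtain ⟨_, ⟨U, hU, rfl⟩, hxU, hUV⟩ := X.isBasis_affineOpens.exists_subset_of_mem_open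
    (show x ∈ ((f ⁻¹ᵁ V : X.Opens) : Set X) from hxV) (f ⁻¹ᵁ V).isOpen
  refine ⟨U, U.isOpen.mem_nhds hxU, U.isOpen, ?_⟩
  have e : U ≤ f ⁻¹ᵁ V := hUV
  have hfp : (f.appLE V U e).hom.FinitePresentation :=
    HasRingHomProperty.appLE (P := @LocallyOfFinitePresentation) f inferInstance ⟨V, hV⟩ ⟨U, hU⟩ e
  letI : Algebra Γ(S, V) Γ(X, U) := (f.appLE V U e).hom.toAlgebra
  haveI : Algebra.FinitePresentation Γ(S, V) Γ(X, U) := hfp
  have h0 := hL.constructible_affine Γ(S, V) Γ(X, U)
  have hσ : Spec.map (CommRingCat.ofHom (algebraMap Γ(S, V) Γ(X, U))) = Spec.map (f.appLE V U e) := rfl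
  rw [hσ] at h0
  have hcomm : Spec.map (f.appLE V U e) ≫ hV.fromSpec = hU.fromSpec ≫ f :=
    IsAffineOpen.SpecMap_appLE_fromSpec f hV hU e
  haveI : LocallyOfFinitePresentation (Spec.map (f.appLE V U e) ≫ hV.fromSpec) := by
    rw [hcomm]; infer_instance
  rw [hL.comp_mono (Spec.map (f.appLE V U e)) hV.fromSpec, hcomm,
    hL.openImm hU.fromSpec f] at h0
  have h1 := hU.isoSpec.hom.isConstructible_preimage h0
  have h2 : hU.isoSpec.hom ⁻¹' (hU.fromSpec ⁻¹' L f) =
      (Scheme.Opens.ι U) ⁻¹' L f := by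
    ext y
    simp only [Set.mem_preimage]
    have : hU.fromSpec (hU.isoSpec.hom y) = (Scheme.Opens.ι U) y := by
      rw [← Scheme.Hom.comp_apply, hU.isoSpec_hom_fromSpec]
    rw [this]
  rw [h2] at h1
  exact h1

end Groth.Agent.Lead.FibCons
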