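import Mathlib
import Groth.Prelude
import Groth.Agent.Lib.Lead.CoprofOpen4
import Groth.Agent.Lib.Lead.FibCons1

set_option autoImplicit false
set_option backward.isDefEq.respectTransparency.types false
set_option synthInstance.maxHeartbeats 400000
set_option linter.style.haveILetI false
set_option linter.unusedSectionVars false
universe u v

open TensorProduct IsLocalRing
open AlgebraicGeometry CategoryTheory CategoryTheory.Limits TopologicalSpace Topology

namespace Groth.Agent.Lead.Coprof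

open LocCoh Groth.Agent.Lead.CMQF Groth.Agent.Lead.CMAt Groth.Agent.Helper8.GorFlat
  Groth.Agent.Helper3.FibStalk Groth.Agent.Lead.FibCons

theorem coprof_fiber_congr {X Y : Scheme.{u}} (f : X ⟶ Y) (n : ℕ) {y₁ y₂ : Y} (w₁ : f.fiber y₁)
    (w₂ : f.fiber y₂) (h : f.fiberι y₁ w₁ = f.fiberι y₂ w₂) :
    CoprofLE ((f.fiber y₁).presheaf.stalk w₁) n ↔ CoprofLE ((f.fiber y₂).presheaf.stalk w₂) n := by
  have hy : y₁ = y₂ := by
    rw [← apply_fiberι f y₁ w₁, ← apply_fiberι f y₂ w₂, h]
  subst hy
  obtain rfl : w₁ = w₂ := (f.fiberι y₁).isEmbedding.injective h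
  exact Iff.rfl

section BaseField

variable {W W' : Scheme.{u}} (k k' : Type u) [Field k] [Field k'] (ι : k →+* k')
  (h : W ⟶ Spec (CommRingCat.of k)) (h' : W' ⟶ Spec (CommRingCat.of k')) (h₀ : W' ⟶ W)
  (sq : IsPullback h₀ h' h (Spec.map (CommRingCat.ofHom ι)))

include sq in
theorem coprofLE_field_baseChange_iff (hE : ι.EssFiniteType ∨ LocallyOfFiniteType h) (w' : W')
    [IsNoetherianRing (W.presheaf.stalk (h₀ w'))] [IsNoetherianRing (W'.presheaf.stalk w')]
    (n : ℕ) :
    CoprofLE (W'.presheaf.stalk w') n ↔ CoprofLE (W.presheaf.stalk (h₀ w')) n := by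
  haveI : Flat h₀ := flat_of_field_baseChange k k' ι h h' h₀ sq
  obtain ⟨γ, hγ, hk⟩ := exists_fibre_presentation h₀ w'
  have D : FLData (h₀.stalkMap w').hom γ := ⟨Flat.stalkMap h₀ w', inferInstance, hγ, hk⟩
  exact coprofLE_iff_of_flData_cm_fibre D
    (cm_fiber_of_field_baseChange k k' ι h h' h₀ sq hE _ _) n

end BaseField

set_option maxHeartbeats 1000000 in
theorem coprofLocus_baseChange (n : ℕ) {X Y X' Y' : Scheme.{u}} (f : X ⟶ Y)
    [LocallyOfFiniteType f]
    (g : Y' ⟶ Y) (f' : X' ⟶ Y') (g' : X' ⟶ X) (hsq : IsPullback g' f' f g) :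
    coprofLocus n f' = g' ⁻¹' coprofLocus n f := by
  ext x'
  haveI : LocallyOfFiniteType f' :=
    MorphismProperty.of_isPullback (P := @LocallyOfFiniteType) hsq inferInstance
  have key : ∀ (h₀ : f'.fiber (f' x') ⟶ f.fiber (g (f' x'))),
      h₀ ≫ f.fiberι _ = f'.fiberι _ ≫ g' →
      IsPullback h₀ (f'.fiberToSpecResidueField (f' x'))
        (f.fiberToSpecResidueField (g (f' x'))) (Spec.map (g.residueFieldMap (f' x'))) →
      (x' ∈ coprofLocus n f' ↔ g' x' ∈ coprofLocus n f) := by
    intro h₀ hh₀ sq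
    haveI : LocallyOfFiniteType (f.fiberToSpecResidueField (g (f' x'))) :=
      MorphismProperty.pullback_snd _ _ inferInstance
    haveI : LocallyOfFiniteType (f'.fiberToSpecResidueField (f' x')) :=
      MorphismProperty.pullback_snd _ _ inferInstance
    haveI : IsLocallyNoetherian (f.fiber (g (f' x'))) :=
      LocallyOfFiniteType.isLocallyNoetherian (f.fiberToSpecResidueField (g (f' x')))
    haveI : IsLocallyNoetherian (f'.fiber (f' x')) :=
      LocallyOfFiniteType.isLocallyNoetherian (f'.fiberToSpecResidueField (f' x'))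
    have h2 : f.fiberι (g (f' x')) (h₀ (f'.asFiber x')) =
        f.fiberι (f (g' x')) (f.asFiber (g' x')) := by
      rw [← Scheme.Hom.comp_apply, hh₀, Scheme.Hom.comp_apply, f'.fiberι_asFiber,
        f.fiberι_asFiber]
    have h3 := coprof_fiber_congr f n _ _ h2
    have h1 : CoprofLE ((f'.fiber (f' x')).presheaf.stalk (f'.asFiber x')) n ↔
        CoprofLE ((f.fiber (g (f' x'))).presheaf.stalk (h₀ (f'.asFiber x'))) n :=
      coprofLE_field_baseChange_iff (Y.residueField (g (f' x')))
          (Y'.residueField (f' x')) (g.residueFieldMap (f' x')).hom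
          (f.fiberToSpecResidueField (g (f' x'))) (f'.fiberToSpecResidueField (f' x')) h₀ sq
          (Or.inr inferInstance) (f'.asFiber x') n
    rw [mem_coprofLocus, mem_coprofLocus, h1, h3]
  refine key _ ?_ (isPullback_fiberToSpecResidueField_of_isPullback hsq (f' x'))
  exact pullback.lift_fst _ _ _

theorem coprofLocus_comp_openImmersion (n : ℕ) {P Z S : Scheme.{u}} (k : P ⟶ Z)
    [IsOpenImmersion k] (g : Z ⟶ S) : coprofLocus n (k ≫ g) = k ⁻¹' coprofLocus n g := by
  ext y
  obtain ⟨e⟩ := fiberStalk_equiv_of_openImmersion k g y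
  exact ⟨fun h => coprofLE_of_ringEquiv e n h, fun h => coprofLE_of_ringEquiv e.symm n h⟩

theorem fibLocus_coprofLocus (n : ℕ) :
    FibLocus (fun {X S : Scheme.{u}} (f : X ⟶ S) => coprofLocus n f) where
  baseChange f _ g f' g' hsq := coprofLocus_baseChange n f g f' g' hsq
  openImm k _ g := coprofLocus_comp_openImmersion n k g
  isOpen h _ _ := isOpen_coprofLocus_of_flat h n

theorem isLocallyConstructible_coprofLocus (n : ℕ) {X S : Scheme.{u}} (f : X ⟶ S)
    [LocallyOfFinitePresentation f] : IsLocallyConstructible (coprofLocus n f) :=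
  (fibLocus_coprofLocus n).isLocallyConstructible f

/-- S5922 -/
theorem S5922_main {X Y : Scheme.{u}} (f : X ⟶ Y) [LocallyOfFinitePresentation f] (n : ℕ) :
    IsOpen {x : X | (f.stalkMap x).hom.Flat ∧ x ∈ coprofLocus n f} := by
  have hopen := Groth.Agent.Lead.FlatLoc.isOpen_flatLocus_of_locallyOfFinitePresentation f
  let V : X.Opens := ⟨{x | (f.stalkMap x).hom.Flat}, hopen⟩
  haveI : Flat (V.ι ≫ f) := by
    apply Flat.of_stalkMap
    intro v
    exact (Groth.Agent.Lib.Helper6.EtLoc.flat_stalkMap_comp_iff V.ι f v).mp v.2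
  have h1 := isOpen_coprofLocus_of_flat (V.ι ≫ f) n
  rw [coprofLocus_comp_openImmersion] at h1
  have h2 := V.ι.isOpenEmbedding.isOpenMap _ h1
  convert h2 using 1
  ext x
  constructor
  · rintro ⟨hx1, hx2⟩
    exact ⟨⟨x, hx1⟩, hx2, rfl⟩
  · rintro ⟨v, hv, rfl⟩
    exact ⟨v.2, hv⟩

/-- S3453 -/
theorem S3453_main {X S : Scheme.{u}} (f : X ⟶ S) [LocallyOfFinitePresentation f] (n : ℕ) :
    IsLocallyConstructible {x : X |
      ringKrullDim ((f.fiber (f.base x)).presheaf.stalk (f.asFiber x)) =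
        ((LocCoh.depth ((f.fiber (f.base x)).presheaf.stalk (f.asFiber x))
          ((f.fiber (f.base x)).presheaf.stalk (f.asFiber x)) : ℕ∞) : WithBot ℕ∞) + n} := by
  have key : ∀ x : X, ∃ d r : ℕ, r ≤ d ∧ ∀ m : ℕ,
      ((x ∈ coprofLocus m f ↔ d ≤ r + m) ∧
      (ringKrullDim ((f.fiber (f.base x)).presheaf.stalk (f.asFiber x)) =
        ((LocCoh.depth ((f.fiber (f.base x)).presheaf.stalk (f.asFiber x))
          ((f.fiber (f.base x)).presheaf.stalk (f.asFiber x)) : ℕ∞) : WithBot ℕ∞) + m ↔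
        d = r + m)) := by
    intro x
    haveI : IsLocallyNoetherian (f.fiber (f x)) := isLocallyNoetherian_fiber f (f x)
    haveI : IsNoetherianRing ((f.fiber (f x)).presheaf.stalk (f.asFiber x)) := inferInstance
    obtain ⟨d, r, hd, hr, hrd⟩ := exists_nat_depth ((f.fiber (f x)).presheaf.stalk (f.asFiber x))
    refine ⟨d, r, hrd, fun m => ⟨coprofLE_iff_nat _ d r hd hr m, ?_⟩⟩
    have hd' : ringKrullDim ((f.fiber (f.base x)).presheaf.stalk (f.asFiber x)) =
        (d : WithBot ℕ∞) := hd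
    have hr' : LocCoh.depth ((f.fiber (f.base x)).presheaf.stalk (f.asFiber x))
          ((f.fiber (f.base x)).presheaf.stalk (f.asFiber x)) = (r : ℕ∞) := hr
    rw [hd', hr']
    constructor
    · intro h
      exact_mod_cast h
    · intro h
      exact_mod_cast h
  rcases Nat.eq_zero_or_pos n with hn | hn
  · subst hn
    have h0 := isLocallyConstructible_coprofLocus 0 f
    convert h0 using 1
    ext x
    obtain ⟨d, r, hrd, hm⟩ := key x
    rw [Set.mem_setOf_eq, (hm 0).2, (hm 0).1]
    omega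
  · have h1 := isLocallyConstructible_coprofLocus n f
    have h2 := isLocallyConstructible_coprofLocus (n - 1) f
    have h3 := h1.inter (Groth.Agent.Helper7.ProConsLib.isLocallyConstructible_compl h2)
    convert h3 using 1
    ext x
    obtain ⟨d, r, hrd, hm⟩ := key x
    rw [Set.mem_setOf_eq, (hm n).2, Set.mem_inter_iff, Set.mem_compl_iff, (hm n).1, (hm (n - 1)).1]
    omega

end Groth.Agent.Lead.Coprof
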