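import Mathlib
import Groth.Prelude
import Groth.Agent.Lib.Lead.FibCons1
import Groth.Agent.Lib.Helper6.EtLoc.SmoothBC
import Groth.Agent.Lib.Helper6.EtLoc.SmoothDescSch

set_option autoImplicit false
set_option backward.isDefEq.respectTransparency.types false
set_option synthInstance.maxHeartbeats 400000
set_option linter.style.haveILetI false
set_option linter.unusedSectionVars false
universe u

open CategoryTheory CategoryTheory.Limits AlgebraicGeometry IsLocalRing TensorProduct Topology

namespace Groth.Agent.Lead.FibCons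

open Groth.Agent.Lib.Helper6.EtLoc

/-- the locus where the fibre is smooth over the residue field -/
def smLocus {X S : Scheme.{u}} (f : X ⟶ S) : Set X :=
  {x | ((f.fiberToSpecResidueField (f x)).stalkMap (f.asFiber x)).hom.FormallySmooth}

theorem lfp_fiber {X S : Scheme.{u}} (f : X ⟶ S) [LocallyOfFinitePresentation f] (s : S) :
    LocallyOfFinitePresentation (f.fiberToSpecResidueField s) :=
  MorphismProperty.pullback_snd _ _ inferInstance

theorem sm_fiber_congr {X Y : Scheme.{u}} (f : X ⟶ Y) {y₁ y₂ : Y} (w₁ : f.fiber y₁)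
    (w₂ : f.fiber y₂) (h : f.fiberι y₁ w₁ = f.fiberι y₂ w₂) :
    ((f.fiberToSpecResidueField y₁).stalkMap w₁).hom.FormallySmooth ↔
      ((f.fiberToSpecResidueField y₂).stalkMap w₂).hom.FormallySmooth := by
  have hy : y₁ = y₂ := by
    rw [← Groth.Agent.Helper3.FibStalk.apply_fiberι f y₁ w₁,
      ← Groth.Agent.Helper3.FibStalk.apply_fiberι f y₂ w₂, h]
  subst hy
  obtain rfl : w₁ = w₂ := (f.fiberι y₁).isEmbedding.injective h
  exact Iff.rfl

set_option maxHeartbeats 1000000 in
theorem smLocus_baseChange {X Y X' Y' : Scheme.{u}} (f : X ⟶ Y) [LocallyOfFinitePresentation f]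
    (g : Y' ⟶ Y) (f' : X' ⟶ Y') (g' : X' ⟶ X) (hsq : IsPullback g' f' f g) :
    smLocus f' = g' ⁻¹' smLocus f := by
  ext x'
  haveI : LocallyOfFinitePresentation f' :=
    MorphismProperty.of_isPullback (P := @LocallyOfFinitePresentation) hsq inferInstance
  haveI := lfp_fiber f (g (f' x'))
  haveI := lfp_fiber f' (f' x')
  obtain ⟨T, sq, hT⟩ := exists_fiber_square hsq (f' x')
  haveI hfl : Flat (Spec.map (g.residueFieldMap (f' x'))) :=
    Flat.SpecMap_iff.mpr (RingHom.Flat.of_isField (Field.toIsField _) _)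
  have h2 : f.fiberι (g (f' x')) (T (f'.asFiber x')) =
      f.fiberι (f (g' x')) (f.asFiber (g' x')) := by
    rw [← Scheme.Hom.comp_apply, hT, Scheme.Hom.comp_apply, f'.fiberι_asFiber,
      f.fiberι_asFiber]
  have h3 := sm_fiber_congr f _ _ h2
  show ((f'.fiberToSpecResidueField (f' x')).stalkMap (f'.asFiber x')).hom.FormallySmooth ↔
    ((f.fiberToSpecResidueField (f (g' x'))).stalkMap (f.asFiber (g' x'))).hom.FormallySmooth
  rw [← h3]
  constructor
  · intro h
    exact mem_smoothLocus_of_flat (f.fiberToSpecResidueField (g (f' x')))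
      (Spec.map (g.residueFieldMap (f' x'))) (f'.fiberToSpecResidueField (f' x')) T sq _ h
  · intro h
    exact mem_smoothLocus_of_isPullback (f.fiberToSpecResidueField (g (f' x')))
      (Spec.map (g.residueFieldMap (f' x'))) (f'.fiberToSpecResidueField (f' x')) T sq _ h

end Groth.Agent.Lead.FibCons
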