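import Mathlib
import Groth.Prelude
import Groth.Agent.Lib.Lead.FibCons2

set_option autoImplicit false
set_option backward.isDefEq.respectTransparency.types false
set_option synthInstance.maxHeartbeats 400000
set_option linter.style.haveILetI false
set_option linter.unusedSectionVars false
universe u

open CategoryTheory CategoryTheory.Limits AlgebraicGeometry IsLocalRing TensorProduct Topology

namespace Groth.Agent.Lead.FibCons

open Groth.Agent.Lib.Helper6.EtLoc

/-- the fibre of `k ≫ g` is an open subscheme of the fibre of `g` -/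
theorem exists_fiber_openImmersion {P Z S : Scheme.{u}} (k : P ⟶ Z) [IsOpenImmersion k]
    (g : Z ⟶ S) (s : S) :
    ∃ κ : (k ≫ g).fiber s ⟶ g.fiber s, IsOpenImmersion κ ∧
      κ ≫ g.fiberι s = (k ≫ g).fiberι s ≫ k ∧
      κ ≫ g.fiberToSpecResidueField s = (k ≫ g).fiberToSpecResidueField s := by
  let κ : (k ≫ g).fiber s ⟶ g.fiber s :=
    pullback.lift ((k ≫ g).fiberι s ≫ k) ((k ≫ g).fiberToSpecResidueField s)
      (by rw [Category.assoc]; exact pullback.condition)
  have h1 : κ ≫ g.fiberι s = (k ≫ g).fiberι s ≫ k := pullback.lift_fst _ _ _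
  have h2 : κ ≫ g.fiberToSpecResidueField s = (k ≫ g).fiberToSpecResidueField s :=
    pullback.lift_snd _ _ _
  refine ⟨κ, ?_, h1, h2⟩
  have hbig : IsPullback (κ ≫ g.fiberToSpecResidueField s) ((k ≫ g).fiberι s)
      (S.fromSpecResidueField s) (k ≫ g) := by
    rw [h2]
    exact (IsPullback.of_hasPullback (k ≫ g) (S.fromSpecResidueField s)).flip
  have hright : IsPullback (g.fiberToSpecResidueField s) (g.fiberι s)
      (S.fromSpecResidueField s) g :=
    (IsPullback.of_hasPullback g (S.fromSpecResidueField s)).flip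
  have hleft : IsPullback κ ((k ≫ g).fiberι s) (g.fiberι s) k :=
    IsPullback.of_right hbig h1 hright
  exact MorphismProperty.of_isPullback (P := @IsOpenImmersion) hleft.flip inferInstance

theorem formallySmooth_stalkMap_comp_iff {P Z S : Scheme.{u}} (κ : P ⟶ Z) [IsOpenImmersion κ]
    (φ : Z ⟶ S) (w : P) :
    ((κ ≫ φ).stalkMap w).hom.FormallySmooth ↔ (φ.stalkMap (κ w)).hom.FormallySmooth := by
  refine Iff.trans ?_ (RingHom.FormallySmooth.respectsIso.cancel_right_isIso _ (κ.stalkMap w))
  rw [← CommRingCat.hom_comp, ← Scheme.Hom.stalkMap_comp]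
  rfl

theorem smLocus_comp_openImmersion {P Z S : Scheme.{u}} (k : P ⟶ Z) [IsOpenImmersion k]
    (g : Z ⟶ S) : smLocus (k ≫ g) = k ⁻¹' smLocus g := by
  ext y
  obtain ⟨κ, hκ, h1, h2⟩ := exists_fiber_openImmersion k g ((k ≫ g) y)
  show (((k ≫ g).fiberToSpecResidueField ((k ≫ g) y)).stalkMap ((k ≫ g).asFiber y)).hom.FormallySmooth ↔
    ((g.fiberToSpecResidueField (g (k y))).stalkMap (g.asFiber (k y))).hom.FormallySmooth
  have h3 : g.fiberι ((k ≫ g) y) (κ ((k ≫ g).asFiber y)) =
      g.fiberι (g (k y)) (g.asFiber (k y)) := by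
    rw [← Scheme.Hom.comp_apply, h1, Scheme.Hom.comp_apply, (k ≫ g).fiberι_asFiber,
      g.fiberι_asFiber]
  rw [← sm_fiber_congr g _ _ h3, ← formallySmooth_stalkMap_comp_iff κ]
  have : ∀ (a b : (k ≫ g).fiber ((k ≫ g) y) ⟶ Spec (S.residueField ((k ≫ g) y))), a = b →
      ((a.stalkMap ((k ≫ g).asFiber y)).hom.FormallySmooth ↔
        (b.stalkMap ((k ≫ g).asFiber y)).hom.FormallySmooth) := by
    intro a b hab; subst hab; rfl
  exact this _ _ h2.symm

theorem smLocus_eq_of_flat {X S : Scheme.{u}} (h : X ⟶ S) [Flat h]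
    [LocallyOfFinitePresentation h] : smLocus h = (h.smoothLocus : Set X) := by
  ext x
  haveI := lfp_fiber h (h x)
  have := Groth.Agent.S2156.result h x
  constructor
  · intro hx
    exact this.mpr ⟨Flat.stalkMap h x, hx⟩
  · intro hx
    exact (this.mp hx).2

theorem fibLocus_smLocus : FibLocus (fun {X S : Scheme.{u}} (f : X ⟶ S) => smLocus f) where
  baseChange f _ g f' g' hsq := smLocus_baseChange f g f' g' hsq
  openImm k _ g := smLocus_comp_openImmersion k g
  isOpen h _ _ := by
    rw [smLocus_eq_of_flat]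
    exact h.smoothLocus.isOpen

theorem S3423_main {X S : Scheme.{u}} (f : X ⟶ S) [LocallyOfFinitePresentation f] :
    IsLocallyConstructible (smLocus f) :=
  fibLocus_smLocus.isLocallyConstructible f

end Groth.Agent.Lead.FibCons
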