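import Mathlib
import Groth.Prelude
import Groth.Agent.Lib.Helper8.SkBase1
import Groth.Agent.Lib.Helper8.Sk1
import Groth.Agent.Lib.Lead.CoprofOpen5

set_option autoImplicit false
set_option backward.isDefEq.respectTransparency.types false
set_option synthInstance.maxHeartbeats 400000
set_option linter.style.haveILetI false
set_option linter.unusedSectionVars false
universe u

open CategoryTheory CategoryTheory.Limits AlgebraicGeometry IsLocalRing TopologicalSpace Topology

namespace Groth.Agent.Lead.SkLoc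

open LocCoh Groth.Agent.Helper8.FlatReg Groth.Agent.Helper8.SkBase

/-- core: the localization of the stalk at `w` at a prime `Q` is the stalk at the point of the
affine open `U` given by the contraction of `Q`. -/
theorem equiv_of_comap {W : Scheme.{u}} {U : W.Opens} (hU : IsAffineOpen U) (w : W) (hwU : w ∈ U)
    (Q : Ideal (W.presheaf.stalk w)) [Q.IsPrime] (y : PrimeSpectrum Γ(W, U))
    (hy : y.asIdeal = Q.comap (W.presheaf.germ U w hwU).hom) :
    hU.fromSpec y ⤳ w ∧ Nonempty (Localization.AtPrime Q ≃+* W.presheaf.stalk (hU.fromSpec y)) := by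
  obtain ⟨I, hI⟩ := y
  change I = _ at hy
  subst hy
  set y : PrimeSpectrum Γ(W, U) := ⟨Q.comap (W.presheaf.germ U w hwU).hom, hI⟩ with hydef
  letI algS : Algebra Γ(W, U) (W.presheaf.stalk w) :=
    TopCat.Presheaf.algebra_section_stalk W.presheaf ⟨w, hwU⟩
  haveI hloc : IsLocalization.AtPrime (W.presheaf.stalk w) (hU.primeIdealOf ⟨w, hwU⟩).asIdeal :=
    hU.isLocalization_stalk ⟨w, hwU⟩
  haveI : IsScalarTower Γ(W, U) (W.presheaf.stalk w) (Localization.AtPrime Q) := inferInstance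
  set P : Ideal Γ(W, U) := Q.comap (algebraMap Γ(W, U) (W.presheaf.stalk w)) with hP
  have hyP : y.asIdeal = P := rfl
  haveI hPp : P.IsPrime := Ideal.IsPrime.comap _
  haveI hlocT : IsLocalization.AtPrime (Localization.AtPrime Q) P :=
    IsLocalization.isLocalization_isLocalization_atPrime_isLocalization
      (hU.primeIdealOf ⟨w, hwU⟩).asIdeal.primeCompl (Localization.AtPrime Q) Q
  have hyU : hU.fromSpec y ∈ U := by
    have := hU.range_fromSpec
    have h1 : hU.fromSpec y ∈ Set.range hU.fromSpec := ⟨y, rfl⟩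
    rw [this] at h1
    exact h1
  have hloc' := hU.isLocalization_stalk' y hyU
  refine ⟨?_, ?_⟩
  · have hle : y ⤳ hU.primeIdealOf ⟨w, hwU⟩ := by
      rw [← PrimeSpectrum.le_iff_specializes]
      change y.asIdeal ≤ (hU.primeIdealOf ⟨w, hwU⟩).asIdeal
      rw [hyP]
      intro a ha
      by_contra hna
      have hu : IsUnit (algebraMap Γ(W, U) (W.presheaf.stalk w) a) :=
        IsLocalization.map_units (W.presheaf.stalk w)
          (⟨a, hna⟩ : (hU.primeIdealOf ⟨w, hwU⟩).asIdeal.primeCompl)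
      exact (Ideal.IsPrime.ne_top inferInstance) (Q.eq_top_of_isUnit_mem ha hu)
    have h2 := hle.map hU.fromSpec.continuous
    rwa [hU.fromSpec_primeIdealOf ⟨w, hwU⟩] at h2
  · letI algS' : Algebra Γ(W, U) (W.presheaf.stalk (hU.fromSpec y)) :=
      TopCat.Presheaf.algebra_section_stalk W.presheaf ⟨hU.fromSpec y, hyU⟩
    haveI : IsLocalization.AtPrime (W.presheaf.stalk (hU.fromSpec y)) P := hloc'
    exact ⟨(IsLocalization.algEquiv P.primeCompl (Localization.AtPrime Q)
      (W.presheaf.stalk (hU.fromSpec y))).toRingEquiv⟩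

/-- localizations of a stalk at primes are the stalks at generizations -/
theorem exists_equiv_of_prime (W : Scheme.{u}) (w : W) (Q : Ideal (W.presheaf.stalk w))
    [Q.IsPrime] :
    ∃ w' : W, w' ⤳ w ∧ Nonempty (Localization.AtPrime Q ≃+* W.presheaf.stalk w') := by
  obtain ⟨_, ⟨U, hU, rfl⟩, hwU, -⟩ := W.isBasis_affineOpens.exists_subset_of_mem_open
    (Set.mem_univ w) isOpen_univ
  haveI : (Q.comap (W.presheaf.germ U w hwU).hom).IsPrime := Ideal.IsPrime.comap _
  obtain ⟨h1, h2⟩ := equiv_of_comap hU w hwU Q ⟨Q.comap (W.presheaf.germ U w hwU).hom, inferInstance⟩ rfl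
  exact ⟨_, h1, h2⟩

/-- stalks at generizations are localizations of the stalk -/
theorem exists_prime_of_specializes (W : Scheme.{u}) (w w' : W) (h : w' ⤳ w) :
    ∃ (Q : Ideal (W.presheaf.stalk w)) (_ : Q.IsPrime),
      Nonempty (Localization.AtPrime Q ≃+* W.presheaf.stalk w') := by
  obtain ⟨_, ⟨U, hU, rfl⟩, hwU, -⟩ := W.isBasis_affineOpens.exists_subset_of_mem_open
    (Set.mem_univ w) isOpen_univ
  have hw'U : w' ∈ U := h.mem_open U.isOpen hwU
  replace hU : IsAffineOpen U := hU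
  letI algS : Algebra Γ(W, U) (W.presheaf.stalk w) :=
    TopCat.Presheaf.algebra_section_stalk W.presheaf ⟨w, hwU⟩
  haveI hloc : IsLocalization.AtPrime (W.presheaf.stalk w) (hU.primeIdealOf ⟨w, hwU⟩).asIdeal :=
    hU.isLocalization_stalk ⟨w, hwU⟩
  set y := hU.primeIdealOf ⟨w', hw'U⟩ with hy
  have hyw : hU.fromSpec y = w' := hU.fromSpec_primeIdealOf ⟨w', hw'U⟩
  have hle : y.asIdeal ≤ (hU.primeIdealOf ⟨w, hwU⟩).asIdeal := by
    have h1 : (show (Spec Γ(W, U) : Scheme.{u}) from y) ⤳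
        (show (Spec Γ(W, U) : Scheme.{u}) from hU.primeIdealOf ⟨w, hwU⟩) := by
      rw [← hU.fromSpec.isOpenEmbedding.isInducing.specializes_iff]
      change hU.fromSpec y ⤳ hU.fromSpec (hU.primeIdealOf ⟨w, hwU⟩)
      rw [hyw, hU.fromSpec_primeIdealOf ⟨w, hwU⟩]
      exact h
    exact (PrimeSpectrum.le_iff_specializes y (hU.primeIdealOf ⟨w, hwU⟩)).mpr h1
  have hdisj : Disjoint ((hU.primeIdealOf ⟨w, hwU⟩).asIdeal.primeCompl : Set Γ(W, U))
      (y.asIdeal : Set Γ(W, U)) := by
    rw [Set.disjoint_left]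
    intro a ha hay
    exact ha (hle hay)
  set Q : Ideal (W.presheaf.stalk w) := y.asIdeal.map (algebraMap Γ(W, U) (W.presheaf.stalk w))
    with hQ
  haveI hQp : Q.IsPrime :=
    IsLocalization.isPrime_of_isPrime_disjoint (hU.primeIdealOf ⟨w, hwU⟩).asIdeal.primeCompl
      (W.presheaf.stalk w) y.asIdeal y.isPrime hdisj
  have hcomap : Q.comap (algebraMap Γ(W, U) (W.presheaf.stalk w)) = y.asIdeal :=
    IsLocalization.under_map_of_isPrime_disjoint (hU.primeIdealOf ⟨w, hwU⟩).asIdeal.primeCompl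
      (W.presheaf.stalk w) y.isPrime hdisj
  obtain ⟨-, h2⟩ := equiv_of_comap hU w hwU Q y hcomap.symm
  rw [hyw] at h2
  exact ⟨Q, hQp, h2⟩

/-- Serre's condition for a stalk, pointwise over generizations -/
theorem hasSk_stalk_iff (W : Scheme.{u}) (w : W) (k : ℕ) :
    HasSk k (W.presheaf.stalk w) (W.presheaf.stalk w) ↔
      ∀ w' : W, w' ⤳ w → SkLocal k (W.presheaf.stalk w') := by
  rw [hasSk_self_iff_skLocal]
  constructor
  · intro h w' hw'
    obtain ⟨Q, hQ, ⟨e⟩⟩ := exists_prime_of_specializes W w w' hw'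
    exact skLocal_of_ringEquiv k e (h Q)
  · intro h Q hQ
    obtain ⟨w', hw', ⟨e⟩⟩ := exists_equiv_of_prime W w Q
    exact skLocal_of_ringEquiv k e.symm (h w' hw')

theorem skLocal_iff_nat (k : ℕ) (C : Type u) [CommRing C] [IsLocalRing C] (d r : ℕ)
    (hd : ringKrullDim C = (d : WithBot ℕ∞)) (hr : depth C C = (r : ℕ∞)) :
    SkLocal k C ↔ min k d ≤ r := by
  unfold SkLocal
  have h1 : ((maximalIdeal C).height : WithBot ℕ∞) = ((d : ℕ∞) : WithBot ℕ∞) := by
    rw [IsLocalRing.maximalIdeal_height_eq_ringKrullDim, hd]; rfl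
  have h2 : (maximalIdeal C).height = (d : ℕ∞) := by exact_mod_cast h1
  rw [h2, hr]
  rcases le_total k d with h | h
  · rw [min_eq_left h, min_eq_left (by exact_mod_cast h : (k : ℕ∞) ≤ d)]
    exact_mod_cast Iff.rfl
  · rw [min_eq_right h, min_eq_right (by exact_mod_cast h : (d : ℕ∞) ≤ k)]
    exact_mod_cast Iff.rfl

variable {X S : Scheme.{u}}

/-- the locus of points where the fibre satisfies `(S_k)` -/
def skLocus (k : ℕ) (f : X ⟶ S) : Set X :=
  {x | HasSk k ((f.fiber (f x)).presheaf.stalk (f.asFiber x))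
    ((f.fiber (f x)).presheaf.stalk (f.asFiber x))}

/-- the pointwise condition -/
def GoodPt (k : ℕ) (f : X ⟶ S) (x : X) : Prop :=
  SkLocal k ((f.fiber (f x)).presheaf.stalk (f.asFiber x))

theorem skLocal_fiber_congr (f : X ⟶ S) (k : ℕ) {y₁ y₂ : S} (w₁ : f.fiber y₁)
    (w₂ : f.fiber y₂) (h : f.fiberι y₁ w₁ = f.fiberι y₂ w₂) :
    SkLocal k ((f.fiber y₁).presheaf.stalk w₁) ↔ SkLocal k ((f.fiber y₂).presheaf.stalk w₂) := by
  have hy : y₁ = y₂ := by
    rw [← Groth.Agent.Helper3.FibStalk.apply_fiberι f y₁ w₁, ← Groth.Agent.Helper3.FibStalk.apply_fiberι f y₂ w₂, h]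
  subst hy
  obtain rfl : w₁ = w₂ := (f.fiberι y₁).isEmbedding.injective h
  exact Iff.rfl

theorem mem_skLocus_iff (k : ℕ) (f : X ⟶ S) (x : X) :
    x ∈ skLocus k f ↔ ∀ z : X, z ⤳ x → f z = f x → GoodPt k f z := by
  unfold skLocus GoodPt
  rw [Set.mem_ofPred_eq, hasSk_stalk_iff]
  constructor
  · intro h z hzx hfz
    have hz : z ∈ Set.range (f.fiberι (f x)) := by
      rw [Scheme.Hom.range_fiberι]; exact hfz
    obtain ⟨w', hw'⟩ := hz
    have hsp : w' ⤳ f.asFiber x := by
      rw [← (f.fiberι (f x)).isEmbedding.isInducing.specializes_iff, hw', f.fiberι_asFiber]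
      exact hzx
    have := h w' hsp
    refine (skLocal_fiber_congr f k w' (f.asFiber z) ?_).mp this
    rw [hw', f.fiberι_asFiber]
  · intro h w' hw'
    have hzx : f.fiberι (f x) w' ⤳ x := by
      have := hw'.map (f.fiberι (f x)).continuous
      rwa [f.fiberι_asFiber] at this
    have hfz : f (f.fiberι (f x) w') = f x := Groth.Agent.Helper3.FibStalk.apply_fiberι f (f x) w'
    have := h _ hzx hfz
    refine (skLocal_fiber_congr f k (f.asFiber (f.fiberι (f x) w')) w' ?_).mp this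
    rw [f.fiberι_asFiber]

end Groth.Agent.Lead.SkLoc
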