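import Mathlib
import Groth.Prelude
import Groth.Agent.Lib.Lead.SkLoc1

set_option autoImplicit false
set_option backward.isDefEq.respectTransparency.types false
set_option synthInstance.maxHeartbeats 400000
set_option linter.style.haveILetI false
set_option linter.unusedSectionVars false
universe u

open CategoryTheory CategoryTheory.Limits AlgebraicGeometry IsLocalRing TopologicalSpace Topology

namespace Groth.Agent.Lead.SkLoc

open LocCoh Groth.Agent.Helper8.FlatReg Groth.Agent.Helper8.SkBase Groth.Agent.Lead.Coprof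
  Groth.Agent.Lead.CMAt Groth.Agent.Helper3.FibStalk Groth.Agent.Helper3.FibDepth
  Groth.Agent.Helper8.GorFlat

section FL

variable {A B F : Type u} [CommRing A] [CommRing B] [CommRing F] [IsLocalRing A] [IsLocalRing B]
  [IsLocalRing F] [IsNoetherianRing A] [IsNoetherianRing B] {φ : A →+* B} {γ : B →+* F}

theorem skLocal_of_flData_cm (D : FLData φ γ) (hF : IsCohenMacaulayLocalRing F) (k : ℕ)
    (h : SkLocal k A) : SkLocal k B := by
  have hdepth := depth_eq_add_of_flData D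
  have hdim := ringKrullDim_eq_add_of_flData D
  obtain ⟨dA, rA, hdA, hrA, hA'⟩ := exists_nat_depth A
  obtain ⟨dF, rF, hdF, hrF, hF'⟩ := exists_nat_depth F
  have hcm := depth_eq_dim_of_cm F hF
  rw [hdF, hrF] at hcm
  have hcm' : dF = rF := by exact_mod_cast hcm
  have hdB : ringKrullDim B = ((dA + dF : ℕ) : WithBot ℕ∞) := by
    rw [hdim, hdA, hdF]; push_cast; rfl
  have hrB : depth B B = ((rA + rF : ℕ) : ℕ∞) := by
    rw [hdepth, hrA, hrF]; push_cast; rfl
  rw [skLocal_iff_nat k A dA rA hdA hrA] at h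
  rw [skLocal_iff_nat k B _ _ hdB hrB]
  omega

theorem skLocal_of_flData_dim_zero (D : FLData φ γ) (hF : ringKrullDim F ≤ 0) (k : ℕ)
    (h : SkLocal k B) : SkLocal k A := by
  haveI : IsNoetherianRing F := isNoetherianRing_of_surjective B F γ D.surj
  have hdepth := depth_eq_add_of_flData D
  have hdim := ringKrullDim_eq_add_of_flData D
  obtain ⟨dA, rA, hdA, hrA, hA'⟩ := exists_nat_depth A
  obtain ⟨dF, rF, hdF, hrF, hF'⟩ := exists_nat_depth F
  have hdF0 : dF = 0 := by
    rw [hdF] at hF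
    have : (dF : WithBot ℕ∞) ≤ ((0 : ℕ) : WithBot ℕ∞) := by exact_mod_cast hF
    have h2 : dF ≤ 0 := by exact_mod_cast this
    omega
  have hdB : ringKrullDim B = ((dA + dF : ℕ) : WithBot ℕ∞) := by
    rw [hdim, hdA, hdF]; push_cast; rfl
  have hrB : depth B B = ((rA + rF : ℕ) : ℕ∞) := by
    rw [hdepth, hrA, hrF]; push_cast; rfl
  rw [skLocal_iff_nat k B _ _ hdB hrB] at h
  rw [skLocal_iff_nat k A dA rA hdA hrA]
  omega

end FL

open Groth.Agent.Lib.Helper4.FibDim2 in
/-- `(S_k)` transfers along flat morphisms with Cohen–Macaulay fibres -/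
theorem hasSk_stalk_iff_of_flat_cm {W' W : Scheme.{u}} [IsLocallyNoetherian W]
    [IsLocallyNoetherian W'] (h₀ : W' ⟶ W) [Flat h₀]
    (hcm : ∀ (w : W) (t : h₀.fiber w), IsCohenMacaulayLocalRing ((h₀.fiber w).presheaf.stalk t))
    (k : ℕ) (w' : W') :
    HasSk k (W'.presheaf.stalk w') (W'.presheaf.stalk w') ↔
      HasSk k (W.presheaf.stalk (h₀ w')) (W.presheaf.stalk (h₀ w')) := by
  rw [hasSk_stalk_iff, hasSk_stalk_iff]
  constructor
  · intro h z hz
    obtain ⟨z'₀, hz'₀, hfz'₀⟩ := Flat.generalizingMap h₀ hz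
    obtain ⟨zm, hzm, hmax⟩ := exists_isMax_ge_fib h₀ z ⟨z'₀, hfz'₀⟩
    obtain ⟨zm1, hzm1⟩ := zm
    subst hzm1
    have hsp : zm1 ⤳ z'₀ := hzm
    have h1 := h zm1 (hsp.trans hz'₀)
    obtain ⟨γ, hγ, hk⟩ := exists_fibre_presentation h₀ zm1
    have D : FLData (h₀.stalkMap zm1).hom γ := ⟨Flat.stalkMap h₀ zm1, inferInstance, hγ, hk⟩
    have hdim0 : ringKrullDim ((h₀.fiber (h₀ zm1)).presheaf.stalk (h₀.asFiber zm1)) ≤ 0 := by
      rw [stalk_fiber_dim h₀ zm1, (Order.coheight_eq_zero).mpr hmax]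
      rfl
    exact skLocal_of_flData_dim_zero D hdim0 k h1
  · intro h z' hz'
    have h1 := h (h₀ z') (hz'.map h₀.continuous)
    obtain ⟨γ, hγ, hk⟩ := exists_fibre_presentation h₀ z'
    have D : FLData (h₀.stalkMap z').hom γ := ⟨Flat.stalkMap h₀ z', inferInstance, hγ, hk⟩
    exact skLocal_of_flData_cm D (hcm _ _) k h1

theorem hasSk_fiber_congr {X Y : Scheme.{u}} (f : X ⟶ Y) (n : ℕ) {y₁ y₂ : Y} (w₁ : f.fiber y₁)
    (w₂ : f.fiber y₂) (h : f.fiberι y₁ w₁ = f.fiberι y₂ w₂) :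
    HasSk n ((f.fiber y₁).presheaf.stalk w₁) ((f.fiber y₁).presheaf.stalk w₁) ↔
      HasSk n ((f.fiber y₂).presheaf.stalk w₂) ((f.fiber y₂).presheaf.stalk w₂) := by
  have hy : y₁ = y₂ := by
    rw [← apply_fiberι f y₁ w₁, ← apply_fiberι f y₂ w₂, h]
  subst hy
  obtain rfl : w₁ = w₂ := (f.fiberι y₁).isEmbedding.injective h
  exact Iff.rfl

section BaseField

variable {W W' : Scheme.{u}} (k k' : Type u) [Field k] [Field k'] (ι : k →+* k')
  (h : W ⟶ Spec (CommRingCat.of k)) (h' : W' ⟶ Spec (CommRingCat.of k')) (h₀ : W' ⟶ W)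
  (sq : IsPullback h₀ h' h (Spec.map (CommRingCat.ofHom ι)))

include sq in
theorem hasSk_field_baseChange_iff (hE : ι.EssFiniteType ∨ LocallyOfFiniteType h)
    [IsLocallyNoetherian W] [IsLocallyNoetherian W'] (n : ℕ) (w' : W') :
    HasSk n (W'.presheaf.stalk w') (W'.presheaf.stalk w') ↔
      HasSk n (W.presheaf.stalk (h₀ w')) (W.presheaf.stalk (h₀ w')) := by
  haveI : Flat h₀ := flat_of_field_baseChange k k' ι h h' h₀ sq
  exact hasSk_stalk_iff_of_flat_cm h₀
    (fun w t => cm_fiber_of_field_baseChange k k' ι h h' h₀ sq hE w t) n w'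

end BaseField

set_option maxHeartbeats 1000000 in
theorem skLocus_baseChange (n : ℕ) {X Y X' Y' : Scheme.{u}} (f : X ⟶ Y)
    [LocallyOfFiniteType f]
    (g : Y' ⟶ Y) (f' : X' ⟶ Y') (g' : X' ⟶ X) (hsq : IsPullback g' f' f g) :
    skLocus n f' = g' ⁻¹' skLocus n f := by
  ext x'
  haveI : LocallyOfFiniteType f' :=
    MorphismProperty.of_isPullback (P := @LocallyOfFiniteType) hsq inferInstance
  have key : ∀ (h₀ : f'.fiber (f' x') ⟶ f.fiber (g (f' x'))),
      h₀ ≫ f.fiberι _ = f'.fiberι _ ≫ g' →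
      IsPullback h₀ (f'.fiberToSpecResidueField (f' x'))
        (f.fiberToSpecResidueField (g (f' x'))) (Spec.map (g.residueFieldMap (f' x'))) →
      (x' ∈ skLocus n f' ↔ g' x' ∈ skLocus n f) := by
    intro h₀ hh₀ sq
    haveI : LocallyOfFiniteType (f.fiberToSpecResidueField (g (f' x'))) :=
      MorphismProperty.pullback_snd _ _ inferInstance
    haveI : LocallyOfFiniteType (f'.fiberToSpecResidueField (f' x')) :=
      MorphismProperty.pullback_snd _ _ inferInstance
    haveI : IsLocallyNoetherian (f.fiber (g (f' x'))) :=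
      LocallyOfFiniteType.isLocallyNoetherian (f.fiberToSpecResidueField (g (f' x')))
    haveI : IsLocallyNoetherian (f'.fiber (f' x')) :=
      LocallyOfFiniteType.isLocallyNoetherian (f'.fiberToSpecResidueField (f' x'))
    have h2 : f.fiberι (g (f' x')) (h₀ (f'.asFiber x')) =
        f.fiberι (f (g' x')) (f.asFiber (g' x')) := by
      rw [← Scheme.Hom.comp_apply, hh₀, Scheme.Hom.comp_apply, f'.fiberι_asFiber,
        f.fiberι_asFiber]
    have h3 := hasSk_fiber_congr f n _ _ h2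
    have h1 := hasSk_field_baseChange_iff (Y.residueField (g (f' x')))
          (Y'.residueField (f' x')) (g.residueFieldMap (f' x')).hom
          (f.fiberToSpecResidueField (g (f' x'))) (f'.fiberToSpecResidueField (f' x')) h₀ sq
          (Or.inr inferInstance) n (f'.asFiber x')
    unfold skLocus
    rw [Set.mem_ofPred_eq, Set.mem_ofPred_eq, h1, h3]
  refine key _ ?_ (isPullback_fiberToSpecResidueField_of_isPullback hsq (f' x'))
  exact pullback.lift_fst _ _ _

theorem skLocus_comp_openImmersion (n : ℕ) {P Z S : Scheme.{u}} (j : P ⟶ Z)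
    [IsOpenImmersion j] (g : Z ⟶ S) : skLocus n (j ≫ g) = j ⁻¹' skLocus n g := by
  ext y
  obtain ⟨e⟩ := Groth.Agent.Lead.CMQF.fiberStalk_equiv_of_openImmersion j g y
  exact ⟨fun h => Groth.Agent.Helper8.CplQuot.hasSk_of_ringEquiv e n h,
    fun h => Groth.Agent.Helper8.CplQuot.hasSk_of_ringEquiv e.symm n h⟩

end Groth.Agent.Lead.SkLoc
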