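import Mathlib
import Groth.Prelude
import Groth.Agent.Lib.Lead.SkLoc2
import Groth.Agent.Lib.Helper4.Equi10

set_option autoImplicit false
set_option backward.isDefEq.respectTransparency.types false
set_option synthInstance.maxHeartbeats 400000
set_option linter.style.haveILetI false
set_option linter.unusedSectionVars false
universe u

open CategoryTheory CategoryTheory.Limits AlgebraicGeometry IsLocalRing TopologicalSpace Topology

namespace Groth.Agent.Lead.SkLoc

open LocCoh Groth.Agent.Helper8.FlatReg Groth.Agent.Helper8.SkBase Groth.Agent.Lead.Coprof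
  Groth.Agent.Lead.CMAt Groth.Agent.Helper3.FibStalk Groth.Agent.Helper3.FibDepth
  Groth.Agent.Helper8.GorFlat Groth.Agent.Lead.CMQF
open Groth.Agent.Lib.Helper4.FibDim1 Groth.Agent.Lib.Helper4.FibDim2

variable {X S : Scheme.{u}}

/-- numerical data of the local ring of the fibre at a point -/
theorem exists_nat_data (f : X ⟶ S) [LocallyOfFiniteType f] (x : X) :
    ∃ d r : ℕ, r ≤ d ∧
      ringKrullDim ((f.fiber (f x)).presheaf.stalk (f.asFiber x)) = (d : WithBot ℕ∞) ∧
      (∀ n, x ∈ coprofLocus n f ↔ d ≤ r + n) ∧ (∀ k, GoodPt k f x ↔ min k d ≤ r) := by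
  haveI : IsLocallyNoetherian (f.fiber (f x)) := isLocallyNoetherian_fiber f (f x)
  haveI : IsNoetherianRing ((f.fiber (f x)).presheaf.stalk (f.asFiber x)) := inferInstance
  obtain ⟨d, r, hd, hr, hrd⟩ := exists_nat_depth ((f.fiber (f x)).presheaf.stalk (f.asFiber x))
  exact ⟨d, r, hrd, hd, fun n => coprofLE_iff_nat _ d r hd hr n,
    fun k => skLocal_iff_nat k _ d r hd hr⟩

theorem coprofLocus_mono (f : X ⟶ S) [LocallyOfFiniteType f] {n m : ℕ} (h : n ≤ m) :
    coprofLocus n f ⊆ coprofLocus m f := by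
  intro x hx
  obtain ⟨d, r, -, -, hc, -⟩ := exists_nat_data f x
  rw [hc] at hx ⊢
  omega

theorem exists_mem_coprofLocus (f : X ⟶ S) [LocallyOfFiniteType f] (x : X) :
    ∃ n, x ∈ coprofLocus n f := by
  obtain ⟨d, r, -, -, hc, -⟩ := exists_nat_data f x
  exact ⟨d, (hc d).mpr (by omega)⟩

/-- a point of a closed set which is maximal in its fibre inside the closed set -/
def IsFibMax (f : X ⟶ S) (T : Set X) (z : X) : Prop :=
  ∀ z' ∈ T, z' ⤳ z → f z' = f z → z' = z

set_option maxHeartbeats 1000000 in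
/-- **Key lemma**: near the generic point of an irreducible closed subset, the fibrewise maximal
points of the subset behave like the generic point with respect to `(S_k)`. -/
theorem lemmaK (f : X ⟶ S) [Flat f] [LocallyOfFinitePresentation f] (k : ℕ) (T : Set X)
    (hTc : IsClosed T) (ζ : X) (hζ : IsGenericPoint ζ T) :
    ∃ O : Set X, IsOpen O ∧ ζ ∈ O ∧
      ∀ z ∈ T, z ∈ O → IsFibMax f T z → (GoodPt k f z ↔ GoodPt k f ζ) := by
  classical
  have hζT : ζ ∈ T := hζ.mem
  set 𝓘 := Scheme.IdealSheafData.vanishingIdeal (⟨T, hTc⟩ : Closeds X) with h𝓘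
  set i := 𝓘.subschemeι with hi
  have hrange : Set.range i = T := by
    rw [hi, Scheme.IdealSheafData.range_subschemeι,
      Scheme.IdealSheafData.coe_support_vanishingIdeal]
    rfl
  obtain ⟨ζ', hζ'⟩ : ζ ∈ Set.range i := hrange ▸ hζT
  set g := i ≫ f with hg
  obtain ⟨eX, heX⟩ := Groth.Agent.Lib.Helper4.FibDimComp1.exists_fibreDimAt_nat f ζ
  obtain ⟨eT, heT⟩ := Groth.Agent.Lib.Helper4.FibDimComp1.exists_fibreDimAt_nat g ζ'
  have hex := exists_mem_coprofLocus f ζ
  set c₀ := Nat.find hex with hc₀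
  have hc₀spec : ζ ∈ coprofLocus c₀ f := Nat.find_spec hex
  -- the three open sets
  have hO₁ : IsOpen {x : X | FlatMor.fibreDimAt f x ≤ eX} :=
    Groth.Agent.Lib.Helper4.Chev2.S0402_main f eX
  have hV' : IsOpen {t : 𝓘.subscheme | FlatMor.fibreDimAt g t ≤ eT} :=
    Groth.Agent.Lib.Helper4.Chev2.S0402_main g eT
  have hO₂ : IsOpen (i '' {t : 𝓘.subscheme | FlatMor.fibreDimAt g t ≤ eT}ᶜ)ᶜ :=
    (i.isClosedEmbedding.isClosedMap _ hV'.isClosed_compl).isOpen_compl
  have hO₃ : IsOpen (coprofLocus c₀ f) := isOpen_coprofLocus_of_flat f c₀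
  refine ⟨({x : X | FlatMor.fibreDimAt f x ≤ eX} ∩
      (i '' {t : 𝓘.subscheme | FlatMor.fibreDimAt g t ≤ eT}ᶜ)ᶜ) ∩ coprofLocus c₀ f,
    (hO₁.inter hO₂).inter hO₃, ⟨⟨heX.le, ?_⟩, hc₀spec⟩, ?_⟩
  · rintro ⟨t, ht, hti⟩
    have : t = ζ' := i.isClosedEmbedding.injective (hti.trans hζ'.symm)
    subst this
    exact ht heT.le
  · rintro z hzT ⟨⟨hz1, hz2⟩, hz3⟩ hmax
    obtain ⟨t, ht⟩ : z ∈ Set.range i := hrange ▸ hzT
    have hζz : ζ ⤳ z := hζ.specializes hzT
    have hζ't : ζ' ⤳ t := by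
      rw [← i.isClosedEmbedding.isEmbedding.isInducing.specializes_iff, hζ', ht]
      exact hζz
    -- fibre dimensions agree
    obtain ⟨m, hm⟩ := Groth.Agent.Lib.Helper4.FibDimComp1.exists_fibreDimAt_nat f z
    have hmX : m = eX := by
      have h1 : (m : WithBot ℕ∞) ≤ eX := hm ▸ hz1
      have h2 : ζ ∈ {x : X | FlatMor.fibreDimAt f x ≤ m} :=
        hζz.mem_open (Groth.Agent.Lib.Helper4.Chev2.S0402_main f m) hm.le
      have h3 : (eX : WithBot ℕ∞) ≤ m := heX ▸ h2
      have h1' : m ≤ eX := by exact_mod_cast h1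
      have h3' : eX ≤ m := by exact_mod_cast h3
      omega
    obtain ⟨m', hm'⟩ := Groth.Agent.Lib.Helper4.FibDimComp1.exists_fibreDimAt_nat g t
    have hmT : m' = eT := by
      have h1 : (m' : WithBot ℕ∞) ≤ eT := by
        rw [← hm']
        by_contra hne
        exact hz2 ⟨t, hne, ht⟩
      have h2 : ζ' ∈ {x : 𝓘.subscheme | FlatMor.fibreDimAt g x ≤ m'} :=
        hζ't.mem_open (Groth.Agent.Lib.Helper4.Chev2.S0402_main g m') hm'.le
      have h3 : (eT : WithBot ℕ∞) ≤ m' := heT ▸ h2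
      have h1' : m' ≤ eT := by exact_mod_cast h1
      have h3' : eT ≤ m' := by exact_mod_cast h3
      omega
    -- maximality in the fibres of g
    have hmaxt : IsMax (⟨t, rfl⟩ : {t' : 𝓘.subscheme // g t' = g t}) := by
      intro b hb
      have hbt : b.1 ⤳ t := hb
      have h1 : i b.1 = z := by
        apply hmax (i b.1) (hrange ▸ ⟨b.1, rfl⟩)
        · rw [← ht]; exact hbt.map i.continuous
        · have h0 : f (i b.1) = f (i t) := b.2
          rw [ht] at h0
          exact h0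
      have h2 : b.1 = t := i.isClosedEmbedding.injective (h1.trans ht.symm)
      have : b = ⟨t, rfl⟩ := Subtype.ext h2
      rw [this]
    have hmaxζ : IsMax (⟨ζ', rfl⟩ : {t' : 𝓘.subscheme // g t' = g ζ'}) := by
      intro b hb
      have hbt : b.1 ⤳ ζ' := hb
      have h0 : i b.1 ⤳ ζ := by rw [← hζ']; exact hbt.map i.continuous
      have h1 : ζ ⤳ i b.1 := hζ.specializes (hrange ▸ ⟨b.1, rfl⟩)
      have h2 : i b.1 = i ζ' := by rw [hζ']; exact (h0.antisymm h1).eq
      have h3 : b.1 = ζ' := i.isClosedEmbedding.injective h2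
      have : b = ⟨ζ', rfl⟩ := Subtype.ext h3
      rw [this]
    have hdimt : ringKrullDim ((g.fiber (g t)).presheaf.stalk (g.asFiber t)) = 0 := by
      rw [stalk_fiber_dim g t, (Order.coheight_eq_zero).mpr hmaxt]; rfl
    have hdimζ : ringKrullDim ((g.fiber (g ζ')).presheaf.stalk (g.asFiber ζ')) = 0 := by
      rw [stalk_fiber_dim g ζ', (Order.coheight_eq_zero).mpr hmaxζ]; rfl
    have htrt : tr f z = eT := by
      have h1 := Groth.Agent.Helper2.FibDim.fibreDimAt_eq_stalk_add_tr g t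
      have h3 : tr g t = tr f (i t) :=
        Groth.Agent.Lib.Helper4.Equi10.tr_comp_closedImmersion f i t
      rw [hdimt, zero_add, hm', hmT, h3, ht] at h1
      exact_mod_cast h1.symm
    have htrζ : tr f ζ = eT := by
      have h1 := Groth.Agent.Helper2.FibDim.fibreDimAt_eq_stalk_add_tr g ζ'
      have h3 : tr g ζ' = tr f (i ζ') :=
        Groth.Agent.Lib.Helper4.Equi10.tr_comp_closedImmersion f i ζ'
      rw [hdimζ, zero_add, heT, h3, hζ'] at h1
      exact_mod_cast h1.symm
    obtain ⟨dz, rz, hrdz, hdz, hcz, hgz⟩ := exists_nat_data f z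
    obtain ⟨dζ, rζ, hrdζ, hdζ, hcζ, hgζ⟩ := exists_nat_data f ζ
    have hdd : dz = dζ := by
      have h1 := Groth.Agent.Helper2.FibDim.fibreDimAt_eq_stalk_add_tr f z
      have h2 := Groth.Agent.Helper2.FibDim.fibreDimAt_eq_stalk_add_tr f ζ
      rw [hm, hmX, hdz, htrt] at h1
      rw [heX, hdζ, htrζ] at h2
      have h1' : eX = dz + eT := by exact_mod_cast h1
      have h2' : eX = dζ + eT := by exact_mod_cast h2
      omega
    have hcc : ∀ n, z ∈ coprofLocus n f ↔ ζ ∈ coprofLocus n f := by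
      intro n
      constructor
      · intro h
        exact hζz.mem_open (isOpen_coprofLocus_of_flat f n) h
      · intro h
        have : c₀ ≤ n := Nat.find_min' hex h
        exact coprofLocus_mono f this hz3
    have hrr : rz = rζ := by
      have h1 := hcc (dz - rz)
      rw [hcz, hcζ] at h1
      have h2 := hcc (dζ - rζ)
      rw [hcz, hcζ] at h2
      omega
    rw [hgz, hgζ, hdd, hrr]

end Groth.Agent.Lead.SkLoc
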