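import Mathlib
import Groth.Prelude
import Groth.Agent.Lib.Lead.SkLoc3

set_option autoImplicit false
set_option backward.isDefEq.respectTransparency.types false
set_option synthInstance.maxHeartbeats 400000
set_option linter.style.haveILetI false
set_option linter.unusedSectionVars false
universe u

open CategoryTheory CategoryTheory.Limits AlgebraicGeometry IsLocalRing TopologicalSpace Topology

namespace Groth.Agent.Lead.SkLoc

open LocCoh Groth.Agent.Helper8.FlatReg Groth.Agent.Helper8.SkBase Groth.Agent.Lead.Coprof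
  Groth.Agent.Lead.CMAt Groth.Agent.Helper3.FibStalk Groth.Agent.Helper3.FibDepth
  Groth.Agent.Helper8.GorFlat Groth.Agent.Lead.CMQF
open Groth.Agent.Lib.Helper4.FibDim1 Groth.Agent.Lib.Helper4.FibDim2

variable {X S : Scheme.{u}}

theorem IsFibMax.mono (f : X ⟶ S) {T T' : Set X} (h : T' ⊆ T) {z : X} (hz : IsFibMax f T z) :
    IsFibMax f T' z :=
  fun z' hz' => hz z' (h hz')

theorem exists_fibMax_ge (f : X ⟶ S) (T : Set X) (hTc : IsClosed T) (z : X) (hz : z ∈ T) :
    ∃ z'' ∈ T, z'' ⤳ z ∧ f z'' = f z ∧ IsFibMax f T z'' := by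
  set 𝓘 := Scheme.IdealSheafData.vanishingIdeal (⟨T, hTc⟩ : Closeds X) with h𝓘
  set i := 𝓘.subschemeι with hi
  have hrange : Set.range i = T := by
    rw [hi, Scheme.IdealSheafData.range_subschemeι,
      Scheme.IdealSheafData.coe_support_vanishingIdeal]
    rfl
  obtain ⟨t, ht⟩ : z ∈ Set.range i := hrange ▸ hz
  obtain ⟨⟨t'', ht''⟩, hle, hmax⟩ := exists_isMax_ge_fib (i ≫ f) ((i ≫ f) t) ⟨t, rfl⟩
  have hsp : t'' ⤳ t := hle
  refine ⟨i t'', hrange ▸ ⟨t'', rfl⟩, ?_, ?_, ?_⟩
  · rw [← ht]; exact hsp.map i.continuous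
  · rw [← ht]; exact ht''
  · intro z' hz'T hz'sp hz'f
    obtain ⟨t', rfl⟩ : z' ∈ Set.range i := hrange ▸ hz'T
    have h1 : t' ⤳ t'' :=
      (i.isClosedEmbedding.isEmbedding.isInducing.specializes_iff).mp hz'sp
    have h2 : (i ≫ f) t' = (i ≫ f) t := (show f (i t') = f (i t'') from hz'f).trans ht''
    have h3 : t'' ⤳ t' := hmax (b := ⟨t', h2⟩) h1
    have : t' = t'' := (h1.antisymm h3).eq
    rw [this]

theorem stalk_fiber_dim' (f : X ⟶ S) (x : X) (y : S) (h : f x = y) :
    ringKrullDim ((f.fiber (f x)).presheaf.stalk (f.asFiber x)) =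
      (Order.coheight (⟨x, h⟩ : {z : X // f z = y}) : WithBot ℕ∞) := by
  subst h; exact stalk_fiber_dim f x

theorem fiber_stalk_dim_le_of_specializes (f : X ⟶ S) {z'' z : X} (h : z'' ⤳ z)
    (hf : f z'' = f z) :
    ringKrullDim ((f.fiber (f z'')).presheaf.stalk (f.asFiber z'')) ≤
      ringKrullDim ((f.fiber (f z)).presheaf.stalk (f.asFiber z)) := by
  rw [stalk_fiber_dim' f z'' (f z) hf, stalk_fiber_dim f z]
  have h1 : (⟨z, rfl⟩ : {t : X // f t = f z}) ≤ ⟨z'', hf⟩ := h
  exact_mod_cast Order.coheight_anti h1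

set_option maxHeartbeats 1000000 in
theorem exists_closed_bad (f : X ⟶ S) [Flat f] [LocallyOfFinitePresentation f]
    [NoetherianSpace X] (k : ℕ) (hG : StableUnderGeneralization (skLocus k f)) (T : Closeds X) :
    ∃ N : Set X, IsClosed N ∧ N ⊆ (skLocus k f)ᶜ ∧
      ∀ z ∈ (T : Set X), ¬ GoodPt k f z → IsFibMax f T z → z ∈ N := by
  apply wellFounded_lt.induction T; clear T
  intro T H
  rcases eq_or_ne T ⊥ with rfl | h₀
  · exact ⟨∅, isClosed_empty, Set.empty_subset _, fun z hz => absurd hz (Set.notMem_empty z)⟩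
  · by_cases h₁ : IsPreirreducible (T : Set X)
    · have hirr : IsIrreducible (T : Set X) := ⟨Closeds.coe_nonempty.2 h₀, h₁⟩
      set ζ := hirr.genericPoint with hζdef
      have hζ : IsGenericPoint ζ (T : Set X) := hirr.isGenericPoint_genericPoint T.isClosed
      obtain ⟨O, hO, hζO, hK⟩ := lemmaK f k T T.isClosed ζ hζ
      have hlt : (T ⊓ ⟨Oᶜ, hO.isClosed_compl⟩ : Closeds X) < T := by
        refine lt_of_le_of_ne inf_le_left ?_
        intro heq
        have h1 : ζ ∈ ((T ⊓ ⟨Oᶜ, hO.isClosed_compl⟩ : Closeds X) : Set X) := by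
          rw [heq]; exact hζ.mem
        exact h1.2 hζO
      obtain ⟨N', hN'c, hN'sub, hN'⟩ := H _ hlt
      by_cases hgood : GoodPt k f ζ
      · refine ⟨N', hN'c, hN'sub, ?_⟩
        intro z hzT hzbad hzmax
        by_cases hzO : z ∈ O
        · exact absurd ((hK z hzT hzO hzmax).mpr hgood) hzbad
        · exact hN' z ⟨hzT, hzO⟩ hzbad (hzmax.mono f Set.inter_subset_left)
      · refine ⟨T, T.isClosed, ?_, fun z hzT _ _ => hzT⟩
        intro x hxT hx
        have h2 : ζ ∈ skLocus k f := hG (hζ.specializes hxT) hx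
        rw [mem_skLocus_iff] at h2
        exact hgood (h2 ζ specializes_rfl rfl)
    · simp only [isPreirreducible_iff_isClosed_union_isClosed, not_forall, not_or] at h₁
      obtain ⟨z₁, z₂, hz₁, hz₂, h, hz₁', hz₂'⟩ := h₁
      lift z₁ to Closeds X using hz₁
      lift z₂ to Closeds X using hz₂
      obtain ⟨N₁, hN₁c, hN₁sub, hN₁⟩ := H (T ⊓ z₁) (inf_lt_left.2 hz₁')
      obtain ⟨N₂, hN₂c, hN₂sub, hN₂⟩ := H (T ⊓ z₂) (inf_lt_left.2 hz₂')
      refine ⟨N₁ ∪ N₂, hN₁c.union hN₂c, Set.union_subset hN₁sub hN₂sub, ?_⟩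
      intro z hzT hzbad hzmax
      rcases h hzT with h1 | h2
      · exact Or.inl (hN₁ z ⟨hzT, h1⟩ hzbad (hzmax.mono f Set.inter_subset_left))
      · exact Or.inr (hN₂ z ⟨hzT, h2⟩ hzbad (hzmax.mono f Set.inter_subset_left))

set_option maxHeartbeats 1000000 in
/-- **Theorem M**: on a Noetherian space, for `f` flat and locally of finite presentation,
the `(S_k)`-locus of the fibres is open as soon as it is stable under generization. -/
theorem isOpen_skLocus_of_generalization (f : X ⟶ S) [Flat f] [LocallyOfFinitePresentation f]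
    [NoetherianSpace X] (k : ℕ) (hG : StableUnderGeneralization (skLocus k f)) :
    IsOpen (skLocus k f) := by
  classical
  have hcov : ∃ n₀, coprofLocus n₀ f = Set.univ := by
    obtain ⟨n₀, hn₀⟩ := isCompact_univ.elim_directed_cover (fun n => coprofLocus n f)
      (fun n => isOpen_coprofLocus_of_flat f n)
      (fun x _ => Set.mem_iUnion.mpr (exists_mem_coprofLocus f x))
      (directed_of_isDirected_le (fun n m h => coprofLocus_mono f h))
    exact ⟨n₀, Set.eq_univ_of_univ_subset hn₀⟩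
  obtain ⟨n₀, hn₀⟩ := hcov
  have hZc : ∀ n : ℕ, IsClosed (coprofLocus n f)ᶜ := fun n =>
    (isOpen_coprofLocus_of_flat f n).isClosed_compl
  choose N hNc hNsub hN using fun n : ℕ =>
    exists_closed_bad f k hG ⟨(coprofLocus n f)ᶜ, hZc n⟩
  have hcl : IsClosed (⋃ n ∈ Finset.range n₀, N n) :=
    isClosed_biUnion_finset (fun n _ => hNc n)
  have heq : (skLocus k f)ᶜ = ⋃ n ∈ Finset.range n₀, N n := by
    apply Set.Subset.antisymm
    · intro x hx
      rw [Set.mem_compl_iff, mem_skLocus_iff] at hx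
      obtain ⟨z, hzx, hfz, hzbad⟩ : ∃ z, z ⤳ x ∧ f z = f x ∧ ¬ GoodPt k f z := by
        by_contra hne
        apply hx
        intro z hz hfz
        by_contra hb
        exact hne ⟨z, hz, hfz, hb⟩
      obtain ⟨d, r, hrd, hd, hc, hg⟩ := exists_nat_data f z
      have hbad : ¬ (min k d ≤ r) := fun h => hzbad ((hg k).mpr h)
      have hzn : z ∈ (coprofLocus (d - r - 1) f)ᶜ := by
        rw [Set.mem_compl_iff, hc]
        omega
      have hn : d - r - 1 < n₀ := by
        by_contra hge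
        have : z ∈ coprofLocus (d - r - 1) f :=
          coprofLocus_mono f (not_lt.mp hge) (hn₀ ▸ Set.mem_univ z)
        exact hzn this
      obtain ⟨z'', hz''T, hz''z, hfz'', hmax⟩ := exists_fibMax_ge f _ (hZc (d - r - 1)) z hzn
      obtain ⟨d'', r'', hrd'', hd'', hc'', hg''⟩ := exists_nat_data f z''
      have hdd : d'' ≤ d := by
        have := fiber_stalk_dim_le_of_specializes f hz''z hfz''
        rw [hd'', hd] at this
        exact_mod_cast this
      have hz''n : ¬ (d'' ≤ r'' + (d - r - 1)) := fun h => hz''T ((hc'' _).mpr h)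
      have hbad'' : ¬ GoodPt k f z'' := by
        rw [hg'']
        omega
      have h3 : z'' ∈ N (d - r - 1) := hN _ z'' hz''T hbad'' hmax
      have hx' : x ∈ N (d - r - 1) := (hz''z.trans hzx).mem_closed (hNc _) h3
      exact Set.mem_biUnion (Finset.mem_coe.mpr (Finset.mem_range.mpr hn)) hx'
    · exact Set.iUnion₂_subset fun n _ => hNsub n
  rw [← isClosed_compl_iff, heq]
  exact hcl

end Groth.Agent.Lead.SkLoc
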