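import Mathlib
import Groth.Prelude
import Groth.Agent.Lib.Lead.SkLoc4
import Groth.Agent.Lib.Helper4.DomDVR3

set_option autoImplicit false
set_option backward.isDefEq.respectTransparency.types false
set_option synthInstance.maxHeartbeats 400000
set_option linter.style.haveILetI false
set_option linter.unusedSectionVars false
universe u

open CategoryTheory CategoryTheory.Limits AlgebraicGeometry IsLocalRing TopologicalSpace Topology

namespace Groth.Agent.Lead.SkLoc

open LocCoh Groth.Agent.Helper8.FlatReg Groth.Agent.Helper8.SkBase Groth.Agent.Lead.Coprof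
  Groth.Agent.Lead.CMAt Groth.Agent.Helper3.FibStalk Groth.Agent.Helper3.FibDepth
  Groth.Agent.Helper8.GorFlat Groth.Agent.Lead.CMQF

section Ring

theorem hasSk_of_fibre_of_principal {B C F : Type u} [CommRing B] [CommRing C] [CommRing F]
    [IsLocalRing B] [IsDomain B] [IsLocalRing C] [IsNoetherianRing C]
    (φ : B →+* C) [IsLocalHom φ] (hφ : φ.Flat) (γ : C →+* F) (hγ : Function.Surjective γ)
    (hk : RingHom.ker γ = (maximalIdeal B).map φ) (ϖ : B)
    (hϖ : maximalIdeal B = Ideal.span {ϖ})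
    (k : ℕ) (hS : HasSk k F F) : HasSk k C C := by
  have hker : RingHom.ker γ = Ideal.span {φ ϖ} := by
    rw [hk, hϖ, Ideal.map_span, Set.image_singleton]
  by_cases h0 : ϖ = 0
  · have hb : RingHom.ker γ = ⊥ := by
      rw [hker, h0, map_zero, Ideal.span_singleton_eq_bot]
    have hinj : Function.Injective γ := (RingHom.injective_iff_ker_eq_bot γ).mpr hb
    let e : C ≃+* F := RingEquiv.ofBijective γ ⟨hinj, hγ⟩
    exact Groth.Agent.Helper8.CplQuot.hasSk_of_ringEquiv e.symm k hS
  · have hreg : IsSMulRegular C (φ ϖ) := by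
      letI := φ.toAlgebra
      haveI : Module.Flat B C := hφ
      have h1 : IsSMulRegular C ϖ :=
        Module.Flat.isSMulRegular_of_nonZeroDivisors (mem_nonZeroDivisors_of_ne_zero h0)
      intro a b hab
      apply h1
      simpa [Algebra.smul_def, RingHom.algebraMap_toAlgebra] using hab
    have hmem : φ ϖ ∈ maximalIdeal C := by
      have h1 : ϖ ∈ maximalIdeal B := by
        rw [hϖ]; exact Ideal.mem_span_singleton_self ϖ
      rw [mem_maximalIdeal, mem_nonunits_iff] at h1 ⊢
      exact fun hu => h1 (isUnit_of_map_unit φ ϖ hu)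
    let e : (C ⧸ Ideal.span {φ ϖ}) ≃+* F :=
      (Ideal.quotEquivOfEq hker.symm).trans (RingHom.quotientKerEquivOfSurjective hγ)
    exact Groth.Agent.Helper8.Sk.hasSk_of_hasSk_quotient C (φ ϖ) hmem hreg k
      (Groth.Agent.Helper8.CplQuot.hasSk_of_ringEquiv e.symm k hS)

end Ring

section Dedekind

variable (A : Type u) [CommRing A] [IsDedekindDomain A]

theorem stalk_Spec_dedekind (p : Spec (CommRingCat.of A)) :
    IsDomain ((Spec (CommRingCat.of A)).presheaf.stalk p) ∧
      ∃ ϖ, maximalIdeal ((Spec (CommRingCat.of A)).presheaf.stalk p) = Ideal.span {ϖ} := by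
  letI : Algebra A ((Spec (CommRingCat.of A)).presheaf.stalk p) :=
    StructureSheaf.stalkAlgebra A p
  haveI : IsLocalization.AtPrime ((Spec (CommRingCat.of A)).presheaf.stalk p) p.asIdeal :=
    StructureSheaf.IsLocalization.to_stalk A p
  haveI hdom : IsDomain ((Spec (CommRingCat.of A)).presheaf.stalk p) :=
    IsLocalization.isDomain_of_le_nonZeroDivisors _ p.asIdeal.primeCompl_le_nonZeroDivisors
  refine ⟨hdom, ?_⟩
  by_cases hp : p.asIdeal = ⊥
  · refine ⟨0, ?_⟩
    rw [← IsLocalization.AtPrime.map_eq_maximalIdeal p.asIdeal, hp, Ideal.map_bot]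
    simp
  · haveI := IsLocalization.AtPrime.isDiscreteValuationRing_of_dedekind_domain A hp
      ((Spec (CommRingCat.of A)).presheaf.stalk p)
    obtain ⟨ϖ, hϖ⟩ := (IsPrincipalIdealRing.principal
      (maximalIdeal ((Spec (CommRingCat.of A)).presheaf.stalk p))).principal
    exact ⟨ϖ, hϖ⟩

theorem maximalIdeal_stalk_Spec_eq_bot (p : Spec (CommRingCat.of A)) (hp : p.asIdeal = ⊥) :
    maximalIdeal ((Spec (CommRingCat.of A)).presheaf.stalk p) = ⊥ := by
  letI : Algebra A ((Spec (CommRingCat.of A)).presheaf.stalk p) :=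
    StructureSheaf.stalkAlgebra A p
  haveI : IsLocalization.AtPrime ((Spec (CommRingCat.of A)).presheaf.stalk p) p.asIdeal :=
    StructureSheaf.IsLocalization.to_stalk A p
  rw [← IsLocalization.AtPrime.map_eq_maximalIdeal p.asIdeal, hp, Ideal.map_bot]

variable {Y : Scheme.{u}}

theorem hasSk_stalk_of_mem_skLocus_dedekind (f : Y ⟶ Spec (CommRingCat.of A))
    [LocallyOfFiniteType f] (y : Y) (hfl : (f.stalkMap y).hom.Flat) (k : ℕ)
    (hS : y ∈ skLocus k f) :
    HasSk k (Y.presheaf.stalk y) (Y.presheaf.stalk y) := by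
  haveI : IsNoetherianRing A := IsDedekindRing.toIsNoetherian
  haveI : IsLocallyNoetherian (Spec (CommRingCat.of A)) :=
    isLocallyNoetherian_Spec.mpr ‹_›
  haveI : IsLocallyNoetherian Y := LocallyOfFiniteType.isLocallyNoetherian f
  obtain ⟨hdom, ϖ, hϖ⟩ := stalk_Spec_dedekind A (f y)
  obtain ⟨γ, hγ, hk⟩ := exists_fibre_presentation f y
  exact hasSk_of_fibre_of_principal (f.stalkMap y).hom hfl γ hγ hk ϖ hϖ k hS

end Dedekind

variable {Y T : Scheme.{u}}

theorem goodPt_iff_of_maximalIdeal_eq_bot (f : Y ⟶ T) (z : Y)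
    (hz : maximalIdeal (T.presheaf.stalk (f z)) = ⊥) (k : ℕ) :
    GoodPt k f z ↔ SkLocal k (Y.presheaf.stalk z) := by
  obtain ⟨γ, hγ, hk⟩ := exists_fibre_presentation f z
  rw [hz, Ideal.map_bot] at hk
  let e : Y.presheaf.stalk z ≃+* (f.fiber (f z)).presheaf.stalk (f.asFiber z) :=
    RingEquiv.ofBijective γ ⟨(RingHom.injective_iff_ker_eq_bot γ).mpr hk, hγ⟩
  exact ⟨fun h => skLocal_of_ringEquiv k e.symm h, fun h => skLocal_of_ringEquiv k e h⟩

theorem stableUnderGeneralization_skLocus_dedekind (A : Type u) [CommRing A]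
    [IsDedekindDomain A] (f : Y ⟶ Spec (CommRingCat.of A)) [Flat f] [LocallyOfFiniteType f]
    (k : ℕ) : StableUnderGeneralization (skLocus k f) := by
  intro y₀ y₁ hsp hy₀
  by_cases hf : f y₁ = f y₀
  · rw [mem_skLocus_iff] at hy₀ ⊢
    intro z hz hfz
    exact hy₀ z (hz.trans hsp) (hfz.trans hf)
  · have hsp' : f y₁ ⤳ f y₀ := hsp.map f.continuous
    have hle : (f y₁).asIdeal ≤ (f y₀).asIdeal :=
      (PrimeSpectrum.le_iff_specializes _ _).mpr hsp'
    have hbot : (f y₁).asIdeal = ⊥ := by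
      by_contra hne
      have hmax : (f y₁).asIdeal.IsMaximal := (f y₁).isPrime.isMaximal hne
      have : (f y₁).asIdeal = (f y₀).asIdeal := hmax.eq_of_le (f y₀).isPrime.ne_top hle
      exact hf (PrimeSpectrum.ext this)
    have h0 : HasSk k (Y.presheaf.stalk y₀) (Y.presheaf.stalk y₀) :=
      hasSk_stalk_of_mem_skLocus_dedekind A f y₀ (Flat.stalkMap f y₀) k hy₀
    rw [hasSk_stalk_iff] at h0
    rw [mem_skLocus_iff]
    intro z hz hfz
    rw [goodPt_iff_of_maximalIdeal_eq_bot f z ?_ k]
    · exact h0 z (hz.trans hsp)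
    · rw [hfz]
      exact maximalIdeal_stalk_Spec_eq_bot A (f y₁) hbot

set_option maxHeartbeats 1000000 in
/-- **(G)**: over a locally Noetherian base, the fibrewise `(S_k)`-locus of a flat morphism locally
of finite type is stable under generization. -/
theorem stableUnderGeneralization_skLocus {X S : Scheme.{u}} [IsLocallyNoetherian S]
    (f : X ⟶ S) [Flat f] [LocallyOfFiniteType f] (k : ℕ) :
    StableUnderGeneralization (skLocus k f) := by
  intro x₀ x₁ hsp hx₀
  by_cases hne : x₁ = x₀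
  · rw [hne]; exact hx₀
  haveI : IsLocallyNoetherian X := LocallyOfFiniteType.isLocallyNoetherian f
  obtain ⟨A, h, hdvr, hcl, hgen⟩ :=
    Groth.Agent.Lib.Helper4.DomDVR.S4450_main (𝟙 X) x₁ x₀ hsp (Ne.symm hne)
  haveI := hdvr
  let f' : pullback f (h ≫ f) ⟶ Spec (CommRingCat.of A) := pullback.snd f (h ≫ f)
  let g' : pullback f (h ≫ f) ⟶ X := pullback.fst f (h ≫ f)
  have hsq : IsPullback g' f' f (h ≫ f) := IsPullback.of_hasPullback _ _
  let σ : Spec (CommRingCat.of A) ⟶ pullback f (h ≫ f) :=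
    pullback.lift h (𝟙 _) (by simp)
  have hσg : σ ≫ g' = h := pullback.lift_fst _ _ _
  have hbc := skLocus_baseChange k f (h ≫ f) f' g' hsq
  haveI : Flat f' := MorphismProperty.pullback_snd _ _ inferInstance
  haveI : LocallyOfFiniteType f' := MorphismProperty.pullback_snd _ _ inferInstance
  have hG := stableUnderGeneralization_skLocus_dedekind A f' k
  let t₀ : Spec (CommRingCat.of A) := closedPoint A
  let t₁ : Spec (CommRingCat.of A) :=
    (Spec.map (CommRingCat.ofHom A.subtype)) (closedPoint (X.residueField x₁))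
  have ht : t₁ ⤳ t₀ := specializes_closedPoint t₁
  have h0 : g' (σ t₀) = x₀ := by
    rw [← Scheme.Hom.comp_apply, hσg]; exact hcl
  have h1 : g' (σ t₁) = x₁ := by
    rw [← Scheme.Hom.comp_apply, hσg]
    change h ((Spec.map (CommRingCat.ofHom A.subtype)) (closedPoint (X.residueField x₁))) = x₁
    rw [← Scheme.Hom.comp_apply, hgen, Category.comp_id]
    exact Scheme.fromSpecResidueField_apply x₁ _
  have hy₀ : σ t₀ ∈ skLocus k f' := by
    rw [hbc, Set.mem_preimage, h0]; exact hx₀
  have hy₁ : σ t₁ ∈ skLocus k f' := hG (ht.map σ.continuous) hy₀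
  rw [hbc, Set.mem_preimage, h1] at hy₁
  exact hy₁

end Groth.Agent.Lead.SkLoc
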