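import Mathlib
import Groth.Prelude
import Groth.Agent.Lib.Lead.SkLoc6
import Groth.Agent.Lib.Lead.CoprofOpen5

set_option autoImplicit false
set_option backward.isDefEq.respectTransparency.types false
set_option synthInstance.maxHeartbeats 400000
set_option linter.style.haveILetI false
set_option linter.unusedSectionVars false
universe u

open CategoryTheory CategoryTheory.Limits AlgebraicGeometry IsLocalRing TopologicalSpace Topology

namespace Groth.Agent.Lead.SkLoc

open LocCoh Groth.Agent.Lead.FibCons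

theorem fibLocus_skLocus (k : ℕ) : FibLocus (fun {X S : Scheme.{u}} (f : X ⟶ S) => skLocus k f) where
  baseChange := fun f _ g f' g' hsq => skLocus_baseChange k f g f' g' hsq
  openImm := fun j _ g => skLocus_comp_openImmersion k j g
  isOpen := fun h _ _ => isOpen_skLocus h k

/-- S2551 -/
theorem S2551_main {X Y : Scheme.{u}} (f : X ⟶ Y) [Flat f] [LocallyOfFinitePresentation f]
    (k : ℕ) :
    IsOpen {x : X | LocCoh.HasSk k ((f.fiber (f.base x)).presheaf.stalk (f.asFiber x))
      ((f.fiber (f.base x)).presheaf.stalk (f.asFiber x))} :=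
  isOpen_skLocus f k

/-- S3422 -/
theorem S3422_main {X S : Scheme.{u}} (f : X ⟶ S) [LocallyOfFinitePresentation f] (k : ℕ) :
    IsLocallyConstructible {x : X |
      LocCoh.HasSk k ((f.fiber (f.base x)).presheaf.stalk (f.asFiber x))
        ((f.fiber (f.base x)).presheaf.stalk (f.asFiber x))} :=
  (fibLocus_skLocus k).isLocallyConstructible f

/-- S2555 -/
theorem S2555_main {X Y : Scheme.{u}} (f : X ⟶ Y) [IsProper f]
    [Flat f] [LocallyOfFinitePresentation f] (k : ℕ) :
    IsOpen {y : Y | ∀ x : ↥(f.fiber y), LocCoh.HasSk k ((f.fiber y).presheaf.stalk x)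
      ((f.fiber y).presheaf.stalk x)} := by
  have h1 : IsClosed (f '' (skLocus k f)ᶜ) :=
    f.isClosedMap _ (isOpen_skLocus f k).isClosed_compl
  convert h1.isOpen_compl using 1
  ext y
  simp only [Set.mem_setOf_eq, Set.mem_compl_iff, Set.mem_image, not_exists, not_and, not_not]
  constructor
  · intro h x hx hfx
    apply hx
    subst hfx
    exact h (f.asFiber x)
  · intro h x
    by_contra hne
    have hx : f.fiberι y x ∉ skLocus k f := by
      intro hmem
      apply hne
      exact (hasSk_fiber_congr f k (f.asFiber (f.fiberι y x)) x (f.fiberι_asFiber _)).mp hmem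
    exact h (f.fiberι y x) hx (Groth.Agent.Helper3.FibStalk.apply_fiberι f y x)

/-- S4962 -/
theorem S4962_main {X Y : Scheme.{u}} (f : X ⟶ Y) [LocallyOfFinitePresentation f] (k : ℕ) :
    IsOpen {x : X | (f.stalkMap x).hom.Flat ∧
      LocCoh.HasSk k ((f.fiber (f.base x)).presheaf.stalk (f.asFiber x))
        ((f.fiber (f.base x)).presheaf.stalk (f.asFiber x))} := by
  have hopen := Groth.Agent.Lead.FlatLoc.isOpen_flatLocus_of_locallyOfFinitePresentation f
  let V : X.Opens := ⟨{x | (f.stalkMap x).hom.Flat}, hopen⟩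
  haveI : Flat (V.ι ≫ f) := by
    apply Flat.of_stalkMap
    intro v
    exact (Groth.Agent.Lib.Helper6.EtLoc.flat_stalkMap_comp_iff V.ι f v).mp v.2
  have h1 := isOpen_skLocus (V.ι ≫ f) k
  rw [skLocus_comp_openImmersion] at h1
  have h2 := V.ι.isOpenEmbedding.isOpenMap _ h1
  convert h2 using 1
  ext x
  constructor
  · rintro ⟨hx1, hx2⟩
    exact ⟨⟨x, hx1⟩, hx2, rfl⟩
  · rintro ⟨v, hv, rfl⟩
    exact ⟨v.2, hv⟩

end Groth.Agent.Lead.SkLoc
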