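import Mathlib
import Groth.Prelude
import Groth.Agent.Lib.Lead.SkLoc7
import Groth.Agent.Lib.Lead.FibCons3

set_option autoImplicit false
set_option backward.isDefEq.respectTransparency.types false
set_option synthInstance.maxHeartbeats 400000
set_option linter.style.haveILetI false
set_option linter.unusedSectionVars false
universe u

open CategoryTheory CategoryTheory.Limits AlgebraicGeometry IsLocalRing TopologicalSpace Topology

namespace Groth.Agent.Lead.RkLoc

open LocCoh Groth.Agent.Lead.FibCons Groth.Agent.Lead.SkLoc Groth.Agent.Helper3.FibStalk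
  Groth.Agent.Helper3.FibDepth Groth.Agent.Helper8.GorFlat Groth.Agent.Lead.CMAt
  Groth.Agent.Lib.Helper6.EtLoc
open Groth.Agent.Lib.Helper4.FibDim1 Groth.Agent.Lib.Helper4.FibDim2

variable {X S : Scheme.{u}}

/-- statements about a point of a fibre only depend on the image point in the total space -/
theorem fiber_congr (f : X ⟶ S) (P : ∀ y : S, f.fiber y → Prop) {y₁ y₂ : S} (w₁ : f.fiber y₁)
    (w₂ : f.fiber y₂) (h : f.fiberι y₁ w₁ = f.fiberι y₂ w₂) : P y₁ w₁ ↔ P y₂ w₂ := by
  have hy : y₁ = y₂ := by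
    rw [← apply_fiberι f y₁ w₁, ← apply_fiberι f y₂ w₂, h]
  subst hy
  obtain rfl : w₁ = w₂ := (f.fiberι y₁).isEmbedding.injective h
  exact Iff.rfl

/-- a "bad point" for `(R_k)`: the fibre is not smooth there, and the local ring of the fibre has
dimension at most `k` -/
def BadPt (k : ℕ) (f : X ⟶ S) (z : X) : Prop :=
  z ∉ smLocus f ∧ ringKrullDim ((f.fiber (f z)).presheaf.stalk (f.asFiber z)) ≤ k

/-- the locus where the fibre is geometrically `(R_k)` -/
def rkLocus (k : ℕ) (f : X ⟶ S) : Set X :=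
  {x | ∀ z : X, z ⤳ x → f z = f x → ¬ BadPt k f z}

/-- pointwise version over a fixed base -/
def RkAt (n : ℕ) {W T : Scheme.{u}} (h : W ⟶ T) (w : W) : Prop :=
  ∀ z : W, z ⤳ w → ringKrullDim (W.presheaf.stalk z) ≤ n → (h.stalkMap z).hom.FormallySmooth

theorem badPt_iff (k : ℕ) (f : X ⟶ S) (y : S) (w : f.fiber y) :
    BadPt k f (f.fiberι y w) ↔
      ¬ ((f.fiberToSpecResidueField y).stalkMap w).hom.FormallySmooth ∧
        ringKrullDim ((f.fiber y).presheaf.stalk w) ≤ k := by
  have h : f.fiberι (f (f.fiberι y w)) (f.asFiber (f.fiberι y w)) = f.fiberι y w :=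
    f.fiberι_asFiber _
  exact fiber_congr f (fun y w => ¬ ((f.fiberToSpecResidueField y).stalkMap w).hom.FormallySmooth ∧
    ringKrullDim ((f.fiber y).presheaf.stalk w) ≤ k) _ _ h

theorem mem_rkLocus_iff_rkAt (k : ℕ) (f : X ⟶ S) (x : X) :
    x ∈ rkLocus k f ↔ RkAt k (f.fiberToSpecResidueField (f x)) (f.asFiber x) := by
  constructor
  · intro h z hz hdim
    by_contra hns
    have hz0 : f.fiberι (f x) z ⤳ x := by
      have := hz.map (f.fiberι (f x)).continuous
      rwa [f.fiberι_asFiber] at this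
    exact h _ hz0 (apply_fiberι f (f x) z) ((badPt_iff k f (f x) z).mpr ⟨hns, hdim⟩)
  · intro h z hzx hfz hbad
    obtain ⟨w', hw'⟩ : z ∈ Set.range (f.fiberι (f x)) := by
      rw [Scheme.Hom.range_fiberι]; exact hfz
    have hsp : w' ⤳ f.asFiber x := by
      rw [← (f.fiberι (f x)).isEmbedding.isInducing.specializes_iff, hw', f.fiberι_asFiber]
      exact hzx
    rw [← hw', badPt_iff] at hbad
    exact hbad.1 (h w' hsp hbad.2)

section BaseField

variable {W W' : Scheme.{u}} (k k' : Type u) [Field k] [Field k'] (ι : k →+* k')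
  (h : W ⟶ Spec (CommRingCat.of k)) (h' : W' ⟶ Spec (CommRingCat.of k')) (h₀ : W' ⟶ W)
  (sq : IsPullback h₀ h' h (Spec.map (CommRingCat.ofHom ι)))

include sq in
theorem dim_stalk_le_of_field_baseChange [IsLocallyNoetherian W] [IsLocallyNoetherian W']
    (z' : W') :
    ringKrullDim (W.presheaf.stalk (h₀ z')) ≤ ringKrullDim (W'.presheaf.stalk z') := by
  haveI : Flat h₀ := flat_of_field_baseChange k k' ι h h' h₀ sq
  obtain ⟨γ, hγ, hk⟩ := exists_fibre_presentation h₀ z'
  have D : FLData (h₀.stalkMap z').hom γ := ⟨Flat.stalkMap h₀ z', inferInstance, hγ, hk⟩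
  rw [ringKrullDim_eq_add_of_flData D]
  exact le_add_of_nonneg_right ringKrullDim_nonneg_of_nontrivial

include sq in
set_option maxHeartbeats 1000000 in
theorem rkAt_field_baseChange_iff [LocallyOfFinitePresentation h] (n : ℕ) (w' : W') :
    RkAt n h' w' ↔ RkAt n h (h₀ w') := by
  haveI : LocallyOfFinitePresentation h' :=
    MorphismProperty.of_isPullback (P := @LocallyOfFinitePresentation) sq inferInstance
  haveI : IsLocallyNoetherian W := LocallyOfFiniteType.isLocallyNoetherian h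
  haveI : IsLocallyNoetherian W' := LocallyOfFiniteType.isLocallyNoetherian h'
  haveI : Flat h₀ := flat_of_field_baseChange k k' ι h h' h₀ sq
  haveI : Flat (Spec.map (CommRingCat.ofHom ι)) :=
    Flat.SpecMap_iff.mpr (RingHom.Flat.of_isField (Field.toIsField _) _)
  have hsm : ∀ z' : W', (h'.stalkMap z').hom.FormallySmooth ↔
      (h.stalkMap (h₀ z')).hom.FormallySmooth := fun z' =>
    ⟨fun hz => mem_smoothLocus_of_flat h (Spec.map (CommRingCat.ofHom ι)) h' h₀ sq z' hz,
      fun hz => mem_smoothLocus_of_isPullback h (Spec.map (CommRingCat.ofHom ι)) h' h₀ sq z' hz⟩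
  constructor
  · intro H z hz hdim
    obtain ⟨z'₀, hz'₀, hfz'₀⟩ := Flat.generalizingMap h₀ hz
    obtain ⟨zm, hzm, hmax⟩ := exists_isMax_ge_fib h₀ z ⟨z'₀, hfz'₀⟩
    obtain ⟨zm1, hzm1⟩ := zm
    subst hzm1
    have hsp : zm1 ⤳ z'₀ := hzm
    obtain ⟨γ, hγ, hk⟩ := exists_fibre_presentation h₀ zm1
    have D : FLData (h₀.stalkMap zm1).hom γ := ⟨Flat.stalkMap h₀ zm1, inferInstance, hγ, hk⟩
    have hdim0 : ringKrullDim ((h₀.fiber (h₀ zm1)).presheaf.stalk (h₀.asFiber zm1)) = 0 := by
      rw [stalk_fiber_dim h₀ zm1, (Order.coheight_eq_zero).mpr hmax]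
      rfl
    have hd : ringKrullDim (W'.presheaf.stalk zm1) ≤ n := by
      rw [ringKrullDim_eq_add_of_flData D, hdim0, add_zero]
      exact hdim
    exact (hsm zm1).mp (H zm1 (hsp.trans hz'₀) hd)
  · intro H z' hz' hdim
    exact (hsm z').mpr (H (h₀ z') (hz'.map h₀.continuous)
      ((dim_stalk_le_of_field_baseChange k k' ι h h' h₀ sq z').trans hdim))

end BaseField

set_option maxHeartbeats 1000000 in
theorem rkLocus_baseChange (n : ℕ) {X Y X' Y' : Scheme.{u}} (f : X ⟶ Y)
    [LocallyOfFinitePresentation f]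
    (g : Y' ⟶ Y) (f' : X' ⟶ Y') (g' : X' ⟶ X) (hsq : IsPullback g' f' f g) :
    rkLocus n f' = g' ⁻¹' rkLocus n f := by
  ext x'
  haveI : LocallyOfFinitePresentation f' :=
    MorphismProperty.of_isPullback (P := @LocallyOfFinitePresentation) hsq inferInstance
  haveI := lfp_fiber f (g (f' x'))
  obtain ⟨T, sq, hT⟩ := exists_fiber_square hsq (f' x')
  have h2 : f.fiberι (g (f' x')) (T (f'.asFiber x')) =
      f.fiberι (f (g' x')) (f.asFiber (g' x')) := by
    rw [← Scheme.Hom.comp_apply, hT, Scheme.Hom.comp_apply, f'.fiberι_asFiber,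
      f.fiberι_asFiber]
  have h3 := fiber_congr f (fun y w => RkAt n (f.fiberToSpecResidueField y) w) _ _ h2
  rw [Set.mem_preimage, mem_rkLocus_iff_rkAt, mem_rkLocus_iff_rkAt, ← h3]
  exact rkAt_field_baseChange_iff (Y.residueField (g (f' x'))) (Y'.residueField (f' x'))
    (g.residueFieldMap (f' x')).hom (f.fiberToSpecResidueField (g (f' x')))
    (f'.fiberToSpecResidueField (f' x')) T sq n (f'.asFiber x')

theorem badPt_comp_openImmersion (n : ℕ) {P Z S : Scheme.{u}} (j : P ⟶ Z)
    [IsOpenImmersion j] (g : Z ⟶ S) (y : P) : BadPt n (j ≫ g) y ↔ BadPt n g (j y) := by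
  unfold BadPt
  have h1 : y ∈ smLocus (j ≫ g) ↔ j y ∈ smLocus g := by
    rw [smLocus_comp_openImmersion]; rfl
  obtain ⟨e⟩ := Groth.Agent.Lead.CMQF.fiberStalk_equiv_of_openImmersion j g y
  rw [h1, ringKrullDim_eq_of_ringEquiv e]

theorem rkLocus_comp_openImmersion (n : ℕ) {P Z S : Scheme.{u}} (j : P ⟶ Z)
    [IsOpenImmersion j] (g : Z ⟶ S) : rkLocus n (j ≫ g) = j ⁻¹' rkLocus n g := by
  ext y
  constructor
  · intro h z hz hgz hbad
    have hzr : z ∈ Set.range j := hz.mem_open j.isOpenEmbedding.isOpen_range ⟨y, rfl⟩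
    obtain ⟨z', rfl⟩ := hzr
    have hz' : z' ⤳ y := (j.isOpenEmbedding.isInducing.specializes_iff).mp hz
    exact h z' hz' hgz ((badPt_comp_openImmersion n j g z').mpr hbad)
  · intro h z hz hgz hbad
    exact h (j z) (hz.map j.continuous) hgz ((badPt_comp_openImmersion n j g z).mp hbad)

end Groth.Agent.Lead.RkLoc
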