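import Mathlib
import Groth.Prelude
import Groth.Agent.Lib.Lead.RkLoc1

set_option autoImplicit false
set_option backward.isDefEq.respectTransparency.types false
set_option synthInstance.maxHeartbeats 400000
set_option linter.style.haveILetI false
set_option linter.unusedSectionVars false
universe u

open CategoryTheory CategoryTheory.Limits AlgebraicGeometry IsLocalRing TopologicalSpace Topology

namespace Groth.Agent.Lead.RkLoc

open LocCoh Groth.Agent.Lead.FibCons Groth.Agent.Lead.SkLoc Groth.Agent.Helper3.FibStalk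
open Groth.Agent.Lib.Helper4.FibDim1 Groth.Agent.Lib.Helper4.FibDim2

variable {X S : Scheme.{u}}

set_option maxHeartbeats 1000000 in
/-- near the generic point of an irreducible closed subset, the fibrewise maximal points of the
subset have the same fibre local dimension as the generic point -/
theorem lemmaK_dim (f : X ⟶ S) [LocallyOfFiniteType f] (T : Set X)
    (hTc : IsClosed T) (ζ : X) (hζ : IsGenericPoint ζ T) :
    ∃ O : Set X, IsOpen O ∧ ζ ∈ O ∧
      ∀ z ∈ T, z ∈ O → IsFibMax f T z →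
        ringKrullDim ((f.fiber (f z)).presheaf.stalk (f.asFiber z)) =
          ringKrullDim ((f.fiber (f ζ)).presheaf.stalk (f.asFiber ζ)) := by
  classical
  have hζT : ζ ∈ T := hζ.mem
  set 𝓘 := Scheme.IdealSheafData.vanishingIdeal (⟨T, hTc⟩ : Closeds X) with h𝓘
  set i := 𝓘.subschemeι with hi
  have hrange : Set.range i = T := by
    rw [hi, Scheme.IdealSheafData.range_subschemeι,
      Scheme.IdealSheafData.coe_support_vanishingIdeal]
    rfl
  obtain ⟨ζ', hζ'⟩ : ζ ∈ Set.range i := hrange ▸ hζT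
  set g := i ≫ f with hg
  obtain ⟨eX, heX⟩ := Groth.Agent.Lib.Helper4.FibDimComp1.exists_fibreDimAt_nat f ζ
  obtain ⟨eT, heT⟩ := Groth.Agent.Lib.Helper4.FibDimComp1.exists_fibreDimAt_nat g ζ'
  have hO₁ : IsOpen {x : X | FlatMor.fibreDimAt f x ≤ eX} :=
    Groth.Agent.Lib.Helper4.Chev2.S0402_main f eX
  have hV' : IsOpen {t : 𝓘.subscheme | FlatMor.fibreDimAt g t ≤ eT} :=
    Groth.Agent.Lib.Helper4.Chev2.S0402_main g eT
  have hO₂ : IsOpen (i '' {t : 𝓘.subscheme | FlatMor.fibreDimAt g t ≤ eT}ᶜ)ᶜ :=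
    (i.isClosedEmbedding.isClosedMap _ hV'.isClosed_compl).isOpen_compl
  refine ⟨{x : X | FlatMor.fibreDimAt f x ≤ eX} ∩
      (i '' {t : 𝓘.subscheme | FlatMor.fibreDimAt g t ≤ eT}ᶜ)ᶜ,
    hO₁.inter hO₂, ⟨heX.le, ?_⟩, ?_⟩
  · rintro ⟨t, ht, hti⟩
    have : t = ζ' := i.isClosedEmbedding.injective (hti.trans hζ'.symm)
    subst this
    exact ht heT.le
  · rintro z hzT ⟨hz1, hz2⟩ hmax
    obtain ⟨t, ht⟩ : z ∈ Set.range i := hrange ▸ hzT
    have hζz : ζ ⤳ z := hζ.specializes hzT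
    have hζ't : ζ' ⤳ t := by
      rw [← i.isClosedEmbedding.isEmbedding.isInducing.specializes_iff, hζ', ht]
      exact hζz
    obtain ⟨m, hm⟩ := Groth.Agent.Lib.Helper4.FibDimComp1.exists_fibreDimAt_nat f z
    have hmX : m = eX := by
      have h1 : (m : WithBot ℕ∞) ≤ eX := hm ▸ hz1
      have h2 : ζ ∈ {x : X | FlatMor.fibreDimAt f x ≤ m} :=
        hζz.mem_open (Groth.Agent.Lib.Helper4.Chev2.S0402_main f m) hm.le
      have h3 : (eX : WithBot ℕ∞) ≤ m := heX ▸ h2
      have h1' : m ≤ eX := by exact_mod_cast h1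
      have h3' : eX ≤ m := by exact_mod_cast h3
      omega
    obtain ⟨m', hm'⟩ := Groth.Agent.Lib.Helper4.FibDimComp1.exists_fibreDimAt_nat g t
    have hmT : m' = eT := by
      have h1 : (m' : WithBot ℕ∞) ≤ eT := by
        rw [← hm']
        by_contra hne
        exact hz2 ⟨t, hne, ht⟩
      have h2 : ζ' ∈ {x : 𝓘.subscheme | FlatMor.fibreDimAt g x ≤ m'} :=
        hζ't.mem_open (Groth.Agent.Lib.Helper4.Chev2.S0402_main g m') hm'.le
      have h3 : (eT : WithBot ℕ∞) ≤ m' := heT ▸ h2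
      have h1' : m' ≤ eT := by exact_mod_cast h1
      have h3' : eT ≤ m' := by exact_mod_cast h3
      omega
    have hmaxt : IsMax (⟨t, rfl⟩ : {t' : 𝓘.subscheme // g t' = g t}) := by
      intro b hb
      have hbt : b.1 ⤳ t := hb
      have h1 : i b.1 = z := by
        apply hmax (i b.1) (hrange ▸ ⟨b.1, rfl⟩)
        · rw [← ht]; exact hbt.map i.continuous
        · have h0 : f (i b.1) = f (i t) := b.2
          rw [ht] at h0
          exact h0
      have h2 : b.1 = t := i.isClosedEmbedding.injective (h1.trans ht.symm)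
      have : b = ⟨t, rfl⟩ := Subtype.ext h2
      rw [this]
    have hmaxζ : IsMax (⟨ζ', rfl⟩ : {t' : 𝓘.subscheme // g t' = g ζ'}) := by
      intro b hb
      have hbt : b.1 ⤳ ζ' := hb
      have h0 : i b.1 ⤳ ζ := by rw [← hζ']; exact hbt.map i.continuous
      have h1 : ζ ⤳ i b.1 := hζ.specializes (hrange ▸ ⟨b.1, rfl⟩)
      have h2 : i b.1 = i ζ' := by rw [hζ']; exact (h0.antisymm h1).eq
      have h3 : b.1 = ζ' := i.isClosedEmbedding.injective h2
      have : b = ⟨ζ', rfl⟩ := Subtype.ext h3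
      rw [this]
    have hdimt : ringKrullDim ((g.fiber (g t)).presheaf.stalk (g.asFiber t)) = 0 := by
      rw [stalk_fiber_dim g t, (Order.coheight_eq_zero).mpr hmaxt]; rfl
    have hdimζ : ringKrullDim ((g.fiber (g ζ')).presheaf.stalk (g.asFiber ζ')) = 0 := by
      rw [stalk_fiber_dim g ζ', (Order.coheight_eq_zero).mpr hmaxζ]; rfl
    have htrt : tr f z = eT := by
      have h1 := Groth.Agent.Helper2.FibDim.fibreDimAt_eq_stalk_add_tr g t
      have h3 : tr g t = tr f (i t) :=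
        Groth.Agent.Lib.Helper4.Equi10.tr_comp_closedImmersion f i t
      rw [hdimt, zero_add, hm', hmT, h3, ht] at h1
      exact_mod_cast h1.symm
    have htrζ : tr f ζ = eT := by
      have h1 := Groth.Agent.Helper2.FibDim.fibreDimAt_eq_stalk_add_tr g ζ'
      have h3 : tr g ζ' = tr f (i ζ') :=
        Groth.Agent.Lib.Helper4.Equi10.tr_comp_closedImmersion f i ζ'
      rw [hdimζ, zero_add, heT, h3, hζ'] at h1
      exact_mod_cast h1.symm
    obtain ⟨dz, rz, hrdz, hdz, hcz, hgz⟩ := exists_nat_data f z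
    obtain ⟨dζ, rζ, hrdζ, hdζ, hcζ, hgζ⟩ := exists_nat_data f ζ
    have hdd : dz = dζ := by
      have h1 := Groth.Agent.Helper2.FibDim.fibreDimAt_eq_stalk_add_tr f z
      have h2 := Groth.Agent.Helper2.FibDim.fibreDimAt_eq_stalk_add_tr f ζ
      rw [hm, hmX, hdz, htrt] at h1
      rw [heX, hdζ, htrζ] at h2
      have h1' : eX = dz + eT := by exact_mod_cast h1
      have h2' : eX = dζ + eT := by exact_mod_cast h2
      omega
    rw [hdz, hdζ, hdd]

set_option maxHeartbeats 1000000 in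
/-- abstract Noetherian induction: a closed set containing the bad fibrewise maximal points -/
theorem exists_closed_bad' (f : X ⟶ S) [NoetherianSpace X] (Bad : X → Prop)
    (hK : ∀ (T : Set X), IsClosed T → ∀ ζ : X, IsGenericPoint ζ T → ∃ O : Set X, IsOpen O ∧ ζ ∈ O ∧
      ∀ z ∈ T, z ∈ O → IsFibMax f T z → (Bad z ↔ Bad ζ))
    (hG : ∀ ζ x : X, Bad ζ → ζ ⤳ x → ∃ z : X, z ⤳ x ∧ f z = f x ∧ Bad z)
    (T : Closeds X) :
    ∃ N : Set X, IsClosed N ∧ N ⊆ {x | ∃ z : X, z ⤳ x ∧ f z = f x ∧ Bad z} ∧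
      ∀ z ∈ (T : Set X), Bad z → IsFibMax f T z → z ∈ N := by
  apply wellFounded_lt.induction T; clear T
  intro T H
  rcases eq_or_ne T ⊥ with rfl | h₀
  · exact ⟨∅, isClosed_empty, Set.empty_subset _, fun z hz => absurd hz (Set.notMem_empty z)⟩
  · by_cases h₁ : IsPreirreducible (T : Set X)
    · have hirr : IsIrreducible (T : Set X) := ⟨Closeds.coe_nonempty.2 h₀, h₁⟩
      set ζ := hirr.genericPoint with hζdef
      have hζ : IsGenericPoint ζ (T : Set X) := hirr.isGenericPoint_genericPoint T.isClosed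
      obtain ⟨O, hO, hζO, hKO⟩ := hK T T.isClosed ζ hζ
      have hlt : (T ⊓ ⟨Oᶜ, hO.isClosed_compl⟩ : Closeds X) < T := by
        refine lt_of_le_of_ne inf_le_left ?_
        intro heq
        have h1 : ζ ∈ ((T ⊓ ⟨Oᶜ, hO.isClosed_compl⟩ : Closeds X) : Set X) := by
          rw [heq]; exact hζ.mem
        exact h1.2 hζO
      obtain ⟨N', hN'c, hN'sub, hN'⟩ := H _ hlt
      by_cases hbad : Bad ζ
      · refine ⟨T, T.isClosed, ?_, fun z hzT _ _ => hzT⟩
        intro x hxT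
        exact hG ζ x hbad (hζ.specializes hxT)
      · refine ⟨N', hN'c, hN'sub, ?_⟩
        intro z hzT hzbad hzmax
        by_cases hzO : z ∈ O
        · exact absurd ((hKO z hzT hzO hzmax).mp hzbad) hbad
        · exact hN' z ⟨hzT, hzO⟩ hzbad (hzmax.mono f Set.inter_subset_left)
    · simp only [isPreirreducible_iff_isClosed_union_isClosed, not_forall, not_or] at h₁
      obtain ⟨z₁, z₂, hz₁, hz₂, h, hz₁', hz₂'⟩ := h₁
      lift z₁ to Closeds X using hz₁
      lift z₂ to Closeds X using hz₂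
      obtain ⟨N₁, hN₁c, hN₁sub, hN₁⟩ := H (T ⊓ z₁) (inf_lt_left.2 hz₁')
      obtain ⟨N₂, hN₂c, hN₂sub, hN₂⟩ := H (T ⊓ z₂) (inf_lt_left.2 hz₂')
      refine ⟨N₁ ∪ N₂, hN₁c.union hN₂c, Set.union_subset hN₁sub hN₂sub, ?_⟩
      intro z hzT hzbad hzmax
      rcases h hzT with h1 | h2
      · exact Or.inl (hN₁ z ⟨hzT, h1⟩ hzbad (hzmax.mono f Set.inter_subset_left))
      · exact Or.inr (hN₂ z ⟨hzT, h2⟩ hzbad (hzmax.mono f Set.inter_subset_left))

/-- **Theorem M'**: the fibrewise specialization closure of a set of bad points is closed. -/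
theorem isClosed_fibSpecClosure (f : X ⟶ S) [NoetherianSpace X] (Bad : X → Prop)
    (hK : ∀ (T : Set X), IsClosed T → ∀ ζ : X, IsGenericPoint ζ T → ∃ O : Set X, IsOpen O ∧ ζ ∈ O ∧
      ∀ z ∈ T, z ∈ O → IsFibMax f T z → (Bad z ↔ Bad ζ))
    (hG : ∀ ζ x : X, Bad ζ → ζ ⤳ x → ∃ z : X, z ⤳ x ∧ f z = f x ∧ Bad z)
    (Z : Set X) (hZ : IsClosed Z) (hBZ : ∀ z, Bad z → z ∈ Z)
    (hZB : ∀ z z'' : X, Bad z → z'' ∈ Z → z'' ⤳ z → f z'' = f z → Bad z'') :
    IsClosed {x | ∃ z : X, z ⤳ x ∧ f z = f x ∧ Bad z} := by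
  obtain ⟨N, hNc, hNsub, hN⟩ := exists_closed_bad' f Bad hK hG ⟨Z, hZ⟩
  have : {x | ∃ z : X, z ⤳ x ∧ f z = f x ∧ Bad z} = N := by
    apply Set.Subset.antisymm
    · rintro x ⟨z, hzx, hfz, hbad⟩
      obtain ⟨z'', hz''Z, hz''z, hfz'', hmax⟩ := exists_fibMax_ge f Z hZ z (hBZ z hbad)
      have h1 : Bad z'' := hZB z z'' hbad hz''Z hz''z hfz''
      exact (hz''z.trans hzx).mem_closed hNc (hN z'' hz''Z h1 hmax)
    · exact hNsub
  rw [this]
  exact hNc

end Groth.Agent.Lead.RkLoc
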