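import Mathlib
import Groth.Prelude
import Groth.Agent.Lib.Lead.RkLoc2
import Groth.Agent.Lib.Helper8.Depth22
import Groth.Agent.S1560

set_option autoImplicit false
set_option backward.isDefEq.respectTransparency.types false
set_option synthInstance.maxHeartbeats 400000
set_option linter.style.haveILetI false
set_option linter.unusedSectionVars false
universe u

open CategoryTheory CategoryTheory.Limits AlgebraicGeometry IsLocalRing TopologicalSpace Topology

namespace Groth.Agent.Lead.RkLoc

open LocCoh Groth.Agent.Helper8.FlatReg Groth.Agent.Lead.Coprof Groth.Agent.Lead.SkLoc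
  Groth.Agent.Helper3.FibDepth

section Ring

variable {C : Type u} [CommRing C] [IsLocalRing C] [IsNoetherianRing C]

/-- Krull's principal ideal theorem in the form we need -/
theorem ringKrullDim_quotient_le_one (p : Ideal C) [p.IsPrime] (t : C) (ht : t ∈ maximalIdeal C)
    (hmin : ∀ q : Ideal C, q.IsPrime → p ≤ q → t ∈ q → q = maximalIdeal C) :
    ringKrullDim (C ⧸ p) ≤ 1 := by
  haveI : IsLocalRing (C ⧸ p) :=
    IsLocalRing.of_surjective' (Ideal.Quotient.mk p) Ideal.Quotient.mk_surjective
  have hmem : maximalIdeal (C ⧸ p) ∈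
      (Ideal.span {Ideal.Quotient.mk p t} : Ideal (C ⧸ p)).minimalPrimes := by
    refine ⟨⟨inferInstance, ?_⟩, ?_⟩
    · rw [Ideal.span_singleton_le_iff_mem, mem_maximalIdeal, mem_nonunits_iff]
      intro hu
      have : IsUnit t := by
        haveI : IsLocalHom (Ideal.Quotient.mk p) :=
          IsLocalHom.of_surjective _ Ideal.Quotient.mk_surjective
        exact isUnit_of_map_unit (Ideal.Quotient.mk p) t hu
      exact ht this
    · rintro q' ⟨hq'p, hq't⟩ hq'le
      haveI := hq'p
      have h1 : (q'.comap (Ideal.Quotient.mk p)) = maximalIdeal C := by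
        apply hmin _ (Ideal.IsPrime.comap _)
        · intro a ha
          rw [Ideal.mem_comap, Ideal.Quotient.eq_zero_iff_mem.mpr ha]
          exact q'.zero_mem
        · rw [Ideal.mem_comap]
          exact hq't (Ideal.mem_span_singleton_self _)
      intro a ha
      obtain ⟨b, rfl⟩ := Ideal.Quotient.mk_surjective a
      have hb : b ∈ maximalIdeal C := by
        rw [mem_maximalIdeal, mem_nonunits_iff]
        intro hu
        rw [mem_maximalIdeal, mem_nonunits_iff] at ha
        exact ha (hu.map _)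
      rw [← h1, Ideal.mem_comap] at hb
      exact hb
  have h2 := Ideal.height_le_one_of_isPrincipal_of_mem_minimalPrimes _ _ hmem
  rw [← IsLocalRing.maximalIdeal_height_eq_ringKrullDim]
  exact_mod_cast h2

set_option maxHeartbeats 1000000 in
/-- the key numerical lemma for `(R_k) + (S_{k+1})` over a discrete valuation ring -/
theorem dim_fibre_le_of_depth {F : Type u} [CommRing F] [IsLocalRing F] [IsNoetherianRing F]
    (t : C) (ht : t ∈ maximalIdeal C) (hreg : IsSMulRegular C t)
    (e : (C ⧸ Ideal.span {t}) ≃+* F) (p : Ideal C) [p.IsPrime]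
    (hmin : ∀ q : Ideal C, q.IsPrime → p ≤ q → t ∈ q → q = maximalIdeal C) (k : ℕ)
    (hp : ringKrullDim (Localization.AtPrime p) ≤ k) (hS : SkLocal (k + 1) F) :
    ringKrullDim F ≤ k := by
  have h1 := ringKrullDim_quotient_le_one p t ht hmin
  haveI : Nontrivial (LocalizedModule p.primeCompl C) :=
    Groth.Agent.Helper8.Depth.nontrivial_localizedModule_self C p
  have h2 := Groth.Agent.Helper8.Depth.depth_le_depth_localizedModule_add p C
  rw [Groth.Agent.Helper8.Depth.depth_localizedModule_self] at h2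
  have h3 := depth_le_dim' (Localization.AtPrime p)
  haveI : Nontrivial (C ⧸ Ideal.span {t}) := e.toEquiv.nontrivial
  haveI : IsLocalRing (C ⧸ Ideal.span {t}) :=
    IsLocalRing.of_surjective' (Ideal.Quotient.mk _) Ideal.Quotient.mk_surjective
  have h4 := Groth.Agent.Helper8.Sk.depth_quotient_add_one C t ht hreg
  have h5 := Groth.Agent.Helper8.Serre.depth_self_eq_of_ringEquiv e
  obtain ⟨d, r, hd, hr, hrd⟩ := exists_nat_depth F
  rw [skLocal_iff_nat (k + 1) F d r hd hr] at hS
  rw [hd]
  have h6 : depth C C = ((r + 1 : ℕ) : ℕ∞) := by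
    rw [← h4, ← h5, hr]; rfl
  rw [h6] at h2
  have h7 : (((r + 1 : ℕ) : ℕ∞) : WithBot ℕ∞) ≤ (k : WithBot ℕ∞) + 1 :=
    h2.trans (add_le_add (h3.trans hp) h1)
  have h8 : r + 1 ≤ k + 1 := by exact_mod_cast h7
  have h9 : d ≤ k := by omega
  exact_mod_cast h9

end Ring


open Groth.Agent.Helper3.FibStalk Groth.Agent.Lead.FibCons

variable {Y T : Scheme.{u}}

theorem fiberStalk_equiv_of_maximalIdeal_eq_bot (f : Y ⟶ T) (z : Y)
    (hz : maximalIdeal (T.presheaf.stalk (f z)) = ⊥) :
    Nonempty (Y.presheaf.stalk z ≃+* (f.fiber (f z)).presheaf.stalk (f.asFiber z)) := by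
  obtain ⟨γ, hγ, hk⟩ := exists_fibre_presentation f z
  rw [hz, Ideal.map_bot] at hk
  exact ⟨RingEquiv.ofBijective γ ⟨(RingHom.injective_iff_ker_eq_bot γ).mpr hk, hγ⟩⟩

theorem dim_stalk_fromSpecStalk (z : Y) (p : Spec (Y.presheaf.stalk z)) :
    ringKrullDim (Y.presheaf.stalk (Y.fromSpecStalk z p)) =
      ringKrullDim (Localization.AtPrime p.asIdeal) := by
  haveI := Groth.Agent.S1560.flat_fromSpecStalk Y z
  have hbij := Groth.Agent.S1560.stalkMap_bijective_of_flat_preimmersion (Y.fromSpecStalk z) p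
  let e1 : Y.presheaf.stalk (Y.fromSpecStalk z p) ≃+*
      (Spec (Y.presheaf.stalk z)).presheaf.stalk p := RingEquiv.ofBijective _ hbij
  rw [ringKrullDim_eq_of_ringEquiv e1]
  letI : Algebra (Y.presheaf.stalk z) ((Spec (Y.presheaf.stalk z)).presheaf.stalk p) :=
    StructureSheaf.stalkAlgebra (Y.presheaf.stalk z) p
  haveI : IsLocalization.AtPrime ((Spec (Y.presheaf.stalk z)).presheaf.stalk p) p.asIdeal :=
    StructureSheaf.IsLocalization.to_stalk (Y.presheaf.stalk z) p
  rw [IsLocalization.AtPrime.ringKrullDim_eq_height p.asIdeal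
    ((Spec (Y.presheaf.stalk z)).presheaf.stalk p),
    IsLocalization.AtPrime.ringKrullDim_eq_height p.asIdeal (Localization.AtPrime p.asIdeal)]

set_option maxHeartbeats 2000000 in
/-- the key transfer of bad points over a Dedekind base -/
theorem exists_badPt_of_specializes_dedekind (A : Type u) [CommRing A] [IsDedekindDomain A]
    (f : Y ⟶ Spec (CommRingCat.of A)) [Flat f] [LocallyOfFinitePresentation f] (k : ℕ)
    (hS : ∀ y : Y, y ∈ skLocus (k + 1) f) (ζ y₀ : Y) (hζ : BadPt k f ζ) (hsp : ζ ⤳ y₀) :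
    ∃ z : Y, z ⤳ y₀ ∧ f z = f y₀ ∧ BadPt k f z := by
  by_cases hf : f ζ = f y₀
  · exact ⟨ζ, hsp, hf, hζ⟩
  haveI : IsNoetherianRing A := IsDedekindRing.toIsNoetherian
  haveI : IsLocallyNoetherian (Spec (CommRingCat.of A)) := isLocallyNoetherian_Spec.mpr ‹_›
  haveI : IsLocallyNoetherian Y := LocallyOfFiniteType.isLocallyNoetherian f
  have hsp' : f ζ ⤳ f y₀ := hsp.map f.continuous
  have hle : (f ζ).asIdeal ≤ (f y₀).asIdeal :=
    (PrimeSpectrum.le_iff_specializes _ _).mpr hsp'
  have hbot : (f ζ).asIdeal = ⊥ := by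
    by_contra hne
    have hmax : (f ζ).asIdeal.IsMaximal := (f ζ).isPrime.isMaximal hne
    have : (f ζ).asIdeal = (f y₀).asIdeal := hmax.eq_of_le (f y₀).isPrime.ne_top hle
    exact hf (PrimeSpectrum.ext this)
  have hne : (f y₀).asIdeal ≠ ⊥ := by
    intro h0
    exact hf (PrimeSpectrum.ext (hbot.trans h0.symm))
  obtain ⟨z, hzT, hzy, hfz, hmax⟩ := exists_fibMax_ge f (closure {ζ}) isClosed_closure y₀
    (specializes_iff_mem_closure.mp hsp)
  have hζz : ζ ⤳ z := specializes_iff_mem_closure.mpr hzT
  refine ⟨z, hzy, hfz, ?_, ?_⟩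
  · intro hz
    have hopen : IsOpen (smLocus f) := by
      rw [smLocus_eq_of_flat]; exact f.smoothLocus.isOpen
    exact hζ.1 (hζz.mem_open hopen hz)
  · obtain ⟨hdom, ϖ, hϖ⟩ := stalk_Spec_dedekind A (f z)
    have hϖ0 : ϖ ≠ 0 := by
      intro h0
      rw [h0, Ideal.span_singleton_eq_bot.mpr rfl] at hϖ
      letI : Algebra A ((Spec (CommRingCat.of A)).presheaf.stalk (f z)) :=
        StructureSheaf.stalkAlgebra A (f z)
      haveI : IsLocalization.AtPrime ((Spec (CommRingCat.of A)).presheaf.stalk (f z))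
          (f z).asIdeal := StructureSheaf.IsLocalization.to_stalk A (f z)
      have hfld : IsField ((Spec (CommRingCat.of A)).presheaf.stalk (f z)) :=
        IsLocalRing.isField_iff_maximalIdeal_eq.mpr hϖ
      have hne' : (f z).asIdeal ≠ ⊥ := by rw [hfz]; exact hne
      exact IsLocalization.AtPrime.not_isField A hne' _ hfld
    obtain ⟨γ, hγ, hk⟩ := exists_fibre_presentation f z
    have hker : RingHom.ker γ = Ideal.span {(f.stalkMap z).hom ϖ} := by
      rw [hk, hϖ, Ideal.map_span, Set.image_singleton]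
    have hreg : IsSMulRegular (Y.presheaf.stalk z) ((f.stalkMap z).hom ϖ) := by
      letI := (f.stalkMap z).hom.toAlgebra
      haveI : Module.Flat ((Spec (CommRingCat.of A)).presheaf.stalk (f z))
          (Y.presheaf.stalk z) := Flat.stalkMap f z
      have h1 : IsSMulRegular (Y.presheaf.stalk z) ϖ :=
        Module.Flat.isSMulRegular_of_nonZeroDivisors (mem_nonZeroDivisors_of_ne_zero hϖ0)
      intro a b hab
      apply h1
      simpa [Algebra.smul_def, RingHom.algebraMap_toAlgebra] using hab
    have hmem : (f.stalkMap z).hom ϖ ∈ maximalIdeal (Y.presheaf.stalk z) := by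
      have h1 : ϖ ∈ maximalIdeal ((Spec (CommRingCat.of A)).presheaf.stalk (f z)) := by
        rw [hϖ]; exact Ideal.mem_span_singleton_self ϖ
      rw [mem_maximalIdeal, mem_nonunits_iff] at h1 ⊢
      exact fun hu => h1 (isUnit_of_map_unit (f.stalkMap z).hom ϖ hu)
    let e : (Y.presheaf.stalk z ⧸ Ideal.span {(f.stalkMap z).hom ϖ}) ≃+*
        (f.fiber (f z)).presheaf.stalk (f.asFiber z) :=
      (Ideal.quotEquivOfEq hker.symm).trans (RingHom.quotientKerEquivOfSurjective hγ)
    obtain ⟨p, hp⟩ : ζ ∈ Set.range (Y.fromSpecStalk z) := by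
      rw [Scheme.range_fromSpecStalk]; exact hζz
    subst hp
    haveI : p.asIdeal.IsPrime := p.isPrime
    have hmin : ∀ q : Ideal (Y.presheaf.stalk z), q.IsPrime → p.asIdeal ≤ q →
        (f.stalkMap z).hom ϖ ∈ q → q = maximalIdeal (Y.presheaf.stalk z) := by
      intro q hq hpq htq
      let q' : Spec (Y.presheaf.stalk z) := ⟨q, hq⟩
      have h1 : Y.fromSpecStalk z q' = z := by
        apply hmax
        · have h5 : p ⤳ q' := (PrimeSpectrum.le_iff_specializes p q').mp hpq
          exact specializes_iff_mem_closure.mp (h5.map (Y.fromSpecStalk z).continuous)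
        · have h5 : Y.fromSpecStalk z q' ∈ Set.range (Y.fromSpecStalk z) := ⟨q', rfl⟩
          rw [Scheme.range_fromSpecStalk] at h5
          exact h5
        · have nat := Scheme.SpecMap_stalkMap_fromSpecStalk f (x := z)
          have h2 : f (Y.fromSpecStalk z q') =
              (Spec (CommRingCat.of A)).fromSpecStalk (f z) (Spec.map (f.stalkMap z) q') := by
            rw [← Scheme.Hom.comp_apply, ← Scheme.Hom.comp_apply, nat]
          rw [h2]
          have h3 : Spec.map (f.stalkMap z) q' =
              closedPoint ((Spec (CommRingCat.of A)).presheaf.stalk (f z)) := by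
            apply PrimeSpectrum.ext
            have h6 : maximalIdeal ((Spec (CommRingCat.of A)).presheaf.stalk (f z)) ≤
                q.comap (f.stalkMap z).hom := by
              rw [hϖ, Ideal.span_singleton_le_iff_mem, Ideal.mem_comap]
              exact htq
            have h7 : q.comap (f.stalkMap z).hom ≠ ⊤ := (Ideal.IsPrime.comap _).ne_top
            exact ((maximalIdeal.isMaximal _).eq_of_le h7 h6).symm
          rw [h3, Scheme.fromSpecStalk_closedPoint]
      have h4 : q' = closedPoint (Y.presheaf.stalk z) :=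
        (Y.fromSpecStalk z).isEmbedding.injective (h1.trans Scheme.fromSpecStalk_closedPoint.symm)
      exact congrArg PrimeSpectrum.asIdeal h4
    have hdimp : ringKrullDim (Localization.AtPrime p.asIdeal) ≤ k := by
      rw [← dim_stalk_fromSpecStalk z p]
      obtain ⟨e2⟩ := fiberStalk_equiv_of_maximalIdeal_eq_bot f (Y.fromSpecStalk z p)
        (maximalIdeal_stalk_Spec_eq_bot A _ hbot)
      rw [ringKrullDim_eq_of_ringEquiv e2]
      exact hζ.2
    have hSz : SkLocal (k + 1) ((f.fiber (f z)).presheaf.stalk (f.asFiber z)) :=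
      (mem_skLocus_iff (k + 1) f z).mp (hS z) z specializes_rfl rfl
    haveI : IsLocallyNoetherian (f.fiber (f z)) := Groth.Agent.Lead.CMQF.isLocallyNoetherian_fiber f (f z)
    exact dim_fibre_le_of_depth ((f.stalkMap z).hom ϖ) hmem hreg e p.asIdeal hmin k hdimp hSz

end Groth.Agent.Lead.RkLoc
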