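import Mathlib
import Groth.Prelude
import Groth.Agent.Lib.Lead.RkLoc3

set_option autoImplicit false
set_option backward.isDefEq.respectTransparency.types false
set_option synthInstance.maxHeartbeats 400000
set_option linter.style.haveILetI false
set_option linter.unusedSectionVars false
universe u

open CategoryTheory CategoryTheory.Limits AlgebraicGeometry IsLocalRing TopologicalSpace Topology
  TensorProduct

namespace Groth.Agent.Lead.RkLoc

open LocCoh Groth.Agent.Lead.FibCons Groth.Agent.Lead.SkLoc Groth.Agent.Lead.CMCons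
  Groth.Agent.Helper3.ColimFlat

variable {X S : Scheme.{u}}

theorem not_mem_rkLocus_iff (k : ℕ) (f : X ⟶ S) (x : X) :
    x ∉ rkLocus k f ↔ ∃ z : X, z ⤳ x ∧ f z = f x ∧ BadPt k f z := by
  constructor
  · intro h
    by_contra hne
    apply h
    intro z hz hfz hbad
    exact hne ⟨z, hz, hfz, hbad⟩
  · rintro ⟨z, hz, hfz, hbad⟩ h
    exact h z hz hfz hbad

set_option maxHeartbeats 1000000 in
/-- **(G')**: over a locally Noetherian base, if all the fibres are `(S_{k+1})`, the bad points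
for `(R_k)` propagate to specializations. -/
theorem exists_badPt_of_specializes [IsLocallyNoetherian S]
    (f : X ⟶ S) [Flat f] [LocallyOfFinitePresentation f] (k : ℕ)
    (hS : ∀ x : X, x ∈ skLocus (k + 1) f) (ζ x : X) (hζ : BadPt k f ζ) (hsp : ζ ⤳ x) :
    ∃ z : X, z ⤳ x ∧ f z = f x ∧ BadPt k f z := by
  by_cases hne : ζ = x
  · exact ⟨ζ, hsp, by rw [hne], hζ⟩
  haveI : IsLocallyNoetherian X := LocallyOfFiniteType.isLocallyNoetherian f
  obtain ⟨A, h, hdvr, hcl, hgen⟩ :=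
    Groth.Agent.Lib.Helper4.DomDVR.S4450_main (𝟙 X) ζ x hsp (Ne.symm hne)
  haveI := hdvr
  let f' : pullback f (h ≫ f) ⟶ Spec (CommRingCat.of A) := pullback.snd f (h ≫ f)
  let g' : pullback f (h ≫ f) ⟶ X := pullback.fst f (h ≫ f)
  have hsq : IsPullback g' f' f (h ≫ f) := IsPullback.of_hasPullback _ _
  let σ : Spec (CommRingCat.of A) ⟶ pullback f (h ≫ f) :=
    pullback.lift h (𝟙 _) (by simp)
  have hσg : σ ≫ g' = h := pullback.lift_fst _ _ _
  have hbcS := skLocus_baseChange (k + 1) f (h ≫ f) f' g' hsq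
  have hbcR := rkLocus_baseChange k f (h ≫ f) f' g' hsq
  haveI : Flat f' := MorphismProperty.pullback_snd _ _ inferInstance
  haveI : LocallyOfFinitePresentation f' := MorphismProperty.pullback_snd _ _ inferInstance
  have hS' : ∀ y, y ∈ skLocus (k + 1) f' := by
    intro y
    rw [hbcS]
    exact hS (g' y)
  let t₀ : Spec (CommRingCat.of A) := closedPoint A
  let t₁ : Spec (CommRingCat.of A) :=
    (Spec.map (CommRingCat.ofHom A.subtype)) (closedPoint (X.residueField ζ))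
  have ht : t₁ ⤳ t₀ := specializes_closedPoint t₁
  have h0 : g' (σ t₀) = x := by
    rw [← Scheme.Hom.comp_apply, hσg]; exact hcl
  have h1 : g' (σ t₁) = ζ := by
    rw [← Scheme.Hom.comp_apply, hσg]
    change h ((Spec.map (CommRingCat.ofHom A.subtype)) (closedPoint (X.residueField ζ))) = ζ
    rw [← Scheme.Hom.comp_apply, hgen, Category.comp_id]
    exact Scheme.fromSpecResidueField_apply ζ _
  -- a bad point upstairs over `ζ`
  have hζn : ζ ∉ rkLocus k f := (not_mem_rkLocus_iff k f ζ).mpr ⟨ζ, specializes_rfl, rfl, hζ⟩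
  have hy₁ : σ t₁ ∉ rkLocus k f' := by
    rw [hbcR, Set.mem_preimage, h1]; exact hζn
  obtain ⟨ζ', hζ'y, -, hζ'bad⟩ := (not_mem_rkLocus_iff k f' _).mp hy₁
  have hζ'y₀ : ζ' ⤳ σ t₀ := hζ'y.trans (ht.map σ.continuous)
  obtain ⟨z', hz'y, hfz', hz'bad⟩ :=
    exists_badPt_of_specializes_dedekind A f' k hS' ζ' (σ t₀) hζ'bad hζ'y₀
  have hy₀ : σ t₀ ∉ rkLocus k f' := (not_mem_rkLocus_iff k f' _).mpr ⟨z', hz'y, hfz', hz'bad⟩
  rw [hbcR, Set.mem_preimage, h0] at hy₀
  exact (not_mem_rkLocus_iff k f x).mp hy₀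

set_option maxHeartbeats 1000000 in
/-- Noetherian case, all fibres `(S_{k+1})`: the `(R_k)`-locus is open. -/
theorem isOpen_rkLocus_of_forall_sk [IsLocallyNoetherian S] [NoetherianSpace X]
    (f : X ⟶ S) [Flat f] [LocallyOfFinitePresentation f] (k : ℕ)
    (hS : ∀ x : X, x ∈ skLocus (k + 1) f) : IsOpen (rkLocus k f) := by
  have hopen : IsOpen (smLocus f) := by
    rw [smLocus_eq_of_flat]; exact f.smoothLocus.isOpen
  have hcl := isClosed_fibSpecClosure f (BadPt k f) ?_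
    (fun ζ x hζ hsp => exists_badPt_of_specializes f k hS ζ x hζ hsp)
    (smLocus f)ᶜ hopen.isClosed_compl (fun z hz => hz.1) ?_
  · rw [← isClosed_compl_iff]
    convert hcl using 1
    ext x
    exact not_mem_rkLocus_iff k f x
  · intro T hTc ζ hζ
    obtain ⟨O₁, hO₁, hζO₁, hK⟩ := lemmaK_dim f T hTc ζ hζ
    by_cases hζZ : ζ ∈ smLocus f
    · refine ⟨O₁ ∩ smLocus f, hO₁.inter hopen, ⟨hζO₁, hζZ⟩, ?_⟩
      rintro z hzT ⟨hz1, hz2⟩ hmax
      constructor
      · intro hb; exact absurd hz2 hb.1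
      · intro hb; exact absurd hζZ hb.1
    · refine ⟨O₁, hO₁, hζO₁, ?_⟩
      intro z hzT hz1 hmax
      have hdim := hK z hzT hz1 hmax
      have hζz : ζ ⤳ z := hζ.specializes hzT
      have hzZ : z ∉ smLocus f := fun hz => hζZ (hζz.mem_open hopen hz)
      unfold BadPt
      rw [hdim]
      exact ⟨fun hb => ⟨hζZ, hb.2⟩, fun hb => ⟨hzZ, hb.2⟩⟩
  · intro z z'' hbad hz''Z hz''z hfz''
    exact ⟨hz''Z, (fiber_stalk_dim_le_of_specializes f hz''z hfz'').trans hbad.2⟩

/-- the locus where the fibre is geometrically `(R_k)` and `(S_{k+1})` -/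
def rsLocus (k : ℕ) (f : X ⟶ S) : Set X := rkLocus k f ∩ skLocus (k + 1) f

theorem rsLocus_baseChange (n : ℕ) {X Y X' Y' : Scheme.{u}} (f : X ⟶ Y)
    [LocallyOfFinitePresentation f]
    (g : Y' ⟶ Y) (f' : X' ⟶ Y') (g' : X' ⟶ X) (hsq : IsPullback g' f' f g) :
    rsLocus n f' = g' ⁻¹' rsLocus n f := by
  unfold rsLocus
  rw [rkLocus_baseChange n f g f' g' hsq, skLocus_baseChange (n + 1) f g f' g' hsq,
    Set.preimage_inter]

theorem rsLocus_comp_openImmersion (n : ℕ) {P Z S : Scheme.{u}} (j : P ⟶ Z)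
    [IsOpenImmersion j] (g : Z ⟶ S) : rsLocus n (j ≫ g) = j ⁻¹' rsLocus n g := by
  unfold rsLocus
  rw [rkLocus_comp_openImmersion, skLocus_comp_openImmersion, Set.preimage_inter]

set_option maxHeartbeats 1000000 in
theorem isOpen_rsLocus_of_noeth [IsLocallyNoetherian S] [NoetherianSpace X]
    (f : X ⟶ S) [Flat f] [LocallyOfFinitePresentation f] (k : ℕ) : IsOpen (rsLocus k f) := by
  have hopen := isOpen_skLocus f (k + 1)
  let V : X.Opens := ⟨skLocus (k + 1) f, hopen⟩
  haveI : NoetherianSpace V := inferInstanceAs (NoetherianSpace (V : Set X))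
  have hSV : ∀ v : V, v ∈ skLocus (k + 1) (V.ι ≫ f) := by
    intro v
    rw [skLocus_comp_openImmersion]
    exact v.2
  have h1 := isOpen_rkLocus_of_forall_sk (V.ι ≫ f) k hSV
  rw [rkLocus_comp_openImmersion] at h1
  have h2 := V.ι.isOpenEmbedding.isOpenMap _ h1
  convert h2 using 1
  ext x
  constructor
  · rintro ⟨hx1, hx2⟩
    exact ⟨⟨x, hx2⟩, hx1, rfl⟩
  · rintro ⟨v, hv, rfl⟩
    exact ⟨hv, v.2⟩

end Groth.Agent.Lead.RkLoc
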