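import Mathlib
import Groth.Prelude
import Groth.Agent.Lib.Lead.RkLoc4

set_option autoImplicit false
set_option backward.isDefEq.respectTransparency.types false
set_option synthInstance.maxHeartbeats 400000
set_option linter.style.haveILetI false
set_option linter.unusedSectionVars false
universe u

open CategoryTheory CategoryTheory.Limits AlgebraicGeometry IsLocalRing TopologicalSpace Topology
  TensorProduct

namespace Groth.Agent.Lead.RkLoc

open LocCoh Groth.Agent.Lead.FibCons Groth.Agent.Lead.SkLoc Groth.Agent.Lead.CMCons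
  Groth.Agent.Helper3.ColimFlat

/-- data for Noetherian approximation of a fibrewise locus -/
structure ApproxLocus (L : ∀ {X S : Scheme.{u}} (_ : X ⟶ S), Set X) : Prop where
  baseChange : ∀ {X Y X' Y' : Scheme.{u}} (f : X ⟶ Y) [LocallyOfFinitePresentation f]
    (g : Y' ⟶ Y) (f' : X' ⟶ Y') (g' : X' ⟶ X), IsPullback g' f' f g → L f' = g' ⁻¹' L f
  openImm : ∀ {P Z S : Scheme.{u}} (k : P ⟶ Z) [IsOpenImmersion k] (g : Z ⟶ S),
    L (k ≫ g) = k ⁻¹' L g
  isOpenNoeth : ∀ {X S : Scheme.{u}} [IsLocallyNoetherian S] [NoetherianSpace X]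
    (h : X ⟶ S) [Flat h] [LocallyOfFinitePresentation h], IsOpen (L h)

variable {L : ∀ {X S : Scheme.{u}} (_ : X ⟶ S), Set X}

theorem ApproxLocus.isOpen_noeth_affine (hL : ApproxLocus L) (A B : Type u) [CommRing A]
    [CommRing B] [Algebra A B]
    [IsNoetherianRing A] [Algebra.FiniteType A B] [Module.Flat A B] :
    IsOpen (L (Spec.map (CommRingCat.ofHom (algebraMap A B)))) := by
  haveI : IsNoetherianRing B := Algebra.FiniteType.isNoetherianRing A B
  set f := Spec.map (CommRingCat.ofHom (algebraMap A B)) with hf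
  haveI : Algebra.FinitePresentation A B :=
    Algebra.FinitePresentation.of_finiteType.mp inferInstance
  haveI : LocallyOfFinitePresentation f := by
    rw [hf, HasRingHomProperty.Spec_iff (P := @LocallyOfFinitePresentation)]
    exact (RingHom.finitePresentation_algebraMap).mpr inferInstance
  haveI : Flat f := by
    rw [hf, HasRingHomProperty.Spec_iff (P := @Flat)]
    exact (RingHom.flat_algebraMap_iff).mpr inferInstance
  haveI : IsLocallyNoetherian (Spec (CommRingCat.of A)) := isLocallyNoetherian_Spec.mpr ‹_›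
  haveI : NoetherianSpace (Spec (CommRingCat.of B)) :=
    inferInstanceAs (NoetherianSpace (PrimeSpectrum B))
  exact hL.isOpenNoeth f

set_option maxHeartbeats 2000000 in
theorem ApproxLocus.isOpen_of_model (hL : ApproxLocus L) (A₀ A B₀ B : Type u) [CommRing A₀]
    [CommRing A]
    [CommRing B₀] [CommRing B] [Algebra A₀ A] [Algebra A₀ B₀] [Algebra A B]
    [IsNoetherianRing A₀] [Algebra.FinitePresentation A₀ B₀] (e : A ⊗[A₀] B₀ ≃ₐ[A] B)
    [Module.Flat A B] :
    IsOpen (L (Spec.map (CommRingCat.ofHom (algebraMap A B)))) := by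
  classical
  haveI hfl : Module.Flat A (A ⊗[A₀] B₀) :=
    Module.Flat.of_linearEquiv e.toLinearEquiv
  obtain ⟨i, hi⟩ := (S4848_main (A₀ := A₀) (fun i : FGSub A₀ A => ↥i.1)
    (fun i j h => Subalgebra.inclusion (show i.1 ≤ j.1 from h)) A
    (isDirectedColimitRing_fgSub A₀ A) (B₀ := B₀) B₀).mp hfl
  haveI : IsNoetherianRing ↥i.1 := isNoetherianRing_fgSub A₀ A i
  haveI : Module.Flat ↥i.1 (↥i.1 ⊗[A₀] B₀) := hi
  have h0 := hL.isOpen_noeth_affine ↥i.1 (↥i.1 ⊗[A₀] B₀)
  set f₀ := Spec.map (CommRingCat.ofHom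
    (algebraMap ↥i.1 (↥i.1 ⊗[A₀] B₀))) with hf₀
  haveI : Algebra.FinitePresentation ↥i.1 (↥i.1 ⊗[A₀] B₀) :=
    Algebra.FinitePresentation.of_finiteType.mp inferInstance
  haveI : LocallyOfFinitePresentation f₀ := by
    rw [hf₀, HasRingHomProperty.Spec_iff (P := @LocallyOfFinitePresentation)]
    exact (RingHom.finitePresentation_algebraMap (A := ↥i.1) (B := ↥i.1 ⊗[A₀] B₀)).mpr
      inferInstance
  let g : Spec (CommRingCat.of A) ⟶ Spec (CommRingCat.of ↥i.1) :=
    Spec.map (CommRingCat.ofHom (algebraMap ↥i.1 A))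
  let f' : Spec (CommRingCat.of (A ⊗[↥i.1] (↥i.1 ⊗[A₀] B₀))) ⟶
      Spec (CommRingCat.of A) :=
    Spec.map (CommRingCat.ofHom (Algebra.TensorProduct.includeLeftRingHom))
  let g' : Spec (CommRingCat.of (A ⊗[↥i.1] (↥i.1 ⊗[A₀] B₀))) ⟶
      Spec (CommRingCat.of (↥i.1 ⊗[A₀] B₀)) :=
    Spec.map (CommRingCat.ofHom
      (Algebra.TensorProduct.includeRight :
        (↥i.1 ⊗[A₀] B₀) →ₐ[↥i.1]
          A ⊗[↥i.1] (↥i.1 ⊗[A₀] B₀)).toRingHom)
  have hsq : IsPullback g' f' f₀ g :=
    (isPullback_SpecMap_of_isPushout _ _ _ _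
      (CommRingCat.isPushout_tensorProduct ↥i.1 A
        (↥i.1 ⊗[A₀] B₀))).flip
  have hbc : L f' = g' ⁻¹' L f₀ := hL.baseChange f₀ g f' g' hsq
  let et : A ⊗[↥i.1] (↥i.1 ⊗[A₀] B₀) ≃ₐ[A] B :=
    (Algebra.TensorProduct.cancelBaseChange A₀ ↥i.1 A A B₀).trans e
  let εr : CommRingCat.of (A ⊗[↥i.1] (↥i.1 ⊗[A₀] B₀)) ⟶
      CommRingCat.of B := CommRingCat.ofHom et.toRingHom
  haveI : IsIso εr := (ConcreteCategory.isIso_iff_bijective εr).mpr et.bijective
  let ε : Spec (CommRingCat.of B) ⟶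
      Spec (CommRingCat.of (A ⊗[↥i.1] (↥i.1 ⊗[A₀] B₀))) :=
    Spec.map εr
  haveI : IsIso ε := inferInstance
  have hε : Spec.map (CommRingCat.ofHom (algebraMap A B)) = ε ≫ f' := by
    rw [← Spec.map_comp]
    congr 1
    ext a
    show algebraMap A B a = et (a ⊗ₜ 1)
    exact (et.commutes a).symm
  rw [hε, hL.openImm ε f', hbc]
  exact (h0.preimage g'.continuous).preimage ε.continuous

theorem ApproxLocus.isOpen_affine (hL : ApproxLocus L) (A B : Type u) [CommRing A] [CommRing B]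
    [Algebra A B]
    [Algebra.FinitePresentation A B] [Module.Flat A B] :
    IsOpen (L (Spec.map (CommRingCat.ofHom (algebraMap A B)))) := by
  classical
  let P := Algebra.Presentation.ofFinitePresentation A B
  let e : A ⊗[P.Core] P.ModelOfHasCoeffs P.Core ≃ₐ[A] B := P.tensorModelOfHasCoeffsEquiv P.Core
  haveI : IsNoetherianRing P.Core := Algebra.FiniteType.isNoetherianRing ℤ P.Core
  exact hL.isOpen_of_model P.Core A (P.ModelOfHasCoeffs P.Core) B e

set_option maxHeartbeats 1000000 in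
theorem ApproxLocus.isOpen (hL : ApproxLocus L) {X S : Scheme.{u}} (f : X ⟶ S) [Flat f]
    [LocallyOfFinitePresentation f] : IsOpen (L f) := by
  rw [isOpen_iff_forall_mem_open]
  intro x hx
  obtain ⟨_, ⟨V, hV, rfl⟩, hxV, -⟩ := S.isBasis_affineOpens.exists_subset_of_mem_open
    (Set.mem_univ (f x)) isOpen_univ
  obtain ⟨_, ⟨U, hU, rfl⟩, hxU, hUV⟩ := X.isBasis_affineOpens.exists_subset_of_mem_open
    (show x ∈ ((f ⁻¹ᵁ V : X.Opens) : Set X) from hxV) (f ⁻¹ᵁ V).isOpen
  have e : U ≤ f ⁻¹ᵁ V := hUV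
  have hfp : (f.appLE V U e).hom.FinitePresentation :=
    HasRingHomProperty.appLE (P := @LocallyOfFinitePresentation) f inferInstance ⟨V, hV⟩ ⟨U, hU⟩ e
  have hflat : (f.appLE V U e).hom.Flat :=
    HasRingHomProperty.appLE (P := @Flat) f inferInstance ⟨V, hV⟩ ⟨U, hU⟩ e
  letI : Algebra Γ(S, V) Γ(X, U) := (f.appLE V U e).hom.toAlgebra
  haveI : Algebra.FinitePresentation Γ(S, V) Γ(X, U) := hfp
  haveI : Module.Flat Γ(S, V) Γ(X, U) := hflat
  have h0 := hL.isOpen_affine Γ(S, V) Γ(X, U)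
  have hσ : Spec.map (CommRingCat.ofHom (algebraMap Γ(S, V) Γ(X, U))) =
      Spec.map (f.appLE V U e) := rfl
  rw [hσ] at h0
  have hcomm : Spec.map (f.appLE V U e) ≫ hV.fromSpec = hU.fromSpec ≫ f :=
    IsAffineOpen.SpecMap_appLE_fromSpec f hV hU e
  haveI : LocallyOfFinitePresentation (Spec.map (f.appLE V U e) ≫ hV.fromSpec) := by
    rw [hcomm]; infer_instance
  have h1 : L (Spec.map (f.appLE V U e)) =
      L (Spec.map (f.appLE V U e) ≫ hV.fromSpec) := by
    have := hL.baseChange (Spec.map (f.appLE V U e) ≫ hV.fromSpec) hV.fromSpec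
      (Spec.map (f.appLE V U e)) (𝟙 _) (isPullback_id_of_mono _ _)
    rw [this]; rfl
  rw [h1, hcomm, hL.openImm hU.fromSpec f] at h0
  refine ⟨hU.fromSpec '' (hU.fromSpec ⁻¹' L f), ?_, ?_, ?_⟩
  · rintro _ ⟨y, hy, rfl⟩; exact hy
  · exact hU.fromSpec.isOpenEmbedding.isOpenMap _ h0
  · have hxr : x ∈ Set.range hU.fromSpec := by rw [hU.range_fromSpec]; exact hxU
    obtain ⟨y, rfl⟩ := hxr
    exact ⟨y, hx, rfl⟩

theorem ApproxLocus.fibLocus (hL : ApproxLocus L) : FibLocus L where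
  baseChange := hL.baseChange
  openImm := hL.openImm
  isOpen := fun h _ _ => hL.isOpen h

theorem approxLocus_rsLocus (k : ℕ) :
    ApproxLocus (fun {X S : Scheme.{u}} (f : X ⟶ S) => rsLocus k f) where
  baseChange := fun f _ g f' g' hsq => rsLocus_baseChange k f g f' g' hsq
  openImm := fun j _ g => rsLocus_comp_openImmersion k j g
  isOpenNoeth := fun h _ _ => isOpen_rsLocus_of_noeth h k

/-- **EGA IV 12.1.6**: for `f` flat and locally of finite presentation, the set of points where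
the fibre is geometrically `(R_k)` and `(S_{k+1})` is open. -/
theorem isOpen_rsLocus {X S : Scheme.{u}} (f : X ⟶ S) [Flat f] [LocallyOfFinitePresentation f]
    (k : ℕ) : IsOpen (rsLocus k f) :=
  (approxLocus_rsLocus k).isOpen f

theorem fibLocus_rsLocus (k : ℕ) :
    FibLocus (fun {X S : Scheme.{u}} (f : X ⟶ S) => rsLocus k f) :=
  (approxLocus_rsLocus k).fibLocus

end Groth.Agent.Lead.RkLoc
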