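import Mathlib
import Groth.Prelude
import Groth.Agent.Lib.Lead.RkLoc5
import Groth.Agent.Lib.Helper3.GeoReg4
import Groth.Agent.Lib.Helper2.Sch.SmoothFieldRegular
import Groth.Agent.Lib.Helper8.Serre4
import Groth.Agent.Lib.Helper8.Depth30
import Groth.Agent.Lib.Helper2.Sch.FieldBCDim

set_option autoImplicit false
set_option backward.isDefEq.respectTransparency.types false
set_option synthInstance.maxHeartbeats 400000
set_option linter.style.haveILetI false
set_option linter.unusedSectionVars false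
universe u

open CategoryTheory CategoryTheory.Limits AlgebraicGeometry IsLocalRing TopologicalSpace Topology

namespace Groth.Agent.Lead.RkLoc

open LocCoh Groth.Agent.Lead.FibCons Groth.Agent.Lead.SkLoc Groth.Agent.Helper3.FibStalk
  Groth.Agent.Helper3.FibDepth Groth.Agent.Helper8.GorFlat Groth.Agent.Lead.CMAt
open Groth.Agent.Lib.Helper4.FibDim1 Groth.Agent.Lib.Helper4.FibDim2

section Ring

variable (R : Type u) [CommRing R] [IsLocalRing R] [IsNoetherianRing R]

theorem normal_iff_R1_S2 :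
    (IsDomain R ∧ IsIntegrallyClosed R) ↔ (HasRk 1 R ∧ HasSk 2 R R) := by
  rw [← Groth.Agent.Helper8.Serre.serre_criterion_normal R]
  constructor
  · rintro ⟨hd, hic⟩ p hp
    haveI := hd
    haveI := hic
    have hdom : IsDomain (Localization.AtPrime p) :=
      IsLocalization.isDomain_of_le_nonZeroDivisors _ p.primeCompl_le_nonZeroDivisors
    exact ⟨hdom, isIntegrallyClosed_of_isLocalization (Localization.AtPrime p) p.primeCompl
      p.primeCompl_le_nonZeroDivisors⟩
  · intro h
    obtain ⟨hd, hic⟩ := h (maximalIdeal R)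
    let e : R ≃ₐ[R] Localization.AtPrime (maximalIdeal R) :=
      IsLocalization.atUnits R (maximalIdeal R).primeCompl
        (fun x hx => by
          have : x ∉ maximalIdeal R := hx
          rwa [mem_maximalIdeal, mem_nonunits_iff, not_not] at this)
    haveI := hd
    haveI := hic
    exact ⟨e.toRingEquiv.toMulEquiv.isDomain, IsIntegrallyClosed.of_equiv e.toRingEquiv.symm⟩

end Ring

theorem isMax_of_isDiscrete {W' W : Scheme.{u}} (π : W' ⟶ W) (z' : W')
    (hd : _root_.IsDiscrete (π ⁻¹' {π z'})) : IsMax (⟨z', rfl⟩ : {t : W' // π t = π z'}) := by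
  intro b hb
  have hbz : b.1 ⤳ z' := hb
  haveI : DiscreteTopology (π ⁻¹' {π z'}) := isDiscrete_iff_discreteTopology.mp hd
  have h1 : (⟨b.1, b.2⟩ : π ⁻¹' {π z'}) ⤳ ⟨z', rfl⟩ :=
    (Topology.IsInducing.subtypeVal.specializes_iff).mp hbz
  have h2 : (⟨b.1, b.2⟩ : π ⁻¹' {π z'}) = ⟨z', rfl⟩ := specializes_iff_eq.mp h1
  have h3 : b.1 = z' := congrArg Subtype.val h2
  have h4 : b = ⟨z', rfl⟩ := Subtype.ext h3
  rw [h4]

section Field

variable {κ : Type u} [Field κ] {W : Scheme.{u}} (h : W ⟶ Spec (CommRingCat.of κ))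
  [LocallyOfFinitePresentation h]

set_option maxHeartbeats 1000000 in
/-- (P1) -/
theorem hasRk_of_rkAt (n : ℕ) (w : W) (hw : RkAt n h w) (K : Type u) [Field K] [Algebra κ K]
    (x' : ↥(FBase.bc h K)) (hx' : (FBase.bcπ h K) x' = w) :
    HasRk n ((FBase.bc h K).presheaf.stalk x') := by
  have sq : IsPullback (FBase.bcπ h K) (FBase.bcStr h K) h
      (Spec.map (CommRingCat.ofHom (algebraMap κ K))) := IsPullback.of_hasPullback _ _
  haveI : LocallyOfFinitePresentation (FBase.bcStr h K) :=
    MorphismProperty.of_isPullback (P := @LocallyOfFinitePresentation) sq inferInstance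
  haveI : IsLocallyNoetherian (FBase.bc h K) :=
    LocallyOfFiniteType.isLocallyNoetherian (FBase.bcStr h K)
  have h1 : RkAt n (FBase.bcStr h K) x' :=
    (rkAt_field_baseChange_iff κ K (algebraMap κ K) h _ _ sq n x').mpr (hx' ▸ hw)
  intro P hP hht
  obtain ⟨z', hz', ⟨e⟩⟩ := exists_equiv_of_prime (FBase.bc h K) x' P
  have hdim : ringKrullDim ((FBase.bc h K).presheaf.stalk z') ≤ n := by
    rw [← ringKrullDim_eq_of_ringEquiv e,
      IsLocalization.AtPrime.ringKrullDim_eq_height P (Localization.AtPrime P)]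
    exact_mod_cast hht
  have hsm := h1 z' hz' hdim
  haveI := Groth.Agent.Helper2.SmoothFieldRegular.isRegularLocalRing_stalk_of_formallySmooth K
    (FBase.bcStr h K) z' hsm
  exact IsRegularLocalRing.of_ringEquiv e.symm

set_option maxHeartbeats 2000000 in
/-- (P2) -/
theorem rkAt_of_forall_finite_hasRk (n : ℕ) (w : W)
    (H : ∀ (K : Type u) [Field K] [Algebra κ K], Module.Finite κ K →
      ∀ x' : ↥(FBase.bc h K), (FBase.bcπ h K) x' = w →
        HasRk n ((FBase.bc h K).presheaf.stalk x')) : RkAt n h w := by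
  intro z hz hdim
  by_contra hns
  letI : W.Over (Spec (CommRingCat.of κ)) := ⟨h⟩
  haveI : LocallyOfFinitePresentation (W ↘ Spec (CommRingCat.of κ)) := ‹_›
  haveI : IsLocallyNoetherian W := LocallyOfFiniteType.isLocallyNoetherian h
  haveI : IsNoetherianRing ↥(W.presheaf.stalk z) := inferInstance
  have h1 : ¬ Curv2.IsGeomRegularAt κ W z := fun hg =>
    hns ((Groth.Agent.Helper3.GeoReg.S1562_main κ W z).mp hg)
  letI := Curv2.stalkAlgebra κ W
  have h2 : ¬ CAlg.IsGeometricallyRegular κ ↥(W.presheaf.stalk z) := fun hg =>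
    h1 ((Groth.Agent.Helper3.GeoReg.isGeomRegularAt_iff_isGeometricallyRegular κ W z).mpr hg)
  have h3 : ¬ (∀ (k' : Type u) [Field k'] [Algebra κ k'] [FiniteDimensional κ k']
      [IsPurelyInseparable κ k'] (x' : ↥(Curv2.bc κ W k')), Curv2.bcFst κ W k' x' = z →
        IsRegularLocalRing ↥((Curv2.bc κ W k').presheaf.stalk x')) := fun hall =>
    h2 ((Groth.Agent.Helper3.GeoReg.forall_insep_iff_isGeometricallyRegular κ W z).mp hall)
  obtain ⟨K, iF, iA, iFD, iPI, z', hz', hnreg⟩ : ∃ (K : Type u) (_ : Field K) (_ : Algebra κ K)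
      (_ : FiniteDimensional κ K) (_ : IsPurelyInseparable κ K) (z' : ↥(Curv2.bc κ W K)),
      Curv2.bcFst κ W K z' = z ∧ ¬ IsRegularLocalRing ↥((Curv2.bc κ W K).presheaf.stalk z') := by
    by_contra hne
    apply h3
    intro k' i1 i2 i3 i4 x' hx'
    by_contra hnr
    exact hne ⟨k', i1, i2, i3, i4, x', hx', hnr⟩
  have sq : IsPullback (FBase.bcπ h K) (FBase.bcStr h K) h
      (Spec.map (CommRingCat.ofHom (algebraMap κ K))) := IsPullback.of_hasPullback _ _
  haveI : LocallyOfFinitePresentation (FBase.bcStr h K) :=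
    MorphismProperty.of_isPullback (P := @LocallyOfFinitePresentation) sq inferInstance
  haveI : IsLocallyNoetherian (FBase.bc h K) :=
    LocallyOfFiniteType.isLocallyNoetherian (FBase.bcStr h K)
  haveI : IsFinite (Spec.map (CommRingCat.ofHom (algebraMap κ K))) :=
    (IsFinite.SpecMap_iff _).mpr (RingHom.finite_algebraMap.mpr iFD)
  haveI : IsFinite (FBase.bcπ h K) :=
    MorphismProperty.pullback_fst (P := @IsFinite) h
      (Spec.map (CommRingCat.ofHom (algebraMap κ K))) inferInstance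
  have hcl : IsClosed ((FBase.bcπ h K) '' closure {z'}) :=
    (FBase.bcπ h K).isClosedMap _ isClosed_closure
  have hw : w ∈ (FBase.bcπ h K) '' closure {z'} := by
    have : z ∈ (FBase.bcπ h K) '' closure {z'} := ⟨z', subset_closure rfl, hz'⟩
    exact hz.mem_closed hcl this
  obtain ⟨x', hx'cl, hx'w⟩ := hw
  have hz'x' : z' ⤳ x' := specializes_iff_mem_closure.mpr hx'cl
  have hRk := H K iFD x' hx'w
  obtain ⟨Q, hQ, ⟨e⟩⟩ := exists_prime_of_specializes (FBase.bc h K) x' z' hz'x'
  haveI := hQ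
  have hdim' : ringKrullDim ((FBase.bc h K).presheaf.stalk z') ≤ n := by
    haveI : Flat (FBase.bcπ h K) :=
      flat_of_field_baseChange κ K (algebraMap κ K) h (FBase.bcStr h K) (FBase.bcπ h K) sq
    obtain ⟨γ, hγ, hk⟩ := exists_fibre_presentation (FBase.bcπ h K) z'
    have D : FLData ((FBase.bcπ h K).stalkMap z').hom γ :=
      ⟨Flat.stalkMap (FBase.bcπ h K) z', inferInstance, hγ, hk⟩
    have hmaxz : IsMax (⟨z', rfl⟩ : {t : ↥(FBase.bc h K) // (FBase.bcπ h K) t = (FBase.bcπ h K) z'}) :=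
      isMax_of_isDiscrete (FBase.bcπ h K) z'
        ((FBase.bcπ h K).isDiscrete_preimage_singleton ((FBase.bcπ h K) z'))
    have hdim0 : ringKrullDim (((FBase.bcπ h K).fiber ((FBase.bcπ h K) z')).presheaf.stalk
        ((FBase.bcπ h K).asFiber z')) = 0 := by
      rw [stalk_fiber_dim (FBase.bcπ h K) z', (Order.coheight_eq_zero).mpr hmaxz]
      rfl
    rw [ringKrullDim_eq_add_of_flData D, hdim0, add_zero]
    have hz'' : (FBase.bcπ h K) z' = z := hz'
    rw [hz'']
    exact hdim
  have hht : Q.height ≤ n := by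
    have h5 := ringKrullDim_eq_of_ringEquiv e
    rw [IsLocalization.AtPrime.ringKrullDim_eq_height Q (Localization.AtPrime Q)] at h5
    have h6 : (Q.height : WithBot ℕ∞) ≤ n := h5 ▸ hdim'
    exact_mod_cast h6
  haveI := hRk Q hht
  exact hnreg (IsRegularLocalRing.of_ringEquiv e)

/-- (P3) -/
theorem hasSk_bc_iff (m : ℕ) (K : Type u) [Field K] [Algebra κ K] (x' : ↥(FBase.bc h K)) :
    HasSk m ((FBase.bc h K).presheaf.stalk x') ((FBase.bc h K).presheaf.stalk x') ↔
      HasSk m (W.presheaf.stalk ((FBase.bcπ h K) x')) (W.presheaf.stalk ((FBase.bcπ h K) x')) := by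
  have sq : IsPullback (FBase.bcπ h K) (FBase.bcStr h K) h
      (Spec.map (CommRingCat.ofHom (algebraMap κ K))) := IsPullback.of_hasPullback _ _
  haveI : LocallyOfFinitePresentation (FBase.bcStr h K) :=
    MorphismProperty.of_isPullback (P := @LocallyOfFinitePresentation) sq inferInstance
  haveI : IsLocallyNoetherian W := LocallyOfFiniteType.isLocallyNoetherian h
  haveI : IsLocallyNoetherian (FBase.bc h K) :=
    LocallyOfFiniteType.isLocallyNoetherian (FBase.bcStr h K)
  exact hasSk_field_baseChange_iff κ K (algebraMap κ K) h (FBase.bcStr h K) (FBase.bcπ h K) sq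
    (Or.inr inferInstance) m x'

variable (C : ∀ (K : Type u) [Field K] [Algebra κ K], Prop)
  (hC : ∀ (K : Type u) [Field K] [Algebra κ K], Module.Finite κ K → C K)

include hC in
theorem forall_hasRk_iff_rkAt (n : ℕ) (w : W) :
    (∀ (K : Type u) [Field K] [Algebra κ K], C K → ∀ x' : ↥(FBase.bc h K),
      (FBase.bcπ h K) x' = w → HasRk n ((FBase.bc h K).presheaf.stalk x')) ↔ RkAt n h w := by
  constructor
  · intro H
    exact rkAt_of_forall_finite_hasRk h n w (fun K _ _ hfin x' hx' => H K (hC K hfin) x' hx')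
  · intro hw K _ _ _ x' hx'
    exact hasRk_of_rkAt h n w hw K x' hx'

include hC in
theorem forall_hasSk_iff (m : ℕ) (w : W) :
    (∀ (K : Type u) [Field K] [Algebra κ K], C K → ∀ x' : ↥(FBase.bc h K),
      (FBase.bcπ h K) x' = w →
        HasSk m ((FBase.bc h K).presheaf.stalk x') ((FBase.bc h K).presheaf.stalk x')) ↔
      HasSk m (W.presheaf.stalk w) (W.presheaf.stalk w) := by
  constructor
  · intro H
    obtain ⟨x', hx'⟩ := Groth.Agent.Helper2.FieldBCDim.surjective_bcπ h (K := κ) w
    have h1 := H κ (hC κ inferInstance) x' hx'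
    rw [hasSk_bc_iff, hx'] at h1
    exact h1
  · intro hw K _ _ _ x' hx'
    rw [hasSk_bc_iff, hx']
    exact hw

theorem isNoetherianRing_stalk_bc (K : Type u) [Field K] [Algebra κ K] (x' : ↥(FBase.bc h K)) :
    IsNoetherianRing ((FBase.bc h K).presheaf.stalk x') := by
  have sq : IsPullback (FBase.bcπ h K) (FBase.bcStr h K) h
      (Spec.map (CommRingCat.ofHom (algebraMap κ K))) := IsPullback.of_hasPullback _ _
  haveI : LocallyOfFinitePresentation (FBase.bcStr h K) :=
    MorphismProperty.of_isPullback (P := @LocallyOfFinitePresentation) sq inferInstance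
  haveI : IsLocallyNoetherian (FBase.bc h K) :=
    LocallyOfFiniteType.isLocallyNoetherian (FBase.bcStr h K)
  infer_instance

include hC in
theorem forall_normal_iff (w : W) :
    (∀ (K : Type u) [Field K] [Algebra κ K], C K → ∀ x' : ↥(FBase.bc h K),
      (FBase.bcπ h K) x' = w →
        (IsDomain ((FBase.bc h K).presheaf.stalk x') ∧
          IsIntegrallyClosed ((FBase.bc h K).presheaf.stalk x'))) ↔
      RkAt 1 h w ∧ HasSk 2 (W.presheaf.stalk w) (W.presheaf.stalk w) := by
  rw [← forall_hasRk_iff_rkAt h C hC 1 w, ← forall_hasSk_iff h C hC 2 w]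
  constructor
  · intro H
    refine ⟨fun K _ _ hK x' hx' => ?_, fun K _ _ hK x' hx' => ?_⟩
    · haveI := isNoetherianRing_stalk_bc h K x'
      exact ((normal_iff_R1_S2 _).mp (H K hK x' hx')).1
    · haveI := isNoetherianRing_stalk_bc h K x'
      exact ((normal_iff_R1_S2 _).mp (H K hK x' hx')).2
  · rintro ⟨H1, H2⟩ K _ _ hK x' hx'
    haveI := isNoetherianRing_stalk_bc h K x'
    exact (normal_iff_R1_S2 _).mpr ⟨H1 K hK x' hx', H2 K hK x' hx'⟩

include hC in
theorem forall_reduced_iff (w : W) :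
    (∀ (K : Type u) [Field K] [Algebra κ K], C K → ∀ x' : ↥(FBase.bc h K),
      (FBase.bcπ h K) x' = w → IsReduced ((FBase.bc h K).presheaf.stalk x')) ↔
      RkAt 0 h w ∧ HasSk 1 (W.presheaf.stalk w) (W.presheaf.stalk w) := by
  rw [← forall_hasRk_iff_rkAt h C hC 0 w, ← forall_hasSk_iff h C hC 1 w]
  constructor
  · intro H
    refine ⟨fun K _ _ hK x' hx' => ?_, fun K _ _ hK x' hx' => ?_⟩
    · haveI := isNoetherianRing_stalk_bc h K x'
      exact ((Groth.Agent.Helper8.Depth.isReduced_iff_R0_S1 _).mp (H K hK x' hx')).1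
    · haveI := isNoetherianRing_stalk_bc h K x'
      exact ((Groth.Agent.Helper8.Depth.isReduced_iff_R0_S1 _).mp (H K hK x' hx')).2
  · rintro ⟨H1, H2⟩ K _ _ hK x' hx'
    haveI := isNoetherianRing_stalk_bc h K x'
    exact (Groth.Agent.Helper8.Depth.isReduced_iff_R0_S1 _).mpr ⟨H1 K hK x' hx', H2 K hK x' hx'⟩

end Field

theorem mem_rsLocus_iff {X S : Scheme.{u}} (k : ℕ) (f : X ⟶ S) (x : X) :
    x ∈ rsLocus k f ↔ RkAt k (f.fiberToSpecResidueField (f x)) (f.asFiber x) ∧
      HasSk (k + 1) ((f.fiber (f x)).presheaf.stalk (f.asFiber x))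
        ((f.fiber (f x)).presheaf.stalk (f.asFiber x)) := by
  unfold rsLocus
  rw [Set.mem_inter_iff, mem_rkLocus_iff_rkAt]
  rfl

end Groth.Agent.Lead.RkLoc
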