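import Mathlib
import Groth.Prelude
import Groth.Agent.Lib.Lead.RkLoc6
import Groth.Agent.Lib.Lead.CoprofOpen5

set_option autoImplicit false
set_option backward.isDefEq.respectTransparency.types false
set_option synthInstance.maxHeartbeats 400000
set_option linter.style.haveILetI false
set_option linter.unusedSectionVars false
universe u

open CategoryTheory CategoryTheory.Limits AlgebraicGeometry IsLocalRing TopologicalSpace Topology

namespace Groth.Agent.Lead.RkLoc

open LocCoh Groth.Agent.Lead.FibCons Groth.Agent.Lead.SkLoc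

theorem normalFin_iff {X Y : Scheme.{u}} (f : X ⟶ Y) [LocallyOfFinitePresentation f] (x : X) :
    (∀ (K : Type u) [Field K] [Algebra (IsLocalRing.ResidueField (Y.presheaf.stalk (f.base x))) K],
        Module.Finite (IsLocalRing.ResidueField (Y.presheaf.stalk (f.base x))) K →
        ∀ x' : ↥(FBase.bc (f.fiberToSpecResidueField (f.base x)) K),
          (FBase.bcπ (f.fiberToSpecResidueField (f.base x)) K).base x' = f.asFiber x →
          IsDomain ((FBase.bc (f.fiberToSpecResidueField (f.base x)) K).presheaf.stalk x') ∧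
            IsIntegrallyClosed ((FBase.bc (f.fiberToSpecResidueField (f.base x)) K).presheaf.stalk x'))
      ↔ x ∈ rsLocus 1 f := by
  haveI := lfp_fiber f (f x)
  rw [mem_rsLocus_iff]
  exact forall_normal_iff (κ := Y.residueField (f x)) (f.fiberToSpecResidueField (f x))
    (fun K _ _ => Module.Finite (Y.residueField (f x)) K)
    (fun _ _ _ h => h) (f.asFiber x)

theorem normalAll_iff {X Y : Scheme.{u}} (f : X ⟶ Y) [LocallyOfFinitePresentation f] (x : X) :
    (∀ (K : Type u) [Field K] [Algebra (IsLocalRing.ResidueField (Y.presheaf.stalk (f.base x))) K]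
        (x' : ↥(FBase.bc (f.fiberToSpecResidueField (f.base x)) K)),
          (FBase.bcπ (f.fiberToSpecResidueField (f.base x)) K).base x' = f.asFiber x →
          IsDomain ((FBase.bc (f.fiberToSpecResidueField (f.base x)) K).presheaf.stalk x') ∧
            IsIntegrallyClosed ((FBase.bc (f.fiberToSpecResidueField (f.base x)) K).presheaf.stalk x'))
      ↔ x ∈ rsLocus 1 f := by
  haveI := lfp_fiber f (f x)
  rw [mem_rsLocus_iff]
  rw [← forall_normal_iff (κ := Y.residueField (f x)) (f.fiberToSpecResidueField (f x))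
    (fun K _ _ => True) (fun _ _ _ _ => trivial) (f.asFiber x)]
  constructor
  · intro H K i1 i2 _ x' hx'
    exact @H K i1 i2 x' hx'
  · intro H K i1 i2 x' hx'
    exact @H K i1 i2 trivial x' hx'

theorem reducedAll_iff {X Y : Scheme.{u}} (f : X ⟶ Y) [LocallyOfFinitePresentation f] (x : X) :
    FBase.IsGeomReducedAt (f.fiberToSpecResidueField (f.base x)) (f.asFiber x)
      ↔ x ∈ rsLocus 0 f := by
  haveI := lfp_fiber f (f x)
  rw [mem_rsLocus_iff]
  rw [← forall_reduced_iff (κ := Y.residueField (f x)) (f.fiberToSpecResidueField (f x))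
    (fun K _ _ => True) (fun _ _ _ _ => trivial) (f.asFiber x)]
  unfold FBase.IsGeomReducedAt
  constructor
  · intro H K i1 i2 _ x' hx'
    exact @H K i1 i2 x' hx'
  · intro H K i1 i2 x' hx'
    exact @H K i1 i2 trivial x' hx'

/-- S2549 -/
theorem S2549_main {X Y : Scheme.{u}} (f : X ⟶ Y) [Flat f]
    [LocallyOfFinitePresentation f] :
    IsOpen {x : X | FBase.IsGeomReducedAt (f.fiberToSpecResidueField (f.base x)) (f.asFiber x)} := by
  have h1 := isOpen_rsLocus f 0
  convert h1 using 1
  ext x
  exact reducedAll_iff f x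

/-- S3455 -/
theorem S3455_main {X S : Scheme.{u}} (f : X ⟶ S)
    [LocallyOfFinitePresentation f] :
    Topology.IsLocallyConstructible {x : X |
      ∀ (K : Type u) [Field K] [Algebra (IsLocalRing.ResidueField (S.presheaf.stalk (f.base x))) K]
        (x' : ↥(FBase.bc (f.fiberToSpecResidueField (f.base x)) K)),
        (FBase.bcπ (f.fiberToSpecResidueField (f.base x)) K).base x' = f.asFiber x →
          (IsDomain ((FBase.bc (f.fiberToSpecResidueField (f.base x)) K).presheaf.stalk x') ∧ IsIntegrallyClosed ((FBase.bc (f.fiberToSpecResidueField (f.base x)) K).presheaf.stalk x'))} := by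
  have h1 := (fibLocus_rsLocus 1).isLocallyConstructible f
  convert h1 using 1
  ext x
  exact normalAll_iff f x

theorem isOpen_flat_inter_rsLocus {X Y : Scheme.{u}} (f : X ⟶ Y) [LocallyOfFinitePresentation f]
    (k : ℕ) : IsOpen {x : X | (f.stalkMap x).hom.Flat ∧ x ∈ rsLocus k f} := by
  have hopen := Groth.Agent.Lead.FlatLoc.isOpen_flatLocus_of_locallyOfFinitePresentation f
  let V : X.Opens := ⟨{x | (f.stalkMap x).hom.Flat}, hopen⟩
  haveI : Flat (V.ι ≫ f) := by
    apply Flat.of_stalkMap
    intro v
    exact (Groth.Agent.Lib.Helper6.EtLoc.flat_stalkMap_comp_iff V.ι f v).mp v.2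
  have h1 := isOpen_rsLocus (V.ι ≫ f) k
  rw [rsLocus_comp_openImmersion] at h1
  have h2 := V.ι.isOpenEmbedding.isOpenMap _ h1
  convert h2 using 1
  ext x
  constructor
  · rintro ⟨hx1, hx2⟩
    exact ⟨⟨x, hx1⟩, hx2, rfl⟩
  · rintro ⟨v, hv, rfl⟩
    exact ⟨v.2, hv⟩

/-- S5923 -/
theorem S5923_main {X Y : Scheme.{u}} (f : X ⟶ Y) [LocallyOfFinitePresentation f] :
    IsOpen {x : X | (f.stalkMap x).hom.Flat ∧
      ∀ (K : Type u) [Field K] [Algebra (IsLocalRing.ResidueField (Y.presheaf.stalk (f.base x))) K],
        Module.Finite (IsLocalRing.ResidueField (Y.presheaf.stalk (f.base x))) K →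
        ∀ x' : ↥(FBase.bc (f.fiberToSpecResidueField (f.base x)) K),
          (FBase.bcπ (f.fiberToSpecResidueField (f.base x)) K).base x' = f.asFiber x →
          IsDomain ((FBase.bc (f.fiberToSpecResidueField (f.base x)) K).presheaf.stalk x') ∧
            IsIntegrallyClosed ((FBase.bc (f.fiberToSpecResidueField (f.base x)) K).presheaf.stalk x')} := by
  have h1 := isOpen_flat_inter_rsLocus f 1
  convert h1 using 1
  ext x
  exact and_congr Iff.rfl (normalFin_iff f x)

/-- S4963 -/
theorem S4963_main {X Y : Scheme.{u}} (f : X ⟶ Y)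
    [LocallyOfFinitePresentation f] :
    IsOpen {x : X | (f.stalkMap x).hom.Flat ∧ FBase.IsGeomReducedAt (f.fiberToSpecResidueField (f.base x)) (f.asFiber x)} := by
  have h1 := isOpen_flat_inter_rsLocus f 0
  convert h1 using 1
  ext x
  exact and_congr Iff.rfl (reducedAll_iff f x)

theorem normalFin_fiber_iff {X Y : Scheme.{u}} (f : X ⟶ Y) [LocallyOfFinitePresentation f] (y : Y)
    (x : ↥(f.fiber y)) :
    (∀ (K : Type u) [Field K] [Algebra (IsLocalRing.ResidueField (Y.presheaf.stalk y)) K],
        Module.Finite (IsLocalRing.ResidueField (Y.presheaf.stalk y)) K →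
        ∀ x' : ↥(FBase.bc (f.fiberToSpecResidueField y) K),
          (FBase.bcπ (f.fiberToSpecResidueField y) K).base x' = x →
          IsDomain ((FBase.bc (f.fiberToSpecResidueField y) K).presheaf.stalk x') ∧
            IsIntegrallyClosed ((FBase.bc (f.fiberToSpecResidueField y) K).presheaf.stalk x'))
      ↔ f.fiberι y x ∈ rsLocus 1 f := by
  haveI := lfp_fiber f y
  rw [mem_rsLocus_iff]
  have h3 := fiber_congr f (fun y w => RkAt 1 (f.fiberToSpecResidueField y) w ∧
    HasSk (1 + 1) ((f.fiber y).presheaf.stalk w) ((f.fiber y).presheaf.stalk w))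
    (f.asFiber (f.fiberι y x)) x (f.fiberι_asFiber _)
  rw [h3]
  exact forall_normal_iff (κ := Y.residueField y) (f.fiberToSpecResidueField y)
    (fun K _ _ => Module.Finite (Y.residueField y) K)
    (fun _ _ _ h => h) x

/-- S5933 -/
theorem S5933_main {X Y : Scheme.{u}} (f : X ⟶ Y) [IsProper f] [Flat f]
    [LocallyOfFinitePresentation f] :
    IsOpen {y : Y | ∀ x : ↥(f.fiber y), (∀ (K : Type u) [Field K] [Algebra (IsLocalRing.ResidueField (Y.presheaf.stalk y)) K],
        Module.Finite (IsLocalRing.ResidueField (Y.presheaf.stalk y)) K →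
        ∀ x' : ↥(FBase.bc (f.fiberToSpecResidueField y) K),
          (FBase.bcπ (f.fiberToSpecResidueField y) K).base x' = x →
          IsDomain ((FBase.bc (f.fiberToSpecResidueField y) K).presheaf.stalk x') ∧
            IsIntegrallyClosed ((FBase.bc (f.fiberToSpecResidueField y) K).presheaf.stalk x'))} := by
  have h1 : IsClosed (f '' (rsLocus 1 f)ᶜ) :=
    f.isClosedMap _ (isOpen_rsLocus f 1).isClosed_compl
  convert h1.isOpen_compl using 1
  ext y
  simp only [Set.mem_setOf_eq, Set.mem_compl_iff, Set.mem_image, not_exists, not_and, not_not]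
  constructor
  · intro h x hx hfx
    apply hx
    subst hfx
    have h2 := (normalFin_fiber_iff f (f x) (f.asFiber x)).mp (h (f.asFiber x))
    rwa [f.fiberι_asFiber] at h2
  · intro h x
    rw [normalFin_fiber_iff]
    by_contra hne
    exact h (f.fiberι y x) hne (Groth.Agent.Helper3.FibStalk.apply_fiberι f y x)

end Groth.Agent.Lead.RkLoc
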