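import Mathlib

set_option autoImplicit false
set_option backward.isDefEq.respectTransparency.types false
set_option synthInstance.maxHeartbeats 400000
set_option linter.style.haveILetI false
universe u

open AlgebraicGeometry CategoryTheory Limits TensorProduct

namespace Groth.Agent.Lead.GeomCount

/-! ### topology of discrete spaces -/

theorem irreducibleComponents_eq_of_discrete (T : Type*) [TopologicalSpace T] [DiscreteTopology T] :
    irreducibleComponents T = Set.range (fun t : T => ({t} : Set T)) := by
  ext s
  constructor
  · intro hs
    have hirr : IsIrreducible s := hs.1
    obtain ⟨t, ht⟩ := hirr.nonempty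
    refine ⟨t, ?_⟩
    have : s.Subsingleton := hirr.isPreirreducible.subsingleton
    exact (this.eq_singleton_of_mem ht).symm
  · rintro ⟨t, rfl⟩
    refine ⟨isIrreducible_singleton, fun s' hs' hle => ?_⟩
    have : s'.Subsingleton := hs'.isPreirreducible.subsingleton
    intro x hx
    have := this hx (hle (Set.mem_singleton t))
    exact this

theorem encard_irreducibleComponents_of_discrete (T : Type*) [TopologicalSpace T]
    [DiscreteTopology T] : (irreducibleComponents T).encard = ENat.card T := by
  rw [irreducibleComponents_eq_of_discrete]
  have hinj : Function.Injective (fun t : T => ({t} : Set T)) := Set.singleton_injective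
  rw [← Set.image_univ, hinj.encard_image, Set.encard_univ]

theorem card_connectedComponents_of_discrete (T : Type*) [TopologicalSpace T]
    [DiscreteTopology T] : ENat.card (ConnectedComponents T) = ENat.card T := by
  have hbij : Function.Bijective (ConnectedComponents.mk : T → ConnectedComponents T) := by
    refine ⟨fun a b hab => ?_, ConnectedComponents.surjective_coe⟩
    rw [ConnectedComponents.coe_eq_coe'] at hab
    simpa using hab
  exact (ENat.card_congr (Equiv.ofBijective _ hbij)).symm

end Groth.Agent.Lead.GeomCount
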