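import Mathlib
import Groth.Prelude.Def_MoreMor
import Groth.Agent.Lib.Lead.GeomCount1

set_option autoImplicit false
set_option backward.isDefEq.respectTransparency.types false
set_option synthInstance.maxHeartbeats 400000
set_option linter.style.haveILetI false
universe u

open AlgebraicGeometry CategoryTheory Limits TensorProduct

namespace Groth.Agent.Lead.GeomCount

theorem discreteTopology_of_lqf_field {Z : Scheme.{u}} (K : Type u) [Field K]
    (q : Z ⟶ Spec (CommRingCat.of K)) [LocallyQuasiFinite q] : DiscreteTopology Z := by
  have h := q.isDiscrete_preimage_singleton (default : Spec (CommRingCat.of K))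
  have huniv : q ⁻¹' {(default : Spec (CommRingCat.of K))} = Set.univ := by
    ext z
    simp only [Set.mem_preimage, Set.mem_singleton_iff, Set.mem_univ, iff_true]
    exact Subsingleton.elim _ _
  rw [huniv] at h
  have := h.to_subtype
  exact (Homeomorph.Set.univ Z).discreteTopology

theorem discreteTopology_geomFiber {X Y : Scheme.{u}} (f : X ⟶ Y) [LocallyQuasiFinite f] (y : Y) :
    DiscreteTopology ↥(MoreMor.geomFiber f y) := by
  unfold MoreMor.geomFiber
  haveI : LocallyQuasiFinite (f.fiberToSpecResidueField y) := by
    show LocallyQuasiFinite (pullback.snd f (Y.fromSpecResidueField y))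
    infer_instance
  exact discreteTopology_of_lqf_field (SeparableClosure (Y.residueField y)) (pullback.snd _ _)

theorem part1 {X Y : Scheme.{u}} (f : X ⟶ Y) [LocallyQuasiFinite f] (y : Y) :
    MoreMor.nGeomIrredComp f y = MoreMor.nGeomConnComp f y := by
  haveI := discreteTopology_geomFiber f y
  unfold MoreMor.nGeomIrredComp MoreMor.nGeomConnComp
  rw [encard_irreducibleComponents_of_discrete, card_connectedComponents_of_discrete]

end Groth.Agent.Lead.GeomCount
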