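import Mathlib
import Groth.Prelude.Def_MoreMor
import Groth.Agent.Lib.Helper6.EtLoc.PIPoint

set_option autoImplicit false
set_option backward.isDefEq.respectTransparency.types false
set_option synthInstance.maxHeartbeats 400000
set_option linter.style.haveILetI false
set_option linter.unusedSectionVars false

universe u

open AlgebraicGeometry CategoryTheory Limits

namespace Groth.Agent.Lead.Wt

variable {P V : Scheme.{u}}

/-- Separable degree of the residue field extension at `t`. -/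
noncomputable def sdeg (ρ : P ⟶ V) (t : P) : ℕ :=
  letI := (ρ.residueFieldMap t).hom.toAlgebra
  Field.finSepDegree (V.residueField (ρ t)) (P.residueField t)

/-- The integral of `W` over the part of the fibre of `ρ` over `v` lying in `S`. -/
noncomputable def sInt (ρ : P ⟶ V) (S : Set P) (W : P → ℤ) (v : V) : ℤ :=
  ∑ᶠ t : {t : P // t ∈ S ∧ ρ t = v}, W t.1 * (sdeg ρ t.1 : ℤ)

theorem fibreIntegral_eq_sInt (π : P ⟶ V) (w : P → ℤ) (v : V) :
    MoreMor.fibreIntegral π w v = sInt π Set.univ w v := by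
  unfold MoreMor.fibreIntegral sInt
  let e : {u : P // π u = v} ≃ {t : P // t ∈ (Set.univ : Set P) ∧ π t = v} :=
    { toFun := fun u => ⟨u.1, trivial, u.2⟩
      invFun := fun t => ⟨t.1, t.2.2⟩
      left_inv := fun u => rfl
      right_inv := fun t => rfl }
  rw [← finsum_comp_equiv e]
  rfl

theorem sdeg_pos (ρ : P ⟶ V) (t : P) (hfin : (ρ.residueFieldMap t).hom.Finite) : 0 < sdeg ρ t := by
  unfold sdeg
  letI := (ρ.residueFieldMap t).hom.toAlgebra
  have : Module.Finite (V.residueField (ρ t)) (P.residueField t) := hfin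
  exact Nat.pos_of_ne_zero (NeZero.ne _)

theorem sdeg_pos' (ρ : P ⟶ V) [LocallyQuasiFinite ρ] (t : P) : 0 < sdeg ρ t :=
  sdeg_pos ρ t (Groth.Agent.Lib.Helper6.EtLoc.finite_residueFieldMap_of_quasiFiniteAt ρ t
    (ρ.quasiFiniteAt t))

/-- Count of embeddings of the residue field at `t` into an algebraically closed field. -/
theorem card_homs (ρ : P ⟶ V) (t : P) (hfin : (ρ.residueFieldMap t).hom.Finite)
    (Ω : Type u) [Field Ω] [IsAlgClosed Ω] (j : V.residueField (ρ t) ⟶ CommRingCat.of Ω) :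
    Nat.card {σ : P.residueField t ⟶ CommRingCat.of Ω // ρ.residueFieldMap t ≫ σ = j} =
      sdeg ρ t := by
  unfold sdeg
  letI := (ρ.residueFieldMap t).hom.toAlgebra
  letI : Algebra (V.residueField (ρ t)) Ω := j.hom.toAlgebra
  have : Module.Finite (V.residueField (ρ t)) (P.residueField t) := hfin
  rw [Field.finSepDegree_eq_of_isAlgClosed (V.residueField (ρ t)) (P.residueField t) Ω]
  refine Nat.card_congr ?_
  exact
    { toFun := fun σ => { σ.1.hom with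
        commutes' := fun r => by
          have := σ.2
          exact congrArg (fun m : V.residueField (ρ t) ⟶ CommRingCat.of Ω => m.hom r) this }
      invFun := fun τ => ⟨CommRingCat.ofHom τ.toRingHom, by
        ext r
        exact τ.commutes r⟩
      left_inv := fun σ => by
        apply Subtype.ext
        rfl
      right_inv := fun τ => by
        ext r
        rfl }


section GeomPts

variable (Ω : Type u) [Field Ω]

/-- Geometric points of `P` lying over the geometric point `vb` of `V` and landing in `S`. -/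
def GP (ρ : P ⟶ V) (S : Set P) (vb : Spec (CommRingCat.of Ω) ⟶ V) : Type u :=
  {ab : Spec (CommRingCat.of Ω) ⟶ P // ab ≫ ρ = vb ∧ ab (IsLocalRing.closedPoint Ω) ∈ S}

/-- Pairs (point of the fibre in `S`, embedding of its residue field over the base one). -/
def GPσ (ρ : P ⟶ V) (S : Set P) (vb : Spec (CommRingCat.of Ω) ⟶ V) : Type u :=
  Σ t : {t : P // t ∈ S ∧ ρ t = vb (IsLocalRing.closedPoint Ω)},
    {σ : P.residueField t.1 ⟶ CommRingCat.of Ω //
      ρ.residueFieldMap t.1 ≫ σ = (V.residueFieldCongr t.2.2).hom ≫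
        V.descResidueField (Scheme.stalkClosedPointTo vb)}

theorem gp_iff (ρ : P ⟶ V) (vb : Spec (CommRingCat.of Ω) ⟶ V)
    (ab : Spec (CommRingCat.of Ω) ⟶ P) :
    ab ≫ ρ = vb ↔ ∃ e : ρ (ab (IsLocalRing.closedPoint Ω)) = vb (IsLocalRing.closedPoint Ω),
      ρ.residueFieldMap (ab (IsLocalRing.closedPoint Ω)) ≫
        P.descResidueField (Scheme.stalkClosedPointTo ab) =
        (V.residueFieldCongr e).hom ≫ V.descResidueField (Scheme.stalkClosedPointTo vb) := by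
  rw [← (Scheme.SpecToEquivOfField Ω V).apply_eq_iff_eq, Scheme.SpecToEquivOfField_eq_iff]
  simp only [Scheme.SpecToEquivOfField_apply_fst, Scheme.SpecToEquivOfField_apply_snd]
  constructor
  · rintro ⟨e, h⟩
    exact ⟨e, (Scheme.descResidueField_stalkClosedPointTo_comp ρ ab).symm.trans h⟩
  · rintro ⟨e, h⟩
    exact ⟨e, (Scheme.descResidueField_stalkClosedPointTo_comp ρ ab).trans h⟩


theorem comp_fromSpecResidueField_pt (t : P) (σ : P.residueField t ⟶ CommRingCat.of Ω) :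
    (Spec.map σ ≫ P.fromSpecResidueField t) (IsLocalRing.closedPoint Ω) = t := by
  rw [Scheme.Hom.comp_apply]
  exact Scheme.fromSpecResidueField_apply _ _

theorem desc_comp_fromSpecResidueField (t : P) (σ : P.residueField t ⟶ CommRingCat.of Ω) :
    P.descResidueField (Scheme.stalkClosedPointTo (Spec.map σ ≫ P.fromSpecResidueField t)) =
      (P.residueFieldCongr (comp_fromSpecResidueField_pt Ω t σ)).hom ≫ σ := by
  have h1 := (Scheme.SpecToEquivOfField Ω P).right_inv ⟨t, σ⟩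
  rw [Scheme.SpecToEquivOfField_eq_iff] at h1
  obtain ⟨e1, h1⟩ := h1
  exact h1

theorem gpMap_aux (ρ : P ⟶ V) (S : Set P) (vb : Spec (CommRingCat.of Ω) ⟶ V)
    (p : GPσ Ω ρ S vb) :
    (Spec.map p.2.1 ≫ P.fromSpecResidueField p.1.1) ≫ ρ = vb ∧
      (Spec.map p.2.1 ≫ P.fromSpecResidueField p.1.1) (IsLocalRing.closedPoint Ω) ∈ S := by
  obtain ⟨⟨t, hS, ht⟩, ⟨σ, hσ⟩⟩ := p
  have hpt := comp_fromSpecResidueField_pt Ω t σ
  refine ⟨?_, ?_⟩
  · rw [gp_iff]
    have e : ρ ((Spec.map σ ≫ P.fromSpecResidueField t) (IsLocalRing.closedPoint Ω)) =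
        vb (IsLocalRing.closedPoint Ω) := by rw [hpt]; exact ht
    refine ⟨e, ?_⟩
    rw [desc_comp_fromSpecResidueField, Scheme.Hom.residueFieldMap_congr'_assoc hpt]
    dsimp only at hσ
    rw [hσ, ← Category.assoc]
    congr 1
    rw [← Iso.trans_hom, Scheme.residueFieldCongr_trans]
  · rw [hpt]; exact hS

/-- The map from pairs to geometric points. -/
noncomputable def gpMap (ρ : P ⟶ V) (S : Set P) (vb : Spec (CommRingCat.of Ω) ⟶ V) :
    GPσ Ω ρ S vb → GP Ω ρ S vb := fun p =>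
  ⟨Spec.map p.2.1 ≫ P.fromSpecResidueField p.1.1, gpMap_aux Ω ρ S vb p⟩

theorem gpMap_pt (ρ : P ⟶ V) (S : Set P) (vb : Spec (CommRingCat.of Ω) ⟶ V) (p : GPσ Ω ρ S vb) :
    (gpMap Ω ρ S vb p).1 (IsLocalRing.closedPoint Ω) = p.1.1 :=
  comp_fromSpecResidueField_pt Ω _ _

theorem gpMap_bijective (ρ : P ⟶ V) (S : Set P) (vb : Spec (CommRingCat.of Ω) ⟶ V) :
    Function.Bijective (gpMap Ω ρ S vb) := by
  constructor
  · rintro ⟨⟨t, hS, ht⟩, ⟨σ, hσ⟩⟩ ⟨⟨t', hS', ht'⟩, ⟨σ', hσ'⟩⟩ h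
    have h1 : (⟨t, σ⟩ : Σ x : P, P.residueField x ⟶ CommRingCat.of Ω) = ⟨t', σ'⟩ :=
      (Scheme.SpecToEquivOfField Ω P).symm.injective (Subtype.ext_iff.mp h)
    cases h1
    rfl
  · rintro ⟨ab, h1, h2⟩
    obtain ⟨e, he⟩ := (gp_iff Ω ρ vb ab).mp h1
    refine ⟨⟨⟨ab (IsLocalRing.closedPoint Ω), h2, e⟩,
      ⟨P.descResidueField (Scheme.stalkClosedPointTo ab), he⟩⟩, ?_⟩
    apply Subtype.ext
    exact Scheme.descResidueField_stalkClosedPointTo_fromSpecResidueField Ω P ab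


theorem finite_homs (ρ : P ⟶ V) (t : P) (hfin : (ρ.residueFieldMap t).hom.Finite)
    [IsAlgClosed Ω] (j : V.residueField (ρ t) ⟶ CommRingCat.of Ω) :
    Finite {σ : P.residueField t ⟶ CommRingCat.of Ω // ρ.residueFieldMap t ≫ σ = j} := by
  apply Nat.finite_of_card_ne_zero
  rw [card_homs ρ t hfin Ω j]
  exact (sdeg_pos ρ t hfin).ne'

/-- The integral as a sum over geometric points. -/
theorem sInt_eq_sum_GP [IsAlgClosed Ω] (ρ : P ⟶ V) (S : Set P) (W : P → ℤ)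
    (vb : Spec (CommRingCat.of Ω) ⟶ V)
    (hS : Finite {t : P // t ∈ S ∧ ρ t = vb (IsLocalRing.closedPoint Ω)})
    (hfin : ∀ t, t ∈ S → ρ t = vb (IsLocalRing.closedPoint Ω) → (ρ.residueFieldMap t).hom.Finite) :
    sInt ρ S W (vb (IsLocalRing.closedPoint Ω)) =
      ∑ᶠ ab : GP Ω ρ S vb, W (ab.1 (IsLocalRing.closedPoint Ω)) := by
  classical
  rw [← finsum_comp_equiv (Equiv.ofBijective (gpMap Ω ρ S vb) (gpMap_bijective Ω ρ S vb))]
  have hfinσ : ∀ t : {t : P // t ∈ S ∧ ρ t = vb (IsLocalRing.closedPoint Ω)},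
      Finite {σ : P.residueField t.1 ⟶ CommRingCat.of Ω //
        ρ.residueFieldMap t.1 ≫ σ = (V.residueFieldCongr t.2.2).hom ≫
          V.descResidueField (Scheme.stalkClosedPointTo vb)} := fun t =>
    finite_homs Ω ρ t.1 (hfin t.1 t.2.1 t.2.2) _
  haveI := Fintype.ofFinite {t : P // t ∈ S ∧ ρ t = vb (IsLocalRing.closedPoint Ω)}
  haveI : ∀ t : {t : P // t ∈ S ∧ ρ t = vb (IsLocalRing.closedPoint Ω)},
      Fintype {σ : P.residueField t.1 ⟶ CommRingCat.of Ω //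
        ρ.residueFieldMap t.1 ≫ σ = (V.residueFieldCongr t.2.2).hom ≫
          V.descResidueField (Scheme.stalkClosedPointTo vb)} := fun t => Fintype.ofFinite _
  letI : Fintype (GPσ Ω ρ S vb) := by unfold GPσ; infer_instance
  unfold sInt
  rw [finsum_eq_sum_of_fintype, finsum_eq_sum_of_fintype]
  have h1 : ∀ p : GPσ Ω ρ S vb,
      W ((Equiv.ofBijective (gpMap Ω ρ S vb) (gpMap_bijective Ω ρ S vb) p).1
        (IsLocalRing.closedPoint Ω)) = W p.1.1 := fun p => by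
    rw [Equiv.ofBijective_apply, gpMap_pt]
  simp_rw [h1]
  unfold GPσ
  rw [Fintype.sum_sigma]
  refine Finset.sum_congr rfl fun t _ => ?_
  dsimp only
  rw [Finset.sum_const, Finset.card_univ,
    ← Nat.card_eq_fintype_card, card_homs ρ t.1 (hfin t.1 t.2.1 t.2.2) Ω _]
  simp [mul_comm]

end GeomPts


section BaseChange

theorem finite_subtype_of {ρ : P ⟶ V} {S : Set P} {v v' : V} (h : (S ∩ ρ ⁻¹' {v}).Finite)
    (hv : v' = v) : Finite {t : P // t ∈ S ∧ ρ t = v'} := by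
  subst hv
  have := h.to_subtype
  exact Finite.of_injective (fun t : {t : P // t ∈ S ∧ ρ t = v'} =>
    (⟨t.1, t.2.1, t.2.2⟩ : ↥(S ∩ ρ ⁻¹' {v'}))) (fun t t' h => Subtype.ext (congrArg (·.1) h))

theorem finite_of_subtype {ρ : P ⟶ V} {S : Set P} {v v' : V}
    (h : Finite {t : P // t ∈ S ∧ ρ t = v'}) (hv : v' = v) : (S ∩ ρ ⁻¹' {v}).Finite := by
  subst hv
  apply Set.finite_coe_iff.mp
  exact Finite.of_injective (fun t : ↥(S ∩ ρ ⁻¹' {v'}) =>
    (⟨t.1, t.2.1, t.2.2⟩ : {t : P // t ∈ S ∧ ρ t = v'})) (fun t t' h => Subtype.ext (congrArg (·.1) h))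

variable {P₁ V₁ : Scheme.{u}}

theorem sInt_congr_pt (ρ : P ⟶ V) (S : Set P) (W : P → ℤ) {v v' : V} (h : v = v') :
    sInt ρ S W v = sInt ρ S W v' := by rw [h]

theorem finite_GPσ (Ω : Type u) [Field Ω] [IsAlgClosed Ω] (ρ : P ⟶ V) [LocallyQuasiFinite ρ]
    (S : Set P) (vb : Spec (CommRingCat.of Ω) ⟶ V)
    (hS : Finite {t : P // t ∈ S ∧ ρ t = vb (IsLocalRing.closedPoint Ω)}) :
    Finite (GPσ Ω ρ S vb) := by
  have : ∀ t : {t : P // t ∈ S ∧ ρ t = vb (IsLocalRing.closedPoint Ω)},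
      Finite {σ : P.residueField t.1 ⟶ CommRingCat.of Ω //
        ρ.residueFieldMap t.1 ≫ σ = (V.residueFieldCongr t.2.2).hom ≫
          V.descResidueField (Scheme.stalkClosedPointTo vb)} := fun t =>
    finite_homs Ω ρ t.1 (Groth.Agent.Lib.Helper6.EtLoc.finite_residueFieldMap_of_quasiFiniteAt ρ t.1
      (ρ.quasiFiniteAt t.1)) _
  unfold GPσ
  infer_instance

theorem nonempty_homs (Ω : Type u) [Field Ω] [IsAlgClosed Ω] (ρ : P ⟶ V) [LocallyQuasiFinite ρ]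
    (t : P) (j : V.residueField (ρ t) ⟶ CommRingCat.of Ω) :
    Nonempty {σ : P.residueField t ⟶ CommRingCat.of Ω // ρ.residueFieldMap t ≫ σ = j} := by
  have hfin := Groth.Agent.Lib.Helper6.EtLoc.finite_residueFieldMap_of_quasiFiniteAt ρ t
    (ρ.quasiFiniteAt t)
  have h1 := card_homs ρ t hfin Ω j
  have h2 := sdeg_pos ρ t hfin
  by_contra hne
  rw [not_nonempty_iff] at hne
  rw [Nat.card_of_isEmpty] at h1
  omega

theorem finite_fibre_of_finite_GP (Ω : Type u) [Field Ω] [IsAlgClosed Ω] (ρ : P ⟶ V)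
    [LocallyQuasiFinite ρ] (S : Set P) (vb : Spec (CommRingCat.of Ω) ⟶ V)
    (h : Finite (GP Ω ρ S vb)) :
    Finite {t : P // t ∈ S ∧ ρ t = vb (IsLocalRing.closedPoint Ω)} := by
  have h1 : Finite (GPσ Ω ρ S vb) :=
    Finite.of_injective _ (gpMap_bijective Ω ρ S vb).injective
  refine Finite.of_surjective (fun p : GPσ Ω ρ S vb => p.1) ?_
  intro t
  obtain ⟨σ⟩ := nonempty_homs Ω ρ t.1 ((V.residueFieldCongr t.2.2).hom ≫
          V.descResidueField (Scheme.stalkClosedPointTo vb))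
  exact ⟨⟨t, σ⟩, rfl⟩

/-- The bijection on geometric points induced by a pullback square. -/
noncomputable def gpEquiv (Ω : Type u) [Field Ω] {ρ : P ⟶ V} {ρ₁ : P₁ ⟶ V₁} {a : P₁ ⟶ P}
    {e : V₁ ⟶ V} (hpb : IsPullback a ρ₁ ρ e) (S : Set P)
    (vb₁ : Spec (CommRingCat.of Ω) ⟶ V₁) :
    GP Ω ρ₁ (a ⁻¹' S) vb₁ ≃ GP Ω ρ S (vb₁ ≫ e) where
  toFun ab := ⟨ab.1 ≫ a, by
    refine ⟨?_, ?_⟩
    · rw [Category.assoc, hpb.w, ← Category.assoc, ab.2.1]
    · have := ab.2.2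
      rwa [Set.mem_preimage, ← Scheme.Hom.comp_apply] at this⟩
  invFun ab := ⟨hpb.lift ab.1 vb₁ ab.2.1, by
    refine ⟨hpb.lift_snd _ _ _, ?_⟩
    rw [Set.mem_preimage, ← Scheme.Hom.comp_apply, hpb.lift_fst]
    exact ab.2.2⟩
  left_inv ab := by
    apply Subtype.ext
    apply hpb.hom_ext
    · rw [hpb.lift_fst]
    · rw [hpb.lift_snd]; exact ab.2.1.symm
  right_inv ab := by
    apply Subtype.ext
    exact hpb.lift_fst _ _ _

theorem sInt_baseChange {ρ : P ⟶ V} {ρ₁ : P₁ ⟶ V₁} {a : P₁ ⟶ P} {e : V₁ ⟶ V}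
    (hpb : IsPullback a ρ₁ ρ e) [LocallyQuasiFinite ρ] (S : Set P) (W : P → ℤ) (v₁ : V₁)
    (hS : (S ∩ ρ ⁻¹' {e v₁}).Finite) :
    (a ⁻¹' S ∩ ρ₁ ⁻¹' {v₁}).Finite ∧ sInt ρ₁ (a ⁻¹' S) (W ∘ a) v₁ = sInt ρ S W (e v₁) := by
  have hq₁ : LocallyQuasiFinite ρ₁ :=
    MorphismProperty.of_isPullback (P := @LocallyQuasiFinite) hpb inferInstance
  let Ω : Type u := AlgebraicClosure (V₁.residueField v₁)
  let j₁ : V₁.residueField v₁ ⟶ CommRingCat.of Ω :=
    CommRingCat.ofHom (algebraMap (V₁.residueField v₁) Ω)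
  let vb₁ : Spec (CommRingCat.of Ω) ⟶ V₁ := Spec.map j₁ ≫ V₁.fromSpecResidueField v₁
  have hv₁ : vb₁ (IsLocalRing.closedPoint Ω) = v₁ := comp_fromSpecResidueField_pt Ω v₁ j₁
  have hv : (vb₁ ≫ e) (IsLocalRing.closedPoint Ω) = e v₁ := by
    rw [Scheme.Hom.comp_apply, hv₁]
  have hfS : Finite {t : P // t ∈ S ∧ ρ t = (vb₁ ≫ e) (IsLocalRing.closedPoint Ω)} :=
    finite_subtype_of hS hv
  have hfGP : Finite (GP Ω ρ S (vb₁ ≫ e)) := by
    have := finite_GPσ Ω ρ S (vb₁ ≫ e) hfS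
    exact Finite.of_surjective _ (gpMap_bijective Ω ρ S (vb₁ ≫ e)).surjective
  have hfGP₁ : Finite (GP Ω ρ₁ (a ⁻¹' S) vb₁) :=
    Finite.of_injective _ (gpEquiv Ω hpb S vb₁).injective
  have hfS₁ : Finite {t : P₁ // t ∈ a ⁻¹' S ∧ ρ₁ t = vb₁ (IsLocalRing.closedPoint Ω)} :=
    finite_fibre_of_finite_GP Ω ρ₁ (a ⁻¹' S) vb₁ hfGP₁
  refine ⟨finite_of_subtype hfS₁ hv₁, ?_⟩
  rw [sInt_congr_pt ρ₁ _ _ hv₁.symm, sInt_congr_pt ρ S W hv.symm,
    sInt_eq_sum_GP Ω ρ₁ (a ⁻¹' S) (W ∘ a) vb₁ hfS₁ (fun t _ _ =>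
      Groth.Agent.Lib.Helper6.EtLoc.finite_residueFieldMap_of_quasiFiniteAt ρ₁ t
        (ρ₁.quasiFiniteAt t)),
    sInt_eq_sum_GP Ω ρ S W (vb₁ ≫ e) hfS (fun t _ _ =>
      Groth.Agent.Lib.Helper6.EtLoc.finite_residueFieldMap_of_quasiFiniteAt ρ t
        (ρ.quasiFiniteAt t)),
    ← finsum_comp_equiv (gpEquiv Ω hpb S vb₁)]
  rfl

end BaseChange

end Groth.Agent.Lead.Wt
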