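import Mathlib
import Groth.Agent.Lib.Lead.Wt1

set_option autoImplicit false
set_option backward.isDefEq.respectTransparency.types false
set_option synthInstance.maxHeartbeats 400000
set_option linter.style.haveILetI false
set_option linter.unusedSectionVars false

universe u

open AlgebraicGeometry CategoryTheory Limits

namespace Groth.Agent.Lead.Wt

variable {P V P₁ V₁ : Scheme.{u}}

theorem sInt_eq_finsum_mem (ρ : P ⟶ V) (S : Set P) (W : P → ℤ) (v : V) :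
    sInt ρ S W v = ∑ᶠ t ∈ S ∩ ρ ⁻¹' {v}, W t * (sdeg ρ t : ℤ) := by
  unfold sInt
  exact finsum_subtype_eq_finsum_cond (f := fun t => W t * (sdeg ρ t : ℤ))
    (fun t => t ∈ S ∧ ρ t = v)

theorem sInt_congr_set (ρ : P ⟶ V) {S S' : Set P} (W : P → ℤ) (v : V)
    (h : S ∩ ρ ⁻¹' {v} = S' ∩ ρ ⁻¹' {v}) : sInt ρ S W v = sInt ρ S' W v := by
  rw [sInt_eq_finsum_mem, sInt_eq_finsum_mem, h]

theorem sInt_eq_single (ρ : P ⟶ V) (S : Set P) (W : P → ℤ) (v : V) (t : P)
    (h : S ∩ ρ ⁻¹' {v} = {t}) : sInt ρ S W v = W t * (sdeg ρ t : ℤ) := by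
  rw [sInt_eq_finsum_mem, h, finsum_mem_singleton]

theorem sInt_eq_zero_of_empty (ρ : P ⟶ V) (S : Set P) (W : P → ℤ) (v : V)
    (h : S ∩ ρ ⁻¹' {v} = ∅) : sInt ρ S W v = 0 := by
  rw [sInt_eq_finsum_mem, h, finsum_mem_empty]

theorem sInt_iUnion (ρ : P ⟶ V) {K : Type*} [Finite K] (S : K → Set P) (W : P → ℤ) (v : V)
    (hd : ∀ k k', k ≠ k' → Disjoint (S k ∩ ρ ⁻¹' {v}) (S k' ∩ ρ ⁻¹' {v}))
    (hf : ∀ k, (S k ∩ ρ ⁻¹' {v}).Finite) :
    sInt ρ (⋃ k, S k) W v = ∑ᶠ k, sInt ρ (S k) W v := by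
  rw [sInt_eq_finsum_mem, Set.iUnion_inter]
  rw [finsum_mem_iUnion (fun k k' hkk' => hd k k' hkk') hf]
  refine finsum_congr fun k => ?_
  rw [sInt_eq_finsum_mem]

theorem sdeg_comp (a : P₁ ⟶ P) (ρ : P ⟶ V) (t₁ : P₁)
    (halg : (a.residueFieldMap t₁).hom.IsIntegral) :
    sdeg (a ≫ ρ) t₁ = sdeg ρ (a t₁) * sdeg a t₁ := by
  unfold sdeg
  letI i1 : Algebra (V.residueField (ρ (a t₁))) (P.residueField (a t₁)) :=
    (ρ.residueFieldMap (a t₁)).hom.toAlgebra
  letI i2 : Algebra (P.residueField (a t₁)) (P₁.residueField t₁) :=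
    (a.residueFieldMap t₁).hom.toAlgebra
  letI i3 : Algebra (V.residueField (ρ (a t₁))) (P₁.residueField t₁) :=
    ((a ≫ ρ).residueFieldMap t₁).hom.toAlgebra
  have : IsScalarTower (V.residueField (ρ (a t₁))) (P.residueField (a t₁))
      (P₁.residueField t₁) := IsScalarTower.of_algebraMap_eq' (by
    change ((a ≫ ρ).residueFieldMap t₁).hom = _
    rw [Scheme.residueFieldMap_comp]
    rfl)
  have : Algebra.IsAlgebraic (P.residueField (a t₁)) (P₁.residueField t₁) := by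
    have : Algebra.IsIntegral (P.residueField (a t₁)) (P₁.residueField t₁) := ⟨halg⟩
    infer_instance
  exact (Field.finSepDegree_mul_finSepDegree_of_isAlgebraic (V.residueField (ρ (a t₁)))
    (P.residueField (a t₁)) (P₁.residueField t₁)).symm

theorem sdeg_eq_one_of_bijective (a : P₁ ⟶ P) (t₁ : P₁)
    (h : Function.Bijective (a.residueFieldMap t₁).hom) : sdeg a t₁ = 1 := by
  unfold sdeg
  letI := (a.residueFieldMap t₁).hom.toAlgebra
  have e : P.residueField (a t₁) ≃ₐ[P.residueField (a t₁)] P₁.residueField t₁ :=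
    AlgEquiv.ofBijective (Algebra.ofId _ _) h
  rw [← Field.finSepDegree_eq_of_equiv _ _ _ e, Field.finSepDegree_self]

theorem sdeg_comp_of_isOpenImmersion (a : P₁ ⟶ P) [IsOpenImmersion a] (ρ : P ⟶ V) (t₁ : P₁) :
    sdeg (a ≫ ρ) t₁ = sdeg ρ (a t₁) := by
  have hb : Function.Bijective (a.residueFieldMap t₁).hom :=
    ConcreteCategory.bijective_of_isIso (a.residueFieldMap t₁)
  rw [sdeg_comp a ρ t₁ (RingHom.IsIntegral.of_finite
    (RingHom.Finite.of_surjective _ hb.surjective)), sdeg_eq_one_of_bijective a t₁ hb, mul_one]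


theorem sInt_comp_of_isOpenImmersion (a : P₁ ⟶ P) [IsOpenImmersion a] (ρ : P ⟶ V) (S : Set P)
    (W : P → ℤ) (v : V) :
    sInt (a ≫ ρ) (a ⁻¹' S) (W ∘ a) v = sInt ρ (S ∩ Set.range a) W v := by
  unfold sInt
  let φ : {t : P₁ // t ∈ a ⁻¹' S ∧ (a ≫ ρ) t = v} → {t : P // t ∈ S ∩ Set.range a ∧ ρ t = v} :=
    fun t => ⟨a t.1, ⟨t.2.1, t.1, rfl⟩, t.2.2⟩
  have hφ : Function.Bijective φ := by
    constructor
    · intro t t' h
      apply Subtype.ext
      exact a.isOpenEmbedding.injective (congrArg (·.1) h)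
    · rintro ⟨t, ⟨hS, t₁, rfl⟩, ht⟩
      exact ⟨⟨t₁, hS, ht⟩, rfl⟩
  rw [← finsum_comp_equiv (Equiv.ofBijective φ hφ)]
  refine finsum_congr fun t => ?_
  rw [Equiv.ofBijective_apply]
  change W (a t.1) * (sdeg (a ≫ ρ) t.1 : ℤ) = W (a t.1) * (sdeg ρ (a t.1) : ℤ)
  rw [sdeg_comp_of_isOpenImmersion]

/-- The fibre integral over an open subscheme as a set integral. -/
theorem fibreIntegral_opens (ρ : P ⟶ V) (O : P.Opens) (W : P → ℤ) (v : V) :
    MoreMor.fibreIntegral (O.ι ≫ ρ) (fun u => W (O.ι u)) v = sInt ρ (O : Set P) W v := by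
  rw [fibreIntegral_eq_sInt]
  have h := sInt_comp_of_isOpenImmersion O.ι ρ Set.univ W v
  rw [Set.preimage_univ, Set.univ_inter, Scheme.Opens.range_ι] at h
  exact h

theorem finite_fibre_of_isFinite (ρ : P ⟶ V) (O : P.Opens) (hO : IsFinite (O.ι ≫ ρ)) (v : V) :
    ((O : Set P) ∩ ρ ⁻¹' {v}).Finite := by
  have h1 : ((O.ι ≫ ρ) ⁻¹' {v}).Finite := (O.ι ≫ ρ).finite_preimage_singleton v
  refine (h1.image O.ι).subset ?_
  rintro t ⟨htO, htv⟩
  exact ⟨⟨t, htO⟩, htv, rfl⟩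

theorem isFinite_preimage {ρ : P ⟶ V} {ρ₁ : P₁ ⟶ V₁} {a : P₁ ⟶ P} {e : V₁ ⟶ V}
    (hpb : IsPullback a ρ₁ ρ e) (O : P.Opens) (hO : IsFinite (O.ι ≫ ρ)) :
    IsFinite ((a ⁻¹ᵁ O).ι ≫ ρ₁) :=
  MorphismProperty.of_isPullback (P := @IsFinite)
    ((isPullback_morphismRestrict a O).paste_vert hpb) hO

theorem isClosed_image_of_isFinite (ρ : P ⟶ V) (O : P.Opens) (hO : IsFinite (O.ι ≫ ρ))
    (C : Set P) (hC : IsClosed C) : IsClosed (ρ '' ((O : Set P) ∩ C)) := by
  have h1 : IsClosed ((O.ι ≫ ρ) '' (O.ι ⁻¹' C)) :=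
    (O.ι ≫ ρ).isClosedMap _ (hC.preimage O.ι.continuous)
  convert h1 using 1
  ext v
  constructor
  · rintro ⟨t, ⟨htO, htC⟩, rfl⟩
    exact ⟨⟨t, htO⟩, htC, rfl⟩
  · rintro ⟨t, htC, rfl⟩
    exact ⟨O.ι t, ⟨t.2, htC⟩, rfl⟩


section Weighting

variable {X Y : Scheme.{u}}

/-- Criterion for being a weighting in terms of set integrals. -/
theorem isWeighting_of_sInt (f : X ⟶ Y) (w : X → ℤ)
    (h : ∀ (V : Scheme.{u}) (g : V ⟶ Y) [Etale g] (O : (pullback f g).Opens),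
      IsFinite (O.ι ≫ pullback.snd f g) →
      IsLocallyConstant (sInt (pullback.snd f g) (O : Set ↑(pullback f g))
        (fun t => w (pullback.fst f g t)))) :
    MoreMor.IsWeighting f w := by
  intro V g _ O hO
  have h1 := h V g O hO
  convert h1 using 1
  funext v
  exact fibreIntegral_opens (pullback.snd f g) O (fun t => w (pullback.fst f g t)) v

/-- A weighting gives locally constant set integrals over any étale pullback square. -/
theorem IsWeighting.sInt_locallyConstant {f : X ⟶ Y} [LocallyQuasiFinite f] {w : X → ℤ}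
    (hw : MoreMor.IsWeighting f w)
    {q : P ⟶ X} {ρ : P ⟶ V} {g : V ⟶ Y} (hpb : IsPullback q ρ f g) [Etale g]
    (O : P.Opens) (hO : IsFinite (O.ι ≫ ρ)) :
    IsLocallyConstant (sInt ρ (O : Set P) (fun t => w (q t))) := by
  let φ := hpb.isoPullback
  have hφ1 : φ.hom ≫ pullback.fst f g = q := hpb.isoPullback_hom_fst
  have hφ2 : φ.hom ≫ pullback.snd f g = ρ := hpb.isoPullback_hom_snd
  have hsq : IsPullback φ.inv (pullback.snd f g) ρ (𝟙 V) :=
    IsPullback.of_horiz_isIso ⟨by rw [Category.comp_id, ← hφ2, Iso.inv_hom_id_assoc]⟩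
  have hsq' : IsPullback φ.hom ρ (pullback.snd f g) (𝟙 V) :=
    IsPullback.of_horiz_isIso ⟨by rw [Category.comp_id, hφ2]⟩
  let O' : (pullback f g).Opens := φ.inv ⁻¹ᵁ O
  have hO' : IsFinite (O'.ι ≫ pullback.snd f g) := isFinite_preimage hsq O hO
  have h1 := hw V g O' hO'
  convert h1 using 1
  funext v
  rw [fibreIntegral_opens (pullback.snd f g) O' (fun t => w (pullback.fst f g t)) v]
  have h2 := (sInt_baseChange hsq' (O' : Set ↑(pullback f g))
    (fun t => w (pullback.fst f g t)) v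
    (finite_fibre_of_isFinite (pullback.snd f g) O' hO' _)).2
  have h3 : (φ.hom ⁻¹' (O' : Set ↑(pullback f g))) = (O : Set P) := by
    ext t
    change φ.inv (φ.hom t) ∈ O ↔ t ∈ O
    rw [← Scheme.Hom.comp_apply, Iso.hom_inv_id]
    rfl
  have h4 : ((fun t => w (pullback.fst f g t)) ∘ φ.hom) = fun t => w (q t) := by
    funext t
    change w (pullback.fst f g (φ.hom t)) = w (q t)
    rw [← Scheme.Hom.comp_apply, hφ1]
  rw [h3, h4] at h2
  rw [h2]
  rfl

end Weighting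

end Groth.Agent.Lead.Wt
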