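import Mathlib
import Groth.Agent.Lib.Lead.Wt2
import Groth.Agent.S1482

set_option autoImplicit false
set_option backward.isDefEq.respectTransparency.types false
set_option synthInstance.maxHeartbeats 400000
set_option linter.style.haveILetI false
set_option linter.unusedSectionVars false

universe u

open AlgebraicGeometry CategoryTheory Limits

namespace Groth.Agent.Lead.Wt

variable {P V P₁ V₁ : Scheme.{u}}

theorem exists_nhds_const_of_etale (e : V₁ ⟶ V) [Etale e] (F : V → ℤ) (c : ℤ)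
    (N : Set V₁) (hN : IsOpen N) (h : ∀ v' ∈ N, F (e v') = c) :
    IsOpen (e '' N) ∧ ∀ v ∈ e '' N, F v = c :=
  ⟨e.isOpenMap N hN, by rintro _ ⟨v', hv', rfl⟩; exact h v' hv'⟩

theorem unique_point_baseChange {ρ : P ⟶ V} {ρ₁ : P₁ ⟶ V₁} {a : P₁ ⟶ P} {e : V₁ ⟶ V}
    (hpb : IsPullback a ρ₁ ρ e) [LocallyQuasiFinite ρ] (S : Set P) (v₁ : V₁) (t : P)
    (hS : S ∩ ρ ⁻¹' {e v₁} = {t}) (hsd : sdeg ρ t = 1) :
    ∃ t₁ : P₁, a ⁻¹' S ∩ ρ₁ ⁻¹' {v₁} = {t₁} ∧ sdeg ρ₁ t₁ = 1 ∧ a t₁ = t := by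
  classical
  have hq₁ : LocallyQuasiFinite ρ₁ :=
    MorphismProperty.of_isPullback (P := @LocallyQuasiFinite) hpb inferInstance
  obtain ⟨hfin, hint⟩ := sInt_baseChange hpb S (fun _ => 1) v₁ (by rw [hS]; exact Set.finite_singleton t)
  rw [sInt_eq_single ρ S _ (e v₁) t hS, hsd, sInt_eq_finsum_mem,
    finsum_mem_eq_finite_toFinset_sum _ hfin] at hint
  simp only [Function.comp_apply, one_mul, Nat.cast_one] at hint
  have hpos : ∀ t₁ ∈ hfin.toFinset, (1 : ℤ) ≤ (sdeg ρ₁ t₁ : ℤ) := fun t₁ _ => by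
    have := sdeg_pos' ρ₁ t₁
    omega
  have hcard : (hfin.toFinset.card : ℤ) ≤ 1 := by
    have := Finset.card_nsmul_le_sum hfin.toFinset (fun t₁ => (sdeg ρ₁ t₁ : ℤ)) 1 hpos
    rw [hint] at this
    simpa using this
  have hne : hfin.toFinset.Nonempty := by
    rw [Finset.nonempty_iff_ne_empty]
    intro h0
    rw [h0, Finset.sum_empty] at hint
    omega
  have hc1 : hfin.toFinset.card = 1 := by
    have := Finset.card_pos.mpr hne
    omega
  obtain ⟨t₁, ht₁⟩ := Finset.card_eq_one.mp hc1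
  have hset : a ⁻¹' S ∩ ρ₁ ⁻¹' {v₁} = {t₁} := by
    have := congrArg (fun s : Finset P₁ => (s : Set P₁)) ht₁
    simpa using this
  refine ⟨t₁, hset, ?_, ?_⟩
  · rw [ht₁, Finset.sum_singleton] at hint
    exact_mod_cast hint
  · have hmem : t₁ ∈ a ⁻¹' S ∩ ρ₁ ⁻¹' {v₁} := by rw [hset]; rfl
    have h1 : a t₁ ∈ S ∩ ρ ⁻¹' {e v₁} := by
      refine ⟨hmem.1, ?_⟩
      change ρ (a t₁) = e v₁
      rw [← Scheme.Hom.comp_apply, hpb.w, Scheme.Hom.comp_apply]
      exact congrArg e hmem.2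
    rw [hS] at h1
    exact h1


/-- Étale localisation: finite pieces with a unique point of separable degree one. -/
theorem exists_pieces {X S : Scheme.{u}} (f : X ⟶ S) [LocallyOfFiniteType f]
    [LocallyQuasiFinite f] (s : S) (A : Set X) (hA : A.Finite) (hAs : ∀ x ∈ A, f x = s) :
    ∃ (U : Scheme.{u}) (g : U ⟶ S) (u : U), Etale g ∧ g u = s ∧
      ∀ t : ↑(pullback f g), pullback.snd f g t = u → pullback.fst f g t ∈ A →
        ∃ O : (pullback f g).Opens, IsFinite (O.ι ≫ pullback.snd f g) ∧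
          (O : Set ↑(pullback f g)) ∩ (pullback.snd f g) ⁻¹' {u} = {t} ∧
          sdeg (pullback.snd f g) t = 1 := by
  obtain ⟨n, x, hx⟩ := hA.fin_embedding
  have hxA : ∀ i, x i ∈ A := fun i => by rw [← hx]; exact ⟨i, rfl⟩
  obtain ⟨U, g, u, hg, hgu, J, hJ, O, v, h1, h2, h3⟩ :=
    Groth.Agent.S1482.result f s (ι := Fin n) x x.injective (fun i => hAs _ (hxA i))
      (fun i => f.quasiFiniteAt (x i))
  refine ⟨U, g, u, hg, hgu, ?_⟩
  intro t htu htA
  rw [← hx] at htA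
  obtain ⟨i, hi⟩ := htA
  obtain ⟨j, rfl⟩ := h3 t i htu hi.symm
  obtain ⟨hmem, hfin, hvu, huniq, ⟨_, hpi⟩, _⟩ := h1 i j
  refine ⟨O i j, hfin, ?_, ?_⟩
  · ext w
    constructor
    · rintro ⟨hw1, hw2⟩
      exact huniq w hw1 hw2
    · rintro rfl
      exact ⟨hmem, hvu⟩
  · unfold sdeg
    letI := ((pullback.snd f g).residueFieldMap (v i j)).hom.toAlgebra
    exact IsPurelyInseparable.finSepDegree_eq_one _ _


theorem le_sInt_of_pos (ρ : P ⟶ V) [LocallyQuasiFinite ρ] (S : Set P) (W : P → ℤ)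
    (hW : ∀ t, 0 < W t) (v : V) (hf : (S ∩ ρ ⁻¹' {v}).Finite) (t : P)
    (ht : t ∈ S ∩ ρ ⁻¹' {v}) : W t ≤ sInt ρ S W v := by
  classical
  rw [sInt_eq_finsum_mem, finsum_mem_eq_finite_toFinset_sum _ hf]
  have h1 : ∀ t' ∈ hf.toFinset, 0 ≤ W t' * (sdeg ρ t' : ℤ) := fun t' _ => by
    have := hW t'
    have := sdeg_pos' ρ t'
    positivity
  have h2 := Finset.single_le_sum h1 ((Set.Finite.mem_toFinset hf).mpr ht)
  refine le_trans ?_ h2
  have h3 := sdeg_pos' ρ t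
  have h4 := hW t
  nlinarith

theorem S1425_main {X Y : Scheme.{u}} (f : X ⟶ Y) [LocallyQuasiFinite f] [LocallyOfFiniteType f]
    (w : X → ℤ) (hw : MoreMor.IsWeighting f w) (hpos : ∀ x, 0 < w x) :
    UpperSemicontinuous w := by
  intro x c hc
  obtain ⟨U, g, u, hg, hgu, hpieces⟩ :=
    exists_pieces f (f x) {x} (Set.finite_singleton x) (by simp)
  obtain ⟨t, ht1, ht2⟩ := Scheme.Pullback.exists_preimage_pullback x u hgu.symm
  obtain ⟨O, hOfin, hOu, hsd⟩ := hpieces t ht2 (by simp [ht1])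
  have hlc := IsWeighting.sInt_locallyConstant hw (IsPullback.of_hasPullback f g) O hOfin
  have hval : sInt (pullback.snd f g) (O : Set ↑(pullback f g))
      (fun t => w (pullback.fst f g t)) u = w x := by
    rw [sInt_eq_single _ _ _ _ t hOu, hsd, ht1]; simp
  obtain ⟨N, hN, huN, hNc⟩ := (IsLocallyConstant.iff_exists_open _).mp hlc u
  have htO : t ∈ (O : Set ↑(pullback f g)) := by
    have : t ∈ (O : Set ↑(pullback f g)) ∩ (pullback.snd f g) ⁻¹' {u} := by rw [hOu]; rfl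
    exact this.1
  have hB : ∀ t' ∈ (O : Set ↑(pullback f g)) ∩ (pullback.snd f g) ⁻¹' N,
      w (pullback.fst f g t') ≤ w x := by
    rintro t' ⟨h1, h2⟩
    have h3 := hNc _ h2
    rw [hval] at h3
    rw [← h3]
    exact le_sInt_of_pos (pullback.snd f g) (O : Set ↑(pullback f g))
      (fun t => w (pullback.fst f g t)) (fun t => hpos _) _
      (finite_fibre_of_isFinite _ O hOfin _) t' ⟨h1, rfl⟩
  have hBopen : IsOpen ((O : Set ↑(pullback f g)) ∩ (pullback.snd f g) ⁻¹' N) :=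
    O.2.inter (hN.preimage (pullback.snd f g).continuous)
  have hmem : pullback.fst f g '' ((O : Set ↑(pullback f g)) ∩ (pullback.snd f g) ⁻¹' N) ∈ nhds x :=
    ((pullback.fst f g).isOpenMap _ hBopen).mem_nhds ⟨t, ⟨htO, by rw [Set.mem_preimage, ht2]; exact huN⟩, ht1⟩
  filter_upwards [hmem] with x' hx'
  obtain ⟨t', ht', rfl⟩ := hx'
  exact lt_of_le_of_lt (hB t' ht') hc

end Groth.Agent.Lead.Wt
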