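import Mathlib
import Groth.Agent.Lib.Lead.Wt3
import Groth.Agent.Lib.Helper6.EtLoc.FinUnion

set_option autoImplicit false
set_option backward.isDefEq.respectTransparency.types false
set_option synthInstance.maxHeartbeats 400000
set_option linter.style.haveILetI false
set_option linter.unusedSectionVars false

universe u

open AlgebraicGeometry CategoryTheory Limits

namespace Groth.Agent.Lead.Wt

variable {P V P₁ V₁ : Scheme.{u}}

theorem sInt_mono_of_pos (ρ : P ⟶ V) [LocallyQuasiFinite ρ] {S S' : Set P} (W : P → ℤ)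
    (hW : ∀ t, 0 < W t) (v : V) (hf : (S' ∩ ρ ⁻¹' {v}).Finite)
    (hSS : S ∩ ρ ⁻¹' {v} ⊆ S' ∩ ρ ⁻¹' {v}) : sInt ρ S W v ≤ sInt ρ S' W v := by
  classical
  have hf0 : (S ∩ ρ ⁻¹' {v}).Finite := hf.subset hSS
  rw [sInt_eq_finsum_mem, sInt_eq_finsum_mem, finsum_mem_eq_finite_toFinset_sum _ hf,
    finsum_mem_eq_finite_toFinset_sum _ hf0]
  apply Finset.sum_le_sum_of_subset_of_nonneg
  · intro t ht
    rw [Set.Finite.mem_toFinset] at ht ⊢
    exact hSS ht
  · intro t _ _
    have := hW t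
    have := sdeg_pos' ρ t
    positivity

set_option maxHeartbeats 1000000 in
theorem S1426_main {X Y : Scheme.{u}} (f : X ⟶ Y) [LocallyQuasiFinite f] [LocallyOfFiniteType f]
    [IsSeparated f] (hfin : ∀ y : Y, (f ⁻¹' {y}).Finite)
    (w : X → ℤ) (hw : MoreMor.IsWeighting f w) (hpos : ∀ x, 0 < w x) :
    LowerSemicontinuous (MoreMor.fibreIntegral f w) := by
  classical
  intro y c hc
  obtain ⟨U, g, u, hg, hgu, hpieces⟩ :=
    exists_pieces f y (f ⁻¹' {y}) (hfin y) (fun x hx => hx)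
  have hpb : IsPullback (pullback.fst f g) (pullback.snd f g) f g := IsPullback.of_hasPullback f g
  have hbc : ∀ v' : U, ((pullback.snd f g) ⁻¹' {v'}).Finite ∧
      sInt (pullback.snd f g) Set.univ (fun t => w (pullback.fst f g t)) v' =
        MoreMor.fibreIntegral f w (g v') := by
    intro v'
    have := sInt_baseChange hpb Set.univ w v' ((hfin (g v')).subset Set.inter_subset_right)
    rw [Set.preimage_univ, Set.univ_inter] at this
    rw [fibreIntegral_eq_sInt]
    exact this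
  have hTfin : Finite {t : ↑(pullback f g) // pullback.snd f g t = u} := (hbc u).1.to_subtype
  have hch : ∀ t : {t : ↑(pullback f g) // pullback.snd f g t = u},
      ∃ O : (pullback f g).Opens, IsFinite (O.ι ≫ pullback.snd f g) ∧
        (O : Set ↑(pullback f g)) ∩ (pullback.snd f g) ⁻¹' {u} = {t.1} ∧
        sdeg (pullback.snd f g) t.1 = 1 := fun t => hpieces t.1 t.2 (by
      change f (pullback.fst f g t.1) = y
      rw [← Scheme.Hom.comp_apply, pullback.condition, Scheme.Hom.comp_apply, t.2, hgu])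
  choose O hOfin hOu hsd using hch
  have hOcl : ∀ t, IsClosed (O t : Set ↑(pullback f g)) := fun t =>
    Groth.Agent.Lib.Helper6.EtLoc.isClosed_of_isFinite (pullback.snd f g) (O t) (hOfin t)
  have hlc : ∀ t, IsLocallyConstant (sInt (pullback.snd f g) (O t : Set ↑(pullback f g))
      (fun t => w (pullback.fst f g t))) := fun t =>
    IsWeighting.sInt_locallyConstant hw hpb (O t) (hOfin t)
  have hmemO : ∀ t, t.1 ∈ (O t : Set ↑(pullback f g)) := fun t => by
    have : t.1 ∈ (O t : Set ↑(pullback f g)) ∩ (pullback.snd f g) ⁻¹' {u} := by rw [hOu]; rfl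
    exact this.1
  -- disjointness locus
  let Z : Set U := ⋃ (t : {t : ↑(pullback f g) // pullback.snd f g t = u}),
    ⋃ (t' : {t' : {t : ↑(pullback f g) // pullback.snd f g t = u} // t ≠ t'}),
      pullback.snd f g '' ((O t : Set ↑(pullback f g)) ∩ (O t'.1 : Set ↑(pullback f g)))
  have hZcl : IsClosed Z := by
    refine isClosed_iUnion_of_finite fun t => isClosed_iUnion_of_finite fun t' => ?_
    exact isClosed_image_of_isFinite _ (O t) (hOfin t) _ (hOcl t'.1)
  have huZ : u ∉ Z := by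
    intro hu
    simp only [Z, Set.mem_iUnion] at hu
    obtain ⟨t, ⟨t', ht'⟩, s, ⟨hs1, hs2⟩, hsu⟩ := hu
    have e1 : s ∈ (O t : Set ↑(pullback f g)) ∩ (pullback.snd f g) ⁻¹' {u} := ⟨hs1, hsu⟩
    have e2 : s ∈ (O t' : Set ↑(pullback f g)) ∩ (pullback.snd f g) ⁻¹' {u} := ⟨hs2, hsu⟩
    rw [hOu] at e1 e2
    exact ht' (Subtype.ext (e1.symm.trans e2))
  -- constancy neighbourhoods
  have hN : ∀ t, ∃ N : Set U, IsOpen N ∧ u ∈ N ∧ ∀ v' ∈ N,
      sInt (pullback.snd f g) (O t : Set ↑(pullback f g)) (fun t => w (pullback.fst f g t)) v' =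
      sInt (pullback.snd f g) (O t : Set ↑(pullback f g)) (fun t => w (pullback.fst f g t)) u :=
    fun t => (IsLocallyConstant.iff_exists_open _).mp (hlc t) u
  choose N hNo huN hNc using hN
  let M : Set U := Zᶜ ∩ ⋂ t, N t
  have hMo : IsOpen M := hZcl.isOpen_compl.inter (isOpen_iInter_of_finite hNo)
  have huM : u ∈ M := ⟨huZ, Set.mem_iInter.mpr huN⟩
  have hdisj : ∀ v' ∈ Zᶜ, ∀ t t', t ≠ t' →
      Disjoint ((O t : Set ↑(pullback f g)) ∩ (pullback.snd f g) ⁻¹' {v'})
        ((O t' : Set ↑(pullback f g)) ∩ (pullback.snd f g) ⁻¹' {v'}) := by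
    intro v' hv' t t' htt'
    rw [Set.disjoint_left]
    rintro s ⟨hs1, hs2⟩ ⟨hs3, _⟩
    apply hv'
    simp only [Z, Set.mem_iUnion]
    exact ⟨t, ⟨t', htt'⟩, s, ⟨hs1, hs3⟩, hs2⟩
  have hkey : ∀ v' ∈ M, MoreMor.fibreIntegral f w y ≤ MoreMor.fibreIntegral f w (g v') := by
    intro v' hv'
    rw [← (hbc v').2]
    have hy : MoreMor.fibreIntegral f w y = MoreMor.fibreIntegral f w (g u) := by rw [hgu]
    rw [hy, ← (hbc u).2]
    have h1 : sInt (pullback.snd f g) Set.univ (fun t => w (pullback.fst f g t)) u =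
        sInt (pullback.snd f g) (⋃ t, (O t : Set ↑(pullback f g)))
          (fun t => w (pullback.fst f g t)) u := by
      apply sInt_congr_set
      ext s
      constructor
      · rintro ⟨_, hs⟩
        exact ⟨Set.mem_iUnion.mpr ⟨⟨s, hs⟩, hmemO ⟨s, hs⟩⟩, hs⟩
      · rintro ⟨_, hs⟩
        exact ⟨trivial, hs⟩
    rw [h1, sInt_iUnion _ _ _ u (hdisj u huZ) (fun t => finite_fibre_of_isFinite _ (O t) (hOfin t) u)]
    have h2 : ∀ t, sInt (pullback.snd f g) (O t : Set ↑(pullback f g))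
        (fun t => w (pullback.fst f g t)) u =
        sInt (pullback.snd f g) (O t : Set ↑(pullback f g))
        (fun t => w (pullback.fst f g t)) v' := fun t =>
      (hNc t v' (Set.mem_iInter.mp hv'.2 t)).symm
    rw [finsum_congr h2, ← sInt_iUnion _ _ _ v' (hdisj v' hv'.1)
      (fun t => finite_fibre_of_isFinite _ (O t) (hOfin t) v')]
    apply sInt_mono_of_pos _ _ (fun t => hpos _) v'
    · rw [Set.univ_inter]; exact (hbc v').1
    · intro s hs
      exact ⟨trivial, hs.2⟩
  have hmem : g '' M ∈ nhds y := (g.isOpenMap M hMo).mem_nhds ⟨u, huM, hgu⟩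
  filter_upwards [hmem] with y' hy'
  obtain ⟨v', hv', rfl⟩ := hy'
  exact lt_of_lt_of_le hc (hkey v' hv')

end Groth.Agent.Lead.Wt
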