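import Mathlib
import Groth.Agent.Lib.Lead.Wt4

set_option autoImplicit false
set_option backward.isDefEq.respectTransparency.types false
set_option synthInstance.maxHeartbeats 400000
set_option linter.style.haveILetI false
set_option linter.unusedSectionVars false

universe u

open AlgebraicGeometry CategoryTheory Limits

namespace Groth.Agent.Lead.Wt

variable {P V P₁ V₁ : Scheme.{u}}

set_option maxHeartbeats 1000000 in
/-- Étale-local splitting of a finite morphism into pieces with a single point of separable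
degree one over the base point. -/
theorem exists_split_finite {Q V : Scheme.{u}} (π : Q ⟶ V) [IsFinite π] (v : V) :
    ∃ (V₁ : Scheme.{u}) (e₁ : V₁ ⟶ V) (v₁ : V₁), Etale e₁ ∧ e₁ v₁ = v ∧
      ∃ (N : Set V₁) (T : Type u) (_ : Finite T) (K : T → (pullback π e₁).Opens)
        (τ : T → ↑(pullback π e₁)), IsOpen N ∧ v₁ ∈ N ∧
        (∀ t, IsFinite ((K t).ι ≫ pullback.snd π e₁) ∧
          (K t : Set ↑(pullback π e₁)) ∩ (pullback.snd π e₁) ⁻¹' {v₁} = {τ t} ∧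
          sdeg (pullback.snd π e₁) (τ t) = 1) ∧
        (∀ v'' ∈ N, ∀ W : ↑(pullback π e₁) → ℤ,
          sInt (pullback.snd π e₁) Set.univ W v'' =
            ∑ᶠ t, sInt (pullback.snd π e₁) (K t : Set ↑(pullback π e₁)) W v'') := by
  classical
  obtain ⟨U, g, u, hg, hgu, hpieces⟩ :=
    exists_pieces π v (π ⁻¹' {v}) (π.finite_preimage_singleton v) (fun x hx => hx)
  refine ⟨U, g, u, hg, hgu, ?_⟩
  have hTfin : Finite {t : ↑(pullback π g) // pullback.snd π g t = u} :=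
    ((pullback.snd π g).finite_preimage_singleton u).to_subtype
  have hch : ∀ t : {t : ↑(pullback π g) // pullback.snd π g t = u},
      ∃ O : (pullback π g).Opens, IsFinite (O.ι ≫ pullback.snd π g) ∧
        (O : Set ↑(pullback π g)) ∩ (pullback.snd π g) ⁻¹' {u} = {t.1} ∧
        sdeg (pullback.snd π g) t.1 = 1 := fun t => hpieces t.1 t.2 (by
      change π (pullback.fst π g t.1) = v
      rw [← Scheme.Hom.comp_apply, pullback.condition, Scheme.Hom.comp_apply, t.2, hgu])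
  choose O hOfin hOu hsd using hch
  have hOcl : ∀ t, IsClosed (O t : Set ↑(pullback π g)) := fun t =>
    Groth.Agent.Lib.Helper6.EtLoc.isClosed_of_isFinite (pullback.snd π g) (O t) (hOfin t)
  have hmemO : ∀ t, t.1 ∈ (O t : Set ↑(pullback π g)) := fun t => by
    have : t.1 ∈ (O t : Set ↑(pullback π g)) ∩ (pullback.snd π g) ⁻¹' {u} := by rw [hOu]; rfl
    exact this.1
  let Z : Set U := ⋃ (t : {t : ↑(pullback π g) // pullback.snd π g t = u}),
    ⋃ (t' : {t' : {t : ↑(pullback π g) // pullback.snd π g t = u} // t ≠ t'}),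
      pullback.snd π g '' ((O t : Set ↑(pullback π g)) ∩ (O t'.1 : Set ↑(pullback π g)))
  have hZcl : IsClosed Z := by
    refine isClosed_iUnion_of_finite fun t => isClosed_iUnion_of_finite fun t' => ?_
    exact isClosed_image_of_isFinite _ (O t) (hOfin t) _ (hOcl t'.1)
  have huZ : u ∉ Z := by
    intro hu
    simp only [Z, Set.mem_iUnion] at hu
    obtain ⟨t, ⟨t', ht'⟩, s, ⟨hs1, hs2⟩, hsu⟩ := hu
    have e1 : s ∈ (O t : Set ↑(pullback π g)) ∩ (pullback.snd π g) ⁻¹' {u} := ⟨hs1, hsu⟩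
    have e2 : s ∈ (O t' : Set ↑(pullback π g)) ∩ (pullback.snd π g) ⁻¹' {u} := ⟨hs2, hsu⟩
    rw [hOu] at e1 e2
    exact ht' (Subtype.ext (e1.symm.trans e2))
  let R : Set ↑(pullback π g) := (⋃ t, (O t : Set ↑(pullback π g)))ᶜ
  have hRcl : IsClosed R := (isOpen_iUnion fun t => (O t).2).isClosed_compl
  have hZ2cl : IsClosed (pullback.snd π g '' R) := (pullback.snd π g).isClosedMap _ hRcl
  have huZ2 : u ∉ pullback.snd π g '' R := by
    rintro ⟨s, hs, hsu⟩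
    exact hs (Set.mem_iUnion.mpr ⟨⟨s, hsu⟩, hmemO ⟨s, hsu⟩⟩)
  refine ⟨Zᶜ ∩ (pullback.snd π g '' R)ᶜ, {t : ↑(pullback π g) // pullback.snd π g t = u}, hTfin,
    O, fun t => t.1, hZcl.isOpen_compl.inter hZ2cl.isOpen_compl, ⟨huZ, huZ2⟩,
    fun t => ⟨hOfin t, hOu t, hsd t⟩, ?_⟩
  intro v'' hv'' W
  have hdisj : ∀ t t', t ≠ t' →
      Disjoint ((O t : Set ↑(pullback π g)) ∩ (pullback.snd π g) ⁻¹' {v''})
        ((O t' : Set ↑(pullback π g)) ∩ (pullback.snd π g) ⁻¹' {v''}) := by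
    intro t t' htt'
    rw [Set.disjoint_left]
    rintro s ⟨hs1, hs2⟩ ⟨hs3, _⟩
    apply hv''.1
    simp only [Z, Set.mem_iUnion]
    exact ⟨t, ⟨t', htt'⟩, s, ⟨hs1, hs3⟩, hs2⟩
  rw [← sInt_iUnion _ _ _ v'' hdisj (fun t => finite_fibre_of_isFinite _ (O t) (hOfin t) v'')]
  apply sInt_congr_set
  ext s
  constructor
  · rintro ⟨_, hs⟩
    refine ⟨?_, hs⟩
    by_contra hsR
    exact hv''.2 ⟨s, hsR, hs⟩
  · rintro ⟨_, hs⟩
    exact ⟨trivial, hs⟩


theorem sdeg_congr_hom {ρ ρ' : P ⟶ V} (h : ρ = ρ') (t : P) : sdeg ρ t = sdeg ρ' t := by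
  subst h; rfl

theorem sInt_congr_hom {ρ ρ' : P ⟶ V} (h : ρ = ρ') (S : Set P) (W : P → ℤ) (v : V) :
    sInt ρ S W v = sInt ρ' S W v := by
  subst h; rfl

theorem sInt_image_of_isOpenImmersion {Q : Scheme.{u}} (ψ : Q ⟶ P) [IsOpenImmersion ψ]
    (ρ : P ⟶ V) (K : Set Q) (W : P → ℤ) (v : V) :
    sInt ρ (ψ '' K) W v = sInt (ψ ≫ ρ) K (W ∘ ψ) v := by
  have h := sInt_comp_of_isOpenImmersion ψ ρ (ψ '' K) W v
  rw [Set.preimage_image_eq _ ψ.isOpenEmbedding.injective,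
    Set.inter_eq_left.mpr (Set.image_subset_range _ _)] at h
  exact h.symm

theorem exists_psi (ρ : P ⟶ V) (O : P.Opens) (e₁ : V₁ ⟶ V) :
    ∃ ψ : pullback (O.ι ≫ ρ) e₁ ⟶ pullback ρ e₁, IsOpenImmersion ψ ∧
      ψ ≫ pullback.fst ρ e₁ = pullback.fst (O.ι ≫ ρ) e₁ ≫ O.ι ∧
      ψ ≫ pullback.snd ρ e₁ = pullback.snd (O.ι ≫ ρ) e₁ ∧
      Set.range ψ = (pullback.fst ρ e₁) ⁻¹' (O : Set P) := by
  refine ⟨pullback.map (O.ι ≫ ρ) e₁ ρ e₁ O.ι (𝟙 V₁) (𝟙 V) (by simp) (by simp), inferInstance,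
    pullback.lift_fst _ _ _, (pullback.lift_snd _ _ _).trans (Category.comp_id _), ?_⟩
  have := Scheme.Pullback.range_map (O.ι ≫ ρ) e₁ ρ e₁ O.ι (𝟙 V₁) (𝟙 V) (by simp) (by simp)
  rw [this]
  simp

set_option maxHeartbeats 1000000 in
/-- Étale-local splitting of an open of `P` finite over `V`. -/
theorem exists_split (ρ : P ⟶ V) (O : P.Opens) (hO : IsFinite (O.ι ≫ ρ)) (v : V) :
    ∃ (V₁ : Scheme.{u}) (e₁ : V₁ ⟶ V) (v₁ : V₁), Etale e₁ ∧ e₁ v₁ = v ∧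
      ∃ (N : Set V₁) (T : Type u) (_ : Finite T) (K : T → (pullback ρ e₁).Opens)
        (τ : T → ↑(pullback ρ e₁)), IsOpen N ∧ v₁ ∈ N ∧
        (∀ t, IsFinite ((K t).ι ≫ pullback.snd ρ e₁) ∧
          (K t : Set ↑(pullback ρ e₁)) ∩ (pullback.snd ρ e₁) ⁻¹' {v₁} = {τ t} ∧
          sdeg (pullback.snd ρ e₁) (τ t) = 1) ∧
        (∀ v'' ∈ N, ∀ W : ↑(pullback ρ e₁) → ℤ,
          sInt (pullback.snd ρ e₁) ((pullback.fst ρ e₁) ⁻¹' (O : Set P)) W v'' =
            ∑ᶠ t, sInt (pullback.snd ρ e₁) (K t : Set ↑(pullback ρ e₁)) W v'') := by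
  classical
  obtain ⟨V₁, e₁, v₁, he₁, hev, N, T, hT, K, τ, hN, hvN, hK, hsum⟩ :=
    exists_split_finite (O.ι ≫ ρ) v
  refine ⟨V₁, e₁, v₁, he₁, hev, N, T, hT, ?_⟩
  obtain ⟨ψ, hψo, hψ1, hψ2, hrange⟩ := exists_psi ρ O e₁
  have hψ2' : ∀ s, pullback.snd ρ e₁ (ψ s) = pullback.snd (O.ι ≫ ρ) e₁ s := fun s => by
    rw [← Scheme.Hom.comp_apply, hψ2]
  have hinj : Function.Injective ψ := ψ.isOpenEmbedding.injective
  refine ⟨fun t => ψ ''ᵁ K t, fun t => ψ (τ t), hN, hvN, ?_, ?_⟩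
  · intro t
    obtain ⟨h1, h2, h3⟩ := hK t
    refine ⟨?_, ?_, ?_⟩
    · have e : (ψ ''ᵁ K t).ι ≫ pullback.snd ρ e₁ =
          (ψ.isoImage (K t)).inv ≫ (K t).ι ≫ pullback.snd (O.ι ≫ ρ) e₁ := by
        rw [← Scheme.Hom.isoImage_inv_ι, Category.assoc, Category.assoc, hψ2]
      rw [e]
      exact (MorphismProperty.cancel_left_of_respectsIso @IsFinite _ _).mpr h1
    · ext x
      constructor
      · rintro ⟨⟨s, hs, rfl⟩, hx⟩
        change pullback.snd ρ e₁ (ψ s) = v₁ at hx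
        have : s ∈ (K t : Set ↑(pullback (O.ι ≫ ρ) e₁)) ∩ (pullback.snd (O.ι ≫ ρ) e₁) ⁻¹' {v₁} :=
          ⟨hs, by rw [Set.mem_preimage, ← hψ2']; exact hx⟩
        rw [h2] at this
        rw [Set.mem_singleton_iff] at this
        rw [this]
        rfl
      · rintro rfl
        have : τ t ∈ (K t : Set ↑(pullback (O.ι ≫ ρ) e₁)) ∩ (pullback.snd (O.ι ≫ ρ) e₁) ⁻¹' {v₁} := by
          rw [h2]; rfl
        exact ⟨⟨τ t, this.1, rfl⟩, by rw [Set.mem_preimage, hψ2']; exact this.2⟩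
    · rw [← sdeg_comp_of_isOpenImmersion ψ (pullback.snd ρ e₁) (τ t), sdeg_congr_hom hψ2]
      exact h3
  · intro v'' hv'' W
    have h1 : sInt (pullback.snd ρ e₁) ((pullback.fst ρ e₁) ⁻¹' (O : Set P)) W v'' =
        sInt (pullback.snd (O.ι ≫ ρ) e₁) Set.univ (W ∘ ψ) v'' := by
      rw [← hrange, ← Set.image_univ, sInt_image_of_isOpenImmersion, sInt_congr_hom hψ2]
    rw [h1, hsum v'' hv'' (W ∘ ψ)]
    refine finsum_congr fun t => ?_
    have h2 : ((ψ ''ᵁ K t : (pullback ρ e₁).Opens) : Set ↑(pullback ρ e₁)) =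
        ψ '' (K t : Set ↑(pullback (O.ι ≫ ρ) e₁)) := rfl
    rw [h2, sInt_image_of_isOpenImmersion, sInt_congr_hom hψ2]

end Groth.Agent.Lead.Wt
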