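import Mathlib
import Groth.Agent.Lib.Lead.Wt5

set_option autoImplicit false
set_option backward.isDefEq.respectTransparency.types false
set_option synthInstance.maxHeartbeats 400000
set_option linter.style.haveILetI false
set_option linter.unusedSectionVars false

universe u

open AlgebraicGeometry CategoryTheory Limits

namespace Groth.Agent.Lead.Wt

variable {P V P₁ V₁ : Scheme.{u}}

/-- Two opens finite over `V` with the same unique point over `v` agree over a neighbourhood. -/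
theorem exists_nhds_eq (ρ : P ⟶ V) (K O : P.Opens) (hK : IsFinite (K.ι ≫ ρ))
    (hO : IsFinite (O.ι ≫ ρ)) (v : V) (t : P)
    (hKt : (K : Set P) ∩ ρ ⁻¹' {v} = {t}) (hOt : (O : Set P) ∩ ρ ⁻¹' {v} = {t}) :
    ∃ N : Set V, IsOpen N ∧ v ∈ N ∧ ∀ v'' ∈ N,
      (K : Set P) ∩ ρ ⁻¹' {v''} = (O : Set P) ∩ ρ ⁻¹' {v''} := by
  have htK : t ∈ (K : Set P) := by
    have : t ∈ (K : Set P) ∩ ρ ⁻¹' {v} := by rw [hKt]; rfl
    exact this.1
  have htO : t ∈ (O : Set P) := by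
    have : t ∈ (O : Set P) ∩ ρ ⁻¹' {v} := by rw [hOt]; rfl
    exact this.1
  have h1 : IsClosed (ρ '' ((K : Set P) ∩ (O : Set P)ᶜ)) :=
    isClosed_image_of_isFinite ρ K hK _ O.2.isClosed_compl
  have h2 : IsClosed (ρ '' ((O : Set P) ∩ (K : Set P)ᶜ)) :=
    isClosed_image_of_isFinite ρ O hO _ K.2.isClosed_compl
  have hv1 : v ∉ ρ '' ((K : Set P) ∩ (O : Set P)ᶜ) := by
    rintro ⟨s, ⟨hs1, hs2⟩, hsv⟩
    have : s ∈ (K : Set P) ∩ ρ ⁻¹' {v} := ⟨hs1, hsv⟩
    rw [hKt] at this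
    rw [Set.mem_singleton_iff] at this
    exact hs2 (this ▸ htO)
  have hv2 : v ∉ ρ '' ((O : Set P) ∩ (K : Set P)ᶜ) := by
    rintro ⟨s, ⟨hs1, hs2⟩, hsv⟩
    have : s ∈ (O : Set P) ∩ ρ ⁻¹' {v} := ⟨hs1, hsv⟩
    rw [hOt] at this
    rw [Set.mem_singleton_iff] at this
    exact hs2 (this ▸ htK)
  refine ⟨(ρ '' ((K : Set P) ∩ (O : Set P)ᶜ))ᶜ ∩ (ρ '' ((O : Set P) ∩ (K : Set P)ᶜ))ᶜ,
    h1.isOpen_compl.inter h2.isOpen_compl, ⟨hv1, hv2⟩, ?_⟩
  rintro v'' ⟨hv''1, hv''2⟩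
  ext s
  constructor
  · rintro ⟨hs1, hs2⟩
    refine ⟨?_, hs2⟩
    by_contra hsO
    exact hv''1 ⟨s, ⟨hs1, hsO⟩, hs2⟩
  · rintro ⟨hs1, hs2⟩
    refine ⟨?_, hs2⟩
    by_contra hsK
    exact hv''2 ⟨s, ⟨hs1, hsK⟩, hs2⟩

set_option maxHeartbeats 2000000 in
/-- For a weighting, integrals over a finite open with a single point of separable degree one over
`v` are constant near `v`, for an arbitrary base change. -/
theorem IsWeighting.const_near_of_unique {X Y : Scheme.{u}} {f : X ⟶ Y} [LocallyQuasiFinite f]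
    [LocallyOfFiniteType f] {w : X → ℤ} (hw : MoreMor.IsWeighting f w)
    {q : P ⟶ X} {ρ : P ⟶ V} {c : V ⟶ Y} (hpb : IsPullback q ρ f c) (v : V) (K : P.Opens)
    (hK : IsFinite (K.ι ≫ ρ)) (t : P) (hKt : (K : Set P) ∩ ρ ⁻¹' {v} = {t})
    (hsd : sdeg ρ t = 1) :
    ∃ N : Set V, IsOpen N ∧ v ∈ N ∧ ∀ v' ∈ N,
      sInt ρ (K : Set P) (fun s => w (q s)) v' = sInt ρ (K : Set P) (fun s => w (q s)) v := by
  classical
  haveI : LocallyQuasiFinite ρ :=
    MorphismProperty.of_isPullback (P := @LocallyQuasiFinite) hpb inferInstance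
  have htv : ρ t = v := by
    have : t ∈ (K : Set P) ∩ ρ ⁻¹' {v} := by rw [hKt]; rfl
    exact this.2
  have hcv : c v = f (q t) := by
    rw [← htv, ← Scheme.Hom.comp_apply, ← hpb.w, Scheme.Hom.comp_apply]
  obtain ⟨Vy, g, vy, hg, hgvy, hpieces⟩ :=
    exists_pieces f (f (q t)) {q t} (Set.finite_singleton _) (by simp)
  obtain ⟨v₂, hv₂1, hv₂2⟩ := Scheme.Pullback.exists_preimage_pullback (f := c) (g := g) v vy
    (hcv.trans hgvy.symm)
  -- the pullback over `V₂ = V ×_Y Vy`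
  have hpb₂ : IsPullback (pullback.fst ρ (pullback.fst c g)) (pullback.snd ρ (pullback.fst c g))
      ρ (pullback.fst c g) := IsPullback.of_hasPullback _ _
  have hbig : IsPullback (pullback.fst ρ (pullback.fst c g) ≫ q)
      (pullback.snd ρ (pullback.fst c g)) f (pullback.fst c g ≫ c) := hpb₂.paste_horiz hpb
  have hcond : pullback.fst c g ≫ c = pullback.snd c g ≫ g := pullback.condition
  rw [hcond] at hbig
  let b₂ : pullback ρ (pullback.fst c g) ⟶ pullback f g :=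
    pullback.lift (pullback.fst ρ (pullback.fst c g) ≫ q)
      (pullback.snd ρ (pullback.fst c g) ≫ pullback.snd c g) (by rw [hbig.w, Category.assoc])
  have hb1 : b₂ ≫ pullback.fst f g = pullback.fst ρ (pullback.fst c g) ≫ q :=
    pullback.lift_fst _ _ _
  have hb2 : b₂ ≫ pullback.snd f g = pullback.snd ρ (pullback.fst c g) ≫ pullback.snd c g :=
    pullback.lift_snd _ _ _
  have hpbb : IsPullback b₂ (pullback.snd ρ (pullback.fst c g)) (pullback.snd f g)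
      (pullback.snd c g) :=
    IsPullback.of_right (by rw [hb1]; exact hbig) hb2 (IsPullback.of_hasPullback f g)
  -- unique point of the preimage of `K`
  obtain ⟨t₂, ht₂K, ht₂sd, ht₂t⟩ := unique_point_baseChange hpb₂ (K : Set P) v₂ t
    (by rw [hv₂1]; exact hKt) hsd
  have ht₂mem : t₂ ∈ (pullback.fst ρ (pullback.fst c g)) ⁻¹' (K : Set P) ∩
      (pullback.snd ρ (pullback.fst c g)) ⁻¹' {v₂} := by rw [ht₂K]; rfl
  have hs1 : pullback.snd f g (b₂ t₂) = vy := by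
    rw [← Scheme.Hom.comp_apply, hb2, Scheme.Hom.comp_apply, ht₂mem.2, hv₂2]
  have hs2 : pullback.fst f g (b₂ t₂) ∈ ({q t} : Set X) := by
    rw [← Scheme.Hom.comp_apply, hb1, Scheme.Hom.comp_apply, ht₂t]
    rfl
  obtain ⟨O, hOfin, hOu, hOsd⟩ := hpieces (b₂ t₂) hs1 hs2
  obtain ⟨t₂', ht₂'O, -, ht₂'s⟩ := unique_point_baseChange hpbb (O : Set ↑(pullback f g)) v₂
    (b₂ t₂) (by rw [hv₂2]; exact hOu) hOsd
  have ht₂eq : t₂ ∈ b₂ ⁻¹' (O : Set ↑(pullback f g)) ∩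
      (pullback.snd ρ (pullback.fst c g)) ⁻¹' {v₂} := by
    refine ⟨?_, ht₂mem.2⟩
    have : b₂ t₂ ∈ (O : Set ↑(pullback f g)) ∩ (pullback.snd f g) ⁻¹' {vy} := by rw [hOu]; rfl
    exact this.1
  have ht₂'O' : b₂ ⁻¹' (O : Set ↑(pullback f g)) ∩
      (pullback.snd ρ (pullback.fst c g)) ⁻¹' {v₂} = {t₂} := by
    rw [ht₂'O] at ht₂eq ⊢
    rw [Set.mem_singleton_iff] at ht₂eq
    rw [ht₂eq]
  have hK₂fin : IsFinite (((pullback.fst ρ (pullback.fst c g)) ⁻¹ᵁ K).ι ≫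
      pullback.snd ρ (pullback.fst c g)) := isFinite_preimage hpb₂ K hK
  have hO₂fin : IsFinite ((b₂ ⁻¹ᵁ O).ι ≫ pullback.snd ρ (pullback.fst c g)) :=
    isFinite_preimage hpbb O hOfin
  obtain ⟨N₂, hN₂o, hv₂N₂, hN₂eq⟩ := exists_nhds_eq (pullback.snd ρ (pullback.fst c g))
    ((pullback.fst ρ (pullback.fst c g)) ⁻¹ᵁ K) (b₂ ⁻¹ᵁ O) hK₂fin hO₂fin v₂ t₂ ht₂K ht₂'O'
  have hlcO := IsWeighting.sInt_locallyConstant hw (IsPullback.of_hasPullback f g) O hOfin
  obtain ⟨N₃, hN₃o, hvyN₃, hN₃c⟩ := (IsLocallyConstant.iff_exists_open _).mp hlcO vy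
  have hchain : ∀ v'' ∈ N₂, sInt ρ (K : Set P) (fun s => w (q s)) (pullback.fst c g v'') =
      sInt (pullback.snd f g) (O : Set ↑(pullback f g)) (fun s => w (pullback.fst f g s))
        (pullback.snd c g v'') := by
    intro v'' hv''
    have e1 := (sInt_baseChange hpb₂ (K : Set P) (fun s => w (q s)) v''
      (finite_fibre_of_isFinite ρ K hK _)).2
    have e2 := (sInt_baseChange hpbb (O : Set ↑(pullback f g))
      (fun s => w (pullback.fst f g s)) v''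
      (finite_fibre_of_isFinite (pullback.snd f g) O hOfin _)).2
    rw [← e1, ← e2]
    have hfun : ((fun s => w (q s)) ∘ (pullback.fst ρ (pullback.fst c g))) =
        ((fun s => w (pullback.fst f g s)) ∘ b₂) := by
      funext s
      change w (q (pullback.fst ρ (pullback.fst c g) s)) = w (pullback.fst f g (b₂ s))
      rw [← Scheme.Hom.comp_apply, ← Scheme.Hom.comp_apply, hb1]
    rw [hfun]
    exact sInt_congr_set _ _ _ (hN₂eq v'' hv'')
  let M : Set ↑(pullback c g) := N₂ ∩ (pullback.snd c g) ⁻¹' N₃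
  have hMo : IsOpen M := hN₂o.inter (hN₃o.preimage (pullback.snd c g).continuous)
  have hv₂M : v₂ ∈ M := ⟨hv₂N₂, by rw [Set.mem_preimage, hv₂2]; exact hvyN₃⟩
  have hconst : ∀ v'' ∈ M, sInt ρ (K : Set P) (fun s => w (q s)) (pullback.fst c g v'') =
      sInt ρ (K : Set P) (fun s => w (q s)) v := by
    intro v'' hv''
    rw [hchain v'' hv''.1, hN₃c _ hv''.2, ← hv₂1, hchain v₂ hv₂N₂, hv₂2]
  obtain ⟨h1, h2⟩ := exists_nhds_const_of_etale (pullback.fst c g)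
    (sInt ρ (K : Set P) (fun s => w (q s))) _ M hMo hconst
  exact ⟨_, h1, ⟨v₂, hv₂M, hv₂1⟩, h2⟩

end Groth.Agent.Lead.Wt
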