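import Mathlib
import Groth.Agent.Lib.Lead.Wt6

set_option autoImplicit false
set_option backward.isDefEq.respectTransparency.types false
set_option synthInstance.maxHeartbeats 400000
set_option linter.style.haveILetI false
set_option linter.unusedSectionVars false

universe u

open AlgebraicGeometry CategoryTheory Limits

namespace Groth.Agent.Lead.Wt

variable {P V P₁ V₁ : Scheme.{u}}

set_option maxHeartbeats 2000000 in
/-- General form: for a weighting `w` of `f` and a pullback square over an arbitrary `c : V ⟶ Y`,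
integrals over opens finite over `V` are locally constant. -/
theorem IsWeighting.sInt_locallyConstant_of_isPullback {X Y : Scheme.{u}} {f : X ⟶ Y}
    [LocallyQuasiFinite f] [LocallyOfFiniteType f] {w : X → ℤ} (hw : MoreMor.IsWeighting f w)
    {q : P ⟶ X} {ρ : P ⟶ V} {c : V ⟶ Y} (hpb : IsPullback q ρ f c) (O : P.Opens)
    (hO : IsFinite (O.ι ≫ ρ)) :
    IsLocallyConstant (sInt ρ (O : Set P) (fun s => w (q s))) := by
  classical
  haveI : LocallyQuasiFinite ρ :=
    MorphismProperty.of_isPullback (P := @LocallyQuasiFinite) hpb inferInstance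
  rw [IsLocallyConstant.iff_exists_open]
  intro v
  obtain ⟨V₁, e₁, v₁, he₁, hev, N, T, hT, K, τ, hN, hvN, hK, hsum⟩ := exists_split ρ O hO v
  have hpb₁ : IsPullback (pullback.fst ρ e₁) (pullback.snd ρ e₁) ρ e₁ :=
    IsPullback.of_hasPullback _ _
  have hq : IsPullback (pullback.fst ρ e₁ ≫ q) (pullback.snd ρ e₁) f (e₁ ≫ c) :=
    hpb₁.paste_horiz hpb
  have hcmp : ∀ t : T, ∃ Nt : Set V₁, IsOpen Nt ∧ v₁ ∈ Nt ∧ ∀ v'' ∈ Nt,
      sInt (pullback.snd ρ e₁) (K t : Set ↑(pullback ρ e₁))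
        (fun s => w ((pullback.fst ρ e₁ ≫ q) s)) v'' =
      sInt (pullback.snd ρ e₁) (K t : Set ↑(pullback ρ e₁))
        (fun s => w ((pullback.fst ρ e₁ ≫ q) s)) v₁ := fun t =>
    IsWeighting.const_near_of_unique hw hq v₁ (K t) (hK t).1 (τ t) (hK t).2.1 (hK t).2.2
  choose Nt hNto hvNt hNtc using hcmp
  let M : Set V₁ := N ∩ ⋂ t, Nt t
  have hMo : IsOpen M := hN.inter (isOpen_iInter_of_finite hNto)
  have hvM : v₁ ∈ M := ⟨hvN, Set.mem_iInter.mpr hvNt⟩
  have hfun : ((fun s => w (q s)) ∘ (pullback.fst ρ e₁)) =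
      fun s => w ((pullback.fst ρ e₁ ≫ q) s) := by
    funext s
    change w (q (pullback.fst ρ e₁ s)) = _
    rw [Scheme.Hom.comp_apply]
  have hchain : ∀ v'' ∈ N, sInt ρ (O : Set P) (fun s => w (q s)) (e₁ v'') =
      ∑ᶠ t, sInt (pullback.snd ρ e₁) (K t : Set ↑(pullback ρ e₁))
        (fun s => w ((pullback.fst ρ e₁ ≫ q) s)) v'' := by
    intro v'' hv''
    have e1 := (sInt_baseChange hpb₁ (O : Set P) (fun s => w (q s)) v''
      (finite_fibre_of_isFinite ρ O hO _)).2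
    rw [← e1, hfun]
    exact hsum v'' hv'' _
  have hconst : ∀ v'' ∈ M, sInt ρ (O : Set P) (fun s => w (q s)) (e₁ v'') =
      sInt ρ (O : Set P) (fun s => w (q s)) v := by
    intro v'' hv''
    rw [hchain v'' hv''.1, ← hev, hchain v₁ hvN]
    exact finsum_congr fun t => hNtc t v'' (Set.mem_iInter.mp hv''.2 t)
  obtain ⟨h1, h2⟩ := exists_nhds_const_of_etale e₁
    (sInt ρ (O : Set P) (fun s => w (q s))) _ M hMo hconst
  exact ⟨_, h1, ⟨v₁, hvM, hev⟩, h2⟩

theorem S1419_main {X Y : Scheme.{u}} (f : X ⟶ Y) [LocallyQuasiFinite f] [LocallyOfFiniteType f]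
    (w : X → ℤ) (hw : MoreMor.IsWeighting f w)
    {X' Y' : Scheme.{u}} (f' : X' ⟶ Y') (h : X' ⟶ X) (g : Y' ⟶ Y) (hc : IsPullback h f' f g) :
    MoreMor.IsWeighting f' (w ∘ h) := by
  apply isWeighting_of_sInt
  intro V' g' _ O hO
  have hq : IsPullback (pullback.fst f' g' ≫ h) (pullback.snd f' g') f (g' ≫ g) :=
    (IsPullback.of_hasPullback f' g').paste_horiz hc
  have := IsWeighting.sInt_locallyConstant_of_isPullback hw hq O hO
  convert this using 2
  funext t
  change w (h (pullback.fst f' g' t)) = _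
  rw [Scheme.Hom.comp_apply]


theorem S7185_main {X Y : Scheme.{u}} (f : X ⟶ Y) [LocallyQuasiFinite f] [LocallyOfFiniteType f]
    (w : X → ℤ) (hw : MoreMor.IsWeighting f w) (X' : X.Opens) :
    MoreMor.IsWeighting (X'.ι ≫ f) (fun x => w (X'.ι x)) := by
  apply isWeighting_of_sInt
  intro V g _ O hO
  obtain ⟨ψ, hψo, hψ1, hψ2, hrange⟩ := exists_psi f X' g
  have hfin : IsFinite ((ψ ''ᵁ O).ι ≫ pullback.snd f g) := by
    have e : (ψ ''ᵁ O).ι ≫ pullback.snd f g =
        (ψ.isoImage O).inv ≫ O.ι ≫ pullback.snd (X'.ι ≫ f) g := by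
      rw [← Scheme.Hom.isoImage_inv_ι, Category.assoc, Category.assoc, hψ2]
    rw [e]
    exact (MorphismProperty.cancel_left_of_respectsIso @IsFinite _ _).mpr hO
  have h1 := IsWeighting.sInt_locallyConstant hw (IsPullback.of_hasPullback f g) (ψ ''ᵁ O) hfin
  convert h1 using 1
  funext v
  have h2 : ((ψ ''ᵁ O : (pullback f g).Opens) : Set ↑(pullback f g)) =
      ψ '' (O : Set ↑(pullback (X'.ι ≫ f) g)) := rfl
  rw [h2, sInt_image_of_isOpenImmersion, sInt_congr_hom hψ2]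
  congr 1
  funext t
  change w (X'.ι (pullback.fst (X'.ι ≫ f) g t)) = w (pullback.fst f g (ψ t))
  rw [← Scheme.Hom.comp_apply, ← Scheme.Hom.comp_apply, hψ1]

theorem isOpen_range_of_weighting {X Y : Scheme.{u}} (f : X ⟶ Y) [LocallyQuasiFinite f]
    [LocallyOfFiniteType f] (w : X → ℤ) (hw : MoreMor.IsWeighting f w) (hpos : ∀ x, 0 < w x) :
    IsOpen (Set.range f) := by
  rw [isOpen_iff_forall_mem_open]
  rintro _ ⟨x, rfl⟩
  obtain ⟨U, g, u, hg, hgu, hpieces⟩ :=
    exists_pieces f (f x) {x} (Set.finite_singleton x) (by simp)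
  obtain ⟨t, ht1, ht2⟩ := Scheme.Pullback.exists_preimage_pullback x u hgu.symm
  obtain ⟨O, hOfin, hOu, hsd⟩ := hpieces t ht2 (by simp [ht1])
  have hlc := IsWeighting.sInt_locallyConstant hw (IsPullback.of_hasPullback f g) O hOfin
  have hval : sInt (pullback.snd f g) (O : Set ↑(pullback f g))
      (fun t => w (pullback.fst f g t)) u = w x := by
    rw [sInt_eq_single _ _ _ _ t hOu, hsd, ht1]; simp
  obtain ⟨N, hN, huN, hNc⟩ := (IsLocallyConstant.iff_exists_open _).mp hlc u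
  refine ⟨g '' N, ?_, g.isOpenMap N hN, ⟨u, huN, hgu⟩⟩
  rintro _ ⟨v', hv', rfl⟩
  have h3 := hNc v' hv'
  rw [hval] at h3
  have hne : ((O : Set ↑(pullback f g)) ∩ (pullback.snd f g) ⁻¹' {v'}).Nonempty := by
    by_contra hemp
    rw [Set.not_nonempty_iff_eq_empty] at hemp
    rw [sInt_eq_zero_of_empty _ _ _ _ hemp] at h3
    have := hpos x
    omega
  obtain ⟨s, -, hs⟩ := hne
  refine ⟨pullback.fst f g s, ?_⟩
  rw [← Scheme.Hom.comp_apply, pullback.condition, Scheme.Hom.comp_apply]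
  exact congrArg g hs

theorem isOpenMap_of_weighting {X Y : Scheme.{u}} (f : X ⟶ Y) [LocallyQuasiFinite f]
    [LocallyOfFiniteType f] (w : X → ℤ) (hw : MoreMor.IsWeighting f w) (hpos : ∀ x, 0 < w x) :
    IsOpenMap f := by
  intro W hW
  have h1 := isOpen_range_of_weighting (Scheme.Opens.ι ⟨W, hW⟩ ≫ f) (fun x => w (Scheme.Opens.ι ⟨W, hW⟩ x))
    (S7185_main f w hw ⟨W, hW⟩) (fun x => hpos _)
  convert h1 using 1
  ext y
  constructor
  · rintro ⟨x, hx, rfl⟩
    exact ⟨⟨x, hx⟩, rfl⟩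
  · rintro ⟨x, rfl⟩
    exact ⟨x.1, x.2, rfl⟩

theorem S1420_main {X Y : Scheme.{u}} (f : X ⟶ Y) [LocallyQuasiFinite f] [LocallyOfFiniteType f]
    (w : X → ℤ) (hw : MoreMor.IsWeighting f w) (hpos : ∀ x, 0 < w x) : UniversallyOpen f := by
  refine ⟨?_⟩
  intro X' Y' i₁ i₂ f' hpb
  haveI : LocallyQuasiFinite f' :=
    MorphismProperty.of_isPullback (P := @LocallyQuasiFinite) hpb.flip inferInstance
  haveI : LocallyOfFiniteType f' :=
    MorphismProperty.of_isPullback (P := @LocallyOfFiniteType) hpb.flip inferInstance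
  exact isOpenMap_of_weighting f' (w ∘ i₁) (S1419_main f w hw f' i₁ i₂ hpb.flip)
    (fun x => hpos _)

end Groth.Agent.Lead.Wt
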