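import Mathlib
import Groth.Agent.Lib.Lead.Wt7

set_option autoImplicit false
set_option backward.isDefEq.respectTransparency.types false
set_option synthInstance.maxHeartbeats 400000
set_option linter.style.haveILetI false
set_option linter.unusedSectionVars false

universe u

open AlgebraicGeometry CategoryTheory Limits

namespace Groth.Agent.Lead.Wt

variable {X Y V : Scheme.{u}}

theorem sdeg_comp' (f : X ⟶ Y) (g : Y ⟶ V) [LocallyQuasiFinite f] (x : X) :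
    sdeg (f ≫ g) x = sdeg g (f x) * sdeg f x :=
  sdeg_comp f g x (RingHom.IsIntegral.of_finite
    (Groth.Agent.Lib.Helper6.EtLoc.finite_residueFieldMap_of_quasiFiniteAt f x (f.quasiFiniteAt x)))

set_option maxHeartbeats 1000000 in
theorem sInt_comp_fubini (f : X ⟶ Y) (g : Y ⟶ V) [LocallyQuasiFinite f] (K : Set X) (Wd : Set Y)
    (hKW : K ⊆ f ⁻¹' Wd) (wf : X → ℤ) (wg : Y → ℤ) (v : V)
    (hKf : (K ∩ (f ≫ g) ⁻¹' {v}).Finite) (hWf : (Wd ∩ g ⁻¹' {v}).Finite) :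
    sInt (f ≫ g) K (fun x => wf x * wg (f x)) v =
      sInt g Wd (fun y => wg y * sInt f K wf y) v := by
  classical
  rw [sInt_eq_finsum_mem, sInt_eq_finsum_mem, finsum_mem_eq_finite_toFinset_sum _ hKf,
    finsum_mem_eq_finite_toFinset_sum _ hWf]
  have hmaps : ∀ x ∈ hKf.toFinset, f x ∈ hWf.toFinset := by
    intro x hx
    rw [Set.Finite.mem_toFinset] at hx ⊢
    exact ⟨hKW hx.1, hx.2⟩
  rw [← Finset.sum_fiberwise_of_maps_to hmaps]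
  refine Finset.sum_congr rfl fun y hy => ?_
  rw [Set.Finite.mem_toFinset] at hy
  have hfib : (K ∩ f ⁻¹' {y}).Finite := by
    refine hKf.subset ?_
    rintro x ⟨hx1, hx2⟩
    refine ⟨hx1, ?_⟩
    change g (f x) = v
    rw [hx2]; exact hy.2
  have hfilter : hKf.toFinset.filter (fun x => f x = y) = hfib.toFinset := by
    ext x
    simp only [Finset.mem_filter, Set.Finite.mem_toFinset]
    constructor
    · rintro ⟨⟨hx1, _⟩, hx2⟩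
      exact ⟨hx1, hx2⟩
    · rintro ⟨hx1, hx2⟩
      refine ⟨⟨hx1, ?_⟩, hx2⟩
      change g (f x) = v
      rw [hx2]; exact hy.2
  rw [hfilter, sInt_eq_finsum_mem, finsum_mem_eq_finite_toFinset_sum _ hfib, Finset.mul_sum,
    Finset.sum_mul]
  refine Finset.sum_congr rfl fun x hx => ?_
  rw [Set.Finite.mem_toFinset] at hx
  have hx2 : f x = y := hx.2
  rw [sdeg_comp' f g x, hx2]
  push_cast
  ring


theorem sInt_congr_fun {P : Scheme.{u}} (ρ : P ⟶ V) (S : Set P) {W W' : P → ℤ} (v : V)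
    (h : ∀ t ∈ S ∩ ρ ⁻¹' {v}, W t = W' t) : sInt ρ S W v = sInt ρ S W' v := by
  rw [sInt_eq_finsum_mem, sInt_eq_finsum_mem]
  exact finsum_mem_congr rfl fun t ht => by rw [h t ht]

theorem sInt_mul_const {P : Scheme.{u}} (ρ : P ⟶ V) (S : Set P) (W : P → ℤ) (c : ℤ) (v : V)
    (hf : (S ∩ ρ ⁻¹' {v}).Finite) :
    sInt ρ S (fun t => W t * c) v = c * sInt ρ S W v := by
  rw [sInt_eq_finsum_mem, sInt_eq_finsum_mem, mul_finsum_mem' _ _ hf]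
  exact finsum_mem_congr rfl fun t _ => by ring

/-- A finite open contained in the preimage of a finite open is finite over it. -/
theorem isFinite_restrict_of_le (f : X ⟶ Y) (g : Y ⟶ V) (K : X.Opens)
    (hK : IsFinite (K.ι ≫ f ≫ g)) (Wd : Y.Opens) (hWd : IsFinite (Wd.ι ≫ g))
    (hKW : (K : Set X) ⊆ f ⁻¹' (Wd : Set Y)) :
    IsFinite (((f ⁻¹ᵁ Wd).ι ⁻¹ᵁ K).ι ≫ (f ∣_ Wd)) := by
  have hrange : Set.range (((f ⁻¹ᵁ Wd).ι ⁻¹ᵁ K).ι ≫ (f ⁻¹ᵁ Wd).ι) = Set.range K.ι := by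
    rw [Scheme.Opens.range_ι]
    ext x
    constructor
    · rintro ⟨s, rfl⟩
      exact s.2
    · intro hx
      exact ⟨⟨⟨x, hKW hx⟩, hx⟩, rfl⟩
  let φ := IsOpenImmersion.isoOfRangeEq (((f ⁻¹ᵁ Wd).ι ⁻¹ᵁ K).ι ≫ (f ⁻¹ᵁ Wd).ι) K.ι hrange
  have hφ : φ.hom ≫ K.ι = ((f ⁻¹ᵁ Wd).ι ⁻¹ᵁ K).ι ≫ (f ⁻¹ᵁ Wd).ι :=
    IsOpenImmersion.isoOfRangeEq_hom_fac _ _ _
  have h1 : (((f ⁻¹ᵁ Wd).ι ⁻¹ᵁ K).ι ≫ (f ∣_ Wd)) ≫ (Wd.ι ≫ g) = φ.hom ≫ (K.ι ≫ f ≫ g) := by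
    rw [Category.assoc, ← Category.assoc (f ∣_ Wd), morphismRestrict_ι, Category.assoc,
      ← Category.assoc, ← hφ, Category.assoc]
  haveI : IsFinite ((((f ⁻¹ᵁ Wd).ι ⁻¹ᵁ K).ι ≫ (f ∣_ Wd)) ≫ (Wd.ι ≫ g)) := by
    rw [h1]
    exact (MorphismProperty.cancel_left_of_respectsIso @IsFinite _ _).mpr hK
  haveI : IsFinite (Wd.ι ≫ g) := hWd
  exact IsFinite.of_comp _ (Wd.ι ≫ g)

set_option maxHeartbeats 2000000 in
theorem comp_const_A (f : X ⟶ Y) (g : Y ⟶ V) [LocallyQuasiFinite f] [LocallyOfFiniteType f]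
    [LocallyQuasiFinite g] [LocallyOfFiniteType g] (wf : X → ℤ) (wg : Y → ℤ)
    (hwf : MoreMor.IsWeighting f wf) (hwg : MoreMor.IsWeighting g wg)
    (K : X.Opens) (hK : IsFinite (K.ι ≫ f ≫ g)) (Wd : Y.Opens) (hWd : IsFinite (Wd.ι ≫ g))
    (hKW : (K : Set X) ⊆ f ⁻¹' (Wd : Set Y)) (v : V) (y₀ : Y)
    (hy₀ : (Wd : Set Y) ∩ g ⁻¹' {v} = {y₀}) :
    ∃ N : Set V, IsOpen N ∧ v ∈ N ∧ ∀ v' ∈ N,
      sInt (f ≫ g) (K : Set X) (fun x => wf x * wg (f x)) v' =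
        sInt (f ≫ g) (K : Set X) (fun x => wf x * wg (f x)) v := by
  classical
  have hy₀W : y₀ ∈ (Wd : Set Y) := by
    have : y₀ ∈ (Wd : Set Y) ∩ g ⁻¹' {v} := by rw [hy₀]; rfl
    exact this.1
  -- local constancy of the inner integral on `Wd`
  have hsq : IsPullback (f ⁻¹ᵁ Wd).ι (f ∣_ Wd) f Wd.ι := (isPullback_morphismRestrict f Wd).flip
  have hK' := isFinite_restrict_of_le f g K hK Wd hWd hKW
  have hlc := IsWeighting.sInt_locallyConstant_of_isPullback hwf hsq ((f ⁻¹ᵁ Wd).ι ⁻¹ᵁ K) hK'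
  have hKfin : ∀ y : Y, ((K : Set X) ∩ f ⁻¹' {y}).Finite := fun y => by
    refine (finite_fibre_of_isFinite (f ≫ g) K hK (g y)).subset ?_
    rintro x ⟨hx1, hx2⟩
    refine ⟨hx1, ?_⟩
    change g (f x) = g y
    rw [hx2]
  have hinner : ∀ y' : ↥Wd, sInt (f ∣_ Wd) (SetLike.coe ((f ⁻¹ᵁ Wd).ι ⁻¹ᵁ K))
      (fun s => wf ((f ⁻¹ᵁ Wd).ι s)) y' =
      sInt f (K : Set X) wf (Wd.ι y') := fun y' =>
    (sInt_baseChange hsq (K : Set X) wf y' (hKfin _)).2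
  obtain ⟨B', hB'o, hy₀B', hB'c⟩ := (IsLocallyConstant.iff_exists_open _).mp hlc ⟨y₀, hy₀W⟩
  have hBo : IsOpen (Wd.ι '' B') := Wd.ι.isOpenEmbedding.isOpenMap _ hB'o
  have hBc : ∀ y ∈ Wd.ι '' B', sInt f (K : Set X) wf y = sInt f (K : Set X) wf y₀ := by
    rintro _ ⟨y', hy', rfl⟩
    have := hB'c y' hy'
    rw [hinner, hinner] at this
    exact this
  have hZcl : IsClosed (g '' ((Wd : Set Y) ∩ (Wd.ι '' B')ᶜ)) :=
    isClosed_image_of_isFinite g Wd hWd _ hBo.isClosed_compl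
  have hvZ : v ∉ g '' ((Wd : Set Y) ∩ (Wd.ι '' B')ᶜ) := by
    rintro ⟨y, ⟨hy1, hy2⟩, hyv⟩
    have : y ∈ (Wd : Set Y) ∩ g ⁻¹' {v} := ⟨hy1, hyv⟩
    rw [hy₀, Set.mem_singleton_iff] at this
    exact hy2 (this ▸ ⟨⟨y₀, hy₀W⟩, hy₀B', rfl⟩)
  have hsqg : IsPullback (𝟙 Y) g g (𝟙 V) := IsPullback.of_horiz_isIso ⟨by simp⟩
  have hlcg := IsWeighting.sInt_locallyConstant hwg hsqg Wd hWd
  obtain ⟨N₄, hN₄o, hvN₄, hN₄c⟩ := (IsLocallyConstant.iff_exists_open _).mp hlcg v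
  have hform : ∀ v'' ∈ (g '' ((Wd : Set Y) ∩ (Wd.ι '' B')ᶜ))ᶜ,
      sInt (f ≫ g) (K : Set X) (fun x => wf x * wg (f x)) v'' =
        sInt f (K : Set X) wf y₀ * sInt g (Wd : Set Y) (fun y => wg ((𝟙 Y : Y ⟶ Y) y)) v'' := by
    intro v'' hv''
    rw [sInt_comp_fubini f g (K : Set X) (Wd : Set Y) hKW wf wg v''
      (finite_fibre_of_isFinite (f ≫ g) K hK v'')
      (finite_fibre_of_isFinite g Wd hWd v'')]
    rw [← sInt_mul_const g (Wd : Set Y) _ _ v'' (finite_fibre_of_isFinite g Wd hWd v'')]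
    apply sInt_congr_fun
    intro y hy
    have hyB : y ∈ Wd.ι '' B' := by
      by_contra hnot
      exact hv'' ⟨y, ⟨hy.1, hnot⟩, hy.2⟩
    rw [hBc y hyB]
    rfl
  refine ⟨(g '' ((Wd : Set Y) ∩ (Wd.ι '' B')ᶜ))ᶜ ∩ N₄, hZcl.isOpen_compl.inter hN₄o,
    ⟨hvZ, hvN₄⟩, ?_⟩
  rintro v' ⟨hv'1, hv'2⟩
  rw [hform v' hv'1, hform v hvZ, hN₄c v' hv'2]

end Groth.Agent.Lead.Wt
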