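import Mathlib
import Groth.Agent.Lib.Lead.Wt8

set_option autoImplicit false
set_option backward.isDefEq.respectTransparency.types false
set_option synthInstance.maxHeartbeats 400000
set_option linter.style.haveILetI false
set_option linter.unusedSectionVars false

universe u

open AlgebraicGeometry CategoryTheory Limits

namespace Groth.Agent.Lead.Wt

variable {X Y V Z V₁ : Scheme.{u}}

/-- `F` is constant near `v`. -/
def NearConst (F : V → ℤ) (v : V) : Prop :=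
  ∃ N : Set V, IsOpen N ∧ v ∈ N ∧ ∀ v' ∈ N, F v' = F v

theorem nearConst_of_etale (e₁ : V₁ ⟶ V) [Etale e₁] (F : V → ℤ) (v₁ : V₁)
    (h : NearConst (fun v' => F (e₁ v')) v₁) : NearConst F (e₁ v₁) := by
  obtain ⟨N, hN, hv, hc⟩ := h
  obtain ⟨h1, h2⟩ := exists_nhds_const_of_etale e₁ F _ N hN hc
  exact ⟨_, h1, ⟨v₁, hv, rfl⟩, h2⟩

theorem NearConst.congr {F G : V → ℤ} {v : V} (h : NearConst F v) (hFG : ∀ v', F v' = G v') :
    NearConst G v := by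
  obtain ⟨N, hN, hv, hc⟩ := h
  exact ⟨N, hN, hv, fun v' hv' => by rw [← hFG, ← hFG, hc v' hv']⟩

theorem isLocallyConstant_of_nearConst {F : V → ℤ} (h : ∀ v, NearConst F v) :
    IsLocallyConstant F := by
  rw [IsLocallyConstant.iff_exists_open]
  exact h

/-- The base change of `f` over `Z` along `e`. -/
theorem exists_bc (f : X ⟶ Y) (g : Y ⟶ Z) (e : V₁ ⟶ Z) :
    ∃ f₁ : pullback (f ≫ g) e ⟶ pullback g e,
      f₁ ≫ pullback.snd g e = pullback.snd (f ≫ g) e ∧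
      f₁ ≫ pullback.fst g e = pullback.fst (f ≫ g) e ≫ f ∧
      IsPullback (pullback.fst (f ≫ g) e) f₁ f (pullback.fst g e) := by
  have hw : (pullback.fst (f ≫ g) e ≫ f) ≫ g = pullback.snd (f ≫ g) e ≫ e := by
    rw [Category.assoc, pullback.condition]
  refine ⟨pullback.lift (pullback.fst (f ≫ g) e ≫ f) (pullback.snd (f ≫ g) e) hw,
    pullback.lift_snd _ _ _, pullback.lift_fst _ _ _, ?_⟩
  refine IsPullback.of_bot ?_ (pullback.lift_fst _ _ _).symm (IsPullback.of_hasPullback g e)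
  rw [pullback.lift_snd]
  exact IsPullback.of_hasPullback (f ≫ g) e

theorem nearConst_of_bc (f : X ⟶ Y) (g : Y ⟶ V) [LocallyQuasiFinite f] [LocallyQuasiFinite g]
    (wf : X → ℤ) (wg : Y → ℤ) (S : Set X)
    (hS : ∀ v, (S ∩ (f ≫ g) ⁻¹' {v}).Finite) (e₁ : V₁ ⟶ V) [Etale e₁] (v₁ : V₁)
    (f₁ : pullback (f ≫ g) e₁ ⟶ pullback g e₁)
    (h1 : f₁ ≫ pullback.snd g e₁ = pullback.snd (f ≫ g) e₁)
    (h2 : f₁ ≫ pullback.fst g e₁ = pullback.fst (f ≫ g) e₁ ≫ f)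
    (H : NearConst (sInt (f₁ ≫ pullback.snd g e₁) ((pullback.fst (f ≫ g) e₁) ⁻¹' S)
      (fun x => wf (pullback.fst (f ≫ g) e₁ x) * wg (pullback.fst g e₁ (f₁ x)))) v₁) :
    NearConst (sInt (f ≫ g) S (fun x => wf x * wg (f x))) (e₁ v₁) := by
  apply nearConst_of_etale
  refine H.congr fun v' => ?_
  have e := (sInt_baseChange (IsPullback.of_hasPullback (f ≫ g) e₁) S
    (fun x => wf x * wg (f x)) v' (hS _)).2
  rw [← e, sInt_congr_hom h1]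
  congr 1
  funext x
  change _ = wf (pullback.fst (f ≫ g) e₁ x) * wg (f (pullback.fst (f ≫ g) e₁ x))
  rw [← Scheme.Hom.comp_apply f₁, h2, Scheme.Hom.comp_apply]


set_option maxHeartbeats 2000000 in
theorem comp_const_B (f : X ⟶ Y) (g : Y ⟶ V) [LocallyQuasiFinite f] [LocallyOfFiniteType f]
    [LocallyQuasiFinite g] [LocallyOfFiniteType g] (wf : X → ℤ) (wg : Y → ℤ)
    (hwf : MoreMor.IsWeighting f wf) (hwg : MoreMor.IsWeighting g wg)
    (K : X.Opens) (hK : IsFinite (K.ι ≫ f ≫ g)) (Wd : Y.Opens) (hWd : IsFinite (Wd.ι ≫ g))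
    (v : V) (y₀ : Y) (hy₀ : (Wd : Set Y) ∩ g ⁻¹' {v} = {y₀}) (hsd : sdeg g y₀ = 1)
    (hKv : ∀ x ∈ (K : Set X), (f ≫ g) x = v → f x ∈ (Wd : Set Y)) :
    NearConst (sInt (f ≫ g) (K : Set X) (fun x => wf x * wg (f x))) v := by
  classical
  have hZcl : IsClosed ((f ≫ g) '' ((K : Set X) ∩ (f ⁻¹' (Wd : Set Y))ᶜ)) :=
    isClosed_image_of_isFinite (f ≫ g) K hK _
      (Wd.2.preimage f.continuous).isClosed_compl
  have hvZ : v ∉ (f ≫ g) '' ((K : Set X) ∩ (f ⁻¹' (Wd : Set Y))ᶜ) := by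
    rintro ⟨x, ⟨hx1, hx2⟩, hxv⟩
    exact hx2 (hKv x hx1 hxv)
  let N₂ : V.Opens := ⟨((f ≫ g) '' ((K : Set X) ∩ (f ⁻¹' (Wd : Set Y))ᶜ))ᶜ, hZcl.isOpen_compl⟩
  let v₁ : ↥N₂ := ⟨v, hvZ⟩
  obtain ⟨f₁, h1, h2, hpbf⟩ := exists_bc f g N₂.ι
  haveI : LocallyQuasiFinite f₁ :=
    MorphismProperty.of_isPullback (P := @LocallyQuasiFinite) hpbf inferInstance
  haveI : LocallyOfFiniteType f₁ :=
    MorphismProperty.of_isPullback (P := @LocallyOfFiniteType) hpbf inferInstance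
  have hwf₁ := S1419_main f wf hwf f₁ (pullback.fst (f ≫ g) N₂.ι) (pullback.fst g N₂.ι) hpbf
  have hwg₁ := S1419_main g wg hwg (pullback.snd g N₂.ι) (pullback.fst g N₂.ι) N₂.ι
    (IsPullback.of_hasPullback g N₂.ι)
  have hK₁ : IsFinite (((pullback.fst (f ≫ g) N₂.ι) ⁻¹ᵁ K).ι ≫ f₁ ≫ pullback.snd g N₂.ι) := by
    rw [h1]
    exact isFinite_preimage (IsPullback.of_hasPullback (f ≫ g) N₂.ι) K hK
  have hWd₁ : IsFinite (((pullback.fst g N₂.ι) ⁻¹ᵁ Wd).ι ≫ pullback.snd g N₂.ι) :=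
    isFinite_preimage (IsPullback.of_hasPullback g N₂.ι) Wd hWd
  obtain ⟨y₁, hy₁, -, -⟩ := unique_point_baseChange (IsPullback.of_hasPullback g N₂.ι)
    (Wd : Set Y) v₁ y₀ hy₀ hsd
  have hKW₁ : (((pullback.fst (f ≫ g) N₂.ι) ⁻¹ᵁ K : (pullback (f ≫ g) N₂.ι).Opens) :
      Set ↑(pullback (f ≫ g) N₂.ι)) ⊆
      f₁ ⁻¹' (((pullback.fst g N₂.ι) ⁻¹ᵁ Wd : (pullback g N₂.ι).Opens) :
        Set ↑(pullback g N₂.ι)) := by
    intro x hx
    change pullback.fst g N₂.ι (f₁ x) ∈ (Wd : Set Y)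
    rw [← Scheme.Hom.comp_apply, h2, Scheme.Hom.comp_apply]
    by_contra hnot
    have hmem : (f ≫ g) (pullback.fst (f ≫ g) N₂.ι x) ∈
        (f ≫ g) '' ((K : Set X) ∩ (f ⁻¹' (Wd : Set Y))ᶜ) := ⟨_, ⟨hx, hnot⟩, rfl⟩
    rw [← Scheme.Hom.comp_apply, pullback.condition, Scheme.Hom.comp_apply] at hmem
    exact (pullback.snd (f ≫ g) N₂.ι x).2 hmem
  obtain ⟨N, hN, hvN, hNc⟩ := comp_const_A f₁ (pullback.snd g N₂.ι)
    (wf ∘ (pullback.fst (f ≫ g) N₂.ι)) (wg ∘ (pullback.fst g N₂.ι)) hwf₁ hwg₁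
    ((pullback.fst (f ≫ g) N₂.ι) ⁻¹ᵁ K) hK₁ ((pullback.fst g N₂.ι) ⁻¹ᵁ Wd) hWd₁ hKW₁ v₁ y₁ hy₁
  exact nearConst_of_bc f g wf wg (K : Set X)
    (fun v => finite_fibre_of_isFinite (f ≫ g) K hK v) N₂.ι v₁ f₁ h1 h2 ⟨N, hN, hvN, hNc⟩


set_option maxHeartbeats 2000000 in
theorem comp_const_C (f : X ⟶ Y) (g : Y ⟶ V) [LocallyQuasiFinite f] [LocallyOfFiniteType f]
    [LocallyQuasiFinite g] [LocallyOfFiniteType g] (wf : X → ℤ) (wg : Y → ℤ)
    (hwf : MoreMor.IsWeighting f wf) (hwg : MoreMor.IsWeighting g wg)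
    (K : X.Opens) (hK : IsFinite (K.ι ≫ f ≫ g)) (v : V) (τ : X)
    (hKτ : (K : Set X) ∩ (f ≫ g) ⁻¹' {v} = {τ}) (hsd : sdeg (f ≫ g) τ = 1) :
    NearConst (sInt (f ≫ g) (K : Set X) (fun x => wf x * wg (f x))) v := by
  classical
  have hτv : g (f τ) = v := by
    have : τ ∈ (K : Set X) ∩ (f ≫ g) ⁻¹' {v} := by rw [hKτ]; rfl
    exact this.2
  obtain ⟨V₂, e₂, v₂, he₂, hev₂, hpieces⟩ :=
    exists_pieces g v {f τ} (Set.finite_singleton _) (by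
      intro y hy
      rw [Set.mem_singleton_iff] at hy
      rw [hy]; exact hτv)
  obtain ⟨f₁, h1, h2, hpbf⟩ := exists_bc f g e₂
  haveI : LocallyQuasiFinite f₁ :=
    MorphismProperty.of_isPullback (P := @LocallyQuasiFinite) hpbf inferInstance
  haveI : LocallyOfFiniteType f₁ :=
    MorphismProperty.of_isPullback (P := @LocallyOfFiniteType) hpbf inferInstance
  have hwf₁ := S1419_main f wf hwf f₁ (pullback.fst (f ≫ g) e₂) (pullback.fst g e₂) hpbf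
  have hwg₁ := S1419_main g wg hwg (pullback.snd g e₂) (pullback.fst g e₂) e₂
    (IsPullback.of_hasPullback g e₂)
  have hK₁ : IsFinite (((pullback.fst (f ≫ g) e₂) ⁻¹ᵁ K).ι ≫ f₁ ≫ pullback.snd g e₂) := by
    rw [h1]
    exact isFinite_preimage (IsPullback.of_hasPullback (f ≫ g) e₂) K hK
  obtain ⟨τ₁, hτ₁, -, hτ₁τ⟩ := unique_point_baseChange (IsPullback.of_hasPullback (f ≫ g) e₂)
    (K : Set X) v₂ τ (by rw [hev₂]; exact hKτ) hsd
  have hτ₁mem : τ₁ ∈ (pullback.fst (f ≫ g) e₂) ⁻¹' (K : Set X) ∩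
      (pullback.snd (f ≫ g) e₂) ⁻¹' {v₂} := by rw [hτ₁]; rfl
  have hy1 : pullback.snd g e₂ (f₁ τ₁) = v₂ := by
    rw [← Scheme.Hom.comp_apply, h1]; exact hτ₁mem.2
  have hy2 : pullback.fst g e₂ (f₁ τ₁) ∈ ({f τ} : Set Y) := by
    rw [← Scheme.Hom.comp_apply, h2, Scheme.Hom.comp_apply, hτ₁τ]; rfl
  obtain ⟨Wd₁, hWd₁fin, hWd₁u, hWd₁sd⟩ := hpieces (f₁ τ₁) hy1 hy2
  have hKv₁ : ∀ x ∈ (((pullback.fst (f ≫ g) e₂) ⁻¹ᵁ K : (pullback (f ≫ g) e₂).Opens) :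
      Set ↑(pullback (f ≫ g) e₂)), (f₁ ≫ pullback.snd g e₂) x = v₂ →
      f₁ x ∈ (Wd₁ : Set ↑(pullback g e₂)) := by
    intro x hx hxv
    rw [h1] at hxv
    have : x ∈ (pullback.fst (f ≫ g) e₂) ⁻¹' (K : Set X) ∩
        (pullback.snd (f ≫ g) e₂) ⁻¹' {v₂} := ⟨hx, hxv⟩
    rw [hτ₁, Set.mem_singleton_iff] at this
    rw [this]
    have : f₁ τ₁ ∈ (Wd₁ : Set ↑(pullback g e₂)) ∩ (pullback.snd g e₂) ⁻¹' {v₂} := by
      rw [hWd₁u]; rfl
    exact this.1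
  have H := comp_const_B f₁ (pullback.snd g e₂)
    (wf ∘ (pullback.fst (f ≫ g) e₂)) (wg ∘ (pullback.fst g e₂)) hwf₁ hwg₁
    ((pullback.fst (f ≫ g) e₂) ⁻¹ᵁ K) hK₁ Wd₁ hWd₁fin v₂ (f₁ τ₁) hWd₁u hWd₁sd hKv₁
  have := nearConst_of_bc f g wf wg (K : Set X)
    (fun v => finite_fibre_of_isFinite (f ≫ g) K hK v) e₂ v₂ f₁ h1 h2 H
  rwa [hev₂] at this


theorem nearConst_finsum {T : Type*} [Finite T] (F : T → V → ℤ) (v : V)
    (h : ∀ t, NearConst (F t) v) : NearConst (fun v' => ∑ᶠ t, F t v') v := by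
  choose N hN hv hc using h
  refine ⟨⋂ t, N t, isOpen_iInter_of_finite hN, Set.mem_iInter.mpr hv, ?_⟩
  intro v' hv'
  exact finsum_congr fun t => hc t v' (Set.mem_iInter.mp hv' t)

theorem NearConst.congr_on {F G : V → ℤ} {v : V} (h : NearConst G v) (N : Set V) (hN : IsOpen N)
    (hv : v ∈ N) (hFG : ∀ v' ∈ N, F v' = G v') : NearConst F v := by
  obtain ⟨N', hN', hv', hc⟩ := h
  refine ⟨N ∩ N', hN.inter hN', ⟨hv, hv'⟩, ?_⟩
  rintro v'' ⟨h1, h2⟩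
  rw [hFG v'' h1, hFG v hv, hc v'' h2]

set_option maxHeartbeats 2000000 in
theorem comp_const_D (f : X ⟶ Y) (g : Y ⟶ V) [LocallyQuasiFinite f] [LocallyOfFiniteType f]
    [LocallyQuasiFinite g] [LocallyOfFiniteType g] (wf : X → ℤ) (wg : Y → ℤ)
    (hwf : MoreMor.IsWeighting f wf) (hwg : MoreMor.IsWeighting g wg)
    (O : X.Opens) (hO : IsFinite (O.ι ≫ f ≫ g)) (v : V) :
    NearConst (sInt (f ≫ g) (O : Set X) (fun x => wf x * wg (f x))) v := by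
  classical
  obtain ⟨V₁, e₁, v₁, he₁, hev, N, T, hT, K, τ, hN, hvN, hK, hsum⟩ :=
    exists_split (f ≫ g) O hO v
  obtain ⟨f₁, h1, h2, hpbf⟩ := exists_bc f g e₁
  haveI : LocallyQuasiFinite f₁ :=
    MorphismProperty.of_isPullback (P := @LocallyQuasiFinite) hpbf inferInstance
  haveI : LocallyOfFiniteType f₁ :=
    MorphismProperty.of_isPullback (P := @LocallyOfFiniteType) hpbf inferInstance
  have hwf₁ := S1419_main f wf hwf f₁ (pullback.fst (f ≫ g) e₁) (pullback.fst g e₁) hpbf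
  have hwg₁ := S1419_main g wg hwg (pullback.snd g e₁) (pullback.fst g e₁) e₁
    (IsPullback.of_hasPullback g e₁)
  have hC : ∀ t : T, NearConst (sInt (f₁ ≫ pullback.snd g e₁)
      (K t : Set ↑(pullback (f ≫ g) e₁))
      (fun x => (wf ∘ (pullback.fst (f ≫ g) e₁)) x * (wg ∘ (pullback.fst g e₁)) (f₁ x))) v₁ := by
    intro t
    obtain ⟨hk1, hk2, hk3⟩ := hK t
    refine comp_const_C f₁ (pullback.snd g e₁) _ _ hwf₁ hwg₁ (K t) ?_ v₁ (τ t) ?_ ?_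
    · rw [h1]; exact hk1
    · rw [h1]; exact hk2
    · rw [sdeg_congr_hom h1]; exact hk3
  have H : NearConst (sInt (f₁ ≫ pullback.snd g e₁) ((pullback.fst (f ≫ g) e₁) ⁻¹' (O : Set X))
      (fun x => wf (pullback.fst (f ≫ g) e₁ x) * wg (pullback.fst g e₁ (f₁ x)))) v₁ := by
    refine (nearConst_finsum _ v₁ hC).congr_on N hN hvN ?_
    intro v'' hv''
    rw [sInt_congr_hom h1, hsum v'' hv'']
    refine finsum_congr fun t => ?_
    rw [sInt_congr_hom h1]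
    rfl
  have := nearConst_of_bc f g wf wg (O : Set X)
    (fun v => finite_fibre_of_isFinite (f ≫ g) O hO v) e₁ v₁ f₁ h1 h2 H
  rwa [hev] at this

theorem S1422_main {X Y Z : Scheme.{u}} (f : X ⟶ Y) (g : Y ⟶ Z) [LocallyQuasiFinite f]
    [LocallyOfFiniteType f] [LocallyQuasiFinite g] [LocallyOfFiniteType g]
    (wf : X → ℤ) (wg : Y → ℤ) (hf : MoreMor.IsWeighting f wf) (hg : MoreMor.IsWeighting g wg) :
    MoreMor.IsWeighting (f ≫ g) (fun x => wf x * wg (f x)) := by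
  apply isWeighting_of_sInt
  intro V e _ O hO
  obtain ⟨f₁, h1, h2, hpbf⟩ := exists_bc f g e
  haveI : LocallyQuasiFinite f₁ :=
    MorphismProperty.of_isPullback (P := @LocallyQuasiFinite) hpbf inferInstance
  haveI : LocallyOfFiniteType f₁ :=
    MorphismProperty.of_isPullback (P := @LocallyOfFiniteType) hpbf inferInstance
  have hwf₁ := S1419_main f wf hf f₁ (pullback.fst (f ≫ g) e) (pullback.fst g e) hpbf
  have hwg₁ := S1419_main g wg hg (pullback.snd g e) (pullback.fst g e) e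
    (IsPullback.of_hasPullback g e)
  apply isLocallyConstant_of_nearConst
  intro v
  have hO' : IsFinite (O.ι ≫ f₁ ≫ pullback.snd g e) := by rw [h1]; exact hO
  have := comp_const_D f₁ (pullback.snd g e) _ _ hwf₁ hwg₁ O hO' v
  refine this.congr fun v' => ?_
  rw [sInt_congr_hom h1]
  congr 1
  funext x
  change wf (pullback.fst (f ≫ g) e x) * wg (pullback.fst g e (f₁ x)) =
    wf (pullback.fst (f ≫ g) e x) * wg (f (pullback.fst (f ≫ g) e x))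
  rw [← Scheme.Hom.comp_apply f₁, h2, Scheme.Hom.comp_apply]

end Groth.Agent.Lead.Wt
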