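import Mathlib
import Groth.Agent.Lib.Lead.Wt9
import Groth.Agent.S0084

set_option autoImplicit false
set_option backward.isDefEq.respectTransparency.types false
set_option synthInstance.maxHeartbeats 400000
set_option linter.style.haveILetI false
set_option linter.unusedSectionVars false

universe u

open AlgebraicGeometry CategoryTheory Limits

namespace Groth.Agent.Lead.Wt

variable {P V : Scheme.{u}}

theorem sInt_lt_of_pos (ρ : P ⟶ V) [LocallyQuasiFinite ρ] {S S' : Set P} (W : P → ℤ)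
    (hW : ∀ t, 0 < W t) (v : V) (hf : (S' ∩ ρ ⁻¹' {v}).Finite)
    (hSS : S ∩ ρ ⁻¹' {v} ⊆ S' ∩ ρ ⁻¹' {v}) (s : P) (hs : s ∈ S' ∩ ρ ⁻¹' {v}) (hsS : s ∉ S) :
    sInt ρ S W v < sInt ρ S' W v := by
  classical
  have hf0 : (S ∩ ρ ⁻¹' {v}).Finite := hf.subset hSS
  rw [sInt_eq_finsum_mem, sInt_eq_finsum_mem, finsum_mem_eq_finite_toFinset_sum _ hf,
    finsum_mem_eq_finite_toFinset_sum _ hf0]
  apply Finset.sum_lt_sum_of_subset (i := s)
  · intro t ht
    rw [Set.Finite.mem_toFinset] at ht ⊢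
    exact hSS ht
  · rw [Set.Finite.mem_toFinset]; exact hs
  · rw [Set.Finite.mem_toFinset]; exact fun h => hsS h.1
  · have := hW s
    have := sdeg_pos' ρ s
    positivity
  · intro t _ _
    have := hW t
    have := sdeg_pos' ρ t
    positivity

set_option maxHeartbeats 2000000 in
/-- Étale-local structure of a separated locally quasi-finite morphism with finite fibres and a
positive weighting. -/
theorem exists_loc_struct {X Y : Scheme.{u}} (f : X ⟶ Y) [LocallyQuasiFinite f]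
    [LocallyOfFiniteType f] [IsSeparated f] (hfin : ∀ y : Y, (f ⁻¹' {y}).Finite)
    (w : X → ℤ) (hw : MoreMor.IsWeighting f w) (hpos : ∀ x, 0 < w x) (y : Y) :
    ∃ (U : Scheme.{u}) (g : U ⟶ Y) (u : U), Etale g ∧ g u = y ∧
      ∃ (M : Set U) (T : Type u) (_ : Finite T) (O : T → (pullback f g).Opens),
        IsOpen M ∧ u ∈ M ∧ (∀ t, IsFinite ((O t).ι ≫ pullback.snd f g)) ∧
        (∀ v' ∈ M, ∀ t t', t ≠ t' →
          Disjoint ((O t : Set ↑(pullback f g)) ∩ (pullback.snd f g) ⁻¹' {v'})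
            ((O t' : Set ↑(pullback f g)) ∩ (pullback.snd f g) ⁻¹' {v'})) ∧
        (∀ v' ∈ M, MoreMor.fibreIntegral f w y ≤ MoreMor.fibreIntegral f w (g v') ∧
          (MoreMor.fibreIntegral f w (g v') = MoreMor.fibreIntegral f w y →
            (pullback.snd f g) ⁻¹' {v'} ⊆ ⋃ t, (O t : Set ↑(pullback f g)))) := by
  classical
  obtain ⟨U, g, u, hg, hgu, hpieces⟩ :=
    exists_pieces f y (f ⁻¹' {y}) (hfin y) (fun x hx => hx)
  refine ⟨U, g, u, hg, hgu, ?_⟩
  have hpb : IsPullback (pullback.fst f g) (pullback.snd f g) f g := IsPullback.of_hasPullback f g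
  have hbc : ∀ v' : U, ((pullback.snd f g) ⁻¹' {v'}).Finite ∧
      sInt (pullback.snd f g) Set.univ (fun t => w (pullback.fst f g t)) v' =
        MoreMor.fibreIntegral f w (g v') := by
    intro v'
    have := sInt_baseChange hpb Set.univ w v' ((hfin (g v')).subset Set.inter_subset_right)
    rw [Set.preimage_univ, Set.univ_inter] at this
    rw [fibreIntegral_eq_sInt]
    exact this
  have hTfin : Finite {t : ↑(pullback f g) // pullback.snd f g t = u} := (hbc u).1.to_subtype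
  have hch : ∀ t : {t : ↑(pullback f g) // pullback.snd f g t = u},
      ∃ O : (pullback f g).Opens, IsFinite (O.ι ≫ pullback.snd f g) ∧
        (O : Set ↑(pullback f g)) ∩ (pullback.snd f g) ⁻¹' {u} = {t.1} ∧
        sdeg (pullback.snd f g) t.1 = 1 := fun t => hpieces t.1 t.2 (by
      change f (pullback.fst f g t.1) = y
      rw [← Scheme.Hom.comp_apply, pullback.condition, Scheme.Hom.comp_apply, t.2, hgu])
  choose O hOfin hOu hsd using hch
  have hOcl : ∀ t, IsClosed (O t : Set ↑(pullback f g)) := fun t =>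
    Groth.Agent.Lib.Helper6.EtLoc.isClosed_of_isFinite (pullback.snd f g) (O t) (hOfin t)
  have hlc : ∀ t, IsLocallyConstant (sInt (pullback.snd f g) (O t : Set ↑(pullback f g))
      (fun t => w (pullback.fst f g t))) := fun t =>
    IsWeighting.sInt_locallyConstant hw hpb (O t) (hOfin t)
  have hmemO : ∀ t, t.1 ∈ (O t : Set ↑(pullback f g)) := fun t => by
    have : t.1 ∈ (O t : Set ↑(pullback f g)) ∩ (pullback.snd f g) ⁻¹' {u} := by rw [hOu]; rfl
    exact this.1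
  let Z : Set U := ⋃ (t : {t : ↑(pullback f g) // pullback.snd f g t = u}),
    ⋃ (t' : {t' : {t : ↑(pullback f g) // pullback.snd f g t = u} // t ≠ t'}),
      pullback.snd f g '' ((O t : Set ↑(pullback f g)) ∩ (O t'.1 : Set ↑(pullback f g)))
  have hZcl : IsClosed Z := by
    refine isClosed_iUnion_of_finite fun t => isClosed_iUnion_of_finite fun t' => ?_
    exact isClosed_image_of_isFinite _ (O t) (hOfin t) _ (hOcl t'.1)
  have huZ : u ∉ Z := by
    intro hu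
    simp only [Z, Set.mem_iUnion] at hu
    obtain ⟨t, ⟨t', ht'⟩, s, ⟨hs1, hs2⟩, hsu⟩ := hu
    have e1 : s ∈ (O t : Set ↑(pullback f g)) ∩ (pullback.snd f g) ⁻¹' {u} := ⟨hs1, hsu⟩
    have e2 : s ∈ (O t' : Set ↑(pullback f g)) ∩ (pullback.snd f g) ⁻¹' {u} := ⟨hs2, hsu⟩
    rw [hOu] at e1 e2
    exact ht' (Subtype.ext (e1.symm.trans e2))
  have hN : ∀ t, ∃ N : Set U, IsOpen N ∧ u ∈ N ∧ ∀ v' ∈ N,
      sInt (pullback.snd f g) (O t : Set ↑(pullback f g)) (fun t => w (pullback.fst f g t)) v' =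
      sInt (pullback.snd f g) (O t : Set ↑(pullback f g)) (fun t => w (pullback.fst f g t)) u :=
    fun t => (IsLocallyConstant.iff_exists_open _).mp (hlc t) u
  choose N hNo huN hNc using hN
  have hdisj : ∀ v' ∈ Zᶜ, ∀ t t', t ≠ t' →
      Disjoint ((O t : Set ↑(pullback f g)) ∩ (pullback.snd f g) ⁻¹' {v'})
        ((O t' : Set ↑(pullback f g)) ∩ (pullback.snd f g) ⁻¹' {v'}) := by
    intro v' hv' t t' htt'
    rw [Set.disjoint_left]
    rintro s ⟨hs1, hs2⟩ ⟨hs3, _⟩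
    apply hv'
    simp only [Z, Set.mem_iUnion]
    exact ⟨t, ⟨t', htt'⟩, s, ⟨hs1, hs3⟩, hs2⟩
  refine ⟨Zᶜ ∩ ⋂ t, N t, {t : ↑(pullback f g) // pullback.snd f g t = u}, hTfin, O,
    hZcl.isOpen_compl.inter (isOpen_iInter_of_finite hNo), ⟨huZ, Set.mem_iInter.mpr huN⟩, hOfin,
    fun v' hv' => hdisj v' hv'.1, ?_⟩
  intro v' hv'
  have hy : MoreMor.fibreIntegral f w y = MoreMor.fibreIntegral f w (g u) := by rw [hgu]
  have h1 : sInt (pullback.snd f g) Set.univ (fun t => w (pullback.fst f g t)) u =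
      sInt (pullback.snd f g) (⋃ t, (O t : Set ↑(pullback f g)))
        (fun t => w (pullback.fst f g t)) u := by
    apply sInt_congr_set
    ext s
    constructor
    · rintro ⟨_, hs⟩
      exact ⟨Set.mem_iUnion.mpr ⟨⟨s, hs⟩, hmemO ⟨s, hs⟩⟩, hs⟩
    · rintro ⟨_, hs⟩
      exact ⟨trivial, hs⟩
  have h2 : ∀ t, sInt (pullback.snd f g) (O t : Set ↑(pullback f g))
      (fun t => w (pullback.fst f g t)) u =
      sInt (pullback.snd f g) (O t : Set ↑(pullback f g))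
      (fun t => w (pullback.fst f g t)) v' := fun t =>
    (hNc t v' (Set.mem_iInter.mp hv'.2 t)).symm
  have h3 : MoreMor.fibreIntegral f w y = sInt (pullback.snd f g)
      (⋃ t, (O t : Set ↑(pullback f g))) (fun t => w (pullback.fst f g t)) v' := by
    rw [hy, ← (hbc u).2, h1,
      sInt_iUnion _ _ _ u (hdisj u huZ) (fun t => finite_fibre_of_isFinite _ (O t) (hOfin t) u),
      finsum_congr h2, ← sInt_iUnion _ _ _ v' (hdisj v' hv'.1)
      (fun t => finite_fibre_of_isFinite _ (O t) (hOfin t) v')]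
  rw [h3, ← (hbc v').2]
  refine ⟨?_, ?_⟩
  · apply sInt_mono_of_pos _ _ (fun t => hpos _) v'
    · rw [Set.univ_inter]; exact (hbc v').1
    · intro s hs
      exact ⟨trivial, hs.2⟩
  · intro heq s hs
    by_contra hsO
    have := sInt_lt_of_pos (pullback.snd f g) (S := ⋃ t, (O t : Set ↑(pullback f g)))
      (S' := Set.univ) (fun t => w (pullback.fst f g t)) (fun t => hpos _) v'
      (by rw [Set.univ_inter]; exact (hbc v').1) (fun s hs => ⟨trivial, hs.2⟩) s ⟨trivial, hs⟩ hsO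
    omega


set_option maxHeartbeats 1000000 in
/-- A morphism whose restriction over `M` is covered by finitely many opens finite over the base,
pairwise disjoint over `M`, is finite over `M`. -/
theorem isFinite_restrict_of_cover (ρ : P ⟶ V) (M : V.Opens) {T : Type u} [Finite T]
    (O : T → P.Opens) (hO : ∀ t, IsFinite ((O t).ι ≫ ρ))
    (hd : ∀ v' ∈ M, ∀ t t', t ≠ t' →
      Disjoint ((O t : Set P) ∩ ρ ⁻¹' {v'}) ((O t' : Set P) ∩ ρ ⁻¹' {v'}))
    (hc : ∀ v' ∈ M, ρ ⁻¹' {v'} ⊆ ⋃ t, (O t : Set P)) :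
    IsFinite (ρ ∣_ M) := by
  classical
  have hsq : IsPullback (ρ ⁻¹ᵁ M).ι (ρ ∣_ M) ρ M.ι := (isPullback_morphismRestrict ρ M).flip
  have hV : ∀ t, IsFinite (((ρ ⁻¹ᵁ M).ι ⁻¹ᵁ (O t)).ι ≫ (ρ ∣_ M)) := fun t =>
    isFinite_preimage hsq (O t) (hO t)
  have hρs : ∀ s : ↥(ρ ⁻¹ᵁ M), ρ ((ρ ⁻¹ᵁ M).ι s) ∈ M := fun s => s.2
  have hdis : ∀ t t', t ≠ t' →
      Disjoint ((ρ ⁻¹ᵁ M).ι ⁻¹ᵁ (O t)) ((ρ ⁻¹ᵁ M).ι ⁻¹ᵁ (O t')) := by
    intro t t' htt'
    rw [disjoint_iff]
    ext s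
    simp only [TopologicalSpace.Opens.coe_inf, Set.mem_inter_iff, SetLike.mem_coe,
      TopologicalSpace.Opens.coe_bot, Set.mem_empty_iff_false, iff_false, not_and]
    intro h1 h2
    have := hd _ (hρs s) t t' htt'
    rw [Set.disjoint_left] at this
    exact this ⟨h1, rfl⟩ ⟨h2, rfl⟩
  have htop : (⨆ t, (ρ ⁻¹ᵁ M).ι ⁻¹ᵁ (O t)) = ⊤ := by
    rw [eq_top_iff]
    intro s _
    have := hc _ (hρs s) (show (ρ ⁻¹ᵁ M).ι s ∈ ρ ⁻¹' {ρ ((ρ ⁻¹ᵁ M).ι s)} from rfl)
    obtain ⟨t, ht⟩ := Set.mem_iUnion.mp this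
    exact TopologicalSpace.Opens.mem_iSup.mpr ⟨t, ht⟩
  obtain ⟨n, ⟨e⟩⟩ := Finite.exists_equiv_fin T
  have h1 := Groth.Agent.Lib.Helper6.EtLoc.isFinite_iSup (ρ ∣_ M) (Fin n)
    (fun k => (ρ ⁻¹ᵁ M).ι ⁻¹ᵁ (O (e.symm k)))
    (fun k k' hkk' => hdis _ _ (fun h => hkk' (e.symm.injective h))) (fun k => hV _)
  have h2 : (⨆ k, (ρ ⁻¹ᵁ M).ι ⁻¹ᵁ (O (e.symm k))) = ⨆ t, (ρ ⁻¹ᵁ M).ι ⁻¹ᵁ (O t) :=
    e.symm.iSup_comp (g := fun t => (ρ ⁻¹ᵁ M).ι ⁻¹ᵁ (O t))
  rw [h2, htop] at h1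
  haveI : IsIso (⊤ : (↑(ρ ⁻¹ᵁ M) : Scheme.{u}).Opens).ι :=
    (Scheme.topIso (↑(ρ ⁻¹ᵁ M) : Scheme.{u})).isIso_hom
  exact (MorphismProperty.cancel_left_of_respectsIso @IsFinite _ _).mp h1


set_option maxHeartbeats 1000000 in
/-- Finiteness over the image of an open under an étale map, by descent. -/
theorem isFinite_restrict_of_etale_cover {X Y U : Scheme.{u}} (f : X ⟶ Y) (g : U ⟶ Y) [Etale g]
    (M : U.Opens) (B : Y.Opens) (hB : (B : Set Y) = g '' (M : Set U))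
    (h : IsFinite ((pullback.snd f g) ∣_ M)) : IsFinite (f ∣_ B) := by
  have hle : M ≤ g ⁻¹ᵁ B := by
    intro x hx
    change g x ∈ (B : Set Y)
    rw [hB]
    exact ⟨x, hx, rfl⟩
  let gB : (↑M : Scheme.{u}) ⟶ ↑B := U.homOfLE hle ≫ (g ∣_ B)
  have hgB : gB ≫ B.ι = M.ι ≫ g := by
    rw [Category.assoc, morphismRestrict_ι, ← Category.assoc, Scheme.homOfLE_ι]
  have hsurj : Surjective gB := by
    constructor
    intro b
    have hb : (B.ι b) ∈ (B : Set Y) := b.2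
    rw [hB] at hb
    obtain ⟨x, hx, hxb⟩ := hb
    refine ⟨⟨x, hx⟩, ?_⟩
    apply B.ι.isOpenEmbedding.injective
    rw [← Scheme.Hom.comp_apply, hgB, Scheme.Hom.comp_apply]
    exact hxb
  have hflat : Flat gB := inferInstance
  have hlfp : LocallyOfFinitePresentation gB := inferInstance
  clear_value gB
  have s1 : IsPullback ((pullback.snd f g) ⁻¹ᵁ M).ι ((pullback.snd f g) ∣_ M)
      (pullback.snd f g) M.ι := (isPullback_morphismRestrict _ M).flip
  have s12 : IsPullback (((pullback.snd f g) ⁻¹ᵁ M).ι ≫ pullback.fst f g)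
      ((pullback.snd f g) ∣_ M) f (M.ι ≫ g) := s1.paste_horiz (IsPullback.of_hasPullback f g)
  rw [← hgB] at s12
  have s3 : IsPullback (f ⁻¹ᵁ B).ι (f ∣_ B) f B.ι := (isPullback_morphismRestrict f B).flip
  have hw : (((pullback.snd f g) ⁻¹ᵁ M).ι ≫ pullback.fst f g) ≫ f =
      (((pullback.snd f g) ∣_ M) ≫ gB) ≫ B.ι := by rw [s12.w, Category.assoc]
  have s4 : IsPullback (s3.lift _ _ hw) ((pullback.snd f g) ∣_ M) (f ∣_ B) gB :=
    IsPullback.of_right (by rw [s3.lift_fst]; exact s12) (s3.lift_snd _ _ hw) s3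
  haveI := Groth.Agent.S0084.result.{u}
  exact MorphismProperty.of_isPullback_of_descendsAlong (P := @IsFinite)
    (Q := @Surjective ⊓ @Flat ⊓ @LocallyOfFinitePresentation) s4.flip
    ⟨⟨hsurj, hflat⟩, hlfp⟩ h


set_option maxHeartbeats 2000000 in
theorem S1428_main {X Y : Scheme.{u}} (f : X ⟶ Y) [LocallyQuasiFinite f] [LocallyOfFiniteType f]
    [IsSeparated f] (hfin : ∀ y : Y, (f ⁻¹' {y}).Finite)
    (w : X → ℤ) (hw : MoreMor.IsWeighting f w) (hpos : ∀ x, 0 < w x) (d : ℤ)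
    (hmax : ∀ y : Y, MoreMor.fibreIntegral f w y ≤ d) :
    ∃ hYd : IsOpen {y : Y | MoreMor.fibreIntegral f w y = d},
      IsFinite (f ∣_ ⟨{y : Y | MoreMor.fibreIntegral f w y = d}, hYd⟩) := by
  classical
  have hYd : IsOpen {y : Y | MoreMor.fibreIntegral f w y = d} := by
    have h1 := (S1426_main f hfin w hw hpos).isOpen_preimage (d - 1)
    convert h1 using 1
    ext y
    simp only [Set.mem_ofPred_eq, Set.mem_preimage, Set.mem_Ioi]
    have := hmax y
    omega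
  refine ⟨hYd, ?_⟩
  apply IsZariskiLocalAtTarget.of_forall_exists_morphismRestrict (P := @IsFinite)
  intro x
  have hy : MoreMor.fibreIntegral f w x.1 = d := x.2
  obtain ⟨U, g, u, hg, hgu, M, T, hT, O, hM, huM, hOfin, hd, hkey⟩ :=
    exists_loc_struct f hfin w hw hpos x.1
  let M' : U.Opens := ⟨M ∩ g ⁻¹' {y : Y | MoreMor.fibreIntegral f w y = d},
    hM.inter (hYd.preimage g.continuous)⟩
  let B : Y.Opens := ⟨g '' (M' : Set U), g.isOpenMap _ M'.2⟩
  have hBle : B ≤ ⟨{y : Y | MoreMor.fibreIntegral f w y = d}, hYd⟩ := by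
    rintro _ ⟨v', hv', rfl⟩
    exact hv'.2
  have hxB : x.1 ∈ B := ⟨u, ⟨huM, by
    change MoreMor.fibreIntegral f w (g u) = d
    rw [hgu]; exact hy⟩, hgu⟩
  have h1 : IsFinite ((pullback.snd f g) ∣_ M') := by
    apply isFinite_restrict_of_cover (pullback.snd f g) M' O hOfin
    · intro v' hv'
      exact hd v' hv'.1
    · intro v' hv'
      apply (hkey v' hv'.1).2
      have : MoreMor.fibreIntegral f w (g v') = d := hv'.2
      rw [this, hy]
  have h2 : IsFinite (f ∣_ B) := isFinite_restrict_of_etale_cover f g M' B rfl h1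
  refine ⟨(Scheme.Opens.ι _) ⁻¹ᵁ B, hxB, ?_⟩
  rw [(MorphismProperty.arrow_mk_iso_iff @IsFinite (morphismRestrictRestrict f _ _))]
  have e : (Scheme.Opens.ι ⟨{y : Y | MoreMor.fibreIntegral f w y = d}, hYd⟩) ''ᵁ
      ((Scheme.Opens.ι ⟨{y : Y | MoreMor.fibreIntegral f w y = d}, hYd⟩) ⁻¹ᵁ B) = B := by
    rw [Scheme.Hom.image_preimage_eq_opensRange_inf, Scheme.Opens.opensRange_ι, inf_eq_right]
    exact hBle
  rw [(MorphismProperty.arrow_mk_iso_iff @IsFinite (morphismRestrictEq f e))]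
  exact h2

end Groth.Agent.Lead.Wt
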