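import Mathlib
import Groth.Agent.Lib.Lead.Wt10
import Groth.Agent.Lib.Lead.GeomCount2

set_option autoImplicit false
set_option backward.isDefEq.respectTransparency.types false
set_option synthInstance.maxHeartbeats 400000
set_option linter.style.haveILetI false
set_option linter.unusedSectionVars false

universe u

open AlgebraicGeometry CategoryTheory Limits

namespace Groth.Agent.Lead.Wt

theorem isSepClosed_of_ringEquiv {K L : Type*} [Field K] [Field L] (e : K ≃+* L) [IsSepClosed K] :
    IsSepClosed L := by
  apply IsSepClosed.of_exists_root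
  intro p hpm hpi hps
  have hq : (p.map e.symm.toRingHom).Separable := hps.map
  have hdeg : (p.map e.symm.toRingHom).degree ≠ 0 := by
    rw [Polynomial.degree_map]
    exact (Polynomial.degree_pos_of_irreducible hpi).ne'
  obtain ⟨x, hx⟩ := IsSepClosed.exists_root (p.map e.symm.toRingHom) hdeg hq
  refine ⟨e x, ?_⟩
  have h1 : e ((p.map e.symm.toRingHom).eval x) = e 0 := congrArg e hx
  rw [map_zero, Polynomial.eval_map] at h1
  have h2 : e (Polynomial.eval₂ e.symm.toRingHom x p) = Polynomial.eval (e x) p := by
    rw [Polynomial.eval₂_eq_sum_range, Polynomial.eval_eq_sum_range, map_sum]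
    refine Finset.sum_congr rfl fun i _ => ?_
    rw [map_mul, map_pow]
    congr 1
    exact e.apply_symm_apply _
  rw [h2] at h1
  exact h1

theorem isSepClosed_residueField_spec (K : Type u) [Field K] [IsSepClosed K]
    (s : Spec (CommRingCat.of K)) : IsSepClosed ((Spec (CommRingCat.of K)).residueField s) := by
  have e1 : K ≃+* s.asIdeal.ResidueField :=
    (Ideal.algEquivResidueFieldOfField (k := K) s.asIdeal).toRingEquiv
  have e2 : s.asIdeal.ResidueField ≃+* (Spec (CommRingCat.of K)).residueField s :=
    (Scheme.Spec.residueFieldIso (CommRingCat.of K) s).symm.commRingCatIsoToRingEquiv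
  exact isSepClosed_of_ringEquiv (e1.trans e2)

theorem sdeg_eq_one_of_isSepClosed {G : Scheme.{u}} (K : Type u) [Field K] [IsSepClosed K]
    (π : G ⟶ Spec (CommRingCat.of K)) [LocallyQuasiFinite π] (p : G) : sdeg π p = 1 := by
  unfold sdeg
  letI := (π.residueFieldMap p).hom.toAlgebra
  haveI := isSepClosed_residueField_spec K (π p)
  have hfin : Module.Finite ((Spec (CommRingCat.of K)).residueField (π p)) (G.residueField p) :=
    Groth.Agent.Lib.Helper6.EtLoc.finite_residueFieldMap_of_quasiFiniteAt π p (π.quasiFiniteAt p)
  exact IsPurelyInseparable.finSepDegree_eq_one _ _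


theorem sInt_over_sepClosed {G : Scheme.{u}} (K : Type u) [Field K] [IsSepClosed K]
    (π : G ⟶ Spec (CommRingCat.of K)) [LocallyQuasiFinite π] [Finite G]
    (s : Spec (CommRingCat.of K)) :
    sInt π Set.univ (fun _ => 1) s = (Nat.card G : ℤ) := by
  classical
  have hset : (Set.univ ∩ π ⁻¹' {s}) = Set.univ := by
    ext p
    simp only [Set.mem_inter_iff, Set.mem_univ, Set.mem_preimage, Set.mem_singleton_iff, true_and,
      iff_true]
    exact Subsingleton.elim _ _
  rw [sInt_eq_finsum_mem, hset, finsum_mem_univ]
  haveI := Fintype.ofFinite G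
  rw [finsum_eq_sum_of_fintype]
  simp [sdeg_eq_one_of_isSepClosed K, Nat.card_eq_fintype_card]

set_option maxHeartbeats 1000000 in
/-- The number of geometric connected components of a finite fibre of a locally quasi-finite
morphism is the integral of the constant function `1`. -/
theorem nGeomConnComp_eq_sInt {X Y : Scheme.{u}} (f : X ⟶ Y) [LocallyQuasiFinite f] (y : Y)
    (hfin : (f ⁻¹' {y}).Finite) :
    ∃ m : ℕ, MoreMor.nGeomConnComp f y = (m : ℕ∞) ∧
      sInt f Set.univ (fun _ => 1) y = (m : ℤ) := by
  classical
  haveI hdisc := Groth.Agent.Lead.GeomCount.discreteTopology_geomFiber f y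
  have hcard : MoreMor.nGeomConnComp f y = ENat.card ↥(MoreMor.geomFiber f y) := by
    unfold MoreMor.nGeomConnComp
    exact Groth.Agent.Lead.GeomCount.card_connectedComponents_of_discrete _
  let K := SeparableClosure (Y.residueField y)
  let j : Y.residueField y ⟶ CommRingCat.of K :=
    CommRingCat.ofHom (algebraMap (Y.residueField y) K)
  have hG : IsPullback
      (pullback.fst (f.fiberToSpecResidueField y) (Spec.map j) ≫ f.fiberι y)
      (pullback.snd (f.fiberToSpecResidueField y) (Spec.map j)) f
      (Spec.map j ≫ Y.fromSpecResidueField y) :=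
    (IsPullback.of_hasPullback (f.fiberToSpecResidueField y) (Spec.map j)).paste_horiz
      (IsPullback.of_hasPullback f (Y.fromSpecResidueField y))
  let pt : ↥(Spec (CommRingCat.of K)) := IsLocalRing.closedPoint K
  have hpt : (Spec.map j ≫ Y.fromSpecResidueField y) pt = y :=
    comp_fromSpecResidueField_pt K y j
  obtain ⟨hfG, hint⟩ := sInt_baseChange hG Set.univ (fun _ => (1 : ℤ)) pt
    (by rw [hpt, Set.univ_inter]; exact hfin)
  rw [hpt, Set.preimage_univ] at hint
  have hGfin : Finite ↥(pullback (f.fiberToSpecResidueField y) (Spec.map j)) := by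
    apply Set.finite_univ_iff.mp
    refine hfG.subset ?_
    intro p _
    exact ⟨trivial, Subsingleton.elim _ _⟩
  haveI : LocallyQuasiFinite (pullback.snd (f.fiberToSpecResidueField y) (Spec.map j)) :=
    MorphismProperty.of_isPullback (P := @LocallyQuasiFinite) hG inferInstance
  refine ⟨Nat.card ↥(pullback (f.fiberToSpecResidueField y) (Spec.map j)), ?_, ?_⟩
  · rw [hcard]
    change ENat.card ↥(pullback (f.fiberToSpecResidueField y) (Spec.map j)) = _
    exact (ENat.card_eq_coe_natCard _)
  · rw [← hint]
    exact sInt_over_sepClosed K _ pt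

end Groth.Agent.Lead.Wt
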