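import Mathlib
import Groth.Prelude.Def_LCI2
import Groth.Prelude.Def_RegImm
import Groth.Agent.Lib.Lead.LciKos1
import Groth.Agent.Lib.Lead.LciCancel2

/-!
# syntomic morphisms = flat + chart-lci, given the ring level bridge (lead)
-/

set_option backward.isDefEq.respectTransparency.types false
set_option synthInstance.maxHeartbeats 400000
set_option autoImplicit false
set_option linter.unusedSectionVars false
set_option linter.style.haveILetI false
set_option linter.unusedSimpArgs false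
universe u
open CategoryTheory CategoryTheory.Limits TensorProduct AlgebraicGeometry

namespace Groth.Agent.Lead.SyntLci

open Groth.Agent.Lead.LciLocal

/-- the ring-level bridge, as a hypothesis -/
def Bridge : Prop :=
  ∀ (R S : Type u) [CommRing R] [CommRing S] [Algebra R S],
    Synt.IsSyntomic R S ↔ Module.Flat R S ∧ LCI.IsLCI R S

theorem isSyntomicMor_of_flat_of_lciMor (H : Bridge.{u}) {X S : Scheme.{u}} (f : X ⟶ S)
    [Flat f] (h : LciMor f) : Synt.IsSyntomicMor f := by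
  intro x
  obtain ⟨V, hV, hfxV⟩ : ∃ V : S.Opens, IsAffineOpen V ∧ f x ∈ V := by
    obtain ⟨V, hV, hfxV, -⟩ := TopologicalSpace.Opens.isBasis_iff_nbhd.mp S.isBasis_affineOpens
      (show f x ∈ (⊤ : S.Opens) from trivial)
    exact ⟨V, hV, hfxV⟩
  obtain ⟨U, hU, hxU, eU⟩ : ∃ U : X.Opens, IsAffineOpen U ∧ x ∈ U ∧ U ≤ f ⁻¹ᵁ V := by
    obtain ⟨U, hU, hxU, e⟩ := TopologicalSpace.Opens.isBasis_iff_nbhd.mp X.isBasis_affineOpens
      (show x ∈ f ⁻¹ᵁ V from hfxV)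
    exact ⟨U, hU, hxU, e⟩
  refine ⟨⟨U, hU⟩, ⟨V, hV⟩, eU, hxU, ?_⟩
  letI := (f.appLE V U eU).hom.toAlgebra
  refine (H Γ(S, V) Γ(X, U)).2 ⟨?_, ?_⟩
  · have h1 := (HasRingHomProperty.iff_appLE (P := @Flat)).1 (inferInstanceAs (Flat f))
      ⟨V, hV⟩ ⟨U, hU⟩ eU
    exact h1
  · exact (lciMor_iff f).1 h U V hU hV eU

theorem flat_and_lciMor_of_isSyntomicMor (H : Bridge.{u}) {X S : Scheme.{u}} (f : X ⟶ S)
    (h : Synt.IsSyntomicMor f) : Flat f ∧ LciMor f := by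
  constructor
  · rw [HasRingHomProperty.iff_exists_appLE (P := @Flat)
      (fun _ S _ _ _ _ _ r _ f hf =>
        RingHom.Flat.stableUnderComposition _ _ (RingHom.Flat.holdsForLocalizationAway S r) hf)]
    intro x
    obtain ⟨U, V, e, hxU, hS⟩ := h x
    refine ⟨V, U, hxU, e, ?_⟩
    letI := (f.appLE V.1 U.1 e).hom.toAlgebra
    exact ((H Γ(S, V.1) Γ(X, U.1)).1 hS).1
  · rw [HasRingHomProperty.iff_exists_appLE (P := @LciMor)
      lciRingHom_stableUnderCompositionWithLocalizationAwaySource]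
    intro x
    obtain ⟨U, V, e, hxU, hS⟩ := h x
    refine ⟨V, U, hxU, e, ?_⟩
    letI := (f.appLE V.1 U.1 e).hom.toAlgebra
    exact ((H Γ(S, V.1) Γ(X, U.1)).1 hS).2

theorem S9758_main (H : Bridge.{u}) {X S : Scheme.{u}} (f : X ⟶ S) :
    (Flat f ∧ ∀ x : X, Synt.IsKoszulAt f x) ↔ Synt.IsSyntomicMor f := by
  rw [forall_isKoszulAt_iff_lciMor]
  constructor
  · rintro ⟨h1, h2⟩
    exact isSyntomicMor_of_flat_of_lciMor H f h2
  · exact flat_and_lciMor_of_isSyntomicMor H f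

theorem S19857_main (H : Bridge.{u}) {X Y S : Scheme.{u}}
    (p : X ⟶ S) (q : Y ⟶ S) [Smooth p] [Smooth q] (f : X ⟶ Y) (hf : f ≫ q = p) [Flat f] :
    Synt.IsSyntomicMor f := by
  refine isSyntomicMor_of_flat_of_lciMor H f (lciMor_of_comp_smooth f q ?_)
  rw [hf]
  exact lciMor_of_smooth p

theorem S9363_main (H : Bridge.{u}) {X S : Scheme.{u}} (f : X ⟶ S) :
    Synt.IsSyntomicMor f ↔
      ∀ (U : X.affineOpens) (V : S.affineOpens) (e : U.1 ≤ f ⁻¹ᵁ V.1),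
        letI := (f.appLE V.1 U.1 e).hom.toAlgebra
        Synt.IsSyntomic Γ(S, V.1) Γ(X, U.1) := by
  constructor
  · intro h U V e
    obtain ⟨h1, h2⟩ := flat_and_lciMor_of_isSyntomicMor H f h
    letI := (f.appLE V.1 U.1 e).hom.toAlgebra
    refine (H Γ(S, V.1) Γ(X, U.1)).2 ⟨?_, ?_⟩
    · exact (HasRingHomProperty.iff_appLE (P := @Flat)).1 h1 V U e
    · exact (lciMor_iff f).1 h2 U.1 V.1 U.2 V.2 e
  · intro h x
    obtain ⟨V, hV, hfxV⟩ : ∃ V : S.Opens, IsAffineOpen V ∧ f x ∈ V := by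
      obtain ⟨V, hV, hfxV, -⟩ := TopologicalSpace.Opens.isBasis_iff_nbhd.mp S.isBasis_affineOpens
        (show f x ∈ (⊤ : S.Opens) from trivial)
      exact ⟨V, hV, hfxV⟩
    obtain ⟨U, hU, hxU, eU⟩ : ∃ U : X.Opens, IsAffineOpen U ∧ x ∈ U ∧ U ≤ f ⁻¹ᵁ V := by
      obtain ⟨U, hU, hxU, e⟩ := TopologicalSpace.Opens.isBasis_iff_nbhd.mp X.isBasis_affineOpens
        (show x ∈ f ⁻¹ᵁ V from hfxV)
      exact ⟨U, hU, hxU, e⟩
    exact ⟨⟨U, hU⟩, ⟨V, hV⟩, eU, hxU, h ⟨U, hU⟩ ⟨V, hV⟩ eU⟩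

end Groth.Agent.Lead.SyntLci
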