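import Mathlib
import Groth.Prelude.Def_LCI2
import Groth.Prelude.Def_RegImm
import Groth.Agent.Lib.Helper4.RegFlatBC1

/-!
# flat base change of morphisms Koszul at a point (lead)
-/

set_option backward.isDefEq.respectTransparency.types false
set_option synthInstance.maxHeartbeats 400000
set_option autoImplicit false
set_option linter.unusedSectionVars false
set_option linter.style.haveILetI false
set_option linter.unusedSimpArgs false
universe u
open CategoryTheory CategoryTheory.Limits TensorProduct AlgebraicGeometry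

namespace Groth.Agent.Lead.SyntBC

/-- pointwise flat base change of `IsKoszulAt` -/
theorem isKoszulAt_of_isPullback_of_flat {X Y X' Y' : Scheme.{u}} (f : X ⟶ Y) (g : Y' ⟶ Y) [Flat g]
    (f' : X' ⟶ Y') (g' : X' ⟶ X) (hsq : IsPullback g' f' f g) (x' : X')
    (hf : Synt.IsKoszulAt f (g' x')) : Synt.IsKoszulAt f' x' := by
  obtain ⟨U, P, i, π, hxU, hft, hi, hπ, hcomm⟩ := hf
  haveI := hπ
  -- the outer pullback square
  have hout : IsPullback (g' ∣_ U) ((g' ⁻¹ᵁ U).ι ≫ f') (U.ι ≫ f) g :=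
    (isPullback_morphismRestrict g' U).paste_vert hsq
  let i' : ((g' ⁻¹ᵁ U : X'.Opens) : Scheme.{u}) ⟶ pullback π g :=
    pullback.lift ((g' ∣_ U) ≫ i) ((g' ⁻¹ᵁ U).ι ≫ f') (by
      rw [Category.assoc, hcomm, hout.w])
  have hleft : IsPullback (g' ∣_ U) i' i (pullback.fst π g) := by
    refine IsPullback.of_bot ?_ (pullback.lift_fst _ _ _).symm (IsPullback.of_hasPullback π g)
    rw [pullback.lift_snd, hcomm]
    exact hout
  refine ⟨g' ⁻¹ᵁ U, pullback π g, i', pullback.snd π g, hxU, ?_, ?_, inferInstance,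
    pullback.lift_snd _ _ _⟩
  · exact MorphismProperty.of_isPullback (P := @LocallyOfFiniteType) hout hft
  · exact Groth.Agent.Lib.Helper4.RegFlatBC1.S8652_main i (pullback.fst π g) i' (g' ∣_ U) hleft hi

theorem S8658_main {X Y X' Y' : Scheme.{u}} (f : X ⟶ Y) (g : Y' ⟶ Y) [Flat g]
    (f' : X' ⟶ Y') (g' : X' ⟶ X) (hsq : IsPullback g' f' f g)
    (hf : ∀ x : X, Synt.IsKoszulAt f x) : ∀ x' : X', Synt.IsKoszulAt f' x' :=
  fun x' => isKoszulAt_of_isPullback_of_flat f g f' g' hsq x' (hf _)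

end Groth.Agent.Lead.SyntBC
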