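import Mathlib
import Groth.Prelude
import Groth.Agent.Lib.Lead.GUnib9
import Groth.Agent.Lib.Helper4.ChevCrit2

/-!
# Smooth algebras over strictly henselian domains: local rings are geometrically unibranch domains
-/

set_option autoImplicit false
set_option backward.isDefEq.respectTransparency.types false
set_option synthInstance.maxHeartbeats 400000
set_option linter.style.haveILetI false
set_option linter.unusedSectionVars false

universe u

open AlgebraicGeometry CategoryTheory

namespace Groth.Agent.Lead.GUnib

open IsLocalRing TensorProduct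

theorem isSepClosure_of_algebraMap_eq_id (k : Type u) [Field k] [IsSepClosed k]
    (inst : Algebra k k) (h : @algebraMap k k _ _ inst = RingHom.id k) :
    @IsSepClosure k _ k _ inst := by
  have : inst = Algebra.id k := Algebra.algebra_ext _ _ (fun r => by rw [h]; rfl)
  subst this
  infer_instance

/-- A strictly henselian local ring is its own strict henselization. -/
theorem isStrictHenselization_self (R : Type u) [CommRing R] [HenselianLocalRing R]
    [IsSepClosed (ResidueField R)] :
    letI : IsLocalHom (algebraMap R R) := (inferInstance : IsLocalHom (RingHom.id R))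
    Hensel.IsStrictHenselization R R := by
  letI : IsLocalHom (algebraMap R R) := (inferInstance : IsLocalHom (RingHom.id R))
  have hmap : ∀ y : ResidueField R, ResidueField.map (algebraMap R R) y = y := by
    intro y
    obtain ⟨x, rfl⟩ := residue_surjective y
    rw [ResidueField.map_residue]
    rfl
  refine ⟨inferInstance, ?_, ?_⟩
  · apply isSepClosure_of_algebraMap_eq_id
    ext y
    exact hmap y
  · intro T _ _ f _ τ hτ
    refine ⟨f, ⟨rfl, ?_⟩, ?_⟩
    · intro x
      have := RingHom.congr_fun hτ (residue R x)
      rw [RingHom.comp_apply, hmap, ResidueField.map_residue] at this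
      exact this.symm
    · rintro g ⟨hg, -⟩
      exact hg

/-- A strictly henselian local domain is geometrically unibranch. -/
theorem isGeomUnibranch_of_strictlyHenselian_domain (R : Type u) [CommRing R] [IsDomain R]
    [HenselianLocalRing R] [IsSepClosed (ResidueField R)] : CAlg2.IsGeomUnibranch R := by
  letI : IsLocalHom (algebraMap R R) := (inferInstance : IsLocalHom (RingHom.id R))
  haveI := isStrictHenselization_self R
  exact ((Groth.Agent.Helper8.HensGU.reduced_and_isGeomUnibranch_iff_isDomain R R).mpr
    inferInstance).2

theorem S13199_main (R R' : Type u) [CommRing R] [IsDomain R] [HenselianLocalRing R]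
    [IsSepClosed (ResidueField R)] [CommRing R'] [Algebra R R'] [Algebra.Smooth R R']
    (p : Ideal R') [hpp : p.IsPrime] (hp : (maximalIdeal R).map (algebraMap R R') ≤ p) :
    IsDomain (Localization.AtPrime p) ∧ CAlg2.IsGeomUnibranch (Localization.AtPrime p) := by
  have hgu := isGeomUnibranch_of_strictlyHenselian_domain R
  haveI : Algebra.IsSmoothAt R p := inferInstance
  obtain ⟨f, hfp, n, alg, hst, hse⟩ :=
    Algebra.IsSmoothAt.exists_isStandardEtale_mvPolynomial (R := R) (p := p)
  let E := Localization.Away f
  let σ := ULift.{u} (Fin n)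
  let P := MvPolynomial σ R
  let eP : P ≃ₐ[R] MvPolynomial (Fin n) R := MvPolynomial.renameEquiv R Equiv.ulift
  let φ : P →+* E := (algebraMap (MvPolynomial (Fin n) R) E).comp eP.toRingHom
  have hφ : φ.Etale :=
    RingHom.Etale.stableUnderComposition _ _ (RingHom.Etale.of_bijective eP.bijective)
      (RingHom.etale_algebraMap.mpr inferInstance)
  algebraize [φ]
  have hdisj : Disjoint (Submonoid.powers f : Set R') (p : Set R') :=
    (Ideal.disjoint_powers_iff_notMem_of_isPrime _).mpr hfp
  let Q : Ideal E := p.map (algebraMap R' E)
  haveI hQp : Q.IsPrime := IsLocalization.isPrime_of_isPrime_disjoint (.powers f) _ _ hpp hdisj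
  have hQc : Q.comap (algebraMap R' E) = p :=
    IsLocalization.comap_map_of_isPrime_disjoint (.powers f) E hpp hdisj
  let p' : Ideal P := Q.comap (algebraMap P E)
  have hcomp : (algebraMap P E).comp (MvPolynomial.C : R →+* P) = algebraMap R E := by
    ext r
    show algebraMap (MvPolynomial (Fin n) R) E (eP (MvPolynomial.C r)) = _
    rw [show (MvPolynomial.C r : P) = algebraMap R P r from rfl, eP.commutes,
      ← IsScalarTower.algebraMap_apply]
  have hp'c : p'.comap (MvPolynomial.C : R →+* P) = maximalIdeal R := by
    have h1 : p'.comap (MvPolynomial.C : R →+* P) = p.comap (algebraMap R R') := by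
      rw [Ideal.comap_comap, hcomp, IsScalarTower.algebraMap_eq R R' E, ← Ideal.comap_comap, hQc]
    rw [h1]
    refine ((maximalIdeal.isMaximal R).eq_of_le (Ideal.IsPrime.ne_top inferInstance) ?_).symm
    exact Ideal.map_le_iff_le_comap.mp hp
  haveI : IsLocalization.AtPrime R (maximalIdeal R) :=
    IsLocalization.of_le_isUnit (fun a ha => IsLocalRing.notMem_maximalIdeal.mp ha)
  have hgu' : CAlg2.IsGeomUnibranch (Localization.AtPrime p') :=
    Groth.Agent.Lib.Helper4.ChevCrit2.isGeomUnibranch_mvPolynomial σ p' (maximalIdeal R) hp'c R hgu
      (Localization.AtPrime p')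
  have hd := isDomain_atPrime_of_etale p' hgu' E Q rfl
  have hg := isGeomUnibranch_atPrime_of_etale p' hgu' E Q rfl
  let T := Localization.AtPrime Q
  haveI : IsLocalization.AtPrime T (Q.comap (algebraMap R' E)) :=
    IsLocalization.isLocalization_isLocalization_atPrime_isLocalization (Submonoid.powers f) T Q
  have key : ∀ (q : Ideal R') [q.IsPrime], q = p → IsLocalization.AtPrime T q →
      IsLocalization.AtPrime T p := by
    rintro q _ rfl h
    exact h
  haveI : IsLocalization.AtPrime T p := key _ hQc inferInstance
  let e : Localization.AtPrime p ≃ₐ[R'] T := IsLocalization.algEquiv p.primeCompl _ _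
  exact ⟨e.toMulEquiv.isDomain _, Groth.Agent.Lib.Helper4.ChevCrit4.isGeomUnibranch_of_ringEquiv
    e.symm.toRingEquiv hg⟩

end Groth.Agent.Lead.GUnib
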