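import Mathlib
import Groth.Prelude
import Groth.Agent.Lib.Lead.GUnib19
import Groth.Agent.Lib.Lead.GUnib10
import Groth.Agent.Lib.Lead.Wt11
import Groth.Agent.Lib.Helper7.Hensel.FiniteLocal

/-!
# Number of geometric branches under smooth ring maps
-/

set_option autoImplicit false
set_option backward.isDefEq.respectTransparency.types false
set_option synthInstance.maxHeartbeats 400000
set_option linter.style.haveILetI false
set_option linter.unusedSectionVars false

universe u

open AlgebraicGeometry CategoryTheory Limits TensorProduct IsLocalRing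

namespace Groth.Agent.Lead.GUnib

/-- Transport of a strict henselization along a ring isomorphism of the base. -/
theorem isStrictHenselization_of_ringEquiv {A B S : Type u} [CommRing A] [IsLocalRing A]
    [CommRing B] [IsLocalRing B] [CommRing S] [IsLocalRing S] [Algebra B S]
    [IsLocalHom (algebraMap B S)] [h : Hensel.IsStrictHenselization B S] (e : A ≃+* B)
    (alg : Algebra A S) (halg : algebraMap A S = (algebraMap B S).comp e.toRingHom)
    (hloc : IsLocalHom (algebraMap A S)) :
    Hensel.IsStrictHenselization A S := by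
  haveI hle : IsLocalHom e.toRingHom := ⟨fun a ha => (isLocalHom_equiv e).map_nonunit a ha⟩
  haveI hles : IsLocalHom e.symm.toRingHom :=
    ⟨fun a ha => (isLocalHom_equiv e.symm).map_nonunit a ha⟩
  have hmap : IsLocalRing.ResidueField.map (algebraMap A S) =
      (IsLocalRing.ResidueField.map (algebraMap B S)).comp
        (IsLocalRing.ResidueField.map e.toRingHom) := by
    ext x
    obtain ⟨a, rfl⟩ := IsLocalRing.residue_surjective x
    simp only [RingHom.comp_apply, IsLocalRing.ResidueField.map_residue]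
    rw [halg]
    rfl
  refine ⟨h.henselian, ?_, ?_⟩
  · haveI := h.isSepClosure.separable
    refine ⟨h.isSepClosure.sep_closed, ?_⟩
    refine Algebra.IsSeparable.of_equiv_equiv (A₁ := IsLocalRing.ResidueField B)
      (B₁ := IsLocalRing.ResidueField S) (IsLocalRing.ResidueField.mapEquiv e).symm
      (RingEquiv.refl _) ?_
    ext x
    obtain ⟨b, rfl⟩ := IsLocalRing.residue_surjective x
    show IsLocalRing.ResidueField.map (algebraMap A S)
      ((IsLocalRing.ResidueField.mapEquiv e).symm (IsLocalRing.residue B b)) =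
      IsLocalRing.ResidueField.map (algebraMap B S) (IsLocalRing.residue B b)
    have h3 : (IsLocalRing.ResidueField.mapEquiv e).symm (IsLocalRing.residue B b) =
        IsLocalRing.residue A (e.symm b) := by
      rw [IsLocalRing.ResidueField.mapEquiv.symm, IsLocalRing.ResidueField.mapEquiv_apply,
        IsLocalRing.ResidueField.map_residue]
      rfl
    rw [hmap, RingHom.comp_apply, h3, IsLocalRing.ResidueField.map_residue]
    have h2 : e.toRingHom (e.symm b) = b := e.apply_symm_apply b
    rw [h2]
  · intro T _ _ f _ τ hτ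
    haveI : IsLocalHom (f.comp e.symm.toRingHom) := RingHom.isLocalHom_comp _ _
    have hτ' : τ.comp (IsLocalRing.ResidueField.map (algebraMap B S)) =
        IsLocalRing.ResidueField.map (f.comp e.symm.toRingHom) := by
      ext x
      obtain ⟨b, rfl⟩ := IsLocalRing.residue_surjective x
      have h1 := RingHom.congr_fun hτ (IsLocalRing.residue A (e.symm b))
      rw [hmap] at h1
      simp only [RingHom.comp_apply, IsLocalRing.ResidueField.map_residue] at h1 ⊢
      have h2 : e.toRingHom (e.symm b) = b := e.apply_symm_apply b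
      rw [h2] at h1
      exact h1
    obtain ⟨g, ⟨hg1, hg2⟩, hguniq⟩ := h.universal T (f.comp e.symm.toRingHom) τ hτ'
    refine ⟨g, ⟨?_, hg2⟩, ?_⟩
    · rw [halg, ← RingHom.comp_assoc, hg1]
      ext a
      simp
    · rintro g' ⟨hg'1, hg'2⟩
      apply hguniq
      refine ⟨?_, hg'2⟩
      rw [← hg'1, halg]
      ext b
      simp

/-- A pair of primes with the same contraction lifts to the tensor product. -/
theorem exists_prime_tensor (R S T : Type u) [CommRing R] [CommRing S] [CommRing T] [Algebra R S]
    [Algebra R T] (P : Ideal S) [P.IsPrime] (Q : Ideal T) [Q.IsPrime]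
    (h : P.comap (algebraMap R S) = Q.comap (algebraMap R T)) :
    ∃ W : Ideal (S ⊗[R] T), W.IsPrime ∧
      W.comap (Algebra.TensorProduct.includeLeft : S →ₐ[R] S ⊗[R] T).toRingHom = P ∧
      W.comap (Algebra.TensorProduct.includeRight : T →ₐ[R] S ⊗[R] T).toRingHom = Q := by
  let x : Spec (CommRingCat.of S) := ⟨P, inferInstance⟩
  let y : Spec (CommRingCat.of T) := ⟨Q, inferInstance⟩
  have hxy : (Spec.map (CommRingCat.ofHom (algebraMap R S))) x =
      (Spec.map (CommRingCat.ofHom (algebraMap R T))) y := by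
    apply PrimeSpectrum.ext
    exact h
  obtain ⟨z, hz1, hz2⟩ := Scheme.Pullback.exists_preimage_pullback x y hxy
  let w := (pullbackSpecIso R S T).hom z
  refine ⟨w.asIdeal, w.isPrime, ?_, ?_⟩
  · have h1 : (Spec.map (CommRingCat.ofHom
        (Algebra.TensorProduct.includeLeft : S →ₐ[R] S ⊗[R] T).toRingHom)) w = x := by
      have e1 : Spec.map (CommRingCat.ofHom
          (Algebra.TensorProduct.includeLeft : S →ₐ[R] S ⊗[R] T).toRingHom) =
          (pullbackSpecIso R S T).inv ≫ pullback.fst _ _ := (pullbackSpecIso_inv_fst R S T).symm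
      rw [e1, Scheme.Hom.comp_apply, ← hz1]
      congr 1
      show (pullbackSpecIso R S T).inv ((pullbackSpecIso R S T).hom z) = z
      rw [← Scheme.Hom.comp_apply, Iso.hom_inv_id]
      rfl
    exact congrArg PrimeSpectrum.asIdeal h1
  · have h1 : (Spec.map (CommRingCat.ofHom
        (Algebra.TensorProduct.includeRight : T →ₐ[R] S ⊗[R] T).toRingHom)) w = y := by
      have e1 : Spec.map (CommRingCat.ofHom
          (Algebra.TensorProduct.includeRight : T →ₐ[R] S ⊗[R] T).toRingHom) =
          (pullbackSpecIso R S T).inv ≫ pullback.snd _ _ := (pullbackSpecIso_inv_snd R S T).symm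
      rw [e1, Scheme.Hom.comp_apply, ← hz2]
      congr 1
      show (pullbackSpecIso R S T).inv ((pullbackSpecIso R S T).hom z) = z
      rw [← Scheme.Hom.comp_apply, Iso.hom_inv_id]
      rfl
    exact congrArg PrimeSpectrum.asIdeal h1

section LemmaX

variable (A : Type u) [CommRing A] [HenselianLocalRing A] [IsSepClosed (ResidueField A)]
  (E : Type u) [CommRing E] [Algebra A E] [Algebra.Smooth A E]
  (𝔫 : Ideal E) [𝔫.IsPrime] (h𝔫 : (maximalIdeal A).map (algebraMap A E) ≤ 𝔫)

include h𝔫 in
/-- Over a strictly henselian local ring, the minimal primes of a smooth algebra contained in a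
prime over the closed point are determined by their contraction. -/
theorem exists_unique_minimal_over (𝔭 : Ideal A) [h𝔭 : 𝔭.IsPrime] :
    ∃ K' : Ideal E, ∀ Q ∈ minimalPrimes E, Q ≤ 𝔫 → Q.comap (algebraMap A E) = 𝔭 → Q = K' := by
  classical
  have h𝔭le : 𝔭 ≤ maximalIdeal A := IsLocalRing.le_maximalIdeal h𝔭.ne_top
  let Ab := A ⧸ 𝔭
  let D := E ⧸ 𝔭.map (algebraMap A E)
  let π : E →+* D := Ideal.Quotient.mk _
  have hπs : Function.Surjective π := Ideal.Quotient.mk_surjective
  have hker : RingHom.ker π = 𝔭.map (algebraMap A E) := Ideal.mk_ker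
  have hkerle : RingHom.ker π ≤ 𝔫 := by
    rw [hker]
    exact (Ideal.map_mono h𝔭le).trans h𝔫
  haveI : IsDomain Ab := Ideal.Quotient.isDomain 𝔭
  haveI : IsLocalRing Ab := IsLocalRing.of_surjective' (Ideal.Quotient.mk 𝔭)
    Ideal.Quotient.mk_surjective
  haveI : Module.Finite A Ab := Module.Finite.of_surjective (Ideal.Quotient.mkₐ A 𝔭).toLinearMap
    Ideal.Quotient.mk_surjective
  haveI : HenselianLocalRing Ab := Groth.Agent.Helper7.Hensel.henselianLocalRing_of_finite A Ab
  haveI hloc : IsLocalHom (Ideal.Quotient.mk 𝔭) :=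
    IsLocalHom.of_surjective _ Ideal.Quotient.mk_surjective
  -- residue field
  haveI : IsSepClosed (ResidueField Ab) := by
    have hbij : Function.Bijective (ResidueField.map (Ideal.Quotient.mk 𝔭)) := by
      refine ⟨(ResidueField.map (Ideal.Quotient.mk 𝔭)).injective, ?_⟩
      intro y
      obtain ⟨b, rfl⟩ := IsLocalRing.residue_surjective y
      obtain ⟨a, rfl⟩ := Ideal.Quotient.mk_surjective b
      exact ⟨IsLocalRing.residue A a, ResidueField.map_residue _ _⟩
    exact Groth.Agent.Lead.Wt.isSepClosed_of_ringEquiv (RingEquiv.ofBijective _ hbij)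
  haveI : Algebra.Smooth Ab D :=
    Algebra.Smooth.of_equiv (Algebra.TensorProduct.quotIdealMapEquivQuotTensor E 𝔭).symm
  let 𝔫D : Ideal D := 𝔫.map π
  haveI h𝔫D : 𝔫D.IsPrime := Ideal.map_isPrime_of_surjective hπs hkerle
  have hcomap𝔫 : 𝔫D.comap π = 𝔫 := by
    rw [Ideal.comap_map_of_surjective π hπs, ← RingHom.ker_eq_comap_bot]
    exact sup_eq_left.mpr hkerle
  have hmD : (maximalIdeal Ab).map (algebraMap Ab D) ≤ 𝔫D := by
    have h1 : maximalIdeal Ab = (maximalIdeal A).map (Ideal.Quotient.mk 𝔭) :=
      (IsLocalRing.map_maximalIdeal_of_surjective (Ideal.Quotient.mk 𝔭)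
        Ideal.Quotient.mk_surjective).symm
    rw [h1, Ideal.map_map]
    have h2 : (algebraMap Ab D).comp (Ideal.Quotient.mk 𝔭) = π.comp (algebraMap A E) := by
      ext a
      rfl
    rw [h2, ← Ideal.map_map]
    exact Ideal.map_mono h𝔫
  obtain ⟨hdom, -⟩ := S13199_main Ab D 𝔫D hmD
  let K : Ideal D := RingHom.ker (algebraMap D (Localization.AtPrime 𝔫D))
  haveI hKp : K.IsPrime := RingHom.ker_isPrime _
  have hKle : ∀ Qb : Ideal D, Qb.IsPrime → Qb ≤ 𝔫D → K ≤ Qb := by
    intro Qb hQb hle x hx
    rw [RingHom.mem_ker, IsLocalization.map_eq_zero_iff 𝔫D.primeCompl] at hx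
    obtain ⟨⟨s, hs⟩, hsx⟩ := hx
    have h1 : s * x ∈ Qb := by
      rw [hsx]
      exact Qb.zero_mem
    rcases hQb.mem_or_mem h1 with h2 | h2
    · exact absurd (hle h2) hs
    · exact h2
  refine ⟨K.comap π, ?_⟩
  intro Q hQ hQ𝔫 hQ𝔭
  haveI hQp : Q.IsPrime := hQ.1.1
  have hkerQ : RingHom.ker π ≤ Q := by
    rw [hker, Ideal.map_le_iff_le_comap, hQ𝔭]
  haveI : (Q.map π).IsPrime := Ideal.map_isPrime_of_surjective hπs hkerQ
  have h1 : K ≤ Q.map π := hKle _ inferInstance (Ideal.map_mono hQ𝔫)
  have h2 : K.comap π ≤ Q := by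
    have h3 : (Q.map π).comap π = Q := by
      rw [Ideal.comap_map_of_surjective π hπs, ← RingHom.ker_eq_comap_bot]
      exact sup_eq_left.mpr hkerQ
    rw [← h3]
    exact Ideal.comap_mono h1
  exact le_antisymm (hQ.2 ⟨Ideal.IsPrime.comap π, bot_le⟩ h2) h2

include h𝔫 in
theorem encard_minimalPrimes_atPrime_le_of_smooth :
    (minimalPrimes (Localization.AtPrime 𝔫)).encard ≤ (minimalPrimes A).encard := by
  classical
  let C := Localization.AtPrime 𝔫
  haveI : Module.Flat A E := inferInstance
  haveI : Module.Flat E C := IsLocalization.flat C 𝔫.primeCompl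
  haveI : Module.Flat A C := Module.Flat.trans A E C
  refine Set.encard_le_encard_of_injOn (f := fun P : Ideal C => P.comap (algebraMap A C))
    (fun P hP => comap_mem_minimalPrimes_of_flat (B := A) (C := C) P hP) ?_
  intro P₁ hP₁ P₂ hP₂ h12
  simp only at h12
  haveI hP₁p : P₁.IsPrime := hP₁.1.1
  haveI hP₂p : P₂.IsPrime := hP₂.1.1
  haveI : (P₁.comap (algebraMap A C)).IsPrime := Ideal.IsPrime.comap _
  obtain ⟨K', hK'⟩ := exists_unique_minimal_over A E 𝔫 h𝔫 (P₁.comap (algebraMap A C))
  have hcm : (maximalIdeal C).comap (algebraMap E C) = 𝔫 :=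
    IsLocalization.AtPrime.comap_maximalIdeal C 𝔫
  have key : ∀ P : Ideal C, P ∈ minimalPrimes C →
      P.comap (algebraMap A C) = P₁.comap (algebraMap A C) → P.comap (algebraMap E C) = K' := by
    intro P hP hPc
    haveI : P.IsPrime := hP.1.1
    apply hK' _ (comap_mem_minimalPrimes_of_flat (B := E) (C := C) P hP)
    · exact (Ideal.comap_mono
        (IsLocalRing.le_maximalIdeal (Ideal.IsPrime.ne_top inferInstance))).trans hcm.le
    · rw [Ideal.comap_comap, ← IsScalarTower.algebraMap_eq A E C]
      exact hPc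
  have e1 := key P₁ hP₁ rfl
  have e2 := key P₂ hP₂ h12.symm
  have m1 : Ideal.map (algebraMap E C) (P₁.comap (algebraMap E C)) = P₁ :=
    IsLocalization.map_comap 𝔫.primeCompl C P₁
  have m2 : Ideal.map (algebraMap E C) (P₂.comap (algebraMap E C)) = P₂ :=
    IsLocalization.map_comap 𝔫.primeCompl C P₂
  rw [← m1, ← m2, e1, e2]

end LemmaX

section LemmaX'

variable (R E : Type u) [CommRing R] [CommRing E] [Algebra R E] [Algebra.Smooth R E]
  (p : Ideal R) [p.IsPrime] (𝔫 : Ideal E) [𝔫.IsPrime] (h𝔫 : 𝔫.comap (algebraMap R E) = p)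
  (Ash : Type u) [CommRing Ash] [IsLocalRing Ash] [Algebra (Localization.AtPrime p) Ash]
  [IsLocalHom (algebraMap (Localization.AtPrime p) Ash)]
  [hA : Hensel.IsStrictHenselization (Localization.AtPrime p) Ash]

include h𝔫 hA in
theorem encard_minimalPrimes_atPrime_le_strictHenselization :
    (minimalPrimes (Localization.AtPrime 𝔫)).encard ≤ (minimalPrimes Ash).encard := by
  classical
  letI : Algebra R Ash := ((algebraMap (Localization.AtPrime p) Ash).comp
    (algebraMap R (Localization.AtPrime p))).toAlgebra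
  haveI : IsScalarTower R (Localization.AtPrime p) Ash := IsScalarTower.of_algebraMap_eq' rfl
  haveI : HenselianLocalRing Ash := hA.henselian
  haveI : IsSepClosed (ResidueField Ash) := hA.isSepClosure.sep_closed
  haveI : Module.FaithfullyFlat (Localization.AtPrime p) Ash :=
    Groth.Agent.Helper7.SHens.faithfullyFlat_of_isStrictHenselization _ _
  haveI : Module.Flat R (Localization.AtPrime p) := IsLocalization.flat _ p.primeCompl
  haveI : Module.Flat R Ash := Module.Flat.trans R (Localization.AtPrime p) Ash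
  have hmA : (maximalIdeal Ash).comap (algebraMap R Ash) = p := by
    rw [IsScalarTower.algebraMap_eq R (Localization.AtPrime p) Ash, ← Ideal.comap_comap,
      IsLocalRing.maximalIdeal_comap]
    exact IsLocalization.AtPrime.under_maximalIdeal (Localization.AtPrime p) p
  obtain ⟨W, hW, hWl, hWr⟩ := exists_prime_tensor R Ash E (maximalIdeal Ash) 𝔫
    (by rw [hmA, h𝔫])
  haveI := hW
  have hle : (maximalIdeal Ash).map (algebraMap Ash (Ash ⊗[R] E)) ≤ W := by
    rw [Ideal.map_le_iff_le_comap]
    exact hWl.ge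
  have h1 := encard_minimalPrimes_atPrime_le_of_smooth Ash (Ash ⊗[R] E) W hle
  refine le_trans ?_ h1
  -- faithfully flat local homomorphism
  let f : E →+* Ash ⊗[R] E :=
    (Algebra.TensorProduct.includeRight : E →ₐ[R] Ash ⊗[R] E).toRingHom
  have hf : f.Flat := by
    letI := Algebra.TensorProduct.rightAlgebra (R := R) (A := Ash) (B := E)
    have : Module.Flat E (Ash ⊗[R] E) :=
      Module.Flat.of_linearEquiv (Algebra.TensorProduct.commRight R E Ash).symm.toLinearEquiv
    exact this
  let g := Localization.localRingHom 𝔫 W f hWr.symm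
  have hg : g.Flat := hf.localRingHom W 𝔫 hWr.symm
  letI : Algebra (Localization.AtPrime 𝔫) (Localization.AtPrime W) := g.toAlgebra
  haveI : Module.Flat (Localization.AtPrime 𝔫) (Localization.AtPrime W) := hg
  haveI : IsLocalHom (algebraMap (Localization.AtPrime 𝔫) (Localization.AtPrime W)) :=
    Localization.isLocalHom_localRingHom 𝔫 W f hWr.symm
  haveI : Module.FaithfullyFlat (Localization.AtPrime 𝔫) (Localization.AtPrime W) :=
    Module.FaithfullyFlat.of_flat_of_isLocalHom
  exact encard_minimalPrimes_le_of_faithfullyFlat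

end LemmaX'

end Groth.Agent.Lead.GUnib
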