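import Mathlib
import Groth.Prelude
import Groth.Agent.Lib.Lead.GUnib20

/-!
# Number of geometric branches under smooth ring maps: the comparison
-/

set_option autoImplicit false
set_option backward.isDefEq.respectTransparency.types false
set_option synthInstance.maxHeartbeats 400000
set_option linter.style.haveILetI false
set_option linter.unusedSectionVars false

universe u

open AlgebraicGeometry CategoryTheory Limits TensorProduct IsLocalRing

namespace Groth.Agent.Lead.GUnib

section Spec

variable (R : Type u) [CommRing R] (p : Ideal R) [hp : p.IsPrime]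
  (Ash : Type u) [CommRing Ash] [IsLocalRing Ash] [Algebra (Localization.AtPrime p) Ash]
  [IsLocalHom (algebraMap (Localization.AtPrime p) Ash)]
  [hA : Hensel.IsStrictHenselization (Localization.AtPrime p) Ash]

include hA in
theorem encard_minimalPrimes_eq_numGeomBranchesAt_spec :
    (minimalPrimes Ash).encard =
      Brnch.numGeomBranchesAt (Spec (CommRingCat.of R)) (⟨p, hp⟩ : PrimeSpectrum R) := by
  let x : PrimeSpectrum R := ⟨p, hp⟩
  let A := (Spec (CommRingCat.of R)).presheaf.stalk x
  let e : A ≃+* Localization.AtPrime p := (AlgebraicGeometry.StructureSheaf.stalkIso R x).toRingEquiv.symm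
  letI alg : Algebra A Ash := ((algebraMap (Localization.AtPrime p) Ash).comp e.toRingHom).toAlgebra
  have hloc : IsLocalHom (algebraMap A Ash) := by
    haveI : IsLocalHom e.toRingHom := ⟨fun a ha => (isLocalHom_equiv e).map_nonunit a ha⟩
    exact RingHom.isLocalHom_comp _ _
  haveI := hloc
  haveI : Hensel.IsStrictHenselization A Ash :=
    isStrictHenselization_of_ringEquiv e alg rfl hloc
  have h := Groth.Agent.Helper8.HensGU.card_minimalPrimes_strictHenselization A Ash
  unfold Brnch.numGeomBranchesAt
  rw [← h]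
  rfl

include hA in
/-- (I): for a scheme smooth over `Spec R`, the number of components through a point over `p`
is at most the number of geometric branches of `R` at `p`. -/
theorem encard_components_le_of_smooth {U : Scheme.{u}} (h : U ⟶ Spec (CommRingCat.of R))
    [Smooth h] (u : U) (hu : h u = (⟨p, hp⟩ : PrimeSpectrum R)) :
    {Z : Set U | Z ∈ irreducibleComponents U ∧ u ∈ Z}.encard ≤ (minimalPrimes Ash).encard := by
  rw [encard_components_eq]
  obtain ⟨_, ⟨W, hW, rfl⟩, huW, -⟩ :=
    U.isBasis_affineOpens.exists_subset_of_mem_open (Set.mem_univ u) isOpen_univ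
  obtain ⟨φ, hφ⟩ := Spec.map_surjective (hW.fromSpec ≫ h)
  have hsm : Smooth (Spec.map φ) := by rw [hφ]; infer_instance
  have hφsm : φ.hom.Smooth := (HasRingHomProperty.Spec_iff (P := @Smooth)).mp hsm
  let E := Γ(U, W)
  letI : Algebra R E := φ.hom.toAlgebra
  haveI : Algebra.Smooth R E := hφsm
  let 𝔫 : Ideal E := (hW.primeIdealOf ⟨u, huW⟩).asIdeal
  haveI : 𝔫.IsPrime := (hW.primeIdealOf ⟨u, huW⟩).isPrime
  have h𝔫 : 𝔫.comap (algebraMap R E) = p := by
    have h1 : (Spec.map φ) (hW.primeIdealOf ⟨u, huW⟩) = (⟨p, hp⟩ : PrimeSpectrum R) := by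
      rw [hφ, Scheme.Hom.comp_apply, hW.fromSpec_primeIdealOf ⟨u, huW⟩]
      exact hu
    exact congrArg PrimeSpectrum.asIdeal h1
  have key := encard_minimalPrimes_atPrime_le_strictHenselization R E p 𝔫 h𝔫 Ash
  letI := U.presheaf.algebra_section_stalk ⟨u, huW⟩
  haveI := hW.isLocalization_stalk ⟨u, huW⟩
  let e : Localization.AtPrime 𝔫 ≃ₐ[E] U.presheaf.stalk u :=
    IsLocalization.algEquiv 𝔫.primeCompl _ _
  rw [← encard_minimalPrimes_of_ringEquiv e.toRingEquiv]
  exact key

end Spec

/-- comparison of the number of components along a flat morphism -/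
theorem encard_components_le_of_flat {U V : Scheme.{u}} (π : U ⟶ V) [Flat π] (u : U) :
    {Z : Set V | Z ∈ irreducibleComponents V ∧ π u ∈ Z}.encard ≤
      {Z : Set U | Z ∈ irreducibleComponents U ∧ u ∈ Z}.encard := by
  rw [encard_components_eq, encard_components_eq]
  letI : Algebra (V.presheaf.stalk (π u)) (U.presheaf.stalk u) := (π.stalkMap u).hom.toAlgebra
  haveI : Module.Flat (V.presheaf.stalk (π u)) (U.presheaf.stalk u) := Flat.stalkMap π u
  haveI : IsLocalHom (algebraMap (V.presheaf.stalk (π u)) (U.presheaf.stalk u)) :=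
    inferInstanceAs (IsLocalHom (π.stalkMap u).hom)
  haveI : Module.FaithfullyFlat (V.presheaf.stalk (π u)) (U.presheaf.stalk u) :=
    Module.FaithfullyFlat.of_flat_of_isLocalHom
  exact encard_minimalPrimes_le_of_faithfullyFlat

theorem S2129_main {R S Ash Bsh : Type u} [CommRing R] [CommRing S] [Algebra R S]
    [Algebra.Smooth R S] (q : Ideal S) [hq : q.IsPrime] (p : Ideal R) [hp : p.IsPrime]
    [hqp : q.LiesOver p]
    [CommRing Ash] [IsLocalRing Ash] [Algebra (Localization.AtPrime p) Ash]
    [IsLocalHom (algebraMap (Localization.AtPrime p) Ash)]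
    [Hensel.IsStrictHenselization (Localization.AtPrime p) Ash]
    [CommRing Bsh] [IsLocalRing Bsh] [Algebra (Localization.AtPrime q) Bsh]
    [IsLocalHom (algebraMap (Localization.AtPrime q) Bsh)]
    [Hensel.IsStrictHenselization (Localization.AtPrime q) Bsh] :
    (minimalPrimes Ash).encard = (minimalPrimes Bsh).encard := by
  let f : Spec (CommRingCat.of S) ⟶ Spec (CommRingCat.of R) :=
    Spec.map (CommRingCat.ofHom (algebraMap R S))
  haveI : Smooth f := (HasRingHomProperty.Spec_iff (P := @Smooth)).mpr
    (RingHom.smooth_algebraMap.mpr ‹Algebra.Smooth R S›)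
  let x : Spec (CommRingCat.of S) := (⟨q, hq⟩ : PrimeSpectrum S)
  let y : Spec (CommRingCat.of R) := (⟨p, hp⟩ : PrimeSpectrum R)
  have hfx : f x = y := by
    apply PrimeSpectrum.ext
    exact (hqp.over).symm
  have hA := encard_minimalPrimes_eq_numGeomBranchesAt_spec R p Ash
  have hB := encard_minimalPrimes_eq_numGeomBranchesAt_spec S q Bsh
  apply le_antisymm
  · rw [hA, S9753_main]
    refine iSup_le fun V => iSup_le fun h => iSup_le fun v => iSup_le fun hv => ?_
    obtain ⟨het, hv⟩ := hv
    haveI := het
    obtain ⟨u, hu1, hu2⟩ := Scheme.Pullback.exists_preimage_pullback (f := h) (g := f) v x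
      (hv.trans hfx.symm)
    subst hu1
    refine (encard_components_le_of_flat (pullback.fst h f) u).trans ?_
    rw [hB, S9753_main]
    exact le_iSup₂_of_le (pullback h f) (pullback.snd h f)
      (le_iSup₂_of_le u ⟨inferInstance, hu2⟩ le_rfl)
  · rw [hB, S9753_main]
    refine iSup_le fun U => iSup_le fun g => iSup_le fun u => iSup_le fun hu => ?_
    obtain ⟨het, hu⟩ := hu
    haveI := het
    apply encard_components_le_of_smooth R p Ash (g ≫ f) u
    rw [Scheme.Hom.comp_apply, hu]
    exact hfx

end Groth.Agent.Lead.GUnib
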