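import Mathlib
import Groth.Agent.Lib.Lead.CMPt1

set_option autoImplicit false
set_option backward.isDefEq.respectTransparency.types false
set_option synthInstance.maxHeartbeats 400000
set_option linter.style.haveILetI false

universe u

open AlgebraicGeometry CategoryTheory CategoryTheory.Limits TopologicalSpace IsLocalRing
open RingTheory.Sequence

namespace Groth.Agent.Lead.CMPt

/-- quasi-finite flat affine slice through a point of the fibre over `f x₀` -/
theorem exists_affine_slice {X S : Scheme.{u}} (f : X ⟶ S) [Flat f] [LocallyOfFinitePresentation f]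
    (x₀ : X) :
    ∃ (Z : Scheme.{u}) (h : Z ⟶ X), IsAffine Z ∧ Flat (h ≫ f) ∧
      LocallyOfFinitePresentation (h ≫ f) ∧ LocallyQuasiFinite (h ≫ f) ∧
      f x₀ ∈ Set.range ⇑(h ≫ f) := by
  obtain ⟨x, hx, hcl, hcm⟩ := exists_closed_cm_point_fibre f x₀
  obtain ⟨V, Z, i, -, ⟨z, hz⟩, hfl, hfp, hqf, -⟩ :=
    Groth.Agent.Lead.SliceQF.S1349_main f x ⟨Flat.stalkMap f x, hcm⟩ hcl
  obtain ⟨W, hW, hzW, -⟩ := Opens.isBasis_iff_nbhd.mp (Z.isBasis_affineOpens)
    (show z ∈ (⊤ : Z.Opens) from trivial)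
  refine ⟨(W : Z.Opens), Scheme.Opens.ι W ≫ i ≫ V.ι, hW, ?_, ?_, ?_, ?_⟩
  · rw [Category.assoc, Category.assoc]
    haveI := hfl
    infer_instance
  · rw [Category.assoc, Category.assoc]
    haveI := hfp
    infer_instance
  · rw [Category.assoc, Category.assoc]
    haveI := hqf
    infer_instance
  · refine ⟨⟨z, hzW⟩, ?_⟩
    rw [← hx, ← hz]
    simp only [Scheme.Hom.comp_apply]
    rfl

/-- assembling a family of slices into a cover -/
theorem cover_of_family {X S : Scheme.{u}} (f : X ⟶ S) {ι : Type u} (Z : ι → Scheme.{u})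
    (h : ∀ i, Z i ⟶ X) (hfl : ∀ i, Flat (h i ≫ f))
    (hfp : ∀ i, LocallyOfFinitePresentation (h i ≫ f)) (hqf : ∀ i, LocallyQuasiFinite (h i ≫ f))
    (hcov : ∀ s : S, ∃ i, s ∈ Set.range ⇑(h i ≫ f)) :
    Sigma.desc h ≫ f = Sigma.desc (fun i => h i ≫ f) ∧ Flat (Sigma.desc (fun i => h i ≫ f)) ∧
      LocallyOfFinitePresentation (Sigma.desc (fun i => h i ≫ f)) ∧
      LocallyQuasiFinite (Sigma.desc (fun i => h i ≫ f)) ∧
      Surjective (Sigma.desc (fun i => h i ≫ f)) := by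
  refine ⟨?_, ?_, ?_, ?_, ?_⟩
  · apply Sigma.hom_ext
    intro i
    rw [Sigma.ι_desc, Sigma.ι_desc_assoc]
  · exact IsZariskiLocalAtSource.sigmaDesc hfl
  · exact IsZariskiLocalAtSource.sigmaDesc hfp
  · exact IsZariskiLocalAtSource.sigmaDesc hqf
  · apply Surjective.sigmaDesc_of_union_range_eq_univ
    rw [Set.eq_univ_iff_forall]
    intro s
    obtain ⟨i, hi⟩ := hcov s
    exact Set.mem_iUnion.mpr ⟨i, hi⟩

set_option maxHeartbeats 1000000 in
theorem S2735_main {X S : Scheme.{u}} (f : X ⟶ S)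
    [Flat f] [LocallyOfFinitePresentation f] [Surjective f] :
    ∃ (S' : Scheme.{u}) (g : S' ⟶ S) (h : S' ⟶ X), h ≫ f = g ∧ Flat g ∧ LocallyOfFinitePresentation g ∧
      LocallyQuasiFinite g ∧ Surjective g ∧ (CompactSpace S → IsAffine S') := by
  classical
  have key : ∀ s : S, ∃ (Z : Scheme.{u}) (h : Z ⟶ X), IsAffine Z ∧ Flat (h ≫ f) ∧
      LocallyOfFinitePresentation (h ≫ f) ∧ LocallyQuasiFinite (h ≫ f) ∧
      s ∈ Set.range ⇑(h ≫ f) := by
    intro s
    obtain ⟨x₀, rfl⟩ := f.surjective s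
    exact exists_affine_slice f x₀
  choose Z h hZ hfl hfp hqf hs using key
  by_cases hc : CompactSpace S
  · -- finitely many suffice
    have hopen : ∀ s : S, IsOpen (Set.range ⇑(h s ≫ f)) := fun s => by
      haveI := hfl s
      haveI := hfp s
      exact (h s ≫ f).isOpenMap.isOpen_range
    obtain ⟨t, ht⟩ := isCompact_univ.elim_finite_subcover (fun s : S => Set.range ⇑(h s ≫ f)) hopen
      (fun s _ => Set.mem_iUnion.mpr ⟨s, hs s⟩)
    obtain ⟨h1, h2, h3, h4, h5⟩ := cover_of_family f (fun i : t => Z i.1) (fun i => h i.1)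
      (fun i => hfl i.1) (fun i => hfp i.1) (fun i => hqf i.1) (by
        intro s
        have := ht (Set.mem_univ s)
        simp only [Set.mem_iUnion] at this
        obtain ⟨i, hit, hi⟩ := this
        exact ⟨⟨i, hit⟩, hi⟩)
    refine ⟨_, _, _, h1, h2, h3, h4, h5, fun _ => ?_⟩
    haveI : ∀ i : t, IsAffine (Z i.1) := fun i => hZ i.1
    infer_instance
  · obtain ⟨h1, h2, h3, h4, h5⟩ := cover_of_family f Z h hfl hfp hqf (fun s => ⟨s, hs s⟩)
    exact ⟨_, _, _, h1, h2, h3, h4, h5, fun hc' => absurd hc' hc⟩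

end Groth.Agent.Lead.CMPt
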