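import Mathlib

set_option autoImplicit false
set_option backward.isDefEq.respectTransparency.types false
set_option synthInstance.maxHeartbeats 400000
set_option linter.style.haveILetI false
set_option linter.unusedSectionVars false
universe u
open CategoryTheory CategoryTheory.Limits AlgebraicGeometry TopologicalSpace Opposite

namespace Groth.Agent.Lead.FrobDeg

/-- the degree of a homomorphism of fields (zero if infinite) -/
noncomputable def hdeg {A B : Type*} [Field A] [Field B] (φ : A →+* B) : ℕ :=
  letI := φ.toAlgebra; Module.finrank A B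

theorem hdeg_comp {A B C : Type*} [Field A] [Field B] [Field C] (φ : A →+* B) (ψ : B →+* C) :
    hdeg (ψ.comp φ) = hdeg φ * hdeg ψ := by
  letI := φ.toAlgebra
  letI := ψ.toAlgebra
  letI := (ψ.comp φ).toAlgebra
  haveI : IsScalarTower A B C := IsScalarTower.of_algebraMap_eq (fun _ => rfl)
  exact (Module.finrank_mul_finrank A B C).symm

theorem hdeg_of_bijective {A B : Type*} [Field A] [Field B] (φ : A →+* B)
    (h : Function.Bijective φ) : hdeg φ = 1 := by
  letI := φ.toAlgebra
  have e : A ≃ₗ[A] B :=
    { (RingEquiv.ofBijective φ h).toAddEquiv with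
      map_smul' := fun a x => by
        change φ (a * x) = φ a * φ x
        exact map_mul φ a x }
  have h1 : Module.finrank A A = Module.finrank A B := LinearEquiv.finrank_eq e
  have h2 : Module.finrank A A = 1 := Module.finrank_self A
  exact h1.symm.trans h2

theorem hdeg_algebraMap {A B : Type*} [Field A] [Field B] [Algebra A B] :
    hdeg (algebraMap A B) = Module.finrank A B := by
  have h : (algebraMap A B).toAlgebra = ‹Algebra A B› := Algebra.algebra_ext _ _ (fun _ => rfl)
  change @Module.finrank A B _ _ (algebraMap A B).toAlgebra.toModule = _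
  rw [h]

/-- the degree of the `p^m`-power Frobenius of a field -/
noncomputable def fdeg (p : ℕ) (M : Type*) [Field M] [ExpChar M p] (m : ℕ) : ℕ :=
  hdeg (iterateFrobenius M p m)

theorem fdeg_eq_of_finite (p : ℕ) {E L : Type*} [Field E] [Field L] [ExpChar E p] [ExpChar L p]
    (i : E →+* L) (hi : hdeg i ≠ 0) (m : ℕ) : fdeg p L m = fdeg p E m := by
  have hcomm : i.comp (iterateFrobenius E p m) = (iterateFrobenius L p m).comp i := by
    ext x
    simp only [RingHom.comp_apply, iterateFrobenius_def, map_pow]
  have h1 := hdeg_comp (iterateFrobenius E p m) i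
  have h2 := hdeg_comp i (iterateFrobenius L p m)
  rw [hcomm, h2] at h1
  unfold fdeg
  exact Nat.eq_of_mul_eq_mul_left (Nat.pos_of_ne_zero hi) (h1.trans (mul_comm _ _))

theorem fdeg_of_perfect (p : ℕ) (M : Type*) [Field M] [ExpChar M p] [PerfectRing M p] (m : ℕ) :
    fdeg p M m = 1 :=
  hdeg_of_bijective _ (bijective_iterateFrobenius M p m)

end Groth.Agent.Lead.FrobDeg
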