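import Mathlib
import Groth.Agent.Lib.Lead.FrobDeg1

set_option autoImplicit false
set_option backward.isDefEq.respectTransparency.types false
set_option synthInstance.maxHeartbeats 400000
set_option linter.style.haveILetI false
set_option linter.unusedSectionVars false
universe u
open CategoryTheory CategoryTheory.Limits AlgebraicGeometry TopologicalSpace Opposite

namespace Groth.Agent.Lead.FrobDeg

open scoped RatFunc
open IntermediateField

variable {M : Type u} [Field M]

/-- ring homomorphisms out of the field of rational functions are determined on constants and `X` -/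
theorem ratFunc_ringHom_ext {L : Type*} [Field L] (f g : RatFunc M →+* L)
    (hC : ∀ a : M, f (RatFunc.C a) = g (RatFunc.C a)) (hX : f RatFunc.X = g RatFunc.X) : f = g := by
  apply IsLocalization.ringHom_ext (nonZeroDivisors (Polynomial M))
  apply Polynomial.ringHom_ext
  · intro a
    simp only [RingHom.comp_apply]
    have : algebraMap (Polynomial M) (RatFunc M) (Polynomial.C a) = RatFunc.C a := by
      simp
    rw [this]
    exact hC a
  · simp only [RingHom.comp_apply]
    rw [RatFunc.algebraMap_X]
    exact hX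

/-- the substitution `X ↦ X ^ n` -/
noncomputable def subst (n : ℕ) (hn : 0 < n) : RatFunc M →+* RatFunc M :=
  (M⟮(RatFunc.X : RatFunc M) ^ n⟯.val : M⟮(RatFunc.X : RatFunc M) ^ n⟯ →+* RatFunc M).comp
    (RatFunc.algEquivOfTranscendental ((RatFunc.X : RatFunc M) ^ n)
      (RatFunc.transcendental_X.pow hn) : RatFunc M →+* M⟮(RatFunc.X : RatFunc M) ^ n⟯)

theorem subst_X (n : ℕ) (hn : 0 < n) : subst (M := M) n hn RatFunc.X = RatFunc.X ^ n := by
  unfold subst
  simp only [RingHom.comp_apply]
  change ((RatFunc.algEquivOfTranscendental ((RatFunc.X : RatFunc M) ^ n) _ RatFunc.X :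
    M⟮(RatFunc.X : RatFunc M) ^ n⟯) : RatFunc M) = _
  rw [RatFunc.algEquivOfTranscendental_X]

theorem subst_C (n : ℕ) (hn : 0 < n) (a : M) : subst (M := M) n hn (RatFunc.C a) = RatFunc.C a := by
  unfold subst
  simp only [RingHom.comp_apply]
  have h1 : (RatFunc.C a : RatFunc M) = algebraMap M (RatFunc M) a := rfl
  rw [h1]
  change ((RatFunc.algEquivOfTranscendental ((RatFunc.X : RatFunc M) ^ n) _
    (algebraMap M (RatFunc M) a) : M⟮(RatFunc.X : RatFunc M) ^ n⟯) : RatFunc M) = _
  rw [AlgEquiv.commutes]
  rfl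

theorem hdeg_subst (n : ℕ) (hn : 0 < n) : hdeg (subst (M := M) n hn) = n := by
  unfold subst
  rw [hdeg_comp, hdeg_of_bijective _ (AlgEquiv.bijective _), one_mul]
  have h1 : hdeg (M⟮(RatFunc.X : RatFunc M) ^ n⟯.val : M⟮(RatFunc.X : RatFunc M) ^ n⟯ →+* RatFunc M)
      = Module.finrank M⟮(RatFunc.X : RatFunc M) ^ n⟯ (RatFunc M) := hdeg_algebraMap
  rw [h1, RatFunc.finrank_eq_max_natDegree]
  have h2 : ((RatFunc.X : RatFunc M) ^ n) = algebraMap (Polynomial M) (RatFunc M) (Polynomial.X ^ n) := by
    rw [map_pow, RatFunc.algebraMap_X]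
  rw [h2, RatFunc.num_algebraMap, RatFunc.denom_algebraMap, Polynomial.natDegree_X_pow,
    Polynomial.natDegree_one]
  exact max_eq_left (Nat.zero_le n)

/-- a copy of the field, as the source of Frobenius -/
def FSrc (M : Type u) : Type u := M

noncomputable instance : Field (FSrc M) := inferInstanceAs (Field M)

section

variable (p : ℕ) [ExpChar M p] (m : ℕ)

/-- the algebra structure given by the iterated Frobenius -/
@[reducible] noncomputable def frobAlg : Algebra (FSrc M) M := (iterateFrobenius M p m).toAlgebra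

theorem isAlgebraic_frob : letI := frobAlg (M := M) p m; Algebra.IsAlgebraic (FSrc M) M := by
  letI := frobAlg (M := M) p m
  refine ⟨fun x => IsIntegral.isAlgebraic ?_⟩
  let x' : FSrc M := x
  refine ⟨((Polynomial.X : Polynomial (FSrc M)) ^ (p ^ m) - Polynomial.C x' :
    Polynomial (FSrc M)), ?_, ?_⟩
  · refine Polynomial.monic_X_pow_sub_C _ ?_
    exact (pow_pos (expChar_pos M p) m).ne'
  · rw [Polynomial.eval₂_sub, Polynomial.eval₂_pow, Polynomial.eval₂_X, Polynomial.eval₂_C]
    change x ^ p ^ m - iterateFrobenius M p m x' = 0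
    rw [iterateFrobenius_def, sub_self]

attribute [local instance] Polynomial.algebra

theorem fdeg_ratFunc : fdeg p (RatFunc M) m = p ^ m * fdeg p M m := by
  letI := frobAlg (M := M) p m
  haveI := isAlgebraic_frob (M := M) p m
  have hpos : 0 < p ^ m := pow_pos (expChar_pos M p) m
  let μ : RatFunc M →+* RatFunc M := algebraMap (RatFunc (FSrc M)) (RatFunc M)
  have hμ : hdeg μ = fdeg p M m := by
    have h := hdeg_algebraMap (A := RatFunc (FSrc M)) (B := RatFunc M)
    rw [RatFunc.finrank_ratFunc_ratFunc] at h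
    exact h
  have hμC : ∀ a : M, μ (RatFunc.C a) = RatFunc.C (a ^ p ^ m) := by
    intro a
    let a' : FSrc M := a
    have h1 : (RatFunc.C a' : RatFunc (FSrc M)) =
        algebraMap (Polynomial (FSrc M)) (RatFunc (FSrc M)) (Polynomial.C a') :=
      (RatFunc.algebraMap_C a').symm
    change algebraMap (RatFunc (FSrc M)) (RatFunc M) (RatFunc.C a') = _
    rw [h1, ← IsScalarTower.algebraMap_apply (Polynomial (FSrc M)) (RatFunc (FSrc M)) (RatFunc M),
      IsScalarTower.algebraMap_apply (Polynomial (FSrc M)) (Polynomial M) (RatFunc M),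
      Polynomial.algebraMap_def, Polynomial.coe_mapRingHom, Polynomial.map_C,
      RatFunc.algebraMap_C]
    rfl
  have hμX : μ RatFunc.X = RatFunc.X := by
    have h1 : (RatFunc.X : RatFunc (FSrc M)) =
        algebraMap (Polynomial (FSrc M)) (RatFunc (FSrc M)) Polynomial.X :=
      (RatFunc.algebraMap_X).symm
    change algebraMap (RatFunc (FSrc M)) (RatFunc M) (RatFunc.X : RatFunc (FSrc M)) = _
    rw [h1, ← IsScalarTower.algebraMap_apply (Polynomial (FSrc M)) (RatFunc (FSrc M)) (RatFunc M),
      IsScalarTower.algebraMap_apply (Polynomial (FSrc M)) (Polynomial M) (RatFunc M),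
      Polynomial.algebraMap_def, Polynomial.coe_mapRingHom, Polynomial.map_X,
      RatFunc.algebraMap_X]
  have hfac : iterateFrobenius (RatFunc M) p m = (subst (p ^ m) hpos).comp μ := by
    apply ratFunc_ringHom_ext
    · intro a
      rw [iterateFrobenius_def, RingHom.comp_apply, hμC, subst_C, ← map_pow]
    · rw [iterateFrobenius_def, RingHom.comp_apply, hμX, subst_X]
  unfold fdeg
  rw [hfac, hdeg_comp, hμ, hdeg_subst, mul_comm]
  rfl

end

end Groth.Agent.Lead.FrobDeg
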