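import Mathlib
import Groth.Agent.Lib.Lead.FrobDeg2
import Groth.Agent.Lib.Helper4.DimFT1

set_option autoImplicit false
set_option backward.isDefEq.respectTransparency.types false
set_option synthInstance.maxHeartbeats 400000
set_option linter.style.haveILetI false
set_option linter.unusedSectionVars false
universe u
open CategoryTheory CategoryTheory.Limits AlgebraicGeometry TopologicalSpace Opposite

namespace Groth.Agent.Lead.FrobDeg

open scoped RatFunc
open IntermediateField

theorem fdeg_congr (p : ℕ) {A B : Type*} [Field A] [Field B] [ExpChar A p] [ExpChar B p]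
    (e : A ≃+* B) (m : ℕ) : fdeg p A m = fdeg p B m := by
  refine (fdeg_eq_of_finite p (e : A →+* B) ?_ m).symm
  rw [hdeg_of_bijective _ e.bijective]
  exact one_ne_zero

theorem trdeg_ratFunc (K : Type u) [Field K] : Algebra.trdeg K (RatFunc K) = 1 := by
  have h := Groth.Agent.Lib.Helper4.DimFT1.trdeg_fractionRing_eq K (Polynomial K) (RatFunc K)
  rw [h, Polynomial.trdeg_of_isDomain]

section Induction

variable (p : ℕ) {k L : Type u} [Field k] [Field L] [Algebra k L] [ExpChar k p] [ExpChar L p]
  (m : ℕ)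

/-- the property propagated along simple extensions -/
def Good (K : IntermediateField k L) : Prop :=
  ∃ n : ℕ, Algebra.trdeg k K = n ∧ fdeg p K m = (p ^ m) ^ n

theorem good_bot [PerfectRing k p] : Good p m (⊥ : IntermediateField k L) := by
  refine ⟨0, ?_, ?_⟩
  · rw [(IntermediateField.botEquiv k L).trdeg_eq, _root_.trdeg_eq_zero]
    rfl
  · rw [fdeg_congr p (IntermediateField.botEquiv k L).toRingEquiv m, fdeg_of_perfect, pow_zero]

/-- the identification of an extension with its restriction of scalars -/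
def restrictEquiv (K : IntermediateField k L) (E : IntermediateField K L) :
    ↥(E.restrictScalars k) ≃ₐ[k] ↥E where
  toFun y := ⟨y.1, y.2⟩
  invFun y := ⟨y.1, y.2⟩
  left_inv _ := rfl
  right_inv _ := rfl
  map_mul' _ _ := rfl
  map_add' _ _ := rfl
  commutes' _ := rfl

theorem good_step (K : IntermediateField k L) (x : L) (hK : Good p m K) :
    Good p m (K⟮x⟯.restrictScalars k) := by
  obtain ⟨n, hn1, hn2⟩ := hK
  have htr : Algebra.trdeg k ↥(K⟮x⟯.restrictScalars k) =
      Algebra.trdeg k K + Algebra.trdeg K ↥K⟮x⟯ := by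
    rw [(restrictEquiv K K⟮x⟯).trdeg_eq]
    exact (trdeg_add_eq k K (A := ↥K⟮x⟯)).symm
  have hfd : fdeg p ↥(K⟮x⟯.restrictScalars k) m = fdeg p ↥K⟮x⟯ m :=
    fdeg_congr p (restrictEquiv K K⟮x⟯).toRingEquiv m
  by_cases hx : IsAlgebraic K x
  · haveI : Algebra.IsAlgebraic K ↥K⟮x⟯ :=
      IntermediateField.isAlgebraic_adjoin_simple hx.isIntegral
    haveI : FiniteDimensional K ↥K⟮x⟯ := IntermediateField.adjoin.finiteDimensional hx.isIntegral
    refine ⟨n, ?_, ?_⟩
    · rw [htr, hn1, _root_.trdeg_eq_zero, add_zero]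
    · rw [hfd, fdeg_eq_of_finite p (algebraMap K ↥K⟮x⟯) ?_ m, hn2]
      rw [hdeg_algebraMap]
      exact Module.finrank_pos.ne'
  · have hx' : Transcendental K x := hx
    let e : RatFunc K ≃ₐ[K] ↥K⟮x⟯ := RatFunc.algEquivOfTranscendental x hx'
    refine ⟨n + 1, ?_, ?_⟩
    · rw [htr, hn1, ← e.trdeg_eq, trdeg_ratFunc]
      push_cast
      rfl
    · rw [hfd, ← fdeg_congr p e.toRingEquiv m, fdeg_ratFunc, hn2, pow_succ, mul_comm]

theorem good_top [PerfectRing k p] (hfg : (⊤ : IntermediateField k L).FG) :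
    Good p m (⊤ : IntermediateField k L) :=
  IntermediateField.induction_on_adjoin_fg (Good p m) (good_bot p m)
    (fun K x hK => good_step p m K x hK) ⊤ hfg

/-- the degree of the Frobenius of a finitely generated extension of a perfect field -/
theorem fdeg_eq_pow_trdeg [PerfectRing k p] (hfg : (⊤ : IntermediateField k L).FG) :
    ∃ n : ℕ, Algebra.trdeg k L = n ∧ fdeg p L m = (p ^ m) ^ n := by
  obtain ⟨n, h1, h2⟩ := good_top p m hfg
  refine ⟨n, ?_, ?_⟩
  · rw [← h1]
    exact (IntermediateField.topEquiv (F := k) (E := L)).trdeg_eq.symm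
  · rw [← h2]
    exact (fdeg_congr p (IntermediateField.topEquiv (F := k) (E := L)).toRingEquiv m).symm

end Induction

end Groth.Agent.Lead.FrobDeg
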