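import Mathlib
import Groth.Agent.Lib.Lead.FrobDeg3

set_option autoImplicit false
set_option backward.isDefEq.respectTransparency.types false
set_option synthInstance.maxHeartbeats 400000
set_option linter.style.haveILetI false
set_option linter.unusedSectionVars false
universe u
open CategoryTheory CategoryTheory.Limits AlgebraicGeometry TopologicalSpace Opposite

namespace Groth.Agent.Lead.FrobDeg

section Pushout

variable {R₀ R A B : CommRingCat.{u}} {a : R₀ ⟶ A} {ι : R₀ ⟶ R} {α : A ⟶ B} {β : R ⟶ B}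

theorem twist_compat (hpo : IsPushout a ι α β) (fr : R ⟶ R)
    (hι : ∀ x : R₀, fr (ι x) = ι x) : a ≫ α = ι ≫ (fr ≫ β) := by
  have h : ι ≫ fr = ι := by
    ext x
    exact hι x
  rw [← Category.assoc, h]
  exact hpo.w

/-- the endomorphism `id ⊗ fr` of a pushout -/
noncomputable def twist (hpo : IsPushout a ι α β) (fr : R ⟶ R)
    (hι : ∀ x : R₀, fr (ι x) = ι x) : B ⟶ B :=
  hpo.desc α (fr ≫ β) (twist_compat hpo fr hι)

@[reassoc (attr := simp)]
theorem inl_twist (hpo : IsPushout a ι α β) (fr : R ⟶ R)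
    (hι : ∀ x : R₀, fr (ι x) = ι x) : α ≫ twist hpo fr hι = α := by
  simp [twist]

@[reassoc (attr := simp)]
theorem inr_twist (hpo : IsPushout a ι α β) (fr : R ⟶ R)
    (hι : ∀ x : R₀, fr (ι x) = ι x) : β ≫ twist hpo fr hι = fr ≫ β := by
  simp [twist]

theorem twist_twist (hpo : IsPushout a ι α β) (fr g : R ⟶ R)
    (hι : ∀ x : R₀, fr (ι x) = ι x) (hι' : ∀ x : R₀, g (ι x) = ι x)
    (hfg : fr ≫ g = 𝟙 R) : twist hpo fr hι ≫ twist hpo g hι' = 𝟙 B := by
  apply hpo.hom_ext
  · simp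
  · simp only [inr_twist_assoc, inr_twist, Category.comp_id]
    rw [← Category.assoc, hfg, Category.id_comp]

theorem twist_comp (hpo : IsPushout a ι α β) (fr : R ⟶ R)
    (hι : ∀ x : R₀, fr (ι x) = ι x) (frB : B ⟶ B) (hfrβ : fr ≫ β = β ≫ frB)
    (φ : B ⟶ B) (hφα : α ≫ φ = α ≫ frB) (hφβ : β ≫ φ = β) :
    twist hpo fr hι ≫ φ = frB := by
  apply hpo.hom_ext
  · simp [hφα]
  · simp only [inr_twist_assoc, Category.assoc, hφβ, hfrβ]

end Pushout

end Groth.Agent.Lead.FrobDeg

namespace Groth.Agent.Lead.FrobDeg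

section Main

variable {R₀ R A B : CommRingCat.{u}} {a : R₀ ⟶ A} {ι : R₀ ⟶ R} {α : A ⟶ B} {β : R ⟶ B}

theorem pushout_frob_aux (hpo : IsPushout a ι α β) (p m : ℕ) (fr g : R ⟶ R)
    (hfr : ∀ x, fr x = x ^ (p ^ m)) (hfg : fr ≫ g = 𝟙 R) (hgf : g ≫ fr = 𝟙 R)
    (hι : ∀ x, fr (ι x) = ι x) [ExpChar B p]
    (φ : B ⟶ B) (hφα : ∀ x, φ (α x) = (α x) ^ (p ^ m)) (hφβ : ∀ x, φ (β x) = β x) :
    ∃ e : B ≃+* B, ∀ b, φ b = (e b) ^ (p ^ m) := by
  have hι' : ∀ x, g (ι x) = ι x := by
    intro x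
    have h1 : g (fr (ι x)) = ι x := by
      have := congrArg (fun t => t.hom (ι x)) hfg
      simpa using this
    rwa [hι x] at h1
  let frB : B ⟶ B := CommRingCat.ofHom (iterateFrobenius B p m)
  have hfrβ : fr ≫ β = β ≫ frB := by
    ext x
    simp only [CommRingCat.hom_comp, RingHom.comp_apply, frB, CommRingCat.hom_ofHom,
      iterateFrobenius_def]
    rw [hfr x, map_pow]
  have hφα' : α ≫ φ = α ≫ frB := by
    ext x
    simp only [CommRingCat.hom_comp, RingHom.comp_apply, frB, CommRingCat.hom_ofHom,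
      iterateFrobenius_def]
    exact hφα x
  have hφβ' : β ≫ φ = β := by
    ext x
    exact hφβ x
  have h1 := twist_comp hpo fr hι frB hfrβ φ hφα' hφβ'
  have h2 := twist_twist hpo g fr hι' hι hgf
  have h3 := twist_twist hpo fr g hι hι' hfg
  have h4 : φ = twist hpo g hι' ≫ frB := by
    rw [← h1, ← Category.assoc, h2, Category.id_comp]
  let e : B ≃+* B := RingEquiv.ofRingHom (twist hpo g hι').hom (twist hpo fr hι).hom
    (by
      have := congrArg (fun t => t.hom) h3
      simpa using this)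
    (by
      have := congrArg (fun t => t.hom) h2
      simpa using this)
  refine ⟨e, fun b => ?_⟩
  rw [h4]
  simp only [CommRingCat.hom_comp, RingHom.comp_apply, frB, CommRingCat.hom_ofHom,
    iterateFrobenius_def]
  rfl

theorem pushout_frob (hpo : IsPushout a ι α β) (p m : ℕ) (fr g : R ⟶ R)
    (hfr : ∀ x, fr x = x ^ (p ^ m)) (hfg : fr ≫ g = 𝟙 R) (hgf : g ≫ fr = 𝟙 R)
    (hι : ∀ x, fr (ι x) = ι x) [ExpChar B p] [IsDomain B]
    (φ : B ⟶ B) (hφα : ∀ x, φ (α x) = (α x) ^ (p ^ m)) (hφβ : ∀ x, φ (β x) = β x)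
    (L : Type u) [Field L] [Algebra B L] [IsFractionRing B L] [ExpChar L p]
    (ψ : L →+* L) (hψ : ∀ b, ψ (algebraMap B L b) = algebraMap B L (φ b)) :
    Function.Injective φ ∧ hdeg ψ = fdeg p L m := by
  obtain ⟨e, he⟩ := pushout_frob_aux hpo p m fr g hfr hfg hgf hι φ hφα hφβ
  constructor
  · intro x y hxy
    rw [he, he] at hxy
    have := iterateFrobenius_inj B p m (by simpa [iterateFrobenius_def] using hxy)
    exact e.injective this
  · let eL : L ≃+* L := IsFractionRing.ringEquivOfRingEquiv e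
    have hψ' : ψ = (iterateFrobenius L p m).comp (eL : L →+* L) := by
      apply IsLocalization.ringHom_ext (nonZeroDivisors B)
      ext b
      simp only [RingHom.comp_apply, RingHom.coe_coe, iterateFrobenius_def]
      rw [hψ b, he b, map_pow]
      congr 1
      exact (IsFractionRing.ringEquivOfRingEquiv_algebraMap e b).symm
    have h1 : hdeg (eL : L →+* L) = 1 := hdeg_of_bijective _ eL.bijective
    rw [hψ', hdeg_comp, h1, one_mul]
    rfl

end Main

end Groth.Agent.Lead.FrobDeg
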