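import Mathlib
import Groth.Agent.Lib.Lead.FrobDeg4
import Groth.Agent.Lib.Helper5.Misc.WeilGen
import Groth.Agent.Lib.Helper4.DimFT4

set_option autoImplicit false
set_option backward.isDefEq.respectTransparency.types false
set_option synthInstance.maxHeartbeats 400000
set_option linter.style.haveILetI false
set_option linter.unusedSectionVars false
universe u
open CategoryTheory CategoryTheory.Limits AlgebraicGeometry TopologicalSpace Opposite

namespace Groth.Agent.Lead.FrobDeg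

section General

variable {Y : Scheme.{u}} [IsIntegral Y]

theorem genericPoint_mem_basicOpen {V : Y.Opens} (hη : genericPoint Y ∈ V) (b : Γ(Y, V))
    (hb : b ≠ 0) : genericPoint Y ∈ Y.basicOpen b := by
  have h1 : Y.basicOpen b ≠ ⊥ := by
    intro h
    exact hb ((AlgebraicGeometry.basicOpen_eq_bot_iff b).mp h)
  refine ((genericPoint_spec Y).mem_open_set_iff (Y.basicOpen b).2).mpr ?_
  simp only [Set.top_eq_univ, Set.univ_inter]
  by_contra hne
  apply h1
  ext x
  simp only [Opens.coe_bot, Set.mem_empty_iff_false, iff_false]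
  intro hx
  exact hne ⟨x, hx⟩

theorem map_genericPoint_of_injective (g : Y ⟶ Y) (V : Y.Opens) (hV : IsAffineOpen V)
    (hη : genericPoint Y ∈ V) (hle : V ≤ g ⁻¹ᵁ V)
    (hinj : Function.Injective (g.appLE V V hle)) :
    g (genericPoint Y) = genericPoint Y := by
  have key : ∀ b : Γ(Y, V), b ≠ 0 → g (genericPoint Y) ∈ Y.basicOpen b := by
    intro b hb
    have h1 : g.appLE V V hle b ≠ 0 := by
      intro h0
      apply hb
      apply hinj
      rw [h0, map_zero]
    have h2 := genericPoint_mem_basicOpen hη _ h1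
    rw [Scheme.Hom.appLE, CommRingCat.comp_apply, Scheme.basicOpen_res] at h2
    have h3 := h2.2
    rw [← Scheme.preimage_basicOpen] at h3
    exact h3
  have h1 : genericPoint Y ⤳ g (genericPoint Y) :=
    (genericPoint_spec Y).specializes (Set.mem_univ _)
  refine (Specializes.antisymm h1 ?_).eq.symm
  rw [specializes_iff_forall_open]
  intro W hW hηW
  obtain ⟨b, hbW, hηb⟩ := hV.exists_basicOpen_le (V := ⟨W, hW⟩) ⟨genericPoint Y, hηW⟩ hη
  have hb : b ≠ 0 := by
    rintro rfl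
    rw [Scheme.basicOpen_zero] at hηb
    exact hηb
  exact hbW (key b hb)

theorem residue_genericPoint_bijective :
    Function.Bijective (Y.residue (genericPoint Y)).hom := by
  have hF : IsField (Y.presheaf.stalk (genericPoint Y)) :=
    Groth.Agent.Lib.Helper5.Misc.WeilGen.isField_stalk Y _ rfl
  letI := hF.toField
  exact ⟨(Y.residue (genericPoint Y)).hom.injective, Y.residue_surjective _⟩

theorem isFractionRing_residueField (V : Y.Opens) (hV : IsAffineOpen V)
    (hη : genericPoint Y ∈ V) :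
    letI := (Y.evaluation V (genericPoint Y) hη).hom.toAlgebra
    IsFractionRing Γ(Y, V) (Y.residueField (genericPoint Y)) := by
  letI := (Y.evaluation V (genericPoint Y) hη).hom.toAlgebra
  haveI : Nonempty V := ⟨⟨genericPoint Y, hη⟩⟩
  haveI := functionField_isFractionRing_of_isAffineOpen Y V hV
  let e : Y.functionField ≃+* Y.residueField (genericPoint Y) :=
    RingEquiv.ofBijective (Y.residue (genericPoint Y)).hom residue_genericPoint_bijective
  let e' : Y.functionField ≃ₐ[Γ(Y, V)] Y.residueField (genericPoint Y) :=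
    AlgEquiv.ofRingEquiv (f := e) (fun r => rfl)
  exact IsLocalization.isLocalization_of_algEquiv (nonZeroDivisors Γ(Y, V)) e'

end General

theorem residueFieldMap_eval {Y : Scheme.{u}} (g : Y ⟶ Y) (x : Y) (hx : g x = x) (V : Y.Opens)
    (hxV : x ∈ V) (hle : V ≤ g ⁻¹ᵁ V) :
    ∃ ψ : Y.residueField x →+* Y.residueField x, hdeg ψ = g.residueDegree x ∧
      ∀ b, ψ (Y.evaluation V x hxV b) = Y.evaluation V x hxV (g.appLE V V hle b) := by
  have main : ∀ (y : Y) (h : g x = y) (hy : y ∈ V),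
      ∃ ψ : Y.residueField y →+* Y.residueField x, hdeg ψ = g.residueDegree x ∧
      ∀ b, ψ (Y.evaluation V y hy b) = Y.evaluation V x hxV (g.appLE V V hle b) := by
    intro y h hy
    subst h
    refine ⟨(g.residueFieldMap x).hom, rfl, fun b => ?_⟩
    have h1 := Scheme.evaluation_naturality_apply g x hy b
    refine h1.trans ?_
    rw [Scheme.Hom.appLE, CommRingCat.comp_apply]
    simp only [Scheme.evaluation, CommRingCat.comp_apply]
    congr 1
    exact (Y.presheaf.germ_res_apply (homOfLE hle) x hxV _).symm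
  exact main x hx hxV


section Geo

theorem pushout_frob_injective {R₀ R A B : CommRingCat.{u}} {a : R₀ ⟶ A} {ι : R₀ ⟶ R}
    {α : A ⟶ B} {β : R ⟶ B} (hpo : IsPushout a ι α β) (p m : ℕ) (fr g : R ⟶ R)
    (hfr : ∀ x, fr x = x ^ (p ^ m)) (hfg : fr ≫ g = 𝟙 R) (hgf : g ≫ fr = 𝟙 R)
    (hι : ∀ x, fr (ι x) = ι x) [ExpChar B p] [IsDomain B]
    (φ : B ⟶ B) (hφα : ∀ x, φ (α x) = (α x) ^ (p ^ m)) (hφβ : ∀ x, φ (β x) = β x) :
    Function.Injective φ := by
  obtain ⟨e, he⟩ := pushout_frob_aux hpo p m fr g hfr hfg hgf hι φ hφα hφβ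
  intro x y hxy
  rw [he, he] at hxy
  have := iterateFrobenius_inj B p m (by simpa [iterateFrobenius_def] using hxy)
  exact e.injective this

theorem appLE_congr_hom {X Y : Scheme.{u}} {g₁ g₂ : X ⟶ Y} (h : g₁ = g₂) (U : Y.Opens)
    (V : X.Opens) (e1 : V ≤ g₁ ⁻¹ᵁ U) (e2 : V ≤ g₂ ⁻¹ᵁ U) :
    g₁.appLE U V e1 = g₂.appLE U V e2 := by
  subst h
  rfl

variable {X Y : Scheme.{u}} [IsIntegral Y] {R₀ R : CommRingCat.{u}}
  (f : X ⟶ Spec R₀) (h : Y ⟶ Spec R) (ι : R₀ ⟶ R) (π : Y ⟶ X)

theorem relFrob_generic (hπ : IsPullback π h f (Spec.map ι))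
    (p m : ℕ) (fr g : R ⟶ R) (hfr : ∀ x, fr x = x ^ (p ^ m))
    (hfg : fr ≫ g = 𝟙 R) (hgf : g ≫ fr = 𝟙 R) (hR₀ : ∀ x : R₀, x ^ (p ^ m) = x)
    (FX : X ⟶ X) (hle : ∀ U : X.Opens, U ≤ FX ⁻¹ᵁ U)
    (hFapp : ∀ (U : X.Opens) (s : Γ(X, U)), (FX.appLE U U (hle U)).hom s = s ^ (p ^ m))
    (F : Y ⟶ Y) (hF : F ≫ π = π ≫ FX) (hFh : F ≫ h = h)
    [ExpChar (Y.residueField (genericPoint Y)) p] :
    F (genericPoint Y) = genericPoint Y ∧
      F.residueDegree (genericPoint Y) = fdeg p (Y.residueField (genericPoint Y)) m := by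
  haveI : IsAffineHom π :=
    MorphismProperty.of_isPullback hπ.flip (inferInstance : IsAffineHom (Spec.map ι))
  obtain ⟨U, hU, hηU, -⟩ := exists_isAffineOpen_mem_and_subset (U := (⊤ : X.Opens))
    (x := π (genericPoint Y)) trivial
  let V : Y.Opens := π ⁻¹ᵁ U
  have hV : IsAffineOpen V := hU.preimage π
  have hηV : genericPoint Y ∈ V := hηU
  have hUY : V = π ⁻¹ᵁ U ⊓ h ⁻¹ᵁ ⊤ := by simp [V]
  have hiso := isIso_pushoutSection_of_isAffineOpen hπ (US := ⊤) (UT := ⊤) (UX := U) le_top le_top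
    hUY (isAffineOpen_top _) (isAffineOpen_top _) hU
  have hpo := (isIso_pushoutSection_iff hπ le_top le_top hUY).mp hiso
  have hVle : V ≤ F ⁻¹ᵁ V := by
    intro y hy
    change π (F y) ∈ U
    have h1 : π (F y) = FX (π y) := by
      have := congrArg (fun t : Y ⟶ X => t y) hF
      simpa using this
    rw [h1]
    exact hle U hy
  haveI : Nonempty V := ⟨⟨genericPoint Y, hηV⟩⟩
  letI algL : Algebra Γ(Y, V) (Y.residueField (genericPoint Y)) :=
    (Y.evaluation V (genericPoint Y) hηV).hom.toAlgebra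
  haveI hfrac : IsFractionRing Γ(Y, V) (Y.residueField (genericPoint Y)) :=
    isFractionRing_residueField V hV hηV
  haveI : ExpChar Γ(Y, V) p :=
    (algebraMap Γ(Y, V) (Y.residueField (genericPoint Y))).expChar
      (IsFractionRing.injective Γ(Y, V) (Y.residueField (genericPoint Y))) p
  let e := Scheme.ΓSpecIso R
  let fr' : Γ(Spec R, ⊤) ⟶ Γ(Spec R, ⊤) := e.hom ≫ fr ≫ e.inv
  let g' : Γ(Spec R, ⊤) ⟶ Γ(Spec R, ⊤) := e.hom ≫ g ≫ e.inv
  have hfr' : ∀ x, fr' x = x ^ (p ^ m) := by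
    intro x
    simp only [fr', CommRingCat.comp_apply]
    rw [hfr, ← map_pow]
    exact e.hom_inv_id_apply _
  have hfg' : fr' ≫ g' = 𝟙 _ := by
    simp only [fr', g', Category.assoc, Iso.inv_hom_id_assoc]
    rw [reassoc_of% hfg, Iso.hom_inv_id]
  have hgf' : g' ≫ fr' = 𝟙 _ := by
    simp only [fr', g', Category.assoc, Iso.inv_hom_id_assoc]
    rw [reassoc_of% hgf, Iso.hom_inv_id]
  have hR₀' : ∀ x : Γ(Spec R₀, ⊤), x ^ (p ^ m) = x := by
    intro x
    have h1 := hR₀ ((Scheme.ΓSpecIso R₀).hom x)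
    rw [← map_pow] at h1
    have h2 := congrArg (Scheme.ΓSpecIso R₀).inv h1
    rwa [Iso.hom_inv_id_apply, Iso.hom_inv_id_apply] at h2
  have hι' : ∀ x, fr' ((Spec.map ι).appLE ⊤ ⊤ le_top x) = (Spec.map ι).appLE ⊤ ⊤ le_top x := by
    intro x
    rw [hfr', ← map_pow, hR₀']
  let φ := F.appLE V V hVle
  have hφα : ∀ x, φ (π.appLE U V (by simp [V]) x) = (π.appLE U V (by simp [V]) x) ^ (p ^ m) := by
    intro x
    have h1 : π.appLE U V (by simp [V]) ≫ F.appLE V V hVle =
        FX.appLE U U (hle U) ≫ π.appLE U V (by simp [V]) := by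
      rw [Scheme.Hom.appLE_comp_appLE, Scheme.Hom.appLE_comp_appLE]
      exact appLE_congr_hom hF _ _ _ _
    have h2 := congrArg (fun t => t.hom x) h1
    simp only [CommRingCat.hom_comp, RingHom.comp_apply] at h2
    rw [hFapp, map_pow] at h2
    exact h2
  have hφβ : ∀ x, φ (h.appLE ⊤ V (by simp) x) = h.appLE ⊤ V (by simp) x := by
    intro x
    have h1 : h.appLE ⊤ V (by simp) ≫ F.appLE V V hVle = h.appLE ⊤ V (by simp) := by
      rw [Scheme.Hom.appLE_comp_appLE]
      exact appLE_congr_hom hFh _ _ _ _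
    have h2 := congrArg (fun t => t.hom x) h1
    simpa using h2
  have hinj : Function.Injective φ :=
    pushout_frob_injective hpo p m fr' g' hfr' hfg' hgf' hι' φ hφα hφβ
  have hFη : F (genericPoint Y) = genericPoint Y :=
    map_genericPoint_of_injective F V hV hηV hVle hinj
  refine ⟨hFη, ?_⟩
  obtain ⟨ψ, hψ1, hψ2⟩ := residueFieldMap_eval F (genericPoint Y) hFη V hηV hVle
  rw [← hψ1]
  exact (pushout_frob hpo p m fr' g' hfr' hfg' hgf' hι' φ hφα hφβ
    (Y.residueField (genericPoint Y)) ψ hψ2).2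

end Geo

end Groth.Agent.Lead.FrobDeg
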