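import Mathlib
import Groth.Prelude.Def_RegImm
import Groth.Agent.Lib.Helper2.Synt.Smooth

set_option backward.isDefEq.respectTransparency.types false
set_option synthInstance.maxHeartbeats 400000
set_option autoImplicit false
universe u
open CategoryTheory AlgebraicGeometry TensorProduct

namespace Groth.Agent.Lead.SyntSm

theorem isSyntomic_of_smooth (R S : Type u) [CommRing R] [CommRing S] [Algebra R S]
    [Algebra.Smooth R S] : _root_.Synt.IsSyntomic R S := by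
  refine ⟨inferInstance, inferInstance, fun p => ?_⟩
  exact Groth.Agent.Helper2.Synt.isLCIOver_of_smooth _ _

theorem exists_affine_pair {X S : Scheme.{u}} (f : X ⟶ S) (x : X) :
    ∃ (U : X.affineOpens) (V : S.affineOpens), U.1 ≤ f ⁻¹ᵁ V.1 ∧ x ∈ U.1 := by
  obtain ⟨_, ⟨V, hV, rfl⟩, hxV, -⟩ :=
    S.isBasis_affineOpens.exists_subset_of_mem_open (Set.mem_univ (f x)) isOpen_univ
  have hx' : x ∈ f ⁻¹ᵁ V := hxV
  obtain ⟨_, ⟨U, hU, rfl⟩, hxU, hUV⟩ :=
    X.isBasis_affineOpens.exists_subset_of_mem_open hx' (f ⁻¹ᵁ V).isOpen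
  exact ⟨⟨U, hU⟩, ⟨V, hV⟩, hUV, hxU⟩

theorem S9699_main {X S : Scheme.{u}} (f : X ⟶ S) [Smooth f] : _root_.Synt.IsSyntomicMor f := by
  intro x
  obtain ⟨U, V, hUV, hxU⟩ := exists_affine_pair f x
  refine ⟨U, V, hUV, hxU, ?_⟩
  letI := (f.appLE V.1 U.1 hUV).hom.toAlgebra
  have h : (f.appLE V.1 U.1 hUV).hom.Smooth :=
    (HasRingHomProperty.iff_appLE (P := @Smooth)).mp ‹Smooth f› V U hUV
  haveI : Algebra.Smooth Γ(S, V.1) Γ(X, U.1) := h
  exact isSyntomic_of_smooth _ _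

end Groth.Agent.Lead.SyntSm
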