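import Mathlib
import Groth.Agent.Lib.Lead.FrobDeg5

set_option autoImplicit false
set_option backward.isDefEq.respectTransparency.types false
set_option synthInstance.maxHeartbeats 400000
set_option linter.style.haveILetI false
set_option linter.unusedSectionVars false
universe u
open CategoryTheory CategoryTheory.Limits AlgebraicGeometry TopologicalSpace Opposite

namespace Groth.Agent.Lead.FrobDeg

open Groth.Agent.Lib.Helper4.DimFT3 Groth.Agent.Lib.Helper4.DimFT4

attribute [local instance] Curv2.stalkAlgebra Curv2.resAlgebra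

section FG

variable (k : Type u) [Field k] (Y : Scheme.{u}) [Y.Over (Spec (CommRingCat.of k))]
  [LocallyOfFiniteType (Y ↘ (Spec (CommRingCat.of k)))] [IsIntegral Y]

theorem essFiniteType_residueField_genericPoint :
    Algebra.EssFiniteType k (Y.residueField (genericPoint Y)) := by
  obtain ⟨V, hV, hηV, -⟩ := exists_isAffineOpen_mem_and_subset (U := (⊤ : Y.Opens))
    (x := genericPoint Y) trivial
  letI := secAlgebra k Y V
  haveI := finiteType_sections k Y hV
  letI algL : Algebra Γ(Y, V) (Y.residueField (genericPoint Y)) :=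
    (Y.evaluation V (genericPoint Y) hηV).hom.toAlgebra
  haveI hfrac : IsFractionRing Γ(Y, V) (Y.residueField (genericPoint Y)) :=
    isFractionRing_residueField V hV hηV
  haveI : IsScalarTower k Γ(Y, V) (Y.residueField (genericPoint Y)) := by
    refine IsScalarTower.of_algebraMap_eq (fun c => ?_)
    change Curv2.resMap k Y (genericPoint Y) c =
      Y.evaluation V (genericPoint Y) hηV (secMap k Y V c)
    simp only [Curv2.resMap, Curv2.stalkMap, secMap, RingHom.comp_apply, Scheme.evaluation,
      CommRingCat.comp_apply]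
    congr 1
    exact (Y.presheaf.germ_res_apply (homOfLE (le_top : V ≤ ⊤)) (genericPoint Y) hηV _).symm
  haveI : Algebra.EssFiniteType Γ(Y, V) (Y.residueField (genericPoint Y)) :=
    Algebra.EssFiniteType.of_isLocalization _ (nonZeroDivisors Γ(Y, V))
  exact Algebra.EssFiniteType.comp k Γ(Y, V) (Y.residueField (genericPoint Y))

end FG

section Weil

open WeilCoh
open Groth.Agent.Lib.Helper5.Misc.WeilGen

variable (k₀ : Type u) [Field k₀] [Finite k₀] (k : Type u) [Field k] [IsAlgClosed k] [Algebra k₀ k]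
    {X : Scheme.{u}} (f : X ⟶ Spec (CommRingCat.of k₀))
    (FX : X ⟶ X) (hle : ∀ U : X.Opens, U ≤ FX ⁻¹ᵁ U)
    (hFapp : ∀ (U : X.Opens) (s : Γ(X, U)), (FX.appLE U U (hle U)).hom s = s ^ Nat.card k₀)
    (Xb : WeilCoh.Var k) (π : Xb.obj.left ⟶ X)
    (hπ : IsPullback π Xb.obj.hom f (Spec.map (CommRingCat.ofHom (algebraMap k₀ k))))
    (F : Xb ⟶ Xb) (hF : WeilCoh.sm F ≫ π = π ≫ FX)

include hFapp hπ hF in
theorem frob_generic :
    sm F (genericPoint Xb.obj.left) = genericPoint Xb.obj.left ∧
      (sm F).residueDegree (genericPoint Xb.obj.left) =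
        (Nat.card k₀) ^ (WeilCoh.dim Xb.obj.left) := by
  obtain ⟨p, hp⟩ := CharP.exists k₀
  letI : Fintype k₀ := Fintype.ofFinite k₀
  obtain ⟨n, hpp, hcard⟩ := FiniteField.card k₀ p
  haveI : ExpChar k₀ p := ExpChar.prime hpp
  haveI : ExpChar k p := expChar_of_injective_algebraMap (algebraMap k₀ k).injective p
  haveI : PerfectRing k p := inferInstance
  have hq : Nat.card k₀ = p ^ (n : ℕ) := by
    rw [Nat.card_eq_fintype_card, hcard]
  haveI : ExpChar (Xb.obj.left.residueField (genericPoint Xb.obj.left)) p :=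
    expChar_of_injective_ringHom
      (Curv2.resMap k Xb.obj.left (genericPoint Xb.obj.left)).injective p
  let fr : CommRingCat.of k ⟶ CommRingCat.of k := CommRingCat.ofHom (iterateFrobenius k p n)
  let g : CommRingCat.of k ⟶ CommRingCat.of k :=
    CommRingCat.ofHom ((iterateFrobeniusEquiv k p n).symm : k →+* k)
  have hfr : ∀ x, fr x = x ^ (p ^ (n : ℕ)) := fun x => rfl
  have hfg : fr ≫ g = 𝟙 _ := by
    ext x
    exact (iterateFrobeniusEquiv k p n).symm_apply_apply x
  have hgf : g ≫ fr = 𝟙 _ := by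
    ext x
    exact (iterateFrobeniusEquiv k p n).apply_symm_apply x
  have hR₀ : ∀ x : CommRingCat.of k₀, x ^ (p ^ (n : ℕ)) = x := by
    intro x
    have := FiniteField.pow_card (K := k₀) x
    rwa [hcard] at this
  have hFapp' : ∀ (U : X.Opens) (s : Γ(X, U)),
      (FX.appLE U U (hle U)).hom s = s ^ (p ^ (n : ℕ)) := by
    intro U s
    rw [hFapp, hq]
  have hFh : sm F ≫ Xb.obj.hom = Xb.obj.hom := Over.w F.hom
  obtain ⟨h1, h2⟩ := relFrob_generic f Xb.obj.hom (CommRingCat.ofHom (algebraMap k₀ k)) π hπ p n fr g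
    hfr hfg hgf hR₀ FX hle hFapp' (sm F) hF hFh
  refine ⟨h1, ?_⟩
  rw [h2, hq]
  haveI hlft : LocallyOfFiniteType (Xb.obj.left ↘ Spec (CommRingCat.of k)) := by
    change LocallyOfFiniteType Xb.obj.hom
    infer_instance
  haveI := essFiniteType_residueField_genericPoint k Xb.obj.left
  obtain ⟨d, hd1, hd2⟩ := fdeg_eq_pow_trdeg (k := k)
    (L := Xb.obj.left.residueField (genericPoint Xb.obj.left)) p n
    (IntermediateField.fg_top k _)
  have hdim := S1619_main k Xb.obj.left d hd1
  have hdim' : WeilCoh.dim Xb.obj.left = d := by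
    simp [WeilCoh.dim, WeilCoh.natDim, hdim]
  rw [hd2, hdim']

end Weil

end Groth.Agent.Lead.FrobDeg
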