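import Mathlib

set_option autoImplicit false
universe u
open TensorProduct

namespace Groth.Agent.Lead.OmU

section Alg

attribute [local instance] SMulCommClass.of_commMonoid

variable {R₁ R₂ A₁ A₂ : Type u} [CommRing R₁] [CommRing R₂] [CommRing A₁] [CommRing A₂]
    [Algebra R₁ R₂] [Algebra R₁ A₁] [Algebra R₂ A₂] [Algebra A₁ A₂] [Algebra R₁ A₂]
    [IsScalarTower R₁ A₁ A₂] [IsScalarTower R₁ R₂ A₂]
    {M N' N : Type u} [AddCommGroup M] [Module A₁ M] [AddCommGroup N'] [Module A₁ N']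
    [Module A₂ N'] [IsScalarTower A₁ A₂ N'] [AddCommGroup N] [Module A₂ N]

/-- the map on sections induced by the canonical map of differentials of a commutative square
is `KaehlerDifferential.map`. -/
theorem sq_comp_eq_map
    (l' : M →ₗ[A₁] N') (cU : N' →ₗ[A₂] N)
    (κ₁ : M ≃ₗ[A₁] Ω[A₁⁄R₁]) (κ₂ : N ≃ₗ[A₂] Ω[A₂⁄R₂])
    (dM : A₁ → M) (hdM : ∀ a, κ₁ (dM a) = KaehlerDifferential.D R₁ A₁ a)
    (dN : A₂ → N) (hdN : ∀ b, κ₂ (dN b) = KaehlerDifferential.D R₂ A₂ b)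
    (hc : ∀ a, cU (l' (dM a)) = dN (algebraMap A₁ A₂ a)) (m : M) :
    κ₂ (cU (l' m)) = KaehlerDifferential.map R₁ R₂ A₁ A₂ (κ₁ m) := by
  let G₁ : M →ₗ[A₁] Ω[A₂⁄R₂] :=
    ((κ₂.toLinearMap ∘ₗ cU).restrictScalars A₁) ∘ₗ l'
  let G₂ : M →ₗ[A₁] Ω[A₂⁄R₂] := (KaehlerDifferential.map R₁ R₂ A₁ A₂) ∘ₗ κ₁.toLinearMap
  have hspan := KaehlerDifferential.span_range_derivation R₁ A₁
  have key : G₁ ∘ₗ κ₁.symm.toLinearMap = G₂ ∘ₗ κ₁.symm.toLinearMap := by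
    apply LinearMap.ext_on_range hspan
    intro a
    have h1 : κ₁.symm (KaehlerDifferential.D R₁ A₁ a) = dM a := by
      rw [LinearEquiv.symm_apply_eq, hdM]
    change κ₂ (cU (l' (κ₁.symm (KaehlerDifferential.D R₁ A₁ a)))) =
      KaehlerDifferential.map R₁ R₂ A₁ A₂ (κ₁ (κ₁.symm (KaehlerDifferential.D R₁ A₁ a)))
    rw [h1, hc, hdN, hdM, KaehlerDifferential.map_D]
  have := congrArg (fun G => G (κ₁ m)) key
  simpa [G₁, G₂] using this

/-- the comparison square. -/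
theorem sq_comparison
    (l' : M →ₗ[A₁] N') (hb : IsBaseChange A₂ l') (cU : N' →ₗ[A₂] N)
    (κ₁ : M ≃ₗ[A₁] Ω[A₁⁄R₁]) (κ₂ : N ≃ₗ[A₂] Ω[A₂⁄R₂])
    (dM : A₁ → M) (hdM : ∀ a, κ₁ (dM a) = KaehlerDifferential.D R₁ A₁ a)
    (dN : A₂ → N) (hdN : ∀ b, κ₂ (dN b) = KaehlerDifferential.D R₂ A₂ b)
    (hc : ∀ a, cU (l' (dM a)) = dN (algebraMap A₁ A₂ a)) (z : A₂ ⊗[A₁] M) :
    κ₂ (cU (hb.equiv z)) =
      (KaehlerDifferential.map R₁ R₂ A₁ A₂).liftBaseChange A₂ (κ₁.toLinearMap.baseChange A₂ z) := by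
  have hmap := sq_comp_eq_map l' cU κ₁ κ₂ dM hdM dN hdN hc
  induction z using TensorProduct.induction_on with
  | zero => simp
  | tmul b m =>
    rw [IsBaseChange.equiv_tmul, map_smul, map_smul, hmap, LinearMap.baseChange_tmul,
      LinearMap.liftBaseChange_tmul]
    rfl
  | add x y hx hy => simp only [map_add, hx, hy]

theorem sq_baseChange_bijective (κ₁ : M ≃ₗ[A₁] Ω[A₁⁄R₁]) :
    Function.Bijective (κ₁.toLinearMap.baseChange A₂) := by
  rw [LinearMap.baseChange_eq_ltensor]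
  exact (LinearEquiv.lTensor A₂ κ₁).bijective

theorem sq_injective_iff
    (l' : M →ₗ[A₁] N') (hb : IsBaseChange A₂ l') (cU : N' →ₗ[A₂] N)
    (κ₁ : M ≃ₗ[A₁] Ω[A₁⁄R₁]) (κ₂ : N ≃ₗ[A₂] Ω[A₂⁄R₂])
    (dM : A₁ → M) (hdM : ∀ a, κ₁ (dM a) = KaehlerDifferential.D R₁ A₁ a)
    (dN : A₂ → N) (hdN : ∀ b, κ₂ (dN b) = KaehlerDifferential.D R₂ A₂ b)
    (hc : ∀ a, cU (l' (dM a)) = dN (algebraMap A₁ A₂ a)) :
    Function.Injective cU ↔
      Function.Injective ((KaehlerDifferential.map R₁ R₂ A₁ A₂).liftBaseChange A₂) := by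
  have hcomp := sq_comparison l' hb cU κ₁ κ₂ dM hdM dN hdN hc
  have hbc := sq_baseChange_bijective (A₂ := A₂) κ₁
  have e1 : (fun z => κ₂ (cU (hb.equiv z))) =
      (fun z => (KaehlerDifferential.map R₁ R₂ A₁ A₂).liftBaseChange A₂
        (κ₁.toLinearMap.baseChange A₂ z)) := funext hcomp
  constructor
  · intro h
    have h1 : Function.Injective (fun z => κ₂ (cU (hb.equiv z))) :=
      κ₂.injective.comp (h.comp hb.equiv.injective)
    rw [e1] at h1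
    intro x y hxy
    obtain ⟨x, rfl⟩ := hbc.2 x
    obtain ⟨y, rfl⟩ := hbc.2 y
    exact congrArg _ (h1 hxy)
  · intro h
    have h1 : Function.Injective (fun z => (KaehlerDifferential.map R₁ R₂ A₁ A₂).liftBaseChange A₂
        (κ₁.toLinearMap.baseChange A₂ z)) := h.comp hbc.1
    rw [← e1] at h1
    intro x y hxy
    obtain ⟨x, rfl⟩ := hb.equiv.surjective x
    obtain ⟨y, rfl⟩ := hb.equiv.surjective y
    exact congrArg _ (h1 (congrArg κ₂ hxy))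

theorem sq_surjective_iff
    (l' : M →ₗ[A₁] N') (hb : IsBaseChange A₂ l') (cU : N' →ₗ[A₂] N)
    (κ₁ : M ≃ₗ[A₁] Ω[A₁⁄R₁]) (κ₂ : N ≃ₗ[A₂] Ω[A₂⁄R₂])
    (dM : A₁ → M) (hdM : ∀ a, κ₁ (dM a) = KaehlerDifferential.D R₁ A₁ a)
    (dN : A₂ → N) (hdN : ∀ b, κ₂ (dN b) = KaehlerDifferential.D R₂ A₂ b)
    (hc : ∀ a, cU (l' (dM a)) = dN (algebraMap A₁ A₂ a)) :
    Function.Surjective cU ↔
      Function.Surjective ((KaehlerDifferential.map R₁ R₂ A₁ A₂).liftBaseChange A₂) := by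
  have hcomp := sq_comparison l' hb cU κ₁ κ₂ dM hdM dN hdN hc
  have hbc := sq_baseChange_bijective (A₂ := A₂) κ₁
  constructor
  · intro h y
    obtain ⟨n, hn⟩ := κ₂.surjective y
    obtain ⟨n', rfl⟩ := h n
    obtain ⟨z, rfl⟩ := hb.equiv.surjective n'
    exact ⟨_, (hcomp z).symm.trans hn⟩
  · intro h n
    obtain ⟨w, hw⟩ := h (κ₂ n)
    obtain ⟨z, rfl⟩ := hbc.2 w
    refine ⟨hb.equiv z, κ₂.injective ?_⟩
    rw [hcomp, hw]

theorem sq_bijective_iff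
    (l' : M →ₗ[A₁] N') (hb : IsBaseChange A₂ l') (cU : N' →ₗ[A₂] N)
    (κ₁ : M ≃ₗ[A₁] Ω[A₁⁄R₁]) (κ₂ : N ≃ₗ[A₂] Ω[A₂⁄R₂])
    (dM : A₁ → M) (hdM : ∀ a, κ₁ (dM a) = KaehlerDifferential.D R₁ A₁ a)
    (dN : A₂ → N) (hdN : ∀ b, κ₂ (dN b) = KaehlerDifferential.D R₂ A₂ b)
    (hc : ∀ a, cU (l' (dM a)) = dN (algebraMap A₁ A₂ a)) :
    Function.Bijective cU ↔
      Function.Bijective ((KaehlerDifferential.map R₁ R₂ A₁ A₂).liftBaseChange A₂) :=
  and_congr (sq_injective_iff l' hb cU κ₁ κ₂ dM hdM dN hdN hc)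
    (sq_surjective_iff l' hb cU κ₁ κ₂ dM hdM dN hdN hc)

/-- for a pushout square the linearised map of differentials is bijective. -/
theorem liftBaseChange_map_bijective_of_isPushout [Algebra.IsPushout R₁ R₂ A₁ A₂] :
    Function.Bijective ((KaehlerDifferential.map R₁ R₂ A₁ A₂).liftBaseChange A₂) := by
  have : ((KaehlerDifferential.map R₁ R₂ A₁ A₂).liftBaseChange A₂) =
      (KaehlerDifferential.tensorKaehlerEquiv R₁ R₂ A₁ A₂).toLinearMap := by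
    apply TensorProduct.AlgebraTensorModule.ext
    intro b ω
    have hspan := KaehlerDifferential.span_range_derivation R₁ A₁
    have hω : ω ∈ Submodule.span A₁ (Set.range (KaehlerDifferential.D R₁ A₁)) := by
      rw [hspan]; trivial
    rw [LinearMap.liftBaseChange_tmul]
    change _ = KaehlerDifferential.tensorKaehlerEquiv R₁ R₂ A₁ A₂ (b ⊗ₜ ω)
    induction hω using Submodule.span_induction generalizing b with
    | mem x hx =>
      obtain ⟨a, rfl⟩ := hx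
      rw [KaehlerDifferential.tensorKaehlerEquiv_tmul_D, KaehlerDifferential.map_D]
    | zero => simp
    | add x y _ _ hx hy => rw [map_add, smul_add, hx, hy, tmul_add, map_add]
    | smul a x _ hx =>
      rw [map_smul, ← algebraMap_smul A₂ a, smul_smul, hx, tmul_smul,
        ← algebraMap_smul A₂ a (b ⊗ₜ[A₁] x), map_smul, ← hx, ← hx, smul_smul, mul_comm]
  rw [this]
  exact (KaehlerDifferential.tensorKaehlerEquiv R₁ R₂ A₁ A₂).bijective

end Alg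

end Groth.Agent.Lead.OmU
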