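import Mathlib
import Groth.Agent.Lib.Lead.OmU9a

set_option autoImplicit false
universe u
open TensorProduct

namespace Groth.Agent.Lead.OmU

section Alg

attribute [local instance] SMulCommClass.of_commMonoid

variable {R A B : Type u} [CommRing R] [CommRing A] [CommRing B]
    [Algebra R A] [Algebra A B] [Algebra R B] [IsScalarTower R A B]
    {M₁ M₂ N₁ N₂ N₃ : Type u} [AddCommGroup M₁] [Module A M₁]
    [AddCommGroup M₂] [Module A M₂]
    [AddCommGroup N₁] [Module A N₁] [Module B N₁] [IsScalarTower A B N₁]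
    [AddCommGroup N₂] [Module A N₂] [Module B N₂] [IsScalarTower A B N₂]
    [AddCommGroup N₃] [Module B N₃]

theorem liftBaseChange_map_eq_mapBaseChange (z : B ⊗[A] Ω[A⁄R]) :
    (KaehlerDifferential.map R R A B).liftBaseChange B z =
      KaehlerDifferential.mapBaseChange R A B z := by
  induction z using TensorProduct.induction_on with
  | zero => simp
  | tmul b ω => rw [LinearMap.liftBaseChange_tmul, KaehlerDifferential.mapBaseChange_tmul]
  | add x y hx hy => simp only [map_add, hx, hy]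

/-- the conormal sequence on an affine chart: surjectivity on the right. -/
theorem conormal_surjective (hs : Function.Surjective (algebraMap A B))
    (l₂ : M₂ →ₗ[A] N₂) (hb₂ : IsBaseChange B l₂) (cU : N₂ →ₗ[B] N₃)
    (κY : M₂ ≃ₗ[A] Ω[A⁄R]) (κX : N₃ ≃ₗ[B] Ω[B⁄R])
    (dM : A → M₂) (hdM : ∀ a, κY (dM a) = KaehlerDifferential.D R A a)
    (dN : B → N₃) (hdN : ∀ b, κX (dN b) = KaehlerDifferential.D R B b)
    (hc : ∀ a, cU (l₂ (dM a)) = dN (algebraMap A B a)) : Function.Surjective cU := by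
  rw [sq_surjective_iff (R₁ := R) (R₂ := R) l₂ hb₂ cU κY κX dM hdM dN hdN hc]
  intro y
  obtain ⟨z, hz⟩ := KaehlerDifferential.mapBaseChange_surjective R A B hs y
  exact ⟨z, (liftBaseChange_map_eq_mapBaseChange z).trans hz⟩

/-- the conormal sequence on an affine chart: exactness in the middle. -/
theorem conormal_exact (hs : Function.Surjective (algebraMap A B))
    (ι : M₁ → A) (hι : ∀ x, algebraMap A B x = 0 → ∃ m, ι m = x) (l₁ : M₁ → N₁)
    (l₂ : M₂ →ₗ[A] N₂) (hb₂ : IsBaseChange B l₂) (cU : N₂ →ₗ[B] N₃)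
    (κY : M₂ ≃ₗ[A] Ω[A⁄R]) (κX : N₃ ≃ₗ[B] Ω[B⁄R])
    (dM : A → M₂) (hdM : ∀ a, κY (dM a) = KaehlerDifferential.D R A a)
    (dN : B → N₃) (hdN : ∀ b, κX (dN b) = KaehlerDifferential.D R B b)
    (hc : ∀ a, cU (l₂ (dM a)) = dN (algebraMap A B a))
    (φU : N₁ → N₂) (hφ : ∀ m, φU (l₁ m) = l₂ (dM (ι m)))
    (n₂ : N₂) (hn₂ : cU n₂ = 0) : ∃ n₁, φU n₁ = n₂ := by
  have hcomp := sq_comparison (R₁ := R) (R₂ := R) l₂ hb₂ cU κY κX dM hdM dN hdN hc
  obtain ⟨z, rfl⟩ := hb₂.equiv.surjective n₂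
  have h1 : KaehlerDifferential.mapBaseChange R A B (κY.toLinearMap.baseChange B z) = 0 := by
    rw [← liftBaseChange_map_eq_mapBaseChange, ← hcomp, hn₂, map_zero]
  obtain ⟨y, hy⟩ := (KaehlerDifferential.exact_kerCotangentToTensor_mapBaseChange R A B hs _).mp h1
  obtain ⟨x, rfl⟩ := Ideal.toCotangent_surjective _ y
  rw [KaehlerDifferential.kerCotangentToTensor_toCotangent] at hy
  obtain ⟨m, hm⟩ := hι x.1 (RingHom.mem_ker.mp x.2)
  refine ⟨l₁ m, ?_⟩
  rw [hφ, hm]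
  have h2 : κY.toLinearMap.baseChange B ((1 : B) ⊗ₜ[A] dM x.1) = κY.toLinearMap.baseChange B z := by
    rw [LinearMap.baseChange_tmul, ← hy]
    change (1 : B) ⊗ₜ[A] κY (dM x.1) = _
    rw [hdM]
  have h3 := (sq_baseChange_bijective (R₁ := R) (A₂ := B) κY).1 h2
  rw [← h3, IsBaseChange.equiv_tmul, one_smul]

/-- the conormal sequence on an affine chart: the composite vanishes. -/
theorem conormal_comp_zero
    (ι : M₁ → A) (hι' : ∀ m, algebraMap A B (ι m) = 0)
    (l₁ : M₁ →ₗ[A] N₁) (hb₁ : IsBaseChange B l₁)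
    (l₂ : M₂ → N₂) (cU : N₂ →ₗ[B] N₃)
    (κX : N₃ ≃ₗ[B] Ω[B⁄R])
    (dM : A → M₂)
    (dN : B → N₃) (hdN : ∀ b, κX (dN b) = KaehlerDifferential.D R B b)
    (hc : ∀ a, cU (l₂ (dM a)) = dN (algebraMap A B a))
    (φU : N₁ →ₗ[B] N₂) (hφ : ∀ m, φU (l₁ m) = l₂ (dM (ι m)))
    (n₁ : N₁) : cU (φU n₁) = 0 := by
  have hd0 : dN 0 = 0 := by
    apply κX.injective
    rw [hdN, map_zero, map_zero]
  induction n₁ using hb₁.inductionOn with
  | zero => simp
  | tmul m => rw [hφ, hc, hι', hd0]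
  | smul b n hn => rw [map_smul, map_smul, hn, smul_zero]
  | add n n' hn hn' => rw [map_add, map_add, hn, hn', add_zero]

end Alg

end Groth.Agent.Lead.OmU
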