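import Mathlib
import Groth.Prelude.Def_Omega4
import Groth.Agent.Lib.Lead.OmU5

set_option autoImplicit false
universe u
open CategoryTheory CategoryTheory.Limits AlgebraicGeometry TopologicalSpace Opposite

set_option backward.isDefEq.respectTransparency.types false

namespace Groth.Agent.Lead.OmU

open OmegaSh Groth.Agent.Lead.DerU

section Comp

variable {X Y Z : Scheme.{u}} {f : X ⟶ Y} {g : Y ⟶ Z} {K : X.Modules}

/-- a derivation over `Z` which kills the functions coming from `Y` is a derivation over `Y`. -/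
noncomputable def derOfKills (D : Der (f ≫ g) K)
    (hD : ∀ (V : Y.Opens) (t : Γ(Y, V)), D.app (f ⁻¹ᵁ V) (f.app V t) = 0) : Der f K where
  d {U} := D.d (X := U)
  d_mul {U} a c := D.d_mul a c
  d_map {_ _} i s := D.d_map i s
  d_app {V} c := hD V.unop c

theorem derOfKills_app (D : Der (f ≫ g) K)
    (hD : ∀ (V : Y.Opens) (t : Γ(Y, V)), D.app (f ⁻¹ᵁ V) (f.app V t) = 0) (U : X.Opens)
    (s : Γ(X, U)) : (derOfKills D hD).app U s = D.app U s := rfl

variable (g) in
/-- a derivation over `Y` is a derivation over `Z`. -/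
noncomputable def ofComp (D : Der f K) : Der (f ≫ g) K where
  d {U} := D.d (X := U)
  d_mul {U} a c := D.d_mul a c
  d_map {_ _} i s := D.d_map i s
  d_app {W} c := by
    have h := der_app D (g ⁻¹ᵁ W.unop) (g.app W.unop c)
    have h1 : (f ≫ g).app W.unop c = f.app (g ⁻¹ᵁ W.unop) (g.app W.unop c) := by
      rw [Scheme.Hom.comp_app]; rfl
    change D.app (f ⁻¹ᵁ (g ⁻¹ᵁ W.unop)) ((f ≫ g).app W.unop c) = 0
    rw [h1]
    exact h

theorem ofComp_app (D : Der f K) (U : X.Opens) (s : Γ(X, U)) :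
    (ofComp g D).app U s = D.app U s := rfl

end Comp

section HomExt

/-- uniqueness of maps out of a universal receptacle. -/
theorem hom_ext_of_universal {W T : Scheme.{u}} {p : W ⟶ T} {Ω : W.Modules} {d : Der p Ω}
    (hd : IsUniversal d) {F : W.Modules} (a b : Ω ⟶ F)
    (H : ∀ (U : W.Opens) (s : Γ(W, U)), a.app U (d.app U s) = b.app U (d.app U s)) : a = b := by
  have hab : d.postcomp b.val = d.postcomp a.val := der_ext fun U s => (H U s).symm
  exact (hd F (d.postcomp a.val)).unique rfl hab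

theorem postcomp_eq_iff {W T : Scheme.{u}} {p : W ⟶ T} {Ω : W.Modules} (d : Der p Ω)
    {F : W.Modules} (a : Ω ⟶ F) (D : Der p F) :
    d.postcomp a.val = D ↔ ∀ (U : W.Opens) (s : Γ(W, U)), a.app U (d.app U s) = D.app U s := by
  constructor
  · intro h U s
    have := congrArg (fun D' : Der p F => D'.app U s) h
    exact this
  · intro h
    exact der_ext h

end HomExt

section Coker

variable {X Y Z : Scheme.{u}} (f : X ⟶ Y) (g : Y ⟶ Z)
    {ΩY : Y.Modules} (dY : Der g ΩY) (hY : IsUniversal dY)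
    {ΩX : X.Modules} (dX : Der (f ≫ g) ΩX) (hX : IsUniversal dX)
    (c : (Scheme.Modules.pullback f).obj ΩY ⟶ ΩX) (hc : IsDiffCompat f dY dX c)

include hc in
theorem coker_kills (V : Y.Opens) (t : Γ(Y, V)) :
    Der.app (dX.postcomp (cokernel.π c).val) (f ⁻¹ᵁ V) (f.app V t) = 0 := by
  rw [postcomp_app]
  have h1 := hc V t
  rw [← show c.app (f ⁻¹ᵁ V) (pullSect f ΩY V (dY.app V t)) = dX.app (f ⁻¹ᵁ V) (f.app V t) from h1]
  have h2 : c ≫ cokernel.π c = 0 := cokernel.condition _
  have h3 := congrArg (fun ψ => Scheme.Modules.Hom.app ψ (f ⁻¹ᵁ V)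
    (pullSect f ΩY V (dY.app V t))) h2
  exact h3

/-- the derivation into the cokernel of the canonical map. -/
noncomputable def cokerDer : Der f (cokernel c) :=
  derOfKills (dX.postcomp (cokernel.π c).val) (coker_kills f g dY dX c hc)

theorem cokerDer_app (U : X.Opens) (s : Γ(X, U)) :
    (cokerDer f g dY dX c hc).app U s = (cokernel.π c).app U (dX.app U s) := rfl

include hY hc in
theorem comp_eq_zero_of_kills {F : X.Modules} (α : ΩX ⟶ F)
    (hα : ∀ (V : Y.Opens) (t : Γ(Y, V)), α.app (f ⁻¹ᵁ V) (dX.app (f ⁻¹ᵁ V) (f.app V t)) = 0) :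
    c ≫ α = 0 := by
  apply (adj_bijective f (Ω := ΩY) (Ω' := F)).1
  apply hom_ext_of_universal hY
  intro V t
  rw [adj_app, adj_app, Scheme.Modules.Hom.comp_app, ConcreteCategory.comp_apply]
  have h1 := hc V t
  rw [show c.app (f ⁻¹ᵁ V) (pullSect f ΩY V (dY.app V t)) = dX.app (f ⁻¹ᵁ V) (f.app V t) from h1,
    hα]
  rfl

include hY hX in
/-- **the cokernel of `f^*Ω_{Y/Z} → Ω_{X/Z}` is the sheaf of differentials of `X` over `Y`** -/
theorem isUniversal_cokerDer : IsUniversal (cokerDer f g dY dX c hc) := by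
  intro F D
  obtain ⟨α, hα, hα'⟩ := hX F (ofComp g D)
  rw [postcomp_eq_iff] at hα
  have hz : c ≫ α = 0 := by
    apply comp_eq_zero_of_kills f g dY hY dX c hc
    intro V t
    rw [hα, ofComp_app]
    exact der_app D V t
  refine ⟨cokernel.desc c α hz, ?_, ?_⟩
  · refine (postcomp_eq_iff _ _ _).2 ?_
    intro U s
    rw [cokerDer_app]
    have h1 : cokernel.π c ≫ cokernel.desc c α hz = α := cokernel.π_desc _ _ _
    have h2 := congrArg (fun ψ => Scheme.Modules.Hom.app ψ U (dX.app U s)) h1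
    rw [← ofComp_app (g := g) D U s, ← hα U s]
    exact h2
  · intro β hβ0
    have hβ := (postcomp_eq_iff _ _ _).1 hβ0
    have h1 : cokernel.π c ≫ β = α := by
      apply hα'
      refine (postcomp_eq_iff _ _ _).2 ?_
      intro U s
      rw [ofComp_app, ← hβ U s, cokerDer_app]
      rfl
    rw [← cancel_epi (cokernel.π c), h1, cokernel.π_desc]

end Coker

end Groth.Agent.Lead.OmU
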