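import Mathlib
import Groth.Prelude.Def_MoreMor
import Groth.Agent.Lib.Helper2.Formal.EtaleHom

/-!
# Formally smooth morphisms of schemes (lifting sense) are affine-locally formally smooth
-/

set_option autoImplicit false

universe u

open AlgebraicGeometry CategoryTheory

namespace Groth.Agent.Lead.FSm

open Groth.Agent.Helper2.FormalLib

/-- Invariance of `EL` under isomorphisms of the right arrow. -/
theorem el_of_iso_right {T T' X Y X₁ Y₁ : Scheme.{u}} {t : T ⟶ T'} {f : X ⟶ Y} (h : EL t f)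
    (e : X₁ ≅ X) (e' : Y ≅ Y₁) : EL t (e.hom ≫ f ≫ e'.hom) := by
  intro a b w
  obtain ⟨l, h1, h2⟩ := h (a ≫ e.hom) (b ≫ e'.inv) (by
    rw [reassoc_of% w]; simp)
  refine ⟨l ≫ e.inv, ?_, ?_⟩
  · rw [reassoc_of% h1]; simp
  · simp only [Category.assoc, Iso.inv_hom_id_assoc]
    rw [reassoc_of% h2]; simp

/-- Existence of lifts in Spec form gives a formally smooth ring map. -/
theorem formallySmooth_of_el_spec {R B : Type u} [CommRing R] [CommRing B] (φ : R →+* B)
    (h : ∀ (A : Type u) [CommRing A] (I : Ideal A), I ^ 2 = ⊥ →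
      EL (Spec.map (CommRingCat.ofHom (Ideal.Quotient.mk I))) (Spec.map (CommRingCat.ofHom φ))) :
    φ.FormallySmooth := by
  letI : Algebra R B := φ.toAlgebra
  change Algebra.FormallySmooth R B
  rw [Algebra.FormallySmooth.iff_comp_surjective]
  intro C _ _ J hJ α
  obtain ⟨l, h1, h2⟩ := h C J hJ (Spec.map (CommRingCat.ofHom α.toRingHom))
    (Spec.map (CommRingCat.ofHom (algebraMap R C))) (by
      rw [← Spec.map_comp, ← Spec.map_comp]
      congr 1
      ext r
      exact (α.commutes r).symm)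
  obtain ⟨μ, rfl⟩ := Spec.map_surjective l
  have e1 : μ ≫ CommRingCat.ofHom (Ideal.Quotient.mk J) = CommRingCat.ofHom α.toRingHom :=
    Spec.map_injective (by simpa [Spec.map_comp] using h1)
  have e2 : CommRingCat.ofHom φ ≫ μ = CommRingCat.ofHom (algebraMap R C) :=
    Spec.map_injective (by simpa [Spec.map_comp] using h2)
  let m : B →ₐ[R] C := { μ.hom with commutes' := fun r => congr($(e2).hom r) }
  refine ⟨m, ?_⟩
  ext x
  exact congr($(e1).hom x)

theorem formallySmooth_of_ringEquiv {R S : Type*} [CommRing R] [CommRing S] (e : R ≃+* S) :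
    e.toRingHom.FormallySmooth :=
  RingHom.FormallySmooth.of_bijective e.bijective

theorem formallySmooth_appLE_of_resLE {X Y : Scheme.{u}} (f : X ⟶ Y) (U : X.Opens) (V : Y.Opens)
    (hUV : U ≤ f ⁻¹ᵁ V) (hf : (f.resLE V U hUV).appTop.hom.FormallySmooth) :
    (f.appLE V U hUV).hom.FormallySmooth := by
  have h0 : (f.resLE V U hUV).appTop = V.topIso.hom ≫ f.appLE V U hUV ≫ U.topIso.inv :=
    Scheme.Hom.resLE_app_top f hUV
  have : f.appLE V U hUV = V.topIso.inv ≫ (f.resLE V U hUV).appTop ≫ U.topIso.hom := by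
    rw [h0]
    simp only [Category.assoc, Iso.inv_hom_id, Category.comp_id, Iso.inv_hom_id_assoc]
  rw [this, CommRingCat.hom_comp, CommRingCat.hom_comp]
  exact ((formallySmooth_of_ringEquiv V.topIso.symm.commRingCatIsoToRingEquiv).comp hf).comp
    (formallySmooth_of_ringEquiv U.topIso.commRingCatIsoToRingEquiv)

/-- Affine-local formal smoothness of a morphism of schemes. -/
def LocFSm {X Y : Scheme.{u}} (f : X ⟶ Y) : Prop :=
  ∀ (U : X.Opens) (V : Y.Opens), IsAffineOpen U → IsAffineOpen V → ∀ hUV : U ≤ f ⁻¹ᵁ V,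
    (f.appLE V U hUV).hom.FormallySmooth

theorem locFSm_of_isFormallySmoothHom {X Y : Scheme.{u}} {f : X ⟶ Y}
    (hf : MoreMor.IsFormallySmoothHom f) : LocFSm f := by
  intro U V hU hV hUV
  apply formallySmooth_appLE_of_resLE
  apply formallySmooth_of_el_spec
  intro A _ I hI
  haveI : IsAffine U.toScheme := hU
  haveI : IsAffine V.toScheme := hV
  haveI := surjective_spec_quot I hI
  have h0 := ((isFormallySmoothHom_iff_el f).1 hf A I hI).resLE U V hUV
  have h1 := el_of_iso_right h0 U.toScheme.isoSpec.symm V.toScheme.isoSpec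
  have e : U.toScheme.isoSpec.symm.hom ≫ f.resLE V U hUV ≫ V.toScheme.isoSpec.hom =
      Spec.map (CommRingCat.ofHom (f.resLE V U hUV).appTop.hom) := by
    rw [CommRingCat.ofHom_hom, ← Scheme.isoSpec_hom_naturality]
    simp
  rwa [e] at h1

/-- The algebra form. -/
theorem formallySmooth_appLE {X Y : Scheme.{u}} {f : X ⟶ Y}
    (hf : MoreMor.IsFormallySmoothHom f) {U : X.Opens} {V : Y.Opens} (hU : IsAffineOpen U)
    (hV : IsAffineOpen V) (e : U ≤ f ⁻¹ᵁ V) :
    letI := (f.appLE V U e).hom.toAlgebra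
    Algebra.FormallySmooth Γ(Y, V) Γ(X, U) :=
  locFSm_of_isFormallySmoothHom hf U V hU hV e

end Groth.Agent.Lead.FSm
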