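import Mathlib

set_option autoImplicit false
universe u
open TensorProduct

namespace Groth.Agent.Lead.OmU

section Alg

variable {R A B : Type u} [CommRing R] [CommRing A] [CommRing B]
    [Algebra R A] [Algebra A B] [Algebra R B] [IsScalarTower R A B]
    {M N' N : Type u} [AddCommGroup M] [Module A M] [AddCommGroup N'] [Module A N'] [Module B N']
    [IsScalarTower A B N'] [AddCommGroup N] [Module B N]

/-- the map on sections induced by the canonical map of differentials is `mapBaseChange`. -/
theorem comp_eq_map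
    (l' : M →ₗ[A] N') (cU : N' →ₗ[B] N)
    (κY : M ≃ₗ[A] Ω[A⁄R]) (κX : N ≃ₗ[B] Ω[B⁄R])
    (dM : A → M) (hdM : ∀ a, κY (dM a) = KaehlerDifferential.D R A a)
    (dN : B → N) (hdN : ∀ b, κX (dN b) = KaehlerDifferential.D R B b)
    (hc : ∀ a, cU (l' (dM a)) = dN (algebraMap A B a)) (m : M) :
    κX (cU (l' m)) = KaehlerDifferential.map R R A B (κY m) := by
  let G₁ : M →ₗ[A] Ω[B⁄R] :=
    ((κX.toLinearMap ∘ₗ cU).restrictScalars A) ∘ₗ l'
  let G₂ : M →ₗ[A] Ω[B⁄R] := (KaehlerDifferential.map R R A B) ∘ₗ κY.toLinearMap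
  have hspan := KaehlerDifferential.span_range_derivation R A
  have key : G₁ ∘ₗ κY.symm.toLinearMap = G₂ ∘ₗ κY.symm.toLinearMap := by
    apply LinearMap.ext_on_range hspan
    intro a
    have h1 : κY.symm (KaehlerDifferential.D R A a) = dM a := by
      rw [LinearEquiv.symm_apply_eq, hdM]
    change κX (cU (l' (κY.symm (KaehlerDifferential.D R A a)))) =
      KaehlerDifferential.map R R A B (κY (κY.symm (KaehlerDifferential.D R A a)))
    rw [h1, hc, hdN, hdM, KaehlerDifferential.map_D]
  have := congrArg (fun G => G (κY m)) key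
  simpa [G₁, G₂] using this

theorem injective_of_formallySmooth [Algebra.FormallySmooth A B]
    (l' : M →ₗ[A] N') (hb : IsBaseChange B l') (cU : N' →ₗ[B] N)
    (κY : M ≃ₗ[A] Ω[A⁄R]) (κX : N ≃ₗ[B] Ω[B⁄R])
    (dM : A → M) (hdM : ∀ a, κY (dM a) = KaehlerDifferential.D R A a)
    (dN : B → N) (hdN : ∀ b, κX (dN b) = KaehlerDifferential.D R B b)
    (hc : ∀ a, cU (l' (dM a)) = dN (algebraMap A B a)) : Function.Injective cU := by
  have hmap := comp_eq_map l' cU κY κX dM hdM dN hdN hc
  have hinj : Function.Injective (KaehlerDifferential.mapBaseChange R A B) := by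
    have hex := Algebra.H1Cotangent.exact_δ_mapBaseChange R A B
    rw [← LinearMap.ker_eq_bot, hex.linearMap_ker_eq, LinearMap.range_eq_bot]
    ext x
    rw [Subsingleton.elim x 0, map_zero, map_zero]
  -- the comparison
  have hcomp : ∀ z : B ⊗[A] M, κX (cU (hb.equiv z)) =
      KaehlerDifferential.mapBaseChange R A B (κY.toLinearMap.baseChange B z) := by
    intro z
    induction z using TensorProduct.induction_on with
    | zero => simp
    | tmul b m =>
      rw [IsBaseChange.equiv_tmul, map_smul, map_smul, hmap, LinearMap.baseChange_tmul,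
        KaehlerDifferential.mapBaseChange_tmul]
      rfl
    | add x y hx hy => simp only [map_add, hx, hy]
  have hbc : Function.Injective (κY.toLinearMap.baseChange B) := by
    rw [LinearMap.baseChange_eq_ltensor]
    exact (LinearEquiv.lTensor B κY).injective
  intro x y hxy
  obtain ⟨x, rfl⟩ := hb.equiv.surjective x
  obtain ⟨y, rfl⟩ := hb.equiv.surjective y
  congr 1
  apply hbc
  apply hinj
  rw [← hcomp, ← hcomp, hxy]

end Alg

end Groth.Agent.Lead.OmU
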