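import Mathlib
import Groth.Prelude.Def_Omega4
import Groth.Prelude.Def_MoreMor
import Groth.Agent.Lib.Lead.OmU6
import Groth.Agent.Lib.Lead.OmU7a
import Groth.Agent.Lib.Lead.FSm1
import Groth.Agent.Lib.Lead.BCU3

set_option autoImplicit false
universe u
open CategoryTheory CategoryTheory.Limits AlgebraicGeometry TopologicalSpace Opposite

set_option backward.isDefEq.respectTransparency.types false

namespace Groth.Agent.Lead.OmU

open OmegaSh Groth.Agent.Lead.DerU Groth.Agent.Lead.BCU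

section Geo

variable {X Y S : Scheme.{u}} (g : Y ⟶ S) (f : X ⟶ Y)
    {ΩY : Y.Modules} (dY : Der g ΩY) (hY : IsUniversal dY)
    {ΩX : X.Modules} (dX : Der (f ≫ g) ΩX) (hX : IsUniversal dX)
    (c : (Scheme.Modules.pullback f).obj ΩY ⟶ ΩX) (hc : IsDiffCompat f dY dX c)
    {W : S.Opens} {V : Y.Opens} {U : X.Opens}
    (eV : V ≤ g ⁻¹ᵁ W) (eU : U ≤ f ⁻¹ᵁ V)

include hc in
theorem c_unitRes (a : Γ(Y, V)) :
    c.app U (unitRes f ΩY eU (dY.app V a)) = dX.app U (f.appLE V U eU a) := by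
  change c.app U (res _ eU (pullSect f ΩY V (dY.app V a))) = _
  rw [app_res, hc V a]
  change ΩX.presheaf.map (homOfLE eU).op (dX.app (f ⁻¹ᵁ V) (f.app V a)) = _
  rw [← der_map]
  rfl

include hc hY hX eV eU in
theorem app_injective_of_formallySmooth (hf : MoreMor.IsFormallySmoothHom f)
    (hW : IsAffineOpen W) (hV : IsAffineOpen V) (hU : IsAffineOpen U) :
    Function.Injective (c.app U) := by
  have eU' : U ≤ (f ≫ g) ⁻¹ᵁ W := fun x hx => eV (eU hx)
  letI algRA := (g.appLE W V eV).hom.toAlgebra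
  letI algAB := (f.appLE V U eU).hom.toAlgebra
  letI algRB := ((f ≫ g).appLE W U eU').hom.toAlgebra
  haveI tower : IsScalarTower Γ(S, W) Γ(Y, V) Γ(X, U) := by
    refine IsScalarTower.of_algebraMap_eq' ?_
    change ((f ≫ g).appLE W U eU').hom = (f.appLE V U eU).hom.comp (g.appLE W V eV).hom
    rw [← CommRingCat.hom_comp, Scheme.Hom.appLE_comp_appLE]
  haveI : Algebra.FormallySmooth Γ(Y, V) Γ(X, U) := FSm.formallySmooth_appLE hf hU hV eU
  haveI := isQuasicoherent_of_universal dY hY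
  letI : Module Γ(Y, V) Γ((Scheme.Modules.pullback f).obj ΩY, U) :=
    Module.compHom _ (f.appLE V U eU).hom
  haveI : IsScalarTower Γ(Y, V) Γ(X, U) Γ((Scheme.Modules.pullback f).obj ΩY, U) :=
    ⟨fun a a' n => by
      change ((f.appLE V U eU).hom a * a') • n = (f.appLE V U eU).hom a • a' • n
      exact mul_smul _ _ _⟩
  obtain ⟨l', hl', hb⟩ := isBC_unitRes f ΩY hV hU eU
  let cU : Γ((Scheme.Modules.pullback f).obj ΩY, U) →ₗ[Γ(X, U)] Γ(ΩX, U) :=
    { toFun := fun t => c.app U t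
      map_add' := fun x y => map_add _ x y
      map_smul' := fun r x => by
        rw [Scheme.Modules.Hom.app_smul]
        rfl }
  refine injective_of_formallySmooth (R := Γ(S, W)) l' hb cU
    (sectionsKaehler g dY hY hV hW eV) (sectionsKaehler (f ≫ g) dX hX hU hW eU')
    (fun a => dY.app V a) (fun a => sectionsKaehler_d g dY hY hV hW eV a)
    (fun b => dX.app U b) (fun b => sectionsKaehler_d (f ≫ g) dX hX hU hW eU' b) ?_
  intro a
  rw [hl']
  exact c_unitRes g f dY dX c hc eU a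

end Geo

section Loc

variable {X : Scheme.{u}} {K M : X.Modules} (φ : K ⟶ M)

/-- injectivity on sections can be checked on a basis of opens. -/
theorem injective_app_of_locally
    (h : ∀ (x : X) (O : X.Opens), x ∈ O → ∃ U : X.Opens, x ∈ U ∧ U ≤ O ∧
      Function.Injective (φ.app U)) (O : X.Opens) : Function.Injective (φ.app O) := by
  intro s t hst
  refine section_ext K s t fun x hx => ?_
  obtain ⟨U, hxU, hUO, hinj⟩ := h x O hx
  refine ⟨U, hUO, hxU, ?_⟩
  apply hinj
  have h1 := app_res φ hUO s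
  have h2 := app_res φ hUO t
  change φ.app U (res K hUO s) = φ.app U (res K hUO t)
  rw [h1, h2, hst]

theorem mono_of_locally_injective
    (h : ∀ (x : X) (O : X.Opens), x ∈ O → ∃ U : X.Opens, x ∈ U ∧ U ≤ O ∧
      Function.Injective (φ.app U)) : Mono φ := by
  have h' := injective_app_of_locally φ h
  apply Preadditive.mono_of_cancel_zero
  intro K' g hg
  apply Scheme.Modules.hom_ext
  intro U
  ext s
  apply h' U
  have := congrArg (fun ψ => ψ.app U s) hg
  simpa using this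

end Loc

section Main

variable {X Y S : Scheme.{u}} (g : Y ⟶ S) (f : X ⟶ Y)
    {ΩY : Y.Modules} (dY : Der g ΩY) (hY : IsUniversal dY)
    {ΩX : X.Modules} (dX : Der (f ≫ g) ΩX) (hX : IsUniversal dX)
    (c : (Scheme.Modules.pullback f).obj ΩY ⟶ ΩX) (hc : IsDiffCompat f dY dX c)

include hc hY hX in
/-- for a formally smooth `f : X ⟶ Y` over `S`, the canonical map `f^*Ω_{Y/S} ⟶ Ω_{X/S}` is a
monomorphism. -/
theorem mono_of_formallySmooth (hf : MoreMor.IsFormallySmoothHom f) : Mono c := by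
  apply mono_of_locally_injective
  intro x O hxO
  obtain ⟨_, ⟨W, hW, rfl⟩, hxW, -⟩ := S.isBasis_affineOpens.exists_subset_of_mem_open
    (Set.mem_univ (g (f x))) isOpen_univ
  obtain ⟨_, ⟨V, hV, rfl⟩, hxV, hVW⟩ := Y.isBasis_affineOpens.exists_subset_of_mem_open
    (show f x ∈ ((g ⁻¹ᵁ W : Y.Opens) : Set Y) from hxW) (g ⁻¹ᵁ W).2
  obtain ⟨_, ⟨U, hU, rfl⟩, hxU, hUV⟩ := X.isBasis_affineOpens.exists_subset_of_mem_open
    (show x ∈ ((O ⊓ f ⁻¹ᵁ V : X.Opens) : Set X) from ⟨hxO, hxV⟩) (O ⊓ f ⁻¹ᵁ V).2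
  refine ⟨U, hxU, fun y hy => (hUV hy).1, ?_⟩
  exact app_injective_of_formallySmooth g f dY hY dX hX c hc (W := W) (V := V) (U := U)
    (fun y hy => hVW hy) (fun y hy => (hUV hy).2) hf hW hV hU

end Main

end Groth.Agent.Lead.OmU
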