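import Mathlib
import Groth.Prelude.Def_Omega4
import Groth.Agent.Lib.Lead.OmU6
import Groth.Agent.Lib.Lead.OmU7b
import Groth.Agent.Lib.Lead.OmU9a
import Groth.Agent.Lib.Lead.BCU4

set_option autoImplicit false
universe u
open CategoryTheory CategoryTheory.Limits AlgebraicGeometry TopologicalSpace Opposite TensorProduct

set_option backward.isDefEq.respectTransparency.types false

namespace Groth.Agent.Lead.OmU

open OmegaSh Groth.Agent.Lead.DerU Groth.Agent.Lead.BCU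

section SqProp

attribute [local instance] SMulCommClass.of_commMonoid

variable {R₁ R₂ A₁ A₂ : Type u} [CommRing R₁] [CommRing R₂] [CommRing A₁] [CommRing A₂]

/-- a property of the linearised map of differentials `A₂ ⊗ Ω[A₁/R₁] → Ω[A₂/R₂]` attached to a
commutative square of ring maps. -/
def SqProp (P : ∀ {α β : Type u}, (α → β) → Prop)
    (α₁ : R₁ →+* A₁) (α₂ : R₂ →+* A₂) (ρ : R₁ →+* R₂) (φ : A₁ →+* A₂)
    (hsq : φ.comp α₁ = α₂.comp ρ) : Prop :=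
  letI := α₁.toAlgebra
  letI := α₂.toAlgebra
  letI := ρ.toAlgebra
  letI := φ.toAlgebra
  letI := (φ.comp α₁).toAlgebra
  haveI : IsScalarTower R₁ A₁ A₂ := IsScalarTower.of_algebraMap_eq' rfl
  haveI : IsScalarTower R₁ R₂ A₂ := IsScalarTower.of_algebraMap_eq' hsq
  P ((KaehlerDifferential.map R₁ R₂ A₁ A₂).liftBaseChange A₂)

end SqProp

section Geo

variable {X₁ S₁ X₂ S₂ : Scheme.{u}} (f₁ : X₁ ⟶ S₁) (f₂ : X₂ ⟶ S₂) (h : X₂ ⟶ X₁) (k : S₂ ⟶ S₁)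
    (hsq : h ≫ f₁ = f₂ ≫ k)
    {Ω₁ : X₁.Modules} (d₁ : Der f₁ Ω₁) (hd₁ : IsUniversal d₁)
    {Ω₂ : X₂.Modules} (d₂ : Der f₂ Ω₂) (hd₂ : IsUniversal d₂)
    (c : (Scheme.Modules.pullback h).obj Ω₁ ⟶ Ω₂) (hc : IsDiffCompat h d₁ d₂ c)
    {W₁ : S₁.Opens} {W₂ : S₂.Opens} {U₁ : X₁.Opens} {U₂ : X₂.Opens}
    (eW : W₂ ≤ k ⁻¹ᵁ W₁) (e₁ : U₁ ≤ f₁ ⁻¹ᵁ W₁) (e₂ : U₂ ≤ f₂ ⁻¹ᵁ W₂) (eU : U₂ ≤ h ⁻¹ᵁ U₁)

include hsq in
theorem sq_rings :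
    (h.appLE U₁ U₂ eU).hom.comp (f₁.appLE W₁ U₁ e₁).hom =
      (f₂.appLE W₂ U₂ e₂).hom.comp (k.appLE W₁ W₂ eW).hom := by
  rw [← CommRingCat.hom_comp, ← CommRingCat.hom_comp, Scheme.Hom.appLE_comp_appLE,
    Scheme.Hom.appLE_comp_appLE]
  have aux : ∀ (p q : X₂ ⟶ S₁) (hpq : p = q) (e : U₂ ≤ p ⁻¹ᵁ W₁) (e' : U₂ ≤ q ⁻¹ᵁ W₁),
      p.appLE W₁ U₂ e = q.appLE W₁ U₂ e' := by
    rintro p q rfl e e'
    rfl
  rw [aux _ _ hsq]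

include hc in
theorem sq_c_unitRes (a : Γ(X₁, U₁)) :
    c.app U₂ (unitRes h Ω₁ eU (d₁.app U₁ a)) = d₂.app U₂ (h.appLE U₁ U₂ eU a) := by
  change c.app U₂ (res _ eU (pullSect h Ω₁ U₁ (d₁.app U₁ a))) = _
  rw [app_res, hc U₁ a]
  change Ω₂.presheaf.map (homOfLE eU).op (d₂.app (h ⁻¹ᵁ U₁) (h.app U₁ a)) = _
  rw [← der_map]
  rfl

attribute [local instance] SMulCommClass.of_commMonoid

include hc hd₁ hd₂ in
/-- **the chart description of the canonical map of differentials of a commutative square**: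
on affine charts the map `c : h^*Ω₁ ⟶ Ω₂` is injective / surjective / bijective on sections iff
the linearised map of Kähler differentials is. -/
theorem sq_app_iff (hW₁ : IsAffineOpen W₁) (hW₂ : IsAffineOpen W₂) (hU₁ : IsAffineOpen U₁)
    (hU₂ : IsAffineOpen U₂) :
    (Function.Injective (c.app U₂) ↔
      SqProp (fun {_ _} F => Function.Injective F) (f₁.appLE W₁ U₁ e₁).hom
        (f₂.appLE W₂ U₂ e₂).hom (k.appLE W₁ W₂ eW).hom (h.appLE U₁ U₂ eU).hom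
        (sq_rings f₁ f₂ h k hsq eW e₁ e₂ eU)) ∧
    (Function.Surjective (c.app U₂) ↔
      SqProp (fun {_ _} F => Function.Surjective F) (f₁.appLE W₁ U₁ e₁).hom
        (f₂.appLE W₂ U₂ e₂).hom (k.appLE W₁ W₂ eW).hom (h.appLE U₁ U₂ eU).hom
        (sq_rings f₁ f₂ h k hsq eW e₁ e₂ eU)) ∧
    (Function.Bijective (c.app U₂) ↔
      SqProp (fun {_ _} F => Function.Bijective F) (f₁.appLE W₁ U₁ e₁).hom
        (f₂.appLE W₂ U₂ e₂).hom (k.appLE W₁ W₂ eW).hom (h.appLE U₁ U₂ eU).hom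
        (sq_rings f₁ f₂ h k hsq eW e₁ e₂ eU)) := by
  unfold SqProp
  letI alg1 := (f₁.appLE W₁ U₁ e₁).hom.toAlgebra
  letI alg2 := (f₂.appLE W₂ U₂ e₂).hom.toAlgebra
  letI algR := (k.appLE W₁ W₂ eW).hom.toAlgebra
  letI algA := (h.appLE U₁ U₂ eU).hom.toAlgebra
  letI algC := ((h.appLE U₁ U₂ eU).hom.comp (f₁.appLE W₁ U₁ e₁).hom).toAlgebra
  haveI t1 : IsScalarTower Γ(S₁, W₁) Γ(X₁, U₁) Γ(X₂, U₂) := IsScalarTower.of_algebraMap_eq' rfl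
  haveI t2 : IsScalarTower Γ(S₁, W₁) Γ(S₂, W₂) Γ(X₂, U₂) :=
    IsScalarTower.of_algebraMap_eq' (sq_rings f₁ f₂ h k hsq eW e₁ e₂ eU)
  haveI := isQuasicoherent_of_universal d₁ hd₁
  letI : Module Γ(X₁, U₁) Γ((Scheme.Modules.pullback h).obj Ω₁, U₂) :=
    Module.compHom _ (h.appLE U₁ U₂ eU).hom
  haveI : IsScalarTower Γ(X₁, U₁) Γ(X₂, U₂) Γ((Scheme.Modules.pullback h).obj Ω₁, U₂) :=
    ⟨fun a a' n => by
      change ((h.appLE U₁ U₂ eU).hom a * a') • n = (h.appLE U₁ U₂ eU).hom a • a' • n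
      exact mul_smul _ _ _⟩
  obtain ⟨l', hl', hb⟩ := isBC_unitRes h Ω₁ hU₁ hU₂ eU
  let cU : Γ((Scheme.Modules.pullback h).obj Ω₁, U₂) →ₗ[Γ(X₂, U₂)] Γ(Ω₂, U₂) :=
    { toFun := fun t => c.app U₂ t
      map_add' := fun x y => map_add _ x y
      map_smul' := fun r x => by
        rw [Scheme.Modules.Hom.app_smul]
        rfl }
  have hcc : ∀ a, cU (l' (d₁.app U₁ a)) = d₂.app U₂ (algebraMap Γ(X₁, U₁) Γ(X₂, U₂) a) := by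
    intro a
    rw [hl']
    exact sq_c_unitRes (f₁ := f₁) (f₂ := f₂) h d₁ d₂ c hc eU a
  exact ⟨sq_injective_iff (R₁ := Γ(S₁, W₁)) (R₂ := Γ(S₂, W₂)) l' hb cU
      (sectionsKaehler f₁ d₁ hd₁ hU₁ hW₁ e₁) (sectionsKaehler f₂ d₂ hd₂ hU₂ hW₂ e₂)
      (fun a => d₁.app U₁ a) (fun a => sectionsKaehler_d f₁ d₁ hd₁ hU₁ hW₁ e₁ a)
      (fun b => d₂.app U₂ b) (fun b => sectionsKaehler_d f₂ d₂ hd₂ hU₂ hW₂ e₂ b) hcc,
    sq_surjective_iff (R₁ := Γ(S₁, W₁)) (R₂ := Γ(S₂, W₂)) l' hb cU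
      (sectionsKaehler f₁ d₁ hd₁ hU₁ hW₁ e₁) (sectionsKaehler f₂ d₂ hd₂ hU₂ hW₂ e₂)
      (fun a => d₁.app U₁ a) (fun a => sectionsKaehler_d f₁ d₁ hd₁ hU₁ hW₁ e₁ a)
      (fun b => d₂.app U₂ b) (fun b => sectionsKaehler_d f₂ d₂ hd₂ hU₂ hW₂ e₂ b) hcc,
    sq_bijective_iff (R₁ := Γ(S₁, W₁)) (R₂ := Γ(S₂, W₂)) l' hb cU
      (sectionsKaehler f₁ d₁ hd₁ hU₁ hW₁ e₁) (sectionsKaehler f₂ d₂ hd₂ hU₂ hW₂ e₂)
      (fun a => d₁.app U₁ a) (fun a => sectionsKaehler_d f₁ d₁ hd₁ hU₁ hW₁ e₁ a)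
      (fun b => d₂.app U₂ b) (fun b => sectionsKaehler_d f₂ d₂ hd₂ hU₂ hW₂ e₂ b) hcc⟩

end Geo

end Groth.Agent.Lead.OmU
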