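import Mathlib
import Groth.Prelude.Def_Omega4
import Groth.Agent.Lib.Lead.OmU9b
import Groth.Agent.Lib.Lead.OmU11a
import Groth.Agent.Lib.Lead.IdM7
import Groth.Agent.Lib.Helper1.IdealModL

set_option autoImplicit false
universe u
open CategoryTheory CategoryTheory.Limits AlgebraicGeometry TopologicalSpace Opposite TensorProduct

set_option backward.isDefEq.respectTransparency.types false

namespace Groth.Agent.Lead.OmU

open OmegaSh Groth.Agent.Lead.DerU Groth.Agent.Lead.BCU Groth.Agent.Lead.IdM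

section Res

theorem res_self {Z : Scheme.{u}} (H : Z.Modules) {O : Z.Opens} (h : O ≤ O) (x : Γ(H, O)) :
    res H h x = x := by
  change H.presheaf.map (𝟙 _) x = x
  rw [H.presheaf.map_id]
  rfl

theorem unitRes_self {Y' Y : Scheme.{u}} (h : Y' ⟶ Y) (G : Y.Modules) (W : Y.Opens)
    (e : h ⁻¹ᵁ W ≤ h ⁻¹ᵁ W) (m : Γ(G, W)) :
    unitRes h G e m = pullSect h G W m :=
  res_self _ e _

end Res

section Chart

variable {X Y Z : Scheme.{u}} (f : Y ⟶ Z) (j : X ⟶ Y) [IsImmersion j] [QuasiCompact j]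
  {ΩY : Y.Modules} (dY : Der f ΩY) (hY : IsUniversal dY)
  {ΩX : X.Modules} (dX : Der (j ≫ f) ΩX) (hX : IsUniversal dX)
  (φ : (Scheme.Modules.pullback j).obj (ClSub.idealMod j.ker) ⟶ (Scheme.Modules.pullback j).obj ΩY)
  (hφ : IsConormalDiff j dY φ)
  (c : (Scheme.Modules.pullback j).obj ΩY ⟶ ΩX) (hc : IsDiffCompat j dY dX c)
  {T : Z.Opens} {W : Y.Opens} (hT : IsAffineOpen T) (hW : IsAffineOpen W) (eW : W ≤ f ⁻¹ᵁ T)
  (hWc : W ≤ j.coborderRange)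

theorem ker_appLE_eq (hW : IsAffineOpen W) :
    RingHom.ker (j.appLE W (j ⁻¹ᵁ W) le_rfl).hom = j.ker.ideal ⟨W, hW⟩ := by
  rw [Scheme.Hom.ker_apply, Scheme.Hom.appLE_eq_app]

include hY hX hφ hc hT hW eW hWc in
/-- **the conormal sequence on an affine chart**. -/
theorem conormal_chart :
    Function.Surjective (c.app (j ⁻¹ᵁ W)) ∧
    (∀ n₂, c.app (j ⁻¹ᵁ W) n₂ = 0 → ∃ n₁, φ.app (j ⁻¹ᵁ W) n₁ = n₂) ∧
    (∀ n₁, c.app (j ⁻¹ᵁ W) (φ.app (j ⁻¹ᵁ W) n₁) = 0) := by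
  have hU : IsAffineOpen (j ⁻¹ᵁ W) := isAffineOpen_preimage_of_le_coborder j hW hWc
  have hs : Function.Surjective (j.appLE W (j ⁻¹ᵁ W) le_rfl).hom :=
    app_surjective_of_le_coborder j hW hWc
  have eU' : j ⁻¹ᵁ W ≤ (j ≫ f) ⁻¹ᵁ T := fun x hx => eW hx
  letI algRA := (f.appLE T W eW).hom.toAlgebra
  letI algAB := (j.appLE W (j ⁻¹ᵁ W) le_rfl).hom.toAlgebra
  letI algRB := ((j ≫ f).appLE T (j ⁻¹ᵁ W) eU').hom.toAlgebra
  haveI tower : IsScalarTower Γ(Z, T) Γ(Y, W) Γ(X, j ⁻¹ᵁ W) := by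
    refine IsScalarTower.of_algebraMap_eq' ?_
    change ((j ≫ f).appLE T (j ⁻¹ᵁ W) eU').hom =
      (j.appLE W (j ⁻¹ᵁ W) le_rfl).hom.comp (f.appLE T W eW).hom
    rw [← CommRingCat.hom_comp, Scheme.Hom.appLE_comp_appLE]
  haveI := isQuasicoherent_of_universal dY hY
  haveI : (ClSub.idealMod j.ker).IsQuasicoherent :=
    Groth.Agent.Helper1.IdealModL.isQuasicoherent_idealMod j.ker
  letI : Module Γ(Y, W) Γ((Scheme.Modules.pullback j).obj ΩY, j ⁻¹ᵁ W) :=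
    Module.compHom _ (j.appLE W (j ⁻¹ᵁ W) le_rfl).hom
  haveI : IsScalarTower Γ(Y, W) Γ(X, j ⁻¹ᵁ W) Γ((Scheme.Modules.pullback j).obj ΩY, j ⁻¹ᵁ W) :=
    ⟨fun a a' n => by
      change ((j.appLE W (j ⁻¹ᵁ W) le_rfl).hom a * a') • n =
        (j.appLE W (j ⁻¹ᵁ W) le_rfl).hom a • a' • n
      exact mul_smul _ _ _⟩
  letI : Module Γ(Y, W) Γ((Scheme.Modules.pullback j).obj (ClSub.idealMod j.ker), j ⁻¹ᵁ W) :=
    Module.compHom _ (j.appLE W (j ⁻¹ᵁ W) le_rfl).hom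
  haveI : IsScalarTower Γ(Y, W) Γ(X, j ⁻¹ᵁ W)
      Γ((Scheme.Modules.pullback j).obj (ClSub.idealMod j.ker), j ⁻¹ᵁ W) :=
    ⟨fun a a' n => by
      change ((j.appLE W (j ⁻¹ᵁ W) le_rfl).hom a * a') • n =
        (j.appLE W (j ⁻¹ᵁ W) le_rfl).hom a • a' • n
      exact mul_smul _ _ _⟩
  obtain ⟨l₁, hl₁, hb₁⟩ := isBC_unitRes j (ClSub.idealMod j.ker) hW hU le_rfl
  obtain ⟨l₂, hl₂, hb₂⟩ := isBC_unitRes j ΩY hW hU le_rfl
  let cU : Γ((Scheme.Modules.pullback j).obj ΩY, j ⁻¹ᵁ W) →ₗ[Γ(X, j ⁻¹ᵁ W)] Γ(ΩX, j ⁻¹ᵁ W) :=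
    { toFun := fun t => c.app (j ⁻¹ᵁ W) t
      map_add' := fun x y => map_add _ x y
      map_smul' := fun r x => by
        rw [Scheme.Modules.Hom.app_smul]
        rfl }
  let φU : Γ((Scheme.Modules.pullback j).obj (ClSub.idealMod j.ker), j ⁻¹ᵁ W) →ₗ[Γ(X, j ⁻¹ᵁ W)]
      Γ((Scheme.Modules.pullback j).obj ΩY, j ⁻¹ᵁ W) :=
    { toFun := fun t => φ.app (j ⁻¹ᵁ W) t
      map_add' := fun x y => map_add _ x y
      map_smul' := fun r x => by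
        rw [Scheme.Modules.Hom.app_smul]
        rfl }
  have hcc : ∀ a, cU (l₂ (dY.app W a)) = dX.app (j ⁻¹ᵁ W) (algebraMap Γ(Y, W) Γ(X, j ⁻¹ᵁ W) a) := by
    intro a
    rw [hl₂]
    exact sq_c_unitRes (f₁ := f) (f₂ := j ≫ f) j dY dX c hc le_rfl a
  have hφφ : ∀ m, φU (l₁ m) = l₂ (dY.app W (ιL j.ker W m)) := by
    intro m
    rw [hl₁, hl₂, unitRes_self, unitRes_self]
    exact hφ W m
  have hι : ∀ x : Γ(Y, W), algebraMap Γ(Y, W) Γ(X, j ⁻¹ᵁ W) x = 0 → ∃ m, ιL j.ker W m = x := by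
    intro x hx
    have h1 : x ∈ j.ker.ideal ⟨W, hW⟩ := by
      rw [← ker_appLE_eq j hW]
      exact hx
    rw [← range_ιL j.ker ⟨W, hW⟩] at h1
    exact h1
  have hι' : ∀ m, algebraMap Γ(Y, W) Γ(X, j ⁻¹ᵁ W) (ιL j.ker W m) = 0 := by
    intro m
    have h1 : ιL j.ker W m ∈ j.ker.ideal ⟨W, hW⟩ := by
      rw [← range_ιL j.ker ⟨W, hW⟩]
      exact ⟨m, rfl⟩
    rw [← ker_appLE_eq j hW] at h1
    exact h1
  refine ⟨?_, ?_, ?_⟩
  · exact conormal_surjective (R := Γ(Z, T)) hs l₂ hb₂ cU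
      (sectionsKaehler f dY hY hW hT eW) (sectionsKaehler (j ≫ f) dX hX hU hT eU')
      (fun a => dY.app W a) (fun a => sectionsKaehler_d f dY hY hW hT eW a)
      (fun b => dX.app (j ⁻¹ᵁ W) b) (fun b => sectionsKaehler_d (j ≫ f) dX hX hU hT eU' b) hcc
  · exact conormal_exact (R := Γ(Z, T)) hs (fun m => ιL j.ker W m) hι l₁ l₂ hb₂ cU
      (sectionsKaehler f dY hY hW hT eW) (sectionsKaehler (j ≫ f) dX hX hU hT eU')
      (fun a => dY.app W a) (fun a => sectionsKaehler_d f dY hY hW hT eW a)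
      (fun b => dX.app (j ⁻¹ᵁ W) b) (fun b => sectionsKaehler_d (j ≫ f) dX hX hU hT eU' b) hcc
      φU hφφ
  · exact conormal_comp_zero (R := Γ(Z, T)) (fun m => ιL j.ker W m) hι' l₁ hb₁ l₂ cU
      (sectionsKaehler (j ≫ f) dX hX hU hT eU')
      (fun a => dY.app W a)
      (fun b => dX.app (j ⁻¹ᵁ W) b) (fun b => sectionsKaehler_d (j ≫ f) dX hX hU hT eU' b) hcc
      φU hφφ

end Chart

end Groth.Agent.Lead.OmU
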