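import Mathlib
import Groth.Prelude.Def_Omega4
import Groth.Agent.Lib.Lead.OmU11b
import Groth.Agent.Lib.Helper1.SerreCrit
import Groth.Agent.Lib.Helper1.FtLocal

set_option autoImplicit false
universe u
open CategoryTheory CategoryTheory.Limits AlgebraicGeometry TopologicalSpace Opposite TensorProduct

set_option backward.isDefEq.respectTransparency.types false

namespace Groth.Agent.Lead.OmU

open OmegaSh Groth.Agent.Lead.DerU Groth.Agent.Lead.BCU Groth.Agent.Lead.IdM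

section Crit

variable {X : Scheme.{u}}

/-- exactness criterion: local lifting of sections killed by `g`. -/
theorem exact_of_locally (S : ShortComplex X.Modules)
    (h : ∀ (U : X.Opens) (s : Γ(S.X₂, U)), S.g.app U s = 0 → ∀ x ∈ U,
      ∃ (W : X.Opens) (hW : W ≤ U), x ∈ W ∧ ∃ m : Γ(S.X₁, W), S.f.app W m = res S.X₂ hW s) :
    S.Exact := by
  rw [S.exact_iff_epi_toCycles]
  apply Groth.Agent.Helper1.SerreCrit.epi_of_locally_surjective
  intro U t x hx
  have h0 : S.g.app U (S.iCycles.app U t) = 0 := by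
    have := congrArg (fun χ => χ.app U t) S.iCycles_g
    exact this
  obtain ⟨W, hW, hxW, m, hm⟩ := h U (S.iCycles.app U t) h0 x hx
  refine ⟨W, hW, hxW, m, ?_⟩
  apply Groth.Agent.Helper1.FtLocal.app_injective_of_mono S.iCycles W
  have h1 : S.iCycles.app W (S.toCycles.app W m) = S.f.app W m := by
    have := congrArg (fun χ => χ.app W m) S.toCycles_i
    exact this
  rw [h1, hm]
  exact (app_res S.iCycles hW t).symm

theorem epi_of_locally_surjective' {M N : X.Modules} (φ : M ⟶ N)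
    (h : ∀ (U : X.Opens) (t : Γ(N, U)) (x : X), x ∈ U → ∃ (W : X.Opens) (hW : W ≤ U), x ∈ W ∧
      ∃ m : Γ(M, W), φ.app W m = res N hW t) : Epi φ :=
  Groth.Agent.Helper1.SerreCrit.epi_of_locally_surjective φ h

end Crit

section Basis

variable {X Y Z : Scheme.{u}} (f : Y ⟶ Z) (j : X ⟶ Y) [IsImmersion j]

/-- charts adapted to an immersion form a basis. -/
theorem exists_chart (x : X) (O : X.Opens) (hx : x ∈ O) :
    ∃ (T : Z.Opens) (W : Y.Opens), IsAffineOpen T ∧ IsAffineOpen W ∧ W ≤ f ⁻¹ᵁ T ∧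
      W ≤ j.coborderRange ∧ x ∈ j ⁻¹ᵁ W ∧ j ⁻¹ᵁ W ≤ O := by
  obtain ⟨O', hO', hOO'⟩ := j.isEmbedding.isInducing.isOpen_iff.mp O.2
  obtain ⟨_, ⟨T, hT, rfl⟩, hxT, -⟩ := Z.isBasis_affineOpens.exists_subset_of_mem_open
    (Set.mem_univ (f (j x))) isOpen_univ
  have hxc : j x ∈ j.coborderRange := subset_coborder ⟨x, rfl⟩
  have hxO' : j x ∈ O' := by
    have : x ∈ j ⁻¹' O' := by rw [hOO']; exact hx
    exact this
  obtain ⟨_, ⟨W, hW, rfl⟩, hxW, hWle⟩ := Y.isBasis_affineOpens.exists_subset_of_mem_open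
    (show j x ∈ ((⟨O', hO'⟩ ⊓ f ⁻¹ᵁ T ⊓ j.coborderRange : Y.Opens) : Set Y) from
      ⟨⟨hxO', hxT⟩, hxc⟩) (⟨O', hO'⟩ ⊓ f ⁻¹ᵁ T ⊓ j.coborderRange : Y.Opens).2
  refine ⟨T, W, hT, hW, fun y hy => (hWle hy).1.2, fun y hy => (hWle hy).2, hxW, ?_⟩
  intro y hy
  have h1 : j y ∈ O' := (hWle hy).1.1
  have : y ∈ j ⁻¹' O' := h1
  rw [hOO'] at this
  exact this

end Basis

section Global

theorem res_zero {Z : Scheme.{u}} (H : Z.Modules) {O₁ O₂ : Z.Opens} (h : O₂ ≤ O₁) :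
    res H h (0 : Γ(H, O₁)) = 0 :=
  map_zero (H.presheaf.map (homOfLE h).op).hom

variable {X Y Z : Scheme.{u}} (f : Y ⟶ Z) (j : X ⟶ Y) [IsImmersion j] [QuasiCompact j]
  {ΩY : Y.Modules} (dY : Der f ΩY) (hY : IsUniversal dY)
  {ΩX : X.Modules} (dX : Der (j ≫ f) ΩX) (hX : IsUniversal dX)
  (φ : (Scheme.Modules.pullback j).obj (ClSub.idealMod j.ker) ⟶ (Scheme.Modules.pullback j).obj ΩY)
  (hφ : IsConormalDiff j dY φ)
  (c : (Scheme.Modules.pullback j).obj ΩY ⟶ ΩX) (hc : IsDiffCompat j dY dX c)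

include hY hX hφ hc in
theorem conormal_comp_eq_zero : φ ≫ c = 0 := by
  apply Scheme.Modules.hom_ext
  intro O
  ext t
  change c.app O (φ.app O t) = 0
  refine section_ext ΩX _ 0 fun x hx => ?_
  obtain ⟨T, W, hT, hW, eW, hWc, hxW, hWO⟩ := exists_chart f j x O hx
  refine ⟨j ⁻¹ᵁ W, hWO, hxW, ?_⟩
  have h3 := (conormal_chart f j dY hY dX hX φ hφ c hc hT hW eW hWc).2.2
  have h1 := app_res c hWO (φ.app O t)
  have h2 := app_res φ hWO t
  change res ΩX hWO (c.app O (φ.app O t)) = res ΩX hWO 0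
  rw [← h1, ← h2, h3, res_zero]

include hY hX hφ hc in
theorem conormal_epi : Epi c := by
  apply epi_of_locally_surjective'
  intro O t x hx
  obtain ⟨T, W, hT, hW, eW, hWc, hxW, hWO⟩ := exists_chart f j x O hx
  obtain ⟨m, hm⟩ := (conormal_chart f j dY hY dX hX φ hφ c hc hT hW eW hWc).1 (res ΩX hWO t)
  exact ⟨j ⁻¹ᵁ W, hWO, hxW, m, hm⟩

include hY hX hφ hc in
theorem conormal_exact_sheaf (w : φ ≫ c = 0) : (ShortComplex.mk φ c w).Exact := by
  apply exact_of_locally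
  intro O s hs x hx
  obtain ⟨T, W, hT, hW, eW, hWc, hxW, hWO⟩ := exists_chart f j x O hx
  have h2 := (conormal_chart f j dY hY dX hX φ hφ c hc hT hW eW hWc).2.1
  have h1 : c.app (j ⁻¹ᵁ W) (res _ hWO s) = 0 := by
    rw [app_res c hWO s]
    change res ΩX hWO (c.app O s) = 0
    have : c.app O s = 0 := hs
    rw [this, res_zero]
  obtain ⟨n₁, hn₁⟩ := h2 _ h1
  exact ⟨j ⁻¹ᵁ W, hWO, hxW, n₁, hn₁⟩

include hY hX hφ hc in
theorem conormal_image_eq_kernel : imageSubobject φ = kernelSubobject c := by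
  have w := conormal_comp_eq_zero f j dY hY dX hX φ hφ c hc
  exact (ShortComplex.exact_iff_image_eq_kernel (ShortComplex.mk φ c w)).1
    (conormal_exact_sheaf f j dY hY dX hX φ hφ c hc w)

end Global

end Groth.Agent.Lead.OmU
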