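import Mathlib
import Groth.Agent.Lib.Lead.OmU11a

set_option autoImplicit false
universe u
open TensorProduct

namespace Groth.Agent.Lead.OmU

section Alg

attribute [local instance] SMulCommClass.of_commMonoid

variable {R A B : Type u} [CommRing R] [CommRing A] [CommRing B]
    [Algebra R A] [Algebra A B] [Algebra R B] [IsScalarTower R A B]
    {M₁ M₂ N₁ N₂ : Type u} [AddCommGroup M₁] [Module A M₁]
    [AddCommGroup M₂] [Module A M₂]
    [AddCommGroup N₁] [Module A N₁] [Module B N₁] [IsScalarTower A B N₁]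
    [AddCommGroup N₂] [Module A N₂] [Module B N₂] [IsScalarTower A B N₂]

/-- for a formally smooth quotient, `I/I² → B ⊗ Ω[A/R]` is injective. -/
theorem kerCotangentToTensor_injective_of_formallySmooth [Algebra.FormallySmooth R B]
    (hs : Function.Surjective (algebraMap A B)) :
    Function.Injective (KaehlerDifferential.kerCotangentToTensor R A B) := by
  let F := (IsScalarTower.toAlgHom R A B).kerSquareLift
  have hF : Function.Surjective F := by
    intro b
    obtain ⟨a, rfl⟩ := hs b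
    exact ⟨Ideal.Quotient.mk _ a, rfl⟩
  have hker : IsNilpotent (RingHom.ker (F : (A ⧸ RingHom.ker (IsScalarTower.toAlgHom R A B).toRingHom ^ 2) →+* B)) := by
    refine ⟨2, ?_⟩
    have := AlgHom.ker_kerSquareLift (IsScalarTower.toAlgHom R A B)
    change RingHom.ker F.toRingHom ^ 2 = _
    rw [this, Ideal.cotangentIdeal_square]
    rfl
  let g := Algebra.FormallySmooth.liftOfSurjective (AlgHom.id R B) F hF hker
  have hg : F.comp g = AlgHom.id R B :=
    Algebra.FormallySmooth.comp_liftOfSurjective _ _ hF hker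
  obtain ⟨l, hl⟩ :=
    (retractionKerCotangentToTensorEquivSection (R := R) hs).symm ⟨g, hg⟩
  exact Function.LeftInverse.injective (g := l) (fun x => LinearMap.congr_fun hl x)

theorem baseChange_surjective_of_surjective (hs : Function.Surjective (algebraMap A B))
    (l₁ : M₁ →ₗ[A] N₁) (hb₁ : IsBaseChange B l₁) : Function.Surjective l₁ := by
  intro n
  induction n using hb₁.inductionOn with
  | zero => exact ⟨0, map_zero _⟩
  | tmul m => exact ⟨m, rfl⟩
  | smul b n hn =>
    obtain ⟨m, rfl⟩ := hn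
    obtain ⟨a, rfl⟩ := hs b
    exact ⟨a • m, by rw [map_smul, algebraMap_smul]⟩
  | add n n' hn hn' =>
    obtain ⟨m, rfl⟩ := hn
    obtain ⟨m', rfl⟩ := hn'
    exact ⟨m + m', map_add _ _ _⟩

/-- the conormal sequence on an affine chart: injectivity on the left for a formally smooth
quotient. -/
theorem conormal_injective [Algebra.FormallySmooth R B]
    (hs : Function.Surjective (algebraMap A B))
    (ι : M₁ →ₗ[A] A) (hιinj : Function.Injective ι)
    (hι : ∀ x, algebraMap A B x = 0 → ∃ m, ι m = x) (hι' : ∀ m, algebraMap A B (ι m) = 0)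
    (l₁ : M₁ →ₗ[A] N₁) (hb₁ : IsBaseChange B l₁)
    (l₂ : M₂ →ₗ[A] N₂) (hb₂ : IsBaseChange B l₂)
    (κY : M₂ ≃ₗ[A] Ω[A⁄R])
    (dM : A → M₂) (hdM : ∀ a, κY (dM a) = KaehlerDifferential.D R A a)
    (φU : N₁ →ₗ[B] N₂) (hφ : ∀ m, φU (l₁ m) = l₂ (dM (ι m))) : Function.Injective φU := by
  rw [injective_iff_map_eq_zero]
  intro n hn
  obtain ⟨m, rfl⟩ := baseChange_surjective_of_surjective hs l₁ hb₁ n
  rw [hφ] at hn
  -- `1 ⊗ dM (ι m) = 0`
  have h1 : (1 : B) ⊗ₜ[A] dM (ι m) = 0 := by
    apply hb₂.equiv.injective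
    rw [IsBaseChange.equiv_tmul, one_smul, hn, map_zero]
  have h2 : (1 : B) ⊗ₜ[A] KaehlerDifferential.D R A (ι m) = 0 := by
    have := congrArg (κY.toLinearMap.baseChange B) h1
    rw [LinearMap.baseChange_tmul, map_zero] at this
    change (1 : B) ⊗ₜ[A] κY (dM (ι m)) = 0 at this
    rwa [hdM] at this
  have hmem : ι m ∈ RingHom.ker (algebraMap A B) := RingHom.mem_ker.mpr (hι' m)
  have h3 : KaehlerDifferential.kerCotangentToTensor R A B
      (Ideal.toCotangent _ ⟨ι m, hmem⟩) = 0 := by
    rw [KaehlerDifferential.kerCotangentToTensor_toCotangent]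
    exact h2
  have h4 : Ideal.toCotangent _ (⟨ι m, hmem⟩ : RingHom.ker (algebraMap A B)) = 0 :=
    kerCotangentToTensor_injective_of_formallySmooth (R := R) hs (h3.trans (map_zero _).symm)
  rw [Ideal.toCotangent_eq_zero, pow_two] at h4
  -- induction on membership of `I * I`
  have key : ∀ x ∈ RingHom.ker (algebraMap A B) * RingHom.ker (algebraMap A B),
      ∃ m', ι m' = x ∧ l₁ m' = 0 := by
    intro x hx
    refine Submodule.mul_induction_on hx ?_ ?_
    · intro y hy z hz
      obtain ⟨p, rfl⟩ := hι y (RingHom.mem_ker.mp hy)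
      obtain ⟨q, rfl⟩ := hι z (RingHom.mem_ker.mp hz)
      refine ⟨ι p • q, by rw [map_smul, smul_eq_mul], ?_⟩
      rw [map_smul, ← algebraMap_smul B (ι p) (l₁ q), hι', zero_smul]
    · intro x y hx hy
      obtain ⟨mx, rfl, hmx⟩ := hx
      obtain ⟨my, rfl, hmy⟩ := hy
      exact ⟨mx + my, map_add _ _ _, by rw [map_add, hmx, hmy, add_zero]⟩
  obtain ⟨m', hm', hl⟩ := key _ h4
  rw [← hιinj hm']
  exact hl

end Alg

end Groth.Agent.Lead.OmU
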