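import Mathlib
import Groth.Prelude.Def_Omega4
import Groth.Agent.Lib.Lead.DerU1
import Groth.Agent.Lib.Lead.IdM2

set_option autoImplicit false
universe u
open CategoryTheory CategoryTheory.Limits AlgebraicGeometry TopologicalSpace Opposite

set_option backward.isDefEq.respectTransparency.types false

namespace Groth.Agent.Lead.OmU

open OmegaSh Groth.Agent.Lead.DerU Groth.Agent.Lead.IdM

section Kill

variable {X Z : Scheme.{u}} (i : Z ⟶ X)

/-- the sections of the kernel ideal of a morphism are killed by the morphism. -/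
theorem app_idealSect (U : X.Opens) (s : Γ(ClSub.idealMod i.ker, U)) :
    i.app U (idealSect i.ker U s) = 0 := by
  have h1 : (i.ker.subschemeι.app U).hom (idealSect i.ker U s) = 0 :=
    (mem_range_ι_iff i.ker U _).1 ⟨s, rfl⟩
  have h2 := Scheme.Hom.congr_app i.toImage_imageι U
  have h3 : ((i.toImage ≫ i.imageι).app U).hom (idealSect i.ker U s) =
      (Z.presheaf.map (eqToHom (show (i.toImage ≫ i.imageι) ⁻¹ᵁ U =
        i ⁻¹ᵁ U by rw [i.toImage_imageι])).op).hom ((i.app U).hom (idealSect i.ker U s)) :=
    congr($h2 (idealSect i.ker U s))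
  have h5 : ((i.toImage ≫ i.imageι).app U).hom (idealSect i.ker U s) =
      (i.toImage.app (i.imageι ⁻¹ᵁ U)).hom ((i.imageι.app U).hom (idealSect i.ker U s)) := rfl
  have h4 : (i.imageι.app U).hom (idealSect i.ker U s) = 0 := h1
  rw [h5, h4, map_zero] at h3
  have hinj : Function.Injective (Z.presheaf.map (eqToHom (show (i.toImage ≫ i.imageι) ⁻¹ᵁ U =
      i ⁻¹ᵁ U by rw [i.toImage_imageι])).op).hom := by
    haveI : IsIso (Z.presheaf.map (eqToHom (show (i.toImage ≫ i.imageι) ⁻¹ᵁ U =
      i ⁻¹ᵁ U by rw [i.toImage_imageι])).op) := inferInstance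
    exact (ConcreteCategory.bijective_of_isIso (Z.presheaf.map (eqToHom (show
      (i.toImage ≫ i.imageι) ⁻¹ᵁ U = i ⁻¹ᵁ U by rw [i.toImage_imageι])).op)).1
  apply hinj
  rw [map_zero]
  exact h3.symm

end Kill

section HomMk

variable {X : Scheme.{u}}

/-- a morphism of modules from sectionwise data -/
noncomputable def homMk (M N : X.Modules) (φ : ∀ U : X.Opens, Γ(M, U) →+ Γ(N, U))
    (hsmul : ∀ U (r : Γ(X, U)) a, φ U (r • a) = r • φ U a)
    (hres : ∀ (U V : X.Opens) (h : V ≤ U) a,
      φ V (M.presheaf.map (homOfLE h).op a) = N.presheaf.map (homOfLE h).op (φ U a)) : M ⟶ N :=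
  ⟨PresheafOfModules.homMk
    { app := fun U => AddCommGrpCat.ofHom (φ U.unop)
      naturality := by
        intro U V f
        ext a
        exact hres U.unop V.unop f.unop.le a }
    (fun U r m => hsmul U.unop r m)⟩

theorem homMk_app (M N : X.Modules) (φ : ∀ U : X.Opens, Γ(M, U) →+ Γ(N, U))
    (hsmul hres) (U : X.Opens) (a : Γ(M, U)) :
    (homMk M N φ hsmul hres).app U a = φ U a := rfl

end HomMk

section Exist

variable {X Y Z : Scheme.{u}} (i : Z ⟶ X) {f : X ⟶ Y} {Ω' : X.Modules} (d : Der f Ω')

theorem idealSect_smul (I : X.IdealSheafData) (U : X.Opens) (r : Γ(X, U))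
    (s : Γ(ClSub.idealMod I, U)) : idealSect I U (r • s) = r * idealSect I U s := by
  rw [idealSect_apply, Scheme.Modules.Hom.app_smul]
  rfl

theorem idealSect_map (I : X.IdealSheafData) {U V : X.Opens} (h : V ≤ U)
    (s : Γ(ClSub.idealMod I, U)) :
    idealSect I V ((ClSub.idealMod I).presheaf.map (homOfLE h).op s) =
      X.presheaf.map (homOfLE h).op (idealSect I U s) := by
  rw [idealSect_apply, idealModι_app_map]
  rfl

/-- the value of the conormal differential on sections of the ideal. -/
noncomputable def conVal (U : X.Opens) :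
    Γ(ClSub.idealMod i.ker, U) →+
      Γ((Scheme.Modules.pushforward i).obj ((Scheme.Modules.pullback i).obj Ω'), U) :=
  ((pullSect i Ω' U).hom.comp (d.app U)).comp (idealSect i.ker U)

theorem conVal_apply (U : X.Opens) (s : Γ(ClSub.idealMod i.ker, U)) :
    conVal i d U s = pullSect i Ω' U (d.app U (idealSect i.ker U s)) := rfl

theorem conVal_smul (U : X.Opens) (r : Γ(X, U)) (s : Γ(ClSub.idealMod i.ker, U)) :
    conVal i d U (r • s) = r • conVal i d U s := by
  rw [conVal_apply, idealSect_smul, der_mul, map_add, pullSect_smul, pullSect_smul,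
    app_idealSect, zero_smul, add_zero]
  rfl

theorem conVal_map (U V : X.Opens) (h : V ≤ U) (s : Γ(ClSub.idealMod i.ker, U)) :
    conVal i d V ((ClSub.idealMod i.ker).presheaf.map (homOfLE h).op s) =
      ((Scheme.Modules.pushforward i).obj ((Scheme.Modules.pullback i).obj Ω')).presheaf.map
        (homOfLE h).op (conVal i d U s) := by
  rw [conVal_apply, idealSect_map, der_map, pullSect_map]
  rfl

/-- the adjunct of the conormal differential -/
noncomputable def conAdj :
    ClSub.idealMod i.ker ⟶
      (Scheme.Modules.pushforward i).obj ((Scheme.Modules.pullback i).obj Ω') :=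
  homMk _ _ (conVal i d) (conVal_smul i d) (conVal_map i d)

/-- **existence of the conormal differential** `C_{Z/X} ⟶ i^*Ω'` induced by a derivation. -/
theorem exists_conormalDiff :
    ∃ φ : Omega.conormal i ⟶ (Scheme.Modules.pullback i).obj Ω', IsConormalDiff i d φ := by
  obtain ⟨φ, hφ⟩ := (adj_bijective i (Ω := ClSub.idealMod i.ker)
    (Ω' := (Scheme.Modules.pullback i).obj Ω')).2 (conAdj i d)
  refine ⟨φ, fun U s => ?_⟩
  have h1 := adj_app i φ U s
  rw [hφ] at h1
  exact h1.symm

end Exist

end Groth.Agent.Lead.OmU
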