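import Mathlib
import Groth.Prelude.Def_Omega4
import Groth.Prelude.Def_MoreMor
import Groth.Agent.Lib.Lead.OmU12b
import Groth.Agent.Lib.Lead.OmU13d
import Groth.Agent.Lib.Lead.OmU14a

set_option autoImplicit false
universe u
open CategoryTheory CategoryTheory.Limits AlgebraicGeometry TopologicalSpace Opposite

set_option backward.isDefEq.respectTransparency.types false

namespace Groth.Agent.Lead.OmU

open OmegaSh Groth.Agent.Lead.DerU

theorem isFormallySmoothHom_of_eq_id {S : Scheme.{u}} (q : S ⟶ S) (hq : q = 𝟙 S) :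
    MoreMor.IsFormallySmoothHom q := by
  subst hq
  intro A _ I _ a b hab
  refine ⟨b, ?_, Category.comp_id b⟩
  rw [hab, Category.comp_id]

section Section

variable {S G : Scheme.{u}} (π : G ⟶ S) (e : S ⟶ G) (he : e ≫ π = 𝟙 S)
  [IsImmersion e] [QuasiCompact e]
  {Ω : G.Modules} (d : Der π Ω) (hd : IsUniversal d)
  (φ : (Scheme.Modules.pullback e).obj (ClSub.idealMod e.ker) ⟶ (Scheme.Modules.pullback e).obj Ω)
  (hφ : IsConormalDiff e d φ)

include he hd hφ in
/-- **the conormal sheaf of a section is the pullback of the sheaf of differentials** -/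
theorem isIso_conormalDiff_of_section : IsIso φ := by
  haveI : Mono φ := conormal_mono_of_formallySmooth π e d hd φ hφ
    (isFormallySmoothHom_of_eq_id _ he)
  haveI : QuasiSeparated (e ≫ π) := by rw [he]; infer_instance
  haveI : FormallyUnramified (e ≫ π) := by rw [he]; infer_instance
  have hX := isUniversal_dOmega (e ≫ π)
  have hz : IsZero (Omega.sheaf (e ≫ π)) :=
    (formallyUnramified_iff_isZero (dOmega (e ≫ π)) hX).1 inferInstance
  obtain ⟨c, hc, -⟩ := existsUnique_diffCompat e (b := 𝟙 S) (f := π) (f' := e ≫ π)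
    (Category.comp_id _) d (dOmega (e ≫ π)) hd
  have w : φ ≫ c = 0 := hz.eq_of_tgt _ _
  have hex := conormal_exact_sheaf π e d hd (dOmega (e ≫ π)) hX φ hφ c hc w
  haveI : Epi φ := (ShortComplex.exact_iff_epi _ (hz.eq_of_tgt _ _)).1 hex
  exact isIso_of_mono_of_epi φ

end Section

end Groth.Agent.Lead.OmU
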