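import Mathlib
import Groth.Agent.Lib.Helper1.AdjBC
import Groth.Agent.Lib.Lead.PBQc

set_option autoImplicit false
universe u
open CategoryTheory CategoryTheory.Limits AlgebraicGeometry TopologicalSpace Opposite

set_option backward.isDefEq.respectTransparency.types false

namespace Groth.Agent.Lead.QcIso

/-- a morphism of quasi-coherent modules on an affine scheme `Spec R` which is bijective on global
sections is an isomorphism. -/
theorem isIso_of_bijective_top {R : CommRingCat.{u}} {M N : (Spec R).Modules}
    [M.IsQuasicoherent] [N.IsQuasicoherent] (ψ : M ⟶ N)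
    (h : Function.Bijective (ψ.app ⊤)) : IsIso ψ := by
  have h1 : IsIso ((moduleSpecΓFunctor (R := R)).map ψ) := by
    rw [ConcreteCategory.isIso_iff_bijective]
    exact h
  have h2 : IsIso ((tilde.functor R).map ((moduleSpecΓFunctor (R := R)).map ψ)) := inferInstance
  have nat := (Scheme.Modules.fromTildeΓNatTrans (R := R)).naturality ψ
  have h3 : IsIso (M.fromTildeΓ ≫ ψ) := by
    have : M.fromTildeΓ ≫ ψ =
        (tilde.functor R).map ((moduleSpecΓFunctor (R := R)).map ψ) ≫ N.fromTildeΓ := nat.symm
    rw [this]
    have hN : IsIso N.fromTildeΓ := Scheme.Modules.isIso_fromTildeΓ_of_isQuasicoherent N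
    exact @IsIso.comp_isIso _ _ _ _ _ _ _ h2 hN
  haveI : IsIso M.fromTildeΓ := Scheme.Modules.isIso_fromTildeΓ_of_isQuasicoherent M
  exact IsIso.of_isIso_comp_left M.fromTildeΓ ψ

theorem bijective_app_of_eq {X : Scheme.{u}} {M N : X.Modules} (φ : M ⟶ N) {U V : X.Opens}
    (e : U = V) (h : Function.Bijective (φ.app V)) : Function.Bijective (φ.app U) := by
  subst e
  exact h

/-- a morphism of quasi-coherent modules which is bijective on sections over the members of an
affine open cover is an isomorphism. -/
theorem isIso_of_bijective_affine {X : Scheme.{u}} {M N : X.Modules}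
    [M.IsQuasicoherent] [N.IsQuasicoherent] (φ : M ⟶ N)
    (h : ∀ x : X, ∃ V : X.Opens, IsAffineOpen V ∧ x ∈ V ∧ Function.Bijective (φ.app V)) :
    IsIso φ := by
  apply Groth.Agent.Helper1.AdjBC.isIso_of_restrict
  intro x
  obtain ⟨V, hV, hxV, hb⟩ := h x
  refine ⟨_, hV.fromSpec, inferInstance, by rw [hV.opensRange_fromSpec]; exact hxV, ?_⟩
  haveI : (M.restrict hV.fromSpec).IsQuasicoherent := inferInstance
  haveI : (N.restrict hV.fromSpec).IsQuasicoherent := inferInstance
  apply isIso_of_bijective_top (M := M.restrict hV.fromSpec) (N := N.restrict hV.fromSpec)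
  rw [Groth.Agent.Helper1.AdjBC.restrictFunctor_map_app']
  refine bijective_app_of_eq φ ?_ hb
  exact (Scheme.Hom.image_top_eq_opensRange hV.fromSpec).trans hV.opensRange_fromSpec

end Groth.Agent.Lead.QcIso
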