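import Mathlib
import Groth.Prelude.Def_Omega4
import Groth.Agent.Lib.Lead.OmU9b
import Groth.Agent.Lib.Lead.QcIso

set_option autoImplicit false
universe u
open CategoryTheory CategoryTheory.Limits AlgebraicGeometry TopologicalSpace Opposite TensorProduct

set_option backward.isDefEq.respectTransparency.types false

namespace Groth.Agent.Lead.OmU

open OmegaSh Groth.Agent.Lead.DerU Groth.Agent.Lead.BCU

section Alg

attribute [local instance] SMulCommClass.of_commMonoid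

variable {R₁ R₂ A₁ A₂ : Type u} [CommRing R₁] [CommRing R₂] [CommRing A₁] [CommRing A₂]

theorem sqProp_bijective_of_isPushout
    (α₁ : R₁ →+* A₁) (α₂ : R₂ →+* A₂) (ρ : R₁ →+* R₂) (φ : A₁ →+* A₂)
    (hsq : φ.comp α₁ = α₂.comp ρ)
    (hpo : IsPushout (CommRingCat.ofHom ρ) (CommRingCat.ofHom α₁) (CommRingCat.ofHom α₂)
      (CommRingCat.ofHom φ)) :
    SqProp (fun {_ _} F => Function.Bijective F) α₁ α₂ ρ φ hsq := by
  unfold SqProp
  letI := α₁.toAlgebra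
  letI := α₂.toAlgebra
  letI := ρ.toAlgebra
  letI := φ.toAlgebra
  letI := (φ.comp α₁).toAlgebra
  haveI : IsScalarTower R₁ A₁ A₂ := IsScalarTower.of_algebraMap_eq' rfl
  haveI : IsScalarTower R₁ R₂ A₂ := IsScalarTower.of_algebraMap_eq' hsq
  haveI : Algebra.IsPushout R₁ R₂ A₁ A₂ := CommRingCat.isPushout_iff_isPushout.mp hpo
  exact liftBaseChange_map_bijective_of_isPushout

end Alg

section BaseChange

variable {X S X' S' : Scheme.{u}} (f : X ⟶ S) (g : S' ⟶ S) (g' : X' ⟶ X) (f' : X' ⟶ S')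
    (hsq : IsPullback g' f' f g)
    {Ω : X.Modules} (d : Der f Ω) (hd : IsUniversal d)
    {Ω' : X'.Modules} (d' : Der f' Ω') (hd' : IsUniversal d')
    (c : (Scheme.Modules.pullback g').obj Ω ⟶ Ω') (hc : IsDiffCompat g' d d' c)

include hsq hd hd' hc in
/-- **base change for differentials**: for a cartesian square, the canonical map
`g'^*Ω_{X/S} ⟶ Ω_{X'/S'}` is an isomorphism. -/
theorem isIso_of_isPullback : IsIso c := by
  haveI := isQuasicoherent_of_universal d hd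
  haveI : ((Scheme.Modules.pullback g').obj Ω).IsQuasicoherent :=
    Groth.Agent.Lead.PB.isQuasicoherent_pullback _ _
  haveI := isQuasicoherent_of_universal d' hd'
  apply Groth.Agent.Lead.QcIso.isIso_of_bijective_affine
  intro x
  obtain ⟨_, ⟨W, hW, rfl⟩, hxW, -⟩ := S.isBasis_affineOpens.exists_subset_of_mem_open
    (Set.mem_univ (g (f' x))) isOpen_univ
  obtain ⟨_, ⟨W', hW', rfl⟩, hxW', hW'W⟩ := S'.isBasis_affineOpens.exists_subset_of_mem_open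
    (show f' x ∈ ((g ⁻¹ᵁ W : S'.Opens) : Set S') from hxW) (g ⁻¹ᵁ W).2
  have hxW2 : g' x ∈ ((f ⁻¹ᵁ W : X.Opens) : Set X) := by
    change f (g' x) ∈ W
    rw [← Scheme.Hom.comp_apply, hsq.w, Scheme.Hom.comp_apply]
    exact hxW
  obtain ⟨_, ⟨U, hU, rfl⟩, hxU, hUW⟩ := X.isBasis_affineOpens.exists_subset_of_mem_open
    hxW2 (f ⁻¹ᵁ W).2
  have eW : W' ≤ g ⁻¹ᵁ W := hW'W
  have e₁ : U ≤ f ⁻¹ᵁ W := hUW
  have hU' : IsAffineOpen (g' ⁻¹ᵁ U ⊓ f' ⁻¹ᵁ W') := by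
    haveI : IsAffine (W : Scheme) := hW
    haveI : IsAffine (W' : Scheme) := hW'
    haveI : IsAffine (U : Scheme) := hU
    exact .of_isIso (Scheme.Hom.isPullback_resLE hsq eW e₁ rfl).isoPullback.hom
  have e₂ : g' ⁻¹ᵁ U ⊓ f' ⁻¹ᵁ W' ≤ f' ⁻¹ᵁ W' := inf_le_right
  have eU : g' ⁻¹ᵁ U ⊓ f' ⁻¹ᵁ W' ≤ g' ⁻¹ᵁ U := inf_le_left
  refine ⟨g' ⁻¹ᵁ U ⊓ f' ⁻¹ᵁ W', hU', ⟨hxU, hxW'⟩, ?_⟩
  refine ((sq_app_iff f f' g' g hsq.w d hd d' hd' c hc eW e₁ e₂ eU hW hW' hU hU').2.2).2 ?_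
  apply sqProp_bijective_of_isPushout
  have hpo := (isIso_pushoutSection_iff hsq eW e₁ rfl).mp
    (isIso_pushoutSection_of_isAffineOpen hsq eW e₁ rfl hW hW' hU)
  exact hpo.flip

end BaseChange

end Groth.Agent.Lead.OmU
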