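import Mathlib
import Groth.Prelude.Def_Omega4
import Groth.Agent.Lib.Lead.OmU9c
import Groth.Agent.Lib.Lead.OmU14b

set_option autoImplicit false
universe u
open CategoryTheory CategoryTheory.Limits AlgebraicGeometry TopologicalSpace Opposite

set_option backward.isDefEq.respectTransparency.types false

namespace Groth.Agent.Lead.OmU

open OmegaSh Groth.Agent.Lead.DerU

section Chain

variable {R U P : Scheme.{u}} (t : R ⟶ U) [QuasiSeparated t] (e : U ⟶ R) (he : e ≫ t = 𝟙 U)
  (s' : R ⟶ U) (c p₀ p₁ : P ⟶ R)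
  (sq1 : IsPullback c p₀ t t) (sq2 : IsPullback p₁ p₀ t s')
  (τ : R ⟶ P) (hτc : τ ≫ c = 𝟙 R) (hτ₁ : τ ≫ p₁ = s' ≫ e)

include he in
theorem isImmersion_of_section : IsImmersion e := by
  haveI : IsImmersion (e ≫ t) := by rw [he]; infer_instance
  exact IsImmersion.of_comp e t

include he in
theorem quasiCompact_of_section : QuasiCompact e := by
  haveI : QuasiCompact (e ≫ t) := by rw [he]; infer_instance
  exact QuasiCompact.of_comp e t

include he sq1 sq2 hτc hτ₁ in
/-- **the sheaf of differentials of a groupoid-like datum is pulled back from the conormal sheaf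
of the unit section** -/
theorem omega_iso_pullback_conormal :
    Nonempty (Omega.sheaf t ≅ (Scheme.Modules.pullback s').obj (Omega.conormal e)) := by
  haveI := isImmersion_of_section t e he
  haveI := quasiCompact_of_section t e he
  have hd := isUniversal_dOmega t
  haveI : QuasiSeparated p₀ :=
    MorphismProperty.of_isPullback (P := @QuasiSeparated) sq1 inferInstance
  have hdP := isUniversal_dOmega p₀
  obtain ⟨c₁, hc₁, -⟩ := existsUnique_diffCompat c (b := t) (f := t) (f' := p₀)
    sq1.w.symm (dOmega t) (dOmega p₀) hd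
  obtain ⟨c₂, hc₂, -⟩ := existsUnique_diffCompat p₁ (b := s') (f := t) (f' := p₀)
    sq2.w.symm (dOmega t) (dOmega p₀) hd
  haveI : IsIso c₁ := isIso_of_isPullback t t c p₀ sq1 (dOmega t) hd (dOmega p₀) hdP c₁ hc₁
  haveI : IsIso c₂ := isIso_of_isPullback t s' p₁ p₀ sq2 (dOmega t) hd (dOmega p₀) hdP c₂ hc₂
  obtain ⟨φ, hφ⟩ := exists_conormalDiff e (dOmega t)
  haveI : IsIso φ := isIso_conormalDiff_of_section t e he (dOmega t) hd φ hφ
  refine ⟨((Scheme.Modules.pullbackId R).app (Omega.sheaf t)).symm ≪≫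
    (Scheme.Modules.pullbackCongr hτc.symm).app (Omega.sheaf t) ≪≫
    ((Scheme.Modules.pullbackComp τ c).app (Omega.sheaf t)).symm ≪≫
    (Scheme.Modules.pullback τ).mapIso (asIso c₁ ≪≫ (asIso c₂).symm) ≪≫
    (Scheme.Modules.pullbackComp τ p₁).app (Omega.sheaf t) ≪≫
    (Scheme.Modules.pullbackCongr hτ₁).app (Omega.sheaf t) ≪≫
    ((Scheme.Modules.pullbackComp s' e).app (Omega.sheaf t)).symm ≪≫
    (Scheme.Modules.pullback s').mapIso (asIso φ).symm⟩

end Chain

end Groth.Agent.Lead.OmU
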