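import Mathlib
import Groth.Prelude.Def_Grpd
import Groth.Prelude.Def_Omega2
import Groth.Agent.Lib.Lead.OmU14c

set_option autoImplicit false
universe u
open CategoryTheory CategoryTheory.Limits AlgebraicGeometry

namespace Groth.Agent.Lead.GrpdOmega

variable {S : Scheme.{u}} (G : Grpd.GroupoidScheme S)

theorem lift_congr {T : Scheme.{u}} {α α' β β' : T ⟶ G.R} (hα : α = α') (hβ : β = β')
    (h : α ≫ G.s = β ≫ G.t) (h' : α' ≫ G.s = β' ≫ G.t) :
    pullback.lift α β h = pullback.lift α' β' h' := by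
  subst hα hβ; rfl

/-- left cancellation in a groupoid scheme: `α⁻¹ ∘ (α ∘ β) = β`. -/
theorem inv_comp_comp {T : Scheme.{u}} (b β : T ⟶ G.R) (h : b ≫ G.s = β ≫ G.t)
    (h1 : (b ≫ G.i) ≫ G.s = (pullback.lift b β h ≫ G.c) ≫ G.t) :
    pullback.lift (b ≫ G.i) (pullback.lift b β h ≫ G.c) h1 ≫ G.c = β := by
  have hib : (b ≫ G.i) ≫ G.s = b ≫ G.t := by rw [Category.assoc, G.i_s]
  rw [← G.assoc (b ≫ G.i) b β hib h]
  have h2 := G.i_comp b
  have h3 : pullback.lift (pullback.lift (b ≫ G.i) b hib ≫ G.c) β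
      ((G.comp_s (b ≫ G.i) b hib).trans h) =
      pullback.lift (β ≫ G.t ≫ G.e) β
        (by rw [Category.assoc, Category.assoc, G.e_s, Category.comp_id]) := by
    apply lift_congr
    · rw [h2, ← Category.assoc, h, Category.assoc]
    · rfl
  rw [h3, G.e_comp]

/-- `α ∘ (α⁻¹ ∘ γ) = γ`. -/
theorem comp_inv_comp {T : Scheme.{u}} (b a : T ⟶ G.R) (h1 : (b ≫ G.i) ≫ G.s = a ≫ G.t)
    (h2 : b ≫ G.s = (pullback.lift (b ≫ G.i) a h1 ≫ G.c) ≫ G.t) :
    pullback.lift b (pullback.lift (b ≫ G.i) a h1 ≫ G.c) h2 ≫ G.c = a := by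
  have hbi : b ≫ G.s = (b ≫ G.i) ≫ G.t := by rw [Category.assoc, G.i_t]
  rw [← G.assoc b (b ≫ G.i) a hbi h1]
  have h3 : pullback.lift (pullback.lift b (b ≫ G.i) hbi ≫ G.c) a
      ((G.comp_s b (b ≫ G.i) hbi).trans h1) =
      pullback.lift (a ≫ G.t ≫ G.e) a
        (by rw [Category.assoc, Category.assoc, G.e_s, Category.comp_id]) := by
    apply lift_congr
    · rw [G.comp_i b, ← Category.assoc, ← Category.assoc, ← h1, Category.assoc b G.i G.s, G.i_s]
    · rfl
  rw [h3, G.e_comp]

/-- the square expressing that `(α, β) ↦ (α ∘ β, α)` is an isomorphism onto `R ×_{t,U,t} R`. -/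
theorem isPullback_c_fst : IsPullback G.c (pullback.fst G.s G.t) G.t G.t where
  w := by
    have h := G.comp_t (pullback.fst G.s G.t) (pullback.snd G.s G.t) pullback.condition
    have h1 : pullback.lift (pullback.fst G.s G.t) (pullback.snd G.s G.t) pullback.condition =
        𝟙 _ := by
      apply pullback.hom_ext <;> simp
    rwa [h1, Category.id_comp] at h
  isLimit' := by
    have hh1 : ∀ s : PullbackCone G.t G.t, (s.snd ≫ G.i) ≫ G.s = s.fst ≫ G.t := fun s => by
      rw [Category.assoc, G.i_s, s.condition]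
    have hh2 : ∀ s : PullbackCone G.t G.t,
        s.snd ≫ G.s = (pullback.lift (s.snd ≫ G.i) s.fst (hh1 s) ≫ G.c) ≫ G.t := fun s => by
      rw [G.comp_t, Category.assoc, G.i_t]
    refine Nonempty.intro <| PullbackCone.IsLimit.mk _
      (fun s => pullback.lift s.snd (pullback.lift (s.snd ≫ G.i) s.fst (hh1 s) ≫ G.c) (hh2 s))
      (fun s => comp_inv_comp G s.snd s.fst (hh1 s) (hh2 s))
      (fun s => pullback.lift_fst _ _ _) ?_
    intro s m hm₁ hm₂
    apply pullback.hom_ext
    · rw [pullback.lift_fst, hm₂]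
    · rw [pullback.lift_snd]
      have hc : s.snd ≫ G.s = (m ≫ pullback.snd G.s G.t) ≫ G.t := by
        rw [← hm₂, Category.assoc, Category.assoc, pullback.condition]
      have hm : m = pullback.lift s.snd (m ≫ pullback.snd G.s G.t) hc := by
        apply pullback.hom_ext
        · rw [pullback.lift_fst, hm₂]
        · rw [pullback.lift_snd]
      have hfst : s.fst = pullback.lift s.snd (m ≫ pullback.snd G.s G.t) hc ≫ G.c := by
        rw [← hm, hm₁]
      have key := inv_comp_comp G s.snd (m ≫ pullback.snd G.s G.t) hc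
        (by rw [← hfst]; exact hh1 s)
      rw [← key]
      congr 1
      exact lift_congr G rfl hfst.symm _ _


open Groth.Agent.Lead.OmU in
/-- **the sheaf of differentials of the target map of a groupoid scheme is the pullback along the
source map of the conormal sheaf of the identity** -/
theorem omega_iso [QuasiSeparated G.t] :
    Nonempty (Omega.sheaf G.t ≅ (Scheme.Modules.pullback G.s).obj (Omega.conormal G.e)) := by
  have hτ : 𝟙 G.R ≫ G.s = (𝟙 G.R ≫ G.s ≫ G.e) ≫ G.t := by
    rw [Category.assoc, Category.assoc, G.e_t, Category.comp_id]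
  refine omega_iso_pullback_conormal G.t G.e G.e_t G.s G.c (pullback.fst G.s G.t)
    (pullback.snd G.s G.t) (isPullback_c_fst G) (IsPullback.of_hasPullback G.s G.t).flip
    (pullback.lift (𝟙 G.R) (𝟙 G.R ≫ G.s ≫ G.e) hτ) ?_ ?_
  · exact G.comp_e (𝟙 G.R)
  · rw [pullback.lift_snd, Category.id_comp]

end Groth.Agent.Lead.GrpdOmega
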