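import Mathlib

/-!
# A uniform Krull-intersection killer (lead)
-/

set_option autoImplicit false

namespace Groth.Agent.Lead.KrullKill

variable {A M N : Type*} [CommRing A] [IsNoetherianRing A] [AddCommGroup M] [Module A M]
  [AddCommGroup N] [Module A N] [Module.Finite A M] [Module.Finite A N]

theorem exists_kill (I : Ideal A) (φ : M →ₗ[A] N)
    (h : ∀ n : ℕ, ∀ m, φ m ∈ I ^ (n + 1) • (⊤ : Submodule A N)) :
    ∃ s : A, s - 1 ∈ I ∧ ∀ m, s • φ m = 0 := by
  classical
  have h1 : ∀ m, ∃ r : I, (r : A) • φ m = φ m := by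
    intro m
    rw [← Ideal.mem_iInf_smul_pow_eq_bot_iff]
    rw [Submodule.mem_iInf]
    intro n
    rcases n with _ | n
    · simp
    · exact h n m
  choose r hr using h1
  obtain ⟨T, hT⟩ := (Module.Finite.fg_top : (⊤ : Submodule A M).FG)
  refine ⟨∏ m ∈ T, (1 - (r m : A)), ?_, ?_⟩
  · rw [← Ideal.Quotient.eq, map_prod, map_one]
    apply Finset.prod_eq_one
    intro m _
    rw [map_sub, map_one, Ideal.Quotient.eq_zero_iff_mem.2 (r m).2, sub_zero]
  · intro m
    have hm : m ∈ Submodule.span A (T : Set M) := by rw [hT]; trivial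
    induction hm using Submodule.span_induction with
    | mem y hy =>
      obtain ⟨c, hc⟩ := Finset.dvd_prod_of_mem (fun m => 1 - (r m : A)) hy
      rw [hc, mul_comm, mul_smul, sub_smul, one_smul, hr y, sub_self, smul_zero]
    | zero => rw [map_zero, smul_zero]
    | add y z _ _ hy hz => rw [map_add, smul_add, hy, hz, add_zero]
    | smul a y _ hy => rw [map_smul, smul_comm, hy, smul_zero]

end Groth.Agent.Lead.KrullKill
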