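import Mathlib

namespace Groth.Agent.Lead.CSA

open TensorProduct

section AL

variable {k : Type*} [Field k] {B : Type*} [Ring B] [Algebra k B] {ι : Type*}

/-- coordinatewise left multiplication -/
noncomputable def lmulF (u : B) : (ι →₀ B) →ₗ[k] (ι →₀ B) :=
  Finsupp.mapRange.linearMap (LinearMap.mulLeft k u)

/-- coordinatewise right multiplication -/
noncomputable def rmulF (v : B) : (ι →₀ B) →ₗ[k] (ι →₀ B) :=
  Finsupp.mapRange.linearMap (LinearMap.mulRight k v)

@[simp] theorem lmulF_apply (u : B) (y : ι →₀ B) (i : ι) : lmulF (k := k) u y i = u * y i := rfl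
@[simp] theorem rmulF_apply (v : B) (y : ι →₀ B) (i : ι) : rmulF (k := k) v y i = y i * v := rfl

theorem support_lmulF (u : B) (y : ι →₀ B) : (lmulF (k := k) u y).support ⊆ y.support := by
  intro i hi
  rw [Finsupp.mem_support_iff] at hi ⊢
  intro h
  apply hi
  rw [lmulF_apply, h, mul_zero]

theorem support_rmulF (v : B) (y : ι →₀ B) : (rmulF (k := k) v y).support ⊆ y.support := by
  intro i hi
  rw [Finsupp.mem_support_iff] at hi ⊢
  intro h
  apply hi
  rw [rmulF_apply, h, zero_mul]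

variable [IsSimpleRing B] [Algebra.IsCentral k B]

theorem exists_central_of_stable (N : Submodule k (ι →₀ B))
    (hL : ∀ u : B, ∀ y ∈ N, lmulF (k := k) u y ∈ N)
    (hR : ∀ v : B, ∀ y ∈ N, rmulF (k := k) v y ∈ N) (hN : N ≠ ⊥) :
    ∃ y ∈ N, y ≠ 0 ∧ ∀ i, y i ∈ Set.range (algebraMap k B) := by
  classical
  -- minimal support
  have hex : ∃ n : ℕ, ∃ y ∈ N, y ≠ 0 ∧ y.support.card = n := by
    obtain ⟨y, hy, hy0⟩ := Submodule.exists_mem_ne_zero_of_ne_bot hN
    exact ⟨_, y, hy, hy0, rfl⟩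
  obtain ⟨y, hyN, hy0, hycard⟩ := Nat.find_spec hex
  have hmin : ∀ y' ∈ N, y' ≠ 0 → y.support.card ≤ y'.support.card := by
    intro y' hy' hy'0
    rw [hycard]
    exact Nat.find_min' hex ⟨y', hy', hy'0, rfl⟩
  obtain ⟨i₀, hi₀⟩ : y.support.Nonempty := Finsupp.support_nonempty_iff.mpr hy0
  -- the two-sided ideal of i₀-coordinates
  let T : TwoSidedIdeal B := TwoSidedIdeal.mk'
    {c | ∃ y' ∈ N, y'.support ⊆ y.support ∧ y' i₀ = c}
    ⟨0, N.zero_mem, by simp, rfl⟩
    (by
      rintro _ _ ⟨y₁, h₁, s₁, rfl⟩ ⟨y₂, h₂, s₂, rfl⟩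
      exact ⟨y₁ + y₂, N.add_mem h₁ h₂,
        (Finsupp.support_add).trans (Finset.union_subset s₁ s₂), rfl⟩)
    (by
      rintro _ ⟨y₁, h₁, s₁, rfl⟩
      exact ⟨-y₁, N.neg_mem h₁, by rwa [Finsupp.support_neg], rfl⟩)
    (by
      rintro u _ ⟨y₁, h₁, s₁, rfl⟩
      exact ⟨lmulF (k := k) u y₁, hL u y₁ h₁, (support_lmulF u y₁).trans s₁, rfl⟩)
    (by
      rintro _ v ⟨y₁, h₁, s₁, rfl⟩
      exact ⟨rmulF (k := k) v y₁, hR v y₁ h₁, (support_rmulF v y₁).trans s₁, rfl⟩)
  have hT : (1 : B) ∈ T := by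
    apply IsSimpleRing.one_mem_of_ne_zero_mem T (Finsupp.mem_support_iff.mp hi₀)
    rw [TwoSidedIdeal.mem_mk']
    exact ⟨y, hyN, subset_rfl, rfl⟩
  rw [TwoSidedIdeal.mem_mk'] at hT
  obtain ⟨y', hy'N, hy's, hy'1⟩ := hT
  have hy'0 : y' ≠ 0 := by
    intro h
    rw [h] at hy'1
    exact zero_ne_one hy'1
  refine ⟨y', hy'N, hy'0, ?_⟩
  -- commutation
  have hcomm : ∀ z : B, lmulF (k := k) z y' - rmulF (k := k) z y' = 0 := by
    intro z
    by_contra hw
    have hwN : lmulF (k := k) z y' - rmulF (k := k) z y' ∈ N :=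
      N.sub_mem (hL z y' hy'N) (hR z y' hy'N)
    have h1 := hmin _ hwN hw
    have hsub : (lmulF (k := k) z y' - rmulF (k := k) z y').support ⊆ y.support.erase i₀ := by
      intro i hi
      rw [Finset.mem_erase]
      constructor
      · rintro rfl
        rw [Finsupp.mem_support_iff] at hi
        apply hi
        rw [Finsupp.sub_apply, lmulF_apply, rmulF_apply, hy'1, mul_one, one_mul, sub_self]
      · apply hy's
        rw [Finsupp.mem_support_iff] at hi ⊢
        intro h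
        apply hi
        rw [Finsupp.sub_apply, lmulF_apply, rmulF_apply, h, mul_zero, zero_mul, sub_self]
    have h2 := Finset.card_le_card hsub
    rw [Finset.card_erase_of_mem hi₀] at h2
    have h3 : 0 < y.support.card := Finset.card_pos.mpr ⟨i₀, hi₀⟩
    omega
  intro i
  have hc : y' i ∈ Subalgebra.center k B := by
    rw [Subalgebra.mem_center_iff]
    intro z
    have := congrArg (fun f : ι →₀ B => f i) (hcomm z)
    simp only [Finsupp.sub_apply, lmulF_apply, rmulF_apply, Finsupp.zero_apply] at this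
    exact sub_eq_zero.mp this
  rw [Algebra.IsCentral.center_eq_bot] at hc
  exact Algebra.mem_bot.mp hc

end AL

end Groth.Agent.Lead.CSA
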