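import Mathlib
import Groth.Agent.Lib.Lead.CSA1

namespace Groth.Agent.Lead.CSA

open TensorProduct

variable {k : Type*} [Field k] {B : Type*} [Ring B] [Algebra k B]

theorem equivFinsupp_lTensor_mulLeft {V : Type*} [AddCommGroup V] [Module k V] {ι : Type*}
    [DecidableEq ι] (b : Module.Basis ι k V) (u : B) (x : V ⊗[k] B) :
    TensorProduct.equivFinsuppOfBasisLeft b (LinearMap.lTensor V (LinearMap.mulLeft k u) x) =
      lmulF (k := k) u (TensorProduct.equivFinsuppOfBasisLeft b x) := by
  induction x using TensorProduct.induction_on with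
  | zero => simp
  | tmul w c =>
    ext i
    simp
  | add x y hx hy => simp only [map_add, hx, hy]

theorem equivFinsupp_lTensor_mulRight {V : Type*} [AddCommGroup V] [Module k V] {ι : Type*}
    [DecidableEq ι] (b : Module.Basis ι k V) (v : B) (x : V ⊗[k] B) :
    TensorProduct.equivFinsuppOfBasisLeft b (LinearMap.lTensor V (LinearMap.mulRight k v) x) =
      rmulF (k := k) v (TensorProduct.equivFinsuppOfBasisLeft b x) := by
  induction x using TensorProduct.induction_on with
  | zero => simp
  | tmul w c =>
    ext i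
    simp
  | add x y hx hy => simp only [map_add, hx, hy]

variable [IsSimpleRing B] [Algebra.IsCentral k B]

theorem exists_tmul_one_mem {V : Type*} [AddCommGroup V] [Module k V]
    (N : Submodule k (V ⊗[k] B))
    (hL : ∀ u : B, ∀ x ∈ N, (LinearMap.lTensor V (LinearMap.mulLeft k u)) x ∈ N)
    (hR : ∀ v : B, ∀ x ∈ N, (LinearMap.lTensor V (LinearMap.mulRight k v)) x ∈ N)
    (hN : N ≠ ⊥) : ∃ v : V, v ≠ 0 ∧ v ⊗ₜ[k] (1 : B) ∈ N := by
  classical
  let b := Module.Basis.ofVectorSpace k V
  let φ := TensorProduct.equivFinsuppOfBasisLeft (N := B) b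
  have hN' : N.map φ.toLinearMap ≠ ⊥ := by
    obtain ⟨x, hx, hx0⟩ := Submodule.exists_mem_ne_zero_of_ne_bot hN
    intro h
    have : φ x ∈ N.map φ.toLinearMap := Submodule.mem_map_of_mem hx
    rw [h, Submodule.mem_bot] at this
    exact hx0 (φ.injective (by rw [this, map_zero]))
  obtain ⟨y, hyN, hy0, hyc⟩ := exists_central_of_stable (k := k) (N.map φ.toLinearMap)
    (by
      rintro u _ ⟨x, hx, rfl⟩
      refine ⟨_, hL u x hx, ?_⟩
      exact equivFinsupp_lTensor_mulLeft b u x)
    (by
      rintro v _ ⟨x, hx, rfl⟩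
      refine ⟨_, hR v x hx, ?_⟩
      exact equivFinsupp_lTensor_mulRight b v x) hN'
  obtain ⟨x, hxN, rfl⟩ := hyN
  replace hy0 : φ x ≠ 0 := hy0
  replace hyc : ∀ i, (φ x) i ∈ Set.range (algebraMap k B) := hyc
  choose c hc using hyc
  -- the coefficient vector
  let cF : (Module.Basis.ofVectorSpaceIndex k V) →₀ k :=
    Finsupp.onFinset (φ x).support c (by
      intro i hi
      rw [Finsupp.mem_support_iff]
      intro h
      apply hi
      have := hc i
      rw [h] at this
      exact (FaithfulSMul.algebraMap_injective k B) (by rw [this, map_zero]))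
  refine ⟨b.repr.symm cF, ?_, ?_⟩
  · intro h
    apply hy0
    have hcF : cF = 0 := by
      have := congrArg b.repr h
      simpa using this
    ext i
    have h1 : c i = 0 := by
      have := congrArg (fun f => f i) hcF
      simpa [cF] using this
    rw [← hc i, h1, map_zero]
    rfl
  · have : b.repr.symm cF ⊗ₜ[k] (1 : B) = x := by
      apply φ.injective
      ext i
      rw [TensorProduct.equivFinsuppOfBasisLeft_apply_tmul_apply]
      simp only [Module.Basis.repr_symm_apply, Module.Basis.repr_linearCombination]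
      rw [← hc i, Algebra.algebraMap_eq_smul_one]
      rfl
    rw [this]
    exact hxN

end Groth.Agent.Lead.CSA
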