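import Mathlib
import Groth.Agent.Lib.Lead.CSA2

namespace Groth.Agent.Lead.CSA

open TensorProduct

variable {k : Type*} [Field k] {A : Type*} [Ring A] [Algebra k A] {B : Type*} [Ring B]
  [Algebra k B]

theorem lTensor_mulLeft_eq (u : B) (x : A ⊗[k] B) :
    LinearMap.lTensor A (LinearMap.mulLeft k u) x = ((1 : A) ⊗ₜ[k] u) * x := by
  induction x using TensorProduct.induction_on with
  | zero => simp
  | tmul a c => simp
  | add x y hx hy => simp only [map_add, hx, hy, mul_add]

theorem lTensor_mulRight_eq (v : B) (x : A ⊗[k] B) :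
    LinearMap.lTensor A (LinearMap.mulRight k v) x = x * ((1 : A) ⊗ₜ[k] v) := by
  induction x using TensorProduct.induction_on with
  | zero => simp
  | tmul a c => simp
  | add x y hx hy => simp only [map_add, hx, hy, add_mul]

/-- the `k`-submodule underlying a two-sided ideal -/
def idealSubmodule (I : TwoSidedIdeal (A ⊗[k] B)) : Submodule k (A ⊗[k] B) :=
  (TwoSidedIdeal.asIdeal I).restrictScalars k

theorem mem_idealSubmodule (I : TwoSidedIdeal (A ⊗[k] B)) (x : A ⊗[k] B) :
    x ∈ idealSubmodule I ↔ x ∈ I := by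
  unfold idealSubmodule
  rw [Submodule.restrictScalars_mem, TwoSidedIdeal.mem_asIdeal]

variable [IsSimpleRing B] [Algebra.IsCentral k B]

/-- a nonzero two-sided ideal of `A ⊗ B`, `B` central simple, contains some `a ⊗ 1` with
`a ≠ 0` -/
theorem exists_tmul_one_mem_ideal (I : TwoSidedIdeal (A ⊗[k] B)) (hI : I ≠ ⊥) :
    ∃ a : A, a ≠ 0 ∧ a ⊗ₜ[k] (1 : B) ∈ I := by
  have hN : idealSubmodule I ≠ ⊥ := by
    intro h
    apply hI
    rw [eq_bot_iff]
    intro x hx
    have : x ∈ idealSubmodule I := (mem_idealSubmodule I x).mpr hx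
    rw [h, Submodule.mem_bot] at this
    rw [this]
    exact TwoSidedIdeal.zero_mem _
  obtain ⟨a, ha0, ha⟩ := exists_tmul_one_mem (k := k) (idealSubmodule I)
    (by
      intro u x hx
      rw [mem_idealSubmodule] at hx ⊢
      rw [lTensor_mulLeft_eq]
      exact I.mul_mem_left _ _ hx)
    (by
      intro v x hx
      rw [mem_idealSubmodule] at hx ⊢
      rw [lTensor_mulRight_eq]
      exact I.mul_mem_right _ _ hx) hN
  exact ⟨a, ha0, (mem_idealSubmodule I _).mp ha⟩

theorem isSimpleRing_tensor [IsSimpleRing A] : IsSimpleRing (A ⊗[k] B) := by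
  have hinj : Function.Injective (Algebra.TensorProduct.includeLeft : A →ₐ[k] A ⊗[k] B) :=
    Algebra.TensorProduct.includeLeft_injective (FaithfulSMul.algebraMap_injective k B)
  have : Nontrivial (A ⊗[k] B) := hinj.nontrivial
  apply IsSimpleRing.of_eq_bot_or_eq_top
  intro I
  by_cases hI : I = ⊥
  · exact Or.inl hI
  · right
    obtain ⟨a, ha0, ha⟩ := exists_tmul_one_mem_ideal I hI
    let J : TwoSidedIdeal A :=
      I.comap (Algebra.TensorProduct.includeLeft : A →ₐ[k] A ⊗[k] B)
    have haJ : a ∈ J := by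
      rw [TwoSidedIdeal.mem_comap]
      exact ha
    have h1 : (1 : A) ∈ J := IsSimpleRing.one_mem_of_ne_zero_mem J ha0 haJ
    rw [TwoSidedIdeal.mem_comap, map_one] at h1
    exact (TwoSidedIdeal.one_mem_iff I).mp h1

end Groth.Agent.Lead.CSA
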