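import Mathlib

namespace Groth.Agent.Lead.CSA

open Module

variable {k : Type*} [Field k] {R : Type*} [Ring R] [Algebra k R] [IsSimpleRing R]
  [FiniteDimensional k R]

/-- over a simple artinian ring, every module is isotypic of the type of a fixed simple
submodule of the ring -/
theorem isIsotypicOfType_of_simple [IsArtinianRing R] (S : Submodule R R) [IsSimpleModule R S]
    (M : Type*) [AddCommGroup M] [Module R M] : IsIsotypicOfType R M S := by
  intro m' hm'
  have h2 := IsSimpleRing.isIsotypic R (M × R)
  let m₁ : Submodule R (M × R) := m'.map (LinearMap.inl R M R)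
  let S₁ : Submodule R (M × R) := S.map (LinearMap.inr R M R)
  have e₁ : m' ≃ₗ[R] m₁ := m'.equivMapOfInjective _ LinearMap.inl_injective
  have e₂ : S ≃ₗ[R] S₁ := S.equivMapOfInjective _ LinearMap.inr_injective
  have : IsSimpleModule R m₁ := IsSimpleModule.congr e₁.symm
  have : IsSimpleModule R S₁ := IsSimpleModule.congr e₂.symm
  obtain ⟨f⟩ := h2 S₁ m₁
  exact ⟨e₁.trans (f.trans e₂.symm)⟩

variable {M : Type*} [AddCommGroup M] [Module R M] [Module k M]
  [IsScalarTower k R M] [FiniteDimensional k M]

theorem finrank_sq_eq :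
    (finrank k M) ^ 2 = finrank k R * finrank k (Module.End R M) := by
  have : IsArtinianRing R := IsArtinianRing.of_finite k R
  obtain ⟨m, hm, S, hS, ⟨e⟩⟩ := (IsSimpleRing.isIsotypic R R).linearEquiv_fun
  have : Module.Finite R M := Module.Finite.of_restrictScalars_finite k R M
  obtain ⟨n, ⟨eM⟩⟩ := (isIsotypicOfType_of_simple S M).linearEquiv_fun
  -- dimensions
  have hR1 : finrank k R = m * finrank k S := by
    rw [LinearEquiv.finrank_eq (e.restrictScalars k), Module.finrank_pi_fintype]
    simp
  have hM1 : finrank k M = n * finrank k S := by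
    rw [LinearEquiv.finrank_eq (eM.restrictScalars k), Module.finrank_pi_fintype]
    simp
  have hR2 : finrank k R = m * m * finrank k (Module.End R S) := by
    have e1 : Rᵐᵒᵖ ≃ₐ[k] Module.End R R := AlgEquiv.moduleEndSelf k
    have e2 : Module.End R R ≃ₐ[k] Module.End R (Fin m → S) := e.conjAlgEquiv k
    have e3 : Module.End R (Fin m → S) ≃ₐ[k] Matrix (Fin m) (Fin m) (Module.End R S) :=
      endVecAlgEquivMatrixEnd (Fin m) k R S
    have h0 : finrank k R = finrank k Rᵐᵒᵖ :=
      LinearEquiv.finrank_eq (MulOpposite.opLinearEquiv k)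
    rw [h0, LinearEquiv.finrank_eq e1.toLinearEquiv, LinearEquiv.finrank_eq e2.toLinearEquiv,
      LinearEquiv.finrank_eq e3.toLinearEquiv, Module.finrank_matrix]
    simp
  have hM2 : finrank k (Module.End R M) = n * n * finrank k (Module.End R S) := by
    have e2 : Module.End R M ≃ₐ[k] Module.End R (Fin n → S) := eM.conjAlgEquiv k
    have e3 : Module.End R (Fin n → S) ≃ₐ[k] Matrix (Fin n) (Fin n) (Module.End R S) :=
      endVecAlgEquivMatrixEnd (Fin n) k R S
    rw [LinearEquiv.finrank_eq e2.toLinearEquiv, LinearEquiv.finrank_eq e3.toLinearEquiv,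
      Module.finrank_matrix]
    simp
  have hm0 : m ≠ 0 := NeZero.ne m
  have hs : finrank k S = m * finrank k (Module.End R S) := by
    have : m * finrank k S = m * (m * finrank k (Module.End R S)) := by
      rw [← hR1, hR2, mul_assoc]
    exact Nat.eq_of_mul_eq_mul_left (Nat.pos_of_ne_zero hm0) this
  rw [hM1, hM2, hR1, hs]
  ring

end Groth.Agent.Lead.CSA
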