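import Mathlib

namespace Groth.Agent.Lead.CSA

open Module

/-- the endomorphism ring of a nonzero finite module over a simple artinian ring is simple -/
theorem isSimpleRing_end (R : Type*) [Ring R] [IsSimpleRing R] [IsArtinianRing R]
    (M : Type*) [AddCommGroup M] [Module R M] [Module.Finite R M] [Nontrivial M] :
    IsSimpleRing (Module.End R M) := by
  classical
  obtain ⟨n, hn, S, hS, ⟨e⟩⟩ := (IsSimpleRing.isIsotypic R M).linearEquiv_fun
  have e1 : Module.End R M ≃+* Matrix (Fin n) (Fin n) (Module.End R S) :=
    e.conjRingEquiv.trans (endVecRingEquivMatrixEnd (Fin n) R S)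
  exact IsSimpleRing.of_ringEquiv
    (R := Matrix (Fin n) (Fin n) (Module.End R S)) e1.symm inferInstance

end Groth.Agent.Lead.CSA
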