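import Mathlib

namespace Groth.Agent.Lead.CSA

open TensorProduct MulOpposite

variable {k : Type*} [Field k] {A : Type*} [Ring A] [Algebra k A] {B : Type*} [Ring B]
  [Algebra k B]

/-- right multiplication as an algebra map from the opposite algebra -/
noncomputable def rmulHom (k : Type*) [Field k] (A : Type*) [Ring A] [Algebra k A] :
    Aᵐᵒᵖ →ₐ[k] Module.End k A :=
  AlgHom.ofLinearMap
    { toFun := fun a => LinearMap.mulRight k a.unop
      map_add' := fun a b => by ext x; simp [mul_add]
      map_smul' := fun c a => by ext x; simp }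
    (by ext x; simp)
    (fun a b => by ext x; simp [mul_assoc])

@[simp] theorem rmulHom_apply (a : Aᵐᵒᵖ) (x : A) : rmulHom k A a x = x * a.unop := rfl

/-- the action of `B ⊗ Aᵒᵖ` on `A` through `f` -/
noncomputable def rho (f : B →ₐ[k] A) : B ⊗[k] Aᵐᵒᵖ →ₐ[k] Module.End k A :=
  Algebra.TensorProduct.lift ((Algebra.lmul k A).comp f) (rmulHom k A)
    (fun b a => by
      show _ * _ = _ * _
      ext x
      simp [mul_assoc])

@[simp] theorem rho_tmul (f : B →ₐ[k] A) (b : B) (a : Aᵐᵒᵖ) (x : A) :
    rho f (b ⊗ₜ a) x = f b * x * a.unop := by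
  simp [rho, mul_assoc]

/-- `A` as a module over `B ⊗ Aᵒᵖ` through `f` -/
def Bimod (_f : B →ₐ[k] A) : Type _ := A

namespace Bimod

variable (f : B →ₐ[k] A)

instance : AddCommGroup (Bimod f) := inferInstanceAs (AddCommGroup A)
instance : Module k (Bimod f) := inferInstanceAs (Module k A)
noncomputable instance : Module (B ⊗[k] Aᵐᵒᵖ) (Bimod f) :=
  Module.compHom A (rho f).toRingHom

/-- the identity map `A → Bimod f` -/
def of : A ≃ₗ[k] Bimod f := LinearEquiv.refl k A

theorem smul_def (r : B ⊗[k] Aᵐᵒᵖ) (x : Bimod f) : r • x = of f (rho f r ((of f).symm x)) := rfl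

instance : IsScalarTower k (B ⊗[k] Aᵐᵒᵖ) (Bimod f) where
  smul_assoc c r x := by
    rw [smul_def, smul_def, map_smul]
    rfl

instance [FiniteDimensional k A] : FiniteDimensional k (Bimod f) :=
  inferInstanceAs (FiniteDimensional k A)

theorem finrank_eq : Module.finrank k (Bimod f) = Module.finrank k A := rfl

end Bimod

end Groth.Agent.Lead.CSA
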