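import Mathlib
import Groth.Agent.Lib.Lead.CSA6

namespace Groth.Agent.Lead.CSA

open TensorProduct MulOpposite

variable {k : Type*} [Field k] {A : Type*} [Ring A] [Algebra k A] {B : Type*} [Ring B]
  [Algebra k B] (f : B →ₐ[k] A)

theorem rho_comm_of_mem_centralizer (c : A) (hc : c ∈ Subalgebra.centralizer k (Set.range f))
    (r : B ⊗[k] Aᵐᵒᵖ) (x : A) : c * rho f r x = rho f r (c * x) := by
  induction r using TensorProduct.induction_on with
  | zero => simp
  | tmul b a =>
    rw [rho_tmul, rho_tmul]
    have h := (Subalgebra.mem_centralizer_iff k).mp hc (f b) ⟨b, rfl⟩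
    rw [← mul_assoc, ← mul_assoc, ← h]
    simp only [mul_assoc]
  | add r s hr hs =>
    rw [map_add, LinearMap.add_apply, LinearMap.add_apply, mul_add, hr, hs]

/-- left multiplication by a centralizing element, as an endomorphism of the bimodule -/
noncomputable def centToEndFun (c : Subalgebra.centralizer k (Set.range f)) :
    Module.End (B ⊗[k] Aᵐᵒᵖ) (Bimod f) where
  toFun x := Bimod.of f ((c : A) * (Bimod.of f).symm x)
  map_add' x y := by simp [mul_add]
  map_smul' r x := by
    simp only [RingHom.id_apply, Bimod.smul_def, LinearEquiv.symm_apply_apply]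
    rw [rho_comm_of_mem_centralizer f c c.2]

theorem centToEndFun_apply (c : Subalgebra.centralizer k (Set.range f)) (x : Bimod f) :
    centToEndFun f c x = Bimod.of f ((c : A) * (Bimod.of f).symm x) := rfl

/-- the centralizer acts by endomorphisms of the bimodule -/
noncomputable def centToEnd :
    Subalgebra.centralizer k (Set.range f) →ₐ[k] Module.End (B ⊗[k] Aᵐᵒᵖ) (Bimod f) :=
  AlgHom.ofLinearMap
    { toFun := centToEndFun f
      map_add' := fun c d => by
        ext x
        simp [centToEndFun_apply, add_mul]
      map_smul' := fun t c => by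
        ext x
        simp [centToEndFun_apply] }
    (by
      ext x
      simp [centToEndFun_apply])
    (fun c d => by
      ext x
      simp [centToEndFun_apply, mul_assoc])

theorem centToEnd_apply (c : Subalgebra.centralizer k (Set.range f)) (x : Bimod f) :
    centToEnd f c x = Bimod.of f ((c : A) * (Bimod.of f).symm x) := rfl

theorem centToEnd_bijective : Function.Bijective (centToEnd f) := by
  constructor
  · intro c d h
    have := congrArg (fun φ : Module.End (B ⊗[k] Aᵐᵒᵖ) (Bimod f) => φ (Bimod.of f 1)) h
    simp only [centToEnd_apply, LinearEquiv.symm_apply_apply, mul_one] at this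
    exact Subtype.ext ((Bimod.of f).injective this)
  · intro φ
    -- the image of 1
    set c : A := (Bimod.of f).symm (φ (Bimod.of f 1)) with hc
    have hright : ∀ x : A, φ (Bimod.of f x) = Bimod.of f (c * x) := by
      intro x
      have h1 : Bimod.of f x = ((1 : B) ⊗ₜ[k] (op x)) • (Bimod.of f 1) := by
        rw [Bimod.smul_def, LinearEquiv.symm_apply_apply, rho_tmul]
        simp
      rw [h1, map_smul, Bimod.smul_def, rho_tmul]
      simp [hc]
    have hleft : ∀ b : B, φ (Bimod.of f (f b)) = Bimod.of f (f b * c) := by
      intro b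
      have h1 : Bimod.of f (f b) = (b ⊗ₜ[k] (op (1 : A))) • (Bimod.of f 1) := by
        rw [Bimod.smul_def, LinearEquiv.symm_apply_apply, rho_tmul]
        simp
      rw [h1, map_smul, Bimod.smul_def, rho_tmul]
      simp [hc]
    have hcmem : c ∈ Subalgebra.centralizer k (Set.range f) := by
      rw [Subalgebra.mem_centralizer_iff]
      rintro _ ⟨b, rfl⟩
      have := (hleft b).symm.trans (hright (f b))
      exact (Bimod.of f).injective this
    refine ⟨⟨c, hcmem⟩, ?_⟩
    ext x
    rw [centToEnd_apply]
    have := hright ((Bimod.of f).symm x)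
    rw [LinearEquiv.apply_symm_apply] at this
    exact this.symm

/-- the centralizer is the endomorphism algebra of the bimodule -/
noncomputable def centEquivEnd :
    Subalgebra.centralizer k (Set.range f) ≃ₐ[k] Module.End (B ⊗[k] Aᵐᵒᵖ) (Bimod f) :=
  AlgEquiv.ofBijective (centToEnd f) (centToEnd_bijective f)

end Groth.Agent.Lead.CSA
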