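import Mathlib
import Groth.Agent.Lib.Lead.CSA3
import Groth.Agent.Lib.Lead.CSA5
import Groth.Agent.Lib.Lead.CSA5b
import Groth.Agent.Lib.Lead.CSA7

namespace Groth.Agent.Lead.CSA

open TensorProduct MulOpposite Module

variable {k : Type*} [Field k] {A : Type*} [Ring A] [Algebra k A]
  [Algebra.IsCentral k A] [IsSimpleRing A] [FiniteDimensional k A]
  {B : Type*} [Ring B] [Algebra k B] [IsSimpleRing B] [FiniteDimensional k B]

instance isSimpleRing_tensor_op : IsSimpleRing (B ⊗[k] Aᵐᵒᵖ) := isSimpleRing_tensor

omit [Algebra.IsCentral k A] [IsSimpleRing A] [FiniteDimensional k A] in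
theorem finrank_op : finrank k Aᵐᵒᵖ = finrank k A :=
  (LinearEquiv.finrank_eq (MulOpposite.opLinearEquiv k)).symm

/-- dimension formula for the centralizer of the image of a simple algebra -/
theorem finrank_centralizer_range (f : B →ₐ[k] A) :
    finrank k A = finrank k B * finrank k (Subalgebra.centralizer k (Set.range f)) := by
  have h := finrank_sq_eq (k := k) (R := B ⊗[k] Aᵐᵒᵖ) (M := Bimod f)
  rw [Bimod.finrank_eq, Module.finrank_tensorProduct, finrank_op,
    ← LinearEquiv.finrank_eq (centEquivEnd f).toLinearEquiv] at h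
  have hA : 0 < finrank k A := Module.finrank_pos
  have h2 : finrank k A * finrank k A =
      finrank k A * (finrank k B * finrank k (Subalgebra.centralizer k (Set.range f))) := by
    rw [← pow_two, h]; ring
  exact Nat.eq_of_mul_eq_mul_left hA h2

/-- the centralizer of the image of a simple algebra is simple -/
theorem isSimpleRing_centralizer_range (f : B →ₐ[k] A) :
    IsSimpleRing (Subalgebra.centralizer k (Set.range f)) := by
  have : IsArtinianRing (B ⊗[k] Aᵐᵒᵖ) := IsArtinianRing.of_finite k _
  have : Module.Finite (B ⊗[k] Aᵐᵒᵖ) (Bimod f) :=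
    Module.Finite.of_restrictScalars_finite k _ _
  have : Nontrivial (Bimod f) := inferInstanceAs (Nontrivial A)
  have h := isSimpleRing_end (B ⊗[k] Aᵐᵒᵖ) (Bimod f)
  exact IsSimpleRing.of_ringEquiv (centEquivEnd f).toRingEquiv.symm h

end Groth.Agent.Lead.CSA
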