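import Mathlib
import Groth.Agent.Lib.Lead.CSA8

namespace Groth.Agent.Lead.CSA

open TensorProduct MulOpposite Module

variable {k : Type*} [Field k] {A : Type*} [Ring A] [Algebra k A]
  [Algebra.IsCentral k A] [IsSimpleRing A] [FiniteDimensional k A]

omit [Algebra.IsCentral k A] [IsSimpleRing A] [FiniteDimensional k A] in
theorem range_val (B : Subalgebra k A) : Set.range B.val = (B : Set A) := by
  ext x
  simp

theorem isSimpleRing_centralizer (B : Subalgebra k A) [IsSimpleRing B] :
    IsSimpleRing (Subalgebra.centralizer k (B : Set A)) := by
  have h := isSimpleRing_centralizer_range (k := k) (A := A) B.val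
  rwa [range_val] at h

theorem finrank_centralizer (B : Subalgebra k A) [IsSimpleRing B] :
    finrank k A = finrank k B * finrank k (Subalgebra.centralizer k (B : Set A)) := by
  have h := finrank_centralizer_range (k := k) (A := A) B.val
  rwa [range_val] at h

theorem double_centralizer (B : Subalgebra k A) [IsSimpleRing B] :
    Subalgebra.centralizer k (Subalgebra.centralizer k (B : Set A) : Set A) = B := by
  have hC : IsSimpleRing (Subalgebra.centralizer k (B : Set A)) := isSimpleRing_centralizer B
  have h1 := finrank_centralizer B
  have h2 := finrank_centralizer (Subalgebra.centralizer k (B : Set A))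
  have hle : B ≤ Subalgebra.centralizer k (Subalgebra.centralizer k (B : Set A) : Set A) := by
    intro x hx
    rw [Subalgebra.mem_centralizer_iff]
    intro g hg
    exact ((Subalgebra.mem_centralizer_iff k).mp hg x hx).symm
  have hCpos : 0 < finrank k (Subalgebra.centralizer k (B : Set A)) := Module.finrank_pos
  have hfin : finrank k B =
      finrank k (Subalgebra.centralizer k (Subalgebra.centralizer k (B : Set A) : Set A)) := by
    have : finrank k (Subalgebra.centralizer k (B : Set A)) * finrank k B =
        finrank k (Subalgebra.centralizer k (B : Set A)) *
        finrank k (Subalgebra.centralizer k (Subalgebra.centralizer k (B : Set A) : Set A)) := by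
      rw [← h2, mul_comm, ← h1]
    exact Nat.eq_of_mul_eq_mul_left hCpos this
  symm
  apply Subalgebra.toSubmodule_injective
  exact Submodule.eq_of_le_of_finrank_eq hle hfin

end Groth.Agent.Lead.CSA
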