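import Mathlib
import Groth.Agent.Lib.Lead.CSA9

namespace Groth.Agent.Lead.CSA

open TensorProduct MulOpposite Module

variable {k : Type*} [Field k] {D : Type*} [DivisionRing D] [Algebra k D]
  [FiniteDimensional k D]

/-- a subalgebra of a finite-dimensional division algebra is closed under inverses -/
theorem inv_mem_subalgebra (L : Subalgebra k D) {x : D} (hx : x ∈ L) : x⁻¹ ∈ L := by
  by_cases h0 : x = 0
  · rw [h0, inv_zero]; exact L.zero_mem
  · let μ : L →ₗ[k] L := LinearMap.mulLeft k (⟨x, hx⟩ : L)
    have hinj : Function.Injective μ := by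
      intro a b hab
      have h1 : (⟨x, hx⟩ : L) * a = ⟨x, hx⟩ * b := hab
      have h2 : x * (a : D) = x * (b : D) := congrArg Subtype.val h1
      exact Subtype.ext (mul_left_cancel₀ h0 h2)
    have hsurj : Function.Surjective μ := LinearMap.surjective_of_injective hinj
    obtain ⟨y, hy⟩ := hsurj 1
    have h1 : x * (y : D) = 1 := congrArg Subtype.val hy
    have : x⁻¹ = (y : D) := by
      rw [inv_eq_iff_eq_inv]
      exact (eq_inv_of_mul_eq_one_left h1)
    rw [this]
    exact y.2

/-- every subalgebra of a finite-dimensional division algebra is a simple ring -/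
theorem isSimpleRing_subalgebra (L : Subalgebra k D) : IsSimpleRing L := by
  apply IsSimpleRing.of_eq_bot_or_eq_top
  intro I
  by_cases hI : I = ⊥
  · exact Or.inl hI
  · right
    obtain ⟨x, hx1, hx2⟩ : ∃ x ∈ I, x ≠ 0 := by
      by_contra h
      apply hI
      rw [eq_bot_iff]
      intro x hx
      by_contra hx0
      exact h ⟨x, hx, hx0⟩
    have hinv : ((x : D))⁻¹ ∈ L := inv_mem_subalgebra L x.2
    have h1 : (⟨(x : D)⁻¹, hinv⟩ : L) * x = 1 := by
      apply Subtype.ext
      show (x : D)⁻¹ * (x : D) = 1
      exact inv_mul_cancel₀ (fun h => hx2 (Subtype.ext h))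
    rw [← TwoSidedIdeal.one_mem_iff, ← h1]
    exact I.mul_mem_left _ _ hx1

variable [Algebra.IsCentral k D]

omit [FiniteDimensional k D] [Algebra.IsCentral k D] in
/-- a maximal commutative subalgebra is its own centralizer -/
theorem centralizer_eq_of_maximal (L : Subalgebra k D)
    (hcomm : ∀ x ∈ L, ∀ y ∈ L, x * y = y * x)
    (hmax : ∀ L' : Subalgebra k D, (∀ x ∈ L', ∀ y ∈ L', x * y = y * x) → L ≤ L' → L' = L) :
    Subalgebra.centralizer k (L : Set D) = L := by
  apply le_antisymm
  · intro x hx
    let s : Set D := insert x (L : Set D)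
    have hs : ∀ a ∈ s, ∀ b ∈ s, a * b = b * a := by
      rintro a (rfl | ha) b (rfl | hb)
      · rfl
      · exact ((Subalgebra.mem_centralizer_iff k).mp hx b hb).symm
      · exact (Subalgebra.mem_centralizer_iff k).mp hx a ha
      · exact hcomm a ha b hb
    have hL' := hmax (Algebra.adjoin k s)
      (fun a ha b hb => Set.centralizer_centralizer_comm_of_comm hs a
        (Algebra.adjoin_le_centralizer_centralizer k s ha) b
        (Algebra.adjoin_le_centralizer_centralizer k s hb))
      (fun y hy => Algebra.subset_adjoin (Set.mem_insert_of_mem _ hy))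
    rw [← hL']
    exact Algebra.subset_adjoin (Set.mem_insert _ _)
  · intro x hx
    rw [Subalgebra.mem_centralizer_iff]
    intro g hg
    exact hcomm g hg x hx

theorem finrank_eq_sq_of_maximal (L : Subalgebra k D)
    (hcomm : ∀ x ∈ L, ∀ y ∈ L, x * y = y * x)
    (hmax : ∀ L' : Subalgebra k D, (∀ x ∈ L', ∀ y ∈ L', x * y = y * x) → L ≤ L' → L' = L) :
    finrank k D = finrank k L ^ 2 := by
  have : IsSimpleRing L := isSimpleRing_subalgebra L
  have h := finrank_centralizer (k := k) (A := D) L
  rw [centralizer_eq_of_maximal L hcomm hmax] at h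
  rw [h, pow_two]

end Groth.Agent.Lead.CSA
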