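import Mathlib
import Groth.Agent.Lib.Lead.CSA11

namespace Groth.Agent.Lead.CSA

open Module

section abstract

variable {k D E E' : Type*} [Field k] [Ring D] [Nontrivial D] [Algebra k D]
  [Field E] [Field E'] [Algebra k E] [Algebra k E'] [Algebra E E'] [IsScalarTower k E E']

theorem isSeparable_of_mem_adjoin_aux [Algebra.IsSeparable k E] (ψ : E' →ₐ[k] D) (x' : E')
    (hx' : IsSeparable E x') (y : D)
    (hy : y ∈ Algebra.adjoin k (insert (ψ x') (Set.range (ψ ∘ algebraMap E E')))) :
    IsSeparable k y := by
  have hle : Algebra.adjoin k (insert (ψ x') (Set.range (ψ ∘ algebraMap E E'))) ≤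
      (separableClosure k E').toSubalgebra.map ψ := by
    apply Algebra.adjoin_le
    rintro a (rfl | ⟨e, rfl⟩)
    · refine ⟨x', ?_, rfl⟩
      exact mem_separableClosure_iff.mpr
        (IsSeparable.of_algebra_isSeparable_of_isSeparable k hx')
    · refine ⟨algebraMap E E' e, ?_, rfl⟩
      refine mem_separableClosure_iff.mpr ?_
      have h1 : IsSeparable k e := Algebra.IsSeparable.isSeparable k e
      unfold IsSeparable at h1 ⊢
      rwa [minpoly.algebraMap_eq (algebraMap E E').injective]
  obtain ⟨z, hz, rfl⟩ := hle hy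
  have hz' : IsSeparable k z := mem_separableClosure_iff.mp hz
  unfold IsSeparable at hz' ⊢
  have : minpoly k (ψ z) = minpoly k z := minpoly.algHom_eq ψ ψ.toRingHom.injective z
  exact this ▸ hz'

theorem isSeparable_of_algHom_inj {C : Type*} [Ring C] [Algebra E C] (g : E' →ₐ[E] C)
    (hg : Function.Injective g) (x' : E') (h : IsSeparable E (g x')) : IsSeparable E x' := by
  unfold IsSeparable at h ⊢
  rwa [minpoly.algHom_eq g hg] at h

end abstract

variable {k : Type*} [Field k] {D : Type*} [DivisionRing D] [Algebra k D]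
  [FiniteDimensional k D]

/-- division ring structure on a subalgebra of a finite-dimensional division algebra -/
@[reducible] noncomputable def divisionRingSub (C : Subalgebra k D) : DivisionRing C :=
  { (inferInstance : Ring C) with
    inv := fun a => ⟨(a : D)⁻¹, inv_mem_subalgebra C a.2⟩
    exists_pair_ne := ⟨0, 1, fun h => zero_ne_one (congrArg Subtype.val h)⟩
    mul_inv_cancel := fun a ha => Subtype.ext (mul_inv_cancel₀ (fun h => ha (Subtype.ext h)))
    inv_zero := Subtype.ext inv_zero
    nnqsmul := _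
    nnqsmul_def := fun _ _ => rfl
    qsmul := _
    qsmul_def := fun _ _ => rfl }

/-- field structure on a commutative subalgebra of a finite-dimensional division algebra -/
@[reducible] noncomputable def fieldSub (L : Subalgebra k D)
    (hcomm : ∀ x ∈ L, ∀ y ∈ L, x * y = y * x) : Field L :=
  { divisionRingSub L with
    mul_comm := fun a b => Subtype.ext (hcomm a a.2 b b.2) }

omit [FiniteDimensional k D] in
theorem isSeparable_sub_iff (L : Subalgebra k D) (x : L) :
    IsSeparable k x ↔ IsSeparable k (x : D) := by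
  unfold IsSeparable
  rw [← minpoly.algHom_eq L.val Subtype.val_injective x]
  rfl

/-- Jacobson–Noether step: if the commutative subalgebra `L` is not its own centralizer,
there is `x` in the centralizer, not in `L`, separable over `L`. -/
theorem exists_sep_step [Algebra.IsCentral k D] (L : Subalgebra k D)
    (hcomm : ∀ x ∈ L, ∀ y ∈ L, x * y = y * x) (hsep : Algebra.IsSeparable k L)
    (hne : ¬ Subalgebra.centralizer k (L : Set D) ≤ L) :
    ∃ x : D, x ∉ L ∧
      (∀ a ∈ Algebra.adjoin k (insert x (L : Set D)),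
        ∀ b ∈ Algebra.adjoin k (insert x (L : Set D)), a * b = b * a) ∧
      Algebra.IsSeparable k (Algebra.adjoin k (insert x (L : Set D))) := by
  set C : Subalgebra k D := Subalgebra.centralizer k (L : Set D) with hC_def
  have hLC : L ≤ C := fun x hx => by
    rw [hC_def, Subalgebra.mem_centralizer_iff]
    intro g hg
    exact hcomm g hg x hx
  have hC : ∀ c ∈ C, ∀ l ∈ L, l * c = c * l := fun c hc l hl =>
    (Subalgebra.mem_centralizer_iff k).mp hc l hl
  let iL : Field L := fieldSub L hcomm
  let iC : DivisionRing C := divisionRingSub C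
  let aLC : Algebra L C := (Subalgebra.inclusion hLC).toRingHom.toAlgebra'
        (fun l c => Subtype.ext (hC c c.2 l l.2))
  have t1 : IsScalarTower k L C := IsScalarTower.of_algebraMap_eq (fun c => rfl)
  have : Algebra.IsAlgebraic L C := Algebra.IsAlgebraic.tower_top (K := k) L
  have hsimp : IsSimpleRing L := isSimpleRing_subalgebra L
  have hdc : Subalgebra.centralizer k (C : Set D) = L := double_centralizer L
  have hcen : Algebra.IsCentral L C := by
    constructor
    intro z hz
    rw [Subalgebra.mem_center_iff] at hz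
    have hzL : (z : D) ∈ L := by
      rw [← hdc, Subalgebra.mem_centralizer_iff]
      intro c hc
      exact congrArg Subtype.val (hz ⟨c, hc⟩)
    exact ⟨⟨(z : D), hzL⟩, Subtype.ext rfl⟩
  have hneq : (⊥ : Subalgebra L C) ≠ ⊤ := by
    intro h
    apply hne
    intro c hc
    have : (⟨c, hc⟩ : C) ∈ (⊥ : Subalgebra L C) := by rw [h]; exact Algebra.mem_top
    obtain ⟨l, hl⟩ := this
    have : (l : D) = c := congrArg Subtype.val hl
    rw [← this]; exact l.2
  obtain ⟨x, hx1, hx2⟩ := JacobsonNoether.exists_separable_and_not_isCentral' (L := L) (D := C) hneq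
  refine ⟨(x : D), ?_, ?_⟩
  · intro hxL
    exact hx1 ⟨⟨(x : D), hxL⟩, Subtype.ext rfl⟩
  set s : Set D := insert (x : D) (L : Set D) with hs_def
  have hs : ∀ a ∈ s, ∀ b ∈ s, a * b = b * a := by
    rintro a (rfl | ha) b (rfl | hb)
    · rfl
    · exact (hC _ x.2 b hb).symm
    · exact hC _ x.2 a ha
    · exact hcomm a ha b hb
  have hcomm' : ∀ a ∈ Algebra.adjoin k s, ∀ b ∈ Algebra.adjoin k s, a * b = b * a :=
    fun a ha b hb => Set.centralizer_centralizer_comm_of_comm hs a
        (Algebra.adjoin_le_centralizer_centralizer k s ha) b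
        (Algebra.adjoin_le_centralizer_centralizer k s hb)
  refine ⟨hcomm', ?_⟩
  have hLL' : L ≤ Algebra.adjoin k s :=
    fun y hy => Algebra.subset_adjoin (Set.mem_insert_of_mem _ hy)
  have hL'C : Algebra.adjoin k s ≤ C := by
    apply Algebra.adjoin_le
    rintro a (rfl | ha)
    · exact x.2
    · exact hLC ha
  have hxL' : (x : D) ∈ Algebra.adjoin k s := Algebra.subset_adjoin (Set.mem_insert _ _)
  let iL' : Field (Algebra.adjoin k s) := fieldSub _ hcomm'
  let aLL' : Algebra L (Algebra.adjoin k s) := (Subalgebra.inclusion hLL').toRingHom.toAlgebra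
  have t2 : IsScalarTower k L (Algebra.adjoin k s) :=
    IsScalarTower.of_algebraMap_eq (fun c => rfl)
  let g : (Algebra.adjoin k s) →ₐ[L] C :=
    { (Subalgebra.inclusion hL'C).toRingHom with
      commutes' := fun l => rfl }
  have hg : Function.Injective g := Subalgebra.inclusion_injective hL'C
  have hx' : IsSeparable L (⟨(x : D), hxL'⟩ : Algebra.adjoin k s) :=
    isSeparable_of_algHom_inj g hg _ hx2
  constructor
  intro y
  rw [isSeparable_sub_iff]
  refine isSeparable_of_mem_adjoin_aux (E := L) (E' := Algebra.adjoin k s)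
    (Algebra.adjoin k s).val ⟨(x : D), hxL'⟩ hx' (y : D) ?_
  have : s = insert ((Algebra.adjoin k s).val ⟨(x : D), hxL'⟩)
      (Set.range ((Algebra.adjoin k s).val ∘ algebraMap L (Algebra.adjoin k s))) := by
    ext a
    constructor
    · rintro (rfl | ha)
      · exact Or.inl rfl
      · exact Or.inr ⟨⟨a, ha⟩, rfl⟩
    · rintro (h | ⟨l, rfl⟩)
      · exact Or.inl h
      · exact Or.inr l.2
  rw [← this]
  exact y.2

/-- a finite central division algebra has a maximal commutative subalgebra separable over `k` -/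
theorem exists_separable_maximal [Algebra.IsCentral k D] :
    ∃ L : Subalgebra k D, (∀ x ∈ L, ∀ y ∈ L, x * y = y * x) ∧
      (∀ L' : Subalgebra k D, (∀ x ∈ L', ∀ y ∈ L', x * y = y * x) → L ≤ L' → L' = L) ∧
      Algebra.IsSeparable k L := by
  let S : Set (Subalgebra k D) :=
    {L | (∀ x ∈ L, ∀ y ∈ L, x * y = y * x) ∧ Algebra.IsSeparable k L}
  let T : Set ℕ := {n | ∃ L ∈ S, finrank k L = n}
  have hbot : (⊥ : Subalgebra k D) ∈ S := by
    refine ⟨?_, ?_⟩
    · rintro x ⟨a, rfl⟩ y ⟨b, rfl⟩
      exact (Algebra.commutes a _)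
    · constructor
      rintro ⟨x, a, rfl⟩
      rw [isSeparable_sub_iff]
      exact isSeparable_algebraMap a
  have hTne : T.Nonempty := ⟨_, ⊥, hbot, rfl⟩
  have hTb : BddAbove T := by
    refine ⟨finrank k D, ?_⟩
    rintro n ⟨L, _, rfl⟩
    exact Submodule.finrank_le (Subalgebra.toSubmodule L)
  obtain ⟨L, hLS, hLn⟩ := Nat.sSup_mem hTne hTb
  have hmaxn : ∀ L' ∈ S, finrank k L' ≤ finrank k L := by
    intro L' hL'
    rw [hLn]
    exact le_csSup hTb ⟨L', hL', rfl⟩
  have hcent : Subalgebra.centralizer k (L : Set D) ≤ L := by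
    by_contra hne
    obtain ⟨x, hx, hc', hs'⟩ := exists_sep_step L hLS.1 hLS.2 hne
    have hlt : L < Algebra.adjoin k (insert x (L : Set D)) := by
      refine lt_of_le_of_ne (fun y hy => Algebra.subset_adjoin (Set.mem_insert_of_mem _ hy)) ?_
      intro h
      apply hx
      rw [h]
      exact Algebra.subset_adjoin (Set.mem_insert _ _)
    have h1 := hmaxn _ ⟨hc', hs'⟩
    have h2 : finrank k L < finrank k (Algebra.adjoin k (insert x (L : Set D))) :=
      Submodule.finrank_lt_finrank_of_lt (Subalgebra.toSubmodule.lt_iff_lt.mpr hlt)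
    omega
  refine ⟨L, hLS.1, ?_, hLS.2⟩
  intro L' hL'c hLL'
  apply le_antisymm _ hLL'
  intro y hy
  apply hcent
  rw [Subalgebra.mem_centralizer_iff]
  intro g hg
  exact hL'c g (hLL' hg) y hy

end Groth.Agent.Lead.CSA
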