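import Mathlib
import Groth.Agent.Lib.Lead.CSA13

namespace Groth.Agent.Lead.CSA

open TensorProduct Module

variable {k : Type*} [Field k] {A : Type*} [Ring A] [Algebra k A]
  {M : Type*} [AddCommGroup M] [Module A M] [Module k M] [IsScalarTower k A M]
  {K : Type*} [Field K] [Algebra k K]

/-- `M` with the `K`-module structure coming from `ι : K → End_A M` -/
def SMod (_ι : K →ₐ[k] Module.End A M) : Type _ := M

namespace SMod

variable (ι : K →ₐ[k] Module.End A M)

instance : AddCommGroup (SMod ι) := inferInstanceAs (AddCommGroup M)
instance : Module A (SMod ι) := inferInstanceAs (Module A M)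
instance : Module k (SMod ι) := inferInstanceAs (Module k M)
instance : IsScalarTower k A (SMod ι) := inferInstanceAs (IsScalarTower k A M)
noncomputable instance : Module K (SMod ι) := Module.compHom M ι.toRingHom

theorem smul_def (x : K) (v : SMod ι) : x • v = (ι x) v := rfl

instance : IsScalarTower k K (SMod ι) where
  smul_assoc c x v := by
    rw [smul_def, smul_def, map_smul]
    rfl

instance : SMulCommClass K A (SMod ι) where
  smul_comm x a v := by
    rw [smul_def, smul_def]
    exact (map_smul (ι x) a v)

instance : SMulCommClass A K (SMod ι) := SMulCommClass.symm _ _ _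

end SMod

variable (ι : K →ₐ[k] Module.End A M)

/-- the comparison map `K ⊗ A → End_K M` -/
noncomputable def splitMap : K ⊗[k] A →ₐ[K] Module.End K (SMod ι) :=
  Algebra.TensorProduct.lift (Algebra.ofId K (Module.End K (SMod ι)))
    (Algebra.lsmul k K (SMod ι)) (fun x _ => Algebra.commutes x _)


variable [Algebra.IsCentral k A] [IsSimpleRing A] [FiniteDimensional k A]
  [FiniteDimensional k M] [Nontrivial M] [FiniteDimensional k K]

instance : FiniteDimensional k (SMod ι) := inferInstanceAs (FiniteDimensional k M)
instance : Nontrivial (SMod ι) := inferInstanceAs (Nontrivial M)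

omit [Algebra.IsCentral k A] [Nontrivial M] in
theorem finrank_smod_sq (h : finrank k (Module.End A M) = (finrank k K) ^ 2) :
    (finrank K (SMod ι)) ^ 2 = finrank k A := by
  have h1 : (finrank k M) ^ 2 = finrank k A * finrank k (Module.End A M) :=
    finrank_sq_eq (k := k) (R := A) (M := M)
  have h2 : finrank k (SMod ι) = finrank k K * finrank K (SMod ι) :=
    (Module.finrank_mul_finrank k K (SMod ι)).symm
  have h3 : finrank k (SMod ι) = finrank k M := rfl
  rw [h, ← h3, h2, mul_pow] at h1
  have hpos : 0 < (finrank k K) ^ 2 := pow_pos Module.finrank_pos 2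
  rw [mul_comm (finrank k A)] at h1
  exact Nat.eq_of_mul_eq_mul_left hpos h1

theorem splitMap_bijective (h : finrank k (Module.End A M) = (finrank k K) ^ 2) :
    Function.Bijective (splitMap ι) := by
  have hs : IsSimpleRing (K ⊗[k] A) := isSimpleRing_tensor
  have : FiniteDimensional K (SMod ι) := Module.Finite.of_restrictScalars_finite k K (SMod ι)
  have hinj : Function.Injective (splitMap ι) := RingHom.injective (splitMap ι).toRingHom
  refine ⟨hinj, ?_⟩
  have hfr : finrank K (K ⊗[k] A) = finrank K (Module.End K (SMod ι)) := by
    rw [Module.finrank_baseChange, Module.finrank_linearMap, ← finrank_smod_sq ι h, pow_two]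
  exact (LinearMap.injective_iff_surjective_of_finrank_eq_finrank hfr
    (f := (splitMap ι).toLinearMap)).mp hinj

include ι in
theorem splits_of_embedding (h : finrank k (Module.End A M) = (finrank k K) ^ 2) :
    ∃ n : ℕ, n ≠ 0 ∧ Nonempty (K ⊗[k] A ≃ₐ[K] Matrix (Fin n) (Fin n) K) := by
  have : FiniteDimensional K (SMod ι) := Module.Finite.of_restrictScalars_finite k K (SMod ι)
  refine ⟨finrank K (SMod ι), ?_, ⟨?_⟩⟩
  · exact (Module.finrank_pos).ne'
  · exact (AlgEquiv.ofBijective (splitMap ι) (splitMap_bijective ι h)).trans
      (algEquivMatrix (Module.finBasis K (SMod ι)))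

end Groth.Agent.Lead.CSA
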