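import Mathlib
import Groth.Agent.Lib.Lead.CSA14

namespace Groth.Agent.Lead.CSA

open TensorProduct Module MulOpposite

universe u v

theorem isCentral_of_matrix_equiv {k : Type*} [Field k] {A : Type*} [Ring A] [Algebra k A]
    [Algebra.IsCentral k A] {Δ : Type*} [Ring Δ] [Algebra k Δ] {n : ℕ} [NeZero n]
    (e : A ≃ₐ[k] Matrix (Fin n) (Fin n) Δᵐᵒᵖ) : Algebra.IsCentral k Δ := by
  constructor
  intro z hz
  rw [Subalgebra.mem_center_iff] at hz
  have hsc : ∀ N : Matrix (Fin n) (Fin n) Δᵐᵒᵖ,
      Matrix.scalar (Fin n) (op z) * N = N * Matrix.scalar (Fin n) (op z) := by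
    intro N
    refine (Matrix.scalar_commute (op z) (fun r' => ?_) N)
    show op z * r' = r' * op z
    rw [← op_unop r', ← op_mul, ← op_mul, hz]
  have hw : e.symm (Matrix.scalar (Fin n) (op z)) ∈ Subalgebra.center k A := by
    rw [Subalgebra.mem_center_iff]
    intro a
    apply e.injective
    rw [map_mul, map_mul, e.apply_symm_apply]
    exact (hsc (e a)).symm
  obtain ⟨c, hc⟩ := Algebra.IsCentral.out hw
  have h1 : Matrix.scalar (Fin n) (op z) = algebraMap k _ c := by
    have := congrArg e hc
    rw [e.apply_symm_apply] at this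
    rw [← this]
    exact (e.commutes c)
  have h2 := congrFun (congrFun h1 0) 0
  rw [Matrix.algebraMap_matrix_apply] at h2
  simp only [Matrix.scalar_apply, Matrix.diagonal_apply_eq, if_true] at h2
  refine ⟨c, ?_⟩
  have h3 : op z = op (algebraMap k Δ c) := h2
  exact (op_injective h3).symm


theorem finite_end_of_finite {k : Type*} [Field k] {A : Type*} [Ring A] [Algebra k A]
    {M : Type*} [AddCommGroup M] [Module A M] [Module k M] [IsScalarTower k A M]
    [FiniteDimensional k M] : FiniteDimensional k (Module.End A M) := by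
  let f : Module.End A M →ₗ[k] Module.End k M :=
    { toFun := fun g => g.restrictScalars k
      map_add' := fun _ _ => rfl
      map_smul' := fun _ _ => rfl }
  have hf : Function.Injective f := fun a b h => LinearMap.restrictScalars_injective k h
  exact Module.Finite.of_injective f hf

theorem exists_separable_splitting (k : Type u) [Field k] (A : Type v) [Ring A] [Algebra k A]
    [Algebra.IsCentral k A] [IsSimpleRing A] [FiniteDimensional k A] :
    ∃ (k' : Type u) (_ : Field k') (_ : Algebra k k'), FiniteDimensional k k' ∧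
      Algebra.IsSeparable k k' ∧
      ∃ n : ℕ, n ≠ 0 ∧ Nonempty (k' ⊗[k] A ≃ₐ[k'] Matrix (Fin n) (Fin n) k') := by
  classical
  have : IsArtinianRing A := IsArtinianRing.of_finite k A
  obtain ⟨n, hn, I, hI, ⟨e⟩⟩ := IsSimpleRing.exists_algEquiv_matrix_end_mulOpposite k A
  have hfin : FiniteDimensional k (Module.End A I) := finite_end_of_finite
  have hcen : Algebra.IsCentral k (Module.End A I) := isCentral_of_matrix_equiv e
  obtain ⟨L, hcomm, hmax, hsep⟩ := exists_separable_maximal (k := k) (D := Module.End A I)
  have hsq : finrank k (Module.End A I) = finrank k L ^ 2 := finrank_eq_sq_of_maximal L hcomm hmax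
  let iL : Field L := fieldSub L hcomm
  obtain ⟨α, hα⟩ := Field.exists_primitive_element k L
  have hint : IsIntegral k α := Algebra.IsIntegral.isIntegral α
  have hirr : Irreducible (minpoly k α) := minpoly.irreducible hint
  have : Fact (Irreducible (minpoly k α)) := ⟨hirr⟩
  let e1 : AdjoinRoot (minpoly k α) ≃ₐ[k] IntermediateField.adjoin k {α} :=
    IntermediateField.adjoinRootEquivAdjoin k hint
  let e2 : IntermediateField.adjoin k {α} ≃ₐ[k] L :=
    (IntermediateField.equivOfEq hα).trans IntermediateField.topEquiv
  let e3 : AdjoinRoot (minpoly k α) ≃ₐ[k] L := e1.trans e2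
  refine ⟨AdjoinRoot (minpoly k α), inferInstance, inferInstance, ?_, ?_, ?_⟩
  · exact Module.Finite.equiv e3.symm.toLinearEquiv
  · exact Algebra.IsSeparable.of_algHom k L e3.toAlgHom
  · have hfr : finrank k (AdjoinRoot (minpoly k α)) = finrank k L :=
      LinearEquiv.finrank_eq e3.toLinearEquiv
    have : FiniteDimensional k (AdjoinRoot (minpoly k α)) := Module.Finite.equiv e3.symm.toLinearEquiv
    have : Nontrivial I := IsSimpleModule.nontrivial A I
    let ι : AdjoinRoot (minpoly k α) →ₐ[k] Module.End A I := L.val.comp e3.toAlgHom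
    exact splits_of_embedding ι (by rw [hsq, hfr])

end Groth.Agent.Lead.CSA
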