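import Mathlib
import Groth.Agent.Lib.Lead.CSA5

namespace Groth.Agent.Lead.CSA

open Module MulOpposite Matrix.Module

section colmod

variable {k : Type*} [Field k] {D : Type*} [DivisionRing D] [Algebra k D] {n : ℕ}

instance smulCommClass_col : SMulCommClass (Matrix (Fin n) (Fin n) D) k (Fin n → D) where
  smul_comm A c v := by
    ext i
    simp only [Matrix.Module.smul_apply, Pi.smul_apply, Finset.smul_sum, smul_eq_mul,
      mul_smul_comm]

variable [NeZero n]

theorem isSimpleModule_col : IsSimpleModule (Matrix (Fin n) (Fin n) D) (Fin n → D) := by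
  rw [isSimpleModule_iff_toSpanSingleton_surjective]
  refine ⟨inferInstance, ?_⟩
  intro v hv w
  obtain ⟨j, hj⟩ : ∃ j, v j ≠ 0 := by
    by_contra h
    apply hv
    funext j
    by_contra hj
    exact h ⟨j, hj⟩
  refine ⟨∑ i, Matrix.single i j (w i * (v j)⁻¹), ?_⟩
  show (∑ i, Matrix.single i j (w i * (v j)⁻¹)) • v = w
  rw [Finset.sum_smul]
  simp only [single_smul, smul_eq_mul, inv_mul_cancel_right₀ hj]
  exact Finset.univ_sum_single w

/-- right multiplication on column vectors -/
def colRight : Dᵐᵒᵖ →ₐ[k] Module.End (Matrix (Fin n) (Fin n) D) (Fin n → D) where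
  toFun d :=
    { toFun := fun v i => v i * d.unop
      map_add' := fun v w => by ext i; simp [add_mul]
      map_smul' := fun A v => by
        ext i
        simp only [Matrix.Module.smul_apply, smul_eq_mul, RingHom.id_apply, Finset.sum_mul,
          mul_assoc] }
  map_one' := by ext v i; simp
  map_mul' d d' := by ext v i; simp [mul_assoc]
  map_zero' := by ext v i; simp
  map_add' d d' := by ext v i; simp [mul_add]
  commutes' c := by
    ext v i
    simp [Algebra.algebraMap_eq_smul_one]

omit [NeZero n] in
theorem colRight_apply (d : Dᵐᵒᵖ) (v : Fin n → D) (i : Fin n) :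
    colRight (k := k) d v i = v i * d.unop := rfl

theorem colRight_bijective : Function.Bijective (colRight (k := k) (D := D) (n := n)) := by
  constructor
  · exact RingHom.injective (colRight (k := k) (D := D) (n := n)).toRingHom
  · intro f
    refine ⟨op (f (Pi.single 0 1) 0), ?_⟩
    ext v i
    rw [colRight_apply, unop_op]
    have h0 : f (Pi.single 0 1) = Pi.single 0 (f (Pi.single 0 1) 0) := by
      have h1 : (Matrix.single (0 : Fin n) (0 : Fin n) (1 : D)) • (Pi.single 0 1 : Fin n → D) =
          Pi.single 0 1 := by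
        rw [single_smul]; simp
      have h2 := f.map_smul (Matrix.single (0 : Fin n) (0 : Fin n) (1 : D)) (Pi.single 0 1)
      rw [h1, single_smul] at h2
      rw [h2]; simp
    have hv : v = (∑ i, Matrix.single i (0 : Fin n) (v i)) • (Pi.single 0 1 : Fin n → D) := by
      rw [Finset.sum_smul]
      simp only [single_smul, smul_eq_mul, Pi.single_eq_same, mul_one]
      exact (Finset.univ_sum_single v).symm
    conv_rhs => rw [hv]
    rw [f.map_smul, h0, Finset.sum_smul]
    simp only [single_smul, smul_eq_mul, Pi.single_eq_same]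
    rw [Finset.sum_apply]
    simp [Pi.single_apply]

end colmod


section pull

variable {k : Type*} [Field k] {R R' : Type*} [Ring R] [Ring R'] [Algebra k R] [Algebra k R']

/-- `W` regarded as an `R`-module through `e : R ≃ R'` -/
def Pull (_e : R ≃ₐ[k] R') (W : Type*) : Type _ := W

variable (e : R ≃ₐ[k] R') (W : Type*) [AddCommGroup W] [Module R' W] [Module k W]
  [IsScalarTower k R' W]

instance : AddCommGroup (Pull e W) := inferInstanceAs (AddCommGroup W)
instance : Module k (Pull e W) := inferInstanceAs (Module k W)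
instance : Module R (Pull e W) := Module.compHom W (e : R →+* R')

omit [Module k W] [IsScalarTower k R' W] in
theorem Pull.smul_def (r : R) (w : Pull e W) : r • w = ((e r • (show W from w) : W)) := rfl

instance : IsScalarTower k R (Pull e W) where
  smul_assoc c r w := by
    rw [Pull.smul_def, Pull.smul_def, map_smul]
    exact smul_assoc c (e r) (show W from w)

omit [Module k W] [IsScalarTower k R' W] in
theorem Pull.smul_symm (r' : R') (w : Pull e W) :
    (e.symm r') • w = @id (Pull e W) (r' • @id W w) := by
  show e (e.symm r') • @id W w = r' • @id W w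
  rw [e.apply_symm_apply]

omit [Module k W] [IsScalarTower k R' W] in
theorem isSimpleModule_pull [IsSimpleModule R' W] : IsSimpleModule R (Pull e W) := by
  have h := (isSimpleModule_iff_toSpanSingleton_surjective (R := R') (M := W)).mp inferInstance
  rw [isSimpleModule_iff_toSpanSingleton_surjective]
  refine ⟨h.1, ?_⟩
  intro x hx y
  obtain ⟨r', hr'⟩ := h.2 x hx y
  refine ⟨e.symm r', ?_⟩
  show e (e.symm r') • (show W from x) = y
  rw [e.apply_symm_apply]
  exact hr'

/-- endomorphisms over `R` and over `R'` agree -/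
def endPull : Module.End R (Pull e W) ≃ₐ[k] Module.End R' W where
  toFun f :=
    { toFun := fun w => f w
      map_add' := fun a b => f.map_add a b
      map_smul' := fun r' w => by
        have h := f.map_smul (e.symm r') (@id (Pull e W) w)
        have h1 := Pull.smul_symm e W r' (@id (Pull e W) w)
        have h2 := Pull.smul_symm e W r' (f (@id (Pull e W) w))
        rw [h1, h2] at h
        exact h }
  invFun g :=
    { toFun := fun w => g w
      map_add' := fun a b => g.map_add a b
      map_smul' := fun r w => g.map_smul (e r) w }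
  left_inv f := rfl
  right_inv g := rfl
  map_mul' f g := rfl
  map_add' f g := rfl
  commutes' c := rfl

end pull

section unique

variable {k : Type*} [Field k] {R : Type*} [Ring R] [Algebra k R] [IsSimpleRing R]
  [IsArtinianRing R]

theorem nonempty_linearEquiv_of_simple (V V' : Type*) [AddCommGroup V] [AddCommGroup V']
    [Module R V] [Module R V'] [IsSimpleModule R V] [IsSimpleModule R V'] :
    Nonempty (V ≃ₗ[R] V') := by
  have h2 := IsSimpleRing.isIsotypic R (V × V')
  let m₁ : Submodule R (V × V') := LinearMap.range (LinearMap.inl R V V')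
  let m₂ : Submodule R (V × V') := LinearMap.range (LinearMap.inr R V V')
  have e₁ : V ≃ₗ[R] m₁ := LinearEquiv.ofInjective _ LinearMap.inl_injective
  have e₂ : V' ≃ₗ[R] m₂ := LinearEquiv.ofInjective _ LinearMap.inr_injective
  have : IsSimpleModule R m₁ := IsSimpleModule.congr e₁.symm
  have : IsSimpleModule R m₂ := IsSimpleModule.congr e₂.symm
  obtain ⟨f⟩ := h2 m₂ m₁
  exact ⟨e₁.trans (f.trans e₂.symm)⟩

end unique

section main

universe u v w

theorem matrix_equiv_imp_equiv (k : Type u) [Field k]
    (D : Type v) [DivisionRing D] [Algebra k D]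
    (D' : Type w) [DivisionRing D'] [Algebra k D'] [FiniteDimensional k D]
    (n m : ℕ) (hn : n ≠ 0) (hm : m ≠ 0)
    (e : Matrix (Fin n) (Fin n) D ≃ₐ[k] Matrix (Fin m) (Fin m) D') :
    Nonempty (D ≃ₐ[k] D') := by
  have : NeZero n := ⟨hn⟩
  have : NeZero m := ⟨hm⟩
  have : IsArtinianRing (Matrix (Fin n) (Fin n) D) := IsArtinianRing.of_finite k _
  have hs1 : IsSimpleModule (Matrix (Fin n) (Fin n) D) (Fin n → D) := isSimpleModule_col
  have hs2' : IsSimpleModule (Matrix (Fin m) (Fin m) D') (Fin m → D') := isSimpleModule_col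
  have hs2 : IsSimpleModule (Matrix (Fin n) (Fin n) D) (Pull e (Fin m → D')) :=
    isSimpleModule_pull e _
  obtain ⟨g⟩ := nonempty_linearEquiv_of_simple (R := Matrix (Fin n) (Fin n) D)
    (Fin n → D) (Pull e (Fin m → D'))
  let a1 : Dᵐᵒᵖ ≃ₐ[k] Module.End (Matrix (Fin n) (Fin n) D) (Fin n → D) :=
    AlgEquiv.ofBijective colRight colRight_bijective
  let a2 : D'ᵐᵒᵖ ≃ₐ[k] Module.End (Matrix (Fin m) (Fin m) D') (Fin m → D') :=
    AlgEquiv.ofBijective colRight colRight_bijective
  let a3 : Dᵐᵒᵖ ≃ₐ[k] D'ᵐᵒᵖ :=
    (a1.trans (g.conjAlgEquiv k)).trans ((endPull e (Fin m → D')).trans a2.symm)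
  exact ⟨AlgEquiv.op.symm a3⟩

end main

end Groth.Agent.Lead.CSA
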