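import Mathlib
import Groth.Agent.Lib.Lead.CSA15
import Groth.Agent.Lib.Lead.CSA16

namespace Groth.Agent.Lead.CSA

open TensorProduct Module MulOpposite

/-- base change commutes with matrices -/
noncomputable def tensorMatrix (k K B : Type*) [Field k] [Field K] [Algebra k K] [Ring B]
    [Algebra k B] (q : ℕ) :
    K ⊗[k] Matrix (Fin q) (Fin q) B ≃ₐ[K] Matrix (Fin q) (Fin q) (K ⊗[k] B) :=
  ((Algebra.TensorProduct.congr (Matrix.uniqueAlgEquiv (m := Unit) (R := K) (A := K)).symm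
      (AlgEquiv.refl (R := k) (A₁ := Matrix (Fin q) (Fin q) B))).trans
    (Matrix.kroneckerTMulAlgEquiv Unit (Fin q) k K K B)).trans
    (Matrix.reindexAlgEquiv K _ (Equiv.punitProd (Fin q)))

universe u v

theorem splits_of_matrix_splits (k : Type u) [Field k] (K : Type u) [Field K] [Algebra k K]
    (A : Type u) [Ring A] [Algebra k A] [Algebra.IsCentral k A] [IsSimpleRing A]
    [FiniteDimensional k A] (p N : ℕ) (hp : p ≠ 0) (hN : N ≠ 0)
    (e : K ⊗[k] Matrix (Fin p) (Fin p) A ≃ₐ[K] Matrix (Fin N) (Fin N) K) :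
    ∃ r : ℕ, r ≠ 0 ∧ Nonempty (K ⊗[k] A ≃ₐ[K] Matrix (Fin r) (Fin r) K) := by
  have hs : IsSimpleRing (K ⊗[k] A) := isSimpleRing_tensor
  have : IsArtinianRing (K ⊗[k] A) := IsArtinianRing.of_finite K _
  obtain ⟨r, hr, Δ, _, _, _, ⟨w⟩⟩ :=
    IsSimpleRing.exists_algEquiv_matrix_divisionRing_finite K (K ⊗[k] A)
  let c1 : Matrix (Fin p) (Fin p) (K ⊗[k] A) ≃ₐ[K] Matrix (Fin N) (Fin N) K :=
    (tensorMatrix k K A p).symm.trans e
  let c2 : Matrix (Fin p) (Fin p) (Matrix (Fin r) (Fin r) Δ) ≃ₐ[K] Matrix (Fin N) (Fin N) K :=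
    (w.mapMatrix (m := Fin p)).symm.trans c1
  let c3 : Matrix (Fin p × Fin r) (Fin p × Fin r) Δ ≃ₐ[K] Matrix (Fin N) (Fin N) K :=
    (Matrix.compAlgEquiv (Fin p) (Fin r) Δ K).symm.trans c2
  let c4 : Matrix (Fin (p * r)) (Fin (p * r)) Δ ≃ₐ[K] Matrix (Fin N) (Fin N) K :=
    (Matrix.reindexAlgEquiv K Δ finProdFinEquiv).symm.trans c3
  obtain ⟨d⟩ := matrix_equiv_imp_equiv K Δ K (p * r) N
    (Nat.mul_ne_zero hp (NeZero.ne r)) hN c4
  exact ⟨r, NeZero.ne r, ⟨w.trans (d.mapMatrix (m := Fin r))⟩⟩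


theorem splits_of_brauer (k : Type u) [Field k] (K : Type u) [Field K] [Algebra k K]
    (A : Type u) [Ring A] [Algebra k A] [Algebra.IsCentral k A] [IsSimpleRing A]
    [FiniteDimensional k A] (B : Type u) [Ring B] [Algebra k B]
    (p q : ℕ) (hp : p ≠ 0) (hq : q ≠ 0)
    (iso : Matrix (Fin p) (Fin p) A ≃ₐ[k] Matrix (Fin q) (Fin q) B)
    (hB : ∃ n : ℕ, n ≠ 0 ∧ Nonempty (K ⊗[k] B ≃ₐ[K] Matrix (Fin n) (Fin n) K)) :
    ∃ r : ℕ, r ≠ 0 ∧ Nonempty (K ⊗[k] A ≃ₐ[K] Matrix (Fin r) (Fin r) K) := by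
  obtain ⟨n, hn, ⟨s⟩⟩ := hB
  let c1 : K ⊗[k] Matrix (Fin p) (Fin p) A ≃ₐ[K] K ⊗[k] Matrix (Fin q) (Fin q) B :=
    Algebra.TensorProduct.congr AlgEquiv.refl iso
  let c2 : K ⊗[k] Matrix (Fin p) (Fin p) A ≃ₐ[K] Matrix (Fin q) (Fin q) (K ⊗[k] B) :=
    c1.trans (tensorMatrix k K B q)
  let c3 : K ⊗[k] Matrix (Fin p) (Fin p) A ≃ₐ[K]
      Matrix (Fin q) (Fin q) (Matrix (Fin n) (Fin n) K) :=
    c2.trans (s.mapMatrix (m := Fin q))
  let c4 : K ⊗[k] Matrix (Fin p) (Fin p) A ≃ₐ[K] Matrix (Fin q × Fin n) (Fin q × Fin n) K :=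
    c3.trans (Matrix.compAlgEquiv (Fin q) (Fin n) K K)
  let c5 : K ⊗[k] Matrix (Fin p) (Fin p) A ≃ₐ[K] Matrix (Fin (q * n)) (Fin (q * n)) K :=
    c4.trans (Matrix.reindexAlgEquiv K K finProdFinEquiv)
  exact splits_of_matrix_splits k K A p (q * n) hp (Nat.mul_ne_zero hq hn) c5

theorem splits_of_subfield (k : Type u) [Field k] (K : Type u) [Field K] [Algebra k K]
    [FiniteDimensional k K]
    (B : Type u) [Ring B] [Algebra k B] [Algebra.IsCentral k B] [IsSimpleRing B]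
    [FiniteDimensional k B] (ι : K →ₐ[k] B) (h : finrank k B = (finrank k K) ^ 2) :
    ∃ n : ℕ, n ≠ 0 ∧ Nonempty (K ⊗[k] B ≃ₐ[K] Matrix (Fin n) (Fin n) K) := by
  let ι₀ : K →ₐ[k] Module.End B B :=
    (AlgEquiv.moduleEndSelf k).toAlgHom.comp
      (ι.toOpposite (fun x y => by
        show ι x * ι y = ι y * ι x
        rw [← map_mul, ← map_mul, mul_comm]))
  have h0 : finrank k (Module.End B B) = (finrank k K) ^ 2 := by
    rw [← h, ← LinearEquiv.finrank_eq (AlgEquiv.moduleEndSelf (A := B) k).toLinearEquiv]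
    exact finrank_op
  exact splits_of_embedding (A := B) (M := B) ι₀ h0

end Groth.Agent.Lead.CSA
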