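import Mathlib
import Groth.Agent.Lib.Lead.CSA17

namespace Groth.Agent.Lead.CSA

open TensorProduct Module MulOpposite

section splitmod

variable {k : Type*} [Field k] {A : Type*} [Ring A] [Algebra k A]
  {K : Type*} [Field K] [Algebra k K]

/-- the action of `A` on column vectors coming from a splitting -/
noncomputable def splitHomR {n : ℕ} (e : K ⊗[k] A ≃ₐ[K] Matrix (Fin n) (Fin n) K) :
    A →ₐ[k] Module.End K (Fin n → K) :=
  (((Matrix.toLinAlgEquiv' (R := K) (n := Fin n)).restrictScalars k).toAlgHom.comp
    (e.restrictScalars k).toAlgHom).comp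
    (Algebra.TensorProduct.includeRight : A →ₐ[k] K ⊗[k] A)

/-- column vectors as an `A`-module through a splitting -/
def SplitModR {n : ℕ} (_e : K ⊗[k] A ≃ₐ[K] Matrix (Fin n) (Fin n) K) : Type _ := Fin n → K

namespace SplitModR

variable {n : ℕ} (e : K ⊗[k] A ≃ₐ[K] Matrix (Fin n) (Fin n) K)

instance : AddCommGroup (SplitModR e) := inferInstanceAs (AddCommGroup (Fin n → K))
instance : Module K (SplitModR e) := inferInstanceAs (Module K (Fin n → K))
instance : Module k (SplitModR e) := inferInstanceAs (Module k (Fin n → K))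
instance : IsScalarTower k K (SplitModR e) :=
  inferInstanceAs (IsScalarTower k K (Fin n → K))
noncomputable instance : Module A (SplitModR e) :=
  Module.compHom (Fin n → K) (splitHomR e).toRingHom

theorem smul_def (x : A) (v : SplitModR e) : x • v = (splitHomR e x) v := rfl

instance : IsScalarTower k A (SplitModR e) where
  smul_assoc c x v := by
    rw [smul_def, smul_def, map_smul]
    rfl

instance : SMulCommClass A K (SplitModR e) where
  smul_comm x c v := by
    rw [smul_def, smul_def]
    exact ((splitHomR e x).map_smul c v)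

instance : SMulCommClass K A (SplitModR e) := SMulCommClass.symm _ _ _

theorem finrank_k [FiniteDimensional k K] : finrank k (SplitModR e) = finrank k K * n := by
  have h := Module.finrank_mul_finrank k K (SplitModR e)
  rw [← h]
  congr 1
  show finrank K (Fin n → K) = n
  simp

instance [FiniteDimensional k K] : FiniteDimensional k (SplitModR e) :=
  inferInstanceAs (FiniteDimensional k (Fin n → K))

end SplitModR

end splitmod


universe u

/-- data produced from a splitting: a central simple algebra containing `K`, Brauer equivalent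
to `A`, of dimension `[K:k]^2`. -/
theorem exists_of_splits (k : Type u) [Field k] (K : Type u) [Field K] [Algebra k K]
    [FiniteDimensional k K]
    (A : Type u) [Ring A] [Algebra k A] [Algebra.IsCentral k A] [IsSimpleRing A]
    [FiniteDimensional k A] (n : ℕ) (hn : n ≠ 0)
    (e : K ⊗[k] A ≃ₐ[K] Matrix (Fin n) (Fin n) K) :
    ∃ (B : Type u) (_ : Ring B) (_ : Algebra k B) (_ : Algebra.IsCentral k B)
      (_ : IsSimpleRing B) (_ : FiniteDimensional k B) (_ : K →ₐ[k] B),
      finrank k B = (finrank k K) ^ 2 ∧
      ∃ s r : ℕ, s ≠ 0 ∧ r ≠ 0 ∧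
        Nonempty (Matrix (Fin s) (Fin s) A ≃ₐ[k] Matrix (Fin r) (Fin r) B) := by
  classical
  have : NeZero n := ⟨hn⟩
  have : IsArtinianRing A := IsArtinianRing.of_finite k A
  obtain ⟨r, hr, I, hI, ⟨w⟩⟩ := IsSimpleRing.exists_algEquiv_matrix_end_mulOpposite k A
  have hfinΔ : FiniteDimensional k (Module.End A I) := finite_end_of_finite
  have hcenΔ : Algebra.IsCentral k (Module.End A I) := isCentral_of_matrix_equiv w
  have : Module.Finite A (SplitModR e) := Module.Finite.of_restrictScalars_finite k A _
  obtain ⟨s, ⟨eM⟩⟩ := (isIsotypicOfType_of_simple I (SplitModR e)).linearEquiv_fun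
  have hs : s ≠ 0 := by
    rintro rfl
    have : Nontrivial (SplitModR e) := inferInstanceAs (Nontrivial (Fin n → K))
    have : Subsingleton (SplitModR e) := eM.toEquiv.subsingleton
    exact not_subsingleton (SplitModR e) this
  have : NeZero s := ⟨hs⟩
  let eV : Module.End A (SplitModR e) ≃ₐ[k] Matrix (Fin s) (Fin s) (Module.End A I) :=
    (eM.conjAlgEquiv k).trans (endVecAlgEquivMatrixEnd (Fin s) k A I)
  have hcenE : Algebra.IsCentral k (Module.End A (SplitModR e)) :=
    Algebra.IsCentral.of_algEquiv k _ _ eV.symm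
  have hsimE : IsSimpleRing (Module.End A (SplitModR e)) :=
    IsSimpleRing.of_ringEquiv eV.symm.toRingEquiv inferInstance
  have hfinE : FiniteDimensional k (Module.End A (SplitModR e)) := finite_end_of_finite
  let ι' : K →ₐ[k] Module.End A (SplitModR e) := Algebra.lsmul k A (SplitModR e)
  let ι : K →ₐ[k] (Module.End A (SplitModR e))ᵐᵒᵖ :=
    ι'.toOpposite (fun x y => by
      show ι' x * ι' y = ι' y * ι' x
      rw [← map_mul, ← map_mul, mul_comm])
  refine ⟨(Module.End A (SplitModR e))ᵐᵒᵖ, inferInstance, inferInstance, inferInstance,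
    inferInstance, inferInstance, ι, ?_, s, r, hs, NeZero.ne r, ⟨?_⟩⟩
  · -- dimension
    have h1 : (finrank k (SplitModR e)) ^ 2 =
        finrank k A * finrank k (Module.End A (SplitModR e)) :=
      finrank_sq_eq (k := k) (R := A) (M := SplitModR e)
    have h2 : finrank K (K ⊗[k] A) = finrank k A := Module.finrank_baseChange
    have h3 : finrank K (K ⊗[k] A) = n * n := by
      rw [LinearEquiv.finrank_eq e.toLinearEquiv, Module.finrank_matrix]
      simp
    rw [SplitModR.finrank_k, ← h2, h3, mul_pow, pow_two n, mul_comm] at h1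
    have hpos : 0 < n * n := Nat.mul_pos (Nat.pos_of_ne_zero hn) (Nat.pos_of_ne_zero hn)
    have h4 := Nat.eq_of_mul_eq_mul_left hpos h1
    rw [finrank_op, ← h4]
  · let bB : (Module.End A (SplitModR e))ᵐᵒᵖ ≃ₐ[k]
        Matrix (Fin s) (Fin s) (Module.End A I)ᵐᵒᵖ :=
      (AlgEquiv.op eV).trans (AlgEquiv.mopMatrix).symm
    exact (w.mapMatrix (m := Fin s)).trans <|
      (Matrix.compAlgEquiv (Fin s) (Fin r) _ k).trans <|
      (Matrix.reindexAlgEquiv k _ (Equiv.prodComm (Fin s) (Fin r))).trans <|
      (Matrix.compAlgEquiv (Fin r) (Fin s) _ k).symm.trans <|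
      (bB.symm.mapMatrix (m := Fin r))

end Groth.Agent.Lead.CSA
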