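import Mathlib
import Groth.Agent.Lib.Lead.CSA18
import Groth.Agent.Lib.Helper6.TPow

namespace Groth.Agent.Lead.CSA

open TensorProduct Module MulOpposite

universe u v w w'

/-- `K` splits the `k`-algebra `X` -/
def KS (k : Type u) [Field k] (K : Type v) [Field K] [Algebra k K] (X : Type w) [Ring X]
    [Algebra k X] : Prop :=
  ∃ n : ℕ, n ≠ 0 ∧ Nonempty (K ⊗[k] X ≃ₐ[K] Matrix (Fin n) (Fin n) K)

section basic

variable {k : Type u} [Field k] {K : Type v} [Field K] [Algebra k K]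
  {X : Type w} [Ring X] [Algebra k X] {Y : Type w'} [Ring Y] [Algebra k Y]

theorem KS.congr (e : X ≃ₐ[k] Y) (h : KS k K X) : KS k K Y := by
  obtain ⟨n, hn, ⟨s⟩⟩ := h
  exact ⟨n, hn, ⟨(Algebra.TensorProduct.congr (AlgEquiv.refl (R := K) (A₁ := K)) e.symm).trans s⟩⟩

/-- base change commutes with matrices (polymorphic version) -/
noncomputable def tensorMatrix' (k : Type u) [Field k] (K : Type v) [Field K] [Algebra k K]
    (B : Type w) [Ring B] [Algebra k B] (q : ℕ) :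
    K ⊗[k] Matrix (Fin q) (Fin q) B ≃ₐ[K] Matrix (Fin q) (Fin q) (K ⊗[k] B) :=
  ((Algebra.TensorProduct.congr (Matrix.uniqueAlgEquiv (m := Unit) (R := K) (A := K)).symm
      (AlgEquiv.refl (R := k) (A₁ := Matrix (Fin q) (Fin q) B))).trans
    (Matrix.kroneckerTMulAlgEquiv Unit (Fin q) k K K B)).trans
    (Matrix.reindexAlgEquiv K _ (Equiv.punitProd (Fin q)))

theorem KS.matrix (h : KS k K X) (q : ℕ) (hq : q ≠ 0) :
    KS k K (Matrix (Fin q) (Fin q) X) := by
  obtain ⟨n, hn, ⟨s⟩⟩ := h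
  refine ⟨q * n, Nat.mul_ne_zero hq hn, ⟨?_⟩⟩
  exact (((tensorMatrix' k K X q).trans (s.mapMatrix (m := Fin q))).trans
    (Matrix.compAlgEquiv (Fin q) (Fin n) K K)).trans
    (Matrix.reindexAlgEquiv K K finProdFinEquiv)

end basic

section ofMatrix

variable {k : Type u} [Field k] {K : Type v} [Field K] [Algebra k K]
  {A : Type w} [Ring A] [Algebra k A] [Algebra.IsCentral k A] [IsSimpleRing A]
  [FiniteDimensional k A]

theorem KS.of_matrix (p : ℕ) (hp : p ≠ 0) (h : KS k K (Matrix (Fin p) (Fin p) A)) :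
    KS k K A := by
  obtain ⟨N, hN, ⟨e⟩⟩ := h
  have hs : IsSimpleRing (K ⊗[k] A) := isSimpleRing_tensor
  have : IsArtinianRing (K ⊗[k] A) := IsArtinianRing.of_finite K _
  obtain ⟨r, hr, Δ, _, _, _, ⟨w⟩⟩ :=
    IsSimpleRing.exists_algEquiv_matrix_divisionRing_finite K (K ⊗[k] A)
  let c1 : Matrix (Fin p) (Fin p) (K ⊗[k] A) ≃ₐ[K] Matrix (Fin N) (Fin N) K :=
    (tensorMatrix' k K A p).symm.trans e
  let c2 : Matrix (Fin p) (Fin p) (Matrix (Fin r) (Fin r) Δ) ≃ₐ[K] Matrix (Fin N) (Fin N) K :=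
    (w.mapMatrix (m := Fin p)).symm.trans c1
  let c3 : Matrix (Fin p × Fin r) (Fin p × Fin r) Δ ≃ₐ[K] Matrix (Fin N) (Fin N) K :=
    (Matrix.compAlgEquiv (Fin p) (Fin r) Δ K).symm.trans c2
  let c4 : Matrix (Fin (p * r)) (Fin (p * r)) Δ ≃ₐ[K] Matrix (Fin N) (Fin N) K :=
    (Matrix.reindexAlgEquiv K Δ finProdFinEquiv).symm.trans c3
  obtain ⟨d⟩ := matrix_equiv_imp_equiv K Δ K (p * r) N
    (Nat.mul_ne_zero hp (NeZero.ne r)) hN c4
  exact ⟨r, NeZero.ne r, ⟨w.trans (d.mapMatrix (m := Fin r))⟩⟩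

theorem KS.of_brauer {B : Type w'} [Ring B] [Algebra k B] (p q : ℕ) (hp : p ≠ 0) (hq : q ≠ 0)
    (iso : Matrix (Fin p) (Fin p) A ≃ₐ[k] Matrix (Fin q) (Fin q) B) (hB : KS k K B) :
    KS k K A :=
  KS.of_matrix p hp ((hB.matrix q hq).congr iso.symm)

end ofMatrix

section tensor

variable {k : Type u} [Field k] {K : Type v} [Field K] [Algebra k K]
  {X : Type w} [Ring X] [Algebra k X] {Y : Type w'} [Ring Y] [Algebra k Y]

/-- matrices over `K` tensored with `Y` -/
noncomputable def matrixTensor' (k : Type u) [Field k] (K : Type v) [Field K] [Algebra k K]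
    (Y : Type w') [Ring Y] [Algebra k Y] (n : ℕ) :
    Matrix (Fin n) (Fin n) K ⊗[k] Y ≃ₐ[K] Matrix (Fin n) (Fin n) (K ⊗[k] Y) :=
  ((Algebra.TensorProduct.congr (AlgEquiv.refl (R := K) (A₁ := Matrix (Fin n) (Fin n) K))
      (Matrix.uniqueAlgEquiv (m := Unit) (R := k) (A := Y)).symm).trans
    (Matrix.kroneckerTMulAlgEquiv (Fin n) Unit k K K Y)).trans
    (Matrix.reindexAlgEquiv K _ (Equiv.prodPUnit (Fin n)))

theorem KS.tensor (hX : KS k K X) (hY : KS k K Y) : KS k K (X ⊗[k] Y) := by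
  obtain ⟨n, hn, ⟨s⟩⟩ := hX
  obtain ⟨m, hm, ⟨t⟩⟩ := hY
  refine ⟨n * m, Nat.mul_ne_zero hn hm, ⟨?_⟩⟩
  exact (((((Algebra.TensorProduct.assoc k k K K X Y).symm.trans
    (Algebra.TensorProduct.congr s (AlgEquiv.refl (R := k) (A₁ := Y)))).trans
    (matrixTensor' k K Y n)).trans (t.mapMatrix (m := Fin n))).trans
    (Matrix.compAlgEquiv (Fin n) (Fin m) K K)).trans
    (Matrix.reindexAlgEquiv K K finProdFinEquiv)

end tensor

section tpow

variable {k : Type u} [Field k] {K : Type v} [Field K] [Algebra k K]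

theorem KS.self : KS k K k := by
  refine ⟨1, one_ne_zero, ⟨?_⟩⟩
  exact ((Algebra.TensorProduct.rid k K K).trans
    (Matrix.uniqueAlgEquiv (m := Unit) (R := K) (A := K)).symm).trans
    (Matrix.reindexAlgEquiv K K (Equiv.ofUnique Unit (Fin 1)))

theorem KS.of_finrank_one {X : Type w} [Ring X] [Algebra k X] (h : finrank k X = 1) :
    KS k K X := by
  have : Nontrivial X := Module.nontrivial_of_finrank_pos (R := k) (by omega)
  have h1 : (⊥ : Subalgebra k X) = ⊤ := Subalgebra.bot_eq_top_of_finrank_eq_one h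
  let e : X ≃ₐ[k] k :=
    ((Subalgebra.topEquiv (R := k) (A := X)).symm.trans (Subalgebra.equivOfEq _ _ h1.symm)).trans
      (Algebra.botEquiv k X)
  exact KS.self.congr e.symm

open Groth.Agent.Helper6.TPow in
theorem KS.tpow {A : Type w} [Ring A] [Algebra k A] (h : KS k K A) (i : ℕ) :
    KS k K (T k A i) := by
  induction i with
  | zero =>
    apply KS.of_finrank_one
    rw [LinearEquiv.finrank_eq (PiTensorProduct.isEmptyEquiv (R := k) (s := fun _ : Fin 0 => A) (Fin 0))]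
    exact Module.finrank_self k
  | succ i ih =>
    exact (ih.tensor h).congr (succEquiv k A i).symm

end tpow

end Groth.Agent.Lead.CSA
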