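import Mathlib
import Groth.Agent.Lib.Lead.CSA19
import Groth.Agent.Lib.Helper6.MatTensor
import Groth.Agent.Lib.Lead.CSA13

namespace Groth.Agent.Lead.CSA

open TensorProduct Module MulOpposite
open Groth.Agent.Helper6.MatTensor

universe u v w w'

/-- `X` is split over `k` -/
def Sp (k : Type u) [Field k] (X : Type w) [Ring X] [Algebra k X] : Prop :=
  ∃ n : ℕ, n ≠ 0 ∧ Nonempty (X ≃ₐ[k] Matrix (Fin n) (Fin n) k)

theorem Sp_iff_KS (k : Type u) [Field k] (X : Type w) [Ring X] [Algebra k X] :
    KS k k X ↔ Sp k X := by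
  constructor
  · rintro ⟨n, hn, ⟨φ⟩⟩
    exact ⟨n, hn, ⟨(Algebra.TensorProduct.lid k X).symm.trans φ⟩⟩
  · rintro ⟨n, hn, ⟨φ⟩⟩
    exact ⟨n, hn, ⟨(Algebra.TensorProduct.lid k X).trans φ⟩⟩

theorem Sp_congr (k : Type u) [Field k] {X : Type w} [Ring X] [Algebra k X]
    {Y : Type w'} [Ring Y] [Algebra k Y] (e : X ≃ₐ[k] Y) : Sp k X ↔ Sp k Y := by
  constructor
  · rintro ⟨n, hn, ⟨φ⟩⟩
    exact ⟨n, hn, ⟨e.symm.trans φ⟩⟩
  · rintro ⟨n, hn, ⟨φ⟩⟩
    exact ⟨n, hn, ⟨e.trans φ⟩⟩

theorem Sp_tensor (k : Type u) [Field k] {X : Type w} [Ring X] [Algebra k X]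
    {Y : Type w'} [Ring Y] [Algebra k Y] (hX : Sp k X) (hY : Sp k Y) : Sp k (X ⊗[k] Y) := by
  obtain ⟨n, hn, ⟨φ⟩⟩ := hX
  obtain ⟨m, hm, ⟨ψ⟩⟩ := hY
  refine ⟨n * m, Nat.mul_ne_zero hn hm, ⟨?_⟩⟩
  exact (Algebra.TensorProduct.congr φ ψ).trans <|
    (matTensor k k (Matrix (Fin m) (Fin m) k) n).trans <|
    (AlgEquiv.mapMatrix (Algebra.TensorProduct.lid k (Matrix (Fin m) (Fin m) k))).trans
      (matMat k k n m)

theorem Sp_matrix (k : Type u) [Field k] (m : ℕ) (hm : m ≠ 0) : Sp k (Matrix (Fin m) (Fin m) k) :=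
  ⟨m, hm, ⟨AlgEquiv.refl⟩⟩

/-- `X ⊗ Xᵐᵒᵖ` is split for `X` central simple -/
theorem Sp_self_op (k : Type u) [Field k] (X : Type w) [Ring X] [Algebra k X]
    [Algebra.IsCentral k X] [IsSimpleRing X] [FiniteDimensional k X] : Sp k (X ⊗[k] Xᵐᵒᵖ) := by
  have hs : IsSimpleRing (X ⊗[k] Xᵐᵒᵖ) := isSimpleRing_tensor
  let f : X ⊗[k] Xᵐᵒᵖ →ₐ[k] Module.End k X := AlgHom.mulLeftRight k X
  have hinj : Function.Injective f := (f : X ⊗[k] Xᵐᵒᵖ →+* Module.End k X).injective
  have hfr : finrank k (X ⊗[k] Xᵐᵒᵖ) = finrank k (Module.End k X) := by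
    rw [Module.finrank_tensorProduct, finrank_op, Module.finrank_linearMap]
  have hsurj : Function.Surjective f :=
    (LinearMap.injective_iff_surjective_of_finrank_eq_finrank hfr (f := f.toLinearMap)).mp hinj
  let e1 : X ⊗[k] Xᵐᵒᵖ ≃ₐ[k] Module.End k X := AlgEquiv.ofBijective f ⟨hinj, hsurj⟩
  let b := Module.finBasis k X
  let e2 : Module.End k X ≃ₐ[k] Matrix (Fin (finrank k X)) (Fin (finrank k X)) k := algEquivMatrix b
  exact ⟨finrank k X, (Module.finrank_pos (R := k) (M := X)).ne', ⟨e1.trans e2⟩⟩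

section quat


variable {k : Type u} [Field k] {D : Type v} [DivisionRing D] [Algebra k D]

/-- two elements `1, x` with `x ∉ k` are linearly independent -/
theorem indep_one (x : D) (hx : x ∉ (algebraMap k D).range) (s t : k)
    (h : s • (1 : D) + t • x = 0) : s = 0 ∧ t = 0 := by
  have ht : t = 0 := by
    by_contra ht
    apply hx
    refine ⟨-(s / t), ?_⟩
    have : t • x = -(s • (1 : D)) := by rw [eq_neg_iff_add_eq_zero, add_comm]; exact h
    have h2 : x = t⁻¹ • (t • x) := by rw [smul_smul, inv_mul_cancel₀ ht, one_smul]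
    rw [h2, this, Algebra.algebraMap_eq_smul_one, smul_neg, smul_smul, neg_smul, div_eq_inv_mul]
  subst ht
  rw [zero_smul, add_zero] at h
  have : s = 0 := by
    by_contra hs
    have : (1 : D) = 0 := by
      have h2 : (1 : D) = s⁻¹ • (s • (1 : D)) := by rw [smul_smul, inv_mul_cancel₀ hs, one_smul]
      rw [h2, h, smul_zero]
    exact one_ne_zero this
  exact ⟨this, rfl⟩

theorem quat_of_div [Algebra.IsCentral k D] [FiniteDimensional k D] (h2 : (2 : k) ≠ 0)
    (h4 : finrank k D = 4) :
    ∃ a b : k, Nonempty (QuaternionAlgebra k a 0 b ≃ₐ[k] D) := by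
  classical
  obtain ⟨L, hcomm, hmax, -⟩ := exists_separable_maximal (k := k) (D := D)
  have hsq : finrank k D = finrank k L ^ 2 := finrank_eq_sq_of_maximal L hcomm hmax
  have hL2 : finrank k L = 2 := by
    rw [h4] at hsq
    have : finrank k L ^ 2 = 2 ^ 2 := by rw [← hsq]; norm_num
    exact Nat.pow_left_injective (by norm_num : (2 : ℕ) ≠ 0) this
  have hcent : Subalgebra.centralizer k (L : Set D) = L := centralizer_eq_of_maximal L hcomm hmax
  -- an element of L outside k
  obtain ⟨x, hxL, hxk⟩ : ∃ x ∈ L, x ∉ (algebraMap k D).range := by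
    by_contra h
    push Not at h
    have hle : L ≤ ⊥ := by
      intro y hy
      obtain ⟨c, hc⟩ := h y hy
      rw [Algebra.mem_bot]
      exact ⟨c, hc⟩
    have : L = ⊥ := le_antisymm hle bot_le
    rw [this, Subalgebra.finrank_bot] at hL2
    omega
  -- L = span {1, x}
  have hspan : ∀ (z : D), z ∉ (algebraMap k D).range → z ∈ L →
      L.toSubmodule = Submodule.span k (Set.range ![(1 : D), z]) := by
    intro z hzk hzL
    have hli : LinearIndependent k ![(1 : D), z] := by
      rw [LinearIndependent.pair_iff]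
      intro s t h
      exact indep_one z hzk s t h
    have hfr : finrank k (Submodule.span k (Set.range ![(1 : D), z])) = 2 := by
      rw [finrank_span_eq_card hli]; simp
    have hle : Submodule.span k (Set.range ![(1 : D), z]) ≤ L.toSubmodule := by
      rw [Submodule.span_le]
      rintro _ ⟨i, rfl⟩
      fin_cases i
      · exact L.one_mem
      · exact hzL
    exact (Submodule.eq_of_le_of_finrank_eq hle (by rw [hfr]; exact hL2.symm)).symm
  have hmemL : ∀ (z : D), z ∉ (algebraMap k D).range → z ∈ L →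
      ∀ w ∈ L, ∃ α β : k, w = α • (1 : D) + β • z := by
    intro z hzk hzL w hw
    have : w ∈ Submodule.span k (Set.range ![(1 : D), z]) := by
      rw [← hspan z hzk hzL]; exact hw
    have hr : Set.range ![(1 : D), z] = {1, z} := by
      ext y
      simp only [Set.mem_range, Set.mem_insert_iff, Set.mem_singleton_iff]
      constructor
      · rintro ⟨i, rfl⟩
        fin_cases i
        · left; rfl
        · right; rfl
      · rintro (rfl | rfl)
        · exact ⟨0, rfl⟩
        · exact ⟨1, rfl⟩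
    rw [hr, Submodule.mem_span_pair] at this
    obtain ⟨α, β, h⟩ := this
    exact ⟨α, β, h.symm⟩
  obtain ⟨q, p, hx2⟩ := hmemL x hxk hxL (x * x) (L.mul_mem hxL hxL)
  -- complete the square
  obtain ⟨c, hc⟩ : ∃ c : k, p = 2 * c := ⟨p / 2, by field_simp⟩
  subst hc
  obtain ⟨i, hi⟩ : ∃ i : D, i = x - c • (1 : D) := ⟨_, rfl⟩
  have hiL : i ∈ L := by rw [hi]; exact L.sub_mem hxL (L.smul_mem L.one_mem _)
  have hik : i ∉ (algebraMap k D).range := by
    rintro ⟨c', hc'⟩
    apply hxk
    refine ⟨c' + c, ?_⟩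
    rw [map_add, hc', hi, Algebra.algebraMap_eq_smul_one]
    abel
  obtain ⟨a, ha⟩ : ∃ a : k, a = q + c ^ 2 := ⟨_, rfl⟩
  have hii : i * i = a • (1 : D) := by
    rw [hi, sub_mul, mul_sub, mul_sub, hx2]
    simp only [smul_mul_assoc, mul_smul_comm, one_mul, mul_one, smul_smul]
    rw [ha]
    module
  -- centralizer of i is L
  have hci : ∀ y : D, i * y = y * i → y ∈ L := by
    intro y hy
    rw [← hcent, Subalgebra.mem_centralizer_iff]
    intro g hg
    obtain ⟨α, β, rfl⟩ := hmemL i hik hiL g hg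
    simp only [add_mul, mul_add, smul_mul_assoc, mul_smul_comm, one_mul, mul_one, hy]
  -- an element outside L
  obtain ⟨y, hy⟩ : ∃ y : D, y ∉ L := by
    by_contra h
    push Not at h
    have : L = ⊤ := eq_top_iff.mpr (fun y _ => h y)
    rw [this, (Subalgebra.topEquiv (R := k) (A := D)).toLinearEquiv.finrank_eq, h4] at hL2
    omega
  obtain ⟨j, hj⟩ : ∃ j : D, j = i * y - y * i := ⟨_, rfl⟩
  have hj0 : j ≠ 0 := by
    intro h
    apply hy
    apply hci
    rw [← sub_eq_zero, ← hj]; exact h
  have hij : i * j = -(j * i) := by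
    rw [hj, mul_sub, sub_mul, ← mul_assoc, hii, mul_assoc y i i, hii]
    simp only [smul_mul_assoc, mul_smul_comm, one_mul, mul_one, mul_assoc]
    abel
  have hi0 : i ≠ 0 := by
    rintro h
    apply hik
    exact ⟨0, by rw [map_zero, h]⟩
  have h2D : (2 : D) ≠ 0 := by
    have : (2 : D) = algebraMap k D 2 := by rw [map_ofNat]
    rw [this]
    exact (map_ne_zero _).mpr h2
  have hjL : j ∉ L := by
    intro h
    have h1 : i * j = j * i := hcomm i hiL j h
    rw [hij] at h1
    have : (2 : D) * (j * i) = 0 := by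
      rw [two_mul]; nth_rw 1 [← h1]; exact neg_add_cancel _
    rcases mul_eq_zero.mp this with h | h
    · exact h2D h
    · rcases mul_eq_zero.mp h with h | h
      · exact hj0 h
      · exact hi0 h
  -- j^2 in k
  have hjjL : j * j ∈ L := by
    apply hci
    rw [← mul_assoc, hij, neg_mul, mul_assoc, hij, mul_neg, neg_neg, mul_assoc]
  obtain ⟨b, β, hjj⟩ := hmemL i hik hiL (j * j) hjjL
  have hβ : β = 0 := by
    have h1 : j * (j * j) = (j * j) * j := by rw [mul_assoc]
    rw [hjj] at h1
    simp only [add_mul, mul_add, smul_mul_assoc, mul_smul_comm, one_mul, mul_one] at h1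
    have h3 : β • (j * i) = β • (i * j) := add_left_cancel h1
    rw [hij, smul_neg] at h3
    have h5 : (2 * β) • (j * i) = 0 := by
      rw [mul_smul, two_smul]
      nth_rw 2 [h3]
      exact add_neg_cancel _
    rcases smul_eq_zero.mp h5 with h | h
    · rcases mul_eq_zero.mp h with h | h
      · exact absurd h h2
      · exact h
    · rcases mul_eq_zero.mp h with h | h
      · exact absurd h hj0
      · exact absurd h hi0
  rw [hβ, zero_smul, add_zero] at hjj
  refine ⟨a, b, ?_⟩
  let B : QuaternionAlgebra.Basis D a 0 b :=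
    { i := i
      j := j
      k := i * j
      i_mul_i := by rw [hii, zero_smul, add_zero]
      j_mul_j := hjj
      i_mul_j := rfl
      j_mul_i := by rw [zero_smul, zero_sub, hij, neg_neg] }
  have hinj : Function.Injective B.liftHom := by
    rw [injective_iff_map_eq_zero]
    intro z hz
    have hz' : algebraMap k D z.re + z.imI • i + z.imJ • j + z.imK • (i * j) = 0 := hz
    set u : D := z.imJ • (1 : D) + z.imK • i with hu
    set w : D := z.re • (1 : D) + z.imI • i with hw
    have huL : u ∈ L := L.add_mem (L.smul_mem L.one_mem _) (L.smul_mem hiL _)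
    have hwL : w ∈ L := L.add_mem (L.smul_mem L.one_mem _) (L.smul_mem hiL _)
    have hwu : w + u * j = 0 := by
      rw [← hz', hu, hw, Algebra.algebraMap_eq_smul_one]
      simp only [add_mul, smul_mul_assoc, one_mul]
      abel
    have hu0 : u = 0 := by
      by_contra hu0
      apply hjL
      have : j = -(u⁻¹ * w) := by
        rw [eq_neg_iff_add_eq_zero, add_comm]
        have := congrArg (fun t => u⁻¹ * t) hwu
        simp only [mul_add, mul_zero, ← mul_assoc, inv_mul_cancel₀ hu0, one_mul] at this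
        exact this
      rw [this]
      exact L.neg_mem (L.mul_mem (inv_mem_subalgebra L huL) hwL)
    have hw0 : w = 0 := by rw [hu0, zero_mul, add_zero] at hwu; exact hwu
    obtain ⟨h1, h2'⟩ := indep_one i hik _ _ hu0
    obtain ⟨h3, h4''⟩ := indep_one i hik _ _ hw0
    ext <;> simp [h1, h2', h3, h4'']
  have hfr : finrank k (QuaternionAlgebra k a 0 b) = finrank k D := by
    rw [QuaternionAlgebra.finrank_eq_four, h4]
  have hsurj : Function.Surjective B.liftHom := by
    have := (LinearMap.injective_iff_surjective_of_finrank_eq_finrank hfr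
      (f := B.liftHom.toLinearMap)).mp hinj
    exact this
  exact ⟨AlgEquiv.ofBijective B.liftHom ⟨hinj, hsurj⟩⟩


end quat

end Groth.Agent.Lead.CSA

namespace Groth.Agent.Lead.CSA

theorem isCentral_of_matrix_equiv' {k : Type*} [Field k] {A : Type*} [Ring A] [Algebra k A]
    [Algebra.IsCentral k A] {Δ : Type*} [Ring Δ] [Algebra k Δ] {n : ℕ} [NeZero n]
    (e : A ≃ₐ[k] Matrix (Fin n) (Fin n) Δ) : Algebra.IsCentral k Δ := by
  constructor
  intro z hz
  rw [Subalgebra.mem_center_iff] at hz
  have hsc : ∀ N : Matrix (Fin n) (Fin n) Δ,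
      Matrix.scalar (Fin n) z * N = N * Matrix.scalar (Fin n) z := by
    intro N
    refine (Matrix.scalar_commute z (fun r' => ?_) N)
    show z * r' = r' * z
    rw [hz]
  have hw : e.symm (Matrix.scalar (Fin n) z) ∈ Subalgebra.center k A := by
    rw [Subalgebra.mem_center_iff]
    intro a
    apply e.injective
    rw [map_mul, map_mul, e.apply_symm_apply]
    exact (hsc (e a)).symm
  obtain ⟨c, hc⟩ := Algebra.IsCentral.out hw
  have h1 : Matrix.scalar (Fin n) z = algebraMap k _ c := by
    have := congrArg e hc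
    rw [e.apply_symm_apply] at this
    rw [← this]
    exact (e.commutes c)
  have h2 := congrFun (congrFun h1 0) 0
  rw [Matrix.algebraMap_matrix_apply] at h2
  simp only [Matrix.scalar_apply, Matrix.diagonal_apply_eq, if_true] at h2
  exact ⟨c, h2.symm⟩

end Groth.Agent.Lead.CSA
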