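import Mathlib
import Groth.Prelude.Def_GSzCSA
import Groth.Agent.Lib.Lead.CSA20
import Groth.Agent.Lib.Helper8.CSA2
import Groth.Agent.S14205

namespace Groth.Agent.Lead.CSA

open TensorProduct Module MulOpposite
open Groth.Agent.Helper6.TPow Groth.Agent.Helper6.MatTensor

universe u u' v w w'

section basechange

variable (k : Type u) [Field k] (F : Type u') [Field F] [Algebra k F] (A : Type v) [Ring A]
  [Algebra k A]

/-- noncommutative version of `Algebra.TensorProduct.cancelBaseChange` -/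
noncomputable def cancelBC (W : Type w) [Ring W] [Algebra k W] [Algebra F W] [IsScalarTower k F W]
    (Z : Type w') [Ring Z] [Algebra k Z] :
    W ⊗[F] (F ⊗[k] Z) ≃ₐ[F] W ⊗[k] Z :=
  AlgEquiv.symm <| AlgEquiv.ofLinearEquiv
    (TensorProduct.AlgebraTensorModule.cancelBaseChange k F F W Z).symm
    (by simp [Algebra.TensorProduct.one_def]) <|
      LinearMap.map_mul_of_map_mul_tmul (fun _ _ _ _ ↦ by simp)

/-- `(F ⊗ Y) ⊗_F (F ⊗ Z) ≃ F ⊗ (Y ⊗ Z)` -/
noncomputable def bcTensor (Y : Type w) [Ring Y] [Algebra k Y] (Z : Type w') [Ring Z] [Algebra k Z] :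
    (F ⊗[k] Y) ⊗[F] (F ⊗[k] Z) ≃ₐ[F] F ⊗[k] (Y ⊗[k] Z) :=
  (cancelBC k F (F ⊗[k] Y) Z).trans
    (Algebra.TensorProduct.assoc k k F F Y Z)

/-- base change commutes with tensor powers -/
theorem bcTPow : ∀ n : ℕ, 1 ≤ n → Nonempty (T F (F ⊗[k] A) n ≃ₐ[F] F ⊗[k] T k A n) := by
  intro n hn
  induction n, hn using Nat.le_induction with
  | base =>
    exact ⟨(oneEquiv F (F ⊗[k] A)).trans
      (Algebra.TensorProduct.congr AlgEquiv.refl (oneEquiv k A).symm)⟩
  | succ n hn ih =>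
    obtain ⟨e⟩ := ih
    exact ⟨((succEquiv F (F ⊗[k] A) n).trans
      (Algebra.TensorProduct.congr e AlgEquiv.refl)).trans
      ((bcTensor k F (T k A n) A).trans
        (Algebra.TensorProduct.congr AlgEquiv.refl (succEquiv k A n).symm))⟩

end basechange

section BE

variable (k : Type u) [Field k]

/-- Brauer equivalence -/
def BE (X : Type w) [Ring X] [Algebra k X] (Y : Type w') [Ring Y] [Algebra k Y] : Prop :=
  ∃ a b : ℕ, a ≠ 0 ∧ b ≠ 0 ∧ Nonempty (Matrix (Fin a) (Fin a) X ≃ₐ[k] Matrix (Fin b) (Fin b) Y)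

variable {k}
variable {X : Type w} [Ring X] [Algebra k X] {Y : Type w'} [Ring Y] [Algebra k Y]

theorem BE.of_equiv (e : X ≃ₐ[k] Y) : BE k X Y :=
  ⟨1, 1, one_ne_zero, one_ne_zero, ⟨e.mapMatrix⟩⟩

theorem BE.symm (h : BE k X Y) : BE k Y X := by
  obtain ⟨a, b, ha, hb, ⟨e⟩⟩ := h
  exact ⟨b, a, hb, ha, ⟨e.symm⟩⟩

theorem BE.congr_left {X₂ : Type*} [Ring X₂] [Algebra k X₂] (e : X ≃ₐ[k] X₂) (h : BE k X Y) :
    BE k X₂ Y := by
  obtain ⟨a, b, ha, hb, ⟨f⟩⟩ := h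
  exact ⟨a, b, ha, hb, ⟨(e.symm.mapMatrix (m := Fin a)).trans f⟩⟩

theorem BE.congr_right {Y₂ : Type*} [Ring Y₂] [Algebra k Y₂] (e : Y ≃ₐ[k] Y₂) (h : BE k X Y) :
    BE k X Y₂ := (h.symm.congr_left e).symm

/-- `M_a(X) ⊗ M_b(Y) ≃ M_{ab}(X ⊗ Y)` -/
noncomputable def matKron (k : Type u) [Field k] (X : Type w) [Ring X] [Algebra k X]
    (Y : Type w') [Ring Y] [Algebra k Y] (a b : ℕ) :
    Matrix (Fin a) (Fin a) X ⊗[k] Matrix (Fin b) (Fin b) Y ≃ₐ[k]
      Matrix (Fin (a * b)) (Fin (a * b)) (X ⊗[k] Y) :=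
  (Matrix.kroneckerTMulAlgEquiv (Fin a) (Fin b) k k X Y).trans
    (Matrix.reindexAlgEquiv k _ finProdFinEquiv)

theorem BE.tensor {X' : Type*} [Ring X'] [Algebra k X'] {Y' : Type*} [Ring Y'] [Algebra k Y']
    (h : BE k X Y) (h' : BE k X' Y') : BE k (X ⊗[k] X') (Y ⊗[k] Y') := by
  obtain ⟨a, b, ha, hb, ⟨f⟩⟩ := h
  obtain ⟨a', b', ha', hb', ⟨f'⟩⟩ := h'
  refine ⟨a * a', b * b', Nat.mul_ne_zero ha ha', Nat.mul_ne_zero hb hb', ⟨?_⟩⟩
  exact ((matKron k X X' a a').symm.trans (Algebra.TensorProduct.congr f f')).trans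
    (matKron k Y Y' b b')

theorem BE.tpow (h : BE k X Y) : ∀ n : ℕ, 1 ≤ n → BE k (T k X n) (T k Y n) := by
  intro n hn
  induction n, hn using Nat.le_induction with
  | base => exact (h.congr_left (oneEquiv k X).symm).congr_right (oneEquiv k Y).symm
  | succ n hn ih =>
    exact ((ih.tensor h).congr_left (succEquiv k X n).symm).congr_right (succEquiv k Y n).symm

theorem BE.sp [IsSimpleRing X] [FiniteDimensional k X] (h : BE k X Y) (hY : Sp k Y) : Sp k X := by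
  obtain ⟨a, b, ha, hb, ⟨f⟩⟩ := h
  obtain ⟨n, hn, ⟨g⟩⟩ := hY
  exact Groth.Agent.Helper6.SplitCancel.exists_split_of_matrix_split ha
    ((f.trans (g.mapMatrix (m := Fin b))).trans (matMat k k b n))

end BE

section coprime

variable (k : Type u) [Field k] (A : Type v) [Ring A] [Algebra k A]
    [Algebra.IsCentral k A] [IsSimpleRing A] [FiniteDimensional k A]

theorem Sp_of_coprime (a b : ℕ) (ha : 1 ≤ a) (hb : 1 ≤ b) (hab : Nat.Coprime a b)
    (hsa : Sp k (T k A a)) (hsb : Sp k (T k A b)) : Sp k A := by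
  classical
  have hex : ∃ n, 0 < n ∧ Curves.Splits k (CSAGal.tpow k A n) k :=
    ⟨a, ha, (Groth.Agent.S14205.splits_iff k _).mpr hsa⟩
  let p := Nat.find hex
  have hp : CSAGal.IsPeriod k A p := by
    refine ⟨(Nat.find_spec hex).1, (Nat.find_spec hex).2, ?_⟩
    intro e' he' hlt hs
    exact Nat.find_min hex hlt ⟨he', hs⟩
  have h1 := (Groth.Agent.S14205.key k A p hp a ha).mp hsa
  have h2 := (Groth.Agent.S14205.key k A p hp b hb).mp hsb
  have hp1 : p = 1 := Nat.eq_one_of_dvd_one (hab ▸ Nat.dvd_gcd h1 h2)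
  have h3 : Sp k (T k A 1) := by
    have := hp.2.1
    rw [hp1] at this
    exact (Groth.Agent.S14205.splits_iff k _).mp this
  exact (Sp_congr k (oneEquiv k A)).mp h3

end coprime

end Groth.Agent.Lead.CSA
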