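import Mathlib
import Groth.Agent.Lib.Lead.CSA23
import Groth.Agent.Lib.Lead.CSA15
import Groth.Agent.Lib.Helper6.CycPeriod
import Groth.Agent.Lib.Helper6.CycStruct2

namespace Groth.Agent.Lead.CSA

open TensorProduct Module MulOpposite
open Groth.Agent.Helper6.TPow Groth.Agent.Helper6.MatTensor

universe u u' u'' v w w'
set_option linter.style.haveILetI false

section tower

variable (k : Type u) [Field k] (K : Type u') [Field K] [Algebra k K]
  (L : Type u'') [Field L] [Algebra k L] [Algebra K L] [IsScalarTower k K L]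

/-- noncommutative version of `Algebra.TensorProduct.cancelBaseChange`, tower version -/
noncomputable def cancelBC' (Z : Type w') [Ring Z] [Algebra k Z] :
    L ⊗[K] (K ⊗[k] Z) ≃ₐ[L] L ⊗[k] Z :=
  AlgEquiv.symm <| AlgEquiv.ofLinearEquiv
    (TensorProduct.AlgebraTensorModule.cancelBaseChange k K L L Z).symm
    (by simp [Algebra.TensorProduct.one_def]) <|
      LinearMap.map_mul_of_map_mul_tmul (fun _ _ _ _ ↦ by simp)

variable {k K L}
variable {Z : Type w'} [Ring Z] [Algebra k Z]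

/-- `L ⊗[K] M_n(K) ≃ M_n(L)` -/
noncomputable def bcMatrix (n : ℕ) : L ⊗[K] Matrix (Fin n) (Fin n) K ≃ₐ[L] Matrix (Fin n) (Fin n) L :=
  (tensorMatrix' K L K n).trans (AlgEquiv.mapMatrix (Algebra.TensorProduct.rid K L L))

theorem KS.extend (h : KS k K Z) : KS k L Z := by
  obtain ⟨n, hn, ⟨s⟩⟩ := h
  refine ⟨n, hn, ⟨?_⟩⟩
  exact ((cancelBC' k K L Z).symm.trans
    (Algebra.TensorProduct.congr (AlgEquiv.refl (R := L) (A₁ := L)) s)).trans (bcMatrix n)

theorem KS.bc (h : KS k L Z) : KS K L (K ⊗[k] Z) := by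
  obtain ⟨n, hn, ⟨s⟩⟩ := h
  exact ⟨n, hn, ⟨(cancelBC' k K L Z).trans s⟩⟩

theorem KS.of_bc (h : KS K L (K ⊗[k] Z)) : KS k L Z := by
  obtain ⟨n, hn, ⟨s⟩⟩ := h
  exact ⟨n, hn, ⟨(cancelBC' k K L Z).symm.trans s⟩⟩

theorem KS.of_Sp (h : Sp k Z) : KS k K Z := by
  obtain ⟨n, hn, ⟨s⟩⟩ := h
  exact ((KS.self (k := k) (K := K)).matrix n hn).congr s.symm

end tower

section galois

/-- a finite Galois splitting field -/
theorem exists_galois_splitting (k : Type u) [Field k] (A : Type v) [Ring A] [Algebra k A]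
    [Algebra.IsCentral k A] [IsSimpleRing A] [FiniteDimensional k A] :
    ∃ (L : Type u) (_ : Field L) (_ : Algebra k L), FiniteDimensional k L ∧
      IsGalois k L ∧ KS k L A := by
  obtain ⟨k', _, _, hfd, hsep, hs⟩ := exists_separable_splitting k A
  obtain ⟨α, hα⟩ := Field.exists_primitive_element k k'
  have hsepf : (minpoly k α).Separable := Algebra.IsSeparable.isSeparable k α
  have hgal : IsGalois k (minpoly k α).SplittingField := IsGalois.of_separable_splitting_field hsepf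
  obtain ⟨φ⟩ : Nonempty (k' →ₐ[k] (minpoly k α).SplittingField) := by
    refine IntermediateField.nonempty_algHom_of_adjoin_splits (S := {α}) ?_ hα
    intro s hs
    rw [Set.mem_singleton_iff] at hs
    subst hs
    exact ⟨Algebra.IsIntegral.isIntegral s, Polynomial.SplittingField.splits _⟩
  letI : Algebra k' (minpoly k α).SplittingField := φ.toRingHom.toAlgebra
  haveI : IsScalarTower k k' (minpoly k α).SplittingField :=
    IsScalarTower.of_algebraMap_eq (fun x => (φ.commutes x).symm)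
  exact ⟨(minpoly k α).SplittingField, inferInstance, inferInstance, inferInstance, hgal,
    KS.extend (K := k') hs⟩

end galois

section cyclic

variable (F : Type u) [Field F] (F₁ : Type u') [Field F₁] [Algebra F F₁] [FiniteDimensional F F₁]
  [IsGalois F F₁] (σ : F₁ ≃ₐ[F] F₁) (hσ : ∀ τ : F₁ ≃ₐ[F] F₁, τ ∈ Subgroup.zpowers σ)
  (X : Type w) [Ring X] [Algebra F X] [Algebra.IsCentral F X] [IsSimpleRing X]
  [FiniteDimensional F X]

include hσ in
theorem cyclic_step (hX : KS F F₁ X) : Sp F (T F X (finrank F F₁)) := by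
  obtain ⟨b, B, _, _, hB, n, m, hn, hm, ⟨e⟩⟩ :=
    Groth.Agent.Helper6.CycStruct.brauer_cyclic σ hσ (A := X) hX
  have hBE : BE F X B := ⟨n, m, hn, hm, ⟨e⟩⟩
  have hpos : 0 < finrank F F₁ := Module.finrank_pos
  have hsB : Curves.Splits F (CSAGal.tpow F B (finrank F F₁)) F := by
    rw [Groth.Agent.Helper6.CycPeriod.tpow_splits_iff_norm σ b hσ hB _ hpos]
    exact ⟨algebraMap F F₁ (b : F), Algebra.norm_algebraMap _⟩
  have hsB' : Sp F (T F B (finrank F F₁)) := (Sp_iff_KS F _).mp hsB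
  obtain ⟨h1, h2⟩ := Groth.Agent.S14205.simple_fin F X (finrank F F₁) hpos
  exact (hBE.tpow _ hpos).sp hsB'

end cyclic

section sylow

theorem Sp_of_finrank_one (F : Type u) [Field F] (L : Type u') [Field L] [Algebra F L]
    (h : finrank F L = 1) (X : Type w) [Ring X] [Algebra F X] (hX : KS F L X) : Sp F X := by
  have h1 : (⊥ : Subalgebra F L) = ⊤ := Subalgebra.bot_eq_top_of_finrank_eq_one h
  let e : L ≃ₐ[F] F :=
    ((Subalgebra.topEquiv (R := F) (A := L)).symm.trans (Subalgebra.equivOfEq _ _ h1.symm)).trans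
      (Algebra.botEquiv F L)
  letI : Algebra L F := (e : L →+* F).toAlgebra
  haveI : IsScalarTower F L F := IsScalarTower.of_algebraMap_eq (fun x => (e.commutes x).symm)
  exact (Sp_iff_KS F X).mp (KS.extend (k := F) (K := L) (L := F) hX)

theorem tower_split (p : ℕ) (hp : p.Prime) (e : ℕ) (he : 1 ≤ e) (hpe : ¬ p ∣ e) :
    ∀ (r : ℕ) (F : Type u) [Field F] (L : Type u) [Field L] [Algebra F L] [FiniteDimensional F L]
      [IsGalois F L] (_ : Nat.card (L ≃ₐ[F] L) = p ^ r)
      (X : Type (max u w)) [Ring X] [Algebra F X] [Algebra.IsCentral F X] [IsSimpleRing X]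
      [FiniteDimensional F X], KS F L X → Sp F (T F X e) → Sp F X := by
  intro r
  induction r with
  | zero =>
    intro F _ L _ _ _ _ hcard X _ _ _ _ _ hX _
    rw [pow_zero, IsGalois.card_aut_eq_finrank] at hcard
    exact Sp_of_finrank_one F L hcard X hX
  | succ r ih =>
    intro F _ L _ _ _ _ hcard X _ _ _ _ _ hX hT
    haveI : Fact p.Prime := ⟨hp⟩
    obtain ⟨H, hH⟩ := Sylow.exists_subgroup_card_pow_prime (G := L ≃ₐ[F] L) p (n := r)
      (by rw [hcard]; exact pow_dvd_pow p (Nat.le_succ r))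
    have hidx : H.index = p := by
      have h1 := Subgroup.card_mul_index H
      rw [hH, hcard, pow_succ] at h1
      exact Nat.eq_of_mul_eq_mul_left (pow_pos hp.pos r) h1
    haveI hN : H.Normal := by
      apply Subgroup.normal_of_index_eq_minFac_card
      rw [hidx, hcard, Nat.Prime.pow_minFac hp (Nat.succ_ne_zero r)]
    let F₁ := IntermediateField.fixedField H
    have hF₁L : finrank F₁ L = p ^ r := by
      rw [IntermediateField.finrank_fixedField_eq_card, hH]
    have hFF₁ : finrank F F₁ = p := by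
      have h1 := Module.finrank_mul_finrank F F₁ L
      rw [hF₁L, ← IsGalois.card_aut_eq_finrank F L, hcard, pow_succ, mul_comm] at h1
      exact Nat.eq_of_mul_eq_mul_left (pow_pos hp.pos r) h1
    haveI : IsGalois F F₁ := IsGalois.of_fixedField_normal_subgroup H
    have hcard₁ : Nat.card (L ≃ₐ[F₁] L) = p ^ r := by
      rw [IsGalois.card_aut_eq_finrank, hF₁L]
    haveI : Algebra.IsCentral F₁ (F₁ ⊗[F] X) := Groth.Agent.Helper8.isCentral_baseChange F F₁ X
    haveI : IsSimpleRing (F₁ ⊗[F] X) := Groth.Agent.Helper8.isSimpleRing_baseChange F F₁ X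
    have hX₁ : KS F₁ L (F₁ ⊗[F] X) := KS.bc hX
    obtain ⟨eT⟩ := bcTPow F F₁ X e he
    have hT₁ : Sp F₁ (T F₁ (F₁ ⊗[F] X) e) :=
      (Sp_congr F₁ eT).mpr (KS.of_Sp (K := F₁) hT)
    have hS₁ : Sp F₁ (F₁ ⊗[F] X) := ih F₁ L hcard₁ (F₁ ⊗[F] X) hX₁ hT₁
    have hKS : KS F F₁ X := hS₁
    haveI : IsCyclic (F₁ ≃ₐ[F] F₁) := by
      apply isCyclic_of_prime_card (p := p)
      rw [IsGalois.card_aut_eq_finrank, hFF₁]
    obtain ⟨σ, hσ⟩ := IsCyclic.exists_generator (α := F₁ ≃ₐ[F] F₁)
    have hTp := cyclic_step F F₁ σ hσ X hKS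
    rw [hFF₁] at hTp
    have hcop : Nat.Coprime e p := ((Nat.Prime.coprime_iff_not_dvd hp).mpr hpe).symm
    exact Sp_of_coprime F X e p he hp.one_le hcop hT hTp

end sylow

end Groth.Agent.Lead.CSA
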