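import Mathlib
import Groth.Agent.Lib.Helper8.SkolemNoether2

/-!
# Automorphisms of matrix algebras over a commutative ring: the module of liftings
-/

set_option autoImplicit false
set_option linter.unusedSectionVars false

namespace Groth.Agent.Lead.MatAut

open Matrix TensorProduct

universe u

variable {R : Type u} [CommRing R] {n : ℕ}

local notation "S" => Matrix (Fin n) (Fin n) R

/-- the module of matrices `M` with `M N = α(N) M` -/
def Lift (α : S ≃ₐ[R] S) : Submodule R S where
  carrier := {M | ∀ N, M * N = α N * M}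
  add_mem' := by
    intro a b ha hb N
    rw [add_mul, mul_add, ha N, hb N]
  zero_mem' := by intro N; simp
  smul_mem' := by
    intro c M hM N
    rw [smul_mul_assoc, mul_smul_comm, hM N]

theorem mem_Lift {α : S ≃ₐ[R] S} {M : S} : M ∈ Lift α ↔ ∀ N, M * N = α N * M := Iff.rfl

theorem mem_Lift_iff_single {α : S ≃ₐ[R] S} {M : S} :
    M ∈ Lift α ↔ ∀ a b, M * single a b (1 : R) = α (single a b 1) * M := by
  constructor
  · intro h a b; exact h _
  · intro h N
    rw [matrix_eq_sum_single N]
    simp only [Finset.mul_sum, map_sum, Finset.sum_mul]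
    refine Finset.sum_congr rfl fun a _ => Finset.sum_congr rfl fun b _ => ?_
    have : single a b (N a b) = N a b • single a b (1 : R) := by simp
    rw [this, mul_smul_comm, map_smul, smul_mul_assoc, h a b]

theorem single_mul_single_ite (i j k l : Fin n) :
    single i j (1 : R) * single k l 1 = if j = k then single i l 1 else 0 := by
  split_ifs with h
  · subst h; rw [single_mul_single_same, one_mul]
  · exact single_mul_single_of_ne _ _ _ _ h _

variable [NeZero n]

/-- the retraction of `S` onto `Lift α` -/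
noncomputable def T (α : S ≃ₐ[R] S) (X : S) : S :=
  ∑ i, α (single i 0 1) * X * single 0 i 1

theorem T_mul_single (α : S ≃ₐ[R] S) (X : S) (a b : Fin n) :
    T α X * single a b (1 : R) = α (single a 0 1) * X * single 0 b 1 := by
  unfold T
  rw [Finset.sum_mul]
  have h1 : ∀ i, α (single i 0 1) * X * single 0 i 1 * single a b (1 : R) =
      if i = a then α (single a 0 1) * X * single 0 b 1 else 0 := by
    intro i
    rw [mul_assoc (α (single i 0 1) * X), single_mul_single_ite]
    split_ifs with h
    · subst h; rfl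
    · rw [mul_zero]
  simp only [h1, Finset.sum_ite_eq', Finset.mem_univ, if_true]

theorem single_mul_T (α : S ≃ₐ[R] S) (X : S) (a b : Fin n) :
    α (single a b (1 : R)) * T α X = α (single a 0 1) * X * single 0 b 1 := by
  unfold T
  rw [Finset.mul_sum]
  have h1 : ∀ i, α (single a b (1 : R)) * (α (single i 0 1) * X * single 0 i 1) =
      if b = i then α (single a 0 1) * X * single 0 b 1 else 0 := by
    intro i
    rw [← mul_assoc, ← mul_assoc, ← map_mul, single_mul_single_ite]
    split_ifs with h
    · subst h; rfl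
    · rw [map_zero, zero_mul, zero_mul]
  simp only [h1, Finset.sum_ite_eq, Finset.mem_univ, if_true]

theorem T_mem (α : S ≃ₐ[R] S) (X : S) : T α X ∈ Lift α := by
  rw [mem_Lift_iff_single]
  intro a b
  rw [T_mul_single, single_mul_T]

theorem T_of_mem (α : S ≃ₐ[R] S) {M : S} (hM : M ∈ Lift α) : T α M = M := by
  unfold T
  have h1 : ∀ i : Fin n, α (single i 0 1) * M * single 0 i 1 = M * single i i (1 : R) := by
    intro i
    rw [← hM, mul_assoc, single_mul_single_same, one_mul]
  simp only [h1]
  rw [← Finset.mul_sum]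
  rw [Matrix.sum_single_one, mul_one]

section residue

variable (κ : Type u) [CommRing κ] [Algebra R κ]

/-- base change of an automorphism along `R → κ`, as an `R`-algebra automorphism -/
noncomputable def redAut₀ (α : S ≃ₐ[R] S) :
    Matrix (Fin n) (Fin n) κ ≃ₐ[R] Matrix (Fin n) (Fin n) κ :=
  (matrixEquivTensor (Fin n) R κ).trans
    ((Algebra.TensorProduct.congr (AlgEquiv.refl (R := R) (A₁ := κ)) α).trans
      (matrixEquivTensor (Fin n) R κ).symm)

theorem redAut₀_map (α : S ≃ₐ[R] S) (X : S) :
    redAut₀ κ α (X.map (algebraMap R κ)) = (α X).map (algebraMap R κ) := by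
  have h1 : ∀ Y : S, Y.map (algebraMap R κ) =
      (matrixEquivTensor (Fin n) R κ).symm ((1 : κ) ⊗ₜ[R] Y) := by
    intro Y
    rw [matrixEquivTensor_apply_symm, one_smul]
  unfold redAut₀
  rw [h1 X, h1 (α X)]
  simp only [AlgEquiv.trans_apply, AlgEquiv.apply_symm_apply, Algebra.TensorProduct.congr_apply,
    Algebra.TensorProduct.map_tmul, AlgEquiv.refl_toAlgHom, AlgHom.coe_id, id_eq]
  rfl

/-- base change of an automorphism along a surjection `R → κ` -/
noncomputable def redAut (hκ : Function.Surjective (algebraMap R κ)) (α : S ≃ₐ[R] S) :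
    Matrix (Fin n) (Fin n) κ ≃ₐ[κ] Matrix (Fin n) (Fin n) κ :=
  AlgEquiv.ofRingEquiv (f := (redAut₀ κ α).toRingEquiv) (by
    intro c
    obtain ⟨r, rfl⟩ := hκ c
    rw [← IsScalarTower.algebraMap_apply R κ (Matrix (Fin n) (Fin n) κ)]
    exact (redAut₀ κ α).commutes r)

theorem redAut_map (hκ : Function.Surjective (algebraMap R κ)) (α : S ≃ₐ[R] S) (X : S) :
    redAut κ hκ α (X.map (algebraMap R κ)) = (α X).map (algebraMap R κ) :=
  redAut₀_map κ α X

end residue

/-- for every maximal ideal there is a lifting whose determinant is a unit at that ideal -/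
theorem exists_det_notMem (α : S ≃ₐ[R] S) (m : Ideal R) [hm : m.IsMaximal] :
    ∃ M ∈ Lift α, M.det ∉ m := by
  classical
  let _ : Field (R ⧸ m) := Ideal.Quotient.field m
  have hκ : Function.Surjective (algebraMap R (R ⧸ m)) := Ideal.Quotient.mk_surjective
  obtain ⟨β, hβ⟩ : ∃ β : Matrix (Fin n) (Fin n) (R ⧸ m) ≃ₐ[R ⧸ m] Matrix (Fin n) (Fin n) (R ⧸ m),
      β = redAut (R ⧸ m) hκ α := ⟨_, rfl⟩
  obtain ⟨u, hu⟩ := Groth.Agent.Helper8.skolemNoether_algHom
    (AlgHom.id (R ⧸ m) (Matrix (Fin n) (Fin n) (R ⧸ m))) β.toAlgHom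
  have hu' : ∀ b, β b = (u : Matrix (Fin n) (Fin n) (R ⧸ m)) * b * ((u⁻¹ : _ˣ) : Matrix _ _ _) :=
    fun b => hu b
  let q : R →+* R ⧸ m := algebraMap R (R ⧸ m)
  let X₀ : S := (u : Matrix (Fin n) (Fin n) (R ⧸ m)).map (Function.surjInv hκ)
  have hX₀ : q.mapMatrix X₀ = u := by
    ext i j
    simp only [RingHom.mapMatrix_apply, Matrix.map_apply, X₀, q]
    exact Function.surjInv_eq hκ _
  refine ⟨T α X₀, T_mem α X₀, ?_⟩
  have hmap : q.mapMatrix (T α X₀) = u := by
    unfold T
    rw [map_sum]
    have h1 : ∀ i : Fin n, q.mapMatrix (α (single i 0 1) * X₀ * single 0 i 1) =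
        (u : Matrix (Fin n) (Fin n) (R ⧸ m)) * single i i 1 := by
      intro i
      rw [map_mul, map_mul, hX₀]
      have h2 : q.mapMatrix (α (single i 0 1)) = β (single i 0 1) := by
        rw [hβ]
        have := redAut_map (R ⧸ m) hκ α (single i 0 (1 : R))
        rw [Matrix.map_single] at this
        simp only [map_one] at this
        rw [this]; rfl
      have h3 : q.mapMatrix (single 0 i (1 : R)) = single 0 i 1 := by
        rw [RingHom.mapMatrix_apply, Matrix.map_single]; simp [q]
      rw [h2, h3, hu', mul_assoc, mul_assoc, Units.inv_mul_cancel_left, mul_assoc,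
        single_mul_single_same, one_mul]
    simp only [h1]
    rw [← Finset.mul_sum, Matrix.sum_single_one, mul_one]
  have hdet : q (T α X₀).det = (u : Matrix (Fin n) (Fin n) (R ⧸ m)).det := by
    rw [RingHom.map_det, hmap]
  intro hmem
  have h0 : q (T α X₀).det = 0 := Ideal.Quotient.eq_zero_iff_mem.2 hmem
  rw [hdet] at h0
  have hunit : IsUnit (u : Matrix (Fin n) (Fin n) (R ⧸ m)).det :=
    (Matrix.isUnit_iff_isUnit_det _).1 u.isUnit
  rw [h0] at hunit
  exact not_isUnit_zero hunit

/-- the determinants of the liftings generate the unit ideal -/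
theorem span_det_eq_top (α : S ≃ₐ[R] S) :
    Ideal.span {d : R | ∃ M ∈ Lift α, M.det = d} = ⊤ := by
  by_contra h
  obtain ⟨m, hm, hle⟩ := Ideal.exists_le_maximal _ h
  obtain ⟨M, hM, hdet⟩ := exists_det_notMem α m
  exact hdet (hle (Ideal.subset_span ⟨M, hM, rfl⟩))

end Groth.Agent.Lead.MatAut
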