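import Mathlib
import Groth.Agent.Lib.Lead.MatAut1

/-!
# The module of liftings of an automorphism of a matrix algebra is invertible
-/

set_option autoImplicit false
set_option linter.unusedSectionVars false

namespace Groth.Agent.Lead.MatAut

open Matrix TensorProduct

universe u v

variable {R : Type u} [CommRing R] {n : ℕ} [NeZero n]

local notation "S" => Matrix (Fin n) (Fin n) R

/-- local-global principle for the unit ideal of determinants of liftings -/
theorem eq_zero_of_det_pow_smul (α : S ≃ₐ[R] S) (k : ℕ) {X : Type v} [AddCommGroup X] [Module R X]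
    (x : X) (h : ∀ M₀ ∈ Lift α, M₀.det ^ k • x = 0) : x = 0 := by
  have h1 := Ideal.span_pow_eq_top _ (span_det_eq_top α) k
  have h2 : Ideal.span ((fun d : R => d ^ k) '' {d : R | ∃ M ∈ Lift α, M.det = d}) ≤
      (Submodule.span R {x}).annihilator := by
    rw [Ideal.span_le]
    rintro _ ⟨d, ⟨M, hM, rfl⟩, rfl⟩
    rw [SetLike.mem_coe, Submodule.mem_annihilator_span_singleton]
    exact h M hM
  rw [h1, top_le_iff] at h2
  have h3 : (1 : R) ∈ (Submodule.span R {x}).annihilator := by rw [h2]; trivial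
  rw [Submodule.mem_annihilator_span_singleton, one_smul] at h3
  exact h3

theorem mem_Lift_symm {α : S ≃ₐ[R] S} {M' : S} :
    M' ∈ Lift α.symm ↔ ∀ N, M' * α N = N * M' := by
  rw [mem_Lift]
  constructor
  · intro h N
    rw [h (α N), α.symm_apply_apply]
  · intro h N
    have := h (α.symm N)
    rw [α.apply_symm_apply] at this
    exact this

/-- a matrix commuting with everything is scalar -/
theorem eq_smul_one_of_comm (Z : S) (h : ∀ N, Z * N = N * Z) : Z = Z 0 0 • (1 : S) := by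
  have h1 : Z ∈ Set.range (Matrix.scalar (Fin n)) := by
    rw [Matrix.mem_range_scalar_iff_commute_single']
    intro i j
    exact (h _).symm
  obtain ⟨r, rfl⟩ := h1
  rw [Matrix.scalar_apply, Matrix.diagonal_apply_eq, ← Matrix.smul_one_eq_diagonal]

theorem mul_comm_of_mem {α : S ≃ₐ[R] S} {M' M : S} (hM' : M' ∈ Lift α.symm) (hM : M ∈ Lift α) (N : S) :
    (M' * M) * N = N * (M' * M) := by
  rw [mul_assoc, hM N, ← mul_assoc, mem_Lift_symm.1 hM' N, mul_assoc]

theorem mul_comm_of_mem' {α : S ≃ₐ[R] S} {M' M : S} (hM' : M' ∈ Lift α.symm) (hM : M ∈ Lift α) (N : S) :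
    (M * M') * N = N * (M * M') := by
  have := mem_Lift_symm.1 hM' (α.symm N)
  rw [α.apply_symm_apply] at this
  rw [mul_assoc, hM' N, ← mul_assoc, hM, α.apply_symm_apply, mul_assoc]

theorem mul_eq_smul_one {α : S ≃ₐ[R] S} {M' M : S} (hM' : M' ∈ Lift α.symm) (hM : M ∈ Lift α) :
    M' * M = (M' * M) 0 0 • (1 : S) :=
  eq_smul_one_of_comm _ (mul_comm_of_mem hM' hM)

theorem mul_eq_smul_one' {α : S ≃ₐ[R] S} {M' M : S} (hM' : M' ∈ Lift α.symm) (hM : M ∈ Lift α) :
    M * M' = (M * M') 0 0 • (1 : S) :=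
  eq_smul_one_of_comm _ (mul_comm_of_mem' hM' hM)

/-- `det M • adj M` lies in the module of liftings of the inverse -/
theorem det_smul_adjugate_mem {α : S ≃ₐ[R] S} {M₀ : S} (hM₀ : M₀ ∈ Lift α) :
    M₀.det • M₀.adjugate ∈ Lift α.symm := by
  rw [mem_Lift_symm]
  intro N
  have h := hM₀ N
  have hL : M₀.adjugate * (M₀ * N) * M₀.adjugate = M₀.det • (N * M₀.adjugate) := by
    rw [← mul_assoc, Matrix.adjugate_mul, smul_mul_assoc, one_mul, smul_mul_assoc]
  have hR : M₀.adjugate * (α N * M₀) * M₀.adjugate = M₀.det • (M₀.adjugate * α N) := by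
    rw [mul_assoc, mul_assoc, Matrix.mul_adjugate, mul_smul_comm, mul_one, mul_smul_comm]
  rw [smul_mul_assoc, mul_smul_comm, ← hL, ← hR, h]

/-- the key commutation: elements of `Lift α` and `Lift α.symm` commute -/
theorem mul_comm_Lift {α : S ≃ₐ[R] S} {M' M : S} (hM' : M' ∈ Lift α.symm) (hM : M ∈ Lift α) :
    M' * M = M * M' := by
  rw [← sub_eq_zero]
  apply eq_zero_of_det_pow_smul α 3
  intro M₀ hM₀
  have hA := det_smul_adjugate_mem hM₀
  have e1 := mul_eq_smul_one hA hM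
  have e2 := mul_eq_smul_one hM' hM₀
  set γ := ((M₀.det • M₀.adjugate) * M) 0 0 with hγ
  set γ' := (M' * M₀) 0 0 with hγ'
  have i1 : M₀.det ^ 2 • M = γ • M₀ := by
    have : M₀ * ((M₀.det • M₀.adjugate) * M) = γ • M₀ := by rw [e1, mul_smul_comm, mul_one]
    rw [← this, ← mul_assoc, mul_smul_comm, Matrix.mul_adjugate, smul_smul, smul_mul_assoc, one_mul,
      pow_two]
  have i2 : M₀.det • M' = γ' • M₀.adjugate := by
    have : (M' * M₀) * M₀.adjugate = γ' • M₀.adjugate := by rw [e2, smul_mul_assoc, one_mul]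
    rw [← this, mul_assoc, Matrix.mul_adjugate, mul_smul_comm, mul_one]
  have h3 : M₀.det ^ 3 • (M' * M - M * M') =
      (M₀.det • M') * (M₀.det ^ 2 • M) - (M₀.det ^ 2 • M) * (M₀.det • M') := by
    rw [smul_mul_smul_comm, smul_mul_smul_comm, smul_sub]
    congr 2 <;> ring
  rw [h3, i1, i2, smul_mul_smul_comm, smul_mul_smul_comm, Matrix.adjugate_mul, Matrix.mul_adjugate,
    mul_comm γ γ', sub_self]

/-- the pairing `Lift α⁻¹ × Lift α → R`, `(M', M) ↦ c` with `M' M = c • 1` -/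
noncomputable def pairing (α : S ≃ₐ[R] S) : Lift α.symm →ₗ[R] Lift α →ₗ[R] R :=
  LinearMap.mk₂ R (fun M' M => ((M' : S) * (M : S)) 0 0)
    (fun a b c => by simp [add_mul])
    (fun r a b => by simp)
    (fun a b c => by simp [mul_add])
    (fun r a b => by simp)

theorem pairing_apply (α : S ≃ₐ[R] S) (M' : Lift α.symm) (M : Lift α) :
    pairing α M' M = ((M' : S) * (M : S)) 0 0 := rfl

theorem pairing_spec (α : S ≃ₐ[R] S) (M' : Lift α.symm) (M : Lift α) :
    (M' : S) * (M : S) = pairing α M' M • (1 : S) := mul_eq_smul_one M'.2 M.2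

theorem pairing_spec' (α : S ≃ₐ[R] S) (M' : Lift α.symm) (M : Lift α) :
    (M : S) * (M' : S) = pairing α M' M • (1 : S) := by
  rw [← mul_comm_Lift M'.2 M.2]; exact pairing_spec α M' M

theorem rank_one₁ (α : S ≃ₐ[R] S) (M' : Lift α.symm) (M₁ M₂ : Lift α) :
    pairing α M' M₁ • M₂ = pairing α M' M₂ • M₁ := by
  apply Subtype.ext
  have h1 : ((pairing α M' M₁ • M₂ : Lift α) : S) = (M₂ : S) * ((M' : S) * (M₁ : S)) := by
    rw [pairing_spec, mul_smul_comm, mul_one]; rfl
  have h2 : ((pairing α M' M₂ • M₁ : Lift α) : S) = ((M₂ : S) * (M' : S)) * (M₁ : S) := by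
    rw [pairing_spec', smul_mul_assoc, one_mul]; rfl
  rw [h1, h2, mul_assoc]

theorem rank_one₂ (α : S ≃ₐ[R] S) (M'₁ M'₂ : Lift α.symm) (M : Lift α) :
    pairing α M'₁ M • M'₂ = pairing α M'₂ M • M'₁ := by
  apply Subtype.ext
  have h1 : ((pairing α M'₁ M • M'₂ : Lift α.symm) : S) = ((M'₁ : S) * (M : S)) * (M'₂ : S) := by
    rw [pairing_spec, smul_mul_assoc, one_mul]; rfl
  have h2 : ((pairing α M'₂ M • M'₁ : Lift α.symm) : S) = (M'₁ : S) * ((M : S) * (M'₂ : S)) := by
    rw [pairing_spec', mul_smul_comm, mul_one]; rfl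
  rw [h1, h2, mul_assoc]

noncomputable def piMap (α : S ≃ₐ[R] S) : Lift α.symm ⊗[R] Lift α →ₗ[R] R :=
  TensorProduct.lift (pairing α)

theorem piMap_tmul (α : S ≃ₐ[R] S) (M' : Lift α.symm) (M : Lift α) :
    piMap α (M' ⊗ₜ M) = pairing α M' M := rfl

theorem pi_swap (α : S ≃ₐ[R] S) (z w : Lift α.symm ⊗[R] Lift α) :
    piMap α z • w = piMap α w • z := by
  induction z using TensorProduct.induction_on with
  | zero => simp
  | add z₁ z₂ h₁ h₂ => rw [map_add, add_smul, h₁, h₂, smul_add]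
  | tmul M' M =>
    induction w using TensorProduct.induction_on with
    | zero => simp
    | add w₁ w₂ h₁ h₂ => rw [map_add, add_smul, ← h₁, ← h₂, smul_add]
    | tmul M'₁ M₁ =>
      rw [piMap_tmul, piMap_tmul]
      calc pairing α M' M • (M'₁ ⊗ₜ[R] M₁) = (pairing α M' M • M'₁) ⊗ₜ[R] M₁ := by
            rw [TensorProduct.smul_tmul']
        _ = (pairing α M'₁ M • M') ⊗ₜ[R] M₁ := by rw [rank_one₂]
        _ = M' ⊗ₜ[R] (pairing α M'₁ M • M₁) := by rw [TensorProduct.smul_tmul]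
        _ = M' ⊗ₜ[R] (pairing α M'₁ M₁ • M) := by rw [rank_one₁]
        _ = pairing α M'₁ M₁ • (M' ⊗ₜ[R] M) := by rw [TensorProduct.tmul_smul]

theorem piMap_surjective (α : S ≃ₐ[R] S) : Function.Surjective (piMap α) := by
  have h1 := Ideal.span_pow_eq_top _ (span_det_eq_top α) 2
  have h2 : Ideal.span ((fun d : R => d ^ 2) '' {d : R | ∃ M ∈ Lift α, M.det = d}) ≤
      LinearMap.range (piMap α) := by
    rw [Ideal.span_le]
    rintro _ ⟨d, ⟨M, hM, rfl⟩, rfl⟩
    refine ⟨(⟨M.det • M.adjugate, det_smul_adjugate_mem hM⟩ : Lift α.symm) ⊗ₜ (⟨M, hM⟩ : Lift α), ?_⟩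
    rw [piMap_tmul, pairing_apply]
    simp only [smul_mul_assoc, Matrix.adjugate_mul, Matrix.smul_apply, Matrix.one_apply_eq,
      smul_eq_mul, mul_one, pow_two]
  rw [h1, top_le_iff] at h2
  exact LinearMap.range_eq_top.1 h2

theorem piMap_injective (α : S ≃ₐ[R] S) : Function.Injective (piMap α) := by
  rw [injective_iff_map_eq_zero]
  intro z hz
  obtain ⟨w, hw⟩ := piMap_surjective α 1
  have := pi_swap α z w
  rw [hz, hw, zero_smul, one_smul] at this
  exact this.symm

/-- `Lift α⁻¹ ⊗ Lift α ≃ R` -/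
noncomputable def piEquiv (α : S ≃ₐ[R] S) : Lift α.symm ⊗[R] Lift α ≃ₗ[R] R :=
  LinearEquiv.ofBijective (piMap α) ⟨piMap_injective α, piMap_surjective α⟩

theorem invertible_Lift (α : S ≃ₐ[R] S) : Module.Invertible R (Lift α) :=
  Module.Invertible.right (piEquiv α)

end Groth.Agent.Lead.MatAut
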