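import Mathlib
import Groth.Agent.Lib.Helper8.SkolemNoether2
import Groth.Agent.Lib.Helper8.CSA2

/-!
# Reduced norms: uniqueness of `det ∘ ρ` over representations `ρ : A → M_n(L)`
-/

set_option autoImplicit false
set_option linter.unusedSectionVars false

namespace Groth.Agent.Lead.RedN

open TensorProduct

universe u v w w'

section same

variable {k : Type u} [Field k] {A : Type v} [Ring A] [Algebra k A] [Algebra.IsCentral k A]
  [IsSimpleRing A] [FiniteDimensional k A]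
variable {L : Type w} [Field L] [Algebra k L] {ι : Type w'} [Fintype ι] [DecidableEq ι]

/-- extension of a representation `ρ : A → M_ι(L)` to `L ⊗ A`. -/
noncomputable def ext (ρ : A →ₐ[k] Matrix ι ι L) : L ⊗[k] A →ₐ[L] Matrix ι ι L :=
  Algebra.TensorProduct.lift (Algebra.ofId L (Matrix ι ι L)) ρ
    (fun x y => by
      rw [Algebra.ofId_apply]
      exact Algebra.commute_algebraMap_left x (ρ y))

theorem ext_one_tmul (ρ : A →ₐ[k] Matrix ι ι L) (a : A) : ext ρ (1 ⊗ₜ[k] a) = ρ a := by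
  simp [ext]

/-- Two representations of a central simple algebra in the same matrix algebra over a field
extension have the same determinant. -/
theorem det_eq [Nonempty ι] (ρ₁ ρ₂ : A →ₐ[k] Matrix ι ι L) (a : A) :
    (ρ₁ a).det = (ρ₂ a).det := by
  have : IsSimpleRing (L ⊗[k] A) := Groth.Agent.Helper8.isSimpleRing_baseChange k L A
  have : FiniteDimensional L (L ⊗[k] A) := inferInstance
  obtain ⟨u, hu⟩ := Groth.Agent.Helper8.skolemNoether_algHom (ext ρ₁) (ext ρ₂)
  have h := hu (1 ⊗ₜ[k] a)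
  rw [ext_one_tmul, ext_one_tmul] at h
  rw [h, Matrix.det_mul, Matrix.det_mul, mul_comm, ← mul_assoc, ← Matrix.det_mul]
  simp

end same

section cross

variable {k : Type u} [Field k] {A : Type v} [Ring A] [Algebra k A] [Algebra.IsCentral k A]
  [IsSimpleRing A] [FiniteDimensional k A]
variable {L₁ : Type w} [Field L₁] [Algebra k L₁] {L₂ : Type w'} [Field L₂] [Algebra k L₂]
  {ι : Type*} [Fintype ι] [DecidableEq ι]

/-- cross-field uniqueness: if `det (ρ₁ a)` is the image of `c ∈ k`, so is `det (ρ₂ a)`. -/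
theorem det_eq_cross [Nonempty ι] (ρ₁ : A →ₐ[k] Matrix ι ι L₁) (ρ₂ : A →ₐ[k] Matrix ι ι L₂) (a : A)
    (c : k) (h : (ρ₁ a).det = algebraMap k L₁ c) : (ρ₂ a).det = algebraMap k L₂ c := by
  have hnt : Nontrivial (L₁ ⊗[k] L₂) := inferInstance
  obtain ⟨m, hm⟩ := Ideal.exists_maximal (L₁ ⊗[k] L₂)
  let _ : Field ((L₁ ⊗[k] L₂) ⧸ m) := Ideal.Quotient.field m
  let j₁ : L₁ →ₐ[k] (L₁ ⊗[k] L₂) ⧸ m :=
    (Ideal.Quotient.mkₐ k m).comp Algebra.TensorProduct.includeLeft
  let j₂ : L₂ →ₐ[k] (L₁ ⊗[k] L₂) ⧸ m :=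
    (Ideal.Quotient.mkₐ k m).comp Algebra.TensorProduct.includeRight
  have key := det_eq ((j₁.mapMatrix (m := ι)).comp ρ₁) ((j₂.mapMatrix (m := ι)).comp ρ₂) a
  simp only [AlgHom.comp_apply, AlgHom.mapMatrix_apply] at key
  have e1 : ((ρ₁ a).map ⇑j₁).det = j₁ ((ρ₁ a).det) := (AlgHom.map_det j₁ (ρ₁ a)).symm
  have e2 : ((ρ₂ a).map ⇑j₂).det = j₂ ((ρ₂ a).det) := (AlgHom.map_det j₂ (ρ₂ a)).symm
  have key' : j₁ ((ρ₁ a).det) = j₂ ((ρ₂ a).det) := by
    rw [← e1, ← e2]; exact key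
  rw [h, AlgHom.commutes] at key'
  apply j₂.toRingHom.injective
  change j₂ _ = j₂ _
  rw [← key', AlgHom.commutes]

end cross

end Groth.Agent.Lead.RedN
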