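import Mathlib

/-!
# Determinant-type functions on matrices over a division ring, and elimination

For a ring hom `ρ : D →+* M_m(L)` (L commutative) we define `F ρ g = det (comp (g.map ρ))` on
`Matrix ι ι D`, show it is multiplicative, invariant under reindexing, multiplicative on block
triangular matrices, and (for `D` a division ring) that on invertible matrices it takes only the
values `det (ρ a)`, `a ≠ 0` (Dieudonné-style Gaussian elimination).
-/

set_option autoImplicit false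
set_option linter.unusedSectionVars false

namespace Groth.Agent.Lead.RedN

open Matrix

universe u v

section defs

variable {D : Type u} [Ring D] {L : Type v} [CommRing L] {m : ℕ}
  (ρ : D →+* Matrix (Fin m) (Fin m) L)

/-- the block-matrix representation attached to `ρ`. -/
noncomputable def Phi (ι : Type*) [Fintype ι] [DecidableEq ι] :
    Matrix ι ι D →+* Matrix (ι × Fin m) (ι × Fin m) L :=
  (Matrix.compRingEquiv ι (Fin m) L).toRingHom.comp ρ.mapMatrix

theorem Phi_apply {ι : Type*} [Fintype ι] [DecidableEq ι] (g : Matrix ι ι D) (i j : ι)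
    (a b : Fin m) : Phi ρ ι g (i, a) (j, b) = ρ (g i j) a b := rfl

/-- `F ρ g = det (Phi ρ g)`. -/
noncomputable def F {ι : Type*} [Fintype ι] [DecidableEq ι] (g : Matrix ι ι D) : L :=
  (Phi ρ ι g).det

theorem F_mul {ι : Type*} [Fintype ι] [DecidableEq ι] (g h : Matrix ι ι D) :
    F ρ (g * h) = F ρ g * F ρ h := by
  unfold F; rw [map_mul, Matrix.det_mul]

theorem F_one {ι : Type*} [Fintype ι] [DecidableEq ι] : F ρ (1 : Matrix ι ι D) = 1 := by
  unfold F; rw [map_one, Matrix.det_one]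

theorem F_reindex {ι κ : Type*} [Fintype ι] [DecidableEq ι] [Fintype κ] [DecidableEq κ]
    (e : ι ≃ κ) (g : Matrix ι ι D) : F ρ (Matrix.reindex e e g) = F ρ g := by
  unfold F
  have : Phi ρ κ (Matrix.reindex e e g) =
      Matrix.reindex (e.prodCongr (Equiv.refl (Fin m))) (e.prodCongr (Equiv.refl (Fin m)))
        (Phi ρ ι g) := by
    ext ⟨i, a⟩ ⟨j, b⟩
    simp [Phi_apply]
  rw [this, Matrix.det_reindex_self]

theorem F_fromBlocks_zero₂₁ {ι₁ ι₂ : Type*} [Fintype ι₁] [DecidableEq ι₁] [Fintype ι₂]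
    [DecidableEq ι₂] (A : Matrix ι₁ ι₁ D) (B : Matrix ι₁ ι₂ D) (D' : Matrix ι₂ ι₂ D) :
    F ρ (fromBlocks A B 0 D') = F ρ A * F ρ D' := by
  unfold F
  have : Matrix.reindex (Equiv.sumProdDistrib ι₁ ι₂ (Fin m)) (Equiv.sumProdDistrib ι₁ ι₂ (Fin m))
      (Phi ρ (ι₁ ⊕ ι₂) (fromBlocks A B 0 D')) =
      fromBlocks (Phi ρ ι₁ A) (Matrix.of fun (p : ι₁ × Fin m) (q : ι₂ × Fin m) => ρ (B p.1 q.1) p.2 q.2) 0
        (Phi ρ ι₂ D') := by
    ext (⟨i, a⟩ | ⟨i, a⟩) (⟨j, b⟩ | ⟨j, b⟩) <;> simp [Phi_apply]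
  rw [← Matrix.det_reindex_self (Equiv.sumProdDistrib ι₁ ι₂ (Fin m)), this,
    Matrix.det_fromBlocks_zero₂₁]

theorem F_fromBlocks_zero₁₂ {ι₁ ι₂ : Type*} [Fintype ι₁] [DecidableEq ι₁] [Fintype ι₂]
    [DecidableEq ι₂] (A : Matrix ι₁ ι₁ D) (C : Matrix ι₂ ι₁ D) (D' : Matrix ι₂ ι₂ D) :
    F ρ (fromBlocks A 0 C D') = F ρ A * F ρ D' := by
  unfold F
  have : Matrix.reindex (Equiv.sumProdDistrib ι₁ ι₂ (Fin m)) (Equiv.sumProdDistrib ι₁ ι₂ (Fin m))
      (Phi ρ (ι₁ ⊕ ι₂) (fromBlocks A 0 C D')) =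
      fromBlocks (Phi ρ ι₁ A) 0 (Matrix.of fun (p : ι₂ × Fin m) (q : ι₁ × Fin m) => ρ (C p.1 q.1) p.2 q.2)
        (Phi ρ ι₂ D') := by
    ext (⟨i, a⟩ | ⟨i, a⟩) (⟨j, b⟩ | ⟨j, b⟩) <;> simp [Phi_apply]
  rw [← Matrix.det_reindex_self (Equiv.sumProdDistrib ι₁ ι₂ (Fin m)), this,
    Matrix.det_fromBlocks_zero₁₂]

/-- the `1 × 1` case. -/
theorem F_unit (A : Matrix Unit Unit D) : F ρ A = (ρ (A () ())).det := by
  unfold F
  have : Matrix.reindex (Equiv.punitProd (Fin m)) (Equiv.punitProd (Fin m)) (Phi ρ Unit A) =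
      ρ (A () ()) := by
    ext a b
    simp [Phi_apply]
  rw [← Matrix.det_reindex_self (Equiv.punitProd (Fin m)), this]

end defs

section elim

variable {D : Type u} [DivisionRing D] {L : Type v} [CommRing L] {m : ℕ}
  (ρ : D →+* Matrix (Fin m) (Fin m) L)

/-- the `1 × 1` matrix with entry `a`. -/
def sc (a : D) : Matrix Unit Unit D := Matrix.of fun _ _ => a

theorem sc_mul (a b : D) : sc a * sc b = sc (a * b) := by
  ext i j; simp [sc, Matrix.mul_apply]

theorem sc_one : sc (1 : D) = 1 := by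
  ext i j; simp [sc]

theorem eq_sc (A : Matrix Unit Unit D) : A = sc (A () ()) := by
  ext i j; rfl

theorem F_sc (a : D) : F ρ (sc a) = (ρ a).det := by
  rw [F_unit]; rfl

/-- If a block upper triangular matrix with invertible `1 × 1` corner is a unit, so is the other
diagonal block. -/
theorem isUnit_of_isUnit_fromBlocks {κ : Type*} [Fintype κ] [DecidableEq κ] (a : D) (ha : a ≠ 0)
    (B : Matrix Unit κ D) (S : Matrix κ κ D) (h : IsUnit (fromBlocks (sc a) B 0 S)) : IsUnit S := by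
  obtain ⟨⟨U, V, hUV, hVU⟩, hU⟩ := h
  change U = _ at hU
  subst hU
  rw [← Matrix.fromBlocks_toBlocks V, Matrix.fromBlocks_multiply, ← Matrix.fromBlocks_one,
    Matrix.fromBlocks_inj] at hUV hVU
  obtain ⟨-, -, h21, h22⟩ := hUV
  obtain ⟨-, -, g21, g22⟩ := hVU
  simp only [Matrix.zero_mul, zero_add, Matrix.mul_zero, add_zero] at h21 h22 g21 g22
  have hV21 : V.toBlocks₂₁ = 0 := by
    have : V.toBlocks₂₁ * sc a * sc a⁻¹ = 0 := by rw [g21, Matrix.zero_mul]
    rwa [Matrix.mul_assoc, sc_mul, mul_inv_cancel₀ ha, sc_one, Matrix.mul_one] at this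
  rw [hV21, Matrix.zero_mul, zero_add] at g22
  exact ⟨⟨S, V.toBlocks₂₂, h22, g22⟩, rfl⟩

/-- the elimination step when the corner entry is nonzero. -/
theorem elim_step {κ : Type*} [Fintype κ] [DecidableEq κ]
    (IH : ∀ S : Matrix κ κ D, IsUnit S → ∃ a : D, a ≠ 0 ∧ F ρ S = (ρ a).det)
    (g : Matrix (Unit ⊕ κ) (Unit ⊕ κ) D) (hg : IsUnit g) (h0 : g (Sum.inl ()) (Sum.inl ()) ≠ 0) :
    ∃ a : D, a ≠ 0 ∧ F ρ g = (ρ a).det := by
  set a₀ := g (Sum.inl ()) (Sum.inl ()) with ha₀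
  have hA : g.toBlocks₁₁ = sc a₀ := eq_sc _
  set B := g.toBlocks₁₂ with hB
  set C := g.toBlocks₂₁ with hC
  set D' := g.toBlocks₂₂ with hD'
  set S := D' - C * sc a₀⁻¹ * B with hS
  have hg0 : g = fromBlocks (sc a₀) B C D' := by
    rw [← hA]; exact (Matrix.fromBlocks_toBlocks g).symm
  have hdecomp : g = fromBlocks 1 0 (C * sc a₀⁻¹) 1 * fromBlocks (sc a₀) B 0 S := by
    rw [Matrix.fromBlocks_multiply, hg0, Matrix.fromBlocks_inj]
    refine ⟨by simp, by simp, ?_, ?_⟩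
    · rw [Matrix.mul_zero, add_zero, Matrix.mul_assoc, sc_mul, inv_mul_cancel₀ h0, sc_one,
        Matrix.mul_one]
    · rw [Matrix.one_mul, hS]; abel
  have hLunit : IsUnit (fromBlocks (1 : Matrix Unit Unit D) 0 (C * sc a₀⁻¹) (1 : Matrix κ κ D)) := by
    have h1 : fromBlocks (1 : Matrix Unit Unit D) 0 (C * sc a₀⁻¹) (1 : Matrix κ κ D) *
        fromBlocks 1 0 (-(C * sc a₀⁻¹)) 1 = 1 := by
      rw [Matrix.fromBlocks_multiply, ← Matrix.fromBlocks_one, Matrix.fromBlocks_inj]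
      refine ⟨by simp, by simp, by simp, by simp⟩
    have h2 : fromBlocks (1 : Matrix Unit Unit D) 0 (-(C * sc a₀⁻¹)) (1 : Matrix κ κ D) *
        fromBlocks 1 0 (C * sc a₀⁻¹) 1 = 1 := by
      rw [Matrix.fromBlocks_multiply, ← Matrix.fromBlocks_one, Matrix.fromBlocks_inj]
      refine ⟨by simp, by simp, by simp, by simp⟩
    exact ⟨⟨_, _, h1, h2⟩, rfl⟩
  have hUunit : IsUnit (fromBlocks (sc a₀) B 0 S) := by
    have h1 : IsUnit (fromBlocks (1 : Matrix Unit Unit D) 0 (C * sc a₀⁻¹) (1 : Matrix κ κ D) *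
        fromBlocks (sc a₀) B 0 S) := by rw [← hdecomp]; exact hg
    exact (IsUnit.mul_left_iff hLunit).mp h1
  have hSunit : IsUnit S := isUnit_of_isUnit_fromBlocks a₀ h0 B S hUunit
  obtain ⟨a', ha', hFa'⟩ := IH S hSunit
  refine ⟨a₀ * a', mul_ne_zero h0 ha', ?_⟩
  rw [hdecomp, F_mul, F_fromBlocks_zero₁₂, F_fromBlocks_zero₂₁, F_one, F_one, F_sc, hFa', map_mul,
    Matrix.det_mul]
  ring

/-- the elimination step in general. -/
theorem elim_general {κ : Type*} [Fintype κ] [DecidableEq κ]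
    (IH : ∀ S : Matrix κ κ D, IsUnit S → ∃ a : D, a ≠ 0 ∧ F ρ S = (ρ a).det)
    (g : Matrix (Unit ⊕ κ) (Unit ⊕ κ) D) (hg : IsUnit g) :
    ∃ a : D, a ≠ 0 ∧ F ρ g = (ρ a).det := by
  by_cases h0 : g (Sum.inl ()) (Sum.inl ()) ≠ 0
  · exact elim_step ρ IH g hg h0
  rw [not_not] at h0
  -- some entry of the first column is nonzero
  have hex : ∃ i : κ, g (Sum.inr i) (Sum.inl ()) ≠ 0 := by
    by_contra hne
    rw [not_exists] at hne
    obtain ⟨⟨U, V, hUV, hVU⟩, hU⟩ := hg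
    change U = g at hU
    subst hU
    have h1 := congrFun (congrFun hVU (Sum.inl ())) (Sum.inl ())
    rw [Matrix.mul_apply, Fintype.sum_sum_type] at h1
    simp only [Finset.univ_unique, Finset.sum_singleton, h0, mul_zero, zero_add,
      Matrix.one_apply_eq] at h1
    have h2 : ∑ x : κ, V (Sum.inl ()) (Sum.inr x) * U (Sum.inr x) (Sum.inl ()) = 0 :=
      Finset.sum_eq_zero (fun x _ => by rw [not_not.mp (hne x), mul_zero])
    rw [h2] at h1
    exact zero_ne_one h1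
  obtain ⟨i, hi⟩ := hex
  set R : Matrix Unit κ D := Matrix.single () i 1 with hR
  have hT1 : fromBlocks (1 : Matrix Unit Unit D) R 0 (1 : Matrix κ κ D) * fromBlocks 1 (-R) 0 1 = 1 := by
    rw [Matrix.fromBlocks_multiply, ← Matrix.fromBlocks_one, Matrix.fromBlocks_inj]
    refine ⟨by simp, by simp, by simp, by simp⟩
  have hT2 : fromBlocks (1 : Matrix Unit Unit D) (-R) 0 (1 : Matrix κ κ D) * fromBlocks 1 R 0 1 = 1 := by
    rw [Matrix.fromBlocks_multiply, ← Matrix.fromBlocks_one, Matrix.fromBlocks_inj]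
    refine ⟨by simp, by simp, by simp, by simp⟩
  have hTunit : IsUnit (fromBlocks (1 : Matrix Unit Unit D) R 0 (1 : Matrix κ κ D)) :=
    ⟨⟨_, _, hT1, hT2⟩, rfl⟩
  have hTg : IsUnit (fromBlocks (1 : Matrix Unit Unit D) R 0 (1 : Matrix κ κ D) * g) :=
    hTunit.mul hg
  have hentry : (fromBlocks (1 : Matrix Unit Unit D) R 0 (1 : Matrix κ κ D) * g) (Sum.inl ())
      (Sum.inl ()) ≠ 0 := by
    rw [Matrix.mul_apply, Fintype.sum_sum_type]
    simp only [Finset.univ_unique, Finset.sum_singleton, Matrix.fromBlocks_apply₁₁,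
      Matrix.fromBlocks_apply₁₂, h0, mul_zero, zero_add]
    rw [Finset.sum_eq_single i]
    · simpa [hR] using hi
    · intro j _ hj
      simp [hR, Ne.symm hj]
    · intro h; exact absurd (Finset.mem_univ i) h
  obtain ⟨a, ha, hFa⟩ := elim_step ρ IH _ hTg hentry
  refine ⟨a, ha, ?_⟩
  rw [F_mul, F_fromBlocks_zero₂₁, F_one, F_one, one_mul, one_mul] at hFa
  exact hFa

/-- **Elimination**: on invertible matrices over a division ring, `F ρ` only takes the values
`det (ρ a)` with `a ≠ 0`. -/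
theorem exists_det_eq : ∀ (r : ℕ) (ι : Type) [Fintype ι] [DecidableEq ι],
    Fintype.card ι = r + 1 → ∀ g : Matrix ι ι D, IsUnit g →
      ∃ a : D, a ≠ 0 ∧ F ρ g = (ρ a).det := by
  intro r
  induction r with
  | zero =>
    intro ι _ _ hcard g hg
    have e : ι ≃ Unit := Fintype.equivOfCardEq (by rw [hcard]; rfl)
    have hg' : IsUnit (Matrix.reindex e e g) := hg.map (Matrix.reindexAlgEquiv ℤ D e)
    refine ⟨Matrix.reindex e e g () (), ?_, ?_⟩
    · intro h
      rw [eq_sc (Matrix.reindex e e g), h] at hg'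
      have : (sc (0 : D)) = 0 := by ext; rfl
      rw [this] at hg'
      exact not_isUnit_zero hg'
    · rw [← F_reindex ρ e g, F_unit]
  | succ r ih =>
    intro ι _ _ hcard g hg
    have e : ι ≃ Unit ⊕ Fin (r + 1) := Fintype.equivOfCardEq (by
      rw [hcard, Fintype.card_sum, Fintype.card_unique, Fintype.card_fin]; omega)
    have hg' : IsUnit (Matrix.reindex e e g) := hg.map (Matrix.reindexAlgEquiv ℤ D e)
    obtain ⟨a, ha, hFa⟩ := elim_general ρ (ih (Fin (r + 1)) (by simp)) _ hg'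
    exact ⟨a, ha, by rw [← F_reindex ρ e g, hFa]⟩

/-- the value at `diag(a, 1, …, 1)`. -/
theorem F_diag {κ : Type*} [Fintype κ] [DecidableEq κ] (a : D) :
    F ρ (fromBlocks (sc a) 0 0 (1 : Matrix κ κ D)) = (ρ a).det := by
  rw [F_fromBlocks_zero₂₁, F_one, mul_one, F_sc]

end elim

end Groth.Agent.Lead.RedN
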