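import Mathlib
import Groth.Prelude.Def_GSzCSA
import Groth.Agent.Lib.Lead.RedN1
import Groth.Agent.Lib.Lead.RedN2
import Groth.Agent.Lib.Lead.CSA20

/-!
# Reduced norms of `A ≅ M_r(D)` in terms of `D`
-/

set_option autoImplicit false
set_option linter.unusedSectionVars false

namespace Groth.Agent.Lead.RedN

open TensorProduct Matrix Module

universe u v w w'

section

variable {k : Type u} [Field k] {A : Type v} [Ring A] [Algebra k A] [Algebra.IsCentral k A]
  [IsSimpleRing A] [FiniteDimensional k A]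
variable {D : Type w} [DivisionRing D] [Algebra k D]
variable {L : Type w'} [Field L] [Algebra k L] {d : ℕ}

/-- the algebra hom `X → M_d(L)` attached to a splitting. -/
noncomputable def rhoOf {X : Type*} [Ring X] [Algebra k X]
    (φ : L ⊗[k] X ≃ₐ[L] Matrix (Fin d) (Fin d) L) :
    X →ₐ[k] Matrix (Fin d) (Fin d) L :=
  (φ.toAlgHom.restrictScalars k).comp Algebra.TensorProduct.includeRight

theorem rhoOf_apply {X : Type*} [Ring X] [Algebra k X]
    (φ : L ⊗[k] X ≃ₐ[L] Matrix (Fin d) (Fin d) L) (a : X) :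
    rhoOf φ a = φ (1 ⊗ₜ[k] a) := rfl

/-- `Phi` as an algebra hom. -/
noncomputable def PhiAlg (ρ : D →ₐ[k] Matrix (Fin d) (Fin d) L) (r : ℕ) :
    Matrix (Fin r) (Fin r) D →ₐ[k] Matrix (Fin r × Fin d) (Fin r × Fin d) L :=
  (Matrix.compAlgEquiv (Fin r) (Fin d) L k).toAlgHom.comp ρ.mapMatrix

theorem PhiAlg_apply (ρ : D →ₐ[k] Matrix (Fin d) (Fin d) L) (r : ℕ)
    (g : Matrix (Fin r) (Fin r) D) : PhiAlg ρ r g = Phi (ρ : D →+* _) (Fin r) g := rfl

/-- the size of a splitting. -/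
theorem finrank_of_splitting {X : Type*} [Ring X] [Algebra k X]
    (φ : L ⊗[k] X ≃ₐ[L] Matrix (Fin d) (Fin d) L) : finrank k X = d * d := by
  have h1 : finrank L (L ⊗[k] X) = finrank k X := Module.finrank_baseChange
  rw [← h1, φ.toLinearEquiv.finrank_eq, Module.finrank_matrix]; simp

/-- **Key identity**: the reduced norm of `A ≅ M_r(D)` is computed by `F ρ`. -/
theorem F_eq_redNorm [FiniteDimensional k D] {r : ℕ} (hr : r ≠ 0) (hd : d ≠ 0)
    (ψ : A ≃ₐ[k] Matrix (Fin r) (Fin r) D)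
    (ρ : D →ₐ[k] Matrix (Fin d) (Fin d) L) (hdim : finrank k D = d * d)
    (N : A →* k) (hN : CSAGal.IsRedNorm k A N) (a : A) :
    F (ρ : D →+* Matrix (Fin d) (Fin d) L) (ψ a) = algebraMap k L (N a) := by
  obtain ⟨K₁, _, _, _, n₁, φ₁, h₁⟩ := hN
  have hA1 : finrank k A = n₁ * n₁ := finrank_of_splitting φ₁
  have hA2 : finrank k A = r * r * (d * d) := by
    rw [ψ.toLinearEquiv.finrank_eq, Module.finrank_matrix, hdim]; simp
  have hsize : r * d = n₁ := by
    have : (r * d) * (r * d) = n₁ * n₁ := by rw [← hA1, hA2]; ring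
    exact Nat.mul_self_inj.mp this
  have hn₁ : n₁ ≠ 0 := by rw [← hsize]; exact Nat.mul_ne_zero hr hd
  have : Nonempty (Fin n₁) := ⟨⟨0, Nat.pos_of_ne_zero hn₁⟩⟩
  let e : Fin r × Fin d ≃ Fin n₁ := finProdFinEquiv.trans (finCongr hsize)
  let ρ₂ : A →ₐ[k] Matrix (Fin n₁) (Fin n₁) L :=
    (Matrix.reindexAlgEquiv k L e).toAlgHom.comp ((PhiAlg ρ r).comp ψ.toAlgHom)
  have key := det_eq_cross (rhoOf φ₁) ρ₂ a (N a) (by rw [rhoOf_apply]; exact (h₁ a).symm)
  rw [← key]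
  change _ = (Matrix.reindex e e (PhiAlg ρ r (ψ a))).det
  rw [Matrix.det_reindex_self, PhiAlg_apply]
  rfl

/-- **Range of the reduced norm** of `A ≅ M_r(D)` in terms of `D` only. -/
theorem mem_range_iff [FiniteDimensional k D] {r : ℕ} (hr : r ≠ 0) (hd : d ≠ 0)
    (ψ : A ≃ₐ[k] Matrix (Fin r) (Fin r) D)
    (ρ : D →ₐ[k] Matrix (Fin d) (Fin d) L) (hdim : finrank k D = d * d)
    (N : A →* k) (hN : CSAGal.IsRedNorm k A N) (c : kˣ) :
    c ∈ (Units.map N).range ↔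
      ∃ a : D, a ≠ 0 ∧ algebraMap k L (c : k) = (ρ a).det := by
  constructor
  · rintro ⟨u, hu⟩
    have hNu : N (u : A) = (c : k) := by rw [← hu]; rfl
    have hunit : IsUnit (ψ (u : A)) := u.isUnit.map ψ
    obtain ⟨a, ha, hFa⟩ := exists_det_eq (ρ : D →+* Matrix (Fin d) (Fin d) L) (r - 1) (Fin r)
      (by rw [Fintype.card_fin]; omega) (ψ (u : A)) hunit
    refine ⟨a, ha, ?_⟩
    rw [← hNu, ← F_eq_redNorm hr hd ψ ρ hdim N hN, hFa]
    rfl
  · rintro ⟨a, ha, hca⟩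
    have e : Fin r ≃ Unit ⊕ Fin (r - 1) := Fintype.equivOfCardEq (by
      simp only [Fintype.card_sum, Fintype.card_unit, Fintype.card_fin]; omega)
    have h1 : fromBlocks (sc a) 0 0 (1 : Matrix (Fin (r - 1)) (Fin (r - 1)) D) *
        fromBlocks (sc a⁻¹) 0 0 1 = 1 := by
      rw [Matrix.fromBlocks_multiply, ← Matrix.fromBlocks_one, Matrix.fromBlocks_inj]
      refine ⟨?_, by simp, by simp, by simp⟩
      rw [Matrix.zero_mul, add_zero, sc_mul, mul_inv_cancel₀ ha, sc_one]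
    have h2 : fromBlocks (sc a⁻¹) 0 0 (1 : Matrix (Fin (r - 1)) (Fin (r - 1)) D) *
        fromBlocks (sc a) 0 0 1 = 1 := by
      rw [Matrix.fromBlocks_multiply, ← Matrix.fromBlocks_one, Matrix.fromBlocks_inj]
      refine ⟨?_, by simp, by simp, by simp⟩
      rw [Matrix.zero_mul, add_zero, sc_mul, inv_mul_cancel₀ ha, sc_one]
    have hg₀ : IsUnit (fromBlocks (sc a) 0 0 (1 : Matrix (Fin (r - 1)) (Fin (r - 1)) D)) :=
      ⟨⟨_, _, h1, h2⟩, rfl⟩
    have hg : IsUnit (Matrix.reindex e.symm e.symm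
        (fromBlocks (sc a) 0 0 (1 : Matrix (Fin (r - 1)) (Fin (r - 1)) D))) :=
      hg₀.map (Matrix.reindexAlgEquiv ℤ D e.symm)
    have hu : IsUnit (ψ.symm (Matrix.reindex e.symm e.symm
        (fromBlocks (sc a) 0 0 (1 : Matrix (Fin (r - 1)) (Fin (r - 1)) D)))) := hg.map ψ.symm
    refine ⟨hu.unit, ?_⟩
    apply Units.ext
    change N _ = (c : k)
    apply (algebraMap k L).injective
    rw [IsUnit.unit_spec, ← F_eq_redNorm hr hd ψ ρ hdim N hN, AlgEquiv.apply_symm_apply, F_reindex,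
      F_diag, hca]
    rfl

end

end Groth.Agent.Lead.RedN
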