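import Mathlib
import Groth.Agent.Lib.Lead.Dense3

/-!
# The centralizer of a regular element of a central simple algebra
-/

set_option autoImplicit false

namespace Groth.Agent.Lead.AzReg

open Matrix Polynomial TensorProduct Module
open Groth.Agent.Lead.Dense Groth.Agent.Lead.RedN Groth.Agent.Lead.CSA

universe u v

section matrix

variable {K : Type u} [Field K] {d : ℕ}

theorem conj_pow (g gi D : Matrix (Fin d) (Fin d) K) (h2 : gi * g = 1) (i : ℕ) :
    (g * D * gi) ^ i * g = g * D ^ i := by
  induction i with
  | zero => simp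
  | succ n ih =>
    calc (g * D * gi) ^ (n + 1) * g = (g * D * gi) ^ n * (g * D * (gi * g)) := by
          rw [pow_succ]; simp only [mul_assoc]
      _ = (g * D * gi) ^ n * g * D := by rw [h2, mul_one]; simp only [mul_assoc]
      _ = g * D ^ (n + 1) := by rw [ih, mul_assoc, ← pow_succ]

/-- a matrix commuting with a matrix with separable characteristic polynomial is a polynomial of
degree `< d` in it -/
theorem mem_span_pow_of_commute [IsAlgClosed K] (X : Matrix (Fin d) (Fin d) K)
    (hsep : X.charpoly.Separable) (Y : Matrix (Fin d) (Fin d) K) (h : Y * X = X * Y) :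
    Y ∈ Submodule.span K (Set.range fun i : Fin d => X ^ (i : ℕ)) := by
  classical
  obtain ⟨g, e, hg, hXg, he⟩ := exists_diag' X hsep
  have hgdet : IsUnit g.det := (Matrix.isUnit_iff_isUnit_det g).mp hg
  obtain ⟨gi, h1, h2⟩ : ∃ gi, g * gi = 1 ∧ gi * g = 1 :=
    ⟨g⁻¹, Matrix.mul_nonsing_inv g hgdet, Matrix.nonsing_inv_mul g hgdet⟩
  have hX : X = g * diagonal e * gi := by
    rw [← hXg, mul_assoc, h1, mul_one]
  have hgiX : gi * X = diagonal e * gi := by
    rw [hX, ← mul_assoc, ← mul_assoc, h2, one_mul]
  -- conjugate of Y commutes with the diagonal matrix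
  have hY' : (gi * Y * g) * diagonal e = diagonal e * (gi * Y * g) := by
    calc gi * Y * g * diagonal e = gi * Y * (X * g) := by rw [hXg, mul_assoc]
      _ = gi * (Y * X) * g := by simp only [mul_assoc]
      _ = gi * X * Y * g := by rw [h]; simp only [mul_assoc]
      _ = diagonal e * (gi * Y * g) := by rw [hgiX]; simp only [mul_assoc]
  have hdiag : gi * Y * g = diagonal (fun i => (gi * Y * g) i i) := by
    ext i j
    by_cases hij : i = j
    · subst hij; simp
    · have h3 := congrFun (congrFun hY' i) j
      rw [Matrix.mul_diagonal, Matrix.diagonal_mul] at h3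
      have h4 : (e j - e i) * (gi * Y * g) i j = 0 := by rw [sub_mul, mul_comm, h3, sub_self]
      rcases mul_eq_zero.mp h4 with h5 | h5
      · exact absurd (he (sub_eq_zero.mp h5)).symm hij
      · rw [h5, Matrix.diagonal_apply_ne _ hij]
  -- interpolation
  let p : K[X] := Lagrange.interpolate Finset.univ e (fun i => (gi * Y * g) i i)
  have hpdeg : p.natDegree < d ∨ d = 0 := by
    rcases Nat.eq_zero_or_pos d with h0 | h0
    · exact Or.inr h0
    · left
      have hlt : p.degree < (Finset.univ : Finset (Fin d)).card :=
        Lagrange.degree_interpolate_lt _ (he.injOn)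
      rw [Finset.card_univ, Fintype.card_fin] at hlt
      by_cases hp0 : p = 0
      · rw [hp0, natDegree_zero]; exact h0
      · exact (natDegree_lt_iff_degree_lt hp0).mpr hlt
  rcases hpdeg with hpdeg | hd0
  · have hpe : ∀ i, p.eval (e i) = (gi * Y * g) i i := fun i =>
      Lagrange.eval_interpolate_at_node _ (he.injOn) (Finset.mem_univ i)
    have hYsum : Y = ∑ i ∈ Finset.range d, p.coeff i • X ^ i := by
      have h5 : (∑ i ∈ Finset.range d, p.coeff i • X ^ i) * g = Y * g := by
        rw [Finset.sum_mul]
        have h6 : ∀ i ∈ Finset.range d, p.coeff i • X ^ i * g =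
            g * (p.coeff i • diagonal (fun j => e j ^ i)) := by
          intro i _
          rw [Matrix.smul_mul, hX, conj_pow g gi _ h2, Matrix.diagonal_pow, Matrix.mul_smul]
          rfl
        rw [Finset.sum_congr rfl h6, ← Finset.mul_sum]
        have h7 : ∑ i ∈ Finset.range d, p.coeff i • diagonal (fun j => e j ^ i) =
            gi * Y * g := by
          rw [hdiag]
          ext a b
          rw [Matrix.sum_apply]
          by_cases hab : a = b
          · subst hab
            simp only [Matrix.smul_apply, Matrix.diagonal_apply_eq, smul_eq_mul]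
            rw [← hpe a, Polynomial.eval_eq_sum_range' hpdeg]
          · simp [Matrix.diagonal_apply_ne _ hab]
        rw [h7, ← mul_assoc, ← mul_assoc, h1, one_mul]
      have h8 := congrArg (· * gi) h5
      simp only [mul_assoc, h1, mul_one] at h8
      exact h8.symm
    rw [hYsum]
    refine Submodule.sum_mem _ (fun i hi => Submodule.smul_mem _ _ ?_)
    exact Submodule.subset_span ⟨⟨i, Finset.mem_range.mp hi⟩, rfl⟩
  · subst hd0
    rw [Subsingleton.elim Y 0]
    exact Submodule.zero_mem _

end matrix

section csa

variable {k : Type u} [Field k] {B : Type v} [Ring B] [Algebra k B] [Algebra.IsCentral k B]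
  [IsSimpleRing B] [FiniteDimensional k B]

/-- in a central simple algebra of degree `r`, an element whose minimal polynomial is separable of
degree `r` has centralizer spanned by its first `r` powers -/
theorem centralizer_regular (r : ℕ) (hdim : finrank k B = r ^ 2) (x : B)
    (hsep : (minpoly k x).Separable) (hdeg : (minpoly k x).natDegree = r) (y : B)
    (hy : y * x = x * y) :
    y ∈ Submodule.span k (Set.range fun i : Fin r => x ^ (i : ℕ)) := by
  classical
  obtain ⟨d, hd, ⟨θ⟩⟩ := exists_splitting_algClosure k B
  have hdd : d = r := by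
    have h1 : finrank k B = d * d := finrank_of_splitting θ
    rw [hdim, pow_two] at h1
    exact (Nat.mul_self_inj.mp h1).symm
  subst hdd
  obtain ⟨ρ, hρ⟩ : ∃ ρ : B →ₐ[k] Matrix (Fin d) (Fin d) (AlgebraicClosure k), ρ = rhoOf θ :=
    ⟨_, rfl⟩
  have hρinj : Function.Injective ρ := by
    rw [hρ]
    intro a b hab
    rw [rhoOf_apply, rhoOf_apply] at hab
    have h1 := θ.injective hab
    exact Module.Flat.tensorProduct_mk_injective k B (AlgebraicClosure k) h1
  have hli0 : LinearIndependent k (fun i : Fin d => x ^ (i : ℕ)) := by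
    have h1 := linearIndependent_pow (K := k) x
    rw [hdeg] at h1
    exact h1
  -- base change of linear independence
  have hbc : ∀ {n : ℕ} (w : Fin n → B), LinearIndependent k w →
      LinearIndependent (AlgebraicClosure k) (fun i => ρ (w i)) := by
    intro n w hw
    have h1 : LinearIndependent (AlgebraicClosure k)
        (fun i => (1 : AlgebraicClosure k) ⊗ₜ[k] w i) := Module.Flat.linearIndependent_one_tmul hw
    have h2 := h1.map' θ.toLinearEquiv.toLinearMap (LinearMap.ker_eq_bot.mpr θ.injective)
    rw [hρ]
    exact h2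
  have hli : LinearIndependent (AlgebraicClosure k) (fun i : Fin d => (ρ x) ^ (i : ℕ)) := by
    have h1 := hbc _ hli0
    simp_rw [map_pow] at h1
    exact h1
  -- the characteristic polynomial of `ρ x` is separable
  have hint : IsIntegral (AlgebraicClosure k) (ρ x) := IsIntegral.of_finite _ _
  have hq_dvd : minpoly (AlgebraicClosure k) (ρ x) ∣
      (minpoly k x).map (algebraMap k (AlgebraicClosure k)) := by
    apply minpoly.dvd
    rw [aeval_map_algebraMap, aeval_algHom_apply, minpoly.aeval, map_zero]
  have hq_sep : (minpoly (AlgebraicClosure k) (ρ x)).Separable :=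
    (hsep.map).of_dvd hq_dvd
  have hq_deg : d ≤ (minpoly (AlgebraicClosure k) (ρ x)).natDegree := by
    let W : Submodule (AlgebraicClosure k) (Matrix (Fin d) (Fin d) (AlgebraicClosure k)) :=
      Submodule.span _ (Set.range fun j : Fin (minpoly (AlgebraicClosure k) (ρ x)).natDegree =>
        (ρ x) ^ (j : ℕ))
    have hmem : ∀ i : Fin d, (ρ x) ^ (i : ℕ) ∈ W := fun i =>
      hint.mem_span_pow ⟨Polynomial.X ^ (i : ℕ), by simp⟩
    have hliW : LinearIndependent (AlgebraicClosure k)
        (fun i : Fin d => (⟨(ρ x) ^ (i : ℕ), hmem i⟩ : W)) :=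
      LinearIndependent.of_comp W.subtype hli
    have h1 := hliW.fintype_card_le_finrank
    rw [Fintype.card_fin] at h1
    have h2 : finrank (AlgebraicClosure k) W ≤
        Fintype.card (Fin (minpoly (AlgebraicClosure k) (ρ x)).natDegree) :=
      finrank_range_le_card _
    rw [Fintype.card_fin] at h2
    exact h1.trans h2
  have hchar : (ρ x).charpoly = minpoly (AlgebraicClosure k) (ρ x) :=
    Polynomial.eq_of_monic_of_dvd_of_natDegree_le (minpoly.monic hint) (Matrix.charpoly_monic _)
      (Matrix.minpoly_dvd_charpoly _) (by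
        rw [Matrix.charpoly_natDegree_eq_dim, Fintype.card_fin]; exact hq_deg)
  have hXsep : (ρ x).charpoly.Separable := by rw [hchar]; exact hq_sep
  -- descent
  by_contra hy'
  have h1 : LinearIndependent k (Fin.cons y (fun i : Fin d => x ^ (i : ℕ)) : Fin (d + 1) → B) :=
    linearIndependent_finCons.mpr ⟨hli0, hy'⟩
  have h2 := hbc _ h1
  have h3 : (fun i => ρ ((Fin.cons y (fun i : Fin d => x ^ (i : ℕ)) : Fin (d + 1) → B) i)) =
      Fin.cons (ρ y) (fun i : Fin d => (ρ x) ^ (i : ℕ)) := by
    funext i
    refine Fin.cases ?_ (fun j => ?_) i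
    · simp
    · simp
  rw [h3] at h2
  have h4 := (linearIndependent_finCons.mp h2).2
  apply h4
  apply mem_span_pow_of_commute (ρ x) hXsep (ρ y)
  rw [← map_mul, ← map_mul, hy]

end csa

end Groth.Agent.Lead.AzReg
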