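import Mathlib
import Groth.Agent.Lib.Lead.AzReg1
import Groth.Agent.Lib.Helper8.AzFibre

/-!
# Regular elements of Azumaya algebras over local rings
-/

set_option autoImplicit false

namespace Groth.Agent.Lead.AzReg

open TensorProduct Module

universe u v

/-- dimension of `k[x]` (noncommutative ambient ring allowed) -/
theorem finrank_adjoin_singleton {K : Type*} [Field K] {S : Type*} [Ring S] [Algebra K S] (x : S)
    (hx : IsIntegral K x) :
    finrank K (Algebra.adjoin K ({x} : Set S)) = (minpoly K x).natDegree := by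
  have hST : Function.Injective (Algebra.adjoin K ({x} : Set S)).val := Subtype.coe_injective
  let x' : Algebra.adjoin K ({x} : Set S) := ⟨x, Algebra.subset_adjoin (Set.mem_singleton x)⟩
  have hmin : minpoly K x' = minpoly K x :=
    (minpoly.algHom_eq (Algebra.adjoin K ({x} : Set S)).val hST x').symm
  have hx' : IsIntegral K x' := by
    apply (isIntegral_algHom_iff (Algebra.adjoin K ({x} : Set S)).val hST).mp
    exact hx
  have hli : LinearIndependent K (fun i : Fin (minpoly K x').natDegree => x' ^ (i : ℕ)) :=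
    linearIndependent_pow x'
  have hspan : ⊤ ≤ Submodule.span K
      (Set.range fun i : Fin (minpoly K x').natDegree => x' ^ (i : ℕ)) := by
    rintro ⟨y, hy⟩ _
    apply hx'.mem_span_pow
    rw [Algebra.adjoin_singleton_eq_range_aeval] at hy
    obtain ⟨f, rfl⟩ := (Polynomial.aeval x).mem_range.mp hy
    use f
    apply hST
    rw [← Polynomial.aeval_algHom_apply]
    rfl
  have b := Basis.mk hli hspan
  rw [finrank_eq_card_basis b, Fintype.card_fin, hmin]

/-- lifting a regular element: the first `r` powers are independent and span a subalgebra -/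
theorem regular_lift (R : Type u) [CommRing R] [IsLocalRing R] (A : Type u) [Ring A] [Algebra R A]
    [IsAzumaya R A] (r : ℕ) (hA : Module.finrank R A = r ^ 2) (ξ : A)
    (hsepx : (minpoly (IsLocalRing.ResidueField R)
      ((1 : IsLocalRing.ResidueField R) ⊗ₜ[R] ξ)).Separable)
    (hdeg : (minpoly (IsLocalRing.ResidueField R)
      ((1 : IsLocalRing.ResidueField R) ⊗ₜ[R] ξ)).natDegree = r) :
    LinearIndependent R (fun i : Fin r => ξ ^ (i : ℕ)) ∧
      ξ ^ r ∈ Submodule.span R (Set.range (fun i : Fin r => ξ ^ (i : ℕ))) := by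
  classical
  have : Module.Free R A := Module.free_of_flat_of_isLocalRing
  obtain ⟨hcen, hsimple⟩ :=
    Groth.Agent.Helper8.fibre_csa_of_isAzumaya R A (IsLocalRing.ResidueField R)
  obtain ⟨x, hx⟩ : ∃ x : IsLocalRing.ResidueField R ⊗[R] A,
      x = (1 : IsLocalRing.ResidueField R) ⊗ₜ[R] ξ := ⟨_, rfl⟩
  rw [← hx] at hsepx hdeg
  have hdimk : finrank (IsLocalRing.ResidueField R) (IsLocalRing.ResidueField R ⊗[R] A) = r ^ 2 := by
    rw [Module.finrank_baseChange, hA]
  have hxpow : ∀ i : ℕ, x ^ i = (1 : IsLocalRing.ResidueField R) ⊗ₜ[R] (ξ ^ i) := by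
    intro i
    rw [hx, Algebra.TensorProduct.tmul_pow, one_pow]
  have hlik : LinearIndependent (IsLocalRing.ResidueField R) (fun i : Fin r => x ^ (i : ℕ)) := by
    have h1 := linearIndependent_pow (K := IsLocalRing.ResidueField R) x
    rw [hdeg] at h1
    exact h1
  have hli : LinearIndependent R (fun i : Fin r => ξ ^ (i : ℕ)) := by
    apply IsLocalRing.linearIndependent_of_flat
    convert hlik using 1
    funext i
    simp [hxpow]
  refine ⟨hli, ?_⟩
  let Mφ : Submodule R A := Submodule.span R (Set.range (fun i : Fin r => ξ ^ (i : ℕ)))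
  let adξ : A →ₗ[R] A := LinearMap.mulLeft R ξ - LinearMap.mulRight R ξ
  have hker : Mφ ≤ LinearMap.ker adξ := by
    rw [Submodule.span_le]
    rintro _ ⟨i, rfl⟩
    simp only [SetLike.mem_coe, LinearMap.mem_ker, adξ, LinearMap.sub_apply,
      LinearMap.mulLeft_apply, LinearMap.mulRight_apply]
    rw [← pow_succ', ← pow_succ, sub_self]
  let l : A ⧸ Mφ →ₗ[R] A := Mφ.liftQ adξ hker
  have hadk : ∀ y : IsLocalRing.ResidueField R ⊗[R] A,
      adξ.lTensor (IsLocalRing.ResidueField R) y = x * y - y * x := by
    intro y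
    induction y using TensorProduct.induction_on with
    | zero => simp
    | tmul c a =>
      rw [LinearMap.lTensor_tmul, hx, Algebra.TensorProduct.tmul_mul_tmul,
        Algebra.TensorProduct.tmul_mul_tmul, one_mul, mul_one, ← TensorProduct.tmul_sub]
      rfl
    | add y z hy hz => rw [map_add, hy, hz]; noncomm_ring
  have hlinj : Function.Injective (l.lTensor (IsLocalRing.ResidueField R)) := by
    rw [← LinearMap.ker_eq_bot, LinearMap.ker_eq_bot']
    intro z hz
    obtain ⟨y, rfl⟩ := LinearMap.lTensor_surjective (IsLocalRing.ResidueField R)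
      (Submodule.mkQ_surjective Mφ) z
    have h1 : l.lTensor (IsLocalRing.ResidueField R)
        (Mφ.mkQ.lTensor (IsLocalRing.ResidueField R) y) =
        adξ.lTensor (IsLocalRing.ResidueField R) y := by
      rw [← LinearMap.comp_apply, ← LinearMap.lTensor_comp]
      congr 2
    rw [h1, hadk, sub_eq_zero] at hz
    have h2 := centralizer_regular r hdimk x hsepx hdeg y hz.symm
    have h3 : Submodule.span (IsLocalRing.ResidueField R)
        (Set.range fun i : Fin r => x ^ (i : ℕ)) ≤
        LinearMap.ker (Mφ.mkQ.baseChange (IsLocalRing.ResidueField R)) := by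
      rw [Submodule.span_le]
      rintro _ ⟨i, rfl⟩
      simp only [SetLike.mem_coe, LinearMap.mem_ker]
      rw [hxpow, LinearMap.baseChange_tmul]
      have : Mφ.mkQ (ξ ^ (i : ℕ)) = 0 := by
        rw [Submodule.mkQ_apply, Submodule.Quotient.mk_eq_zero]
        exact Submodule.subset_span ⟨i, rfl⟩
      rw [this, TensorProduct.tmul_zero]
    exact h3 h2
  obtain ⟨l', hl'⟩ :=
    (IsLocalRing.split_injective_iff_lTensor_residueField_injective l).mpr hlinj
  have hlinj' : Function.Injective l := by
    intro a b hab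
    have := congrArg l' hab
    rw [← LinearMap.comp_apply, ← LinearMap.comp_apply, hl'] at this
    exact this
  have h0 : l (Mφ.mkQ (ξ ^ r)) = 0 := by
    rw [Submodule.mkQ_apply, Submodule.liftQ_apply]
    simp only [adξ, LinearMap.sub_apply, LinearMap.mulLeft_apply, LinearMap.mulRight_apply]
    rw [← pow_succ', ← pow_succ, sub_self]
  have h1 : Mφ.mkQ (ξ ^ r) = 0 := hlinj' (by rw [h0, map_zero])
  rw [Submodule.mkQ_apply, Submodule.Quotient.mk_eq_zero] at h1
  exact h1

end Groth.Agent.Lead.AzReg
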