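import Mathlib
import Groth.Agent.Lib.Lead.AzReg2

/-!
# Existence of regular elements in central simple algebras
-/

set_option autoImplicit false

namespace Groth.Agent.Lead.AzReg

open Matrix Polynomial TensorProduct Module
open Groth.Agent.Lead.Dense Groth.Agent.Lead.RedN Groth.Agent.Lead.CSA Groth.Agent.Lead.MatAut

universe u v

section matrix

variable {K : Type u} [Field K] {d : ℕ}

theorem aeval_mul_of_diag (M g : Matrix (Fin d) (Fin d) K) (e : Fin d → K)
    (h : M * g = g * diagonal e) (q : K[X]) :
    aeval M q * g = g * diagonal (fun j => q.eval (e j)) := by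
  induction q using Polynomial.induction_on' with
  | add p q hp hq =>
    rw [map_add, add_mul, hp, hq, ← mul_add, Matrix.diagonal_add]
    congr 2
    funext j
    rw [eval_add]
  | monomial n a =>
    have h1 : SemiconjBy g (diagonal e) M := h.symm
    have h2 : g * (diagonal e) ^ n = M ^ n * g := h1.pow_right n
    rw [aeval_monomial, Algebra.algebraMap_eq_smul_one, Matrix.smul_mul, one_mul, Matrix.smul_mul,
      ← h2, Matrix.diagonal_pow, ← Matrix.mul_smul]
    congr 1
    ext i j
    by_cases hij : i = j
    · subst hij; simp [eval_monomial]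
    · simp [hij]

theorem le_natDegree_of_aeval_eq_zero [IsAlgClosed K] (M : Matrix (Fin d) (Fin d) K)
    (hsep : M.charpoly.Separable) (q : K[X]) (hq0 : q ≠ 0) (hq : aeval M q = 0) :
    d ≤ q.natDegree := by
  classical
  obtain ⟨g, e, hg, hMg, he⟩ := exists_diag' M hsep
  have h1 := aeval_mul_of_diag M g e hMg q
  rw [hq, zero_mul] at h1
  obtain ⟨gu, rfl⟩ := hg
  have h2 : diagonal (fun j => q.eval (e j)) = 0 := by
    have := congrArg (fun Y => (↑gu⁻¹ : Matrix (Fin d) (Fin d) K) * Y) h1
    simp only [mul_zero, ← mul_assoc, Units.inv_mul, one_mul] at this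
    exact this.symm
  have h3 : ∀ j, q.eval (e j) = 0 := by
    intro j
    have := congrFun (congrFun h2 j) j
    simpa using this
  have h4 : (Finset.univ.image e).card ≤ q.natDegree := by
    apply Polynomial.card_le_degree_of_subset_roots
    intro z hz
    rw [Finset.mem_val, Finset.mem_image] at hz
    obtain ⟨j, -, rfl⟩ := hz
    exact (mem_roots hq0).mpr (h3 j)
  rw [Finset.card_image_of_injective _ he, Finset.card_univ, Fintype.card_fin] at h4
  exact h4

end matrix

section csa

variable (k : Type u) [Field k] (B : Type v) [Ring B] [Algebra k B] [FiniteDimensional k B]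

/-- over an infinite field, a split form of a matrix algebra contains an element whose reduced
characteristic polynomial is separable -/
theorem exists_sep_charpoly [Infinite k] {d : ℕ}
    (θ : AlgebraicClosure k ⊗[k] B ≃ₐ[AlgebraicClosure k]
      Matrix (Fin d) (Fin d) (AlgebraicClosure k)) :
    ∃ x : B, (rhoOf θ x).charpoly.Separable := by
  classical
  by_contra hcon
  push Not at hcon
  let K := AlgebraicClosure k
  have : Infinite K := IsAlgClosed.instInfinite
  let b := Module.finBasis k B
  obtain ⟨ρ, hρ⟩ : ∃ ρ : B →ₐ[k] Matrix (Fin d) (Fin d) K, ρ = rhoOf θ := ⟨_, rfl⟩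
  rw [← hρ] at hcon
  let Λlin : (Fin (finrank k B) → K) →ₗ[K] Matrix (Fin d) (Fin d) K :=
    Fintype.linearCombination K (fun i => ρ (b i))
  let unc : Matrix (Fin d) (Fin d) K →ₗ[K] (Fin d × Fin d → K) :=
    (LinearEquiv.curry K K (Fin d) (Fin d)).symm.toLinearMap
  let L : (Fin (finrank k B) → K) →ₗ[K] (Fin d × Fin d → K) := unc ∘ₗ Λlin
  obtain ⟨p, hp⟩ := exists_subst L (sepPoly K d)
  have hz : ∀ e : B, MvPolynomial.eval (fun i => algebraMap k K (b.repr e i)) p =
      MvPolynomial.eval (fun q => (ρ e) q.1 q.2) (sepPoly K d) := by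
    intro e
    rw [hp]
    congr 2
    have h1 : Λlin (fun i => algebraMap k K (b.repr e i)) = ρ e := by
      change Fintype.linearCombination K (fun i => ρ (b i)) _ = _
      rw [Fintype.linearCombination_apply]
      conv_rhs => rw [← b.sum_repr e, map_sum]
      refine Finset.sum_congr rfl (fun i _ => ?_)
      rw [map_smul, algebraMap_smul]
    change unc (Λlin (fun i => algebraMap k K (b.repr e i))) = _
    rw [h1]
    rfl
  have hp0 : p = 0 := by
    apply MvPolynomial.funext_set (fun _ => Set.range (algebraMap k K))
      (fun _ => Set.infinite_range_of_injective (algebraMap k K).injective)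
    intro z hz'
    rw [map_zero]
    have hz2 : ∀ i, ∃ c : k, algebraMap k K c = z i := fun i => hz' i (Set.mem_univ i)
    choose c hc using hz2
    have h1 := hz (b.equivFun.symm c)
    have h2 : (fun i => algebraMap k K (b.repr (b.equivFun.symm c) i)) = z := by
      funext i
      rw [← hc i]
      congr 1
      have := congrFun (b.equivFun.apply_symm_apply c) i
      exact this
    rw [h2] at h1
    rw [h1]
    by_contra hne
    exact hcon _ ((eval_sepPoly_ne_zero_iff _).mp hne)
  -- surjectivity of Λlin
  let bK : Module.Basis (Fin (finrank k B)) K (K ⊗[k] B) := Algebra.TensorProduct.basis K b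
  have hΛ : ∀ z, Λlin z = θ (bK.equivFun.symm z) := by
    intro z
    change Fintype.linearCombination K (fun i => ρ (b i)) z = _
    rw [Fintype.linearCombination_apply, Module.Basis.equivFun_symm_apply, map_sum]
    refine Finset.sum_congr rfl (fun i _ => ?_)
    rw [map_smul, hρ, rhoOf_apply, Algebra.TensorProduct.basis_apply]
  let e : Fin d → K := fun i => Infinite.natEmbedding K i.val
  have he : Function.Injective e := fun i j hij =>
    Fin.ext ((Infinite.natEmbedding K).injective hij)
  have h1 : (diagonal e).charpoly.Separable := by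
    rw [Matrix.charpoly_diagonal]
    exact separable_prod_X_sub_C_iff.mpr he
  have h2 := (eval_sepPoly_ne_zero_iff (diagonal e)).mpr h1
  apply h2
  have h3 := hp (bK.equivFun (θ.symm (diagonal e)))
  rw [hp0, map_zero] at h3
  rw [h3]
  congr 2
  change _ = unc (Λlin _)
  rw [hΛ, LinearEquiv.symm_apply_apply, AlgEquiv.apply_symm_apply]
  rfl

end csa

section regular

variable (k : Type u) [Field k] (B : Type v) [Ring B] [Algebra k B] [Algebra.IsCentral k B]
  [IsSimpleRing B] [FiniteDimensional k B]

theorem exists_regular_infinite [Infinite k] (r : ℕ) (hdim : finrank k B = r ^ 2) :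
    ∃ x : B, (minpoly k x).Separable ∧ (minpoly k x).natDegree = r := by
  classical
  obtain ⟨d, hd, ⟨θ⟩⟩ := exists_splitting_algClosure k B
  have hdd : d = r := by
    have h1 : finrank k B = d * d := finrank_of_splitting θ
    rw [hdim, pow_two] at h1
    exact (Nat.mul_self_inj.mp h1).symm
  subst hdd
  obtain ⟨x, hx⟩ := exists_sep_charpoly k B θ
  obtain ⟨χ, hχ⟩ := exists_charpoly_descent θ x
  obtain ⟨ρ, hρ⟩ : ∃ ρ : B →ₐ[k] Matrix (Fin d) (Fin d) (AlgebraicClosure k), ρ = rhoOf θ :=
    ⟨_, rfl⟩
  rw [← rhoOf_apply, ← hρ] at hχ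
  rw [← hρ] at hx
  have hρinj : Function.Injective ρ := by
    rw [hρ]
    intro a b hab
    rw [rhoOf_apply, rhoOf_apply] at hab
    have h1 := θ.injective hab
    exact Module.Flat.tensorProduct_mk_injective k B (AlgebraicClosure k) h1
  have hχmonic : χ.Monic := by
    apply Polynomial.monic_of_injective (algebraMap k (AlgebraicClosure k)).injective
    rw [hχ]
    exact Matrix.charpoly_monic _
  have hχdeg : χ.natDegree = d := by
    rw [← natDegree_map (algebraMap k (AlgebraicClosure k)), hχ, Matrix.charpoly_natDegree_eq_dim,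
      Fintype.card_fin]
  have hχsep : χ.Separable := by
    rw [← Polynomial.separable_map (algebraMap k (AlgebraicClosure k)), hχ]
    exact hx
  have hχx : aeval x χ = 0 := by
    apply hρinj
    rw [map_zero, ← aeval_algHom_apply, ← aeval_map_algebraMap (AlgebraicClosure k), hχ]
    exact Matrix.aeval_self_charpoly _
  have hint : IsIntegral k x := IsIntegral.of_finite k x
  have hdvd : minpoly k x ∣ χ := minpoly.dvd k x hχx
  refine ⟨x, hχsep.of_dvd hdvd, le_antisymm ?_ ?_⟩
  · rw [← hχdeg]
    exact natDegree_le_of_dvd hdvd hχmonic.ne_zero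
  · rw [← natDegree_map (algebraMap k (AlgebraicClosure k))]
    apply le_natDegree_of_aeval_eq_zero (ρ x) hx
    · exact (Polynomial.map_ne_zero_iff (algebraMap k (AlgebraicClosure k)).injective).mpr
        (minpoly.ne_zero hint)
    · rw [aeval_map_algebraMap, aeval_algHom_apply, minpoly.aeval, map_zero]

theorem finrank_one_of_finite' [Finite k] (D : Type v) [DivisionRing D]
    [Algebra k D] [FiniteDimensional k D] [Algebra.IsCentral k D] : finrank k D = 1 := by
  have : Finite D := Module.finite_of_finite k
  have hc : ∀ a b : D, a * b = b * a := fun a b => by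
    let _ := littleWedderburn D
    exact mul_comm a b
  have h1 : Subalgebra.center k D = ⊤ := by
    rw [eq_top_iff]
    intro x _
    rw [Subalgebra.mem_center_iff]
    intro y
    exact hc y x
  have h2 : (⊥ : Subalgebra k D) = ⊤ := by
    rw [← h1]; exact (Algebra.IsCentral.center_eq_bot k D).symm
  rw [← Subalgebra.finrank_bot (F := k) (E := D), h2]
  exact (Subalgebra.topEquiv (R := k) (A := D)).toLinearEquiv.finrank_eq.symm

theorem exists_regular_finite [Finite k] (r : ℕ) (hdim : finrank k B = r ^ 2) :
    ∃ x : B, (minpoly k x).Separable ∧ (minpoly k x).natDegree = r := by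
  classical
  have : IsArtinianRing B := IsArtinianRing.of_finite k B
  obtain ⟨n, hn, D, _, _, hDfin, ⟨ψ⟩⟩ := IsSimpleRing.exists_algEquiv_matrix_divisionRing_finite k B
  have hDcen : Algebra.IsCentral k D := isCentral_of_matrix_equiv' ψ
  have hD1 : finrank k D = 1 := finrank_one_of_finite' k D
  have hnr : n = r := by
    have h1 : finrank k B = n * n * finrank k D := by
      rw [ψ.toLinearEquiv.finrank_eq, Module.finrank_matrix]
      simp
    rw [hdim, hD1, mul_one, pow_two] at h1
    exact (Nat.mul_self_inj.mp h1).symm
  subst hnr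
  obtain ⟨p, hp⟩ := CharP.exists k
  have hpp : Fact p.Prime := ⟨CharP.char_is_prime k p⟩
  let F := FiniteField.Extension k p n
  have hF : finrank k F = n := FiniteField.finrank_extension k p n
  have : Finite F := Module.finite_of_finite k
  have hsepF : Algebra.IsSeparable k F := Algebra.IsAlgebraic.isSeparable_of_perfectField
  let pb := Field.powerBasisOfFiniteOfSeparable k F
  let bF : Module.Basis (Fin n) k F := Module.finBasisOfFinrankEq k F hF
  let j : F →ₐ[k] B := (ψ.symm.toAlgHom.comp (Algebra.ofId k D).mapMatrix).comp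
    (Algebra.leftMulMatrix bF)
  have hj : Function.Injective j := j.toRingHom.injective
  refine ⟨j pb.gen, ?_, ?_⟩
  · rw [minpoly.algHom_eq j hj]
    exact Algebra.IsSeparable.isSeparable k pb.gen
  · rw [minpoly.algHom_eq j hj, pb.natDegree_minpoly, ← pb.finrank, hF]

theorem exists_regular (r : ℕ) (hdim : finrank k B = r ^ 2) :
    ∃ x : B, (minpoly k x).Separable ∧ (minpoly k x).natDegree = r := by
  rcases finite_or_infinite k with h | h
  · exact exists_regular_finite k B r hdim
  · exact exists_regular_infinite k B r hdim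

end regular

end Groth.Agent.Lead.AzReg
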