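import Mathlib
import Groth.Agent.Lib.Lead.AzReg3

/-!
# Separable monic polynomials over local rings and étale algebras
-/

set_option autoImplicit false

namespace Groth.Agent.Lead.AzReg

open Polynomial Module

universe u v

section sep

variable {R : Type u} [CommRing R]

theorem separable_of_isUnit_resultant (f : R[X]) (hf : f.Monic)
    (h : IsUnit (resultant f (derivative f) f.natDegree (f.natDegree - 1))) : f.Separable := by
  have hle : (derivative f).natDegree ≤ f.natDegree - 1 := natDegree_derivative_le f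
  obtain ⟨k, hk⟩ := Nat.exists_eq_add_of_le hle
  have h1 : resultant f (derivative f) f.natDegree (f.natDegree - 1) =
      resultant f (derivative f) := by
    rw [hk, resultant_add_right_deg (k := k) (hg := le_rfl), coeff_natDegree, hf.leadingCoeff,
      one_pow, one_mul]
  rw [h1, isUnit_resultant_iff_isCoprime hf] at h
  exact h

theorem separable_of_map_residue [IsLocalRing R] (f : R[X]) (hf : f.Monic)
    (h : (f.map (IsLocalRing.residue R)).Separable) : f.Separable := by
  apply separable_of_isUnit_resultant f hf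
  rw [← IsLocalRing.residue_ne_zero_iff_isUnit, ← resultant_map_map, ← derivative_map]
  have h1 := (Groth.Agent.Lead.Dense.sep_iff_resultant' (f.map (IsLocalRing.residue R))
    (hf.map _) (hf.natDegree_map _)).mp h
  exact h1

/-- `R[X]/(f)` is étale when `f` is monic and separable -/
theorem etale_adjoinRoot (f : R[X]) (hf : f.Monic) (hsep : f.Separable) :
    Algebra.Etale R (AdjoinRoot f) := by
  obtain ⟨a, b, hab⟩ := hsep
  let P : StandardEtalePair R := ⟨f, hf, 1, b, a, 0, by rw [pow_zero, ← hab]; ring⟩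
  let e1 : P.Ring ≃ₐ[R] Localization.Away (AdjoinRoot.mk f (1 : R[X])) := P.equivAwayAdjoinRoot
  have hM : Submonoid.powers (AdjoinRoot.mk f (1 : R[X])) ≤ IsUnit.submonoid (AdjoinRoot f) := by
    rintro x ⟨n, rfl⟩
    simp
  let e2 : AdjoinRoot f ≃ₐ[AdjoinRoot f] Localization.Away (AdjoinRoot.mk f (1 : R[X])) :=
    IsLocalization.atUnits (AdjoinRoot f) (Submonoid.powers (AdjoinRoot.mk f (1 : R[X]))) hM
  exact Algebra.Etale.of_equiv (e1.trans (e2.restrictScalars R).symm)

end sep

section lift

open TensorProduct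

theorem exists_regular_elt (R : Type u) [CommRing R] [IsLocalRing R] (A : Type u) [Ring A]
    [Algebra R A] [IsAzumaya R A] (r : ℕ) (hA : Module.finrank R A = r ^ 2) :
    ∃ (ξ : A) (χ : R[X]), χ.Monic ∧ χ.natDegree = r ∧ χ.Separable ∧ aeval ξ χ = 0 ∧
      LinearIndependent R (fun i : Fin r => ξ ^ (i : ℕ)) ∧
      LinearIndependent (IsLocalRing.ResidueField R)
        (fun i : Fin r => ((1 : IsLocalRing.ResidueField R) ⊗ₜ[R] ξ) ^ (i : ℕ)) := by
  classical
  have : Module.Free R A := Module.free_of_flat_of_isLocalRing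
  obtain ⟨hcen, hsimple⟩ :=
    Groth.Agent.Helper8.fibre_csa_of_isAzumaya R A (IsLocalRing.ResidueField R)
  have hdimk : finrank (IsLocalRing.ResidueField R) (IsLocalRing.ResidueField R ⊗[R] A) = r ^ 2 := by
    rw [Module.finrank_baseChange, hA]
  obtain ⟨x, hsep, hdeg⟩ := exists_regular (IsLocalRing.ResidueField R)
    (IsLocalRing.ResidueField R ⊗[R] A) r hdimk
  obtain ⟨ξ, hξ⟩ := Algebra.TensorProduct.includeRight_surjective (R := R)
    (S := IsLocalRing.ResidueField R) A (IsLocalRing.residue_surjective) x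
  rw [Algebra.TensorProduct.includeRight_apply] at hξ
  subst hξ
  obtain ⟨hli, hmem⟩ := regular_lift R A r hA ξ hsep hdeg
  obtain ⟨c, hc⟩ := (Submodule.mem_span_range_iff_exists_fun R).mp hmem
  let χ : R[X] := X ^ r - ∑ i : Fin r, C (c i) * X ^ (i : ℕ)
  have hlt : (∑ i : Fin r, C (c i) * X ^ (i : ℕ)).degree < (X ^ r : R[X]).degree := by
    rw [degree_X_pow]
    exact degree_sum_fin_lt c
  have hmonic : χ.Monic := (monic_X_pow r).sub_of_left hlt
  have hχdeg : χ.natDegree = r := by
    have h1 : χ.degree = (X ^ r : R[X]).degree := degree_sub_eq_left_of_degree_lt hlt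
    rw [degree_X_pow] at h1
    exact natDegree_eq_of_degree_eq_some h1
  have hχξ : aeval ξ χ = 0 := by
    simp only [χ, map_sub, map_pow, aeval_X, map_sum, map_mul, aeval_C]
    rw [← hc, sub_eq_zero]
    refine Finset.sum_congr rfl (fun i _ => ?_)
    rw [Algebra.smul_def]
  have hlik : LinearIndependent (IsLocalRing.ResidueField R)
      (fun i : Fin r => ((1 : IsLocalRing.ResidueField R) ⊗ₜ[R] ξ) ^ (i : ℕ)) := by
    have h1 := linearIndependent_pow (K := IsLocalRing.ResidueField R)
      ((1 : IsLocalRing.ResidueField R) ⊗ₜ[R] ξ)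
    rw [hdeg] at h1
    exact h1
  have hχx : aeval ((1 : IsLocalRing.ResidueField R) ⊗ₜ[R] ξ)
      (χ.map (algebraMap R (IsLocalRing.ResidueField R))) = 0 := by
    rw [aeval_map_algebraMap]
    have h1 := aeval_algHom_apply (Algebra.TensorProduct.includeRight :
      A →ₐ[R] IsLocalRing.ResidueField R ⊗[R] A) ξ χ
    rw [Algebra.TensorProduct.includeRight_apply] at h1
    rw [h1, hχξ, map_zero]
  have hint : IsIntegral (IsLocalRing.ResidueField R)
      ((1 : IsLocalRing.ResidueField R) ⊗ₜ[R] ξ) := IsIntegral.of_finite _ _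
  have hdvd := minpoly.dvd _ _ hχx
  have heq : χ.map (algebraMap R (IsLocalRing.ResidueField R)) =
      minpoly (IsLocalRing.ResidueField R) ((1 : IsLocalRing.ResidueField R) ⊗ₜ[R] ξ) :=
    Polynomial.eq_of_monic_of_dvd_of_natDegree_le (minpoly.monic hint) (hmonic.map _) hdvd (by
      rw [hmonic.natDegree_map, hχdeg, hdeg])
  have hχsep : χ.Separable := by
    apply separable_of_map_residue χ hmonic
    change (χ.map (algebraMap R (IsLocalRing.ResidueField R))).Separable
    rw [heq]
    exact hsep
  exact ⟨ξ, χ, hmonic, hχdeg, hχsep, hχξ, hli, hlik⟩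

end lift

end Groth.Agent.Lead.AzReg
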