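import Mathlib

set_option autoImplicit false
universe u
open TensorProduct

namespace Groth.Agent.Lead.ConChart

section Alg

variable {A C : Type u} [CommRing A] [CommRing C] [Algebra A C]
  {M N : Type u} [AddCommGroup M] [Module A M] [AddCommGroup N] [Module A N] [Module C N]
  [IsScalarTower A C N]
  (hs : Function.Surjective (algebraMap A C))
  (l : M →ₗ[A] N) (hb : IsBaseChange C l)

include hs hb in
/-- a base change along a surjective ring map is surjective. -/
theorem bc_surjective : Function.Surjective l := by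
  intro n
  induction n using hb.inductionOn with
  | zero => exact ⟨0, map_zero _⟩
  | tmul m => exact ⟨m, rfl⟩
  | smul c n ih =>
    obtain ⟨m, rfl⟩ := ih
    obtain ⟨a, rfl⟩ := hs c
    exact ⟨a • m, by rw [map_smul, algebraMap_smul]⟩
  | add n₁ n₂ h₁ h₂ =>
    obtain ⟨m₁, rfl⟩ := h₁
    obtain ⟨m₂, rfl⟩ := h₂
    exact ⟨m₁ + m₂, map_add _ _ _⟩

variable (ι : M →ₗ[A] A) (hι : Function.Injective ι)
  (hr : LinearMap.range ι = RingHom.ker (algebraMap A C))

include hb hι hr in
theorem bc_eq_zero_of_mem_sq (m : M) (h : ι m ∈ RingHom.ker (algebraMap A C) ^ 2) : l m = 0 := by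
  rw [pow_two] at h
  have key : ∀ x ∈ RingHom.ker (algebraMap A C) * RingHom.ker (algebraMap A C),
      ∀ m : M, ι m = x → l m = 0 := by
    intro x hx
    refine Submodule.mul_induction_on' (C := fun x _ => ∀ m : M, ι m = x → l m = 0) ?_ ?_ hx
    · intro a ha b hb' m hm
      have hb2 : b ∈ LinearMap.range ι := by rw [hr]; exact hb'
      obtain ⟨mb, rfl⟩ := hb2
      have : m = a • mb := by
        apply hι
        rw [hm, map_smul, smul_eq_mul]
      rw [this, map_smul, ← algebraMap_smul C a (l mb), RingHom.mem_ker.mp ha, zero_smul]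
    · intro x hx y _ hx' hy' m hm
      have hxr : x ∈ LinearMap.range ι := by
        rw [hr]; exact Ideal.mul_le_left hx
      obtain ⟨mx, rfl⟩ := hxr
      have : l (m - mx) = 0 := hy' (m - mx) (by rw [map_sub, hm, add_sub_cancel_left])
      rw [map_sub, hx' mx rfl, sub_zero] at this
      exact this
  exact key _ h m rfl

include hs hb hr in
theorem mem_sq_of_bc_eq_zero (m : M) (h : l m = 0) : ι m ∈ RingHom.ker (algebraMap A C) ^ 2 := by
  let I : Ideal A := RingHom.ker (algebraMap A C)
  let e : C ≃+* A ⧸ I := (RingHom.quotientKerEquivOfSurjective hs).symm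
  letI : Module C I.Cotangent := Module.compHom I.Cotangent (e : C →+* A ⧸ I)
  have he : ∀ a : A, e (algebraMap A C a) = Ideal.Quotient.mk I a := by
    intro a
    change (RingHom.quotientKerEquivOfSurjective hs).symm (algebraMap A C a) = _
    rw [RingEquiv.symm_apply_eq]
    rfl
  haveI : IsScalarTower A C I.Cotangent := by
    refine IsScalarTower.of_algebraMap_smul fun a ω => ?_
    change e (algebraMap A C a) • ω = a • ω
    rw [he]
    rfl
  have hmem : ∀ m : M, ι m ∈ I := by
    intro m
    have : ι m ∈ LinearMap.range ι := ⟨m, rfl⟩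
    rw [hr] at this
    exact this
  let q' : M →ₗ[A] I.Cotangent := I.toCotangent ∘ₗ LinearMap.codRestrict I ι hmem
  have h1 : hb.lift q' (l m) = q' m := hb.lift_eq q' m
  rw [h, map_zero] at h1
  have h2 : I.toCotangent ⟨ι m, hmem m⟩ = 0 := h1.symm
  exact (Ideal.toCotangent_eq_zero I ⟨ι m, hmem m⟩).mp h2

include hs hb hι hr in
theorem bc_eq_zero_iff (m : M) : l m = 0 ↔ ι m ∈ RingHom.ker (algebraMap A C) ^ 2 :=
  ⟨mem_sq_of_bc_eq_zero hs l hb ι hr m, bc_eq_zero_of_mem_sq l hb ι hι hr m⟩

end Alg

end Groth.Agent.Lead.ConChart
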