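import Mathlib
import Groth.Prelude.Def_Omega4
import Groth.Agent.Lib.Lead.OmU14a
import Groth.Agent.Lib.Lead.IdM1

set_option autoImplicit false
universe u
open CategoryTheory CategoryTheory.Limits AlgebraicGeometry TopologicalSpace Opposite

set_option backward.isDefEq.respectTransparency.types false

namespace Groth.Agent.Lead.ConMap

open OmegaSh Groth.Agent.Lead.DerU Groth.Agent.Lead.IdM Groth.Agent.Lead.OmU

section Lift

variable {Z X : Scheme.{u}} (i : Z ⟶ X) [QuasiCompact i]

/-- a function killed by a quasi-compact morphism is a section of the kernel ideal module. -/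
theorem exists_idealSect (W : X.Opens) (r : Γ(X, W)) (h : (i.app W).hom r = 0) :
    ∃ s : Γ(ClSub.idealMod i.ker, W), idealSect i.ker W s = r := by
  have hr : r ∈ Set.range ((ClSub.idealModι i.ker).app W) := by
    rw [mem_range_ι_iff]
    let J : X.IdealSheafData := i.ker
    let ι : J.subscheme ⟶ X := J.subschemeι
    change (ι.app W).hom r = 0
    refine J.subscheme.sheaf.eq_of_locally_eq'
      (fun V : {V : X.affineOpens // (V : X.Opens) ≤ W} => ι ⁻¹ᵁ (V.1 : X.Opens))
      (ι ⁻¹ᵁ W) (fun V => (Opens.map ι.base).map (homOfLE V.2)) ?_ _ _ ?_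
    · intro z hz
      obtain ⟨_, ⟨V, hV, rfl⟩, hzV, hVW⟩ :=
        X.isBasis_affineOpens.exists_subset_of_mem_open hz W.isOpen
      exact Opens.mem_iSup.mpr ⟨⟨⟨V, hV⟩, hVW⟩, hzV⟩
    · intro V
      change J.subscheme.presheaf.map ((Opens.map ι.base).map (homOfLE V.2)).op
          (ι.app W r) =
        J.subscheme.presheaf.map ((Opens.map ι.base).map (homOfLE V.2)).op 0
      rw [map_zero, ← ConcreteCategory.comp_apply]
      erw [← Scheme.Hom.naturality ι (homOfLE V.2).op]
      rw [ConcreteCategory.comp_apply]
      have hmem : X.presheaf.map (homOfLE V.2).op r ∈ J.ideal V.1 := by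
        change _ ∈ i.ker.ideal V.1
        rw [Scheme.Hom.ker_apply, RingHom.mem_ker]
        have hn := i.naturality (homOfLE V.2).op
        have hn' := congr($hn r)
        change (i.app V.1.1).hom ((X.presheaf.map (homOfLE V.2).op).hom r) = _ at hn'
        rw [hn']
        change (Z.presheaf.map _).hom ((i.app W).hom r) = 0
        rw [h, map_zero]
      rw [← Scheme.IdealSheafData.ker_subschemeι_app, RingHom.mem_ker] at hmem
      exact hmem
  obtain ⟨s, hs⟩ := hr
  exact ⟨s, hs⟩

end Lift

end Groth.Agent.Lead.ConMap
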