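import Mathlib
import Groth.Prelude.Def_Omega4
import Groth.Agent.Lib.Lead.ConMap1

set_option autoImplicit false
universe u
open CategoryTheory CategoryTheory.Limits AlgebraicGeometry TopologicalSpace Opposite

set_option backward.isDefEq.respectTransparency.types false

namespace Groth.Agent.Lead.ConMap

open OmegaSh Groth.Agent.Lead.DerU Groth.Agent.Lead.IdM Groth.Agent.Lead.OmU

section Construct

variable {Z X Z' X' : Scheme.{u}} (i : Z ⟶ X) (i' : Z' ⟶ X')
  (g : X ⟶ X') (gZ : Z ⟶ Z') (hsq : gZ ≫ i' = i ≫ g)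

include hsq in
theorem preimage_le (U' : X'.Opens) : gZ ⁻¹ᵁ (i' ⁻¹ᵁ U') ≤ i ⁻¹ᵁ (g ⁻¹ᵁ U') := by
  intro z hz
  have h1 : (gZ ≫ i') z ∈ U' := hz
  rw [hsq] at h1
  exact h1

include hsq in
theorem preimage_ge (U' : X'.Opens) : i ⁻¹ᵁ (g ⁻¹ᵁ U') ≤ gZ ⁻¹ᵁ (i' ⁻¹ᵁ U') := by
  intro z hz
  have h1 : (i ≫ g) z ∈ U' := hz
  rw [← hsq] at h1
  exact h1

include hsq in
theorem sq_app (U' : X'.Opens) (a' : Γ(X', U')) :
    (Z.presheaf.map (homOfLE (preimage_le i i' g gZ hsq U')).op).hom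
        ((i.app (g ⁻¹ᵁ U')).hom ((g.app U').hom a')) =
      (gZ.app (i' ⁻¹ᵁ U')).hom ((i'.app U').hom a') := by
  have h4 : (Z.presheaf.map (homOfLE (preimage_le i i' g gZ hsq U')).op).hom
        ((i.app (g ⁻¹ᵁ U')).hom ((g.app U').hom a')) =
      ((i ≫ g).appLE U' (gZ ⁻¹ᵁ (i' ⁻¹ᵁ U')) (preimage_le i i' g gZ hsq U')).hom a' := rfl
  have h5 : (gZ.app (i' ⁻¹ᵁ U')).hom ((i'.app U').hom a') =
      ((gZ ≫ i').appLE U' ((gZ ≫ i') ⁻¹ᵁ U') le_rfl).hom a' := by
    rw [Scheme.Hom.appLE_eq_app]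
    rfl
  have h3 := appLE_congr_hom hsq.symm (U := U') (V := (gZ ≫ i') ⁻¹ᵁ U')
    (preimage_le i i' g gZ hsq U') le_rfl
  have h6 := congr($h3 a')
  exact h4.trans (h6.trans h5.symm)

include hsq in
theorem res_injective (U' : X'.Opens) :
    Function.Injective (Z.presheaf.map (homOfLE (preimage_le i i' g gZ hsq U')).op).hom := by
  have heq : gZ ⁻¹ᵁ (i' ⁻¹ᵁ U') = i ⁻¹ᵁ (g ⁻¹ᵁ U') :=
    le_antisymm (preimage_le i i' g gZ hsq U') (preimage_ge i i' g gZ hsq U')
  have : IsIso (homOfLE (preimage_le i i' g gZ hsq U')) :=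
    ⟨homOfLE heq.ge, rfl, rfl⟩
  have h2 : IsIso (homOfLE (preimage_le i i' g gZ hsq U')).op := inferInstance
  have h3 : IsIso (Z.presheaf.map (homOfLE (preimage_le i i' g gZ hsq U')).op) :=
    Functor.map_isIso _ _
  exact ((ConcreteCategory.isIso_iff_bijective _).1 h3).1

include hsq in
theorem kill (U' : X'.Opens) (s' : Γ(ClSub.idealMod i'.ker, U')) :
    (i.app (g ⁻¹ᵁ U')).hom ((g.app U').hom (idealSect i'.ker U' s')) = 0 := by
  apply res_injective i i' g gZ hsq U'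
  rw [sq_app i i' g gZ hsq, map_zero]
  have := app_idealSect i' U' s'
  change (gZ.app (i' ⁻¹ᵁ U')).hom ((i'.app U') (idealSect i'.ker U' s')) = 0
  rw [this, map_zero]

variable [QuasiCompact i]

/-- the section of the ideal of `i` over `g⁻¹U'` with function `g♯ s'`. -/
noncomputable def liftI (U' : X'.Opens) (s' : Γ(ClSub.idealMod i'.ker, U')) :
    Γ(ClSub.idealMod i.ker, g ⁻¹ᵁ U') :=
  (exists_idealSect i (g ⁻¹ᵁ U') _ (kill i i' g gZ hsq U' s')).choose

theorem liftI_spec (U' : X'.Opens) (s' : Γ(ClSub.idealMod i'.ker, U')) :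
    idealSect i.ker (g ⁻¹ᵁ U') (liftI i i' g gZ hsq U' s') =
      (g.app U').hom (idealSect i'.ker U' s') :=
  (exists_idealSect i (g ⁻¹ᵁ U') _ (kill i i' g gZ hsq U' s')).choose_spec

theorem idealSect_injective (I : X.IdealSheafData) (U : X.Opens) :
    Function.Injective (idealSect I U) := ιL_injective I U

theorem liftI_unique (U' : X'.Opens) (s' : Γ(ClSub.idealMod i'.ker, U'))
    (s : Γ(ClSub.idealMod i.ker, g ⁻¹ᵁ U'))
    (h : idealSect i.ker (g ⁻¹ᵁ U') s = (g.app U').hom (idealSect i'.ker U' s')) :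
    s = liftI i i' g gZ hsq U' s' := by
  apply idealSect_injective
  rw [h, liftI_spec]

theorem liftI_add (U' : X'.Opens) (s' t' : Γ(ClSub.idealMod i'.ker, U')) :
    liftI i i' g gZ hsq U' (s' + t') = liftI i i' g gZ hsq U' s' + liftI i i' g gZ hsq U' t' := by
  symm
  apply liftI_unique
  rw [map_add, map_add, map_add, liftI_spec, liftI_spec]

theorem liftI_smul (U' : X'.Opens) (a' : Γ(X', U')) (s' : Γ(ClSub.idealMod i'.ker, U')) :
    liftI i i' g gZ hsq U' (a' • s') = (g.app U').hom a' • liftI i i' g gZ hsq U' s' := by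
  symm
  apply liftI_unique
  rw [idealSect_smul, idealSect_smul, liftI_spec, map_mul]

theorem liftI_map {U' V' : X'.Opens} (h : V' ≤ U') (s' : Γ(ClSub.idealMod i'.ker, U')) :
    liftI i i' g gZ hsq V' ((ClSub.idealMod i'.ker).presheaf.map (homOfLE h).op s') =
      (ClSub.idealMod i.ker).presheaf.map (homOfLE (g.preimage_mono h)).op
        (liftI i i' g gZ hsq U' s') := by
  symm
  apply liftI_unique
  rw [idealSect_map, idealSect_map, liftI_spec]
  have hn := g.naturality (homOfLE h).op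
  exact (congr($hn (idealSect i'.ker U' s'))).symm

end Construct

end Groth.Agent.Lead.ConMap
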