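import Mathlib
import Groth.Prelude.Def_Omega4
import Groth.Agent.Lib.Lead.ConMap2
import Groth.Agent.Lib.Lead.OmU11b

set_option autoImplicit false
universe u
open CategoryTheory CategoryTheory.Limits AlgebraicGeometry TopologicalSpace Opposite

set_option backward.isDefEq.respectTransparency.types false

namespace Groth.Agent.Lead.ConMap

open OmegaSh Groth.Agent.Lead.DerU Groth.Agent.Lead.IdM Groth.Agent.Lead.OmU

section Map

variable {Z X Z' X' : Scheme.{u}} (i : Z ⟶ X) (i' : Z' ⟶ X') [QuasiCompact i]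
  (g : X ⟶ X') (gZ : Z ⟶ Z') (hsq : gZ ≫ i' = i ≫ g)

omit [QuasiCompact i] in
theorem conormalSect_smul (U : X.Opens) (r : Γ(X, U)) (m : Γ(ClSub.idealMod i.ker, U)) :
    conormalSect i U (r • m) = (show Γ(Omega.conormal i, i ⁻¹ᵁ U) from
      ((i.app U).hom r) • (show Γ(Omega.conormal i, i ⁻¹ᵁ U) from conormalSect i U m)) :=
  pullSect_smul i (ClSub.idealMod i.ker) U r m

omit [QuasiCompact i] in
theorem conormalSect_map {U V : X.Opens} (e : V ≤ U) (m : Γ(ClSub.idealMod i.ker, U)) :
    conormalSect i V ((ClSub.idealMod i.ker).presheaf.map (homOfLE e).op m) =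
      (Omega.conormal i).presheaf.map (homOfLE (i.preimage_mono e)).op (conormalSect i U m) :=
  pullSect_map i (ClSub.idealMod i.ker) e m

/-- the target of the adjunct of the conormal map. -/
noncomputable abbrev tgt : X'.Modules :=
  (Scheme.Modules.pushforward i').obj ((Scheme.Modules.pushforward gZ).obj (Omega.conormal i))

/-- the adjunct of the conormal map on sections. -/
noncomputable def conMapVal (U' : X'.Opens) :
    Γ(ClSub.idealMod i'.ker, U') →+ Γ(tgt i i' gZ, U') :=
  AddMonoidHom.mk' (fun s' => (Omega.conormal i).presheaf.map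
      (homOfLE (preimage_le i i' g gZ hsq U')).op
      (conormalSect i (g ⁻¹ᵁ U') (liftI i i' g gZ hsq U' s')))
    (fun s' t' => by
      rw [liftI_add, map_add, map_add]
      rfl)

theorem conMapVal_apply (U' : X'.Opens) (s' : Γ(ClSub.idealMod i'.ker, U')) :
    conMapVal i i' g gZ hsq U' s' = (Omega.conormal i).presheaf.map
      (homOfLE (preimage_le i i' g gZ hsq U')).op
      (conormalSect i (g ⁻¹ᵁ U') (liftI i i' g gZ hsq U' s')) := rfl

theorem conMapVal_smul (U' : X'.Opens) (a' : Γ(X', U')) (s' : Γ(ClSub.idealMod i'.ker, U')) :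
    conMapVal i i' g gZ hsq U' (a' • s') = a' • conMapVal i i' g gZ hsq U' s' := by
  rw [conMapVal_apply, conMapVal_apply, liftI_smul, conormalSect_smul,
    Scheme.Modules.map_smul]
  have h := sq_app i i' g gZ hsq U' a'
  change (Z.presheaf.map (homOfLE (preimage_le i i' g gZ hsq U')).op).hom
    ((i.app (g ⁻¹ᵁ U')).hom ((g.app U').hom a')) • _ = _
  rw [h]
  rfl

theorem conMapVal_map (U' V' : X'.Opens) (h : V' ≤ U') (s' : Γ(ClSub.idealMod i'.ker, U')) :
    conMapVal i i' g gZ hsq V' ((ClSub.idealMod i'.ker).presheaf.map (homOfLE h).op s') =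
      (tgt i i' gZ).presheaf.map (homOfLE h).op (conMapVal i i' g gZ hsq U' s') := by
  rw [conMapVal_apply, conMapVal_apply, liftI_map, conormalSect_map, resM_resM]
  change _ = (Omega.conormal i).presheaf.map
    (homOfLE (gZ.preimage_mono (i'.preimage_mono h))).op _
  rw [resM_resM]
  rfl

/-- the adjunct of the conormal map. -/
noncomputable def conMapAdj : ClSub.idealMod i'.ker ⟶ tgt i i' gZ :=
  homMk _ _ (conMapVal i i' g gZ hsq) (conMapVal_smul i i' g gZ hsq) (conMapVal_map i i' g gZ hsq)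

theorem adjadj_app (φ : (Scheme.Modules.pullback gZ).obj (Omega.conormal i') ⟶ Omega.conormal i)
    (U' : X'.Opens) (s' : Γ(ClSub.idealMod i'.ker, U')) :
    (adj i' (adj gZ φ)).app U' s' =
      φ.app (gZ ⁻¹ᵁ (i' ⁻¹ᵁ U'))
        (pullSect gZ (Omega.conormal i') (i' ⁻¹ᵁ U') (conormalSect i' U' s')) := by
  rw [adj_app, adj_app]
  rfl

theorem isConormalMap_iff
    (φ : (Scheme.Modules.pullback gZ).obj (Omega.conormal i') ⟶ Omega.conormal i) :
    IsConormalMap i i' g gZ φ ↔ adj i' (adj gZ φ) = conMapAdj i i' g gZ hsq := by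
  constructor
  · rintro ⟨-, H⟩
    apply Scheme.Modules.hom_ext
    intro U'
    ext s'
    change (adj i' (adj gZ φ)).app U' s' = conMapVal i i' g gZ hsq U' s'
    rw [adjadj_app, conMapVal_apply]
    have h := H U' s' (liftI i i' g gZ hsq U' s') (liftI_spec i i' g gZ hsq U' s')
      (gZ ⁻¹ᵁ (i' ⁻¹ᵁ U')) le_rfl (preimage_le i i' g gZ hsq U')
    exact (res_self (Omega.conormal i) le_rfl _).symm.trans h
  · intro H
    refine ⟨hsq, ?_⟩
    intro U' s' s hs V h₁ h₂
    have h1 := adjadj_app i i' gZ φ U' s'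
    rw [H] at h1
    change conMapVal i i' g gZ hsq U' s' = _ at h1
    rw [← h1, conMapVal_apply, ← liftI_unique i i' g gZ hsq U' s' s hs, resM_resM]
    rfl

include hsq in
/-- **existence and uniqueness of the canonical map of conormal sheaves** -/
theorem existsUnique_conormalMap :
    ∃! φ : (Scheme.Modules.pullback gZ).obj (Omega.conormal i') ⟶ Omega.conormal i,
      IsConormalMap i i' g gZ φ := by
  obtain ⟨ψ₁, hψ₁⟩ := (adj_bijective i' (Ω := ClSub.idealMod i'.ker)
    (Ω' := (Scheme.Modules.pushforward gZ).obj (Omega.conormal i))).2 (conMapAdj i i' g gZ hsq)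
  obtain ⟨φ, hφ⟩ := (adj_bijective gZ (Ω := Omega.conormal i') (Ω' := Omega.conormal i)).2 ψ₁
  refine ⟨φ, ?_, ?_⟩
  · change IsConormalMap i i' g gZ φ
    rw [isConormalMap_iff i i' g gZ hsq]
    exact (congrArg (adj i') hφ).trans hψ₁
  · intro φ' hφ'
    rw [isConormalMap_iff i i' g gZ hsq] at hφ'
    apply (adj_bijective gZ (Ω := Omega.conormal i') (Ω' := Omega.conormal i)).1
    apply (adj_bijective i' (Ω := ClSub.idealMod i'.ker)
      (Ω' := (Scheme.Modules.pushforward gZ).obj (Omega.conormal i))).1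
    exact hφ'.trans ((congrArg (adj i') hφ).trans hψ₁).symm

end Map

end Groth.Agent.Lead.ConMap
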