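import Mathlib
import Groth.Prelude.Def_Omega4
import Groth.Agent.Lib.Lead.ConChart1
import Groth.Agent.Lib.Lead.ConMap3
import Groth.Agent.Lib.Lead.OmU11c
import Groth.Agent.Lib.Lead.IdM6

set_option autoImplicit false
universe u
open CategoryTheory CategoryTheory.Limits AlgebraicGeometry TopologicalSpace Opposite

set_option backward.isDefEq.respectTransparency.types false

namespace Groth.Agent.Lead.ConChart

open OmegaSh Groth.Agent.Lead.DerU Groth.Agent.Lead.IdM Groth.Agent.Lead.OmU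
  Groth.Agent.Lead.BCU Groth.Agent.Lead.ConMap

section Cls

variable {Z X : Scheme.{u}} (i : Z ⟶ X) [IsImmersion i] [QuasiCompact i]
  {W : X.Opens} (hW : IsAffineOpen W) (hWc : W ≤ i.coborderRange)

include hW hWc in
/-- on an adapted affine chart, every section of the conormal sheaf is the class of a section of
the ideal. -/
theorem cls_surjective (n : Γ(Omega.conormal i, i ⁻¹ᵁ W)) :
    ∃ s : Γ(ClSub.idealMod i.ker, W), conormalSect i W s = n := by
  have hU : IsAffineOpen (i ⁻¹ᵁ W) := isAffineOpen_preimage_of_le_coborder i hW hWc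
  have hs : Function.Surjective (i.appLE W (i ⁻¹ᵁ W) le_rfl).hom :=
    app_surjective_of_le_coborder i hW hWc
  letI algAB := (i.appLE W (i ⁻¹ᵁ W) le_rfl).hom.toAlgebra
  haveI : (ClSub.idealMod i.ker).IsQuasicoherent :=
    Groth.Agent.Helper1.IdealModL.isQuasicoherent_idealMod i.ker
  letI : Module Γ(X, W) Γ((Scheme.Modules.pullback i).obj (ClSub.idealMod i.ker), i ⁻¹ᵁ W) :=
    Module.compHom _ (i.appLE W (i ⁻¹ᵁ W) le_rfl).hom
  haveI : IsScalarTower Γ(X, W) Γ(Z, i ⁻¹ᵁ W)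
      Γ((Scheme.Modules.pullback i).obj (ClSub.idealMod i.ker), i ⁻¹ᵁ W) :=
    ⟨fun a a' n => by
      change ((i.appLE W (i ⁻¹ᵁ W) le_rfl).hom a * a') • n =
        (i.appLE W (i ⁻¹ᵁ W) le_rfl).hom a • a' • n
      exact mul_smul _ _ _⟩
  obtain ⟨l₁, hl₁, hb₁⟩ := isBC_unitRes i (ClSub.idealMod i.ker) hW hU le_rfl
  obtain ⟨s, hs'⟩ := bc_surjective hs l₁ hb₁ n
  refine ⟨s, ?_⟩
  rw [← hs', hl₁, unitRes_self]
  rfl

include hW hWc in
theorem cls_eq_zero_iff (s : Γ(ClSub.idealMod i.ker, W)) :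
    conormalSect i W s = 0 ↔
      idealSect i.ker W s ∈ RingHom.ker (i.appLE W (i ⁻¹ᵁ W) le_rfl).hom ^ 2 := by
  have hU : IsAffineOpen (i ⁻¹ᵁ W) := isAffineOpen_preimage_of_le_coborder i hW hWc
  have hs : Function.Surjective (i.appLE W (i ⁻¹ᵁ W) le_rfl).hom :=
    app_surjective_of_le_coborder i hW hWc
  letI algAB := (i.appLE W (i ⁻¹ᵁ W) le_rfl).hom.toAlgebra
  haveI : (ClSub.idealMod i.ker).IsQuasicoherent :=
    Groth.Agent.Helper1.IdealModL.isQuasicoherent_idealMod i.ker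
  letI : Module Γ(X, W) Γ((Scheme.Modules.pullback i).obj (ClSub.idealMod i.ker), i ⁻¹ᵁ W) :=
    Module.compHom _ (i.appLE W (i ⁻¹ᵁ W) le_rfl).hom
  haveI : IsScalarTower Γ(X, W) Γ(Z, i ⁻¹ᵁ W)
      Γ((Scheme.Modules.pullback i).obj (ClSub.idealMod i.ker), i ⁻¹ᵁ W) :=
    ⟨fun a a' n => by
      change ((i.appLE W (i ⁻¹ᵁ W) le_rfl).hom a * a') • n =
        (i.appLE W (i ⁻¹ᵁ W) le_rfl).hom a • a' • n
      exact mul_smul _ _ _⟩
  obtain ⟨l₁, hl₁, hb₁⟩ := isBC_unitRes i (ClSub.idealMod i.ker) hW hU le_rfl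
  have hr : LinearMap.range (ιL i.ker W) =
      RingHom.ker (algebraMap Γ(X, W) Γ(Z, i ⁻¹ᵁ W)) := by
    rw [range_ιL i.ker ⟨W, hW⟩, ← ker_appLE_eq i hW]
    rfl
  have h := bc_eq_zero_iff hs l₁ hb₁ (ιL i.ker W) (ιL_injective i.ker W) hr s
  rw [hl₁, unitRes_self] at h
  exact h

end Cls

end Groth.Agent.Lead.ConChart
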