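import Mathlib
import Groth.Prelude.Def_Omega4
import Groth.Agent.Lib.Lead.ConChart2

set_option autoImplicit false
universe u
open CategoryTheory CategoryTheory.Limits AlgebraicGeometry TopologicalSpace Opposite

set_option backward.isDefEq.respectTransparency.types false

namespace Groth.Agent.Lead.ConChart

open OmegaSh Groth.Agent.Lead.DerU Groth.Agent.Lead.IdM Groth.Agent.Lead.OmU
  Groth.Agent.Lead.BCU Groth.Agent.Lead.ConMap

section PullId

variable {X : Scheme.{u}} (M : X.Modules)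

theorem pullbackId_hom_app (U : X.Opens) (m : Γ(M, U)) :
    ((Scheme.Modules.pullbackId X).hom.app M).app U (pullSect (𝟙 X) M U m) = m := by
  have h1 := unit_conjugateEquiv (Adjunction.id (C := X.Modules))
    (Scheme.Modules.pullbackPushforwardAdjunction (𝟙 X)) (Scheme.Modules.pullbackId X).hom M
  rw [Scheme.Modules.conjugateEquiv_pullbackId_hom] at h1
  have h2 := congrArg (fun ψ => Scheme.Modules.Hom.app ψ U m) h1
  exact h2.symm

theorem pullbackId_inv_app (U : X.Opens) (m : Γ(M, U)) :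
    ((Scheme.Modules.pullbackId X).inv.app M).app U m = pullSect (𝟙 X) M U m := by
  have h1 := pullbackId_hom_app M U m
  have h2 : ((Scheme.Modules.pullbackId X).hom.app M).app U
      (((Scheme.Modules.pullbackId X).inv.app M).app U m) = m := by
    have := congrArg (fun ψ => Scheme.Modules.Hom.app ψ U m)
      ((Scheme.Modules.pullbackId X).inv_hom_id_app M)
    exact this
  have hinj : Function.Injective (((Scheme.Modules.pullbackId X).hom.app M).app U) := by
    have : IsIso (((Scheme.Modules.pullbackId X).hom.app M).app U) := inferInstance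
    exact ((ConcreteCategory.isIso_iff_bijective _).1 this).1
  exact hinj (h2.trans h1.symm)

end PullId

section Cls'

variable {Z X : Scheme.{u}} (i : Z ⟶ X) [QuasiCompact i]
  {W : X.Opens} (hW : IsAffineOpen W) (hU : IsAffineOpen (i ⁻¹ᵁ W))
  (hs : Function.Surjective (i.appLE W (i ⁻¹ᵁ W) le_rfl).hom)

include hW hU hs in
/-- on an adapted affine chart, every section of the conormal sheaf is the class of a section of
the ideal. -/
theorem cls_surjective' (n : Γ(Omega.conormal i, i ⁻¹ᵁ W)) :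
    ∃ s : Γ(ClSub.idealMod i.ker, W), conormalSect i W s = n := by
  letI algAB := (i.appLE W (i ⁻¹ᵁ W) le_rfl).hom.toAlgebra
  haveI : (ClSub.idealMod i.ker).IsQuasicoherent :=
    Groth.Agent.Helper1.IdealModL.isQuasicoherent_idealMod i.ker
  letI : Module Γ(X, W) Γ((Scheme.Modules.pullback i).obj (ClSub.idealMod i.ker), i ⁻¹ᵁ W) :=
    Module.compHom _ (i.appLE W (i ⁻¹ᵁ W) le_rfl).hom
  haveI : IsScalarTower Γ(X, W) Γ(Z, i ⁻¹ᵁ W)
      Γ((Scheme.Modules.pullback i).obj (ClSub.idealMod i.ker), i ⁻¹ᵁ W) :=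
    ⟨fun a a' n => by
      change ((i.appLE W (i ⁻¹ᵁ W) le_rfl).hom a * a') • n =
        (i.appLE W (i ⁻¹ᵁ W) le_rfl).hom a • a' • n
      exact mul_smul _ _ _⟩
  obtain ⟨l₁, hl₁, hb₁⟩ := isBC_unitRes i (ClSub.idealMod i.ker) hW hU le_rfl
  obtain ⟨s, hs'⟩ := bc_surjective hs l₁ hb₁ n
  refine ⟨s, ?_⟩
  rw [← hs', hl₁, unitRes_self]
  rfl

include hW hU hs in
theorem cls_eq_zero_iff' (s : Γ(ClSub.idealMod i.ker, W)) :
    conormalSect i W s = 0 ↔
      idealSect i.ker W s ∈ RingHom.ker (i.appLE W (i ⁻¹ᵁ W) le_rfl).hom ^ 2 := by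
  letI algAB := (i.appLE W (i ⁻¹ᵁ W) le_rfl).hom.toAlgebra
  haveI : (ClSub.idealMod i.ker).IsQuasicoherent :=
    Groth.Agent.Helper1.IdealModL.isQuasicoherent_idealMod i.ker
  letI : Module Γ(X, W) Γ((Scheme.Modules.pullback i).obj (ClSub.idealMod i.ker), i ⁻¹ᵁ W) :=
    Module.compHom _ (i.appLE W (i ⁻¹ᵁ W) le_rfl).hom
  haveI : IsScalarTower Γ(X, W) Γ(Z, i ⁻¹ᵁ W)
      Γ((Scheme.Modules.pullback i).obj (ClSub.idealMod i.ker), i ⁻¹ᵁ W) :=
    ⟨fun a a' n => by
      change ((i.appLE W (i ⁻¹ᵁ W) le_rfl).hom a * a') • n =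
        (i.appLE W (i ⁻¹ᵁ W) le_rfl).hom a • a' • n
      exact mul_smul _ _ _⟩
  obtain ⟨l₁, hl₁, hb₁⟩ := isBC_unitRes i (ClSub.idealMod i.ker) hW hU le_rfl
  have hr : LinearMap.range (ιL i.ker W) =
      RingHom.ker (algebraMap Γ(X, W) Γ(Z, i ⁻¹ᵁ W)) := by
    rw [range_ιL i.ker ⟨W, hW⟩, Scheme.Hom.ker_apply, ← Scheme.Hom.appLE_eq_app]
    rfl
  have h := bc_eq_zero_iff hs l₁ hb₁ (ιL i.ker W) (ιL_injective i.ker W) hr s
  rw [hl₁, unitRes_self] at h
  exact h

end Cls'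

section MapApp

variable {Z X Z' X' : Scheme.{u}} {i : Z ⟶ X} {i' : Z' ⟶ X'} {g : X ⟶ X'} {gZ : Z ⟶ Z'}
  {φ : (Scheme.Modules.pullback gZ).obj (Omega.conormal i') ⟶ Omega.conormal i}

theorem conormalMap_app (h : IsConormalMap i i' g gZ φ) (U' : X'.Opens)
    (s' : Γ(ClSub.idealMod i'.ker, U')) (s : Γ(ClSub.idealMod i.ker, g ⁻¹ᵁ U'))
    (hs : idealSect i.ker (g ⁻¹ᵁ U') s = g.app U' (idealSect i'.ker U' s')) :
    φ.app (gZ ⁻¹ᵁ (i' ⁻¹ᵁ U'))
        (pullSect gZ (Omega.conormal i') (i' ⁻¹ᵁ U') (conormalSect i' U' s')) =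
      (Omega.conormal i).presheaf.map (homOfLE (preimage_le i i' g gZ h.1 U')).op
        (conormalSect i (g ⁻¹ᵁ U') s) := by
  have h1 := h.2 U' s' s hs (gZ ⁻¹ᵁ (i' ⁻¹ᵁ U')) le_rfl (preimage_le i i' g gZ h.1 U')
  exact (res_self (Omega.conormal i) le_rfl _).symm.trans h1

end MapApp

end Groth.Agent.Lead.ConChart
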