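import Mathlib
import Groth.Prelude.Def_Omega4
import Groth.Agent.Lib.Lead.ConChart3
import Groth.Agent.Lib.Helper1.SerreCrit

set_option autoImplicit false
universe u
open CategoryTheory CategoryTheory.Limits AlgebraicGeometry TopologicalSpace Opposite

set_option backward.isDefEq.respectTransparency.types false

namespace Groth.Agent.Lead.ConChart

open OmegaSh Groth.Agent.Lead.DerU Groth.Agent.Lead.IdM Groth.Agent.Lead.OmU
  Groth.Agent.Lead.BCU Groth.Agent.Lead.ConMap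

section Two

variable {Y' Y X : Scheme.{u}} (f : Y ⟶ X) [IsImmersion f] [QuasiCompact f]
    (j : Y' ⟶ Y) [IsImmersion j] [QuasiCompact j]

/-- charts adapted to both `f` and `j ≫ f`. -/
theorem exists_chart2 (y' : Y') (O : Y'.Opens) (hy : y' ∈ O) :
    ∃ W : X.Opens, IsAffineOpen W ∧ W ≤ f.coborderRange ∧ W ≤ (j ≫ f).coborderRange ∧
      y' ∈ (j ≫ f) ⁻¹ᵁ W ∧ (j ≫ f) ⁻¹ᵁ W ≤ O := by
  obtain ⟨O', hO', hOO'⟩ := (j ≫ f).isEmbedding.isInducing.isOpen_iff.mp O.2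
  have hx1 : (j ≫ f) y' ∈ (j ≫ f).coborderRange := subset_coborder ⟨y', rfl⟩
  have hx2 : (j ≫ f) y' ∈ f.coborderRange := subset_coborder ⟨j y', rfl⟩
  have hxO' : (j ≫ f) y' ∈ O' := by
    have : y' ∈ (j ≫ f) ⁻¹' O' := by rw [hOO']; exact hy
    exact this
  obtain ⟨_, ⟨W, hW, rfl⟩, hxW, hWle⟩ := X.isBasis_affineOpens.exists_subset_of_mem_open
    (show (j ≫ f) y' ∈ ((⟨O', hO'⟩ ⊓ f.coborderRange ⊓ (j ≫ f).coborderRange : X.Opens) : Set X)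
      from ⟨⟨hxO', hx2⟩, hx1⟩) (⟨O', hO'⟩ ⊓ f.coborderRange ⊓ (j ≫ f).coborderRange : X.Opens).2
  refine ⟨W, hW, fun y hy => (hWle hy).1.2, fun y hy => (hWle hy).2, hxW, ?_⟩
  intro y hy
  have h1 : (j ≫ f) y ∈ O' := (hWle hy).1.1
  have : y ∈ (j ≫ f) ⁻¹' O' := h1
  rw [hOO'] at this
  exact this

section ChartFacts

variable {W : X.Opens} (hW : IsAffineOpen W) (hWjf : W ≤ (j ≫ f).coborderRange)

include hW hWjf in
theorem surj_j : Function.Surjective (j.appLE (f ⁻¹ᵁ W) (j ⁻¹ᵁ (f ⁻¹ᵁ W)) le_rfl).hom := by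
  have hsjf : Function.Surjective ((j ≫ f).appLE W ((j ≫ f) ⁻¹ᵁ W) le_rfl).hom :=
    app_surjective_of_le_coborder (j ≫ f) hW hWjf
  have hcomp : f.appLE W (f ⁻¹ᵁ W) le_rfl ≫ j.appLE (f ⁻¹ᵁ W) (j ⁻¹ᵁ (f ⁻¹ᵁ W)) le_rfl =
      (j ≫ f).appLE W ((j ≫ f) ⁻¹ᵁ W) le_rfl := Scheme.Hom.appLE_comp_appLE _ _ _ _ _ _ _
  intro b'
  obtain ⟨a, ha⟩ := hsjf b'
  refine ⟨(f.appLE W (f ⁻¹ᵁ W) le_rfl).hom a, ?_⟩
  rw [← ha, ← hcomp]
  rfl

end ChartFacts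

variable (φ₂ : (Scheme.Modules.pullback (𝟙 Y')).obj (Omega.conormal (j ≫ f)) ⟶ Omega.conormal j)
    (hφ₂ : OmegaSh.IsConormalMap j (j ≫ f) f (𝟙 Y') φ₂)

include hφ₂ in
theorem epi_φ₂ : Epi φ₂ := by
  apply Groth.Agent.Helper1.SerreCrit.epi_of_locally_surjective
  intro O t y' hy
  obtain ⟨W, hW, hWf, hWjf, hyW, hWO⟩ := exists_chart2 f j y' O hy
  have hUf : IsAffineOpen (f ⁻¹ᵁ W) := isAffineOpen_preimage_of_le_coborder f hW hWf
  have hUjf : IsAffineOpen ((j ≫ f) ⁻¹ᵁ W) := isAffineOpen_preimage_of_le_coborder (j ≫ f) hW hWjf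
  have hsf : Function.Surjective (f.appLE W (f ⁻¹ᵁ W) le_rfl).hom :=
    app_surjective_of_le_coborder f hW hWf
  have hsj := surj_j f j hW hWjf
  refine ⟨(j ≫ f) ⁻¹ᵁ W, hWO, hyW, ?_⟩
  -- the restriction of `t` is a class
  obtain ⟨s, hs⟩ := cls_surjective' j hUf hUjf hsj (Groth.Agent.Helper1.QcCech.res (Omega.conormal j) hWO t)
  obtain ⟨a, ha⟩ := hsf (idealSect j.ker (f ⁻¹ᵁ W) s)
  have hker : ((j ≫ f).app W).hom a = 0 := by
    have h1 : ((j ≫ f).app W).hom a = (j.app (f ⁻¹ᵁ W)).hom ((f.app W).hom a) := rfl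
    rw [h1]
    have h2 : (f.app W).hom a = idealSect j.ker (f ⁻¹ᵁ W) s := by
      rw [← ha, Scheme.Hom.appLE_eq_app]
    rw [h2]
    exact app_idealSect j (f ⁻¹ᵁ W) s
  obtain ⟨s', hs'⟩ := exists_idealSect (j ≫ f) W a hker
  have hcompat : idealSect j.ker (f ⁻¹ᵁ W) s = f.app W (idealSect (j ≫ f).ker W s') := by
    rw [hs', ← ha, Scheme.Hom.appLE_eq_app]
  have h3 := conormalMap_app hφ₂ W s' s hcompat
  refine ⟨pullSect (𝟙 Y') (Omega.conormal (j ≫ f)) ((j ≫ f) ⁻¹ᵁ W)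
    (conormalSect (j ≫ f) W s'), ?_⟩
  refine h3.trans ?_
  rw [hs]
  exact res_self (Omega.conormal j) _ _

/-- the second map with source the conormal sheaf itself. -/
noncomputable abbrev θ : Omega.conormal (j ≫ f) ⟶ Omega.conormal j :=
  (Scheme.Modules.pullbackId Y').inv.app (Omega.conormal (j ≫ f)) ≫ φ₂

include hφ₂ in
theorem θ_cls (U' : X.Opens) (s' : Γ(ClSub.idealMod (j ≫ f).ker, U'))
    (s : Γ(ClSub.idealMod j.ker, f ⁻¹ᵁ U'))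
    (hs : idealSect j.ker (f ⁻¹ᵁ U') s = f.app U' (idealSect (j ≫ f).ker U' s')) :
    (θ f j φ₂).app ((j ≫ f) ⁻¹ᵁ U') (conormalSect (j ≫ f) U' s') =
      conormalSect j (f ⁻¹ᵁ U') s := by
  have h3 := conormalMap_app hφ₂ U' s' s hs
  change φ₂.app _ (((Scheme.Modules.pullbackId Y').inv.app (Omega.conormal (j ≫ f))).app _ _) = _
  rw [pullbackId_inv_app]
  refine h3.trans ?_
  exact res_self (Omega.conormal j) _ _

end Two

section Ext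

variable {Z X' Z' : Scheme.{u}} (i' : Z' ⟶ X') (gZ : Z ⟶ Z') {M : X'.Modules} {N : Z.Modules}

theorem hom_ext_adjadj
    (α β : (Scheme.Modules.pullback gZ).obj ((Scheme.Modules.pullback i').obj M) ⟶ N)
    (h : ∀ (U' : X'.Opens) (m : Γ(M, U')),
      α.app (gZ ⁻¹ᵁ (i' ⁻¹ᵁ U'))
          (pullSect gZ ((Scheme.Modules.pullback i').obj M) (i' ⁻¹ᵁ U') (pullSect i' M U' m)) =
        β.app (gZ ⁻¹ᵁ (i' ⁻¹ᵁ U'))
          (pullSect gZ ((Scheme.Modules.pullback i').obj M) (i' ⁻¹ᵁ U') (pullSect i' M U' m))) :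
    α = β := by
  apply (adj_bijective gZ).1
  apply (adj_bijective i').1
  apply Scheme.Modules.hom_ext
  intro U'
  ext m
  change (adj i' (adj gZ α)).app U' m = (adj i' (adj gZ β)).app U' m
  rw [adj_app, adj_app, adj_app, adj_app]
  exact h U' m

end Ext

section AL1

theorem exists_sq_lift {A B B' : Type u} [CommRing A] [CommRing B] [CommRing B'] (fA : A →+* B)
    (hf : Function.Surjective fA) (jB : B →+* B') (k' : A)
    (h : fA k' ∈ RingHom.ker jB ^ 2) :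
    ∃ q ∈ RingHom.ker (jB.comp fA) ^ 2, fA q = fA k' := by
  have h1 : RingHom.ker (jB.comp fA) = (RingHom.ker jB).comap fA := (RingHom.comap_ker jB fA).symm
  have h2 : RingHom.ker jB = (RingHom.ker (jB.comp fA)).map fA := by
    rw [h1, Ideal.map_comap_of_surjective fA hf]
  rw [h2, ← Ideal.map_pow] at h
  exact (Ideal.mem_map_iff_of_surjective fA hf).mp h

end AL1

section Two'

variable {Y' Y X : Scheme.{u}} (f : Y ⟶ X) [IsImmersion f] [QuasiCompact f]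
    (j : Y' ⟶ Y) [IsImmersion j] [QuasiCompact j]
    (φ₁ : (Scheme.Modules.pullback j).obj (Omega.conormal f) ⟶ Omega.conormal (j ≫ f))
    (hφ₁ : OmegaSh.IsConormalMap (j ≫ f) f (𝟙 X) j φ₁)
    (φ₂ : (Scheme.Modules.pullback (𝟙 Y')).obj (Omega.conormal (j ≫ f)) ⟶ Omega.conormal j)
    (hφ₂ : OmegaSh.IsConormalMap j (j ≫ f) f (𝟙 Y') φ₂)

include hφ₁ in
theorem φ₁_cls (U' : X.Opens) (σ : Γ(ClSub.idealMod f.ker, U'))
    (s : Γ(ClSub.idealMod (j ≫ f).ker, U'))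
    (hs : idealSect (j ≫ f).ker U' s = idealSect f.ker U' σ) :
    φ₁.app (j ⁻¹ᵁ (f ⁻¹ᵁ U')) (pullSect j (Omega.conormal f) (f ⁻¹ᵁ U') (conormalSect f U' σ)) =
      conormalSect (j ≫ f) U' s := by
  have h3 := conormalMap_app hφ₁ U' σ s (hs.trans (by rw [Scheme.Hom.id_app]; rfl))
  refine h3.trans ?_
  exact res_self (Omega.conormal (j ≫ f)) _ _

include hφ₁ hφ₂ in
theorem comp_zero : φ₁ ≫ θ f j φ₂ = 0 := by
  apply hom_ext_adjadj f j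
  intro U' σ
  have hk : ((j ≫ f).app U').hom (idealSect f.ker U' σ) = 0 := by
    have h1 : ((j ≫ f).app U').hom (idealSect f.ker U' σ) =
        (j.app (f ⁻¹ᵁ U')).hom ((f.app U').hom (idealSect f.ker U' σ)) := rfl
    rw [h1]
    have := app_idealSect f U' σ
    change (j.app (f ⁻¹ᵁ U')).hom ((f.app U') (idealSect f.ker U' σ)) = 0
    rw [this, map_zero]
  obtain ⟨s, hs⟩ := exists_idealSect (j ≫ f) U' _ hk
  have h1 := φ₁_cls f j φ₁ hφ₁ U' σ s hs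
  change (θ f j φ₂).app (j ⁻¹ᵁ (f ⁻¹ᵁ U')) (φ₁.app (j ⁻¹ᵁ (f ⁻¹ᵁ U')) _) = 0
  have h1' : φ₁.app (j ⁻¹ᵁ (f ⁻¹ᵁ U'))
      (pullSect j ((Scheme.Modules.pullback f).obj (ClSub.idealMod f.ker)) (f ⁻¹ᵁ U')
        (pullSect f (ClSub.idealMod f.ker) U' σ)) = conormalSect (j ≫ f) U' s := h1
  rw [h1']
  have h2 := θ_cls f j φ₂ hφ₂ U' s 0 (by
    rw [map_zero, hs]
    exact (app_idealSect f U' σ).symm)
  refine h2.trans ?_
  rw [map_zero]

include hφ₁ hφ₂ in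
theorem exact_φ₁_θ :
    (ShortComplex.mk φ₁ (θ f j φ₂) (comp_zero f j φ₁ hφ₁ φ₂ hφ₂)).Exact := by
  apply exact_of_locally
  intro U n hn y' hy
  obtain ⟨W, hW, hWf, hWjf, hyW, hWU⟩ := exists_chart2 f j y' U hy
  have hUf : IsAffineOpen (f ⁻¹ᵁ W) := isAffineOpen_preimage_of_le_coborder f hW hWf
  have hUjf : IsAffineOpen ((j ≫ f) ⁻¹ᵁ W) := isAffineOpen_preimage_of_le_coborder (j ≫ f) hW hWjf
  have hsf : Function.Surjective (f.appLE W (f ⁻¹ᵁ W) le_rfl).hom :=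
    app_surjective_of_le_coborder f hW hWf
  have hsj := surj_j f j hW hWjf
  refine ⟨(j ≫ f) ⁻¹ᵁ W, hWU, hyW, ?_⟩
  obtain ⟨s', hs'⟩ := cls_surjective (j ≫ f) hW hWjf (res (Omega.conormal (j ≫ f)) hWU n)
  have h0 : (θ f j φ₂).app ((j ≫ f) ⁻¹ᵁ W) (conormalSect (j ≫ f) W s') = 0 := by
    rw [hs', app_res]
    change res _ hWU ((θ f j φ₂).app U n) = 0
    have hn' : (θ f j φ₂).app U n = 0 := hn
    rw [hn', res_zero]
  have hk : (j.app (f ⁻¹ᵁ W)).hom ((f.app W).hom (idealSect (j ≫ f).ker W s')) = 0 :=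
    app_idealSect (j ≫ f) W s'
  obtain ⟨s, hs⟩ := exists_idealSect j (f ⁻¹ᵁ W) _ hk
  rw [θ_cls f j φ₂ hφ₂ W s' s hs] at h0
  have h1 := (cls_eq_zero_iff' j hUf hUjf hsj s).mp h0
  rw [hs] at h1
  have h1' : (f.appLE W (f ⁻¹ᵁ W) le_rfl).hom (idealSect (j ≫ f).ker W s') ∈
      RingHom.ker (j.appLE (f ⁻¹ᵁ W) (j ⁻¹ᵁ (f ⁻¹ᵁ W)) le_rfl).hom ^ 2 := by
    have e : f.appLE W (f ⁻¹ᵁ W) le_rfl = f.app W := Scheme.Hom.appLE_eq_app _
    rw [e]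
    exact h1
  obtain ⟨q, hq, hfq⟩ := exists_sq_lift (f.appLE W (f ⁻¹ᵁ W) le_rfl).hom hsf
    (j.appLE (f ⁻¹ᵁ W) (j ⁻¹ᵁ (f ⁻¹ᵁ W)) le_rfl).hom _ h1'
  have hcomp : (j.appLE (f ⁻¹ᵁ W) (j ⁻¹ᵁ (f ⁻¹ᵁ W)) le_rfl).hom.comp
      (f.appLE W (f ⁻¹ᵁ W) le_rfl).hom = ((j ≫ f).appLE W ((j ≫ f) ⁻¹ᵁ W) le_rfl).hom := by
    rw [← CommRingCat.hom_comp, Scheme.Hom.appLE_comp_appLE]
    rfl
  rw [hcomp] at hq
  have hq1 : ((j ≫ f).app W).hom q = 0 := by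
    have h2 : q ∈ RingHom.ker ((j ≫ f).appLE W ((j ≫ f) ⁻¹ᵁ W) le_rfl).hom :=
      Ideal.pow_le_self two_ne_zero hq
    rw [Scheme.Hom.appLE_eq_app] at h2
    exact h2
  obtain ⟨sq, hsq⟩ := exists_idealSect (j ≫ f) W q hq1
  have hclsq : conormalSect (j ≫ f) W sq = 0 := by
    rw [cls_eq_zero_iff (j ≫ f) hW hWjf, hsq]
    exact hq
  have hk1 : (f.app W).hom (idealSect (j ≫ f).ker W s' - q) = 0 := by
    have e : f.appLE W (f ⁻¹ᵁ W) le_rfl = f.app W := Scheme.Hom.appLE_eq_app _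
    rw [e] at hfq
    rw [map_sub, hfq, sub_self]
  obtain ⟨σk, hσk⟩ := exists_idealSect f W _ hk1
  have h5 := φ₁_cls f j φ₁ hφ₁ W σk (s' - sq) (by rw [map_sub, hsq, hσk])
  refine ⟨pullSect j (Omega.conormal f) (f ⁻¹ᵁ W) (conormalSect f W σk), ?_⟩
  refine h5.trans ?_
  rw [map_sub, hclsq, sub_zero, hs']


include hφ₁ hφ₂ in
/-- **the conormal sequence of a composite of immersions** -/
theorem epi_and_image_eq_kernel :
    Epi φ₂ ∧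
      imageSubobject φ₁ =
        kernelSubobject ((Scheme.Modules.pullbackId Y').inv.app (Omega.conormal (j ≫ f)) ≫ φ₂) := by
  refine ⟨epi_φ₂ f j φ₂ hφ₂, ?_⟩
  exact (ShortComplex.exact_iff_image_eq_kernel
    (ShortComplex.mk φ₁ (θ f j φ₂) (comp_zero f j φ₁ hφ₁ φ₂ hφ₂))).1
    (exact_φ₁_θ f j φ₁ hφ₁ φ₂ hφ₂)

end Two'


end Groth.Agent.Lead.ConChart
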