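import Mathlib

set_option autoImplicit false
universe u
open TensorProduct

namespace Groth.Agent.Lead.ConSeq

section Alg

variable {R A C B : Type u} [CommRing R] [CommRing A] [CommRing C] [CommRing B]
  [Algebra R A] [Algebra A C]

/-- abstract form: two ring maps out of `A` agreeing on `R`, the second one factoring through
`C`, whose difference has square zero, give a derivation detecting the first one on `ker(A → C)`. -/
theorem map_eq_zero_of_bc_D_eq_zero
    (hAC : Function.Surjective (algebraMap A C))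
    (f₁ f₂ : A →+* B) (hR : ∀ r : R, f₁ (algebraMap R A r) = f₂ (algebraMap R A r))
    (hI : ∀ a, algebraMap A C a = 0 → f₂ a = 0)
    (hsq : ∀ a a', (f₁ a - f₂ a) * (f₁ a' - f₂ a') = 0)
    {M₂ N₂ : Type u} [AddCommGroup M₂] [Module A M₂] [AddCommGroup N₂] [Module A N₂]
    [Module C N₂] [IsScalarTower A C N₂]
    (l₂ : M₂ →ₗ[A] N₂) (hb₂ : IsBaseChange C l₂)
    (κ : M₂ ≃ₗ[A] Ω[A⁄R]) (dM : A → M₂) (hdM : ∀ a, κ (dM a) = KaehlerDifferential.D R A a)
    (x : A) (hx : algebraMap A C x = 0) (h : l₂ (dM x) = 0) : f₁ x = 0 := by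
  let f₂' : C →+* B := (algebraMap A C).liftOfSurjective hAC
    ⟨f₂, fun a ha => RingHom.mem_ker.mpr (hI a (RingHom.mem_ker.mp ha))⟩
  have hf₂' : ∀ a, f₂' (algebraMap A C a) = f₂ a := fun a =>
    RingHom.liftOfSurjective_comp_apply (algebraMap A C) hAC
      ⟨f₂, fun a ha => RingHom.mem_ker.mpr (hI a (RingHom.mem_ker.mp ha))⟩ a
  letI mC : Module C B := Module.compHom B f₂'
  letI mA : Module A B := Module.compHom B (algebraMap A C)
  have hsA : ∀ (a : A) (b : B), a • b = f₂ a * b := fun a b => by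
    change f₂' (algebraMap A C a) * b = _
    rw [hf₂']
  haveI : IsScalarTower A C B := ⟨fun a c b => by
    rw [Algebra.smul_def]
    change f₂' (algebraMap A C a * c) * b = f₂' (algebraMap A C a) * (f₂' c * b)
    rw [map_mul, mul_assoc]⟩
  letI mR : Module R B := Module.compHom B (algebraMap R A)
  have hsR : ∀ (r : R) (b : B), r • b = f₂ (algebraMap R A r) * b := fun r b => by
    change (algebraMap R A r) • b = _
    rw [hsA]
  haveI : IsScalarTower R A B := ⟨fun r a b => by
    rw [hsR, hsA, hsA, Algebra.smul_def, map_mul, mul_assoc]⟩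
  let D : Derivation R A B := Derivation.mk'
    { toFun := fun a => f₁ a - f₂ a
      map_add' := fun a b => by rw [map_add, map_add]; ring
      map_smul' := fun r a => by
        change f₁ (r • a) - f₂ (r • a) = r • (f₁ a - f₂ a)
        rw [hsR, Algebra.smul_def, map_mul, map_mul, hR]
        ring }
    (fun a b => by
      change f₁ (a * b) - f₂ (a * b) = a • (f₁ b - f₂ b) + b • (f₁ a - f₂ a)
      rw [hsA, hsA, map_mul, map_mul]
      have := hsq a b
      linear_combination this)
  let q' : M₂ →ₗ[A] B := D.liftKaehlerDifferential ∘ₗ κ.toLinearMap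
  have h1 : hb₂.lift q' (l₂ (dM x)) = q' (dM x) := hb₂.lift_eq q' (dM x)
  rw [h, map_zero] at h1
  have h2 : q' (dM x) = f₁ x - f₂ x := by
    change D.liftKaehlerDifferential (κ (dM x)) = _
    rw [hdM, Derivation.liftKaehlerDifferential_comp_D]
    rfl
  rw [h2, hI x hx, sub_zero] at h1
  exact h1.symm

variable [Algebra R C] [IsScalarTower R A C]

/-- **the kernel of the conormal differential**, when `R → C` is surjective: a function
`x ∈ I = ker(A → C)` with `1 ⊗ dx = 0` in `C ⊗ Ω[A/R]` lies in `J A + I²`, `J = ker(R → C)`. -/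
theorem mem_sup_of_bc_D_eq_zero
    (hAC : Function.Surjective (algebraMap A C)) (hRC : Function.Surjective (algebraMap R C))
    {M₂ N₂ : Type u} [AddCommGroup M₂] [Module A M₂] [AddCommGroup N₂] [Module A N₂]
    [Module C N₂] [IsScalarTower A C N₂]
    (l₂ : M₂ →ₗ[A] N₂) (hb₂ : IsBaseChange C l₂)
    (κ : M₂ ≃ₗ[A] Ω[A⁄R]) (dM : A → M₂) (hdM : ∀ a, κ (dM a) = KaehlerDifferential.D R A a)
    (x : A) (hx : algebraMap A C x = 0) (h : l₂ (dM x) = 0) :
    x ∈ (RingHom.ker (algebraMap R C)).map (algebraMap R A) ⊔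
      RingHom.ker (algebraMap A C) ^ 2 := by
  set K : Ideal A := (RingHom.ker (algebraMap R C)).map (algebraMap R A) ⊔
      RingHom.ker (algebraMap A C) ^ 2 with hK
  let f₁ : A →+* A ⧸ K := Ideal.Quotient.mk K
  have hle : RingHom.ker (algebraMap R C) ≤ RingHom.ker (f₁.comp (algebraMap R A)) := by
    intro r hr
    rw [RingHom.mem_ker]
    change f₁ (algebraMap R A r) = 0
    rw [Ideal.Quotient.eq_zero_iff_mem]
    exact Ideal.mem_sup_left (Ideal.mem_map_of_mem _ hr)
  let g : C →+* A ⧸ K := (algebraMap R C).liftOfSurjective hRC ⟨f₁.comp (algebraMap R A), hle⟩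
  have hg : ∀ r, g (algebraMap R C r) = f₁ (algebraMap R A r) := fun r =>
    RingHom.liftOfSurjective_comp_apply (algebraMap R C) hRC ⟨f₁.comp (algebraMap R A), hle⟩ r
  let f₂ : A →+* A ⧸ K := g.comp (algebraMap A C)
  have hdiff : ∀ a, ∃ y, algebraMap A C y = 0 ∧ f₁ a - f₂ a = f₁ y := by
    intro a
    obtain ⟨r, hr⟩ := hRC (algebraMap A C a)
    refine ⟨a - algebraMap R A r, ?_, ?_⟩
    · rw [map_sub, ← IsScalarTower.algebraMap_apply, hr, sub_self]
    · change f₁ a - g (algebraMap A C a) = _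
      rw [← hr, hg, map_sub]
  have h0 := map_eq_zero_of_bc_D_eq_zero (R := R) hAC f₁ f₂
    (fun r => by
      change f₁ (algebraMap R A r) = g (algebraMap A C (algebraMap R A r))
      rw [← IsScalarTower.algebraMap_apply, hg])
    (fun a ha => by
      change g (algebraMap A C a) = 0
      rw [ha, map_zero])
    (fun a a' => by
      obtain ⟨y, hy, e⟩ := hdiff a
      obtain ⟨y', hy', e'⟩ := hdiff a'
      rw [e, e', ← map_mul]
      change Ideal.Quotient.mk K (y * y') = 0
      rw [Ideal.Quotient.eq_zero_iff_mem]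
      apply Ideal.mem_sup_right
      rw [pow_two]
      exact Ideal.mul_mem_mul (RingHom.mem_ker.mpr hy) (RingHom.mem_ker.mpr hy'))
    l₂ hb₂ κ dM hdM x hx h
  exact Ideal.Quotient.eq_zero_iff_mem.mp h0

end Alg

end Groth.Agent.Lead.ConSeq
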