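import Mathlib
import Groth.Prelude.Def_Omega4
import Groth.Agent.Lib.Lead.ConChart4
import Groth.Agent.Lib.Lead.ConSeq1
import Groth.Agent.Lib.Lead.OmU14b

set_option autoImplicit false
universe u
open CategoryTheory CategoryTheory.Limits AlgebraicGeometry TopologicalSpace Opposite

set_option backward.isDefEq.respectTransparency.types false

namespace Groth.Agent.Lead.ConSeq

open OmegaSh Groth.Agent.Lead.DerU Groth.Agent.Lead.IdM Groth.Agent.Lead.OmU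
  Groth.Agent.Lead.BCU Groth.Agent.Lead.ConMap Groth.Agent.Lead.ConChart

section Chart

variable {Z X Y : Scheme.{u}} (p : X ⟶ Y) (i : Z ⟶ X) [IsImmersion i] [QuasiCompact i]
  [IsImmersion (i ≫ p)] [QuasiCompact (i ≫ p)]

/-- charts adapted to `i` and `i ≫ p` with the same trace on `Z`. -/
theorem exists_chart3 (z : Z) (O : Z.Opens) (hz : z ∈ O) :
    ∃ (T : Y.Opens) (W : X.Opens), IsAffineOpen T ∧ IsAffineOpen W ∧ W ≤ p ⁻¹ᵁ T ∧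
      W ≤ i.coborderRange ∧ T ≤ (i ≫ p).coborderRange ∧ z ∈ i ⁻¹ᵁ W ∧ i ⁻¹ᵁ W ≤ O ∧
      (i ≫ p) ⁻¹ᵁ T ≤ i ⁻¹ᵁ W := by
  obtain ⟨O', hO', hOO'⟩ := i.isEmbedding.isInducing.isOpen_iff.mp O.2
  have hzc : (i ≫ p) z ∈ (i ≫ p).coborderRange := subset_coborder ⟨z, rfl⟩
  obtain ⟨_, ⟨T₀, hT₀, rfl⟩, hzT₀, hT₀c⟩ := Y.isBasis_affineOpens.exists_subset_of_mem_open
    hzc (i ≫ p).coborderRange.2
  have hxc : i z ∈ i.coborderRange := subset_coborder ⟨z, rfl⟩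
  have hxO' : i z ∈ O' := by
    have : z ∈ i ⁻¹' O' := by rw [hOO']; exact hz
    exact this
  obtain ⟨_, ⟨W₀, hW₀, rfl⟩, hxW₀, hW₀le⟩ := X.isBasis_affineOpens.exists_subset_of_mem_open
    (show i z ∈ ((⟨O', hO'⟩ ⊓ p ⁻¹ᵁ T₀ ⊓ i.coborderRange : X.Opens) : Set X) from
      ⟨⟨hxO', hzT₀⟩, hxc⟩) (⟨O', hO'⟩ ⊓ p ⁻¹ᵁ T₀ ⊓ i.coborderRange : X.Opens).2
  have eW₀ : W₀ ≤ p ⁻¹ᵁ T₀ := fun y hy => (hW₀le hy).1.2
  have hW₀c : W₀ ≤ i.coborderRange := fun y hy => (hW₀le hy).2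
  have hW₀O : i ⁻¹ᵁ W₀ ≤ O := by
    intro y hy
    have h1 : i y ∈ O' := (hW₀le hy).1.1
    have : y ∈ i ⁻¹' O' := h1
    rw [hOO'] at this
    exact this
  -- shrink
  have hU₀ : IsAffineOpen ((i ≫ p) ⁻¹ᵁ T₀) :=
    isAffineOpen_preimage_of_le_coborder (i ≫ p) hT₀ hT₀c
  have hs₀ : Function.Surjective ((i ≫ p).appLE T₀ ((i ≫ p) ⁻¹ᵁ T₀) le_rfl).hom :=
    app_surjective_of_le_coborder (i ≫ p) hT₀ hT₀c
  obtain ⟨c', hc'le, hzc'⟩ := hU₀.exists_basicOpen_le (V := i ⁻¹ᵁ W₀) ⟨z, hxW₀⟩ hzT₀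
  obtain ⟨t, ht⟩ := hs₀ c'
  have ht' : ((i ≫ p).app T₀).hom t = c' := by
    rw [← ht, Scheme.Hom.appLE_eq_app]
  have hpre : (i ≫ p) ⁻¹ᵁ (Y.basicOpen t) = Z.basicOpen c' := by
    rw [Scheme.preimage_basicOpen, ← ht']
  have hWb : X.basicOpen ((p.appLE T₀ W₀ eW₀).hom t) = W₀ ⊓ p ⁻¹ᵁ (Y.basicOpen t) :=
    Scheme.basicOpen_appLE p W₀ T₀ eW₀ t
  refine ⟨Y.basicOpen t, X.basicOpen ((p.appLE T₀ W₀ eW₀).hom t), hT₀.basicOpen t,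
    hW₀.basicOpen _, ?_, ?_, ?_, ?_, ?_, ?_⟩
  · rw [hWb]; exact inf_le_right
  · rw [hWb]; exact inf_le_left.trans hW₀c
  · exact (Y.basicOpen_le t).trans hT₀c
  · rw [hWb]
    refine ⟨hxW₀, ?_⟩
    have : z ∈ (i ≫ p) ⁻¹ᵁ (Y.basicOpen t) := by rw [hpre]; exact hzc'
    exact this
  · rw [hWb]
    exact (i.preimage_mono inf_le_left).trans hW₀O
  · rw [hWb]
    intro y hy
    refine ⟨?_, hy⟩
    have : y ∈ Z.basicOpen c' := by rw [← hpre]; exact hy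
    exact hc'le this

variable {p i}
variable {T : Y.Opens} {W : X.Opens} (hT : IsAffineOpen T) (eW : W ≤ p ⁻¹ᵁ T)
  (hTc : T ≤ (i ≫ p).coborderRange) (hge : (i ≫ p) ⁻¹ᵁ T ≤ i ⁻¹ᵁ W)

omit [IsImmersion i] [QuasiCompact i] [QuasiCompact (i ≫ p)] in
include hT hTc hge in
theorem surj_RC (eU' : i ⁻¹ᵁ W ≤ (i ≫ p) ⁻¹ᵁ T) :
    Function.Surjective ((i ≫ p).appLE T (i ⁻¹ᵁ W) eU').hom := by
  have hs₀ : Function.Surjective ((i ≫ p).appLE T ((i ≫ p) ⁻¹ᵁ T) le_rfl).hom :=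
    app_surjective_of_le_coborder (i ≫ p) hT hTc
  have h1 : (i ≫ p).appLE T (i ⁻¹ᵁ W) eU' =
      (i ≫ p).appLE T ((i ≫ p) ⁻¹ᵁ T) le_rfl ≫ Z.presheaf.map (homOfLE eU').op :=
    (Scheme.Hom.appLE_map _ _ _).symm
  have h2 : Function.Surjective (Z.presheaf.map (homOfLE eU').op).hom := by
    intro c
    refine ⟨(Z.presheaf.map (homOfLE hge).op).hom c, ?_⟩
    change (Z.presheaf.map (homOfLE hge).op ≫ Z.presheaf.map (homOfLE eU').op).hom c = c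
    rw [← Functor.map_comp]
    change (Z.presheaf.map (𝟙 _)).hom c = c
    rw [Z.presheaf.map_id]
    rfl
  rw [h1]
  exact h2.comp hs₀

end Chart

end Groth.Agent.Lead.ConSeq
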