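import Mathlib
import Groth.Prelude.Def_Omega4
import Groth.Agent.Lib.Lead.ConSeq2

set_option autoImplicit false
universe u
open CategoryTheory CategoryTheory.Limits AlgebraicGeometry TopologicalSpace Opposite

set_option backward.isDefEq.respectTransparency.types false

namespace Groth.Agent.Lead.ConSeq

open OmegaSh Groth.Agent.Lead.DerU Groth.Agent.Lead.IdM Groth.Agent.Lead.OmU
  Groth.Agent.Lead.BCU Groth.Agent.Lead.ConMap Groth.Agent.Lead.ConChart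

section Main

variable {Z X Y : Scheme.{u}} (p : X ⟶ Y) (i : Z ⟶ X) [IsImmersion i] [QuasiCompact i]
  [IsImmersion (i ≫ p)] [QuasiCompact (i ≫ p)]
  {Ω : X.Modules} (d : Der p Ω) (hd : IsUniversal d)
  (ψ : (Scheme.Modules.pullback (𝟙 Z)).obj (Omega.conormal (i ≫ p)) ⟶ Omega.conormal i)
  (hψ : IsConormalMap i (i ≫ p) p (𝟙 Z) ψ)
  (φ : Omega.conormal i ⟶ (Scheme.Modules.pullback i).obj Ω) (hφ : IsConormalDiff i d φ)

omit [IsImmersion i] [QuasiCompact i] [IsImmersion (i ≫ p)] [QuasiCompact (i ≫ p)] in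
include hψ in
theorem ψ_cls (U' : Y.Opens) (s' : Γ(ClSub.idealMod (i ≫ p).ker, U'))
    (s : Γ(ClSub.idealMod i.ker, p ⁻¹ᵁ U'))
    (hs : idealSect i.ker (p ⁻¹ᵁ U') s = p.app U' (idealSect (i ≫ p).ker U' s')) :
    ψ.app ((i ≫ p) ⁻¹ᵁ U')
        (pullSect (𝟙 Z) (Omega.conormal (i ≫ p)) ((i ≫ p) ⁻¹ᵁ U') (conormalSect (i ≫ p) U' s')) =
      conormalSect i (p ⁻¹ᵁ U') s := by
  have h3 := conormalMap_app hψ U' s' s hs
  refine h3.trans ?_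
  exact res_self (Omega.conormal i) _ _

include hψ hφ in
theorem comp_zero : ψ ≫ φ = 0 := by
  apply hom_ext_adjadj (i ≫ p) (𝟙 Z)
  intro U' σ
  have hsq : 𝟙 Z ≫ (i ≫ p) = i ≫ p := Category.id_comp _
  have hs := liftI_spec i (i ≫ p) p (𝟙 Z) hsq U' σ
  have h1 := ψ_cls p i ψ hψ U' σ (liftI i (i ≫ p) p (𝟙 Z) hsq U' σ) hs
  change φ.app ((i ≫ p) ⁻¹ᵁ U') (ψ.app ((i ≫ p) ⁻¹ᵁ U') _) = 0
  have h1' : ψ.app ((i ≫ p) ⁻¹ᵁ U')
      (pullSect (𝟙 Z) ((Scheme.Modules.pullback (i ≫ p)).obj (ClSub.idealMod (i ≫ p).ker))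
        ((i ≫ p) ⁻¹ᵁ U') (pullSect (i ≫ p) (ClSub.idealMod (i ≫ p).ker) U' σ)) =
      conormalSect i (p ⁻¹ᵁ U') (liftI i (i ≫ p) p (𝟙 Z) hsq U' σ) := h1
  rw [h1']
  have h2 := hφ (p ⁻¹ᵁ U') (liftI i (i ≫ p) p (𝟙 Z) hsq U' σ)
  refine h2.trans ?_
  rw [hs]
  have h3 : d.app (p ⁻¹ᵁ U') ((p.app U').hom (idealSect (i ≫ p).ker U' σ)) = 0 :=
    der_app d U' _
  rw [h3, map_zero]
  rfl

omit [QuasiCompact (i ≫ p)] in
include hd hφ in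
theorem epi_φ : Epi φ := by
  have hX := isUniversal_dOmega (i ≫ p)
  have hz : IsZero (Omega.sheaf (i ≫ p)) :=
    (formallyUnramified_iff_isZero (dOmega (i ≫ p)) hX).1 inferInstance
  obtain ⟨c, hc, -⟩ := existsUnique_diffCompat i (b := 𝟙 Y) (f := p) (f' := i ≫ p)
    (Category.comp_id _) d (dOmega (i ≫ p)) hd
  have w : φ ≫ c = 0 := hz.eq_of_tgt _ _
  have hex := conormal_exact_sheaf p i d hd (dOmega (i ≫ p)) hX φ hφ c hc w
  exact (ShortComplex.exact_iff_epi _ (hz.eq_of_tgt _ _)).1 hex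

section OnChart

variable {T : Y.Opens} {W : X.Opens} (hT : IsAffineOpen T) (hW : IsAffineOpen W)
  (eW : W ≤ p ⁻¹ᵁ T) (hWc : W ≤ i.coborderRange)
  (hTc : T ≤ (i ≫ p).coborderRange) (hge : (i ≫ p) ⁻¹ᵁ T ≤ i ⁻¹ᵁ W)

omit [IsImmersion (i ≫ p)] [QuasiCompact (i ≫ p)] in
theorem eU'_of (eW : W ≤ p ⁻¹ᵁ T) : i ⁻¹ᵁ W ≤ (i ≫ p) ⁻¹ᵁ T := fun _ hx => eW hx

include hd hφ hT hW hWc hTc hge in
omit [QuasiCompact (i ≫ p)] in
/-- the kernel of the conormal differential on an adapted chart. -/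
theorem ker_chart (s : Γ(ClSub.idealMod i.ker, W))
    (h0 : φ.app (i ⁻¹ᵁ W) (conormalSect i W s) = 0) :
    idealSect i.ker W s ∈
      (RingHom.ker ((i ≫ p).appLE T (i ⁻¹ᵁ W) (eU'_of p i eW)).hom).map (p.appLE T W eW).hom ⊔
        RingHom.ker (i.appLE W (i ⁻¹ᵁ W) le_rfl).hom ^ 2 := by
  have hU : IsAffineOpen (i ⁻¹ᵁ W) := isAffineOpen_preimage_of_le_coborder i hW hWc
  have hs : Function.Surjective (i.appLE W (i ⁻¹ᵁ W) le_rfl).hom :=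
    app_surjective_of_le_coborder i hW hWc
  have eU' : i ⁻¹ᵁ W ≤ (i ≫ p) ⁻¹ᵁ T := eU'_of p i eW
  have hRC := surj_RC hT hTc hge eU'
  letI algRA := (p.appLE T W eW).hom.toAlgebra
  letI algAB := (i.appLE W (i ⁻¹ᵁ W) le_rfl).hom.toAlgebra
  letI algRB := ((i ≫ p).appLE T (i ⁻¹ᵁ W) eU').hom.toAlgebra
  haveI tower : IsScalarTower Γ(Y, T) Γ(X, W) Γ(Z, i ⁻¹ᵁ W) := by
    refine IsScalarTower.of_algebraMap_eq' ?_
    change ((i ≫ p).appLE T (i ⁻¹ᵁ W) eU').hom =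
      (i.appLE W (i ⁻¹ᵁ W) le_rfl).hom.comp (p.appLE T W eW).hom
    rw [← CommRingCat.hom_comp, Scheme.Hom.appLE_comp_appLE]
  haveI := isQuasicoherent_of_universal d hd
  letI : Module Γ(X, W) Γ((Scheme.Modules.pullback i).obj Ω, i ⁻¹ᵁ W) :=
    Module.compHom _ (i.appLE W (i ⁻¹ᵁ W) le_rfl).hom
  haveI : IsScalarTower Γ(X, W) Γ(Z, i ⁻¹ᵁ W) Γ((Scheme.Modules.pullback i).obj Ω, i ⁻¹ᵁ W) :=
    ⟨fun a a' n => by
      change ((i.appLE W (i ⁻¹ᵁ W) le_rfl).hom a * a') • n =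
        (i.appLE W (i ⁻¹ᵁ W) le_rfl).hom a • a' • n
      exact mul_smul _ _ _⟩
  obtain ⟨l₂, hl₂, hb₂⟩ := isBC_unitRes i Ω hW hU le_rfl
  have hx : algebraMap Γ(X, W) Γ(Z, i ⁻¹ᵁ W) (idealSect i.ker W s) = 0 := by
    change (i.appLE W (i ⁻¹ᵁ W) le_rfl).hom (idealSect i.ker W s) = 0
    rw [Scheme.Hom.appLE_eq_app]
    exact app_idealSect i W s
  have h : l₂ (d.app W (idealSect i.ker W s)) = 0 := by
    rw [hl₂, unitRes_self, ← hφ W s]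
    exact h0
  exact mem_sup_of_bc_D_eq_zero (R := Γ(Y, T)) hs hRC l₂ hb₂
    (sectionsKaehler p d hd hW hT eW) (fun a => d.app W a)
    (fun a => sectionsKaehler_d p d hd hW hT eW a) _ hx h

end OnChart

end Main

end Groth.Agent.Lead.ConSeq
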