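import Mathlib
import Groth.Prelude.Def_Omega4
import Groth.Agent.Lib.Lead.ConSeq3

set_option autoImplicit false
universe u
open CategoryTheory CategoryTheory.Limits AlgebraicGeometry TopologicalSpace Opposite

set_option backward.isDefEq.respectTransparency.types false

namespace Groth.Agent.Lead.ConSeq

open OmegaSh Groth.Agent.Lead.DerU Groth.Agent.Lead.IdM Groth.Agent.Lead.OmU
  Groth.Agent.Lead.BCU Groth.Agent.Lead.ConMap Groth.Agent.Lead.ConChart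

section Main

variable {Z X Y : Scheme.{u}} (p : X ⟶ Y) (i : Z ⟶ X) [IsImmersion i] [QuasiCompact i]
  [IsImmersion (i ≫ p)] [QuasiCompact (i ≫ p)]
  {Ω : X.Modules} (d : Der p Ω) (hd : IsUniversal d)
  (ψ : (Scheme.Modules.pullback (𝟙 Z)).obj (Omega.conormal (i ≫ p)) ⟶ Omega.conormal i)
  (hψ : IsConormalMap i (i ≫ p) p (𝟙 Z) ψ)
  (φ : Omega.conormal i ⟶ (Scheme.Modules.pullback i).obj Ω) (hφ : IsConormalDiff i d φ)

section OnChart

variable (W : X.Opens)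

/-- the functions on `W` which are sections of the ideal whose class is in the range of `ψ`. -/
def rangeIdeal : Ideal Γ(X, W) where
  carrier := {y | ∃ (s : Γ(ClSub.idealMod i.ker, W))
    (m : Γ((Scheme.Modules.pullback (𝟙 Z)).obj (Omega.conormal (i ≫ p)), i ⁻¹ᵁ W)),
    idealSect i.ker W s = y ∧ ψ.app (i ⁻¹ᵁ W) m = conormalSect i W s}
  add_mem' := by
    rintro _ _ ⟨s₁, m₁, rfl, h₁⟩ ⟨s₂, m₂, rfl, h₂⟩
    exact ⟨s₁ + s₂, m₁ + m₂, map_add _ _ _, by rw [map_add, map_add, h₁, h₂]⟩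
  zero_mem' := ⟨0, 0, map_zero _, by rw [map_zero, map_zero]⟩
  smul_mem' := by
    rintro a _ ⟨s, m, rfl, h⟩
    refine ⟨a • s, (i.app W).hom a • m, ?_, ?_⟩
    · rw [idealSect_smul]
      rfl
    · rw [conormalSect_smul, Scheme.Modules.Hom.app_smul, h]

variable {W}
variable {T : Y.Opens} (hT : IsAffineOpen T) (hW : IsAffineOpen W)
  (eW : W ≤ p ⁻¹ᵁ T) (hWc : W ≤ i.coborderRange)
  (hTc : T ≤ (i ≫ p).coborderRange) (hge : (i ≫ p) ⁻¹ᵁ T ≤ i ⁻¹ᵁ W)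

include hψ hge in
theorem map_le_rangeIdeal :
    (RingHom.ker ((i ≫ p).appLE T (i ⁻¹ᵁ W) (eU'_of p i eW)).hom).map (p.appLE T W eW).hom ≤
      rangeIdeal p i ψ W := by
  rw [Ideal.map_le_iff_le_comap]
  intro r hr
  have eU' : i ⁻¹ᵁ W ≤ (i ≫ p) ⁻¹ᵁ T := eU'_of p i eW
  have hsq : 𝟙 Z ≫ (i ≫ p) = i ≫ p := Category.id_comp _
  -- `r` is killed by `i ≫ p`
  have hr0 : ((i ≫ p).app T).hom r = 0 := by
    have h1 : ((i ≫ p).appLE T (i ⁻¹ᵁ W) eU').hom r = 0 := hr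
    have h2 : (i ≫ p).appLE T (i ⁻¹ᵁ W) eU' =
        (i ≫ p).app T ≫ Z.presheaf.map (homOfLE eU').op := rfl
    rw [h2] at h1
    have h3 : (Z.presheaf.map (homOfLE hge).op).hom
        ((Z.presheaf.map (homOfLE eU').op).hom (((i ≫ p).app T).hom r)) = 0 := by
      have : (Z.presheaf.map (homOfLE eU').op).hom (((i ≫ p).app T).hom r) = 0 := h1
      rw [this, map_zero]
    have h4 : (Z.presheaf.map (homOfLE hge).op).hom
        ((Z.presheaf.map (homOfLE eU').op).hom (((i ≫ p).app T).hom r)) =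
        ((i ≫ p).app T).hom r := by
      change (Z.presheaf.map (homOfLE eU').op ≫ Z.presheaf.map (homOfLE hge).op).hom _ = _
      rw [← Functor.map_comp]
      change (Z.presheaf.map (𝟙 _)).hom _ = _
      rw [Z.presheaf.map_id]
      rfl
    rw [← h4]
    exact h3
  obtain ⟨σ, hσ⟩ := exists_idealSect (i ≫ p) T r hr0
  have hs₀ := liftI_spec i (i ≫ p) p (𝟙 Z) hsq T σ
  have h1 := ψ_cls p i ψ hψ T σ (liftI i (i ≫ p) p (𝟙 Z) hsq T σ) hs₀
  refine ⟨(ClSub.idealMod i.ker).presheaf.map (homOfLE eW).op (liftI i (i ≫ p) p (𝟙 Z) hsq T σ),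
    res ((Scheme.Modules.pullback (𝟙 Z)).obj (Omega.conormal (i ≫ p))) eU'
      (pullSect (𝟙 Z) (Omega.conormal (i ≫ p)) ((i ≫ p) ⁻¹ᵁ T) (conormalSect (i ≫ p) T σ)), ?_, ?_⟩
  · rw [idealSect_map, hs₀, hσ]
    rfl
  · rw [app_res, h1, conormalSect_map]
    rfl

include hW hWc in
omit [IsImmersion (i ≫ p)] [QuasiCompact (i ≫ p)] in
theorem sq_le_rangeIdeal :
    RingHom.ker (i.appLE W (i ⁻¹ᵁ W) le_rfl).hom ^ 2 ≤ rangeIdeal p i ψ W := by
  intro q hq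
  have hq1 : (i.app W).hom q = 0 := by
    have h2 : q ∈ RingHom.ker (i.appLE W (i ⁻¹ᵁ W) le_rfl).hom :=
      Ideal.pow_le_self two_ne_zero hq
    rw [Scheme.Hom.appLE_eq_app] at h2
    exact h2
  obtain ⟨sq, hsq⟩ := exists_idealSect i W q hq1
  refine ⟨sq, 0, hsq, ?_⟩
  rw [map_zero]
  symm
  rw [cls_eq_zero_iff i hW hWc, hsq]
  exact hq

include hd hψ hφ hT hW eW hWc hTc hge in
/-- on an adapted chart, a class killed by the conormal differential is in the range of `ψ`. -/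
theorem exists_of_φ_eq_zero (s : Γ(ClSub.idealMod i.ker, W))
    (h0 : φ.app (i ⁻¹ᵁ W) (conormalSect i W s) = 0) :
    ∃ m : Γ((Scheme.Modules.pullback (𝟙 Z)).obj (Omega.conormal (i ≫ p)), i ⁻¹ᵁ W),
      ψ.app (i ⁻¹ᵁ W) m = conormalSect i W s := by
  have h1 := ker_chart p i d hd φ hφ hT hW eW hWc hTc hge s h0
  have h2 : idealSect i.ker W s ∈ rangeIdeal p i ψ W :=
    (sup_le (map_le_rangeIdeal p i ψ hψ eW hge) (sq_le_rangeIdeal p i ψ hW hWc)) h1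
  obtain ⟨s', m, hs', hm⟩ := h2
  have : s' = s := idealSect_injective i.ker W hs'
  subst this
  exact ⟨m, hm⟩

end OnChart

include hd hψ hφ in
theorem exact_ψ_φ (w : ψ ≫ φ = 0) : (ShortComplex.mk ψ φ w).Exact := by
  apply exact_of_locally
  intro O n hn z hz
  obtain ⟨T, W, hT, hW, eW, hWc, hTc, hzW, hWO, hge⟩ := exists_chart3 p i z O hz
  refine ⟨i ⁻¹ᵁ W, hWO, hzW, ?_⟩
  obtain ⟨s, hs⟩ := cls_surjective i hW hWc (res (Omega.conormal i) hWO n)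
  have h0 : φ.app (i ⁻¹ᵁ W) (conormalSect i W s) = 0 := by
    rw [hs, app_res]
    have hn' : φ.app O n = 0 := hn
    rw [hn', res_zero]
  obtain ⟨m, hm⟩ := exists_of_φ_eq_zero p i d hd ψ hψ φ hφ hT hW eW hWc hTc hge s h0
  exact ⟨m, hm.trans hs⟩

include hd hψ hφ in
/-- **the conormal sequence `C_{Z/Y} → C_{Z/X} → i^*Ω_{X/Y} → 0`** for immersions `Z → X`,
`Z → Y` over `Y`. -/
theorem conormal_seq :
    ∃ w : ψ ≫ φ = 0, (ShortComplex.mk ψ φ w).Exact ∧ Epi φ :=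
  ⟨comp_zero p i d ψ hψ φ hφ, exact_ψ_φ p i d hd ψ hψ φ hφ _, epi_φ p i d hd φ hφ⟩

end Main

end Groth.Agent.Lead.ConSeq
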