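import Mathlib

set_option autoImplicit false
universe u
open TensorProduct

namespace Groth.Agent.Lead.ConSeq

section Alg

variable {R A C : Type u} [CommRing R] [CommRing A] [CommRing C]
  [Algebra R A] [Algebra A C] [Algebra R C] [IsScalarTower R A C]

/-- for `A` formally smooth over `R` and `R → C` surjective with kernel `J`, `A → C` with kernel
`I`: `J ∩ (preimage of I²) = J²`, i.e. `J/J² → I/I²` is injective. -/
theorem mem_sq_of_map_mem_sq [Algebra.FormallySmooth R A]
    (hRC : Function.Surjective (algebraMap R C)) (r : R)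
    (h : algebraMap R A r ∈ RingHom.ker (algebraMap A C) ^ 2) :
    r ∈ RingHom.ker (algebraMap R C) ^ 2 := by
  set J : Ideal R := RingHom.ker (algebraMap R C) with hJ
  let g : (R ⧸ J ^ 2) →ₐ[R] C := Ideal.Quotient.liftₐ (J ^ 2) (Algebra.ofId R C) (fun a ha => by
    have : a ∈ J := Ideal.pow_le_self two_ne_zero ha
    exact this)
  have hgmk : ∀ a : R, g (Ideal.Quotient.mk (J ^ 2) a) = algebraMap R C a := fun a => rfl
  have hg : Function.Surjective g := by
    intro c
    obtain ⟨a, rfl⟩ := hRC c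
    exact ⟨Ideal.Quotient.mk (J ^ 2) a, hgmk a⟩
  have hker2 : RingHom.ker (g : (R ⧸ J ^ 2) →+* C) ^ 2 = ⊥ := by
    refine eq_bot_iff.mpr ((pow_two (RingHom.ker (g : (R ⧸ J ^ 2) →+* C))).le.trans ?_)
    rw [Ideal.mul_le]
    intro x hx y hy
    obtain ⟨a, rfl⟩ := Ideal.Quotient.mk_surjective x
    obtain ⟨b, rfl⟩ := Ideal.Quotient.mk_surjective y
    have ha : a ∈ J := by
      have : g (Ideal.Quotient.mk (J ^ 2) a) = 0 := hx
      rw [hgmk] at this
      exact this
    have hb : b ∈ J := by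
      have : g (Ideal.Quotient.mk (J ^ 2) b) = 0 := hy
      rw [hgmk] at this
      exact this
    rw [Ideal.mem_bot, ← map_mul, Ideal.Quotient.eq_zero_iff_mem, pow_two]
    exact Ideal.mul_mem_mul ha hb
  have hnil : IsNilpotent (RingHom.ker (g : (R ⧸ J ^ 2) →+* C)) := ⟨2, hker2⟩
  let π : A →ₐ[R] (R ⧸ J ^ 2) :=
    Algebra.FormallySmooth.liftOfSurjective (IsScalarTower.toAlgHom R A C) g hg hnil
  have hπ : ∀ a, g (π a) = algebraMap A C a := fun a =>
    Algebra.FormallySmooth.liftOfSurjective_apply (IsScalarTower.toAlgHom R A C) g hg hnil a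
  have h1 : RingHom.ker (algebraMap A C) ≤
      (RingHom.ker (g : (R ⧸ J ^ 2) →+* C)).comap (π : A →+* (R ⧸ J ^ 2)) := by
    intro a ha
    rw [Ideal.mem_comap, RingHom.mem_ker]
    change g (π a) = 0
    rw [hπ]
    exact ha
  have h2 : RingHom.ker (algebraMap A C) ^ 2 ≤
      (RingHom.ker (g : (R ⧸ J ^ 2) →+* C) ^ 2).comap (π : A →+* (R ⧸ J ^ 2)) :=
    (Ideal.pow_right_mono h1 2).trans (Ideal.le_comap_pow _ 2)
  have h3 := h2 h
  rw [hker2, Ideal.mem_comap, Ideal.mem_bot] at h3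
  have h4 : π (algebraMap R A r) = Ideal.Quotient.mk (J ^ 2) r := π.commutes r
  have h5 : Ideal.Quotient.mk (J ^ 2) r = 0 := by
    rw [← h4]
    exact h3
  exact Ideal.Quotient.eq_zero_iff_mem.mp h5

end Alg

end Groth.Agent.Lead.ConSeq
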