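import Mathlib
import Groth.Prelude.Def_Omega4
import Groth.Agent.Lib.Lead.ConSeq4
import Groth.Agent.Lib.Lead.ConSeq5

set_option autoImplicit false
universe u
open CategoryTheory CategoryTheory.Limits AlgebraicGeometry TopologicalSpace Opposite

set_option backward.isDefEq.respectTransparency.types false

namespace Groth.Agent.Lead.ConSeq

open OmegaSh Groth.Agent.Lead.DerU Groth.Agent.Lead.IdM Groth.Agent.Lead.OmU
  Groth.Agent.Lead.BCU Groth.Agent.Lead.ConMap Groth.Agent.Lead.ConChart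

section Main

variable {Z X Y : Scheme.{u}} (p : X ⟶ Y) (i : Z ⟶ X) [IsImmersion i] [QuasiCompact i]
  [IsImmersion (i ≫ p)] [QuasiCompact (i ≫ p)]
  (ψ : (Scheme.Modules.pullback (𝟙 Z)).obj (Omega.conormal (i ≫ p)) ⟶ Omega.conormal i)
  (hψ : IsConormalMap i (i ≫ p) p (𝟙 Z) ψ)

section OnChart

variable {T : Y.Opens} {W : X.Opens} (hT : IsAffineOpen T) (hW : IsAffineOpen W)
  (eW : W ≤ p ⁻¹ᵁ T) (hWc : W ≤ i.coborderRange)
  (hTc : T ≤ (i ≫ p).coborderRange) (hge : (i ≫ p) ⁻¹ᵁ T ≤ i ⁻¹ᵁ W)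

/-- the section of `(𝟙 Z)^* C_j` over `i⁻¹W` attached to a section of the ideal of `j` over `T`. -/
noncomputable def clsT (σ : Γ(ClSub.idealMod (i ≫ p).ker, T)) :
    Γ((Scheme.Modules.pullback (𝟙 Z)).obj (Omega.conormal (i ≫ p)), i ⁻¹ᵁ W) :=
  res ((Scheme.Modules.pullback (𝟙 Z)).obj (Omega.conormal (i ≫ p))) (eU'_of p i eW)
    (pullSect (𝟙 Z) (Omega.conormal (i ≫ p)) ((i ≫ p) ⁻¹ᵁ T) (conormalSect (i ≫ p) T σ))

include hψ in
theorem ψ_clsT (σ : Γ(ClSub.idealMod (i ≫ p).ker, T)) :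
    ψ.app (i ⁻¹ᵁ W) (clsT p i eW σ) =
      conormalSect i W ((ClSub.idealMod i.ker).presheaf.map (homOfLE eW).op
        (liftI i (i ≫ p) p (𝟙 Z) (Category.id_comp _) T σ)) := by
  have hsq : 𝟙 Z ≫ (i ≫ p) = i ≫ p := Category.id_comp _
  have hs₀ := liftI_spec i (i ≫ p) p (𝟙 Z) hsq T σ
  have h1 := ψ_cls p i ψ hψ T σ (liftI i (i ≫ p) p (𝟙 Z) hsq T σ) hs₀
  unfold clsT
  rw [app_res, h1, conormalSect_map]
  rfl

include hT hTc hge in
theorem clsT_surjective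
    (m : Γ((Scheme.Modules.pullback (𝟙 Z)).obj (Omega.conormal (i ≫ p)), i ⁻¹ᵁ W)) :
    ∃ σ, clsT p i eW σ = m := by
  let N := (Scheme.Modules.pullback (𝟙 Z)).obj (Omega.conormal (i ≫ p))
  let m₁ : Γ(N, (i ≫ p) ⁻¹ᵁ T) := res N hge m
  let m₂ : Γ(Omega.conormal (i ≫ p), (i ≫ p) ⁻¹ᵁ T) :=
    ((Scheme.Modules.pullbackId Z).hom.app (Omega.conormal (i ≫ p))).app ((i ≫ p) ⁻¹ᵁ T) m₁
  obtain ⟨σ, hσ⟩ := cls_surjective (i ≫ p) hT hTc m₂
  refine ⟨σ, ?_⟩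
  unfold clsT
  rw [hσ]
  have h1 : pullSect (𝟙 Z) (Omega.conormal (i ≫ p)) ((i ≫ p) ⁻¹ᵁ T) m₂ = m₁ := by
    rw [← pullbackId_inv_app]
    have := congrArg (fun χ => Scheme.Modules.Hom.app χ ((i ≫ p) ⁻¹ᵁ T) m₁)
      ((Scheme.Modules.pullbackId Z).hom_inv_id_app (Omega.conormal (i ≫ p)))
    exact this
  rw [h1]
  change res N _ (res N hge m) = m
  rw [BCU.res_res, res_self]

omit [IsImmersion i] [QuasiCompact i] [IsImmersion (i ≫ p)] [QuasiCompact (i ≫ p)] in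
include hge in
theorem ker_appLE_eq_of_ge (eU' : i ⁻¹ᵁ W ≤ (i ≫ p) ⁻¹ᵁ T) :
    RingHom.ker ((i ≫ p).appLE T (i ⁻¹ᵁ W) eU').hom =
      RingHom.ker ((i ≫ p).appLE T ((i ≫ p) ⁻¹ᵁ T) le_rfl).hom := by
  have h1 : (i ≫ p).appLE T (i ⁻¹ᵁ W) eU' =
      (i ≫ p).appLE T ((i ≫ p) ⁻¹ᵁ T) le_rfl ≫ Z.presheaf.map (homOfLE eU').op :=
    (Scheme.Hom.appLE_map _ _ _).symm
  have h2 : Function.Injective (Z.presheaf.map (homOfLE eU').op).hom := by
    apply Function.LeftInverse.injective (g := (Z.presheaf.map (homOfLE hge).op).hom)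
    intro c
    change (Z.presheaf.map (homOfLE eU').op ≫ Z.presheaf.map (homOfLE hge).op).hom c = c
    rw [← Functor.map_comp]
    change (Z.presheaf.map (𝟙 _)).hom c = c
    rw [Z.presheaf.map_id]
    rfl
  rw [h1]
  exact RingHom.ker_comp_of_injective _ h2

include hψ hT hW eW hWc hTc hge in
theorem ψ_injective_chart [Smooth p] : Function.Injective (ψ.app (i ⁻¹ᵁ W)) := by
  rw [injective_iff_map_eq_zero]
  intro m hm
  obtain ⟨σ, rfl⟩ := clsT_surjective p i hT eW hTc hge m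
  rw [ψ_clsT p i ψ hψ eW σ, cls_eq_zero_iff i hW hWc] at hm
  have hsq : 𝟙 Z ≫ (i ≫ p) = i ≫ p := Category.id_comp _
  have hs₀ := liftI_spec i (i ≫ p) p (𝟙 Z) hsq T σ
  rw [idealSect_map, hs₀] at hm
  have hm' : (p.appLE T W eW).hom (idealSect (i ≫ p).ker T σ) ∈
      RingHom.ker (i.appLE W (i ⁻¹ᵁ W) le_rfl).hom ^ 2 := hm
  have eU' : i ⁻¹ᵁ W ≤ (i ≫ p) ⁻¹ᵁ T := eU'_of p i eW
  have hRC := surj_RC hT hTc hge eU'
  letI algRA := (p.appLE T W eW).hom.toAlgebra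
  letI algAB := (i.appLE W (i ⁻¹ᵁ W) le_rfl).hom.toAlgebra
  letI algRB := ((i ≫ p).appLE T (i ⁻¹ᵁ W) eU').hom.toAlgebra
  haveI tower : IsScalarTower Γ(Y, T) Γ(X, W) Γ(Z, i ⁻¹ᵁ W) := by
    refine IsScalarTower.of_algebraMap_eq' ?_
    change ((i ≫ p).appLE T (i ⁻¹ᵁ W) eU').hom =
      (i.appLE W (i ⁻¹ᵁ W) le_rfl).hom.comp (p.appLE T W eW).hom
    rw [← CommRingCat.hom_comp, Scheme.Hom.appLE_comp_appLE]
  have hsm : RingHom.Smooth (p.appLE T W eW).hom :=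
    HasRingHomProperty.appLE (P := @Smooth) p inferInstance ⟨T, hT⟩ ⟨W, hW⟩ eW
  haveI : Algebra.Smooth Γ(Y, T) Γ(X, W) := hsm
  have h2 := mem_sq_of_map_mem_sq (R := Γ(Y, T)) (A := Γ(X, W)) (C := Γ(Z, i ⁻¹ᵁ W)) hRC
    (idealSect (i ≫ p).ker T σ) hm'
  have h2' : idealSect (i ≫ p).ker T σ ∈
      RingHom.ker ((i ≫ p).appLE T (i ⁻¹ᵁ W) eU').hom ^ 2 := h2
  rw [ker_appLE_eq_of_ge p i hge eU'] at h2'
  have h3 : conormalSect (i ≫ p) T σ = 0 := by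
    rw [cls_eq_zero_iff (i ≫ p) hT hTc]
    exact h2'
  unfold clsT
  rw [h3, map_zero]
  exact res_zero _ _

end OnChart

include hψ in
theorem mono_ψ [Smooth p] : Mono ψ := by
  apply mono_of_locally_injective
  intro z O hz
  obtain ⟨T, W, hT, hW, eW, hWc, hTc, hzW, hWO, hge⟩ := exists_chart3 p i z O hz
  exact ⟨i ⁻¹ᵁ W, hzW, hWO, ψ_injective_chart p i ψ hψ hT hW eW hWc hTc hge⟩

include hψ in
/-- **for `p` smooth the conormal sequence `0 → C_{Z/Y} → C_{Z/X} → i^*Ω_{X/Y} → 0` is short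
exact**. -/
theorem conormal_seq_shortExact [Smooth p] {Ω : X.Modules} (d : Der p Ω) (hd : IsUniversal d)
    (φ : Omega.conormal i ⟶ (Scheme.Modules.pullback i).obj Ω) (hφ : IsConormalDiff i d φ) :
    ∃ w : ψ ≫ φ = 0, (ShortComplex.mk ψ φ w).ShortExact := by
  obtain ⟨w, hex, hepi⟩ := conormal_seq p i d hd ψ hψ φ hφ
  have := mono_ψ p i ψ hψ
  exact ⟨w, { exact := hex }⟩

end Main

end Groth.Agent.Lead.ConSeq
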