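import Mathlib
import Groth.Prelude.Def_Omega4
import Groth.Agent.Lib.Lead.ConSeq6

set_option autoImplicit false
universe u
open CategoryTheory CategoryTheory.Limits AlgebraicGeometry TopologicalSpace Opposite

set_option backward.isDefEq.respectTransparency.types false

namespace Groth.Agent.Lead.ConSeq

open OmegaSh Groth.Agent.Lead.DerU Groth.Agent.Lead.IdM Groth.Agent.Lead.OmU
  Groth.Agent.Lead.BCU Groth.Agent.Lead.ConMap Groth.Agent.Lead.ConChart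

section Main7

variable {Z X Y : Scheme.{u}} (p : X ⟶ Y) (i : Z ⟶ X) [IsImmersion i] [QuasiCompact i]
  [IsImmersion (i ≫ p)] [QuasiCompact (i ≫ p)]
  (ψ : (Scheme.Modules.pullback (𝟙 Z)).obj (Omega.conormal (i ≫ p)) ⟶ Omega.conormal i)
  (hψ : IsConormalMap i (i ≫ p) p (𝟙 Z) ψ)

section OnChart

variable {T : Y.Opens} {W : X.Opens} (hT : IsAffineOpen T) (hW : IsAffineOpen W)
  (eW : W ≤ p ⁻¹ᵁ T) (hWc : W ≤ i.coborderRange)
  (hTc : T ≤ (i ≫ p).coborderRange) (hge : (i ≫ p) ⁻¹ᵁ T ≤ i ⁻¹ᵁ W)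

include hψ hT hW eW hWc hTc hge in
/-- injectivity of the conormal map on a chart, from an ideal-theoretic hypothesis. -/
theorem ψ_injective_chart_of
    (halg : ∀ r : Γ(Y, T), (p.appLE T W eW).hom r ∈
        RingHom.ker (i.appLE W (i ⁻¹ᵁ W) le_rfl).hom ^ 2 →
      r ∈ RingHom.ker ((i ≫ p).appLE T (i ⁻¹ᵁ W) (eU'_of p i eW)).hom ^ 2) :
    Function.Injective (ψ.app (i ⁻¹ᵁ W)) := by
  rw [injective_iff_map_eq_zero]
  intro m hm
  obtain ⟨σ, rfl⟩ := clsT_surjective p i hT eW hTc hge m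
  rw [ψ_clsT p i ψ hψ eW σ, cls_eq_zero_iff i hW hWc] at hm
  have hsq : 𝟙 Z ≫ (i ≫ p) = i ≫ p := Category.id_comp _
  have hs₀ := liftI_spec i (i ≫ p) p (𝟙 Z) hsq T σ
  rw [idealSect_map, hs₀] at hm
  have hm' : (p.appLE T W eW).hom (idealSect (i ≫ p).ker T σ) ∈
      RingHom.ker (i.appLE W (i ⁻¹ᵁ W) le_rfl).hom ^ 2 := hm
  have eU' : i ⁻¹ᵁ W ≤ (i ≫ p) ⁻¹ᵁ T := eU'_of p i eW
  have h2' := halg _ hm'
  rw [ker_appLE_eq_of_ge p i hge eU'] at h2'
  have h3 : conormalSect (i ≫ p) T σ = 0 := by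
    rw [cls_eq_zero_iff (i ≫ p) hT hTc]
    exact h2'
  unfold clsT
  rw [h3, map_zero]
  exact res_zero _ _

end OnChart

end Main7

end Groth.Agent.Lead.ConSeq
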