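import Mathlib
import Groth.Prelude.Def_Omega4
import Groth.Agent.Lib.Lead.ConSeq7
import Groth.Agent.Lib.Lead.ConChart4

set_option autoImplicit false
universe u
open CategoryTheory CategoryTheory.Limits AlgebraicGeometry TopologicalSpace Opposite

set_option backward.isDefEq.respectTransparency.types false

namespace Groth.Agent.Lead.ConNbhd

open OmegaSh Groth.Agent.Lead.DerU Groth.Agent.Lead.IdM Groth.Agent.Lead.OmU
  Groth.Agent.Lead.BCU Groth.Agent.Lead.ConMap Groth.Agent.Lead.ConChart Groth.Agent.Lead.ConSeq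

theorem coborderRange_eq_top {Z X : Scheme.{u}} (i : Z ⟶ X) [IsClosedImmersion i] :
    i.coborderRange = ⊤ := by
  ext x
  change x ∈ coborder (Set.range i.base) ↔ x ∈ (Set.univ : Set X)
  rw [coborder_eq_univ_iff.mpr i.isClosedEmbedding.isClosed_range]

section G

variable {Z X Y : Scheme.{u}} (p : X ⟶ Y) (i : Z ⟶ X) [IsClosedImmersion i] [IsClosedImmersion p]
  (ψ : (Scheme.Modules.pullback (𝟙 Z)).obj (Omega.conormal (i ≫ p)) ⟶ Omega.conormal i)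
  (hψ : IsConormalMap i (i ≫ p) p (𝟙 Z) ψ)
  (hker : p.ker ≤ (i ≫ p).ker ^ 2)

include hker in
theorem halg {T : Y.Opens} (hT : IsAffineOpen T) (r : Γ(Y, T))
    (hr : (p.appLE T (p ⁻¹ᵁ T) le_rfl).hom r ∈
      RingHom.ker (i.appLE (p ⁻¹ᵁ T) (i ⁻¹ᵁ (p ⁻¹ᵁ T)) le_rfl).hom ^ 2) :
    r ∈ RingHom.ker ((i ≫ p).appLE T (i ⁻¹ᵁ (p ⁻¹ᵁ T)) le_rfl).hom ^ 2 := by
  have hsurj : Function.Surjective (p.appLE T (p ⁻¹ᵁ T) le_rfl).hom := by
    rw [Scheme.Hom.appLE_eq_app]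
    exact p.app_surjective T hT
  have hcomp : ((i ≫ p).appLE T (i ⁻¹ᵁ (p ⁻¹ᵁ T)) le_rfl).hom =
      (i.appLE (p ⁻¹ᵁ T) (i ⁻¹ᵁ (p ⁻¹ᵁ T)) le_rfl).hom.comp
        (p.appLE T (p ⁻¹ᵁ T) le_rfl).hom := by
    rw [← CommRingCat.hom_comp, Scheme.Hom.appLE_comp_appLE]
  obtain ⟨q, hq, hqr⟩ := exists_sq_lift _ hsurj _ r hr
  rw [← hcomp] at hq
  have h1 : r - q ∈ RingHom.ker (p.appLE T (p ⁻¹ᵁ T) le_rfl).hom := by
    rw [RingHom.mem_ker, map_sub, hqr, sub_self]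
  have h2 : RingHom.ker (p.appLE T (p ⁻¹ᵁ T) le_rfl).hom ≤
      RingHom.ker ((i ≫ p).appLE T (i ⁻¹ᵁ (p ⁻¹ᵁ T)) le_rfl).hom ^ 2 := by
    have e1 : RingHom.ker (p.appLE T (p ⁻¹ᵁ T) le_rfl).hom = p.ker.ideal ⟨T, hT⟩ := by
      rw [Scheme.Hom.appLE_eq_app, Scheme.Hom.ker_apply]
    have e2 : RingHom.ker ((i ≫ p).appLE T (i ⁻¹ᵁ (p ⁻¹ᵁ T)) le_rfl).hom =
        (i ≫ p).ker.ideal ⟨T, hT⟩ := by
      have : (i ≫ p).appLE T (i ⁻¹ᵁ (p ⁻¹ᵁ T)) le_rfl = (i ≫ p).app T :=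
        Scheme.Hom.appLE_eq_app _
      rw [this]
      exact (Scheme.Hom.ker_apply (i ≫ p) ⟨T, hT⟩).symm
    rw [e1, e2]
    have := hker ⟨T, hT⟩
    rw [Scheme.IdealSheafData.ideal_pow] at this
    exact this
  have : r = q + (r - q) := by ring
  rw [this]
  exact Ideal.add_mem _ hq (h2 h1)

include hψ hker in
theorem mono_of_ker_le : Mono ψ := by
  apply mono_of_locally_injective
  intro z O hz
  obtain ⟨O', hO', hOO'⟩ := (i ≫ p).isEmbedding.isInducing.isOpen_iff.mp O.2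
  have hzO' : (i ≫ p) z ∈ O' := by
    have : z ∈ (i ≫ p) ⁻¹' O' := by rw [hOO']; exact hz
    exact this
  obtain ⟨_, ⟨T, hT, rfl⟩, hzT, hTO'⟩ := Y.isBasis_affineOpens.exists_subset_of_mem_open
    hzO' hO'
  have hW : IsAffineOpen (p ⁻¹ᵁ T) := hT.preimage p
  have hWc : p ⁻¹ᵁ T ≤ i.coborderRange := by
    rw [coborderRange_eq_top]; exact le_top
  have hTc : T ≤ (i ≫ p).coborderRange := by
    rw [coborderRange_eq_top]; exact le_top
  refine ⟨i ⁻¹ᵁ (p ⁻¹ᵁ T), hzT, ?_, ?_⟩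
  · intro y hy
    have h1 : (i ≫ p) y ∈ O' := hTO' hy
    have : y ∈ (i ≫ p) ⁻¹' O' := h1
    rw [hOO'] at this
    exact this
  · exact ψ_injective_chart_of p i ψ hψ hT hW le_rfl hWc hTc le_rfl
      (fun r hr => halg p i hker hT r hr)

include hψ hker in
/-- the conormal sheaf of `Z` in `X` agrees with that of `Z` in a closed subscheme `X₁ ⊂ X`
whose ideal is contained in the square of the ideal of `Z`. -/
theorem isIso_of_ker_le : IsIso ψ := by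
  haveI := mono_of_ker_le p i ψ hψ hker
  haveI : Epi ψ := Groth.Agent.Lead.ConChart.epi_φ₂ p i ψ hψ
  exact isIso_of_mono_of_epi ψ

end G

end Groth.Agent.Lead.ConNbhd
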