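import Mathlib
import Groth.Agent.Lib.Lead.ConChart1
import Groth.Agent.Lib.Lead.BCU1

set_option autoImplicit false
universe u
open TensorProduct

namespace Groth.Agent.Lead.FlatBC

section

variable {R A C : Type u} [CommRing R] [CommRing A] [CommRing C] [Algebra R A] [Algebra A C]
  [Algebra R C] [IsScalarTower R A C] [Module.Flat R A]
  {M' : Type u} [AddCommGroup M'] [Module R M'] (ι' : M' →ₗ[R] R) (hι' : Function.Injective ι')
  (hK : RingHom.ker (algebraMap A C) = Ideal.map (algebraMap R A) (LinearMap.range ι'))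
  {M : Type u} [AddCommGroup M] [Module A M] [Module R M] [IsScalarTower R A M]
  (ι : M →ₗ[A] A) (hι : Function.Injective ι)
  (hr : LinearMap.range ι = RingHom.ker (algebraMap A C))
  (γ : M' →ₗ[R] M) (hγ : ∀ m', ι (γ m') = algebraMap R A (ι' m'))
  {P : Type u} [AddCommGroup P] [Module C P] [Module R P] [IsScalarTower R C P]
  (L : M' →ₗ[R] P) (hL : IsBaseChange C L)
  {N : Type u} [AddCommGroup N] [Module C N] [Module A N] [IsScalarTower A C N]
  (l : M →ₗ[A] N) (hl : IsBaseChange C l) (hsA : Function.Surjective (algebraMap A C))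
  (φ : P →ₗ[C] N) (hφ : ∀ m', φ (L m') = l (γ m'))

include hι' hK hι hr hγ hL hl hsA hφ in
/-- for a flat ring map the conormal module of the extended ideal is the base change of the
conormal module: injectivity of the comparison map. -/
theorem bc_injective_of_flat : Function.Injective φ := by
  letI mAP : Module A P := Module.compHom P (algebraMap A C)
  haveI tACP : IsScalarTower A C P := ⟨fun a c p => by
    rw [Algebra.smul_def, mul_smul]
    rfl⟩
  haveI tRAP : IsScalarTower R A P := ⟨fun r a p => by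
    change algebraMap A C (r • a) • p = r • (algebraMap A C a • p)
    rw [Algebra.smul_def, map_mul, ← IsScalarTower.algebraMap_apply R A C, mul_smul,
      algebraMap_smul]⟩
  let ιA : M' →ₗ[R] A := (Algebra.linearMap R A).comp ι'
  let μ : A ⊗[R] M' →ₗ[A] A := LinearMap.liftBaseChange A ιA
  let ν : A ⊗[R] M' →ₗ[A] M := LinearMap.liftBaseChange A γ
  let Λ : A ⊗[R] M' →ₗ[A] P := LinearMap.liftBaseChange A L
  have hμ : ∀ (a : A) (m' : M'), μ (a ⊗ₜ m') = a * algebraMap R A (ι' m') := fun a m' => by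
    change LinearMap.liftBaseChange A ιA (a ⊗ₜ m') = _
    rw [LinearMap.liftBaseChange_tmul]
    rfl
  have hιν : ∀ t, ι (ν t) = μ t := by
    intro t
    induction t using TensorProduct.induction_on with
    | zero => simp
    | tmul a m' =>
      rw [hμ]
      change ι (LinearMap.liftBaseChange A γ (a ⊗ₜ m')) = _
      rw [LinearMap.liftBaseChange_tmul, map_smul, hγ, smul_eq_mul]
    | add x y hx hy => rw [map_add, map_add, map_add, hx, hy]
  have hμinj : Function.Injective μ := by
    have h1 : ∀ t, μ t = TensorProduct.rid R A (ι'.lTensor A t) := by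
      intro t
      induction t using TensorProduct.induction_on with
      | zero => simp
      | tmul a m' =>
        rw [hμ, LinearMap.lTensor_tmul, TensorProduct.rid_tmul, Algebra.smul_def, mul_comm]
      | add x y hx hy => rw [map_add, map_add, map_add, hx, hy]
    have h2 := Module.Flat.lTensor_preserves_injective_linearMap (M := A) ι' hι'
    intro x y hxy
    rw [h1, h1] at hxy
    exact h2 ((TensorProduct.rid R A).injective hxy)
  have hφΛ : ∀ t, φ (Λ t) = l (ν t) := by
    intro t
    induction t using TensorProduct.induction_on with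
    | zero => simp
    | tmul a m' =>
      change φ (LinearMap.liftBaseChange A L (a ⊗ₜ m')) = l (LinearMap.liftBaseChange A γ (a ⊗ₜ m'))
      rw [LinearMap.liftBaseChange_tmul, LinearMap.liftBaseChange_tmul]
      have e1 : (a • L m' : P) = algebraMap A C a • L m' := rfl
      rw [e1, map_smul, hφ, map_smul, algebraMap_smul]
    | add x y hx hy => rw [map_add, map_add, map_add, map_add, hx, hy]
  have hΛsurj : Function.Surjective Λ := by
    intro p
    induction p using hL.inductionOn with
    | zero => exact ⟨0, map_zero _⟩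
    | tmul m' =>
      refine ⟨1 ⊗ₜ m', ?_⟩
      change LinearMap.liftBaseChange A L (1 ⊗ₜ m') = _
      rw [LinearMap.liftBaseChange_tmul, one_smul]
    | smul c p ih =>
      obtain ⟨t, rfl⟩ := ih
      obtain ⟨a, rfl⟩ := hsA c
      exact ⟨a • t, by rw [map_smul]; rfl⟩
    | add p₁ p₂ h₁ h₂ =>
      obtain ⟨t₁, rfl⟩ := h₁
      obtain ⟨t₂, rfl⟩ := h₂
      exact ⟨t₁ + t₂, map_add _ _ _⟩
  have hKμ : RingHom.ker (algebraMap A C) ≤ LinearMap.range μ := by
    rw [hK, Ideal.map, Ideal.span_le]
    rintro _ ⟨r, hr', rfl⟩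
    obtain ⟨m', rfl⟩ := hr'
    exact ⟨1 ⊗ₜ m', by rw [hμ, one_mul]⟩
  have hΛK : ∀ t ∈ (RingHom.ker (algebraMap A C)) • (⊤ : Submodule A (A ⊗[R] M')), Λ t = 0 := by
    intro t ht
    refine Submodule.smul_induction_on ht ?_ ?_
    · intro k hk u _
      rw [map_smul]
      change algebraMap A C k • Λ u = 0
      rw [RingHom.mem_ker.1 hk, zero_smul]
    · intro x y hx hy
      rw [map_add, hx, hy, add_zero]
  rw [injective_iff_map_eq_zero]
  intro p hp
  obtain ⟨t, rfl⟩ := hΛsurj p
  rw [hφΛ] at hp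
  have h1 := (Groth.Agent.Lead.ConChart.bc_eq_zero_iff hsA l hl ι hι hr (ν t)).1 hp
  rw [hιν, pow_two] at h1
  -- `μ t ∈ K * K ⊆ μ (K • ⊤)`
  have h2 : ∀ x ∈ RingHom.ker (algebraMap A C) * RingHom.ker (algebraMap A C),
      ∃ t₂ ∈ (RingHom.ker (algebraMap A C)) • (⊤ : Submodule A (A ⊗[R] M')), μ t₂ = x := by
    intro x hx
    refine Submodule.mul_induction_on hx ?_ ?_
    · intro k hk y hy
      obtain ⟨u, rfl⟩ := hKμ hy
      exact ⟨k • u, Submodule.smul_mem_smul hk Submodule.mem_top, by rw [map_smul, smul_eq_mul]⟩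
    · rintro x y ⟨tx, htx, rfl⟩ ⟨ty, hty, rfl⟩
      exact ⟨tx + ty, add_mem htx hty, map_add _ _ _⟩
  obtain ⟨t₂, ht₂, hμt₂⟩ := h2 _ h1
  have h3 : t = t₂ := hμinj hμt₂.symm
  rw [h3]
  exact hΛK t₂ ht₂

end

section BC

open Groth.Agent.Lead.BCU

variable {R B C : Type u} [CommRing R] [CommRing B] [CommRing C] (α : R →+* B) (β : B →+* C)
  {M N P : Type u} [AddCommGroup M] [Module R M] [AddCommGroup N] [Module B N]
  [AddCommGroup P] [Module C P]

/-- base changes compose. -/
theorem isBC_comp {l₁ : M → N} {l₂ : N → P} (h₁ : IsBC α l₁) (h₂ : IsBC β l₂) :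
    IsBC (β.comp α) (l₂ ∘ l₁) := by
  letI := α.toAlgebra
  letI := β.toAlgebra
  letI := (β.comp α).toAlgebra
  haveI : IsScalarTower R B C := IsScalarTower.of_algebraMap_eq' rfl
  letI : Module R N := Module.compHom N α
  haveI : IsScalarTower R B N := ⟨fun a a' n => by
    change (α a * a') • n = α a • a' • n
    exact mul_smul _ _ _⟩
  letI : Module B P := Module.compHom P β
  haveI : IsScalarTower B C P := ⟨fun a a' n => by
    change (β a * a') • n = β a • a' • n
    exact mul_smul _ _ _⟩
  letI : Module R P := Module.compHom P (β.comp α)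
  haveI : IsScalarTower R C P := ⟨fun a a' n => by
    change ((β.comp α) a * a') • n = (β.comp α) a • a' • n
    exact mul_smul _ _ _⟩
  haveI : IsScalarTower R B P := ⟨fun a a' n => by
    change β (α a * a') • n = (β.comp α) a • β a' • n
    rw [map_mul, mul_smul]
    rfl⟩
  obtain ⟨l₁', hl₁, hb₁⟩ := h₁
  obtain ⟨l₂', hl₂, hb₂⟩ := h₂
  refine ⟨(l₂'.restrictScalars R).comp l₁', fun m => ?_, IsBaseChange.comp hb₁ hb₂⟩
  change l₂' (l₁' m) = l₂ (l₁ m)
  rw [hl₁, hl₂]

end BC

section FlatBC'

open Groth.Agent.Lead.BCU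

variable {R A C : Type u} [CommRing R] [CommRing A] [CommRing C] (ρ : R →+* A) (π : A →+* C)
  (hρ : ρ.Flat) (hπ : Function.Surjective π)
  {M' : Type u} [AddCommGroup M'] [Module R M'] (ι' : M' →ₗ[R] R) (hι' : Function.Injective ι')
  (hK : RingHom.ker π = Ideal.map ρ (LinearMap.range ι'))
  {M : Type u} [AddCommGroup M] [Module A M]
  (ι : M →ₗ[A] A) (hι : Function.Injective ι) (hr : LinearMap.range ι = RingHom.ker π)
  (γ : M' → M) (hγ : ∀ m', ι (γ m') = ρ (ι' m'))
  {P : Type u} [AddCommGroup P] [Module C P] (L : M' → P) (hL : IsBC (π.comp ρ) L)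
  {N : Type u} [AddCommGroup N] [Module C N] (l : M → N) (hl : IsBC π l)
  (φ : P →ₗ[C] N) (hφ : ∀ m', φ (L m') = l (γ m'))

include hρ hπ hι' hK hι hr hγ hL hl hφ in
theorem injective_of_flat_isBC : Function.Injective φ := by
  letI := ρ.toAlgebra
  letI := π.toAlgebra
  letI := (π.comp ρ).toAlgebra
  haveI : IsScalarTower R A C := IsScalarTower.of_algebraMap_eq' rfl
  haveI : Module.Flat R A := hρ
  letI : Module R M := Module.compHom M ρ
  haveI : IsScalarTower R A M := ⟨fun a a' n => by
    change (ρ a * a') • n = ρ a • a' • n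
    exact mul_smul _ _ _⟩
  letI : Module A N := Module.compHom N π
  haveI : IsScalarTower A C N := ⟨fun a a' n => by
    change (π a * a') • n = π a • a' • n
    exact mul_smul _ _ _⟩
  letI : Module R P := Module.compHom P (π.comp ρ)
  haveI : IsScalarTower R C P := ⟨fun a a' n => by
    change ((π.comp ρ) a * a') • n = (π.comp ρ) a • a' • n
    exact mul_smul _ _ _⟩
  obtain ⟨L', hL', hbL⟩ := hL
  obtain ⟨l', hl', hbl⟩ := hl
  let γlin : M' →ₗ[R] M :=
    { toFun := γ
      map_add' := fun x y => by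
        apply hι
        rw [map_add, hγ, hγ, hγ, map_add, map_add]
      map_smul' := fun r x => by
        apply hι
        change ι (γ (r • x)) = ι (ρ r • γ x)
        rw [map_smul, hγ, hγ, map_smul, smul_eq_mul, smul_eq_mul, map_mul] }
  refine bc_injective_of_flat (R := R) (A := A) (C := C) ι' hι' hK ι hι hr γlin hγ L' hbL l' hbl
    hπ φ ?_
  intro m'
  rw [hL', hl']
  exact hφ m'

end FlatBC'

end Groth.Agent.Lead.FlatBC
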