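import Mathlib
import Groth.Prelude.Def_Omega4
import Groth.Agent.Lib.Lead.ConChart4
import Groth.Agent.Lib.Lead.PbI
import Groth.Agent.Lib.Lead.FlatBC
import Groth.Agent.Lib.Lead.QcIso

set_option autoImplicit false
universe u
open CategoryTheory CategoryTheory.Limits AlgebraicGeometry TopologicalSpace Opposite

set_option backward.isDefEq.respectTransparency.types false

namespace Groth.Agent.Lead.ConPb

open OmegaSh Groth.Agent.Lead.DerU Groth.Agent.Lead.IdM Groth.Agent.Lead.OmU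
  Groth.Agent.Lead.BCU Groth.Agent.Lead.ConMap Groth.Agent.Lead.ConChart Groth.Agent.Lead.PbI

section Pb

variable {Z X Z' X' : Scheme.{u}} (i : Z ⟶ X) (i' : Z' ⟶ X') [IsImmersion i] [IsImmersion i']
  [QuasiCompact i] [QuasiCompact i'] (g : X ⟶ X') (gZ : Z ⟶ Z') (hsq : gZ ≫ i' = i ≫ g)

include hsq in
omit [QuasiCompact i] [QuasiCompact i'] in
theorem exists_chart_pb (z : Z) (O : Z.Opens) (hz : z ∈ O) :
    ∃ (W' : X'.Opens) (W : X.Opens), IsAffineOpen W' ∧ IsAffineOpen W ∧ W' ≤ i'.coborderRange ∧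
      W ≤ i.coborderRange ∧ W ≤ g ⁻¹ᵁ W' ∧ z ∈ i ⁻¹ᵁ W ∧ i ⁻¹ᵁ W ≤ O := by
  have hx' : g.base (i.base z) ∈ i'.coborderRange := by
    have h1 : i'.base (gZ.base z) = g.base (i.base z) := by
      have := congrArg (fun χ => χ.base z) hsq
      exact this
    rw [← h1]
    exact subset_coborder ⟨gZ.base z, rfl⟩
  obtain ⟨_, ⟨W', hW', rfl⟩, hxW', hW'c⟩ := X'.isBasis_affineOpens.exists_subset_of_mem_open
    (show g.base (i.base z) ∈ (i'.coborderRange : Set X') from hx') i'.coborderRange.2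
  obtain ⟨N, hN, hNO⟩ := i.isEmbedding.isInducing.isOpen_iff.mp O.2
  have hzN : i.base z ∈ N := by
    have : z ∈ i.base ⁻¹' N := by rw [hNO]; exact hz
    exact this
  have hzc : i.base z ∈ i.coborderRange := subset_coborder ⟨z, rfl⟩
  obtain ⟨_, ⟨W, hW, rfl⟩, hxW, hWle⟩ := X.isBasis_affineOpens.exists_subset_of_mem_open
    (show i.base z ∈ ((g ⁻¹ᵁ W' ⊓ i.coborderRange ⊓ ⟨N, hN⟩ : X.Opens) : Set X)
      from ⟨⟨hxW', hzc⟩, hzN⟩) (g ⁻¹ᵁ W' ⊓ i.coborderRange ⊓ ⟨N, hN⟩ : X.Opens).2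
  refine ⟨W', W, hW', hW, hW'c, fun y hy => (hWle hy).1.2, fun y hy => (hWle hy).1.1, hxW, ?_⟩
  intro y hy
  have h1 : i.base y ∈ N := (hWle hy).2
  have : y ∈ i.base ⁻¹' N := h1
  rw [hNO] at this
  exact this

section OnChart

variable (φ : (Scheme.Modules.pullback gZ).obj (Omega.conormal i') ⟶ Omega.conormal i)
  (hφ : IsConormalMap i i' g gZ φ)
  {W' : X'.Opens} {W : X.Opens} (e : W ≤ g ⁻¹ᵁ W')

include hsq e in
omit [IsImmersion i] [IsImmersion i'] [QuasiCompact i] [QuasiCompact i'] in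
theorem pre_le : i ⁻¹ᵁ W ≤ gZ ⁻¹ᵁ (i' ⁻¹ᵁ W') := by
  intro z hz
  have h1 : g.base (i.base z) ∈ W' := e hz
  have h2 : i'.base (gZ.base z) = g.base (i.base z) := by
    have := congrArg (fun χ => χ.base z) hsq
    exact this
  change i'.base (gZ.base z) ∈ W'
  rw [h2]; exact h1

include hφ in
omit [IsImmersion i] [IsImmersion i'] [QuasiCompact i'] in
theorem φ_res_cls (s' : Γ(ClSub.idealMod i'.ker, W')) :
    φ.app (i ⁻¹ᵁ W) (res ((Scheme.Modules.pullback gZ).obj (Omega.conormal i'))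
        (pre_le i i' g gZ hsq e)
        (pullSect gZ (Omega.conormal i') (i' ⁻¹ᵁ W') (conormalSect i' W' s'))) =
      conormalSect i W ((ClSub.idealMod i.ker).presheaf.map (homOfLE e).op
        (liftI i i' g gZ hsq W' s')) := by
  rw [app_res, conormalSect_map]
  exact hφ.2 W' s' (liftI i i' g gZ hsq W' s') (liftI_spec i i' g gZ hsq W' s') (i ⁻¹ᵁ W)
    (pre_le i i' g gZ hsq e) (i.preimage_mono e)

include hsq e in
omit [IsImmersion i] [IsImmersion i'] [QuasiCompact i] in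
/-- functions in the extension of the ideal of `i'` vanish on `Z`. -/
theorem app_eq_zero_of_mem_map (y : Γ(X, W))
    (hy : y ∈ Ideal.map (g.appLE W' W e).hom (RingHom.ker (i'.app W').hom)) :
    (i.app W).hom y = 0 := by
  have hle : Ideal.map (g.appLE W' W e).hom (RingHom.ker (i'.app W').hom) ≤
      RingHom.ker (i.app W).hom := by
    rw [Ideal.map_le_iff_le_comap]
    intro r hr
    obtain ⟨s', hs'⟩ := exists_idealSect i' W' r hr
    have h1 := kill i i' g gZ hsq W' s'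
    rw [hs'] at h1
    change (i.app W).hom ((g.appLE W' W e).hom r) = 0
    have h2 : (g.appLE W' W e).hom r =
        (X.presheaf.map (homOfLE e).op).hom ((g.app W').hom r) := rfl
    rw [h2]
    have h3 : (i.app W).hom ((X.presheaf.map (homOfLE e).op).hom ((g.app W').hom r)) =
        (Z.presheaf.map (homOfLE (i.preimage_mono e)).op).hom
          ((i.app (g ⁻¹ᵁ W')).hom ((g.app W').hom r)) := by
      have := i.naturality (homOfLE e).op
      exact congrArg (fun χ => χ.hom ((g.app W').hom r)) this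
    rw [h3, h1, map_zero]
  exact hle hy

include hsq hφ in
omit [IsImmersion i] [IsImmersion i'] in
/-- classes of sections of the extended ideal are in the image of the conormal map. -/
theorem exists_of_mem_map (x : Γ(X, W))
    (hx : x ∈ Ideal.map (g.appLE W' W e).hom (RingHom.ker (i'.app W').hom)) :
    ∀ s : Γ(ClSub.idealMod i.ker, W), idealSect i.ker W s = x →
      ∃ m, φ.app (i ⁻¹ᵁ W) m = conormalSect i W s := by
  have hx' : x ∈ Ideal.span ((g.appLE W' W e).hom ''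
      (RingHom.ker (i'.app W').hom : Set Γ(X', W'))) := hx
  have hkx : ∀ y ∈ Ideal.span ((g.appLE W' W e).hom ''
      (RingHom.ker (i'.app W').hom : Set Γ(X', W'))), (i.app W).hom y = 0 :=
    fun y hy => app_eq_zero_of_mem_map i i' g gZ hsq e y hy
  clear hx
  induction hx' using Submodule.span_induction with
  | mem y hy =>
    obtain ⟨r, hr, rfl⟩ := hy
    intro s hs
    obtain ⟨s', hs'r⟩ := exists_idealSect i' W' r hr
    refine ⟨_, (φ_res_cls i i' g gZ hsq φ hφ e s').trans ?_⟩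
    congr 1
    apply idealSect_injective i.ker W
    rw [hs, idealSect_map, liftI_spec, hs'r]
    rfl
  | zero =>
    intro s hs
    have : s = 0 := idealSect_injective i.ker W (by rw [hs, map_zero])
    exact ⟨0, by rw [this, map_zero, map_zero]⟩
  | add y z hy hz ihy ihz =>
    intro s hs
    obtain ⟨sy, hsy⟩ := exists_idealSect i W y (hkx y hy)
    obtain ⟨sz, hsz⟩ := exists_idealSect i W z (hkx z hz)
    obtain ⟨my, hmy⟩ := ihy sy hsy
    obtain ⟨mz, hmz⟩ := ihz sz hsz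
    have : s = sy + sz := idealSect_injective i.ker W (by rw [hs, map_add, hsy, hsz])
    exact ⟨my + mz, by rw [this, map_add, map_add, hmy, hmz]⟩
  | smul a y hy ihy =>
    intro s hs
    obtain ⟨sy, hsy⟩ := exists_idealSect i W y (hkx y hy)
    obtain ⟨my, hmy⟩ := ihy sy hsy
    have : s = a • sy := idealSect_injective i.ker W (by
      rw [hs, idealSect_smul, hsy, smul_eq_mul])
    refine ⟨((i.app W).hom a) • my, ?_⟩
    rw [this, conormalSect_smul, Scheme.Modules.Hom.app_smul, hmy]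

variable (H : IsPullback i gZ g i') (hW' : IsAffineOpen W') (hW : IsAffineOpen W)
  (hW'c : W' ≤ i'.coborderRange) (hWc : W ≤ i.coborderRange)

include H hφ hW' hW hW'c hWc e in
theorem φ_surjective_chart (n : Γ(Omega.conormal i, i ⁻¹ᵁ W)) :
    ∃ m, φ.app (i ⁻¹ᵁ W) m = n := by
  have hsq : gZ ≫ i' = i ≫ g := H.w.symm
  obtain ⟨s, rfl⟩ := cls_surjective i hW hWc n
  have hT : IsAffineOpen (i' ⁻¹ᵁ W') := isAffineOpen_preimage_of_le_coborder i' hW' hW'c
  have hs' : Function.Surjective (i'.appLE W' (i' ⁻¹ᵁ W') le_rfl).hom :=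
    app_surjective_of_le_coborder i' hW' hW'c
  have hker := ker_appLE_eq_map i i' g gZ H hW' hW hT e hs'
  have hmem : idealSect i.ker W s ∈ Ideal.map (g.appLE W' W e).hom
      (RingHom.ker (i'.app W').hom) := by
    have h1 : idealSect i.ker W s ∈ RingHom.ker (i.appLE W (i ⁻¹ᵁ W) le_rfl).hom := by
      rw [Scheme.Hom.appLE_eq_app]
      exact app_idealSect i W s
    rw [hker, Scheme.Hom.appLE_eq_app] at h1
    exact h1
  exact exists_of_mem_map i i' g gZ hsq φ hφ e _ hmem s rfl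

include H hφ hW' hW hW'c hWc e in
theorem φ_injective_chart [Flat g] : Function.Injective (φ.app (i ⁻¹ᵁ W)) := by
  have hsq : gZ ≫ i' = i ≫ g := H.w.symm
  have hT : IsAffineOpen (i' ⁻¹ᵁ W') := isAffineOpen_preimage_of_le_coborder i' hW' hW'c
  have hO : IsAffineOpen (i ⁻¹ᵁ W) := isAffineOpen_preimage_of_le_coborder i hW hWc
  have hs' : Function.Surjective (i'.appLE W' (i' ⁻¹ᵁ W') le_rfl).hom :=
    app_surjective_of_le_coborder i' hW' hW'c
  have hs : Function.Surjective (i.appLE W (i ⁻¹ᵁ W) le_rfl).hom :=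
    app_surjective_of_le_coborder i hW hWc
  have hker := ker_appLE_eq_map i i' g gZ H hW' hW hT e hs'
  have hflat : (g.appLE W' W e).hom.Flat :=
    HasRingHomProperty.appLE (P := @Flat) g inferInstance ⟨W', hW'⟩ ⟨W, hW⟩ e
  haveI : (ClSub.idealMod i'.ker).IsQuasicoherent :=
    Groth.Agent.Helper1.IdealModL.isQuasicoherent_idealMod i'.ker
  haveI : (Omega.conormal i').IsQuasicoherent :=
    Groth.Agent.Lead.PB.isQuasicoherent_pullback _ _
  haveI : (ClSub.idealMod i.ker).IsQuasicoherent :=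
    Groth.Agent.Helper1.IdealModL.isQuasicoherent_idealMod i.ker
  have hb1 := isBC_unitRes i' (ClSub.idealMod i'.ker) hW' hT le_rfl
  have hb2 := isBC_unitRes gZ (Omega.conormal i') hT hO (pre_le i i' g gZ hsq e)
  have hb12 := Groth.Agent.Lead.FlatBC.isBC_comp _ _ hb1 hb2
  have hrings : (gZ.appLE (i' ⁻¹ᵁ W') (i ⁻¹ᵁ W) (pre_le i i' g gZ hsq e)).hom.comp
      (i'.appLE W' (i' ⁻¹ᵁ W') le_rfl).hom =
      (i.appLE W (i ⁻¹ᵁ W) le_rfl).hom.comp (g.appLE W' W e).hom := by
    rw [← CommRingCat.hom_comp, ← CommRingCat.hom_comp, Scheme.Hom.appLE_comp_appLE,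
      Scheme.Hom.appLE_comp_appLE]
    have aux : ∀ (p q : Z ⟶ X') (hpq : p = q) (e₁ : i ⁻¹ᵁ W ≤ p ⁻¹ᵁ W') (e₂ : i ⁻¹ᵁ W ≤ q ⁻¹ᵁ W'),
        p.appLE W' (i ⁻¹ᵁ W) e₁ = q.appLE W' (i ⁻¹ᵁ W) e₂ := by
      rintro p q rfl e₁ e₂
      rfl
    rw [aux _ _ hsq]
  rw [hrings] at hb12
  have hb3 := isBC_unitRes i (ClSub.idealMod i.ker) hW hO le_rfl
  let φlin : Γ((Scheme.Modules.pullback gZ).obj (Omega.conormal i'), i ⁻¹ᵁ W) →ₗ[Γ(Z, i ⁻¹ᵁ W)]
      Γ(Omega.conormal i, i ⁻¹ᵁ W) :=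
    { toFun := fun t => φ.app (i ⁻¹ᵁ W) t
      map_add' := fun x y => map_add _ x y
      map_smul' := fun r x => by
        rw [Scheme.Modules.Hom.app_smul]
        rfl }
  have hK : RingHom.ker (i.appLE W (i ⁻¹ᵁ W) le_rfl).hom =
      Ideal.map (g.appLE W' W e).hom (LinearMap.range (ιL i'.ker W')) := by
    rw [hker, range_ιL i'.ker ⟨W', hW'⟩, Scheme.Hom.ker_apply, Scheme.Hom.appLE_eq_app]
  have hr : LinearMap.range (ιL i.ker W) = RingHom.ker (i.appLE W (i ⁻¹ᵁ W) le_rfl).hom := by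
    rw [range_ιL i.ker ⟨W, hW⟩, Scheme.Hom.ker_apply, Scheme.Hom.appLE_eq_app]
  have hinj := Groth.Agent.Lead.FlatBC.injective_of_flat_isBC (g.appLE W' W e).hom
    (i.appLE W (i ⁻¹ᵁ W) le_rfl).hom hflat hs (ιL i'.ker W') (ιL_injective i'.ker W') hK
    (ιL i.ker W) (ιL_injective i.ker W) hr
    (fun m' => (ClSub.idealMod i.ker).presheaf.map (homOfLE e).op (liftI i i' g gZ hsq W' m'))
    (fun m' => by
      change idealSect i.ker W _ = _
      rw [idealSect_map, liftI_spec]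
      rfl)
    _ hb12 _ hb3 φlin (fun m' => by
      change φ.app (i ⁻¹ᵁ W) (unitRes gZ (Omega.conormal i') (pre_le i i' g gZ hsq e)
        (unitRes i' (ClSub.idealMod i'.ker) le_rfl m')) = unitRes i (ClSub.idealMod i.ker) le_rfl _
      rw [unitRes_self, unitRes_self]
      exact φ_res_cls i i' g gZ hsq φ hφ e m')
  exact hinj

end OnChart

include hsq in
theorem epi_of_isPullback (H : IsPullback i gZ g i')
    (φ : (Scheme.Modules.pullback gZ).obj (Omega.conormal i') ⟶ Omega.conormal i)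
    (hφ : IsConormalMap i i' g gZ φ) : Epi φ := by
  apply Groth.Agent.Helper1.SerreCrit.epi_of_locally_surjective
  intro O t z hz
  obtain ⟨W', W, hW', hW, hW'c, hWc, e, hzW, hWO⟩ := exists_chart_pb i i' g gZ hsq z O hz
  refine ⟨i ⁻¹ᵁ W, hWO, hzW, ?_⟩
  exact φ_surjective_chart i i' g gZ φ hφ e H hW' hW hW'c hWc _

theorem isIso_of_isPullback_of_flat (H : IsPullback i gZ g i') [Flat g]
    (φ : (Scheme.Modules.pullback gZ).obj (Omega.conormal i') ⟶ Omega.conormal i)
    (hφ : IsConormalMap i i' g gZ φ) : IsIso φ := by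
  have hsq : gZ ≫ i' = i ≫ g := H.w.symm
  haveI : (ClSub.idealMod i'.ker).IsQuasicoherent :=
    Groth.Agent.Helper1.IdealModL.isQuasicoherent_idealMod i'.ker
  haveI : (Omega.conormal i').IsQuasicoherent :=
    Groth.Agent.Lead.PB.isQuasicoherent_pullback _ _
  haveI : ((Scheme.Modules.pullback gZ).obj (Omega.conormal i')).IsQuasicoherent :=
    Groth.Agent.Lead.PB.isQuasicoherent_pullback _ _
  haveI : (ClSub.idealMod i.ker).IsQuasicoherent :=
    Groth.Agent.Helper1.IdealModL.isQuasicoherent_idealMod i.ker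
  haveI : (Omega.conormal i).IsQuasicoherent :=
    Groth.Agent.Lead.PB.isQuasicoherent_pullback _ _
  apply Groth.Agent.Lead.QcIso.isIso_of_bijective_affine
  intro z
  obtain ⟨W', W, hW', hW, hW'c, hWc, e, hzW, -⟩ := exists_chart_pb i i' g gZ hsq z ⊤ trivial
  refine ⟨i ⁻¹ᵁ W, isAffineOpen_preimage_of_le_coborder i hW hWc, hzW, ?_, ?_⟩
  · exact φ_injective_chart i i' g gZ φ hφ e H hW' hW hW'c hWc
  · intro n
    exact φ_surjective_chart i i' g gZ φ hφ e H hW' hW hW'c hWc n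

end Pb

end Groth.Agent.Lead.ConPb
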