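import Mathlib
import Groth.Prelude.Def_DefoSh
import Groth.Agent.Lib.Lead.RH4

/-!
# Morphisms of deformations of a module are isomorphisms (lead)
-/

set_option autoImplicit false
set_option linter.unusedSectionVars false
set_option linter.style.haveILetI false
universe u

open CategoryTheory AlgebraicGeometry TensorProduct

namespace Groth.Agent.Lead.DefoIso

section alg

variable {A : Type*} [CommRing A] (I : Ideal A) {M M' : Type*} [AddCommGroup M] [Module A M]
  [AddCommGroup M'] [Module A M']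

theorem top_le_sup_pow_smul (N : Submodule A M') (h : (⊤ : Submodule A M') ≤ N ⊔ I • ⊤) (n : ℕ) :
    (⊤ : Submodule A M') ≤ N ⊔ I ^ n • ⊤ := by
  induction n with
  | zero => simp
  | succ n ih =>
    calc (⊤ : Submodule A M') ≤ N ⊔ I • ⊤ := h
      _ ≤ N ⊔ I • (N ⊔ I ^ n • ⊤) := sup_le_sup_left (Submodule.smul_mono le_rfl ih) N
      _ ≤ N ⊔ I ^ (n + 1) • ⊤ := by
          rw [Submodule.smul_sup, ← Submodule.mul_smul, ← pow_succ']
          exact sup_le le_sup_left (sup_le (Submodule.smul_le_right.trans le_sup_left) le_sup_right)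

theorem eq_top_of_top_le_sup_smul (hI : IsNilpotent I) (N : Submodule A M')
    (h : (⊤ : Submodule A M') ≤ N ⊔ I • ⊤) : N = ⊤ := by
  obtain ⟨n, hn⟩ := hI
  have := top_le_sup_pow_smul I N h n
  rw [hn, Ideal.zero_eq_bot, Submodule.bot_smul, sup_bot_eq] at this
  exact top_le_iff.mp this

theorem bijective_of_flat_of_nilpotent (hI : IsNilpotent I) [Module.Flat A M'] (g : M →ₗ[A] M')
    (h1 : ∀ y : M', ∃ x : M, y - g x ∈ I • (⊤ : Submodule A M'))
    (h2 : ∀ x : M, g x = 0 → x ∈ I • (⊤ : Submodule A M)) : Function.Bijective g := by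
  have hsurj : Function.Surjective g := by
    rw [← LinearMap.range_eq_top]
    apply eq_top_of_top_le_sup_smul I hI
    intro y _
    obtain ⟨x, hx⟩ := h1 y
    have : y = g x + (y - g x) := by abel
    rw [this]
    exact Submodule.add_mem_sup (LinearMap.mem_range_self g x) hx
  refine ⟨?_, hsurj⟩
  -- injectivity
  let K := LinearMap.ker g
  have hex : Function.Exact K.subtype g := by
    intro x
    constructor
    · intro hx; exact ⟨⟨x, hx⟩, rfl⟩
    · rintro ⟨⟨y, hy⟩, rfl⟩; exact hy
  have hinj := LinearMap.lTensor_injective_of_exact_of_flat g hsurj K.subtype K.subtype_injective hex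
    (A ⧸ I)
  have hK : (⊤ : Submodule A K) ≤ ⊥ ⊔ I • ⊤ := by
    intro x _
    rw [bot_sup_eq]
    have hx : (x : M) ∈ I • (⊤ : Submodule A M) := h2 x x.2
    have h0 : ((1 : A ⧸ I) ⊗ₜ[A] (x : M)) = 0 := by
      apply (TensorProduct.quotTensorEquivQuotSMul M I).injective
      rw [TensorProduct.quotTensorEquivQuotSMul_mk_one_tmul, map_zero]
      exact (Submodule.Quotient.mk_eq_zero _).mpr hx
    have h1' : ((1 : A ⧸ I) ⊗ₜ[A] x) = (0 : (A ⧸ I) ⊗[A] K) := by
      apply hinj
      rw [LinearMap.lTensor_tmul, map_zero]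
      exact h0
    have h2' := congrArg (TensorProduct.quotTensorEquivQuotSMul K I) h1'
    rw [TensorProduct.quotTensorEquivQuotSMul_mk_one_tmul, map_zero] at h2'
    exact (Submodule.Quotient.mk_eq_zero _).mp h2'
  have hbot : (⊥ : Submodule A K) = ⊤ := eq_top_of_top_le_sup_smul I hI ⊥ hK
  rw [← LinearMap.ker_eq_bot]
  rw [eq_bot_iff]
  intro x hx
  have : (⟨x, hx⟩ : K) ∈ (⊥ : Submodule A K) := by rw [hbot]; trivial
  have h := (Submodule.mem_bot A).mp this
  exact congrArg Subtype.val h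

end alg

section sheaf

open DefoSh

variable {k : Type u} [Field k] {X : Scheme.{u}} [X.Over (Spec (CommRingCat.of k))] {E : X.Modules}
  {A : ArtFun.Art k k}

theorem isIso_of_hom (D D' : DefoSh.Defo E A) (φ : D.sheaf ⟶ D'.sheaf)
    (hact : ∀ a : A, D.act a ≫ φ = φ ≫ D'.act a) (hπ : φ ≫ D'.π = D.π) : IsIso φ := by
  apply Groth.Agent.Lead.RH.isIso_of_stalkMapₗ_bijective
  intro p
  letI := D.stalkMod p
  letI := D'.stalkMod p
  haveI : Module.Flat A ↑(D'.sheaf.presheaf.stalk p) := D'.flat p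
  let g : ↑(D.sheaf.presheaf.stalk p) →ₗ[A] ↑(D'.sheaf.presheaf.stalk p) :=
    { toFun := fun v => RefHull.stalkMapₗ φ p v
      map_add' := fun v w => map_add _ v w
      map_smul' := fun a v => by
        change RefHull.stalkMapₗ φ p (RefHull.stalkMapₗ (D.act a) p v) =
          RefHull.stalkMapₗ (D'.act a) p (RefHull.stalkMapₗ φ p v)
        rw [← stalkMapₗ_comp_apply, ← stalkMapₗ_comp_apply]
        exact congrArg (fun ψ => RefHull.stalkMapₗ ψ p v) (hact a) }
  have hnil : IsNilpotent (IsLocalRing.maximalIdeal A) := by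
    rw [← IsLocalRing.jacobson_eq_maximalIdeal (⊥ : Ideal A) bot_ne_top]
    exact IsArtinianRing.isNilpotent_jacobson_bot
  have hcomp : ∀ v, RefHull.stalkMapₗ D'.π p (g v) = RefHull.stalkMapₗ D.π p v := by
    intro v
    change RefHull.stalkMapₗ D'.π p (RefHull.stalkMapₗ φ p v) = _
    rw [← stalkMapₗ_comp_apply, hπ]
  have := bijective_of_flat_of_nilpotent (IsLocalRing.maximalIdeal A) hnil g ?_ ?_
  · exact this
  · intro y
    obtain ⟨x, hx⟩ := D.surj p (RefHull.stalkMapₗ D'.π p y)
    refine ⟨x, ?_⟩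
    apply D'.ker_le p
    rw [map_sub, hcomp, hx, sub_self]
  · intro x hx
    apply D.ker_le p
    rw [← hcomp, hx, map_zero]

end sheaf

end Groth.Agent.Lead.DefoIso
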