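import Mathlib
import Groth.Prelude.Def_Omega4
import Groth.Agent.Lib.Lead.ConSeq3
import Groth.Agent.Lib.Lead.ConChart3

set_option autoImplicit false
universe u
open CategoryTheory CategoryTheory.Limits AlgebraicGeometry TopologicalSpace Opposite

set_option backward.isDefEq.respectTransparency.types false

namespace Groth.Agent.Lead.ConComp

open OmegaSh Groth.Agent.Lead.DerU Groth.Agent.Lead.IdM Groth.Agent.Lead.OmU
  Groth.Agent.Lead.BCU Groth.Agent.Lead.ConMap Groth.Agent.Lead.ConChart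

section Nat

variable {Y' Y : Scheme.{u}} (h : Y' ⟶ Y) {F G : Y.Modules} (χ : F ⟶ G)

theorem pullSect_naturality (W : Y.Opens) (s : Γ(F, W)) :
    ((Scheme.Modules.pullback h).map χ).app (h ⁻¹ᵁ W) (pullSect h F W s) =
      pullSect h G W (χ.app W s) := by
  have e1 := (Scheme.Modules.pullbackPushforwardAdjunction h).unit.naturality χ
  have e2 := congrArg (fun φ => Scheme.Modules.Hom.app φ W) e1
  have e3 := congrArg (fun φ => φ s) e2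
  exact e3.symm

end Nat

section Comp

variable {Z₁ X₁ Z₂ X₂ Y : Scheme.{u}} (i₁ : Z₁ ⟶ X₁) (i₂ : Z₂ ⟶ X₂) [QuasiCompact i₂]
  (g : X₁ ⟶ X₂) (h : Z₁ ⟶ Z₂) (p : X₂ ⟶ Y)
  (β : (Scheme.Modules.pullback h).obj (Omega.conormal i₂) ⟶ Omega.conormal i₁)
  (hβ : IsConormalMap i₁ i₂ g h β)
  (ψ : (Scheme.Modules.pullback (𝟙 Z₂)).obj (Omega.conormal (i₂ ≫ p)) ⟶ Omega.conormal i₂)
  (hψ : IsConormalMap i₂ (i₂ ≫ p) p (𝟙 Z₂) ψ)

include hβ hψ in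
/-- composition of canonical maps of conormal sheaves. -/
theorem isConormalMap_comp :
    IsConormalMap i₁ (i₂ ≫ p) (g ≫ p) h
      ((Scheme.Modules.pullback h).map
        ((Scheme.Modules.pullbackId Z₂).inv.app (Omega.conormal (i₂ ≫ p)) ≫ ψ) ≫ β) := by
  have hsq : h ≫ (i₂ ≫ p) = i₁ ≫ (g ≫ p) := by
    rw [← Category.assoc, hβ.1, Category.assoc]
  refine ⟨hsq, ?_⟩
  intro U' s' s hs V h₁ h₂
  have hsq2 : 𝟙 Z₂ ≫ (i₂ ≫ p) = i₂ ≫ p := Category.id_comp _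
  set s₂ := liftI i₂ (i₂ ≫ p) p (𝟙 Z₂) hsq2 U' s' with hs₂
  have hs₂' := liftI_spec i₂ (i₂ ≫ p) p (𝟙 Z₂) hsq2 U' s'
  have h1 := Groth.Agent.Lead.ConSeq.ψ_cls p i₂ ψ hψ U' s' s₂ hs₂'
  have h2 : ((Scheme.Modules.pullbackId Z₂).inv.app (Omega.conormal (i₂ ≫ p)) ≫ ψ).app
      ((i₂ ≫ p) ⁻¹ᵁ U') (conormalSect (i₂ ≫ p) U' s') = conormalSect i₂ (p ⁻¹ᵁ U') s₂ := by
    change ψ.app ((i₂ ≫ p) ⁻¹ᵁ U')
      (((Scheme.Modules.pullbackId Z₂).inv.app (Omega.conormal (i₂ ≫ p))).app _ _) = _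
    rw [pullbackId_inv_app]
    exact h1
  have h3 := pullSect_naturality h
    ((Scheme.Modules.pullbackId Z₂).inv.app (Omega.conormal (i₂ ≫ p)) ≫ ψ)
    ((i₂ ≫ p) ⁻¹ᵁ U') (conormalSect (i₂ ≫ p) U' s')
  rw [h2] at h3
  have hs' : idealSect i₁.ker (g ⁻¹ᵁ (p ⁻¹ᵁ U')) s = g.app (p ⁻¹ᵁ U') (idealSect i₂.ker (p ⁻¹ᵁ U') s₂) := by
    rw [hs₂']
    exact hs
  have h4 := hβ.2 (p ⁻¹ᵁ U') s₂ s hs' V h₁ h₂
  refine Eq.trans ?_ h4
  congr 1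
  change β.app _ (((Scheme.Modules.pullback h).map
    ((Scheme.Modules.pullbackId Z₂).inv.app (Omega.conormal (i₂ ≫ p)) ≫ ψ)).app _ _) = _
  exact congrArg _ h3

end Comp

end Groth.Agent.Lead.ConComp
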