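import Mathlib
import Groth.Prelude.Def_OmegaPn
import Groth.Prelude.Def_Coh
import Groth.Agent.Lib.Lead.PBQc
import Groth.Agent.Lib.Helper1.PushQc

set_option autoImplicit false
universe u
open CategoryTheory CategoryTheory.Limits AlgebraicGeometry TopologicalSpace Opposite

set_option backward.isDefEq.respectTransparency.types false

namespace Groth.Agent.Lead.PP

open PrinPart

variable {X S : Scheme.{u}} (f : X ⟶ S) (n : ℕ)

theorem toNbhd_pr1_apply (x : nbhd f n) : toNbhd f n (pr1 f n x) = x := by
  obtain ⟨y, rfl⟩ := toInfNbhd_surjective (diagCl f) n x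
  have h : pr1 f n (toNbhd f n y) = y := by
    rw [← Scheme.Hom.comp_apply, toNbhd_pr1]
    rfl
  exact congrArg (toNbhd f n) h

theorem pr1_toNbhd_apply (y : X) : pr1 f n (toNbhd f n y) = y := by
  rw [← Scheme.Hom.comp_apply, toNbhd_pr1]
  rfl

theorem toNbhd_pr2_apply (x : nbhd f n) : toNbhd f n (pr2 f n x) = x := by
  rw [← pr1_apply]
  exact toNbhd_pr1_apply f n x

theorem pr2_toNbhd_apply (y : X) : pr2 f n (toNbhd f n y) = y := by
  rw [← Scheme.Hom.comp_apply, toNbhd_pr2]
  rfl

/-- `pr1` is a homeomorphism on points with inverse `toNbhd`. -/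
noncomputable def pr1Homeo : nbhd f n ≃ₜ X where
  toFun := pr1 f n
  invFun := toNbhd f n
  left_inv := toNbhd_pr1_apply f n
  right_inv := pr1_toNbhd_apply f n
  continuous_toFun := (pr1 f n).continuous
  continuous_invFun := (toNbhd f n).continuous

noncomputable def pr2Homeo : nbhd f n ≃ₜ X where
  toFun := pr2 f n
  invFun := toNbhd f n
  left_inv := toNbhd_pr2_apply f n
  right_inv := pr2_toNbhd_apply f n
  continuous_toFun := (pr2 f n).continuous
  continuous_invFun := (toNbhd f n).continuous

instance isAffineHom_pr1 : IsAffineHom (pr1 f n) :=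
  isAffineHom_of_isInducing _ (pr1Homeo f n).isInducing
    (by
      have h : Set.range (pr1 f n) = Set.univ := (pr1Homeo f n).surjective.range_eq
      rw [h]; exact isClosed_univ)

instance isAffineHom_pr2 : IsAffineHom (pr2 f n) :=
  isAffineHom_of_isInducing _ (pr2Homeo f n).isInducing
    (by
      have h : Set.range (pr2 f n) = Set.univ := (pr2Homeo f n).surjective.range_eq
      rw [h]; exact isClosed_univ)

instance isAffineHom_toNbhd : IsAffineHom (toNbhd f n) :=
  isAffineHom_of_isInducing _ (pr1Homeo f n).symm.isInducing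
    (by
      have h : Set.range (toNbhd f n) = Set.univ := (pr1Homeo f n).symm.surjective.range_eq
      rw [h]; exact isClosed_univ)

theorem isQCoh_PMod (F : X.Modules) (hF : Coh.IsQCoh F) : Coh.IsQCoh (PMod f n F) := by
  have : F.IsQuasicoherent := hF
  have : ((Scheme.Modules.pullback (pr2 f n)).obj F).IsQuasicoherent :=
    Groth.Agent.Lead.PB.isQuasicoherent_pullback (pr2 f n) F
  exact Groth.Agent.Helper1.PushQc.isQuasicoherent_pushforward (pr1 f n) _

end Groth.Agent.Lead.PP
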