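import Mathlib
import Groth.Prelude.Def_OmegaPn
import Groth.Prelude.Def_Coh
import Groth.Agent.Lib.Lead.PP1

set_option autoImplicit false
universe u
open CategoryTheory CategoryTheory.Limits AlgebraicGeometry TopologicalSpace Opposite

set_option backward.isDefEq.respectTransparency.types false

namespace Groth.Agent.Lead.PP

open PrinPart OmegaSh

variable {X S : Scheme.{u}} (f : X ⟶ S) (n : ℕ)

/-- the closed diagonal kills `pr₂♯ s − pr₁♯ s` transported to the coborder open. -/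
theorem diagCl_app_diagDiff (U : X.Opens) (s : Γ(X, U))
    (V : ((pullback.diagonal f).coborderRange : Scheme.{u}).Opens)
    (hV : V ≤ (pullback.diagonal f).coborderRange.ι ⁻¹ᵁ diagNbhd f U) :
    (diagCl f).app V
      (((pullback.diagonal f).coborderRange : Scheme.{u}).presheaf.map (homOfLE hV).op
        ((pullback.diagonal f).coborderRange.ι.app (diagNbhd f U) (diagDiff f U s))) = 0 := by
  have h0 := diagonal_app_diagDiff f U s (le_refl (diagNbhd f U))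
  rw [res_refl] at h0
  have e1 : (pullback.diagonal f).coborderRange.ι.app (diagNbhd f U) ≫
      ((pullback.diagonal f).coborderRange : Scheme.{u}).presheaf.map (homOfLE hV).op =
      (pullback.diagonal f).coborderRange.ι.appLE (diagNbhd f U) V hV := rfl
  have e2 : (pullback.diagonal f).coborderRange.ι.appLE (diagNbhd f U) V hV ≫
      (diagCl f).appLE V (diagCl f ⁻¹ᵁ V) le_rfl =
      (diagCl f ≫ (pullback.diagonal f).coborderRange.ι).appLE (diagNbhd f U) (diagCl f ⁻¹ᵁ V) _ :=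
    Scheme.Hom.appLE_comp_appLE _ _ _ _ _ _ _
  have e3 : (diagCl f ≫ (pullback.diagonal f).coborderRange.ι) = pullback.diagonal f :=
    Scheme.Hom.liftCoborder_ι _
  rw [Scheme.Hom.app_eq_appLE (f := diagCl f), ← ConcreteCategory.comp_apply,
    ← ConcreteCategory.comp_apply, ← Category.assoc, e1, e2]
  have e4 := appLE_congr_hom e3 (U := diagNbhd f U) (V := diagCl f ⁻¹ᵁ V)
    (le_rfl.trans ((Opens.map (diagCl f).base).map (homOfLE hV)).le)
    (by
      intro x hx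
      have : (diagCl f ≫ (pullback.diagonal f).coborderRange.ι) x ∈ diagNbhd f U := hV hx
      rw [e3] at this
      exact this)
  rw [e4, Scheme.Hom.appLE, ConcreteCategory.comp_apply, h0, map_zero]

/-- products of `n+1` sections of the form `pr₂♯ s − pr₁♯ s` die in the `n`-th infinitesimal
neighbourhood of the diagonal. -/
theorem infNbhdι_app_prod (U : X.Opens) (a : Fin (n + 1) → Γ(X, U)) :
    (infNbhdι (diagCl f) n).app ((pullback.diagonal f).coborderRange.ι ⁻¹ᵁ diagNbhd f U)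
      ((pullback.diagonal f).coborderRange.ι.app (diagNbhd f U) (∏ i, diagDiff f U (a i))) = 0 := by
  let Z : Scheme.{u} := ((pullback.diagonal f).coborderRange : Scheme.{u})
  let J : Z.IdealSheafData := (diagCl f).ker ^ (n + 1)
  let ι : J.subscheme ⟶ Z := J.subschemeι
  let W : Z.Opens := (pullback.diagonal f).coborderRange.ι ⁻¹ᵁ diagNbhd f U
  change ι.app W _ = 0
  refine J.subscheme.sheaf.eq_of_locally_eq'
    (fun V : {V : Z.affineOpens // (V : Z.Opens) ≤ W} => ι ⁻¹ᵁ (V.1 : Z.Opens))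
    (ι ⁻¹ᵁ W) (fun V => (Opens.map ι.base).map (homOfLE V.2)) ?_ _ _ ?_
  · intro z hz
    obtain ⟨_, ⟨V, hV, rfl⟩, hzV, hVW⟩ :=
      Z.isBasis_affineOpens.exists_subset_of_mem_open hz W.isOpen
    exact Opens.mem_iSup.mpr ⟨⟨⟨V, hV⟩, hVW⟩, hzV⟩
  · intro V
    change J.subscheme.presheaf.map ((Opens.map ι.base).map (homOfLE V.2)).op
        (ι.app W ((pullback.diagonal f).coborderRange.ι.app (diagNbhd f U)
          (∏ i, diagDiff f U (a i)))) =
      J.subscheme.presheaf.map ((Opens.map ι.base).map (homOfLE V.2)).op 0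
    rw [map_zero, ← ConcreteCategory.comp_apply]
    erw [← Scheme.Hom.naturality ι (homOfLE V.2).op]
    rw [ConcreteCategory.comp_apply]
    have hmem : Z.presheaf.map (homOfLE V.2).op
        ((pullback.diagonal f).coborderRange.ι.app (diagNbhd f U) (∏ i, diagDiff f U (a i))) ∈
        J.ideal V.1 := by
      have hJ : J.ideal V.1 = ((diagCl f).ker.ideal V.1) ^ (n + 1) := rfl
      rw [hJ, map_prod, map_prod]
      have hc : ((diagCl f).ker.ideal V.1) ^ (n + 1) =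
          ∏ _i : Fin (n + 1), (diagCl f).ker.ideal V.1 := by
        rw [Finset.prod_const, Finset.card_univ, Fintype.card_fin]
      rw [hc]
      refine Ideal.prod_mem_prod (fun i _ => ?_)
      rw [Scheme.Hom.ker_apply, RingHom.mem_ker]
      exact diagCl_app_diagDiff f U (a i) V.1 V.2
    rw [← Scheme.IdealSheafData.ker_subschemeι_app, RingHom.mem_ker] at hmem
    exact hmem

theorem nbhdι_app_prod (U : X.Opens) (a : Fin (n + 1) → Γ(X, U)) :
    (nbhdι f n).app (diagNbhd f U) (∏ i, diagDiff f U (a i)) = 0 := by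
  have h := infNbhdι_app_prod f n U a
  have e : (nbhdι f n).app (diagNbhd f U) =
      (pullback.diagonal f).coborderRange.ι.app (diagNbhd f U) ≫
        (infNbhdι (diagCl f) n).app ((pullback.diagonal f).coborderRange.ι ⁻¹ᵁ diagNbhd f U) :=
    Scheme.Hom.comp_app _ _ _
  have e' := congrArg (fun φ => φ.hom (∏ i, diagDiff f U (a i))) e
  exact e'.trans h

/-- `pr₂♯ a − pr₁♯ a` on an open `O ≤ pr1⁻¹ U` of the infinitesimal neighbourhood. -/
noncomputable def delta (U : X.Opens) (O : (nbhd f n).Opens) (hO : O ≤ pr1 f n ⁻¹ᵁ U)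
    (a : Γ(X, U)) : Γ(nbhd f n, O) :=
  (pr2 f n).appLE U O (hO.trans (preimage_pr1 f n U).le) a - (pr1 f n).appLE U O hO a

theorem le_nbhdι_preimage (U : X.Opens) (O : (nbhd f n).Opens) (hO : O ≤ pr1 f n ⁻¹ᵁ U) :
    O ≤ nbhdι f n ⁻¹ᵁ diagNbhd f U := by
  intro x hx
  exact ⟨hO hx, (hO.trans (preimage_pr1 f n U).le) hx⟩

theorem delta_eq (U : X.Opens) (O : (nbhd f n).Opens) (hO : O ≤ pr1 f n ⁻¹ᵁ U) (a : Γ(X, U)) :
    delta f n U O hO a = (nbhd f n).presheaf.map (homOfLE (le_nbhdι_preimage f n U O hO)).op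
      ((nbhdι f n).app (diagNbhd f U) (diagDiff f U a)) := by
  have e1 : (pr1 f n).appLE U O hO =
      (pullback.fst f f).appLE U (diagNbhd f U) inf_le_left ≫
        (nbhdι f n).appLE (diagNbhd f U) O (le_nbhdι_preimage f n U O hO) :=
    (Scheme.Hom.appLE_comp_appLE _ _ _ _ _ _ _).symm
  have e2 : (pr2 f n).appLE U O (hO.trans (preimage_pr1 f n U).le) =
      (pullback.snd f f).appLE U (diagNbhd f U) inf_le_right ≫
        (nbhdι f n).appLE (diagNbhd f U) O (le_nbhdι_preimage f n U O hO) :=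
    (Scheme.Hom.appLE_comp_appLE _ _ _ _ _ _ _).symm
  rw [delta, e1, e2, diagDiff, map_sub, map_sub]
  rfl

theorem prod_delta (U : X.Opens) (O : (nbhd f n).Opens) (hO : O ≤ pr1 f n ⁻¹ᵁ U)
    (a : Fin (n + 1) → Γ(X, U)) : ∏ i, delta f n U O hO (a i) = 0 := by
  simp_rw [delta_eq]
  rw [← map_prod, ← map_prod, nbhdι_app_prod, map_zero]

variable (F : X.Modules)

/-- the `O_X`-module structure of `P^n(F)` is through `pr1`. -/
theorem smul_PMod (U : X.Opens) (b : Γ(X, U)) (x : Γ(PMod f n F, U)) :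
    b • x = (show Γ((Scheme.Modules.pullback (pr2 f n)).obj F, pr1 f n ⁻¹ᵁ U) from
      ((pr1 f n).app U b) •
        (show Γ((Scheme.Modules.pullback (pr2 f n)).obj F, pr1 f n ⁻¹ᵁ U) from x)) := rfl

/-- `d^n (a t) = pr₂♯ a · d^n t`. -/
theorem dP_smul (U : X.Opens) (a : Γ(X, U)) (t : Γ(F, U)) :
    dP f n F U (a • t) = (show Γ((Scheme.Modules.pullback (pr2 f n)).obj F, pr1 f n ⁻¹ᵁ U) from
      ((pr2 f n).appLE U (pr1 f n ⁻¹ᵁ U) (preimage_pr1 f n U).le a) •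
        (show Γ((Scheme.Modules.pullback (pr2 f n)).obj F, pr1 f n ⁻¹ᵁ U) from dP f n F U t)) := by
  rw [dP_apply, dP_apply, pullSect_smul, Scheme.Modules.map_smul]
  rfl

theorem smul_dP_smul (U : X.Opens) (b a : Γ(X, U)) (t : Γ(F, U)) :
    b • dP f n F U (a • t) = (show Γ((Scheme.Modules.pullback (pr2 f n)).obj F, pr1 f n ⁻¹ᵁ U) from
      ((pr1 f n).appLE U (pr1 f n ⁻¹ᵁ U) le_rfl b *
        (pr2 f n).appLE U (pr1 f n ⁻¹ᵁ U) (preimage_pr1 f n U).le a) •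
        (show Γ((Scheme.Modules.pullback (pr2 f n)).obj F, pr1 f n ⁻¹ᵁ U) from dP f n F U t)) := by
  rw [smul_PMod, dP_smul, mul_smul, Scheme.Hom.appLE_eq_app]

theorem prod_sub_expand {R : Type*} [CommRing R] {k : ℕ} (p q : Fin k → R) :
    ∏ i, (q i - p i) = ∑ H : Finset (Fin k), ((-1 : ℤ) ^ H.card) • ((∏ i ∈ H, p i) * ∏ i ∈ Hᶜ, q i) := by
  have h := Finset.prod_add (fun i => - p i) q (Finset.univ : Finset (Fin k))
  have e : ∀ i, q i - p i = - p i + q i := fun i => by ring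
  simp_rw [e]
  rw [h, Finset.powerset_univ]
  refine Finset.sum_congr rfl (fun H _ => ?_)
  rw [Finset.prod_neg, ← Finset.compl_eq_univ_sdiff, zsmul_eq_mul, mul_assoc]
  congr 1
  push_cast
  rfl

/-- the alternating sum identity in `P^n(F)`: the image of `d^n` satisfies the order `≤ n`
relations. -/
theorem alt_sum_dP (U : X.Opens) (a : Fin (n + 1) → Γ(X, U)) (t : Γ(F, U)) :
    (∑ H : Finset (Fin (n + 1)),
      ((-1 : ℤ) ^ H.card) • ((∏ i ∈ H, a i) • dP f n F U ((∏ i ∈ Hᶜ, a i) • t))) = 0 := by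
  let x : Γ((Scheme.Modules.pullback (pr2 f n)).obj F, pr1 f n ⁻¹ᵁ U) := dP f n F U t
  let p1 : Fin (n + 1) → Γ(nbhd f n, pr1 f n ⁻¹ᵁ U) := fun i =>
    (pr1 f n).appLE U (pr1 f n ⁻¹ᵁ U) le_rfl (a i)
  let p2 : Fin (n + 1) → Γ(nbhd f n, pr1 f n ⁻¹ᵁ U) := fun i =>
    (pr2 f n).appLE U (pr1 f n ⁻¹ᵁ U) (preimage_pr1 f n U).le (a i)
  have h1 : ∀ H : Finset (Fin (n + 1)),
      ((-1 : ℤ) ^ H.card) • ((∏ i ∈ H, a i) • dP f n F U ((∏ i ∈ Hᶜ, a i) • t)) =
      (show Γ((Scheme.Modules.pullback (pr2 f n)).obj F, pr1 f n ⁻¹ᵁ U) from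
        (((-1 : ℤ) ^ H.card) • ((∏ i ∈ H, p1 i) * ∏ i ∈ Hᶜ, p2 i)) • x) := by
    intro H
    rw [smul_dP_smul, map_prod, map_prod, smul_assoc]
    rfl
  have h2 : (∑ H : Finset (Fin (n + 1)),
      ((-1 : ℤ) ^ H.card) • ((∏ i ∈ H, a i) • dP f n F U ((∏ i ∈ Hᶜ, a i) • t))) =
      (show Γ((Scheme.Modules.pullback (pr2 f n)).obj F, pr1 f n ⁻¹ᵁ U) from
        (∑ H : Finset (Fin (n + 1)), (((-1 : ℤ) ^ H.card) • ((∏ i ∈ H, p1 i) * ∏ i ∈ Hᶜ, p2 i))) • x) := by
    rw [Finset.sum_smul]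
    exact Finset.sum_congr rfl (fun H _ => h1 H)
  rw [h2, ← prod_sub_expand p1 p2]
  have h3 : ∏ i, (p2 i - p1 i) = 0 := prod_delta f n U (pr1 f n ⁻¹ᵁ U) le_rfl a
  rw [h3, zero_smul]
  rfl

/-- the order one relation. -/
theorem dP_one_mul (U : X.Opens) (a b : Γ(X, U)) (t : Γ(F, U)) :
    dP f 1 F U ((a * b) • t) =
      a • dP f 1 F U (b • t) + b • dP f 1 F U (a • t) - (a * b) • dP f 1 F U t := by
  have key : (pr2 f 1).appLE U (pr1 f 1 ⁻¹ᵁ U) (preimage_pr1 f 1 U).le a *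
      (pr2 f 1).appLE U (pr1 f 1 ⁻¹ᵁ U) (preimage_pr1 f 1 U).le b =
      (pr1 f 1).appLE U (pr1 f 1 ⁻¹ᵁ U) le_rfl a *
        (pr2 f 1).appLE U (pr1 f 1 ⁻¹ᵁ U) (preimage_pr1 f 1 U).le b +
      (pr1 f 1).appLE U (pr1 f 1 ⁻¹ᵁ U) le_rfl b *
        (pr2 f 1).appLE U (pr1 f 1 ⁻¹ᵁ U) (preimage_pr1 f 1 U).le a -
      (pr1 f 1).appLE U (pr1 f 1 ⁻¹ᵁ U) le_rfl a * (pr1 f 1).appLE U (pr1 f 1 ⁻¹ᵁ U) le_rfl b := by
    have h0 := prod_delta f 1 U (pr1 f 1 ⁻¹ᵁ U) le_rfl ![a, b]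
    rw [Fin.prod_univ_two] at h0
    simp only [delta, Matrix.cons_val_zero, Matrix.cons_val_one] at h0
    linear_combination h0
  have e1 : dP f 1 F U ((a * b) • t) =
      (show Γ((Scheme.Modules.pullback (pr2 f 1)).obj F, pr1 f 1 ⁻¹ᵁ U) from
      ((pr2 f 1).appLE U (pr1 f 1 ⁻¹ᵁ U) (preimage_pr1 f 1 U).le a *
      (pr2 f 1).appLE U (pr1 f 1 ⁻¹ᵁ U) (preimage_pr1 f 1 U).le b) •
        (show Γ((Scheme.Modules.pullback (pr2 f 1)).obj F, pr1 f 1 ⁻¹ᵁ U) from dP f 1 F U t)) := by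
    rw [dP_smul, map_mul]
  have e2 : (a * b) • dP f 1 F U t =
      (show Γ((Scheme.Modules.pullback (pr2 f 1)).obj F, pr1 f 1 ⁻¹ᵁ U) from
      ((pr1 f 1).appLE U (pr1 f 1 ⁻¹ᵁ U) le_rfl a * (pr1 f 1).appLE U (pr1 f 1 ⁻¹ᵁ U) le_rfl b) •
        (show Γ((Scheme.Modules.pullback (pr2 f 1)).obj F, pr1 f 1 ⁻¹ᵁ U) from dP f 1 F U t)) := by
    rw [smul_PMod, ← map_mul, Scheme.Hom.appLE_eq_app]
  rw [e1, e2, smul_dP_smul, smul_dP_smul, key, sub_smul, add_smul]
  rfl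

/-- `d^n` is linear over the functions coming from the base. -/
theorem dP_base_smul (V : S.Opens) (c : Γ(S, V)) (U : X.Opens) (hU : U ≤ f ⁻¹ᵁ V) (t : Γ(F, U)) :
    dP f n F U (f.appLE V U hU c • t) = f.appLE V U hU c • dP f n F U t := by
  have e1 : (pr2 f n).appLE U (pr1 f n ⁻¹ᵁ U) (preimage_pr1 f n U).le (f.appLE V U hU c) =
      (pr2 f n ≫ f).appLE V (pr1 f n ⁻¹ᵁ U)
        ((preimage_pr1 f n U).le.trans ((Opens.map (pr2 f n).base).map (homOfLE hU)).le) c := by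
    rw [← ConcreteCategory.comp_apply, Scheme.Hom.appLE_comp_appLE]
  have e2 : (pr1 f n).app U (f.appLE V U hU c) =
      (pr1 f n ≫ f).appLE V (pr1 f n ⁻¹ᵁ U)
        (le_rfl.trans ((Opens.map (pr1 f n).base).map (homOfLE hU)).le) c := by
    rw [← Scheme.Hom.appLE_eq_app, ← ConcreteCategory.comp_apply, Scheme.Hom.appLE_comp_appLE]
  have e := appLE_congr_hom (pr1_comp f n) (U := V) (V := pr1 f n ⁻¹ᵁ U)
    (le_rfl.trans ((Opens.map (pr1 f n).base).map (homOfLE hU)).le)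
    ((preimage_pr1 f n U).le.trans ((Opens.map (pr2 f n).base).map (homOfLE hU)).le)
  refine (dP_smul f n F U (f.appLE V U hU c) t).trans ?_
  refine Eq.trans ?_ (smul_PMod f n F U (f.appLE V U hU c) (dP f n F U t)).symm
  rw [e1, e2, e]

end Groth.Agent.Lead.PP
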