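import Mathlib
import Groth.Prelude.Def_OmegaPn
import Groth.Prelude.Def_Omega4
import Groth.Agent.Lib.Lead.PP2
import Groth.Agent.Lib.Lead.OmU13d

set_option autoImplicit false
universe u
open CategoryTheory CategoryTheory.Limits AlgebraicGeometry TopologicalSpace Opposite TensorProduct

set_option backward.isDefEq.respectTransparency.types false

namespace Groth.Agent.Lead.PP7

open PrinPart OmegaSh Groth.Agent.Lead.OmU

section Cob

variable {X S : Scheme.{u}} (f : X ⟶ S)
  {U : X.Opens} (hU : IsAffineOpen U) {V : S.Opens} (hV : IsAffineOpen V) (e : U ≤ f ⁻¹ᵁ V)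

theorem diagonal_preimage_diagNbhd (U : X.Opens) : pullback.diagonal f ⁻¹ᵁ diagNbhd f U = U :=
  le_antisymm (diagonal_preimage_le f le_rfl) (le_preimage_diagNbhd f U)

theorem resLE_congr_hom {P Q : Scheme.{u}} {q q' : P ⟶ Q} (h : q = q') {U : Q.Opens} {V : P.Opens}
    (e : V ≤ q ⁻¹ᵁ U) (e' : V ≤ q' ⁻¹ᵁ U) : q.resLE U V e = q'.resLE U V e' := by
  subst h; rfl

include hU hV e in
theorem isClosedImmersion_diagonal_resLE :
    IsClosedImmersion ((pullback.diagonal f).resLE (diagNbhd f U) U (le_preimage_diagNbhd f U)) := by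
  haveI : IsAffine (U : Scheme) := hU
  haveI : IsAffine ((diagNbhd f U : (pullback f f).Opens) : Scheme) :=
    isAffineOpen_diagNbhd f hU hV e
  apply IsClosedImmersion.of_surjective_of_isAffine
  have h : (pullback.diagonal f).resLE (diagNbhd f U) U (le_preimage_diagNbhd f U) ≫
      (pullback.fst f f).resLE U (diagNbhd f U) inf_le_left = 𝟙 _ := by
    rw [Scheme.Hom.resLE_comp_resLE,
      resLE_congr_hom (pullback.diagonal_fst f) _ (le_refl U), Scheme.Hom.resLE_id]
    exact Scheme.homOfLE_rfl _ _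
  have h2 : ((pullback.fst f f).resLE U (diagNbhd f U) inf_le_left).appTop ≫
      ((pullback.diagonal f).resLE (diagNbhd f U) U (le_preimage_diagNbhd f U)).appTop = 𝟙 _ := by
    rw [← Scheme.Hom.comp_appTop, h]
    rfl
  intro y
  exact ⟨_, congr($h2 y)⟩

include hU hV e in
theorem diagNbhd_le_coborderRange : diagNbhd f U ≤ (pullback.diagonal f).coborderRange := by
  have hcl := isClosedImmersion_diagonal_resLE f hU hV e
  have hr : IsClosed (Set.range ((pullback.diagonal f).resLE (diagNbhd f U) U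
      (le_preimage_diagNbhd f U))) := hcl.base_closed.isClosed_range
  have hemb : Topology.IsOpenEmbedding (diagNbhd f U).ι := (diagNbhd f U).ι.isOpenEmbedding
  have hpre : (diagNbhd f U).ι ⁻¹' (Set.range (pullback.diagonal f)) =
      Set.range ((pullback.diagonal f).resLE (diagNbhd f U) U (le_preimage_diagNbhd f U)) := by
    ext w
    constructor
    · rintro ⟨x, hx⟩
      have hxU : x ∈ U := by
        have : pullback.diagonal f x ∈ diagNbhd f U := by
          rw [hx]; exact w.2
        exact diagonal_preimage_le f le_rfl this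
      refine ⟨⟨x, hxU⟩, ?_⟩
      apply Subtype.ext
      rw [Scheme.Hom.coe_resLE_apply]
      exact hx
    · rintro ⟨x, rfl⟩
      refine ⟨x.1, ?_⟩
      exact (Scheme.Hom.coe_resLE_apply _ _ x).symm
  have h1 := hemb.coborder_preimage (Set.range (pullback.diagonal f))
  rw [hpre, hr.coborder_eq] at h1
  intro z hz
  have : (⟨z, hz⟩ : diagNbhd f U) ∈ (diagNbhd f U).ι ⁻¹' coborder (Set.range (pullback.diagonal f)) := by
    rw [← h1]; trivial
  exact this

end Cob

section Inf

variable {Y Z : Scheme.{u}} (i : Y ⟶ Z) [QuasiCompact i] (n : ℕ) {O : Z.Opens} (hO : IsAffineOpen O)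

include hO in
theorem infNbhdι_app_surjective : Function.Surjective ((infNbhdι i n).app O).hom :=
  (i.ker ^ (n + 1)).subschemeι_app_surjective ⟨O, hO⟩

include hO in
theorem ker_infNbhdι_app :
    RingHom.ker ((infNbhdι i n).app O).hom = RingHom.ker (i.app O).hom ^ (n + 1) := by
  have h := (i.ker ^ (n + 1)).ker_subschemeι_app ⟨O, hO⟩
  rw [Scheme.IdealSheafData.ideal_pow, Pi.pow_apply, Scheme.Hom.ker_apply] at h
  exact h

end Inf

section OpenSub

variable {P : Scheme.{u}} (C W : P.Opens) (h : W ≤ C)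

include h in
theorem ι_image_preimage_eq : C.ι ''ᵁ (C.ι ⁻¹ᵁ W) = W := by
  rw [Scheme.Hom.image_preimage_eq_opensRange_inf, Scheme.Opens.opensRange_ι]
  exact inf_eq_right.mpr h

include h in
theorem isIso_ι_app : IsIso (C.ι.app W) := by
  rw [Scheme.Opens.ι_app]
  have h1 : IsIso (homOfLE (x := C.ι ''ᵁ C.ι ⁻¹ᵁ W) (y := W) (Set.image_preimage_subset _ _)) :=
    ⟨homOfLE (ι_image_preimage_eq C W h).ge, rfl, rfl⟩
  have h2 : IsIso (homOfLE (x := C.ι ''ᵁ C.ι ⁻¹ᵁ W) (y := W) (Set.image_preimage_subset _ _)).op :=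
    inferInstance
  exact Functor.map_isIso _ _

include h in
theorem bijective_ι_app : Function.Bijective (C.ι.app W).hom := by
  haveI := isIso_ι_app C W h
  exact (ConcreteCategory.isIso_iff_bijective (C.ι.app W)).1 inferInstance

include h in
theorem isAffineOpen_ι_preimage (hW : IsAffineOpen W) : IsAffineOpen (C.ι ⁻¹ᵁ W) := by
  rw [← Scheme.Hom.isAffineOpen_iff_of_isOpenImmersion C.ι, ι_image_preimage_eq C W h]
  exact hW

end OpenSub

section Nbhd

variable {X S : Scheme.{u}} (f : X ⟶ S) (n : ℕ)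
  {U : X.Opens} (hU : IsAffineOpen U) {V : S.Opens} (hV : IsAffineOpen V) (e : U ≤ f ⁻¹ᵁ V)

theorem nbhdι_app_eq (W : (pullback f f).Opens) :
    (nbhdι f n).app W = (pullback.diagonal f).coborderRange.ι.app W ≫
      (infNbhdι (diagCl f) n).app ((pullback.diagonal f).coborderRange.ι ⁻¹ᵁ W) := by
  unfold nbhdι
  exact Scheme.Hom.comp_app _ _ _

theorem nbhdι_app_apply (W : (pullback f f).Opens) (x : Γ(pullback f f, W)) :
    ((nbhdι f n).app W).hom x =
      ((infNbhdι (diagCl f) n).app ((pullback.diagonal f).coborderRange.ι ⁻¹ᵁ W)).hom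
        (((pullback.diagonal f).coborderRange.ι.app W).hom x) := rfl

include hU hV e in
theorem nbhdι_app_surjective : Function.Surjective ((nbhdι f n).app (diagNbhd f U)).hom := by
  have hle := diagNbhd_le_coborderRange f hU hV e
  have hW := isAffineOpen_diagNbhd f hU hV e
  have hWC := isAffineOpen_ι_preimage _ _ hle hW
  intro y
  obtain ⟨z, hz⟩ := infNbhdι_app_surjective (diagCl f) n hWC y
  obtain ⟨x, hx⟩ := (bijective_ι_app _ _ hle).2 z
  refine ⟨x, ?_⟩
  rw [nbhdι_app_apply, hx]
  exact hz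

theorem diagonal_app_eq_zero_iff (W : (pullback f f).Opens) (x : Γ(pullback f f, W)) :
    ((pullback.diagonal f).app W).hom x = 0 ↔
      ((diagCl f).app ((pullback.diagonal f).coborderRange.ι ⁻¹ᵁ W)).hom
        (((pullback.diagonal f).coborderRange.ι.app W).hom x) = 0 := by
  have h1 := Scheme.Hom.congr_app (Scheme.Hom.liftCoborder_ι (pullback.diagonal f)).symm W
  rw [Scheme.Hom.comp_app] at h1
  have heq : diagCl f ⁻¹ᵁ (pullback.diagonal f).coborderRange.ι ⁻¹ᵁ W = pullback.diagonal f ⁻¹ᵁ W := by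
    rw [← Scheme.Hom.comp_preimage, Scheme.Hom.liftCoborder_ι]
  have h3 : ((pullback.diagonal f).app W).hom x = (X.presheaf.map (eqToHom heq.symm).op).hom
      (((diagCl f).app ((pullback.diagonal f).coborderRange.ι ⁻¹ᵁ W)).hom
        (((pullback.diagonal f).coborderRange.ι.app W).hom x)) := congr($h1 x)
  have hinj : Function.Injective (X.presheaf.map (eqToHom heq.symm).op).hom := by
    have : IsIso (X.presheaf.map (eqToHom heq.symm).op) := inferInstance
    exact ((ConcreteCategory.isIso_iff_bijective _).1 this).1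
  rw [h3]
  constructor
  · intro h
    apply hinj
    rw [h, map_zero]
  · intro h
    rw [h, map_zero]

include hU hV e in
theorem ker_nbhdι_app :
    RingHom.ker ((nbhdι f n).app (diagNbhd f U)).hom =
      RingHom.ker ((pullback.diagonal f).app (diagNbhd f U)).hom ^ (n + 1) := by
  have hle := diagNbhd_le_coborderRange f hU hV e
  have hW := isAffineOpen_diagNbhd f hU hV e
  have hWC := isAffineOpen_ι_preimage _ _ hle hW
  let r : Γ(pullback f f, diagNbhd f U) ≃+*
      Γ((pullback.diagonal f).coborderRange.toScheme,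
        (pullback.diagonal f).coborderRange.ι ⁻¹ᵁ diagNbhd f U) :=
    RingEquiv.ofBijective ((pullback.diagonal f).coborderRange.ι.app (diagNbhd f U)).hom
      (bijective_ι_app _ _ hle)
  have hr : ∀ x, r x = ((pullback.diagonal f).coborderRange.ι.app (diagNbhd f U)).hom x :=
    fun _ => rfl
  let K := RingHom.ker ((diagCl f).app
    ((pullback.diagonal f).coborderRange.ι ⁻¹ᵁ diagNbhd f U)).hom
  have h1 : RingHom.ker ((pullback.diagonal f).app (diagNbhd f U)).hom = K.comap r := by
    ext x
    rw [RingHom.mem_ker, diagonal_app_eq_zero_iff, Ideal.mem_comap, RingHom.mem_ker, hr]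
  have h2 : RingHom.ker ((nbhdι f n).app (diagNbhd f U)).hom = (K ^ (n + 1)).comap r := by
    ext x
    rw [RingHom.mem_ker, nbhdι_app_apply, Ideal.mem_comap, ← ker_infNbhdι_app (diagCl f) n hWC,
      RingHom.mem_ker, hr]
    exact Iff.rfl
  rw [h1, h2, ← Ideal.map_symm, ← Ideal.map_symm, Ideal.map_pow]

end Nbhd

end Groth.Agent.Lead.PP7
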