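import Mathlib
import Groth.Prelude.Def_OmegaPn
import Groth.Prelude.Def_Omega4
import Groth.Agent.Lib.Lead.PP7a
import Groth.Agent.Lib.Helper1.PullSec
import Groth.Agent.Lib.Lead.CIU3

set_option autoImplicit false
universe u
open CategoryTheory CategoryTheory.Limits AlgebraicGeometry TopologicalSpace Opposite TensorProduct

set_option backward.isDefEq.respectTransparency.types false

namespace Groth.Agent.Lead.PP7

open PrinPart OmegaSh Groth.Agent.Lead.OmU Groth.Agent.Helper1.PullSec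
  Groth.Agent.Helper1.QcCech Groth.Agent.Helper1

section Gen

variable {Nn X : Scheme.{u}} (p1 p2 : Nn ⟶ X) (U : X.Opens)

/-- the comparison `Γ(p1_* p2^* O_X, U) → Γ(Nn, p1⁻¹ U)`. -/
noncomputable def ε :
    Γ((Scheme.Modules.pushforward p1).obj ((Scheme.Modules.pullback p2).obj (Coh.structureModule X)), U)
      →+ Γ(Nn, p1 ⁻¹ᵁ U) :=
  ((unitIso p2).hom.app (p1 ⁻¹ᵁ U)).hom

theorem ε_bijective : Function.Bijective (ε p1 p2 U) := by
  have : IsIso ((unitIso p2).hom.app (p1 ⁻¹ᵁ U)) := inferInstance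
  exact (ConcreteCategory.isIso_iff_bijective _).1 this

theorem ε_smul (b : Γ(X, U))
    (y : Γ((Scheme.Modules.pushforward p1).obj
      ((Scheme.Modules.pullback p2).obj (Coh.structureModule X)), U)) :
    ε p1 p2 U (b • y) = (p1.app U).hom b * ε p1 p2 U y := by
  have h2 : (b • y) =
      (show Γ((Scheme.Modules.pullback p2).obj (Coh.structureModule X), p1 ⁻¹ᵁ U) from
        (show Γ(Nn, p1 ⁻¹ᵁ U) from (p1.app U).hom b) •
          (show Γ((Scheme.Modules.pullback p2).obj (Coh.structureModule X), p1 ⁻¹ᵁ U) from y)) :=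
    rfl
  rw [h2]
  change (unitIso p2).hom.app (p1 ⁻¹ᵁ U) ((show Γ(Nn, p1 ⁻¹ᵁ U) from (p1.app U).hom b) •
    (show Γ((Scheme.Modules.pullback p2).obj (Coh.structureModule X), p1 ⁻¹ᵁ U) from y)) = _
  rw [Scheme.Modules.Hom.app_smul]
  rfl

theorem ε_dP (hle : p1 ⁻¹ᵁ U ≤ p2 ⁻¹ᵁ U) (b' : Γ(X, U)) :
    ε p1 p2 U (show Γ((Scheme.Modules.pushforward p1).obj
        ((Scheme.Modules.pullback p2).obj (Coh.structureModule X)), U) from
        ((Scheme.Modules.pullback p2).obj (Coh.structureModule X)).presheaf.map (homOfLE hle).op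
          (pullSect p2 (Coh.structureModule X) U (strSect X U b'))) =
      (p2.appLE U (p1 ⁻¹ᵁ U) hle).hom b' := by
  have h1 := unitIso_σ p2 U b'
  have h2 := Groth.Agent.Lead.CIU.hom_naturality_apply (unitIso p2).hom hle
    (σ p2 (Coh.structureModule X) U (show Γ(Coh.structureModule X, U) from b'))
  change (unitIso p2).hom.app (p1 ⁻¹ᵁ U)
    (((Scheme.Modules.pullback p2).obj (Coh.structureModule X)).presheaf.map (homOfLE hle).op
      (σ p2 (Coh.structureModule X) U (show Γ(Coh.structureModule X, U) from b'))) = _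
  rw [h2, h1]
  rfl

end Gen

section Chart

variable {X S : Scheme.{u}} (f : X ⟶ S) (n : ℕ)

theorem nbhdι_preimage_diagNbhd (U : X.Opens) :
    nbhdι f n ⁻¹ᵁ diagNbhd f U = pr1 f n ⁻¹ᵁ U := by
  ext x
  change (pullback.fst f f (nbhdι f n x) ∈ U ∧ pullback.snd f f (nbhdι f n x) ∈ U) ↔ pr1 f n x ∈ U
  have h1 : pullback.fst f f (nbhdι f n x) = pr1 f n x := by
    rw [← Scheme.Hom.comp_apply]; rfl
  have h2 : pullback.snd f f (nbhdι f n x) = pr2 f n x := by
    rw [← Scheme.Hom.comp_apply]; rfl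
  rw [h1, h2, ← pr1_apply]
  exact and_self_iff

/-- the ring map `Γ(X ×_S X, pr₁⁻¹U ∩ pr₂⁻¹U) → Γ(X^{(n)}, pr1⁻¹ U)`. -/
noncomputable def κ (U : X.Opens) : Γ(pullback f f, diagNbhd f U) →+* Γ(nbhd f n, pr1 f n ⁻¹ᵁ U) :=
  ((nbhdι f n).appLE (diagNbhd f U) (pr1 f n ⁻¹ᵁ U) (nbhdι_preimage_diagNbhd f n U).ge).hom

theorem κ_fst (U : X.Opens) (a : Γ(X, U)) :
    κ f n U (((pullback.fst f f).appLE U (diagNbhd f U) inf_le_left).hom a) =
      ((pr1 f n).app U).hom a := by
  have h : (pullback.fst f f).appLE U (diagNbhd f U) inf_le_left ≫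
      (nbhdι f n).appLE (diagNbhd f U) (pr1 f n ⁻¹ᵁ U) (nbhdι_preimage_diagNbhd f n U).ge =
      (pr1 f n).app U := by
    rw [Scheme.Hom.appLE_comp_appLE]
    exact Scheme.Hom.appLE_eq_app _
  exact congr($h a)

theorem κ_snd (U : X.Opens) (b : Γ(X, U)) :
    κ f n U (((pullback.snd f f).appLE U (diagNbhd f U) inf_le_right).hom b) =
      ((pr2 f n).appLE U (pr1 f n ⁻¹ᵁ U) (preimage_pr1 f n U).le).hom b := by
  have h : (pullback.snd f f).appLE U (diagNbhd f U) inf_le_right ≫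
      (nbhdι f n).appLE (diagNbhd f U) (pr1 f n ⁻¹ᵁ U) (nbhdι_preimage_diagNbhd f n U).ge =
      (pr2 f n).appLE U (pr1 f n ⁻¹ᵁ U) (preimage_pr1 f n U).le := by
    rw [Scheme.Hom.appLE_comp_appLE]
    rfl
  exact congr($h b)

theorem κ_eq (U : X.Opens) (x : Γ(pullback f f, diagNbhd f U)) :
    κ f n U x = ((nbhd f n).presheaf.map (homOfLE (nbhdι_preimage_diagNbhd f n U).ge).op).hom
      (((nbhdι f n).app (diagNbhd f U)).hom x) := rfl

theorem res_bijective_of_eq {Z : Scheme.{u}} {O O' : Z.Opens} (h : O' = O) :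
    Function.Bijective (Z.presheaf.map (homOfLE h.le).op).hom := by
  subst h
  have : (homOfLE (le_refl O')).op = 𝟙 _ := rfl
  rw [this, CategoryTheory.Functor.map_id]
  exact Function.bijective_id

variable {U : X.Opens} (hU : IsAffineOpen U) {V : S.Opens} (hV : IsAffineOpen V) (e : U ≤ f ⁻¹ᵁ V)

include hU hV e in
theorem κ_surjective : Function.Surjective (κ f n U) := by
  intro y
  obtain ⟨z, hz⟩ := (res_bijective_of_eq (nbhdι_preimage_diagNbhd f n U).symm).2 y
  obtain ⟨x, hx⟩ := nbhdι_app_surjective f n hU hV e z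
  exact ⟨x, by rw [κ_eq, hx, hz]⟩

include hU hV e in
theorem ker_κ : RingHom.ker (κ f n U) =
    RingHom.ker ((pullback.diagonal f).app (diagNbhd f U)).hom ^ (n + 1) := by
  rw [← ker_nbhdι_app f n hU hV e]
  ext x
  rw [RingHom.mem_ker, RingHom.mem_ker, κ_eq]
  constructor
  · intro h
    apply (res_bijective_of_eq (nbhdι_preimage_diagNbhd f n U).symm).1
    rw [h, map_zero]
  · intro h
    rw [h, map_zero]

end Chart

section Main

variable {X S : Scheme.{u}} (f : X ⟶ S) (n : ℕ)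
  {U : X.Opens} (hU : IsAffineOpen U) {V : S.Opens} (hV : IsAffineOpen V) (e : U ≤ f ⁻¹ᵁ V)

theorem diagonal_app_eq_zero_iff' (U : X.Opens) (x : Γ(pullback f f, diagNbhd f U)) :
    ((pullback.diagonal f).app (diagNbhd f U)).hom x = 0 ↔
      ((pullback.diagonal f).appLE (diagNbhd f U) U (le_preimage_diagNbhd f U)).hom x = 0 := by
  have hb := res_bijective_of_eq (diagonal_preimage_diagNbhd f U).symm
  change _ ↔ (X.presheaf.map (homOfLE (le_preimage_diagNbhd f U)).op).hom
    (((pullback.diagonal f).app (diagNbhd f U)).hom x) = 0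
  constructor
  · intro h
    rw [h, map_zero]
  · intro h
    apply hb.1
    rw [map_zero]
    exact h

theorem retr_appLE' (U : X.Opens) (p : pullback f f ⟶ X) (hp : pullback.diagonal f ≫ p = 𝟙 X)
    (ep : diagNbhd f U ≤ p ⁻¹ᵁ U) (b : Γ(X, U)) :
    ((pullback.diagonal f).appLE (diagNbhd f U) U (le_preimage_diagNbhd f U)).hom
      ((p.appLE U (diagNbhd f U) ep).hom b) = b := by
  have h : p.appLE U (diagNbhd f U) ep ≫
      (pullback.diagonal f).appLE (diagNbhd f U) U (le_preimage_diagNbhd f U) = 𝟙 _ := by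
    rw [Scheme.Hom.appLE_comp_appLE]
    exact id_appLE_eq_id hp _
  exact congr($h b)

/-- the comparison `Γ(P^n, U) → Γ(X^{(n)}, pr1⁻¹ U)`. -/
noncomputable def εP (U : X.Opens) : Γ(P f n, U) →+ Γ(nbhd f n, pr1 f n ⁻¹ᵁ U) :=
  ε (pr1 f n) (pr2 f n) U

theorem εP_bijective (U : X.Opens) : Function.Bijective (εP f n U) :=
  ε_bijective (pr1 f n) (pr2 f n) U

theorem εP_smul (U : X.Opens) (b : Γ(X, U)) (y : Γ(P f n, U)) :
    εP f n U (b • y) = ((pr1 f n).app U).hom b * εP f n U y :=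
  ε_smul (pr1 f n) (pr2 f n) U b y

theorem εP_dn (U : X.Opens) (b' : Γ(X, U)) :
    εP f n U (dn f n U b') =
      ((pr2 f n).appLE U (pr1 f n ⁻¹ᵁ U) (preimage_pr1 f n U).le).hom b' :=
  ε_dP (pr1 f n) (pr2 f n) U (preimage_pr1 f n U).le b'

theorem εP_smul_dn (U : X.Opens) (b b' : Γ(X, U)) :
    εP f n U (b • dn f n U b') =
      ((pr1 f n).app U).hom b *
        ((pr2 f n).appLE U (pr1 f n ⁻¹ᵁ U) (preimage_pr1 f n U).le).hom b' := by
  rw [εP_smul, εP_dn]

include hU hV in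
theorem chart :
    letI := (f.appLE V U e).hom.toAlgebra
    ∀ (ψ : Γ(X, U) ⊗[Γ(S, V)] Γ(X, U) →+ Γ(P f n, U)),
      (∀ b b' : Γ(X, U), ψ (b ⊗ₜ b') = b • dn f n U b') →
      Function.Surjective ψ ∧
        ψ.ker = (KaehlerDifferential.ideal Γ(S, V) Γ(X, U) ^ (n + 1)).toAddSubgroup := by
  letI := (f.appLE V U e).hom.toAlgebra
  intro ψ hψ
  obtain ⟨εT, hεT⟩ := exists_tensorEquiv f hU hV e
  have key : ∀ t : Γ(X, U) ⊗[Γ(S, V)] Γ(X, U),
      εP f n U (ψ t) = κ f n U (εT t) := by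
    intro t
    induction t using TensorProduct.induction_on with
    | zero => rw [map_zero, map_zero, map_zero, map_zero]
    | tmul b b' =>
      rw [hψ, εP_smul_dn, hεT, map_mul, κ_fst, κ_snd]
    | add x y hx hy => rw [map_add, map_add, map_add, map_add, hx, hy]
  have hb := εP_bijective f n U
  have hmul : ∀ t : Γ(X, U) ⊗[Γ(S, V)] Γ(X, U),
      ((pullback.diagonal f).appLE (diagNbhd f U) U (le_preimage_diagNbhd f U)).hom (εT t) =
        Algebra.TensorProduct.lmul' Γ(S, V) t := by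
    intro t
    induction t using TensorProduct.induction_on with
    | zero => rw [map_zero, map_zero, map_zero]
    | tmul b b' =>
      rw [hεT, map_mul, retr_appLE' f U _ (pullback.diagonal_fst f),
        retr_appLE' f U _ (pullback.diagonal_snd f), Algebra.TensorProduct.lmul'_apply_tmul]
    | add x y hx hy => rw [map_add, map_add, map_add, hx, hy]
  have hI : KaehlerDifferential.ideal Γ(S, V) Γ(X, U) =
      (RingHom.ker ((pullback.diagonal f).app (diagNbhd f U)).hom).comap εT := by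
    ext t
    rw [Ideal.mem_comap]
    change Algebra.TensorProduct.lmul' Γ(S, V) t = 0 ↔ _
    rw [RingHom.mem_ker, diagonal_app_eq_zero_iff', hmul]
  constructor
  · intro y
    obtain ⟨x, hx⟩ := κ_surjective f n hU hV e (εP f n U y)
    refine ⟨εT.symm x, hb.1 ?_⟩
    rw [key, RingEquiv.apply_symm_apply, hx]
  · ext t
    rw [AddMonoidHom.mem_ker, Submodule.mem_toAddSubgroup, hI, ← Ideal.map_symm, ← Ideal.map_pow,
      Ideal.map_symm, Ideal.mem_comap, ← ker_κ f n hU hV e, RingHom.mem_ker, ← key]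
    constructor
    · intro h; rw [h, map_zero]
    · intro h
      apply hb.1
      rw [h, map_zero]

end Main

end Groth.Agent.Lead.PP7
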