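import Mathlib

set_option autoImplicit false
universe u
open TensorProduct

set_option backward.isDefEq.respectTransparency.types false

namespace Groth.Agent.Lead.PP7

section Alg

variable {A B : Type u} [CommRing A] [CommRing B] [Algebra A B]
  {Q M : Type u} [AddCommGroup Q] [Module B Q] [AddCommGroup M] [Module B M]
  (ψ : B ⊗[A] B →+ Q)
  (hsurj : Function.Surjective ψ)
  (hker : ψ.ker = (KaehlerDifferential.ideal A B ^ 2).toAddSubgroup)
  (hlin : ∀ (x : B) (t : B ⊗[A] B), ψ ((x ⊗ₜ[A] (1 : B)) * t) = x • ψ t)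
  (c : Ω[B⁄A] →ₗ[B] M) (hc : Function.Bijective c)
  (ι : M →ₗ[B] Q)
  (hι : ∀ b : B, ι (c (KaehlerDifferential.D A B b)) = ψ ((1 : B) ⊗ₜ[A] b - b ⊗ₜ[A] (1 : B)))

include hker in
theorem ψ_eq_of_sub_mem {s t : B ⊗[A] B} (h : s - t ∈ KaehlerDifferential.ideal A B ^ 2) :
    ψ s = ψ t := by
  have h1 : s - t ∈ ψ.ker := by rw [hker]; exact h
  rw [AddMonoidHom.mem_ker, map_sub, sub_eq_zero] at h1
  exact h1

include hker in
theorem mem_sq_of_ψ_eq_zero {s : B ⊗[A] B} (h : ψ s = 0) :
    s ∈ KaehlerDifferential.ideal A B ^ 2 := by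
  have h1 : s ∈ ψ.ker := h
  rw [hker] at h1
  exact h1

include hker hlin hι in
theorem ι_c_toCotangent (x : KaehlerDifferential.ideal A B) :
    ι (c ((KaehlerDifferential.ideal A B).toCotangent x)) = ψ x := by
  suffices H : ∀ ω : Ω[B⁄A], ∀ x : KaehlerDifferential.ideal A B,
      (KaehlerDifferential.ideal A B).toCotangent x = ω → ι (c ω) = ψ x from H _ x rfl
  intro ω
  have hω : ω ∈ Submodule.span B (Set.range (KaehlerDifferential.D A B)) := by
    rw [KaehlerDifferential.span_range_derivation]; trivial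
  induction hω using Submodule.span_induction with
  | mem y hy =>
    obtain ⟨b, rfl⟩ := hy
    intro x hx
    rw [hι]
    apply ψ_eq_of_sub_mem ψ hker
    have h2 : (KaehlerDifferential.ideal A B).toCotangent x =
        (KaehlerDifferential.ideal A B).toCotangent
          ⟨(1 : B) ⊗ₜ[A] b - b ⊗ₜ[A] (1 : B), KaehlerDifferential.one_smul_sub_smul_one_mem_ideal A b⟩ := by
      rw [hx]
      exact KaehlerDifferential.D_apply A B b
    rw [Ideal.toCotangent_eq] at h2
    have h3 := (KaehlerDifferential.ideal A B ^ 2).neg_mem h2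
    rw [neg_sub] at h3
    exact h3
  | zero =>
    intro x hx
    have hx' := (Ideal.toCotangent_eq_zero _ x).mp hx
    have : (x : B ⊗[A] B) ∈ ψ.ker := by rw [hker]; exact hx'
    rw [map_zero, map_zero]
    exact this.symm
  | add ω₁ ω₂ _ _ h₁ h₂ =>
    intro x hx
    obtain ⟨x₁, hx₁⟩ := (KaehlerDifferential.ideal A B).toCotangent_surjective ω₁
    have hx₂ : (KaehlerDifferential.ideal A B).toCotangent (x - x₁) = ω₂ := by
      rw [map_sub, hx, hx₁]
      exact add_sub_cancel_left ω₁ ω₂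
    rw [map_add, map_add, h₁ x₁ hx₁, h₂ (x - x₁) hx₂, ← map_add]
    congr 1
    simp
  | smul b ω _ h =>
    intro x hx
    obtain ⟨x', hx'⟩ := (KaehlerDifferential.ideal A B).toCotangent_surjective ω
    rw [map_smul, map_smul, h x' hx', ← hlin]
    apply ψ_eq_of_sub_mem ψ hker
    have h2 : (KaehlerDifferential.ideal A B).toCotangent x =
        (KaehlerDifferential.ideal A B).toCotangent ((b ⊗ₜ[A] (1 : B)) • x') := by
      rw [hx, map_smul, hx']
      have h5 : algebraMap B (B ⊗[A] B) b = b ⊗ₜ[A] (1 : B) := by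
        rw [Algebra.TensorProduct.algebraMap_apply]
        rfl
      rw [← h5]
      exact (algebraMap_smul (B ⊗[A] B) b ω).symm
    rw [Ideal.toCotangent_eq] at h2
    have h3 := (KaehlerDifferential.ideal A B ^ 2).neg_mem h2
    rw [neg_sub] at h3
    exact h3

include hsurj hker hlin hc hι in
theorem existsUnique_decomp (e' : B →+ Q) (he : ∀ a : B, e' a = ψ (a ⊗ₜ[A] (1 : B))) (z : Q) :
    ∃! p : B × M, e' p.1 + ι p.2 = z := by
  have hmem : ∀ t : B ⊗[A] B,
      t - (Algebra.TensorProduct.lmul' A t) ⊗ₜ[A] (1 : B) ∈ KaehlerDifferential.ideal A B := by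
    intro t
    change _ ∈ RingHom.ker _
    rw [RingHom.mem_ker, map_sub, Algebra.TensorProduct.lmul'_apply_tmul, mul_one, sub_self]
  obtain ⟨t, rfl⟩ := hsurj z
  refine ⟨(Algebra.TensorProduct.lmul' A t,
    c ((KaehlerDifferential.ideal A B).toCotangent ⟨_, hmem t⟩)), ?_, ?_⟩
  · change e' _ + ι (c _) = _
    rw [ι_c_toCotangent ψ hker hlin c ι hι, he, ← map_add]
    congr 1
    simp
  · rintro ⟨a, w⟩ hp
    change e' a + ι w = ψ t at hp
    obtain ⟨ω, rfl⟩ := hc.2 w
    obtain ⟨x, rfl⟩ := (KaehlerDifferential.ideal A B).toCotangent_surjective ω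
    rw [ι_c_toCotangent ψ hker hlin c ι hι, he, ← map_add] at hp
    have h1 : a ⊗ₜ[A] (1 : B) + (x : B ⊗[A] B) - t ∈ KaehlerDifferential.ideal A B ^ 2 := by
      apply mem_sq_of_ψ_eq_zero ψ hker
      rw [map_sub, hp, sub_self]
    have h2 : a ⊗ₜ[A] (1 : B) + (x : B ⊗[A] B) - t ∈ KaehlerDifferential.ideal A B :=
      Ideal.pow_le_self two_ne_zero h1
    have hx : Algebra.TensorProduct.lmul' A (x : B ⊗[A] B) = 0 := x.2
    have h3 : a = Algebra.TensorProduct.lmul' A t := by
      have h4 : Algebra.TensorProduct.lmul' A (a ⊗ₜ[A] (1 : B) + (x : B ⊗[A] B) - t) = 0 := h2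
      rw [map_sub, map_add, Algebra.TensorProduct.lmul'_apply_tmul, mul_one, hx, add_zero,
        sub_eq_zero] at h4
      exact h4
    subst h3
    congr 2
    refine (Ideal.toCotangent_eq (KaehlerDifferential.ideal A B)).mpr ?_
    have h5 : (x : B ⊗[A] B) - (t - (Algebra.TensorProduct.lmul' A t) ⊗ₜ[A] (1 : B)) =
        (Algebra.TensorProduct.lmul' A t) ⊗ₜ[A] (1 : B) + (x : B ⊗[A] B) - t := by ring
    change (x : B ⊗[A] B) - (t - (Algebra.TensorProduct.lmul' A t) ⊗ₜ[A] (1 : B)) ∈ _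
    rw [h5]
    exact h1

end Alg

end Groth.Agent.Lead.PP7
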