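import Mathlib
import Groth.Prelude.Def_OmegaPn
import Groth.Prelude.Def_Omega4
import Groth.Agent.Lib.Lead.PP7b
import Groth.Agent.Lib.Lead.PP7c
import Groth.Agent.Lib.Lead.BCU4

set_option autoImplicit false
universe u
open CategoryTheory CategoryTheory.Limits AlgebraicGeometry TopologicalSpace Opposite TensorProduct

set_option backward.isDefEq.respectTransparency.types false

namespace Groth.Agent.Lead.PP7

open PrinPart OmegaSh Groth.Agent.Lead.OmU

section Psi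

variable {X S : Scheme.{u}} (f : X ⟶ S) (n : ℕ)
  {U : X.Opens} (hU : IsAffineOpen U) {V : S.Opens} (hV : IsAffineOpen V) (e : U ≤ f ⁻¹ᵁ V)

include hU hV in
theorem exists_ψ :
    letI := (f.appLE V U e).hom.toAlgebra
    ∃ ψ : Γ(X, U) ⊗[Γ(S, V)] Γ(X, U) →+ Γ(P f n, U),
      ∀ b b' : Γ(X, U), ψ (b ⊗ₜ b') = b • dn f n U b' := by
  letI := (f.appLE V U e).hom.toAlgebra
  obtain ⟨εT, hεT⟩ := exists_tensorEquiv f hU hV e
  have hb := εP_bijective f n U
  refine ⟨(AddEquiv.ofBijective (εP f n U) hb).symm.toAddMonoidHom.comp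
    ((κ f n U).toAddMonoidHom.comp (εT : _ →+* _).toAddMonoidHom), fun b b' => ?_⟩
  apply hb.1
  change εP f n U ((AddEquiv.ofBijective (εP f n U) hb).symm (κ f n U (εT (b ⊗ₜ b')))) = _
  have h1 : ∀ y, εP f n U ((AddEquiv.ofBijective (εP f n U) hb).symm y) = y :=
    fun y => (AddEquiv.ofBijective (εP f n U) hb).apply_symm_apply y
  rw [h1, εP_smul_dn, hεT, map_mul, κ_fst, κ_snd]

theorem ψ_lin :
    letI := (f.appLE V U e).hom.toAlgebra
    ∀ (ψ : Γ(X, U) ⊗[Γ(S, V)] Γ(X, U) →+ Γ(P f n, U)),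
      (∀ b b' : Γ(X, U), ψ (b ⊗ₜ b') = b • dn f n U b') →
      ∀ (x : Γ(X, U)) (t : Γ(X, U) ⊗[Γ(S, V)] Γ(X, U)),
        ψ ((x ⊗ₜ[Γ(S, V)] (1 : Γ(X, U))) * t) = x • ψ t := by
  letI := (f.appLE V U e).hom.toAlgebra
  intro ψ hψ x t
  induction t using TensorProduct.induction_on with
  | zero => rw [mul_zero, map_zero, smul_zero]
  | tmul b b' =>
    rw [Algebra.TensorProduct.tmul_mul_tmul, one_mul, hψ, hψ, mul_smul]
  | add s t hs ht => rw [mul_add, map_add, map_add, hs, ht, smul_add]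

end Psi

section Coprod

variable {X : Scheme.{u}} {M₁ M₂ N : X.Modules} (a : M₁ ⟶ N) (b : M₂ ⟶ N) (U : X.Opens)

theorem bijective_coprod_desc_app
    (h : ∀ z : Γ(N, U), ∃! p : Γ(M₁, U) × Γ(M₂, U), a.app U p.1 + b.app U p.2 = z) :
    Function.Bijective ((coprod.desc a b).app U) := by
  let π₁ : M₁ ⨿ M₂ ⟶ M₁ := coprod.desc (𝟙 _) 0
  let π₂ : M₁ ⨿ M₂ ⟶ M₂ := coprod.desc 0 (𝟙 _)
  have htot : π₁ ≫ coprod.inl + π₂ ≫ coprod.inr = 𝟙 (M₁ ⨿ M₂) := by
    apply coprod.hom_ext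
    · rw [Preadditive.comp_add, ← Category.assoc, ← Category.assoc, coprod.inl_desc,
        coprod.inl_desc, Category.id_comp, zero_comp, add_zero, Category.comp_id]
    · rw [Preadditive.comp_add, ← Category.assoc, ← Category.assoc, coprod.inr_desc,
        coprod.inr_desc, Category.id_comp, zero_comp, zero_add, Category.comp_id]
  have hdec : ∀ y : Γ(M₁ ⨿ M₂, U), y = (coprod.inl : M₁ ⟶ M₁ ⨿ M₂).app U (π₁.app U y) +
      (coprod.inr : M₂ ⟶ M₁ ⨿ M₂).app U (π₂.app U y) := by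
    intro y
    have := congrArg (fun φ : M₁ ⨿ M₂ ⟶ M₁ ⨿ M₂ => φ.app U y) htot
    exact this.symm
  have hG1 : ∀ s, (coprod.desc a b).app U ((coprod.inl : M₁ ⟶ M₁ ⨿ M₂).app U s) = a.app U s := by
    intro s
    exact congrArg (fun φ : M₁ ⟶ N => φ.app U s) (coprod.inl_desc a b)
  have hG2 : ∀ s, (coprod.desc a b).app U ((coprod.inr : M₂ ⟶ M₁ ⨿ M₂).app U s) = b.app U s := by
    intro s
    exact congrArg (fun φ : M₂ ⟶ N => φ.app U s) (coprod.inr_desc a b)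
  have hπ11 : ∀ s, π₁.app U ((coprod.inl : M₁ ⟶ M₁ ⨿ M₂).app U s) = s := fun s =>
    congrArg (fun φ : M₁ ⟶ M₁ => φ.app U s) (coprod.inl_desc (𝟙 M₁) (0 : M₂ ⟶ M₁))
  have hG : ∀ y, (coprod.desc a b).app U y = a.app U (π₁.app U y) + b.app U (π₂.app U y) := by
    intro y
    conv_lhs => rw [hdec y]
    rw [map_add, hG1, hG2]
  constructor
  · intro y y' hyy'
    obtain ⟨p, _, hp⟩ := h ((coprod.desc a b).app U y)
    have e1 := hp (π₁.app U y, π₂.app U y) (hG y).symm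
    have e2 := hp (π₁.app U y', π₂.app U y') (by rw [hyy']; exact (hG y').symm)
    rw [hdec y, hdec y']
    have e3 : (π₁.app U y, π₂.app U y) = (π₁.app U y', π₂.app U y') := e1.trans e2.symm
    rw [(Prod.mk.inj e3).1, (Prod.mk.inj e3).2]
  · intro z
    obtain ⟨p, hp, _⟩ := h z
    refine ⟨(coprod.inl : M₁ ⟶ M₁ ⨿ M₂).app U p.1 + (coprod.inr : M₂ ⟶ M₁ ⨿ M₂).app U p.2, ?_⟩
    rw [map_add, hG1, hG2]
    exact hp

end Coprod

section Main

variable {X S : Scheme.{u}} (f : X ⟶ S) [QuasiSeparated f]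
    (e : Coh.structureModule X ⟶ PrinPart.P f 1)
    (he : ∀ (U : X.Opens) (s : Γ(X, U)), e.app U (OmegaSh.strSect X U s) = s • PrinPart.dn f 1 U 1)
    (ι : Omega.sheaf f ⟶ PrinPart.P f 1)
    (hι : ∀ (U : X.Opens) (s : Γ(X, U)),
      ι.app U ((OmegaSh.dOmega f).app U s) = PrinPart.dn f 1 U s - s • PrinPart.dn f 1 U 1)

include he hι in
theorem bijective_chart {U : X.Opens} (hU : IsAffineOpen U) {V : S.Opens} (hV : IsAffineOpen V)
    (eUV : U ≤ f ⁻¹ᵁ V) : Function.Bijective ((coprod.desc e ι).app U) := by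
  apply bijective_coprod_desc_app
  letI := (f.appLE V U eUV).hom.toAlgebra
  obtain ⟨ψ, hψ⟩ := exists_ψ f 1 hU hV eUV
  obtain ⟨hsurj, hker⟩ := chart f 1 hU hV eUV ψ hψ
  have hlin := ψ_lin f 1 eUV ψ hψ
  have hc : Function.Bijective (chartLin (dOmega f) eUV) := good_dOmega f hU hV eUV
  let ιl : Γ(Omega.sheaf f, U) →ₗ[Γ(X, U)] Γ(P f 1, U) :=
    { toFun := fun w => ι.app U w
      map_add' := fun w w' => map_add _ w w'
      map_smul' := fun r w => Scheme.Modules.Hom.app_smul ι r w }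
  let e' : Γ(X, U) →+ Γ(P f 1, U) := (e.app U).hom.comp (OmegaSh.strSect X U)
  have he' : ∀ a : Γ(X, U), e' a = ψ (a ⊗ₜ[Γ(S, V)] (1 : Γ(X, U))) := by
    intro a
    rw [hψ]
    exact he U a
  have hι' : ∀ b : Γ(X, U), ιl (chartLin (dOmega f) eUV (KaehlerDifferential.D Γ(S, V) Γ(X, U) b)) =
      ψ ((1 : Γ(X, U)) ⊗ₜ[Γ(S, V)] b - b ⊗ₜ[Γ(S, V)] (1 : Γ(X, U))) := by
    intro b
    rw [chartLin_D, map_sub, hψ, hψ, one_smul]
    exact hι U b
  intro z
  exact existsUnique_decomp ψ hsurj hker hlin (chartLin (dOmega f) eUV) hc ιl hι' e' he' z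

include he hι in
/-- **principal parts of order one split as functions plus differentials** -/
theorem isIso_coprod_desc : IsIso (coprod.desc e ι) := by
  apply Groth.Agent.Lead.BCU.isIso_of_bijective_nhds
  intro O x hx
  obtain ⟨_, ⟨V, hV, rfl⟩, hxV, -⟩ := S.isBasis_affineOpens.exists_subset_of_mem_open
    (Set.mem_univ (f x)) isOpen_univ
  obtain ⟨_, ⟨U, hU, rfl⟩, hxU, hUV⟩ := X.isBasis_affineOpens.exists_subset_of_mem_open
    (show x ∈ ((f ⁻¹ᵁ V ⊓ O : X.Opens) : Set X) from ⟨hxV, hx⟩) (f ⁻¹ᵁ V ⊓ O).2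
  exact ⟨U, fun y hy => (hUV hy).2, hxU,
    bijective_chart f e he ι hι hU hV (fun y hy => (hUV hy).1)⟩

end Main

end Groth.Agent.Lead.PP7
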