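import Mathlib
import Groth.Prelude.Def_OmegaPn
import Groth.Prelude.Def_Omega4
import Groth.Agent.Lib.Lead.PP7d
import Groth.Agent.Lib.Helper1.SerreCrit

set_option autoImplicit false
universe u
open CategoryTheory CategoryTheory.Limits AlgebraicGeometry TopologicalSpace Opposite TensorProduct

set_option backward.isDefEq.respectTransparency.types false

namespace Groth.Agent.Lead.PP7

open PrinPart OmegaSh Groth.Agent.Lead.OmU

section Span

variable {X S : Scheme.{u}} (f : X ⟶ S) (n : ℕ)
  {U : X.Opens} (hU : IsAffineOpen U) {V : S.Opens} (hV : IsAffineOpen V) (e : U ≤ f ⁻¹ᵁ V)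

include hU hV e in
/-- on an affine chart, the sections of `P^n` are generated by the `d^n b`. -/
theorem span_range_dn : Submodule.span Γ(X, U) (Set.range (dn f n U)) = ⊤ := by
  letI := (f.appLE V U e).hom.toAlgebra
  obtain ⟨ψ, hψ⟩ := exists_ψ f n hU hV e
  obtain ⟨hsurj, -⟩ := chart f n hU hV e ψ hψ
  rw [eq_top_iff]
  intro z _
  obtain ⟨t, rfl⟩ := hsurj z
  clear * - hψ
  induction t using TensorProduct.induction_on with
  | zero => rw [map_zero]; exact Submodule.zero_mem _
  | tmul b b' =>
    rw [hψ]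
    exact Submodule.smul_mem _ _ (Submodule.subset_span ⟨b', rfl⟩)
  | add s t hs ht => rw [map_add]; exact Submodule.add_mem _ hs ht

include hU hV e in
/-- a linear map into `P^n` hitting all `d^n b` over an affine chart is surjective there. -/
theorem surjective_of_range_dn {M : X.Modules} (φ : M ⟶ P f n)
    (h : ∀ b : Γ(X, U), ∃ m : Γ(M, U), φ.app U m = dn f n U b) :
    Function.Surjective (φ.app U) := by
  let φl : Γ(M, U) →ₗ[Γ(X, U)] Γ(P f n, U) :=
    { toFun := fun w => φ.app U w
      map_add' := fun w w' => map_add _ w w'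
      map_smul' := fun r w => Scheme.Modules.Hom.app_smul φ r w }
  have h1 : Submodule.span Γ(X, U) (Set.range (dn f n U)) ≤ LinearMap.range φl := by
    rw [Submodule.span_le]
    rintro _ ⟨b, rfl⟩
    obtain ⟨m, hm⟩ := h b
    exact ⟨m, hm⟩
  rw [span_range_dn f n hU hV e] at h1
  intro z
  obtain ⟨m, hm⟩ := h1 (Submodule.mem_top : z ∈ ⊤)
  exact ⟨m, hm⟩

end Span

end Groth.Agent.Lead.PP7
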