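import Mathlib
import Groth.Prelude.Def_CotT

set_option autoImplicit false
set_option linter.style.haveILetI false
set_option linter.unusedSectionVars false

universe u v w t m

open TensorProduct

namespace Groth.Agent.Lib.Lead.CotTA1

open CotT

variable {A : Type u} {B : Type v} {ι : Type w} {σ : Type t}
variable [CommRing A] [CommRing B] [Algebra A B]
variable (P : Algebra.Presentation A B ι σ)

/-- Every element of `L₁ = B ⊗_R F` is of the form `1 ⊗ f`. -/
lemma exists_one_tmul (x : L1 P) : ∃ f : relMod P, x = (1 : B) ⊗ₜ[P.toExtension.Ring] f := by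
  induction x using TensorProduct.induction_on with
  | zero => exact ⟨0, by simp⟩
  | tmul b f =>
    obtain ⟨r, rfl⟩ := P.toExtension.algebraMap_surjective b
    refine ⟨r • f, ?_⟩
    rw [TensorProduct.tmul_smul, TensorProduct.smul_tmul', Algebra.smul_def, mul_one]
  | add x y hx hy =>
    obtain ⟨f, rfl⟩ := hx
    obtain ⟨g, rfl⟩ := hy
    exact ⟨f + g, by rw [TensorProduct.tmul_add]⟩

lemma toCot_one_tmul (f : relMod P) :
    toCot P ((1 : B) ⊗ₜ f) = Algebra.Extension.Cotangent.mk (jker P f) := by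
  rw [toCot_tmul, one_smul]

lemma toCot_surjective : Function.Surjective (toCot P) := by
  intro y
  obtain ⟨x, rfl⟩ := Algebra.Extension.Cotangent.mk_surjective y
  have hx : (x : P.toExtension.Ring) ∈ LinearMap.range (jmap P) := by
    rw [range_jmap]; exact x.2
  obtain ⟨f, hf⟩ := hx
  refine ⟨(1 : B) ⊗ₜ f, ?_⟩
  rw [toCot_one_tmul]
  congr 1
  exact Subtype.ext hf

/-- Elements of `I²` are `j` of an element of `F` that dies in `B ⊗ F`. -/
lemma exists_of_mem_sq (y : P.toExtension.Ring) (hy : y ∈ P.toExtension.ker ^ 2) :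
    ∃ g : relMod P, jmap P g = y ∧ (1 : B) ⊗ₜ[P.toExtension.Ring] g = (0 : L1 P) := by
  rw [sq] at hy
  refine Submodule.mul_induction_on hy ?_ ?_
  · intro a ha b hb
    have ha' : a ∈ LinearMap.range (jmap P) := by rw [range_jmap]; exact ha
    obtain ⟨α, rfl⟩ := ha'
    refine ⟨b • α, ?_, ?_⟩
    · rw [map_smul, smul_eq_mul, mul_comm]
    · rw [TensorProduct.tmul_smul, TensorProduct.smul_tmul', Algebra.smul_def, mul_one]
      have : algebraMap P.toExtension.Ring B b = 0 := hb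
      rw [this, TensorProduct.zero_tmul]
  · rintro x y ⟨g₁, h₁, h₁'⟩ ⟨g₂, h₂, h₂'⟩
    exact ⟨g₁ + g₂, by rw [map_add, h₁, h₂], by rw [TensorProduct.tmul_add, h₁', h₂', add_zero]⟩

lemma ker_toCot_le_range_d2 : LinearMap.ker (toCot P) ≤ LinearMap.range (d2 P) := by
  intro x hx
  obtain ⟨f, rfl⟩ := exists_one_tmul P x
  rw [LinearMap.mem_ker, toCot_one_tmul, Algebra.Extension.Cotangent.mk_eq_zero_iff] at hx
  obtain ⟨g, hg, hg0⟩ := exists_of_mem_sq P _ hx
  have hq : f - g ∈ relKer P := by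
    change jmap P (f - g) = 0
    rw [map_sub, hg]
    exact sub_self _
  refine ⟨Submodule.Quotient.mk ((1 : B) ⊗ₜ ⟨f - g, hq⟩), ?_⟩
  rw [d2_mk_tmul]
  change (1 : B) ⊗ₜ[P.toExtension.Ring] (f - g) = _
  rw [TensorProduct.tmul_sub, hg0, sub_zero]

variable (M : Type m) [AddCommGroup M] [Module B M]

/-- A cocycle factors through `toCot`. -/
lemma exists_factor_of_mem_cocycles1 (ψ : L1 P →ₗ[B] M) (hψ : ψ ∈ cocycles1 P M) :
    ∃ φ : P.toExtension.Cotangent →ₗ[B] M, ψ = φ ∘ₗ toCot P := by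
  have hker : LinearMap.ker (toCot P) ≤ LinearMap.ker ψ := by
    refine (ker_toCot_le_range_d2 P).trans ?_
    rintro _ ⟨z, rfl⟩
    rw [LinearMap.mem_ker] at hψ ⊢
    have := LinearMap.congr_fun hψ z
    simpa using this
  let e := (toCot P).quotKerEquivOfSurjective (toCot_surjective P)
  refine ⟨(Submodule.liftQ _ ψ hker) ∘ₗ e.symm.toLinearMap, ?_⟩
  ext x
  simp only [LinearMap.coe_comp, Function.comp_apply, LinearEquiv.coe_coe]
  have : e.symm (toCot P x) = Submodule.Quotient.mk x := by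
    rw [LinearEquiv.symm_apply_eq]
    rfl
  rw [this, Submodule.liftQ_apply]


/-- `b` kills `Ext¹` of the naive cotangent complex of the extension `Q` with values in `M`. -/
def KillsE (Q : Algebra.Extension A B) (M : Type m) [AddCommGroup M] [Module B M] (b : B) : Prop :=
  ∀ φ : Q.Cotangent →ₗ[B] M, ∃ χ : Q.CotangentSpace →ₗ[B] M, b • φ = χ ∘ₗ Q.cotangentComplex

lemma smul_T1_eq_zero_iff (b : B) :
    (∀ x : T1 P M, b • x = 0) ↔ KillsE P.toExtension M b := by
  constructor
  · intro h φ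
    have h1 := h (homToT1 P M φ)
    rw [← map_smul] at h1
    unfold homToT1 at h1
    rw [LinearMap.comp_apply, Submodule.mkQ_apply, Submodule.Quotient.mk_eq_zero] at h1
    -- h1 : codRestrict ... (b • φ) ∈ coboundaries1
    obtain ⟨χ, hχ⟩ := h1
    refine ⟨χ, ?_⟩
    have h2 : (χ ∘ₗ P.toExtension.cotangentComplex) ∘ₗ toCot P = (b • φ) ∘ₗ toCot P := by
      rw [LinearMap.comp_assoc]
      exact hχ
    ext y
    obtain ⟨x, rfl⟩ := toCot_surjective P y
    exact (LinearMap.congr_fun h2 x).symm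
  · intro h x
    obtain ⟨c, rfl⟩ := Submodule.Quotient.mk_surjective _ x
    obtain ⟨φ, hφ⟩ := exists_factor_of_mem_cocycles1 P M c.1 c.2
    obtain ⟨χ, hχ⟩ := h φ
    rw [← Submodule.Quotient.mk_smul, Submodule.Quotient.mk_eq_zero]
    refine ⟨χ, ?_⟩
    change χ ∘ₗ d1 P = b • (c : L1 P →ₗ[B] M)
    rw [hφ, d1, ← LinearMap.comp_assoc, ← hχ]
    rfl

end Groth.Agent.Lib.Lead.CotTA1
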