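import Mathlib
import Groth.Agent.Lib.Lead.CotTA1

set_option autoImplicit false
set_option linter.style.haveILetI false
set_option linter.unusedSectionVars false
universe u v w w' m
open TensorProduct Algebra.Extension

namespace Groth.Agent.Lib.Lead.CotTA2
open Groth.Agent.Lib.Lead.CotTA1

variable {A : Type u} {B : Type v} [CommRing A] [CommRing B] [Algebra A B]

lemma KillsE.of_homs {Q : Algebra.Extension.{w} A B} {Q' : Algebra.Extension.{w'} A B}
    (F : Q.Hom Q') (G : Q'.Hom Q) (M : Type m) [AddCommGroup M] [Module B M] (b : B)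
    (h : KillsE Q M b) : KillsE Q' M b := by
  intro φ'
  obtain ⟨χ, hχ⟩ := h (φ' ∘ₗ Cotangent.map F)
  let hh : Q'.CotangentSpace →ₗ[B] Q'.Cotangent := (F.comp G).sub (Algebra.Extension.Hom.id Q')
  refine ⟨χ ∘ₗ CotangentSpace.map G - b • (φ' ∘ₗ hh), ?_⟩
  ext x
  have h1 : Cotangent.map F (Cotangent.map G x) = x + hh (Q'.cotangentComplex x) := by
    have e1 := LinearMap.congr_fun (Cotangent.map_comp (f := G) (g := F)) x
    have e2 := LinearMap.congr_fun (Cotangent.map_sub_map (F.comp G) (Algebra.Extension.Hom.id Q')) x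
    simp only [LinearMap.sub_apply, Cotangent.map_id, LinearMap.id_coe, id_eq, LinearMap.coe_comp,
      Function.comp_apply, LinearMap.coe_restrictScalars] at e1 e2
    rw [← e1, eq_add_of_sub_eq' e2]
  have h2 := LinearMap.congr_fun hχ (Cotangent.map G x)
  simp only [LinearMap.smul_apply, LinearMap.coe_comp, Function.comp_apply] at h2
  rw [h1, map_add, smul_add, ← CotangentSpace.map_cotangentComplex] at h2
  simp only [LinearMap.smul_apply, LinearMap.coe_comp, Function.comp_apply, LinearMap.sub_apply]
  rw [← h2]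
  abel

end Groth.Agent.Lib.Lead.CotTA2
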