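import Mathlib
import Groth.Agent.Lib.Lead.CotTA1

set_option autoImplicit false
set_option linter.style.haveILetI false
set_option linter.unusedSectionVars false
universe u v w w' m
open TensorProduct Algebra.Extension KaehlerDifferential

namespace Groth.Agent.Lib.Lead.CotTA3
open Groth.Agent.Lib.Lead.CotTA1

variable {A : Type u} {B : Type u} [CommRing A] [CommRing B] [Algebra A B]

attribute [local instance] Module.finitePresentation_of_projective in
lemma basicOpen_subset_smoothLocus_iff' [Algebra.FinitePresentation A B] (τ : B) :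
    ↑(PrimeSpectrum.basicOpen τ) ⊆ Algebra.smoothLocus A B ↔
      Subsingleton (LocalizedModule (.powers τ) (Algebra.H1Cotangent A B)) ∧
      Module.Projective (Localization.Away τ) (LocalizedModule (.powers τ) Ω[B⁄A]) := by
  rw [Algebra.smoothLocus_eq_compl_support_inter, Set.subset_inter_iff, Set.subset_compl_comm,
    PrimeSpectrum.basicOpen_eq_zeroLocus_compl, compl_compl,
    ← LocalizedModule.subsingleton_iff_support_subset]
  rw [← PrimeSpectrum.basicOpen_eq_zeroLocus_compl, Module.basicOpen_subset_freeLocus_iff]


section Abstract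

variable {R : Type u} [CommRing R] (τ : R)
variable {C L Ω : Type u} [AddCommGroup C] [Module R C] [AddCommGroup L] [Module R L]
  [AddCommGroup Ω] [Module R Ω]
variable (cc : C →ₗ[R] L) (π : L →ₗ[R] Ω)

include cc π in
/-- split up to `τ^n` ⇒ the localized cokernel is projective -/
lemma projective_localized_of_split (hex : Function.Exact cc π) (hπ : Function.Surjective π)
    [Module.Projective R L] (n : ℕ) (χ₀ : L →ₗ[R] C)
    (h : χ₀ ∘ₗ cc = τ ^ n • LinearMap.id) :
    Module.Projective (Localization (Submonoid.powers τ))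
      (LocalizedModule (Submonoid.powers τ) Ω) := by
  set e : L →ₗ[R] L := τ ^ n • LinearMap.id - cc ∘ₗ χ₀ with he
  have hecc : ∀ c, e (cc c) = 0 := by
    intro c
    have h1 := LinearMap.congr_fun h c
    simp only [LinearMap.coe_comp, Function.comp_apply, LinearMap.smul_apply, LinearMap.id_coe,
      id_eq] at h1
    simp only [he, LinearMap.sub_apply, LinearMap.smul_apply, LinearMap.id_coe, id_eq,
      LinearMap.coe_comp, Function.comp_apply, h1, map_smul, sub_self]
  have hker : LinearMap.ker π ≤ LinearMap.ker e := by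
    intro x hx
    obtain ⟨c, rfl⟩ := (hex x).mp hx
    exact hecc c
  let eq := π.quotKerEquivOfSurjective hπ
  let hh : Ω →ₗ[R] L := (Submodule.liftQ _ e hker) ∘ₗ eq.symm.toLinearMap
  have hhπ : ∀ x, hh (π x) = e x := by
    intro x
    have : eq.symm (π x) = Submodule.Quotient.mk x := by
      rw [LinearEquiv.symm_apply_eq]; rfl
    simp only [hh, LinearMap.coe_comp, Function.comp_apply, LinearEquiv.coe_coe, this,
      Submodule.liftQ_apply]
  have hπh : ∀ y, π (hh y) = τ ^ n • y := by
    intro y
    obtain ⟨x, rfl⟩ := hπ y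
    rw [hhπ]
    simp only [he, LinearMap.sub_apply, LinearMap.smul_apply, LinearMap.id_coe, id_eq,
      LinearMap.coe_comp, Function.comp_apply, map_sub, map_smul, hex.apply_apply_eq_zero, sub_zero]
  set S := Submonoid.powers τ
  let πS := LocalizedModule.map S π
  let hS := LocalizedModule.map S hh
  have hu : IsUnit (algebraMap R (Localization S) (τ ^ n)) :=
    IsLocalization.map_units (Localization S) (⟨τ ^ n, n, rfl⟩ : S)
  obtain ⟨u, hu'⟩ := hu
  have hcomp : ∀ z, πS (hS z) = (u : Localization S) • z := by
    intro z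
    induction z using LocalizedModule.induction_on with
    | h m s =>
      simp only [πS, hS, LocalizedModule.map_mk, hπh, hu']
      rw [algebraMap_smul, LocalizedModule.smul'_mk]
  refine Module.Projective.of_split ((↑u⁻¹ : Localization S) • hS) πS ?_
  ext z
  simp only [LinearMap.coe_comp, Function.comp_apply, LinearMap.smul_apply, map_smul, hcomp,
    LinearMap.id_coe, id_eq, smul_smul, Units.inv_mul, one_smul]


include cc π in
/-- the localized cokernel is projective and the kernel is `τ`-power torsion ⇒ split up to `τ^n` -/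
lemma exists_split_of_projective_localized (hex : Function.Exact cc π)
    (hπ : Function.Surjective π)
    [Module.Projective R L] [Module.Finite R C] [Module.FinitePresentation R Ω]
    (hker : ∀ x : C, cc x = 0 → ∃ k : ℕ, τ ^ k • x = 0)
    [hproj : Module.Projective (Localization (Submonoid.powers τ))
      (LocalizedModule (Submonoid.powers τ) Ω)] :
    ∃ (n : ℕ) (χ₀ : L →ₗ[R] C), χ₀ ∘ₗ cc = τ ^ n • LinearMap.id := by
  set S := Submonoid.powers τ
  let πS := LocalizedModule.map S π
  have hπS : Function.Surjective πS := LocalizedModule.map_surjective S π hπ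
  obtain ⟨σ, hσ⟩ := Module.projective_lifting_property πS LinearMap.id hπS
  let locΩ := LocalizedModule.mkLinearMap S Ω
  let locL := LocalizedModule.mkLinearMap S L
  let g : Ω →ₗ[R] LocalizedModule S L := (σ.restrictScalars R) ∘ₗ locΩ
  obtain ⟨h, s, hs⟩ := Module.FinitePresentation.exists_lift_of_isLocalizedModule S locL g
  have hnat : ∀ x : L, πS (locL x) = locΩ (π x) := by
    intro x
    simp only [πS, locL, locΩ, LocalizedModule.mkLinearMap_apply, LocalizedModule.map_mk]
  have h3 : locΩ ∘ₗ (π ∘ₗ h) = locΩ ∘ₗ ((s : R) • LinearMap.id) := by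
    ext y
    have e1 := LinearMap.congr_fun hs y
    have e2 := LinearMap.congr_fun hσ (locΩ y)
    simp only [LinearMap.coe_comp, Function.comp_apply, LinearMap.id_coe, id_eq] at e2
    simp only [LinearMap.coe_comp, Function.comp_apply, LinearMap.smul_apply, LinearMap.id_coe,
      id_eq, map_smul]
    rw [← hnat]
    change πS ((locL ∘ₗ h) y) = _
    rw [e1]
    simp only [g, LinearMap.smul_apply, LinearMap.coe_comp, LinearMap.coe_restrictScalars,
      Function.comp_apply, Submonoid.smul_def]
    rw [← algebraMap_smul (Localization S) (s : R) (σ (locΩ y)), map_smul, e2, algebraMap_smul]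
  obtain ⟨s', hs'⟩ := Module.Finite.exists_smul_of_comp_eq_of_isLocalizedModule S locΩ _ _ h3
  obtain ⟨n, hn⟩ : ∃ n : ℕ, τ ^ n = (s' : R) * (s : R) := by
    obtain ⟨a, ha⟩ := s'.2
    obtain ⟨b, hb⟩ := s.2
    exact ⟨a + b, by rw [pow_add]; simp only [← ha, ← hb]⟩
  let h' : Ω →ₗ[R] L := (s' : R) • h
  have hπh' : ∀ y, π (h' y) = τ ^ n • y := by
    intro y
    have := LinearMap.congr_fun hs' y
    simp only [LinearMap.smul_apply, LinearMap.coe_comp, Function.comp_apply, LinearMap.id_coe,
      id_eq, Submonoid.smul_def] at this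
    simp only [h', LinearMap.smul_apply, map_smul, this, hn, mul_smul]
  set e : L →ₗ[R] L := τ ^ n • LinearMap.id - h' ∘ₗ π with he
  have hπe : ∀ x, e x ∈ LinearMap.range cc := by
    intro x
    have : π (e x) = 0 := by
      simp only [he, LinearMap.sub_apply, LinearMap.smul_apply, LinearMap.id_coe, id_eq,
        LinearMap.coe_comp, Function.comp_apply, map_sub, map_smul, hπh', sub_self]
    exact (hex _).mp this
  obtain ⟨χ₁, hχ₁⟩ := Module.projective_lifting_property cc.rangeRestrict
    (e.codRestrict (LinearMap.range cc) hπe) (LinearMap.surjective_rangeRestrict cc)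
  have hχ₁' : ∀ x, cc (χ₁ x) = e x := by
    intro x
    have := congrArg Subtype.val (LinearMap.congr_fun hχ₁ x)
    simpa using this
  set D : C →ₗ[R] C := χ₁ ∘ₗ cc - τ ^ n • LinearMap.id with hD
  have hccD : ∀ x, cc (D x) = 0 := by
    intro x
    simp only [hD, LinearMap.sub_apply, LinearMap.coe_comp, Function.comp_apply,
      LinearMap.smul_apply, LinearMap.id_coe, id_eq, map_sub, map_smul, hχ₁', he,
      hex.apply_apply_eq_zero, map_zero, sub_zero, sub_self]
  -- uniform power on a finite generating set
  obtain ⟨G, hG⟩ := (Module.finite_def.mp (inferInstance : Module.Finite R C))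
  have hkill : ∀ x : C, ∃ k : ℕ, τ ^ k • D x = 0 := fun x => hker (D x) (hccD x)
  choose kf hkf using hkill
  set m := G.sup kf with hm
  have hDm : τ ^ m • D = 0 := by
    apply LinearMap.ext_on_range (v := fun x : G => (x : C))
    · rw [Subtype.range_coe_subtype]
      simpa using hG
    · rintro ⟨x, hx⟩
      have hle : kf x ≤ m := Finset.le_sup hx
      obtain ⟨r, hr⟩ := Nat.exists_eq_add_of_le hle
      simp only [LinearMap.smul_apply, LinearMap.zero_apply]
      rw [hr, pow_add, mul_comm, mul_smul, hkf, smul_zero]
  refine ⟨m + n, τ ^ m • χ₁, ?_⟩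
  have : χ₁ ∘ₗ cc = D + τ ^ n • LinearMap.id := by rw [hD]; abel
  rw [LinearMap.smul_comp, this, smul_add, hDm, zero_add, smul_smul, pow_add]

end Abstract

end Groth.Agent.Lib.Lead.CotTA3
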