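import Mathlib
import Groth.Agent.Lib.Lead.CotTA1
import Groth.Agent.Lib.Lead.CotTA2
import Groth.Agent.Lib.Lead.CotTA3

set_option autoImplicit false
set_option linter.style.haveILetI false
set_option linter.unusedSectionVars false
universe u
open TensorProduct Algebra.Extension KaehlerDifferential

namespace Groth.Agent.Lib.Lead.CotTA4
open Groth.Agent.Lib.Lead.CotTA1 Groth.Agent.Lib.Lead.CotTA2 Groth.Agent.Lib.Lead.CotTA3

variable {A : Type u} {B : Type u} [CommRing A] [CommRing B] [Algebra A B]

/-- smoothness on `D(τ)` in terms of a finite set of generators -/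
theorem basicOpen_subset_smoothLocus_iff_split [Algebra.FinitePresentation A B]
    {ι : Type} [Finite ι] (G : Algebra.Generators A B ι) (hfg : G.toExtension.ker.FG) (τ : B) :
    ↑(PrimeSpectrum.basicOpen τ) ⊆ Algebra.smoothLocus A B ↔
      ∃ (n : ℕ) (χ₀ : G.toExtension.CotangentSpace →ₗ[B] G.toExtension.Cotangent),
        χ₀ ∘ₗ G.toExtension.cotangentComplex = τ ^ n • LinearMap.id := by
  rw [basicOpen_subset_smoothLocus_iff']
  haveI : Module.Finite B G.toExtension.Cotangent := Cotangent.finite hfg
  let e := G.equivH1Cotangent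
  constructor
  · rintro ⟨h1, h2⟩
    haveI := h2
    refine exists_split_of_projective_localized τ G.toExtension.cotangentComplex
      G.toExtension.toKaehler G.toExtension.exact_cotangentComplex_toKaehler
      G.toExtension.toKaehler_surjective ?_
    intro x hx
    have hx' : x ∈ LinearMap.ker G.toExtension.cotangentComplex := LinearMap.mem_ker.mpr hx
    let y : G.toExtension.H1Cotangent := ⟨x, hx'⟩
    obtain ⟨r, ⟨k, hk⟩, hr⟩ := LocalizedModule.subsingleton_iff.mp h1 (e y)
    refine ⟨k, ?_⟩
    have hk' : τ ^ k = r := hk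
    have hr' : e (τ ^ k • y) = 0 := by rw [map_smul, hk']; exact hr
    rw [LinearEquiv.map_eq_zero_iff] at hr'
    have := congrArg (fun z : G.toExtension.H1Cotangent => z.1) hr'
    simpa using this
  · rintro ⟨n, χ₀, h⟩
    refine ⟨?_, projective_localized_of_split τ G.toExtension.cotangentComplex
      G.toExtension.toKaehler G.toExtension.exact_cotangentComplex_toKaehler
      G.toExtension.toKaehler_surjective n χ₀ h⟩
    rw [LocalizedModule.subsingleton_iff]
    intro m
    obtain ⟨y, rfl⟩ := e.surjective m
    refine ⟨τ ^ n, ⟨n, rfl⟩, ?_⟩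
    rw [← map_smul, LinearEquiv.map_eq_zero_iff]
    apply Subtype.ext
    have h1 := LinearMap.congr_fun h y.1
    have h2 : G.toExtension.cotangentComplex y.1 = 0 := y.2
    simp only [LinearMap.coe_comp, Function.comp_apply, h2, map_zero, LinearMap.smul_apply,
      LinearMap.id_coe, id_eq] at h1
    exact h1.symm


theorem main [Algebra.FinitePresentation A B] (τ : B) :
    ↑(PrimeSpectrum.basicOpen τ) ⊆ Algebra.smoothLocus A B ↔
    ∃ n₀ : ℕ, ∀ (M : Type u) [AddCommGroup M] [Module B M] [Module.Finite B M],
      ∀ x : CotT.T1 (CotT.canon A B) M, τ ^ n₀ • x = 0 := by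
  let P' := Algebra.Presentation.ofFinitePresentation A B
  have hfg : P'.toGenerators.toExtension.ker.FG := by
    have h1 : P'.toGenerators.toExtension.ker = Ideal.span (Set.range P'.relation) :=
      P'.span_range_relation_eq_ker.symm
    rw [h1]
    exact Submodule.fg_span (Set.finite_range _)
  let F : P'.toGenerators.toExtension.Hom (CotT.canon A B).toGenerators.toExtension :=
    (Algebra.Generators.defaultHom P'.toGenerators (CotT.canon A B).toGenerators).toExtensionHom
  let G : (CotT.canon A B).toGenerators.toExtension.Hom P'.toGenerators.toExtension :=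
    (Algebra.Generators.defaultHom (CotT.canon A B).toGenerators P'.toGenerators).toExtensionHom
  rw [basicOpen_subset_smoothLocus_iff_split P'.toGenerators hfg τ]
  constructor
  · rintro ⟨n, χ₀, h⟩
    refine ⟨n, fun M _ _ _ x => ?_⟩
    refine (smul_T1_eq_zero_iff (CotT.canon A B) M (τ ^ n)).mpr ?_ x
    refine KillsE.of_homs F G M (τ ^ n) ?_
    intro φ
    refine ⟨φ ∘ₗ χ₀, ?_⟩
    rw [LinearMap.comp_assoc, h]
    ext y
    simp
  · rintro ⟨n₀, h⟩
    haveI : Module.Finite B P'.toGenerators.toExtension.Cotangent := Cotangent.finite hfg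
    have hK := (smul_T1_eq_zero_iff (CotT.canon A B) P'.toGenerators.toExtension.Cotangent
      (τ ^ n₀)).mp (h P'.toGenerators.toExtension.Cotangent)
    have hK' := KillsE.of_homs G F _ (τ ^ n₀) hK
    obtain ⟨χ, hχ⟩ := hK' LinearMap.id
    exact ⟨n₀, χ, hχ.symm⟩

end Groth.Agent.Lib.Lead.CotTA4
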