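import Mathlib

/-!
# Pinching: a module with `M = I M` and `B ⊗ M = 0` vanishes when `I ≃ I B` (lead)
-/

set_option autoImplicit false
open TensorProduct

namespace Groth.Agent.Lead.PinchAlg

variable {A B M : Type*} [CommRing A] [CommRing B] [Algebra A B] [AddCommGroup M] [Module A M]

theorem subsingleton_tensor_of_subsingleton_right {R P Q : Type*} [CommRing R] [AddCommGroup P]
    [Module R P] [AddCommGroup Q] [Module R Q] [Subsingleton Q] : Subsingleton (P ⊗[R] Q) := by
  constructor
  intro a b
  have h0 : ∀ z : P ⊗[R] Q, z = 0 := by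
    intro z
    induction z using TensorProduct.induction_on with
    | zero => rfl
    | tmul p q => rw [Subsingleton.elim q 0, tmul_zero]
    | add x y hx hy => rw [hx, hy, add_zero]
  rw [h0 a, h0 b]

theorem subsingleton_of_pinch (I : Ideal A)
    (h1 : RingHom.ker (algebraMap A B) ⊓ I = ⊥)
    (h2 : ∀ a ∈ Ideal.map (algebraMap A B) I, ∃ i ∈ I, algebraMap A B i = a)
    (hM : ∀ m : M, m ∈ I • (⊤ : Submodule A M)) (hB : Subsingleton (B ⊗[A] M)) :
    Subsingleton M := by
  -- the ideal `J = I B` as an `A`-module is isomorphic to `I`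
  let J : Ideal B := Ideal.map (algebraMap A B) I
  let e0 : I →ₗ[A] J :=
    { toFun := fun a => ⟨algebraMap A B a, Ideal.mem_map_of_mem _ a.2⟩
      map_add' := fun a b => by ext; simp
      map_smul' := fun r a => by ext; simp [Algebra.smul_def] }
  have he0 : Function.Bijective e0 := by
    constructor
    · rw [injective_iff_map_eq_zero]
      intro a ha
      have h3 : algebraMap A B a = 0 := congrArg Subtype.val ha
      have h4 : (a : A) ∈ RingHom.ker (algebraMap A B) ⊓ I := ⟨h3, a.2⟩
      rw [h1] at h4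
      exact Subtype.ext h4
    · rintro ⟨b, hb⟩
      obtain ⟨i, hi, rfl⟩ := h2 b hb
      exact ⟨⟨i, hi⟩, rfl⟩
  let e : I ≃ₗ[A] J := LinearEquiv.ofBijective e0 he0
  haveI : Subsingleton (J ⊗[B] (B ⊗[A] M)) := subsingleton_tensor_of_subsingleton_right
  haveI : Subsingleton (J ⊗[A] M) :=
    (AlgebraTensorModule.cancelBaseChange A B B J M).symm.toEquiv.subsingleton
  haveI : Subsingleton (I ⊗[A] M) :=
    (TensorProduct.congr e (LinearEquiv.refl A M)).toEquiv.subsingleton
  let φ : I ⊗[A] M →ₗ[A] M := TensorProduct.lift ((LinearMap.lsmul A M).comp I.subtype)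
  have hφ : ∀ m : M, m ∈ LinearMap.range φ := by
    intro m
    refine Submodule.smul_induction_on (hM m) ?_ ?_
    · intro a ha n _
      exact ⟨(⟨a, ha⟩ : I) ⊗ₜ n, by simp [φ]⟩
    · intro x y hx hy
      exact Submodule.add_mem _ hx hy
  constructor
  intro a b
  obtain ⟨x, rfl⟩ := hφ a
  obtain ⟨y, rfl⟩ := hφ b
  rw [Subsingleton.elim x y]

end Groth.Agent.Lead.PinchAlg
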