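import Mathlib
import Groth.Agent.Lib.Lead.PinchAlg

/-!
# Pinching: finiteness descends (lead)
-/

set_option autoImplicit false
open TensorProduct

namespace Groth.Agent.Lead.PinchAlg

variable {A B M : Type*} [CommRing A] [CommRing B] [Algebra A B] [AddCommGroup M] [Module A M]

/-- finitely many elements `1 ⊗ m` generate a finite base change -/
theorem exists_finset_span_one_tmul (hB : Module.Finite B (B ⊗[A] M)) :
    ∃ T : Finset M, Submodule.span B ((fun m : M => (1 : B) ⊗ₜ[A] m) '' (T : Set M)) = ⊤ := by
  classical
  have h1 : Submodule.span B (Set.range (fun m : M => (1 : B) ⊗ₜ[A] m)) = ⊤ := by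
    rw [eq_top_iff]
    intro z hz
    clear hz
    induction z using TensorProduct.induction_on with
    | zero => exact Submodule.zero_mem _
    | tmul b m =>
      have : b ⊗ₜ[A] m = b • ((1 : B) ⊗ₜ[A] m) := by
        rw [TensorProduct.smul_tmul', smul_eq_mul, mul_one]
      rw [this]
      exact Submodule.smul_mem _ _ (Submodule.subset_span ⟨m, rfl⟩)
    | add x y hx hy => exact Submodule.add_mem _ hx hy
  have h2 : (Submodule.span B (Set.range (fun m : M => (1 : B) ⊗ₜ[A] m))).FG := by
    rw [h1]; exact Module.Finite.fg_top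
  obtain ⟨s', hs', hspan⟩ := (Submodule.fg_span_iff_fg_span_finset_subset _).1 h2
  choose g hg using fun x : s' => hs' x.2
  refine ⟨Finset.univ.image g, ?_⟩
  rw [eq_top_iff, ← h1, hspan]
  apply Submodule.span_mono
  intro x hx
  refine ⟨g ⟨x, hx⟩, ?_, hg ⟨x, hx⟩⟩
  simp

theorem finite_of_pinch (I : Ideal A)
    (h1 : RingHom.ker (algebraMap A B) ⊓ I = ⊥)
    (h2 : ∀ a ∈ Ideal.map (algebraMap A B) I, ∃ i ∈ I, algebraMap A B i = a)
    (hQ : Module.Finite A (M ⧸ (I • (⊤ : Submodule A M))))
    (hB : Module.Finite B (B ⊗[A] M)) : Module.Finite A M := by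
  classical
  obtain ⟨T2, hT2⟩ := exists_finset_span_one_tmul hB
  obtain ⟨T1', hT1'⟩ := (Module.Finite.fg_top : (⊤ : Submodule A (M ⧸ (I • (⊤ : Submodule A M)))).FG)
  choose lift hlift using fun q : M ⧸ (I • (⊤ : Submodule A M)) => Submodule.mkQ_surjective _ q
  let T1 : Finset M := T1'.image lift
  let N : Submodule A M := Submodule.span A ((T1 ∪ T2 : Finset M) : Set M)
  suffices hN : N = ⊤ by
    have : (⊤ : Submodule A M).FG := by rw [← hN]; exact Submodule.fg_span (Finset.finite_toSet _)
    exact ⟨this⟩
  -- the quotient `M ⧸ N` satisfies the hypotheses of the pinching lemma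
  have hsub : Subsingleton (M ⧸ N) := by
    apply subsingleton_of_pinch (B := B) I h1 h2
    · intro q
      obtain ⟨m, rfl⟩ := N.mkQ_surjective q
      -- `m` is congruent modulo `I M` to an element of `N`
      have hm : (I • (⊤ : Submodule A M)).mkQ m ∈ Submodule.span A (T1' : Set _) := by
        rw [hT1']; trivial
      have hm' : (I • (⊤ : Submodule A M)).mkQ m ∈
          Submodule.map (I • (⊤ : Submodule A M)).mkQ N := by
        refine Submodule.span_le.2 ?_ hm
        intro q hq
        refine ⟨lift q, Submodule.subset_span ?_, hlift q⟩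
        simp only [Finset.coe_union, Set.mem_union, Finset.mem_coe]
        left
        exact Finset.mem_image_of_mem lift hq
      obtain ⟨n, hn, hnm⟩ := hm'
      have hd : m - n ∈ I • (⊤ : Submodule A M) := by
        rw [← Submodule.Quotient.mk_eq_zero, Submodule.Quotient.mk_sub]
        have : (Submodule.Quotient.mk n : M ⧸ (I • (⊤ : Submodule A M))) =
            Submodule.Quotient.mk m := hnm
        rw [this, sub_self]
      have h3 : N.mkQ m = N.mkQ (m - n) := by
        have hn0 : N.mkQ n = 0 := (Submodule.Quotient.mk_eq_zero N).2 hn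
        rw [map_sub, hn0, sub_zero]
      rw [h3]
      have h4 := Submodule.mem_map_of_mem (f := N.mkQ) hd
      rw [Submodule.map_smul'', Submodule.map_top, Submodule.range_mkQ] at h4
      exact h4
    · -- `B ⊗ (M ⧸ N) = 0`
      have hsurj : Function.Surjective (N.mkQ.baseChange B) :=
        LinearMap.lTensor_surjective B N.mkQ_surjective
      have hzero : N.mkQ.baseChange B = 0 := by
        apply LinearMap.ext_on hT2
        rintro _ ⟨m, hm, rfl⟩
        rw [LinearMap.baseChange_tmul, LinearMap.zero_apply]
        have : N.mkQ m = 0 := by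
          rw [Submodule.mkQ_apply, Submodule.Quotient.mk_eq_zero]
          apply Submodule.subset_span
          simp only [Finset.coe_union, Set.mem_union, Finset.mem_coe]
          right; exact hm
        rw [this, tmul_zero]
      constructor
      intro a b
      obtain ⟨x, rfl⟩ := hsurj a
      obtain ⟨y, rfl⟩ := hsurj b
      rw [hzero, LinearMap.zero_apply, LinearMap.zero_apply]
  rw [eq_top_iff]
  intro m _
  rw [← Submodule.Quotient.mk_eq_zero]
  exact Subsingleton.elim _ _

end Groth.Agent.Lead.PinchAlg
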