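import Mathlib
import Groth.Prelude.Def_CAlg
import Groth.Agent.Lib.Helper2.Synt.Core
import Groth.Agent.Lib.Helper8.LD12

/-!
# In a Cohen–Macaulay local ring, `c` elements generating an ideal of height `≥ c` form a
regular sequence (lead)
-/

set_option autoImplicit false
set_option linter.style.haveILetI false
set_option linter.unusedSectionVars false
universe u

namespace Groth.Agent.Lead.KoszCM

open RingTheory.Sequence LocCoh IsLocalRing

theorem encard_setOf_mem_le {A : Type*} (xs : List A) : {x | x ∈ xs}.encard ≤ (xs.length : ℕ∞) := by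
  classical
  have h1 : {x | x ∈ xs} = (xs.toFinset : Set A) := by
    ext x; simp
  rw [h1, Set.encard_coe_eq_coe_finsetCard]
  exact_mod_cast List.toFinset_card_le xs

theorem isRegular_of_height_ge (A : Type u) [CommRing A] [IsCohenMacaulayLocalRing A] (xs : List A)
    (hne : Ideal.ofList xs ≠ ⊤) (hht : (xs.length : ℕ∞) ≤ (Ideal.ofList xs).height) :
    IsRegular A xs := by
  have hle : Ideal.ofList xs ≤ maximalIdeal A := IsLocalRing.le_maximalIdeal hne
  have hxs : ∀ x ∈ xs, x ∈ maximalIdeal A := fun x hx => hle (Ideal.subset_span hx)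
  apply Groth.Agent.Helper2.Synt.isRegular_of_dim_add_length A xs hxs
  have h1 := Groth.Agent.Helper8.LD.cm_height_add_dim_quotient_ideal A (Ideal.ofList xs) hne
  have hjac : {x | x ∈ xs} ⊆ (Ring.jacobson A : Set A) := by
    intro x hx
    rw [IsLocalRing.ringJacobson_eq_maximalIdeal]
    exact hxs x hx
  have h2 : ringKrullDim A ≤ ringKrullDim (A ⧸ Ideal.ofList xs) + ({x | x ∈ xs}.encard : ℕ∞) :=
    ringKrullDim_le_ringKrullDim_quotient_add_encard {x | x ∈ xs} hjac
  haveI : Nontrivial (A ⧸ Ideal.ofList xs) := Ideal.Quotient.nontrivial_iff.mpr hne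
  obtain ⟨e, he⟩ : ∃ e : ℕ∞, ringKrullDim (A ⧸ Ideal.ofList xs) = (e : WithBot ℕ∞) := by
    have := ringKrullDim_nonneg_of_nontrivial (R := A ⧸ Ideal.ofList xs)
    obtain ⟨a, ha⟩ := WithBot.ne_bot_iff_exists.mp (ne_bot_of_le_ne_bot (by simp) this)
    exact ⟨a, ha.symm⟩
  obtain ⟨d, hd⟩ : ∃ d : ℕ, ringKrullDim A = ((d : ℕ∞) : WithBot ℕ∞) := by
    have hbot : ringKrullDim A ≠ ⊥ := ringKrullDim_ne_bot
    have htop : ringKrullDim A ≠ ⊤ := ringKrullDim_ne_top
    obtain ⟨a, ha⟩ := WithBot.ne_bot_iff_exists.mp hbot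
    have : a ≠ ⊤ := by
      rintro rfl
      exact htop ha.symm
    obtain ⟨d, rfl⟩ := ENat.ne_top_iff_exists.mp this
    exact ⟨d, ha.symm⟩
  rw [he, hd] at h1 h2
  rw [he, hd]
  have h1' : (Ideal.ofList xs).height + e = (d : ℕ∞) := by exact_mod_cast h1
  have h2' : (d : ℕ∞) ≤ e + ({x | x ∈ xs}.encard : ℕ∞) := by exact_mod_cast h2
  have h3 := encard_setOf_mem_le xs
  have he' : e ≠ ⊤ := by
    rintro rfl
    simp at h1'
  have hh' : (Ideal.ofList xs).height ≠ ⊤ := by
    intro h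
    rw [h] at h1'
    simp at h1'
  obtain ⟨en, rfl⟩ := ENat.ne_top_iff_exists.mp he'
  obtain ⟨hn, hhn⟩ := ENat.ne_top_iff_exists.mp hh'
  rw [← hhn] at h1' hht
  have h4 : (d : ℕ∞) ≤ (en : ℕ∞) + (xs.length : ℕ∞) := h2'.trans (by gcongr)
  have a1 : hn + en = d := by exact_mod_cast h1'
  have a2 : d ≤ en + xs.length := by exact_mod_cast h4
  have a3 : xs.length ≤ hn := by exact_mod_cast hht
  have a4 : en + xs.length = d := by omega
  exact_mod_cast a4

end Groth.Agent.Lead.KoszCM
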