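import Mathlib
import Groth.Prelude.Def_HilbD

/-!
# Basic API for the Hilbert functor of points `HilbD` (lead)
-/

set_option backward.isDefEq.respectTransparency.types false
set_option synthInstance.maxHeartbeats 400000
set_option autoImplicit false
set_option linter.unusedSectionVars false
set_option linter.style.haveILetI false

universe u
open CategoryTheory CategoryTheory.Limits AlgebraicGeometry

namespace Groth.Agent.Lead.HilbAPI

variable {X S : Scheme.{u}} (f : X ⟶ S)

/-- the pullback of ideals in the Hilbert functor is `comap` along the base change map -/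
theorem pull_eq_comap {T T' : Over S} (m : T' ⟶ T) (I : (PicF.XT f T).IdealSheafData) :
    HilbD.pull f m I = I.comap (PicF.XTmap f m) := by
  unfold HilbD.pull Scheme.IdealSheafData.comap
  rw [← pullbackSymmetry_hom_comp_fst, Scheme.Hom.ker_comp_of_isIso]

theorem XTmap_fst {T T' : Over S} (m : T' ⟶ T) :
    PicF.XTmap f m ≫ pullback.fst f T.hom = pullback.fst f T'.hom := by
  unfold PicF.XTmap
  rw [pullback.lift_fst, Category.comp_id]

theorem XTmap_snd {T T' : Over S} (m : T' ⟶ T) :
    PicF.XTmap f m ≫ pullback.snd f T.hom = pullback.snd f T'.hom ≫ m.left := by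
  unfold PicF.XTmap
  rw [pullback.lift_snd]

/-- the base change maps between the `X_T` are base changes of the maps between the `T` -/
theorem isPullback_XTmap {T T' : Over S} (m : T' ⟶ T) :
    IsPullback (PicF.XTmap f m) (PicF.XTproj f T') (PicF.XTproj f T) m.left := by
  refine IsPullback.of_right (h₁₂ := pullback.fst f T.hom) (h₂₂ := T.hom) (v₁₃ := f) ?_
    (XTmap_snd f m) (IsPullback.of_hasPullback f T.hom)
  rw [XTmap_fst, Over.w m]
  exact IsPullback.of_hasPullback f T'.hom

theorem XTmap_comp {T T' T'' : Over S} (m : T'' ⟶ T') (m' : T' ⟶ T) :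
    PicF.XTmap f (m ≫ m') = PicF.XTmap f m ≫ PicF.XTmap f m' := by
  apply pullback.hom_ext
  · rw [Category.assoc, XTmap_fst, XTmap_fst, XTmap_fst]
  · rw [Category.assoc, XTmap_snd, XTmap_snd, ← Category.assoc, XTmap_snd, Category.assoc]
    rfl

theorem pull_comp {T T' T'' : Over S} (m : T'' ⟶ T') (m' : T' ⟶ T)
    (I : (PicF.XT f T).IdealSheafData) :
    HilbD.pull f (m ≫ m') I = HilbD.pull f m (HilbD.pull f m' I) := by
  rw [pull_eq_comap, pull_eq_comap, pull_eq_comap, XTmap_comp, Scheme.IdealSheafData.comap_comp]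

/-- membership in the Hilbert functor is stable under pullback -/
theorem pull_isFinLocFreeOfDeg {T T' : Over S} (m : T' ⟶ T) (d : ℕ)
    (I : (PicF.XT f T).IdealSheafData)
    (hI : Mor2.IsFinLocFreeOfDeg d (I.subschemeι ≫ PicF.XTproj f T)) :
    Mor2.IsFinLocFreeOfDeg d ((HilbD.pull f m I).subschemeι ≫ PicF.XTproj f T') := by
  rw [pull_eq_comap]
  obtain ⟨⟨h1, h2, h3⟩, h4⟩ := hI
  haveI := h1
  haveI := h2
  haveI := h3
  have sq : IsPullback (pullback.snd (PicF.XTmap f m) I.subschemeι)
      (pullback.fst (PicF.XTmap f m) I.subschemeι ≫ PicF.XTproj f T')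
      (I.subschemeι ≫ PicF.XTproj f T) m.left :=
    (IsPullback.of_hasPullback (PicF.XTmap f m) I.subschemeι).flip.paste_vert
      (isPullback_XTmap f m)
  have e1 : (I.comap (PicF.XTmap f m)).subschemeι ≫ PicF.XTproj f T' =
      (I.comapIso (PicF.XTmap f m)).hom ≫
        (pullback.fst (PicF.XTmap f m) I.subschemeι ≫ PicF.XTproj f T') := by
    rw [← Category.assoc, Scheme.IdealSheafData.comapIso_hom_fst]
  haveI : IsFinite (pullback.fst (PicF.XTmap f m) I.subschemeι ≫ PicF.XTproj f T') :=
    MorphismProperty.of_isPullback (P := @IsFinite) sq h1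
  haveI : Flat (pullback.fst (PicF.XTmap f m) I.subschemeι ≫ PicF.XTproj f T') :=
    MorphismProperty.of_isPullback (P := @Flat) sq h2
  haveI : LocallyOfFinitePresentation
      (pullback.fst (PicF.XTmap f m) I.subschemeι ≫ PicF.XTproj f T') :=
    MorphismProperty.of_isPullback (P := @LocallyOfFinitePresentation) sq h3
  rw [e1]
  refine ⟨⟨inferInstance, inferInstance, inferInstance⟩, fun y => ?_⟩
  rw [Scheme.Hom.finrank_comp_left_of_isIso,
    Scheme.Hom.finrank_of_isPullback _ _ _ _ sq y]
  exact h4 _

end Groth.Agent.Lead.HilbAPI
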