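import Mathlib
import Groth.Prelude.Def_Koszul
import Groth.Prelude.Def_LCI2
import Groth.Prelude.Def_CAlgX
import Groth.Prelude.Def_RegImm

set_option autoImplicit false
universe u
open CategoryTheory CategoryTheory.Limits CochainComplex CochainComplex.HomComplex

namespace Groth.Agent.Lead.KosH1

variable {A : Type u} [CommRing A]

section cone

variable {F G : CochainComplex (ModuleCat.{u} A) ℤ} (φ : F ⟶ G)

noncomputable def fstE (p q : ℤ) (h : p + 1 = q) : (mappingCone φ).X p →ₗ[A] F.X q :=
  ((mappingCone.fst φ).1.v p q h).hom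

noncomputable def sndE (p : ℤ) : (mappingCone φ).X p →ₗ[A] G.X p :=
  ((mappingCone.snd φ).v p p (add_zero p)).hom

noncomputable def inlE (p q : ℤ) (h : p + 1 = q) : F.X q →ₗ[A] (mappingCone φ).X p :=
  ((mappingCone.inl φ).v q p (by omega)).hom

noncomputable def inrE (p : ℤ) : G.X p →ₗ[A] (mappingCone φ).X p :=
  ((mappingCone.inr φ).f p).hom

theorem fstE_inlE (p q : ℤ) (h : p + 1 = q) (x : F.X q) : fstE φ p q h (inlE φ p q h x) = x := by
  have := mappingCone.inl_v_fst_v φ q p h
  exact congrArg (fun g => g.hom x) this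

theorem sndE_inlE (p q : ℤ) (h : p + 1 = q) (x : F.X q) : sndE φ p (inlE φ p q h x) = 0 := by
  have := mappingCone.inl_v_snd_v φ q p (by omega)
  exact congrArg (fun g => g.hom x) this

theorem fstE_inrE (p q : ℤ) (h : p + 1 = q) (y : G.X p) : fstE φ p q h (inrE φ p y) = 0 := by
  have := mappingCone.inr_f_fst_v φ p q h
  exact congrArg (fun g => g.hom y) this

theorem sndE_inrE (p : ℤ) (y : G.X p) : sndE φ p (inrE φ p y) = y := by
  have := mappingCone.inr_f_snd_v φ p
  exact congrArg (fun g => g.hom y) this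

theorem eq_inlE_add_inrE (p q : ℤ) (h : p + 1 = q) (z : (mappingCone φ).X p) :
    z = inlE φ p q h (fstE φ p q h z) + inrE φ p (sndE φ p z) := by
  have := mappingCone.id_X φ p q h
  exact (congrArg (fun g => g.hom z) this).symm

theorem fstE_d (p q r : ℤ) (hpq : p + 1 = q) (hqr : q + 1 = r) (z : (mappingCone φ).X p) :
    fstE φ q r hqr (((mappingCone φ).d p q).hom z) = - (F.d q r).hom (fstE φ p q hpq z) := by
  have := mappingCone.d_fst_v φ p q r hpq hqr
  exact congrArg (fun g => g.hom z) this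

theorem sndE_d (p q : ℤ) (hpq : p + 1 = q) (z : (mappingCone φ).X p) :
    sndE φ q (((mappingCone φ).d p q).hom z) =
      (φ.f q).hom (fstE φ p q hpq z) + (G.d p q).hom (sndE φ p z) := by
  have := mappingCone.d_snd_v φ p q hpq
  exact congrArg (fun g => g.hom z) this

end cone

section main

/-- span of the trivial relations -/
def T {c : ℕ} (f : Fin c → A) : Submodule A (Fin c → A) :=
  Submodule.span A {v : Fin c → A | ∃ i j : Fin c, v = Pi.single i (f j) - Pi.single j (f i)}

theorem subsingleton_pos (l : List A) : ∀ (q : ℤ), 0 < q → Subsingleton ((Koszul.koszul A l).X q) := by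
  induction l with
  | nil =>
    intro q hq
    have hz : IsZero ((Koszul.koszul A ([] : List A)).X q) :=
      HomologicalComplex.isZero_single_obj_X _ _ _ _ (by omega)
    exact ModuleCat.subsingleton_of_isZero hz
  | cons f l ih =>
    intro q hq
    haveI := ih q hq
    haveI := ih (q + 1) (by omega)
    refine ⟨fun z w => ?_⟩
    change (mappingCone (f • 𝟙 (Koszul.koszul A l))).X q at z w
    rw [eq_inlE_add_inrE (f • 𝟙 (Koszul.koszul A l)) q (q + 1) rfl z,
      eq_inlE_add_inrE (f • 𝟙 (Koszul.koszul A l)) q (q + 1) rfl w]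
    congr 2 <;> exact Subsingleton.elim _ _

/-- the data carried through the induction -/
structure Data (l : List A) where
  ε : (Koszul.koszul A l).X 0 ≃ₗ[A] A
  θ : (Fin l.length → A) →ₗ[A] (Koszul.koszul A l).X (-1)
  θ_surj : Function.Surjective θ
  εd : ∀ a, ε (((Koszul.koszul A l).d (-1) 0).hom (θ a)) = ∑ i, a i * l.get i
  bd : ∀ a, θ a ∈ LinearMap.range ((Koszul.koszul A l).d (-2) (-1)).hom → a ∈ T l.get

noncomputable def dataNil : Data ([] : List A) where
  ε := (HomologicalComplex.singleObjXSelf (ComplexShape.up ℤ) 0 (ModuleCat.of A A)).toLinearEquiv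
  θ := 0
  θ_surj := by
    intro z
    have hz : IsZero ((Koszul.koszul A ([] : List A)).X (-1)) :=
      HomologicalComplex.isZero_single_obj_X _ _ _ _ (by omega)
    haveI := ModuleCat.subsingleton_of_isZero hz
    exact ⟨0, Subsingleton.elim _ _⟩
  εd := by
    intro a
    have h1 : ((Koszul.koszul A ([] : List A)).d (-1) 0).hom
        ((0 : (Fin ([] : List A).length → A) →ₗ[A] (Koszul.koszul A ([] : List A)).X (-1)) a) = 0 := by
      rw [LinearMap.zero_apply, map_zero]
    refine (congrArg _ h1).trans ((LinearEquiv.map_zero _).trans ?_)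
    exact (Finset.sum_eq_zero (fun i _ => i.elim0)).symm
  bd := by
    intro a _
    have : a = 0 := by
      funext i
      exact i.elim0
    rw [this]
    exact Submodule.zero_mem _

section consStep

variable (f : A) (l : List A)

/-- extension by zero at index `0` -/
def ext0 (n : ℕ) : (Fin n → A) →ₗ[A] (Fin (n + 1) → A) where
  toFun t := fun j => Fin.cases 0 t j
  map_add' s t := by
    funext j
    refine Fin.cases ?_ (fun i => ?_) j
    · simp
    · simp
  map_smul' r t := by
    funext j
    refine Fin.cases ?_ (fun i => ?_) j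
    · simp
    · simp

theorem ext0_zero (n : ℕ) (t : Fin n → A) : ext0 n t 0 = 0 := rfl

theorem ext0_succ (n : ℕ) (t : Fin n → A) (i : Fin n) : ext0 n t i.succ = t i := rfl

theorem ext0_single (n : ℕ) (i : Fin n) (x : A) :
    ext0 n (Pi.single i x) = Pi.single i.succ x := by
  funext j
  refine Fin.cases ?_ (fun k => ?_) j
  · rw [ext0_zero, Pi.single_apply, if_neg (Fin.succ_ne_zero i).symm]
  · rw [ext0_succ, Pi.single_apply, Pi.single_apply]
    simp only [Fin.succ_inj]

theorem ext0_mem_T (t : Fin l.length → A) (ht : t ∈ T l.get) :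
    ext0 l.length t ∈ T (f :: l).get := by
  have h : T l.get ≤ (T (f :: l).get).comap (ext0 l.length) := by
    unfold T
    rw [Submodule.span_le]
    rintro v ⟨i, j, rfl⟩
    rw [SetLike.mem_coe, Submodule.mem_comap, map_sub, ext0_single, ext0_single]
    exact Submodule.subset_span ⟨i.succ, j.succ, rfl⟩
  exact h ht

theorem sndE_zero_bijective :
    Function.Bijective (sndE (f • 𝟙 (Koszul.koszul A l)) 0) := by
  haveI := subsingleton_pos l 1 one_pos
  constructor
  · rw [injective_iff_map_eq_zero]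
    intro z hz
    rw [eq_inlE_add_inrE (f • 𝟙 (Koszul.koszul A l)) 0 1 rfl z, hz, map_zero, add_zero,
      Subsingleton.elim (fstE (f • 𝟙 (Koszul.koszul A l)) 0 1 rfl z) 0, map_zero]
  · intro y
    exact ⟨inrE _ 0 y, sndE_inrE _ 0 y⟩

variable (D : Data l)

noncomputable def εC : (Koszul.koszul A (f :: l)).X 0 ≃ₗ[A] A :=
  (LinearEquiv.ofBijective (sndE (f • 𝟙 (Koszul.koszul A l)) 0) (sndE_zero_bijective f l)) ≪≫ₗ D.ε

noncomputable def θC : (Fin (l.length + 1) → A) →ₗ[A] (Koszul.koszul A (f :: l)).X (-1) :=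
  (inlE (f • 𝟙 (Koszul.koszul A l)) (-1) 0 (by norm_num)) ∘ₗ D.ε.symm.toLinearMap ∘ₗ
      (LinearMap.proj (0 : Fin (l.length + 1))) +
    (inrE (f • 𝟙 (Koszul.koszul A l)) (-1)) ∘ₗ D.θ ∘ₗ (LinearMap.funLeft A A Fin.succ)

theorem θC_apply (a : Fin (l.length + 1) → A) :
    θC f l D a = inlE (f • 𝟙 (Koszul.koszul A l)) (-1) 0 (by norm_num) (D.ε.symm (a 0)) +
      inrE (f • 𝟙 (Koszul.koszul A l)) (-1) (D.θ (fun i => a i.succ)) := rfl

theorem fstE_θC (a : Fin (l.length + 1) → A) :
    fstE (f • 𝟙 (Koszul.koszul A l)) (-1) 0 (by norm_num) (θC f l D a) = D.ε.symm (a 0) := by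
  rw [θC_apply, map_add, fstE_inlE, fstE_inrE, add_zero]

theorem sndE_θC (a : Fin (l.length + 1) → A) :
    sndE (f • 𝟙 (Koszul.koszul A l)) (-1) (θC f l D a) = D.θ (fun i => a i.succ) := by
  rw [θC_apply, map_add, sndE_inlE, sndE_inrE, zero_add]

theorem θC_surj : Function.Surjective (θC f l D) := by
  intro z
  change (mappingCone (f • 𝟙 (Koszul.koszul A l))).X (-1) at z
  obtain ⟨a, ha⟩ := D.θ_surj (sndE (f • 𝟙 (Koszul.koszul A l)) (-1) z)
  refine ⟨Fin.cons (D.ε (fstE (f • 𝟙 (Koszul.koszul A l)) (-1) 0 (by norm_num) z)) a, ?_⟩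
  rw [θC_apply]
  simp only [Fin.cons_zero, Fin.cons_succ, LinearEquiv.symm_apply_apply]
  rw [ha]
  exact (eq_inlE_add_inrE (f • 𝟙 (Koszul.koszul A l)) (-1) 0 (by norm_num) z).symm

theorem εC_apply (z : (Koszul.koszul A (f :: l)).X 0) :
    εC f l D z = D.ε (sndE (f • 𝟙 (Koszul.koszul A l)) 0 z) := rfl

theorem εdC (a : Fin (l.length + 1) → A) :
    εC f l D (((Koszul.koszul A (f :: l)).d (-1) 0).hom (θC f l D a)) =
      ∑ i : Fin (l.length + 1), a i * (f :: l).get i := by
  rw [εC_apply]
  have h1 := sndE_d (f • 𝟙 (Koszul.koszul A l)) (-1) 0 (by norm_num) (θC f l D a)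
  have h2 : sndE (f • 𝟙 (Koszul.koszul A l)) 0
      (((Koszul.koszul A (f :: l)).d (-1) 0).hom (θC f l D a)) =
      f • D.ε.symm (a 0) + ((Koszul.koszul A l).d (-1) 0).hom (D.θ (fun i => a i.succ)) := by
    refine h1.trans ?_
    rw [fstE_θC, sndE_θC]
    rfl
  rw [h2, map_add, map_smul, LinearEquiv.apply_symm_apply, D.εd, Fin.sum_univ_succ]
  congr 1
  rw [smul_eq_mul, mul_comm]
  rfl

theorem bdC (a : Fin (l.length + 1) → A)
    (ha : θC f l D a ∈ LinearMap.range ((Koszul.koszul A (f :: l)).d (-2) (-1)).hom) :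
    a ∈ T (f :: l).get := by
  obtain ⟨w, hw⟩ := ha
  change (mappingCone (f • 𝟙 (Koszul.koszul A l))).X (-2) at w
  set x := fstE (f • 𝟙 (Koszul.koszul A l)) (-2) (-1) (by norm_num) w with hx
  set y := sndE (f • 𝟙 (Koszul.koszul A l)) (-2) w with hy
  have h1 := fstE_d (f • 𝟙 (Koszul.koszul A l)) (-2) (-1) 0 (by norm_num) (by norm_num) w
  have h2 := sndE_d (f • 𝟙 (Koszul.koszul A l)) (-2) (-1) (by norm_num) w
  have e1 : D.ε.symm (a 0) = - ((Koszul.koszul A l).d (-1) 0).hom x := by
    rw [← fstE_θC f l D a, ← hw]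
    exact h1
  have e2 : D.θ (fun i => a i.succ) = f • x + ((Koszul.koszul A l).d (-2) (-1)).hom y := by
    rw [← sndE_θC f l D a, ← hw]
    exact h2
  obtain ⟨c, hc⟩ := D.θ_surj x
  have e3 : a 0 = - ∑ i, c i * l.get i := by
    have := congrArg D.ε e1
    rw [LinearEquiv.apply_symm_apply, map_neg, ← hc, D.εd] at this
    exact this
  have e4 : (fun i => a i.succ) - f • c ∈ T l.get := by
    apply D.bd
    rw [map_sub, map_smul, hc, e2, add_sub_cancel_left]
    exact ⟨y, rfl⟩
  have e5 : a = (∑ i, c i • (Pi.single i.succ ((f :: l).get 0) - Pi.single 0 ((f :: l).get i.succ) :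
      Fin (l.length + 1) → A)) + ext0 l.length ((fun i => a i.succ) - f • c) := by
    funext j
    refine Fin.cases ?_ (fun k => ?_) j
    · rw [Pi.add_apply, ext0_zero, add_zero, Finset.sum_apply, e3, ← Finset.sum_neg_distrib]
      refine Finset.sum_congr rfl (fun i _ => ?_)
      rw [Pi.smul_apply, Pi.sub_apply, Pi.single_apply, if_neg (Fin.succ_ne_zero i).symm,
        Pi.single_apply, if_pos rfl, smul_eq_mul, zero_sub, mul_neg]
      rfl
    · rw [Pi.add_apply, ext0_succ, Finset.sum_apply, Pi.sub_apply, Pi.smul_apply]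
      have : ∑ i, (c i • (Pi.single i.succ ((f :: l).get 0) - Pi.single 0 ((f :: l).get i.succ) :
          Fin (l.length + 1) → A)) k.succ = f • c k := by
        rw [Finset.sum_eq_single k]
        · rw [Pi.smul_apply, Pi.sub_apply, Pi.single_apply, if_pos rfl, Pi.single_apply,
            if_neg (Fin.succ_ne_zero k), sub_zero, smul_eq_mul, smul_eq_mul, mul_comm]
          rfl
        · intro i _ hik
          rw [Pi.smul_apply, Pi.sub_apply, Pi.single_apply, if_neg (by
            intro h
            exact hik (Fin.succ_injective _ h).symm), Pi.single_apply,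
            if_neg (Fin.succ_ne_zero k), sub_zero, smul_zero]
        · intro h
          exact absurd (Finset.mem_univ k) h
      rw [this]
      ring
  rw [e5]
  refine Submodule.add_mem _ (Submodule.sum_mem _ (fun i _ => Submodule.smul_mem _ _ ?_))
    (ext0_mem_T f l _ e4)
  exact Submodule.subset_span ⟨i.succ, 0, rfl⟩

noncomputable def dataCons : Data (f :: l) where
  ε := εC f l D
  θ := θC f l D
  θ_surj := θC_surj f l D
  εd := εdC f l D
  bd := bdC f l D

end consStep

theorem nonempty_data : ∀ l : List A, Nonempty (Data l) := by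
  intro l
  induction l with
  | nil => exact ⟨dataNil⟩
  | cons f l ih =>
    obtain ⟨D⟩ := ih
    exact ⟨dataCons f l D⟩

/-- **a Koszul-regular sequence is `H_1`-regular** (only `H^{-1} = 0` is used). -/
theorem isH1Regular_of_homology_isZero (l : List A)
    (h : IsZero ((Koszul.koszul A l).homology (-1))) : CAlgX.IsH1Regular l.get := by
  obtain ⟨D⟩ := nonempty_data l
  have hex : Function.Exact ((Koszul.koszul A l).d (-2) (-1)).hom
      ((Koszul.koszul A l).d (-1) 0).hom := by
    rw [← HomologicalComplex.exactAt_iff_isZero_homology,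
      HomologicalComplex.exactAt_iff' (Koszul.koszul A l) (-2) (-1) 0 (by simp) (by simp),
      ShortComplex.ShortExact.moduleCat_exact_iff_function_exact] at h
    exact h
  intro a ha
  apply D.bd
  have h0 : ((Koszul.koszul A l).d (-1) 0).hom (D.θ a) = 0 := by
    apply D.ε.injective
    rw [D.εd, ha, map_zero]
  exact (hex _).1 h0

theorem isH1Regular_of_koszul (l : List A) (h : LCI.IsKoszulRegularSeq A l) :
    CAlgX.IsH1Regular l.get :=
  isH1Regular_of_homology_isZero l (h (-1) (by norm_num))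

end main

section scheme

open AlgebraicGeometry

theorem isRegularImmersion_h1_of_koszul {Z X : Scheme.{u}} (i : Z ⟶ X)
    (h : RegImm.IsRegularImmersion RegImm.Kind.koszul i) :
    RegImm.IsRegularImmersion RegImm.Kind.h1 i := by
  refine ⟨h.1, fun z => ?_⟩
  obtain ⟨U, hz, hcl, rs, hseq, hker⟩ := h.2 z
  exact ⟨U, hz, hcl, rs, isH1Regular_of_koszul rs hseq, hker⟩

end scheme


end Groth.Agent.Lead.KosH1
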