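import Mathlib
import Groth.Agent.Lib.Lead.MP1
import Groth.Agent.Lib.Lead.Blow4

set_option autoImplicit false
set_option backward.isDefEq.respectTransparency.types false
set_option synthInstance.maxHeartbeats 400000
set_option linter.style.haveILetI false
set_option linter.unusedSectionVars false

universe u
open CategoryTheory CategoryTheory.Limits AlgebraicGeometry TopologicalSpace Opposite

namespace Groth.Agent.Lead.MP
open Groth.Agent.Helper4

/-- a locally principal ideal sheaf is of finite type. -/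
theorem fg_of_locPrincipal {Y : Scheme.{u}} {𝓔 : Y.IdealSheafData} (h : LocPrincipal 𝓔)
    (U : Y.affineOpens) : (𝓔.ideal U).FG := by
  have : ∀ x : U.1, ∃ (V : Y.affineOpens) (a : Γ(Y, V.1)) (r : Γ(Y, U.1)) (rV : Γ(Y, V.1)),
      𝓔.ideal V = Ideal.span {a} ∧ Y.basicOpen r = Y.basicOpen rV ∧ x.1 ∈ Y.basicOpen r := by
    intro ⟨x, hxU⟩
    obtain ⟨V, hxV, a, ha⟩ := h x
    obtain ⟨r, rV, e, hx⟩ := exists_basicOpen_le_affine_inter U.2 V.2 x ⟨hxU, hxV⟩
    exact ⟨V, a, r, rV, ha, e, hx⟩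
  choose V a r rV ha e hxr using this
  have hspan : Ideal.span (Set.range r) = ⊤ := by
    rw [← U.2.self_le_iSup_basicOpen_iff]
    exact fun x hxU ↦ TopologicalSpace.Opens.mem_iSup.mpr ⟨⟨_, _, rfl⟩, hxr ⟨x, hxU⟩⟩
  apply Ideal.fg_of_localizationSpan (Set.range r) hspan
  rintro ⟨_, x, rfl⟩
  have inst := U.2.isLocalization_basicOpen (r x)
  let eqv := IsLocalization.algEquiv (Submonoid.powers (r x)) Γ(Y, Y.basicOpen (r x))
    (Localization.Away (r x))
  have hcomp : (eqv : Γ(Y, Y.basicOpen (r x)) →+* Localization.Away (r x)).comp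
      (algebraMap Γ(Y, U.1) Γ(Y, Y.basicOpen (r x))) =
      algebraMap Γ(Y, U.1) (Localization.Away (r x)) := by
    ext y
    exact eqv.commutes y
  have hle : Y.basicOpen (r x) ≤ (V x).1 := by
    rw [e x]
    exact Y.basicOpen_le _
  have h1 : ((𝓔.ideal U).map (algebraMap Γ(Y, U.1) Γ(Y, Y.basicOpen (r x)))).FG := by
    have h2 : (𝓔.ideal U).map (algebraMap Γ(Y, U.1) Γ(Y, Y.basicOpen (r x))) =
        𝓔.ideal (Y.affineBasicOpen (r x)) := 𝓔.map_ideal_basicOpen U (r x)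
    rw [h2, ← 𝓔.map_ideal (U := Y.affineBasicOpen (r x)) (V := V x) hle, ha x, Ideal.map_span,
      Set.image_singleton]
    exact ⟨{(Y.presheaf.map (homOfLE hle).op).hom (a x)}, by rw [Finset.coe_singleton]; rfl⟩
  rw [← hcomp, ← Ideal.map_map]
  exact h1.map _

/-- colon ideals by finitely generated ideals commute with localization away from an element. -/
theorem colon_map_away {R R' : Type*} [CommRing R] [CommRing R'] [Algebra R R'] (f : R)
    [IsLocalization.Away f R'] (A E : Ideal R) (hE : E.FG) :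
    (A.colon (E : Set R)).map (algebraMap R R') =
      (A.map (algebraMap R R')).colon ((E.map (algebraMap R R') : Ideal R') : Set R') := by
  classical
  apply le_antisymm
  · rw [Ideal.map_le_iff_le_comap]
    intro x hx
    rw [Ideal.mem_comap]
    change algebraMap R R' x ∈ (A.map (algebraMap R R')).colon
      ((Ideal.span (algebraMap R R' '' (E : Set R)) : Ideal R') : Set R')
    rw [Ideal.colon_span, Submodule.mem_colon]
    rintro _ ⟨e, he, rfl⟩
    rw [smul_eq_mul, ← map_mul]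
    apply Ideal.mem_map_of_mem
    have := Submodule.mem_colon.mp hx e he
    rwa [smul_eq_mul] at this
  · intro y hy
    obtain ⟨⟨x, s⟩, hxs⟩ := IsLocalization.surj (Submonoid.powers f) y
    dsimp only at hxs
    have key : ∀ e ∈ E, ∃ m : ℕ, f ^ m * x * e ∈ A := by
      intro e he
      have h1 : algebraMap R R' (x * e) ∈ A.map (algebraMap R R') := by
        rw [map_mul, ← hxs, mul_assoc, mul_comm (algebraMap R R' s), ← mul_assoc]
        apply Ideal.mul_mem_right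
        have := Submodule.mem_colon.mp hy (algebraMap R R' e) (Ideal.mem_map_of_mem _ he)
        rwa [smul_eq_mul] at this
      rw [IsLocalization.mem_map_algebraMap_iff (Submonoid.powers f)] at h1
      obtain ⟨⟨⟨a, ha⟩, ⟨_, n, rfl⟩⟩, h2⟩ := h1
      dsimp only at h2
      rw [← map_mul, IsLocalization.eq_iff_exists (Submonoid.powers f)] at h2
      obtain ⟨⟨_, c, rfl⟩, h3⟩ := h2
      dsimp only at h3
      refine ⟨c + n, ?_⟩
      have : f ^ (c + n) * x * e = f ^ c * (x * e * f ^ n) := by ring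
      rw [this, h3]
      exact A.mul_mem_left _ ha
    obtain ⟨t, ht⟩ := hE
    have key2 : ∀ t' : Finset R, (∀ e ∈ t', e ∈ E) → ∃ m : ℕ, ∀ e ∈ t', f ^ m * x * e ∈ A := by
      intro t'
      induction t' using Finset.induction_on with
      | empty => intro _; exact ⟨0, fun e he => absurd he (Finset.notMem_empty e)⟩
      | insert b t' hb ih =>
        intro hmem
        obtain ⟨m₁, hm₁⟩ := ih (fun e he => hmem e (Finset.mem_insert_of_mem he))
        obtain ⟨m₂, hm₂⟩ := key b (hmem b (Finset.mem_insert_self b t'))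
        refine ⟨m₁ + m₂, ?_⟩
        intro e he
        rcases Finset.mem_insert.mp he with rfl | he
        · have : f ^ (m₁ + m₂) * x * e = f ^ m₁ * (f ^ m₂ * x * e) := by ring
          rw [this]
          exact A.mul_mem_left _ hm₂
        · have : f ^ (m₁ + m₂) * x * e = f ^ m₂ * (f ^ m₁ * x * e) := by ring
          rw [this]
          exact A.mul_mem_left _ (hm₁ e he)
    obtain ⟨m, hm⟩ := key2 t (fun e he => by rw [← ht]; exact Ideal.subset_span he)
    have hcol : f ^ m * x ∈ A.colon (E : Set R) := by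
      rw [← ht, Ideal.colon_span, Submodule.mem_colon]
      intro e he
      rw [smul_eq_mul]
      exact hm e he
    rw [IsLocalization.mem_map_algebraMap_iff (Submonoid.powers f)]
    refine ⟨⟨⟨f ^ m * x, hcol⟩, s * ⟨f ^ m, m, rfl⟩⟩, ?_⟩
    dsimp only
    rw [Submonoid.coe_mul, map_mul, ← mul_assoc, hxs, map_mul, mul_comm]

/-- the colon ideal sheaf `(𝓐 : 𝓔)` for `𝓔` of finite type. -/
noncomputable def colonSheaf {Y : Scheme.{u}} (𝓐 𝓔 : Y.IdealSheafData)
    (hE : ∀ U : Y.affineOpens, (𝓔.ideal U).FG) : Y.IdealSheafData where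
  ideal U := (𝓐.ideal U).colon ((𝓔.ideal U : Ideal Γ(Y, U.1)) : Set Γ(Y, U.1))
  map_ideal_basicOpen U f := by
    have inst := U.2.isLocalization_basicOpen f
    have := colon_map_away (R' := Γ(Y, Y.basicOpen f)) f (𝓐.ideal U) (𝓔.ideal U) (hE U)
    rw [← 𝓐.map_ideal_basicOpen U f, ← 𝓔.map_ideal_basicOpen U f]
    exact this

theorem ideal_colonSheaf {Y : Scheme.{u}} (𝓐 𝓔 : Y.IdealSheafData)
    (hE : ∀ U : Y.affineOpens, (𝓔.ideal U).FG) (U : Y.affineOpens) :
    (colonSheaf 𝓐 𝓔 hE).ideal U =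
      (𝓐.ideal U).colon ((𝓔.ideal U : Ideal Γ(Y, U.1)) : Set Γ(Y, U.1)) := rfl

theorem mem_colonSheaf_iff {Y : Scheme.{u}} (𝓐 𝓔 : Y.IdealSheafData)
    (hE : ∀ U : Y.affineOpens, (𝓔.ideal U).FG) (U : Y.affineOpens) (e : Γ(Y, U.1))
    (he : 𝓔.ideal U = Ideal.span {e}) (x : Γ(Y, U.1)) :
    x ∈ (colonSheaf 𝓐 𝓔 hE).ideal U ↔ x * e ∈ 𝓐.ideal U := by
  rw [ideal_colonSheaf, he, Ideal.mem_colon_span_singleton]

/-- the affine opens on which `𝓔` is generated by one nonzerodivisor cover. -/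
theorem iSup_principal_eq_top {Y : Scheme.{u}} {𝓔 : Y.IdealSheafData}
    (h : BlowUp.IsEffCartierIdeal 𝓔) :
    ⨆ U : {U : Y.affineOpens // ∃ e : Γ(Y, U.1), e ∈ nonZeroDivisors Γ(Y, U.1) ∧
      𝓔.ideal U = Ideal.span {e}}, (U.1.1 : Y.Opens) = ⊤ := by
  rw [eq_top_iff]
  intro x _
  obtain ⟨U, hxU, e, he, hE⟩ := h x
  exact Opens.mem_iSup.mpr ⟨⟨U, e, he, hE⟩, hxU⟩

/-- `(𝓐 : 𝓔) * 𝓔 = 𝓐` for `𝓐 ≤ 𝓔` and `𝓔` effective Cartier. -/
theorem colonSheaf_mul {Y : Scheme.{u}} (𝓐 𝓔 : Y.IdealSheafData)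
    (h : BlowUp.IsEffCartierIdeal 𝓔) (hle : 𝓐 ≤ 𝓔) :
    colonSheaf 𝓐 𝓔 (fg_of_locPrincipal (LocPrincipal.of_isEffCartier h)) * 𝓔 = 𝓐 := by
  have key : ∀ (U : Y.affineOpens) (e : Γ(Y, U.1)) (hE : 𝓔.ideal U = Ideal.span {e}),
      (colonSheaf 𝓐 𝓔 (fg_of_locPrincipal (LocPrincipal.of_isEffCartier h)) * 𝓔).ideal U =
        𝓐.ideal U := ?_
  · apply Scheme.IdealSheafData.ext_of_iSup_eq_top _ (iSup_principal_eq_top h)
    rintro ⟨U, e, he, hE⟩
    exact key U e hE
  intro U e hE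
  rw [Scheme.IdealSheafData.ideal_mul, Pi.mul_apply]
  apply le_antisymm
  · rw [hE, Ideal.mul_le]
    intro x hx y hy
    obtain ⟨c, rfl⟩ := Ideal.mem_span_singleton'.mp hy
    have := (mem_colonSheaf_iff 𝓐 𝓔 _ U e hE x).mp hx
    have e1 : x * (c * e) = c * (x * e) := by ring
    rw [e1]
    exact Ideal.mul_mem_left _ _ this
  · intro a ha
    have hae : a ∈ Ideal.span {e} := hE ▸ hle U ha
    obtain ⟨c, rfl⟩ := Ideal.mem_span_singleton'.mp hae
    apply Ideal.mul_mem_mul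
    · exact (mem_colonSheaf_iff 𝓐 𝓔 _ U e hE c).mpr ha
    · rw [hE]
      exact Ideal.subset_span rfl

/-- cancellation of an effective Cartier factor. -/
theorem le_of_mul_le_mul_right {Y : Scheme.{u}} {K K' 𝓔 : Y.IdealSheafData}
    (h : BlowUp.IsEffCartierIdeal 𝓔) (hle : K * 𝓔 ≤ K' * 𝓔) : K ≤ K' := by
  have key : ∀ (U : Y.affineOpens) (e : Γ(Y, U.1)) (he : e ∈ nonZeroDivisors Γ(Y, U.1))
      (hE : 𝓔.ideal U = Ideal.span {e}), K.ideal U ≤ K'.ideal U := ?_
  · apply Scheme.IdealSheafData.le_of_iSup_eq_top _ (iSup_principal_eq_top h)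
    rintro ⟨U, e, he, hE⟩
    exact key U e he hE
  intro U e he hE k hk
  have h1 : k * e ∈ (K' * 𝓔).ideal U := by
    apply hle U
    rw [Scheme.IdealSheafData.ideal_mul, Pi.mul_apply]
    exact Ideal.mul_mem_mul hk (hE ▸ Ideal.subset_span rfl)
  rw [Scheme.IdealSheafData.ideal_mul, Pi.mul_apply, hE, Ideal.mem_mul_span_singleton] at h1
  obtain ⟨k', hk', h2⟩ := h1
  have : k' = k := by
    rw [← sub_eq_zero]
    apply (mem_nonZeroDivisors_iff_right.mp he)
    rw [sub_mul, h2, sub_self]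
  rw [← this]
  exact hk'

theorem eq_of_mul_eq_mul_right {Y : Scheme.{u}} {K K' 𝓔 : Y.IdealSheafData}
    (h : BlowUp.IsEffCartierIdeal 𝓔) (heq : K * 𝓔 = K' * 𝓔) : K = K' :=
  le_antisymm (le_of_mul_le_mul_right h heq.le) (le_of_mul_le_mul_right h heq.ge)

/-- a factor of an effective Cartier ideal, the other factor being effective Cartier, is
effective Cartier. -/
theorem isEffCartier_of_mul {Y : Scheme.{u}} {K 𝓔 𝓐 : Y.IdealSheafData}
    (hE : BlowUp.IsEffCartierIdeal 𝓔) (hA : BlowUp.IsEffCartierIdeal 𝓐) (h : K * 𝓔 = 𝓐) :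
    BlowUp.IsEffCartierIdeal K := by
  intro x
  obtain ⟨U, hxU, e, he, hEe⟩ := hE x
  obtain ⟨V, hxV, hVU, a, ha, hAa⟩ := EffCartier.shrink hA x U.1 hxU
  obtain ⟨he', hEe'⟩ := EffCartier.restrict 𝓔 U e he hEe V hVU
  set e' := (Y.presheaf.map (homOfLE hVU).op).hom e with he'def
  have h1 : K.ideal V * Ideal.span {e'} = Ideal.span {a} := by
    rw [← hEe', ← hAa, ← h]
    rfl
  have h2 : a ∈ K.ideal V * Ideal.span {e'} := h1 ▸ Ideal.subset_span rfl
  rw [Ideal.mem_mul_span_singleton] at h2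
  obtain ⟨k, hk, hka⟩ := h2
  have hknzd : k ∈ nonZeroDivisors Γ(Y, V.1) := by
    rw [← hka] at ha
    exact (mul_mem_nonZeroDivisors.mp ha).1
  refine ⟨V, hxV, k, hknzd, ?_⟩
  apply le_antisymm
  · intro k' hk'
    have h3 : k' * e' ∈ Ideal.span {a} := by
      rw [← h1]
      exact Ideal.mul_mem_mul hk' (Ideal.subset_span rfl)
    obtain ⟨c, hc⟩ := Ideal.mem_span_singleton'.mp h3
    rw [Ideal.mem_span_singleton']
    refine ⟨c, ?_⟩
    rw [← sub_eq_zero]
    apply (mem_nonZeroDivisors_iff_right.mp he')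
    rw [sub_mul, mul_assoc, hka, hc, sub_self]
  · rw [Ideal.span_singleton_le_iff_mem]
    exact hk

/-- S18750 -/
theorem exists_isAmbProd {S T X : Scheme.{u}}
    (J : T.IdealSheafData) (I : X.IdealSheafData) (f : X ⟶ S) (g : T ⟶ S) :
    ∃ (Y : Scheme.{u}) (π : Y ⟶ ModPair.mprod f g I J) (K : Y.IdealSheafData),
      ModPair.IsAmbProd f g I J π K := by
  obtain ⟨Y, π, hπ⟩ := Groth.Agent.Lead.Blow.exists_isBlowUp (ModPair.mprod f g I J)
    (ModPair.prodCentre f g I J)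
  have hle : (I.comap (ModPair.mprodι f g I J ≫ pullback.fst f g)).comap π *
      (J.comap (ModPair.mprodι f g I J ≫ pullback.snd f g)).comap π ≤
      (ModPair.prodCentre f g I J).comap π := by
    unfold ModPair.prodCentre
    rw [Scheme.IdealSheafData.comap_sup]
    refine le_trans ?_ le_sup_left
    intro U
    rw [Scheme.IdealSheafData.ideal_mul, Pi.mul_apply]
    exact Ideal.mul_le_left (R := Γ(Y, U.1))
  exact ⟨Y, π, _, hπ, colonSheaf_mul _ _ hπ.1 hle⟩

theorem mul_mono' {Y : Scheme.{u}} {A A' B B' : Y.IdealSheafData} (h₁ : A ≤ A') (h₂ : B ≤ B') :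
    A * B ≤ A' * B' := by
  intro U
  rw [Scheme.IdealSheafData.ideal_mul, Scheme.IdealSheafData.ideal_mul, Pi.mul_apply, Pi.mul_apply]
  exact Ideal.mul_mono (h₁ U) (h₂ U)

/-- S18733 -/
theorem effCartier_sub_inter_coprime {X : Scheme.{u}} (I₁ I₂ : X.IdealSheafData)
    (h₁ : BlowUp.IsEffCartierIdeal I₁) (h₂ : BlowUp.IsEffCartierIdeal I₂)
    (hE : BlowUp.IsEffCartierIdeal (I₁ ⊔ I₂)) :
    ∃ I₁' I₂' : X.IdealSheafData, BlowUp.IsEffCartierIdeal I₁' ∧ BlowUp.IsEffCartierIdeal I₂' ∧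
      I₁ = I₁' * (I₁ ⊔ I₂) ∧ I₂ = I₂' * (I₁ ⊔ I₂) ∧ I₁' ⊔ I₂' = ⊤ ∧
      ∀ D : X.IdealSheafData, BlowUp.IsEffCartierIdeal D → D ≤ I₁ → D ≤ I₂ →
        D ≤ I₁' * I₂' * (I₁ ⊔ I₂) := by
  obtain ⟨K₁, e₁⟩ : ∃ K₁ : X.IdealSheafData, K₁ * (I₁ ⊔ I₂) = I₁ :=
    ⟨_, colonSheaf_mul I₁ (I₁ ⊔ I₂) hE le_sup_left⟩
  obtain ⟨K₂, e₂⟩ : ∃ K₂ : X.IdealSheafData, K₂ * (I₁ ⊔ I₂) = I₂ :=
    ⟨_, colonSheaf_mul I₂ (I₁ ⊔ I₂) hE le_sup_right⟩
  have hsup : K₁ ⊔ K₂ = ⊤ := by
    apply eq_of_mul_eq_mul_right hE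
    rw [Scheme.IdealSheafData.inf_mul, e₁, e₂, Scheme.IdealSheafData.top_mul]
  refine ⟨K₁, K₂, isEffCartier_of_mul hE h₁ e₁, isEffCartier_of_mul hE h₂ e₂, e₁.symm, e₂.symm,
    hsup, ?_⟩
  intro D _ hD₁ hD₂
  have hD : D = D * K₁ ⊔ D * K₂ := by
    rw [← Scheme.IdealSheafData.mul_inf, hsup, Scheme.IdealSheafData.mul_top]
  rw [hD]
  apply sup_le
  · calc D * K₁ ≤ (K₂ * (I₁ ⊔ I₂)) * K₁ := mul_mono' (hD₂.trans e₂.ge) le_rfl
      _ = K₁ * K₂ * (I₁ ⊔ I₂) := by ring
  · calc D * K₂ ≤ (K₁ * (I₁ ⊔ I₂)) * K₂ := mul_mono' (hD₁.trans e₁.ge) le_rfl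
      _ = K₁ * K₂ * (I₁ ⊔ I₂) := by ring

theorem LocPrincipal.mul {P : Scheme.{u}} {𝓛 𝓛' : P.IdealSheafData} (h : LocPrincipal 𝓛)
    (h' : LocPrincipal 𝓛') : LocPrincipal (𝓛 * 𝓛') := by
  intro x
  obtain ⟨U, hxU, a, ha⟩ := h x
  obtain ⟨V, hxV, b, hb⟩ := h' x
  obtain ⟨r, rV, e, hx⟩ := exists_basicOpen_le_affine_inter U.2 V.2 x ⟨hxU, hxV⟩
  have hleV : P.basicOpen r ≤ V.1 := by rw [e]; exact P.basicOpen_le _
  refine ⟨P.affineBasicOpen r, hx, (P.presheaf.map (homOfLE (P.basicOpen_le r)).op).hom a *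
    (P.presheaf.map (homOfLE hleV).op).hom b, ?_⟩
  rw [Scheme.IdealSheafData.ideal_mul, Pi.mul_apply,
    ← 𝓛.map_ideal (U := P.affineBasicOpen r) (V := U) (P.basicOpen_le r),
    ← 𝓛'.map_ideal (U := P.affineBasicOpen r) (V := V) hleV, ha, hb, Ideal.map_span,
    Ideal.map_span, Set.image_singleton, Set.image_singleton,
    Ideal.span_singleton_mul_span_singleton]
  rfl

open ModPair in
theorem mem_prodInterior_iff {S T X : Scheme.{u}} (J : T.IdealSheafData) (I : X.IdealSheafData)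
    (f : X ⟶ S) (g : T ⟶ S) (x : ↥(pullback f g)) :
    x ∈ prodInterior f g I J ↔
      x ∉ (I.comap (pullback.fst f g) * J.comap (pullback.snd f g)).support := by
  rw [Scheme.IdealSheafData.support_mul]
  change (pullback.fst f g x ∉ I.support ∧ pullback.snd f g x ∉ J.support) ↔
    ¬ (x ∈ (I.comap (pullback.fst f g)).support ∨ x ∈ (J.comap (pullback.snd f g)).support)
  rw [Scheme.IdealSheafData.support_comap, Scheme.IdealSheafData.support_comap, not_or]
  rfl

open ModPair in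
theorem isAffineHom_prodInterior {S T X : Scheme.{u}} (J : T.IdealSheafData)
    (I : X.IdealSheafData) (hT : BlowUp.IsEffCartierIdeal J) (hX : BlowUp.IsEffCartierIdeal I)
    (f : X ⟶ S) (g : T ⟶ S) : IsAffineHom (prodInterior f g I J).ι :=
  isAffineHom_of_locPrincipal (((LocPrincipal.of_isEffCartier hX).comap _).mul
    ((LocPrincipal.of_isEffCartier hT).comap _)) _ (mem_prodInterior_iff J I f g)

open ModPair in
/-- the two moduli pull back to effective Cartier divisors on `mprod`. -/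
theorem isEffCartier_comap_mprod {S T X : Scheme.{u}} (J : T.IdealSheafData)
    (I : X.IdealSheafData) (hT : BlowUp.IsEffCartierIdeal J) (hX : BlowUp.IsEffCartierIdeal I)
    (f : X ⟶ S) (g : T ⟶ S) :
    BlowUp.IsEffCartierIdeal (I.comap (mprodι f g I J ≫ pullback.fst f g)) ∧
      BlowUp.IsEffCartierIdeal (J.comap (mprodι f g I J ≫ pullback.snd f g)) := by
  have := isAffineHom_prodInterior J I hT hX f g
  constructor
  · rw [Scheme.IdealSheafData.comap_comp]
    apply isEffCartier_image _ _ ((LocPrincipal.of_isEffCartier hX).comap _)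
    intro x
    rw [Scheme.IdealSheafData.support_comap]
    exact x.2.1
  · rw [Scheme.IdealSheafData.comap_comp]
    apply isEffCartier_image _ _ ((LocPrincipal.of_isEffCartier hT).comap _)
    intro x
    rw [Scheme.IdealSheafData.support_comap]
    exact x.2.2

open ModPair in
/-- S18749 -/
theorem isAmbProd_props {S T X Y : Scheme.{u}}
    (J : T.IdealSheafData) (I : X.IdealSheafData)
    (hT : BlowUp.IsEffCartierIdeal J) (hX : BlowUp.IsEffCartierIdeal I)
    (f : X ⟶ S) (g : T ⟶ S)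
    (π : Y ⟶ ModPair.mprod f g I J) (K : Y.IdealSheafData) (hY : ModPair.IsAmbProd f g I J π K) :
    BlowUp.IsEffCartierIdeal K ∧
      ModPair.IsAmbient K I (π ≫ ModPair.mprodι f g I J ≫ pullback.fst f g) ∧
      ModPair.IsAmbient K J (π ≫ ModPair.mprodι f g I J ≫ pullback.snd f g) ∧
      ModPair.interior K = (π ≫ ModPair.mprodι f g I J) ⁻¹ᵁ ModPair.prodInterior f g I J := by
  obtain ⟨hπ, hK⟩ := hY
  obtain ⟨hI', hJ'⟩ := isEffCartier_comap_mprod J I hT hX f g
  have hI'' := BlowUpLemmas.comap_of_isBlowUp _ π hπ _ hI'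
  have hJ'' := BlowUpLemmas.comap_of_isBlowUp _ π hπ _ hJ'
  have hE : (prodCentre f g I J).comap π =
      (I.comap (mprodι f g I J ≫ pullback.fst f g)).comap π ⊔
        (J.comap (mprodι f g I J ≫ pullback.snd f g)).comap π := by
    unfold prodCentre
    rw [Scheme.IdealSheafData.comap_sup]
  have hK1 : K ≤ (I.comap (mprodι f g I J ≫ pullback.fst f g)).comap π := by
    apply le_of_mul_le_mul_right hπ.1
    rw [hK]
    exact mul_mono' le_rfl (hE ▸ le_sup_right)
  have hK2 : K ≤ (J.comap (mprodι f g I J ≫ pullback.snd f g)).comap π := by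
    apply le_of_mul_le_mul_right hπ.1
    rw [hK, mul_comm]
    exact mul_mono' le_rfl (hE ▸ le_sup_left)
  refine ⟨isEffCartier_of_mul hπ.1 (EffCartier.mul hI'' hJ'') hK, ?_, ?_, ?_⟩
  · change _ ≤ _
    rw [Scheme.IdealSheafData.comap_comp]
    exact hK1
  · change _ ≤ _
    rw [Scheme.IdealSheafData.comap_comp]
    exact hK2
  · have hsupp : ∀ y : Y, y ∈ K.support ↔
        (y ∈ ((I.comap (mprodι f g I J ≫ pullback.fst f g)).comap π).support ∨
          y ∈ ((J.comap (mprodι f g I J ≫ pullback.snd f g)).comap π).support) := by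
      intro y
      constructor
      · intro hy
        have h1 : y ∈ (K * (prodCentre f g I J).comap π).support := by
          rw [Scheme.IdealSheafData.support_mul]
          exact Or.inl hy
        rw [hK, Scheme.IdealSheafData.support_mul] at h1
        exact h1
      · rintro (hy | hy)
        · exact Scheme.IdealSheafData.support_antitone hK1 hy
        · exact Scheme.IdealSheafData.support_antitone hK2 hy
    ext y
    change y ∉ K.support ↔ _
    rw [hsupp, not_or]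
    simp only [Scheme.IdealSheafData.support_comap]
    rfl

end Groth.Agent.Lead.MP
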