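import Mathlib
import Groth.Agent.Lib.Lead.MP1

set_option autoImplicit false
set_option backward.isDefEq.respectTransparency.types false
set_option synthInstance.maxHeartbeats 400000
set_option linter.style.haveILetI false
set_option linter.unusedSectionVars false

universe u
open CategoryTheory CategoryTheory.Limits AlgebraicGeometry TopologicalSpace Opposite

namespace Groth.Agent.Lead.MP
open Groth.Agent.Helper4

/-- the scheme-theoretic image of a closed subscheme of an open `U`: the source is open in
its closure, and it is the part of the closure lying over `U`. -/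
theorem toImage_of_closedImmersion_comp_ι {V P : Scheme.{u}} (U : P.Opens) [QuasiCompact U.ι]
    (g : V ⟶ U) [IsClosedImmersion g] :
    IsOpenImmersion (g ≫ U.ι).toImage ∧
      Set.range (g ≫ U.ι).toImage = (g ≫ U.ι).imageι ⁻¹' (U : Set P) := by
  set f := g ≫ U.ι with hf
  let A : f.image.Opens := f.imageι ⁻¹ᵁ U
  have hr : Set.range f.toImage ⊆ Set.range A.ι := by
    rintro _ ⟨x, rfl⟩
    rw [Scheme.Opens.range_ι]
    change f.imageι (f.toImage x) ∈ U
    rw [← Scheme.Hom.comp_apply, f.toImage_imageι]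
    exact (g x).2
  let l : V ⟶ A := IsOpenImmersion.lift A.ι f.toImage hr
  have hl : l ≫ A.ι = f.toImage := IsOpenImmersion.lift_fac _ _ _
  have h1 : l ≫ (f.imageι ∣_ U) = g := by
    rw [← cancel_mono U.ι, Category.assoc, morphismRestrict_ι, reassoc_of% hl, f.toImage_imageι]
  have h2 : g.ker = (f.imageι ∣_ U).ker := by
    rw [ker_morphismRestrict, Scheme.IdealSheafData.ker_subschemeι, hf, ker_comap_ι]
  have hiso : IsIso l := IsClosedImmersion.isIso_of_ker_eq g (f.imageι ∣_ U) l h1 h2
  constructor
  · rw [← hl]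
    infer_instance
  · rw [← hl, Scheme.Hom.comp_base, TopCat.coe_comp, Set.range_comp,
      Set.range_eq_univ.mpr (ConcreteCategory.bijective_of_isIso l.base).2, Set.image_univ,
      Scheme.Opens.range_ι]
    rfl

/-- below every prime there is a prime avoiding a given nonzerodivisor. -/
theorem exists_prime_le_not_mem {A : Type*} [CommRing A] (a : A) (ha : a ∈ nonZeroDivisors A)
    (p : Ideal A) [p.IsPrime] : ∃ q : Ideal A, q.IsPrime ∧ q ≤ p ∧ a ∉ q := by
  obtain ⟨q, hq, -, hdis⟩ := Ideal.exists_le_prime_disjoint (⊥ : Ideal A)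
    (Submonoid.powers a ⊔ p.primeCompl) (by
      rw [Set.disjoint_left]
      intro x hx hx'
      rw [SetLike.mem_coe, Ideal.mem_bot] at hx
      rw [SetLike.mem_coe, Submonoid.mem_sup] at hx'
      obtain ⟨y, ⟨n, rfl⟩, z, hz, hyz⟩ := hx'
      rw [hx] at hyz
      have hz0 : z = 0 := by
        have := pow_mem ha n
        rw [mul_comm] at hyz
        exact (mem_nonZeroDivisors_iff_right.mp this) z hyz
      rw [hz0] at hz
      exact hz p.zero_mem)
  refine ⟨q, hq, ?_, ?_⟩
  · intro x hx
    by_contra hxp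
    exact (Set.disjoint_left.mp hdis) hx (Submonoid.mem_sup_right hxp)
  · intro haq
    exact (Set.disjoint_left.mp hdis) haq (Submonoid.mem_sup_left (Submonoid.mem_powers a))

open ModPair in
/-- every point has a generization in the complement of an effective Cartier divisor. -/
theorem exists_generization_mem_interior {S : Scheme.{u}} (I : S.IdealSheafData)
    (hI : BlowUp.IsEffCartierIdeal I) (s : S) : ∃ s' : S, s' ⤳ s ∧ s' ∈ interior I := by
  obtain ⟨U, hsU, a, ha, hIa⟩ := hI s
  have hp := (U.2.primeIdealOf ⟨s, hsU⟩).2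
  obtain ⟨q, hq, hqp, haq⟩ := exists_prime_le_not_mem a ha (U.2.primeIdealOf ⟨s, hsU⟩).asIdeal
  let y : PrimeSpectrum Γ(S, U.1) := ⟨q, hq⟩
  have hspec : y ⤳ U.2.primeIdealOf ⟨s, hsU⟩ := (PrimeSpectrum.le_iff_specializes _ _).mp hqp
  have h1 : U.2.fromSpec y ⤳ s := by
    have := hspec.map U.2.fromSpec.continuous
    rwa [U.2.fromSpec_primeIdealOf] at this
  refine ⟨U.2.fromSpec y, h1, ?_⟩
  have hyU : U.2.fromSpec y ∈ U.1 := by
    have : U.2.fromSpec y ∈ Set.range U.2.fromSpec := ⟨y, rfl⟩
    rw [U.2.range_fromSpec] at this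
    exact this
  rw [mem_interior_iff, ← EffCartier.mem_basicOpen_iff_not_mem_support U a hIa _ hyU]
  change y ∈ U.2.fromSpec ⁻¹ᵁ S.basicOpen a
  rw [U.2.fromSpec_preimage_basicOpen]
  exact haq

open ModPair in
/-- S19330 -/
theorem closure_of_closed_cover {S : Scheme.{u}} (I : S.IdealSheafData)
    (hI : BlowUp.IsEffCartierIdeal I) {ι : Type u} (V : ι → Scheme.{u})
    (g : ∀ i, V i ⟶ (ModPair.interior I : Scheme.{u})) [∀ i, IsClosedImmersion (g i)]
    (hsurj : ∀ u : (ModPair.interior I : Scheme.{u}), ∃ (i : ι) (v : V i), (g i).base v = u) :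
    (∀ s : S, ∃ (i : ι) (v : (g i ≫ (ModPair.interior I).ι).image),
        (g i ≫ (ModPair.interior I).ι).imageι.base v = s) ∧
      (∀ i, BlowUp.IsEffCartierIdeal (I.comap (g i ≫ (ModPair.interior I).ι).imageι)) ∧
      ∀ i, IsOpenImmersion (g i ≫ (ModPair.interior I).ι).toImage ∧
        Set.range (g i ≫ (ModPair.interior I).ι).toImage.base =
          (g i ≫ (ModPair.interior I).ι).imageι.base ⁻¹' (ModPair.interior I : Set S) := by
  have haff : IsAffineHom (interior I).ι := EffCartier.isAffineHom_compl hI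
  refine ⟨?_, ?_, ?_⟩
  · intro s
    obtain ⟨s', hs's, hs'⟩ := exists_generization_mem_interior I hI s
    obtain ⟨i, v, hv⟩ := hsurj ⟨s', hs'⟩
    have hmem : s ∈ Set.range (g i ≫ (interior I).ι).imageι := by
      rw [Scheme.IdealSheafData.range_subschemeι, Scheme.Hom.support_ker]
      apply hs's.mem_closed isClosed_closure
      apply subset_closure
      refine ⟨v, ?_⟩
      rw [Scheme.Hom.comp_apply]
      change ((g i).base v).1 = s'
      rw [hv]
    obtain ⟨w, hw⟩ := hmem
    exact ⟨i, w, hw⟩
  · intro i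
    apply isEffCartier_image _ _ (LocPrincipal.of_isEffCartier hI)
    intro x
    rw [Scheme.Hom.comp_apply]
    exact (g i x).2
  · intro i
    exact toImage_of_closedImmersion_comp_ι (interior I) (g i)

end Groth.Agent.Lead.MP
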