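import Mathlib
import Groth.Prelude.Def_Omega4
import Groth.Agent.Lib.Lead.ConChart4

set_option autoImplicit false
universe u
open CategoryTheory CategoryTheory.Limits AlgebraicGeometry TopologicalSpace Opposite

set_option backward.isDefEq.respectTransparency.types false

namespace Groth.Agent.Lead.ConSplit

open OmegaSh Groth.Agent.Lead.DerU Groth.Agent.Lead.IdM Groth.Agent.Lead.OmU
  Groth.Agent.Lead.BCU Groth.Agent.Lead.ConMap Groth.Agent.Lead.ConChart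

section Retr

variable {Z X S : Scheme.{u}} (f : X ⟶ S) (i : Z ⟶ X) [QuasiCompact i]
  (g : X ⟶ Z) (hgi : i ≫ g = 𝟙 Z) (hgS : g ≫ i ≫ f = f)

/-- the open on which `a` and `g♯ i♯ a` are both defined. -/
def W' (W : X.Opens) : X.Opens := W ⊓ (g ≫ i) ⁻¹ᵁ W

omit [QuasiCompact i] in
theorem W'_le (W : X.Opens) : W' i g W ≤ W := inf_le_left

omit [QuasiCompact i] in
theorem W'_le' (W : X.Opens) : W' i g W ≤ (g ≫ i) ⁻¹ᵁ W := inf_le_right

omit [QuasiCompact i] in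
theorem W'_mono {W₁ W₂ : X.Opens} (h : W₂ ≤ W₁) : W' i g W₂ ≤ W' i g W₁ :=
  inf_le_inf h ((g ≫ i).preimage_mono h)

omit [QuasiCompact i] in
include hgi in
theorem hρi : i ≫ (g ≫ i) = i := by
  rw [← Category.assoc, hgi, Category.id_comp]

omit [QuasiCompact i] in
include hgi in
theorem le_preimage_W' (W : X.Opens) : i ⁻¹ᵁ W ≤ i ⁻¹ᵁ (W' i g W) := by
  intro z hz
  refine ⟨hz, ?_⟩
  change (i ≫ (g ≫ i)) z ∈ W
  rw [hρi i g hgi]
  exact hz

/-- the function `a - g♯ i♯ a` on `W'`. -/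
noncomputable def δ (W : X.Opens) (a : Γ(X, W)) : Γ(X, W' i g W) :=
  (X.presheaf.map (homOfLE (W'_le i g W)).op).hom a -
    ((g ≫ i).appLE W (W' i g W) (W'_le' i g W)).hom a

omit [QuasiCompact i] in
theorem δ_add (W : X.Opens) (a b : Γ(X, W)) : δ i g W (a + b) = δ i g W a + δ i g W b := by
  unfold δ
  rw [map_add, map_add]
  ring

omit [QuasiCompact i] in
theorem δ_mul (W : X.Opens) (a b : Γ(X, W)) :
    δ i g W (a * b) = (X.presheaf.map (homOfLE (W'_le i g W)).op).hom a * δ i g W b +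
      ((g ≫ i).appLE W (W' i g W) (W'_le' i g W)).hom b * δ i g W a := by
  unfold δ
  rw [map_mul, map_mul]
  ring

omit [QuasiCompact i] in
theorem δ_map {W₁ W₂ : X.Opens} (h : W₂ ≤ W₁) (a : Γ(X, W₁)) :
    δ i g W₂ ((X.presheaf.map (homOfLE h).op).hom a) =
      (X.presheaf.map (homOfLE (W'_mono i g h)).op).hom (δ i g W₁ a) := by
  unfold δ
  rw [map_sub]
  congr 1
  · change (X.presheaf.map (homOfLE h).op ≫ X.presheaf.map (homOfLE (W'_le i g W₂)).op).hom a =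
      (X.presheaf.map (homOfLE (W'_le i g W₁)).op ≫
        X.presheaf.map (homOfLE (W'_mono i g h)).op).hom a
    rw [← Functor.map_comp, ← Functor.map_comp]
    rfl
  · change (X.presheaf.map (homOfLE h).op ≫ (g ≫ i).appLE W₂ (W' i g W₂) (W'_le' i g W₂)).hom a =
      ((g ≫ i).appLE W₁ (W' i g W₁) (W'_le' i g W₁) ≫
        X.presheaf.map (homOfLE (W'_mono i g h)).op).hom a
    rw [Scheme.Hom.map_appLE, Scheme.Hom.appLE_map]

omit [QuasiCompact i] in
include hgS in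
theorem δ_app (V : S.Opens) (t : Γ(S, V)) : δ i g (f ⁻¹ᵁ V) ((f.app V).hom t) = 0 := by
  unfold δ
  rw [sub_eq_zero]
  have h1 : (X.presheaf.map (homOfLE (W'_le i g (f ⁻¹ᵁ V))).op).hom ((f.app V).hom t) =
      (f.appLE V (W' i g (f ⁻¹ᵁ V)) (W'_le i g (f ⁻¹ᵁ V))).hom t := rfl
  have h2 : ((g ≫ i).appLE (f ⁻¹ᵁ V) (W' i g (f ⁻¹ᵁ V)) (W'_le' i g (f ⁻¹ᵁ V))).hom
      ((f.app V).hom t) =
      (((g ≫ i) ≫ f).appLE V (W' i g (f ⁻¹ᵁ V)) (W'_le' i g (f ⁻¹ᵁ V))).hom t := by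
    have := Scheme.Hom.comp_appLE (g ≫ i) f V (W' i g (f ⁻¹ᵁ V)) (W'_le' i g (f ⁻¹ᵁ V))
    rw [this]
    rfl
  rw [h1, h2]
  have hρf : (g ≫ i) ≫ f = f := by rw [Category.assoc]; exact hgS
  exact congr($(appLE_congr_hom hρf.symm _ _) t)

omit [QuasiCompact i] in
include hgi in
/-- pulling back along `i` and restricting to `i⁻¹W` undoes `k♯` for any `k` with `i ≫ k = i`. -/
theorem key (k : X ⟶ X) (hk : i ≫ k = i) (W : X.Opens) (e : W' i g W ≤ k ⁻¹ᵁ W) (a : Γ(X, W)) :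
    (Z.presheaf.map (homOfLE (le_preimage_W' i g hgi W)).op).hom
      ((i.app (W' i g W)).hom ((k.appLE W (W' i g W) e).hom a)) = (i.app W).hom a := by
  have h1 : k.appLE W (W' i g W) e ≫ i.appLE (W' i g W) (i ⁻¹ᵁ (W' i g W)) le_rfl =
      (i ≫ k).appLE W (i ⁻¹ᵁ (W' i g W)) (fun z hz => e hz) :=
    Scheme.Hom.appLE_comp_appLE _ _ _ _ _ _ _
  have h2 : (i ≫ k).appLE W (i ⁻¹ᵁ (W' i g W)) (fun z hz => e hz) =
      i.appLE W (i ⁻¹ᵁ (W' i g W)) (i.preimage_mono (W'_le i g W)) :=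
    appLE_congr_hom hk _ _
  have h3 : i.appLE W (i ⁻¹ᵁ (W' i g W)) (i.preimage_mono (W'_le i g W)) ≫
      Z.presheaf.map (homOfLE (le_preimage_W' i g hgi W)).op = i.appLE W (i ⁻¹ᵁ W) le_rfl :=
    Scheme.Hom.appLE_map _ _ _
  have h4 : i.appLE (W' i g W) (i ⁻¹ᵁ (W' i g W)) le_rfl = i.app (W' i g W) :=
    Scheme.Hom.appLE_eq_app _
  have h5 : i.appLE W (i ⁻¹ᵁ W) le_rfl = i.app W := Scheme.Hom.appLE_eq_app _
  rw [h4] at h1
  rw [h2] at h1
  rw [h5] at h3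
  have := congr($h3 a)
  rw [← this, ← h1]
  rfl

omit [QuasiCompact i] in
include hgi in
theorem i_δ (W : X.Opens) (a : Γ(X, W)) : (i.app (W' i g W)).hom (δ i g W a) = 0 := by
  have hinj : Function.Injective
      (Z.presheaf.map (homOfLE (le_preimage_W' i g hgi W)).op).hom := by
    have hle : i ⁻¹ᵁ (W' i g W) ≤ i ⁻¹ᵁ W := i.preimage_mono (W'_le i g W)
    apply Function.LeftInverse.injective (g := (Z.presheaf.map (homOfLE hle).op).hom)
    intro c
    change (Z.presheaf.map (homOfLE (le_preimage_W' i g hgi W)).op ≫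
      Z.presheaf.map (homOfLE hle).op).hom c = c
    rw [← Functor.map_comp]
    change (Z.presheaf.map (𝟙 _)).hom c = c
    rw [Z.presheaf.map_id]
    rfl
  apply hinj
  unfold δ
  rw [map_sub, map_sub, map_zero, sub_eq_zero]
  have e1 : (X.presheaf.map (homOfLE (W'_le i g W)).op) =
      (𝟙 X : X ⟶ X).appLE W (W' i g W) (W'_le i g W) := (id_appLE_eq rfl _ _).symm
  rw [e1, key i g hgi (𝟙 X) (Category.comp_id i) W (W'_le i g W) a,
    key i g hgi (g ≫ i) (hρi i g hgi) W (W'_le' i g W) a]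

end Retr

end Groth.Agent.Lead.ConSplit
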