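import Mathlib
import Groth.Prelude.Def_Omega4
import Groth.Agent.Lib.Lead.ConSplit1

set_option autoImplicit false
universe u
open CategoryTheory CategoryTheory.Limits AlgebraicGeometry TopologicalSpace Opposite

set_option backward.isDefEq.respectTransparency.types false

namespace Groth.Agent.Lead.ConSplit

open OmegaSh Groth.Agent.Lead.DerU Groth.Agent.Lead.IdM Groth.Agent.Lead.OmU
  Groth.Agent.Lead.BCU Groth.Agent.Lead.ConMap Groth.Agent.Lead.ConChart

section Retr

variable {Z X S : Scheme.{u}} (f : X ⟶ S) (i : Z ⟶ X) [QuasiCompact i]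
  (g : X ⟶ Z) (hgi : i ≫ g = 𝟙 Z) (hgS : g ≫ i ≫ f = f)

/-- the section of the ideal with function `a - g♯ i♯ a`. -/
noncomputable def liftδ (W : X.Opens) (a : Γ(X, W)) : Γ(ClSub.idealMod i.ker, W' i g W) :=
  (exists_idealSect i (W' i g W) (δ i g W a) (i_δ i g hgi W a)).choose

theorem liftδ_spec (W : X.Opens) (a : Γ(X, W)) :
    idealSect i.ker (W' i g W) (liftδ i g hgi W a) = δ i g W a :=
  (exists_idealSect i (W' i g W) (δ i g W a) (i_δ i g hgi W a)).choose_spec

theorem liftδ_unique (W : X.Opens) (a : Γ(X, W)) (s : Γ(ClSub.idealMod i.ker, W' i g W))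
    (h : idealSect i.ker (W' i g W) s = δ i g W a) : s = liftδ i g hgi W a := by
  apply idealSect_injective
  rw [h, liftδ_spec]

/-- the value of the derivation `a ↦ [a - g♯ i♯ a]`. -/
noncomputable def Dval (W : X.Opens) (a : Γ(X, W)) :
    Γ((Scheme.Modules.pushforward i).obj (Omega.conormal i), W) :=
  (Omega.conormal i).presheaf.map (homOfLE (le_preimage_W' i g hgi W)).op
    (conormalSect i (W' i g W) (liftδ i g hgi W a))

theorem Dval_add (W : X.Opens) (a b : Γ(X, W)) :
    Dval i g hgi W (a + b) = Dval i g hgi W a + Dval i g hgi W b := by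
  have h1 : liftδ i g hgi W (a + b) = liftδ i g hgi W a + liftδ i g hgi W b := by
    symm
    apply liftδ_unique
    rw [map_add, liftδ_spec, liftδ_spec, δ_add]
  unfold Dval
  rw [h1, map_add, map_add]
  rfl

theorem Dval_mul (W : X.Opens) (a b : Γ(X, W)) :
    Dval i g hgi W (a * b) = a • Dval i g hgi W b + b • Dval i g hgi W a := by
  have h1 : liftδ i g hgi W (a * b) =
      (X.presheaf.map (homOfLE (W'_le i g W)).op).hom a • liftδ i g hgi W b +
        ((g ≫ i).appLE W (W' i g W) (W'_le' i g W)).hom b • liftδ i g hgi W a := by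
    symm
    apply liftδ_unique
    rw [map_add, idealSect_smul, idealSect_smul, liftδ_spec, liftδ_spec, δ_mul]
  unfold Dval
  rw [h1, map_add, conormalSect_smul, conormalSect_smul, map_add, Scheme.Modules.map_smul,
    Scheme.Modules.map_smul]
  have e1 : (X.presheaf.map (homOfLE (W'_le i g W)).op) =
      (𝟙 X : X ⟶ X).appLE W (W' i g W) (W'_le i g W) := (id_appLE_eq rfl _ _).symm
  have k1 := key i g hgi (𝟙 X) (Category.comp_id i) W (W'_le i g W) a
  have k2 := key i g hgi (g ≫ i) (hρi i g hgi) W (W'_le' i g W) b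
  rw [← e1] at k1
  rw [k1, k2]
  rfl

theorem Dval_map {W₁ W₂ : X.Opens} (h : W₂ ≤ W₁) (a : Γ(X, W₁)) :
    Dval i g hgi W₂ ((X.presheaf.map (homOfLE h).op).hom a) =
      ((Scheme.Modules.pushforward i).obj (Omega.conormal i)).presheaf.map (homOfLE h).op
        (Dval i g hgi W₁ a) := by
  have h1 : liftδ i g hgi W₂ ((X.presheaf.map (homOfLE h).op).hom a) =
      (ClSub.idealMod i.ker).presheaf.map (homOfLE (W'_mono i g h)).op (liftδ i g hgi W₁ a) := by
    symm
    apply liftδ_unique
    rw [idealSect_map, liftδ_spec, δ_map]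
  unfold Dval
  rw [h1, conormalSect_map, resM_resM]
  change _ = (Omega.conormal i).presheaf.map (homOfLE (i.preimage_mono h)).op _
  rw [resM_resM]
  rfl

include hgS in
theorem Dval_app (V : S.Opens) (t : Γ(S, V)) :
    Dval i g hgi (f ⁻¹ᵁ V) ((f.app V).hom t) = 0 := by
  have h1 : liftδ i g hgi (f ⁻¹ᵁ V) ((f.app V).hom t) = 0 := by
    symm
    apply liftδ_unique
    rw [map_zero, δ_app f i g hgS]
  unfold Dval
  rw [h1, map_zero, map_zero]
  rfl

/-- the derivation `a ↦ [a - g♯ i♯ a]` into the pushforward of the conormal sheaf. -/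
noncomputable def D : Der f ((Scheme.Modules.pushforward i).obj (Omega.conormal i)) where
  d {U} := AddMonoidHom.mk' (fun s => Dval i g hgi U.unop s) (Dval_add i g hgi U.unop)
  d_mul {U} a c := Dval_mul i g hgi U.unop a c
  d_map {_ _} j s := Dval_map i g hgi j.unop.le s
  d_app {V} c := Dval_app f i g hgi hgS V.unop c

theorem D_app (W : X.Opens) (a : Γ(X, W)) : (D f i g hgi hgS).app W a = Dval i g hgi W a := rfl

/-- the derivation on sections of the ideal is the class. -/
theorem Dval_idealSect (W : X.Opens) (s : Γ(ClSub.idealMod i.ker, W)) :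
    Dval i g hgi W (idealSect i.ker W s) = conormalSect i W s := by
  have h0 : ((g ≫ i).appLE W (W' i g W) (W'_le' i g W)).hom (idealSect i.ker W s) = 0 := by
    have h1 := Scheme.Hom.comp_appLE g i W (W' i g W) (W'_le' i g W)
    rw [h1]
    change (g.appLE (i ⁻¹ᵁ W) (W' i g W) _).hom ((i.app W).hom (idealSect i.ker W s)) = 0
    have := app_idealSect i W s
    change (g.appLE (i ⁻¹ᵁ W) (W' i g W) _).hom ((i.app W) (idealSect i.ker W s)) = 0
    rw [this, map_zero]
  have h1 : liftδ i g hgi W (idealSect i.ker W s) =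
      (ClSub.idealMod i.ker).presheaf.map (homOfLE (W'_le i g W)).op s := by
    symm
    apply liftδ_unique
    rw [idealSect_map]
    unfold δ
    rw [h0, sub_zero]
  unfold Dval
  rw [h1, conormalSect_map, resM_resM]
  exact res_self (Omega.conormal i) _ _

end Retr

end Groth.Agent.Lead.ConSplit
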