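import Mathlib
import Groth.Prelude.Def_Omega4
import Groth.Agent.Lib.Lead.ConSplit2

set_option autoImplicit false
universe u
open CategoryTheory CategoryTheory.Limits AlgebraicGeometry TopologicalSpace Opposite

set_option backward.isDefEq.respectTransparency.types false

namespace Groth.Agent.Lead.ConSplit

open OmegaSh Groth.Agent.Lead.DerU Groth.Agent.Lead.IdM Groth.Agent.Lead.OmU
  Groth.Agent.Lead.BCU Groth.Agent.Lead.ConMap Groth.Agent.Lead.ConChart

section Retr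

variable {Z X S : Scheme.{u}} (f : X ⟶ S) (i : Z ⟶ X) [QuasiCompact i]
  (g : X ⟶ Z) (hgi : i ≫ g = 𝟙 Z) (hgS : g ≫ i ≫ f = f)
  {ΩX : X.Modules} (dX : Der f ΩX) (hX : IsUniversal dX)
  (φ : Omega.conormal i ⟶ (Scheme.Modules.pullback i).obj ΩX) (hφ : IsConormalDiff i dX φ)

include hgi hgS hX hφ in
/-- **a retraction `g` of `i` splits the conormal differential** -/
theorem exists_retraction :
    ∃ r : (Scheme.Modules.pullback i).obj ΩX ⟶ Omega.conormal i, φ ≫ r = 𝟙 _ := by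
  obtain ⟨α, hα, -⟩ := hX _ (D f i g hgi hgS)
  obtain ⟨r, hr⟩ := (adj_bijective i (Ω := ΩX) (Ω' := Omega.conormal i)).2 α
  refine ⟨r, ?_⟩
  apply (adj_bijective i).1
  apply Scheme.Modules.hom_ext
  intro W
  ext s
  change (adj i (φ ≫ r)).app W s = (adj i (𝟙 (Omega.conormal i))).app W s
  rw [adj_app, adj_app]
  change r.app (i ⁻¹ᵁ W) (φ.app (i ⁻¹ᵁ W) (conormalSect i W s)) = conormalSect i W s
  rw [hφ W s, ← adj_app, hr]
  have h1 := congrArg (fun E : Der f ((Scheme.Modules.pushforward i).obj (Omega.conormal i)) =>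
    E.app W (idealSect i.ker W s)) hα
  simp only [postcomp_app] at h1
  rw [h1, D_app, Dval_idealSect]

end Retr

section Main

variable {Z X S : Scheme.{u}} (f : X ⟶ S) (i : Z ⟶ X) [IsImmersion i] [QuasiCompact i]
  (g : X ⟶ Z) (hgi : i ≫ g = 𝟙 Z) (hgS : g ≫ i ≫ f = f)
  {ΩX : X.Modules} (dX : Der f ΩX) (hX : IsUniversal dX)
  {ΩZ : Z.Modules} (dZ : Der (i ≫ f) ΩZ) (hZ : IsUniversal dZ)
  (φ : Omega.conormal i ⟶ (Scheme.Modules.pullback i).obj ΩX) (hφ : IsConormalDiff i dX φ)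
  (c : (Scheme.Modules.pullback i).obj ΩX ⟶ ΩZ) (hc : IsDiffCompat i dX dZ c)

include hgi hgS hX hZ hφ hc in
/-- **the conormal sequence of an immersion with a retraction is split exact** -/
theorem conormal_split :
    ∃ w : φ ≫ c = 0, (ShortComplex.mk φ c w).Exact ∧
      (∃ r : (Scheme.Modules.pullback i).obj ΩX ⟶ Omega.conormal i, φ ≫ r = 𝟙 _) ∧
      ∃ σ : ΩZ ⟶ (Scheme.Modules.pullback i).obj ΩX, σ ≫ c = 𝟙 _ := by
  have w := conormal_comp_eq_zero f i dX hX dZ hZ φ hφ c hc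
  have hex := conormal_exact_sheaf f i dX hX dZ hZ φ hφ c hc w
  haveI := conormal_epi f i dX hX dZ hZ φ hφ c hc
  obtain ⟨r, hr⟩ := exists_retraction f i g hgi hgS dX hX φ hφ
  refine ⟨w, hex, ⟨r, hr⟩, ?_⟩
  have hepi : Epi (ShortComplex.mk φ c w).g := ‹Epi c›
  let sp := ShortComplex.Splitting.ofExactOfRetraction _ hex r hr hepi
  exact ⟨sp.s, sp.s_g⟩

end Main

end Groth.Agent.Lead.ConSplit
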