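import Mathlib
import Groth.Agent.Lib.Helper4.Epi1

set_option autoImplicit false
set_option backward.isDefEq.respectTransparency.types false
set_option synthInstance.maxHeartbeats 400000
set_option linter.style.haveILetI false
set_option linter.unusedSectionVars false

namespace Groth.Agent.Lead.GITQuot

open AlgebraicGeometry CategoryTheory TopologicalSpace Opposite Limits

universe u

theorem exists_ringHom_lift {A B C : Type*} [CommRing A] [CommRing B] [CommRing C]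
    (i : A →+* B) (hi : Function.Injective i) (j : C →+* B) (h : ∀ c, j c ∈ Set.range i) :
    ∃ ρ : C →+* A, i.comp ρ = j := by
  choose ρ hρ using h
  refine ⟨{ toFun := ρ, map_one' := ?_, map_mul' := ?_, map_zero' := ?_, map_add' := ?_ }, ?_⟩
  · apply hi; rw [hρ, map_one, map_one]
  · intro x y; apply hi; rw [hρ, map_mul, map_mul, hρ, hρ]
  · apply hi; rw [hρ, map_zero, map_zero]
  · intro x y; apply hi; rw [hρ, map_add, map_add, hρ, hρ]
  · ext c; exact hρ c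

theorem exists_lift_cat {A B C : CommRingCat.{u}} (i : A ⟶ B) (hi : Function.Injective i)
    (j : C ⟶ B) (h : ∀ c, j c ∈ Set.range i) : ∃ ρ : C ⟶ A, ρ ≫ i = j := by
  obtain ⟨ρ, hρ⟩ := exists_ringHom_lift i.hom hi j.hom h
  refine ⟨CommRingCat.ofHom ρ, ?_⟩
  ext c
  exact congrArg (fun t : C →+* B => t c) hρ

theorem epi_restrict {X Y : Scheme.{u}} (f : X ⟶ Y) (hs : Function.Surjective f.base)
    (hinj : ∀ U : Y.Opens, Function.Injective (f.app U)) (U : Y.Opens) : Epi (f ∣_ U) := by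
  haveI : Surjective f := ⟨hs⟩
  haveI : Surjective (f ∣_ U) := IsZariskiLocalAtTarget.restrict (P := @Surjective) ‹_› U
  apply Groth.Agent.Helper4.EP.epi_of_surjective_of_app_injective
  intro V
  rw [morphismRestrict_app]
  refine (show Function.Injective ((X.presheaf.map (eqToHom _).op).hom ∘
    (f.app (U.ι ''ᵁ V)).hom) from ?_)
  refine Function.Injective.comp ?_ (hinj _)
  exact (ConcreteCategory.bijective_of_isIso (X.presheaf.map (eqToHom _).op)).injective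

/-- Invariant sections (scheme-level copy of `GIT.IsInvSection`). -/
def IsInv {P X Y : Scheme.{u}} (σ p : P ⟶ X) (f : X ⟶ Y) (U : Y.Opens) (s : Γ(X, f ⁻¹ᵁ U)) : Prop :=
  σ.appLE (f ⁻¹ᵁ U) (σ ⁻¹ᵁ (f ⁻¹ᵁ U) ⊓ p ⁻¹ᵁ (f ⁻¹ᵁ U)) inf_le_left s =
    p.appLE (f ⁻¹ᵁ U) (σ ⁻¹ᵁ (f ⁻¹ᵁ U) ⊓ p ⁻¹ᵁ (f ⁻¹ᵁ U)) inf_le_right s

theorem appLE_congr {P Z : Scheme.{u}} {g₁ g₂ : P ⟶ Z} (e : g₁ = g₂) (V : Z.Opens) (W : P.Opens)
    (h₁ : W ≤ g₁ ⁻¹ᵁ V) (h₂ : W ≤ g₂ ⁻¹ᵁ V) : g₁.appLE V W h₁ = g₂.appLE V W h₂ := by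
  subst e; rfl

theorem isInv_appLE {P X Y Z : Scheme.{u}} (σ p : P ⟶ X) (f : X ⟶ Y) (ψ : X ⟶ Z)
    (hψ : σ ≫ ψ = p ≫ ψ) (U : Y.Opens) (V : Z.Opens) (hUV : f ⁻¹ᵁ U ≤ ψ ⁻¹ᵁ V) (b : Γ(Z, V)) :
    IsInv σ p f U (ψ.appLE V (f ⁻¹ᵁ U) hUV b) := by
  unfold IsInv
  rw [← CommRingCat.comp_apply, ← CommRingCat.comp_apply, Scheme.Hom.appLE_comp_appLE,
    Scheme.Hom.appLE_comp_appLE]
  exact congrArg (fun t : Γ(Z, V) ⟶ Γ(P, σ ⁻¹ᵁ f ⁻¹ᵁ U ⊓ p ⁻¹ᵁ f ⁻¹ᵁ U) =>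
    (ConcreteCategory.hom t) b) (appLE_congr hψ _ _ _ _)

theorem exists_local {P X Y Z : Scheme.{u}} (σ p : P ⟶ X) (f : X ⟶ Y) (ψ : X ⟶ Z)
    (hψ : σ ≫ ψ = p ≫ ψ) (U : Y.Opens) (hinj : Function.Injective (f.app U))
    (hrange : ∀ s, IsInv σ p f U s → s ∈ Set.range (f.app U))
    (V : Z.Opens) (hV : IsAffineOpen V) (hUV : f ⁻¹ᵁ U ≤ ψ ⁻¹ᵁ V) :
    ∃ g : U.toScheme ⟶ Z, (f ∣_ U) ≫ g = (f ⁻¹ᵁ U).ι ≫ ψ := by
  obtain ⟨ρ, hρ⟩ := exists_lift_cat (f.app U) hinj (ψ.appLE V (f ⁻¹ᵁ U) hUV)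
    (fun b => hrange _ (isInv_appLE σ p f ψ hψ U V hUV b))
  refine ⟨U.toSpecΓ ≫ Spec.map ρ ≫ hV.fromSpec, ?_⟩
  rw [← Scheme.Opens.toSpecΓ_naturality_assoc, ← Spec.map_comp_assoc, hρ,
    Scheme.Opens.toSpecΓ_SpecMap_appLE_assoc, IsAffineOpen.toSpecΓ_fromSpec,
    Scheme.Hom.resLE_comp_ι]

theorem base_eq_of_comp_eq {P X Y : Scheme.{u}} {σ p : P ⟶ X} {f : X ⟶ Y} (h : σ ≫ f = p ≫ f)
    (z : P) : f.base (σ.base z) = f.base (p.base z) := by
  have := congrArg (fun g : P ⟶ Y => g.base z) h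
  simpa using this

theorem surjective_of_closed_range {X Y : Scheme.{u}} (f : X ⟶ Y)
    (hinj : ∀ U : Y.Opens, Function.Injective (f.app U))
    (hcl : IsClosed (Set.range f.base)) : Function.Surjective f.base := by
  let U : Y.Opens := ⟨(Set.range f.base)ᶜ, hcl.isOpen_compl⟩
  have h1 : f ⁻¹ᵁ U = ⊥ := by
    ext x
    simp only [Opens.coe_bot, Set.mem_empty_iff_false, iff_false]
    intro hx
    exact hx ⟨x, rfl⟩
  have h2 : Subsingleton Γ(X, f ⁻¹ᵁ U) := by rw [h1]; infer_instance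
  have h3 : Subsingleton Γ(Y, U) := (hinj U).subsingleton
  have h4 : U = ⊥ := by
    rw [← Y.basicOpen_one (U := U), Subsingleton.elim (1 : Γ(Y, U)) 0, Y.basicOpen_zero]
  intro y
  by_contra hy
  have : y ∈ U := hy
  rw [h4] at this
  exact this

@[reassoc]
theorem restrict_homOfLE {X Y : Scheme.{u}} (f : X ⟶ Y) {U' U : Y.Opens} (h : U' ≤ U) :
    (f ∣_ U') ≫ Y.homOfLE h = X.homOfLE (f.preimage_mono h) ≫ (f ∣_ U) := by
  rw [← cancel_mono U.ι]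
  simp

section main

variable {P X Y Z : Scheme.{u}} (σ p : P ⟶ X) (f : X ⟶ Y)

theorem exists_fac (ψ : X ⟶ Z) (hψ : σ ≫ ψ = p ≫ ψ)
    (hii : ∀ U : Y.Opens, Function.Injective (f.app U) ∧
      ∀ s, IsInv σ p f U s → s ∈ Set.range (f.app U))
    (hs : Function.Surjective f.base)
    (hiii : ∀ W : Set X, IsClosed W → σ.base '' (p.base ⁻¹' W) ⊆ W → IsClosed (f.base '' W))
    (hiii' : ∀ (J : Type u) (W : J → Set X),
      (∀ i, IsClosed (W i) ∧ σ.base '' (p.base ⁻¹' W i) ⊆ W i) →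
      f.base '' (⋂ i, W i) = ⋂ i, f.base '' W i) :
    ∃ χ : Y ⟶ Z, f ≫ χ = ψ := by
  classical
  let J := Z.affineOpens
  let W : J → Set X := fun i => ((ψ ⁻¹ᵁ i.1 : X.Opens) : Set X)ᶜ
  have hWc : ∀ i, IsClosed (W i) := fun i => (ψ ⁻¹ᵁ i.1).isOpen.isClosed_compl
  have hWi : ∀ i, σ.base '' (p.base ⁻¹' W i) ⊆ W i := by
    rintro i _ ⟨z, hz, rfl⟩
    intro hmem
    apply hz
    show ψ.base (p.base z) ∈ i.1
    rw [← base_eq_of_comp_eq hψ z]
    exact hmem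
  have hW0 : ⋂ i, W i = ∅ := by
    ext x
    simp only [Set.mem_iInter, Set.mem_empty_iff_false, iff_false, not_forall]
    have hx : ψ.base x ∈ (⊤ : Z.Opens) := trivial
    rw [← iSup_affineOpens_eq_top Z, Opens.mem_iSup] at hx
    obtain ⟨i, hi⟩ := hx
    exact ⟨i, fun h => h hi⟩
  have hcap : ⋂ i, f.base '' W i = ∅ := by
    rw [← hiii' J W (fun i => ⟨hWc i, hWi i⟩), hW0, Set.image_empty]
  let U : J → Y.Opens := fun i => ⟨(f.base '' W i)ᶜ, (hiii _ (hWc i) (hWi i)).isOpen_compl⟩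
  have hUcov : IsOpenCover U := by
    refine IsOpenCover.mk ?_
    ext y
    simp only [Opens.coe_iSup, Opens.coe_top, Set.mem_univ, iff_true, Set.mem_iUnion]
    by_contra hn
    have : y ∈ ⋂ i, f.base '' W i := by
      rw [Set.mem_iInter]
      intro i
      by_contra hi
      exact hn ⟨i, hi⟩
    rw [hcap] at this
    exact this
  have hUV : ∀ i, f ⁻¹ᵁ U i ≤ ψ ⁻¹ᵁ i.1 := by
    intro i x hx
    by_contra hn
    exact hx ⟨x, hn, rfl⟩
  choose g hg using fun i => exists_local σ p f ψ hψ (U i) (hii _).1 (hii _).2 i.1 i.2 (hUV i)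
  have hepi : ∀ U', Epi (f ∣_ U') := epi_restrict f hs (fun U => (hii U).1)
  have hcompat : ∀ i j, Y.homOfLE (inf_le_left : U i ⊓ U j ≤ U i) ≫ g i =
      Y.homOfLE (inf_le_right : U i ⊓ U j ≤ U j) ≫ g j := by
    intro i j
    haveI := hepi (U i ⊓ U j)
    rw [← cancel_epi (f ∣_ (U i ⊓ U j)), restrict_homOfLE_assoc, restrict_homOfLE_assoc, hg, hg,
      Scheme.homOfLE_ι_assoc, Scheme.homOfLE_ι_assoc]
  let 𝒰 := Y.openCoverOfIsOpenCover U hUcov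
  have hglue : ∀ i j : J, pullback.fst (𝒰.f i) (𝒰.f j) ≫ g i =
      pullback.snd (𝒰.f i) (𝒰.f j) ≫ g j := by
    intro i j
    have hp := isPullback_opens_inf (U i) (U j)
    show pullback.fst (U i).ι (U j).ι ≫ g i = pullback.snd (U i).ι (U j).ι ≫ g j
    rw [← cancel_epi hp.isoPullback.hom, IsPullback.isoPullback_hom_fst_assoc,
      IsPullback.isoPullback_hom_snd_assoc]
    exact hcompat i j
  refine ⟨𝒰.glueMorphisms g hglue, ?_⟩
  refine Scheme.hom_ext_of_forall _ _ fun x => ?_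
  obtain ⟨i, hi⟩ := hUcov.exists_mem (f.base x)
  refine ⟨f ⁻¹ᵁ U i, hi, ?_⟩
  rw [← morphismRestrict_ι_assoc]
  have := 𝒰.ι_glueMorphisms g hglue i
  rw [← hg i]
  exact congrArg (fun t => (f ∣_ U i) ≫ t) this

theorem image_preimage_subset_of_comp_eq (h : σ ≫ f = p ≫ f) (s : Set Y) :
    σ.base '' (p.base ⁻¹' (f.base ⁻¹' s)) ⊆ f.base ⁻¹' s := by
  rintro _ ⟨z, hz, rfl⟩
  show f.base (σ.base z) ∈ s
  rw [base_eq_of_comp_eq h z]
  exact hz

theorem isQuotientMap_of (h : σ ≫ f = p ≫ f) (hs : Function.Surjective f.base)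
    (hiii : ∀ W : Set X, IsClosed W → σ.base '' (p.base ⁻¹' W) ⊆ W → IsClosed (f.base '' W)) :
    Topology.IsQuotientMap f.base := by
  rw [Topology.isQuotientMap_iff_isClosed]
  refine ⟨hs, fun s => ⟨fun hc => hc.preimage f.continuous, fun hc => ?_⟩⟩
  have := hiii _ hc (image_preimage_subset_of_comp_eq σ p f h s)
  rwa [Set.image_preimage_eq _ hs] at this

end main

end Groth.Agent.Lead.GITQuot
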