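import Mathlib
import Groth.Prelude
import Groth.Agent.Lib.Lead.RkLoc7

set_option autoImplicit false
set_option backward.isDefEq.respectTransparency.types false
set_option synthInstance.maxHeartbeats 400000
set_option linter.style.haveILetI false
set_option linter.unusedSectionVars false
universe u

open CategoryTheory CategoryTheory.Limits AlgebraicGeometry IsLocalRing TopologicalSpace Topology

namespace Groth.Agent.Lead.RkLoc

open LocCoh Groth.Agent.Lead.FibCons Groth.Agent.Lead.SkLoc

theorem geometricallyReduced_iff_forall_isGeomReducedAt {κ : Type u} [Field κ] {W : Scheme.{u}}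
    (h : W ⟶ Spec (CommRingCat.of κ)) :
    GeometricallyReduced h ↔ ∀ w : W, FBase.IsGeomReducedAt h w := by
  rw [GeometricallyReduced.eq_geometrically,
    geometrically_iff_of_commRing_of_isClosedUnderIsomorphisms]
  constructor
  · intro H w K _ _ x' _
    haveI : IsReduced (FBase.bc h K) := H K
    infer_instance
  · intro H K _ _
    change IsReduced (FBase.bc h K)
    haveI : ∀ x' : ↥(FBase.bc h K), _root_.IsReduced ((FBase.bc h K).presheaf.stalk x') :=
      fun x' => H _ K x' rfl
    exact isReduced_of_isReduced_stalk _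

theorem reducedAll_fiber_iff {X Y : Scheme.{u}} (f : X ⟶ Y) [LocallyOfFinitePresentation f] (y : Y)
    (x : ↥(f.fiber y)) :
    FBase.IsGeomReducedAt (f.fiberToSpecResidueField y) x ↔ f.fiberι y x ∈ rsLocus 0 f := by
  haveI := lfp_fiber f y
  rw [mem_rsLocus_iff]
  have h3 := fiber_congr f (fun y w => RkAt 0 (f.fiberToSpecResidueField y) w ∧
    HasSk (0 + 1) ((f.fiber y).presheaf.stalk w) ((f.fiber y).presheaf.stalk w))
    (f.asFiber (f.fiberι y x)) x (f.fiberι_asFiber _)
  rw [h3]
  rw [← forall_reduced_iff (κ := Y.residueField y) (f.fiberToSpecResidueField y)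
    (fun K _ _ => True) (fun _ _ _ _ => trivial) x]
  unfold FBase.IsGeomReducedAt
  constructor
  · intro H K i1 i2 _ x' hx'
    exact @H K i1 i2 x' hx'
  · intro H K i1 i2 x' hx'
    exact @H K i1 i2 trivial x' hx'

/-- S0435 -/
theorem S0435_main {X Y : Scheme.{u}} (f : X ⟶ Y) [Flat f] [IsProper f]
    [LocallyOfFinitePresentation f] :
    IsOpen {y : ↑Y | GeometricallyReduced (f.fiberToSpecResidueField y)} := by
  have h1 : IsClosed (f '' (rsLocus 0 f)ᶜ) :=
    f.isClosedMap _ (isOpen_rsLocus f 0).isClosed_compl
  convert h1.isOpen_compl using 1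
  ext y
  have key := geometricallyReduced_iff_forall_isGeomReducedAt (κ := Y.residueField y)
    (f.fiberToSpecResidueField y)
  rw [Set.mem_setOf_eq, Set.mem_compl_iff, key]
  constructor
  · rintro h ⟨x, hx, hfx⟩
    apply hx
    subst hfx
    have h2 := (reducedAll_fiber_iff f (f x) (f.asFiber x)).mp (h (f.asFiber x))
    rwa [f.fiberι_asFiber] at h2
  · intro h x
    refine (reducedAll_fiber_iff f y x).mpr ?_
    by_contra hne
    exact h ⟨f.fiberι y x, hne, Groth.Agent.Helper3.FibStalk.apply_fiberι f y x⟩

end Groth.Agent.Lead.RkLoc
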