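import Mathlib
import Groth.Prelude.Def_TorSh
import Groth.Agent.Lib.Helper1.TwForm1
import Groth.Agent.Lib.Helper1.QcLoc
import Groth.Agent.Lib.Lead.Ref1H
import Groth.Agent.Lib.Helper7.CohStalk.WeakAssExact

/-!
# Torsion free rank one modules embed in the sheaf of rational functions (lead)
-/

set_option autoImplicit false
set_option backward.isDefEq.respectTransparency.types false
set_option synthInstance.maxHeartbeats 400000
set_option linter.style.haveILetI false
set_option linter.unusedSectionVars false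
universe u
open CategoryTheory CategoryTheory.Limits AlgebraicGeometry TopologicalSpace Opposite

namespace Groth.Agent.Lead.TorShL

open Groth.Agent.Helper1 Groth.Agent.Lead.Ref1

variable (X : Scheme.{u}) [IsIntegral X]

/-- the function field -/
noncomputable abbrev Kη : CommRingCat.{u} := X.presheaf.stalk (genericPoint X)

/-- the inclusion of the generic point -/
noncomputable abbrev jη : Spec (Kη X) ⟶ X := X.fromSpecStalk (genericPoint X)

/-- the sheaf of rational functions, as the push forward of the structure sheaf of the generic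
point -/
noncomputable abbrev NN : X.Modules :=
  (Scheme.Modules.pushforward (jη X)).obj (Coh.structureModule (Spec (Kη X)))

theorem generic_mem {U : X.Opens} (h : (U : Set X).Nonempty) : genericPoint X ∈ U := by
  have := (genericPoint_spec X).mem_open_set_iff U.2
  apply this.2
  simpa using h

theorem jη_base (p : Spec (Kη X)) : (jη X).base p = genericPoint X := by
  have h1 : (jη X).base p ∈ Set.range (jη X).base := ⟨p, rfl⟩
  rw [Scheme.range_fromSpecStalk] at h1
  have h2 : genericPoint X ⤳ (jη X).base p := genericPoint_specializes _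
  exact (h1.antisymm h2).eq

theorem preimage_eq_top {U : X.Opens} (h : genericPoint X ∈ U) : (jη X) ⁻¹ᵁ U = ⊤ := by
  ext p
  simp only [Scheme.Hom.mem_preimage, Opens.coe_top, Set.mem_univ, iff_true, SetLike.mem_coe]
  rw [jη_base]
  exact h

theorem preimage_eq_bot {U : X.Opens} (h : genericPoint X ∉ U) : (jη X) ⁻¹ᵁ U = ⊥ := by
  ext p
  simp only [Scheme.Hom.mem_preimage, Opens.coe_bot, Set.mem_empty_iff_false, iff_false,
    SetLike.mem_coe]
  rw [jη_base]
  exact h

/-- constants as sections -/
noncomputable def toΓ (U : X.Opens) : Kη X →+* Γ(Spec (Kη X), (jη X) ⁻¹ᵁ U) :=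
  ((Scheme.ΓSpecIso (Kη X)).inv ≫ (Spec (Kη X)).presheaf.map (homOfLE le_top).op).hom

theorem toΓ_germ {U : X.Opens} (h : genericPoint X ∈ U) (r : Γ(X, U)) :
    toΓ X U (X.presheaf.germ U (genericPoint X) h r) = (jη X).app U r := by
  rw [Scheme.fromSpecStalk_app h]
  rfl

theorem toΓ_res {U V : X.Opens} (hVU : V ≤ U) (k : Kη X) :
    (Spec (Kη X)).presheaf.map (homOfLE ((jη X).preimage_mono hVU)).op (toΓ X U k) = toΓ X V k := by
  change ((Spec (Kη X)).presheaf.map _ ≫ (Spec (Kη X)).presheaf.map _).hom
    ((Scheme.ΓSpecIso (Kη X)).inv.hom k) = _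
  rw [← Functor.map_comp]
  rfl

theorem toΓ_bijective {U : X.Opens} (h : genericPoint X ∈ U) : Function.Bijective (toΓ X U) := by
  have e := preimage_eq_top X h
  haveI : IsIso (homOfLE (le_top : (jη X) ⁻¹ᵁ U ≤ ⊤)) :=
    ⟨homOfLE e.ge, Subsingleton.elim _ _, Subsingleton.elim _ _⟩
  haveI : IsIso ((Spec (Kη X)).presheaf.map (homOfLE (le_top : (jη X) ⁻¹ᵁ U ≤ ⊤)).op) :=
    inferInstance
  exact ConcreteCategory.bijective_of_isIso
    ((Scheme.ΓSpecIso (Kη X)).inv ≫ (Spec (Kη X)).presheaf.map (homOfLE le_top).op)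

theorem subsingleton_of_not_mem {U : X.Opens} (h : genericPoint X ∉ U) :
    Subsingleton Γ(Spec (Kη X), (jη X) ⁻¹ᵁ U) := by
  rw [preimage_eq_bot X h]
  infer_instance

theorem subsingleton_NN {U : X.Opens} (h : genericPoint X ∉ U) : Subsingleton Γ(NN X, U) :=
  subsingleton_of_not_mem X h

theorem subsingleton_sections (F : X.Modules) {U : X.Opens} (h : genericPoint X ∉ U) :
    Subsingleton Γ(F, U) := by
  have hU : U = ⊥ := by
    by_contra hne
    apply h
    apply generic_mem
    by_contra hemp
    apply hne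
    ext x
    simp only [Opens.coe_bot, Set.mem_empty_iff_false, iff_false, SetLike.mem_coe]
    intro hx
    exact hemp ⟨x, hx⟩
  subst hU
  exact Module.subsingleton Γ(X, ⊥) _

variable {X}
variable (F : X.Modules) (ψ : F.presheaf.stalk (genericPoint X) →ₗ[Kη X] Kη X)

open Classical in
/-- the sectionwise map -/
noncomputable def φ (U : X.Opens) (s : Γ(F, U)) : Γ(NN X, U) :=
  if h : genericPoint X ∈ U then
    (show Γ(NN X, U) from toΓ X U (ψ (F.presheaf.germ U (genericPoint X) h s)))
  else 0

theorem φ_pos {U : X.Opens} (h : genericPoint X ∈ U) (s : Γ(F, U)) :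
    φ F ψ U s = (show Γ(NN X, U) from toΓ X U (ψ (F.presheaf.germ U (genericPoint X) h s))) := by
  unfold φ
  rw [dif_pos h]

theorem add_NN (U : X.Opens) (a b : Γ(Spec (Kη X), (jη X) ⁻¹ᵁ U)) :
    (show Γ(NN X, U) from a) + (show Γ(NN X, U) from b) = (show Γ(NN X, U) from a + b) := rfl

theorem smul_NN (U : X.Opens) (r : Γ(X, U)) (b : Γ(Spec (Kη X), (jη X) ⁻¹ᵁ U)) :
    r • (show Γ(NN X, U) from b) = (show Γ(NN X, U) from (jη X).app U r * b) := rfl

theorem res_NN {U V : X.Opens} (hVU : V ≤ U) (b : Γ(Spec (Kη X), (jη X) ⁻¹ᵁ U)) :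
    QcCech.res (NN X) hVU (show Γ(NN X, U) from b) =
      (show Γ(NN X, V) from
        (Spec (Kη X)).presheaf.map (homOfLE ((jη X).preimage_mono hVU)).op b) := rfl

theorem φ_add (U : X.Opens) (a b : Γ(F, U)) : φ F ψ U (a + b) = φ F ψ U a + φ F ψ U b := by
  by_cases h : genericPoint X ∈ U
  · rw [φ_pos F ψ h, φ_pos F ψ h, φ_pos F ψ h, add_NN, map_add, map_add, map_add]
  · haveI := subsingleton_NN X h
    exact Subsingleton.elim _ _

theorem φ_smul (U : X.Opens) (r : Γ(X, U)) (a : Γ(F, U)) : φ F ψ U (r • a) = r • φ F ψ U a := by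
  by_cases h : genericPoint X ∈ U
  · rw [φ_pos F ψ h, φ_pos F ψ h, smul_NN, Groth.Agent.Helper7.FinType.germ_smul, map_smul,
      smul_eq_mul, map_mul, toΓ_germ]
  · haveI := subsingleton_NN X h
    exact Subsingleton.elim _ _

theorem φ_res (U V : X.Opens) (hVU : V ≤ U) (a : Γ(F, U)) :
    QcCech.res (NN X) hVU (φ F ψ U a) = φ F ψ V (QcCech.res F hVU a) := by
  by_cases h : genericPoint X ∈ V
  · have hU : genericPoint X ∈ U := hVU h
    rw [φ_pos F ψ h, φ_pos F ψ hU, res_NN, toΓ_res X hVU]
    have e : F.presheaf.germ V (genericPoint X) h (QcCech.res F hVU a) =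
        F.presheaf.germ U (genericPoint X) hU a :=
      TopCat.Presheaf.germ_res_apply F.presheaf (homOfLE hVU) _ h a
    rw [e]
  · haveI := subsingleton_NN X h
    exact Subsingleton.elim _ _

/-- the morphism to the sheaf of rational functions -/
noncomputable def toNN : F ⟶ NN X :=
  TwForm.homMk F (NN X) (φ F ψ) (φ_add F ψ) (φ_smul F ψ) (φ_res F ψ)

theorem toNN_app (U : X.Opens) (s : Γ(F, U)) : (toNN F ψ).app U s = φ F ψ U s := rfl

theorem mono_toNN (hq : SheafOfModules.IsQuasicoherent.{u, u, u} F)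
    (htf : TorSh.IsTorsionFree F) (hψ : Function.Injective ψ) : Mono (toNN F ψ) := by
  apply Groth.Agent.Helper7.FinType.mono_of_injective_app
  intro U
  by_cases h : genericPoint X ∈ U
  · have hmap : ∀ s : Γ(F, U), (toNN F ψ).app U s = 0 → s = 0 := by
      intro s hs
      rw [toNN_app, φ_pos F ψ h] at hs
      have h1 : toΓ X U (ψ (F.presheaf.germ U (genericPoint X) h s)) = toΓ X U 0 := by
        rw [map_zero]; exact hs
      have h2 := (toΓ_bijective X h).1 h1
      have h3 : F.presheaf.germ U (genericPoint X) h s = 0 := hψ (by rw [h2, map_zero])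
      apply section_ext_generic (spInj_of_torsionFree hq htf) h
      rw [h3, map_zero]
    intro s s' hss
    have := hmap (s - s') (by rw [map_sub, hss, sub_self])
    exact sub_eq_zero.1 this
  · haveI := subsingleton_sections X F h
    intro s s' _
    exact Subsingleton.elim _ _

theorem S4350_main (X : Scheme.{u}) [IsIntegral X] (F : X.Modules) [Coh.IsQCoh F]
    (hF : TorSh.IsTorsionFree F)
    (h1 : Module.finrank (X.presheaf.stalk (genericPoint X))
      (F.presheaf.stalk (genericPoint X)) = 1) :
    ∃ i : F ⟶ (Scheme.Modules.pushforward (X.fromSpecStalk (genericPoint X))).obj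
        (Coh.structureModule (Spec (X.presheaf.stalk (genericPoint X)))), Mono i := by
  haveI : Module.Finite (Kη X) (F.presheaf.stalk (genericPoint X)) :=
    Module.finite_of_finrank_pos (by rw [h1]; exact Nat.one_pos)
  have h2 : Module.finrank (Kη X) (F.presheaf.stalk (genericPoint X)) =
      Module.finrank (Kη X) (Kη X) := by rw [h1, Module.finrank_self]
  obtain ⟨e⟩ := FiniteDimensional.nonempty_linearEquiv_of_finrank_eq h2
  exact ⟨toNN F e.toLinearMap, mono_toNN F e.toLinearMap inferInstance hF e.injective⟩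

end Groth.Agent.Lead.TorShL
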