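import Mathlib
import Groth.Prelude.Def_TorSh
import Groth.Prelude.Def_RefHull
import Groth.Agent.Lib.Lead.TorSh1
import Groth.Agent.Lib.Helper7.CohStalk.AssExact

/-!
# Submodules of the sheaf of rational functions are torsion free of rank one (lead)
-/

set_option autoImplicit false
set_option backward.isDefEq.respectTransparency.types false
set_option synthInstance.maxHeartbeats 400000
set_option linter.style.haveILetI false
set_option linter.unusedSectionVars false
universe u
open CategoryTheory CategoryTheory.Limits AlgebraicGeometry TopologicalSpace Opposite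

namespace Groth.Agent.Lead.TorShL

open Groth.Agent.Helper1 Groth.Agent.Lead.Ref1

section General

variable {X : Scheme.{u}}

theorem exists_res_eq_zero_of_germ (M : X.Modules) {U : X.Opens} (x : X) (hx : x ∈ U) (t : Γ(M, U))
    (h : M.presheaf.germ U x hx t = 0) :
    ∃ (V : X.Opens) (hVU : V ≤ U), x ∈ V ∧ QcCech.res M hVU t = 0 := by
  obtain ⟨W, hxW, iW, _, e⟩ := TopCat.Presheaf.germ_eq M.presheaf x hx hx t 0 (by rw [h, map_zero])
  rw [map_zero] at e
  exact ⟨W, iW.le, hxW, e⟩

theorem stalkMap_injective_of_mono {G N : X.Modules} (i : G ⟶ N) [Mono i] (x : X) :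
    Function.Injective (RefHull.stalkMapₗ i x) := by
  rw [injective_iff_map_eq_zero]
  intro w hw
  obtain ⟨U, hxU, s, rfl⟩ := TopCat.Presheaf.exists_germ_eq G.presheaf w
  rw [RefHull.stalkMapₗ_germ] at hw
  obtain ⟨V, hVU, hxV, e⟩ := exists_res_eq_zero_of_germ N x hxU _ hw
  have e1 : i.app V (QcCech.res G hVU s) = 0 := by
    rw [← e]
    have := congrArg (fun f => f.hom s) (i.mapPresheaf.naturality (homOfLE hVU).op)
    exact this
  have e2 : QcCech.res G hVU s = 0 := by
    apply Groth.Agent.Helper7.FinType.injective_app_of_mono i V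
    exact e1.trans (map_zero _).symm
  have e3 : G.presheaf.germ U x hxU s = G.presheaf.germ V x hxV (QcCech.res G hVU s) :=
    (TopCat.Presheaf.germ_res_apply G.presheaf (homOfLE hVU) x hxV s).symm
  rw [e3, e2, map_zero]

end General

variable {X : Scheme.{u}} [IsIntegral X]

theorem isTorsionFree_NN_stalk (x : X) :
    Module.IsTorsionFree (X.presheaf.stalk x) ((NN X).presheaf.stalk x) := by
  refine Module.IsTorsionFree.of_smul_eq_zero (fun r m h => ?_)
  obtain ⟨U₁, hx₁, b, rfl⟩ := TopCat.Presheaf.exists_germ_eq X.presheaf r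
  obtain ⟨U₂, hx₂, a, rfl⟩ := TopCat.Presheaf.exists_germ_eq (NN X).presheaf m
  have hxW : x ∈ U₁ ⊓ U₂ := ⟨hx₁, hx₂⟩
  let b₁ : Γ(X, U₁ ⊓ U₂) := QcCech.resR inf_le_left b
  let a₁ : Γ(NN X, U₁ ⊓ U₂) := QcCech.res (NN X) inf_le_right a
  have hb₁ : X.presheaf.germ (U₁ ⊓ U₂) x hxW b₁ = X.presheaf.germ U₁ x hx₁ b :=
    TopCat.Presheaf.germ_res_apply X.presheaf (homOfLE inf_le_left) x hxW b
  have ha₁ : (NN X).presheaf.germ (U₁ ⊓ U₂) x hxW a₁ = (NN X).presheaf.germ U₂ x hx₂ a :=
    TopCat.Presheaf.germ_res_apply (NN X).presheaf (homOfLE inf_le_right) x hxW a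
  rw [← hb₁, ← ha₁, ← Groth.Agent.Helper7.FinType.germ_smul] at h
  obtain ⟨V, hVW, hxV, e⟩ := exists_res_eq_zero_of_germ (NN X) x hxW _ h
  rw [QcCech.res_smul] at e
  have hηV : genericPoint X ∈ V := generic_mem X ⟨x, hxV⟩
  let b' : Γ(X, V) := QcCech.resR hVW b₁
  let a' : Γ(NN X, V) := QcCech.res (NN X) hVW a₁
  have hb' : X.presheaf.germ V x hxV b' = X.presheaf.germ (U₁ ⊓ U₂) x hxW b₁ :=
    TopCat.Presheaf.germ_res_apply X.presheaf (homOfLE hVW) x hxV b₁
  have ha' : (NN X).presheaf.germ V x hxV a' = (NN X).presheaf.germ (U₁ ⊓ U₂) x hxW a₁ :=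
    TopCat.Presheaf.germ_res_apply (NN X).presheaf (homOfLE hVW) x hxV a₁
  have e1 : b' • a' = 0 := e
  obtain ⟨k, hk⟩ := (toΓ_bijective X hηV).2 (show Γ(Spec (Kη X), (jη X) ⁻¹ᵁ V) from a')
  have e2 : toΓ X V (X.presheaf.germ V (genericPoint X) hηV b' * k) = 0 := by
    rw [map_mul, toΓ_germ, hk]
    exact e1
  have e3 : X.presheaf.germ V (genericPoint X) hηV b' * k = 0 :=
    (toΓ_bijective X hηV).1 (by rw [e2, map_zero])
  rw [← hb₁, ← ha₁, ← hb', ← ha']
  rcases mul_eq_zero.1 e3 with h0 | h0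
  · left
    have hb0 : b' = 0 := by
      haveI : Nonempty V := ⟨⟨x, hxV⟩⟩
      exact germ_injective_of_isIntegral X (genericPoint X) hηV (by rw [h0, map_zero])
    rw [hb0, map_zero]
  · right
    have ha0 : a' = 0 := by
      rw [h0, map_zero] at hk
      exact hk.symm
    rw [ha0, map_zero]

/-- the unit section of the sheaf of rational functions -/
noncomputable def oneNN (U : X.Opens) : Γ(NN X, U) :=
  (show Γ(NN X, U) from (1 : Γ(Spec (Kη X), (jη X) ⁻¹ᵁ U)))

theorem res_oneNN {U V : X.Opens} (hVU : V ≤ U) : QcCech.res (NN X) hVU (oneNN U) = oneNN V := by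
  unfold oneNN
  rw [res_NN, map_one]

theorem exists_smul_eq (m : (NN X).presheaf.stalk (genericPoint X)) :
    ∃ k : Kη X, m = k • (NN X).presheaf.germ ⊤ (genericPoint X) trivial (oneNN ⊤) := by
  obtain ⟨U, hηU, a, rfl⟩ := TopCat.Presheaf.exists_germ_eq (NN X).presheaf m
  obtain ⟨k, hk⟩ := (toΓ_bijective X hηU).2 (show Γ(Spec (Kη X), (jη X) ⁻¹ᵁ U) from a)
  refine ⟨k, ?_⟩
  obtain ⟨V, hηV, b, rfl⟩ := TopCat.Presheaf.exists_germ_eq X.presheaf k
  have hηW : genericPoint X ∈ U ⊓ V := ⟨hηU, hηV⟩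
  set b' : Γ(X, U ⊓ V) := QcCech.resR inf_le_right b with hb'
  have e1 : QcCech.res (NN X) (inf_le_left : U ⊓ V ≤ U) a = b' • oneNN (U ⊓ V) := by
    have h1 : a = (show Γ(NN X, U) from toΓ X U (X.presheaf.germ V (genericPoint X) hηV b)) :=
      hk.symm
    rw [h1, res_NN, toΓ_res X (inf_le_left : U ⊓ V ≤ U)]
    have h2 : X.presheaf.germ V (genericPoint X) hηV b =
        X.presheaf.germ (U ⊓ V) (genericPoint X) hηW b' :=
      (TopCat.Presheaf.germ_res_apply X.presheaf (homOfLE inf_le_right) _ hηW b).symm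
    rw [h2, toΓ_germ]
    unfold oneNN
    rw [smul_NN, mul_one]
  rw [← TopCat.Presheaf.germ_res_apply (NN X).presheaf (homOfLE (inf_le_left : U ⊓ V ≤ U)) _ hηW a]
  change (NN X).presheaf.germ (U ⊓ V) _ hηW (QcCech.res (NN X) inf_le_left a) = _
  rw [e1, Groth.Agent.Helper7.FinType.germ_smul]
  congr 1
  · exact TopCat.Presheaf.germ_res_apply X.presheaf (homOfLE inf_le_right) _ hηW b
  · rw [← res_oneNN (le_top : U ⊓ V ≤ ⊤)]
    exact TopCat.Presheaf.germ_res_apply (NN X).presheaf (homOfLE le_top) _ hηW (oneNN ⊤)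

theorem finrank_NN_le : Module.Finite (Kη X) ((NN X).presheaf.stalk (genericPoint X)) ∧
    Module.finrank (Kη X) ((NN X).presheaf.stalk (genericPoint X)) ≤ 1 := by
  let e := (NN X).presheaf.germ ⊤ (genericPoint X) trivial (oneNN ⊤)
  let f : Kη X →ₗ[Kη X] (NN X).presheaf.stalk (genericPoint X) := LinearMap.toSpanSingleton _ _ e
  have hf : Function.Surjective f := by
    intro m
    obtain ⟨k, hk⟩ := exists_smul_eq m
    exact ⟨k, hk.symm⟩
  haveI : Module.Finite (Kη X) ((NN X).presheaf.stalk (genericPoint X)) :=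
    Module.Finite.of_surjective f hf
  refine ⟨inferInstance, ?_⟩
  have := LinearMap.finrank_le_finrank_of_surjective hf
  rwa [Module.finrank_self] at this

theorem isZero_of_stalk_generic {G : X.Modules} (hq : SheafOfModules.IsQuasicoherent.{u, u, u} G)
    (htf : TorSh.IsTorsionFree G) (h : Subsingleton (G.presheaf.stalk (genericPoint X))) :
    IsZero G := by
  rw [IsZero.iff_id_eq_zero]
  apply Scheme.Modules.hom_ext
  intro U
  ext s
  by_cases hη : genericPoint X ∈ U
  · apply section_ext_generic (spInj_of_torsionFree hq htf) hη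
    exact Subsingleton.elim _ _
  · haveI := subsingleton_sections X G hη
    exact Subsingleton.elim _ _

theorem S4356_main (X : Scheme.{u}) [IsIntegral X] (G : X.Modules) [Coh.IsQCoh G]
    (i : G ⟶ (Scheme.Modules.pushforward (X.fromSpecStalk (genericPoint X))).obj
        (Coh.structureModule (Spec (X.presheaf.stalk (genericPoint X))))) [Mono i]
    (hG : ¬ Limits.IsZero G) :
    TorSh.IsTorsionFree G ∧
      Module.finrank (X.presheaf.stalk (genericPoint X)) (G.presheaf.stalk (genericPoint X)) = 1 := by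
  have htf : TorSh.IsTorsionFree G := by
    intro x
    haveI := isTorsionFree_NN_stalk (X := X) x
    exact Function.Injective.moduleIsTorsionFree (RefHull.stalkMapₗ i x)
      (stalkMap_injective_of_mono i x) (fun r m => map_smul _ r m)
  refine ⟨htf, ?_⟩
  obtain ⟨hfin, hle⟩ := finrank_NN_le (X := X)
  have hinj := stalkMap_injective_of_mono i (genericPoint X)
  haveI : Module.Finite (Kη X) (G.presheaf.stalk (genericPoint X)) :=
    Module.Finite.of_injective (RefHull.stalkMapₗ i (genericPoint X)) hinj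
  have h1 : Module.finrank (Kη X) (G.presheaf.stalk (genericPoint X)) ≤ 1 :=
    (LinearMap.finrank_le_finrank_of_injective hinj).trans hle
  have h2 : 0 < Module.finrank (Kη X) (G.presheaf.stalk (genericPoint X)) := by
    rw [Module.finrank_pos_iff]
    by_contra hcon
    rw [not_nontrivial_iff_subsingleton] at hcon
    exact hG (isZero_of_stalk_generic inferInstance htf hcon)
  exact le_antisymm h1 h2

end Groth.Agent.Lead.TorShL
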