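import Mathlib
import Groth.Prelude.Def_Pi1
import Groth.Prelude.Def_FlatMod2
import Groth.Prelude.Def_RefHull
import Groth.Prelude.Def_CohB1
import Groth.Agent.Lib.Lead.FlatHart1
import Groth.Agent.Lib.Lead.RH7
import Groth.Agent.Lib.Lead.TorSh2
import Groth.Agent.Lib.Lead.Ref1G
import Groth.Agent.Lib.Helper1.QcAbel
import Groth.Agent.Lib.Helper1.FpLocal
import Groth.Agent.Lib.Helper5.Perf.LocalCoh
import Groth.Agent.Lib.Helper7.CohStalk.FiniteAss
import Groth.Agent.Lib.Helper7.CohStalk.WeakAssExact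

/-!
# The reflexive hull of a finite type submodule of a flat module on a normal scheme (lead)
-/

set_option autoImplicit false
set_option backward.isDefEq.respectTransparency.types false
set_option synthInstance.maxHeartbeats 400000
set_option linter.style.haveILetI false
set_option linter.unusedSectionVars false
universe u
open CategoryTheory CategoryTheory.Limits AlgebraicGeometry TopologicalSpace Opposite

namespace Groth.Agent.Lead.FlatHart

open Groth.Agent.Lib.Helper4.Hartogs1 Groth.Agent.Lib.Helper4.ModHartogs1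
  Groth.Agent.Lib.Helper4.CohHartogs1 Scheme.Modules

section qcoh
variable {X : Scheme.{u}}

theorem mono_restrict {F A : X.Modules} (ι : F ⟶ A) [Mono ι] {Y : Scheme.{u}} (j : Y ⟶ X)
    [IsOpenImmersion j] : Mono ((restrictFunctor j).map ι) := by
  apply Groth.Agent.Helper7.FinType.mono_of_injective_app
  intro W
  exact Groth.Agent.Helper7.FinType.injective_app_of_mono ι (j ''ᵁ W)

/-- an epimorphic image of a quasi-coherent module inside a quasi-coherent module is
quasi-coherent -/
theorem isQuasicoherent_of_epi_mono {P N B : X.Modules} [P.IsQuasicoherent] [B.IsQuasicoherent]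
    (p : P ⟶ N) [Epi p] (m : N ⟶ B) [Mono m] : N.IsQuasicoherent := by
  haveI := Groth.Agent.Helper1.QcAbel.isQuasicoherent_kernel (p ≫ m)
  have hz : kernel.ι (p ≫ m) ≫ p = 0 := by
    rw [← cancel_mono m, Category.assoc, kernel.condition, zero_comp]
  let S : ShortComplex X.Modules := ShortComplex.mk (kernel.ι (p ≫ m)) p hz
  have hS : S.Exact := by
    apply ShortComplex.exact_of_f_is_kernel
    exact isKernelOfComp m (p ≫ m) (kernelIsKernel (p ≫ m)) hz rfl
  have : Mono S.f := inferInstanceAs (Mono (kernel.ι (p ≫ m)))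
  have : Epi S.g := inferInstanceAs (Epi p)
  have hSE : S.ShortExact := { exact := hS }
  have : S.X₁.IsQuasicoherent := ‹(kernel (p ≫ m)).IsQuasicoherent›
  have : S.X₂.IsQuasicoherent := ‹P.IsQuasicoherent›
  exact Groth.Agent.Helper1.QcAbel.isQuasicoherent_right (S := S) hSE

/-- a finite type submodule of a quasi-coherent module is quasi-coherent -/
theorem isQuasicoherent_of_mono_of_isFT {F A : X.Modules} [A.IsQuasicoherent] (ι : F ⟶ A) [Mono ι]
    (hF : CohB1.IsFT F) : F.IsQuasicoherent := by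
  apply Groth.Agent.Lib.Helper5.LocalCoh.isQuasicoherent_of_locally
  intro x
  obtain ⟨W, hxW, hW⟩ := Groth.Agent.Helper7.FinType.exists_generators_of_le F hF x
  obtain ⟨G, -⟩ := hW W le_rfl
  refine ⟨W, hxW, ?_⟩
  haveI : (SheafOfModules.free G.I : (W : Scheme.{u}).Modules).IsQuasicoherent := inferInstance
  haveI : (A.restrict W.ι).IsQuasicoherent := Scheme.Modules.isQuasicoherent_restrictFunctor _ _
  haveI := mono_restrict ι W.ι
  haveI : Epi (C := (W : Scheme.{u}).Modules) G.π := G.epi
  exact isQuasicoherent_of_epi_mono (P := (SheafOfModules.free G.I : (W : Scheme.{u}).Modules))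
    (B := A.restrict W.ι) G.π ((restrictFunctor W.ι).map ι)

end qcoh

section flatlocus
variable {X : Scheme.{u}}

theorem flat_of_injective_of_bezout {R : Type u} [CommRing R] [IsDomain R] [IsBezout R]
    {M N : Type u} [AddCommGroup M] [Module R M] [AddCommGroup N] [Module R N] (f : M →ₗ[R] N)
    (hf : Function.Injective f) [Module.Flat R N] : Module.Flat R M := by
  rw [Module.Flat.flat_iff_torsion_eq_bot_of_isBezout]
  have hN : Submodule.torsion R N = ⊥ := Module.Flat.torsion_eq_bot
  rw [eq_bot_iff]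
  intro m hm
  rw [Submodule.mem_torsion_iff] at hm
  obtain ⟨r, hr⟩ := hm
  have h1 : f m ∈ Submodule.torsion R N := by
    rw [Submodule.mem_torsion_iff]
    refine ⟨r, ?_⟩
    have hr' : (r : R) • m = 0 := hr
    show (r : R) • f m = 0
    rw [← LinearMap.map_smul, hr', _root_.map_zero]
  rw [hN, Submodule.mem_bot] at h1
  rw [Submodule.mem_bot]
  exact hf (h1.trans (map_zero f).symm)

/-- a submodule of a flat module is flat at the points of dimension at most one of a normal
scheme -/
theorem isFlatAt_of_dim_le_one [IsLocallyNoetherian X] (hX : Pi1.IsNormalScheme X)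
    {F A : X.Modules} (ι : F ⟶ A) [Mono ι] (hAfl : FlatMod.IsFlat A) (x : X)
    (hdim : ringKrullDim (X.presheaf.stalk x) ≤ 1) : FlatMod.IsFlatAt F x := by
  haveI := (hX x).1
  haveI := (hX x).2
  haveI : Ring.KrullDimLE 1 (X.presheaf.stalk x) := Ring.krullDimLE_iff.2 hdim
  haveI : IsPrincipalIdealRing (X.presheaf.stalk x) :=
    Groth.Agent.Lead.Ref1.isPrincipalIdealRing_of_dimLE_one _
  haveI : Module.Flat (X.presheaf.stalk x) (A.presheaf.stalk x) := hAfl x
  exact flat_of_injective_of_bezout (RefHull.stalkMapₗ ι x)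
    (Groth.Agent.Lead.TorShL.stalkMap_injective_of_mono ι x)

end flatlocus

section refl
variable {X : Scheme.{u}}

attribute [local instance] Groth.Agent.Lead.SD.stalkModule

theorem finite_stalk (F : X.Modules) (hfp : CohB1.IsFP F) (x : X) :
    Module.Finite (X.presheaf.stalk x) (F.presheaf.stalk x) := by
  haveI : SheafOfModules.IsFinitePresentation (R := X.ringCatSheaf) F := hfp
  haveI : F.IsQuasicoherent := inferInstance
  obtain ⟨V, hV, hxV, -⟩ := exists_isAffineOpen_mem_and_subset (x := x) (U := ⊤) trivial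
  obtain ⟨y, rfl⟩ : ∃ y : V, y.1 = x := ⟨⟨x, hxV⟩, rfl⟩
  haveI fpM : Module.FinitePresentation Γ(X, V) Γ(F, V) :=
    Groth.Agent.Lead.FP.fp_sections_of_isFP F hfp hV
  haveI locM := Groth.Agent.Lead.SD.isLocalizedModule_germ F hV y
  letI algCOX := X.presheaf.algebra_section_stalk y
  haveI locOX := hV.isLocalization_stalk y
  exact Module.Finite.of_isLocalizedModule (hV.primeIdealOf y).asIdeal.primeCompl
    (Groth.Agent.Lead.SD.germₗ F y)

theorem isReflexiveAt_of_isFlatAt (F : X.Modules) (hfp : CohB1.IsFP F) (x : X)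
    (h : FlatMod.IsFlatAt F x) : RefHull.IsReflexiveAt F x := by
  haveI := finite_stalk F hfp x
  haveI : Module.Flat (X.presheaf.stalk x) (F.presheaf.stalk x) := h
  haveI : Module.Free (X.presheaf.stalk x) (F.presheaf.stalk x) :=
    Module.free_of_flat_of_isLocalRing
  unfold RefHull.IsReflexiveAt
  infer_instance

theorem app_bijective_of_stalks {A B : X.Modules} (φ : A ⟶ B) (V : X.Opens)
    (h : ∀ x ∈ V, Function.Bijective (RefHull.stalkMapₗ φ x)) : Function.Bijective (φ.app V) := by
  let FA : TopCat.Sheaf Ab X := ⟨A.presheaf, A.isSheaf⟩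
  let FB : TopCat.Sheaf Ab X := ⟨B.presheaf, B.isSheaf⟩
  let f : FA ⟶ FB := ⟨φ.mapPresheaf⟩
  exact TopCat.Presheaf.app_bijective_of_stalkFunctor_map_bijective f V (fun x hx => h x hx)

theorem isIso_restrict_bidualMap [IsLocallyNoetherian X] (F : X.Modules) (hfp : CohB1.IsFP F)
    (U : X.Opens) (hU : ∀ x ∈ U, FlatMod.IsFlatAt F x) :
    IsIso ((restrictFunctor U.ι).map (RefHull.bidualMap F)) := by
  apply Groth.Agent.Helper1.TwForm.isIso_of_app_bijective
  intro W
  show Function.Bijective ((RefHull.bidualMap F).app (U.ι ''ᵁ W))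
  apply app_bijective_of_stalks
  intro x hx
  have hxU : x ∈ U := by
    obtain ⟨y, -, rfl⟩ := hx
    exact y.2
  exact (Groth.Agent.Lead.RH.isReflexiveAt_iff_stalkMapₗ hfp x).1
    (isReflexiveAt_of_isFlatAt F hfp x (hU x hxU))

end refl

section hom

theorem regular_hom {R : Type u} [CommRing R] (N P : Type u) [AddCommGroup N] [Module R N]
    [AddCommGroup P] [Module R P] {x : R} (hx : IsSMulRegular P x) :
    IsSMulRegular (N →ₗ[R] P) x := by
  intro φ ψ h
  refine LinearMap.ext fun n => hx ?_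
  have := congrArg (fun θ : N →ₗ[R] P => θ n) h
  exact this

open Pointwise in
/-- a regular pair on `P` is a regular pair on `Hom(N, P)` -/
theorem regular_pair_hom {R : Type u} [CommRing R] (N P : Type u) [AddCommGroup N] [Module R N]
    [AddCommGroup P] [Module R P] {x y : R} (hx : IsSMulRegular P x)
    (hxy : IsSMulRegular (QuotSMulTop x P) y) :
    IsSMulRegular (QuotSMulTop x (N →ₗ[R] P)) y := by
  rw [regular_quot_iff] at hxy ⊢
  intro φ hφ
  rw [mem_smul_top_iff] at hφ ⊢
  obtain ⟨ψ, hψ⟩ := hφ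
  have h1 : ∀ n : N, ∃ p : P, φ n = x • p := by
    intro n
    rw [← mem_smul_top_iff]
    apply hxy
    rw [mem_smul_top_iff]
    refine ⟨ψ n, ?_⟩
    have := congrArg (fun θ : N →ₗ[R] P => θ n) hψ
    exact this
  choose θ hθ using h1
  refine ⟨{ toFun := θ, map_add' := ?_, map_smul' := ?_ }, ?_⟩
  · intro a b
    apply hx
    show x • θ (a + b) = x • (θ a + θ b)
    rw [smul_add, ← hθ, ← hθ, ← hθ, _root_.map_add]
  · intro r a
    apply hx
    show x • θ (r • a) = x • (r • θ a)
    rw [smul_comm x r, ← hθ, ← hθ, LinearMap.map_smul]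
  · refine LinearMap.ext fun n => ?_
    exact hθ n

end hom

section aff3
variable {X : Scheme.{u}} (M : X.Modules) [M.IsQuasicoherent] {V : X.Opens} (hV : IsAffineOpen V)

include hV in
theorem affine_bij_of_regular [IsLocallyNoetherian X] (hX : Pi1.IsNormalScheme X) (U : X.Opens)
    (h : ∀ x : X, x ∉ U → ¬ ringKrullDim (X.presheaf.stalk x) ≤ 1)
    (hreg : ∀ x y : Γ(X, V), IsSMulRegular Γ(X, V) x → IsSMulRegular Γ(X, V) y →
      IsSMulRegular (QuotSMulTop x Γ(X, V)) y →
        IsSMulRegular Γ(M, V) x ∧ IsSMulRegular Γ(M, V) y ∧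
          IsSMulRegular (QuotSMulTop x Γ(M, V)) y) :
    Function.Bijective (M.presheaf.map (homOfLE (inf_le_left : V ⊓ U ≤ V)).op) := by
  haveI : IsNoetherianRing Γ(X, V) := IsLocallyNoetherian.component_noetherian ⟨V, hV⟩
  obtain ⟨Z, hZ⟩ : ∃ Z : Set (PrimeSpectrum Γ(X, V)), Z = {p | hV.fromSpec p ∉ U} := ⟨_, rfl⟩
  have hZc : IsClosed Z := by
    rw [hZ]
    exact (U.isOpen.preimage hV.fromSpec.continuous).isClosed_compl
  have hJ : PrimeSpectrum.zeroLocus (PrimeSpectrum.vanishingIdeal Z : Set Γ(X, V)) = Z := by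
    rw [PrimeSpectrum.zeroLocus_vanishingIdeal_eq_closure, hZc.closure_eq]
  obtain ⟨x, hxJ, y, hyJ, hx, hy, hxy⟩ := exists_regular_pair (M := Γ(X, V))
    (PrimeSpectrum.vanishingIdeal Z) (fun p hp => by
      apply depth_localized_self hV hX p
      apply h
      have hpZ : p ∈ Z := by
        rw [← hJ, PrimeSpectrum.mem_zeroLocus]
        exact hp
      rw [hZ] at hpZ
      exact hpZ)
  obtain ⟨hx0, hy0, hxy0⟩ := hreg x y hx hy hxy
  have e : Γ(M, V) ≃ₗ[Γ(X, V)] (NN Γ(X, V) (M.restrict hV.fromSpec)) := secEquiv M hV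
  have hx' : IsSMulRegular (NN Γ(X, V) (M.restrict hV.fromSpec)) x :=
    (e.isSMulRegular_congr x).1 hx0
  have hy' : IsSMulRegular (NN Γ(X, V) (M.restrict hV.fromSpec)) y :=
    (e.isSMulRegular_congr y).1 hy0
  have hxy' : IsSMulRegular (QuotSMulTop x (NN Γ(X, V) (M.restrict hV.fromSpec))) y :=
    ((QuotSMulTop.congr x e).isSMulRegular_congr y).1 hxy0
  have hb : Function.Bijective (EGA4.restrCompl Γ(X, V) (PrimeSpectrum.vanishingIdeal Z)
      (NN Γ(X, V) (M.restrict hV.fromSpec))) :=
    ⟨(inj_iff _ _ _).2 (toOpen_injective_of_regular hxJ hx'),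
      (surj_iff _ _ _).2 (surjective_of_regular_pair hxJ hyJ hx' hy' hxy')⟩
  have hb2 := (tilde_restr_iff Γ(X, V) (M.restrict hV.fromSpec) (PrimeSpectrum.vanishingIdeal Z)).2 hb
  have hb3 := (conj_bij Γ(X, V) (M.restrict hV.fromSpec) (homOfLE (le_top : EGA4.openCompl Γ(X, V) (PrimeSpectrum.vanishingIdeal Z) ≤ ⊤))).2 hb2
  have h₁ := Groth.Agent.Helper1.QcLoc.image_top hV
  have h₂ := image_openCompl hV U (PrimeSpectrum.vanishingIdeal Z) (hJ.trans hZ)
  have hb4 : Function.Bijective (M.presheaf.map (homOfLE (hV.fromSpec.image_mono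
      (le_top : EGA4.openCompl Γ(X, V) (PrimeSpectrum.vanishingIdeal Z) ≤ ⊤))).op) := hb3
  exact (bij_transport M.presheaf h₁ h₂ _ inf_le_left).1 hb4

end aff3

section dualbij
variable {X : Scheme.{u}}

open Pointwise in
theorem regular_structure {V : X.Opens} {x y : Γ(X, V)} (hx : IsSMulRegular Γ(X, V) x)
    (hxy : IsSMulRegular (QuotSMulTop x Γ(X, V)) y) :
    IsSMulRegular Γ(Coh.structureModule X, V) x ∧
      IsSMulRegular (QuotSMulTop x Γ(Coh.structureModule X, V)) y := by
  constructor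
  · exact hx
  · rw [regular_quot_iff] at hxy ⊢
    intro n hn
    rw [mem_smul_top_iff] at hn ⊢
    obtain ⟨n', hn'⟩ := hn
    have h1 : y • (show Γ(X, V) from n) ∈ x • (⊤ : Submodule Γ(X, V) Γ(X, V)) := by
      rw [mem_smul_top_iff]
      exact ⟨n', hn'⟩
    have h2 := hxy _ h1
    rw [mem_smul_top_iff] at h2
    obtain ⟨m, hm⟩ := h2
    exact ⟨m, hm⟩

theorem bij_dual [IsLocallyNoetherian X] (hX : Pi1.IsNormalScheme X) (D : X.Modules)
    (hD : CohB1.IsFP D) (U : X.Opens)
    (h : ∀ x : X, x ∉ U → ¬ ringKrullDim (X.presheaf.stalk x) ≤ 1) (V : X.Opens) :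
    Function.Bijective ((RefHull.dual D).presheaf.map (homOfLE (inf_le_left : V ⊓ U ≤ V)).op) := by
  haveI : SheafOfModules.IsFinitePresentation (R := X.ringCatSheaf) D := hD
  haveI : D.IsQuasicoherent := inferInstance
  haveI : (Coh.structureModule X).IsQuasicoherent := inferInstance
  haveI : (RefHull.dual D).IsQuasicoherent := Groth.Agent.Lead.RH.isQuasicoherent_homSh hD
  have hB : ∀ (W : X.Opens) (x : X), x ∈ W → ∃ V ∈ {V : X.Opens | IsAffineOpen V}, x ∈ V ∧ V ≤ W := by
    intro W x hx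
    obtain ⟨V, hV, hxV, hVW⟩ := exists_isAffineOpen_mem_and_subset (x := x) (U := W) hx
    exact ⟨V, hV, hxV, hVW⟩
  have haff : ∀ V ∈ {V : X.Opens | IsAffineOpen V},
      Function.Bijective ((RefHull.dual D).presheaf.map (homOfLE (inf_le_left : V ⊓ U ≤ V)).op) := by
    intro V hV
    apply affine_bij_of_regular (RefHull.dual D) hV hX U h
    intro x y hx hy hxy
    obtain ⟨hx1, hxy1⟩ := regular_structure hx hxy
    have hy1 : IsSMulRegular Γ(Coh.structureModule X, V) y := hy
    have E := Groth.Agent.Lead.RH.secEquiv (F := D) (G := Coh.structureModule X) hV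
    refine ⟨(E.isSMulRegular_congr x).2 (regular_hom _ _ hx1),
      (E.isSMulRegular_congr y).2 (regular_hom _ _ hy1),
      ((QuotSMulTop.congr x E).isSMulRegular_congr y).2 (regular_pair_hom _ _ hx1 hxy1)⟩
  exact ⟨gres_injective ⟨(RefHull.dual D).presheaf, (RefHull.dual D).isSheaf⟩ U hB
      (fun V hV => (haff V hV).1) V,
    gres_surjective ⟨(RefHull.dual D).presheaf, (RefHull.dual D).isSheaf⟩ U hB haff V⟩

end dualbij

theorem S16486_main (S : Scheme.{u}) [IsNoetherian S]
    (hS : Pi1.IsNormalScheme S) (A F : S.Modules) (hA : Coh.IsQCoh A) (hAfl : FlatMod.IsFlat A)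
    (ι : F ⟶ A) [Mono ι] (hF : CohB1.IsFT F) (U : S.Opens)
    (hU : (U : Set S) = {s : S | FlatMod.IsFlatAt F s}) :
    ∃ e : RefHull.ddual F ≅ (Scheme.Modules.pushforward U.ι).obj (F.restrict U.ι),
      RefHull.bidualMap F ≫ e.hom = (Scheme.Modules.restrictAdjunction U.ι).unit.app F := by
  haveI : A.IsQuasicoherent := hA
  haveI hFq : F.IsQuasicoherent := isQuasicoherent_of_mono_of_isFT ι hF
  have hFc : Coh.IsCoh F := ⟨hFq, hF⟩
  have hfp : CohB1.IsFP F := Groth.Agent.Helper1.FpLocal.isFP_of_isCoh F hFc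
  have hdfp : CohB1.IsFP (RefHull.dual F) :=
    Groth.Agent.Lead.RH.isFP_homSh hfp (Groth.Agent.Lead.RH.isFP_structureModule S)
  have hUflat : ∀ x ∈ U, FlatMod.IsFlatAt F x := by
    intro x hx
    have : x ∈ (U : Set S) := hx
    rw [hU] at this
    exact this
  have hUdim : ∀ x : S, x ∉ U → ¬ ringKrullDim (S.presheaf.stalk x) ≤ 1 := by
    intro x hx hdim
    apply hx
    have h1 : x ∈ {s : S | FlatMod.IsFlatAt F s} := isFlatAt_of_dim_le_one hS ι hAfl x hdim
    rw [← hU] at h1
    exact h1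
  haveI i1 : IsIso ((restrictFunctor U.ι).map (RefHull.bidualMap F)) :=
    isIso_restrict_bidualMap F hfp U hUflat
  haveI i2 : IsIso ((restrictAdjunction U.ι).unit.app (RefHull.ddual F)) := by
    apply unit_isIso_of_bij
    intro V
    have h1 := bij_dual hS (RefHull.dual F) hdfp U hUdim V
    have hr : U.ι.opensRange = U := Scheme.Opens.opensRange_ι U
    have key : ∀ (W : S.Opens) (hW : W = U),
        Function.Bijective ((RefHull.ddual F).presheaf.map
          (homOfLE (inf_le_left : V ⊓ W ≤ V)).op) := by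
      rintro W rfl
      exact h1
    exact key _ hr
  refine ⟨asIso ((restrictAdjunction U.ι).unit.app (RefHull.ddual F)) ≪≫
    (Scheme.Modules.pushforward U.ι).mapIso
      (asIso ((restrictFunctor U.ι).map (RefHull.bidualMap F))).symm, ?_⟩
  have hnat := (restrictAdjunction U.ι).unit.naturality (RefHull.bidualMap F)
  simp only [Iso.trans_hom, asIso_hom, Functor.mapIso_hom, Iso.symm_hom, asIso_inv]
  rw [← Category.assoc]
  have hnat' : RefHull.bidualMap F ≫ (restrictAdjunction U.ι).unit.app (RefHull.ddual F) =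
      (restrictAdjunction U.ι).unit.app F ≫
        (Scheme.Modules.pushforward U.ι).map ((restrictFunctor U.ι).map (RefHull.bidualMap F)) :=
    hnat
  rw [hnat', Category.assoc, ← Functor.map_comp, IsIso.hom_inv_id, CategoryTheory.Functor.map_id]
  exact Category.comp_id _


end Groth.Agent.Lead.FlatHart
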