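import Mathlib
import Groth.Prelude.Def_Pi1
import Groth.Prelude.Def_FlatMod2
import Groth.Prelude.Def_RefHull
import Groth.Prelude.Def_CohB1
import Groth.Agent.Lib.Lead.FlatHart2
import Groth.Agent.Lib.Lead.Ref1K
import Groth.Agent.S2252

/-!
# Reflexive coherent modules extend across closed subsets of depth at least two (lead)
-/

set_option autoImplicit false
set_option backward.isDefEq.respectTransparency.types false
set_option synthInstance.maxHeartbeats 400000
set_option linter.style.haveILetI false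
set_option linter.unusedSectionVars false
universe u
open CategoryTheory CategoryTheory.Limits AlgebraicGeometry TopologicalSpace Opposite

namespace Groth.Agent.Lead.FlatHart

open Groth.Agent.Lib.Helper4.Hartogs1 Groth.Agent.Lib.Helper4.ModHartogs1
  Groth.Agent.Lib.Helper4.CohHartogs1 Scheme.Modules

section aff4
variable {X : Scheme.{u}} (M : X.Modules) [M.IsQuasicoherent] {V : X.Opens} (hV : IsAffineOpen V)

include hV in
theorem depth_localized_self_of_depth [IsLocallyNoetherian X]
    (p : PrimeSpectrum Γ(X, V))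
    (hdep : (2 : ℕ∞) ≤ LocCoh.depth (X.presheaf.stalk (hV.fromSpec p))
      (X.presheaf.stalk (hV.fromSpec p))) :
    (2 : ℕ∞) ≤ LocCoh.depth (Localization.AtPrime p.asIdeal)
      (LocalizedModule p.asIdeal.primeCompl Γ(X, V)) := by
  rw [Groth.Agent.Helper8.Depth.depth_localizedModule_self]
  have hpV : hV.fromSpec p ∈ V := Groth.Agent.Lead.SD.fromSpec_mem hV p
  have hloc := hV.isLocalization_stalk' p hpV
  letI := TopCat.Presheaf.algebra_section_stalk X.presheaf ⟨hV.fromSpec p, hpV⟩
  haveI : IsLocalization p.asIdeal.primeCompl (X.presheaf.stalk (hV.fromSpec p)) := hloc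
  have e := IsLocalization.algEquiv p.asIdeal.primeCompl (Localization.AtPrime p.asIdeal)
    (X.presheaf.stalk (hV.fromSpec p))
  rw [Groth.Agent.Lib.Helper4.Hartogs4.depth_self_eq_of_ringEquiv e.toRingEquiv.symm]
  exact hdep

include hV in
theorem affine_bij_of_regular_of_depth [IsLocallyNoetherian X] (U : X.Opens)
    (h : ∀ x : X, x ∉ U → (2 : ℕ∞) ≤ LocCoh.depth (X.presheaf.stalk x) (X.presheaf.stalk x))
    (hreg : ∀ x y : Γ(X, V), IsSMulRegular Γ(X, V) x → IsSMulRegular Γ(X, V) y →
      IsSMulRegular (QuotSMulTop x Γ(X, V)) y →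
        IsSMulRegular Γ(M, V) x ∧ IsSMulRegular Γ(M, V) y ∧
          IsSMulRegular (QuotSMulTop x Γ(M, V)) y) :
    Function.Bijective (M.presheaf.map (homOfLE (inf_le_left : V ⊓ U ≤ V)).op) := by
  haveI : IsNoetherianRing Γ(X, V) := IsLocallyNoetherian.component_noetherian ⟨V, hV⟩
  obtain ⟨Z, hZ⟩ : ∃ Z : Set (PrimeSpectrum Γ(X, V)), Z = {p | hV.fromSpec p ∉ U} := ⟨_, rfl⟩
  have hZc : IsClosed Z := by
    rw [hZ]
    exact (U.isOpen.preimage hV.fromSpec.continuous).isClosed_compl
  have hJ : PrimeSpectrum.zeroLocus (PrimeSpectrum.vanishingIdeal Z : Set Γ(X, V)) = Z := by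
    rw [PrimeSpectrum.zeroLocus_vanishingIdeal_eq_closure, hZc.closure_eq]
  obtain ⟨x, hxJ, y, hyJ, hx, hy, hxy⟩ := exists_regular_pair (M := Γ(X, V))
    (PrimeSpectrum.vanishingIdeal Z) (fun p hp => by
      apply depth_localized_self_of_depth hV p
      apply h
      have hpZ : p ∈ Z := by
        rw [← hJ, PrimeSpectrum.mem_zeroLocus]
        exact hp
      rw [hZ] at hpZ
      exact hpZ)
  obtain ⟨hx0, hy0, hxy0⟩ := hreg x y hx hy hxy
  have e : Γ(M, V) ≃ₗ[Γ(X, V)] (NN Γ(X, V) (M.restrict hV.fromSpec)) := secEquiv M hV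
  have hx' : IsSMulRegular (NN Γ(X, V) (M.restrict hV.fromSpec)) x :=
    (e.isSMulRegular_congr x).1 hx0
  have hy' : IsSMulRegular (NN Γ(X, V) (M.restrict hV.fromSpec)) y :=
    (e.isSMulRegular_congr y).1 hy0
  have hxy' : IsSMulRegular (QuotSMulTop x (NN Γ(X, V) (M.restrict hV.fromSpec))) y :=
    ((QuotSMulTop.congr x e).isSMulRegular_congr y).1 hxy0
  have hb : Function.Bijective (EGA4.restrCompl Γ(X, V) (PrimeSpectrum.vanishingIdeal Z)
      (NN Γ(X, V) (M.restrict hV.fromSpec))) :=
    ⟨(inj_iff _ _ _).2 (toOpen_injective_of_regular hxJ hx'),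
      (surj_iff _ _ _).2 (surjective_of_regular_pair hxJ hyJ hx' hy' hxy')⟩
  have hb2 := (tilde_restr_iff Γ(X, V) (M.restrict hV.fromSpec) (PrimeSpectrum.vanishingIdeal Z)).2 hb
  have hb3 := (conj_bij Γ(X, V) (M.restrict hV.fromSpec) (homOfLE (le_top : EGA4.openCompl Γ(X, V) (PrimeSpectrum.vanishingIdeal Z) ≤ ⊤))).2 hb2
  have h₁ := Groth.Agent.Helper1.QcLoc.image_top hV
  have h₂ := image_openCompl hV U (PrimeSpectrum.vanishingIdeal Z) (hJ.trans hZ)
  have hb4 : Function.Bijective (M.presheaf.map (homOfLE (hV.fromSpec.image_mono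
      (le_top : EGA4.openCompl Γ(X, V) (PrimeSpectrum.vanishingIdeal Z) ≤ ⊤))).op) := hb3
  exact (bij_transport M.presheaf h₁ h₂ _ inf_le_left).1 hb4

end aff4

section dualbij2
variable {X : Scheme.{u}}

theorem bij_dual_of_depth [IsLocallyNoetherian X] (D : X.Modules)
    (hD : CohB1.IsFP D) (U : X.Opens)
    (h : ∀ x : X, x ∉ U → (2 : ℕ∞) ≤ LocCoh.depth (X.presheaf.stalk x) (X.presheaf.stalk x))
    (V : X.Opens) :
    Function.Bijective ((RefHull.dual D).presheaf.map (homOfLE (inf_le_left : V ⊓ U ≤ V)).op) := by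
  haveI : SheafOfModules.IsFinitePresentation (R := X.ringCatSheaf) D := hD
  haveI : D.IsQuasicoherent := inferInstance
  haveI : (Coh.structureModule X).IsQuasicoherent := inferInstance
  haveI : (RefHull.dual D).IsQuasicoherent := Groth.Agent.Lead.RH.isQuasicoherent_homSh hD
  have hB : ∀ (W : X.Opens) (x : X), x ∈ W → ∃ V ∈ {V : X.Opens | IsAffineOpen V}, x ∈ V ∧ V ≤ W := by
    intro W x hx
    obtain ⟨V, hV, hxV, hVW⟩ := exists_isAffineOpen_mem_and_subset (x := x) (U := W) hx
    exact ⟨V, hV, hxV, hVW⟩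
  have haff : ∀ V ∈ {V : X.Opens | IsAffineOpen V},
      Function.Bijective ((RefHull.dual D).presheaf.map (homOfLE (inf_le_left : V ⊓ U ≤ V)).op) := by
    intro V hV
    apply affine_bij_of_regular_of_depth (RefHull.dual D) hV U h
    intro x y hx hy hxy
    obtain ⟨hx1, hxy1⟩ := regular_structure hx hxy
    have hy1 : IsSMulRegular Γ(Coh.structureModule X, V) y := hy
    have E := Groth.Agent.Lead.RH.secEquiv (F := D) (G := Coh.structureModule X) hV
    refine ⟨(E.isSMulRegular_congr x).2 (regular_hom _ _ hx1),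
      (E.isSMulRegular_congr y).2 (regular_hom _ _ hy1),
      ((QuotSMulTop.congr x E).isSMulRegular_congr y).2 (regular_pair_hom _ _ hx1 hxy1)⟩
  exact ⟨gres_injective ⟨(RefHull.dual D).presheaf, (RefHull.dual D).isSheaf⟩ U hB
      (fun V hV => (haff V hV).1) V,
    gres_surjective ⟨(RefHull.dual D).presheaf, (RefHull.dual D).isSheaf⟩ U hB haff V⟩

theorem unit_isIso_dual_of_depth [IsLocallyNoetherian X] (D : X.Modules)
    (hD : CohB1.IsFP D) (U : X.Opens)
    (h : ∀ x : X, x ∉ U → (2 : ℕ∞) ≤ LocCoh.depth (X.presheaf.stalk x) (X.presheaf.stalk x)) :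
    IsIso ((restrictAdjunction U.ι).unit.app (RefHull.dual D)) := by
  apply unit_isIso_of_bij
  intro V
  have h1 := bij_dual_of_depth D hD U h V
  have hr : U.ι.opensRange = U := Scheme.Opens.opensRange_ι U
  have key : ∀ (W : X.Opens) (hW : W = U),
      Function.Bijective ((RefHull.dual D).presheaf.map
        (homOfLE (inf_le_left : V ⊓ W ≤ V)).op) := by
    rintro W rfl
    exact h1
  exact key _ hr

/-- the unit is an isomorphism on a module isomorphic to one on which it is -/
theorem unit_isIso_of_iso {Y : Scheme.{u}} (j : Y ⟶ X) [IsOpenImmersion j] {A B : X.Modules}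
    (b : A ⟶ B) [IsIso b] (hB : IsIso ((restrictAdjunction j).unit.app B)) :
    IsIso ((restrictAdjunction j).unit.app A) := by
  have hnat := (restrictAdjunction j).unit.naturality b
  have hnat' : b ≫ (restrictAdjunction j).unit.app B =
      (restrictAdjunction j).unit.app A ≫
        (Scheme.Modules.pushforward j).map ((restrictFunctor j).map b) := hnat
  have h1 : IsIso ((restrictAdjunction j).unit.app A ≫
      (Scheme.Modules.pushforward j).map ((restrictFunctor j).map b)) := by
    rw [← hnat']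
    infer_instance
  exact IsIso.of_isIso_comp_right _ ((Scheme.Modules.pushforward j).map ((restrictFunctor j).map b))

/-- part (a) -/
theorem unit_isIso_of_reflexive [IsLocallyNoetherian X] (F : X.Modules) (hF : Coh.IsCoh F)
    (hr : ∀ x : X, Module.IsReflexive (X.presheaf.stalk x) (F.presheaf.stalk x)) (U : X.Opens)
    (h : ∀ x : X, x ∉ U → (2 : ℕ∞) ≤ LocCoh.depth (X.presheaf.stalk x) (X.presheaf.stalk x)) :
    IsIso ((restrictAdjunction U.ι).unit.app F) := by
  have hfp : CohB1.IsFP F := Groth.Agent.Helper1.FpLocal.isFP_of_isCoh F hF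
  have hdfp : CohB1.IsFP (RefHull.dual F) :=
    Groth.Agent.Lead.RH.isFP_homSh hfp (Groth.Agent.Lead.RH.isFP_structureModule X)
  haveI : IsIso (RefHull.bidualMap F) := (Groth.Agent.Lead.RH.isReflexive_iff hfp).2 hr
  exact unit_isIso_of_iso U.ι (RefHull.bidualMap F)
    (unit_isIso_dual_of_depth (RefHull.dual F) hdfp U h)

end dualbij2

end Groth.Agent.Lead.FlatHart
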