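import Mathlib
import Groth.Prelude.Def_RefHull
import Groth.Agent.Lib.Helper7.CohStalk.QCoh

/-!
# Reflexivity of stalks under restriction to an open subscheme (lead)
-/

set_option autoImplicit false
set_option backward.isDefEq.respectTransparency.types false
set_option synthInstance.maxHeartbeats 400000
set_option linter.style.haveILetI false
set_option linter.unusedSectionVars false
universe u
open CategoryTheory CategoryTheory.Limits AlgebraicGeometry TopologicalSpace Opposite

namespace Groth.Agent.Lead.FlatHart

section semilin

variable {R₁ R₂ M₁ M₂ : Type*} [CommRing R₁] [CommRing R₂] [AddCommGroup M₁] [Module R₁ M₁]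
  [AddCommGroup M₂] [Module R₂ M₂] (σ : R₁ ≃+* R₂) (e : M₁ ≃+ M₂)
  (he : ∀ (r : R₁) (m : M₁), e (r • m) = σ r • e m)

include he in
theorem symm_semilinear (r : R₂) (m : M₂) : e.symm (r • m) = σ.symm r • e.symm m := by
  apply e.injective
  rw [AddEquiv.apply_symm_apply, he, RingEquiv.apply_symm_apply, AddEquiv.apply_symm_apply]

/-- transport of a linear functional along a semilinear equivalence -/
def dualTransport (ψ : Module.Dual R₁ M₁) : Module.Dual R₂ M₂ where
  toFun m := σ (ψ (e.symm m))
  map_add' a b := by rw [map_add, map_add, map_add]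
  map_smul' r m := by
    simp only [RingHom.id_apply]
    rw [symm_semilinear σ e he, map_smul, smul_eq_mul, map_mul, RingEquiv.apply_symm_apply,
      smul_eq_mul]

theorem dualTransport_apply (ψ : Module.Dual R₁ M₁) (m : M₂) :
    dualTransport σ e he ψ m = σ (ψ (e.symm m)) := rfl

include σ e he in
/-- reflexivity is invariant under semilinear equivalences -/
theorem isReflexive_of_semilinear [Module.IsReflexive R₁ M₁] : Module.IsReflexive R₂ M₂ := by
  have hsymm : ∀ (r : R₂) (m : M₂), e.symm (r • m) = σ.symm r • e.symm m :=
    symm_semilinear σ e he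
  constructor
  constructor
  · rw [injective_iff_map_eq_zero]
    intro m hm
    have h1 : e.symm m = 0 := by
      apply (Module.bijective_dual_eval R₁ M₁).1
      rw [map_zero]
      refine LinearMap.ext fun ψ => ?_
      rw [Module.Dual.eval_apply, LinearMap.zero_apply]
      have h2 := congrArg (fun Φ => Φ (dualTransport σ e he ψ)) hm
      simp only [Module.Dual.eval_apply, LinearMap.zero_apply] at h2
      rw [dualTransport_apply] at h2
      exact σ.injective (h2.trans (map_zero σ).symm)
    have := congrArg e h1
    rw [AddEquiv.apply_symm_apply, map_zero] at this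
    exact this
  · intro Φ
    let Ψ : Module.Dual R₁ (Module.Dual R₁ M₁) :=
      { toFun := fun ψ => σ.symm (Φ (dualTransport σ e he ψ))
        map_add' := by
          intro a b
          have : dualTransport σ e he (a + b) = dualTransport σ e he a + dualTransport σ e he b := by
            refine LinearMap.ext fun m => ?_
            simp only [dualTransport_apply, LinearMap.add_apply, map_add]
          rw [this, map_add, map_add]
        map_smul' := by
          intro r a
          have : dualTransport σ e he (r • a) = σ r • dualTransport σ e he a := by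
            refine LinearMap.ext fun m => ?_
            simp only [dualTransport_apply, LinearMap.smul_apply, smul_eq_mul, map_mul]
          simp only [RingHom.id_apply]
          rw [this, map_smul, smul_eq_mul, map_mul, RingEquiv.symm_apply_apply, smul_eq_mul] }
    obtain ⟨m₁, hm₁⟩ := (Module.bijective_dual_eval R₁ M₁).2 Ψ
    refine ⟨e m₁, ?_⟩
    refine LinearMap.ext fun φ => ?_
    rw [Module.Dual.eval_apply]
    let ψ : Module.Dual R₁ M₁ := dualTransport σ.symm e.symm hsymm φ
    have hψ : dualTransport σ e he ψ = φ := by
      refine LinearMap.ext fun m => ?_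
      rw [dualTransport_apply, dualTransport_apply, AddEquiv.symm_symm, RingEquiv.apply_symm_apply,
        AddEquiv.apply_symm_apply]
    have h1 := congrArg (fun Θ => Θ ψ) hm₁
    simp only [Module.Dual.eval_apply] at h1
    have h2 : Ψ ψ = σ.symm (Φ φ) := by
      show σ.symm (Φ (dualTransport σ e he ψ)) = _
      rw [hψ]
    rw [h2] at h1
    have h3 : ψ m₁ = σ.symm (φ (e m₁)) := by
      rw [dualTransport_apply, AddEquiv.symm_symm]
    rw [h3] at h1
    exact (σ.symm.injective h1)

end semilin

section restr
open Scheme.Modules Groth.Agent.Helper7.FinType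

variable {Y X : Scheme.{u}} (j : Y ⟶ X) [IsOpenImmersion j]

theorem stalkMap_germ_appIso_inv (y : Y) {W : Y.Opens} (hW : y ∈ W) (ρ : Γ(Y, W)) :
    j.stalkMap y (X.presheaf.germ (j ''ᵁ W) (j y) ⟨y, hW, rfl⟩ ((j.appIso W).inv ρ)) =
      Y.presheaf.germ W y hW ρ := by
  rw [Scheme.Hom.germ_stalkMap_apply]
  have h1 := Scheme.Hom.appIso_inv_app_apply j W ρ
  rw [h1]
  exact TopCat.Presheaf.germ_res_apply Y.presheaf (eqToHom (Scheme.Hom.preimage_image_eq j W)) y
    _ ρ

/-- the ring isomorphism between the local rings of a point of an open subscheme -/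
noncomputable def stalkRingEquiv (y : Y) : Y.presheaf.stalk y ≃+* X.presheaf.stalk (j y) :=
  (asIso (j.stalkMap y)).commRingCatIsoToRingEquiv.symm

theorem stalkRingEquiv_germ (y : Y) {W : Y.Opens} (hW : y ∈ W) (ρ : Γ(Y, W)) :
    stalkRingEquiv j y (Y.presheaf.germ W y hW ρ) =
      X.presheaf.germ (j ''ᵁ W) (j y) ⟨y, hW, rfl⟩ ((j.appIso W).inv ρ) := by
  rw [← stalkMap_germ_appIso_inv j y hW ρ]
  exact (asIso (j.stalkMap y)).commRingCatIsoToRingEquiv.symm_apply_apply _

theorem isReflexive_stalk_of_restrict (M : X.Modules) (y : Y)
    (h : Module.IsReflexive (Y.presheaf.stalk y) ((M.restrict j).presheaf.stalk y)) :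
    Module.IsReflexive (X.presheaf.stalk (j y)) (M.presheaf.stalk (j y)) := by
  refine isReflexive_of_semilinear (stalkRingEquiv j y)
    (restrictStalkIso j M y).addCommGroupIsoToAddEquiv ?_
  intro r a
  obtain ⟨W, hW, ρ, rfl⟩ := TopCat.Presheaf.exists_germ_eq Y.presheaf r
  rw [stalkRingEquiv_germ]
  exact restrictStalkIso_germ_smul j M y hW ρ a

end restr

end Groth.Agent.Lead.FlatHart
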