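import Mathlib
import Groth.Agent.Lib.Lead.FlatHart3
import Groth.Agent.Lib.Lead.FlatHart4

/-!
# Reflexive coherent modules on an open with complement of depth at least two: direct images (lead)
-/

set_option autoImplicit false
set_option backward.isDefEq.respectTransparency.types false
set_option synthInstance.maxHeartbeats 400000
set_option linter.style.haveILetI false
set_option linter.unusedSectionVars false
universe u
open CategoryTheory CategoryTheory.Limits AlgebraicGeometry TopologicalSpace Opposite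

namespace Groth.Agent.Lead.FlatHart

open Scheme.Modules

variable {X : Scheme.{u}}

theorem isIso_restrict_bidualMap' [IsLocallyNoetherian X] (F : X.Modules) (hfp : CohB1.IsFP F)
    (U : X.Opens) (hU : ∀ x ∈ U, RefHull.IsReflexiveAt F x) :
    IsIso ((restrictFunctor U.ι).map (RefHull.bidualMap F)) := by
  apply Groth.Agent.Helper1.TwForm.isIso_of_app_bijective
  intro W
  show Function.Bijective ((RefHull.bidualMap F).app (U.ι ''ᵁ W))
  apply app_bijective_of_stalks
  intro x hx
  have hxU : x ∈ U := by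
    obtain ⟨y, -, rfl⟩ := hx
    exact y.2
  exact (Groth.Agent.Lead.RH.isReflexiveAt_iff_stalkMapₗ hfp x).1 (hU x hxU)

/-- isomorphic modules have linearly equivalent stalks -/
noncomputable def stalkEquivOfIso {A B : X.Modules} (e : A ≅ B) (x : X) :
    A.presheaf.stalk x ≃ₗ[X.presheaf.stalk x] B.presheaf.stalk x :=
  LinearEquiv.ofBijective (RefHull.stalkMapₗ e.hom x)
    (Groth.Agent.Lead.RH.stalkMapₗ_bijective_of_isIso e.hom x)

theorem locally_noetherianSpace [IsLocallyNoetherian X] (x : X) :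
    ∃ U : X.Opens, x ∈ U ∧ TopologicalSpace.NoetherianSpace (U : Set X) := by
  obtain ⟨V, hV, hxV, -⟩ := exists_isAffineOpen_mem_and_subset (x := x) (U := ⊤) trivial
  haveI : IsNoetherianRing Γ(X, V) := IsLocallyNoetherian.component_noetherian ⟨V, hV⟩
  exact ⟨V, hxV, noetherianSpace_of_isAffineOpen V hV⟩

/-- part (b) -/
theorem pushforward_of_reflexive [IsIntegral X] [IsLocallyNoetherian X] (U : X.Opens)
    (h : ∀ x : X, x ∉ U → (2 : ℕ∞) ≤ LocCoh.depth (X.presheaf.stalk x) (X.presheaf.stalk x))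
    (G : (U : Scheme.{u}).Modules) (hG : Coh.IsCoh G)
    (hr : ∀ x : (U : Scheme.{u}), Module.IsReflexive ((U : Scheme.{u}).presheaf.stalk x)
      (G.presheaf.stalk x)) :
    Coh.IsCoh ((Scheme.Modules.pushforward U.ι).obj G) ∧
      (∀ x : X, Module.IsReflexive (X.presheaf.stalk x)
        (((Scheme.Modules.pushforward U.ι).obj G).presheaf.stalk x)) := by
  haveI hGq : Coh.IsQCoh G := hG.1
  obtain ⟨G', hG'q, hG'ft, ⟨e⟩⟩ := Groth.Agent.S2252.result (X := X)
    (fun x => locally_noetherianSpace x) U G hG.2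
  have hG'c : Coh.IsCoh G' := ⟨hG'q, hG'ft⟩
  have hfp' : CohB1.IsFP G' := Groth.Agent.Helper1.FpLocal.isFP_of_isCoh G' hG'c
  have hdc : Coh.IsCoh (RefHull.dual G') :=
    Groth.Agent.Lead.RH.isCoh_homSh hG'c Groth.Agent.Lead.Ref1.isCoh_structureModule
  have hHc : Coh.IsCoh (RefHull.ddual G') :=
    Groth.Agent.Lead.RH.isCoh_homSh hdc Groth.Agent.Lead.Ref1.isCoh_structureModule
  have hHfp : CohB1.IsFP (RefHull.ddual G') :=
    Groth.Agent.Helper1.FpLocal.isFP_of_isCoh _ hHc
  have hHrefl : RefHull.IsReflexive (RefHull.ddual G') :=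
    Groth.Agent.Lead.RH.S16081_main X _ _ hdc Groth.Agent.Lead.Ref1.isCoh_structureModule
      Groth.Agent.Lead.Ref1.isReflexive_structureModule
  have hHr : ∀ x : X, Module.IsReflexive (X.presheaf.stalk x)
      ((RefHull.ddual G').presheaf.stalk x) :=
    (Groth.Agent.Lead.RH.isReflexive_iff hHfp).1 hHrefl
  haveI i3 : IsIso ((restrictAdjunction U.ι).unit.app (RefHull.ddual G')) :=
    unit_isIso_of_reflexive (RefHull.ddual G') hHc hHr U h
  have hG'r : ∀ x ∈ U, RefHull.IsReflexiveAt G' x := by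
    intro x hx
    have h1 : Module.IsReflexive ((U : Scheme.{u}).presheaf.stalk ⟨x, hx⟩)
        ((G'.restrict U.ι).presheaf.stalk ⟨x, hx⟩) :=
      haveI := hr ⟨x, hx⟩
      Module.equiv (stalkEquivOfIso e ⟨x, hx⟩).symm
    exact isReflexive_stalk_of_restrict U.ι G' ⟨x, hx⟩ h1
  haveI i2 : IsIso ((restrictFunctor U.ι).map (RefHull.bidualMap G')) :=
    isIso_restrict_bidualMap' G' hfp' U hG'r
  let T : (Scheme.Modules.pushforward U.ι).obj G ≅ RefHull.ddual G' :=
    (Scheme.Modules.pushforward U.ι).mapIso e.symm ≪≫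
      (Scheme.Modules.pushforward U.ι).mapIso
        (asIso ((restrictFunctor U.ι).map (RefHull.bidualMap G'))) ≪≫
      (asIso ((restrictAdjunction U.ι).unit.app (RefHull.ddual G'))).symm
  refine ⟨Groth.Agent.Lib.Helper5.LocalCoh.isCoh_of_iso T.symm hHc, fun x => ?_⟩
  haveI := hHr x
  exact Module.equiv (stalkEquivOfIso T x).symm

theorem S1691_main (X : Scheme.{u}) [IsIntegral X] [IsLocallyNoetherian X] (U : X.Opens)
    (hU : ∀ x : ↥X, x ∉ U → (2 : ℕ∞) ≤ LocCoh.depth (X.presheaf.stalk x) (X.presheaf.stalk x)) :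
    (∀ F : X.Modules, Coh.IsCoh F → (∀ x : ↥X, Module.IsReflexive (X.presheaf.stalk x) (F.presheaf.stalk x)) →
        IsIso ((Scheme.Modules.restrictAdjunction U.ι).unit.app F)) ∧
      (∀ G : (U : Scheme.{u}).Modules, Coh.IsCoh G → (∀ x : ↥(U : Scheme.{u}), Module.IsReflexive ((U : Scheme.{u}).presheaf.stalk x) (G.presheaf.stalk x)) →
        Coh.IsCoh ((Scheme.Modules.pushforward U.ι).obj G) ∧
          (∀ x : ↥X, Module.IsReflexive (X.presheaf.stalk x) (((Scheme.Modules.pushforward U.ι).obj G).presheaf.stalk x))) :=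
  ⟨fun F hF hr => unit_isIso_of_reflexive F hF hr U hU,
    fun G hG hr => pushforward_of_reflexive U hU G hG hr⟩

end Groth.Agent.Lead.FlatHart
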