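import Mathlib
import Groth.Agent.Lib.Lead.FlatHart5

/-!
# Integral neighbourhoods of points with a domain as local ring (lead)
-/

set_option autoImplicit false
set_option backward.isDefEq.respectTransparency.types false
set_option synthInstance.maxHeartbeats 400000
set_option linter.style.haveILetI false
set_option linter.unusedSectionVars false
universe u
open CategoryTheory CategoryTheory.Limits AlgebraicGeometry TopologicalSpace Opposite

namespace Groth.Agent.Lead.PicExt2

section Alg

/-- if the localization of a Noetherian ring at a prime is a domain, so is the localization away from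
some element outside the prime -/
theorem exists_away_isDomain (R : Type u) [CommRing R] [IsNoetherianRing R] (p : Ideal R) [p.IsPrime]
    (S : Type u) [CommRing S] [Algebra R S] [IsLocalization.AtPrime S p] [IsDomain S] :
    ∃ f : R, f ∉ p ∧ ∀ (T : Type u) [CommRing T] [Algebra R T] [IsLocalization.Away f T],
      IsDomain T := by
  classical
  set I := RingHom.ker (algebraMap R S) with hI
  have hfg : I.FG := IsNoetherian.noetherian I
  obtain ⟨G, hG⟩ := hfg
  have hs : ∀ a : R, a ∈ I → ∃ s : R, s ∉ p ∧ s * a = 0 := by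
    intro a ha
    rw [hI, RingHom.mem_ker, IsLocalization.map_eq_zero_iff p.primeCompl] at ha
    obtain ⟨s, hs⟩ := ha
    exact ⟨s.1, s.2, hs⟩
  have hGI : ∀ a ∈ G, a ∈ I := fun a ha => hG ▸ Ideal.subset_span ha
  choose! σ hσ using hs
  let f : R := ∏ a ∈ G, σ a
  have hfp : f ∉ p := by
    intro hf
    obtain ⟨a, haG, ha⟩ := (Ideal.IsPrime.prod_mem_iff).1 hf
    exact (hσ a (hGI a haG)).1 ha
  have hfI : ∀ a ∈ I, f * a = 0 := by
    intro a ha
    rw [← hG] at ha
    refine Submodule.span_induction (p := fun a _ => f * a = 0) ?_ ?_ ?_ ?_ ha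
    · intro b hb
      have h1 : σ b ∣ f := Finset.dvd_prod_of_mem σ hb
      obtain ⟨c, hc⟩ := h1
      rw [hc, mul_comm (σ b) c, mul_assoc, (hσ b (hGI b hb)).2, mul_zero]
    · exact mul_zero f
    · intro b c _ _ hb hc
      rw [mul_add, hb, hc, add_zero]
    · intro r b _ hb
      rw [smul_eq_mul, mul_left_comm, hb, mul_zero]
  refine ⟨f, hfp, ?_⟩
  intro T _ _ _
  have hu : IsUnit (algebraMap R S f) :=
    IsLocalization.map_units S (⟨f, hfp⟩ : p.primeCompl)
  let φ : T →+* S := IsLocalization.Away.lift f hu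
  have hφ : ∀ r : R, φ (algebraMap R T r) = algebraMap R S r :=
    fun r => IsLocalization.Away.lift_eq f hu r
  have hinj : Function.Injective φ := by
    rw [injective_iff_map_eq_zero]
    intro t ht
    obtain ⟨r, ⟨_, n, rfl⟩, rfl⟩ := IsLocalization.exists_mk'_eq (Submonoid.powers f) t
    have h1 : algebraMap R S r = 0 := by
      have h2 : algebraMap R T r =
          IsLocalization.mk' T r (⟨f ^ n, n, rfl⟩ : Submonoid.powers f) * algebraMap R T (f ^ n) :=
        (IsLocalization.mk'_spec T r (⟨f ^ n, n, rfl⟩ : Submonoid.powers f)).symm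
      rw [← hφ, h2, map_mul, ht, zero_mul]
    have h3 : f * r = 0 := hfI r h1
    rw [IsLocalization.mk'_eq_zero_iff]
    exact ⟨⟨f, 1, pow_one f⟩, h3⟩
  haveI : Nontrivial T := by
    refine ⟨⟨0, 1, fun h01 => ?_⟩⟩
    have := congrArg φ h01
    rw [map_zero, map_one] at this
    exact zero_ne_one this
  exact hinj.isDomain φ

end Alg

section Nhd

variable {X : Scheme.{u}} [IsLocallyNoetherian X]

theorem exists_integral_nhd_aux {V : X.Opens} (hV : IsAffineOpen V) (x : V)
    [IsDomain (X.presheaf.stalk x.1)] :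
    ∃ W : X.Opens, x.1 ∈ W ∧ IsIntegral (W : Scheme.{u}) := by
  haveI : IsNoetherianRing Γ(X, V) := IsLocallyNoetherian.component_noetherian ⟨V, hV⟩
  haveI := hV.isLocalization_stalk x
  obtain ⟨f, hfp, hf⟩ := exists_away_isDomain Γ(X, V) (hV.primeIdealOf x).asIdeal
    (X.presheaf.stalk x.1)
  haveI := hV.isLocalization_basicOpen f
  haveI : IsDomain Γ(X, X.basicOpen f) := hf _
  have hxf : x.1 ∈ X.basicOpen f :=
    (X.mem_basicOpen' f x).2 (IsLocalization.map_units (X.presheaf.stalk x.1)
      (⟨f, hfp⟩ : (hV.primeIdealOf x).asIdeal.primeCompl))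
  refine ⟨X.basicOpen f, hxf, ?_⟩
  haveI : IsAffine ((X.basicOpen f : X.Opens) : Scheme.{u}) := hV.basicOpen f
  haveI : Nonempty ((X.basicOpen f : X.Opens) : Scheme.{u}) := ⟨⟨x.1, hxf⟩⟩
  haveI : IsDomain Γ(((X.basicOpen f : X.Opens) : Scheme.{u}), ⊤) :=
    (X.basicOpen f).topIso.commRingCatIsoToRingEquiv.toMulEquiv.isDomain _
  exact isIntegral_of_isAffine_of_isDomain _

/-- a point of a locally Noetherian scheme whose local ring is a domain has an integral open
neighbourhood -/
theorem exists_integral_nhd_of_isDomain (x : X) [IsDomain (X.presheaf.stalk x)] :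
    ∃ W : X.Opens, x ∈ W ∧ IsIntegral (W : Scheme.{u}) := by
  obtain ⟨V, hV, hxV, -⟩ := exists_isAffineOpen_mem_and_subset (x := x) (U := ⊤) trivial
  exact exists_integral_nhd_aux hV ⟨x, hxV⟩

end Nhd

end Groth.Agent.Lead.PicExt2
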