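import Mathlib
import Groth.Agent.Lib.Lead.ParaF2
import Groth.Agent.Lib.Lead.PicExt2
import Groth.Agent.Lib.Helper6.Normal.SchemeBC

/-!
# Hartogs for normal locally Noetherian schemes which need not be integral (lead)
-/

set_option backward.isDefEq.respectTransparency.types false
set_option autoImplicit false
set_option linter.style.haveILetI false
universe u
open CategoryTheory CategoryTheory.Limits AlgebraicGeometry TopologicalSpace Opposite

namespace Groth.Agent.Lead.HartogsNI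

/-- bijectivity of a restriction map of a sheaf of rings can be checked locally, when it is known
for all small opens -/
theorem bijective_res_of_locally {T : TopCat.{u}} (F : TopCat.Sheaf CommRingCat.{u} T)
    {A B : Opens T} (hBA : B ≤ A) {ι : Type u} (W : ι → Opens T) (hW : A ≤ iSup W)
    (h : ∀ (i : ι) (W' : Opens T), W' ≤ W i → W' ≤ A →
      Function.Bijective (F.1.map (homOfLE (inf_le_left : W' ⊓ B ≤ W')).op)) :
    Function.Bijective (F.1.map (homOfLE hBA).op) := by
  have hcovA : A ≤ iSup (fun i => W i ⊓ A) := by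
    intro x hx
    obtain ⟨i, hi⟩ := Opens.mem_iSup.1 (hW hx)
    exact Opens.mem_iSup.2 ⟨i, hi, hx⟩
  constructor
  · intro s t hst
    apply F.eq_of_locally_eq' (fun i => W i ⊓ A) A (fun i => homOfLE inf_le_right) hcovA
    intro i
    apply (h i (W i ⊓ A) inf_le_left inf_le_right).1
    have e : ∀ r : ToType (F.1.obj (op A)),
        F.1.map (homOfLE (inf_le_left : (W i ⊓ A) ⊓ B ≤ W i ⊓ A)).op
          (F.1.map (homOfLE (inf_le_right : W i ⊓ A ≤ A)).op r) =
        F.1.map (homOfLE (inf_le_right : (W i ⊓ A) ⊓ B ≤ B)).op (F.1.map (homOfLE hBA).op r) := by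
      intro r
      rw [← ConcreteCategory.comp_apply, ← ConcreteCategory.comp_apply, ← F.1.map_comp,
        ← F.1.map_comp]
      rfl
    rw [e, e, hst]
  · intro t
    -- local lifts
    have hl : ∀ i, ∃ r : ToType (F.1.obj (op (W i ⊓ A))),
        F.1.map (homOfLE (inf_le_left : (W i ⊓ A) ⊓ B ≤ W i ⊓ A)).op r =
          F.1.map (homOfLE (inf_le_right : (W i ⊓ A) ⊓ B ≤ B)).op t := fun i =>
      (h i (W i ⊓ A) inf_le_left inf_le_right).2 _
    choose r hr using hl
    have hcomp : TopCat.Presheaf.IsCompatible F.1 (fun i => W i ⊓ A) r := by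
      intro i j
      apply (h i ((W i ⊓ A) ⊓ (W j ⊓ A)) (inf_le_left.trans inf_le_left)
        (inf_le_left.trans inf_le_right)).1
      have e1 : F.1.map (homOfLE (inf_le_left :
            ((W i ⊓ A) ⊓ (W j ⊓ A)) ⊓ B ≤ (W i ⊓ A) ⊓ (W j ⊓ A))).op
          (F.1.map (Opens.infLELeft (W i ⊓ A) (W j ⊓ A)).op (r i)) =
          F.1.map (homOfLE (inf_le_right : ((W i ⊓ A) ⊓ (W j ⊓ A)) ⊓ B ≤ B)).op t := by
        have := congrArg (F.1.map (homOfLE (show ((W i ⊓ A) ⊓ (W j ⊓ A)) ⊓ B ≤ (W i ⊓ A) ⊓ B from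
          inf_le_inf_right B inf_le_left)).op) (hr i)
        rw [← ConcreteCategory.comp_apply, ← ConcreteCategory.comp_apply, ← F.1.map_comp,
          ← F.1.map_comp] at this
        rw [← ConcreteCategory.comp_apply, ← F.1.map_comp]
        exact this
      have e2 : F.1.map (homOfLE (inf_le_left :
            ((W i ⊓ A) ⊓ (W j ⊓ A)) ⊓ B ≤ (W i ⊓ A) ⊓ (W j ⊓ A))).op
          (F.1.map (Opens.infLERight (W i ⊓ A) (W j ⊓ A)).op (r j)) =
          F.1.map (homOfLE (inf_le_right : ((W i ⊓ A) ⊓ (W j ⊓ A)) ⊓ B ≤ B)).op t := by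
        have := congrArg (F.1.map (homOfLE (show ((W i ⊓ A) ⊓ (W j ⊓ A)) ⊓ B ≤ (W j ⊓ A) ⊓ B from
          inf_le_inf_right B inf_le_right)).op) (hr j)
        rw [← ConcreteCategory.comp_apply, ← ConcreteCategory.comp_apply, ← F.1.map_comp,
          ← F.1.map_comp] at this
        rw [← ConcreteCategory.comp_apply, ← F.1.map_comp]
        exact this
      rw [e1, e2]
    obtain ⟨s, hs, -⟩ := F.existsUnique_gluing' (fun i => W i ⊓ A) A
      (fun i => homOfLE inf_le_right) hcovA r hcomp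
    refine ⟨s, ?_⟩
    have hcovB : B ≤ iSup (fun i => (W i ⊓ A) ⊓ B) := by
      intro x hx
      obtain ⟨i, hi⟩ := Opens.mem_iSup.1 (hW (hBA hx))
      exact Opens.mem_iSup.2 ⟨i, ⟨hi, hBA hx⟩, hx⟩
    apply F.eq_of_locally_eq' (fun i => (W i ⊓ A) ⊓ B) B (fun i => homOfLE inf_le_right) hcovB
    intro i
    rw [← hr i, ← hs i]
    rw [← ConcreteCategory.comp_apply, ← ConcreteCategory.comp_apply, ← F.1.map_comp,
      ← F.1.map_comp]
    rfl


theorem bij_congr {T : Scheme.{u}} {A A' B B' : T.Opens} (hA : A' = A) (hB : B' = B)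
    (h' : B' ≤ A') (h : B ≤ A)
    (hb : Function.Bijective (T.presheaf.map (homOfLE h').op)) :
    Function.Bijective (T.presheaf.map (homOfLE h).op) := by
  subst hA; subst hB; exact hb

/-- **Hartogs** for the structure sheaf of a normal locally Noetherian scheme (not necessarily
integral) -/
theorem hartogs_bijective' {T : Scheme.{u}} [IsLocallyNoetherian T] (hT : Pi1.IsNormalScheme T)
    {A B : T.Opens} (hBA : B ≤ A)
    (hcodim : ∀ x : T, x ∈ A → x ∉ B → (2 : WithBot ℕ∞) ≤ ringKrullDim (T.presheaf.stalk x)) :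
    Function.Bijective (T.presheaf.map (homOfLE hBA).op) := by
  have hex : ∀ x : T, ∃ W : T.Opens, x ∈ W ∧ IsIntegral (W : Scheme.{u}) := fun x => by
    haveI := (hT x).1
    exact Groth.Agent.Lead.PicExt2.exists_integral_nhd_of_isDomain x
  choose W hxW hWint using hex
  refine bijective_res_of_locally T.sheaf hBA W (fun x hx => Opens.mem_iSup.2 ⟨x, hxW x⟩) ?_
  intro x W' hW'W hW'A
  haveI := hWint x
  let Z : Scheme.{u} := (W x : Scheme.{u})
  have hZ : Pi1.IsNormalScheme Z :=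
    Groth.Agent.Lib.Helper6.Normal.isNormalScheme_of_isOpenImmersion (W x).ι hT
  have hB'A' : (W x).ι ⁻¹ᵁ (W' ⊓ B) ≤ (W x).ι ⁻¹ᵁ W' := fun y hy => hy.1
  have hcodim' : ∀ z : Z, z ∈ (W x).ι ⁻¹ᵁ W' → z ∉ (W x).ι ⁻¹ᵁ (W' ⊓ B) →
      (2 : WithBot ℕ∞) ≤ ringKrullDim (Z.presheaf.stalk z) := by
    intro z hz hz'
    have h1 := hcodim ((W x).ι z) (hW'A hz) (fun hb => hz' ⟨hz, hb⟩)
    rwa [ringKrullDim_eq_of_ringEquiv ((W x).stalkIso z).commRingCatIsoToRingEquiv]
  have key := Groth.Agent.Lead.ParaF.hartogs_bijective hZ hB'A' hcodim'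
  have hA : (W x).ι ''ᵁ ((W x).ι ⁻¹ᵁ W') = W' := by
    rw [Groth.Agent.S2882.image_preimage_ι]
    exact inf_eq_right.2 hW'W
  have hB : (W x).ι ''ᵁ ((W x).ι ⁻¹ᵁ (W' ⊓ B)) = W' ⊓ B := by
    rw [Groth.Agent.S2882.image_preimage_ι]
    exact inf_eq_right.2 (inf_le_left.trans hW'W)
  exact bij_congr hA hB (Scheme.Hom.image_mono (W x).ι hB'A') inf_le_left key

end Groth.Agent.Lead.HartogsNI
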