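import Mathlib

/-!
# Invariants of a finite group action commute with flat base change (lead)
-/

set_option backward.isDefEq.respectTransparency.types false
set_option synthInstance.maxHeartbeats 400000
set_option autoImplicit false
set_option linter.unusedSectionVars false
set_option linter.style.haveILetI false

universe u
open TensorProduct

namespace Groth.Agent.Lead.QuotBC

/-- invariants of a finite family of ring endomorphisms commute with flat base change -/
theorem invariants_baseChange
    {B A B' A' : Type u} [CommRing B] [CommRing A] [CommRing B'] [CommRing A']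
    [Algebra B A] [Algebra B B'] [Algebra B' A'] [Algebra A A'] [Algebra B A']
    [IsScalarTower B B' A'] [IsScalarTower B A A'] [Algebra.IsPushout B B' A A'] [Module.Flat B B']
    {G : Type u} [Finite G] (σ : G → A →+* A) (σ' : G → A' →+* A')
    (hσB : ∀ g b, σ g (algebraMap B A b) = algebraMap B A b)
    (hinj : Function.Injective (algebraMap B A))
    (hrange : ∀ a, (∀ g, σ g a = a) → a ∈ Set.range (algebraMap B A))
    (hα : ∀ g a, σ' g (algebraMap A A' a) = algebraMap A A' (σ g a))
    (hβ : ∀ g b', σ' g (algebraMap B' A' b') = algebraMap B' A' b') :
    Function.Injective (algebraMap B' A') ∧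
      ∀ a', (∀ g, σ' g a' = a') → a' ∈ Set.range (algebraMap B' A') := by
  classical
  cases nonempty_fintype G
  -- the linear maps
  let ι : B →ₗ[B] A := Algebra.linearMap B A
  let s : G → A →ₗ[B] A := fun g =>
    { toFun := σ g
      map_add' := map_add _
      map_smul' := fun b a => by
        simp only [Algebra.smul_def, map_mul, hσB, RingHom.id_apply] }
  let fg : G → A →ₗ[B] A := fun g => s g - LinearMap.id
  let f : A →ₗ[B] (G → A) := LinearMap.pi fg
  have hfg : ∀ g a, fg g a = σ g a - a := fun g a => rfl
  have hex : Function.Exact ι f := by
    intro a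
    constructor
    · intro h
      refine hrange a (fun g => ?_)
      have := congrFun h g
      change fg g a = 0 at this
      rw [hfg, sub_eq_zero] at this
      exact this
    · rintro ⟨b, rfl⟩
      funext g
      change fg g (algebraMap B A b) = 0
      rw [hfg, hσB, sub_self]
  have hex' : Function.Exact (ι.lTensor B') (f.lTensor B') := Module.Flat.lTensor_exact B' hex
  have hinj' : Function.Injective (ι.lTensor B') :=
    Module.Flat.lTensor_preserves_injective_linearMap ι hinj
  have hbc : IsBaseChange B' (IsScalarTower.toAlgHom B A A').toLinearMap := Algebra.IsPushout.out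
  have he : ∀ (b' : B') (a : A), hbc.equiv (b' ⊗ₜ[B] a) = b' • algebraMap A A' a := fun b' a =>
    hbc.equiv_tmul b' a
  have hone : ∀ b' : B', algebraMap B' A' b' = hbc.equiv ((ι.lTensor B') (b' ⊗ₜ[B] (1 : B))) := by
    intro b'
    rw [LinearMap.lTensor_tmul, he]
    change _ = b' • algebraMap A A' (algebraMap B A 1)
    rw [map_one, map_one, Algebra.smul_def, mul_one]
  constructor
  · intro b₁ b₂ h
    rw [hone, hone] at h
    have h1 := hinj' (hbc.equiv.injective h)
    have h2 := congrArg (TensorProduct.rid B B') h1
    simpa using h2
  · intro a' ha'
    -- the key computation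
    have key : ∀ (g : G) (z : B' ⊗[B] A),
        hbc.equiv ((fg g).lTensor B' z) = σ' g (hbc.equiv z) - hbc.equiv z := by
      intro g z
      induction z using TensorProduct.induction_on with
      | zero => simp
      | tmul b' a =>
        rw [LinearMap.lTensor_tmul, he, he, hfg, map_sub, smul_sub, Algebra.smul_def,
          Algebra.smul_def, map_mul, hβ, hα]
      | add x y hx hy =>
        rw [map_add, map_add, hx, hy, map_add, map_add]
        ring
    have hz : (f.lTensor B') (hbc.equiv.symm a') = 0 := by
      apply (TensorProduct.piRight B B B' (fun _ : G => A)).injective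
      rw [map_zero]
      funext g
      have h1 : (TensorProduct.piRight B B B' (fun _ : G => A))
          ((f.lTensor B') (hbc.equiv.symm a')) g = (fg g).lTensor B' (hbc.equiv.symm a') := by
        generalize hbc.equiv.symm a' = z
        induction z using TensorProduct.induction_on with
        | zero => simp
        | tmul b' a => simp [f]
        | add x y hx hy => simp only [map_add, Pi.add_apply, hx, hy]
      rw [h1]
      apply hbc.equiv.injective
      rw [key, LinearEquiv.apply_symm_apply, ha' g, sub_self, Pi.zero_apply, map_zero]
    obtain ⟨w, hw⟩ := (hex' _).1 hz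
    refine ⟨TensorProduct.rid B B' w, ?_⟩
    rw [hone]
    have h2 : (TensorProduct.rid B B' w) ⊗ₜ[B] (1 : B) = w := by
      rw [← TensorProduct.rid_symm_apply, LinearEquiv.symm_apply_apply]
    rw [h2, hw, LinearEquiv.apply_symm_apply]

end Groth.Agent.Lead.QuotBC
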