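import Mathlib
import Groth.Prelude.Def_SGA1

/-!
# Quotient of a clopen piece by a subgroup (lead)

If `X → X/G` is a quotient by a finite group and `Y ⊆ X` is an open whose `G`-translates cover `X` and
which is disjoint from its translates by elements outside a subgroup `H` stabilising it, then
`Y → X/G` is a quotient of `Y` by `H`.
-/

set_option backward.isDefEq.respectTransparency.types false
set_option synthInstance.maxHeartbeats 400000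
set_option autoImplicit false
set_option linter.unusedSectionVars false
set_option linter.style.haveILetI false

universe u
open CategoryTheory CategoryTheory.Limits AlgebraicGeometry TopologicalSpace

namespace Groth.Agent.Lead.QuotSub

section Germ

variable {X : Scheme.{u}}

/-- gluing of sections, with the compatibility and the conclusion phrased through germs -/
theorem glue_of_germ {ι : Type u} (W : ι → X.Opens) (V : X.Opens) (hWV : ∀ i, W i ≤ V)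
    (hcov : V ≤ ⨆ i, W i) (t : ∀ i, Γ(X, W i))
    (hc : ∀ i j (x : X) (hi : x ∈ W i) (hj : x ∈ W j),
      X.presheaf.germ (W i) x hi (t i) = X.presheaf.germ (W j) x hj (t j)) :
    ∃ s : Γ(X, V), ∀ i (x : X) (hi : x ∈ W i),
      X.presheaf.germ V x (hWV i hi) s = X.presheaf.germ (W i) x hi (t i) := by
  have hcompat : TopCat.Presheaf.IsCompatible X.sheaf.1 W t := by
    intro i j
    refine TopCat.Presheaf.section_ext X.sheaf (W i ⊓ W j) _ _ (fun x hx => ?_)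
    have e1 : X.presheaf.germ (W i ⊓ W j) x hx
        ((X.presheaf.map (Opens.infLELeft (W i) (W j)).op).hom (t i)) =
        X.presheaf.germ (W i) x hx.1 (t i) :=
      TopCat.Presheaf.germ_res_apply X.presheaf _ x hx (t i)
    have e2 : X.presheaf.germ (W i ⊓ W j) x hx
        ((X.presheaf.map (Opens.infLERight (W i) (W j)).op).hom (t j)) =
        X.presheaf.germ (W j) x hx.2 (t j) :=
      TopCat.Presheaf.germ_res_apply X.presheaf _ x hx (t j)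
    exact e1.trans ((hc i j x hx.1 hx.2).trans e2.symm)
  obtain ⟨s, hs, -⟩ := X.sheaf.existsUnique_gluing' W V (fun i => homOfLE (hWV i)) hcov t hcompat
  refine ⟨s, fun i x hi => ?_⟩
  rw [← hs i]
  exact (TopCat.Presheaf.germ_res_apply X.presheaf (homOfLE (hWV i)) x hi s).symm

/-- germs of the pullback of a section along a composite -/
theorem germ_comp_app {X Y Z : Scheme.{u}} (β : X ⟶ Y) (δ : Y ⟶ Z) (O : Z.Opens) (s : Γ(Z, O))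
    (x : X) (hx : x ∈ (β ≫ δ) ⁻¹ᵁ O) :
    X.presheaf.germ ((β ≫ δ) ⁻¹ᵁ O) x hx ((β ≫ δ).app O s) =
      β.stalkMap x (Y.presheaf.germ (δ ⁻¹ᵁ O) (β x) hx (δ.app O s)) := by
  rw [Scheme.Hom.germ_stalkMap_apply]
  rfl

/-- pulling back along a composite `γ = β ≫ δ` a section which is `δ`-invariant near `β x` -/
theorem germ_app_eq_of_comp (β δ γ : X ⟶ X) (e : γ = β ≫ δ) (O : X.Opens) (s : Γ(X, O)) (x : X)
    (hx : x ∈ γ ⁻¹ᵁ O) (hβ : β x ∈ O) (hδ : β x ∈ δ ⁻¹ᵁ O)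
    (hinv : X.presheaf.germ (δ ⁻¹ᵁ O) (β x) hδ (δ.app O s) = X.presheaf.germ O (β x) hβ s) :
    X.presheaf.germ (γ ⁻¹ᵁ O) x hx (γ.app O s) = X.presheaf.germ (β ⁻¹ᵁ O) x hβ (β.app O s) := by
  subst e
  rw [germ_comp_app, hinv, Scheme.Hom.germ_stalkMap_apply]

/-- pulling back along the identity -/
theorem germ_app_eq_of_id (γ : X ⟶ X) (e : γ = 𝟙 X) (O : X.Opens) (s : Γ(X, O)) (x : X)
    (hx : x ∈ γ ⁻¹ᵁ O) (hx' : x ∈ O) :
    X.presheaf.germ (γ ⁻¹ᵁ O) x hx (γ.app O s) = X.presheaf.germ O x hx' s := by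
  subst e
  rfl

end Germ

section Main

variable {G : Type u} [Group G] {X XG : Scheme.{u}} (ρ : G →* Aut X)

theorem hom_mul (g h : G) : (ρ (g * h)).hom = (ρ h).hom ≫ (ρ g).hom := by
  rw [map_mul]
  rfl

theorem hom_one : (ρ 1).hom = 𝟙 X := by
  rw [map_one]
  rfl

theorem inv_apply (g : G) (x : X) : (ρ g⁻¹).hom ((ρ g).hom x) = x := by
  have h1 : (ρ g).hom ≫ (ρ g⁻¹).hom = 𝟙 X := by rw [← hom_mul, inv_mul_cancel, hom_one]
  have h2 : ((ρ g).hom ≫ (ρ g⁻¹).hom) x = (𝟙 X : X ⟶ X) x := by rw [h1]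
  exact h2

theorem apply_inv (g : G) (x : X) : (ρ g).hom ((ρ g⁻¹).hom x) = x := by
  have := inv_apply ρ g⁻¹ x
  rwa [inv_inv] at this

variable (H : Subgroup G) (Y : X.Opens) (ρY : H →* Aut (Y : Scheme.{u}))
  (hρY : ∀ h : H, (ρY h).hom ≫ Y.ι = Y.ι ≫ (ρ (h : G)).hom)

include hρY in
theorem apply_mem_of_mem (h : H) (y : X) (hy : y ∈ Y) : (ρ (h : G)).hom y ∈ Y := by
  have h1 : ((ρY h).hom ≫ Y.ι) ⟨y, hy⟩ = (Y.ι ≫ (ρ (h : G)).hom) ⟨y, hy⟩ := by rw [hρY h]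
  have h2 : (ρ (h : G)).hom y = ((ρY h).hom ⟨y, hy⟩).1 := h1.symm
  rw [h2]
  exact ((ρY h).hom ⟨y, hy⟩).2

include hρY in
theorem image_eq_of_mem (h : H) : (ρ (h : G)).hom.base '' (Y : Set X) = (Y : Set X) := by
  apply Set.Subset.antisymm
  · rintro _ ⟨y, hy, rfl⟩
    exact apply_mem_of_mem ρ H Y ρY hρY h y hy
  · intro y hy
    refine ⟨(ρ ((h⁻¹ : H) : G)).hom y, apply_mem_of_mem ρ H Y ρY hρY h⁻¹ y hy, ?_⟩
    have := apply_inv ρ (h : G) y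
    simpa using this

include hρY in
theorem isClosed_of_cover (hcov : ∀ x : X, ∃ g : G, x ∈ (ρ g).hom.base '' (Y : Set X))
    (hdisj : ∀ g : G, g ∉ H → Disjoint ((ρ g).hom.base '' (Y : Set X)) (Y : Set X)) :
    IsClosed (Y : Set X) := by
  have h1 : (Y : Set X)ᶜ = ⋃ g : {g : G // g ∉ H}, (ρ g.1).hom.base '' (Y : Set X) := by
    ext x
    simp only [Set.mem_compl_iff, Set.mem_iUnion]
    constructor
    · intro hx
      obtain ⟨g, hg⟩ := hcov x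
      by_cases hgH : g ∈ H
      · exfalso
        rw [image_eq_of_mem ρ H Y ρY hρY ⟨g, hgH⟩] at hg
        exact hx hg
      · exact ⟨⟨g, hgH⟩, hg⟩
    · rintro ⟨⟨g, hgH⟩, hg⟩ hx
      exact Set.disjoint_left.1 (hdisj g hgH) hg hx
  rw [← isOpen_compl_iff, h1]
  refine isOpen_iUnion (fun g => ?_)
  exact ((ρ g.1).hom ''ᵁ Y).2

include hρY in
theorem isAffineHom_comp (p : X ⟶ XG) [IsAffineHom p]
    (hcov : ∀ x : X, ∃ g : G, x ∈ (ρ g).hom.base '' (Y : Set X))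
    (hdisj : ∀ g : G, g ∉ H → Disjoint ((ρ g).hom.base '' (Y : Set X)) (Y : Set X)) :
    IsAffineHom (Y.ι ≫ p) := by
  haveI : IsClosedImmersion Y.ι := by
    refine IsClosedImmersion.of_isPreimmersion _ ?_
    rw [Scheme.Opens.range_ι]
    exact isClosed_of_cover ρ H Y ρY hρY hcov hdisj
  infer_instance

theorem germ_app_congr {X Z : Scheme.{u}} (q p : X ⟶ Z) (e : q = p) (U : Z.Opens) (r : Γ(Z, U))
    (y : X) (hy : y ∈ q ⁻¹ᵁ U) (hy' : y ∈ p ⁻¹ᵁ U) :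
    X.presheaf.germ (q ⁻¹ᵁ U) y hy (q.app U r) = X.presheaf.germ (p ⁻¹ᵁ U) y hy' (p.app U r) := by
  subst e
  rfl

theorem appLE_congr' {X Z : Scheme.{u}} (q p : X ⟶ Z) (e : q = p) (U : Z.Opens) (W : X.Opens)
    (e1 : W ≤ q ⁻¹ᵁ U) (e2 : W ≤ p ⁻¹ᵁ U) : q.appLE U W e1 = p.appLE U W e2 := by
  subst e
  rfl

theorem mem_image_iff (p : X ⟶ XG) (U : XG.Opens) (x : X) :
    x ∈ Y.ι ''ᵁ ((Y.ι ≫ p) ⁻¹ᵁ U) ↔ x ∈ Y ∧ p x ∈ U := by
  constructor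
  · rintro ⟨y', hy', rfl⟩
    exact ⟨y'.2, hy'⟩
  · rintro ⟨hY, hU⟩
    exact ⟨⟨x, hY⟩, hU, rfl⟩

theorem p_apply (p : X ⟶ XG) (hinv : ∀ g : G, (ρ g).hom ≫ p = p) (g : G) (x : X) :
    p ((ρ g).hom x) = p x := by
  have h2 : ((ρ g).hom ≫ p) x = p x := by rw [hinv g]
  exact h2

include hρY in
/-- the action of `H` on the sections of `Y` is the one induced from `X` -/
theorem appLE_eq (h : H) (W : (Y : Scheme.{u}).Opens) (eY : W ≤ (ρY h).hom ⁻¹ᵁ W)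
    (eX : Y.ι ''ᵁ W ≤ (ρ (h : G)).hom ⁻¹ᵁ (Y.ι ''ᵁ W)) :
    (ρY h).hom.appLE W W eY = (ρ (h : G)).hom.appLE (Y.ι ''ᵁ W) (Y.ι ''ᵁ W) eX := by
  have eι : W ≤ Y.ι ⁻¹ᵁ (Y.ι ''ᵁ W) := (Y.ι.preimage_image_eq W).ge
  have hι : Y.ι.appLE (Y.ι ''ᵁ W) W eι = 𝟙 _ := by
    rw [Scheme.Opens.ι_appLE]
    exact X.presheaf.map_id _
  have h1 := Scheme.Hom.appLE_comp_appLE (ρY h).hom Y.ι (Y.ι ''ᵁ W) W W eι eY
  have h2 := Scheme.Hom.appLE_comp_appLE Y.ι (ρ (h : G)).hom (Y.ι ''ᵁ W) (Y.ι ''ᵁ W) W eX eι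
  rw [hι] at h1 h2
  have h1' : (ρY h).hom.appLE W W eY = ((ρY h).hom ≫ Y.ι).appLE (Y.ι ''ᵁ W) W
      (eY.trans ((Opens.map (ρY h).hom.base).map (homOfLE eι)).le) :=
    (Category.id_comp ((ρY h).hom.appLE W W eY)).symm.trans h1
  have h2' : (ρ (h : G)).hom.appLE (Y.ι ''ᵁ W) (Y.ι ''ᵁ W) eX =
      (Y.ι ≫ (ρ (h : G)).hom).appLE (Y.ι ''ᵁ W) W
        (eι.trans ((Opens.map Y.ι.base).map (homOfLE eX)).le) :=
    (Category.comp_id ((ρ (h : G)).hom.appLE (Y.ι ''ᵁ W) (Y.ι ''ᵁ W) eX)).symm.trans h2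
  exact h1'.trans ((appLE_congr' _ _ (hρY h) _ _ _ _).trans h2'.symm)

include hρY in
/-- extension of an `H`-invariant section over `Y ∩ p⁻¹U` to a `G`-invariant section over `p⁻¹U` -/
theorem exists_invariant_extension (p : X ⟶ XG) (hinv : ∀ g : G, (ρ g).hom ≫ p = p)
    (hcov : ∀ x : X, ∃ g : G, x ∈ (ρ g).hom.base '' (Y : Set X))
    (hdisj : ∀ g : G, g ∉ H → Disjoint ((ρ g).hom.base '' (Y : Set X)) (Y : Set X))
    (U : XG.Opens) (O : X.Opens) (hO : ∀ x, x ∈ O ↔ x ∈ Y ∧ p x ∈ U) (s : Γ(X, O))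
    (hs : ∀ (h : H) (e : O ≤ (ρ (h : G)).hom ⁻¹ᵁ O), ((ρ (h : G)).hom.appLE O O e).hom s = s) :
    ∃ t : Γ(X, p ⁻¹ᵁ U),
      (∀ g : G, ((ρ g).hom.appLE (p ⁻¹ᵁ U) (p ⁻¹ᵁ U)
        (SGA1.preimage_le_of_inv ρ p hinv g U)).hom t = t) ∧
      ∀ (y : X) (hy : y ∈ O),
        X.presheaf.germ (p ⁻¹ᵁ U) y ((hO y).1 hy).2 t = X.presheaf.germ O y hy s := by
  have hsg : ∀ (h : G) (hh : h ∈ H) (y : X) (hy : y ∈ O) (hy' : y ∈ (ρ h).hom ⁻¹ᵁ O),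
      X.presheaf.germ ((ρ h).hom ⁻¹ᵁ O) y hy' (((ρ h).hom.app O).hom s) =
        X.presheaf.germ O y hy s := by
    intro h hh y hy hy'
    have eO : O ≤ (ρ h).hom ⁻¹ᵁ O := by
      intro z hz
      obtain ⟨hzY, hzU⟩ := (hO z).1 hz
      exact (hO _).2 ⟨apply_mem_of_mem ρ H Y ρY hρY ⟨h, hh⟩ z hzY, by
        rw [p_apply ρ p hinv]; exact hzU⟩
    have h1 := hs ⟨h, hh⟩ eO
    have h2 : X.presheaf.germ O y hy (((ρ h).hom.appLE O O eO).hom s) =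
        X.presheaf.germ ((ρ h).hom ⁻¹ᵁ O) y hy' (((ρ h).hom.app O).hom s) :=
      TopCat.Presheaf.germ_res_apply X.presheaf (homOfLE eO) y hy _
    rw [← h2, h1]
  let Wg : G → X.Opens := fun g => (ρ g⁻¹).hom ⁻¹ᵁ O
  let tg : ∀ g, Γ(X, Wg g) := fun g => ((ρ g⁻¹).hom.app O).hom s
  have hWV : ∀ g, Wg g ≤ p ⁻¹ᵁ U := by
    intro g x hx
    have h1 : p ((ρ g⁻¹).hom x) ∈ U := ((hO _).1 hx).2
    rw [p_apply ρ p hinv] at h1
    exact h1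
  have hcovV : p ⁻¹ᵁ U ≤ ⨆ g, Wg g := by
    intro x hx
    obtain ⟨g, y, hy, rfl⟩ := hcov x
    refine Opens.mem_iSup.2 ⟨g, ?_⟩
    change (ρ g⁻¹).hom ((ρ g).hom y) ∈ O
    rw [inv_apply]
    refine (hO y).2 ⟨hy, ?_⟩
    have h1 : p ((ρ g).hom y) ∈ U := hx
    rwa [p_apply ρ p hinv] at h1
  have hc : ∀ g g' (x : X) (hi : x ∈ Wg g) (hj : x ∈ Wg g'),
      X.presheaf.germ (Wg g) x hi (tg g) = X.presheaf.germ (Wg g') x hj (tg g') := by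
    intro g g' x hi hj
    have e : (ρ g'⁻¹).hom = (ρ g⁻¹).hom ≫ (ρ (g'⁻¹ * g)).hom := by
      rw [← hom_mul]
      congr 2
      group
    have hpt : (ρ (g'⁻¹ * g)).hom ((ρ g⁻¹).hom x) = (ρ g'⁻¹).hom x :=
      (congrArg (fun φ : X ⟶ X => φ x) e).symm
    have hh : g'⁻¹ * g ∈ H := by
      by_contra hne
      exact Set.disjoint_left.1 (hdisj _ hne)
        ⟨(ρ g⁻¹).hom x, ((hO _).1 hi).1, hpt⟩ ((hO _).1 hj).1
    have hβ : (ρ g⁻¹).hom x ∈ O := hi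
    have hδ : (ρ g⁻¹).hom x ∈ (ρ (g'⁻¹ * g)).hom ⁻¹ᵁ O := by
      change (ρ (g'⁻¹ * g)).hom ((ρ g⁻¹).hom x) ∈ O
      rw [hpt]
      exact hj
    exact (germ_app_eq_of_comp _ _ _ e O s x hj hβ hδ (hsg _ hh _ hβ hδ)).symm
  obtain ⟨t, ht⟩ := glue_of_germ Wg (p ⁻¹ᵁ U) hWV hcovV tg hc
  refine ⟨t, ?_, ?_⟩
  · intro g
    refine TopCat.Presheaf.section_ext X.sheaf (p ⁻¹ᵁ U) _ _ (fun x hx => ?_)
    have hgx : (ρ g).hom x ∈ p ⁻¹ᵁ U := SGA1.preimage_le_of_inv ρ p hinv g U hx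
    have h1 : X.presheaf.germ (p ⁻¹ᵁ U) x hx (((ρ g).hom.appLE (p ⁻¹ᵁ U) (p ⁻¹ᵁ U)
        (SGA1.preimage_le_of_inv ρ p hinv g U)).hom t) =
        X.presheaf.germ ((ρ g).hom ⁻¹ᵁ (p ⁻¹ᵁ U)) x hgx (((ρ g).hom.app (p ⁻¹ᵁ U)).hom t) :=
      TopCat.Presheaf.germ_res_apply X.presheaf
        (homOfLE (SGA1.preimage_le_of_inv ρ p hinv g U)) x hx _
    refine h1.trans ?_
    rw [← Scheme.Hom.germ_stalkMap_apply]
    obtain ⟨g', hg'⟩ := Opens.mem_iSup.1 (hcovV hgx)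
    rw [ht g' _ hg', Scheme.Hom.germ_stalkMap_apply]
    have e : (ρ (g⁻¹ * g')⁻¹).hom = (ρ g).hom ≫ (ρ g'⁻¹).hom := by
      rw [← hom_mul]
      congr 2
      group
    have hpt : (ρ (g⁻¹ * g')⁻¹).hom x = (ρ g'⁻¹).hom ((ρ g).hom x) :=
      congrArg (fun φ : X ⟶ X => φ x) e
    have hx' : x ∈ Wg (g⁻¹ * g') := by
      change (ρ (g⁻¹ * g')⁻¹).hom x ∈ O
      rw [hpt]
      exact hg'
    refine Eq.trans ?_ (ht (g⁻¹ * g') x hx').symm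
    exact (germ_app_congr _ _ e O s x hx' hg').symm
  · intro y hy
    have e1 : (ρ (1 : G)⁻¹).hom = 𝟙 X := by rw [inv_one, hom_one]
    have hpt : (ρ (1 : G)⁻¹).hom y = y := congrArg (fun φ : X ⟶ X => φ y) e1
    have hy1 : y ∈ Wg 1 := by
      change (ρ (1 : G)⁻¹).hom y ∈ O
      rw [hpt]
      exact hy
    rw [ht 1 y hy1]
    exact germ_app_eq_of_id _ e1 O s y hy1 hy

include hρY in
/-- **the quotient of the clopen piece `Y` by the subgroup `H`** -/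
theorem isQuot_sub (p : X ⟶ XG) (hP : SGA1.IsQuot ρ p)
    (hcov : ∀ x : X, ∃ g : G, x ∈ (ρ g).hom.base '' (Y : Set X))
    (hdisj : ∀ g : G, g ∉ H → Disjoint ((ρ g).hom.base '' (Y : Set X)) (Y : Set X)) :
    SGA1.IsQuot ρY (Y.ι ≫ p) := by
  have hinvY : ∀ h : H, (ρY h).hom ≫ Y.ι ≫ p = Y.ι ≫ p := by
    intro h
    rw [← Category.assoc, hρY h, Category.assoc, hP.inv]
  haveI := hP.affine
  -- membership in the translates
  have hmemO : ∀ (U : XG.Opens) (x : X),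
      x ∈ Y.ι ''ᵁ ((Y.ι ≫ p) ⁻¹ᵁ U) ↔ x ∈ Y ∧ p x ∈ U := fun U x => mem_image_iff Y p U x
  refine ⟨isAffineHom_comp ρ H Y ρY hρY p hcov hdisj, hinvY, ?_, ?_⟩
  · -- injectivity
    intro U r r' hrr'
    apply hP.injective U
    refine TopCat.Presheaf.section_ext X.sheaf (p ⁻¹ᵁ U) _ _ (fun x hx => ?_)
    obtain ⟨g, y, hy, rfl⟩ := hcov x
    have hyU : p y ∈ U := by
      have := p_apply ρ p hP.inv g y
      rw [← this]; exact hx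
    have hinj : Function.Injective ((ρ g).hom.stalkMap y) :=
      ((ConcreteCategory.isIso_iff_bijective ((ρ g).hom.stalkMap y)).1 inferInstance).1
    apply hinj
    have e1 : ∀ r₀ : Γ(XG, U), (ρ g).hom.stalkMap y
        (X.presheaf.germ (p ⁻¹ᵁ U) ((ρ g).hom y) hx ((p.app U).hom r₀)) =
        X.presheaf.germ (p ⁻¹ᵁ U) y hyU ((p.app U).hom r₀) := by
      intro r₀
      rw [Scheme.Hom.germ_stalkMap_apply]
      exact germ_app_congr ((ρ g).hom ≫ p) p (hP.inv g) U r₀ y hx hyU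
    have e2 : ∀ r₀ : Γ(XG, U), X.presheaf.germ (p ⁻¹ᵁ U) y hyU ((p.app U).hom r₀) =
        X.presheaf.germ (Y.ι ''ᵁ ((Y.ι ≫ p) ⁻¹ᵁ U)) y ((hmemO U y).2 ⟨hy, hyU⟩)
          (((Y.ι ≫ p).app U).hom r₀) := by
      intro r₀
      exact (TopCat.Presheaf.germ_res_apply X.presheaf
        (homOfLE (Y.ι.image_preimage_le (p ⁻¹ᵁ U))) y ((hmemO U y).2 ⟨hy, hyU⟩)
        ((p.app U).hom r₀)).symm
    refine (e1 r).trans (((e2 r).trans ?_).trans ((e1 r').trans (e2 r')).symm)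
    exact congrArg _ hrr'
  · intro U s
    -- the open of `X` over which `s` lives
    have eX : ∀ h : H, Y.ι ''ᵁ ((Y.ι ≫ p) ⁻¹ᵁ U) ≤
        (ρ (h : G)).hom ⁻¹ᵁ (Y.ι ''ᵁ ((Y.ι ≫ p) ⁻¹ᵁ U)) := by
      intro h y hy
      obtain ⟨hyY, hyU⟩ := (hmemO U y).1 hy
      refine (hmemO U _).2 ⟨apply_mem_of_mem ρ H Y ρY hρY h y hyY, ?_⟩
      rw [p_apply ρ p hP.inv]; exact hyU
    constructor
    · rintro ⟨r, rfl⟩ h
      have h1 := Scheme.Hom.appLE_comp_appLE (ρY h).hom (Y.ι ≫ p) U ((Y.ι ≫ p) ⁻¹ᵁ U)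
        ((Y.ι ≫ p) ⁻¹ᵁ U) le_rfl (SGA1.preimage_le_of_inv ρY (Y.ι ≫ p) hinvY h U)
      rw [Scheme.Hom.appLE_eq_app] at h1
      have h2 : ((ρY h).hom ≫ Y.ι ≫ p).appLE U ((Y.ι ≫ p) ⁻¹ᵁ U)
          ((SGA1.preimage_le_of_inv ρY (Y.ι ≫ p) hinvY h U).trans
            ((Opens.map (ρY h).hom.base).map (homOfLE le_rfl)).le) = (Y.ι ≫ p).app U :=
        (appLE_congr' _ _ (hinvY h) U _ _ le_rfl).trans (Y.ι ≫ p).appLE_eq_app
      have h3 := h1.trans h2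
      exact congrArg (fun φ => φ.hom r) h3
    · intro hs
      have hsX : ∀ (h : H) (e : Y.ι ''ᵁ ((Y.ι ≫ p) ⁻¹ᵁ U) ≤
          (ρ (h : G)).hom ⁻¹ᵁ (Y.ι ''ᵁ ((Y.ι ≫ p) ⁻¹ᵁ U))),
          ((ρ (h : G)).hom.appLE (Y.ι ''ᵁ ((Y.ι ≫ p) ⁻¹ᵁ U))
            (Y.ι ''ᵁ ((Y.ι ≫ p) ⁻¹ᵁ U)) e).hom s = s := by
        intro h e
        rw [← appLE_eq ρ H Y ρY hρY h ((Y.ι ≫ p) ⁻¹ᵁ U)
          (SGA1.preimage_le_of_inv ρY (Y.ι ≫ p) hinvY h U) e]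
        exact hs h
      obtain ⟨t, htinv, htg⟩ := exists_invariant_extension ρ H Y ρY hρY p hP.inv hcov hdisj U
        (Y.ι ''ᵁ ((Y.ι ≫ p) ⁻¹ᵁ U)) (hmemO U) s hsX
      obtain ⟨r, hr⟩ := (hP.range_iff U t).2 htinv
      refine ⟨r, ?_⟩
      refine TopCat.Presheaf.section_ext X.sheaf (Y.ι ''ᵁ ((Y.ι ≫ p) ⁻¹ᵁ U)) _ _ (fun y hy => ?_)
      have e2 : X.presheaf.germ (Y.ι ''ᵁ ((Y.ι ≫ p) ⁻¹ᵁ U)) y hy (((Y.ι ≫ p).app U).hom r) =
          X.presheaf.germ (p ⁻¹ᵁ U) y ((hmemO U y).1 hy).2 ((p.app U).hom r) :=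
        TopCat.Presheaf.germ_res_apply X.presheaf
          (homOfLE (Y.ι.image_preimage_le (p ⁻¹ᵁ U))) y hy ((p.app U).hom r)
      refine e2.trans ?_
      rw [hr]
      exact htg y hy

end Main

end Groth.Agent.Lead.QuotSub
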