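import Mathlib
import Groth.Prelude.Def_SGA1
import Groth.Agent.Lib.Lead.QuotSub1
import Groth.Agent.Lib.Lead.QuotBC1

/-!
# Quotients by finite groups commute with flat base change (lead)
-/

set_option backward.isDefEq.respectTransparency.types false
set_option synthInstance.maxHeartbeats 400000
set_option autoImplicit false
set_option linter.unusedSectionVars false
set_option linter.style.haveILetI false

universe u
open CategoryTheory CategoryTheory.Limits AlgebraicGeometry TopologicalSpace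

namespace Groth.Agent.Lead.QuotBC

open Groth.Agent.Lead.QuotSub

theorem app_comp_appLE_of_inv {X Y : Scheme.{u}} (β : X ⟶ X) (p : X ⟶ Y) (e : β ≫ p = p)
    (V : Y.Opens) (h : p ⁻¹ᵁ V ≤ β ⁻¹ᵁ (p ⁻¹ᵁ V)) :
    p.app V ≫ β.appLE (p ⁻¹ᵁ V) (p ⁻¹ᵁ V) h = p.app V := by
  have h1 := Scheme.Hom.appLE_comp_appLE β p V (p ⁻¹ᵁ V) (p ⁻¹ᵁ V) le_rfl h
  rw [Scheme.Hom.appLE_eq_app] at h1
  exact h1.trans ((appLE_congr' _ _ e V _ _ le_rfl).trans p.appLE_eq_app)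

section Basis

variable {X Y : Scheme.{u}} {G : Type u} [Group G] (ρ : G →* Aut X) (p : X ⟶ Y)

/-- restriction of sections of the source over preimages -/
theorem app_res (U V : Y.Opens) (h : V ≤ U) (r : Γ(Y, U)) :
    (p.app V).hom ((Y.presheaf.map (homOfLE h).op).hom r) =
      (X.presheaf.map (homOfLE (p.preimage_mono h)).op).hom ((p.app U).hom r) := by
  have := p.naturality (homOfLE h).op
  exact congrArg (fun φ => φ.hom r) this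

/-- **reduction to a basis**: it suffices to check the conditions on sections over a basis -/
theorem isQuot_of_basis [IsAffineHom p] (hinv : ∀ g : G, (ρ g).hom ≫ p = p) (𝔅 : Set Y.Opens)
    (hB : ∀ (y : Y) (U : Y.Opens), y ∈ U → ∃ V ∈ 𝔅, y ∈ V ∧ V ≤ U)
    (hinj : ∀ V ∈ 𝔅, Function.Injective (p.app V).hom)
    (hrange : ∀ V ∈ 𝔅, ∀ s : Γ(X, p ⁻¹ᵁ V),
      (∀ g : G, ((ρ g).hom.appLE (p ⁻¹ᵁ V) (p ⁻¹ᵁ V)
        (SGA1.preimage_le_of_inv ρ p hinv g V)).hom s = s) → s ∈ Set.range (p.app V).hom) :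
    SGA1.IsQuot ρ p := by
  have hinjU : ∀ U : Y.Opens, Function.Injective (p.app U).hom := by
    intro U r r' hrr'
    refine TopCat.Presheaf.section_ext Y.sheaf U _ _ (fun y hy => ?_)
    obtain ⟨V, hV, hyV, hVU⟩ := hB y U hy
    have h1 : (Y.presheaf.map (homOfLE hVU).op).hom r = (Y.presheaf.map (homOfLE hVU).op).hom r' := by
      apply hinj V hV
      rw [app_res p U V hVU, app_res p U V hVU, hrr']
    have e1 : ∀ r₀ : Γ(Y, U), Y.presheaf.germ V y hyV ((Y.presheaf.map (homOfLE hVU).op).hom r₀) =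
        Y.presheaf.germ U y hy r₀ := fun r₀ =>
      TopCat.Presheaf.germ_res_apply Y.presheaf (homOfLE hVU) y hyV r₀
    exact (e1 r).symm.trans ((congrArg _ h1).trans (e1 r'))
  refine ⟨inferInstance, hinv, hinjU, fun U s => ⟨?_, ?_⟩⟩
  · rintro ⟨r, rfl⟩ g
    exact congrArg (fun φ => φ.hom r) (app_comp_appLE_of_inv (ρ g).hom p (hinv g) U _)
  · intro hs
    -- the local solutions
    have hloc : ∀ V : {V : Y.Opens // V ∈ 𝔅 ∧ V ≤ U}, ∃ r : Γ(Y, V.1),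
        (p.app V.1).hom r = (X.presheaf.map (homOfLE (p.preimage_mono V.2.2)).op).hom s := by
      intro V
      refine hrange V.1 V.2.1 _ (fun g => ?_)
      have h1 : X.presheaf.map (homOfLE (p.preimage_mono V.2.2)).op ≫
          (ρ g).hom.appLE (p ⁻¹ᵁ V.1) (p ⁻¹ᵁ V.1) (SGA1.preimage_le_of_inv ρ p hinv g V.1) =
          (ρ g).hom.appLE (p ⁻¹ᵁ U) (p ⁻¹ᵁ U) (SGA1.preimage_le_of_inv ρ p hinv g U) ≫
            X.presheaf.map (homOfLE (p.preimage_mono V.2.2)).op := by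
        rw [Scheme.Hom.map_appLE, Scheme.Hom.appLE_map]
      have h2 := congrArg (fun φ => φ.hom s) h1
      simp only [CommRingCat.hom_comp, RingHom.comp_apply] at h2
      rw [h2, hs g]
    choose r hr using hloc
    have hc : ∀ (V V' : {V : Y.Opens // V ∈ 𝔅 ∧ V ≤ U}) (y : Y) (hi : y ∈ V.1) (hj : y ∈ V'.1),
        Y.presheaf.germ V.1 y hi (r V) = Y.presheaf.germ V'.1 y hj (r V') := by
      intro V V' y hi hj
      obtain ⟨V₃, hV₃, hyV₃, hle⟩ := hB y (V.1 ⊓ V'.1) ⟨hi, hj⟩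
      have h1 : (Y.presheaf.map (homOfLE (hle.trans inf_le_left)).op).hom (r V) =
          (Y.presheaf.map (homOfLE (hle.trans inf_le_right)).op).hom (r V') := by
        apply hinj V₃ hV₃
        rw [app_res p V.1 V₃ _, app_res p V'.1 V₃ _, hr V, hr V']
        rw [← RingHom.comp_apply, ← RingHom.comp_apply, ← CommRingCat.hom_comp,
          ← CommRingCat.hom_comp, ← Functor.map_comp, ← Functor.map_comp]
        rfl
      have e1 := TopCat.Presheaf.germ_res_apply Y.presheaf (homOfLE (hle.trans inf_le_left)) y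
        hyV₃ (r V)
      have e2 := TopCat.Presheaf.germ_res_apply Y.presheaf (homOfLE (hle.trans inf_le_right)) y
        hyV₃ (r V')
      exact e1.symm.trans ((congrArg _ h1).trans e2)
    have hcov : U ≤ ⨆ V : {V : Y.Opens // V ∈ 𝔅 ∧ V ≤ U}, V.1 := by
      intro y hy
      obtain ⟨V, hV, hyV, hVU⟩ := hB y U hy
      exact Opens.mem_iSup.2 ⟨⟨V, hV, hVU⟩, hyV⟩
    obtain ⟨r₀, hr₀⟩ := glue_of_germ (fun V : {V : Y.Opens // V ∈ 𝔅 ∧ V ≤ U} => V.1) U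
      (fun V => V.2.2) hcov r hc
    refine ⟨r₀, ?_⟩
    refine TopCat.Presheaf.section_ext X.sheaf (p ⁻¹ᵁ U) _ _ (fun x hx => ?_)
    obtain ⟨V, hV, hyV, hVU⟩ := hB (p x) U hx
    -- restriction of r₀ to V is r V
    have h1 : (Y.presheaf.map (homOfLE hVU).op).hom r₀ = r ⟨V, hV, hVU⟩ := by
      refine TopCat.Presheaf.section_ext Y.sheaf V _ _ (fun y hy => ?_)
      have e1 := TopCat.Presheaf.germ_res_apply Y.presheaf (homOfLE hVU) y hy r₀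
      exact e1.trans (hr₀ ⟨V, hV, hVU⟩ y hy)
    have h2 : (X.presheaf.map (homOfLE (p.preimage_mono hVU)).op).hom ((p.app U).hom r₀) =
        (X.presheaf.map (homOfLE (p.preimage_mono hVU)).op).hom s := by
      rw [← app_res p U V hVU, h1, hr ⟨V, hV, hVU⟩]
    have e3 : ∀ s₀ : Γ(X, p ⁻¹ᵁ U), X.presheaf.germ (p ⁻¹ᵁ V) x hyV
        ((X.presheaf.map (homOfLE (p.preimage_mono hVU)).op).hom s₀) =
        X.presheaf.germ (p ⁻¹ᵁ U) x hx s₀ := fun s₀ =>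
      TopCat.Presheaf.germ_res_apply X.presheaf (homOfLE (p.preimage_mono hVU)) x hyV s₀
    exact (e3 _).symm.trans ((congrArg _ h2).trans (e3 s))

end Basis

section BaseChange

variable {X Y X' Y' : Scheme.{u}} {G : Type u} [Group G] [Finite G]

/-- the local computation over a pair of affine opens -/
theorem local_quot (ρ : G →* Aut X) (p : X ⟶ Y) (hp : SGA1.IsQuot ρ p) (qY : Y' ⟶ Y) [Flat qY]
    (pX : X' ⟶ X) (p' : X' ⟶ Y') (hX : IsPullback pX p' p qY)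
    (ρ' : G →* Aut X') (hρ₁ : ∀ g : G, (ρ' g).hom ≫ pX = pX ≫ (ρ g).hom)
    (hρ₂ : ∀ g : G, (ρ' g).hom ≫ p' = p')
    {V : Y.Opens} (hV : IsAffineOpen V) {V' : Y'.Opens} (hV' : IsAffineOpen V')
    (e : V' ≤ qY ⁻¹ᵁ V) :
    Function.Injective (p'.app V').hom ∧ ∀ s : Γ(X', p' ⁻¹ᵁ V'),
      (∀ g : G, ((ρ' g).hom.appLE (p' ⁻¹ᵁ V') (p' ⁻¹ᵁ V')
        (SGA1.preimage_le_of_inv ρ' p' hρ₂ g V')).hom s = s) → s ∈ Set.range (p'.app V').hom := by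
  haveI := hp.affine
  have hUX : IsAffineOpen (p ⁻¹ᵁ V) := hV.preimage p
  have e2 : p' ⁻¹ᵁ V' ≤ pX ⁻¹ᵁ (p ⁻¹ᵁ V) := by
    intro x hx
    change p (pX x) ∈ V
    have h1 : p (pX x) = qY (p' x) := by
      have := congrArg (fun φ : X' ⟶ Y => φ x) hX.w
      exact this
    rw [h1]
    exact e hx
  have hUY : p' ⁻¹ᵁ V' = pX ⁻¹ᵁ (p ⁻¹ᵁ V) ⊓ p' ⁻¹ᵁ V' := (inf_eq_right.2 e2).symm
  have hpo := (isIso_pushoutSection_iff hX e (le_refl (p ⁻¹ᵁ V)) hUY).1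
    (isIso_pushoutSection_of_isAffineOpen hX e (le_refl (p ⁻¹ᵁ V)) hUY hV hV' hUX)
  -- algebra structures
  letI : Algebra Γ(Y, V) Γ(X, p ⁻¹ᵁ V) := (p.appLE V (p ⁻¹ᵁ V) le_rfl).hom.toAlgebra
  letI : Algebra Γ(Y, V) Γ(Y', V') := (qY.appLE V V' e).hom.toAlgebra
  letI : Algebra Γ(Y', V') Γ(X', p' ⁻¹ᵁ V') := (p'.appLE V' (p' ⁻¹ᵁ V') le_rfl).hom.toAlgebra
  letI : Algebra Γ(X, p ⁻¹ᵁ V) Γ(X', p' ⁻¹ᵁ V') :=
    (pX.appLE (p ⁻¹ᵁ V) (p' ⁻¹ᵁ V') e2).hom.toAlgebra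
  letI : Algebra Γ(Y, V) Γ(X', p' ⁻¹ᵁ V') :=
    ((p'.appLE V' (p' ⁻¹ᵁ V') le_rfl).hom.comp (qY.appLE V V' e).hom).toAlgebra
  haveI : IsScalarTower Γ(Y, V) Γ(Y', V') Γ(X', p' ⁻¹ᵁ V') := IsScalarTower.of_algebraMap_eq' rfl
  haveI : IsScalarTower Γ(Y, V) Γ(X, p ⁻¹ᵁ V) Γ(X', p' ⁻¹ᵁ V') := by
    refine IsScalarTower.of_algebraMap_eq' ?_
    have := hpo.w
    exact congrArg (fun φ => φ.hom) this.symm
  haveI : Algebra.IsPushout Γ(Y, V) Γ(Y', V') Γ(X, p ⁻¹ᵁ V) Γ(X', p' ⁻¹ᵁ V') :=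
    CommRingCat.isPushout_iff_isPushout.1 hpo.flip
  haveI : Module.Flat Γ(Y, V) Γ(Y', V') :=
    HasRingHomProperty.appLE (P := @Flat) qY inferInstance ⟨V, hV⟩ ⟨V', hV'⟩ e
  have key := invariants_baseChange (B := Γ(Y, V)) (A := Γ(X, p ⁻¹ᵁ V)) (B' := Γ(Y', V'))
    (A' := Γ(X', p' ⁻¹ᵁ V')) (G := G)
    (fun g => ((ρ g).hom.appLE (p ⁻¹ᵁ V) (p ⁻¹ᵁ V)
      (SGA1.preimage_le_of_inv ρ p hp.inv g V)).hom)
    (fun g => ((ρ' g).hom.appLE (p' ⁻¹ᵁ V') (p' ⁻¹ᵁ V')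
      (SGA1.preimage_le_of_inv ρ' p' hρ₂ g V')).hom)
    ?_ ?_ ?_ ?_ ?_
  · refine ⟨?_, ?_⟩
    · have := key.1
      rwa [show (algebraMap Γ(Y', V') Γ(X', p' ⁻¹ᵁ V')) = (p'.app V').hom from by
        change (p'.appLE V' (p' ⁻¹ᵁ V') le_rfl).hom = _
        rw [Scheme.Hom.appLE_eq_app]] at this
    · intro s hs
      obtain ⟨b', hb'⟩ := key.2 s hs
      refine ⟨b', ?_⟩
      rw [← hb']
      change _ = (p'.appLE V' (p' ⁻¹ᵁ V') le_rfl).hom b'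
      rw [Scheme.Hom.appLE_eq_app]
  · intro g b
    change ((ρ g).hom.appLE _ _ _).hom ((p.appLE V (p ⁻¹ᵁ V) le_rfl).hom b) =
      (p.appLE V (p ⁻¹ᵁ V) le_rfl).hom b
    rw [Scheme.Hom.appLE_eq_app]
    exact congrArg (fun φ => φ.hom b) (app_comp_appLE_of_inv (ρ g).hom p (hp.inv g) V _)
  · change Function.Injective (p.appLE V (p ⁻¹ᵁ V) le_rfl).hom
    rw [Scheme.Hom.appLE_eq_app]
    exact hp.injective V
  · intro a ha
    obtain ⟨b, hb⟩ := (hp.range_iff V a).2 ha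
    refine ⟨b, ?_⟩
    rw [← hb]
    change (p.appLE V (p ⁻¹ᵁ V) le_rfl).hom b = _
    rw [Scheme.Hom.appLE_eq_app]
  · intro g a
    change ((ρ' g).hom.appLE _ _ _).hom ((pX.appLE (p ⁻¹ᵁ V) (p' ⁻¹ᵁ V') e2).hom a) =
      (pX.appLE (p ⁻¹ᵁ V) (p' ⁻¹ᵁ V') e2).hom (((ρ g).hom.appLE _ _ _).hom a)
    have h1 := Scheme.Hom.appLE_comp_appLE (ρ' g).hom pX (p ⁻¹ᵁ V) (p' ⁻¹ᵁ V') (p' ⁻¹ᵁ V') e2
      (SGA1.preimage_le_of_inv ρ' p' hρ₂ g V')
    have h2 := Scheme.Hom.appLE_comp_appLE pX (ρ g).hom (p ⁻¹ᵁ V) (p ⁻¹ᵁ V) (p' ⁻¹ᵁ V')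
      (SGA1.preimage_le_of_inv ρ p hp.inv g V) e2
    have h3 := h1.trans ((appLE_congr' _ _ (hρ₁ g) _ _ _ _).trans h2.symm)
    exact congrArg (fun φ => φ.hom a) h3
  · intro g b'
    change ((ρ' g).hom.appLE _ _ _).hom ((p'.appLE V' (p' ⁻¹ᵁ V') le_rfl).hom b') =
      (p'.appLE V' (p' ⁻¹ᵁ V') le_rfl).hom b'
    rw [Scheme.Hom.appLE_eq_app]
    exact congrArg (fun φ => φ.hom b') (app_comp_appLE_of_inv (ρ' g).hom p' (hρ₂ g) V' _)

/-- **quotients by finite groups commute with flat base change** -/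
theorem isQuot_baseChange (ρ : G →* Aut X) (p : X ⟶ Y) (hp : SGA1.IsQuot ρ p) (qY : Y' ⟶ Y)
    [Flat qY] (pX : X' ⟶ X) (p' : X' ⟶ Y') (hX : IsPullback pX p' p qY)
    (ρ' : G →* Aut X') (hρ₁ : ∀ g : G, (ρ' g).hom ≫ pX = pX ≫ (ρ g).hom)
    (hρ₂ : ∀ g : G, (ρ' g).hom ≫ p' = p') : SGA1.IsQuot ρ' p' := by
  haveI := hp.affine
  haveI : IsAffineHom p' := MorphismProperty.of_isPullback hX inferInstance
  refine isQuot_of_basis ρ' p' hρ₂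
    {V' | IsAffineOpen V' ∧ ∃ V : Y.Opens, IsAffineOpen V ∧ V' ≤ qY ⁻¹ᵁ V} ?_ ?_ ?_
  · intro y' U' hy'
    obtain ⟨_, ⟨V, hV, rfl⟩, hyV, -⟩ :=
      Y.isBasis_affineOpens.exists_subset_of_mem_open (Set.mem_univ (qY y')) isOpen_univ
    obtain ⟨_, ⟨V', hV', rfl⟩, hyV', hle⟩ :=
      Y'.isBasis_affineOpens.exists_subset_of_mem_open
        (show y' ∈ U' ⊓ qY ⁻¹ᵁ V from ⟨hy', hyV⟩) (U' ⊓ qY ⁻¹ᵁ V).2
    exact ⟨V', ⟨hV', V, hV, fun z hz => (hle hz).2⟩, hyV', fun z hz => (hle hz).1⟩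
  · rintro V' ⟨hV', V, hV, e⟩
    exact (local_quot ρ p hp qY pX p' hX ρ' hρ₁ hρ₂ hV hV' e).1
  · rintro V' ⟨hV', V, hV, e⟩
    exact (local_quot ρ p hp qY pX p' hX ρ' hρ₁ hρ₂ hV hV' e).2

end BaseChange

end Groth.Agent.Lead.QuotBC
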