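import Mathlib
import Groth.Prelude.Def_FlatFun

set_option autoImplicit false
universe u
open CategoryTheory CategoryTheory.Limits AlgebraicGeometry Opposite

set_option backward.isDefEq.respectTransparency.types false

namespace Groth.Agent.Lead.LimPres

/-- a stable condition that descends along cofiltered limits of affines gives a limit preserving
sub-presheaf of the final presheaf -/
theorem isLimitPreserving_genPSp {S : Scheme.{u}} (P : Over S → Prop)
    (hstab : ∀ ⦃T T₀ : Over S⦄ (_ : T ⟶ T₀), P T₀ → P T)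
    (hlim : ∀ ⦃I : Type u⦄ [SmallCategory I] [IsCofiltered I] (D : I ⥤ Over S) (c : Cone D),
      IsLimit ((Over.forget S).mapCone c) → (∀ i, IsAffine (D.obj i).left) → IsAffine c.pt.left →
      P c.pt → ∃ i, P (D.obj i)) :
    AlgSp.IsLimitPreserving (FlatFun.genPSp S P) := by
  intro I _ _ D c hc hD hT
  refine ⟨Types.FilteredColimit.isColimitOf _ _ ?_ ?_⟩
  · intro x
    have hx : P c.pt := (FlatFun.genPSp_nonempty_iff_of_stable P hstab c.pt).1 ⟨x⟩
    obtain ⟨i, hi⟩ := hlim D c hc hD hT hx
    obtain ⟨y⟩ := FlatFun.genPSp_nonempty_of P hi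
    exact ⟨op i, y, (FlatFun.genPSp_subsingleton S P (op c.pt)).elim _ _⟩
  · intro i j xi xj _
    exact ⟨IsFiltered.max i j, IsFiltered.leftToMax i j, IsFiltered.rightToMax i j,
      (FlatFun.genPSp_subsingleton S P (op (D.obj (IsFiltered.max i j).unop))).elim _ _⟩

/-- the base change square of a transition map -/
theorem isPullback_pullback_map {X S : Scheme.{u}} (f : X ⟶ S) {T T' : Over S} (g : T ⟶ T') :
    IsPullback ((Over.pullback f).map g).left (pullback.fst T.hom f) (pullback.fst T'.hom f)
      g.left := by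
  refine IsPullback.of_right (h₁₂ := pullback.snd T'.hom f) (v₁₃ := f) (h₂₂ := T'.hom) ?_ ?_
    (IsPullback.of_hasPullback T'.hom f).flip
  · have h1 : ((Over.pullback f).map g).left ≫ pullback.snd T'.hom f = pullback.snd T.hom f :=
      pullback.lift_snd _ _ _
    rw [h1, Over.w g]
    exact (IsPullback.of_hasPullback T.hom f).flip
  · exact pullback.lift_fst _ _ _

theorem exists_of_open {X S : Scheme.{u}} (f : X ⟶ S) [QuasiCompact f] (U : X.Opens)
    {I : Type u} [SmallCategory I] [IsCofiltered I] (D : I ⥤ Over S) (c : Cone D)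
    (hc : IsLimit ((Over.forget S).mapCone c)) (hD : ∀ i, IsAffine (D.obj i).left)
    (h : f.base ⁻¹' Set.range c.pt.hom.base ⊆ U) :
    ∃ i, f.base ⁻¹' Set.range (D.obj i).hom.base ⊆ U := by
  haveI : IsConnected I := IsCofiltered.isConnected I
  have hc0 : IsLimit c := isLimitOfReflects (Over.forget S) hc
  let G : Over S ⥤ Scheme.{u} := Over.pullback f ⋙ Over.forget X
  haveI : PreservesLimitsOfSize.{u, u} (Over.pullback f) :=
    (Over.mapPullbackAdj f).rightAdjoint_preservesLimits
  have hc' : IsLimit (G.mapCone c) := isLimitOfPreserves G hc0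
  haveI : ∀ {i j : I} (g : i ⟶ j), IsAffineHom ((D ⋙ G).map g) := by
    intro i j g
    haveI : IsAffine (D.obj i).left := hD i
    haveI : IsAffine (D.obj j).left := hD j
    exact MorphismProperty.of_isPullback (P := @IsAffineHom)
      (isPullback_pullback_map f (D.map g)).flip inferInstance
  haveI : ∀ i, CompactSpace ((D ⋙ G).obj i) := by
    intro i
    haveI : IsAffine (D.obj i).left := hD i
    change CompactSpace ↥(pullback (D.obj i).hom f)
    infer_instance
  obtain ⟨i0⟩ : Nonempty I := IsCofiltered.nonempty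
  have hsnd : ∀ {T T' : Over S} (g : T ⟶ T'),
      ((Over.pullback f).map g).left ≫ pullback.snd T'.hom f = pullback.snd T.hom f := by
    intro T T' g
    exact pullback.lift_snd _ _ _
  have key : ∀ T : Over S, f.base ⁻¹' Set.range T.hom.base ⊆ U ↔
      (pullback.snd T.hom f) ⁻¹ᵁ U = ⊤ := by
    intro T
    rw [← Scheme.Pullback.range_snd T.hom f]
    constructor
    · intro h1
      ext x
      simp only [TopologicalSpace.Opens.map_coe, Set.mem_preimage, SetLike.mem_coe,
        TopologicalSpace.Opens.coe_top, Set.mem_univ, iff_true]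
      exact h1 ⟨x, rfl⟩
    · rintro h1 _ ⟨x, rfl⟩
      have : x ∈ (pullback.snd T.hom f) ⁻¹ᵁ U := by rw [h1]; trivial
      exact this
  obtain ⟨j, fji, hj⟩ := exists_map_eq_top (D ⋙ G) (G.mapCone c) hc'
    (i := i0) ((pullback.snd (D.obj i0).hom f) ⁻¹ᵁ U) (by
      rw [← Scheme.Hom.comp_preimage]
      have : (G.mapCone c).π.app i0 ≫ pullback.snd (D.obj i0).hom f = pullback.snd c.pt.hom f :=
        hsnd (c.π.app i0)
      rw [this]
      exact (key c.pt).1 h)
  refine ⟨j, (key _).2 ?_⟩
  rw [← Scheme.Hom.comp_preimage] at hj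
  have : (D ⋙ G).map fji ≫ pullback.snd (D.obj i0).hom f = pullback.snd (D.obj j).hom f :=
    hsnd (D.map fji)
  rw [this] at hj
  exact hj

/-- conditions "the base change of `X` to `T` lands in the open `U`" are limit preserving -/
theorem isLimitPreserving_of_open {X S : Scheme.{u}} (f : X ⟶ S) [QuasiCompact f] (U : X.Opens)
    (P : Over S → Prop) (hP : ∀ T : Over S, P T ↔ f.base ⁻¹' Set.range T.hom.base ⊆ U) :
    AlgSp.IsLimitPreserving (FlatFun.genPSp S P) := by
  refine isLimitPreserving_genPSp P ?_ ?_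
  · intro T T₀ g h0
    rw [hP] at h0 ⊢
    refine subset_trans (Set.preimage_mono ?_) h0
    rintro _ ⟨t, rfl⟩
    refine ⟨g.left.base t, ?_⟩
    rw [← Scheme.Hom.comp_apply, Over.w g]
  · intro I _ _ D c hc hD _ h0
    rw [hP] at h0
    obtain ⟨i, hi⟩ := exists_of_open f U D c hc hD h0
    exact ⟨i, (hP _).2 hi⟩

end Groth.Agent.Lead.LimPres
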