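import Mathlib
import Groth.Prelude.Def_GmPts
import Groth.Agent.Lib.Helper6.GaGm.GaGrp

/-!
# Homomorphisms `𝔾_a → 𝔾_m` over a reduced base are trivial (lead)
-/

set_option autoImplicit false
universe u
open CategoryTheory CategoryTheory.Limits MonoidalCategory CartesianMonoidalCategory MonObj
  AlgebraicGeometry Opposite
open Groth.Agent.Lib.Helper6.GaGm

namespace Groth.Agent.Lead.GaGmTriv

variable {S : Scheme.{u}} {R : Type u} [CommRing R] (j : Spec (CommRingCat.of R) ⟶ S)

/-- affine test object over `S` -/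
noncomputable def tb {B : Type u} [CommRing B] (β : R →+* B) : Over S :=
  Over.mk (Spec.map (CommRingCat.ofHom β) ≫ j)

/-- morphism of affine test objects -/
noncomputable def tmor {B B' : Type u} [CommRing B] [CommRing B'] (β : R →+* B) (β' : R →+* B')
    (f : B →+* B') (hf : f.comp β = β') : tb j β' ⟶ tb j β :=
  Over.homMk (Spec.map (CommRingCat.ofHom f)) (by
    show Spec.map _ ≫ Spec.map _ ≫ j = Spec.map _ ≫ j
    rw [← Category.assoc, ← Spec.map_comp, ← CommRingCat.ofHom_comp, hf])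

variable {B B' : Type u} [CommRing B] [CommRing B']

/-- the function of a `𝔾_a`-point of an affine test object, as an element of the ring -/
noncomputable def fnB (β : R →+* B) (x : tb j β ⟶ Red.Ga S) : B :=
  (Scheme.ΓSpecIso (CommRingCat.of B)).hom.hom (Red.gaFn x)

/-- the function of a `𝔾_m`-point of an affine test object, as an element of the ring -/
noncomputable def unB (β : R →+* B) (t : tb j β ⟶ Red.Gm S) : B :=
  (Scheme.ΓSpecIso (CommRingCat.of B)).hom.hom (Red.gmFn t)

theorem iso_hom_inv (b : Γ(Spec (CommRingCat.of B), ⊤)) :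
    (Scheme.ΓSpecIso (CommRingCat.of B)).inv.hom
      ((Scheme.ΓSpecIso (CommRingCat.of B)).hom.hom b) = b := by
  have := (Scheme.ΓSpecIso (CommRingCat.of B)).hom_inv_id
  exact congrArg (fun k => k.hom b) this

theorem iso_inv_hom (b : B) :
    (Scheme.ΓSpecIso (CommRingCat.of B)).hom.hom
      ((Scheme.ΓSpecIso (CommRingCat.of B)).inv.hom b) = b := by
  have := (Scheme.ΓSpecIso (CommRingCat.of B)).inv_hom_id
  exact congrArg (fun k => k.hom b) this

theorem iso_hom_injective :
    Function.Injective (Scheme.ΓSpecIso (CommRingCat.of B)).hom.hom := by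
  intro a b h
  rw [← iso_hom_inv a, ← iso_hom_inv b, h]

theorem nat_apply (f : B →+* B') (b : Γ(Spec (CommRingCat.of B), ⊤)) :
    (Scheme.ΓSpecIso (CommRingCat.of B')).hom.hom
      ((Spec.map (CommRingCat.ofHom f)).appTop.hom b) =
      f ((Scheme.ΓSpecIso (CommRingCat.of B)).hom.hom b) := by
  have := Scheme.ΓSpecIso_naturality (CommRingCat.ofHom f)
  exact congrArg (fun k => k.hom b) this

theorem fnB_injective (β : R →+* B) : Function.Injective (fnB j β) := by
  intro x y h
  exact gaFn_injective (iso_hom_injective h)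

theorem exists_fnB_eq (β : R →+* B) (b : B) : ∃ x : tb j β ⟶ Red.Ga S, fnB j β x = b := by
  obtain ⟨x, hx⟩ := exists_gaFn_eq (S := S) (T := tb j β)
    ((Scheme.ΓSpecIso (CommRingCat.of B)).inv.hom b)
  refine ⟨x, ?_⟩
  unfold fnB
  rw [hx]
  exact iso_inv_hom b

theorem fnB_one (β : R →+* B) : fnB j β 1 = 0 := by
  have h : (Red.gaFn (1 : tb j β ⟶ Red.Ga S) : Γ(Spec (CommRingCat.of B), ⊤)) = 0 := gaFn_one
  exact (congrArg (Scheme.ΓSpecIso (CommRingCat.of B)).hom.hom h).trans (map_zero _)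

theorem fnB_tmor (β : R →+* B) (β' : R →+* B') (f : B →+* B') (hf : f.comp β = β')
    (x : tb j β ⟶ Red.Ga S) : fnB j β' (tmor j β β' f hf ≫ x) = f (fnB j β x) := by
  unfold fnB
  rw [gaFn_comp]
  exact nat_apply f _

theorem gmFn_comp {T T' : Over S} (g : T' ⟶ T) (t : T ⟶ Red.Gm S) :
    Red.gmFn (g ≫ t) = g.left.appTop.hom (Red.gmFn t) := by
  have := GmPts.ringHomOfPt_comp g t
  exact congrArg (fun k => k (GmPts.tPow 1)) this

theorem unB_tmor (β : R →+* B) (β' : R →+* B') (f : B →+* B') (hf : f.comp β = β')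
    (t : tb j β ⟶ Red.Gm S) : unB j β' (tmor j β β' f hf ≫ t) = f (unB j β t) := by
  unfold unB
  rw [gmFn_comp]
  exact nat_apply f _

theorem gmFn_injective {T : Over S} : Function.Injective (Red.gmFn (S := S) (X := T)) := by
  intro t t' h
  apply (GmPts.equiv T).injective
  apply Units.ext
  show ((GmPts.unitOfPt t : (Γ(T.left, ⊤))ˣ) : Γ(T.left, ⊤)) = (GmPts.unitOfPt t' : (Γ(T.left, ⊤))ˣ)
  rw [GmPts.val_unitOfPt, GmPts.val_unitOfPt, h]

theorem gmFn_one {T : Over S} : Red.gmFn (1 : T ⟶ Red.Gm S) = 1 := by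
  have h : GmPts.equiv T 1 = 1 := map_one _
  have := congrArg (fun v : (Γ(T.left, ⊤))ˣ => (v : Γ(T.left, ⊤))) h
  exact this

theorem isUnit_gmFn {T : Over S} (t : T ⟶ Red.Gm S) : IsUnit (Red.gmFn t) := by
  rw [← GmPts.val_unitOfPt]
  exact (GmPts.unitOfPt t).isUnit

theorem unB_injective (β : R →+* B) : Function.Injective (unB j β) := by
  intro x y h
  exact gmFn_injective (iso_hom_injective h)

theorem unB_one (β : R →+* B) : unB j β 1 = 1 := by
  have h : (Red.gmFn (1 : tb j β ⟶ Red.Gm S) : Γ(Spec (CommRingCat.of B), ⊤)) = 1 := gmFn_one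
  exact (congrArg (Scheme.ΓSpecIso (CommRingCat.of B)).hom.hom h).trans (map_one _)

theorem isUnit_unB (β : R →+* B) (t : tb j β ⟶ Red.Gm S) : IsUnit (unB j β t) :=
  (isUnit_gmFn t).map _

/-- the key pointwise statement -/
theorem key [IsReduced R] (φ : Red.Ga S ⟶ Red.Gm S) [IsMonHom φ] (β : R →+* B)
    (x : tb j β ⟶ Red.Ga S) : x ≫ φ = 1 := by
  let βC : R →+* Polynomial R := Polynomial.C
  obtain ⟨xX, hxX⟩ := exists_fnB_eq j βC (Polynomial.X : Polynomial R)
  -- the universal point goes to 1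
  have huniv : xX ≫ φ = 1 := by
    apply unB_injective j βC
    rw [unB_one]
    set v : Polynomial R := unB j βC (xX ≫ φ) with hv
    have hvu : IsUnit v := isUnit_unB j βC _
    have hv0 : v.coeff 0 = 1 := by
      have hc : (Polynomial.constantCoeff : Polynomial R →+* R).comp βC = RingHom.id R := by
        ext r
        simp [βC]
      let g₀ := tmor j βC (RingHom.id R) Polynomial.constantCoeff hc
      have h1 : g₀ ≫ xX = 1 := by
        apply fnB_injective j (RingHom.id R)
        rw [fnB_tmor, hxX, fnB_one]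
        simp
      have h2 : unB j (RingHom.id R) (g₀ ≫ xX ≫ φ) = Polynomial.constantCoeff v :=
        unB_tmor j βC (RingHom.id R) Polynomial.constantCoeff hc (xX ≫ φ)
      have h3 : (1 : tb j (RingHom.id R) ⟶ Red.Ga S) ≫ φ = 1 := MonObj.one_comp φ
      rw [← Category.assoc, h1, h3, unB_one] at h2
      rw [← Polynomial.constantCoeff_apply]
      exact h2.symm
    obtain ⟨-, hnil⟩ := Polynomial.isUnit_iff_coeff_isUnit_isNilpotent.1 hvu
    ext n
    by_cases hn : n = 0
    · subst hn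
      rw [hv0, Polynomial.coeff_one_zero]
    · rw [(hnil n hn).eq_zero, Polynomial.coeff_one, if_neg hn]
  -- general point
  let e : Polynomial R →+* B := Polynomial.eval₂RingHom β (fnB j β x)
  have he : e.comp βC = β := by
    ext r
    simp [e, βC]
  let g := tmor j βC β e he
  have hx : g ≫ xX = x := by
    apply fnB_injective j β
    rw [fnB_tmor, hxX]
    simp [e]
  rw [← hx, Category.assoc, huniv, MonObj.comp_one]

theorem hom_ext_of_local {Y Z : Scheme.{u}} (a b : Y ⟶ Z)
    (h : ∀ y : Y, ∃ V : Y.Opens, y ∈ V ∧ V.ι ≫ a = V.ι ≫ b) : a = b := by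
  choose V hyV hV using h
  have hU : TopologicalSpace.IsOpenCover V := by
    apply eq_top_iff.2
    intro y _
    exact TopologicalSpace.Opens.mem_iSup.2 ⟨y, hyV y⟩
  apply (Y.openCoverOfIsOpenCover V hU).hom_ext
  intro y
  exact hV y

/-- a homomorphism `𝔾_a → 𝔾_m` over a reduced scheme is trivial -/
theorem main (S : Scheme.{u}) [IsReduced S] (φ : Red.Ga S ⟶ Red.Gm S) [IsMonHom φ] : φ = 1 := by
  apply Over.OverMorphism.ext
  apply hom_ext_of_local
  intro y
  obtain ⟨_, ⟨U, hU, rfl⟩, hyU, -⟩ := S.isBasis_affineOpens.exists_subset_of_mem_open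
    (Set.mem_univ ((Red.Ga S).hom y)) isOpen_univ
  let O : (Red.Ga S).left.Opens := (Red.Ga S).hom ⁻¹ᵁ U
  have hyO : y ∈ O := hyU
  obtain ⟨_, ⟨V, hV, rfl⟩, hyV, hVO⟩ :=
    (Red.Ga S).left.isBasis_affineOpens.exists_subset_of_mem_open hyO O.isOpen
  refine ⟨V, hyV, ?_⟩
  have hVU : V ≤ (Red.Ga S).hom ⁻¹ᵁ U := hVO
  let β : Γ(S, U) →+* Γ((Red.Ga S).left, V) := ((Red.Ga S).hom.appLE U V hVU).hom
  have hw : hV.fromSpec ≫ (Red.Ga S).hom = Spec.map (CommRingCat.ofHom β) ≫ hU.fromSpec :=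
    (IsAffineOpen.SpecMap_appLE_fromSpec (Red.Ga S).hom hU hV hVU).symm
  let x : tb hU.fromSpec β ⟶ Red.Ga S := Over.homMk hV.fromSpec hw
  have hx := key hU.fromSpec φ β x
  have hx' : x ≫ φ = x ≫ 1 := by rw [hx, MonObj.comp_one]
  have h1 : hV.fromSpec ≫ φ.left = hV.fromSpec ≫ (1 : Red.Ga S ⟶ Red.Gm S).left :=
    congrArg (fun k => k.left) hx'
  have h2 : hV.fromSpec = hV.isoSpec.inv ≫ Scheme.Opens.ι V := rfl
  rw [h2, Category.assoc, Category.assoc] at h1
  exact (cancel_epi hV.isoSpec.inv).1 h1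

end Groth.Agent.Lead.GaGmTriv
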