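import Mathlib
import Groth.Prelude
import Groth.Agent.Lib.Helper2.Sch.SmoothFieldRegular2

set_option autoImplicit false
set_option backward.isDefEq.respectTransparency.types false
set_option synthInstance.maxHeartbeats 400000
set_option linter.style.haveILetI false
set_option linter.unusedSectionVars false
universe u

open CategoryTheory CategoryTheory.Limits AlgebraicGeometry IsLocalRing Topology TopologicalSpace

namespace Groth.Agent.Lead.GenSmP

theorem nhds_or_compl_nhds_of_isConstructible {T : Type*} [TopologicalSpace T] (η : T)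
    (hη : ∀ U : Set T, IsOpen U → U.Nonempty → η ∈ U) {s : Set T} (hs : IsConstructible s) :
    s ∈ 𝓝 η ∨ sᶜ ∈ 𝓝 η := by
  induction hs using IsConstructible.empty_union_induction with
  | open_retrocompact U hUopen _ =>
    by_cases h : η ∈ U
    · exact Or.inl (hUopen.mem_nhds h)
    · right
      have : U = ∅ := by
        by_contra hne
        exact h (hη U hUopen (Set.nonempty_iff_ne_empty.mpr hne))
      rw [this, Set.compl_empty]
      exact Filter.univ_mem
  | union s _ t _ hs' ht' =>
    rcases hs' with h | h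
    · exact Or.inl (Filter.mem_of_superset h Set.subset_union_left)
    · rcases ht' with h' | h'
      · exact Or.inl (Filter.mem_of_superset h' Set.subset_union_right)
      · right
        rw [Set.compl_union]
        exact Filter.inter_mem h h'
  | compl s _ hs' =>
    rcases hs' with h | h
    · right
      rwa [compl_compl]
    · exact Or.inl h

theorem exists_open_disjoint_of_isLocallyConstructible {T : Type*} [TopologicalSpace T] (η : T)
    (hη : ∀ U : Set T, IsOpen U → U.Nonempty → η ∈ U) {E : Set T}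
    (hE : IsLocallyConstructible E) (hηE : η ∉ E) :
    ∃ U : Set T, IsOpen U ∧ η ∈ U ∧ ∀ t ∈ U, t ∉ E := by
  obtain ⟨U, hUn, hUo, hcons⟩ := hE η
  have hηU : η ∈ U := mem_of_mem_nhds hUn
  have hgen : ∀ V : Set ↥U, IsOpen V → V.Nonempty → (⟨η, hηU⟩ : ↥U) ∈ V := by
    intro V hV hne
    have h1 : IsOpen (Subtype.val '' V) := hUo.isOpenMap_subtype_val V hV
    have h2 := hη _ h1 (hne.image _)
    obtain ⟨a, ha, hae⟩ := h2
    have : a = ⟨η, hηU⟩ := Subtype.ext hae
    rw [← this]
    exact ha
  rcases nhds_or_compl_nhds_of_isConstructible (⟨η, hηU⟩ : ↥U) hgen hcons with h | h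
  · exact absurd (mem_of_mem_nhds h) hηE
  · obtain ⟨V, hVsub, hVo, hηV⟩ := mem_nhds_iff.mp h
    refine ⟨Subtype.val '' V, hUo.isOpenMap_subtype_val V hVo, ⟨_, hηV, rfl⟩, ?_⟩
    rintro _ ⟨a, ha, rfl⟩ haE
    exact hVsub ha haE

/-- closed subsets of locally Noetherian schemes are locally constructible -/
theorem isLocallyConstructible_of_isClosed {X : Scheme.{u}} [IsLocallyNoetherian X]
    (W : Set X) (hW : IsClosed W) : IsLocallyConstructible W := by
  intro x
  obtain ⟨_, ⟨O, hO : IsAffineOpen O, rfl⟩, hxO, -⟩ :=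
    X.isBasis_affineOpens.exists_subset_of_mem_open (Set.mem_univ x) isOpen_univ
  refine ⟨O, O.2.mem_nhds hxO, O.2, ?_⟩
  haveI : IsNoetherianRing Γ(X, O) := IsLocallyNoetherian.component_noetherian ⟨O, hO⟩
  haveI : NoetherianSpace ↥O := noetherianSpace_of_isAffineOpen O hO
  have hopen : ∀ A : Set ↥O, IsOpen A → IsConstructible A := by
    intro A hA
    have h1 : IsRetrocompact A := fun _ _ _ => NoetherianSpace.isCompact _
    exact h1.isConstructible hA
  have := hopen ((Subtype.val : ↥O → X) ⁻¹' W)ᶜ
    (hW.preimage continuous_subtype_val).isOpen_compl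
  exact this.of_compl

theorem perfectField_toField {K : Type*} [inst : Field K] [inst2 : PerfectField K] (h : IsField K) :
    @PerfectField K h.toField :=
  @PerfectField.mk K h.toField
    (fun {f} hf => @PerfectField.separable_of_irreducible K inst inst2 f hf)

theorem perfectField_stalk {Y : Scheme.{u}} [IsIntegral Y] [PerfectField Y.functionField]
    (y : Y) (e : y = genericPoint Y) (h : IsField (Y.presheaf.stalk y)) :
    @PerfectField _ h.toField := by
  subst e
  exact perfectField_toField (K := Y.functionField) h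

theorem mem_smoothLocus_of_regular_of_perfect {X Y : Scheme.{u}} [IsIntegral Y]
    (f : X ⟶ Y) [LocallyOfFinitePresentation f] [PerfectField Y.functionField]
    (x : X) (e : f x = genericPoint Y) (hreg : IsRegularLocalRing (X.presheaf.stalk x)) :
    x ∈ f.smoothLocus := by
  have := LocallyOfFiniteType.stalkMap f x
  rw [Scheme.Hom.mem_smoothLocus]
  algebraize [(f.stalkMap x).hom]
  have hfY : IsField (Y.presheaf.stalk (f x)) := by
    rw [e]; exact Field.toIsField Y.functionField
  let : Field (Y.presheaf.stalk (f x)) := hfY.toField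
  have : PerfectField (Y.presheaf.stalk (f x)) := perfectField_stalk (f x) e hfY
  haveI : Algebra.FiniteType ↥(X.presheaf.stalk x) (ResidueField ↥(X.presheaf.stalk x)) :=
    Algebra.FiniteType.of_surjective (Algebra.ofId ↥(X.presheaf.stalk x)
      (ResidueField ↥(X.presheaf.stalk x))) IsLocalRing.residue_surjective
  haveI : Algebra.EssFiniteType (Y.presheaf.stalk (f x))
      (ResidueField ↥(X.presheaf.stalk x)) :=
    Algebra.EssFiniteType.comp _ ↥(X.presheaf.stalk x) _
  haveI : Algebra.IsGeometricallyReduced (Y.presheaf.stalk (f x))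
      (ResidueField ↥(X.presheaf.stalk x)) :=
    (Groth.Agent.S2451.result (k := Y.presheaf.stalk (f x))
      (K := ResidueField ↥(X.presheaf.stalk x))).1 Algebra.FormallySmooth.of_perfectField
  exact Groth.Agent.Helper2.SmoothFieldRegular.formallySmooth_of_isRegularLocalRing_of_geomReduced
    hreg

theorem S7776_main (X Y : Scheme.{u}) [IsIntegral X] [IsIntegral Y]
    [IsLocallyNoetherian X] (hreg : ∀ x : X, IsRegularLocalRing (X.presheaf.stalk x))
    (f : X ⟶ Y) [IsDominant f] [LocallyOfFinitePresentation f] [QuasiCompact f]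
    [PerfectField Y.functionField] :
    ∃ V : Y.Opens, Dense (V : Set Y) ∧ Smooth (f ∣_ V) := by
  let Z : Set X := (f.smoothLocus : Set X)ᶜ
  have hZc : IsClosed Z := f.smoothLocus.2.isClosed_compl
  have hZ : IsLocallyConstructible Z := isLocallyConstructible_of_isClosed Z hZc
  have hE := f.isLocallyConstructible_image hZ
  have hη : genericPoint Y ∉ f '' Z := by
    rintro ⟨x, hx, hfx⟩
    exact hx (mem_smoothLocus_of_regular_of_perfect f x hfx (hreg x))
  have hgen : ∀ U : Set Y, IsOpen U → U.Nonempty → genericPoint Y ∈ U := by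
    intro U hU hne
    rw [(genericPoint_spec Y).mem_open_set_iff hU]
    simpa using hne
  obtain ⟨U, hUo, hηU, hUE⟩ :=
    exists_open_disjoint_of_isLocallyConstructible (genericPoint Y) hgen hE hη
  refine ⟨⟨U, hUo⟩, hUo.dense ⟨_, hηU⟩, ?_⟩
  have h1 : ((f ⁻¹ᵁ ⟨U, hUo⟩).ι ≫ f).smoothLocus = ⊤ := by
    rw [← Scheme.Hom.preimage_smoothLocus_eq, ← top_le_iff]
    rintro x -
    show (f ⁻¹ᵁ ⟨U, hUo⟩).ι x ∈ f.smoothLocus
    by_contra hx
    exact hUE (f ((f ⁻¹ᵁ ⟨U, hUo⟩).ι x)) x.2 ⟨_, hx, rfl⟩
  have h2 : Smooth ((f ⁻¹ᵁ ⟨U, hUo⟩).ι ≫ f) := Scheme.Hom.smoothLocus_eq_top_iff.mp h1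
  rw [← morphismRestrict_ι] at h2
  exact MorphismProperty.of_postcomp (W := @Smooth) (W' := @IsOpenImmersion)
    (f ∣_ ⟨U, hUo⟩) (Scheme.Opens.ι ⟨U, hUo⟩) inferInstance h2

end Groth.Agent.Lead.GenSmP
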