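import Mathlib
import Groth.Prelude
import Groth.Agent.Lib.Lead.GenSmP1

set_option autoImplicit false
set_option backward.isDefEq.respectTransparency.types false
set_option synthInstance.maxHeartbeats 400000
set_option linter.style.haveILetI false
set_option linter.unusedSectionVars false
universe u

open CategoryTheory CategoryTheory.Limits AlgebraicGeometry IsLocalRing Topology TopologicalSpace

namespace Groth.Agent.Lead.GenSmP

theorem charZero_functionField (k : Type u) [Field k] [CharZero k] {Y : Scheme.{u}}
    [IsIntegral Y] (qY : Y ⟶ Spec (CommRingCat.of k)) : CharZero Y.functionField := by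
  let φ : k →+* Y.functionField :=
    (Y.presheaf.germ ⊤ (genericPoint Y) trivial).hom.comp
      ((qY.appTop).hom.comp (Scheme.ΓSpecIso (CommRingCat.of k)).inv.hom)
  exact charZero_of_injective_ringHom φ.injective

theorem S10930_main (k : Type u) [Field k] [CharZero k]
    {X Y : Scheme.{u}} (qX : X ⟶ Spec (CommRingCat.of k)) (qY : Y ⟶ Spec (CommRingCat.of k))
    [LocallyOfFiniteType qX] [QuasiCompact qX] [Smooth qX]
    [LocallyOfFiniteType qY] [QuasiSeparated qY]
    [IsIntegral X] [IsIntegral Y] (f : X ⟶ Y) (hf : f ≫ qY = qX) :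
    ∃ V : Y.Opens, (V : Set ↥Y).Nonempty ∧ Smooth (f ∣_ V) := by
  haveI : IsLocallyNoetherian Y := LocallyOfFiniteType.isLocallyNoetherian qY
  haveI : IsLocallyNoetherian X := LocallyOfFiniteType.isLocallyNoetherian qX
  haveI : LocallyOfFiniteType (f ≫ qY) := by rw [hf]; infer_instance
  haveI : QuasiCompact (f ≫ qY) := by rw [hf]; infer_instance
  haveI : LocallyOfFiniteType f := locallyOfFiniteType_of_comp f qY
  haveI : QuasiCompact f := QuasiCompact.of_comp f qY
  haveI : LocallyOfFinitePresentation f := inferInstance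
  by_cases hd : DenseRange f
  · haveI : IsDominant f := ⟨hd⟩
    haveI : CharZero Y.functionField := charZero_functionField k qY
    haveI : PerfectField Y.functionField := inferInstance
    obtain ⟨V, hV, hsm⟩ := S7776_main X Y
      (fun x => Groth.Agent.Helper2.SmoothFieldRegular.S1535_main k qX x) f
    exact ⟨V, hV.nonempty, hsm⟩
  · let V : Y.Opens := ⟨(closure (Set.range f))ᶜ, isClosed_closure.isOpen_compl⟩
    have hne : (V : Set ↥Y).Nonempty := by
      by_contra hempty
      apply hd
      rw [DenseRange, dense_iff_closure_eq]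
      have h1 : (closure (Set.range f))ᶜ = ∅ := Set.not_nonempty_iff_eq_empty.mp hempty
      exact Set.compl_empty_iff.mp h1
    refine ⟨V, hne, ?_⟩
    haveI : IsEmpty ↥(f ⁻¹ᵁ V) := by
      refine ⟨fun x => ?_⟩
      have h1 : f x.1 ∈ (closure (Set.range f))ᶜ := x.2
      exact h1 (subset_closure ⟨x.1, rfl⟩)
    haveI : IsEmpty ↥((f ⁻¹ᵁ V : X.Opens) : Scheme.{u}) := this
    infer_instance

end Groth.Agent.Lead.GenSmP
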