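import Mathlib
import Groth.Agent.Lib.Lead.LimZ4
import Groth.Agent.S4793

/-!
# Isomorphisms in a cofiltered limit of schemes (lead)
-/

set_option autoImplicit false
universe u
open CategoryTheory CategoryTheory.Limits AlgebraicGeometry TopologicalSpace TensorProduct
set_option backward.isDefEq.respectTransparency.types false

namespace Groth.Agent.Lead.LimZ

open Groth.Agent.Lead.BCU Groth.Agent.Lead.CIU

section Iso

variable {I : Type u} [SmallCategory I] [IsCofiltered I] (D : I ⥤ Scheme.{u}) (c : Cone D)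
  (hc : IsLimit c) [∀ (i j : I) (f : i ⟶ j), IsAffineHom (D.map f)] (i₀ : I)
  {F₀ G₀ : (D.obj i₀).Modules} [F₀.IsQuasicoherent] [G₀.IsQuasicoherent]

/-- a functor preserving cokernels sends an epimorphism whose kernel it kills to an isomorphism -/
theorem isIso_map_of_kernel_map_eq_zero {C₁ C₂ : Type*} [Category C₁] [Category C₂] [Abelian C₁]
    [Abelian C₂] (P : C₁ ⥤ C₂) [P.PreservesZeroMorphisms]
    [PreservesFiniteColimits P] {M N : C₁} (f : M ⟶ N) [Epi f]
    (h0 : P.map (kernel.ι f) = 0) : IsIso (P.map f) := by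
  have h1 : IsColimit (CokernelCofork.ofπ f (kernel.condition f)) :=
    Abelian.epiIsCokernelOfKernel (Fork.ofι (kernel.ι f) (by rw [kernel.condition, comp_zero]))
      (kernelIsKernel f)
  have h2 := CokernelCofork.mapIsColimit _ h1 P
  exact CokernelCofork.IsColimit.isIso_π _ h2 h0

include hc in
theorem exists_isIso [CompactSpace (D.obj i₀)] (hF₀ : CohB1.IsFT F₀) (hG₀ : CohB1.IsFP G₀)
    (f₀ : F₀ ⟶ G₀) (h : IsIso ((Scheme.Modules.pullback (c.π.app i₀)).map f₀)) :
    ∃ (j : I) (φ : j ⟶ i₀), IsIso ((Scheme.Modules.pullback (D.map φ)).map f₀) := by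
  have hG₀ft : CohB1.IsFT G₀ := by
    haveI : SheafOfModules.IsFinitePresentation (R := (D.obj i₀).ringCatSheaf) G₀ := hG₀
    exact (inferInstance : SheafOfModules.IsFiniteType (R := (D.obj i₀).ringCatSheaf) G₀)
  haveI : Coh.IsQCoh F₀ := ‹F₀.IsQuasicoherent›
  haveI : Coh.IsQCoh G₀ := ‹G₀.IsQuasicoherent›
  obtain ⟨j, φ, hepi⟩ := (Groth.Agent.S4793.result D c hc i₀ hG₀ft f₀).1 inferInstance
  haveI := hepi
  haveI : CompactSpace (D.obj j) := QuasiCompact.compactSpace_of_compactSpace (D.map φ)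
  haveI : ((Scheme.Modules.pullback (D.map φ)).obj F₀).IsQuasicoherent :=
    Groth.Agent.Lead.PB.isQuasicoherent_pullback _ _
  haveI : ((Scheme.Modules.pullback (D.map φ)).obj G₀).IsQuasicoherent :=
    Groth.Agent.Lead.PB.isQuasicoherent_pullback _ _
  have hFj : CohB1.IsFT ((Scheme.Modules.pullback (D.map φ)).obj F₀) :=
    Groth.Agent.Lead.PB.isFT_pullback _ _ hF₀
  have hGj : CohB1.IsFP ((Scheme.Modules.pullback (D.map φ)).obj G₀) :=
    isFP_pullback _ _ hG₀
  set fj := (Scheme.Modules.pullback (D.map φ)).map f₀ with hfj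
  haveI : (kernel fj).IsQuasicoherent := Groth.Agent.Helper1.QcAbel.isQuasicoherent_kernel fj
  have hK : CohB1.IsFT (kernel fj) := isFT_kernel_of_epi hFj hGj fj
  -- the pullback of the kernel inclusion to the limit vanishes
  haveI : IsIso ((Scheme.Modules.pullback (c.π.app j)).map fj) :=
    (isIso_pullback_comp_iff (c.π.app j) (D.map φ) (c.π.app i₀) (c.w φ) f₀).2 h
  have h0 : (Scheme.Modules.pullback (c.π.app j)).map (kernel.ι fj) = 0 := by
    rw [← cancel_mono ((Scheme.Modules.pullback (c.π.app j)).map fj), ← Functor.map_comp,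
      kernel.condition, Functor.map_zero, zero_comp]
  obtain ⟨k, ψ, hk⟩ := exists_pullback_map_eq_zero D c hc j (kernel.ι fj) hK h0
  refine ⟨k, ψ ≫ φ, ?_⟩
  haveI : (Scheme.Modules.pullback (D.map ψ)).IsLeftAdjoint :=
    (Scheme.Modules.pullbackPushforwardAdjunction (D.map ψ)).isLeftAdjoint
  have h1 : IsIso ((Scheme.Modules.pullback (D.map ψ)).map fj) :=
    isIso_map_of_kernel_map_eq_zero _ fj hk
  exact (isIso_pullback_comp_iff (D.map ψ) (D.map φ) (D.map (ψ ≫ φ)) (D.map_comp ψ φ).symm f₀).1 h1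

end Iso

end Groth.Agent.Lead.LimZ
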