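import Mathlib
import Groth.Prelude.Def_Red2

/-!
# Actions of diagonalisable groups trivial modulo a nilpotent ideal are trivial (lead)
-/

set_option autoImplicit false
universe u
open CategoryTheory CategoryTheory.Limits AlgebraicGeometry TopologicalSpace Opposite

namespace Groth.Agent.Lead.DiagAct

section Alg

/-- an idempotent linear endomorphism with values in `I • ⊤`, `I` nilpotent, vanishes -/
theorem idem_eq_zero {R A : Type*} [CommRing R] [AddCommGroup A] [Module R A] (I : Ideal R)
    (hI : IsNilpotent I) (L : A →ₗ[R] A) (hL : ∀ a, L (L a) = L a)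
    (h : ∀ a, L a ∈ I • (⊤ : Submodule R A)) : L = 0 := by
  have key : ∀ n : ℕ, ∀ a, L a ∈ (I ^ n) • (⊤ : Submodule R A) := by
    intro n
    induction n with
    | zero =>
      intro a
      rw [pow_zero, Ideal.one_eq_top, Submodule.top_smul]
      exact Submodule.mem_top
    | succ n ih =>
      intro a
      rw [← hL a]
      have h1 := ih a
      refine Submodule.smul_induction_on h1 ?_ ?_
      · intro r hr b _
        rw [map_smul, pow_succ, Submodule.mul_smul]
        exact Submodule.smul_mem_smul hr (h b)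
      · intro x y hx hy
        rw [map_add]
        exact Submodule.add_mem _ hx hy
  obtain ⟨n, hn⟩ := hI
  ext a
  have := key n a
  rw [hn, Ideal.zero_eq_bot, Submodule.bot_smul, Submodule.mem_bot] at this
  simpa using this

end Alg

section Coact

variable {R A : Type u} [CommRing R] [CommRing A] [Algebra R A] {G : Type} [CommGroup G]

/-- the coefficient of the coaction as a linear endomorphism -/
noncomputable def coeffL (ρ : A →ₐ[R] MonoidAlgebra A G) (m : G) : A →ₗ[R] A :=
  (Finsupp.lapply m).comp ((MonoidAlgebra.coeffLinearEquiv R).toLinearMap.comp ρ.toLinearMap)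

theorem coeffL_apply (ρ : A →ₐ[R] MonoidAlgebra A G) (m : G) (a : A) :
    coeffL ρ m a = (ρ a).coeff m := rfl

theorem coaction_trivial (I : Ideal R) (hI : IsNilpotent I) (ρ : A →ₐ[R] MonoidAlgebra A G)
    (hsum : ∀ a, ((ρ a).coeff.sum fun _ c => c) = a)
    (hidem : ∀ a m, (ρ ((ρ a).coeff m)).coeff m = (ρ a).coeff m)
    (htriv : ∀ a m, m ≠ 1 → (ρ a).coeff m ∈ I.map (algebraMap R A)) :
    ∀ a, ρ a = MonoidAlgebra.single 1 a := by
  have h0 : ∀ m, m ≠ 1 → coeffL ρ m = 0 := by
    intro m hm
    apply idem_eq_zero I hI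
    · intro a
      exact hidem a m
    · intro a
      rw [Ideal.smul_top_eq_map]
      exact htriv a m hm
  intro a
  have hsupp : ∀ m, m ≠ 1 → (ρ a).coeff m = 0 := by
    intro m hm
    have := congrArg (fun L => L a) (h0 m hm)
    exact this
  have h1 : (ρ a).coeff = Finsupp.single 1 ((ρ a).coeff 1) := by
    classical
    ext m
    by_cases hm : m = 1
    · subst hm; simp
    · rw [hsupp m hm, Finsupp.single_apply, if_neg (Ne.symm hm)]
  have h2 : (ρ a).coeff 1 = a := by
    have := hsum a
    rw [h1, Finsupp.sum_single_index rfl] at this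
    rw [h1]
    simpa using this
  apply MonoidAlgebra.coeff_injective
  rw [h1, h2]
  rfl

end Coact

section Pts

open MonObj CartesianMonoidalCategory

variable (R : Type u) [CommRing R] (M : Type) [AddCommGroup M]

/-- affine test objects -/
noncomputable abbrev tobj (B : Type u) [CommRing B] [Algebra R B] :
    Over (Spec (CommRingCat.of R)) :=
  (Spec (CommRingCat.of B)).asOver (Spec (CommRingCat.of R))

variable {R}

/-- morphisms of affine test objects -/
noncomputable def tmor {B B' : Type u} [CommRing B] [CommRing B'] [Algebra R B] [Algebra R B']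
    (θ : B →ₐ[R] B') : tobj R B' ⟶ tobj R B :=
  (Spec.map (CommRingCat.ofHom θ.toRingHom)).asOver (Spec (CommRingCat.of R))

theorem tmor_left {B B' : Type u} [CommRing B] [CommRing B'] [Algebra R B] [Algebra R B']
    (θ : B →ₐ[R] B') : (tmor θ).left = Spec.map (CommRingCat.ofHom θ.toRingHom) := rfl

variable {M}

/-- points of the diagonalisable group from characters -/
noncomputable def gpt {B : Type u} [CommRing B] [Algebra R B] (χ : Multiplicative M →* B) :
    tobj R B ⟶ Red.diag R M :=
  Spec.mapMulEquiv (WithConv.toConv (MonoidAlgebra.lift R B (Multiplicative M) χ))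

theorem gpt_left {B : Type u} [CommRing B] [Algebra R B] (χ : Multiplicative M →* B) :
    (gpt (R := R) χ).left = Spec.map (CommRingCat.ofHom
      (MonoidAlgebra.lift R B (Multiplicative M) χ).toRingHom) := rfl

theorem gpt_mul {B : Type u} [CommRing B] [Algebra R B] (χ χ' : Multiplicative M →* B) :
    gpt (R := R) (χ * χ') = gpt χ * gpt χ' := by
  unfold gpt
  rw [← map_mul]
  congr 1
  apply WithConv.ofConv_injective
  refine MonoidAlgebra.algHom_ext (fun m => ?_) (Subsingleton.elim _ _)
  have := AlgHom.convMul_apply (WithConv.toConv (MonoidAlgebra.lift R B (Multiplicative M) χ))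
    (WithConv.toConv (MonoidAlgebra.lift R B (Multiplicative M) χ')) (MonoidAlgebra.single m (1 : R))
  refine Eq.trans ?_ this.symm
  rw [MonoidAlgebra.comul_single]
  simp

theorem gpt_one {B : Type u} [CommRing B] [Algebra R B] :
    gpt (R := R) (1 : Multiplicative M →* B) = 1 := by
  unfold gpt
  rw [← map_one Spec.mapMulEquiv]
  congr 1
  apply WithConv.ofConv_injective
  refine MonoidAlgebra.algHom_ext (fun m => ?_) (Subsingleton.elim _ _)
  simp [AlgHom.convOne_def]

theorem tmor_gpt {B B' : Type u} [CommRing B] [CommRing B'] [Algebra R B] [Algebra R B']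
    (θ : B →ₐ[R] B') (χ : Multiplicative M →* B) :
    tmor θ ≫ gpt χ = gpt (R := R) ((θ : B →* B').comp χ) := by
  apply Over.OverMorphism.ext
  show Spec.map (CommRingCat.ofHom θ.toRingHom) ≫ Spec.map (CommRingCat.ofHom
      (MonoidAlgebra.lift R B (Multiplicative M) χ).toRingHom) = Spec.map (CommRingCat.ofHom
      (MonoidAlgebra.lift R B' (Multiplicative M) ((θ : B →* B').comp χ)).toRingHom)
  rw [← Spec.map_comp, ← CommRingCat.ofHom_comp]
  congr 2
  have : θ.comp (MonoidAlgebra.lift R B (Multiplicative M) χ) =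
      MonoidAlgebra.lift R B' (Multiplicative M) ((θ : B →* B').comp χ) := by
    refine MonoidAlgebra.algHom_ext (fun m => ?_) (Subsingleton.elim _ _)
    simp
  rw [← this]
  rfl

theorem exists_gpt {B : Type u} [CommRing B] [Algebra R B] (g : tobj R B ⟶ Red.diag R M) :
    ∃ χ : Multiplicative M →* B, g = gpt χ := by
  refine ⟨(MonoidAlgebra.lift R B (Multiplicative M)).symm (Spec.mapMulEquiv.symm g).ofConv, ?_⟩
  unfold gpt
  rw [Equiv.apply_symm_apply, WithConv.toConv_ofConv, MulEquiv.apply_symm_apply]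

end Pts

section XPts

variable {R : Type u} [CommRing R] (X : Over (Spec (CommRingCat.of R)))
  {A : Type u} [CommRing A] [Algebra R A] (j : Spec (CommRingCat.of A) ⟶ X.left)
  (hj : j ≫ X.hom = Spec.map (CommRingCat.ofHom (algebraMap R A)))

/-- points of `X` in the affine chart `j` -/
noncomputable def xpt {B : Type u} [CommRing B] [Algebra R B] (ξ : A →ₐ[R] B) : tobj R B ⟶ X :=
  Over.homMk (Spec.map (CommRingCat.ofHom ξ.toRingHom) ≫ j) (by
    show (Spec.map _ ≫ j) ≫ X.hom = Spec.map (CommRingCat.ofHom (algebraMap R B))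
    rw [Category.assoc, hj, ← Spec.map_comp, ← CommRingCat.ofHom_comp]
    congr 2
    exact ξ.comp_algebraMap)

theorem xpt_left {B : Type u} [CommRing B] [Algebra R B] (ξ : A →ₐ[R] B) :
    (xpt X j hj ξ).left = Spec.map (CommRingCat.ofHom ξ.toRingHom) ≫ j := rfl

theorem xpt_injective [Mono j] {B : Type u} [CommRing B] [Algebra R B] (ξ ξ' : A →ₐ[R] B)
    (h : xpt X j hj ξ = xpt X j hj ξ') : ξ = ξ' := by
  have h1 : (Spec.map (CommRingCat.ofHom ξ.toRingHom) ≫ j :
      Spec (CommRingCat.of B) ⟶ X.left) = Spec.map (CommRingCat.ofHom ξ'.toRingHom) ≫ j :=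
    congrArg (fun φ => φ.left) h
  rw [cancel_mono] at h1
  have h2 := Spec.map_injective h1
  apply AlgHom.ext
  intro a
  exact congrArg (fun k => k.hom a) h2

theorem tmor_xpt {B B' : Type u} [CommRing B] [CommRing B'] [Algebra R B] [Algebra R B']
    (θ : B →ₐ[R] B') (ξ : A →ₐ[R] B) : tmor θ ≫ xpt X j hj ξ = xpt X j hj (θ.comp ξ) := by
  apply Over.OverMorphism.ext
  show Spec.map (CommRingCat.ofHom θ.toRingHom) ≫ Spec.map (CommRingCat.ofHom ξ.toRingHom) ≫ j =
    Spec.map (CommRingCat.ofHom (θ.comp ξ).toRingHom) ≫ j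
  rw [← Category.assoc, ← Spec.map_comp, ← CommRingCat.ofHom_comp]
  rfl

theorem exists_xpt [IsOpenImmersion j] {B : Type u} [CommRing B] [Algebra R B]
    (x : tobj R B ⟶ X) (hx : Set.range x.left.base ⊆ Set.range j.base) :
    ∃ ξ : A →ₐ[R] B, x = xpt X j hj ξ := by
  have hl : IsOpenImmersion.lift j x.left hx ≫ j = x.left := IsOpenImmersion.lift_fac _ _ _
  obtain ⟨ξ₀, hξ₀⟩ : ∃ ξ₀ : A →+* B, Spec.map (CommRingCat.ofHom ξ₀) =
      IsOpenImmersion.lift j x.left hx :=
    ⟨(Spec.preimage (IsOpenImmersion.lift j x.left hx)).hom, Spec.map_preimage _⟩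
  have hw : x.left ≫ X.hom = Spec.map (CommRingCat.ofHom (algebraMap R B)) := Over.w x
  have hcomm : ξ₀.comp (algebraMap R A) = algebraMap R B := by
    rw [← hl, ← hξ₀] at hw
    have hw' : (Spec.map (CommRingCat.ofHom ξ₀) ≫ j ≫ X.hom :
        Spec (CommRingCat.of B) ⟶ Spec (CommRingCat.of R)) =
        Spec.map (CommRingCat.ofHom (algebraMap R B)) := (Category.assoc _ _ _).symm.trans hw
    rw [hj, ← Spec.map_comp, ← CommRingCat.ofHom_comp] at hw'
    have h2 := Spec.map_injective hw'
    exact congrArg (fun k => k.hom) h2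
  refine ⟨{ ξ₀ with commutes' := fun r => congrArg (fun k => k r) hcomm }, ?_⟩
  apply Over.OverMorphism.ext
  rw [xpt_left, ← hl, ← hξ₀]
  rfl

end XPts

section Act

open MonObj MonoidalCategory CartesianMonoidalCategory

variable {R : Type u} [CommRing R] {M : Type} [AddCommGroup M]
  (X : Over (Spec (CommRingCat.of R))) (act : Red.diag R M ⊗ X ⟶ X)

/-- the action on points -/
noncomputable def op {T : Over (Spec (CommRingCat.of R))} (g : T ⟶ Red.diag R M) (x : T ⟶ X) :
    T ⟶ X := lift g x ≫ act

theorem comp_op {T T' : Over (Spec (CommRingCat.of R))} (t : T' ⟶ T) (g : T ⟶ Red.diag R M)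
    (x : T ⟶ X) : t ≫ op X act g x = op X act (t ≫ g) (t ≫ x) := by
  unfold op
  rw [← Category.assoc, comp_lift]

variable {A : Type u} [CommRing A] [Algebra R A] (j : Spec (CommRingCat.of A) ⟶ X.left)
  (hj : j ≫ X.hom = Spec.map (CommRingCat.ofHom (algebraMap R A)))

theorem liftNC_of {B : Type u} [CommRing B] [Algebra R B] (χ : Multiplicative M →* B)
    (ξ : A →ₐ[R] B) :
    ((MonoidAlgebra.liftNCAlgHom ξ χ (fun _ _ => Commute.all _ _) :
      MonoidAlgebra A (Multiplicative M) →ₐ[R] B) :
      MonoidAlgebra A (Multiplicative M) →* B).comp (MonoidAlgebra.of A (Multiplicative M)) = χ := by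
  ext m
  simp [MonoidAlgebra.of_apply]

theorem liftNC_singleOne {B : Type u} [CommRing B] [Algebra R B] (χ : Multiplicative M →* B)
    (ξ : A →ₐ[R] B) :
    (MonoidAlgebra.liftNCAlgHom ξ χ (fun _ _ => Commute.all _ _) :
      MonoidAlgebra A (Multiplicative M) →ₐ[R] B).comp MonoidAlgebra.singleOneAlgHom = ξ := by
  ext a
  simp

theorem op_formula (ρ : A →ₐ[R] MonoidAlgebra A (Multiplicative M))
    (hρ : op X act (gpt (MonoidAlgebra.of A (Multiplicative M)))
      (xpt X j hj MonoidAlgebra.singleOneAlgHom) = xpt X j hj ρ)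
    {B : Type u} [CommRing B] [Algebra R B] (χ : Multiplicative M →* B) (ξ : A →ₐ[R] B) :
    op X act (gpt χ) (xpt X j hj ξ) =
      xpt X j hj ((MonoidAlgebra.liftNCAlgHom ξ χ (fun _ _ => Commute.all _ _)).comp ρ) := by
  rw [← tmor_xpt, ← hρ, comp_op, tmor_gpt, tmor_xpt, liftNC_of, liftNC_singleOne]

end Act

section Main

open MonObj MonoidalCategory CartesianMonoidalCategory

theorem surjective_Spec_of_nilp {A A' : Type u} [CommRing A] [CommRing A'] (φ : A →+* A')
    (hs : Function.Surjective φ) (hk : ∀ x ∈ RingHom.ker φ, x ∈ nilradical A) :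
    Function.Surjective (Spec.map (CommRingCat.ofHom φ)).base := by
  have h : IsHomeomorph (PrimeSpectrum.comap φ) := by
    apply PrimeSpectrum.isHomeomorph_comap
    · intro x
      refine ⟨1, one_pos, ?_⟩
      rw [pow_one]
      exact hs x
    · exact hk
  exact h.surjective

variable {R : Type u} [CommRing R] {M : Type} [AddCommGroup M]
  (X : Over (Spec (CommRingCat.of R))) (act : Red.diag R M ⊗ X ⟶ X)
  (I : Ideal R) (hI : IsNilpotent I)
  (h_one : ∀ (T : Over (Spec (CommRingCat.of R))) (x : T ⟶ X), op X act 1 x = x)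
  (h_mul : ∀ (T : Over (Spec (CommRingCat.of R))) (g h : T ⟶ Red.diag R M) (x : T ⟶ X),
    op X act (g * h) x = op X act g (op X act h x))
  (h_triv : ∀ (B : Type u) [CommRing B] [Algebra R B], I.map (algebraMap R B) = ⊥ →
    ∀ (g : tobj R B ⟶ Red.diag R M) (x : tobj R B ⟶ X), op X act g x = x)

include hI h_triv in
theorem mod_eq {B : Type u} [CommRing B] [Algebra R B] (g : tobj R B ⟶ Red.diag R M)
    (x : tobj R B ⟶ X) :
    tmor (Ideal.Quotient.mkₐ R (I.map (algebraMap R B))) ≫ op X act g x =
      tmor (Ideal.Quotient.mkₐ R (I.map (algebraMap R B))) ≫ x := by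
  have hK : I.map (algebraMap R (B ⧸ I.map (algebraMap R B))) = ⊥ := by
    have : algebraMap R (B ⧸ I.map (algebraMap R B)) =
        (Ideal.Quotient.mk (I.map (algebraMap R B))).comp (algebraMap R B) := rfl
    rw [this, ← Ideal.map_map, Ideal.map_quotient_self]
  rw [comp_op]
  exact h_triv (B ⧸ I.map (algebraMap R B)) hK _ _

include hI h_triv in
theorem op_base_eq {B : Type u} [CommRing B] [Algebra R B] (g : tobj R B ⟶ Red.diag R M)
    (x : tobj R B ⟶ X) (t : Spec (CommRingCat.of B)) :
    (op X act g x).left.base t = x.left.base t := by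
  have h1 := mod_eq X act I hI h_triv g x
  have hsurj : Function.Surjective
      (Spec.map (CommRingCat.ofHom (Ideal.Quotient.mk (I.map (algebraMap R B))))).base := by
    apply surjective_Spec_of_nilp _ Ideal.Quotient.mk_surjective
    intro y hy
    rw [Ideal.mk_ker] at hy
    obtain ⟨n, hn⟩ := hI
    refine ⟨n, ?_⟩
    have h2 : y ^ n ∈ (I.map (algebraMap R B)) ^ n := Ideal.pow_mem_pow hy n
    rw [← Ideal.map_pow, hn, Ideal.zero_eq_bot, Ideal.map_bot] at h2
    exact h2
  obtain ⟨t₀, rfl⟩ := hsurj t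
  have := congrArg (fun φ => φ.left.base t₀) h1
  exact this

end Main

section Univ

open MonObj MonoidalCategory CartesianMonoidalCategory

theorem liftNC_eq_sum {k G R : Type*} [Semiring k] [NonUnitalNonAssocSemiring R] (f : k →+ R)
    (g : G → R) (x : MonoidAlgebra k G) :
    MonoidAlgebra.liftNC f g x = x.coeff.sum fun m c => f c * g m := by
  simp [MonoidAlgebra.liftNC, Finsupp.liftAddHom_apply]
  rfl

theorem coeff_mem_of_mem_map {R A : Type u} [CommRing R] [CommRing A] [Algebra R A] {G : Type}
    [CommGroup G] (I : Ideal R) (x : MonoidAlgebra A G)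
    (hx : x ∈ I.map (algebraMap R (MonoidAlgebra A G))) (m : G) :
    x.coeff m ∈ I.map (algebraMap R A) := by
  have hx' : x ∈ I • (⊤ : Submodule R (MonoidAlgebra A G)) := by
    rw [Ideal.smul_top_eq_map]; exact hx
  have goal : ∀ y ∈ I • (⊤ : Submodule R (MonoidAlgebra A G)),
      y.coeff m ∈ I • (⊤ : Submodule R A) := by
    intro y hy
    refine Submodule.smul_induction_on hy ?_ ?_
    · intro r hr b _
      rw [MonoidAlgebra.coeff_smul_apply]
      exact Submodule.smul_mem_smul hr Submodule.mem_top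
    · intro y z hy hz
      rw [MonoidAlgebra.coeff_add, Finsupp.add_apply]
      exact Submodule.add_mem _ hy hz
  have := goal x hx'
  rw [Ideal.smul_top_eq_map] at this
  exact this

variable {R : Type u} [CommRing R] {M : Type} [AddCommGroup M]
  (X : Over (Spec (CommRingCat.of R))) (act : Red.diag R M ⊗ X ⟶ X)
  (I : Ideal R) (hI : IsNilpotent I)
  (h_one : ∀ (T : Over (Spec (CommRingCat.of R))) (x : T ⟶ X), op X act 1 x = x)
  (h_mul : ∀ (T : Over (Spec (CommRingCat.of R))) (g h : T ⟶ Red.diag R M) (x : T ⟶ X),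
    op X act (g * h) x = op X act g (op X act h x))
  (h_triv : ∀ (B : Type u) [CommRing B] [Algebra R B], I.map (algebraMap R B) = ⊥ →
    ∀ (g : tobj R B ⟶ Red.diag R M) (x : tobj R B ⟶ X), op X act g x = x)
  {A : Type u} [CommRing A] [Algebra R A] (j : Spec (CommRingCat.of A) ⟶ X.left)
  [IsOpenImmersion j] (hj : j ≫ X.hom = Spec.map (CommRingCat.ofHom (algebraMap R A)))

include hI h_triv in
theorem exists_rho :
    ∃ ρ : A →ₐ[R] MonoidAlgebra A (Multiplicative M),
      op X act (gpt (MonoidAlgebra.of A (Multiplicative M)))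
        (xpt X j hj MonoidAlgebra.singleOneAlgHom) = xpt X j hj ρ := by
  apply exists_xpt X j hj
  rintro _ ⟨t, rfl⟩
  have h0 := op_base_eq X act I hI h_triv (gpt (MonoidAlgebra.of A (Multiplicative M)))
    (xpt X j hj MonoidAlgebra.singleOneAlgHom) t
  refine ⟨(Spec.map (CommRingCat.ofHom (MonoidAlgebra.singleOneAlgHom :
    A →ₐ[R] MonoidAlgebra A (Multiplicative M)).toRingHom)).base t, ?_⟩
  exact h0.symm

include hI h_triv in
theorem rho_triv (ρ : A →ₐ[R] MonoidAlgebra A (Multiplicative M))
    (hρ : op X act (gpt (MonoidAlgebra.of A (Multiplicative M)))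
      (xpt X j hj MonoidAlgebra.singleOneAlgHom) = xpt X j hj ρ) (a : A) (m : Multiplicative M)
    (hm : m ≠ 1) : (ρ a).coeff m ∈ I.map (algebraMap R A) := by
  have h1 := mod_eq X act I hI h_triv (gpt (MonoidAlgebra.of A (Multiplicative M)))
    (xpt X j hj MonoidAlgebra.singleOneAlgHom)
  rw [hρ, tmor_xpt, tmor_xpt] at h1
  have h2 := xpt_injective X j hj _ _ h1
  have h3 := congrArg (fun φ => φ a) h2
  have h4 : ρ a - MonoidAlgebra.single 1 a ∈
      I.map (algebraMap R (MonoidAlgebra A (Multiplicative M))) := by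
    rw [← Ideal.Quotient.eq]
    exact h3
  have h5 := coeff_mem_of_mem_map I _ h4 m
  classical
  rw [MonoidAlgebra.coeff_sub, Finsupp.sub_apply, MonoidAlgebra.coeff_single,
    Finsupp.single_apply, if_neg (Ne.symm hm), sub_zero] at h5
  exact h5

end Univ

section Univ2

open MonObj MonoidalCategory CartesianMonoidalCategory

variable {R : Type u} [CommRing R] {M : Type} [AddCommGroup M]
  (X : Over (Spec (CommRingCat.of R))) (act : Red.diag R M ⊗ X ⟶ X)
  (I : Ideal R) (hI : IsNilpotent I)
  (h_one : ∀ (T : Over (Spec (CommRingCat.of R))) (x : T ⟶ X), op X act 1 x = x)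
  (h_mul : ∀ (T : Over (Spec (CommRingCat.of R))) (g h : T ⟶ Red.diag R M) (x : T ⟶ X),
    op X act (g * h) x = op X act g (op X act h x))
  (h_triv : ∀ (B : Type u) [CommRing B] [Algebra R B], I.map (algebraMap R B) = ⊥ →
    ∀ (g : tobj R B ⟶ Red.diag R M) (x : tobj R B ⟶ X), op X act g x = x)
  {A : Type u} [CommRing A] [Algebra R A] (j : Spec (CommRingCat.of A) ⟶ X.left)
  [IsOpenImmersion j] (hj : j ≫ X.hom = Spec.map (CommRingCat.ofHom (algebraMap R A)))

include h_one in
theorem rho_sum (ρ : A →ₐ[R] MonoidAlgebra A (Multiplicative M))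
    (hρ : op X act (gpt (MonoidAlgebra.of A (Multiplicative M)))
      (xpt X j hj MonoidAlgebra.singleOneAlgHom) = xpt X j hj ρ) (a : A) :
    ((ρ a).coeff.sum fun _ c => c) = a := by
  have e1 := op_formula X act j hj ρ hρ (1 : Multiplicative M →* A) (AlgHom.id R A)
  rw [gpt_one, h_one] at e1
  have e2 := xpt_injective X j hj _ _ e1
  have e3 := congrArg (fun φ => φ a) e2
  simp only [AlgHom.comp_apply, AlgHom.id_apply, MonoidAlgebra.coe_liftNCAlgHom] at e3
  rw [liftNC_eq_sum] at e3
  simpa using e3.symm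

theorem diag_coeff (x : MonoidAlgebra A (Multiplicative M)) (m : Multiplicative M) :
    (((MonoidAlgebra.liftNCAlgHom
      (((MonoidAlgebra.singleOneAlgHom : MonoidAlgebra A (Multiplicative M) →ₐ[R]
        MonoidAlgebra (MonoidAlgebra A (Multiplicative M)) (Multiplicative M))).comp
        (MonoidAlgebra.singleOneAlgHom : A →ₐ[R] MonoidAlgebra A (Multiplicative M)))
      (MonoidAlgebra.of (MonoidAlgebra A (Multiplicative M)) (Multiplicative M) *
        (((MonoidAlgebra.singleOneAlgHom : MonoidAlgebra A (Multiplicative M) →ₐ[R]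
        MonoidAlgebra (MonoidAlgebra A (Multiplicative M)) (Multiplicative M)) :
          MonoidAlgebra A (Multiplicative M) →*
            MonoidAlgebra (MonoidAlgebra A (Multiplicative M)) (Multiplicative M)).comp
          (MonoidAlgebra.of A (Multiplicative M))))
      (fun _ _ => Commute.all _ _)) x).coeff m).coeff m = x.coeff m := by
  classical
  induction x using MonoidAlgebra.induction_linear with
  | zero => simp
  | add x y hx hy =>
    rw [map_add, MonoidAlgebra.coeff_add, Finsupp.add_apply, MonoidAlgebra.coeff_add,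
      Finsupp.add_apply, hx, hy, MonoidAlgebra.coeff_add, Finsupp.add_apply]
  | single m₁ c =>
    simp only [MonoidAlgebra.coe_liftNCAlgHom, MonoidAlgebra.liftNC_single, MonoidHom.mul_apply,
      MonoidAlgebra.of_apply, MonoidHom.coe_comp, Function.comp_apply]
    simp only [AlgHom.coe_toAddMonoidHom, AlgHom.comp_apply, MonoidAlgebra.singleOneAlgHom_apply,
      AlgHom.coe_toMonoidHom, MonoidAlgebra.single_mul_single, _root_.mul_one, _root_.one_mul,
      MonoidAlgebra.coeff_single, Finsupp.single_apply]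
    by_cases h : m₁ = m
    · subst h; simp
    · simp [h]

end Univ2

section Univ3

open MonObj MonoidalCategory CartesianMonoidalCategory

variable {R : Type u} [CommRing R] {M : Type} [AddCommGroup M]
  (X : Over (Spec (CommRingCat.of R))) (act : Red.diag R M ⊗ X ⟶ X)
  (I : Ideal R) (hI : IsNilpotent I)
  (h_one : ∀ (T : Over (Spec (CommRingCat.of R))) (x : T ⟶ X), op X act 1 x = x)
  (h_mul : ∀ (T : Over (Spec (CommRingCat.of R))) (g h : T ⟶ Red.diag R M) (x : T ⟶ X),
    op X act (g * h) x = op X act g (op X act h x))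
  (h_triv : ∀ (B : Type u) [CommRing B] [Algebra R B], I.map (algebraMap R B) = ⊥ →
    ∀ (g : tobj R B ⟶ Red.diag R M) (x : tobj R B ⟶ X), op X act g x = x)
  {A : Type u} [CommRing A] [Algebra R A] (j : Spec (CommRingCat.of A) ⟶ X.left)
  [IsOpenImmersion j] (hj : j ≫ X.hom = Spec.map (CommRingCat.ofHom (algebraMap R A)))

include h_mul in
theorem rho_idem (ρ : A →ₐ[R] MonoidAlgebra A (Multiplicative M))
    (hρ : op X act (gpt (MonoidAlgebra.of A (Multiplicative M)))
      (xpt X j hj MonoidAlgebra.singleOneAlgHom) = xpt X j hj ρ) (a : A) (m : Multiplicative M) :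
    (ρ ((ρ a).coeff m)).coeff m = (ρ a).coeff m := by
  have hin : op X act
      (gpt (((MonoidAlgebra.singleOneAlgHom : MonoidAlgebra A (Multiplicative M) →ₐ[R]
        MonoidAlgebra (MonoidAlgebra A (Multiplicative M)) (Multiplicative M)) :
          MonoidAlgebra A (Multiplicative M) →*
            MonoidAlgebra (MonoidAlgebra A (Multiplicative M)) (Multiplicative M)).comp
          (MonoidAlgebra.of A (Multiplicative M))))
      (xpt X j hj (((MonoidAlgebra.singleOneAlgHom : MonoidAlgebra A (Multiplicative M) →ₐ[R]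
        MonoidAlgebra (MonoidAlgebra A (Multiplicative M)) (Multiplicative M))).comp
        (MonoidAlgebra.singleOneAlgHom : A →ₐ[R] MonoidAlgebra A (Multiplicative M)))) =
      xpt X j hj ((MonoidAlgebra.singleOneAlgHom : MonoidAlgebra A (Multiplicative M) →ₐ[R]
        MonoidAlgebra (MonoidAlgebra A (Multiplicative M)) (Multiplicative M)).comp ρ) := by
    have e1 := tmor_xpt X j hj (MonoidAlgebra.singleOneAlgHom :
      MonoidAlgebra A (Multiplicative M) →ₐ[R]
        MonoidAlgebra (MonoidAlgebra A (Multiplicative M)) (Multiplicative M)) ρ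
    rw [← e1, ← hρ, comp_op, tmor_gpt, tmor_xpt]
  have hout : op X act
      (gpt (MonoidAlgebra.of (MonoidAlgebra A (Multiplicative M)) (Multiplicative M)))
      (xpt X j hj ((MonoidAlgebra.singleOneAlgHom : MonoidAlgebra A (Multiplicative M) →ₐ[R]
        MonoidAlgebra (MonoidAlgebra A (Multiplicative M)) (Multiplicative M)).comp ρ)) =
      xpt X j hj ((MonoidAlgebra.mapAlgHom (Multiplicative M) ρ).comp ρ) := by
    rw [op_formula X act j hj ρ hρ]
    congr 2
    refine MonoidAlgebra.algHom_ext (fun m' => ?_) ?_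
    · simp [MonoidAlgebra.mapAlgHom_single, MonoidAlgebra.single_mul_single]
    · ext c
      simp [MonoidAlgebra.mapAlgHom_single, MonoidAlgebra.single_mul_single]
  have hprod := h_mul _
    (gpt (MonoidAlgebra.of (MonoidAlgebra A (Multiplicative M)) (Multiplicative M)))
    (gpt (((MonoidAlgebra.singleOneAlgHom : MonoidAlgebra A (Multiplicative M) →ₐ[R]
        MonoidAlgebra (MonoidAlgebra A (Multiplicative M)) (Multiplicative M)) :
          MonoidAlgebra A (Multiplicative M) →*
            MonoidAlgebra (MonoidAlgebra A (Multiplicative M)) (Multiplicative M)).comp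
          (MonoidAlgebra.of A (Multiplicative M))))
    (xpt X j hj (((MonoidAlgebra.singleOneAlgHom : MonoidAlgebra A (Multiplicative M) →ₐ[R]
        MonoidAlgebra (MonoidAlgebra A (Multiplicative M)) (Multiplicative M))).comp
        (MonoidAlgebra.singleOneAlgHom : A →ₐ[R] MonoidAlgebra A (Multiplicative M))))
  rw [hin, hout, ← gpt_mul, op_formula X act j hj ρ hρ] at hprod
  have e2 := xpt_injective X j hj _ _ hprod
  have e3 := congrArg (fun φ => ((φ a).coeff m).coeff m) e2
  simp only [AlgHom.comp_apply] at e3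
  rw [diag_coeff, MonoidAlgebra.coeff_mapAlgHom] at e3
  exact e3.symm

include hI h_one h_mul h_triv in
theorem univ_trivial :
    op X act (gpt (MonoidAlgebra.of A (Multiplicative M)))
      (xpt X j hj MonoidAlgebra.singleOneAlgHom) = xpt X j hj MonoidAlgebra.singleOneAlgHom := by
  obtain ⟨ρ, hρ⟩ := exists_rho X act I hI h_triv j hj
  rw [hρ]
  congr 1
  apply AlgHom.ext
  intro a
  exact coaction_trivial I hI ρ (rho_sum X act h_one j hj ρ hρ) (rho_idem X act h_mul j hj ρ hρ)
    (rho_triv X act I hI h_triv j hj ρ hρ) a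

include hI h_one h_mul h_triv hj in
/-- the action is trivial on affine points in an affine chart -/
theorem main_affine {B : Type u} [CommRing B] [Algebra R B] (g : tobj R B ⟶ Red.diag R M)
    (x : tobj R B ⟶ X) (hx : Set.range x.left.base ⊆ Set.range j.base) : op X act g x = x := by
  obtain ⟨χ, rfl⟩ := exists_gpt g
  obtain ⟨ξ, rfl⟩ := exists_xpt X j hj x hx
  rw [op_formula X act j hj MonoidAlgebra.singleOneAlgHom
    (univ_trivial X act I hI h_one h_mul h_triv j hj), liftNC_singleOne]

end Univ3

section Final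

open MonObj MonoidalCategory CartesianMonoidalCategory

variable {R : Type u} [CommRing R] {M : Type} [AddCommGroup M]
  (X : Over (Spec (CommRingCat.of R))) [GrpObj X] (f : Red.diag R M ⟶ X)

/-- the action of the diagonalisable group on `X` by left translation through `f` -/
noncomputable def actOf : Red.diag R M ⊗ X ⟶ X := lift (fst _ _ ≫ f) (snd _ _) ≫ μ[X]

theorem op_actOf {T : Over (Spec (CommRingCat.of R))} (g : T ⟶ Red.diag R M) (x : T ⟶ X) :
    op X (actOf X f) g x = (g ≫ f) * x := by
  unfold op actOf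
  rw [← Category.assoc, comp_lift, ← Category.assoc, lift_fst, lift_snd, Hom.mul_def]

variable [IsMonHom f]

theorem actOf_one (T : Over (Spec (CommRingCat.of R))) (x : T ⟶ X) :
    op X (actOf X f) 1 x = x := by
  rw [op_actOf, MonObj.one_comp, _root_.one_mul]

theorem actOf_mul (T : Over (Spec (CommRingCat.of R))) (g h : T ⟶ Red.diag R M) (x : T ⟶ X) :
    op X (actOf X f) (g * h) x = op X (actOf X f) g (op X (actOf X f) h x) := by
  rw [op_actOf, op_actOf, op_actOf, MonObj.mul_comp, _root_.mul_assoc]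

variable (I : Ideal R)
  (h : (Over.pullback (Spec.map (CommRingCat.ofHom (Ideal.Quotient.mk I)))).map f = 1)

include h in
theorem comp_eq_one_of_map_eq_bot (B : Type u) [CommRing B] [Algebra R B]
    (hB : I.map (algebraMap R B) = ⊥) (g : tobj R B ⟶ Red.diag R M) : g ≫ f = 1 := by
  have nat : ∀ k : Red.diag R M ⟶ X,
      ((Over.pullback (Spec.map (CommRingCat.ofHom (Ideal.Quotient.mk I)))).map k).left ≫
        pullback.fst X.hom (Spec.map (CommRingCat.ofHom (Ideal.Quotient.mk I))) =
      pullback.fst (Red.diag R M).hom (Spec.map (CommRingCat.ofHom (Ideal.Quotient.mk I))) ≫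
        k.left :=
    fun k => pullback.lift_fst _ _ _
  have hone : (Over.pullback (Spec.map (CommRingCat.ofHom (Ideal.Quotient.mk I)))).map
      (1 : Red.diag R M ⟶ X) = 1 := Functor.map_one _
  have hA : pullback.fst (Red.diag R M).hom (Spec.map (CommRingCat.ofHom (Ideal.Quotient.mk I))) ≫
      f.left =
      pullback.fst (Red.diag R M).hom (Spec.map (CommRingCat.ofHom (Ideal.Quotient.mk I))) ≫
        (1 : Red.diag R M ⟶ X).left := by
    rw [← nat f, ← nat 1, h, hone]
  -- the structure map of `B` factors through `R ⧸ I`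
  have hle : I ≤ RingHom.ker (algebraMap R B) := by
    intro r hr
    rw [RingHom.mem_ker]
    have : algebraMap R B r ∈ I.map (algebraMap R B) := Ideal.mem_map_of_mem _ hr
    rw [hB] at this
    exact this
  let φ : R ⧸ I →+* B := Ideal.Quotient.lift I (algebraMap R B) (fun r hr => hle hr)
  have hφ : φ.comp (Ideal.Quotient.mk I) = algebraMap R B := by
    ext r
    exact Ideal.Quotient.lift_mk I (algebraMap R B) (fun r hr => hle hr)
  have hw : (g.left ≫ (Red.diag R M).hom : Spec (CommRingCat.of B) ⟶ Spec (CommRingCat.of R)) =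
      Spec.map (CommRingCat.ofHom (algebraMap R B)) := Over.w g
  have hcond : (g.left : Spec (CommRingCat.of B) ⟶ (Red.diag R M).left) ≫ (Red.diag R M).hom =
      Spec.map (CommRingCat.ofHom φ) ≫ Spec.map (CommRingCat.ofHom (Ideal.Quotient.mk I)) := by
    refine hw.trans ?_
    rw [← Spec.map_comp, ← CommRingCat.ofHom_comp, hφ]
  have hfac : pullback.lift _ _ hcond ≫
      pullback.fst (Red.diag R M).hom (Spec.map (CommRingCat.ofHom (Ideal.Quotient.mk I))) =
      g.left := pullback.lift_fst _ _ _
  rw [← MonObj.comp_one g]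
  apply Over.OverMorphism.ext
  show (g.left : Spec (CommRingCat.of B) ⟶ (Red.diag R M).left) ≫ f.left =
    g.left ≫ (1 : Red.diag R M ⟶ X).left
  rw [← hfac, Category.assoc, Category.assoc, hA]

include h in
theorem actOf_triv (B : Type u) [CommRing B] [Algebra R B]
    (hB : I.map (algebraMap R B) = ⊥) (g : tobj R B ⟶ Red.diag R M) (x : tobj R B ⟶ X) :
    op X (actOf X f) g x = x := by
  rw [op_actOf, comp_eq_one_of_map_eq_bot X f I h B hB g, _root_.one_mul]

include h in
/-- local form of the result -/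
theorem final_local (hI : IsNilpotent I) {A B : Type u} [CommRing A] [CommRing B] [Algebra R A]
    [Algebra R B] (j : Spec (CommRingCat.of A) ⟶ X.left) [IsOpenImmersion j]
    (hj : j ≫ X.hom = Spec.map (CommRingCat.ofHom (algebraMap R A)))
    (g : tobj R B ⟶ Red.diag R M)
    (hx : Set.range (1 : tobj R B ⟶ X).left.base ⊆ Set.range j.base) : g ≫ f = 1 := by
  have := main_affine X (actOf X f) I hI (actOf_one X f) (actOf_mul X f) (actOf_triv X f I h)
    j hj g 1 hx
  rw [op_actOf, _root_.mul_one] at this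
  exact this

theorem hom_ext_of_local {Y Z : Scheme.{u}} (a b : Y ⟶ Z)
    (h : ∀ y : Y, ∃ V : Y.Opens, y ∈ V ∧ V.ι ≫ a = V.ι ≫ b) : a = b := by
  choose V hyV hV using h
  have hU : TopologicalSpace.IsOpenCover V := by
    apply eq_top_iff.2
    intro y _
    exact TopologicalSpace.Opens.mem_iSup.2 ⟨y, hyV y⟩
  apply (Y.openCoverOfIsOpenCover V hU).hom_ext
  intro y
  exact hV y

include h in
/-- a homomorphism from a diagonalisable group to a group scheme which is trivial modulo a
nilpotent ideal is trivial -/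
theorem main (hI : IsNilpotent I) : f = 1 := by
  apply Over.OverMorphism.ext
  apply hom_ext_of_local
  intro z
  obtain ⟨W, hW, hxW⟩ : ∃ W : X.left.Opens, IsAffineOpen W ∧
      (1 : Red.diag R M ⟶ X).left z ∈ W := by
    obtain ⟨_, ⟨W, hW, rfl⟩, hx, -⟩ := X.left.isBasis_affineOpens.exists_subset_of_mem_open
      (Set.mem_univ ((1 : Red.diag R M ⟶ X).left z)) isOpen_univ
    exact ⟨W, hW, hx⟩
  let O : (Red.diag R M).left.Opens := (1 : Red.diag R M ⟶ X).left ⁻¹ᵁ W
  have hyO : z ∈ O := hxW
  obtain ⟨_, ⟨V, hV, rfl⟩, hyV, hVO⟩ :=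
    (Red.diag R M).left.isBasis_affineOpens.exists_subset_of_mem_open hyO O.isOpen
  refine ⟨V, hyV, ?_⟩
  have hVO' : ∀ z' ∈ V, (1 : Red.diag R M ⟶ X).left z' ∈ W := fun z' hz => hVO hz
  let ψB : R →+* Γ((Red.diag R M).left, V) :=
    (Spec.preimage (hV.fromSpec ≫ (Red.diag R M).hom)).hom
  let ψA : R →+* Γ(X.left, W) := (Spec.preimage (hW.fromSpec ≫ X.hom)).hom
  letI algB : Algebra R Γ((Red.diag R M).left, V) := ψB.toAlgebra
  letI algA : Algebra R Γ(X.left, W) := ψA.toAlgebra
  have hjA : hW.fromSpec ≫ X.hom =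
      Spec.map (CommRingCat.ofHom (algebraMap R Γ(X.left, W))) :=
    (Spec.map_preimage (hW.fromSpec ≫ X.hom)).symm
  have hjB : hV.fromSpec ≫ (Red.diag R M).hom =
      Spec.map (CommRingCat.ofHom (algebraMap R Γ((Red.diag R M).left, V))) :=
    (Spec.map_preimage (hV.fromSpec ≫ (Red.diag R M).hom)).symm
  let g : tobj R Γ((Red.diag R M).left, V) ⟶ Red.diag R M := Over.homMk hV.fromSpec hjB
  have hrange : ∀ t : Spec (CommRingCat.of Γ((Red.diag R M).left, V)), hV.fromSpec t ∈ V := by
    intro t
    have : hV.fromSpec t ∈ Set.range hV.fromSpec.base := ⟨t, rfl⟩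
    rw [hV.range_fromSpec] at this
    exact this
  have hone' : g ≫ (1 : Red.diag R M ⟶ X) = 1 := MonObj.comp_one _
  have hx : Set.range (1 : tobj R Γ((Red.diag R M).left, V) ⟶ X).left.base ⊆
      Set.range hW.fromSpec.base := by
    rw [hW.range_fromSpec]
    rintro _ ⟨t, rfl⟩
    rw [← hone']
    exact hVO' _ (hrange t)
  have key := final_local X f I h hI hW.fromSpec hjA g hx
  rw [← hone'] at key
  have h3 := congrArg (fun φ => φ.left) key
  have h4 : hV.fromSpec ≫ f.left = hV.fromSpec ≫ (1 : Red.diag R M ⟶ X).left := h3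
  rw [← hV.isoSpec_inv_ι, Category.assoc, Category.assoc, cancel_epi] at h4
  exact h4

end Final

end Groth.Agent.Lead.DiagAct
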