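import Mathlib

set_option backward.isDefEq.respectTransparency.types false
set_option autoImplicit false
set_option synthInstance.maxHeartbeats 400000
set_option linter.style.haveILetI false
set_option linter.unusedSectionVars false

universe u

namespace Groth.Agent.Lead.DetSF

open exteriorPower

variable {R : Type u} [CommRing R] {M : Type u} [AddCommGroup M] [Module R M]

/-- the alternating map `v ↦ (0,1) ∧ (v₁,0) ∧ … ∧ (v_m,0)` -/
noncomputable def jAlt (m : ℕ) : M [⋀^Fin m]→ₗ[R] ⋀[R]^(m + 1) (M × R) :=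
  ((exteriorPower.ιMulti R (m + 1)).curryLeft ((0 : M), (1 : R))).compLinearMap
    (LinearMap.inl R M R)

noncomputable def j (m : ℕ) : ⋀[R]^m M →ₗ[R] ⋀[R]^(m + 1) (M × R) :=
  exteriorPower.alternatingMapLinearEquiv (jAlt (R := R) (M := M) m)

theorem j_ιMulti (m : ℕ) (v : Fin m → M) :
    j (R := R) m (exteriorPower.ιMulti R m v) =
      exteriorPower.ιMulti R (m + 1)
        (Matrix.vecCons ((0 : M), (1 : R)) (fun i => ((v i, (0 : R)) : M × R))) := by
  rw [j, exteriorPower.alternatingMapLinearEquiv_apply_ιMulti]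
  rfl

/-- linear in first argument, alternating in the rest -/
noncomputable def cof (m : ℕ) : M × R →ₗ[R] (M × R) [⋀^Fin m]→ₗ[R] ⋀[R]^m M where
  toFun x := x.2 • ((exteriorPower.ιMulti R m).compLinearMap (LinearMap.fst R M R))
  map_add' x y := by simp [add_smul]
  map_smul' a x := by simp [mul_smul]

noncomputable def c (m : ℕ) : ⋀[R]^(m + 1) (M × R) →ₗ[R] ⋀[R]^m M :=
  exteriorPower.alternatingMapLinearEquiv (AlternatingMap.alternatizeUncurryFin (cof (R := R) (M := M) m))

theorem c_ιMulti (m : ℕ) (w : Fin (m + 1) → M × R) :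
    c (R := R) m (exteriorPower.ιMulti R (m + 1) w) =
      ∑ i : Fin (m + 1), (-1 : ℤ) ^ (i : ℕ) •
        ((w i).2 • exteriorPower.ιMulti R m (fun k => (w (i.succAbove k)).1)) := by
  rw [c, exteriorPower.alternatingMapLinearEquiv_apply_ιMulti,
    AlternatingMap.alternatizeUncurryFin_apply]
  rfl

theorem c_j (m : ℕ) (x : ⋀[R]^m M) : c (R := R) m (j m x) = x := by
  have h : (c (R := R) (M := M) m) ∘ₗ (j m) = LinearMap.id := by
    apply exteriorPower.linearMap_ext
    ext v
    simp only [LinearMap.compAlternatingMap_apply, LinearMap.comp_apply, LinearMap.id_apply]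
    rw [j_ιMulti, c_ιMulti, Fin.sum_univ_succ]
    simp
  exact LinearMap.congr_fun h x

theorem j_injective (m : ℕ) : Function.Injective (j (R := R) (M := M) m) :=
  Function.LeftInverse.injective (c_j m)

theorem span_S :
    Submodule.span R (Set.range (LinearMap.inl R M R) ∪ {((0 : M), (1 : R))}) = ⊤ := by
  rw [eq_top_iff]
  rintro ⟨x, b⟩ -
  have h : ((x, b) : M × R) = LinearMap.inl R M R x + b • ((0 : M), (1 : R)) := by simp
  rw [h]
  exact Submodule.add_mem _ (Submodule.subset_span (Or.inl ⟨x, rfl⟩))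
    (Submodule.smul_mem _ _ (Submodule.subset_span (Or.inr rfl)))

/-- the decomposition identity as a predicate -/
def Dec (m : ℕ) (a : ⋀[R]^(m + 1) (M × R)) : Prop :=
  a = j m (c m a) + exteriorPower.map (m + 1) (LinearMap.inl R M R)
    (exteriorPower.map (m + 1) (LinearMap.fst R M R) a)

theorem dec_zero (m : ℕ) : Dec (R := R) (M := M) m 0 := by
  simp [Dec]

theorem dec_add (m : ℕ) {a b : ⋀[R]^(m + 1) (M × R)} (ha : Dec m a) (hb : Dec m b) :
    Dec m (a + b) := by
  unfold Dec at ha hb ⊢
  rw [map_add, map_add, map_add, map_add]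
  nth_rewrite 1 [ha]
  nth_rewrite 1 [hb]
  abel

theorem dec_smul (m : ℕ) (r : R) {a : ⋀[R]^(m + 1) (M × R)} (ha : Dec m a) :
    Dec m (r • a) := by
  unfold Dec at ha ⊢
  rw [map_smul, map_smul, map_smul, map_smul, ← smul_add, ← ha]

theorem dec_gen (m : ℕ) (w : Fin (m + 1) → M × R)
    (hw : Set.range w ⊆ Set.range (LinearMap.inl R M R) ∪ {((0 : M), (1 : R))}) :
    Dec m (exteriorPower.ιMulti R (m + 1) w) := by
  by_cases hdup : ∃ i0 i1, i0 ≠ i1 ∧ w i0 = w i1
  · obtain ⟨i0, i1, hne, heq⟩ := hdup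
    have h0 : exteriorPower.ιMulti R (m + 1) w = 0 :=
      (exteriorPower.ιMulti R (m + 1)).map_eq_zero_of_eq w heq hne
    rw [h0]
    exact dec_zero m
  · by_cases hA : ∀ i, (w i).2 = 0
    · have hw' : (fun i => LinearMap.inl R M R (LinearMap.fst R M R (w i))) = w := by
        funext i
        exact Prod.ext rfl (by simp [hA i])
      unfold Dec
      rw [c_ιMulti, exteriorPower.map_apply_ιMulti, exteriorPower.map_apply_ιMulti]
      have h1 : (∑ i : Fin (m + 1), (-1 : ℤ) ^ (i : ℕ) •
          ((w i).2 • exteriorPower.ιMulti R m (fun k => (w (i.succAbove k)).1))) = 0 := by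
        apply Finset.sum_eq_zero
        intro i _
        rw [hA i, zero_smul, smul_zero]
      rw [h1, map_zero, zero_add]
      exact congrArg _ hw'.symm
    · obtain ⟨i0, hi0⟩ := not_forall.mp hA
      have hS : ∀ i, w i ∈ Set.range (LinearMap.inl R M R) ∪ {((0 : M), (1 : R))} :=
        fun i => hw ⟨i, rfl⟩
      have hw0 : w i0 = ((0 : M), (1 : R)) := by
        rcases hS i0 with ⟨x, hx⟩ | h
        · exact absurd (by rw [← hx]; rfl) hi0
        · exact h
      have hother : ∀ i, i ≠ i0 → w i = ((w i).1, (0 : R)) := by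
        intro i hi
        rcases hS i with ⟨x, hx⟩ | h
        · rw [← hx]; rfl
        · exact absurd ⟨i, i0, hi, h.trans hw0.symm⟩ hdup
      unfold Dec
      rw [c_ιMulti, exteriorPower.map_apply_ιMulti, exteriorPower.map_apply_ιMulti]
      have hz : exteriorPower.ιMulti R (m + 1)
          ((LinearMap.inl R M R) ∘ (LinearMap.fst R M R) ∘ w) = 0 := by
        apply (exteriorPower.ιMulti R (m + 1)).map_coord_zero i0
        simp only [Function.comp_apply]
        rw [hw0]
        simp
      have h1 : (∑ i : Fin (m + 1), (-1 : ℤ) ^ (i : ℕ) •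
          ((w i).2 • exteriorPower.ιMulti R m (fun k => (w (i.succAbove k)).1))) =
          (-1 : ℤ) ^ (i0 : ℕ) • exteriorPower.ιMulti R m (fun k => (w (i0.succAbove k)).1) := by
        rw [Finset.sum_eq_single i0]
        · rw [hw0, one_smul]
        · intro i _ hi
          have : (w i).2 = 0 := by rw [hother i hi]
          rw [this, zero_smul, smul_zero]
        · intro h; exact absurd (Finset.mem_univ _) h
      rw [h1, hz, add_zero, map_zsmul, j_ιMulti]
      have h2 : (fun k => (((w (i0.succAbove k)).1, (0 : R)) : M × R)) = i0.removeNth w := by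
        funext k
        exact (hother _ (Fin.succAbove_ne i0 k)).symm
      rw [h2, ← hw0, ← AlternatingMap.map_insertNth, Fin.insertNth_self_removeNth]

theorem dec (m : ℕ) (a : ⋀[R]^(m + 1) (M × R)) : Dec m a := by
  have h := exteriorPower.ιMulti_span_of_span R (m + 1) (M × R) (span_S (R := R) (M := M))
  have ha : a ∈ Submodule.span R (exteriorPower.ιMulti R (m + 1) ''
      {a | Set.range a ⊆ Set.range (LinearMap.inl R M R) ∪ {((0 : M), (1 : R))}}) := by
    rw [h]; trivial
  induction ha using Submodule.span_induction with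
  | mem x hx =>
    obtain ⟨w, hw, rfl⟩ := hx
    exact dec_gen m w hw
  | zero => exact dec_zero m
  | add x y _ _ hx hy => exact dec_add m hx hy
  | smul r x _ hx => exact dec_smul m r hx

theorem subsingleton_of_prod (m : ℕ) (h : Subsingleton (⋀[R]^(m + 1) (M × R))) :
    Subsingleton (⋀[R]^m M) :=
  (j_injective (R := R) (M := M) m).subsingleton

theorem subsingleton_of_prod' (k : ℕ) (h : Subsingleton (⋀[R]^k (M × R))) :
    Subsingleton (⋀[R]^k M) := by
  have hinj : Function.Injective (exteriorPower.map k (LinearMap.inl R M R)) :=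
    exteriorPower.map_injective (LinearMap.fst R M R) (by ext; simp)
  exact hinj.subsingleton

theorem j_surjective (m : ℕ) (h : Subsingleton (⋀[R]^(m + 1) M)) :
    Function.Surjective (j (R := R) (M := M) m) := by
  intro a
  refine ⟨c m a, ?_⟩
  have h1 := dec m a
  unfold Dec at h1
  have h2 : exteriorPower.map (m + 1) (LinearMap.fst R M R) a = 0 := Subsingleton.elim _ _
  rw [h2, map_zero, add_zero] at h1
  exact h1.symm

noncomputable def jEquiv (m : ℕ) (h : Subsingleton (⋀[R]^(m + 1) M)) :
    ⋀[R]^m M ≃ₗ[R] ⋀[R]^(m + 1) (M × R) :=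
  LinearEquiv.ofBijective (j m) ⟨j_injective m, j_surjective m h⟩

section free
variable {N : Type u} [AddCommGroup N] [Module R N]

theorem nonempty_top_equiv {n : ℕ} (b : Module.Basis (Fin n) R N) :
    Nonempty (⋀[R]^n N ≃ₗ[R] R) := by
  have hc : Nat.card (Set.powersetCard (Fin n) n) = 1 := by
    rw [Set.powersetCard.card]; simp
  obtain ⟨hs, hn⟩ := Nat.card_eq_one_iff_unique.mp hc
  haveI : Unique (Set.powersetCard (Fin n) n) := @Unique.mk' _ ⟨hn.some⟩ hs
  exact ⟨(b.exteriorPower n).repr.trans (Finsupp.uniqueLinearEquiv R R default)⟩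

theorem subsingleton_succ_top {n : ℕ} (b : Module.Basis (Fin n) R N) :
    Subsingleton (⋀[R]^(n + 1) N) := by
  have hc : Nat.card (Set.powersetCard (Fin n) (n + 1)) = 0 := by
    rw [Set.powersetCard.card]; simp
  haveI : IsEmpty (Set.powersetCard (Fin n) (n + 1)) := by
    rcases Nat.card_eq_zero.mp hc with h | h
    · exact h
    · exact absurd (inferInstance : Finite (Set.powersetCard (Fin n) (n + 1))) (not_finite_iff_infinite.mpr h)
  exact (b.exteriorPower (n + 1)).repr.injective.subsingleton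

end free

theorem main_aux : ∀ (r m : ℕ) (M : Type u) [AddCommGroup M] [Module R M],
    ((M × (Fin r → R)) ≃ₗ[R] (Fin (m + r) → R)) →
    Nonempty (⋀[R]^m M ≃ₗ[R] R) ∧ Subsingleton (⋀[R]^(m + 1) M) := by
  intro r
  induction r with
  | zero =>
    intro m M _ _ e
    let e0 : M ≃ₗ[R] (Fin m → R) :=
      (LinearEquiv.prodUnique (R := R) (M := M) (M₂ := Fin 0 → R)).symm.trans e
    let b : Module.Basis (Fin m) R M := Module.Basis.ofEquivFun e0
    exact ⟨nonempty_top_equiv b, subsingleton_succ_top b⟩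
  | succ r ih =>
    intro m M _ _ e
    let e1 : ((M × R) × (Fin r → R)) ≃ₗ[R] (Fin (m + 1 + r) → R) :=
      (LinearEquiv.prodAssoc R M R (Fin r → R)).trans
        (((LinearEquiv.refl R M).prodCongr (Fin.consLinearEquiv R (fun _ : Fin (r + 1) => R))).trans
          (e.trans (LinearEquiv.funCongrLeft R R (finCongr (by omega : m + 1 + r = m + (r + 1))))))
    obtain ⟨⟨e2⟩, hs⟩ := ih (m + 1) (M × R) e1
    have hs1 : Subsingleton (⋀[R]^(m + 1) M) := subsingleton_of_prod (m + 1) hs
    exact ⟨⟨(jEquiv m hs1).trans e2⟩, hs1⟩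

theorem main (n r : ℕ) (hrn : r ≤ n) (M : Type u) [AddCommGroup M] [Module R M]
    (e : (M × (Fin r → R)) ≃ₗ[R] (Fin n → R)) :
    Nonempty (⋀[R]^(n - r) M ≃ₗ[R] R) :=
  (main_aux r (n - r) M
    (e.trans (LinearEquiv.funCongrLeft R R (finCongr (by omega : n - r + r = n))))).1

end Groth.Agent.Lead.DetSF
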