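import Mathlib
import Groth.Prelude

set_option autoImplicit false
set_option backward.isDefEq.respectTransparency.types false
set_option synthInstance.maxHeartbeats 400000
set_option linter.style.haveILetI false
set_option linter.unusedSectionVars false
universe u

open CategoryTheory CategoryTheory.Limits AlgebraicGeometry IsLocalRing Topology TopologicalSpace

namespace Groth.Agent.Lead.RedFlat

/-- flatness: the kernel of multiplication by `t` on `N F` is `(N ∩ Ann t) F` -/
theorem flat_inf_ann {A F : Type*} [CommRing A] [AddCommGroup F] [Module A F] [Module.Flat A F]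
    (N N' : Ideal A) (t : A) (hN : ∀ c ∈ N, t * c = 0 → c ∈ N') (x : F)
    (hx : x ∈ N • (⊤ : Submodule A F)) (htx : t • x = 0) :
    x ∈ N' • (⊤ : Submodule A F) := by
  classical
  have h' : x ∈ N • Submodule.span A (Set.range (id : F → F)) := by simpa using hx
  obtain ⟨a, ha, hsum⟩ := (Submodule.mem_ideal_smul_span_iff_exists_sum N id x).1 h'
  let f : a.support → A := fun y => t * a y
  let xs : a.support → F := fun y => (y : F)
  have hrel : ∑ i, f i • xs i = 0 := by
    have h1 : ∑ y : a.support, f y • xs y = t • x := by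
      rw [← hsum, Finsupp.sum, ← Finset.sum_coe_sort a.support (fun y => a y • id y),
        Finset.smul_sum]
      refine Finset.sum_congr rfl fun y _ => ?_
      simp [f, xs, mul_smul]
    rw [h1, htx]
  obtain ⟨k, c, z, hxz, hc⟩ := Module.Flat.isTrivialRelation_of_sum_smul_eq_zero hrel
  have hx0 : x = ∑ j, (∑ y : a.support, a y * c y j) • z j := by
    rw [← hsum, Finsupp.sum, ← Finset.sum_coe_sort a.support (fun y => a y • id y)]
    have : ∀ y : a.support, a y • id (y : F) = ∑ j, (a y * c y j) • z j := by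
      intro y
      have := hxz y
      simp only [xs] at this
      rw [id, this, Finset.smul_sum]
      refine Finset.sum_congr rfl fun j _ => ?_
      rw [mul_smul]
    rw [Finset.sum_congr rfl (fun y _ => this y), Finset.sum_comm]
    refine Finset.sum_congr rfl fun j _ => ?_
    rw [Finset.sum_smul]
  rw [hx0]
  refine Submodule.sum_mem _ fun j _ => Submodule.smul_mem_smul (hN _ ?_ ?_) trivial
  · exact N.sum_mem fun y _ => N.mul_mem_right _ (ha y)
  · have := hc j
    simp only [f] at this
    rw [Finset.mul_sum]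
    rw [← this]
    refine Finset.sum_congr rfl fun y _ => ?_
    ring

/-- the key vanishing statement -/
theorem eq_zero_of_flat_of_reduced {A B : Type*} [CommRing A] [CommRing B] [Algebra A B]
    [Module.Flat A B] [IsReduced A] (𝔪 : Ideal A) (b : B)
    (hb : b ∈ 𝔪.map (algebraMap A B))
    (hk : ∀ a ∈ 𝔪, ∃ n : ℕ, (algebraMap A B a) ^ n * b = 0) : b = 0 := by
  classical
  -- a finitely generated subideal
  have hb' : b ∈ Submodule.span B ((algebraMap A B) '' (𝔪 : Set A)) := hb
  obtain ⟨T', hT', hbT'⟩ := Submodule.mem_span_finite_of_mem_span hb'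
  obtain ⟨T, hT𝔪, hT⟩ : ∃ T : Finset A, (T : Set A) ⊆ 𝔪 ∧
      (T' : Set B) ⊆ (algebraMap A B) '' (T : Set A) := by
    have : ∀ y ∈ T', ∃ a ∈ 𝔪, algebraMap A B a = y := fun y hy => hT' hy
    choose! g hg1 hg2 using this
    refine ⟨T'.image g, ?_, ?_⟩
    · intro a ha
      simp only [Finset.coe_image, Set.mem_image] at ha
      obtain ⟨y, hy, rfl⟩ := ha
      exact hg1 y hy
    · intro y hy
      exact ⟨g y, by simp only [Finset.coe_image, Set.mem_image]; exact ⟨y, hy, rfl⟩, hg2 y hy⟩
  let 𝔞 : Ideal A := Ideal.span (T : Set A)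
  have hb𝔞 : b ∈ 𝔞 • (⊤ : Submodule A B) := by
    have h1 : b ∈ 𝔞.map (algebraMap A B) := by
      rw [Ideal.map_span]
      exact Submodule.span_mono hT hbT'
    have h2 : (𝔞.map (algebraMap A B)).restrictScalars A = 𝔞 • (⊤ : Submodule A B) := by
      rw [Ideal.smul_top_eq_map]
    rw [← h2]
    exact h1
  -- induction over subsets of `T`
  have key : ∀ T₀ : Finset A, T₀ ⊆ T →
      b ∈ (𝔞 ⊓ (Ideal.span (T₀ : Set A)).annihilator) • (⊤ : Submodule A B) := by
    intro T₀
    induction T₀ using Finset.induction_on with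
    | empty =>
      intro _
      have : (Ideal.span ((∅ : Finset A) : Set A)).annihilator = ⊤ := by
        rw [Finset.coe_empty, Ideal.span_empty, Submodule.annihilator_bot]
      rw [this, inf_top_eq]
      exact hb𝔞
    | insert a T₁ ha ih =>
      intro hsub
      have h1 := ih (fun y hy => hsub (Finset.mem_insert_of_mem hy))
      obtain ⟨n, hn⟩ := hk a (hT𝔪 (hsub (Finset.mem_insert_self a T₁)))
      refine flat_inf_ann (𝔞 ⊓ (Ideal.span (T₁ : Set A)).annihilator) _ (a ^ n) ?_ b h1 ?_
      · intro c hc hac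
        refine ⟨hc.1, ?_⟩
        refine (Submodule.mem_annihilator_span (R := A) (M := A) _ c).mpr ?_
        rintro ⟨y, hy⟩
        rw [Finset.coe_insert, Set.mem_insert_iff] at hy
        rcases hy with rfl | hy
        · show c * y = 0
          have : IsNilpotent (c * y) := by
            refine ⟨n + 1, ?_⟩
            have : (c * y) ^ (n + 1) = (y ^ n * c) * (c ^ n * y) := by ring
            rw [this, hac, zero_mul]
          exact this.eq_zero
        · exact (Submodule.mem_annihilator_span (R := A) (M := A) _ c).mp hc.2 ⟨y, hy⟩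
      · rw [Algebra.smul_def, map_pow]
        exact hn
  have hfin := key T (Finset.Subset.refl T)
  have hbot : 𝔞 ⊓ (Ideal.span (T : Set A)).annihilator = ⊥ := by
    rw [eq_bot_iff]
    rintro c ⟨hc1, hc2⟩
    have : c * c = 0 := (Submodule.mem_annihilator.mp hc2) c hc1
    have : IsNilpotent c := ⟨2, by rw [pow_two]; exact this⟩
    exact this.eq_zero
  rw [hbot, Submodule.bot_smul] at hfin
  exact hfin


theorem eq_zero_of_flat_of_reduced' {A B : Type*} [CommRing A] [CommRing B] (ψ : A →+* B)
    (hψ : ψ.Flat) [IsReduced A] (𝔪 : Ideal A) (b : B) (hb : b ∈ 𝔪.map ψ)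
    (hk : ∀ a ∈ 𝔪, ∃ n : ℕ, ψ a ^ n * b = 0) : b = 0 := by
  algebraize [ψ]
  exact eq_zero_of_flat_of_reduced 𝔪 b hb hk

theorem isReduced_localization_of_le {R : Type*} [CommRing R] (p' p : Ideal R) [p'.IsPrime]
    [p.IsPrime] (h : p' ≤ p) [IsReduced (Localization.AtPrime p)] :
    IsReduced (Localization.AtPrime p') := by
  refine ⟨fun x hx => ?_⟩
  obtain ⟨r, s, rfl⟩ := IsLocalization.exists_mk'_eq p'.primeCompl x
  rw [IsLocalization.mk'_eq_zero_iff]
  have hr : IsNilpotent (algebraMap R (Localization.AtPrime p') r) := by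
    have : algebraMap R (Localization.AtPrime p') r =
        IsLocalization.mk' (Localization.AtPrime p') r s * algebraMap R _ (s : R) := by
      rw [IsLocalization.mk'_spec]
    rw [this]
    exact (Commute.all _ _).isNilpotent_mul_right hx
  obtain ⟨n, hn⟩ := hr
  rw [← map_pow, IsLocalization.map_eq_zero_iff p'.primeCompl] at hn
  obtain ⟨t, ht⟩ := hn
  have h1 : IsNilpotent (algebraMap R (Localization.AtPrime p) ((t : R) * r)) := by
    refine ⟨n + 1, ?_⟩
    rw [← map_pow]
    have : ((t : R) * r) ^ (n + 1) = ((t : R) ^ n * r) * ((t : R) * r ^ n) := by ring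
    rw [this, ht, mul_zero, map_zero]
  have h2 := h1.eq_zero
  rw [IsLocalization.map_eq_zero_iff p.primeCompl] at h2
  obtain ⟨u, hu⟩ := h2
  have hu' : (u : R) ∉ p' := fun hmem => u.2 (h hmem)
  refine ⟨⟨(u : R) * (t : R), Ideal.IsPrime.mul_notMem inferInstance hu' t.2⟩, ?_⟩
  show (u : R) * (t : R) * r = 0
  rw [mul_assoc]
  exact hu

theorem isReduced_atPrime_of_flat {R S : Type u} [CommRing R] [CommRing S] (φ : R →+* S)
    (hφ : φ.Flat) (Q : Ideal S) [Q.IsPrime] (P : Ideal R) [P.IsPrime] (hPQ : P = Q.comap φ)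
    (hR : IsReduced (Localization.AtPrime P))
    (hfib : ∀ (Q' : Ideal S) [Q'.IsPrime] (P' : Ideal R) [P'.IsPrime] (h : P' = Q'.comap φ),
      Q' ≤ Q → IsReduced (Localization.AtPrime Q' ⧸
        (maximalIdeal (Localization.AtPrime P')).map (Localization.localRingHom P' Q' φ h))) :
    IsReduced (Localization.AtPrime Q) := by
  refine ⟨fun x hx => ?_⟩
  obtain ⟨b, s, rfl⟩ := IsLocalization.exists_mk'_eq Q.primeCompl x
  rw [IsLocalization.mk'_eq_zero_iff]
  have hbnil : IsNilpotent (algebraMap S (Localization.AtPrime Q) b) := by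
    have : algebraMap S (Localization.AtPrime Q) b =
        IsLocalization.mk' (Localization.AtPrime Q) b s * algebraMap S _ (s : S) := by
      rw [IsLocalization.mk'_spec]
    rw [this]
    exact (Commute.all _ _).isNilpotent_mul_right hx
  by_contra hcon
  let I : Ideal S := (Ideal.span ({b} : Set S)).annihilator
  have hI : ∀ s : S, s ∈ I ↔ s * b = 0 := by
    intro s
    rw [Submodule.mem_annihilator_span_singleton]
    rfl
  have hIQ : I ≤ Q := by
    intro s hs
    by_contra hsQ
    exact hcon ⟨⟨s, hsQ⟩, (hI s).mp hs⟩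
  obtain ⟨Q', hQ'min, hQ'Q⟩ := Ideal.exists_minimalPrimes_le hIQ
  haveI : Q'.IsPrime := hQ'min.1.1
  have hIQ' : I ≤ Q' := hQ'min.1.2
  let ψ := Localization.localRingHom (Q'.comap φ) Q' φ rfl
  have hψ : ψ.Flat := hφ.localRingHom Q' (Q'.comap φ) rfl
  let b' := algebraMap S (Localization.AtPrime Q') b
  have hb'nil : IsNilpotent b' := by
    obtain ⟨n, hn⟩ := hbnil
    rw [← map_pow, IsLocalization.map_eq_zero_iff Q.primeCompl] at hn
    obtain ⟨t, ht⟩ := hn
    refine ⟨n, ?_⟩
    rw [← map_pow, IsLocalization.map_eq_zero_iff Q'.primeCompl]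
    exact ⟨⟨t, fun hmem => t.2 (hQ'Q hmem)⟩, ht⟩
  have hPle : Q'.comap φ ≤ P := by
    rw [hPQ]
    exact Ideal.comap_mono hQ'Q
  haveI := hR
  haveI : IsReduced (Localization.AtPrime (Q'.comap φ)) :=
    isReduced_localization_of_le (Q'.comap φ) P hPle
  have hred := hfib Q' (Q'.comap φ) rfl hQ'Q
  have hbJ : b' ∈ (maximalIdeal (Localization.AtPrime (Q'.comap φ))).map ψ := by
    rw [← Ideal.Quotient.eq_zero_iff_mem]
    exact (hb'nil.map (Ideal.Quotient.mk _)).eq_zero
  have hkill : ∀ z ∈ I.map (algebraMap S (Localization.AtPrime Q')), z * b' = 0 := by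
    have : I.map (algebraMap S (Localization.AtPrime Q')) ≤
        (Ideal.span ({b'} : Set (Localization.AtPrime Q'))).annihilator := by
      rw [Ideal.map_le_iff_le_comap]
      intro i hi
      rw [Ideal.mem_comap, Submodule.mem_annihilator_span_singleton]
      show algebraMap S _ i * b' = 0
      rw [← map_mul, (hI i).mp hi, map_zero]
    intro z hz
    have := this hz
    rw [Submodule.mem_annihilator_span_singleton] at this
    exact this
  have hk : ∀ a ∈ maximalIdeal (Localization.AtPrime (Q'.comap φ)),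
      ∃ n : ℕ, (ψ a) ^ n * b' = 0 := by
    intro a ha
    have h1 : ψ a ∈ maximalIdeal (Localization.AtPrime Q') := by
      have hloc : IsLocalHom ψ := inferInstance
      exact ((IsLocalRing.local_hom_TFAE ψ).out 0 2 rfl rfl).mp hloc (Ideal.mem_map_of_mem _ ha)
    rw [← IsLocalization.AtPrime.map_eq_maximalIdeal Q' (Localization.AtPrime Q'),
      ← IsLocalization.AtPrime.radical_map_of_mem_minimalPrimes (Localization.AtPrime Q') Q' I
        hQ'min] at h1
    obtain ⟨n, hn⟩ := h1
    exact ⟨n, hkill _ hn⟩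
  have hb'0 : b' = 0 :=
    eq_zero_of_flat_of_reduced' ψ hψ (maximalIdeal (Localization.AtPrime (Q'.comap φ))) b' hbJ hk
  rw [IsLocalization.map_eq_zero_iff Q'.primeCompl] at hb'0
  obtain ⟨t, ht⟩ := hb'0
  exact t.2 (hIQ' ((hI t).mpr ht))

end Groth.Agent.Lead.RedFlat
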