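import Mathlib
import Groth.Prelude
import Groth.Agent.Lib.Lead.RedFlat1
import Groth.Agent.Lib.Lead.RkLoc7
import Groth.Agent.Lib.Helper2.Sch.FieldBCDim
import Groth.Agent.Lib.Helper3.FibStalk2

set_option autoImplicit false
set_option backward.isDefEq.respectTransparency.types false
set_option synthInstance.maxHeartbeats 400000
set_option linter.style.haveILetI false
set_option linter.unusedSectionVars false
universe u

open CategoryTheory CategoryTheory.Limits AlgebraicGeometry IsLocalRing Topology TopologicalSpace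

namespace Groth.Agent.Lead.RedFlat

/-- geometrically reduced at a point implies reduced at that point -/
theorem isReduced_stalk_of_isGeomReducedAt {κ : Type u} [Field κ] {W : Scheme.{u}}
    (h : W ⟶ Spec (CommRingCat.of κ)) [LocallyOfFiniteType h] (w : W)
    (H : FBase.IsGeomReducedAt h w) :
    IsReduced (W.presheaf.stalk w) := by
  obtain ⟨x', hx'⟩ := Groth.Agent.Helper2.FieldBCDim.surjective_bcπ h (K := κ) w
  have h1 := H κ x' hx'
  subst hx'
  have hfl : ((FBase.bcπ h κ).stalkMap x').hom.Flat := Flat.stalkMap (FBase.bcπ h κ) x'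
  have hinj : Function.Injective ((FBase.bcπ h κ).stalkMap x').hom := by
    algebraize [((FBase.bcπ h κ).stalkMap x').hom]
    haveI : IsLocalHom (algebraMap (W.presheaf.stalk ((FBase.bcπ h κ) x'))
        ((FBase.bc h κ).presheaf.stalk x')) := by
      rw [RingHom.algebraMap_toAlgebra]; infer_instance
    haveI : Module.FaithfullyFlat (W.presheaf.stalk ((FBase.bcπ h κ) x'))
        ((FBase.bc h κ).presheaf.stalk x') := Module.FaithfullyFlat.of_flat_of_isLocalHom
    exact FaithfulSMul.algebraMap_injective _ _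
  exact isReduced_of_injective _ hinj

/-- transfer of reducedness of the fibre ring along an isomorphism of arrows -/
theorem isReduced_quotient_of_arrowIso {A B A' B' : CommRingCat.{u}} [IsLocalRing A]
    [IsLocalRing A'] (α : A ⟶ B) (β : A' ⟶ B') (e : Arrow.mk α ≅ Arrow.mk β)
    (H : IsReduced (B ⧸ (maximalIdeal A).map α.hom)) :
    IsReduced (B' ⧸ (maximalIdeal A').map β.hom) := by
  let eA : A ≅ A' := Comma.leftIso e
  let eB : B ≅ B' := Comma.rightIso e
  have hw : α ≫ eB.hom = eA.hom ≫ β := e.hom.w.symm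
  have hAmax : (maximalIdeal A).map eA.hom.hom = maximalIdeal A' := by
    exact Groth.Agent.Helper3.FibStalk.map_maximalIdeal_of_surjective eA.hom.hom
      eA.commRingCatIsoToRingEquiv.surjective
  have hJ : (maximalIdeal A').map β.hom =
      ((maximalIdeal A).map α.hom).map (eB.commRingCatIsoToRingEquiv : B →+* B') := by
    rw [← hAmax, Ideal.map_map, Ideal.map_map]
    congr 1
    have := congrArg CommRingCat.Hom.hom hw
    exact this.symm
  let q := Ideal.quotientEquiv ((maximalIdeal A).map α.hom) ((maximalIdeal A').map β.hom)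
    eB.commRingCatIsoToRingEquiv hJ
  exact isReduced_of_injective q.symm.toRingHom q.symm.injective


theorem fibre_quotient_reduced {X Y : Scheme.{u}} (f : X ⟶ Y) [LocallyOfFinitePresentation f]
    (x' : X)
    (hG : FBase.IsGeomReducedAt (f.fiberToSpecResidueField (f.base x')) (f.asFiber x')) :
    IsReduced (X.presheaf.stalk x' ⧸
      (maximalIdeal (Y.presheaf.stalk (f x'))).map (f.stalkMap x').hom) := by
  haveI := Groth.Agent.Lead.FibCons.lfp_fiber f (f x')
  have h1 := isReduced_stalk_of_isGeomReducedAt (κ := Y.residueField (f x'))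
    (f.fiberToSpecResidueField (f x')) (f.asFiber x') hG
  obtain ⟨γ, hγ, hk⟩ := Groth.Agent.Helper3.FibStalk.exists_fibre_presentation f x'
  have e := (Ideal.quotEquivOfEq hk.symm).trans (RingHom.quotientKerEquivOfSurjective hγ)
  exact isReduced_of_injective e.toRingHom e.injective

/-- S2567 -/
theorem S2567_main {X Y : Scheme.{u}} (f : X ⟶ Y) [Flat f] [LocallyOfFinitePresentation f]
    (x : X) (hy : FBase.IsReducedAt Y (f.base x))
    (hx : FBase.IsGeomReducedAt (f.fiberToSpecResidueField (f.base x)) (f.asFiber x)) :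
    FBase.IsReducedAt X x := by
  have hGopen := Groth.Agent.Lead.RkLoc.S2549_main f
  obtain ⟨_, ⟨V, hV, rfl⟩, hxV, -⟩ := Y.isBasis_affineOpens.exists_subset_of_mem_open
    (Set.mem_univ (f x)) isOpen_univ
  obtain ⟨_, ⟨W, hW, rfl⟩, hxW, hWsub⟩ := X.isBasis_affineOpens.exists_subset_of_mem_open
    (show x ∈ ((f ⁻¹ᵁ V : X.Opens) : Set X) ∩
      {x' | FBase.IsGeomReducedAt (f.fiberToSpecResidueField (f.base x')) (f.asFiber x')} from
      ⟨hxV, hx⟩) ((f ⁻¹ᵁ V).2.inter hGopen)
  have hWV : W ≤ f ⁻¹ᵁ V := fun z hz => (hWsub hz).1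
  have hWG : ∀ z ∈ W, FBase.IsGeomReducedAt (f.fiberToSpecResidueField (f.base z))
      (f.asFiber z) := fun z hz => (hWsub hz).2
  obtain ⟨φ, hφdef⟩ : ∃ φ : Γ(Y, V) →+* Γ(X, W), φ = (f.appLE V W hWV).hom := ⟨_, rfl⟩
  have hφ : φ.Flat := by
    rw [hφdef]
    exact HasRingHomProperty.appLE (P := @Flat) f inferInstance ⟨V, hV⟩ ⟨W, hW⟩ hWV
  have hPQ : (hV.primeIdealOf ⟨f x, hxV⟩).asIdeal = (hW.primeIdealOf ⟨x, hxW⟩).asIdeal.comap φ := by
    rw [hφdef]
    exact congr($(IsAffineOpen.comap_primeIdealOf_appLE V hV W hW hWV hxW).1).symm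
  have hR : IsReduced (Localization.AtPrime (hV.primeIdealOf ⟨f x, hxV⟩).asIdeal) := by
    letI := Y.presheaf.algebra_section_stalk ⟨f x, hxV⟩
    haveI := hV.isLocalization_stalk ⟨f x, hxV⟩
    let e := IsLocalization.algEquiv (hV.primeIdealOf ⟨f x, hxV⟩).asIdeal.primeCompl
      (Y.presheaf.stalk (f x)) (Localization.AtPrime (hV.primeIdealOf ⟨f x, hxV⟩).asIdeal)
    haveI : IsReduced (Y.presheaf.stalk (f x)) := hy
    exact isReduced_of_injective e.symm.toRingHom e.symm.injective
  have hfib : ∀ (Q' : Ideal Γ(X, W)) [Q'.IsPrime] (P' : Ideal Γ(Y, V)) [P'.IsPrime]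
      (h : P' = Q'.comap φ), Q' ≤ (hW.primeIdealOf ⟨x, hxW⟩).asIdeal →
      IsReduced (Localization.AtPrime Q' ⧸
        (maximalIdeal (Localization.AtPrime P')).map (Localization.localRingHom P' Q' φ h)) := by
    intro Q' _ P' _ h _
    subst hφdef
    obtain ⟨x', hx'⟩ : ∃ x' : W, hW.primeIdealOf x' = ⟨Q', inferInstance⟩ :=
      ⟨hW.isoSpec.inv ⟨Q', inferInstance⟩, by simp [IsAffineOpen.primeIdealOf]⟩
    have hQ' : Q' = (hW.primeIdealOf x').asIdeal := by rw [hx']
    subst hQ'
    have h0 : (hV.primeIdealOf ⟨f x'.1, hWV x'.2⟩).asIdeal =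
        (hW.primeIdealOf x').asIdeal.comap (f.appLE V W hWV).hom :=
      congr($(IsAffineOpen.comap_primeIdealOf_appLE V hV W hW hWV x'.2).1).symm
    obtain rfl : P' = (hV.primeIdealOf ⟨f x'.1, hWV x'.2⟩).asIdeal := h.trans h0.symm
    have e := IsAffineOpen.arrowStalkMapIso f V hV W hW hWV x'.2
    exact isReduced_quotient_of_arrowIso _ _ e (fibre_quotient_reduced f x'.1 (hWG _ x'.2))
  have hfinal := isReduced_atPrime_of_flat φ hφ (hW.primeIdealOf ⟨x, hxW⟩).asIdeal
    (hV.primeIdealOf ⟨f x, hxV⟩).asIdeal hPQ hR hfib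
  letI := X.presheaf.algebra_section_stalk ⟨x, hxW⟩
  haveI := hW.isLocalization_stalk ⟨x, hxW⟩
  let e := IsLocalization.algEquiv (hW.primeIdealOf ⟨x, hxW⟩).asIdeal.primeCompl
    (X.presheaf.stalk x) (Localization.AtPrime (hW.primeIdealOf ⟨x, hxW⟩).asIdeal)
  exact isReduced_of_injective e.toRingHom e.injective

end Groth.Agent.Lead.RedFlat
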