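import Mathlib
import Groth.Prelude.Def_EGA43
import Groth.Agent.Lib.Lead.Wt11

set_option autoImplicit false
set_option backward.isDefEq.respectTransparency.types false
set_option synthInstance.maxHeartbeats 400000
set_option linter.style.haveILetI false
set_option linter.unusedSectionVars false

universe u

open AlgebraicGeometry CategoryTheory Limits

namespace Groth.Agent.Lead.Wt

set_option maxHeartbeats 4000000 in
/-- Étale-local structure at a point with universally open fibre points, for the count of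
geometric points. -/
theorem exists_count_struct {X Y : Scheme.{u}} (f : X ⟶ Y) [LocallyQuasiFinite f]
    [LocallyOfFiniteType f] [IsSeparated f] (hfin : ∀ y : Y, (f ⁻¹' {y}).Finite) (y : Y)
    (hopen : ∀ x : X, f x = y → EGA43.IsUnivOpenAt f x) :
    ∃ (U : Scheme.{u}) (g : U ⟶ Y) (u : U), Etale g ∧ g u = y ∧
      ∃ (M : Set U) (T : Type u) (_ : Finite T) (O : T → (pullback f g).Opens),
        IsOpen M ∧ u ∈ M ∧ (∀ t, IsFinite ((O t).ι ≫ pullback.snd f g)) ∧
        (∀ v' ∈ M, ∀ t t', t ≠ t' →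
          Disjoint ((O t : Set ↑(pullback f g)) ∩ (pullback.snd f g) ⁻¹' {v'})
            ((O t' : Set ↑(pullback f g)) ∩ (pullback.snd f g) ⁻¹' {v'})) ∧
        (∀ v' ∈ M, sInt f Set.univ (fun _ => 1) y ≤ sInt f Set.univ (fun _ => 1) (g v') ∧
          (sInt f Set.univ (fun _ => 1) (g v') = sInt f Set.univ (fun _ => 1) y →
            (pullback.snd f g) ⁻¹' {v'} ⊆ ⋃ t, (O t : Set ↑(pullback f g)))) := by
  classical
  obtain ⟨U, g, u, hg, hgu, hpieces⟩ :=
    exists_pieces f y (f ⁻¹' {y}) (hfin y) (fun x hx => hx)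
  refine ⟨U, g, u, hg, hgu, ?_⟩
  have hpb : IsPullback (pullback.fst f g) (pullback.snd f g) f g := IsPullback.of_hasPullback f g
  have hbc : ∀ v' : U, ((pullback.snd f g) ⁻¹' {v'}).Finite ∧
      sInt (pullback.snd f g) Set.univ (fun _ => (1 : ℤ)) v' =
        sInt f Set.univ (fun _ => 1) (g v') := by
    intro v'
    have := sInt_baseChange hpb Set.univ (fun _ => (1 : ℤ)) v'
      ((hfin (g v')).subset Set.inter_subset_right)
    rw [Set.preimage_univ, Set.univ_inter] at this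
    exact this
  have hTfin : Finite {t : ↑(pullback f g) // pullback.snd f g t = u} := (hbc u).1.to_subtype
  have hfy : ∀ t : {t : ↑(pullback f g) // pullback.snd f g t = u},
      f (pullback.fst f g t.1) = y := fun t => by
    rw [← Scheme.Hom.comp_apply, pullback.condition, Scheme.Hom.comp_apply, t.2, hgu]
  have hch : ∀ t : {t : ↑(pullback f g) // pullback.snd f g t = u},
      ∃ O : (pullback f g).Opens, IsFinite (O.ι ≫ pullback.snd f g) ∧
        (O : Set ↑(pullback f g)) ∩ (pullback.snd f g) ⁻¹' {u} = {t.1} ∧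
        sdeg (pullback.snd f g) t.1 = 1 := fun t => hpieces t.1 t.2 (hfy t)
  choose O hOfin hOu hsd using hch
  have hOcl : ∀ t, IsClosed (O t : Set ↑(pullback f g)) := fun t =>
    Groth.Agent.Lib.Helper6.EtLoc.isClosed_of_isFinite (pullback.snd f g) (O t) (hOfin t)
  have hmemO : ∀ t, t.1 ∈ (O t : Set ↑(pullback f g)) := fun t => by
    have : t.1 ∈ (O t : Set ↑(pullback f g)) ∩ (pullback.snd f g) ⁻¹' {u} := by rw [hOu]; rfl
    exact this.1
  let Z : Set U := ⋃ (t : {t : ↑(pullback f g) // pullback.snd f g t = u}),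
    ⋃ (t' : {t' : {t : ↑(pullback f g) // pullback.snd f g t = u} // t ≠ t'}),
      pullback.snd f g '' ((O t : Set ↑(pullback f g)) ∩ (O t'.1 : Set ↑(pullback f g)))
  have hZcl : IsClosed Z := by
    refine isClosed_iUnion_of_finite fun t => isClosed_iUnion_of_finite fun t' => ?_
    exact isClosed_image_of_isFinite _ (O t) (hOfin t) _ (hOcl t'.1)
  have huZ : u ∉ Z := by
    intro hu
    simp only [Z, Set.mem_iUnion] at hu
    obtain ⟨t, ⟨t', ht'⟩, s, ⟨hs1, hs2⟩, hsu⟩ := hu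
    have e1 : s ∈ (O t : Set ↑(pullback f g)) ∩ (pullback.snd f g) ⁻¹' {u} := ⟨hs1, hsu⟩
    have e2 : s ∈ (O t' : Set ↑(pullback f g)) ∩ (pullback.snd f g) ⁻¹' {u} := ⟨hs2, hsu⟩
    rw [hOu] at e1 e2
    exact ht' (Subtype.ext (e1.symm.trans e2))
  -- openness at the fibre points
  have hN : ∀ t : {t : ↑(pullback f g) // pullback.snd f g t = u},
      ∃ N : Set U, IsOpen N ∧ u ∈ N ∧ N ⊆ pullback.snd f g '' (O t : Set ↑(pullback f g)) := by
    intro t
    have h1 := hopen _ (hfy t) U g t.1 rfl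
    have h2 : pullback.snd f g '' (O t : Set ↑(pullback f g)) ∈ nhds (pullback.snd f g t.1) :=
      h1 _ ((O t).2.mem_nhds (hmemO t))
    rw [t.2] at h2
    obtain ⟨N, hN1, hN2, hN3⟩ := mem_nhds_iff.mp h2
    exact ⟨N, hN2, hN3, hN1⟩
  choose N hNo huN hNsub using hN
  have hdisj : ∀ v' ∈ Zᶜ, ∀ t t', t ≠ t' →
      Disjoint ((O t : Set ↑(pullback f g)) ∩ (pullback.snd f g) ⁻¹' {v'})
        ((O t' : Set ↑(pullback f g)) ∩ (pullback.snd f g) ⁻¹' {v'}) := by
    intro v' hv' t t' htt'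
    rw [Set.disjoint_left]
    rintro s ⟨hs1, hs2⟩ ⟨hs3, _⟩
    apply hv'
    simp only [Z, Set.mem_iUnion]
    exact ⟨t, ⟨t', htt'⟩, s, ⟨hs1, hs3⟩, hs2⟩
  refine ⟨Zᶜ ∩ ⋂ t, N t, {t : ↑(pullback f g) // pullback.snd f g t = u}, hTfin, O,
    hZcl.isOpen_compl.inter (isOpen_iInter_of_finite hNo), ⟨huZ, Set.mem_iInter.mpr huN⟩, hOfin,
    fun v' hv' => hdisj v' hv'.1, ?_⟩
  intro v' hv'
  haveI := Fintype.ofFinite {t : ↑(pullback f g) // pullback.snd f g t = u}
  -- value at `u`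
  have hu1 : ∀ t, sInt (pullback.snd f g) (O t : Set ↑(pullback f g)) (fun _ => (1 : ℤ)) u = 1 :=
    fun t => by rw [sInt_eq_single _ _ _ _ t.1 (hOu t), hsd t]; simp
  have hv1 : ∀ t, 1 ≤ sInt (pullback.snd f g) (O t : Set ↑(pullback f g))
      (fun _ => (1 : ℤ)) v' := by
    intro t
    obtain ⟨s, hs1, hs2⟩ := hNsub t (Set.mem_iInter.mp hv'.2 t)
    exact le_sInt_of_pos (pullback.snd f g) (O t : Set ↑(pullback f g)) (fun _ => (1 : ℤ))
      (fun _ => one_pos) v' (finite_fibre_of_isFinite _ (O t) (hOfin t) v') s ⟨hs1, hs2⟩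
  have h1 : sInt (pullback.snd f g) Set.univ (fun _ => (1 : ℤ)) u =
      sInt (pullback.snd f g) (⋃ t, (O t : Set ↑(pullback f g))) (fun _ => (1 : ℤ)) u := by
    apply sInt_congr_set
    ext s
    constructor
    · rintro ⟨_, hs⟩
      exact ⟨Set.mem_iUnion.mpr ⟨⟨s, hs⟩, hmemO ⟨s, hs⟩⟩, hs⟩
    · rintro ⟨_, hs⟩
      exact ⟨trivial, hs⟩
  have hy : sInt f Set.univ (fun _ => (1 : ℤ)) y = sInt f Set.univ (fun _ => 1) (g u) := by
    rw [hgu]
  have h3 : sInt f Set.univ (fun _ => (1 : ℤ)) y ≤ sInt (pullback.snd f g)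
      (⋃ t, (O t : Set ↑(pullback f g))) (fun _ => (1 : ℤ)) v' := by
    rw [hy, ← (hbc u).2, h1,
      sInt_iUnion _ _ _ u (hdisj u huZ) (fun t => finite_fibre_of_isFinite _ (O t) (hOfin t) u),
      sInt_iUnion _ _ _ v' (hdisj v' hv'.1)
      (fun t => finite_fibre_of_isFinite _ (O t) (hOfin t) v'),
      finsum_eq_sum_of_fintype, finsum_eq_sum_of_fintype]
    exact Finset.sum_le_sum fun t _ => by rw [hu1 t]; exact hv1 t
  rw [← (hbc v').2]
  refine ⟨?_, ?_⟩
  · refine le_trans h3 ?_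
    apply sInt_mono_of_pos _ _ (fun _ => one_pos) v'
    · rw [Set.univ_inter]; exact (hbc v').1
    · intro s hs
      exact ⟨trivial, hs.2⟩
  · intro heq s hs
    by_contra hsO
    have := sInt_lt_of_pos (pullback.snd f g) (S := ⋃ t, (O t : Set ↑(pullback f g)))
      (S' := Set.univ) (fun _ => (1 : ℤ)) (fun _ => one_pos) v'
      (by rw [Set.univ_inter]; exact (hbc v').1) (fun s hs => ⟨trivial, hs.2⟩) s ⟨trivial, hs⟩ hsO
    omega

end Groth.Agent.Lead.Wt
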