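import Mathlib
import Groth.Prelude.Def_EGA43
import Groth.Agent.Lib.Lead.Wt12
import Groth.Agent.Lib.Lead.Wt10

set_option autoImplicit false
set_option backward.isDefEq.respectTransparency.types false
set_option synthInstance.maxHeartbeats 400000
set_option linter.style.haveILetI false
set_option linter.unusedSectionVars false

universe u

open AlgebraicGeometry CategoryTheory Limits

namespace Groth.Agent.Lead.Wt

theorem finite_fibres_of_qc {X Y : Scheme.{u}} (f : X ⟶ Y) [LocallyQuasiFinite f]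
    [QuasiCompact f] (y : Y) : (f ⁻¹' {y}).Finite :=
  Scheme.Hom.finite_preimage_singleton f y

theorem nGeomConnComp_le_iff {X Y : Scheme.{u}} (f : X ⟶ Y) [LocallyQuasiFinite f]
    (hfin : ∀ y : Y, (f ⁻¹' {y}).Finite) (y z : Y) :
    MoreMor.nGeomConnComp f y ≤ MoreMor.nGeomConnComp f z ↔
      sInt f Set.univ (fun _ => 1) y ≤ sInt f Set.univ (fun _ => 1) z := by
  obtain ⟨m, hm1, hm2⟩ := nGeomConnComp_eq_sInt f y (hfin y)
  obtain ⟨n, hn1, hn2⟩ := nGeomConnComp_eq_sInt f z (hfin z)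
  rw [hm1, hn1, hm2, hn2]
  simp

theorem nGeomConnComp_eq_iff {X Y : Scheme.{u}} (f : X ⟶ Y) [LocallyQuasiFinite f]
    (hfin : ∀ y : Y, (f ⁻¹' {y}).Finite) (y z : Y) :
    MoreMor.nGeomConnComp f y = MoreMor.nGeomConnComp f z ↔
      sInt f Set.univ (fun _ => 1) y = sInt f Set.univ (fun _ => 1) z := by
  obtain ⟨m, hm1, hm2⟩ := nGeomConnComp_eq_sInt f y (hfin y)
  obtain ⟨n, hn1, hn2⟩ := nGeomConnComp_eq_sInt f z (hfin z)
  rw [hm1, hn1, hm2, hn2]
  simp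

set_option maxHeartbeats 1000000 in
theorem S3411_main {X Y : Scheme.{u}} (f : X ⟶ Y)
    [IsSeparated f] [LocallyQuasiFinite f] [LocallyOfFiniteType f]
    (hfin : ∀ y : Y, (f ⁻¹' {y}).Finite) (y : Y)
    (h : ∀ x : X, f x = y → EGA43.IsUnivOpenAt f x) :
    ∃ V ∈ nhds y, ∀ z ∈ V, MoreMor.nGeomConnComp f y ≤ MoreMor.nGeomConnComp f z := by
  obtain ⟨U, g, u, hg, hgu, M, T, hT, O, hMo, huM, hOfin, hdisj, hcount⟩ :=
    exists_count_struct f hfin y h
  refine ⟨g '' M, ?_, ?_⟩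
  · rw [← hgu]
    exact (g.isOpenMap _ hMo).mem_nhds ⟨u, huM, rfl⟩
  · rintro z ⟨v', hv', rfl⟩
    rw [nGeomConnComp_le_iff f hfin]
    exact (hcount v' hv').1

set_option maxHeartbeats 1000000 in
theorem S3412_main {X Y : Scheme.{u}} (f : X ⟶ Y)
    [IsSeparated f] [LocallyQuasiFinite f] [LocallyOfFiniteType f]
    (hfin : ∀ y : Y, (f ⁻¹' {y}).Finite) (y : Y)
    (h : ∀ x : X, f x = y → EGA43.IsUnivOpenAt f x)
    (hc : ∃ V ∈ nhds y, ∀ z ∈ V, MoreMor.nGeomConnComp f z = MoreMor.nGeomConnComp f y) :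
    ∃ U : Y.Opens, y ∈ U ∧ IsFinite (f ∣_ U) := by
  obtain ⟨U, g, u, hg, hgu, M, T, hT, O, hMo, huM, hOfin, hdisj, hcount⟩ :=
    exists_count_struct f hfin y h
  obtain ⟨V, hV, hVc⟩ := hc
  obtain ⟨V₀, hV₀V, hV₀o, hyV₀⟩ := mem_nhds_iff.mp hV
  let M' : U.Opens := ⟨M ∩ g ⁻¹' V₀, hMo.inter (hV₀o.preimage g.continuous)⟩
  have hM'M : ∀ v' ∈ M', v' ∈ M := fun v' hv' => hv'.1
  have hfinM : IsFinite ((pullback.snd f g) ∣_ M') := by
    refine isFinite_restrict_of_cover (pullback.snd f g) M' O hOfin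
      (fun v' hv' => hdisj v' (hM'M v' hv')) ?_
    intro v' hv'
    refine (hcount v' (hM'M v' hv')).2 ?_
    rw [← nGeomConnComp_eq_iff f hfin]
    exact hVc _ (hV₀V hv'.2)
  let B : Y.Opens := ⟨g '' (M' : Set U), g.isOpenMap _ M'.2⟩
  refine ⟨B, ⟨u, ⟨huM, ?_⟩, hgu⟩, isFinite_restrict_of_etale_cover f g M' B rfl hfinM⟩
  change g u ∈ V₀
  rw [hgu]
  exact hyV₀

end Groth.Agent.Lead.Wt

namespace Groth.Agent.Lead.Wt

theorem isUnivOpenAt_of_universallyOpen {X Y : Scheme.{u}} (f : X ⟶ Y) [UniversallyOpen f]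
    (x : X) : EGA43.IsUnivOpenAt f x := by
  intro Y' g x' _
  intro s hs
  exact (pullback.snd f g).isOpenMap.image_mem_nhds hs

end Groth.Agent.Lead.Wt
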