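import Mathlib

set_option autoImplicit false
set_option linter.style.haveILetI false
set_option linter.unusedSectionVars false

/-! Eakin–Nagata (Formanek's proof): a ring over which a Noetherian ring is a finite faithful
module is Noetherian. -/

namespace Groth.Agent.Lib.Lead.EakinNagata

open Submodule

section Module

variable {B : Type*} [CommRing B] {M : Type*} [AddCommGroup M] [Module B M]

variable (B M) in
/-- the image of multiplication by `b`. -/
abbrev mulRange (b : B) : Submodule B M := LinearMap.range (LinearMap.lsmul B M b)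

theorem smul_mem_mulRange (b : B) (m : M) : b • m ∈ mulRange B M b := ⟨m, rfl⟩

theorem mulRange_le_iff (b : B) (N : Submodule B M) : mulRange B M b ≤ N ↔ ∀ m : M, b • m ∈ N := by
  constructor
  · intro h m
    exact h (smul_mem_mulRange b m)
  · rintro h _ ⟨m, rfl⟩
    exact h m

theorem mulRange_eq_span_smul (b : B) :
    mulRange B M b = (Ideal.span {b} : Ideal B) • (⊤ : Submodule B M) := by
  apply le_antisymm
  · rw [mulRange_le_iff]
    intro m
    exact Submodule.smul_mem_smul (Ideal.mem_span_singleton_self b) mem_top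
  · rw [Submodule.smul_le]
    intro r hr n _
    obtain ⟨c, rfl⟩ := Ideal.mem_span_singleton'.1 hr
    rw [mul_comm, mul_smul]
    exact smul_mem_mulRange b (c • n)

theorem mulRange_fg [Module.Finite B M] (b : B) : (mulRange B M b).FG := by
  rw [mulRange, LinearMap.range_eq_map]
  exact (Module.Finite.fg_top).map _

theorem noeth_of_forall [Module.Finite B M]
    (h : ∀ s : Submodule B M, s ≠ ⊥ → ∃ b : B, mulRange B M b ≤ s ∧
      IsNoetherian B (M ⧸ mulRange B M b)) : IsNoetherian B M := by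
  rw [isNoetherian_def]
  intro s
  by_cases hs : s = ⊥
  · rw [hs]
    exact Submodule.fg_bot
  obtain ⟨b, hb, hN⟩ := h s hs
  apply Submodule.fg_of_fg_map_of_fg_inf_ker (mulRange B M b).mkQ
  · exact IsNoetherian.noetherian _
  · rw [Submodule.ker_mkQ, inf_eq_right.2 hb]
    exact mulRange_fg b

theorem exists_annihilator_noeth [Module.Finite B M] [IsNoetherian B M] :
    ∃ 𝔞 : Submodule B B, (∀ b : B, b ∈ 𝔞 ↔ ∀ m : M, b • m = 0) ∧ IsNoetherian B (B ⧸ 𝔞) := by
  obtain ⟨n, y, hy⟩ := Module.Finite.exists_fin (R := B) (M := M)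
  let ψ : B →ₗ[B] (Fin n → M) := LinearMap.pi (fun j => LinearMap.toSpanSingleton B M (y j))
  refine ⟨LinearMap.ker ψ, ?_, ?_⟩
  · intro b
    rw [LinearMap.mem_ker]
    constructor
    · intro h m
      have hm : m ∈ span B (Set.range y) := by rw [hy]; exact mem_top
      induction hm using Submodule.span_induction with
      | mem x hx =>
        obtain ⟨j, rfl⟩ := hx
        have := congrFun h j
        simpa [ψ] using this
      | zero => simp
      | add x z _ _ hx hz => rw [smul_add, hx, hz, add_zero]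
      | smul c x _ hx => rw [smul_comm, hx, smul_zero]
    · intro h
      funext j
      simp [ψ, h (y j)]
  · exact isNoetherian_of_linearEquiv (LinearMap.quotKerEquivRange ψ).symm

theorem noeth_of_annihilated [Module.Finite B M] (𝔞 : Submodule B B)
    (h𝔞 : ∀ b ∈ 𝔞, ∀ m : M, b • m = 0) [IsNoetherian B (B ⧸ 𝔞)] : IsNoetherian B M := by
  obtain ⟨k, x, hx⟩ := Module.Finite.exists_fin (R := B) (M := M)
  let φ : Fin k → ((B ⧸ 𝔞) →ₗ[B] M) := fun i =>
    𝔞.liftQ (LinearMap.toSpanSingleton B M (x i)) (by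
      intro b hb
      rw [LinearMap.mem_ker, LinearMap.toSpanSingleton_apply]
      exact h𝔞 b hb (x i))
  let Φ : (Fin k → B ⧸ 𝔞) →ₗ[B] M := ∑ i, (φ i).comp (LinearMap.proj i)
  have hΦ : ∀ i, Φ (Pi.single i (Submodule.Quotient.mk 1)) = x i := by
    intro i
    simp only [Φ, LinearMap.sum_apply, LinearMap.comp_apply, LinearMap.proj_apply]
    rw [Finset.sum_eq_single i]
    · rw [Pi.single_eq_same]
      show (𝔞.liftQ (LinearMap.toSpanSingleton B M (x i)) _) (Submodule.Quotient.mk 1) = x i
      rw [Submodule.liftQ_apply, LinearMap.toSpanSingleton_apply, one_smul]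
    · intro j _ hji
      rw [Pi.single_eq_of_ne hji, map_zero]
    · intro h
      exact absurd (Finset.mem_univ i) h
  have hsurj : LinearMap.range Φ = ⊤ := by
    rw [eq_top_iff, ← hx, span_le]
    rintro _ ⟨i, rfl⟩
    exact ⟨_, hΦ i⟩
  exact isNoetherian_of_surjective Φ hsurj

/-- Formanek's theorem: a finitely generated module with ACC on the submodules `I • M`
is Noetherian. -/
theorem isNoetherian_of_acc [Module.Finite B M]
    (hACC : ∀ S : Set (Ideal B), S.Nonempty → ∃ I ∈ S, ∀ J ∈ S,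
      I • (⊤ : Submodule B M) ≤ J • (⊤ : Submodule B M) →
      J • (⊤ : Submodule B M) ≤ I • (⊤ : Submodule B M)) : IsNoetherian B M := by
  by_contra hM
  let S : Set (Ideal B) := {I | ¬ IsNoetherian B (M ⧸ (I • (⊤ : Submodule B M)))}
  have hS : S.Nonempty := by
    refine ⟨⊥, ?_⟩
    show ¬ IsNoetherian B (M ⧸ ((⊥ : Ideal B) • (⊤ : Submodule B M)))
    intro h
    apply hM
    exact isNoetherian_of_linearEquiv
      (Submodule.quotEquivOfEqBot ((⊥ : Ideal B) • (⊤ : Submodule B M)) (Submodule.bot_smul _))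
  obtain ⟨I₀, hI₀, hmax⟩ := hACC S hS
  set N₁ : Submodule B M := I₀ • (⊤ : Submodule B M) with hN₁
  have h1 : ∀ J : Ideal B, ¬ (J • (⊤ : Submodule B M) ≤ N₁) →
      IsNoetherian B (M ⧸ (J • (⊤ : Submodule B M) ⊔ N₁)) := by
    intro J hJ
    by_contra hcon
    have hmem : (J ⊔ I₀) ∈ S := by
      show ¬ IsNoetherian B (M ⧸ ((J ⊔ I₀) • (⊤ : Submodule B M)))
      rwa [Submodule.sup_smul]
    have h2 := hmax (J ⊔ I₀) hmem (by rw [Submodule.sup_smul]; exact le_sup_right)
    apply hJ
    rw [Submodule.sup_smul] at h2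
    exact le_trans le_sup_left h2
  -- Zorn
  let Γ : Set (Submodule B M) :=
    {N | N₁ ≤ N ∧ ∀ b : B, mulRange B M b ≤ N → mulRange B M b ≤ N₁}
  have hΓ₁ : N₁ ∈ Γ := ⟨le_rfl, fun _ h => h⟩
  obtain ⟨N₂, hN₁₂, hN₂⟩ := zorn_le_nonempty₀ Γ (by
    intro c hcΓ hc y hy
    refine ⟨sSup c, ⟨?_, ?_⟩, fun z hz => le_sSup hz⟩
    · exact le_trans (hcΓ hy).1 (le_sSup hy)
    · intro b hb
      have hcomp := (Submodule.fg_iff_compact (mulRange B M b)).1 (mulRange_fg b)
      rw [CompleteLattice.isCompactElement_iff_le_of_directed_sSup_le] at hcomp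
      obtain ⟨N, hN, hle⟩ := hcomp c ⟨y, hy⟩ hc.directedOn hb
      exact (hcΓ hN).2 b hle) N₁ hΓ₁
  -- `M ⧸ N₂` is Noetherian
  have hN₂noeth : IsNoetherian B (M ⧸ N₂) := by
    apply noeth_of_forall
    intro s hs
    set N : Submodule B M := s.comap N₂.mkQ with hN
    have hN₂N : N₂ ≤ N := by
      intro x hx
      show N₂.mkQ x ∈ s
      rw [Submodule.mkQ_apply, (Submodule.Quotient.mk_eq_zero N₂).2 hx]
      exact zero_mem s
    have hNΓ : N ∉ Γ := by
      intro hmem
      have hle : N ≤ N₂ := hN₂.2 hmem hN₂N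
      apply hs
      rw [eq_bot_iff]
      intro z hz
      obtain ⟨m, rfl⟩ := Submodule.mkQ_surjective N₂ z
      have : m ∈ N₂ := hle hz
      rw [Submodule.mem_bot]
      exact (Submodule.Quotient.mk_eq_zero N₂).2 this
    have : ∃ b : B, mulRange B M b ≤ N ∧ ¬ mulRange B M b ≤ N₁ := by
      by_contra hcon
      apply hNΓ
      refine ⟨le_trans hN₁₂ hN₂N, fun b hb => ?_⟩
      by_contra hb'
      exact hcon ⟨b, hb, hb'⟩
    obtain ⟨b, hbN, hbN₁⟩ := this
    refine ⟨b, ?_, ?_⟩
    · rw [mulRange_le_iff]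
      intro z
      obtain ⟨m, rfl⟩ := Submodule.mkQ_surjective N₂ z
      have : b • m ∈ N := hbN (smul_mem_mulRange b m)
      exact this
    · have hJ : ¬ ((Ideal.span {b} : Ideal B) • (⊤ : Submodule B M) ≤ N₁) := by
        rwa [← mulRange_eq_span_smul]
      haveI := h1 _ hJ
      have hle : (Ideal.span {b} : Ideal B) • (⊤ : Submodule B M) ⊔ N₁ ≤
          (mulRange B (M ⧸ N₂) b).comap N₂.mkQ := by
        rw [← mulRange_eq_span_smul]
        apply sup_le
        · rw [mulRange_le_iff]
          intro m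
          show N₂.mkQ (b • m) ∈ mulRange B (M ⧸ N₂) b
          rw [map_smul]
          exact smul_mem_mulRange b _
        · intro x hx
          show N₂.mkQ x ∈ mulRange B (M ⧸ N₂) b
          rw [Submodule.mkQ_apply, (Submodule.Quotient.mk_eq_zero N₂).2 (hN₁₂ hx)]
          exact zero_mem _
      let g := Submodule.mapQ _ (mulRange B (M ⧸ N₂) b) N₂.mkQ hle
      have hg : LinearMap.range g = ⊤ := by
        rw [eq_top_iff]
        rintro z -
        obtain ⟨z', rfl⟩ := Submodule.mkQ_surjective _ z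
        obtain ⟨m, rfl⟩ := Submodule.mkQ_surjective N₂ z'
        exact ⟨Submodule.Quotient.mk m, rfl⟩
      exact isNoetherian_of_surjective g hg
  obtain ⟨𝔞, h𝔞, h𝔞n⟩ := exists_annihilator_noeth (B := B) (M := M ⧸ N₂)
  haveI := h𝔞n
  apply hI₀
  show IsNoetherian B (M ⧸ N₁)
  apply noeth_of_annihilated 𝔞
  intro b hb z
  obtain ⟨m, rfl⟩ := Submodule.mkQ_surjective N₁ z
  have hbN₂ : mulRange B M b ≤ N₂ := by
    rw [mulRange_le_iff]
    intro m'
    have := (h𝔞 b).1 hb (Submodule.Quotient.mk m')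
    rw [← Submodule.Quotient.mk_smul] at this
    exact (Submodule.Quotient.mk_eq_zero N₂).1 this
  have hbN₁ := hN₂.1.2 b hbN₂
  show b • N₁.mkQ m = 0
  rw [← map_smul]
  exact (Submodule.Quotient.mk_eq_zero N₁).2 (hbN₁ (smul_mem_mulRange b m))

end Module

/-- **Eakin–Nagata**: if `A` is a Noetherian ring, finite as a module over a subring `B`,
then `B` is Noetherian. -/
theorem isNoetherianRing_of_finite {B A : Type*} [CommRing B] [CommRing A] [Algebra B A]
    [IsNoetherianRing A] [Module.Finite B A] (hinj : Function.Injective (algebraMap B A)) :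
    IsNoetherianRing B := by
  have hA : IsNoetherian B A := by
    apply isNoetherian_of_acc
    intro S hS
    obtain ⟨I', ⟨I, hI, rfl⟩, hmax⟩ := set_has_maximal_iff_noetherian.2
      (inferInstance : IsNoetherian A A) ((fun I : Ideal B => I.map (algebraMap B A)) '' S)
      (hS.image _)
    refine ⟨I, hI, fun J hJ hle => ?_⟩
    rw [Ideal.smul_top_eq_map, Ideal.smul_top_eq_map] at hle ⊢
    have h1 : I.map (algebraMap B A) ≤ J.map (algebraMap B A) := hle
    have h2 : J.map (algebraMap B A) ≤ I.map (algebraMap B A) := by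
      by_contra h
      exact hmax _ ⟨J, hJ, rfl⟩ (lt_of_le_not_ge h1 h)
    exact h2
  exact isNoetherian_of_injective (Algebra.linearMap B A) hinj

end Groth.Agent.Lib.Lead.EakinNagata
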