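import Mathlib
import Groth.Agent.Lib.Lead.Blow4

set_option autoImplicit false
set_option backward.isDefEq.respectTransparency.types false
set_option synthInstance.maxHeartbeats 400000
set_option linter.style.haveILetI false
set_option linter.unusedSectionVars false
universe u
open CategoryTheory CategoryTheory.Limits AlgebraicGeometry TopologicalSpace Opposite

namespace Groth.Agent.Lead.Blow

open Scheme.IdealSheafData Groth.Agent.Helper4

section Strict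

/-- an effective Cartier ideal cannot vanish on an affine open neighbourhood of a point -/
theorem false_of_ideal_eq_bot {Y : Scheme.{u}} (𝓙 : Y.IdealSheafData)
    (h𝓙 : BlowUp.IsEffCartierIdeal 𝓙) (W : Y.affineOpens) (y : Y) (hy : y ∈ W.1)
    (hW : 𝓙.ideal W = ⊥) : False := by
  obtain ⟨W', hyW', hW'W, t, ht, hI⟩ := EffCartier.shrink h𝓙 y W.1 hy
  have h1 := 𝓙.map_ideal (U := W') (V := W) hW'W
  rw [hW, Ideal.map_bot, hI] at h1
  have ht0 : t = 0 := by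
    have : t ∈ (⊥ : Ideal Γ(Y, W'.1)) := by rw [h1]; exact Ideal.subset_span rfl
    simpa using this
  rw [ht0] at ht
  haveI : Nontrivial Γ(Y, W'.1) :=
    RingHom.domain_nontrivial (Y.presheaf.germ W'.1 y hyW').hom
  exact zero_notMem_nonZeroDivisors ht

theorem appLE_appLE_eq_zero {X X' Yt : Scheme.{u}} (𝓘 : X.IdealSheafData) (b : X' ⟶ X)
    (b' : Yt ⟶ 𝓘.subscheme) (k : Yt ⟶ X') (hk : k ≫ b = b' ≫ 𝓘.subschemeι)
    (V : X.affineOpens) (s : Γ(X, V.1)) (hs : s ∈ 𝓘.ideal V)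
    (V' : X'.Opens) (hV' : V' ≤ b ⁻¹ᵁ V.1) (W : Yt.Opens) (hW : W ≤ k ⁻¹ᵁ V') :
    (k.appLE V' W hW).hom ((b.appLE V.1 V' hV').hom s) = 0 := by
  rw [← CommRingCat.comp_apply, Scheme.Hom.appLE_comp_appLE]
  have e1 : ∀ (f : Yt ⟶ X) (hf : f = b' ≫ 𝓘.subschemeι) (e : W ≤ f ⁻¹ᵁ V.1),
      (f.appLE V.1 W e).hom s = 0 := by
    intro f hf e
    subst hf
    rw [Scheme.Hom.comp_appLE, CommRingCat.comp_apply]
    have : (𝓘.subschemeι.app V.1).hom s = 0 := by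
      have h2 := 𝓘.ker_subschemeι_app V
      rw [← h2] at hs
      exact hs
    rw [this, map_zero]
  exact e1 _ hk _

theorem exists_cofactor_not_mem {R : Type*} [CommRing R] (t : R) (ht : t ∈ nonZeroDivisors R)
    {ι : Type*} (M : ι → Ideal R) (hM : ⨆ i, M i = Ideal.span {t}) (p : Ideal R) [p.IsPrime] :
    ∃ i, ∃ s ∈ M i, ∃ c, s = c * t ∧ c ∉ p := by
  by_contra H
  have H' : ∀ i, ∀ s ∈ M i, ∀ c, s = c * t → c ∈ p := by
    intro i s hs c hc
    by_contra hcp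
    exact H ⟨i, s, hs, c, hc, hcp⟩
  have hle : ⨆ i, M i ≤ p * Ideal.span {t} := by
    apply iSup_le
    intro i s hs
    have hs' : s ∈ Ideal.span {t} := by rw [← hM]; exact (le_iSup M i) hs
    obtain ⟨c, hc⟩ := Ideal.mem_span_singleton'.mp hs'
    rw [← hc]
    exact Ideal.mul_mem_mul (H' i s hs c hc.symm) (Ideal.mem_span_singleton_self t)
  have htm : t ∈ p * Ideal.span {t} := hle (by rw [hM]; exact Ideal.mem_span_singleton_self t)
  obtain ⟨c, hcp, hct⟩ := Ideal.mem_mul_span_singleton.mp htm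
  have hc1 : c = 1 := by
    have : c * t = 1 * t := by rw [one_mul]; exact hct
    exact (mul_cancel_right_mem_nonZeroDivisors ht).mp this
  rw [hc1] at hcp
  exact (Ideal.IsPrime.ne_top ‹_›) ((Ideal.eq_top_iff_one _).mpr hcp)

theorem ideal_ne_span_of_strict {X X' Yt : Scheme.{u}} (𝓘 𝓚 : X.IdealSheafData) (b : X' ⟶ X)
    (b' : Yt ⟶ 𝓘.subscheme) (hb' : BlowUp.IsEffCartierIdeal ((𝓚.comap 𝓘.subschemeι).comap b'))
    (k : Yt ⟶ X') (hk : k ≫ b = b' ≫ 𝓘.subschemeι)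
    (V : X.affineOpens) (s : Γ(X, V.1)) (hs : s ∈ 𝓘.ideal V)
    (V' : X'.affineOpens) (hV' : V'.1 ≤ b ⁻¹ᵁ V.1)
    (hmeet : (Set.range (fun y => k y) ∩ (V'.1 : Set X')).Nonempty) :
    (𝓚.comap b).ideal V' ≠ Ideal.span {(b.appLE V.1 V'.1 hV').hom s} := by
  intro heq
  obtain ⟨_, ⟨y, rfl⟩, hyV'⟩ := hmeet
  have hyk : y ∈ k ⁻¹ᵁ V'.1 := hyV'
  obtain ⟨W, hW, hyW, hWk⟩ := Opens.isBasis_iff_nbhd.mp (Yt.isBasis_affineOpens) hyk
  have hC : BlowUp.IsEffCartierIdeal ((𝓚.comap b).comap k) := by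
    rw [← comap_comp, hk, comap_comp]
    exact hb'
  apply false_of_ideal_eq_bot _ hC ⟨W, hW⟩ y hyW
  rw [IdealComap.ideal_comap_eq_map k (𝓚.comap b) ⟨W, hW⟩ V' hWk, heq, Ideal.map_span,
    Set.image_singleton]
  have hzero : (k.appLE V'.1 W hWk).hom ((b.appLE V.1 V'.1 hV').hom s) = 0 :=
    appLE_appLE_eq_zero 𝓘 b b' k hk V s hs V'.1 hV' W hWk
  rw [hzero]
  simp

theorem iInter_range_eq_empty
    {X X' : Scheme.{u}} {n : ℕ} (𝓙 : Fin n → X.IdealSheafData) (b : X' ⟶ X)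
    (hb : BlowUp.IsEffCartierIdeal ((⨆ i, 𝓙 i).comap b))
    (Y' : Fin n → Scheme.{u}) (b' : ∀ i, Y' i ⟶ (𝓙 i).subscheme)
    (hb' : ∀ i, BlowUp.IsEffCartierIdeal (((⨆ j, 𝓙 j).comap (𝓙 i).subschemeι).comap (b' i)))
    (k : ∀ i, Y' i ⟶ X') (hk : ∀ i, k i ≫ b = b' i ≫ (𝓙 i).subschemeι) :
    (⋂ i, Set.range (fun y => k i y)) = (∅ : Set X') := by
  rw [Set.eq_empty_iff_forall_notMem]
  intro x' hx'
  rw [Set.mem_iInter] at hx'
  -- affine neighbourhoods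
  obtain ⟨V, hV, hbxV, -⟩ := Opens.isBasis_iff_nbhd.mp (X.isBasis_affineOpens)
    (show b x' ∈ (⊤ : X.Opens) from trivial)
  have hx'V : x' ∈ b ⁻¹ᵁ V := hbxV
  obtain ⟨V', hx'V', hV'V, t, ht, hI⟩ := EffCartier.shrink hb x' (b ⁻¹ᵁ V) hx'V
  let φ := (b.appLE V V'.1 hV'V).hom
  have hsup : ⨆ i, Ideal.map φ ((𝓙 i).ideal ⟨V, hV⟩) = Ideal.span {t} := by
    rw [← hI, IdealComap.ideal_comap_eq_map b _ V' ⟨V, hV⟩ hV'V, ideal_iSup, iSup_apply,
      Ideal.map_iSup]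
  let p : Ideal Γ(X', V'.1) := RingHom.ker (X'.evaluation V'.1 x' hx'V').hom
  haveI : p.IsPrime := RingHom.ker_isPrime _
  obtain ⟨i, s, hs, c, hsc, hcp⟩ := exists_cofactor_not_mem t ht _ hsup p
  have hxc : x' ∈ X'.basicOpen c := by
    rw [← Scheme.evaluation_ne_zero_iff_mem_basicOpen X' x' hx'V']
    exact hcp
  obtain ⟨y, hy⟩ := hx' i
  have hy' : k i y = x' := hy
  have hyk : y ∈ (k i) ⁻¹ᵁ V'.1 := by
    change k i y ∈ V'.1
    rw [hy']; exact hx'V'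
  obtain ⟨W, hW, hyW, hWk⟩ := Opens.isBasis_iff_nbhd.mp ((Y' i).isBasis_affineOpens) hyk
  let ψ := ((k i).appLE V'.1 W hWk).hom
  -- ψ kills the image of 𝓙 i
  have hkill : ∀ z ∈ Ideal.map φ ((𝓙 i).ideal ⟨V, hV⟩), ψ z = 0 := by
    have : Ideal.map φ ((𝓙 i).ideal ⟨V, hV⟩) ≤ RingHom.ker ψ := by
      rw [Ideal.map_le_iff_le_comap]
      intro g hg
      rw [Ideal.mem_comap, RingHom.mem_ker]
      exact appLE_appLE_eq_zero (𝓙 i) b (b' i) (k i) (hk i) ⟨V, hV⟩ g hg V'.1 hV'V W hWk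
    intro z hz
    exact RingHom.mem_ker.mp (this hz)
  have hψ : ψ c * ψ t = 0 := by
    rw [← map_mul, ← hsc]
    exact hkill s hs
  -- the basic open of ψ c
  let Wc : (Y' i).affineOpens := (Y' i).affineBasicOpen (ψ c) (U := ⟨W, hW⟩)
  have hyWc : y ∈ (Y' i).basicOpen (ψ c) := by
    have h1 : (Y' i).basicOpen (ψ c) = W ⊓ (k i) ⁻¹ᵁ (X'.basicOpen c) := by
      change (Y' i).basicOpen (((k i).app V'.1 ≫ (Y' i).presheaf.map (homOfLE hWk).op).hom c) = _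
      rw [CommRingCat.comp_apply]
      erw [Scheme.basicOpen_res]
      rw [Scheme.preimage_basicOpen]
    rw [h1]
    refine ⟨hyW, ?_⟩
    change k i y ∈ X'.basicOpen c
    rw [hy']; exact hxc
  have hC : BlowUp.IsEffCartierIdeal (((⨆ j, 𝓙 j).comap b).comap (k i)) := by
    rw [← comap_comp, hk i, comap_comp]
    exact hb' i
  apply false_of_ideal_eq_bot _ hC Wc y hyWc
  have hle : ((Y' i).basicOpen (ψ c)) ≤ W := (Y' i).basicOpen_le _
  have h2 := (((⨆ j, 𝓙 j).comap b).comap (k i)).map_ideal (U := Wc) (V := ⟨W, hW⟩) hle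
  rw [← h2, IdealComap.ideal_comap_eq_map (k i) _ ⟨W, hW⟩ V' hWk, hI, Ideal.map_span,
    Set.image_singleton, Ideal.map_span, Set.image_singleton, Ideal.span_singleton_eq_bot]
  -- the restriction of ψ c is a unit
  let res := ((Y' i).presheaf.map (homOfLE hle).op).hom
  have hunit : IsUnit (res (ψ c)) := by
    have hloc := (show IsAffineOpen W from hW).isLocalization_basicOpen (ψ c)
    exact IsLocalization.Away.algebraMap_isUnit (ψ c)
  have h3 : res (ψ c) * res (ψ t) = 0 := by rw [← map_mul, hψ, map_zero]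
  exact (hunit.mul_right_eq_zero).mp h3

end Strict

end Groth.Agent.Lead.Blow
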