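import Mathlib
import Groth.Prelude.Def_Coh
import Groth.Agent.Lib.Lead.DescBij
import Groth.Agent.Lib.Lead.BCU3
import Groth.Agent.Lib.Helper1.FinPush
import Groth.Agent.Lib.Helper1.FtLocal
import Groth.Agent.Lib.Helper1.CohRestr

/-!
# Descent of finite type for quasi-coherent modules along fpqc morphisms (lead)
-/

set_option autoImplicit false
set_option backward.isDefEq.respectTransparency.types false
set_option linter.style.haveILetI false
set_option linter.unusedSectionVars false
universe u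
open TensorProduct CategoryTheory CategoryTheory.Limits AlgebraicGeometry TopologicalSpace

namespace Groth.Agent.Lead.FtDesc

section Family

variable {R : Type u} [CommRing R] {ι : Type*} [Finite ι] (B : ι → Type u) [∀ i, CommRing (B i)]
  [∀ i, Algebra R (B i)] [∀ i, Module.Flat R (B i)]
  (hsurj : ∀ 𝔪 : Ideal R, 𝔪.IsPrime → ∃ i, Ideal.map (algebraMap R (B i)) 𝔪 ≠ ⊤)

include hsurj in
/-- finiteness of a module descends along a finite jointly surjective flat family -/
theorem finite_of_family_tensor {M : Type u} [AddCommGroup M] [Module R M]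
    (h : ∀ i, Module.Finite (B i) (B i ⊗[R] M)) : Module.Finite R M := by
  classical
  have h1 : ∀ i, ∃ F : Finset M, ∀ N : Submodule R M, (F : Set M) ⊆ N →
      ∀ z : B i ⊗[R] M, (N.mkQ.lTensor (B i)) z = 0 := by
    intro i
    haveI := h i
    obtain ⟨n, s, hs⟩ := Module.Finite.exists_fin (R := B i) (M := B i ⊗[R] M)
    choose k t m hm using fun a : Fin n ↦ TensorProduct.exists_sum_tmul_eq (s a)
    refine ⟨Finset.univ.biUnion (fun a : Fin n => Finset.univ.image (fun j : Fin (k a) => m a j)),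
      fun N hN z => ?_⟩
    have hz : z ∈ Submodule.span (B i) (Set.range s) := by rw [hs]; trivial
    have hlin : ∀ (b : B i) (w : B i ⊗[R] M),
        (N.mkQ.lTensor (B i)) (b • w) = b • (N.mkQ.lTensor (B i)) w := by
      intro b w
      induction w with
      | zero => simp
      | add x y hx hy => rw [smul_add, map_add, map_add, smul_add, hx, hy]
      | tmul c x => simp [TensorProduct.smul_tmul']
    induction hz using Submodule.span_induction with
    | mem x hx =>
      obtain ⟨a, rfl⟩ := hx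
      rw [hm a, map_sum]
      refine Finset.sum_eq_zero fun j _ => ?_
      rw [LinearMap.lTensor_tmul]
      have : m a j ∈ N := hN (by
        simp only [Finset.coe_biUnion, Finset.coe_univ, Set.mem_univ, Set.iUnion_true,
          Finset.coe_image, Set.image_univ, Set.mem_iUnion, Set.mem_range]
        exact ⟨a, j, rfl⟩)
      rw [Submodule.mkQ_apply, (Submodule.Quotient.mk_eq_zero N).2 this, tmul_zero]
    | zero => simp
    | add x y _ _ hx hy => rw [map_add, hx, hy, add_zero]
    | smul b x _ hx => rw [hlin, hx, smul_zero]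
  choose F hF using h1
  haveI := Fintype.ofFinite ι
  let N : Submodule R M := Submodule.span R (↑(Finset.univ.biUnion F) : Set M)
  have hN : N = ⊤ := by
    rw [eq_top_iff]
    intro x _
    have : N.mkQ x = 0 := by
      apply Groth.Agent.Lead.DescBij.eq_zero_of_family B hsurj
      intro i
      have := hF i N (fun y hy => Submodule.subset_span (by
        simp only [Finset.coe_biUnion, Finset.coe_univ, Set.mem_univ, Set.iUnion_true,
          Set.mem_iUnion]
        exact ⟨i, hy⟩)) ((1 : B i) ⊗ₜ[R] x)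
      rwa [LinearMap.lTensor_tmul] at this
    rwa [Submodule.mkQ_apply, Submodule.Quotient.mk_eq_zero] at this
  refine ⟨⟨Finset.univ.biUnion F, ?_⟩⟩
  exact hN

end Family

section BC

open Groth.Agent.Lead.BCU

theorem finite_tensor_of_isBC {A A' : Type u} [CommRing A] [CommRing A'] (φ : A →+* A')
    {M N : Type u} [AddCommGroup M] [Module A M] [AddCommGroup N] [Module A' N]
    {l : M → N} (h : IsBC φ l) [Module.Finite A' N] :
    letI := φ.toAlgebra
    Module.Finite A' (A' ⊗[A] M) := by
  letI := φ.toAlgebra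
  letI : Module A N := Module.compHom N φ
  haveI : IsScalarTower A A' N := ⟨fun a a' n => by
    change (φ a * a') • n = φ a • a' • n
    exact mul_smul _ _ _⟩
  obtain ⟨l', _, hb⟩ := h
  exact Module.Finite.equiv hb.equiv.symm

end BC

section Geo

variable {X Y : Scheme.{u}} (f : Y ⟶ X)

open Groth.Agent.Lead.BCU

/-- **finite type descends along fpqc morphisms**: if `f` is flat, surjective and quasi-compact, `P`
is quasi-coherent and `f^* P` is quasi-coherent of finite type, then `P` is of finite type -/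
theorem isFiniteType_of_pullback [QuasiCompact f] [Flat f] [Surjective f] (P : X.Modules)
    [P.IsQuasicoherent] (hcoh : Coh.IsCoh ((Scheme.Modules.pullback f).obj P)) :
    SheafOfModules.IsFiniteType.{u, u, u} P := by
  refine Groth.Agent.Helper1.FinPush.isFiniteType_of_finite_sections P fun V hV => ?_
  let J := {W : Y.Opens // IsAffineOpen W ∧ W ≤ f ⁻¹ᵁ V}
  have hcomp : IsCompact ((f ⁻¹ᵁ V : Y.Opens) : Set Y) := f.isCompact_preimage hV.isCompact
  obtain ⟨T, hT⟩ := hcomp.elim_finite_subcover (fun j : J => (j.1 : Set Y))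
    (fun j => j.1.2) (fun y' hy' => by
      obtain ⟨_, ⟨W, hW, rfl⟩, hyW, hle⟩ :=
        Y.isBasis_affineOpens.exists_subset_of_mem_open hy' (f ⁻¹ᵁ V).2
      exact Set.mem_iUnion.2 ⟨⟨W, hW, hle⟩, hyW⟩)
  have hcovT : ∀ y'' : Y, y'' ∈ f ⁻¹ᵁ V → ∃ j ∈ T, y'' ∈ j.1 := by
    intro y'' hy''
    have := hT hy''
    simp only [Set.mem_iUnion] at this
    obtain ⟨j, hjT, hj⟩ := this
    exact ⟨j, hjT, hj⟩
  let ι := {j : J // j ∈ T}
  letI algB : ∀ i : ι, Algebra Γ(X, V) Γ(Y, i.1.1) := fun i =>
    (f.appLE V i.1.1 i.1.2.2).hom.toAlgebra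
  haveI flB : ∀ i : ι, Module.Flat Γ(X, V) Γ(Y, i.1.1) := fun i =>
    f.flat_appLE hV i.1.2.1 i.1.2.2
  have hsurj : ∀ 𝔪 : Ideal Γ(X, V), 𝔪.IsPrime →
      ∃ i : ι, Ideal.map (algebraMap Γ(X, V) Γ(Y, i.1.1)) 𝔪 ≠ ⊤ := by
    intro 𝔪 h𝔪
    let p : PrimeSpectrum Γ(X, V) := ⟨𝔪, h𝔪⟩
    let y₁ : V := hV.isoSpec.inv.base p
    have hy₁ : hV.primeIdealOf y₁ = p := by
      change hV.isoSpec.hom.base (hV.isoSpec.inv.base p) = p
      rw [← Scheme.Hom.comp_apply, Iso.inv_hom_id]
      rfl
    obtain ⟨y'', hy''⟩ := f.surjective y₁.1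
    have hy''V : y'' ∈ f ⁻¹ᵁ V := by
      show f y'' ∈ V
      rw [hy'']
      exact y₁.2
    obtain ⟨j, hjT, hyj⟩ := hcovT y'' hy''V
    refine ⟨⟨j, hjT⟩, ?_⟩
    show Ideal.map (f.appLE V j.1 j.2.2).hom 𝔪 ≠ ⊤
    have hcm := IsAffineOpen.comap_primeIdealOf_appLE (f := f) (x := y'') V hV j.1 j.2.1 j.2.2 hyj
    intro htop
    have h1 : Ideal.map (f.appLE V j.1 j.2.2).hom 𝔪 ≤
        (j.2.1.primeIdealOf ⟨y'', hyj⟩).asIdeal := by
      rw [Ideal.map_le_iff_le_comap]
      have h3 : hV.primeIdealOf ⟨f y'', j.2.2 hyj⟩ = p := by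
        rw [← hy₁]
        congr 1
        exact Subtype.ext hy''
      have h2 := congrArg PrimeSpectrum.asIdeal (hcm.trans h3)
      exact le_of_eq h2.symm
    rw [htop] at h1
    exact (j.2.1.primeIdealOf ⟨y'', hyj⟩).isPrime.ne_top (top_le_iff.1 h1)
  refine finite_of_family_tensor (fun i : ι => Γ(Y, i.1.1)) hsurj (fun i => ?_)
  have hbc := isBC_unitRes f P hV i.1.2.1 i.1.2.2
  haveI hfin : Module.Finite Γ(Y, i.1.1) Γ((Scheme.Modules.pullback f).obj P, i.1.1) :=
    Groth.Agent.Helper1.FinPush.finite_sections _ hcoh i.1.2.1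
  exact finite_tensor_of_isBC _ hbc

end Geo

end Groth.Agent.Lead.FtDesc
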