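import Mathlib
import Groth.Prelude.Def_Coh
import Groth.Agent.Lib.Lead.FtDesc
import Groth.Agent.Lib.Helper1.QcAbel
import Groth.Agent.Lib.Helper1.QcExt
import Groth.Agent.Lib.Helper1.PushQc
import Groth.Agent.Lib.Helper1.QcPullGen
import Groth.Agent.Lib.Helper1.FtLocal
import Groth.Agent.Lib.Helper5.Stalk.FlatPull

/-!
# fpqc descent of a coherent submodule of the pullback (lead)
-/

set_option autoImplicit false
set_option linter.style.haveILetI false
universe u
open CategoryTheory CategoryTheory.Limits AlgebraicGeometry TopologicalSpace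

namespace Groth.Agent.Lead.FtDesc

open Groth.Agent.Helper1

variable {X : Scheme.{u}}

/-- a binary biproduct of quasi-coherent modules is quasi-coherent -/
theorem isQuasicoherent_biprod (A B : X.Modules) [A.IsQuasicoherent] [B.IsQuasicoherent] :
    (A ⊞ B).IsQuasicoherent := by
  let S : ShortComplex X.Modules := ShortComplex.mk (biprod.inl : A ⟶ A ⊞ B) biprod.snd
    biprod.inl_snd
  have hS : S.ShortExact := (ShortComplex.Splitting.ofHasBinaryBiproduct A B).shortExact
  have : S.X₁.IsQuasicoherent := ‹A.IsQuasicoherent›
  have : S.X₃.IsQuasicoherent := ‹B.IsQuasicoherent›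
  exact QcExt.isQuasicoherent_mid (S := S) hS

/-- a fibre product of quasi-coherent modules is quasi-coherent -/
theorem isQuasicoherent_pullback {A B C : X.Modules} (a : A ⟶ C) (b : B ⟶ C) [A.IsQuasicoherent]
    [B.IsQuasicoherent] [C.IsQuasicoherent] : (Limits.pullback a b).IsQuasicoherent := by
  haveI := isQuasicoherent_biprod A B
  haveI := QcAbel.isQuasicoherent_kernel (biprod.desc a (-b))
  let e : Limits.pullback a b ≅ kernel (biprod.desc a (-b)) :=
    IsLimit.conePointUniqueUpToIso
      (Abelian.PullbackToBiproductIsKernel.isLimitPullbackToBiproduct a b)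
      (limit.isLimit (parallelPair (biprod.desc a (-b)) 0))
  exact QcAbel.isQuasicoherent_of_iso e.symm

/-- **descent of a coherent submodule of a pullback along an fpqc morphism** -/
theorem s7502 {X Y : Scheme.{u}} (f : Y ⟶ X) [QuasiCompact f] [QuasiSeparated f] [Flat f]
    [Surjective f] [IsLocallyNoetherian X] [IsLocallyNoetherian Y] (F : X.Modules)
    (hF : Coh.IsQCoh F) (G : Y.Modules) (hG : Coh.IsCoh G)
    (φ : G ⟶ (Scheme.Modules.pullback f).obj F) [Mono φ] :
    Coh.IsCoh (Limits.pullback ((Scheme.Modules.pullbackPushforwardAdjunction f).unit.app F)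
      ((Scheme.Modules.pushforward f).map φ)) := by
  haveI : F.IsQuasicoherent := hF
  haveI : G.IsQuasicoherent := hG.1
  haveI h1 : ((Scheme.Modules.pullback f).obj F).IsQuasicoherent :=
    QcPullGen.isQuasicoherent_pullback f F
  haveI h2 : ((Scheme.Modules.pushforward f).obj G).IsQuasicoherent :=
    PushQc.isQuasicoherent_pushforward f G
  haveI h3 : ((Scheme.Modules.pushforward f).obj
      ((Scheme.Modules.pullback f).obj F)).IsQuasicoherent :=
    PushQc.isQuasicoherent_pushforward f _
  let adj := Scheme.Modules.pullbackPushforwardAdjunction f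
  let a : F ⟶ (Scheme.Modules.pushforward f).obj ((Scheme.Modules.pullback f).obj F) :=
    adj.unit.app F
  let b : (Scheme.Modules.pushforward f).obj G ⟶
      (Scheme.Modules.pushforward f).obj ((Scheme.Modules.pullback f).obj F) :=
    (Scheme.Modules.pushforward f).map φ
  change Coh.IsCoh (Limits.pullback a b)
  haveI hP : (Limits.pullback a b).IsQuasicoherent := isQuasicoherent_pullback a b
  refine ⟨hP, ?_⟩
  haveI : (Scheme.Modules.pushforward f).IsRightAdjoint := adj.isRightAdjoint
  haveI : Mono b := inferInstance
  haveI : Mono (pullback.fst a b) := inferInstance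
  let ψ : (Scheme.Modules.pullback f).obj (Limits.pullback a b) ⟶ G :=
    (Scheme.Modules.pullback f).map (pullback.snd a b) ≫ adj.counit.app G
  have hψ : ψ ≫ φ = (Scheme.Modules.pullback f).map (pullback.fst a b) := by
    calc ψ ≫ φ = (Scheme.Modules.pullback f).map (pullback.snd a b) ≫ adj.counit.app G ≫ φ := by
          simp only [ψ, Category.assoc]
      _ = (Scheme.Modules.pullback f).map (pullback.snd a b) ≫
            (Scheme.Modules.pullback f).map b ≫ adj.counit.app _ := by
          have hn : (Scheme.Modules.pullback f).map b ≫ adj.counit.app _ =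
              adj.counit.app G ≫ φ := adj.counit_naturality φ
          rw [hn]
      _ = (Scheme.Modules.pullback f).map (pullback.fst a b ≫ a) ≫ adj.counit.app _ := by
          rw [← Functor.map_comp_assoc, ← pullback.condition]
      _ = (Scheme.Modules.pullback f).map (pullback.fst a b) := by
          rw [Functor.map_comp, Category.assoc]
          have := adj.left_triangle_components F
          change _ ≫ (Scheme.Modules.pullback f).map (adj.unit.app F) ≫ _ = _
          rw [this]
          exact Category.comp_id _
  haveI : Mono ((Scheme.Modules.pullback f).map (pullback.fst a b)) := inferInstance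
  haveI : Mono (ψ ≫ φ) := by rw [hψ]; infer_instance
  haveI : Mono ψ := mono_of_mono ψ φ
  have hcoh : Coh.IsCoh ((Scheme.Modules.pullback f).obj (Limits.pullback a b)) :=
    FtLocal.isCoh_of_mono ψ hG (QcPullGen.isQuasicoherent_pullback f _)
  exact isFiniteType_of_pullback f _ hcoh

end Groth.Agent.Lead.FtDesc
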