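import Mathlib

/-!
# The content ideal of a linear map into a projective module and base change (lead)
-/

set_option autoImplicit false
set_option linter.unusedSectionVars false
universe u
open TensorProduct

namespace Groth.Agent.Lead.VanId

section Alg

variable {A : Type u} [CommRing A] {M N : Type u} [AddCommGroup M] [Module A M]
  [AddCommGroup N] [Module A N]

/-- the content ideal of a linear map: generated by the values of linear forms on the image -/
def content (v : M →ₗ[A] N) : Ideal A :=
  Ideal.span {a | ∃ (l : N →ₗ[A] A) (m : M), l (v m) = a}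

theorem mem_content (v : M →ₗ[A] N) (l : N →ₗ[A] A) (m : M) : l (v m) ∈ content v :=
  Ideal.subset_span ⟨l, m, rfl⟩

theorem content_le_iff (v : M →ₗ[A] N) (J : Ideal A) :
    content v ≤ J ↔ ∀ (l : N →ₗ[A] A) (m : M), l (v m) ∈ J := by
  constructor
  · intro h l m
    exact h (mem_content v l m)
  · intro h
    refine Ideal.span_le.2 ?_
    rintro a ⟨l, m, rfl⟩
    exact h l m

/-- dual basis expansion in a projective module -/
theorem exists_expansion (A : Type u) [CommRing A] (N : Type u) [AddCommGroup N] [Module A N]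
    [Module.Projective A N] :
    ∃ s : N →ₗ[A] (N →₀ A), ∀ n : N, n = ∑ x ∈ (s n).support, (s n) x • x := by
  obtain ⟨s, hs⟩ := (Module.projective_def'.1 (inferInstance : Module.Projective A N))
  refine ⟨s, fun n => ?_⟩
  have h := LinearMap.congr_fun hs n
  rw [LinearMap.comp_apply, Finsupp.linearCombination_apply, LinearMap.id_apply] at h
  exact h.symm

variable {B : Type u} [CommRing B] [Algebra A B] {M' N' : Type u} [AddCommGroup M'] [Module A M']
  [Module B M'] [IsScalarTower A B M'] [AddCommGroup N'] [Module A N'] [Module B N']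
  [IsScalarTower A B N']

theorem map_expansion [Module.Projective A N] (lF : N →ₗ[A] N') :
    ∃ s : N →ₗ[A] (N →₀ A), ∀ n : N,
      lF n = ∑ x ∈ (s n).support, algebraMap A B ((s n) x) • lF x := by
  obtain ⟨s, hs⟩ := exists_expansion A N
  refine ⟨s, fun n => ?_⟩
  have h := congrArg lF (hs n)
  rw [map_sum] at h
  rw [h]
  refine Finset.sum_congr rfl (fun x _ => ?_)
  rw [map_smul, algebraMap_smul]

theorem apply_mem_of_proj [Module.Projective A N] (lF : N →ₗ[A] N') (J : Ideal A)
    (l' : N' →ₗ[B] B) (n : N) (hn : ∀ l : N →ₗ[A] A, l n ∈ J) :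
    l' (lF n) ∈ J.map (algebraMap A B) := by
  obtain ⟨s, hs⟩ := map_expansion (B := B) lF
  rw [hs n, map_sum]
  refine Ideal.sum_mem _ (fun x _ => ?_)
  rw [map_smul, smul_eq_mul]
  exact Ideal.mul_mem_right _ _ (Ideal.mem_map_of_mem _ (hn ((Finsupp.lapply x).comp s)))

theorem lF_eq_zero [Module.Projective A N] (lF : N →ₗ[A] N') (n : N)
    (hn : ∀ l : N →ₗ[A] A, algebraMap A B (l n) = 0) : lF n = 0 := by
  obtain ⟨s, hs⟩ := map_expansion (B := B) lF
  rw [hs n]
  refine Finset.sum_eq_zero (fun x _ => ?_)
  have h := hn ((Finsupp.lapply x).comp s)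
  rw [LinearMap.comp_apply, Finsupp.lapply_apply] at h
  rw [h, zero_smul]

/-- **the content ideal commutes with base change** -/
theorem content_map [Module.Projective A N] (lE : M →ₗ[A] M') (lF : N →ₗ[A] N')
    (hE : IsBaseChange B lE) (hF : IsBaseChange B lF) (v : M →ₗ[A] N) (v' : M' →ₗ[B] N')
    (hc : ∀ m, v' (lE m) = lF (v m)) :
    content v' = (content v).map (algebraMap A B) := by
  apply le_antisymm
  · rw [content_le_iff]
    intro l' m'
    refine hE.inductionOn m' (fun m' => l' (v' m') ∈ (content v).map (algebraMap A B)) ?_ ?_ ?_ ?_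
    · rw [map_zero, map_zero]
      exact Ideal.zero_mem _
    · intro m
      rw [hc]
      exact apply_mem_of_proj lF _ l' (v m) (fun l => mem_content v l m)
    · intro b m' h
      rw [map_smul, map_smul, smul_eq_mul]
      exact Ideal.mul_mem_left _ _ h
    · intro m₁ m₂ h₁ h₂
      rw [map_add, map_add]
      exact Ideal.add_mem _ h₁ h₂
  · rw [Ideal.map_le_iff_le_comap, content_le_iff]
    intro l m
    rw [Ideal.mem_comap]
    let g : N →ₗ[A] B := (Algebra.linearMap A B).comp l
    have h1 : hF.lift g (lF (v m)) = algebraMap A B (l (v m)) := hF.lift_eq g (v m)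
    rw [← h1, ← hc]
    exact mem_content v' (hF.lift g) (lE m)

/-- **the base change of a map into a projective module vanishes iff the content ideal dies** -/
theorem zero_iff [Module.Projective A N] (lE : M →ₗ[A] M') (lF : N →ₗ[A] N')
    (hE : IsBaseChange B lE) (hF : IsBaseChange B lF) (v : M →ₗ[A] N) (v' : M' →ₗ[B] N')
    (hc : ∀ m, v' (lE m) = lF (v m)) :
    v' = 0 ↔ content v ≤ RingHom.ker (algebraMap A B) := by
  constructor
  · intro h0
    rw [content_le_iff]
    intro l m
    rw [RingHom.mem_ker]
    let g : N →ₗ[A] B := (Algebra.linearMap A B).comp l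
    have h1 : hF.lift g (lF (v m)) = algebraMap A B (l (v m)) := hF.lift_eq g (v m)
    rw [← h1, ← hc, h0, LinearMap.zero_apply, map_zero]
  · intro hle
    ext m'
    rw [LinearMap.zero_apply]
    refine hE.inductionOn m' (fun m' => v' m' = 0) ?_ ?_ ?_ ?_
    · exact map_zero _
    · intro m
      rw [hc]
      exact lF_eq_zero lF (v m) (fun l => hle (mem_content v l m))
    · intro b m' h
      rw [map_smul, h, smul_zero]
    · intro m₁ m₂ h₁ h₂
      rw [map_add, h₁, h₂, add_zero]

end Alg

end Groth.Agent.Lead.VanId
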