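import Mathlib
import Groth.Agent.Lib.Lead.VanId1

/-!
# More on content ideals: generation instead of base change for the source (lead)
-/

set_option autoImplicit false
set_option linter.unusedSectionVars false
set_option linter.style.haveILetI false
universe u
open TensorProduct

namespace Groth.Agent.Lead.VanId

section Alg

variable {A : Type u} [CommRing A] {M N : Type u} [AddCommGroup M] [Module A M]
  [AddCommGroup N] [Module A N]
  {B : Type u} [CommRing B] [Algebra A B] {M' N' : Type u} [AddCommGroup M'] [Module A M']
  [Module B M'] [IsScalarTower A B M'] [AddCommGroup N'] [Module A N'] [Module B N']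
  [IsScalarTower A B N']

/-- the content ideal commutes with base change of the target when the new source is generated
by the old one -/
theorem content_map' [Module.Projective A N] (lE : M →ₗ[A] M') (lF : N →ₗ[A] N')
    (hE : Submodule.span B (Set.range lE) = ⊤) (hF : IsBaseChange B lF) (v : M →ₗ[A] N)
    (v' : M' →ₗ[B] N') (hc : ∀ m, v' (lE m) = lF (v m)) :
    content v' = (content v).map (algebraMap A B) := by
  apply le_antisymm
  · rw [content_le_iff]
    intro l' m'
    have hm' : m' ∈ Submodule.span B (Set.range lE) := by rw [hE]; trivial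
    induction hm' using Submodule.span_induction with
    | mem x hx =>
      obtain ⟨m, rfl⟩ := hx
      rw [hc]
      exact apply_mem_of_proj lF _ l' (v m) (fun l => mem_content v l m)
    | zero =>
      rw [map_zero, map_zero]
      exact Ideal.zero_mem _
    | add x y _ _ hx hy =>
      rw [map_add, map_add]
      exact Ideal.add_mem _ hx hy
    | smul b x _ hx =>
      rw [map_smul, map_smul, smul_eq_mul]
      exact Ideal.mul_mem_left _ _ hx
  · rw [Ideal.map_le_iff_le_comap, content_le_iff]
    intro l m
    rw [Ideal.mem_comap]
    let g : N →ₗ[A] B := (Algebra.linearMap A B).comp l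
    have h1 : hF.lift g (lF (v m)) = algebraMap A B (l (v m)) := hF.lift_eq g (v m)
    rw [← h1, ← hc]
    exact mem_content v' (hF.lift g) (lE m)

/-- the composite with a base change of the target vanishes iff the content ideal dies -/
theorem comp_zero_iff [Module.Projective A N] (lF : N →ₗ[A] N') (hF : IsBaseChange B lF)
    (v : M →ₗ[A] N) :
    (∀ m, lF (v m) = 0) ↔ content v ≤ RingHom.ker (algebraMap A B) := by
  constructor
  · intro h0
    rw [content_le_iff]
    intro l m
    rw [RingHom.mem_ker]
    let g : N →ₗ[A] B := (Algebra.linearMap A B).comp l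
    have h1 : hF.lift g (lF (v m)) = algebraMap A B (l (v m)) := hF.lift_eq g (v m)
    rw [← h1, h0, map_zero]
  · intro hle m
    exact lF_eq_zero lF (v m) (fun l => hle (mem_content v l m))

end Alg

section Rings

open CategoryTheory

variable {A B C R : Type u} [CommRing A] [CommRing B] [CommRing C] [CommRing R]

/-- the content ideal in `A` of an ideal of an `A`-algebra `B` (given by a ring homomorphism) -/
noncomputable def cont (φ : A →+* B) (I : Ideal B) : Ideal A :=
  letI := φ.toAlgebra
  content ((Submodule.subtype I).restrictScalars A)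

variable (φ : A →+* B) (γ : A →+* C) (β : B →+* R) (ρ : C →+* R)
  (hpo : IsPushout (CommRingCat.ofHom φ) (CommRingCat.ofHom γ) (CommRingCat.ofHom β)
    (CommRingCat.ofHom ρ))
  (hproj : letI := φ.toAlgebra; Module.Projective A B) (I : Ideal B)

include hpo hproj in
/-- over a pushout square with `B` projective over `A`, the ideal `I` dies in the pushout iff its
content ideal dies in `C` -/
theorem map_eq_bot_iff : I.map β = ⊥ ↔ cont φ I ≤ RingHom.ker γ := by
  have comm : β.comp φ = ρ.comp γ := by
    have := hpo.w
    exact congrArg CommRingCat.Hom.hom this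
  letI : Algebra A B := φ.toAlgebra
  letI : Algebra A C := γ.toAlgebra
  letI : Algebra B R := β.toAlgebra
  letI : Algebra C R := ρ.toAlgebra
  letI : Algebra A R := (β.comp φ).toAlgebra
  haveI : IsScalarTower A B R := IsScalarTower.of_algebraMap_eq' rfl
  haveI : IsScalarTower A C R := IsScalarTower.of_algebraMap_eq' comm
  haveI hP : Algebra.IsPushout A C B R := CommRingCat.isPushout_iff_isPushout.1 hpo.flip
  haveI : Module.Projective A B := hproj
  have hb : IsBaseChange C (IsScalarTower.toAlgHom A B R).toLinearMap := hP.out
  have key := comp_zero_iff (IsScalarTower.toAlgHom A B R).toLinearMap hb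
    ((Submodule.subtype I).restrictScalars A)
  rw [Ideal.map_eq_bot_iff_le_ker]
  refine Iff.trans ?_ key
  constructor
  · intro h m
    exact h m.2
  · intro h x hx
    exact h ⟨x, hx⟩

include hpo hproj in
/-- the content ideal of the extended ideal in a pushout square -/
theorem cont_map : cont ρ (I.map β) = (cont φ I).map γ := by
  have comm : β.comp φ = ρ.comp γ := by
    have := hpo.w
    exact congrArg CommRingCat.Hom.hom this
  letI : Algebra A B := φ.toAlgebra
  letI : Algebra A C := γ.toAlgebra
  letI : Algebra B R := β.toAlgebra
  letI : Algebra C R := ρ.toAlgebra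
  letI : Algebra A R := (β.comp φ).toAlgebra
  haveI : IsScalarTower A B R := IsScalarTower.of_algebraMap_eq' rfl
  haveI : IsScalarTower A C R := IsScalarTower.of_algebraMap_eq' comm
  haveI hP : Algebra.IsPushout A C B R := CommRingCat.isPushout_iff_isPushout.1 hpo.flip
  haveI : Module.Projective A B := hproj
  have hb : IsBaseChange C (IsScalarTower.toAlgHom A B R).toLinearMap := hP.out
  let lE : ↥I →ₗ[A] ↥(I.map β) :=
    { toFun := fun k => ⟨β k.1, Ideal.mem_map_of_mem β k.2⟩
      map_add' := fun x y => Subtype.ext (map_add β x.1 y.1)
      map_smul' := fun a x => Subtype.ext (by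
        change β (φ a * x.1) = (β.comp φ) a * β x.1
        rw [map_mul]; rfl) }
  have hE : Submodule.span C (Set.range lE) = ⊤ := by
    rw [eq_top_iff]
    rintro ⟨x, hx⟩ -
    -- every element of `I.map β` is a `C`-combination of images of elements of `I`
    have key : ∀ y ∈ I.map β, ∀ hy : y ∈ I.map β,
        (⟨y, hy⟩ : ↥(I.map β)) ∈ Submodule.span C (Set.range lE) := by
      intro y hy0
      induction hy0 using Submodule.span_induction with
      | mem z hz =>
        intro hy
        obtain ⟨k, hk, rfl⟩ := hz
        exact Submodule.subset_span ⟨⟨k, hk⟩, rfl⟩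
      | zero =>
        intro hy
        exact Submodule.zero_mem _
      | add y z hy1 hz1 ihy ihz =>
        intro hy
        have h1 : (⟨y + z, hy⟩ : ↥(I.map β)) = ⟨y, hy1⟩ + ⟨z, hz1⟩ := rfl
        rw [h1]
        exact Submodule.add_mem _ (ihy hy1) (ihz hz1)
      | smul r y hy1 ihy =>
        intro hy
        have ih := ihy hy1
        -- multiplication by `r` preserves the span
        refine hb.inductionOn r (fun r => ∀ hr : r • y ∈ I.map β,
          (⟨r • y, hr⟩ : ↥(I.map β)) ∈ Submodule.span C (Set.range lE)) ?_ ?_ ?_ ?_ hy
        · intro hr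
          have : (⟨(0 : R) • y, hr⟩ : ↥(I.map β)) = 0 := Subtype.ext (zero_smul _ _)
          rw [this]
          exact Submodule.zero_mem _
        · intro b hr
          -- `β b • y`
          have h2 : ∀ w ∈ Submodule.span C (Set.range lE),
              (⟨β b * w.1, Ideal.mul_mem_left _ _ w.2⟩ : ↥(I.map β)) ∈
                Submodule.span C (Set.range lE) := by
            intro w hw
            induction hw using Submodule.span_induction with
            | mem z hz =>
              obtain ⟨k, rfl⟩ := hz
              refine Submodule.subset_span ⟨⟨b * k.1, I.mul_mem_left b k.2⟩, ?_⟩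
              exact Subtype.ext (map_mul β b k.1)
            | zero =>
              have : (⟨β b * (0 : ↥(I.map β)).1, Ideal.mul_mem_left _ _ (0 : ↥(I.map β)).2⟩ :
                  ↥(I.map β)) = 0 := Subtype.ext (mul_zero _)
              rw [this]
              exact Submodule.zero_mem _
            | add w₁ w₂ _ _ h₁ h₂ =>
              have : (⟨β b * (w₁ + w₂).1, Ideal.mul_mem_left _ _ (w₁ + w₂).2⟩ : ↥(I.map β)) =
                  ⟨β b * w₁.1, Ideal.mul_mem_left _ _ w₁.2⟩ +
                    ⟨β b * w₂.1, Ideal.mul_mem_left _ _ w₂.2⟩ := Subtype.ext (mul_add _ _ _)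
              rw [this]
              exact Submodule.add_mem _ h₁ h₂
            | smul c w _ h₁ =>
              have : (⟨β b * (c • w).1, Ideal.mul_mem_left _ _ (c • w).2⟩ : ↥(I.map β)) =
                  c • ⟨β b * w.1, Ideal.mul_mem_left _ _ w.2⟩ := by
                apply Subtype.ext
                change β b * (ρ c * w.1) = ρ c * (β b * w.1)
                ring
              rw [this]
              exact Submodule.smul_mem _ c h₁
          exact h2 ⟨y, hy1⟩ ih
        · intro c r' ihr hr
          have hr' : r' • y ∈ I.map β := Ideal.mul_mem_left _ _ hy1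
          have : (⟨(c • r') • y, hr⟩ : ↥(I.map β)) = c • ⟨r' • y, hr'⟩ := by
            apply Subtype.ext
            change (ρ c * r') * y = ρ c * (r' * y)
            ring
          rw [this]
          exact Submodule.smul_mem _ c (ihr hr')
        · intro r₁ r₂ ih₁ ih₂ hr
          have hr₁ : r₁ • y ∈ I.map β := Ideal.mul_mem_left _ _ hy1
          have hr₂ : r₂ • y ∈ I.map β := Ideal.mul_mem_left _ _ hy1
          have : (⟨(r₁ + r₂) • y, hr⟩ : ↥(I.map β)) = ⟨r₁ • y, hr₁⟩ + ⟨r₂ • y, hr₂⟩ :=
            Subtype.ext (add_smul _ _ _)
          rw [this]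
          exact Submodule.add_mem _ (ih₁ hr₁) (ih₂ hr₂)
    exact key x hx hx
  exact content_map' lE (IsScalarTower.toAlgHom A B R).toLinearMap hE hb
    ((Submodule.subtype I).restrictScalars A) ((Submodule.subtype (I.map β)).restrictScalars C)
    (fun m => rfl)

end Rings

end Groth.Agent.Lead.VanId
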