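import Mathlib
import Groth.Agent.Lib.Lead.LeLocus1
import Groth.Agent.Lib.Helper4.IdealComap

/-!
# The closed locus over which an ideal on a finite locally free scheme vanishes (lead)
-/

set_option backward.isDefEq.respectTransparency.types false
set_option synthInstance.maxHeartbeats 400000
set_option autoImplicit false
set_option linter.unusedSectionVars false
set_option linter.style.haveILetI false

universe u
open CategoryTheory CategoryTheory.Limits AlgebraicGeometry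

namespace Groth.Agent.Lead.LeLocus

open Groth.Agent.Lead.VanId

variable {D S : Scheme.{u}} (h : D ⟶ S) [IsFinite h] [Flat h] [LocallyOfFinitePresentation h]

/-- sections of a finite locally free morphism over an affine open are projective -/
theorem projective_app {U : S.Opens} (hU : IsAffineOpen U) :
    letI := (h.appLE U (h ⁻¹ᵁ U) le_rfl).hom.toAlgebra
    Module.Projective Γ(S, U) Γ(D, h ⁻¹ᵁ U) := by
  letI := (h.appLE U (h ⁻¹ᵁ U) le_rfl).hom.toAlgebra
  have hU' : IsAffineOpen (h ⁻¹ᵁ U) := hU.preimage h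
  have hfin : (h.appLE U (h ⁻¹ᵁ U) le_rfl).hom.Finite := by
    rw [Scheme.Hom.appLE_eq_app]
    exact IsFinite.finite_app h U hU
  have hfl : (h.appLE U (h ⁻¹ᵁ U) le_rfl).hom.Flat :=
    HasRingHomProperty.appLE (P := @Flat) h inferInstance ⟨U, hU⟩ ⟨_, hU'⟩ le_rfl
  have hfp : (h.appLE U (h ⁻¹ᵁ U) le_rfl).hom.FinitePresentation :=
    HasRingHomProperty.appLE (P := @LocallyOfFinitePresentation) h inferInstance ⟨U, hU⟩
      ⟨_, hU'⟩ le_rfl
  haveI : Module.Finite Γ(S, U) Γ(D, h ⁻¹ᵁ U) := hfin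
  haveI : Module.Flat Γ(S, U) Γ(D, h ⁻¹ᵁ U) := hfl
  haveI : Algebra.FinitePresentation Γ(S, U) Γ(D, h ⁻¹ᵁ U) := hfp
  haveI : Module.FinitePresentation Γ(S, U) Γ(D, h ⁻¹ᵁ U) :=
    Module.FinitePresentation.of_finite_of_finitePresentation _ _
  exact Module.Flat.projective_of_finitePresentation

variable (K : D.IdealSheafData)

section Local

variable {h}
variable {T Y : Scheme.{u}} {g : T ⟶ S} {q : Y ⟶ D} {r : Y ⟶ T} (H : IsPullback q r h g)
  {U : S.Opens} (hU : IsAffineOpen U) {V : T.Opens} (hV : IsAffineOpen V) (e : V ≤ g ⁻¹ᵁ U)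
  {W : Y.Opens} (hW : W = q ⁻¹ᵁ (h ⁻¹ᵁ U) ⊓ r ⁻¹ᵁ V)

include H hU hV e hW in
theorem isAffineOpen_W : IsAffineOpen W := by
  have : IsAffine _ := hU
  have : IsAffine _ := hV
  have : IsAffine _ := hU.preimage h
  exact .of_isIso (Scheme.Hom.isPullback_resLE H e (le_refl (h ⁻¹ᵁ U)) hW).isoPullback.hom

include hW in
theorem W_le_q : W ≤ q ⁻¹ᵁ (h ⁻¹ᵁ U) := hW ▸ inf_le_left

include hW in
theorem W_le_r : W ≤ r ⁻¹ᵁ V := hW ▸ inf_le_right

include H hU hV e hW in
theorem isPushout_W :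
    IsPushout (h.appLE U (h ⁻¹ᵁ U) le_rfl) (g.appLE U V e)
      (q.appLE (h ⁻¹ᵁ U) W (W_le_q hW)) (r.appLE V W (W_le_r hW)) :=
  (isIso_pushoutSection_iff H e (le_refl (h ⁻¹ᵁ U)) hW).1
    (isIso_pushoutSection_of_isAffineOpen H e (le_refl (h ⁻¹ᵁ U)) hW hU hV (hU.preimage h))

include H hU hV e hW in
/-- the local vanishing criterion -/
theorem comap_ideal_eq_bot_iff :
    (K.comap q).ideal ⟨W, isAffineOpen_W H hU hV e hW⟩ = ⊥ ↔
      cont (h.appLE U (h ⁻¹ᵁ U) le_rfl).hom (K.ideal ⟨h ⁻¹ᵁ U, hU.preimage h⟩) ≤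
        RingHom.ker (g.appLE U V e).hom := by
  rw [Groth.Agent.Helper4.IdealComap.ideal_comap_eq_map q K ⟨W, isAffineOpen_W H hU hV e hW⟩
    ⟨h ⁻¹ᵁ U, hU.preimage h⟩ (W_le_q hW)]
  exact map_eq_bot_iff (h.appLE U (h ⁻¹ᵁ U) le_rfl).hom (g.appLE U V e).hom
    (q.appLE (h ⁻¹ᵁ U) W (W_le_q hW)).hom (r.appLE V W (W_le_r hW)).hom
    (isPushout_W H hU hV e hW) (projective_app h hU) _

include H hU hV e hW in
/-- the content ideals are compatible with base change -/
theorem cont_comap_ideal :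
    cont (r.appLE V W (W_le_r hW)).hom ((K.comap q).ideal ⟨W, isAffineOpen_W H hU hV e hW⟩) =
      (cont (h.appLE U (h ⁻¹ᵁ U) le_rfl).hom (K.ideal ⟨h ⁻¹ᵁ U, hU.preimage h⟩)).map
        (g.appLE U V e).hom := by
  rw [Groth.Agent.Helper4.IdealComap.ideal_comap_eq_map q K ⟨W, isAffineOpen_W H hU hV e hW⟩
    ⟨h ⁻¹ᵁ U, hU.preimage h⟩ (W_le_q hW)]
  exact cont_map (h.appLE U (h ⁻¹ᵁ U) le_rfl).hom (g.appLE U V e).hom
    (q.appLE (h ⁻¹ᵁ U) W (W_le_q hW)).hom (r.appLE V W (W_le_r hW)).hom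
    (isPushout_W H hU hV e hW) (projective_app h hU) _

end Local

/-- the ideal sheaf of the closed locus of the base over which `K` vanishes -/
noncomputable def zIdeal : S.IdealSheafData where
  ideal U := cont (h.appLE U.1 (h ⁻¹ᵁ U.1) le_rfl).hom (K.ideal ⟨h ⁻¹ᵁ U.1, U.2.preimage h⟩)
  map_ideal_basicOpen U a := by
    have e : S.basicOpen a ≤ (𝟙 S) ⁻¹ᵁ U.1 := S.basicOpen_le a
    have hW : h ⁻¹ᵁ (S.basicOpen a) = (𝟙 D) ⁻¹ᵁ (h ⁻¹ᵁ U.1) ⊓ h ⁻¹ᵁ (S.basicOpen a) := by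
      refine (inf_eq_right.2 ?_).symm
      intro x hx
      exact S.basicOpen_le a hx
    have key := cont_comap_ideal K (IsPullback.id_horiz h) U.2 (U.2.basicOpen a) e hW
    have h1 : (𝟙 S : S ⟶ S).appLE U.1 (S.basicOpen a) e =
        S.presheaf.map (homOfLE (S.basicOpen_le a)).op := by
      simp only [Scheme.Hom.appLE, Scheme.Hom.id_app]
      exact Category.id_comp _
    rw [h1] at key
    rw [← key]
    have h2 : K.comap (𝟙 D) = K := Scheme.IdealSheafData.comap_id K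
    rw! [h2]
    rfl

theorem zIdeal_ideal (U : S.affineOpens) :
    (zIdeal h K).ideal U =
      cont (h.appLE U.1 (h ⁻¹ᵁ U.1) le_rfl).hom (K.ideal ⟨h ⁻¹ᵁ U.1, U.2.preimage h⟩) := rfl

/-- **the closed locus represents the vanishing of the pullbacks of `K`** -/
theorem factors_iff_comap_eq_bot {T : Scheme.{u}} (g : T ⟶ S) :
    (∃ t : T ⟶ (zIdeal h K).subscheme, t ≫ (zIdeal h K).subschemeι = g) ↔
      K.comap (pullback.fst h g) = ⊥ := by
  have h1 : (∃ t : T ⟶ (zIdeal h K).subscheme, t ≫ (zIdeal h K).subschemeι = g) ↔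
      zIdeal h K ≤ g.ker := by
    constructor
    · rintro ⟨t, rfl⟩
      calc zIdeal h K = (zIdeal h K).subschemeι.ker :=
            (Scheme.IdealSheafData.ker_subschemeι _).symm
        _ ≤ (t ≫ (zIdeal h K).subschemeι).ker := Scheme.Hom.le_ker_comp t _
    · intro hle
      exact ⟨g.toImage ≫ Scheme.IdealSheafData.inclusion hle, by
        rw [Category.assoc, Scheme.IdealSheafData.inclusion_subschemeι, Scheme.Hom.toImage_imageι]⟩
  rw [h1]
  have H := IsPullback.of_hasPullback h g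
  constructor
  · intro hle
    -- check on the affine opens `W` lying over pairs of affine opens
    let ι := {p : S.Opens × T.Opens // IsAffineOpen p.1 ∧ IsAffineOpen p.2 ∧ p.2 ≤ g ⁻¹ᵁ p.1}
    let Wf : ι → (pullback h g).Opens := fun p =>
      pullback.fst h g ⁻¹ᵁ (h ⁻¹ᵁ p.1.1) ⊓ pullback.snd h g ⁻¹ᵁ p.1.2
    have hWa : ∀ p : ι, IsAffineOpen (Wf p) := fun p =>
      isAffineOpen_W H p.2.1 p.2.2.1 p.2.2.2 rfl
    refine Scheme.IdealSheafData.ext_of_iSup_eq_top (fun p : ι => ⟨Wf p, hWa p⟩) ?_ ?_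
    · rw [eq_top_iff]
      intro y _
      obtain ⟨_, ⟨U, hU, rfl⟩, hyU, -⟩ := S.isBasis_affineOpens.exists_subset_of_mem_open
        (Set.mem_univ (g (pullback.snd h g y))) isOpen_univ
      obtain ⟨_, ⟨V, hV, rfl⟩, hyV, hVU⟩ := T.isBasis_affineOpens.exists_subset_of_mem_open
        (show pullback.snd h g y ∈ ((g ⁻¹ᵁ U : T.Opens) : Set T) from hyU) (g ⁻¹ᵁ U).2
      refine TopologicalSpace.Opens.mem_iSup.2 ⟨⟨(U, V), hU, hV, hVU⟩, ?_, hyV⟩
      change h (pullback.fst h g y) ∈ U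
      have hc := congrArg (fun φ : pullback h g ⟶ S => φ y) H.w
      have hc' : h (pullback.fst h g y) = g (pullback.snd h g y) := hc
      rw [hc']
      exact hyU
    · rintro ⟨⟨U, V⟩, hU, hV, hVU⟩
      rw [Scheme.IdealSheafData.ideal_bot, Pi.bot_apply]
      refine (comap_ideal_eq_bot_iff K H hU hV hVU rfl).2 ?_
      have h2 : (zIdeal h K).ideal ⟨U, hU⟩ ≤ RingHom.ker (g.app U).hom :=
        (hle ⟨U, hU⟩).trans (g.ideal_ker_le ⟨U, hU⟩)
      intro a ha
      have h3 := h2 ha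
      rw [RingHom.mem_ker] at h3 ⊢
      rw [Scheme.Hom.appLE, CommRingCat.hom_comp, RingHom.comp_apply, h3, map_zero]
  · intro h0
    rw [Scheme.Hom.ker, Scheme.IdealSheafData.le_ofIdeals_iff]
    intro U
    rw [zIdeal_ideal]
    intro a ha
    rw [RingHom.mem_ker]
    refine T.IsSheaf.section_ext (U := Opposite.op (g ⁻¹ᵁ U.1)) fun y hy => ?_
    obtain ⟨_, ⟨V, hV, rfl⟩, hyV, hVU⟩ := T.isBasis_affineOpens.exists_subset_of_mem_open
      hy (g ⁻¹ᵁ U.1).2
    refine ⟨V, hVU, hyV, ?_⟩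
    have h4 := (comap_ideal_eq_bot_iff K H U.2 hV hVU rfl).1 (by
      rw [h0, Scheme.IdealSheafData.ideal_bot, Pi.bot_apply])
    have h5 := h4 ha
    rw [RingHom.mem_ker] at h5
    rw [map_zero]
    exact h5

/-- containment of pulled back ideals in terms of the closed subscheme of the second -/
theorem comap_le_comap_iff {X P : Scheme.{u}} (𝓘 𝓘' : X.IdealSheafData) (p : P ⟶ X) :
    𝓘.comap p ≤ 𝓘'.comap p ↔
      (𝓘.comap 𝓘'.subschemeι).comap (pullback.snd p 𝓘'.subschemeι) = ⊥ := by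
  have h1 : 𝓘'.comap p = (pullback.fst p 𝓘'.subschemeι).ker := rfl
  rw [h1, ← Scheme.IdealSheafData.map_bot, Scheme.IdealSheafData.le_map_iff_comap_le, le_bot_iff,
    ← Scheme.IdealSheafData.comap_comp, pullback.condition, Scheme.IdealSheafData.comap_comp]

theorem comap_iso_eq_bot_iff {Y Y' : Scheme.{u}} (e : Y ≅ Y') (M : Y'.IdealSheafData) :
    M.comap e.hom = ⊥ ↔ M = ⊥ := by
  constructor
  · intro h0
    have h1 : M = (M.comap e.hom).comap e.inv := by
      rw [← Scheme.IdealSheafData.comap_comp, e.inv_hom_id, Scheme.IdealSheafData.comap_id]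
    rw [h1, h0, Scheme.IdealSheafData.comap_bot]
  · intro h0
    rw [h0, Scheme.IdealSheafData.comap_bot]

/-- **the locus of the base over which one closed subscheme, finite locally free over the base,
is contained in another** -/
theorem main {X S : Scheme.{u}} (f : X ⟶ S) (𝓘 𝓘' : X.IdealSheafData)
    [IsFinite (𝓘'.subschemeι ≫ f)] [Flat (𝓘'.subschemeι ≫ f)]
    [LocallyOfFinitePresentation (𝓘'.subschemeι ≫ f)] (T : Scheme.{u}) (g : T ⟶ S) :
    (∃ t : T ⟶ (zIdeal (𝓘'.subschemeι ≫ f) (𝓘.comap 𝓘'.subschemeι)).subscheme,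
        t ≫ (zIdeal (𝓘'.subschemeι ≫ f) (𝓘.comap 𝓘'.subschemeι)).subschemeι = g) ↔
      𝓘.comap (pullback.fst f g) ≤ 𝓘'.comap (pullback.fst f g) := by
  rw [factors_iff_comap_eq_bot, comap_le_comap_iff]
  have sq : IsPullback (pullback.snd (pullback.fst f g) 𝓘'.subschemeι)
      (pullback.fst (pullback.fst f g) 𝓘'.subschemeι ≫ pullback.snd f g)
      (𝓘'.subschemeι ≫ f) g :=
    ((IsPullback.of_hasPullback (pullback.fst f g) 𝓘'.subschemeι).paste_horiz
      (IsPullback.of_hasPullback f g).flip).flip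
  have h1 : pullback.snd (pullback.fst f g) 𝓘'.subschemeι =
      sq.isoPullback.hom ≫ pullback.fst (𝓘'.subschemeι ≫ f) g := sq.isoPullback_hom_fst.symm
  rw [h1, Scheme.IdealSheafData.comap_comp, comap_iso_eq_bot_iff]

end Groth.Agent.Lead.LeLocus
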