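import Mathlib
import Groth.Prelude.Def_HilbD
import Groth.Agent.Lib.Lead.HilbAPI1
import Groth.Agent.Lib.Lead.LeLocus2

/-!
# The equalizer locus of two points of the Hilbert functor is closed; separatedness (lead)
-/

set_option backward.isDefEq.respectTransparency.types false
set_option synthInstance.maxHeartbeats 400000
set_option autoImplicit false
set_option linter.unusedSectionVars false
set_option linter.style.haveILetI false

universe u
open CategoryTheory CategoryTheory.Limits AlgebraicGeometry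

namespace Groth.Agent.Lead.HilbSep

open Groth.Agent.Lead.HilbAPI Groth.Agent.Lead.LeLocus

/-- a morphism factors through a closed subscheme iff the ideal is contained in its kernel -/
theorem factors_iff_le_ker {S T : Scheme.{u}} (𝓔 : S.IdealSheafData) (g : T ⟶ S) :
    (∃ t : T ⟶ 𝓔.subscheme, t ≫ 𝓔.subschemeι = g) ↔ 𝓔 ≤ g.ker := by
  constructor
  · rintro ⟨t, rfl⟩
    calc 𝓔 = 𝓔.subschemeι.ker := (Scheme.IdealSheafData.ker_subschemeι _).symm
      _ ≤ (t ≫ 𝓔.subschemeι).ker := Scheme.Hom.le_ker_comp t _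
  · intro hle
    exact ⟨g.toImage ≫ Scheme.IdealSheafData.inclusion hle, by
      rw [Category.assoc, Scheme.IdealSheafData.inclusion_subschemeι, Scheme.Hom.toImage_imageι]⟩

theorem factors_sup_iff {S T : Scheme.{u}} (𝓔₁ 𝓔₂ : S.IdealSheafData) (g : T ⟶ S) :
    (∃ t : T ⟶ (𝓔₁ ⊔ 𝓔₂).subscheme, t ≫ (𝓔₁ ⊔ 𝓔₂).subschemeι = g) ↔
      (∃ t : T ⟶ 𝓔₁.subscheme, t ≫ 𝓔₁.subschemeι = g) ∧
        (∃ t : T ⟶ 𝓔₂.subscheme, t ≫ 𝓔₂.subschemeι = g) := by
  rw [factors_iff_le_ker, factors_iff_le_ker, factors_iff_le_ker, sup_le_iff]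

theorem comap_iso_injective {Y Y' : Scheme.{u}} (e : Y ≅ Y') (M N : Y'.IdealSheafData)
    (h : M.comap e.hom = N.comap e.hom) : M = N := by
  have h1 : ∀ K : Y'.IdealSheafData, K = (K.comap e.hom).comap e.inv := fun K => by
    rw [← Scheme.IdealSheafData.comap_comp, e.inv_hom_id, Scheme.IdealSheafData.comap_id]
  rw [h1 M, h1 N, h]

variable {X S : Scheme.{u}} (f : X ⟶ S)

/-- the ideal of the locus of the base over which two closed subschemes agree -/
noncomputable def eqIdeal (T : Over S) (I₁ I₂ : (PicF.XT f T).IdealSheafData)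
    [IsFinite (I₁.subschemeι ≫ PicF.XTproj f T)] [Flat (I₁.subschemeι ≫ PicF.XTproj f T)]
    [LocallyOfFinitePresentation (I₁.subschemeι ≫ PicF.XTproj f T)]
    [IsFinite (I₂.subschemeι ≫ PicF.XTproj f T)] [Flat (I₂.subschemeι ≫ PicF.XTproj f T)]
    [LocallyOfFinitePresentation (I₂.subschemeι ≫ PicF.XTproj f T)] :
    T.left.IdealSheafData :=
  zIdeal (I₂.subschemeι ≫ PicF.XTproj f T) (I₁.comap I₂.subschemeι) ⊔
    zIdeal (I₁.subschemeι ≫ PicF.XTproj f T) (I₂.comap I₁.subschemeι)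

/-- **the equalizer locus of two families of finite locally free closed subschemes** -/
theorem factors_eqIdeal_iff (T : Over S) (I₁ I₂ : (PicF.XT f T).IdealSheafData)
    [IsFinite (I₁.subschemeι ≫ PicF.XTproj f T)] [Flat (I₁.subschemeι ≫ PicF.XTproj f T)]
    [LocallyOfFinitePresentation (I₁.subschemeι ≫ PicF.XTproj f T)]
    [IsFinite (I₂.subschemeι ≫ PicF.XTproj f T)] [Flat (I₂.subschemeι ≫ PicF.XTproj f T)]
    [LocallyOfFinitePresentation (I₂.subschemeι ≫ PicF.XTproj f T)]
    {T' : Over S} (m : T' ⟶ T) :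
    (∃ t : T'.left ⟶ (eqIdeal f T I₁ I₂).subscheme,
        t ≫ (eqIdeal f T I₁ I₂).subschemeι = m.left) ↔
      HilbD.pull f m I₁ = HilbD.pull f m I₂ := by
  unfold eqIdeal
  rw [factors_sup_iff, LeLocus.main (PicF.XTproj f T) I₁ I₂ T'.left m.left,
    LeLocus.main (PicF.XTproj f T) I₂ I₁ T'.left m.left, ← le_antisymm_iff,
    pull_eq_comap, pull_eq_comap]
  have sq := isPullback_XTmap f m
  have h1 : PicF.XTmap f m = sq.isoPullback.hom ≫ pullback.fst (PicF.XTproj f T) m.left :=
    sq.isoPullback_hom_fst.symm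
  rw [h1, Scheme.IdealSheafData.comap_comp, Scheme.IdealSheafData.comap_comp]
  constructor
  · intro h
    rw [h]
  · intro h
    exact comap_iso_injective _ _ _ h

end Groth.Agent.Lead.HilbSep
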