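import Mathlib
import Groth.Agent.Lib.Helper3.SchDominant
import Groth.Agent.Lib.Helper4.IdealComap

/-!
# Kernels of morphisms under flat base change and of products over a field (lead)
-/

set_option backward.isDefEq.respectTransparency.types false
set_option synthInstance.maxHeartbeats 400000
set_option autoImplicit false
set_option linter.unusedSectionVars false
set_option linter.style.haveILetI false

universe u
open CategoryTheory CategoryTheory.Limits AlgebraicGeometry

namespace Groth.Agent.Lead.KerProd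

/-- **the kernel of a quasi-compact morphism commutes with flat base change** -/
theorem ker_of_isPullback_of_flat {A A' X X' : Scheme.{u}} (f : A ⟶ X) (g : X' ⟶ X)
    (f' : A' ⟶ X') (g' : A' ⟶ A) (H : IsPullback g' f' f g) [QuasiCompact f] [Flat g] :
    f'.ker = f.ker.comap g := by
  let ι := f.imageι
  let t := f.toImage
  let p₁ := pullback.fst g ι
  let p₂ := pullback.snd g ι
  let t' : A' ⟶ pullback g ι := pullback.lift f' (g' ≫ t)
    (by rw [Category.assoc, f.toImage_imageι, H.w])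
  have h1 : t' ≫ p₁ = f' := pullback.lift_fst _ _ _
  have h2 : t' ≫ p₂ = g' ≫ t := pullback.lift_snd _ _ _
  have sq : IsPullback g' t' t p₂ := by
    have := IsPullback.of_right (h₁₁ := t') (h₁₂ := p₁) (v₁₁ := g') (v₁₂ := p₂) (v₁₃ := g)
      (h₂₁ := t) (h₂₂ := ι) (by rw [h1, f.toImage_imageι]; exact H.flip) h2
      (IsPullback.of_hasPullback g ι)
    exact this.flip
  haveI : Flat p₂ := inferInstance
  haveI : IsSchemeTheoreticallyDominant t := ⟨Groth.Agent.Helper3.ker_toImage_eq_bot f⟩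
  haveI : IsSchemeTheoreticallyDominant t' := IsSchemeTheoreticallyDominant.of_isPullback sq
  rw [← h1, Scheme.Hom.ker_comp, t'.ker_eq_bot, Scheme.IdealSheafData.map_bot]
  rfl

/-- contraction of the extension along a closed immersion -/
theorem map_comap_of_isClosedImmersion {Z P : Scheme.{u}} (c : Z ⟶ P) [IsClosedImmersion c]
    (K : P.IdealSheafData) : (K.comap c).map c = K ⊔ c.ker := by
  refine Scheme.IdealSheafData.ext (funext fun U => ?_)
  rw [Scheme.IdealSheafData.ideal_map_of_isAffineHom, Scheme.IdealSheafData.ideal_sup,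
    Pi.sup_apply,
    Groth.Agent.Helper4.IdealComap.ideal_comap_eq_map c K ⟨c ⁻¹ᵁ U.1, U.2.preimage c⟩ U le_rfl,
    Scheme.Hom.ker_apply]
  have h1 : c.appLE U.1 (c ⁻¹ᵁ U.1) le_rfl = c.app U.1 := (Scheme.Hom.app_eq_appLE c).symm
  rw [h1, Ideal.comap_map_of_surjective _ (c.app_surjective U.1 U.2), RingHom.ker_eq_comap_bot]

/-- **the kernel of a product of quasi-compact morphisms over a field-like base** -/
theorem ker_prod {S X Y A B : Scheme.{u}} [Subsingleton S] [IsIntegral S]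
    (sX : X ⟶ S) (sY : Y ⟶ S) (sA : A ⟶ S) (sB : B ⟶ S)
    (f : A ⟶ X) (g : B ⟶ Y) (hf : f ≫ sX = sA) (hg : g ≫ sY = sB)
    [QuasiCompact f] [QuasiCompact g]
    (F : pullback sA sB ⟶ pullback sX sY)
    (hF₁ : F ≫ pullback.fst sX sY = pullback.fst sA sB ≫ f)
    (hF₂ : F ≫ pullback.snd sX sY = pullback.snd sA sB ≫ g) :
    F.ker = f.ker.comap (pullback.fst sX sY) ⊔ g.ker.comap (pullback.snd sX sY) := by
  let p₁ := pullback.fst sX sY
  let p₂ := pullback.snd sX sY
  let q₁ := pullback.fst sA sB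
  let q₂ := pullback.snd sA sB
  let ι := f.imageι
  let t := f.toImage
  let c₁ := pullback.fst p₁ ι
  let z₁ := pullback.snd p₁ ι
  have hc₁ : c₁.ker = f.ker.comap p₁ := rfl
  let d : pullback sA sB ⟶ pullback p₁ ι := pullback.lift F (q₁ ≫ t)
    (by rw [Category.assoc, f.toImage_imageι]; exact hF₁)
  have hd₁ : d ≫ c₁ = F := pullback.lift_fst _ _ _
  have hd₂ : d ≫ z₁ = q₁ ≫ t := pullback.lift_snd _ _ _
  have sqZ₁ : IsPullback (c₁ ≫ p₂) z₁ sY (ι ≫ sX) :=
    (IsPullback.of_hasPullback p₁ ι).paste_horiz (IsPullback.of_hasPullback sX sY).flip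
  haveI : Flat (c₁ ≫ p₂) := MorphismProperty.of_isPullback (P := @Flat) sqZ₁.flip inferInstance
  let r₁ := pullback.fst (c₁ ≫ p₂) g
  let r₂ := pullback.snd (c₁ ≫ p₂) g
  have hr₁ : r₁.ker = g.ker.comap (c₁ ≫ p₂) :=
    ker_of_isPullback_of_flat g (c₁ ≫ p₂) r₁ r₂ (IsPullback.of_hasPullback (c₁ ≫ p₂) g).flip
  let e : pullback sA sB ⟶ pullback (c₁ ≫ p₂) g := pullback.lift d q₂
    (by rw [← Category.assoc, hd₁]; exact hF₂)
  have he₁ : e ≫ r₁ = d := pullback.lift_fst _ _ _
  have he₂ : e ≫ r₂ = q₂ := pullback.lift_snd _ _ _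
  have sqZ₂ : IsPullback (r₁ ≫ z₁) r₂ (ι ≫ sX) sB := by
    have := (IsPullback.of_hasPullback (c₁ ≫ p₂) g).paste_horiz sqZ₁.flip
    rwa [hg] at this
  haveI : Flat (r₁ ≫ z₁) := MorphismProperty.of_isPullback (P := @Flat) sqZ₂.flip inferInstance
  have sqQ : IsPullback q₁ e t (r₁ ≫ z₁) := by
    have hsA : t ≫ ι ≫ sX = sA := by rw [← Category.assoc, f.toImage_imageι, hf]
    have := IsPullback.of_right (h₁₁ := e) (h₁₂ := r₂) (v₁₁ := q₁) (v₁₂ := r₁ ≫ z₁) (v₁₃ := sB)
      (h₂₁ := t) (h₂₂ := ι ≫ sX)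
      (by rw [he₂, hsA]; exact (IsPullback.of_hasPullback sA sB).flip)
      (by rw [← Category.assoc, he₁, hd₂]) sqZ₂.flip
    exact this.flip
  haveI : IsSchemeTheoreticallyDominant t := ⟨Groth.Agent.Helper3.ker_toImage_eq_bot f⟩
  haveI : IsSchemeTheoreticallyDominant e := IsSchemeTheoreticallyDominant.of_isPullback sqQ
  have hd : d.ker = g.ker.comap (c₁ ≫ p₂) := by
    rw [← he₁, Scheme.Hom.ker_comp, e.ker_eq_bot, Scheme.IdealSheafData.map_bot, hr₁]
  rw [← hd₁, Scheme.Hom.ker_comp, hd, Scheme.IdealSheafData.comap_comp,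
    map_comap_of_isClosedImmersion, hc₁, sup_comm]

end Groth.Agent.Lead.KerProd
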