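import Mathlib
import Groth.Prelude.Def_HilbD
import Groth.Agent.Lib.Lead.HilbAPI1
import Groth.Agent.Lib.Lead.HilbSep1
import Groth.Agent.Lib.Lead.KerProd1

/-!
# Hilbert functor of a closed subscheme: basic API (lead)
-/

set_option backward.isDefEq.respectTransparency.types false
set_option synthInstance.maxHeartbeats 400000
set_option autoImplicit false
set_option linter.unusedSectionVars false
set_option linter.style.haveILetI false

universe u
open CategoryTheory CategoryTheory.Limits AlgebraicGeometry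

namespace Groth.Agent.Lead.HilbCI

open Groth.Agent.Lead.HilbAPI Groth.Agent.Lead.LeLocus Groth.Agent.Lead.HilbSep

/-- finite locally free of degree `d` is stable under precomposition with isomorphisms -/
theorem isFinLocFreeOfDeg_iso_comp {A B T : Scheme.{u}} (e : A ⟶ B) [IsIso e] (h : B ⟶ T) (d : ℕ)
    (hh : Mor2.IsFinLocFreeOfDeg d h) : Mor2.IsFinLocFreeOfDeg d (e ≫ h) := by
  obtain ⟨⟨h1, h2, h3⟩, h4⟩ := hh
  haveI := h1
  haveI := h2
  haveI := h3
  refine ⟨⟨inferInstance, inferInstance, inferInstance⟩, fun y => ?_⟩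
  rw [Scheme.Hom.finrank_comp_left_of_isIso]
  exact h4 y

section ClaimA

variable {Z P : Scheme.{u}} (c : Z ⟶ P) [IsClosedImmersion c]

/-- pushing forward then pulling back along a closed immersion is the identity -/
theorem comap_map_of_isClosedImmersion (W : Z.IdealSheafData) : (W.map c).comap c = W := by
  have sq : IsPullback W.subschemeι (𝟙 _) c (W.subschemeι ≫ c) := by
    have h1 : IsPullback (𝟙 Z) (𝟙 Z) c c := IsKernelPair.id_of_mono c
    have h2 : IsPullback W.subschemeι (𝟙 _) (𝟙 Z) W.subschemeι := IsPullback.of_vert_isIso ⟨by simp⟩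
    have h3 := h2.paste_horiz h1
    simpa using h3
  have h4 : (pullback.fst c (W.subschemeι ≫ c)).ker = (W.map c).comap c :=
    Scheme.IdealSheafData.ker_fst_of_isClosedImmersion (W.subschemeι ≫ c) c
  rw [← h4]
  have h5 : W.subschemeι = sq.isoPullback.hom ≫ pullback.fst c (W.subschemeι ≫ c) :=
    sq.isoPullback_hom_fst.symm
  conv_rhs => rw [← W.ker_subschemeι, h5, Scheme.Hom.ker_comp_of_isIso]

theorem ker_le_map (W : Z.IdealSheafData) : c.ker ≤ W.map c :=
  Scheme.Hom.le_ker_comp W.subschemeι c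

theorem map_comap_of_le (K : P.IdealSheafData) (hK : c.ker ≤ K) : (K.comap c).map c = K := by
  rw [Groth.Agent.Lead.KerProd.map_comap_of_isClosedImmersion, sup_eq_left.2 hK]

end ClaimA

section iT

variable {X Y S : Scheme.{u}} (i : X ⟶ Y) (g : Y ⟶ S)

/-- the base change of `i` to `T` -/
noncomputable def iT (T : Over S) : PicF.XT (i ≫ g) T ⟶ PicF.XT g T :=
  pullback.map (i ≫ g) T.hom g T.hom i (𝟙 _) (𝟙 S) (Category.comp_id _) (by simp)

theorem push_eq_map (T : Over S) (I : (PicF.XT (i ≫ g) T).IdealSheafData) :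
    HilbD.push i g T I = I.map (iT i g T) := rfl

theorem iT_fst (T : Over S) :
    iT i g T ≫ pullback.fst g T.hom = pullback.fst (i ≫ g) T.hom ≫ i := by
  unfold iT
  rw [pullback.lift_fst]

theorem iT_snd (T : Over S) :
    iT i g T ≫ PicF.XTproj g T = PicF.XTproj (i ≫ g) T := by
  unfold iT PicF.XTproj
  rw [pullback.lift_snd, Category.comp_id]

theorem isPullback_iT (T : Over S) :
    IsPullback (iT i g T) (pullback.fst (i ≫ g) T.hom) (pullback.fst g T.hom) i := by
  refine IsPullback.of_right (h₁₂ := pullback.snd g T.hom) (h₂₂ := g) (v₁₃ := T.hom) ?_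
    (iT_fst i g T) (IsPullback.of_hasPullback g T.hom).flip
  have h1 : iT i g T ≫ pullback.snd g T.hom = pullback.snd (i ≫ g) T.hom := iT_snd i g T
  rw [h1]
  exact (IsPullback.of_hasPullback (i ≫ g) T.hom).flip

instance [IsClosedImmersion i] (T : Over S) : IsClosedImmersion (iT i g T) :=
  MorphismProperty.of_isPullback (P := @IsClosedImmersion) (isPullback_iT i g T).flip inferInstance

theorem XTmap_iT {T T' : Over S} (m : T' ⟶ T) :
    PicF.XTmap (i ≫ g) m ≫ iT i g T = iT i g T' ≫ PicF.XTmap g m := by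
  apply pullback.hom_ext
  · rw [Category.assoc, Category.assoc, iT_fst, XTmap_fst, ← Category.assoc, XTmap_fst, iT_fst]
  · have h1 := iT_snd i g T
    have h2 := iT_snd i g T'
    unfold PicF.XTproj at h1 h2
    rw [Category.assoc, Category.assoc, h1, XTmap_snd, XTmap_snd, ← Category.assoc, h2]

theorem isPullback_XTmap_iT {T T' : Over S} (m : T' ⟶ T) :
    IsPullback (PicF.XTmap (i ≫ g) m) (iT i g T') (iT i g T) (PicF.XTmap g m) := by
  refine IsPullback.of_right (h₁₂ := pullback.fst (i ≫ g) T.hom) (h₂₂ := pullback.fst g T.hom)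
    (v₁₃ := i) ?_ (XTmap_iT i g m) (isPullback_iT i g T).flip
  rw [XTmap_fst, XTmap_fst]
  exact (isPullback_iT i g T').flip

theorem ker_iT_comap [IsClosedImmersion i] {T T' : Over S} (m : T' ⟶ T) :
    (iT i g T).ker.comap (PicF.XTmap g m) = (iT i g T').ker := by
  have sq := (isPullback_XTmap_iT i g m).flip
  have h1 : iT i g T' = sq.isoPullback.hom ≫ pullback.fst (PicF.XTmap g m) (iT i g T) :=
    sq.isoPullback_hom_fst.symm
  rw [h1, Scheme.Hom.ker_comp_of_isIso, Scheme.IdealSheafData.ker_fst_of_isClosedImmersion]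

/-- pulling back commutes with restriction to the closed subscheme -/
theorem pull_comap_iT {T T' : Over S} (m : T' ⟶ T) (J : (PicF.XT g T).IdealSheafData) :
    HilbD.pull (i ≫ g) m (J.comap (iT i g T)) = (HilbD.pull g m J).comap (iT i g T') := by
  rw [pull_eq_comap, pull_eq_comap, ← Scheme.IdealSheafData.comap_comp,
    ← Scheme.IdealSheafData.comap_comp, XTmap_iT]

variable [IsClosedImmersion i]

/-- the push forward of a point of the Hilbert functor of `X` is a point of that of `Y` -/
theorem push_isFinLocFreeOfDeg (T : Over S) (d : ℕ) (I : (PicF.XT (i ≫ g) T).IdealSheafData)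
    (hI : Mor2.IsFinLocFreeOfDeg d (I.subschemeι ≫ PicF.XTproj (i ≫ g) T)) :
    Mor2.IsFinLocFreeOfDeg d ((I.map (iT i g T)).subschemeι ≫ PicF.XTproj g T) := by
  change Mor2.IsFinLocFreeOfDeg d ((I.subschemeι ≫ iT i g T).imageι ≫ PicF.XTproj g T)
  have h2 : (I.subschemeι ≫ iT i g T).imageι ≫ PicF.XTproj g T =
      inv (I.subschemeι ≫ iT i g T).toImage ≫ (I.subschemeι ≫ PicF.XTproj (i ≫ g) T) := by
    rw [IsIso.eq_inv_comp, ← Category.assoc, Scheme.Hom.toImage_imageι, Category.assoc, iT_snd]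
  rw [h2]
  exact isFinLocFreeOfDeg_iso_comp _ _ d hI

/-- a point of the Hilbert functor of `Y` contained in `X` is a point of that of `X` -/
theorem comap_isFinLocFreeOfDeg (T : Over S) (d : ℕ) (J : (PicF.XT g T).IdealSheafData)
    (hJ : (iT i g T).ker ≤ J)
    (hd : Mor2.IsFinLocFreeOfDeg d (J.subschemeι ≫ PicF.XTproj g T)) :
    Mor2.IsFinLocFreeOfDeg d ((J.comap (iT i g T)).subschemeι ≫ PicF.XTproj (i ≫ g) T) := by
  have h0 := map_comap_of_le (iT i g T) J hJ
  rw [← h0] at hd
  change Mor2.IsFinLocFreeOfDeg d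
    (((J.comap (iT i g T)).subschemeι ≫ iT i g T).imageι ≫ PicF.XTproj g T) at hd
  have h2 : (J.comap (iT i g T)).subschemeι ≫ PicF.XTproj (i ≫ g) T =
      ((J.comap (iT i g T)).subschemeι ≫ iT i g T).toImage ≫
        (((J.comap (iT i g T)).subschemeι ≫ iT i g T).imageι ≫ PicF.XTproj g T) := by
    rw [← Category.assoc, Scheme.Hom.toImage_imageι, Category.assoc, iT_snd]
  rw [h2]
  exact isFinLocFreeOfDeg_iso_comp _ _ d hd

end iT

end Groth.Agent.Lead.HilbCI
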