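import Mathlib
import Groth.Agent.Lib.Helper4.DescImm1
import Groth.Agent.Lib.Helper2.Sch.LqfDescent

/-!
# fpqc descent of flat and of finite morphisms (lead)
-/

set_option backward.isDefEq.respectTransparency.types false
set_option synthInstance.maxHeartbeats 400000
set_option autoImplicit false
set_option linter.unusedSectionVars false
set_option linter.style.haveILetI false

universe u
open CategoryTheory CategoryTheory.Limits AlgebraicGeometry MorphismProperty

namespace Groth.Agent.Lead.FpqcProp

theorem flat_codescendsAlong_faithfullyFlat :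
    RingHom.CodescendsAlong RingHom.Flat RingHom.FaithfullyFlat := by
  refine .mk _ RingHom.Flat.respectsIso fun R S T _ _ _ _ _ h h' ↦ ?_
  rw [RingHom.flat_algebraMap_iff] at h' ⊢
  rw [RingHom.faithfullyFlat_algebraMap_iff] at h
  exact Module.Flat.of_flat_tensorProduct (R := R) (M := T) S

instance flat_descendsAlong_fpqc :
    DescendsAlong (@Flat : MorphismProperty Scheme.{u}) (@Surjective ⊓ @Flat ⊓ @QuasiCompact) :=
  HasRingHomProperty.descendsAlong_flat flat_codescendsAlong_faithfullyFlat

instance isSeparated_descendsAlong_fpqc :
    DescendsAlong (@IsSeparated : MorphismProperty Scheme.{u})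
      (@Surjective ⊓ @Flat ⊓ @QuasiCompact) := by
  rw [AlgebraicGeometry.IsSeparated.isSeparated_eq_diagonal_isClosedImmersion]
  infer_instance

instance isProper_descendsAlong_fpqc :
    DescendsAlong (@IsProper : MorphismProperty Scheme.{u})
      (@Surjective ⊓ @Flat ⊓ @QuasiCompact) := by
  rw [isProper_eq]
  infer_instance

instance isFinite_descendsAlong_fpqc :
    DescendsAlong (@IsFinite : MorphismProperty Scheme.{u})
      (@Surjective ⊓ @Flat ⊓ @QuasiCompact) := by
  rw [IsFinite.eq_proper_inf_locallyQuasiFinite]
  infer_instance

end Groth.Agent.Lead.FpqcProp
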