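import Mathlib
import Groth.Prelude.Def_EtGlue

namespace Groth.Agent.Lead.BL

open TensorProduct

universe u

variable {R R' : Type u} [CommRing R] [CommRing R'] [Algebra R R'] {f : R}

/-- surjectivity of `R/f^n → R'/f^n`, elementwise -/
theorem q_surj (hq : EtGlue.QuotPowBijective R R' f) (n : ℕ) (r' : R') :
    ∃ (r : R) (s' : R'), r' = algebraMap R R' r + algebraMap R R' (f ^ n) * s' := by
  rcases Nat.eq_zero_or_pos n with rfl | hn
  · exact ⟨0, r', by simp⟩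
  · obtain ⟨q, hq'⟩ := (hq n hn).2 (Ideal.Quotient.mk _ r')
    obtain ⟨r, rfl⟩ := Ideal.Quotient.mk_surjective q
    rw [Ideal.quotientMap_mk, Ideal.Quotient.eq, Ideal.map_span, Set.image_singleton,
      Ideal.mem_span_singleton'] at hq'
    obtain ⟨s', hs'⟩ := hq'
    refine ⟨r, -s', ?_⟩
    have : r' = algebraMap R R' r - s' * algebraMap R R' (f ^ n) := by rw [hs']; ring
    rw [this]; ring

/-- injectivity of `R/f^n → R'/f^n`, elementwise -/
theorem q_inj (hq : EtGlue.QuotPowBijective R R' f) (n : ℕ) (r : R)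
    (h : ∃ s' : R', algebraMap R R' r = algebraMap R R' (f ^ n) * s') :
    ∃ s : R, r = f ^ n * s := by
  rcases Nat.eq_zero_or_pos n with rfl | hn
  · exact ⟨r, by simp⟩
  · obtain ⟨s', hs'⟩ := h
    have h1 : Ideal.quotientMap (Ideal.map (algebraMap R R') (Ideal.span {f ^ n}))
        (algebraMap R R') Ideal.le_comap_map (Ideal.Quotient.mk _ r) = 0 := by
      rw [Ideal.quotientMap_mk, Ideal.Quotient.eq_zero_iff_mem, Ideal.map_span,
        Set.image_singleton, Ideal.mem_span_singleton']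
      exact ⟨s', by rw [hs']; ring⟩
    have h2 := (hq n hn).1 (h1.trans (map_zero _).symm)
    rw [Ideal.Quotient.eq_zero_iff_mem, Ideal.mem_span_singleton'] at h2
    obtain ⟨s, hs⟩ := h2
    exact ⟨s, by rw [← hs]; ring⟩

section lemmaA

variable {P : Type*} [AddCommGroup P] [Module R P]

theorem lift_smul_eq_aux (hq : EtGlue.QuotPowBijective R R' f) {p : P} {n₁ n₂ : ℕ}
    (hle : n₁ ≤ n₂) (h₁ : f ^ n₁ • p = 0) {r' : R'} {r₁ r₂ : R}
    (hr₁ : ∃ s', r' = algebraMap R R' r₁ + algebraMap R R' (f ^ n₁) * s')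
    (hr₂ : ∃ s', r' = algebraMap R R' r₂ + algebraMap R R' (f ^ n₂) * s') :
    r₁ • p = r₂ • p := by
  obtain ⟨s₁, hs₁⟩ := hr₁
  obtain ⟨s₂, hs₂⟩ := hr₂
  obtain ⟨d, rfl⟩ := Nat.exists_eq_add_of_le hle
  obtain ⟨s, hs⟩ := q_inj hq n₁ (r₁ - r₂)
    ⟨algebraMap R R' (f ^ d) * s₂ - s₁, by
      have : algebraMap R R' r₁ - algebraMap R R' r₂ =
          algebraMap R R' (f ^ (n₁ + d)) * s₂ - algebraMap R R' (f ^ n₁) * s₁ := by
        have h := hs₁.symm.trans hs₂
        linear_combination h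
      rw [map_sub, this, pow_add, map_mul]; ring⟩
  have : (r₁ - r₂) • p = 0 := by
    rw [hs, mul_comm, mul_smul, h₁, smul_zero]
  rw [sub_smul, sub_eq_zero] at this
  exact this

theorem lift_smul_eq (hq : EtGlue.QuotPowBijective R R' f) {p : P} {n₁ n₂ : ℕ}
    (h₁ : f ^ n₁ • p = 0) (h₂ : f ^ n₂ • p = 0) {r' : R'} {r₁ r₂ : R}
    (hr₁ : ∃ s', r' = algebraMap R R' r₁ + algebraMap R R' (f ^ n₁) * s')
    (hr₂ : ∃ s', r' = algebraMap R R' r₂ + algebraMap R R' (f ^ n₂) * s') :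
    r₁ • p = r₂ • p := by
  rcases le_total n₁ n₂ with h | h
  · exact lift_smul_eq_aux hq h h₁ hr₁ hr₂
  · exact (lift_smul_eq_aux hq h h₂ hr₂ hr₁).symm

variable (hq : EtGlue.QuotPowBijective R R' f) (hP : ∀ p : P, ∃ n : ℕ, f ^ n • p = 0)

/-- the action of `R'` on an `f`-power torsion module -/
noncomputable def act (r' : R') (p : P) : P :=
  (q_surj hq (hP p).choose r').choose • p

theorem act_eq {p : P} {n : ℕ} (h : f ^ n • p = 0) {r' : R'} {r : R}
    (hr : ∃ s', r' = algebraMap R R' r + algebraMap R R' (f ^ n) * s') :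
    act hq hP r' p = r • p :=
  lift_smul_eq hq (hP p).choose_spec h (q_surj hq (hP p).choose r').choose_spec hr

/-- the action as a bilinear map -/
noncomputable def actBilin : R' →ₗ[R] P →ₗ[R] P :=
  LinearMap.mk₂ R (act hq hP)
    (by
      intro a b p
      obtain ⟨n, hn⟩ := hP p
      obtain ⟨ra, sa, ha⟩ := q_surj hq n a
      obtain ⟨rb, sb, hb⟩ := q_surj hq n b
      rw [act_eq hq hP hn ⟨sa, ha⟩, act_eq hq hP hn ⟨sb, hb⟩,
        act_eq hq hP hn (r := ra + rb) ⟨sa + sb, by rw [ha, hb, map_add]; ring⟩, add_smul])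
    (by
      intro c a p
      obtain ⟨n, hn⟩ := hP p
      obtain ⟨ra, sa, ha⟩ := q_surj hq n a
      rw [act_eq hq hP hn ⟨sa, ha⟩,
        act_eq hq hP hn (r := c * ra) ⟨c • sa, by
          rw [ha, Algebra.smul_def, Algebra.smul_def, map_mul]; ring⟩, mul_smul])
    (by
      intro a p₁ p₂
      obtain ⟨n₁, hn₁⟩ := hP p₁
      obtain ⟨n₂, hn₂⟩ := hP p₂
      have h1 : f ^ (n₁ + n₂) • p₁ = 0 := by rw [pow_add, mul_comm, mul_smul, hn₁, smul_zero]
      have h2 : f ^ (n₁ + n₂) • p₂ = 0 := by rw [pow_add, mul_smul, hn₂, smul_zero]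
      have h3 : f ^ (n₁ + n₂) • (p₁ + p₂) = 0 := by rw [smul_add, h1, h2, add_zero]
      obtain ⟨ra, sa, ha⟩ := q_surj hq (n₁ + n₂) a
      rw [act_eq hq hP h1 ⟨sa, ha⟩, act_eq hq hP h2 ⟨sa, ha⟩, act_eq hq hP h3 ⟨sa, ha⟩, smul_add])
    (by
      intro c a p
      obtain ⟨n, hn⟩ := hP p
      have h1 : f ^ n • (c • p) = 0 := by rw [smul_comm, hn, smul_zero]
      obtain ⟨ra, sa, ha⟩ := q_surj hq n a
      rw [act_eq hq hP hn ⟨sa, ha⟩, act_eq hq hP h1 ⟨sa, ha⟩, smul_comm])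

/-- the retraction `R' ⊗ P → P` -/
noncomputable def retr : R' ⊗[R] P →ₗ[R] P := TensorProduct.lift (actBilin hq hP)

theorem retr_tmul (r' : R') (p : P) : retr hq hP (r' ⊗ₜ p) = act hq hP r' p := rfl

theorem retr_one_tmul (p : P) : retr hq hP ((1 : R') ⊗ₜ p) = p := by
  obtain ⟨n, hn⟩ := hP p
  rw [retr_tmul, act_eq hq hP hn (r := 1) ⟨0, by simp⟩, one_smul]

theorem one_tmul_retr (x : R' ⊗[R] P) : (1 : R') ⊗ₜ[R] (retr hq hP x) = x := by
  induction x using TensorProduct.induction_on with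
  | zero => simp
  | tmul r' p =>
    obtain ⟨n, hn⟩ := hP p
    obtain ⟨r, s, hr⟩ := q_surj hq n r'
    rw [retr_tmul, act_eq hq hP hn ⟨s, hr⟩, hr, add_tmul]
    have h1 : (algebraMap R R' (f ^ n) * s) ⊗ₜ[R] p = 0 := by
      rw [← Algebra.smul_def, smul_tmul, hn, tmul_zero]
    have h2 : (algebraMap R R' r) ⊗ₜ[R] p = (1 : R') ⊗ₜ[R] (r • p) := by
      rw [Algebra.algebraMap_eq_smul_one, smul_tmul]
    rw [h1, h2, add_zero]
  | add x y hx hy => rw [map_add, tmul_add, hx, hy]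

include hq hP in
/-- Lemma A: an `f`-power torsion module is unchanged by base change to `R'` -/
theorem tors_bijective : Function.Bijective (fun p : P => (1 : R') ⊗ₜ[R] p) := by
  constructor
  · intro p₁ p₂ h
    have := congrArg (retr hq hP) h
    rwa [retr_one_tmul, retr_one_tmul] at this
  · intro x
    exact ⟨retr hq hP x, one_tmul_retr hq hP x⟩

end lemmaA

section lemmaB

variable {M : Type*} [AddCommGroup M] [Module R M]

/-- Lemma B, surjectivity: every element of `R' ⊗ M` is `1 ⊗ m` modulo `f^n` -/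
theorem b_surj (hq : EtGlue.QuotPowBijective R R' f) (n : ℕ) (x : R' ⊗[R] M) :
    ∃ (m : M) (x₁ : R' ⊗[R] M), x = (1 : R') ⊗ₜ[R] m + f ^ n • x₁ := by
  induction x using TensorProduct.induction_on with
  | zero => exact ⟨0, 0, by simp⟩
  | tmul r' m₀ =>
    obtain ⟨r, s, hr⟩ := q_surj hq n r'
    refine ⟨r • m₀, s ⊗ₜ m₀, ?_⟩
    rw [hr, add_tmul, ← Algebra.smul_def, smul_tmul', Algebra.algebraMap_eq_smul_one, smul_tmul]
  | add x y hx hy =>
    obtain ⟨m₁, x₁, h₁⟩ := hx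
    obtain ⟨m₂, x₂, h₂⟩ := hy
    exact ⟨m₁ + m₂, x₁ + x₂, by rw [h₁, h₂, tmul_add, smul_add]; abel⟩

/-- Lemma B, injectivity: if `1 ⊗ m` is divisible by `f^n` then so is `m` -/
theorem b_inj (hq : EtGlue.QuotPowBijective R R' f) (n : ℕ) (m : M)
    (h : ∃ x₁ : R' ⊗[R] M, (1 : R') ⊗ₜ[R] m = f ^ n • x₁) : ∃ m₁ : M, m = f ^ n • m₁ := by
  obtain ⟨x₁, hx₁⟩ := h
  let N : Submodule R M := LinearMap.range (LinearMap.lsmul R M (f ^ n))
  have hP : ∀ p : M ⧸ N, ∃ k : ℕ, f ^ k • p = 0 := by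
    intro p
    obtain ⟨m', rfl⟩ := Submodule.Quotient.mk_surjective N p
    refine ⟨n, ?_⟩
    rw [← Submodule.Quotient.mk_smul, Submodule.Quotient.mk_eq_zero]
    exact ⟨m', rfl⟩
  have hkill : ∀ y : R' ⊗[R] (M ⧸ N), f ^ n • y = 0 := by
    intro y
    induction y using TensorProduct.induction_on with
    | zero => simp
    | tmul r' p =>
      obtain ⟨m', rfl⟩ := Submodule.Quotient.mk_surjective N p
      rw [smul_tmul', smul_tmul, ← Submodule.Quotient.mk_smul]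
      have : Submodule.Quotient.mk (p := N) (f ^ n • m') = 0 := by
        rw [Submodule.Quotient.mk_eq_zero]; exact ⟨m', rfl⟩
      rw [this, tmul_zero]
    | add x y hx hy => rw [smul_add, hx, hy, add_zero]
  have h1 : (1 : R') ⊗ₜ[R] (Submodule.Quotient.mk (p := N) m) = 0 := by
    have := congrArg (LinearMap.lTensor R' N.mkQ) hx₁
    rw [LinearMap.lTensor_tmul, map_smul, hkill] at this
    exact this
  have h2 : Submodule.Quotient.mk (p := N) m = 0 :=
    (tors_bijective hq hP).1 (h1.trans (tmul_zero _ _).symm)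
  rw [Submodule.Quotient.mk_eq_zero] at h2
  obtain ⟨m₁, hm₁⟩ := h2
  exact ⟨m₁, hm₁.symm⟩

end lemmaB

end Groth.Agent.Lead.BL
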