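import Mathlib
import Groth.Agent.Lib.Lead.BL1

namespace Groth.Agent.Lead.BL

open TensorProduct

universe u

variable {R R' : Type u} [CommRing R] [CommRing R'] [Algebra R R'] {f : R}
  {M : Type u} [AddCommGroup M] [Module R M]

theorem mk_eq_zero_iff {N : Type*} [AddCommGroup N] [Module R N] (m : N) :
    LocalizedModule.mkLinearMap (Submonoid.powers f) N m = 0 ↔ ∃ n : ℕ, f ^ n • m = 0 := by
  rw [IsLocalizedModule.eq_zero_iff (Submonoid.powers f)]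
  constructor
  · rintro ⟨⟨s, n, rfl⟩, hs⟩
    exact ⟨n, hs⟩
  · rintro ⟨n, hn⟩
    exact ⟨⟨f ^ n, n, rfl⟩, hn⟩

theorem mk_eq_iff {N : Type*} [AddCommGroup N] [Module R N] (m₁ m₂ : N) :
    LocalizedModule.mkLinearMap (Submonoid.powers f) N m₁ =
      LocalizedModule.mkLinearMap (Submonoid.powers f) N m₂ ↔
      ∃ n : ℕ, f ^ n • m₁ = f ^ n • m₂ := by
  rw [IsLocalizedModule.eq_iff_exists (Submonoid.powers f)]
  constructor
  · rintro ⟨⟨s, n, rfl⟩, hs⟩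
    exact ⟨n, hs⟩
  · rintro ⟨n, hn⟩
    exact ⟨⟨f ^ n, n, rfl⟩, hn⟩

theorem exists_mk_eq {N : Type*} [AddCommGroup N] [Module R N]
    (y : LocalizedModule (Submonoid.powers f) N) :
    ∃ (m : N) (n : ℕ), f ^ n • y = LocalizedModule.mkLinearMap (Submonoid.powers f) N m := by
  obtain ⟨⟨m, ⟨s, n, rfl⟩⟩, h⟩ := IsLocalizedModule.surj (Submonoid.powers f)
    (LocalizedModule.mkLinearMap (Submonoid.powers f) N) y
  exact ⟨m, n, h⟩

theorem smul_pow_injective {N : Type*} [AddCommGroup N] [Module R N] (n : ℕ)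
    {y₁ y₂ : LocalizedModule (Submonoid.powers f) N} (h : f ^ n • y₁ = f ^ n • y₂) : y₁ = y₂ := by
  have := IsLocalizedModule.smul_injective (LocalizedModule.mkLinearMap (Submonoid.powers f) N)
    (⟨f ^ n, n, rfl⟩ : Submonoid.powers f)
  exact this h

theorem tensorOfLoc_mk (m : M) :
    EtGlue.tensorOfLoc R R' f M (LocalizedModule.mkLinearMap (Submonoid.powers f) M m) =
      LocalizedModule.mkLinearMap (Submonoid.powers f) (R' ⊗[R] M) ((1 : R') ⊗ₜ[R] m) := by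
  unfold EtGlue.tensorOfLoc
  rw [IsLocalizedModule.map_apply]
  rfl

/-- injectivity part of glueability is injectivity on torsion -/
theorem inj_iff_tors_inj :
    Function.Injective (fun m : M => ((1 : R') ⊗ₜ[R] m,
      LocalizedModule.mkLinearMap (Submonoid.powers f) M m)) ↔
    (∀ m : M, (∃ n : ℕ, f ^ n • m = 0) → (1 : R') ⊗ₜ[R] m = 0 → m = 0) := by
  constructor
  · intro hinj m hm h1
    apply hinj
    show ((1 : R') ⊗ₜ[R] m, LocalizedModule.mkLinearMap (Submonoid.powers f) M m) =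
      ((1 : R') ⊗ₜ[R] (0 : M), LocalizedModule.mkLinearMap (Submonoid.powers f) M 0)
    rw [h1, (mk_eq_zero_iff m).mpr hm, tmul_zero, map_zero]
  · intro h m₁ m₂ h12
    have h1 : (1 : R') ⊗ₜ[R] m₁ = (1 : R') ⊗ₜ[R] m₂ := congrArg Prod.fst h12
    have h2 : LocalizedModule.mkLinearMap (Submonoid.powers f) M m₁ =
        LocalizedModule.mkLinearMap (Submonoid.powers f) M m₂ := congrArg Prod.snd h12
    have h3 : m₁ - m₂ = 0 := by
      apply h
      · rw [← mk_eq_zero_iff, map_sub, h2, sub_self]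
      · rw [tmul_sub, h1, sub_self]
    exact sub_eq_zero.mp h3

/-- under `Q`, middle exactness follows from surjectivity on torsion -/
theorem mid_of_tors_surj (hq : EtGlue.QuotPowBijective R R' f)
    (hsurj : ∀ x : R' ⊗[R] M, (∃ n : ℕ, f ^ n • x = 0) →
      ∃ m : M, (∃ n : ℕ, f ^ n • m = 0) ∧ (1 : R') ⊗ₜ[R] m = x)
    (x : R' ⊗[R] M) (y : LocalizedModule (Submonoid.powers f) M)
    (hxy : EtGlue.locOfTensor R R' f M x = EtGlue.tensorOfLoc R R' f M y) :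
    ∃ m : M, (1 : R') ⊗ₜ[R] m = x ∧ LocalizedModule.mkLinearMap (Submonoid.powers f) M m = y := by
  obtain ⟨m₀, n, hy⟩ := exists_mk_eq y
  -- f^n x and 1 ⊗ m₀ agree after localization
  have h1 : LocalizedModule.mkLinearMap (Submonoid.powers f) (R' ⊗[R] M) (f ^ n • x) =
      LocalizedModule.mkLinearMap (Submonoid.powers f) (R' ⊗[R] M) ((1 : R') ⊗ₜ[R] m₀) := by
    rw [← tensorOfLoc_mk, ← hy, map_smul, map_smul]
    exact congrArg (fun z => f ^ n • z) hxy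
  obtain ⟨N, hN⟩ := (mk_eq_iff _ _).mp h1
  obtain ⟨t₀, ht₀, ht₀'⟩ := hsurj (f ^ n • x - (1 : R') ⊗ₜ[R] m₀)
    ⟨N, by rw [smul_sub, hN, sub_self]⟩
  -- m₁ = m₀ + t₀ is divisible by f^n
  obtain ⟨m₂, hm₂⟩ := b_inj hq n (m₀ + t₀) ⟨x, by rw [tmul_add, ht₀']; abel⟩
  obtain ⟨t₁, ht₁, ht₁'⟩ := hsurj (x - (1 : R') ⊗ₜ[R] m₂)
    ⟨n, by
      rw [smul_sub, ← tmul_smul, ← hm₂, tmul_add, ht₀']; abel⟩
  refine ⟨m₂ + t₁, by rw [tmul_add, ht₁']; abel, ?_⟩
  apply smul_pow_injective n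
  rw [hy, ← map_smul, smul_add, ← hm₂, map_add, map_add, (mk_eq_zero_iff t₀).mpr ht₀,
    (mk_eq_zero_iff (f ^ n • t₁)).mpr ?_, add_zero, add_zero]
  obtain ⟨k, hk⟩ := ht₁
  exact ⟨k, by rw [smul_comm, hk, smul_zero]⟩

/-- middle exactness gives surjectivity on torsion -/
theorem tors_surj_of_mid
    (hmid : ∀ (x : R' ⊗[R] M) (y : LocalizedModule (Submonoid.powers f) M),
      EtGlue.locOfTensor R R' f M x = EtGlue.tensorOfLoc R R' f M y →
      ∃ m : M, (1 : R') ⊗ₜ[R] m = x ∧ LocalizedModule.mkLinearMap (Submonoid.powers f) M m = y)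
    (x : R' ⊗[R] M) (hx : ∃ n : ℕ, f ^ n • x = 0) :
    ∃ m : M, (∃ n : ℕ, f ^ n • m = 0) ∧ (1 : R') ⊗ₜ[R] m = x := by
  obtain ⟨m, hm1, hm2⟩ := hmid x 0 (by
    rw [map_zero]
    exact (mk_eq_zero_iff x).mpr hx)
  exact ⟨m, (mk_eq_zero_iff m).mp hm2, hm1⟩

/-- S2005, first part -/
theorem glueable_iff_tors_bij (hq : EtGlue.QuotPowBijective R R' f) :
    EtGlue.IsGlueable R R' f M ↔
      ((∀ m : M, (∃ n : ℕ, f ^ n • m = 0) → (1 : R') ⊗ₜ[R] m = 0 → m = 0) ∧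
       (∀ x : R' ⊗[R] M, (∃ n : ℕ, f ^ n • x = 0) →
          ∃ m : M, (∃ n : ℕ, f ^ n • m = 0) ∧ (1 : R') ⊗ₜ[R] m = x)) := by
  unfold EtGlue.IsGlueable
  rw [inj_iff_tors_inj]
  constructor
  · rintro ⟨h1, h2⟩
    exact ⟨h1, tors_surj_of_mid h2⟩
  · rintro ⟨h1, h2⟩
    exact ⟨h1, mid_of_tors_surj hq h2⟩

end Groth.Agent.Lead.BL
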