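import Mathlib
import Groth.Agent.Lib.Lead.BL2

namespace Groth.Agent.Lead.BL

open TensorProduct

universe u

variable {R R' : Type u} [CommRing R] [CommRing R'] [Algebra R R'] {f : R}

/-- the middle exactness of a glueing pair, elementwise -/
theorem gp_mid_elem (hRR : EtGlue.IsGlueingPair R R' f) (z : R') (g : R) (N : ℕ)
    (h : algebraMap R R' f ^ N * z = algebraMap R R' g) :
    ∃ r : R, algebraMap R R' r = z ∧ ∃ k : ℕ, f ^ k * (f ^ N * r - g) = 0 := by
  obtain ⟨_, _, hmid, _⟩ := hRR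
  obtain ⟨r, hr1, hr2⟩ := hmid z
    (IsLocalization.mk' (Localization.Away f) g (⟨f ^ N, N, rfl⟩ : Submonoid.powers f)) (by
      rw [Localization.awayMap, IsLocalization.Away.map, IsLocalization.map_mk',
        IsLocalization.eq_mk'_iff_mul_eq]
      rw [← map_mul]
      congr 1
      show z * (algebraMap R R' (f ^ N)) = _
      rw [map_pow, mul_comm]
      exact h)
  refine ⟨r, hr1, ?_⟩
  rw [IsLocalization.eq_mk'_iff_mul_eq, ← map_mul] at hr2
  have h0 : algebraMap R (Localization.Away f) (r * f ^ N - g) = 0 := by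
    rw [map_sub, hr2, sub_self]
  obtain ⟨⟨_, k, rfl⟩, hk⟩ := (IsLocalization.map_eq_zero_iff (Submonoid.powers f) _ _).mp h0
  exact ⟨k, by rw [mul_comm (f ^ N) r]; exact hk⟩

variable {M : Type u} [AddCommGroup M] [Module R M]

theorem improve_lift (hq : EtGlue.QuotPowBijective R R' f) {F : Type*} [AddCommGroup F]
    [Module R F] (π : F →ₗ[R] M) (hπ : Function.Surjective π) (N : ℕ) (z : R' ⊗[R] F)
    (hz : f ^ N • (π.lTensor R' z) = 0) :
    ∃ (z₁ : R' ⊗[R] F) (g : F), π g = 0 ∧ π.lTensor R' z₁ = π.lTensor R' z ∧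
      f ^ N • z₁ = (1 : R') ⊗ₜ[R] g := by
  have hex : Function.Exact (LinearMap.ker π).subtype π := LinearMap.exact_subtype_ker_map π
  have hex' : Function.Exact ((LinearMap.ker π).subtype.lTensor R') (π.lTensor R') :=
    lTensor_exact R' hex hπ
  obtain ⟨w, hw⟩ := (hex' (f ^ N • z)).mp (by rw [map_smul, hz])
  obtain ⟨g, w₁, hgw⟩ := b_surj hq N w
  refine ⟨z - (LinearMap.ker π).subtype.lTensor R' w₁, (g : F), g.2, ?_, ?_⟩
  · rw [map_sub, (hex' _).mpr ⟨w₁, rfl⟩, sub_zero]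
  · rw [smul_sub, ← hw, hgw, map_add, map_smul, LinearMap.lTensor_tmul]
    simp

/-- coordinatewise lifting in a free module -/
theorem free_lift (hRR : EtGlue.IsGlueingPair R R' f) {ι : Type*} (N : ℕ)
    (z₁ : R' ⊗[R] (ι →₀ R)) (g : ι →₀ R) (h : f ^ N • z₁ = (1 : R') ⊗ₜ[R] g) :
    ∃ (r : ι →₀ R) (K : ℕ), (1 : R') ⊗ₜ[R] r = z₁ ∧ f ^ K • (f ^ N • r - g) = 0 := by
  classical
  let e := TensorProduct.finsuppScalarRight R R R' ι
  set ζ : ι →₀ R' := e z₁ with hζ
  have hcoord : ∀ i : ι, algebraMap R R' f ^ N * ζ i = algebraMap R R' (g i) := by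
    intro i
    have h1 : e (f ^ N • z₁) i = e ((1 : R') ⊗ₜ[R] g) i := by rw [h]
    rw [map_smul, TensorProduct.finsuppScalarRight_apply_tmul_apply, Finsupp.smul_apply,
      Algebra.smul_def, map_pow] at h1
    rw [h1, Algebra.algebraMap_eq_smul_one]
  have hch : ∀ i : ι, ∃ r : R, algebraMap R R' r = ζ i ∧
      ∃ k : ℕ, f ^ k * (f ^ N * r - g i) = 0 :=
    fun i => gp_mid_elem hRR (ζ i) _ N (hcoord i)
  choose ρ hρ1 hρ2 using hch
  choose κ hκ using hρ2
  let s : Finset ι := ζ.support ∪ g.support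
  let r : ι →₀ R := Finsupp.onFinset s (fun i => if i ∈ s then ρ i else 0) (by
    intro i hi
    by_contra his
    simp [his] at hi)
  have hr_in : ∀ i ∈ s, r i = ρ i := by
    intro i hi
    simp [r, Finsupp.onFinset_apply, hi]
  have hr_out : ∀ i, i ∉ s → r i = 0 := by
    intro i hi
    simp [r, Finsupp.onFinset_apply, hi]
  have hout : ∀ i, i ∉ s → ζ i = 0 ∧ g i = 0 := by
    intro i hi
    simp only [s, Finset.mem_union, Finsupp.mem_support_iff, not_or, not_not] at hi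
    exact hi
  have hr1 : ∀ i, algebraMap R R' (r i) = ζ i := by
    intro i
    by_cases hi : i ∈ s
    · rw [hr_in i hi, hρ1]
    · rw [hr_out i hi, (hout i hi).1, map_zero]
  refine ⟨r, s.sup κ, ?_, ?_⟩
  · apply e.injective
    ext i
    rw [TensorProduct.finsuppScalarRight_apply_tmul_apply, ← hζ, ← hr1 i,
      Algebra.algebraMap_eq_smul_one]
  · ext i
    rw [Finsupp.smul_apply, Finsupp.sub_apply, Finsupp.smul_apply, smul_eq_mul, smul_eq_mul,
      Finsupp.zero_apply]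
    by_cases hi : i ∈ s
    · rw [hr_in i hi]
      obtain ⟨d, hd⟩ := Nat.exists_eq_add_of_le (Finset.le_sup hi : κ i ≤ s.sup κ)
      rw [hd, pow_add, mul_comm (f ^ κ i), mul_assoc, hκ i, mul_zero]
    · rw [hr_out i hi, (hout i hi).2]; ring

/-- for a glueing pair, every torsion element of `R' ⊗ M` comes from a torsion element of `M` -/
theorem gp_tors_surj (hRR : EtGlue.IsGlueingPair R R' f) (x : R' ⊗[R] M)
    (hx : ∃ n : ℕ, f ^ n • x = 0) :
    ∃ m : M, (∃ n : ℕ, f ^ n • m = 0) ∧ (1 : R') ⊗ₜ[R] m = x := by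
  have hq : EtGlue.QuotPowBijective R R' f := hRR.1
  obtain ⟨N, hN⟩ := hx
  have hπ : Function.Surjective (Finsupp.linearCombination R (id : M → M)) :=
    Finsupp.linearCombination_id_surjective R M
  obtain ⟨z, hz⟩ := LinearMap.lTensor_surjective R' hπ x
  obtain ⟨z₁, g, hg0, hz₁, hz₁g⟩ := improve_lift hq _ hπ N z (by rw [hz, hN])
  obtain ⟨r, K, h1r, hK⟩ := free_lift hRR N z₁ g hz₁g
  refine ⟨Finsupp.linearCombination R (id : M → M) r, ⟨K + N, ?_⟩, ?_⟩
  · have := congrArg (Finsupp.linearCombination R (id : M → M)) hK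
    rw [map_smul, map_sub, hg0, sub_zero, map_smul, ← mul_smul, ← pow_add, map_zero] at this
    exact this
  · rw [← hz, ← hz₁, ← h1r, LinearMap.lTensor_tmul]

/-- S2005, second part -/
theorem gp_glueable_iff (hRR : EtGlue.IsGlueingPair R R' f) :
    EtGlue.IsGlueable R R' f M ↔
      ∀ m : M, (∃ n : ℕ, f ^ n • m = 0) → (1 : R') ⊗ₜ[R] m = 0 → m = 0 := by
  rw [glueable_iff_tors_bij hRR.1]
  constructor
  · exact fun h => h.1
  · exact fun h => ⟨h, gp_tors_surj hRR⟩

end Groth.Agent.Lead.BL
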