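import Mathlib
import Groth.Agent.Lib.Lead.BL3

namespace Groth.Agent.Lead.BL

open TensorProduct

universe u

variable {R R' : Type u} [CommRing R] [CommRing R'] [Algebra R R'] {f : R}
  {M : Type u} [AddCommGroup M] [Module R M]

/-- elements of the span (over `R_f`) of the image of a submodule `N` have a multiple in `N` -/
theorem exists_pow_smul_mem_of_span (N : Submodule R M)
    (y : LocalizedModule (Submonoid.powers f) M)
    (hy : y ∈ Submodule.span (Localization.Away f)
      (LocalizedModule.mkLinearMap (Submonoid.powers f) M '' (N : Set M))) :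
    ∃ (k : ℕ) (n₀ : M), n₀ ∈ N ∧
      f ^ k • y = LocalizedModule.mkLinearMap (Submonoid.powers f) M n₀ := by
  induction hy using Submodule.span_induction with
  | mem y hy =>
    obtain ⟨n₀, hn₀, rfl⟩ := hy
    exact ⟨0, n₀, hn₀, by simp⟩
  | zero => exact ⟨0, 0, N.zero_mem, by simp⟩
  | add y₁ y₂ _ _ h₁ h₂ =>
    obtain ⟨k₁, n₁, hn₁, e₁⟩ := h₁
    obtain ⟨k₂, n₂, hn₂, e₂⟩ := h₂
    refine ⟨k₁ + k₂, f ^ k₂ • n₁ + f ^ k₁ • n₂, N.add_mem (N.smul_mem _ hn₁) (N.smul_mem _ hn₂), ?_⟩
    rw [smul_add, map_add, map_smul, map_smul, ← e₁, ← e₂, ← mul_smul, ← mul_smul, ← pow_add,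
      ← pow_add, add_comm k₂ k₁]
  | smul a y _ h =>
    obtain ⟨k, n₀, hn₀, e⟩ := h
    obtain ⟨⟨r, ⟨_, j, rfl⟩⟩, hr⟩ := IsLocalization.surj (Submonoid.powers f) a
    -- a * f^j = r
    refine ⟨j + k, r • n₀, N.smul_mem _ hn₀, ?_⟩
    have h1 : (algebraMap R (Localization.Away f) (f ^ j)) • (a • y) =
        (algebraMap R (Localization.Away f) r) • y := by
      rw [← mul_smul, mul_comm]
      exact congrArg (fun c => c • y) hr
    rw [algebraMap_smul, algebraMap_smul] at h1
    rw [pow_add, mul_comm, mul_smul, h1, smul_comm, e, map_smul]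

/-- if `1 ⊗ m` lies in the image of `R' ⊗ N` and `M/N` is torsion then `m ∈ N` -/
theorem mem_of_tors_of_tmul_mem (hq : EtGlue.QuotPowBijective R R' f) (N : Submodule R M)
    (htors : ∀ m : M, ∃ k : ℕ, f ^ k • m ∈ N) (m : M)
    (hm : (1 : R') ⊗ₜ[R] m ∈ LinearMap.range (N.subtype.lTensor R')) : m ∈ N := by
  have hP : ∀ p : M ⧸ N, ∃ k : ℕ, f ^ k • p = 0 := by
    intro p
    obtain ⟨m', rfl⟩ := Submodule.Quotient.mk_surjective N p
    obtain ⟨k, hk⟩ := htors m'
    exact ⟨k, by rw [← Submodule.Quotient.mk_smul, Submodule.Quotient.mk_eq_zero]; exact hk⟩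
  obtain ⟨w, hw⟩ := hm
  have h1 : (1 : R') ⊗ₜ[R] (Submodule.Quotient.mk (p := N) m) = 0 := by
    have h2 : N.mkQ.lTensor R' ((1 : R') ⊗ₜ[R] m) = 0 := by
      rw [← hw, ← LinearMap.comp_apply, ← LinearMap.lTensor_comp]
      have : N.mkQ ∘ₗ N.subtype = 0 := by
        ext x
        simp
      rw [this, LinearMap.lTensor_zero, LinearMap.zero_apply]
    exact h2
  have h3 := (tors_bijective hq hP).1 (h1.trans (tmul_zero _ _).symm)
  exact (Submodule.Quotient.mk_eq_zero N).mp h3

/-- S2006, the nontrivial direction -/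
theorem finite_of_finite (hq : EtGlue.QuotPowBijective R R' f)
    (h1 : Module.Finite R' (R' ⊗[R] M))
    (h2 : Module.Finite (Localization.Away f) (LocalizedModule (Submonoid.powers f) M)) :
    Module.Finite R M := by
  classical
  obtain ⟨S₂, hS₂⟩ := h2.fg_top
  obtain ⟨S₁, hS₁⟩ := h1.fg_top
  obtain ⟨N', hN'fin, hN'⟩ := TensorProduct.exists_finite_submodule_right_of_setFinite
    (S₁ : Set (R' ⊗[R] M)) S₁.finite_toSet
  have hch : ∀ y : LocalizedModule (Submonoid.powers f) M, ∃ (m : M) (n : ℕ),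
      f ^ n • y = LocalizedModule.mkLinearMap (Submonoid.powers f) M m := exists_mk_eq
  choose μ ν hμν using hch
  let N : Submodule R M := N' ⊔ Submodule.span R ((S₂.image μ : Finset M) : Set M)
  have hNfg : N.FG := by
    apply Submodule.FG.sup
    · exact Module.Finite.iff_fg.mp hN'fin
    · exact Submodule.fg_span (Finset.finite_toSet _)
  have hNtop : N = ⊤ := by
    rw [eq_top_iff]
    intro m _
    apply mem_of_tors_of_tmul_mem hq N
    · -- torsion
      intro m'
      have hspan : (⊤ : Submodule (Localization.Away f) (LocalizedModule (Submonoid.powers f) M)) ≤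
          Submodule.span (Localization.Away f)
            (LocalizedModule.mkLinearMap (Submonoid.powers f) M '' (N : Set M)) := by
        rw [← hS₂, Submodule.span_le]
        intro y hy
        have hu : IsUnit (algebraMap R (Localization.Away f) (f ^ ν y)) :=
          IsLocalization.map_units (Localization.Away f)
            (⟨f ^ ν y, ν y, rfl⟩ : Submonoid.powers f)
        rw [SetLike.mem_coe, ← Submodule.smul_mem_iff_of_isUnit _ hu, algebraMap_smul, hμν y]
        apply Submodule.subset_span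
        refine ⟨μ y, ?_, rfl⟩
        apply Submodule.mem_sup_right
        apply Submodule.subset_span
        exact Finset.mem_coe.mpr (Finset.mem_image_of_mem μ hy)
      obtain ⟨k, n₀, hn₀, hk⟩ := exists_pow_smul_mem_of_span N
        (LocalizedModule.mkLinearMap (Submonoid.powers f) M m') (hspan Submodule.mem_top)
      rw [← map_smul, mk_eq_iff] at hk
      obtain ⟨j, hj⟩ := hk
      refine ⟨j + k, ?_⟩
      rw [pow_add, mul_smul, hj]
      exact N.smul_mem _ hn₀
    · -- in the image
      have hle : (⊤ : Submodule R' (R' ⊗[R] M)) ≤ LinearMap.range (N.subtype.baseChange R') := by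
        rw [← hS₁, Submodule.span_le]
        intro x hx
        obtain ⟨w, hw⟩ := hN' hx
        refine ⟨(Submodule.inclusion (le_sup_left : N' ≤ N)).lTensor R' w, ?_⟩
        rw [← hw]
        show (N.subtype.lTensor R') ((Submodule.inclusion _).lTensor R' w) = _
        rw [← LinearMap.comp_apply, ← LinearMap.lTensor_comp]
        rfl
      obtain ⟨w, hw⟩ := hle (Submodule.mem_top (x := (1 : R') ⊗ₜ[R] m))
      exact ⟨w, hw⟩
  rw [hNtop] at hNfg
  exact ⟨hNfg⟩

end Groth.Agent.Lead.BL
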