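import Mathlib
import Groth.Agent.Lib.Lead.BL4

namespace Groth.Agent.Lead.BL

open TensorProduct

universe u

variable {R R' : Type u} [CommRing R] [CommRing R'] [Algebra R R'] {f : R}

theorem away_map_eq_zero_iff {A : Type*} [CommRing A] (a x : A) :
    algebraMap A (Localization.Away a) x = 0 ↔ ∃ n : ℕ, a ^ n * x = 0 := by
  rw [IsLocalization.map_eq_zero_iff (Submonoid.powers a)]
  constructor
  · rintro ⟨⟨_, n, rfl⟩, h⟩
    exact ⟨n, h⟩
  · rintro ⟨n, h⟩
    exact ⟨⟨a ^ n, n, rfl⟩, h⟩

/-- S2004 -/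
theorem gp_iff_tors_bij (hq : EtGlue.QuotPowBijective R R' f) :
    EtGlue.IsGlueingPair R R' f ↔
      ((∀ x : R, (∃ n : ℕ, f ^ n * x = 0) → algebraMap R R' x = 0 → x = 0) ∧
       (∀ x' : R', (∃ n : ℕ, algebraMap R R' f ^ n * x' = 0) →
          ∃ x : R, (∃ n : ℕ, f ^ n * x = 0) ∧ algebraMap R R' x = x')) := by
  constructor
  · rintro ⟨_, hinj, hmid, _⟩
    refine ⟨?_, ?_⟩
    · intro x hx h0
      apply hinj
      show (algebraMap R R' x, algebraMap R (Localization.Away f) x) =
        (algebraMap R R' 0, algebraMap R (Localization.Away f) 0)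
      rw [h0, (away_map_eq_zero_iff f x).mpr hx, map_zero, map_zero]
    · intro x' hx'
      obtain ⟨r, hr1, hr2⟩ := hmid x' 0 (by
        rw [map_zero]
        exact (away_map_eq_zero_iff _ x').mpr hx')
      exact ⟨r, (away_map_eq_zero_iff f r).mp hr2, hr1⟩
  · rintro ⟨hti, hts⟩
    refine ⟨hq, ?_, ?_, ?_⟩
    · intro r₁ r₂ h
      have h1 : algebraMap R R' r₁ = algebraMap R R' r₂ := congrArg Prod.fst h
      have h2 : algebraMap R (Localization.Away f) r₁ = algebraMap R (Localization.Away f) r₂ :=
        congrArg Prod.snd h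
      have h3 : r₁ - r₂ = 0 := by
        apply hti
        · rw [← away_map_eq_zero_iff, map_sub, h2, sub_self]
        · rw [map_sub, h1, sub_self]
      exact sub_eq_zero.mp h3
    · intro x y hxy
      obtain ⟨g, ⟨_, n, rfl⟩, rfl⟩ := IsLocalization.exists_mk'_eq (Submonoid.powers f) y
      rw [Localization.awayMap, IsLocalization.Away.map, IsLocalization.map_mk',
        IsLocalization.eq_mk'_iff_mul_eq, ← map_mul] at hxy
      have h0 : algebraMap R' (Localization.Away (algebraMap R R' f))
          (x * algebraMap R R' (f ^ n) - algebraMap R R' g) = 0 := by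
        rw [map_sub]
        exact sub_eq_zero.mpr hxy
      rw [away_map_eq_zero_iff] at h0
      obtain ⟨t₀, ht₀, ht₀'⟩ := hts _ h0
      obtain ⟨m₂, hm₂⟩ := q_inj hq n (g + t₀) ⟨x, by rw [map_add, ht₀']; ring⟩
      obtain ⟨t₁, ht₁, ht₁'⟩ := hts (x - algebraMap R R' m₂) ⟨n, by
        have : algebraMap R R' (g + t₀) = algebraMap R R' (f ^ n * m₂) := by rw [hm₂]
        rw [map_add, ht₀', map_mul, map_pow] at this
        linear_combination this⟩
      refine ⟨m₂ + t₁, by rw [map_add, ht₁']; ring, ?_⟩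
      rw [IsLocalization.eq_mk'_iff_mul_eq, ← map_mul]
      have h5 : algebraMap R (Localization.Away f) ((m₂ + t₁) * f ^ n - g) = 0 := by
        rw [away_map_eq_zero_iff]
        obtain ⟨k₀, hk₀⟩ := ht₀
        obtain ⟨k₁, hk₁⟩ := ht₁
        refine ⟨k₀ + k₁, ?_⟩
        have : (m₂ + t₁) * f ^ n - g = t₀ + f ^ n * t₁ := by
          have : g = f ^ n * m₂ - t₀ := by rw [← hm₂]; ring
          rw [this]; ring
        rw [this, mul_add, pow_add]
        have e1 : f ^ k₀ * f ^ k₁ * t₀ = f ^ k₁ * (f ^ k₀ * t₀) := by ring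
        have e2 : f ^ k₀ * f ^ k₁ * (f ^ n * t₁) = f ^ k₀ * f ^ n * (f ^ k₁ * t₁) := by ring
        rw [e1, e2, hk₀, hk₁, mul_zero, mul_zero, add_zero]
      rw [map_sub] at h5
      exact sub_eq_zero.mp h5
    · intro z
      obtain ⟨n, x, hx⟩ := IsLocalization.Away.surj (algebraMap R R' f) z
      obtain ⟨r, s', hr⟩ := q_surj hq n x
      refine ⟨s', -(IsLocalization.mk' (Localization.Away f) r
        (⟨f ^ n, n, rfl⟩ : Submonoid.powers f)), ?_⟩
      have hφ : ∀ a : R, Localization.awayMap (algebraMap R R') f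
          (algebraMap R (Localization.Away f) a) =
          algebraMap R' (Localization.Away (algebraMap R R' f)) (algebraMap R R' a) :=
        fun a => IsLocalization.map_eq _ a
      have hspec : Localization.awayMap (algebraMap R R') f
          (IsLocalization.mk' (Localization.Away f) r (⟨f ^ n, n, rfl⟩ : Submonoid.powers f)) *
          algebraMap R' (Localization.Away (algebraMap R R' f)) (algebraMap R R' (f ^ n)) =
          algebraMap R' (Localization.Away (algebraMap R R' f)) (algebraMap R R' r) := by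
        rw [← hφ, ← hφ, ← map_mul]
        congr 1
        exact IsLocalization.mk'_spec _ r (⟨f ^ n, n, rfl⟩ : Submonoid.powers f)
      have hu : IsUnit (algebraMap R' (Localization.Away (algebraMap R R' f))
          (algebraMap R R' f) ^ n) :=
        (IsLocalization.Away.algebraMap_isUnit _).pow n
      apply hu.mul_left_inj.mp
      rw [hx, map_neg, sub_neg_eq_add, add_mul, ← map_pow, ← map_pow, hspec, ← map_mul, ← map_add]
      congr 1
      rw [hr]; ring

end Groth.Agent.Lead.BL
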