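import Mathlib
import Groth.Agent.Lib.Lead.BL5

namespace Groth.Agent.Lead.BL

open TensorProduct

universe u

variable {R R' : Type u} [CommRing R] [CommRing R'] [Algebra R R'] {f : R}
  {M' : Type u} [AddCommGroup M'] [Module R' M'] [Module R M'] [IsScalarTower R R' M']
  {M₁ : Type u} [AddCommGroup M₁] [Module R M₁]
  (α : LocalizedModule (Submonoid.powers (algebraMap R R' f)) M' ≃ₗ[R'] R' ⊗[R] M₁)

/-- the localization map of `M'` -/
noncomputable abbrev ell (f : R) (M' : Type u) [AddCommGroup M'] [Module R' M'] :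
    M' →ₗ[R'] LocalizedModule (Submonoid.powers (algebraMap R R' f)) M' :=
  LocalizedModule.mkLinearMap (Submonoid.powers (algebraMap R R' f)) M'

theorem alpha_ell_smul (r : R) (x : M') :
    α (ell f M' (r • x)) = r • α (ell f M' x) := by
  rw [← algebraMap_smul R' r x, map_smul, map_smul, algebraMap_smul]

/-- the glued module -/
def glueSub : Submodule R (M' × M₁) where
  carrier := {p | α (ell f M' p.1) = (1 : R') ⊗ₜ[R] p.2}
  add_mem' := by
    intro a b ha hb
    simp only [Set.mem_ofPred_eq, Prod.fst_add, Prod.snd_add, map_add, tmul_add] at *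
    rw [ha, hb]
  zero_mem' := by simp
  smul_mem' := by
    intro r a ha
    simp only [Set.mem_ofPred_eq, Prod.smul_fst, Prod.smul_snd] at *
    rw [alpha_ell_smul, ha, tmul_smul]

theorem mem_glueSub (p : M' × M₁) :
    p ∈ glueSub α ↔ α (ell f M' p.1) = (1 : R') ⊗ₜ[R] p.2 := Iff.rfl

/-- first projection -/
def pr1 : glueSub α →ₗ[R] M' := (LinearMap.fst R M' M₁).comp (glueSub α).subtype

/-- second projection -/
def pr2 : glueSub α →ₗ[R] M₁ := (LinearMap.snd R M' M₁).comp (glueSub α).subtype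

theorem alpha_pr1 (m : glueSub α) : α (ell f M' (pr1 α m)) = (1 : R') ⊗ₜ[R] (pr2 α m) := m.2


section loc

variable (hf : Function.Bijective fun x : M₁ => f • x)

include hf in
theorem pow_smul_bijective (n : ℕ) : Function.Bijective fun x : M₁ => f ^ n • x := by
  induction n with
  | zero =>
    simp only [pow_zero, one_smul]
    exact Function.bijective_id
  | succ n ih =>
    have : (fun x : M₁ => f ^ (n + 1) • x) = (fun x => f ^ n • x) ∘ (fun x => f • x) := by
      funext x
      simp [pow_succ, mul_smul]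
    rw [this]
    exact ih.comp hf

include hf in
theorem isLocalizedModule_pr2 : IsLocalizedModule (Submonoid.powers f) (pr2 α) := by
  constructor
  · rintro ⟨_, n, rfl⟩
    rw [Module.End.isUnit_iff]
    exact pow_smul_bijective hf n
  · intro y
    obtain ⟨⟨x, ⟨_, n, rfl⟩⟩, hx⟩ := IsLocalizedModule.surj
      (Submonoid.powers (algebraMap R R' f)) (ell (R' := R') f M') (α.symm ((1 : R') ⊗ₜ[R] y))
    have hmem : (x, f ^ n • y) ∈ glueSub α := by
      rw [mem_glueSub]
      show α (ell f M' x) = (1 : R') ⊗ₜ[R] (f ^ n • y)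
      rw [← hx]
      show α ((algebraMap R R' f ^ n) • α.symm ((1 : R') ⊗ₜ[R] y)) = _
      rw [map_smul, α.apply_symm_apply, ← map_pow, algebraMap_smul, tmul_smul]
    exact ⟨⟨⟨(x, f ^ n • y), hmem⟩, ⟨f ^ n, n, rfl⟩⟩, rfl⟩
  · intro m₁ m₂ h
    have h1 : α (ell f M' (pr1 α m₁ - pr1 α m₂)) = 0 := by
      rw [map_sub, map_sub, alpha_pr1, alpha_pr1, h, sub_self]
    have h2 : ell (R' := R') f M' (pr1 α m₁ - pr1 α m₂) = 0 := by
      apply α.injective
      rw [h1, map_zero]
    obtain ⟨⟨_, k, rfl⟩, hk⟩ := (IsLocalizedModule.eq_zero_iff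
      (Submonoid.powers (algebraMap R R' f)) (ell (R' := R') f M')).mp h2
    refine ⟨⟨f ^ k, k, rfl⟩, ?_⟩
    apply Subtype.ext
    apply Prod.ext
    · show f ^ k • pr1 α m₁ = f ^ k • pr1 α m₂
      have : (algebraMap R R' f ^ k) • (pr1 α m₁ - pr1 α m₂) = 0 := hk
      rw [← map_pow, algebraMap_smul, smul_sub, sub_eq_zero] at this
      exact this
    · show f ^ k • pr2 α m₁ = f ^ k • pr2 α m₂
      rw [h]

include hf in
/-- the kernel of `R' ⊗ pr2` is `f`-power torsion -/
theorem lTensor_pr2_ker (w : R' ⊗[R] glueSub α) (hw : (pr2 α).lTensor R' w = 0) :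
    ∃ k : ℕ, f ^ k • w = 0 := by
  have inst : IsLocalizedModule (Submonoid.powers f) (pr2 α) := isLocalizedModule_pr2 α hf
  have inst2 : IsLocalizedModule (Submonoid.powers f)
      (AlgebraTensorModule.rTensor R R' (pr2 α)) :=
    inferInstance
  have hcomm : ∀ w : R' ⊗[R] glueSub α,
      AlgebraTensorModule.rTensor R R' (pr2 α) (TensorProduct.comm R R' (glueSub α) w) =
      TensorProduct.comm R R' M₁ ((pr2 α).lTensor R' w) := by
    intro w
    induction w using TensorProduct.induction_on with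
    | zero => simp
    | tmul r' m => rfl
    | add x y hx hy => rw [map_add, map_add, hx, hy, map_add, map_add]
  have h0 : AlgebraTensorModule.rTensor R R' (pr2 α) (TensorProduct.comm R R' (glueSub α) w) = 0 := by
    rw [hcomm, hw, map_zero]
  obtain ⟨⟨_, k, rfl⟩, hk⟩ := (IsLocalizedModule.eq_zero_iff (Submonoid.powers f)
    (AlgebraTensorModule.rTensor R R' (pr2 α))).mp h0
  refine ⟨k, ?_⟩
  apply (TensorProduct.comm R R' (glueSub α)).injective
  rw [map_smul, map_zero]
  exact hk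

include hf in
/-- `R' ⊗ pr2` is surjective up to powers of `f` -/
theorem lTensor_pr2_surj (t : R' ⊗[R] M₁) :
    ∃ (w : R' ⊗[R] glueSub α) (n : ℕ), f ^ n • t = (pr2 α).lTensor R' w := by
  have inst : IsLocalizedModule (Submonoid.powers f) (pr2 α) := isLocalizedModule_pr2 α hf
  induction t using TensorProduct.induction_on with
  | zero => exact ⟨0, 0, by simp⟩
  | tmul r' y =>
    obtain ⟨⟨m, ⟨_, n, rfl⟩⟩, hm⟩ := IsLocalizedModule.surj (Submonoid.powers f) (pr2 α) y
    refine ⟨r' ⊗ₜ m, n, ?_⟩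
    rw [LinearMap.lTensor_tmul, ← hm, ← tmul_smul]
    rfl
  | add t₁ t₂ h₁ h₂ =>
    obtain ⟨w₁, n₁, e₁⟩ := h₁
    obtain ⟨w₂, n₂, e₂⟩ := h₂
    refine ⟨f ^ n₂ • w₁ + f ^ n₁ • w₂, n₁ + n₂, ?_⟩
    rw [map_add, map_smul, map_smul, ← e₁, ← e₂, smul_add, ← mul_smul, ← mul_smul, ← pow_add,
      ← pow_add, add_comm n₂ n₁]

end loc


section main

/-- comparison map `R' ⊗ M → M'` -/
noncomputable def ePrime : R' ⊗[R] glueSub α →ₗ[R'] M' := (pr1 α).liftBaseChange R'

theorem ePrime_one_tmul (m : glueSub α) : ePrime α ((1 : R') ⊗ₜ[R] m) = pr1 α m := by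
  unfold ePrime
  rw [LinearMap.liftBaseChange_tmul, one_smul]

theorem ePrime_smul (r : R) (w : R' ⊗[R] glueSub α) : ePrime α (r • w) = r • ePrime α w := by
  rw [← algebraMap_smul R' r w, map_smul, algebraMap_smul]

theorem alpha_ell_ePrime (w : R' ⊗[R] glueSub α) :
    α (ell f M' (ePrime α w)) = (pr2 α).lTensor R' w := by
  induction w using TensorProduct.induction_on with
  | zero => simp
  | tmul r' m =>
    unfold ePrime
    rw [LinearMap.liftBaseChange_tmul, map_smul, map_smul, alpha_pr1, LinearMap.lTensor_tmul,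
      smul_tmul', smul_eq_mul, mul_one]
  | add x y hx hy => rw [map_add, map_add, map_add, hx, hy, map_add]

variable (hf : Function.Bijective fun x : M₁ => f • x)

include hf in
theorem tors_glueSub (m : glueSub α) (hm : ∃ n : ℕ, f ^ n • m = 0) (h1 : pr1 α m = 0) :
    m = 0 := by
  obtain ⟨n, hn⟩ := hm
  have h2 : f ^ n • pr2 α m = 0 := by
    rw [← map_smul, hn, map_zero]
  have h3 : pr2 α m = 0 := (pow_smul_bijective hf n).1 (h2.trans (smul_zero _).symm)
  apply Subtype.ext
  exact Prod.ext h1 h3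

include hf in
theorem pow_smul_injective_tensor (n : ℕ) (t : R' ⊗[R] M₁) (ht : f ^ n • t = 0) : t = 0 := by
  let e : M₁ ≃ₗ[R] M₁ := LinearEquiv.ofBijective (LinearMap.lsmul R M₁ (f ^ n))
    (pow_smul_bijective hf n)
  have h : ∀ t : R' ⊗[R] M₁, (e.lTensor R') t = f ^ n • t := by
    intro t
    induction t using TensorProduct.induction_on with
    | zero => simp
    | tmul r' y =>
      rw [LinearEquiv.lTensor_tmul, ← tmul_smul]
      rfl
    | add x y hx hy => rw [map_add, hx, hy, smul_add]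
  apply (e.lTensor R').injective
  rw [h, ht, map_zero]

variable (hRR : EtGlue.IsGlueingPair R R' f)

include hf hRR in
theorem ePrime_injective : Function.Injective (ePrime α) := by
  rw [← LinearMap.ker_eq_bot, LinearMap.ker_eq_bot']
  intro w hw
  have h1 : (pr2 α).lTensor R' w = 0 := by rw [← alpha_ell_ePrime, hw, map_zero, map_zero]
  obtain ⟨m, hm, rfl⟩ := gp_tors_surj hRR w (lTensor_pr2_ker α hf w h1)
  rw [ePrime_one_tmul] at hw
  rw [tors_glueSub α hf m hm hw, tmul_zero]

include hf hRR in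
theorem ePrime_surjective : Function.Surjective (ePrime α) := by
  intro x
  have hq := hRR.1
  -- step 1
  obtain ⟨w, n, hw⟩ := lTensor_pr2_surj α hf (α (ell f M' x))
  have h1 : ell (R' := R') f M' (f ^ n • x - ePrime α w) = 0 := by
    apply α.injective
    rw [map_sub, map_sub, alpha_ell_smul, alpha_ell_ePrime, hw, sub_self, map_zero]
  obtain ⟨⟨_, k, rfl⟩, hk⟩ := (IsLocalizedModule.eq_zero_iff
    (Submonoid.powers (algebraMap R R' f)) (ell (R' := R') f M')).mp h1
  have hk' : f ^ k • (f ^ n • x - ePrime α w) = 0 := by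
    have : (algebraMap R R' f ^ k) • (f ^ n • x - ePrime α w) = 0 := hk
    rwa [← map_pow, algebraMap_smul] at this
  have h2 : f ^ (k + n) • x = ePrime α (f ^ k • w) := by
    rw [ePrime_smul, pow_add, mul_smul]
    rw [smul_sub, sub_eq_zero] at hk'
    exact hk'
  -- step 2
  obtain ⟨m, w₂, hmw⟩ := b_surj hq (k + n) (f ^ k • w)
  have h3 : pr1 α m = f ^ (k + n) • (x - ePrime α w₂) := by
    rw [smul_sub, h2, hmw, map_add, ePrime_one_tmul, ePrime_smul]
    abel
  obtain ⟨y₃, hy₃⟩ := (pow_smul_bijective hf (k + n)).2 (pr2 α m)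
  have hmem : (x - ePrime α w₂, y₃) ∈ glueSub α := by
    rw [mem_glueSub]
    have : f ^ (k + n) • (α (ell f M' (x - ePrime α w₂)) - (1 : R') ⊗ₜ[R] y₃) = 0 := by
      rw [smul_sub, ← alpha_ell_smul, ← h3, alpha_pr1, ← tmul_smul]
      show (1 : R') ⊗ₜ[R] pr2 α m - (1 : R') ⊗ₜ[R] (f ^ (k + n) • y₃) = 0
      have hy₃' : f ^ (k + n) • y₃ = pr2 α m := hy₃
      rw [hy₃', sub_self]
    exact sub_eq_zero.mp (pow_smul_injective_tensor hf _ _ this)
  have hm₃ : m = f ^ (k + n) • (⟨(x - ePrime α w₂, y₃), hmem⟩ : glueSub α) := by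
    apply Subtype.ext
    apply Prod.ext
    · exact h3
    · exact hy₃.symm
  -- step 3
  set w₄ : R' ⊗[R] glueSub α :=
    (1 : R') ⊗ₜ[R] (⟨(x - ePrime α w₂, y₃), hmem⟩ : glueSub α) + w₂ with hw₄
  have h4 : f ^ k • w = f ^ (k + n) • w₄ := by
    rw [hmw, hm₃, hw₄, smul_add, tmul_smul]
  have h5 : f ^ (k + n) • (x - ePrime α w₄) = 0 := by
    rw [smul_sub, h2, h4, ePrime_smul, sub_self]
  have h6 : ell (R' := R') f M' (x - ePrime α w₄) = 0 := by
    rw [IsLocalizedModule.eq_zero_iff (Submonoid.powers (algebraMap R R' f))]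
    refine ⟨⟨algebraMap R R' f ^ (k + n), k + n, rfl⟩, ?_⟩
    show (algebraMap R R' f ^ (k + n)) • (x - ePrime α w₄) = 0
    rw [← map_pow, algebraMap_smul]
    exact h5
  have hmem5 : (x - ePrime α w₄, (0 : M₁)) ∈ glueSub α := by
    rw [mem_glueSub]
    show α (ell f M' (x - ePrime α w₄)) = (1 : R') ⊗ₜ[R] (0 : M₁)
    rw [h6, map_zero, tmul_zero]
  refine ⟨w₄ + (1 : R') ⊗ₜ[R] (⟨(x - ePrime α w₄, 0), hmem5⟩ : glueSub α), ?_⟩
  rw [map_add, ePrime_one_tmul]
  show ePrime α w₄ + (x - ePrime α w₄) = x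
  abel

include hf hRR in
theorem glueSub_glueable : EtGlue.IsGlueable R R' f (glueSub α) := by
  rw [gp_glueable_iff hRR]
  intro m hm h1
  apply tors_glueSub α hf m hm
  rw [← ePrime_one_tmul, h1, map_zero]

include hf hRR in
/-- S2000 for modules `M'` with a compatible `R`-structure -/
theorem bl_main :
    ∃ (M : Type u) (_ : AddCommGroup M) (_ : Module R M) (_ : EtGlue.IsGlueable R R' f M)
      (e' : R' ⊗[R] M ≃ₗ[R'] M') (e₁ : LocalizedModule (Submonoid.powers f) M ≃ₗ[R] M₁),
      ∀ m : M, α (LocalizedModule.mkLinearMap (Submonoid.powers (algebraMap R R' f)) M'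
        (e' ((1 : R') ⊗ₜ[R] m))) =
        (1 : R') ⊗ₜ[R] e₁ (LocalizedModule.mkLinearMap (Submonoid.powers f) M m) := by
  have inst : IsLocalizedModule (Submonoid.powers f) (pr2 α) := isLocalizedModule_pr2 α hf
  refine ⟨glueSub α, inferInstance, inferInstance, glueSub_glueable α hf hRR,
    LinearEquiv.ofBijective (ePrime α) ⟨ePrime_injective α hf hRR, ePrime_surjective α hf hRR⟩,
    IsLocalizedModule.iso (Submonoid.powers f) (pr2 α), ?_⟩
  intro m
  have h1 : (LinearEquiv.ofBijective (ePrime α)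
      ⟨ePrime_injective α hf hRR, ePrime_surjective α hf hRR⟩) ((1 : R') ⊗ₜ[R] m) = pr1 α m :=
    ePrime_one_tmul α m
  have h2 : IsLocalizedModule.iso (Submonoid.powers f) (pr2 α)
      (LocalizedModule.mkLinearMap (Submonoid.powers f) (glueSub α) m) = pr2 α m := by
    rw [LocalizedModule.mkLinearMap_apply, IsLocalizedModule.iso_mk_one]
  rw [h1, h2]
  exact alpha_pr1 α m

end main

end Groth.Agent.Lead.BL
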