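import Mathlib
import Groth.Agent.Lib.Lead.BL6

set_option autoImplicit false
universe u
open TensorProduct

namespace Groth.Agent.Lead.BL

variable {R R' : Type u} [CommRing R] [CommRing R'] [Algebra R R'] {f : R}

/-- kernel of a surjection of flat modules is flat -/
theorem flat_of_exact {S : Type*} [CommRing S] {A B C : Type*} [AddCommGroup A] [AddCommGroup B]
    [AddCommGroup C] [Module S A] [Module S B] [Module S C] [Module.Flat S B] [Module.Flat S C]
    (i : A →ₗ[S] B) (p : B →ₗ[S] C) (hi : Function.Injective i) (hp : Function.Surjective p)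
    (hex : Function.Exact i p) : Module.Flat S A := by
  rw [Module.Flat.iff_lTensor_preserves_injective_linearMap]
  intro N N' _ _ _ _ j hj
  -- A ⊗ N → A ⊗ N' ; compose with i ⊗ N' injective
  have h1 : Function.Injective (i.rTensor N) := by
    rw [← LinearMap.lTensor_inj_iff_rTensor_inj]
    exact LinearMap.lTensor_injective_of_exact_of_flat p hp i hi hex N
  have h2 : Function.Injective (j.lTensor B) :=
    Module.Flat.lTensor_preserves_injective_linearMap j hj
  have h3 : (i.rTensor N').comp (j.lTensor A) = (j.lTensor B).comp (i.rTensor N) := by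
    rw [LinearMap.rTensor_comp_lTensor, LinearMap.lTensor_comp_rTensor]
  have h4 : Function.Injective ((i.rTensor N').comp (j.lTensor A)) := by
    rw [h3]; exact h2.comp h1
  exact Function.Injective.of_comp h4

/-- elements killed by tensoring with a localization map are power torsion -/
theorem rTensor_loc_ker {N N₁ : Type*} [AddCommGroup N] [Module R N] [AddCommGroup N₁]
    [Module R N₁] (g : N →ₗ[R] N₁) [IsLocalizedModule (Submonoid.powers f) g]
    (Q : Type*) [AddCommGroup Q] [Module R Q] (x : N ⊗[R] Q) (hx : g.rTensor Q x = 0) :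
    ∃ k : ℕ, f ^ k • x = 0 := by
  have inst2 : IsLocalizedModule (Submonoid.powers f) (AlgebraTensorModule.rTensor R Q g) :=
    inferInstance
  have h0 : AlgebraTensorModule.rTensor R Q g x = 0 := hx
  obtain ⟨⟨_, k, rfl⟩, hk⟩ := (IsLocalizedModule.eq_zero_iff (Submonoid.powers f)
    (AlgebraTensorModule.rTensor R Q g)).mp h0
  exact ⟨k, hk⟩

theorem flat_R_of_flat_loc (M : Type u) [AddCommGroup M] [Module R M]
    [Module.Flat (Localization.Away f) (LocalizedModule (Submonoid.powers f) M)] :
    Module.Flat R (LocalizedModule (Submonoid.powers f) M) := by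
  haveI : Module.Flat R (Localization.Away f) := IsLocalization.flat _ (Submonoid.powers f)
  exact Module.Flat.trans R (Localization.Away f) _

theorem ker_rTensor_tors {F M : Type u} [AddCommGroup F] [Module R F] [AddCommGroup M] [Module R M]
    (π : F →ₗ[R] M) (hπ : Function.Surjective π)
    [Module.Flat (Localization.Away f) (LocalizedModule (Submonoid.powers f) M)]
    (Q : Type*) [AddCommGroup Q] [Module R Q] (x : (LinearMap.ker π) ⊗[R] Q)
    (hx : (LinearMap.ker π).subtype.rTensor Q x = 0) : ∃ k : ℕ, f ^ k • x = 0 := by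
  haveI := flat_R_of_flat_loc (f := f) M
  let S := Submonoid.powers f
  let mkG := LocalizedModule.mkLinearMap S (LinearMap.ker π)
  let mkF := LocalizedModule.mkLinearMap S F
  let mkM := LocalizedModule.mkLinearMap S M
  let i_f := IsLocalizedModule.map S mkG mkF (LinearMap.ker π).subtype
  let π_f := IsLocalizedModule.map S mkF mkM π
  have hinj : Function.Injective i_f :=
    IsLocalizedModule.map_injective S mkG mkF _ (Submodule.injective_subtype _)
  have hsurj : Function.Surjective π_f := IsLocalizedModule.map_surjective S mkF mkM _ hπ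
  have hex : Function.Exact i_f π_f :=
    IsLocalizedModule.map_exact S mkG mkF mkM _ _ (LinearMap.exact_subtype_ker_map π)
  have h1 : Function.Injective (i_f.rTensor Q) := by
    rw [← LinearMap.lTensor_inj_iff_rTensor_inj]
    exact LinearMap.lTensor_injective_of_exact_of_flat π_f hsurj i_f hinj hex Q
  have h2 : (i_f.rTensor Q).comp (mkG.rTensor Q) =
      (mkF.rTensor Q).comp ((LinearMap.ker π).subtype.rTensor Q) := by
    rw [← LinearMap.rTensor_comp, ← LinearMap.rTensor_comp, IsLocalizedModule.map_comp]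
  have h3 : mkG.rTensor Q x = 0 := by
    apply h1
    rw [map_zero]
    have := LinearMap.congr_fun h2 x
    simp only [LinearMap.comp_apply] at this
    rw [this, hx, map_zero]
  exact rTensor_loc_ker mkG Q x h3

theorem rTensor_comm_apply {R₀ : Type*} [CommSemiring R₀] {N N₁ Q : Type*} [AddCommMonoid N]
    [Module R₀ N] [AddCommMonoid N₁]
    [Module R₀ N₁] [AddCommMonoid Q] [Module R₀ Q] (g : N →ₗ[R₀] N₁) (x : Q ⊗[R₀] N) :
    g.rTensor Q (TensorProduct.comm R₀ Q N x) = TensorProduct.comm R₀ Q N₁ (g.lTensor Q x) := by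
  induction x using TensorProduct.induction_on with
  | zero => simp
  | tmul r' m => rfl
  | add x y hx hy => simp only [map_add, hx, hy]

/-- torsion elements of a free module are detected in `R' ⊗ -` -/
theorem free_tors_inj (hRR : EtGlue.IsGlueingPair R R' f) {ι : Type*} (m : ι →₀ R)
    (hm : ∃ n : ℕ, f ^ n • m = 0) (h : (1 : R') ⊗ₜ[R] m = 0) : m = 0 := by
  classical
  have hinj := ((gp_iff_tors_bij hRR.1).mp hRR).1
  obtain ⟨n, hn⟩ := hm
  ext i
  apply hinj
  · refine ⟨n, ?_⟩
    have := congrArg (fun g : ι →₀ R => g i) hn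
    simpa using this
  · have h1 := congrArg (fun z => TensorProduct.finsuppScalarRight R R R' ι z i) h
    simp only [TensorProduct.finsuppScalarRight_apply_tmul_apply, map_zero,
      Finsupp.zero_apply] at h1
    rw [Algebra.algebraMap_eq_smul_one]
    exact h1

/-- lTensor version of `ker_rTensor_tors` -/
theorem ker_lTensor_tors {F M : Type u} [AddCommGroup F] [Module R F] [AddCommGroup M] [Module R M]
    (π : F →ₗ[R] M) (hπ : Function.Surjective π)
    [Module.Flat (Localization.Away f) (LocalizedModule (Submonoid.powers f) M)]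
    (Q : Type*) [AddCommGroup Q] [Module R Q] (x : Q ⊗[R] (LinearMap.ker π))
    (hx : (LinearMap.ker π).subtype.lTensor Q x = 0) : ∃ k : ℕ, f ^ k • x = 0 := by
  have h1 : (LinearMap.ker π).subtype.rTensor Q (TensorProduct.comm R Q _ x) = 0 := by
    have h0 := rTensor_comm_apply (Q := Q) (LinearMap.ker π).subtype x
    rw [h0, hx, map_zero]
  obtain ⟨k, hk⟩ := ker_rTensor_tors (f := f) π hπ Q _ h1
  refine ⟨k, ?_⟩
  apply (TensorProduct.comm R Q _).injective
  rw [map_smul, map_zero]; exact hk

theorem ker_lTensor_injective' (hRR : EtGlue.IsGlueingPair R R' f) {F M : Type u}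
    [AddCommGroup M] [Module R M] [AddCommGroup F] [Module R F]
    (hFtors : ∀ m : F, (∃ n : ℕ, f ^ n • m = 0) → (1 : R') ⊗ₜ[R] m = 0 → m = 0)
    (π : F →ₗ[R] M) (hπ : Function.Surjective π)
    [Module.Flat (Localization.Away f) (LocalizedModule (Submonoid.powers f) M)] :
    Function.Injective ((LinearMap.ker π).subtype.lTensor R') := by
  rw [injective_iff_map_eq_zero]
  intro x hx
  have hx' : ∃ n : ℕ, f ^ n • x = 0 := ker_lTensor_tors (f := f) π hπ R' x hx
  have h5 := @gp_tors_surj R R' _ _ _ f (↥(LinearMap.ker π)) _ _ hRR x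
  obtain ⟨g, ⟨n, hn⟩, hgx⟩ := h5 hx'
  rw [← hgx, LinearMap.lTensor_tmul] at hx
  rw [← hgx]
  have htors : f ^ n • ((LinearMap.ker π).subtype g) = 0 := by
    rw [← map_smul, hn, map_zero]
  have : ((LinearMap.ker π).subtype g) = 0 :=
    hFtors ((LinearMap.ker π).subtype g) ⟨n, htors⟩ hx
  have hg : g = 0 := by
    apply Subtype.ext
    exact this
  rw [hg, tmul_zero]

theorem ker_flat_baseChange_aux {F M : Type u}
    [AddCommGroup M] [Module R M] [AddCommGroup F] [Module R F] [Module.Flat R F]
    (π : F →ₗ[R] M) (hπ : Function.Surjective π)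
    [Module.Flat R' (R' ⊗[R] M)]
    (hinj : Function.Injective ((LinearMap.ker π).subtype.lTensor R')) :
    Module.Flat R' (R' ⊗[R] (LinearMap.ker π)) := by
  have hex : Function.Exact ((LinearMap.ker π).subtype.lTensor R') (π.lTensor R') :=
    lTensor_exact R' (LinearMap.exact_subtype_ker_map π) hπ
  have hsurj : Function.Surjective (π.lTensor R') := LinearMap.lTensor_surjective R' hπ
  haveI : Module.Flat R' (R' ⊗[R] F) := inferInstance
  exact flat_of_exact (S := R') (A := R' ⊗[R] (LinearMap.ker π)) (B := R' ⊗[R] F)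
    (C := R' ⊗[R] M) ((LinearMap.ker π).subtype.baseChange R') (π.baseChange R')
    hinj hsurj hex

theorem ker_flat_loc {F M : Type u} [AddCommGroup F] [Module R F] [Module.Flat R F]
    [AddCommGroup M] [Module R M]
    (π : F →ₗ[R] M) (hπ : Function.Surjective π)
    [Module.Flat (Localization.Away f) (LocalizedModule (Submonoid.powers f) M)] :
    Module.Flat (Localization.Away f) (LocalizedModule (Submonoid.powers f) (LinearMap.ker π)) := by
  let S := Submonoid.powers f
  have hinj : Function.Injective (LocalizedModule.map S (LinearMap.ker π).subtype) :=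
    IsLocalizedModule.map_injective S _ _ _ (Submodule.injective_subtype _)
  have hsurj : Function.Surjective (LocalizedModule.map S π) :=
    IsLocalizedModule.map_surjective S _ _ _ hπ
  have hex : Function.Exact (LocalizedModule.map S (LinearMap.ker π).subtype)
      (LocalizedModule.map S π) :=
    LocalizedModule.map_exact S _ _ (LinearMap.exact_subtype_ker_map π)
  exact flat_of_exact (S := Localization.Away f) (LocalizedModule.map S (LinearMap.ker π).subtype)
    (LocalizedModule.map S π) hinj hsurj hex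

/-- Case of a test module carrying an `R'`-structure. -/
theorem ker_lTensor_inj_of_module {F M : Type u}
    [AddCommGroup M] [Module R M] [AddCommGroup F] [Module R F]
    (π : F →ₗ[R] M) (hπ : Function.Surjective π)
    [Module.Flat R' (R' ⊗[R] M)]
    (hinj : Function.Injective ((LinearMap.ker π).subtype.lTensor R'))
    (C : Type*) [AddCommGroup C] [Module R C] [Module R' C] [IsScalarTower R R' C] :
    Function.Injective ((LinearMap.ker π).subtype.lTensor C) := by
  have hex : Function.Exact ((LinearMap.ker π).subtype.lTensor R') (π.lTensor R') :=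
    lTensor_exact R' (LinearMap.exact_subtype_ker_map π) hπ
  have hsurj : Function.Surjective (π.lTensor R') := LinearMap.lTensor_surjective R' hπ
  have h1 : Function.Injective (((LinearMap.ker π).subtype.baseChange R').lTensor C) :=
    LinearMap.lTensor_injective_of_exact_of_flat (π.baseChange R') hsurj
      ((LinearMap.ker π).subtype.baseChange R') hinj hex C
  let eG := AlgebraTensorModule.cancelBaseChange R R' R' C (LinearMap.ker π)
  let eF := AlgebraTensorModule.cancelBaseChange R R' R' C F
  have hsq : ∀ z, (LinearMap.ker π).subtype.lTensor C (eG z) =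
      eF (((LinearMap.ker π).subtype.baseChange R').lTensor C z) := by
    intro z
    induction z using TensorProduct.induction_on with
    | zero => simp
    | add x y hx hy => simp only [map_add, hx, hy]
    | tmul c w =>
      induction w using TensorProduct.induction_on with
      | zero => simp
      | add x y hx hy => simp only [tmul_add, map_add, hx, hy]
      | tmul a g =>
        simp [eG, eF]
  intro x y hxy
  have hx := hsq (eG.symm x)
  have hy := hsq (eG.symm y)
  rw [LinearEquiv.apply_symm_apply] at hx hy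
  rw [hx, hy] at hxy
  have := h1 (eF.injective hxy)
  exact eG.symm.injective this

/-- `Tor₁(M, C) = 0` for `f`-power torsion `C`, in terms of a presentation -/
theorem tors_inj (hRR : EtGlue.IsGlueingPair R R' f) {F M : Type u}
    [AddCommGroup M] [Module R M] [AddCommGroup F] [Module R F]
    (hFtors : ∀ m : F, (∃ n : ℕ, f ^ n • m = 0) → (1 : R') ⊗ₜ[R] m = 0 → m = 0)
    (π : F →ₗ[R] M) (hπ : Function.Surjective π)
    [Module.Flat R' (R' ⊗[R] M)]
    [Module.Flat (Localization.Away f) (LocalizedModule (Submonoid.powers f) M)]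
    (C : Type u) [AddCommGroup C] [Module R C] (hC : ∀ c : C, ∃ n : ℕ, f ^ n • c = 0) :
    Function.Injective ((LinearMap.ker π).subtype.lTensor C) := by
  have hinj := ker_lTensor_injective' hRR hFtors π hπ
  have h1 := ker_lTensor_inj_of_module π hπ hinj (R' ⊗[R] C)
  let e : C ≃ₗ[R] R' ⊗[R] C :=
    LinearEquiv.ofBijective (TensorProduct.mk R R' C 1) (tors_bijective hRR.1 hC)
  have hsq : ((LinearMap.ker π).subtype.lTensor (R' ⊗[R] C)).comp (e.toLinearMap.rTensor _) =
      (e.toLinearMap.rTensor F).comp ((LinearMap.ker π).subtype.lTensor C) := by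
    rw [LinearMap.lTensor_comp_rTensor, LinearMap.rTensor_comp_lTensor]
  have h2 : Function.Injective (e.toLinearMap.rTensor (LinearMap.ker π)) :=
    (e.rTensor (LinearMap.ker π)).injective
  have h3 : Function.Injective (((LinearMap.ker π).subtype.lTensor (R' ⊗[R] C)).comp
      (e.toLinearMap.rTensor _)) := h1.comp h2
  rw [hsq] at h3
  exact Function.Injective.of_comp h3

/-- Step B: injectivity of `Q_n ⊗ G → Q ⊗ G` -/
theorem stepB (hRR : EtGlue.IsGlueingPair R R' f) {E G : Type u}
    [AddCommGroup G] [Module R G] [AddCommGroup E] [Module R E] [Module.Flat R E]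
    (hEtors : ∀ m : E, (∃ n : ℕ, f ^ n • m = 0) → (1 : R') ⊗ₜ[R] m = 0 → m = 0)
    (ρ : E →ₗ[R] G) (hρ : Function.Surjective ρ)
    [Module.Flat R' (R' ⊗[R] G)]
    [Module.Flat (Localization.Away f) (LocalizedModule (Submonoid.powers f) G)]
    (Q : Type u) [AddCommGroup Q] [Module R Q] (Qn : Submodule R Q)
    (hQn : ∀ c : Q ⧸ Qn, ∃ m : ℕ, f ^ m • c = 0) :
    Function.Injective (Qn.subtype.rTensor G) := by
  rw [← LinearMap.lTensor_inj_iff_rTensor_inj]
  have hfinj : Function.Injective ((LinearMap.ker ρ).subtype.rTensor (Q ⧸ Qn)) := by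
    rw [← LinearMap.lTensor_inj_iff_rTensor_inj]
    exact tors_inj hRR hEtors ρ hρ (Q ⧸ Qn) hQn
  exact lTensor_injective_of_exact_of_exact_of_rTensor_injective
    (LinearMap.exact_subtype_ker_map ρ) hρ (LinearMap.exact_subtype_mkQ Qn)
    (Submodule.mkQ_surjective Qn) hfinj
    (Module.Flat.lTensor_preserves_injective_linearMap Qn.subtype Qn.injective_subtype)

theorem all_inj (hRR : EtGlue.IsGlueingPair R R' f) {F M E : Type u}
    [AddCommGroup M] [Module R M] [AddCommGroup F] [Module R F] [Module.Flat R F]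
    (hFtors : ∀ m : F, (∃ n : ℕ, f ^ n • m = 0) → (1 : R') ⊗ₜ[R] m = 0 → m = 0)
    (π : F →ₗ[R] M) (hπ : Function.Surjective π)
    [Module.Flat R' (R' ⊗[R] M)]
    [Module.Flat (Localization.Away f) (LocalizedModule (Submonoid.powers f) M)]
    [AddCommGroup E] [Module R E] [Module.Flat R E]
    (hEtors : ∀ m : E, (∃ n : ℕ, f ^ n • m = 0) → (1 : R') ⊗ₜ[R] m = 0 → m = 0)
    (ρ : E →ₗ[R] (LinearMap.ker π)) (hρ : Function.Surjective ρ)
    (Q : Type u) [AddCommGroup Q] [Module R Q] :
    Function.Injective ((LinearMap.ker π).subtype.lTensor Q) := by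
  haveI hG' : Module.Flat R' (R' ⊗[R] (LinearMap.ker π)) :=
    ker_flat_baseChange_aux π hπ (ker_lTensor_injective' hRR hFtors π hπ)
  haveI hGf : Module.Flat (Localization.Away f)
      (LocalizedModule (Submonoid.powers f) (LinearMap.ker π)) := ker_flat_loc π hπ
  rw [injective_iff_map_eq_zero]
  intro x hx
  obtain ⟨n, hn⟩ := ker_lTensor_tors (f := f) π hπ Q x hx
  obtain ⟨μ, hμ⟩ : ∃ μ : Q →ₗ[R] Q, ∀ q, μ q = f ^ n • q :=
    ⟨LinearMap.lsmul R Q (f ^ n), fun q => rfl⟩
  have hjp : (LinearMap.range μ).subtype ∘ₗ μ.rangeRestrict = μ := LinearMap.subtype_comp_codRestrict _ _ _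
  have hQn : ∀ c : Q ⧸ (LinearMap.range μ), ∃ m : ℕ, f ^ m • c = 0 := by
    intro c
    obtain ⟨q, rfl⟩ := Submodule.Quotient.mk_surjective _ c
    refine ⟨n, ?_⟩
    rw [← Submodule.Quotient.mk_smul, Submodule.Quotient.mk_eq_zero]
    exact ⟨q, hμ q⟩
  have hB := stepB hRR hEtors ρ hρ Q (LinearMap.range μ) hQn
  have hμx : μ.rTensor (LinearMap.ker π) x = f ^ n • x := by
    have : μ = f ^ n • LinearMap.id := by ext q; rw [hμ]; rfl
    rw [this, LinearMap.rTensor_smul, LinearMap.smul_apply, LinearMap.rTensor_id, LinearMap.id_apply]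
  have hy : μ.rangeRestrict.rTensor (LinearMap.ker π) x = 0 := by
    apply hB
    rw [map_zero, ← LinearMap.comp_apply, ← LinearMap.rTensor_comp, hjp, hμx, hn]
  have hexK : Function.Exact (LinearMap.ker μ).subtype μ.rangeRestrict := by
    rw [LinearMap.exact_iff, Submodule.range_subtype, LinearMap.ker_rangeRestrict]
  obtain ⟨xK, hxK⟩ := (rTensor_exact (LinearMap.ker π) hexK
    μ.surjective_rangeRestrict x).mp hy
  have h1 : (LinearMap.ker μ).subtype.rTensor F
      ((LinearMap.ker π).subtype.lTensor (LinearMap.ker μ) xK) = 0 := by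
    rw [← LinearMap.comp_apply, LinearMap.rTensor_comp_lTensor, ← LinearMap.lTensor_comp_rTensor,
      LinearMap.comp_apply, hxK, hx]
  have hKflat : Function.Injective ((LinearMap.ker μ).subtype.rTensor F) :=
    Module.Flat.rTensor_preserves_injective_linearMap _ (LinearMap.ker μ).injective_subtype
  have h0 : (LinearMap.ker π).subtype.lTensor (LinearMap.ker μ) xK = 0 :=
    hKflat (by rw [h1, map_zero])
  have hKtors : ∀ c : LinearMap.ker μ, ∃ m : ℕ, f ^ m • c = 0 := by
    intro c
    refine ⟨n, Subtype.ext ?_⟩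
    have := c.2
    rw [LinearMap.mem_ker, hμ] at this
    exact this
  have h2 := tors_inj hRR hFtors π hπ (LinearMap.ker μ) hKtors
  have hxK0 : xK = 0 := h2 (by rw [h0, map_zero])
  rw [← hxK, hxK0, map_zero]

theorem flat_of_glue_aux (hRR : EtGlue.IsGlueingPair R R' f) {F M E : Type u}
    [AddCommGroup M] [Module R M] [AddCommGroup F] [Module R F] [Module.Flat R F]
    (hFtors : ∀ m : F, (∃ n : ℕ, f ^ n • m = 0) → (1 : R') ⊗ₜ[R] m = 0 → m = 0)
    (π : F →ₗ[R] M) (hπ : Function.Surjective π)
    [Module.Flat R' (R' ⊗[R] M)]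
    [Module.Flat (Localization.Away f) (LocalizedModule (Submonoid.powers f) M)]
    [AddCommGroup E] [Module R E] [Module.Flat R E]
    (hEtors : ∀ m : E, (∃ n : ℕ, f ^ n • m = 0) → (1 : R') ⊗ₜ[R] m = 0 → m = 0)
    (ρ : E →ₗ[R] (LinearMap.ker π)) (hρ : Function.Surjective ρ) :
    Module.Flat R M := by
  rw [Module.Flat.iff_rTensor_injective']
  intro I
  rw [← LinearMap.lTensor_inj_iff_rTensor_inj]
  refine lTensor_injective_of_exact_of_exact_of_rTensor_injective
    (LinearMap.exact_subtype_ker_map π) hπ (LinearMap.exact_subtype_mkQ I)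
    (Submodule.mkQ_surjective I) ?_
    (Module.Flat.lTensor_preserves_injective_linearMap I.subtype I.injective_subtype)
  rw [← LinearMap.lTensor_inj_iff_rTensor_inj]
  exact all_inj hRR hFtors π hπ hEtors ρ hρ _

/-- flatness descends along a glueing pair -/
theorem flat_of_glue (hRR : EtGlue.IsGlueingPair R R' f) (M : Type u)
    [AddCommGroup M] [Module R M] [Module.Flat R' (R' ⊗[R] M)]
    [Module.Flat (Localization.Away f) (LocalizedModule (Submonoid.powers f) M)] :
    Module.Flat R M := by
  obtain ⟨π, hπ⟩ : ∃ π : (M →₀ R) →ₗ[R] M, Function.Surjective π :=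
    ⟨Finsupp.linearCombination R (id : M → M), Finsupp.linearCombination_id_surjective R M⟩
  obtain ⟨ρ, hρ⟩ : ∃ ρ : ((LinearMap.ker π) →₀ R) →ₗ[R] (LinearMap.ker π), Function.Surjective ρ :=
    ⟨Finsupp.linearCombination R (id : LinearMap.ker π → LinearMap.ker π),
      Finsupp.linearCombination_id_surjective R _⟩
  have hF : ∀ m : (M →₀ R), (∃ n : ℕ, f ^ n • m = 0) → (1 : R') ⊗ₜ[R] m = 0 → m = 0 :=
    fun m hm h => free_tors_inj hRR m hm h
  have hE : ∀ m : ((LinearMap.ker π) →₀ R), (∃ n : ℕ, f ^ n • m = 0) →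
      (1 : R') ⊗ₜ[R] m = 0 → m = 0 :=
    fun m hm h => free_tors_inj hRR m hm h
  exact flat_of_glue_aux hRR hF π hπ hE ρ hρ

end Groth.Agent.Lead.BL
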