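import Mathlib
import Groth.Agent.Lib.Lead.BL8

set_option autoImplicit false
universe u
open TensorProduct

namespace Groth.Agent.Lead.BL

variable {R R' : Type u} [CommRing R] [CommRing R'] [Algebra R R'] {f : R}

theorem finite_of_exact_fp {S : Type*} [CommRing S] {A B C : Type*} [AddCommGroup A]
    [AddCommGroup B] [AddCommGroup C] [Module S A] [Module S B] [Module S C]
    (i : A →ₗ[S] B) (p : B →ₗ[S] C) (hi : Function.Injective i) (hp : Function.Surjective p)
    (hex : Function.Exact i p) [Module.Finite S B] [Module.FinitePresentation S C] :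
    Module.Finite S A := by
  have hk : (LinearMap.ker p).FG := Module.FinitePresentation.fg_ker p hp
  have hr : LinearMap.range i = LinearMap.ker p := (LinearMap.exact_iff.mp hex).symm
  rw [← hr] at hk
  haveI : Module.Finite S (LinearMap.range i) := Module.Finite.iff_fg.mpr hk
  exact Module.Finite.equiv (LinearEquiv.ofInjective i hi).symm

theorem ker_finite_of_glue (hRR : EtGlue.IsGlueingPair R R' f) {F M : Type u}
    [AddCommGroup M] [Module R M] [AddCommGroup F] [Module R F] [Module.Finite R F]
    (hFtors : ∀ m : F, (∃ n : ℕ, f ^ n • m = 0) → (1 : R') ⊗ₜ[R] m = 0 → m = 0)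
    (π : F →ₗ[R] M) (hπ : Function.Surjective π)
    [Module.FinitePresentation R' (R' ⊗[R] M)]
    [Module.Flat (Localization.Away f) (LocalizedModule (Submonoid.powers f) M)]
    [Module.FinitePresentation (Localization.Away f) (LocalizedModule (Submonoid.powers f) M)] :
    Module.Finite R (LinearMap.ker π) := by
  have hinj := ker_lTensor_injective' hRR hFtors π hπ
  have hex : Function.Exact ((LinearMap.ker π).subtype.lTensor R') (π.lTensor R') :=
    lTensor_exact R' (LinearMap.exact_subtype_ker_map π) hπ
  have hsurj : Function.Surjective (π.lTensor R') := LinearMap.lTensor_surjective R' hπ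
  have h1 : Module.Finite R' (R' ⊗[R] (LinearMap.ker π)) :=
    finite_of_exact_fp (S := R') (A := R' ⊗[R] (LinearMap.ker π)) (B := R' ⊗[R] F)
      (C := R' ⊗[R] M) ((LinearMap.ker π).subtype.baseChange R') (π.baseChange R')
      hinj hsurj hex
  let S := Submonoid.powers f
  have hinj2 : Function.Injective (LocalizedModule.map S (LinearMap.ker π).subtype) :=
    IsLocalizedModule.map_injective S _ _ _ (Submodule.injective_subtype _)
  have hsurj2 : Function.Surjective (LocalizedModule.map S π) :=
    IsLocalizedModule.map_surjective S _ _ _ hπ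
  have hex2 : Function.Exact (LocalizedModule.map S (LinearMap.ker π).subtype)
      (LocalizedModule.map S π) :=
    LocalizedModule.map_exact S _ _ (LinearMap.exact_subtype_ker_map π)
  have h2 : Module.Finite (Localization.Away f)
      (LocalizedModule (Submonoid.powers f) (LinearMap.ker π)) :=
    finite_of_exact_fp (S := Localization.Away f)
      (LocalizedModule.map S (LinearMap.ker π).subtype) (LocalizedModule.map S π) hinj2 hsurj2 hex2
  exact finite_of_finite hRR.1 h1 h2

theorem fp_of_glue_aux (hRR : EtGlue.IsGlueingPair R R' f) {F M : Type u}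
    [AddCommGroup M] [Module R M] [AddCommGroup F] [Module R F] [Module.Finite R F]
    [Module.Free R F]
    (hFtors : ∀ m : F, (∃ n : ℕ, f ^ n • m = 0) → (1 : R') ⊗ₜ[R] m = 0 → m = 0)
    (π : F →ₗ[R] M) (hπ : Function.Surjective π)
    [Module.FinitePresentation R' (R' ⊗[R] M)]
    [Module.Flat (Localization.Away f) (LocalizedModule (Submonoid.powers f) M)]
    [Module.FinitePresentation (Localization.Away f) (LocalizedModule (Submonoid.powers f) M)] :
    Module.FinitePresentation R M := by
  haveI := ker_finite_of_glue hRR hFtors π hπ
  exact Module.finitePresentation_of_free_of_surjective π hπ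
    (Module.Finite.iff_fg.mp inferInstance)

/-- finite projectivity descends along a glueing pair -/
theorem finite_projective_of_glue (hRR : EtGlue.IsGlueingPair R R' f) (M : Type u)
    [AddCommGroup M] [Module R M]
    (h1 : Module.Finite R' (R' ⊗[R] M)) (h1p : Module.Projective R' (R' ⊗[R] M))
    (h2 : Module.Finite (Localization.Away f) (LocalizedModule (Submonoid.powers f) M))
    (h2p : Module.Projective (Localization.Away f) (LocalizedModule (Submonoid.powers f) M)) :
    Module.Finite R M ∧ Module.Projective R M := by
  haveI hfin : Module.Finite R M := finite_of_finite hRR.1 h1 h2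
  haveI hflat : Module.Flat R M := flat_of_glue hRR M
  haveI := Module.finitePresentation_of_projective R' (R' ⊗[R] M)
  haveI := Module.finitePresentation_of_projective (Localization.Away f)
    (LocalizedModule (Submonoid.powers f) M)
  obtain ⟨s, hs⟩ := hfin.fg_top
  obtain ⟨π, hπ⟩ : ∃ π : (s →₀ R) →ₗ[R] M, Function.Surjective π := by
    refine ⟨Finsupp.linearCombination R (Subtype.val : s → M), ?_⟩
    rw [← LinearMap.range_eq_top, Finsupp.range_linearCombination, Subtype.range_coe]
    exact hs
  have hF : ∀ m : (s →₀ R), (∃ n : ℕ, f ^ n • m = 0) → (1 : R') ⊗ₜ[R] m = 0 → m = 0 :=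
    fun m hm h => free_tors_inj hRR m hm h
  haveI : Module.FinitePresentation R M := fp_of_glue_aux hRR hF π hπ
  exact ⟨hfin, Module.Flat.projective_of_finitePresentation⟩

end Groth.Agent.Lead.BL
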