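import Mathlib

set_option autoImplicit false
universe u v
open CategoryTheory MonoidalCategory CartesianMonoidalCategory MonObj GrpObj Limits

namespace Groth.Agent.Lead.OmU

section GrpPB

variable {C : Type u} [Category.{v} C] [CartesianMonoidalCategory C] (A : C) [GrpObj A]

/-- the shear map `(g, h) ↦ (g * h, g)` of a group object is an isomorphism, stated as a
cartesian square. -/
theorem isPullback_mul_fst : IsPullback μ[A] (fst A A) (toUnit A) (toUnit A) where
  w := toUnit_unique _ _
  isLimit' := Nonempty.intro <| PullbackCone.IsLimit.mk _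
    (fun s => lift s.snd (lift (s.snd ≫ ι) s.fst ≫ μ))
    (by
      intro s
      exact (eq_lift_inv_left (lift (s.snd ≫ ι) s.fst ≫ μ) s.snd s.fst).1 rfl)
    (by
      intro s
      simp)
    (by
      intro s m hm₁ hm₂
      refine CartesianMonoidalCategory.hom_ext _ _ ?_ ?_
      · simpa using hm₂
      · rw [lift_snd, eq_lift_inv_left, ← hm₂, lift_comp_fst_snd, hm₁])

end GrpPB

end Groth.Agent.Lead.OmU
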