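import Mathlib
import Groth.Prelude.Def_Omega2
import Groth.Prelude.Def_Coh
import Groth.Agent.Lib.Lead.OmU14c
import Groth.Agent.Lib.Lead.GrpPB
import Groth.Agent.Lib.Lead.IdM6
import Groth.Agent.Lib.Lead.PBQc
import Groth.Agent.Lib.Helper1.PullSec

set_option autoImplicit false
universe u v
open CategoryTheory MonoidalCategory CartesianMonoidalCategory MonObj GrpObj AlgebraicGeometry

set_option backward.isDefEq.respectTransparency.types false

namespace Groth.Agent.Lead.GrpOmega

open Groth.Agent.Lead.OmU CategoryTheory.Limits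

theorem part1 (S : Scheme.{u}) (G : Over S) [GrpObj G] [QuasiSeparated G.hom] :
    Nonempty (Omega.sheaf G.hom ≅
      (Scheme.Modules.pullback G.hom).obj (Omega.conormal η[G].left)) := by
  have he : η[G].left ≫ G.hom = 𝟙 S := Over.w η[G]
  have sq1 : IsPullback μ[G].left (fst G G).left G.hom G.hom := by
    have h := (isPullback_mul_fst G).map (Over.forget S)
    simpa using h
  have sq2 : IsPullback (snd G G).left (fst G G).left G.hom G.hom :=
    (IsPullback.of_hasPullback G.hom G.hom).flip
  refine omega_iso_pullback_conormal G.hom η[G].left he G.hom μ[G].left (fst G G).left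
    (snd G G).left sq1 sq2 ((ρ_ G).inv ≫ (G ◁ η[G])).left ?_ ?_
  · rw [← Over.comp_left, Category.assoc, MonObj.mul_one, Iso.inv_hom_id]
    rfl
  · rw [← Over.comp_left, Category.assoc, whiskerLeft_snd]
    have h1 : (ρ_ G).inv ≫ snd G (𝟙_ (Over S)) ≫ η[G] = toUnit G ≫ η[G] := by
      rw [← Category.assoc]
      congr 1
      exact toUnit_unique _ _
    rw [h1, Over.comp_left, Over.toUnit_left]


/-- a quasi-coherent module over the spectrum of a field is free. -/
theorem free_of_isField (R : CommRingCat.{u}) (hR : IsField R) (N : (Spec R).Modules)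
    [N.IsQuasicoherent] :
    ∃ I : Type u, Nonempty (N ≅ ∐ fun _ : I => Coh.structureModule (Spec R)) := by
  let V : ModuleCat.{u} R := (modulesSpecToSheaf.obj N).presheaf.obj (Opposite.op ⊤)
  letI : Field R := hR.toField
  let I := Module.Basis.ofVectorSpaceIndex R V
  let b := Module.Basis.ofVectorSpace R V
  have e1 : N ≅ tilde V := (asIso N.fromTildeΓ).symm
  have e2 : tilde V ≅ tilde (ModuleCat.of R (I →₀ R)) :=
    (tilde.functor _).mapIso b.repr.toModuleIso
  exact ⟨I, ⟨e1 ≪≫ e2 ≪≫ tildeFinsupp I⟩⟩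


/-- pullback of a free module is free. -/
theorem pullback_free {X Y : Scheme.{u}} (f : X ⟶ Y) (I : Type u) :
    Nonempty ((Scheme.Modules.pullback f).obj (∐ fun _ : I => Coh.structureModule Y) ≅
      ∐ fun _ : I => Coh.structureModule X) := by
  haveI : PreservesColimitsOfSize.{u, u} (Scheme.Modules.pullback f) :=
    (Scheme.Modules.pullbackPushforwardAdjunction f).leftAdjoint_preservesColimits
  exact ⟨PreservesCoproduct.iso (Scheme.Modules.pullback f) (fun _ : I => Coh.structureModule Y) ≪≫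
    Sigma.mapIso (fun _ => Groth.Agent.Helper1.PullSec.unitIso f)⟩

theorem part2 (S : Scheme.{u}) (G : Over S) [GrpObj G] [QuasiSeparated G.hom]
    (K : Type u) [Field K] (hS : Nonempty (S ≅ Spec (CommRingCat.of K))) :
    ∃ I : Type u, Nonempty (Omega.sheaf G.hom ≅ ∐ fun _ : I => Coh.structureModule G.left) := by
  obtain ⟨ψ⟩ := hS
  obtain ⟨e0⟩ := part1 S G
  haveI : ((Scheme.Modules.pullback ψ.inv).obj (Omega.conormal η[G].left)).IsQuasicoherent :=
    Groth.Agent.Lead.PB.isQuasicoherent_pullback _ _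
  obtain ⟨I, ⟨eN⟩⟩ := free_of_isField (CommRingCat.of K) (Field.toIsField K)
    ((Scheme.Modules.pullback ψ.inv).obj (Omega.conormal η[G].left))
  have eC : Omega.conormal η[G].left ≅ (Scheme.Modules.pullback ψ.hom).obj
      ((Scheme.Modules.pullback ψ.inv).obj (Omega.conormal η[G].left)) :=
    ((Scheme.Modules.pullbackId S).app _).symm ≪≫
      (Scheme.Modules.pullbackCongr ψ.hom_inv_id.symm).app _ ≪≫
      ((Scheme.Modules.pullbackComp ψ.hom ψ.inv).app _).symm
  obtain ⟨e1⟩ := pullback_free ψ.hom I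
  obtain ⟨e2⟩ := pullback_free G.hom I
  exact ⟨I, ⟨e0 ≪≫ (Scheme.Modules.pullback G.hom).mapIso
    (eC ≪≫ (Scheme.Modules.pullback ψ.hom).mapIso eN ≪≫ e1) ≪≫ e2⟩⟩

end Groth.Agent.Lead.GrpOmega
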