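import Mathlib
import Groth.Prelude
import Groth.Agent.Lib.Lead.GUnib21
import Groth.Agent.Lib.Helper7.SHensFinite

/-!
# A prime element of a strictly henselian ring stays prime in strict henselizations of smooth
algebras
-/

set_option autoImplicit false
set_option backward.isDefEq.respectTransparency.types false
set_option synthInstance.maxHeartbeats 400000
set_option linter.style.haveILetI false
set_option linter.unusedSectionVars false

universe u

open AlgebraicGeometry CategoryTheory Limits TensorProduct IsLocalRing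

namespace Groth.Agent.Lead.GUnib

/-- the complement of the image of a prime in a quotient. -/
theorem algebraMapSubmonoid_quotient_eq {E : Type u} [CommRing E] (J q : Ideal E) [q.IsPrime]
    (hJ : J ≤ q) [hq' : (q.map (Ideal.Quotient.mk J)).IsPrime] :
    Algebra.algebraMapSubmonoid (E ⧸ J) q.primeCompl = (q.map (Ideal.Quotient.mk J)).primeCompl := by
  ext x
  obtain ⟨y, rfl⟩ := Ideal.Quotient.mk_surjective x
  have hmem : ∀ z : E, Ideal.Quotient.mk J z ∈ q.map (Ideal.Quotient.mk J) ↔ z ∈ q := by
    intro z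
    rw [← Ideal.mem_comap, Ideal.comap_map_of_surjective _ Ideal.Quotient.mk_surjective,
      ← RingHom.ker_eq_comap_bot, Ideal.mk_ker, sup_eq_left.mpr hJ]
  constructor
  · rintro ⟨z, hz, hzy⟩
    intro hmemy
    rw [← show Ideal.Quotient.mk J z = Ideal.Quotient.mk J y from hzy] at hmemy
    exact hz ((hmem z).mp hmemy)
  · intro hy
    have : y ∉ q := fun h => hy ((hmem y).mpr h)
    exact ⟨y, this, rfl⟩

/-- If the quotient `A ⧸ I` of a local ring is a geometrically unibranch domain, then `I` extends
to a prime ideal of every strict henselization of `A`. -/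
theorem isPrime_map_strictHenselization_of_quotient (A T : Type u) [CommRing A] [IsLocalRing A]
    [CommRing T] [IsLocalRing T] [Algebra A T] [IsLocalHom (algebraMap A T)]
    [hT : Hensel.IsStrictHenselization A T] (I : Ideal A) (hI : I ≠ ⊤)
    [hdom : IsDomain (A ⧸ I)] [IsLocalRing (A ⧸ I)] (hgu : CAlg2.IsGeomUnibranch (A ⧸ I)) :
    (I.map (algebraMap A T)).IsPrime := by
  classical
  let B := A ⧸ I
  obtain ⟨T', _, _, _, _, hT'⟩ := Groth.Agent.Helper7.SHens.exists_isStrictHenselization B
  haveI := hT'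
  haveI : IsDomain T' :=
    (Groth.Agent.Helper8.HensGU.reduced_and_isGeomUnibranch_iff_isDomain B T').mp
      ⟨inferInstance, hgu⟩
  haveI : Module.Finite A B := Module.Finite.of_surjective (Ideal.Quotient.mkₐ A I).toLinearMap
    Ideal.Quotient.mk_surjective
  obtain ⟨𝔮, h𝔮max, ⟨e⟩⟩ := Groth.Agent.Helper7.SHensFinite.S5072_main A B T T'
  haveI := h𝔮max.isPrime
  let M := B ⊗[A] T
  let e0 : (T ⧸ I.map (algebraMap A T)) ≃ₐ[A ⧸ I] (A ⧸ I) ⊗[A] T :=
    Algebra.TensorProduct.quotIdealMapEquivQuotTensor T I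
  have hIle : I ≤ maximalIdeal A := IsLocalRing.le_maximalIdeal hI
  have hmaple : I.map (algebraMap A T) ≤ maximalIdeal T := by
    rw [Ideal.map_le_iff_le_comap, IsLocalRing.maximalIdeal_comap]
    exact hIle
  haveI : Nontrivial (T ⧸ I.map (algebraMap A T)) :=
    Ideal.Quotient.nontrivial_iff.mpr (fun h => (maximalIdeal.isMaximal T).ne_top
      (top_le_iff.mp (h ▸ hmaple)))
  haveI : IsLocalRing (T ⧸ I.map (algebraMap A T)) :=
    IsLocalRing.of_surjective' (Ideal.Quotient.mk _) Ideal.Quotient.mk_surjective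
  haveI : IsLocalRing M := e0.toRingEquiv.isLocalRing
  have h𝔮 : 𝔮 = maximalIdeal M := IsLocalRing.eq_maximalIdeal h𝔮max
  have hunits : ∀ x ∈ 𝔮.primeCompl, IsUnit x := by
    intro x hx
    have hx' : x ∉ 𝔮 := hx
    rw [h𝔮] at hx'
    exact IsLocalRing.notMem_maximalIdeal.mp hx'
  let e1 : M ≃ₐ[M] Localization.AtPrime 𝔮 := IsLocalization.atUnits M 𝔮.primeCompl hunits
  haveI : IsDomain (Localization.AtPrime 𝔮) := MulEquiv.isDomain T' e.toRingEquiv.toMulEquiv
  haveI : IsDomain M := MulEquiv.isDomain (Localization.AtPrime 𝔮) e1.toRingEquiv.toMulEquiv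
  haveI : IsDomain (T ⧸ I.map (algebraMap A T)) :=
    MulEquiv.isDomain M e0.toRingEquiv.toMulEquiv
  exact (Ideal.Quotient.isDomain_iff_prime _).mp inferInstance

section Main

variable (R R' T : Type u) [CommRing R] [HenselianLocalRing R]
    [IsSepClosed (ResidueField R)]
    [CommRing R'] [Algebra R R'] [Algebra.Smooth R R']
    (q : Ideal R') [q.IsPrime] (hq : (maximalIdeal R).map (algebraMap R R') ≤ q)
    (𝔭 : Ideal R) [h𝔭 : 𝔭.IsPrime]

include hq in
theorem quot_smooth_domain :
    ∃ (_ : (q.map (Ideal.Quotient.mk (𝔭.map (algebraMap R R')))).IsPrime),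
      IsDomain (Localization.AtPrime (q.map (Ideal.Quotient.mk (𝔭.map (algebraMap R R'))))) ∧
      CAlg2.IsGeomUnibranch
        (Localization.AtPrime (q.map (Ideal.Quotient.mk (𝔭.map (algebraMap R R'))))) := by
  classical
  have h𝔭le : 𝔭 ≤ maximalIdeal R := IsLocalRing.le_maximalIdeal h𝔭.ne_top
  let Ab := R ⧸ 𝔭
  let D := R' ⧸ 𝔭.map (algebraMap R R')
  let π : R' →+* D := Ideal.Quotient.mk _
  have hπs : Function.Surjective π := Ideal.Quotient.mk_surjective
  have hker : RingHom.ker π = 𝔭.map (algebraMap R R') := Ideal.mk_ker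
  have hkerle : RingHom.ker π ≤ q := by
    rw [hker]
    exact (Ideal.map_mono h𝔭le).trans hq
  haveI : IsDomain Ab := Ideal.Quotient.isDomain 𝔭
  haveI : IsLocalRing Ab := IsLocalRing.of_surjective' (Ideal.Quotient.mk 𝔭)
    Ideal.Quotient.mk_surjective
  haveI : Module.Finite R Ab := Module.Finite.of_surjective (Ideal.Quotient.mkₐ R 𝔭).toLinearMap
    Ideal.Quotient.mk_surjective
  haveI : HenselianLocalRing Ab := Groth.Agent.Helper7.Hensel.henselianLocalRing_of_finite R Ab
  haveI hloc : IsLocalHom (Ideal.Quotient.mk 𝔭) :=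
    IsLocalHom.of_surjective _ Ideal.Quotient.mk_surjective
  haveI : IsSepClosed (ResidueField Ab) := by
    have hbij : Function.Bijective (ResidueField.map (Ideal.Quotient.mk 𝔭)) := by
      refine ⟨(ResidueField.map (Ideal.Quotient.mk 𝔭)).injective, ?_⟩
      intro y
      obtain ⟨b, rfl⟩ := IsLocalRing.residue_surjective y
      obtain ⟨a, rfl⟩ := Ideal.Quotient.mk_surjective b
      exact ⟨IsLocalRing.residue R a, ResidueField.map_residue _ _⟩
    exact Groth.Agent.Lead.Wt.isSepClosed_of_ringEquiv (RingEquiv.ofBijective _ hbij)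
  haveI : Algebra.Smooth Ab D :=
    Algebra.Smooth.of_equiv (Algebra.TensorProduct.quotIdealMapEquivQuotTensor R' 𝔭).symm
  haveI h𝔫D : (q.map π).IsPrime := Ideal.map_isPrime_of_surjective hπs hkerle
  have hmD : (maximalIdeal Ab).map (algebraMap Ab D) ≤ q.map π := by
    have h1 : maximalIdeal Ab = (maximalIdeal R).map (Ideal.Quotient.mk 𝔭) :=
      (IsLocalRing.map_maximalIdeal_of_surjective (Ideal.Quotient.mk 𝔭)
        Ideal.Quotient.mk_surjective).symm
    rw [h1, Ideal.map_map]
    have h2 : (algebraMap Ab D).comp (Ideal.Quotient.mk 𝔭) = π.comp (algebraMap R R') := by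
      ext a
      rfl
    rw [h2, ← Ideal.map_map]
    exact Ideal.map_mono hq
  exact ⟨h𝔫D, S13199_main Ab D (q.map π) hmD⟩

include hq in
/-- the quotient of the localization is a geometrically unibranch domain -/
theorem isDomain_quotient_localization_of_smooth :
    IsDomain (Localization.AtPrime q ⧸ (𝔭.map (algebraMap R R')).map
      (algebraMap R' (Localization.AtPrime q))) ∧
    ∃ (_ : IsLocalRing (Localization.AtPrime q ⧸ (𝔭.map (algebraMap R R')).map
      (algebraMap R' (Localization.AtPrime q)))),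
    CAlg2.IsGeomUnibranch (Localization.AtPrime q ⧸ (𝔭.map (algebraMap R R')).map
      (algebraMap R' (Localization.AtPrime q))) := by
  obtain ⟨hprime, hdom, hgu⟩ := quot_smooth_domain R R' q hq 𝔭
  have h𝔭le : 𝔭 ≤ maximalIdeal R := IsLocalRing.le_maximalIdeal h𝔭.ne_top
  have hJle : 𝔭.map (algebraMap R R') ≤ q := (Ideal.map_mono h𝔭le).trans hq
  let J := 𝔭.map (algebraMap R R')
  let B := Localization.AtPrime q ⧸ J.map (algebraMap R' (Localization.AtPrime q))
  have hloc0 : IsLocalization (Algebra.algebraMapSubmonoid (R' ⧸ J) q.primeCompl) B :=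
    inferInstance
  rw [algebraMapSubmonoid_quotient_eq J q hJle] at hloc0
  haveI : IsLocalization.AtPrime B (q.map (Ideal.Quotient.mk J)) := hloc0
  let e : Localization.AtPrime (q.map (Ideal.Quotient.mk J)) ≃ₐ[R' ⧸ J] B :=
    IsLocalization.algEquiv (q.map (Ideal.Quotient.mk J)).primeCompl _ _
  haveI hBloc : IsLocalRing B := e.toRingEquiv.isLocalRing
  haveI := hdom
  exact ⟨MulEquiv.isDomain (Localization.AtPrime (q.map (Ideal.Quotient.mk J)))
    e.symm.toRingEquiv.toMulEquiv, hBloc,
    Groth.Agent.Lib.Helper4.ChevCrit4.isGeomUnibranch_of_ringEquiv e.toRingEquiv hgu⟩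

include hq in
theorem S17730_main [CommRing T] [IsLocalRing T] [Algebra (Localization.AtPrime q) T]
    [IsLocalHom (algebraMap (Localization.AtPrime q) T)]
    [Hensel.IsStrictHenselization (Localization.AtPrime q) T]
    (Δ : R) (hΔ : Prime Δ) :
    Prime (algebraMap (Localization.AtPrime q) T
      (algebraMap R' (Localization.AtPrime q) (algebraMap R R' Δ))) := by
  classical
  haveI h𝔭 : (Ideal.span {Δ}).IsPrime := (Ideal.span_singleton_prime hΔ.ne_zero).mpr hΔ
  let A := Localization.AtPrime q
  let I : Ideal A := ((Ideal.span {Δ}).map (algebraMap R R')).map (algebraMap R' A)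
  obtain ⟨hdom, hloc, hgu⟩ := isDomain_quotient_localization_of_smooth R R' q hq (Ideal.span {Δ})
  haveI := hdom
  haveI := hloc
  have hI : I ≠ ⊤ := ((Ideal.Quotient.isDomain_iff_prime I).mp hdom).ne_top
  have hprime := isPrime_map_strictHenselization_of_quotient A T I hI hgu
  have hspan : I.map (algebraMap A T) = Ideal.span {algebraMap A T
      (algebraMap R' A (algebraMap R R' Δ))} := by
    simp only [I, Ideal.map_span, Set.image_singleton]
  rw [hspan] at hprime
  -- injectivity
  have hcomap : (maximalIdeal A).comap (algebraMap R A) = maximalIdeal R := by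
    have hu : (maximalIdeal A).comap (algebraMap R' A) = q :=
      IsLocalization.AtPrime.under_maximalIdeal A q
    rw [IsScalarTower.algebraMap_eq R R' A, ← Ideal.comap_comap, hu]
    have h1 : maximalIdeal R ≤ q.comap (algebraMap R R') := Ideal.map_le_iff_le_comap.mp hq
    have hne : q.comap (algebraMap R R') ≠ ⊤ :=
      (inferInstance : (q.comap (algebraMap R R')).IsPrime).ne_top
    exact ((IsLocalRing.maximalIdeal.isMaximal R).eq_of_le hne h1).symm
  haveI : IsLocalHom (algebraMap R A) :=
    ((IsLocalRing.local_hom_TFAE (algebraMap R A)).out 0 4).mpr hcomap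
  haveI : Module.Flat R R' := inferInstance
  haveI : Module.Flat R' A := IsLocalization.flat A q.primeCompl
  haveI : Module.Flat R A := Module.Flat.trans R R' A
  haveI : Module.FaithfullyFlat R A := Module.FaithfullyFlat.of_flat_of_isLocalHom
  haveI : Module.FaithfullyFlat A T :=
    Groth.Agent.Helper7.SHens.faithfullyFlat_of_isStrictHenselization A T
  have hinj1 : Function.Injective (algebraMap R A) := FaithfulSMul.algebraMap_injective R A
  have hinj2 : Function.Injective (algebraMap A T) := FaithfulSMul.algebraMap_injective A T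
  have hne0 : algebraMap A T (algebraMap R' A (algebraMap R R' Δ)) ≠ 0 := by
    rw [← IsScalarTower.algebraMap_apply R R' A]
    intro h0
    exact hΔ.ne_zero (hinj1 (hinj2 (by rw [h0, map_zero, map_zero])))
  exact (Ideal.span_singleton_prime hne0).mp hprime

end Main

end Groth.Agent.Lead.GUnib
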