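import Mathlib
import Groth.Prelude
import Groth.Agent.Lib.Lead.GUnib22

/-!
# Geometrically unibranch Noetherian schemes via punctured spectra of strict henselizations
-/

set_option autoImplicit false
set_option backward.isDefEq.respectTransparency.types false
set_option synthInstance.maxHeartbeats 400000
set_option linter.style.haveILetI false
set_option linter.unusedSectionVars false

universe u

open AlgebraicGeometry CategoryTheory Limits TensorProduct IsLocalRing

namespace Groth.Agent.Lead.GUnib

open Groth.Agent.Helper7.SHens Groth.Agent.Helper1.DomGen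

/-- The closure of a point is an irreducible component iff the local ring has dimension zero. -/
theorem closure_singleton_mem_irreducibleComponents_iff (U : Scheme.{u}) (u : U) :
    closure ({u} : Set U) ∈ irreducibleComponents U ↔
      maximalIdeal (U.presheaf.stalk u) ∈ minimalPrimes (U.presheaf.stalk u) := by
  let j := U.fromSpecStalk u
  have hinj : Function.Injective j := j.isEmbedding.injective
  have hrange : Set.range j = {y | y ⤳ u} := Scheme.range_fromSpecStalk
  have hcl : j (closedPoint (U.presheaf.stalk u)) = u := Scheme.fromSpecStalk_closedPoint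
  constructor
  · intro h
    have hmax : GenMax u := genMax_of_mem_irreducibleComponents u h
    refine ⟨⟨inferInstance, bot_le⟩, ?_⟩
    rintro P' ⟨hP', -⟩ hle
    have h1 : j ⟨P', hP'⟩ ⤳ u := by
      have : j ⟨P', hP'⟩ ∈ Set.range j := ⟨_, rfl⟩
      rw [hrange] at this
      exact this
    have h2 : j ⟨P', hP'⟩ = j (closedPoint (U.presheaf.stalk u)) := (hmax _ h1).trans hcl.symm
    have h3 := hinj h2
    have h4 : P' = maximalIdeal (U.presheaf.stalk u) := congrArg PrimeSpectrum.asIdeal h3
    exact h4.ge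
  · intro h
    refine ⟨isIrreducible_singleton.closure, ?_⟩
    intro S hS hle
    obtain ⟨Z', hZ', hSZ'⟩ := exists_mem_irreducibleComponents_subset_of_isIrreducible S hS
    obtain ⟨ξ', hξ'⟩ := QuasiSober.sober hZ'.1 (isClosed_of_mem_irreducibleComponents Z' hZ')
    have h1 : ξ' ⤳ u := hξ'.specializes (hSZ' (hle (subset_closure rfl)))
    obtain ⟨p', hp'⟩ : ∃ p' : PrimeSpectrum (U.presheaf.stalk u), j p' = ξ' := by
      have : ξ' ∈ Set.range j := by rw [hrange]; exact h1
      exact this
    have h3 : p'.asIdeal ≤ maximalIdeal (U.presheaf.stalk u) :=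
      IsLocalRing.le_maximalIdeal p'.2.ne_top
    have h4 : maximalIdeal (U.presheaf.stalk u) ≤ p'.asIdeal := h.2 ⟨p'.2, bot_le⟩ h3
    have h5 : p' = closedPoint (U.presheaf.stalk u) := PrimeSpectrum.ext (le_antisymm h3 h4)
    have h6 : ξ' = u := by rw [← hp', h5, hcl]
    intro z hz
    have : z ∈ Z' := hSZ' hz
    rw [← hξ'.def, h6] at this
    exact this

section Fwd

variable (A Ash : Type u) [CommRing A] [IsLocalRing A] [CommRing Ash] [IsLocalRing Ash]
  [Algebra A Ash] [IsLocalHom (algebraMap A Ash)] [hS : Hensel.IsStrictHenselization A Ash]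

include hS in
theorem maximalIdeal_not_mem_minimalPrimes_strictHenselization
    (hnm : maximalIdeal A ∉ minimalPrimes A) : maximalIdeal Ash ∉ minimalPrimes Ash := by
  haveI : Module.FaithfullyFlat A Ash := faithfullyFlat_of_isStrictHenselization A Ash
  intro h
  apply hnm
  have := comap_mem_minimalPrimes_of_flat (B := A) (C := Ash) (maximalIdeal Ash) h
  rwa [IsLocalRing.maximalIdeal_comap] at this

include hS in
theorem connectedSpace_punctured_of_isGeomUnibranch (hgu : CAlg2.IsGeomUnibranch A)
    (hnm : maximalIdeal A ∉ minimalPrimes A) :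
    ConnectedSpace ↥({closedPoint Ash}ᶜ : Set (PrimeSpectrum Ash)) := by
  have hN : (nilradical Ash).IsPrime :=
    (Groth.Agent.Helper8.HensUB.hasUniqueMinimalPrime_iff_isPrime_nilradical Ash).mp
      ((Groth.Agent.Helper8.HensGU.isGeomUnibranch_iff_hasUniqueMinimalPrime A Ash).mp hgu)
  let η : PrimeSpectrum Ash := ⟨nilradical Ash, hN⟩
  have hηle : ∀ q : PrimeSpectrum Ash, η ≤ q := by
    intro q
    show nilradical Ash ≤ q.asIdeal
    exact nilradical_le_prime q.asIdeal
  have hη : η ∈ ({closedPoint Ash}ᶜ : Set (PrimeSpectrum Ash)) := by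
    intro h
    have h1 : nilradical Ash = maximalIdeal Ash := congrArg PrimeSpectrum.asIdeal h
    apply maximalIdeal_not_mem_minimalPrimes_strictHenselization A Ash hnm
    rw [← h1]
    exact ⟨⟨hN, bot_le⟩, fun P' hP' _ => nilradical_le_prime (H := hP'.1) P'⟩
  have hsub : ({closedPoint Ash}ᶜ : Set (PrimeSpectrum Ash)) ⊆ closure {η} := by
    intro q _
    rw [← specializes_iff_mem_closure, ← PrimeSpectrum.le_iff_specializes]
    exact hηle q
  have hpre : _root_.IsPreconnected ({closedPoint Ash}ᶜ : Set (PrimeSpectrum Ash)) :=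
    (isPreconnected_singleton (x := η)).subset_closure (Set.singleton_subset_iff.mpr hη) hsub
  exact isConnected_iff_connectedSpace.mp ⟨⟨η, hη⟩, hpre⟩

end Fwd

section Nilp

theorem isNilpotent_algebraMap_iff {R : Type*} [CommRing R] (M : Submonoid R) (S : Type*)
    [CommRing S] [Algebra R S] [IsLocalization M S] (z : R) :
    IsNilpotent (algebraMap R S z) ↔ ∃ w ∈ M, ∃ m : ℕ, w * z ^ m = 0 := by
  constructor
  · rintro ⟨m, hm⟩
    rw [← map_pow, IsLocalization.map_eq_zero_iff M S] at hm
    obtain ⟨w, hw⟩ := hm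
    exact ⟨w.1, w.2, m, hw⟩
  · rintro ⟨w, hw, m, hm⟩
    refine ⟨m, ?_⟩
    rw [← map_pow, IsLocalization.map_eq_zero_iff M S]
    exact ⟨⟨w, hw⟩, hm⟩

theorem isNilpotent_mk'_iff {R : Type*} [CommRing R] (M : Submonoid R) (S : Type*)
    [CommRing S] [Algebra R S] [IsLocalization M S] (z : R) (s : M) :
    IsNilpotent (IsLocalization.mk' S z s) ↔ IsNilpotent (algebraMap R S z) := by
  constructor
  · intro h
    have h1 : algebraMap R S z = algebraMap R S s * IsLocalization.mk' S z s :=
      (IsLocalization.mk'_spec' S z s).symm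
    rw [h1]
    exact (Commute.all _ _).isNilpotent_mul_left h
  · intro h
    have h1 : IsLocalization.mk' S z s = IsLocalization.mk' S 1 s * algebraMap R S z := by
      rw [mul_comm, IsLocalization.mul_mk'_eq_mk'_of_mul, mul_one]
    rw [h1]
    exact (Commute.all _ _).isNilpotent_mul_left h

end Nilp

section Core

variable (A : Type u) [CommRing A] [IsLocalRing A]

/-- The localization of the colimit model at a prime has prime nilradical, provided the base is
geometrically unibranch at the contraction. -/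
theorem isPrime_nilradical_atPrime_G
    (𝔮 : Ideal (G A (SeparableClosure (ResidueField A)))) [h𝔮 : 𝔮.IsPrime] (p : Ideal A)
    [p.IsPrime] (hp : 𝔮.comap (algebraMap A (G A (SeparableClosure (ResidueField A)))) = p)
    (hgu : CAlg2.IsGeomUnibranch (Localization.AtPrime p)) :
    (nilradical (Localization.AtPrime 𝔮)).IsPrime := by
  classical
  let K := SeparableClosure (ResidueField A)
  let L := Localization.AtPrime 𝔮
  rw [Ideal.isPrime_iff]
  constructor
  · intro htop
    have h1 : nilradical L ≤ maximalIdeal L := nilradical_le_prime _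
    rw [htop] at h1
    exact (maximalIdeal.isMaximal L).ne_top (top_le_iff.mp h1)
  · intro a b hab
    obtain ⟨x, s, rfl⟩ := IsLocalization.exists_mk'_eq 𝔮.primeCompl a
    obtain ⟨y, t, rfl⟩ := IsLocalization.exists_mk'_eq 𝔮.primeCompl b
    rw [mem_nilradical, ← IsLocalization.mk'_mul, isNilpotent_mk'_iff 𝔮.primeCompl L,
      isNilpotent_algebraMap_iff 𝔮.primeCompl L] at hab
    obtain ⟨w, hw, n, hwn⟩ := hab
    obtain ⟨U, -, ξ, hξ⟩ := exists_rep_fin (Nbhd.base A K) ![x, y, w]
    have h0 : ι U (ξ 2 * (ξ 0 * ξ 1) ^ n) = ι U 0 := by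
      rw [map_mul, map_pow, map_mul, hξ 0, hξ 1, hξ 2, map_zero]
      exact hwn
    obtain ⟨Z, f, hf⟩ := exists_hom_eq_of_ι_eq _ _ h0
    let xZ := (f : Nbhd.Hom U Z).toAlgHom (ξ 0)
    let yZ := (f : Nbhd.Hom U Z).toAlgHom (ξ 1)
    let wZ := (f : Nbhd.Hom U Z).toAlgHom (ξ 2)
    have hxZ : ι Z xZ = x := (ι_hom f (ξ 0)).trans (hξ 0)
    have hyZ : ι Z yZ = y := (ι_hom f (ξ 1)).trans (hξ 1)
    have hwZ : ι Z wZ = w := (ι_hom f (ξ 2)).trans (hξ 2)
    have hrel : wZ * (xZ * yZ) ^ n = 0 := by
      have := hf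
      rw [map_mul, map_pow, map_mul, map_zero] at this
      exact this
    let 𝔮Z : Ideal Z.Ring := 𝔮.comap (ι Z)
    haveI : 𝔮Z.IsPrime := Ideal.IsPrime.comap _
    have hQ : 𝔮Z.comap (algebraMap A Z.Ring) = p := by
      rw [← hp]
      ext r
      simp only [𝔮Z, Ideal.mem_comap]
      rw [ι_algebraMap]
    have hZ := isPrime_nilradical_atPrime_of_etale p hgu Z.Ring 𝔮Z hQ
    have hwZ' : wZ ∈ 𝔮Z.primeCompl := by
      show wZ ∉ 𝔮Z
      intro h
      apply hw
      rw [← hwZ]
      exact h
    have hnil : IsNilpotent (algebraMap Z.Ring (Localization.AtPrime 𝔮Z) (xZ * yZ)) :=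
      (isNilpotent_algebraMap_iff 𝔮Z.primeCompl _ _).mpr ⟨wZ, hwZ', n, hrel⟩
    rw [map_mul, ← mem_nilradical] at hnil
    have key : ∀ z : Z.Ring, algebraMap Z.Ring (Localization.AtPrime 𝔮Z) z ∈
        nilradical (Localization.AtPrime 𝔮Z) →
        IsNilpotent (algebraMap (G A K) L (ι Z z)) := by
      intro z hz
      rw [mem_nilradical, isNilpotent_algebraMap_iff 𝔮Z.primeCompl] at hz
      obtain ⟨v, hv, m, hvm⟩ := hz
      rw [isNilpotent_algebraMap_iff 𝔮.primeCompl L]
      refine ⟨ι Z v, hv, m, ?_⟩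
      rw [← map_pow, ← map_mul, hvm, map_zero]
    rcases hZ.mem_or_mem hnil with h | h
    · left
      rw [mem_nilradical, isNilpotent_mk'_iff 𝔮.primeCompl L, ← hxZ]
      exact key xZ h
    · right
      rw [mem_nilradical, isNilpotent_mk'_iff 𝔮.primeCompl L, ← hyZ]
      exact key yZ h

theorem isPrime_nilradical_atPrime_strictHenselization (Ash : Type u) [CommRing Ash]
    [IsLocalRing Ash] [Algebra A Ash] [IsLocalHom (algebraMap A Ash)]
    [Hensel.IsStrictHenselization A Ash] (𝔮 : Ideal Ash) [h𝔮 : 𝔮.IsPrime] (p : Ideal A)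
    [p.IsPrime] (hp : 𝔮.comap (algebraMap A Ash) = p)
    (hgu : CAlg2.IsGeomUnibranch (Localization.AtPrime p)) :
    (nilradical (Localization.AtPrime 𝔮)).IsPrime := by
  let K := SeparableClosure (ResidueField A)
  haveI : Hensel.IsStrictHenselization A (G A K) := isStrictHenselization_G A K
  obtain ⟨e⟩ := Groth.Agent.Helper7.SHensTensor.nonempty_algEquiv_of_isStrictHenselization A
    (G A K) Ash
  let 𝔮' : Ideal (G A K) := 𝔮.comap e.toRingEquiv
  haveI : 𝔮'.IsPrime := Ideal.IsPrime.comap _
  have hp' : 𝔮'.comap (algebraMap A (G A K)) = p := by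
    rw [← hp]
    ext r
    simp only [𝔮', Ideal.mem_comap]
    show e (algebraMap A (G A K) r) ∈ 𝔮 ↔ _
    rw [e.commutes]
  have hG := isPrime_nilradical_atPrime_G A 𝔮' p hp' hgu
  let ε : Localization.AtPrime 𝔮' ≃+* Localization.AtPrime 𝔮 :=
    Localization.localRingEquiv 𝔮' 𝔮 e.toRingEquiv rfl
  exact isPrime_nilradical_of_injective ε.symm.toRingHom ε.symm.injective hG

end Core

section Bwd

variable (A : Type u) [CommRing A] [IsLocalRing A] [IsNoetherianRing A]

/-- the backward induction step -/
theorem isGeomUnibranch_of_punctured_connected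
    (hconn : maximalIdeal A ∉ minimalPrimes A →
      ConnectedSpace ↥({closedPoint (G A (SeparableClosure (ResidueField A)))}ᶜ :
        Set (PrimeSpectrum (G A (SeparableClosure (ResidueField A))))))
    (hind : ∀ (𝔭 : Ideal A) [𝔭.IsPrime], 𝔭 ≠ maximalIdeal A →
      CAlg2.IsGeomUnibranch (Localization.AtPrime 𝔭)) : CAlg2.IsGeomUnibranch A := by
  classical
  let K := SeparableClosure (ResidueField A)
  let Ash := G A K
  haveI hSH : Hensel.IsStrictHenselization A Ash := isStrictHenselization_G A K
  haveI : IsNoetherianRing Ash :=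
    (isNoetherianRing_iff_of_isStrictHenselization A Ash).mp inferInstance
  have hmapmax : (maximalIdeal A).map (algebraMap A Ash) = maximalIdeal Ash :=
    map_maximalIdeal_of_isStrictHenselization A Ash
  rw [Groth.Agent.Helper8.HensGU.isGeomUnibranch_iff_hasUniqueMinimalPrime A Ash]
  by_cases hm : maximalIdeal A ∈ minimalPrimes A
  · rw [Groth.Agent.Helper8.HensUB.hasUniqueMinimalPrime_iff_isPrime_nilradical]
    have h1 : maximalIdeal A ≤ nilradical A := by
      rw [nilradical_eq_sInf]
      refine le_sInf ?_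
      intro J hJ
      exact hm.2 ⟨hJ, bot_le⟩ (IsLocalRing.le_maximalIdeal hJ.ne_top)
    have h2 : maximalIdeal Ash ≤ nilradical Ash := by
      rw [← hmapmax, Ideal.map_le_iff_le_comap]
      intro a ha
      rw [Ideal.mem_comap, mem_nilradical]
      exact (mem_nilradical.mp (h1 ha)).map _
    have h3 : nilradical Ash = maximalIdeal Ash :=
      le_antisymm (nilradical_le_prime _) h2
    rw [h3]
    infer_instance
  · haveI := hconn hm
    have hU : _root_.IsPreconnected ({closedPoint Ash}ᶜ : Set (PrimeSpectrum Ash)) :=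
      (isConnected_iff_connectedSpace.mpr inferInstance).isPreconnected
    have hmS : maximalIdeal Ash ∉ minimalPrimes Ash :=
      maximalIdeal_not_mem_minimalPrimes_strictHenselization A Ash hm
    -- key claim
    have key : ∀ P ∈ minimalPrimes Ash, ∀ P' ∈ minimalPrimes Ash, ∀ 𝔮 : Ideal Ash, 𝔮.IsPrime →
        𝔮 ≠ maximalIdeal Ash → P ≤ 𝔮 → P' ≤ 𝔮 → P = P' := by
      intro P hP P' hP' 𝔮 h𝔮 hne hP𝔮 hP'𝔮
      haveI := h𝔮
      have h𝔭ne : 𝔮.comap (algebraMap A Ash) ≠ maximalIdeal A := by
        intro h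
        apply hne
        have h1 : maximalIdeal Ash ≤ 𝔮 := by
          rw [← hmapmax, Ideal.map_le_iff_le_comap, h]
        exact ((maximalIdeal.isMaximal Ash).eq_of_le h𝔮.ne_top h1).symm
      have hN := isPrime_nilradical_atPrime_strictHenselization A Ash 𝔮
        (𝔮.comap (algebraMap A Ash)) rfl (hind _ h𝔭ne)
      let N' : Ideal Ash := (nilradical (Localization.AtPrime 𝔮)).comap
        (algebraMap Ash (Localization.AtPrime 𝔮))
      haveI : N'.IsPrime := Ideal.IsPrime.comap _
      have hle : ∀ P₀ ∈ minimalPrimes Ash, P₀ ≤ 𝔮 → P₀ = N' := by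
        intro P₀ hP₀ hP₀𝔮
        haveI := hP₀.1.1
        have h1 : N' ≤ P₀ := by
          intro x hx
          have hx' : IsNilpotent (algebraMap Ash (Localization.AtPrime 𝔮) x) :=
            mem_nilradical.mp hx
          rw [isNilpotent_algebraMap_iff 𝔮.primeCompl] at hx'
          obtain ⟨w, hw, m, hwm⟩ := hx'
          have h2 : w * x ^ m ∈ P₀ := by rw [hwm]; exact P₀.zero_mem
          rcases hP₀.1.1.mem_or_mem h2 with h3 | h3
          · exact absurd (hP₀𝔮 h3) hw
          · exact hP₀.1.1.mem_of_pow_mem m h3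
        exact le_antisymm (hP₀.2 ⟨inferInstance, bot_le⟩ h1) h1
      rw [hle P hP hP𝔮, hle P' hP' hP'𝔮]
    obtain ⟨P₁, hP₁, -⟩ := Ideal.exists_minimalPrimes_le
      (show (⊥ : Ideal Ash) ≤ maximalIdeal Ash from bot_le)
    refine ⟨P₁, hP₁, ?_⟩
    intro P₂ hP₂
    by_contra hne
    haveI := hP₁.1.1
    haveI := hP₂.1.1
    have hfin : (minimalPrimes Ash).Finite := minimalPrimes.finite_of_isNoetherianRing Ash
    let t : Set (PrimeSpectrum Ash) := PrimeSpectrum.zeroLocus (P₁ : Set Ash)
    let t' : Set (PrimeSpectrum Ash) :=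
      ⋃ P ∈ {P | P ∈ minimalPrimes Ash ∧ P ≠ P₁}, PrimeSpectrum.zeroLocus (P : Set Ash)
    have ht : IsClosed t := PrimeSpectrum.isClosed_zeroLocus _
    have ht' : IsClosed t' :=
      (hfin.subset (fun P hP => hP.1)).isClosed_biUnion
        (fun P _ => PrimeSpectrum.isClosed_zeroLocus _)
    have hcov : ({closedPoint Ash}ᶜ : Set (PrimeSpectrum Ash)) ⊆ t ∪ t' := by
      intro q _
      obtain ⟨P, hP, hPq⟩ := Ideal.exists_minimalPrimes_le
        (show (⊥ : Ideal Ash) ≤ q.asIdeal from bot_le)
      by_cases hPP : P = P₁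
      · left
        show (P₁ : Set Ash) ⊆ q.asIdeal
        rw [← hPP]
        exact hPq
      · right
        exact Set.mem_biUnion (show P ∈ {P | P ∈ minimalPrimes Ash ∧ P ≠ P₁} from ⟨hP, hPP⟩) hPq
    have hne1 : (⟨P₁, hP₁.1.1⟩ : PrimeSpectrum Ash) ∈
        ({closedPoint Ash}ᶜ : Set (PrimeSpectrum Ash)) := by
      intro h
      apply hmS
      have : P₁ = maximalIdeal Ash := congrArg PrimeSpectrum.asIdeal h
      rw [← this]
      exact hP₁
    have hne2 : (⟨P₂, hP₂.1.1⟩ : PrimeSpectrum Ash) ∈
        ({closedPoint Ash}ᶜ : Set (PrimeSpectrum Ash)) := by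
      intro h
      apply hmS
      have : P₂ = maximalIdeal Ash := congrArg PrimeSpectrum.asIdeal h
      rw [← this]
      exact hP₂
    have hn1 : (({closedPoint Ash}ᶜ : Set (PrimeSpectrum Ash)) ∩ t).Nonempty :=
      ⟨⟨P₁, hP₁.1.1⟩, hne1, fun x hx => hx⟩
    have hn2 : (({closedPoint Ash}ᶜ : Set (PrimeSpectrum Ash)) ∩ t').Nonempty :=
      ⟨⟨P₂, hP₂.1.1⟩, hne2,
        Set.mem_biUnion (show P₂ ∈ {P | P ∈ minimalPrimes Ash ∧ P ≠ P₁} from ⟨hP₂, hne⟩)
          (fun x hx => hx)⟩
    obtain ⟨q, hqU, hqt, hqt'⟩ := (isPreconnected_closed_iff.mp hU) t t' ht ht' hcov hn1 hn2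
    obtain ⟨P, ⟨hP, hPne⟩, hPq⟩ := Set.mem_iUnion₂.mp hqt'
    have hq𝔪 : q.asIdeal ≠ maximalIdeal Ash := by
      intro h
      apply hqU
      exact PrimeSpectrum.ext h
    exact hPne (key P hP P₁ hP₁ q.asIdeal q.2 hq𝔪 hPq hqt)

end Bwd

section RingInd

variable (R₀ : Type u) [CommRing R₀] [IsNoetherianRing R₀]

/-- localization of a localization at a prime. -/
theorem isGeomUnibranch_atPrime_atPrime (p : Ideal R₀) [p.IsPrime]
    (𝔭 : Ideal (Localization.AtPrime p)) [𝔭.IsPrime]
    (h : ∀ (p' : Ideal R₀) [p'.IsPrime], p' = 𝔭.comap (algebraMap R₀ (Localization.AtPrime p)) →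
      CAlg2.IsGeomUnibranch (Localization.AtPrime p')) :
    CAlg2.IsGeomUnibranch (Localization.AtPrime 𝔭) := by
  let A := Localization.AtPrime p
  let p' : Ideal R₀ := 𝔭.comap (algebraMap R₀ A)
  haveI : p'.IsPrime := Ideal.IsPrime.comap _
  let T := Localization.AtPrime 𝔭
  haveI h1 : IsLocalization.AtPrime T p' :=
    IsLocalization.isLocalization_isLocalization_atPrime_isLocalization p.primeCompl T 𝔭
  let e : Localization.AtPrime p' ≃ₐ[R₀] T := IsLocalization.algEquiv p'.primeCompl _ _
  exact Groth.Agent.Lib.Helper4.ChevCrit4.isGeomUnibranch_of_ringEquiv e.toRingEquiv (h p' rfl)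

theorem forall_isGeomUnibranch_atPrime
    (H : ∀ (p : Ideal R₀) [p.IsPrime],
      maximalIdeal (Localization.AtPrime p) ∉ minimalPrimes (Localization.AtPrime p) →
      ConnectedSpace ↥({closedPoint (G (Localization.AtPrime p)
        (SeparableClosure (ResidueField (Localization.AtPrime p))))}ᶜ :
        Set (PrimeSpectrum (G (Localization.AtPrime p)
          (SeparableClosure (ResidueField (Localization.AtPrime p))))))) :
    ∀ (p : Ideal R₀) [p.IsPrime], CAlg2.IsGeomUnibranch (Localization.AtPrime p) := by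
  have main : ∀ n : ℕ, ∀ (p : Ideal R₀) [p.IsPrime], p.height = n →
      CAlg2.IsGeomUnibranch (Localization.AtPrime p) := by
    intro n
    induction n using Nat.strong_induction_on with
    | _ n ih =>
      intro p _ hpn
      haveI : IsNoetherianRing (Localization.AtPrime p) :=
        IsLocalization.isNoetherianRing p.primeCompl _ inferInstance
      apply isGeomUnibranch_of_punctured_connected (Localization.AtPrime p) (H p)
      intro 𝔭 _ h𝔭ne
      apply isGeomUnibranch_atPrime_atPrime R₀ p 𝔭
      intro p' _ hp'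
      have hle : 𝔭 ≤ maximalIdeal (Localization.AtPrime p) :=
        IsLocalRing.le_maximalIdeal (Ideal.IsPrime.ne_top inferInstance)
      have hcm : (maximalIdeal (Localization.AtPrime p)).comap
          (algebraMap R₀ (Localization.AtPrime p)) = p :=
        IsLocalization.AtPrime.under_maximalIdeal (Localization.AtPrime p) p
      have hp'le : p' ≤ p := by
        rw [hp']
        exact (Ideal.comap_mono hle).trans hcm.le
      have hp'ne : p' ≠ p := by
        intro heq
        apply h𝔭ne
        have m1 : Ideal.map (algebraMap R₀ (Localization.AtPrime p))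
            (𝔭.comap (algebraMap R₀ (Localization.AtPrime p))) = 𝔭 :=
          IsLocalization.map_comap p.primeCompl _ 𝔭
        have m2 : Ideal.map (algebraMap R₀ (Localization.AtPrime p))
            ((maximalIdeal (Localization.AtPrime p)).comap
              (algebraMap R₀ (Localization.AtPrime p))) = maximalIdeal (Localization.AtPrime p) :=
          IsLocalization.map_comap p.primeCompl _ _
        rw [← m1, ← m2, ← hp', heq]
        exact congrArg _ hcm.symm
      have hlt : p' < p := lt_of_le_of_ne hp'le hp'ne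
      have hht : p'.height < p.height := Ideal.height_strict_mono_of_isPrime hlt
      have hfin : p'.height ≠ ⊤ := Ideal.height_ne_top_of_isPrime
      obtain ⟨m, hm⟩ := ENat.ne_top_iff_exists.mp hfin
      refine ih m ?_ p' hm.symm
      rw [← hm, hpn] at hht
      exact_mod_cast hht
  intro p _
  have hfin : p.height ≠ ⊤ := Ideal.height_ne_top_of_isPrime
  obtain ⟨m, hm⟩ := ENat.ne_top_iff_exists.mp hfin
  exact main m p hm.symm

end RingInd

theorem maximalIdeal_mem_minimalPrimes_of_ringEquiv {B C : Type*} [CommRing B] [CommRing C]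
    [IsLocalRing B] [IsLocalRing C] (e : B ≃+* C)
    (h : maximalIdeal C ∈ minimalPrimes C) : maximalIdeal B ∈ minimalPrimes B := by
  refine ⟨⟨inferInstance, bot_le⟩, ?_⟩
  rintro P' ⟨hP', -⟩ hle
  haveI := hP'
  have h1 : P'.comap e.symm.toRingHom ≤ maximalIdeal C :=
    IsLocalRing.le_maximalIdeal (Ideal.IsPrime.ne_top (Ideal.IsPrime.comap _))
  have h2 := h.2 ⟨Ideal.IsPrime.comap _, bot_le⟩ h1
  intro b hb
  have h3 : e b ∈ maximalIdeal C := by
    rw [IsLocalRing.mem_maximalIdeal, mem_nonunits_iff] at hb ⊢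
    intro hu
    apply hb
    have := hu.map e.symm
    rwa [e.symm_apply_apply] at this
  have h4 := h2 h3
  rw [Ideal.mem_comap] at h4
  have h5 : e.symm.toRingHom (e b) = b := e.symm_apply_apply b
  rwa [h5] at h4

theorem S9809_main (X : Scheme.{u}) [IsNoetherian X] :
    (∀ x : X, CAlg2.IsGeomUnibranch (X.presheaf.stalk x)) ↔
      ∀ (x : X), closure ({x} : Set X) ∉ irreducibleComponents X →
        ∀ (Ash : Type u) [CommRing Ash] [IsLocalRing Ash] [Algebra (X.presheaf.stalk x) Ash]
          [IsLocalHom (algebraMap (X.presheaf.stalk x) Ash)]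
          [Hensel.IsStrictHenselization (X.presheaf.stalk x) Ash],
          ConnectedSpace ↥({IsLocalRing.closedPoint Ash}ᶜ : Set (PrimeSpectrum Ash)) := by
  constructor
  · intro h x hx Ash _ _ _ _ _
    apply connectedSpace_punctured_of_isGeomUnibranch (X.presheaf.stalk x) Ash (h x)
    rw [← closure_singleton_mem_irreducibleComponents_iff]
    exact hx
  · intro H x
    obtain ⟨_, ⟨W, hW, rfl⟩, hxW, -⟩ :=
      X.isBasis_affineOpens.exists_subset_of_mem_open (Set.mem_univ x) isOpen_univ
    let R₀ := Γ(X, W)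
    haveI : IsNoetherianRing R₀ := IsLocallyNoetherian.component_noetherian ⟨W, hW⟩
    have hring : ∀ (p : Ideal R₀) [p.IsPrime], CAlg2.IsGeomUnibranch (Localization.AtPrime p) := by
      apply forall_isGeomUnibranch_atPrime R₀
      intro p hpp hnm
      let q : PrimeSpectrum R₀ := ⟨p, hpp⟩
      let y : X := hW.fromSpec q
      have hyW : y ∈ W := by
        have : y ∈ Set.range hW.fromSpec := ⟨q, rfl⟩
        rw [hW.range_fromSpec] at this
        exact this
      have hq : hW.primeIdealOf ⟨y, hyW⟩ = q :=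
        hW.fromSpec.isOpenEmbedding.injective (hW.fromSpec_primeIdealOf ⟨y, hyW⟩)
      letI := X.presheaf.algebra_section_stalk ⟨y, hyW⟩
      have hloc0 := hW.isLocalization_stalk ⟨y, hyW⟩
      have hloc : IsLocalization.AtPrime (X.presheaf.stalk y) p := by
        have hc : (hW.primeIdealOf ⟨y, hyW⟩).asIdeal.primeCompl = p.primeCompl := by
          ext z
          simp only [Ideal.mem_primeCompl_iff]
          rw [hq]
        unfold IsLocalization.AtPrime at hloc0 ⊢
        rw [← hc]
        exact hloc0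
      haveI := hloc
      let e : Localization.AtPrime p ≃ₐ[R₀] X.presheaf.stalk y :=
        IsLocalization.algEquiv p.primeCompl _ _
      let T := G (Localization.AtPrime p) (SeparableClosure (ResidueField (Localization.AtPrime p)))
      haveI : Hensel.IsStrictHenselization (Localization.AtPrime p) T :=
        isStrictHenselization_G _ _
      letI alg : Algebra (X.presheaf.stalk y) T :=
        ((algebraMap (Localization.AtPrime p) T).comp e.symm.toRingEquiv.toRingHom).toAlgebra
      have hlocT : IsLocalHom (algebraMap (X.presheaf.stalk y) T) := by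
        haveI : IsLocalHom e.symm.toRingEquiv.toRingHom :=
          ⟨fun a ha => (isLocalHom_equiv e.symm.toRingEquiv).map_nonunit a ha⟩
        exact RingHom.isLocalHom_comp _ _
      haveI := hlocT
      haveI : Hensel.IsStrictHenselization (X.presheaf.stalk y) T :=
        isStrictHenselization_of_ringEquiv e.symm.toRingEquiv alg rfl hlocT
      apply H y _ T
      rw [closure_singleton_mem_irreducibleComponents_iff]
      intro hmin
      exact hnm (maximalIdeal_mem_minimalPrimes_of_ringEquiv e.toRingEquiv hmin)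
    letI := X.presheaf.algebra_section_stalk ⟨x, hxW⟩
    haveI := hW.isLocalization_stalk ⟨x, hxW⟩
    let ex : Localization.AtPrime (hW.primeIdealOf ⟨x, hxW⟩).asIdeal ≃ₐ[R₀] X.presheaf.stalk x :=
      IsLocalization.algEquiv (hW.primeIdealOf ⟨x, hxW⟩).asIdeal.primeCompl _ _
    exact Groth.Agent.Lib.Helper4.ChevCrit4.isGeomUnibranch_of_ringEquiv ex.toRingEquiv
      (hring (hW.primeIdealOf ⟨x, hxW⟩).asIdeal)

end Groth.Agent.Lead.GUnib
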