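import Mathlib
import Groth.Prelude
import Groth.Agent.Lib.Lead.GUnib24

set_option autoImplicit false
set_option backward.isDefEq.respectTransparency.types false
set_option synthInstance.maxHeartbeats 400000
set_option linter.style.haveILetI false
set_option linter.unusedSectionVars false

universe u

open IsLocalRing TensorProduct

namespace Groth.Agent.Lead.EssEt

open Groth.Agent.Helper7.SHens

section KL

variable (A : Type u) [CommRing A] [IsLocalRing A]

/-- The colimit model of the strict henselization is flat over every étale algebra mapping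
to it. -/
theorem flat_of_etale_G (C : Type u) [CommRing C] [Algebra A C] [Algebra.Etale A C]
    (φ : C →ₐ[A] G A (SeparableClosure (ResidueField A))) : φ.toRingHom.Flat := by
  let K := SeparableClosure (ResidueField A)
  let s : C →ₐ[A] K := (σ : G A K →ₐ[A] K).comp φ
  let U₀ : Nbhd A K := Nbhd.of C s
  let eU : U₀.Ring ≃ₐ[A] C := Nbhd.ofEquiv C s
  have hψ : φ.comp eU.toAlgHom = ιAlg U₀ := by
    apply Groth.Agent.Helper7.Hensel.algHom_eq_of_formallyUnramified (maximalIdeal (G A K))
      (IsLocalRing.jacobson_eq_maximalIdeal ⊥ bot_ne_top).ge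
    intro x
    rw [IsLocalRing.mem_maximalIdeal, mem_nonunits_iff, isUnit_iff_σ_ne_zero, not_not, map_sub,
      sub_eq_zero]
    have h1 : σ (ιAlg U₀ x) = U₀.sec x := σ_ι U₀ x
    rw [h1, Nbhd.of_sec_apply]
    rfl
  letI := stageAlgebra U₀
  have hfl : Module.Flat U₀.Ring (G A K) := flat_stage U₀ (fun _ => rfl)
  have hfl' : (ι U₀).Flat := hfl
  have heq : φ.toRingHom = (ι U₀).comp eU.symm.toRingEquiv.toRingHom := by
    ext c
    have h2 : φ (eU (eU.symm c)) = ιAlg U₀ (eU.symm c) := AlgHom.congr_fun hψ (eU.symm c)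
    rw [AlgEquiv.apply_symm_apply] at h2
    exact h2
  rw [heq]
  exact RingHom.Flat.comp (RingHom.Flat.of_bijective eU.symm.bijective) hfl'

/-- A strict henselization is flat over every étale algebra mapping to it. -/
theorem flat_of_etale_strictHenselization (S : Type u) [CommRing S] [IsLocalRing S] [Algebra A S]
    [IsLocalHom (algebraMap A S)] [Hensel.IsStrictHenselization A S]
    (C : Type u) [CommRing C] [Algebra A C] [Algebra.Etale A C] (φ : C →ₐ[A] S) :
    φ.toRingHom.Flat := by
  let K := SeparableClosure (ResidueField A)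
  haveI : Hensel.IsStrictHenselization A (G A K) := isStrictHenselization_G A K
  obtain ⟨e⟩ := Groth.Agent.Helper7.SHensTensor.nonempty_algEquiv_of_isStrictHenselization A
    S (G A K)
  have h1 := flat_of_etale_G A C (e.toAlgHom.comp φ)
  have heq : φ.toRingHom = (e.symm.toRingEquiv.toRingHom).comp (e.toAlgHom.comp φ).toRingHom := by
    ext c
    show φ c = e.symm (e (φ c))
    rw [AlgEquiv.symm_apply_apply]
  rw [heq]
  exact RingHom.Flat.comp h1 (RingHom.Flat.of_bijective e.symm.bijective)

set_option maxHeartbeats 1000000 in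
/-- If an element of an étale algebra dies in the strict henselization, it is killed by an
element which becomes a unit. -/
theorem exists_isUnit_mul_eq_zero (S : Type u) [CommRing S] [IsLocalRing S] [Algebra A S]
    [IsLocalHom (algebraMap A S)] [Hensel.IsStrictHenselization A S]
    (C : Type u) [CommRing C] [Algebra A C] [Algebra.Etale A C] (φ : C →ₐ[A] S) (c : C)
    (hc : φ c = 0) : ∃ t : C, IsUnit (φ t) ∧ t * c = 0 := by
  classical
  have hfl := flat_of_etale_strictHenselization A S C φ
  letI := φ.toRingHom.toAlgebra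
  have hfl' : Module.Flat C S := hfl
  have key : Module.IsTrivialRelation (R := C) (M := S) (fun _ : Fin 1 => c)
      (fun _ : Fin 1 => (1 : S)) := by
    apply Module.Flat.isTrivialRelation_of_sum_smul_eq_zero
    simp only [Finset.univ_unique, Finset.sum_singleton]
    rw [Algebra.smul_def, mul_one]
    exact hc
  obtain ⟨κ, a, y, hy1, hy2⟩ := key
  have h1 : (1 : S) = ∑ j, a 0 j • y j := hy1 0
  by_contra hcon
  simp only [not_exists, not_and] at hcon
  have hmem : ∀ j, a 0 j • y j ∈ maximalIdeal S := by
    intro j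
    have h2 : a 0 j * c = 0 := by
      have := hy2 j
      simp only [Finset.univ_unique, Finset.sum_singleton] at this
      rw [mul_comm]
      have hd : (default : Fin 1) = 0 := Subsingleton.elim _ _
      rw [hd] at this
      exact this
    have h3 : ¬ IsUnit (φ (a 0 j)) := fun hu => hcon (a 0 j) hu h2
    rw [Algebra.smul_def]
    exact Ideal.mul_mem_right _ _ h3
  have : (1 : S) ∈ maximalIdeal S := by
    rw [h1]
    exact Ideal.sum_mem _ (fun j _ => hmem j)
  exact (maximalIdeal.isMaximal S).ne_top ((Ideal.eq_top_iff_one _).mpr this)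

end KL

end Groth.Agent.Lead.EssEt

namespace Groth.Agent.Lead.EssEt

section Main

theorem isLocalHom_of_tower (A S D : Type u) [CommRing A] [IsLocalRing A] [CommRing S]
    [IsLocalRing S] [Algebra A S] [IsLocalHom (algebraMap A S)]
    [CommRing D] [IsLocalRing D] [Algebra A D] [Algebra D S] [IsScalarTower A D S] :
    IsLocalHom (algebraMap A D) := by
  constructor
  intro a ha
  have h1 : IsUnit (algebraMap D S (algebraMap A D a)) := ha.map _
  rw [← IsScalarTower.algebraMap_apply] at h1
  exact (isUnit_map_iff (algebraMap A S) a).mp h1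

theorem isSeparable_residueField_of_tower (A S D : Type u) [CommRing A] [IsLocalRing A]
    [CommRing S] [IsLocalRing S] [Algebra A S]
    [IsLocalHom (algebraMap A S)] [Hensel.IsStrictHenselization A S]
    [CommRing D] [IsLocalRing D] [Algebra A D] [Algebra D S] [IsScalarTower A D S]
    [IsLocalHom (algebraMap D S)] [IsLocalHom (algebraMap A D)] :
    Algebra.IsSeparable (ResidueField A) (ResidueField D) := by
  haveI : Algebra.IsSeparable (ResidueField A) (ResidueField S) :=
    (Hensel.IsStrictHenselization.isSepClosure (R := A) (S := S)).separable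
  haveI : IsScalarTower (ResidueField A) (ResidueField D) (ResidueField S) := by
    apply IsScalarTower.of_algebraMap_eq
    intro x
    obtain ⟨a, rfl⟩ := IsLocalRing.residue_surjective x
    rw [IsLocalRing.ResidueField.algebraMap_residue, IsLocalRing.ResidueField.algebraMap_residue,
      IsLocalRing.ResidueField.algebraMap_residue, ← IsScalarTower.algebraMap_apply]
  exact Algebra.isSeparable_tower_bot_of_isSeparable (ResidueField A) (ResidueField D)
    (ResidueField S)

set_option maxHeartbeats 1000000 in
theorem isEssentiallyEtale_of_essFiniteType (A S D : Type u) [CommRing A] [IsLocalRing A]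
    [CommRing S] [IsLocalRing S] [Algebra A S]
    [IsLocalHom (algebraMap A S)] [Hensel.IsStrictHenselization A S]
    [CommRing D] [IsLocalRing D] [Algebra A D] [Algebra D S] [IsScalarTower A D S]
    [IsLocalHom (algebraMap D S)] [Algebra.EssFiniteType A D]
    (hm : Ideal.map (algebraMap A D) (maximalIdeal A) = maximalIdeal D) :
    EGA4loc.IsEssentiallyEtale A D := by
  classical
  haveI hlocAD : IsLocalHom (algebraMap A D) := isLocalHom_of_tower A S D
  haveI hsep := isSeparable_residueField_of_tower A S D
  haveI hunr : Algebra.FormallyUnramified A D :=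
    Algebra.FormallyUnramified.of_map_maximalIdeal hm
  -- the finite type model
  let D₀ := Algebra.EssFiniteType.subalgebra A D
  let 𝔭 : Ideal D₀ := (maximalIdeal D).comap (algebraMap D₀ D)
  haveI h𝔭 : 𝔭.IsPrime := Ideal.IsPrime.comap _
  have hcompl : 𝔭.primeCompl = Algebra.EssFiniteType.submonoid A D := by
    ext x
    have h1 : x ∈ 𝔭.primeCompl ↔ IsUnit (algebraMap D₀ D x) := by
      simp only [Ideal.mem_primeCompl_iff, 𝔭, Ideal.mem_comap, IsLocalRing.mem_maximalIdeal,
        mem_nonunits_iff, not_not]
    rw [h1]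
    rfl
  haveI hlocD : IsLocalization.AtPrime D 𝔭 := by
    unfold IsLocalization.AtPrime
    rw [hcompl]
    infer_instance
  -- unramified at 𝔭
  let e𝔭 : Localization.AtPrime 𝔭 ≃ₐ[D₀] D := IsLocalization.algEquiv 𝔭.primeCompl _ _
  haveI : Algebra.IsUnramifiedAt A 𝔭 :=
    Algebra.FormallyUnramified.of_equiv (e𝔭.restrictScalars A).symm
  obtain ⟨f, hf𝔭, P, φ, hφ⟩ :=
    Algebra.IsUnramifiedAt.exists_hasStandardEtaleSurjectionOn (R := A) 𝔭
  have hfu : IsUnit (algebraMap D₀ D f) := by
    by_contra hnu
    exact hf𝔭 hnu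
  let ψ : Localization.Away f →+* D := IsLocalization.Away.lift f hfu
  have hψ : ∀ x : D₀, ψ (algebraMap D₀ (Localization.Away f) x) = algebraMap D₀ D x :=
    fun x => IsLocalization.Away.lift_eq f hfu x
  let θ : P.Ring →ₐ[A] D :=
    { ψ.comp φ.toRingHom with
      commutes' := fun a => by
        show ψ (φ (algebraMap A P.Ring a)) = algebraMap A D a
        rw [φ.commutes, IsScalarTower.algebraMap_apply A D₀ (Localization.Away f), hψ,
          ← IsScalarTower.algebraMap_apply] }
  have hθ : ∀ c, θ c = ψ (φ c) := fun c => rfl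
  let q : Ideal P.Ring := (maximalIdeal D).comap θ
  haveI hq : q.IsPrime := Ideal.IsPrime.comap _
  have hunits : ∀ y : q.primeCompl, IsUnit (θ.toRingHom y) := by
    intro y
    by_contra hnu
    exact y.2 hnu
  let Θ : Localization.AtPrime q →+* D := IsLocalization.lift hunits
  have hΘ : ∀ c : P.Ring, Θ (algebraMap P.Ring (Localization.AtPrime q) c) = θ c :=
    fun c => IsLocalization.lift_eq hunits c
  -- elements of the model come from the standard étale algebra
  have himg : ∀ x : D₀, ∃ c : P.Ring, θ c = algebraMap D₀ D x := by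
    intro x
    obtain ⟨c, hc⟩ := hφ (algebraMap D₀ (Localization.Away f) x)
    exact ⟨c, by rw [hθ, hc, hψ]⟩
  have hsurj : Function.Surjective Θ := by
    intro d
    obtain ⟨⟨x, m⟩, hxm⟩ := IsLocalization.surj 𝔭.primeCompl d
    obtain ⟨c₁, hc₁⟩ := himg x
    obtain ⟨c₂, hc₂⟩ := himg m.1
    have hmu : IsUnit (algebraMap D₀ D m.1) := by
      by_contra hnu
      exact m.2 hnu
    have hc₂q : c₂ ∈ q.primeCompl := by
      intro hmem
      have h1 : θ c₂ ∈ maximalIdeal D := hmem
      rw [hc₂] at h1
      exact h1 hmu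
    refine ⟨IsLocalization.mk' (Localization.AtPrime q) c₁ ⟨c₂, hc₂q⟩, ?_⟩
    have h2 : Θ (IsLocalization.mk' (Localization.AtPrime q) c₁ ⟨c₂, hc₂q⟩) * θ c₂ = θ c₁ := by
      rw [← hΘ c₂, ← map_mul, ← hΘ c₁]
      congr 1
      exact IsLocalization.mk'_spec (Localization.AtPrime q) c₁ ⟨c₂, hc₂q⟩
    have h3 : d * θ c₂ = θ c₁ := by
      rw [hc₂, hc₁]
      exact hxm
    have hcu : IsUnit (θ c₂) := by rw [hc₂]; exact hmu
    exact hcu.mul_left_injective (h2.trans h3.symm)
  have hinj : Function.Injective Θ := by
    rw [injective_iff_map_eq_zero]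
    intro z hz
    obtain ⟨c, t, rfl⟩ := IsLocalization.exists_mk'_eq q.primeCompl z
    have h1 : Θ (IsLocalization.mk' (Localization.AtPrime q) c t) * θ t.1 = θ c := by
      rw [← hΘ t.1, ← map_mul, ← hΘ c]
      congr 1
      exact IsLocalization.mk'_spec (Localization.AtPrime q) c t
    rw [hz, zero_mul] at h1
    let φS : P.Ring →ₐ[A] S := (IsScalarTower.toAlgHom A D S).comp θ
    have hφS : φS c = 0 := by
      show algebraMap D S (θ c) = 0
      rw [← h1, map_zero]
    obtain ⟨t', ht'u, ht'c⟩ := exists_isUnit_mul_eq_zero A S P.Ring φS c hφS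
    have ht'q : t' ∈ q.primeCompl := by
      intro hmem
      have h2 : θ t' ∈ maximalIdeal D := hmem
      have h3 : IsUnit (θ t') := (isUnit_map_iff (algebraMap D S) (θ t')).mp ht'u
      exact h2 h3
    rw [IsLocalization.mk'_eq_zero_iff]
    exact ⟨⟨t', ht'q⟩, ht'c⟩
  let eΘ : Localization.AtPrime q ≃ₐ[A] D :=
    { RingEquiv.ofBijective Θ ⟨hinj, hsurj⟩ with
      commutes' := fun a => by
        show Θ (algebraMap A (Localization.AtPrime q) a) = algebraMap A D a
        rw [IsScalarTower.algebraMap_apply A P.Ring (Localization.AtPrime q), hΘ, θ.commutes] }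
  refine ⟨P.Ring, inferInstance, inferInstance, q, hq, inferInstance, ?_, ⟨eΘ.symm⟩⟩
  ext a
  have h1 : a ∈ q.comap (algebraMap A P.Ring) ↔ algebraMap A D a ∈ maximalIdeal D := by
    show θ (algebraMap A P.Ring a) ∈ maximalIdeal D ↔ _
    rw [θ.commutes]
  rw [h1, IsLocalRing.mem_maximalIdeal, IsLocalRing.mem_maximalIdeal, mem_nonunits_iff,
    mem_nonunits_iff, isUnit_map_iff]

end Main

end Groth.Agent.Lead.EssEt
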