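import Mathlib
import Groth.Prelude
import Groth.Agent.Lib.Lead.EssEt1

set_option autoImplicit false
set_option backward.isDefEq.respectTransparency.types false
set_option synthInstance.maxHeartbeats 400000
set_option linter.style.haveILetI false
set_option linter.unusedSectionVars false

universe u

open IsLocalRing TensorProduct

namespace Groth.Agent.Lead.EssEt

open Groth.Agent.Helper7.SHens

/-- Finitely many elements of a strict henselization come from an étale algebra. -/
theorem exists_etale_range (A : Type u) [CommRing A] [IsLocalRing A]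
    (S : Type u) [CommRing S] [IsLocalRing S] [Algebra A S]
    [IsLocalHom (algebraMap A S)] [Hensel.IsStrictHenselization A S] (s : Finset S) :
    ∃ (C : Type u) (_ : CommRing C) (_ : Algebra A C) (_ : Algebra.Etale A C) (φ : C →ₐ[A] S),
      (s : Set S) ⊆ Set.range φ := by
  classical
  let K := SeparableClosure (ResidueField A)
  haveI : Hensel.IsStrictHenselization A (G A K) := isStrictHenselization_G A K
  obtain ⟨e⟩ := Groth.Agent.Helper7.SHensTensor.nonempty_algEquiv_of_isStrictHenselization A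
    S (G A K)
  obtain ⟨n, ⟨en⟩⟩ : ∃ n : ℕ, Nonempty (Fin n ≃ s) :=
    ⟨_, ⟨(Fintype.equivFin s).symm⟩⟩
  obtain ⟨U, -, ξ, hξ⟩ := exists_rep_fin (Nbhd.base A K) (fun i : Fin n => e (en i).1)
  refine ⟨U.Ring, inferInstance, inferInstance, inferInstance,
    e.symm.toAlgHom.comp (ιAlg U), ?_⟩
  intro x hx
  obtain ⟨i, hi⟩ := en.surjective ⟨x, hx⟩
  refine ⟨ξ i, ?_⟩
  show e.symm (ι U (ξ i)) = x
  rw [hξ i, hi, AlgEquiv.symm_apply_apply]

/-- The localization of an étale algebra mapping to the strict henselization, at the preimage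
of the maximal ideal, embeds into the strict henselization; its image is an essentially étale
local subalgebra. -/
theorem exists_subalgebra_of_etale (A : Type u) [CommRing A] [IsLocalRing A]
    (S : Type u) [CommRing S] [IsLocalRing S] [Algebra A S]
    [IsLocalHom (algebraMap A S)] [Hensel.IsStrictHenselization A S]
    (C : Type u) [CommRing C] [Algebra A C] [Algebra.Etale A C] (φ : C →ₐ[A] S) :
    ∃ E : Subalgebra A S, (∀ c : C, φ c ∈ E) ∧
      (∀ c : C, IsUnit (φ c) → ∃ y ∈ E, φ c * y = 1) ∧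
      ∃ _ : IsLocalRing E, EGA4loc.IsEssentiallyEtale A E := by
  classical
  let q : Ideal C := (maximalIdeal S).comap φ
  haveI hq : q.IsPrime := Ideal.IsPrime.comap _
  have hunits : ∀ y : q.primeCompl, IsUnit (φ.toRingHom y) := by
    intro y
    by_contra hnu
    exact y.2 hnu
  let Φ₀ : Localization.AtPrime q →+* S := IsLocalization.lift hunits
  have hΦ₀ : ∀ c : C, Φ₀ (algebraMap C (Localization.AtPrime q) c) = φ c :=
    fun c => IsLocalization.lift_eq hunits c
  let Φ : Localization.AtPrime q →ₐ[A] S :=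
    { Φ₀ with
      commutes' := fun a => by
        show Φ₀ (algebraMap A (Localization.AtPrime q) a) = algebraMap A S a
        rw [IsScalarTower.algebraMap_apply A C (Localization.AtPrime q), hΦ₀, φ.commutes] }
  have hΦ : ∀ c : C, Φ (algebraMap C (Localization.AtPrime q) c) = φ c := hΦ₀
  have hinj : Function.Injective Φ := by
    rw [injective_iff_map_eq_zero]
    intro z hz
    obtain ⟨c, t, rfl⟩ := IsLocalization.exists_mk'_eq q.primeCompl z
    have h1 : Φ (IsLocalization.mk' (Localization.AtPrime q) c t) * φ t.1 = φ c := by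
      rw [← hΦ t.1, ← map_mul, ← hΦ c]
      congr 1
      exact IsLocalization.mk'_spec (Localization.AtPrime q) c t
    rw [hz, zero_mul] at h1
    obtain ⟨t', ht'u, ht'c⟩ := exists_isUnit_mul_eq_zero A S C φ c h1.symm
    have ht'q : t' ∈ q.primeCompl := by
      intro hmem
      have h2 : φ t' ∈ maximalIdeal S := hmem
      exact h2 ht'u
    rw [IsLocalization.mk'_eq_zero_iff]
    exact ⟨⟨t', ht'q⟩, ht'c⟩
  let E : Subalgebra A S := Φ.range
  let eE : Localization.AtPrime q ≃ₐ[A] E := AlgEquiv.ofInjective Φ hinj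
  haveI hElocal : IsLocalRing E :=
    IsLocalRing.of_surjective' eE.toRingEquiv.toRingHom eE.surjective
  refine ⟨E, fun c => ⟨algebraMap C _ c, hΦ c⟩, ?_, hElocal, ?_⟩
  · intro c hc
    have hcq : c ∈ q.primeCompl := by
      intro hmem
      have h2 : φ c ∈ maximalIdeal S := hmem
      exact h2 hc
    refine ⟨Φ (IsLocalization.mk' (Localization.AtPrime q) 1 ⟨c, hcq⟩), ⟨_, rfl⟩, ?_⟩
    rw [← hΦ c, ← map_mul, mul_comm]
    have := IsLocalization.mk'_spec (Localization.AtPrime q) (1 : C) ⟨c, hcq⟩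
    rw [this, map_one, map_one]
  · refine ⟨C, inferInstance, inferInstance, q, hq, inferInstance, ?_, ⟨eE.symm⟩⟩
    ext a
    have h1 : a ∈ q.comap (algebraMap A C) ↔ algebraMap A S a ∈ maximalIdeal S := by
      show φ (algebraMap A C a) ∈ maximalIdeal S ↔ _
      rw [φ.commutes]
    rw [h1, IsLocalRing.mem_maximalIdeal, IsLocalRing.mem_maximalIdeal, mem_nonunits_iff,
      mem_nonunits_iff, isUnit_map_iff]

end Groth.Agent.Lead.EssEt

namespace Groth.Agent.Lead.EssEt

theorem S16442_main
    (A S : Type u) [CommRing A] [IsLocalRing A]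
    [CommRing S] [IsLocalRing S] [Algebra A S] [IsLocalHom (algebraMap A S)]
    [Hensel.IsStrictHenselization A S] (D : Subalgebra A S) [IsLocalRing D]
    [IsLocalHom (algebraMap D S)] [Algebra.EssFiniteType A D] :
    ∃ E : Subalgebra A S, D ≤ E ∧ ∃ _ : IsLocalRing E, EGA4loc.IsEssentiallyEtale A E := by
  classical
  obtain ⟨σ, hσ⟩ := (Algebra.essFiniteType_iff A D).mp inferInstance
  let s : Finset S := σ.image (fun d : D => (d : S))
  obtain ⟨C, _, _, _, φ, hφ⟩ := exists_etale_range A S s
  obtain ⟨E, hE1, hE2, hEloc, hEet⟩ := exists_subalgebra_of_etale A S C φ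
  have hrange : ∀ x : D, x ∈ Algebra.adjoin A (σ : Set D) → ∃ c : C, φ c = (x : S) := by
    intro x hx
    have h1 : (x : S) ∈ (Algebra.adjoin A (σ : Set D)).map D.val := ⟨x, hx, rfl⟩
    rw [AlgHom.map_adjoin] at h1
    have h2 : Algebra.adjoin A (D.val '' (σ : Set D)) ≤ φ.range := by
      apply Algebra.adjoin_le
      rintro _ ⟨d, hd, rfl⟩
      apply hφ
      simp only [s, Finset.coe_image]
      exact ⟨d, hd, rfl⟩
    exact h2 h1
  refine ⟨E, ?_, hEloc, hEet⟩
  intro d hd
  obtain ⟨t, ht, htu, hdt⟩ := hσ ⟨d, hd⟩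
  obtain ⟨c₁, hc₁⟩ := hrange _ hdt
  obtain ⟨c₂, hc₂⟩ := hrange _ ht
  have htuS : IsUnit ((t : D) : S) := htu.map (algebraMap D S)
  obtain ⟨y, hyE, hy⟩ := hE2 c₂ (by rw [hc₂]; exact htuS)
  have h3 : d = φ c₁ * y := by
    rw [hc₁]
    show d = (d * (t : S)) * y
    rw [mul_assoc, ← hc₂, hy, mul_one]
  rw [h3]
  exact E.mul_mem (hE1 c₁) hyE

end Groth.Agent.Lead.EssEt
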