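import Mathlib
import Groth.Prelude
import Groth.Agent.Lib.Lead.EssEt2

set_option autoImplicit false
set_option backward.isDefEq.respectTransparency.types false
set_option synthInstance.maxHeartbeats 400000
set_option linter.style.haveILetI false
set_option linter.unusedSectionVars false

universe u

open IsLocalRing TensorProduct

namespace Groth.Agent.Lead.EssEt

section TotalFraction

variable {A : Type u} [CommRing A] [IsReduced A]

/-- In a reduced ring, an element avoiding all minimal primes is a non-zero-divisor. -/
theorem mem_nonZeroDivisors_of_forall_notMem_minimalPrimes (a : A)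
    (h : ∀ p ∈ minimalPrimes A, a ∉ p) : a ∈ nonZeroDivisors A := by
  rw [mem_nonZeroDivisors_iff_right]
  intro x hx
  have h1 : x ∈ sInf (minimalPrimes A) := by
    rw [Submodule.mem_sInf]
    intro p hp
    have hpp : Ideal.IsPrime p := hp.1.1
    have h2 : x * a ∈ p := by rw [hx]; exact Ideal.zero_mem p
    exact (Ideal.IsPrime.mem_or_mem hpp h2).resolve_right (h p hp)
  have h3 : sInf (minimalPrimes A) = ⊥ := by
    unfold minimalPrimes
    rw [Ideal.sInf_minimalPrimes]
    exact nilradical_eq_zero A
  rw [h3] at h1
  exact h1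

/-- A prime consisting of zero divisors of a reduced ring with finitely many minimal primes is
a minimal prime. -/
theorem mem_minimalPrimes_of_disjoint_nonZeroDivisors (hmin : (minimalPrimes A).Finite)
    (p : Ideal A) [p.IsPrime] (hp : Disjoint (p : Set A) (nonZeroDivisors A : Set A)) :
    p ∈ minimalPrimes A := by
  classical
  have hsub : (p : Set A) ⊆ ⋃ i ∈ ((hmin.toFinset : Finset (Ideal A)) : Set (Ideal A)),
      ((id i : Ideal A) : Set A) := by
    intro a ha
    by_contra hcon
    simp only [Set.mem_iUnion, not_exists] at hcon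
    have : a ∈ nonZeroDivisors A := by
      apply mem_nonZeroDivisors_of_forall_notMem_minimalPrimes
      intro q hq haq
      exact hcon q (by simpa using hq) haq
    exact Set.disjoint_left.mp hp ha this
  obtain ⟨q, hq, hpq⟩ := (Ideal.subset_union_prime (f := fun i : Ideal A => i) ⊥ ⊥
    (fun i hi _ _ => ((Set.Finite.mem_toFinset hmin).mp hi).1.1)).mp hsub
  have hq' : q ∈ minimalPrimes A := (Set.Finite.mem_toFinset hmin).mp hq
  have : q ≤ p := hq'.2 ⟨inferInstance, bot_le⟩ hpq
  rw [le_antisymm hpq this]
  exact hq'

/-- The total ring of fractions of a reduced ring with finitely many minimal primes is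
Artinian. -/
theorem isArtinianRing_of_isFractionRing (hmin : (minimalPrimes A).Finite)
    (K : Type u) [CommRing K] [Algebra A K] [IsLocalization (nonZeroDivisors A) K] :
    IsArtinianRing K := by
  classical
  haveI : IsReduced K := isReduced_localizationPreserves (nonZeroDivisors A) K inferInstance
  let o := IsLocalization.orderIsoOfPrime (nonZeroDivisors A) K
  -- contraction of a prime is a minimal prime
  have hcontr : ∀ P : {p : Ideal K // p.IsPrime}, (o P).1 ∈ minimalPrimes A := by
    intro P
    haveI : (o P).1.IsPrime := (o P).2.1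
    exact mem_minimalPrimes_of_disjoint_nonZeroDivisors hmin (o P).1 (o P).2.2.symm
  haveI hfin : Finite {p : Ideal K // p.IsPrime} := by
    haveI : Finite (minimalPrimes A) := hmin
    let g : {p : Ideal K // p.IsPrime} → minimalPrimes A := fun P => ⟨(o P).1, hcontr P⟩
    apply Finite.of_injective g
    intro P Q hPQ
    apply o.injective
    apply Subtype.ext
    exact congrArg (fun z : minimalPrimes A => (z : Ideal A)) hPQ
  -- every prime is maximal
  have hmax : ∀ P : {p : Ideal K // p.IsPrime}, P.1.IsMaximal := by
    intro P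
    obtain ⟨Q, hQmax, hPQ⟩ := Ideal.exists_le_maximal P.1 P.2.ne_top
    let Q' : {p : Ideal K // p.IsPrime} := ⟨Q, hQmax.isPrime⟩
    have h1 : o P ≤ o Q' := o.monotone hPQ
    have h2 : (o Q').1 ≤ (o P).1 := (hcontr Q').2 ⟨(o P).2.1, bot_le⟩ h1
    have h3 : o P = o Q' := le_antisymm h1 h2
    have h4 : P = Q' := o.injective h3
    rw [h4]
    exact hQmax
  let f : {p : Ideal K // p.IsPrime} → Ideal K := fun P => P.1
  have hcop : Pairwise (Function.onFun IsCoprime f) := by
    intro P Q hPQ
    show IsCoprime P.1 Q.1
    rw [Ideal.isCoprime_iff_sup_eq]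
    haveI := hmax P
    haveI := hmax Q
    exact Ideal.IsMaximal.coprime_of_ne (hmax P) (hmax Q) (fun h => hPQ (Subtype.ext h))
  have hinf : ⨅ i, f i = ⊥ := by
    have h1 : nilradical K = ⊥ := nilradical_eq_zero K
    rw [← h1, nilradical_eq_sInf]
    apply le_antisymm
    · apply le_sInf
      intro J hJ
      exact iInf_le f ⟨J, hJ⟩
    · apply le_iInf
      intro P
      exact sInf_le P.2
  let e1 : K ≃+* K ⧸ (⨅ i, f i) :=
    (RingEquiv.quotientBot K).symm.trans (Ideal.quotEquivOfEq hinf.symm)
  let e2 := Ideal.quotientInfRingEquivPiQuotient f hcop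
  haveI : ∀ i, IsArtinianRing (K ⧸ f i) := by
    intro i
    haveI := hmax i
    letI := Ideal.Quotient.field (f i)
    infer_instance
  exact RingEquiv.isArtinianRing (e1.trans e2).symm

end TotalFraction

end Groth.Agent.Lead.EssEt

namespace Groth.Agent.Lead.EssEt

section Frac

variable {A : Type u} [CommRing A] [IsReduced A]

/-- images of non-zero-divisors under a flat map are non-zero-divisors -/
theorem map_nonZeroDivisors_le_of_flat (E : Type u) [CommRing E] [Algebra A E] [Module.Flat A E] :
    (nonZeroDivisors A).map (algebraMap A E) ≤ nonZeroDivisors E := by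
  rintro _ ⟨a, ha, rfl⟩
  have hreg : IsSMulRegular E a := Module.Flat.isSMulRegular_of_nonZeroDivisors ha
  rw [mem_nonZeroDivisors_iff_right]
  intro x hx
  apply hreg
  show a • x = a • 0
  rw [smul_zero, Algebra.smul_def, mul_comm]
  exact hx

/-- In the localization at the image of the non-zero-divisors of `A`, every non-zero-divisor of
`E` becomes a unit. -/
theorem isUnit_of_mem_nonZeroDivisors (hmin : (minimalPrimes A).Finite)
    (E : Type u) [CommRing E] [Algebra A E] [Module.Flat A E] [Algebra.EssFiniteType A E]
    [Algebra.FormallyUnramified A E]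
    (L : Type u) [CommRing L] [Algebra E L]
    [IsLocalization ((nonZeroDivisors A).map (algebraMap A E)) L] (x : E)
    (hx : x ∈ nonZeroDivisors E) : IsUnit (algebraMap E L x) := by
  classical
  set T := (nonZeroDivisors A).map (algebraMap A E) with hT
  by_contra hnu
  obtain ⟨𝔓, h𝔓max, hx𝔓⟩ := exists_max_ideal_of_mem_nonunits (mem_nonunits_iff.mpr hnu)
  haveI h𝔓 : 𝔓.IsPrime := h𝔓max.isPrime
  let P : Ideal E := 𝔓.comap (algebraMap E L)
  haveI hP : P.IsPrime := Ideal.IsPrime.comap _
  have hxP : x ∈ P := hx𝔓
  have hPT : Disjoint (T : Set E) (P : Set E) :=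
    (IsLocalization.disjoint_under_iff T L 𝔓).mpr h𝔓.ne_top
  let p : Ideal A := P.comap (algebraMap A E)
  haveI hp : p.IsPrime := Ideal.IsPrime.comap _
  have hpdis : Disjoint (p : Set A) (nonZeroDivisors A : Set A) := by
    rw [Set.disjoint_left]
    intro a hap haM
    exact Set.disjoint_left.mp hPT ⟨a, haM, rfl⟩ hap
  have hpmin : p ∈ minimalPrimes A := mem_minimalPrimes_of_disjoint_nonZeroDivisors hmin p hpdis
  -- `P` is a minimal prime
  obtain ⟨P', hP'min, hP'P⟩ := Ideal.exists_minimalPrimes_le (I := (⊥ : Ideal E)) (J := P) bot_le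
  haveI hP' : P'.IsPrime := hP'min.1.1
  have hunder : P'.under A = P.under A := by
    have h1 : P'.under A ≤ p := Ideal.comap_mono hP'P
    have h2 : p ≤ P'.under A := hpmin.2 ⟨Ideal.IsPrime.comap _, bot_le⟩ h1
    exact le_antisymm h1 h2
  have hPP' : P' = P := Algebra.QuasiFiniteAt.eq_of_le_of_under_eq hP'P hunder
  have hPmin : P ∈ minimalPrimes E := hPP' ▸ hP'min
  exact Set.disjoint_left.mp (Ideal.disjoint_nonZeroDivisors_of_mem_minimalPrimes hPmin) hxP hx

theorem isLocalization_fractionRing (hmin : (minimalPrimes A).Finite)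
    (E : Type u) [CommRing E] [Algebra A E] [Module.Flat A E] [Algebra.EssFiniteType A E]
    [Algebra.FormallyUnramified A E] :
    IsLocalization ((nonZeroDivisors A).map (algebraMap A E)) (FractionRing E) := by
  set T := (nonZeroDivisors A).map (algebraMap A E) with hT
  let L := Localization T
  have h1 : IsLocalization (nonZeroDivisors E) L :=
    IsLocalization.of_le (M := T) (S := L) (nonZeroDivisors E) (map_nonZeroDivisors_le_of_flat E)
      (fun r hr => isUnit_of_mem_nonZeroDivisors hmin E L r hr)
  let e : L ≃ₐ[E] FractionRing E := IsLocalization.algEquiv (nonZeroDivisors E) L (FractionRing E)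
  exact IsLocalization.isLocalization_of_algEquiv T e

set_option maxHeartbeats 1000000 in
theorem exists_finset_span (hmin : (minimalPrimes A).Finite)
    (E : Type u) [CommRing E] [Algebra A E] [Module.Flat A E] [Algebra.EssFiniteType A E]
    [Algebra.FormallyUnramified A E] :
    ∃ t : Finset (FractionRing E), ∀ x : FractionRing E, ∃ a ∈ nonZeroDivisors A,
        algebraMap A (FractionRing E) a * x ∈ Submodule.span A (t : Set (FractionRing E)) := by
  classical
  set T := (nonZeroDivisors A).map (algebraMap A E) with hT
  let K := FractionRing A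
  let F := FractionRing E
  haveI hlocF : IsLocalization T F := isLocalization_fractionRing hmin E
  have hle : nonZeroDivisors A ≤ T.comap (algebraMap A E) := fun a ha => ⟨a, ha, rfl⟩
  let ψ : K →+* F := IsLocalization.map F (algebraMap A E) hle
  have hψ : ∀ a : A, ψ (algebraMap A K a) = algebraMap E F (algebraMap A E a) :=
    fun a => IsLocalization.map_eq hle a
  letI algKF : Algebra K F := ψ.toAlgebra
  haveI towAKF : IsScalarTower A K F := IsScalarTower.of_algebraMap_eq (fun a => by
    rw [IsScalarTower.algebraMap_apply A E F]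
    exact (hψ a).symm)
  haveI : Algebra.FormallyUnramified K F :=
    Algebra.FormallyUnramified.localization_map (R := A) (S := E) (Rₘ := K) (Sₘ := F)
      (nonZeroDivisors A)
  haveI : Algebra.EssFiniteType E F := Algebra.EssFiniteType.of_isLocalization F T
  haveI : Algebra.EssFiniteType A F := Algebra.EssFiniteType.comp A E F
  haveI : Algebra.EssFiniteType K F := Algebra.EssFiniteType.of_comp A K F
  haveI : IsArtinianRing K := isArtinianRing_of_isFractionRing hmin K
  haveI : Module.Finite K F := Module.Finite.of_quasiFinite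
  obtain ⟨t, ht⟩ := (Module.Finite.fg_top (R := K) (M := F))
  refine ⟨t, fun x => ?_⟩
  have hx : x ∈ Submodule.span K (t : Set F) := by rw [ht]; trivial
  induction hx using Submodule.span_induction with
  | mem y hy =>
    refine ⟨1, one_mem _, ?_⟩
    rw [map_one, one_mul]
    exact Submodule.subset_span hy
  | zero =>
    refine ⟨1, one_mem _, ?_⟩
    rw [mul_zero]
    exact Submodule.zero_mem _
  | add y z _ _ hy hz =>
    obtain ⟨a, ha, hay⟩ := hy
    obtain ⟨b, hb, hbz⟩ := hz
    refine ⟨a * b, mul_mem ha hb, ?_⟩
    have h1 : algebraMap A F (a * b) * (y + z) =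
        b • (algebraMap A F a * y) + a • (algebraMap A F b * z) := by
      rw [Algebra.smul_def, Algebra.smul_def, map_mul]
      ring
    rw [h1]
    exact Submodule.add_mem _ (Submodule.smul_mem _ _ hay) (Submodule.smul_mem _ _ hbz)
  | smul k y _ hy =>
    obtain ⟨a, ha, hay⟩ := hy
    obtain ⟨b, s, rfl⟩ := IsLocalization.exists_mk'_eq (nonZeroDivisors A) k
    refine ⟨s.1 * a, mul_mem s.2 ha, ?_⟩
    have h2 : algebraMap A F s.1 * algebraMap K F (IsLocalization.mk' K b s) = algebraMap A F b := by
      rw [IsScalarTower.algebraMap_apply A K F, ← map_mul, mul_comm,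
        IsLocalization.mk'_spec, ← IsScalarTower.algebraMap_apply]
    have h1 : algebraMap A F (s.1 * a) * (IsLocalization.mk' K b s • y) =
        b • (algebraMap A F a * y) := by
      rw [Algebra.smul_def (IsLocalization.mk' K b s) y, Algebra.smul_def b, ← h2, map_mul]
      ring
    rw [h1]
    exact Submodule.smul_mem _ _ hay

end Frac

end Groth.Agent.Lead.EssEt

namespace Groth.Agent.Lead.EssEt

theorem S16448_main
    (A E : Type u) [CommRing A] [IsLocalRing A] [IsReduced A] (hmin : (minimalPrimes A).Finite)
    [CommRing E] [IsLocalRing E] [Algebra A E] [IsLocalHom (algebraMap A E)]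
    (hE : EGA4loc.IsEssentiallyEtale A E) :
    IsLocalization ((nonZeroDivisors A).map (algebraMap A E)) (FractionRing E) ∧
      ∃ t : Finset (FractionRing E), ∀ x : FractionRing E, ∃ a ∈ nonZeroDivisors A,
        algebraMap A (FractionRing E) a * x ∈ Submodule.span A (t : Set (FractionRing E)) := by
  obtain ⟨C, _, _, q, _, hCet, hq, ⟨e⟩⟩ := hE
  haveI : Module.Flat A (Localization.AtPrime q) := Module.Flat.trans A C (Localization.AtPrime q)
  haveI : Module.Flat A E := Module.Flat.of_linearEquiv e.toLinearEquiv
  haveI : Algebra.EssFiniteType C (Localization.AtPrime q) :=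
    Algebra.EssFiniteType.of_isLocalization _ q.primeCompl
  haveI : Algebra.EssFiniteType A (Localization.AtPrime q) :=
    Algebra.EssFiniteType.comp A C (Localization.AtPrime q)
  haveI : Algebra.EssFiniteType A E := (Algebra.EssFiniteType.iff_of_algEquiv e).mpr inferInstance
  haveI : Algebra.FormallyUnramified A E := Algebra.FormallyUnramified.of_equiv e.symm
  exact ⟨isLocalization_fractionRing hmin E, exists_finset_span hmin E⟩

end Groth.Agent.Lead.EssEt
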