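import Mathlib

/-!
# The idealization `R ⊕ M` of a module over a commutative ring (lead)

A thin wrapper around `TrivSqZeroExt` which hides the opposite-module structure.
-/

set_option autoImplicit false
set_option linter.style.haveILetI false
set_option linter.unusedSectionVars false
universe u v w

namespace Groth.Agent.Lead.MFib

open TensorProduct in
theorem flat_prod {R : Type*} [CommRing R] (M N : Type*) [AddCommGroup M] [Module R M]
    [AddCommGroup N] [Module R N] [Module.Flat R M] [Module.Flat R N] :
    Module.Flat R (M × N) := by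
  rw [Module.Flat.iff_rTensor_preserves_injective_linearMap]
  intro P Q _ _ _ _ u hu
  have h1 : Function.Injective (u.rTensor M) :=
    Module.Flat.rTensor_preserves_injective_linearMap u hu
  have h2 : Function.Injective (u.rTensor N) :=
    Module.Flat.rTensor_preserves_injective_linearMap u hu
  have hsq : (TensorProduct.prodRight R R Q M N).toLinearMap ∘ₗ (u.rTensor (M × N)) =
      (LinearMap.prodMap (u.rTensor M) (u.rTensor N)) ∘ₗ
        (TensorProduct.prodRight R R P M N).toLinearMap := by
    apply TensorProduct.ext'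
    intro p mn
    simp
  have h3 : Function.Injective ((TensorProduct.prodRight R R Q M N).toLinearMap ∘ₗ
      (u.rTensor (M × N))) := by
    rw [hsq]
    exact (Function.Injective.prodMap h1 h2).comp (TensorProduct.prodRight R R P M N).injective
  exact Function.Injective.of_comp h3

variable (R : Type u) (M : Type v) [CommRing R] [AddCommGroup M] [Module R M]

/-- the opposite module structure of a module over a commutative ring -/
@[reducible] noncomputable def opMod : Module Rᵐᵒᵖ M :=
  Module.compHom M ((RingEquiv.toOpposite R).symm : Rᵐᵒᵖ →+* R)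

theorem isCentral : letI := opMod R M; IsCentralScalar R M := by
  letI := opMod R M
  exact ⟨fun r m => rfl⟩

/-- the idealization of `M` -/
def Idl : Type max u v := TrivSqZeroExt R M

noncomputable instance : CommRing (Idl R M) :=
  letI := opMod R M
  haveI := isCentral R M
  inferInstanceAs (CommRing (TrivSqZeroExt R M))

namespace Idl

variable {R M}

/-- first component -/
def fst (x : Idl R M) : R := TrivSqZeroExt.fst x
/-- second component -/
def snd (x : Idl R M) : M := TrivSqZeroExt.snd x
/-- constructor -/
def mk (r : R) (m : M) : Idl R M := (r, m)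

@[ext] theorem ext {x y : Idl R M} (h1 : x.fst = y.fst) (h2 : x.snd = y.snd) : x = y :=
  TrivSqZeroExt.ext h1 h2

@[simp] theorem fst_mk (r : R) (m : M) : (mk r m).fst = r := rfl
@[simp] theorem snd_mk (r : R) (m : M) : (mk r m).snd = m := rfl
@[simp] theorem mk_fst_snd (x : Idl R M) : mk x.fst x.snd = x := rfl
@[simp] theorem fst_zero : (0 : Idl R M).fst = 0 := rfl
@[simp] theorem snd_zero : (0 : Idl R M).snd = 0 := rfl
@[simp] theorem fst_one : (1 : Idl R M).fst = 1 := rfl
@[simp] theorem snd_one : (1 : Idl R M).snd = 0 := rfl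
@[simp] theorem fst_add (x y : Idl R M) : (x + y).fst = x.fst + y.fst := rfl
@[simp] theorem snd_add (x y : Idl R M) : (x + y).snd = x.snd + y.snd := rfl
@[simp] theorem fst_neg (x : Idl R M) : (-x).fst = -x.fst := rfl
@[simp] theorem snd_neg (x : Idl R M) : (-x).snd = -x.snd := rfl
@[simp] theorem fst_sub (x y : Idl R M) : (x - y).fst = x.fst - y.fst := rfl
@[simp] theorem snd_sub (x y : Idl R M) : (x - y).snd = x.snd - y.snd := rfl
@[simp] theorem fst_mul (x y : Idl R M) : (x * y).fst = x.fst * y.fst := rfl
@[simp] theorem snd_mul (x y : Idl R M) : (x * y).snd = x.fst • y.snd + y.fst • x.snd := rfl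

variable (R M) in
/-- first projection as a ring hom -/
noncomputable def fstHom : Idl R M →+* R where
  toFun := fst
  map_one' := rfl
  map_mul' _ _ := rfl
  map_zero' := rfl
  map_add' _ _ := rfl

@[simp] theorem fstHom_apply (x : Idl R M) : fstHom R M x = x.fst := rfl

variable (R M) in
/-- inclusion of the ring -/
noncomputable def inl : R →+* Idl R M where
  toFun r := mk r 0
  map_one' := rfl
  map_mul' a b := by ext <;> simp
  map_zero' := rfl
  map_add' a b := by ext <;> simp

@[simp] theorem fst_inl (r : R) : (inl R M r).fst = r := rfl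
@[simp] theorem snd_inl (r : R) : (inl R M r).snd = 0 := rfl

variable (R M) in
/-- inclusion of the module -/
noncomputable def inr : M →+ Idl R M where
  toFun m := mk 0 m
  map_zero' := rfl
  map_add' a b := by ext <;> simp

@[simp] theorem fst_inr (m : M) : (inr R M m).fst = 0 := rfl
@[simp] theorem snd_inr (m : M) : (inr R M m).snd = m := rfl

theorem eq_inl_add_inr (x : Idl R M) : x = inl R M x.fst + inr R M x.snd := by
  ext <;> simp

theorem inl_mul (r : R) (x : Idl R M) : inl R M r * x = mk (r * x.fst) (r • x.snd) := by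
  ext <;> simp

theorem inr_mul_inr (m n : M) : inr R M m * inr R M n = 0 := by
  ext <;> simp

theorem fstHom_surjective : Function.Surjective (fstHom R M) := fun r => ⟨inl R M r, rfl⟩

theorem fstHom_comp_inl : (fstHom R M).comp (inl R M) = RingHom.id R := rfl

theorem inl_injective : Function.Injective (inl R M) := fun a b h => by
  have := congrArg fst h
  simpa using this

theorem mem_ker_fstHom {x : Idl R M} : x ∈ RingHom.ker (fstHom R M) ↔ x.fst = 0 := Iff.rfl

theorem sq_eq_zero_of_fst_eq_zero {x : Idl R M} (h : x.fst = 0) : x ^ 2 = 0 := by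
  ext <;> simp [pow_two, h]

theorem ker_fstHom_le_nilradical : RingHom.ker (fstHom R M) ≤ nilradical (Idl R M) := by
  intro x hx
  exact ⟨2, sq_eq_zero_of_fst_eq_zero hx⟩

theorem isUnit_iff {x : Idl R M} : IsUnit x ↔ IsUnit x.fst := by
  constructor
  · intro h
    exact h.map (fstHom R M)
  · intro h
    obtain ⟨u, hu⟩ := h
    have h1 : x * mk (↑u⁻¹ : R) (-((↑u⁻¹ : R) * (↑u⁻¹ : R)) • x.snd) = 1 := by
      ext
      · simp [← hu]
      · simp only [snd_mul, fst_mk, snd_mk, snd_one, ← hu]
        rw [smul_smul, ← add_smul]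
        have : (u : R) * -((↑u⁻¹ : R) * (↑u⁻¹ : R)) + (↑u⁻¹ : R) = 0 := by
          rw [mul_neg, ← mul_assoc, Units.mul_inv, one_mul, neg_add_cancel]
        rw [this, zero_smul]
    exact IsUnit.of_mul_eq_one _ h1

noncomputable instance : Algebra R (Idl R M) := (inl R M).toAlgebra

theorem algebraMap_eq : algebraMap R (Idl R M) = inl R M := rfl

theorem smul_def' (r : R) (x : Idl R M) : r • x = mk (r * x.fst) (r • x.snd) := by
  rw [Algebra.smul_def, algebraMap_eq, inl_mul]

@[simp] theorem fst_smul (r : R) (x : Idl R M) : (r • x).fst = r * x.fst := by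
  rw [smul_def']; rfl

@[simp] theorem snd_smul (r : R) (x : Idl R M) : (r • x).snd = r • x.snd := by
  rw [smul_def']; rfl

variable (R M) in
/-- the idealization is `R × M` as a module -/
noncomputable def prodEquiv : Idl R M ≃ₗ[R] R × M where
  toFun x := (x.fst, x.snd)
  invFun y := mk y.1 y.2
  left_inv _ := rfl
  right_inv _ := rfl
  map_add' _ _ := rfl
  map_smul' r x := by
    ext <;> simp

section Map

variable {R' : Type*} {M' : Type*} [CommRing R'] [AddCommGroup M'] [Module R' M']

/-- functoriality of the idealization along a semilinear map -/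
noncomputable def map (φ : R →+* R') (ℓ : M →+ M') (h : ∀ r m, ℓ (r • m) = φ r • ℓ m) :
    Idl R M →+* Idl R' M' where
  toFun x := mk (φ x.fst) (ℓ x.snd)
  map_one' := by ext <;> simp
  map_mul' x y := by ext <;> simp [h]
  map_zero' := by ext <;> simp
  map_add' x y := by ext <;> simp

@[simp] theorem fst_map (φ : R →+* R') (ℓ : M →+ M') (h : ∀ r m, ℓ (r • m) = φ r • ℓ m)
    (x : Idl R M) : (map φ ℓ h x).fst = φ x.fst := rfl

@[simp] theorem snd_map (φ : R →+* R') (ℓ : M →+ M') (h : ∀ r m, ℓ (r • m) = φ r • ℓ m)
    (x : Idl R M) : (map φ ℓ h x).snd = ℓ x.snd := rfl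

theorem map_comp_inl (φ : R →+* R') (ℓ : M →+ M') (h : ∀ r m, ℓ (r • m) = φ r • ℓ m) :
    (map φ ℓ h).comp (inl R M) = (inl R' M').comp φ := by
  ext r <;> simp

/-- a semilinear isomorphism induces an isomorphism of idealizations -/
noncomputable def mapEquiv (σ : R ≃+* R') (e : M ≃+ M') (h : ∀ r m, e (r • m) = σ r • e m) :
    Idl R M ≃+* Idl R' M' :=
  RingEquiv.ofBijective (map (σ : R →+* R') (e : M →+ M') h) (by
    constructor
    · intro x y hxy
      have h1 : σ x.fst = σ y.fst := congrArg fst hxy
      have h2 : e x.snd = e y.snd := congrArg snd hxy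
      exact ext (σ.injective h1) (e.injective h2)
    · intro z
      refine ⟨mk (σ.symm z.fst) (e.symm z.snd), ?_⟩
      ext
      · show σ (σ.symm z.fst) = z.fst
        simp
      · show e (e.symm z.snd) = z.snd
        simp)

end Map

section Loc

variable (S : Submonoid R) (L : Type*) [CommRing L] [Algebra R L] [IsLocalization S L]
  (N : Type*) [AddCommGroup N] [Module R N] [Module L N] [IsScalarTower R L N]
  (ℓ : M →ₗ[R] N) [IsLocalizedModule S ℓ]

/-- the localization map of idealizations -/
noncomputable def locMap : Idl R M →+* Idl L N :=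
  map (algebraMap R L) ℓ.toAddMonoidHom (fun r m => by
    show ℓ (r • m) = algebraMap R L r • ℓ m
    rw [ℓ.map_smul, algebraMap_smul])

include S in
theorem isLocalization_locMap :
    letI := (locMap L N ℓ).toAlgebra
    IsLocalization (S.comap (fstHom R M)) (Idl L N) := by
  letI := (locMap L N ℓ).toAlgebra
  have halg : ∀ x : Idl R M, algebraMap (Idl R M) (Idl L N) x = locMap L N ℓ x := fun _ => rfl
  rw [isLocalization_iff]
  refine ⟨?_, ?_, ?_⟩
  · rintro ⟨y, hy⟩
    rw [halg, isUnit_iff]
    exact IsLocalization.map_units L (⟨y.fst, hy⟩ : S)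
  · intro z
    obtain ⟨⟨a, s⟩, has⟩ := IsLocalization.surj S z.fst
    obtain ⟨⟨m, t⟩, hmt⟩ := IsLocalizedModule.surj S ℓ z.snd
    refine ⟨(mk ((t : R) * a) ((s : R) • m), ⟨inl R M ((s : R) * (t : R)), ?_⟩), ?_⟩
    · show (inl R M ((s : R) * (t : R))).fst ∈ S
      exact S.mul_mem s.2 t.2
    · rw [halg, halg]
      ext
      · simp only [fst_mul, locMap, fst_map, fst_inl, fst_mk, map_mul]
        rw [← mul_assoc, has]
        ring
      · simp only [Submonoid.smul_def] at hmt
        show (z * locMap L N ℓ (inl R M ((s : R) * (t : R)))).snd =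
          (locMap L N ℓ (mk ((t : R) * a) ((s : R) • m))).snd
        rw [snd_mul]
        show z.fst • ℓ (0 : M) + algebraMap R L ((s : R) * (t : R)) • z.snd = ℓ ((s : R) • m)
        rw [map_zero, smul_zero, zero_add, algebraMap_smul, mul_smul, hmt, ℓ.map_smul]
  · intro x y hxy
    rw [halg, halg] at hxy
    have h1 : algebraMap R L x.fst = algebraMap R L y.fst := congrArg fst hxy
    have h2 : ℓ x.snd = ℓ y.snd := congrArg snd hxy
    obtain ⟨c, hc⟩ := IsLocalization.exists_of_eq (M := S) h1
    obtain ⟨d, hd⟩ := IsLocalizedModule.exists_of_eq (S := S) h2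
    simp only [Submonoid.smul_def] at hd
    refine ⟨⟨inl R M ((c : R) * (d : R)), ?_⟩, ?_⟩
    · show (inl R M ((c : R) * (d : R))).fst ∈ S
      exact S.mul_mem c.2 d.2
    · show inl R M ((c : R) * (d : R)) * x = inl R M ((c : R) * (d : R)) * y
      rw [inl_mul, inl_mul]
      ext
      · simp only [fst_mk]
        rw [mul_comm (c : R), mul_assoc, hc, mul_assoc]
      · simp only [snd_mk]
        rw [mul_smul, hd, mul_smul]

end Loc

section Quot

variable (I : Ideal R)

variable (M) in
/-- the quotient map of idealizations -/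
noncomputable def quotMap : Idl R M →+* Idl (R ⧸ I) (M ⧸ I • (⊤ : Submodule R M)) :=
  map (Ideal.Quotient.mk I) (Submodule.mkQ (I • (⊤ : Submodule R M))).toAddMonoidHom
    (fun _ _ => rfl)

theorem quotMap_surjective : Function.Surjective (quotMap M I) := by
  intro z
  obtain ⟨r, hr⟩ := Ideal.Quotient.mk_surjective z.fst
  obtain ⟨m, hm⟩ := Submodule.mkQ_surjective (I • (⊤ : Submodule R M)) z.snd
  refine ⟨mk r m, ?_⟩
  ext
  · exact hr
  · exact hm

theorem inl_mul_inr (r : R) (m : M) : inl R M r * inr R M m = inr R M (r • m) := by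
  ext <;> simp

theorem ker_quotMap : RingHom.ker (quotMap M I) = I.map (inl R M) := by
  apply le_antisymm
  · intro x hx
    rw [RingHom.mem_ker] at hx
    have h1 : Ideal.Quotient.mk I x.fst = 0 := congrArg fst hx
    have h2 : Submodule.mkQ (I • (⊤ : Submodule R M)) x.snd = 0 := congrArg snd hx
    rw [Ideal.Quotient.eq_zero_iff_mem] at h1
    rw [Submodule.mkQ_apply, Submodule.Quotient.mk_eq_zero] at h2
    rw [eq_inl_add_inr x]
    refine Ideal.add_mem _ (Ideal.mem_map_of_mem _ h1) ?_
    refine Submodule.smul_induction_on (p := fun m => inr R M m ∈ I.map (inl R M)) h2 ?_ ?_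
    · intro r hr m _
      rw [← inl_mul_inr]
      exact Ideal.mul_mem_right _ _ (Ideal.mem_map_of_mem _ hr)
    · intro a b ha hb
      rw [map_add]
      exact Ideal.add_mem _ ha hb
  · rw [Ideal.map_le_iff_le_comap]
    intro i hi
    rw [Ideal.mem_comap, RingHom.mem_ker]
    ext
    · show Ideal.Quotient.mk I i = 0
      exact Ideal.Quotient.eq_zero_iff_mem.mpr hi
    · show Submodule.mkQ (I • (⊤ : Submodule R M)) 0 = 0
      exact map_zero _

variable (M) in
/-- the quotient of the idealization by an extended ideal -/
noncomputable def quotEquiv :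
    (Idl R M ⧸ I.map (inl R M)) ≃+* Idl (R ⧸ I) (M ⧸ I • (⊤ : Submodule R M)) :=
  (Ideal.quotEquivOfEq (ker_quotMap I).symm).trans
    (RingHom.quotientKerEquivOfSurjective (quotMap_surjective I))

end Quot

section Fin

instance finite_idl [Module.Finite R M] : Module.Finite R (Idl R M) :=
  Module.Finite.equiv (prodEquiv R M).symm

instance finitePresentation_idl [Module.FinitePresentation R M] :
    Module.FinitePresentation R (Idl R M) :=
  Module.FinitePresentation.of_equiv (prodEquiv R M).symm

instance isNoetherianRing_idl [IsNoetherianRing R] [Module.Finite R M] :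
    IsNoetherianRing (Idl R M) :=
  IsNoetherianRing.of_finite R (Idl R M)

instance nontrivial_idl [Nontrivial R] : Nontrivial (Idl R M) :=
  (inl_injective (R := R) (M := M)).nontrivial

instance isLocalRing_idl [IsLocalRing R] : IsLocalRing (Idl R M) := by
  apply IsLocalRing.of_nonunits_add
  intro a b ha hb
  rw [mem_nonunits_iff, isUnit_iff] at ha hb ⊢
  rw [fst_add]
  exact IsLocalRing.nonunits_add ha hb

instance isLocalHom_inl : IsLocalHom (inl R M) where
  map_nonunit a ha := by
    rw [isUnit_iff] at ha
    exact ha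

instance isLocalHom_algebraMap : IsLocalHom (algebraMap R (Idl R M)) := isLocalHom_inl

variable (R M) in
theorem ringKrullDim_idl : ringKrullDim (Idl R M) = ringKrullDim R := by
  have e : (Idl R M ⧸ RingHom.ker (fstHom R M)) ≃+* R :=
    RingHom.quotientKerEquivOfSurjective fstHom_surjective
  rw [← ringKrullDim_eq_of_ringEquiv e, ringKrullDim_quotient]
  have h1 : PrimeSpectrum.zeroLocus ((RingHom.ker (fstHom R M) : Ideal (Idl R M)) : Set (Idl R M)) =
      Set.univ := by
    rw [Set.eq_univ_iff_forall]
    intro P
    rw [PrimeSpectrum.mem_zeroLocus]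
    exact fun x hx => nilradical_le_prime P.asIdeal (ker_fstHom_le_nilradical hx)
  rw [h1]
  exact Order.krullDim_eq_of_orderIso (OrderIso.Set.univ).symm

end Fin

section Over

variable (A : Type w) [CommRing A] [Algebra A R]

variable (R M) in
/-- the idealization as an algebra over a base of `R` -/
@[reducible] noncomputable def algOver : Algebra A (Idl R M) :=
  ((inl R M).comp (algebraMap A R)).toAlgebra

theorem isScalarTower_over : letI := algOver R M A; IsScalarTower A R (Idl R M) := by
  letI := algOver R M A
  exact IsScalarTower.of_algebraMap_eq fun _ => rfl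

theorem finitePresentation_over [Algebra.FinitePresentation A R] [Module.FinitePresentation R M] :
    letI := algOver R M A; Algebra.FinitePresentation A (Idl R M) := by
  letI := algOver R M A
  haveI := isScalarTower_over (R := R) (M := M) A
  exact Algebra.FinitePresentation.trans A R (Idl R M)

theorem flat_over [Module A M] [IsScalarTower A R M] [Module.Flat A R] [Module.Flat A M] :
    letI := algOver R M A; Module.Flat A (Idl R M) := by
  letI := algOver R M A
  haveI := isScalarTower_over (R := R) (M := M) A
  let e : Idl R M ≃ₗ[A] R × M := (prodEquiv R M).restrictScalars A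
  haveI : Module.Flat A (R × M) := flat_prod R M
  exact Module.Flat.of_linearEquiv e

end Over

end Idl

end Groth.Agent.Lead.MFib
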