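import Mathlib
import Groth.Prelude
import Groth.Agent.Lib.Lead.MFib1
import Groth.Agent.Lib.Helper8.Depth27

/-!
# Depth of the idealization of a module over a local ring (lead)
-/

set_option autoImplicit false
set_option linter.style.haveILetI false
set_option linter.unusedSectionVars false
universe u

namespace Groth.Agent.Lead.MFib

open LocCoh IsLocalRing Groth.Agent.Helper8.Depth

theorem enat_aux (D a b : ℕ∞) (h1 : min D (b + 1) ≤ a) (h2 : min D (a + 1) ≤ b) :
    D ≤ min a b := by
  induction a using ENat.recTopCoe with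
  | top =>
    induction b using ENat.recTopCoe with
    | top => simp
    | coe b =>
      simp only [top_add, le_top, inf_of_le_left] at h2
      simpa using h2
  | coe a =>
    induction b using ENat.recTopCoe with
    | top =>
      simp only [top_add, le_top, inf_of_le_left] at h1
      simpa using h1
    | coe b =>
      induction D using ENat.recTopCoe with
      | top =>
        simp only [le_top, inf_of_le_right] at h1 h2
        exfalso
        have h1' : b + 1 ≤ a := by exact_mod_cast h1
        have h2' : a + 1 ≤ b := by exact_mod_cast h2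
        omega
      | coe D =>
        rw [min_le_iff] at h1 h2
        rw [le_min_iff]
        have h1' : D ≤ a ∨ b + 1 ≤ a := by exact_mod_cast h1
        have h2' : D ≤ b ∨ a + 1 ≤ b := by exact_mod_cast h2
        have : D ≤ a ∧ D ≤ b := by omega
        exact_mod_cast this

section Prod

variable (Λ : Type u) [CommRing Λ] [IsNoetherianRing Λ] (I : Ideal Λ)
  (N₁ N₂ : Type u) [AddCommGroup N₁] [Module Λ N₁] [Module.Finite Λ N₁]
  [AddCommGroup N₂] [Module Λ N₂] [Module.Finite Λ N₂]

theorem idealDepth_prod : idealDepth I (N₁ × N₂) = min (idealDepth I N₁) (idealDepth I N₂) := by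
  have e1 : Function.Exact (LinearMap.inl Λ N₁ N₂) (LinearMap.snd Λ N₁ N₂) := by
    intro x
    constructor
    · intro hx
      exact ⟨x.1, Prod.ext rfl (by simpa using hx.symm)⟩
    · rintro ⟨y, rfl⟩
      rfl
  have e2 : Function.Exact (LinearMap.inr Λ N₁ N₂) (LinearMap.fst Λ N₁ N₂) := by
    intro x
    constructor
    · intro hx
      exact ⟨x.2, Prod.ext (by simpa using hx.symm) rfl⟩
    · rintro ⟨y, rfl⟩
      rfl
  have hm := idealDepth_mid_ge I (LinearMap.inl Λ N₁ N₂) (LinearMap.snd Λ N₁ N₂)
    LinearMap.inl_injective LinearMap.snd_surjective e1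
  have hl1 := idealDepth_left_ge I (LinearMap.inl Λ N₁ N₂) (LinearMap.snd Λ N₁ N₂)
    LinearMap.inl_injective LinearMap.snd_surjective e1
  have hl2 := idealDepth_left_ge I (LinearMap.inr Λ N₁ N₂) (LinearMap.fst Λ N₁ N₂)
    LinearMap.inr_injective LinearMap.fst_surjective e2
  exact le_antisymm (enat_aux _ _ _ hl1 hl2) hm

end Prod

section IdlDepth

variable (Λ : Type u) [CommRing Λ] [IsLocalRing Λ] [IsNoetherianRing Λ]
  (N : Type u) [AddCommGroup N] [Module Λ N] [Module.Finite Λ N]

theorem depth_idl :
    depth (Idl Λ N) (Idl Λ N) = min (depth Λ Λ) (depth Λ N) := by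
  have h1 : depth Λ (Idl Λ N) = depth (Idl Λ N) (Idl Λ N) := depth_eq_of_tower Λ (Idl Λ N) (Idl Λ N)
  rw [← h1]
  unfold depth
  rw [idealDepth_congr (Idl.prodEquiv Λ N), idealDepth_prod]

end IdlDepth

section FibLoc

universe v

variable (A : Type u) (P : Type v) [CommRing A] [CommRing P] [Algebra A P]
  (M : Type v) [AddCommGroup M] [Module P M] (q₀ : Ideal P) [q₀.IsPrime]

open EGA4

theorem comap_fstHom_comap :
    letI := Idl.algOver P M A
    (q₀.comap (Idl.fstHom P M)).comap (algebraMap A (Idl P M)) = q₀.comap (algebraMap A P) := by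
  letI := Idl.algOver P M A
  ext a
  rfl

set_option maxHeartbeats 1000000 in
/-- the fibre local ring of the idealization is the idealization of the fibre local module -/
theorem fibLocRing_idl_equiv :
    letI := Idl.algOver P M A
    Nonempty (FibLocRing A (Idl P M) (q₀.comap (Idl.fstHom P M)) ≃+*
      Idl (FibLocRing A P q₀) (FibLocMod A P q₀ M)) := by
  letI algAC := Idl.algOver P M A
  set q' := q₀.comap (Idl.fstHom P M) with hq'
  set L := Localization.AtPrime q₀ with hL
  set N := LocalizedModule q₀.primeCompl M with hN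
  let ℓ : M →ₗ[P] N := LocalizedModule.mkLinearMap q₀.primeCompl M
  letI algCE : Algebra (Idl P M) (Idl L N) := (Idl.locMap L N ℓ).toAlgebra
  haveI hloc : IsLocalization.AtPrime (Idl L N) q' := by
    have h := Idl.isLocalization_locMap q₀.primeCompl L N ℓ
    have hS : q'.primeCompl = q₀.primeCompl.comap (Idl.fstHom P M) := by
      ext x
      rfl
    show IsLocalization q'.primeCompl (Idl L N)
    rw [hS]
    exact h
  let e₁ : Localization.AtPrime q' ≃ₐ[Idl P M] Idl L N :=
    IsLocalization.algEquiv q'.primeCompl (Localization.AtPrime q') (Idl L N)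
  set p := q₀.comap (algebraMap A P) with hp
  have hpq : q'.comap (algebraMap A (Idl P M)) = p := comap_fstHom_comap A P M q₀
  set J := p.map (algebraMap A L) with hJ
  have hmap : ((q'.comap (algebraMap A (Idl P M))).map
      (algebraMap A (Localization.AtPrime q'))).map (e₁.toRingEquiv : Localization.AtPrime q' →+* Idl L N) =
      J.map (Idl.inl L N) := by
    rw [hpq, hJ, Ideal.map_map, Ideal.map_map]
    congr 1
    refine RingHom.ext fun a => ?_
    show e₁ (algebraMap A (Localization.AtPrime q') a) = Idl.inl L N (algebraMap A L a)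
    rw [IsScalarTower.algebraMap_apply A (Idl P M) (Localization.AtPrime q'), e₁.commutes]
    show Idl.locMap L N ℓ (Idl.inl P M (algebraMap A P a)) = _
    ext
    · show algebraMap P L (algebraMap A P a) = algebraMap A L a
      rw [← IsScalarTower.algebraMap_apply]
    · show ℓ 0 = 0
      exact map_zero _
  let e₂ : FibLocRing A (Idl P M) q' ≃+* (Idl L N ⧸ J.map (Idl.inl L N)) :=
    Ideal.quotientEquiv _ _ e₁.toRingEquiv hmap.symm
  exact ⟨e₂.trans (Idl.quotEquiv N J)⟩

theorem map_comap_le_maximalIdeal :
    (q₀.comap (algebraMap A P)).map (algebraMap A (Localization.AtPrime q₀)) ≤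
      maximalIdeal (Localization.AtPrime q₀) := by
  rw [Ideal.map_le_iff_le_comap]
  intro a ha
  rw [Ideal.mem_comap, IsScalarTower.algebraMap_apply A P (Localization.AtPrime q₀),
    ← Ideal.mem_comap]
  have := IsLocalization.AtPrime.comap_maximalIdeal (Localization.AtPrime q₀) q₀
  rw [Ideal.under_def] at this
  rw [this]
  exact ha

instance isLocalRing_fibLocRing : IsLocalRing (FibLocRing A P q₀) := by
  haveI : Nontrivial (FibLocRing A P q₀) := by
    apply Ideal.Quotient.nontrivial_iff.mpr
    intro h
    have := map_comap_le_maximalIdeal A P q₀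
    rw [h] at this
    exact (IsLocalRing.maximalIdeal.isMaximal _).ne_top (top_le_iff.mp this)
  exact IsLocalRing.of_surjective' (Ideal.Quotient.mk _) Ideal.Quotient.mk_surjective

instance finite_fibLocMod [Module.Finite P M] :
    Module.Finite (FibLocRing A P q₀) (FibLocMod A P q₀ M) := by
  haveI : Module.Finite (Localization.AtPrime q₀) (LocalizedModule q₀.primeCompl M) :=
    Module.Finite.of_isLocalizedModule q₀.primeCompl
      (LocalizedModule.mkLinearMap q₀.primeCompl M)
  haveI : Module.Finite (Localization.AtPrime q₀) (FibLocMod A P q₀ M) :=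
    Module.Finite.of_surjective (Submodule.mkQ _) (Submodule.mkQ_surjective _)
  exact Module.Finite.of_restrictScalars_finite (Localization.AtPrime q₀) _ _

end FibLoc

section Main

variable (A P : Type u) [CommRing A] [CommRing P] [Algebra A P]
  (M : Type u) [AddCommGroup M] [Module P M] [Module.Finite P M] (q₀ : Ideal P) [q₀.IsPrime]
  [IsNoetherianRing (EGA4.FibLocRing A P q₀)]

open EGA4

theorem ringKrullDim_fibLocRing_idl :
    letI := Idl.algOver P M A
    ringKrullDim (FibLocRing A (Idl P M) (q₀.comap (Idl.fstHom P M))) =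
      ringKrullDim (FibLocRing A P q₀) := by
  letI := Idl.algOver P M A
  obtain ⟨e⟩ := fibLocRing_idl_equiv A P M q₀
  rw [ringKrullDim_eq_of_ringEquiv e, Idl.ringKrullDim_idl]

theorem depth_fibLocRing_idl :
    letI := Idl.algOver P M A
    depth (FibLocRing A (Idl P M) (q₀.comap (Idl.fstHom P M)))
        (FibLocRing A (Idl P M) (q₀.comap (Idl.fstHom P M))) =
      min (depth (FibLocRing A P q₀) (FibLocRing A P q₀))
        (depth (FibLocRing A P q₀) (FibLocMod A P q₀ M)) := by
  letI := Idl.algOver P M A
  obtain ⟨e⟩ := fibLocRing_idl_equiv A P M q₀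
  rw [← depth_idl]
  exact (depth_eq_of_semilinear e e.toAddEquiv (fun r x => map_mul e r x)).symm

end Main

end Groth.Agent.Lead.MFib
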