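import Mathlib
import Groth.Prelude
import Groth.Agent.Lib.Lead.MFib2
import Groth.Agent.Lib.Helper8.Loc1

/-!
# Semilinear transport lemmas and fibre local modules under a surjective change of algebra (lead)
-/

set_option autoImplicit false
set_option linter.style.haveILetI false
set_option linter.unusedSectionVars false
universe u

namespace Groth.Agent.Lead.MFib

open LocCoh IsLocalRing Groth.Agent.Helper8.Depth

section EPI

variable {B T₁ T₂ M₁ M₂ : Type*} [CommRing B] [CommRing T₁] [CommRing T₂] [Algebra B T₁]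
  [Algebra B T₂] [AddCommGroup M₁] [Module B M₁] [Module T₁ M₁] [IsScalarTower B T₁ M₁]
  [AddCommGroup M₂] [Module B M₂] [Module T₂ M₂] [IsScalarTower B T₂ M₂]

/-- a linear map over the base is semilinear over an algebra all of whose elements are fractions -/
theorem semilinear_of_linear
    (hT : ∀ t : T₁, ∃ b s : B, IsUnit (algebraMap B T₁ s) ∧ t * algebraMap B T₁ s = algebraMap B T₁ b)
    (σ : T₁ →ₐ[B] T₂) (e : M₁ →ₗ[B] M₂) (t : T₁) (m : M₁) : e (t • m) = σ t • e m := by
  obtain ⟨b, s, hs, hts⟩ := hT t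
  have hs2 : IsUnit (algebraMap B T₂ s) := by
    have := hs.map σ
    rwa [AlgHom.commutes] at this
  apply hs2.smul_left_cancel.mp
  have h1 : algebraMap B T₂ s • e (t • m) = b • e m := by
    rw [algebraMap_smul, ← e.map_smul, ← algebraMap_smul T₁ s (t • m), smul_smul,
      mul_comm, hts, algebraMap_smul, e.map_smul]
  have h2 : algebraMap B T₂ s • (σ t • e m) = b • e m := by
    rw [smul_smul, ← σ.commutes s, ← map_mul, mul_comm, hts, σ.commutes, algebraMap_smul]
  rw [h1, h2]

end EPI

section Fracs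

variable {B L T : Type*} [CommRing B] [CommRing L] [CommRing T] [Algebra B L]
  (S : Submonoid B) [IsLocalization S L]

include S in
theorem fracs_of_loc_surj (g : L →+* T) (hg : Function.Surjective g) (t : T) :
    ∃ b s : B, IsUnit (g (algebraMap B L s)) ∧ t * g (algebraMap B L s) = g (algebraMap B L b) := by
  obtain ⟨l, rfl⟩ := hg t
  obtain ⟨⟨b, s⟩, hbs⟩ := IsLocalization.surj S l
  refine ⟨b, s, (IsLocalization.map_units L s).map g, ?_⟩
  rw [← map_mul, hbs]

end Fracs

section QE

variable {R₁ R₂ : Type*} [CommRing R₁] [CommRing R₂] (ρ : R₁ →+* R₂) (hρ : Function.Surjective ρ)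
  {M₁ M₂ : Type*} [AddCommGroup M₁] [Module R₁ M₁] [AddCommGroup M₂] [Module R₂ M₂]
  (e : M₁ ≃+ M₂) (he : ∀ (r : R₁) (x : M₁), e (r • x) = ρ r • e x) (I : Ideal R₁)

include he in
theorem map_mem_smul_top {x : M₁} (hx : x ∈ I • (⊤ : Submodule R₁ M₁)) :
    e x ∈ (I.map ρ) • (⊤ : Submodule R₂ M₂) := by
  refine Submodule.smul_induction_on (p := fun x => e x ∈ (I.map ρ) • (⊤ : Submodule R₂ M₂)) hx ?_ ?_
  · intro r hr m _
    rw [he]
    exact Submodule.smul_mem_smul (Ideal.mem_map_of_mem _ hr) Submodule.mem_top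
  · intro a b ha hb
    rw [map_add]
    exact Submodule.add_mem _ ha hb

include he hρ in
theorem symm_mem_smul_top {y : M₂} (hy : y ∈ (I.map ρ) • (⊤ : Submodule R₂ M₂)) :
    e.symm y ∈ I • (⊤ : Submodule R₁ M₁) := by
  refine Submodule.smul_induction_on (p := fun y => e.symm y ∈ I • (⊤ : Submodule R₁ M₁)) hy ?_ ?_
  · intro r hr m _
    obtain ⟨a, ha, rfl⟩ := (Ideal.mem_map_iff_of_surjective ρ hρ).mp hr
    have h1 : e.symm (ρ a • m) = a • e.symm m := by
      apply e.injective
      rw [he, AddEquiv.apply_symm_apply, AddEquiv.apply_symm_apply]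
    rw [h1]
    exact Submodule.smul_mem_smul ha Submodule.mem_top
  · intro a b ha hb
    rw [map_add]
    exact Submodule.add_mem _ ha hb

/-- the induced isomorphism on the quotients by `I M₁` and `ρ(I) M₂` -/
noncomputable def quotAddEquiv :
    (M₁ ⧸ (I • ⊤ : Submodule R₁ M₁)) ≃+ (M₂ ⧸ ((I.map ρ) • ⊤ : Submodule R₂ M₂)) :=
  QuotientAddGroup.congr (I • ⊤ : Submodule R₁ M₁).toAddSubgroup
    ((I.map ρ) • ⊤ : Submodule R₂ M₂).toAddSubgroup e (by
      ext y
      constructor
      · rintro ⟨x, hx, rfl⟩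
        exact map_mem_smul_top ρ e he I hx
      · intro hy
        exact ⟨e.symm y, symm_mem_smul_top ρ hρ e he I hy, e.apply_symm_apply y⟩)

theorem quotAddEquiv_mk (x : M₁) :
    quotAddEquiv ρ hρ e he I (Submodule.Quotient.mk x) = Submodule.Quotient.mk (e x) := rfl

theorem quotAddEquiv_smul (r : R₁ ⧸ I) (x : M₁ ⧸ (I • ⊤ : Submodule R₁ M₁)) :
    quotAddEquiv ρ hρ e he I (r • x) =
      Ideal.quotientMap (I.map ρ) ρ Ideal.le_comap_map r • quotAddEquiv ρ hρ e he I x := by
  obtain ⟨r, rfl⟩ := Ideal.Quotient.mk_surjective r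
  obtain ⟨x, rfl⟩ := Submodule.Quotient.mk_surjective _ x
  rw [Module.Quotient.mk_smul_mk, quotAddEquiv_mk, quotAddEquiv_mk, Ideal.quotientMap_mk,
    Module.Quotient.mk_smul_mk, he]

/-- variant of `quotAddEquiv` with a prescribed target ideal -/
noncomputable def quotAddEquiv' (I₂ : Ideal R₂) (hI : I.map ρ = I₂) :
    (M₁ ⧸ (I • ⊤ : Submodule R₁ M₁)) ≃+ (M₂ ⧸ (I₂ • ⊤ : Submodule R₂ M₂)) := by
  subst hI
  exact quotAddEquiv ρ hρ e he I

theorem quotAddEquiv'_smul (I₂ : Ideal R₂) (hI : I.map ρ = I₂) (r : R₁ ⧸ I)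
    (x : M₁ ⧸ (I • ⊤ : Submodule R₁ M₁)) :
    quotAddEquiv' ρ hρ e he I I₂ hI (r • x) =
      Ideal.quotientMap I₂ ρ (hI ▸ Ideal.le_comap_map) r • quotAddEquiv' ρ hρ e he I I₂ hI x := by
  subst hI
  exact quotAddEquiv_smul ρ hρ e he I r x

end QE

section DS

variable {T₁ T₂ : Type u} [CommRing T₁] [CommRing T₂] [IsLocalRing T₁] [IsLocalRing T₂]
  [IsNoetherianRing T₁] [IsNoetherianRing T₂] (ρ : T₁ →+* T₂) (hρ : Function.Surjective ρ)
  {M₁ M₂ : Type u} [AddCommGroup M₁] [Module T₁ M₁] [AddCommGroup M₂] [Module T₂ M₂]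
  [Module.Finite T₁ M₁] (e : M₁ ≃+ M₂) (he : ∀ (r : T₁) (x : M₁), e (r • x) = ρ r • e x)

include hρ he in
/-- depth is invariant under a bijection semilinear along a surjection of local rings -/
theorem depth_eq_of_surjective_semilinear : depth T₂ M₂ = depth T₁ M₁ := by
  letI alg : Algebra T₁ T₂ := ρ.toAlgebra
  letI mod : Module T₁ M₂ := Module.compHom M₂ ρ
  haveI : IsScalarTower T₁ T₂ M₂ := IsScalarTower.of_compHom _ _ _
  haveI : IsLocalHom (algebraMap T₁ T₂) := IsLocalHom.of_surjective ρ hρ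
  let e' : M₁ ≃ₗ[T₁] M₂ := { e with map_smul' := fun r x => he r x }
  haveI : Module.Finite T₁ M₂ := Module.Finite.equiv e'
  rw [← depth_eq_of_tower T₁ T₂ M₂]
  unfold depth
  exact (idealDepth_congr e').symm

end DS

section StageQuot

variable {O R' : Type u} [CommRing O] [CommRing R'] (γ : O →+* R') (hγ : Function.Surjective γ)
  (N : Type u) [AddCommGroup N] [Module O N] (M' : Type u) [AddCommGroup M'] [Module R' M']

open TensorProduct in
set_option maxHeartbeats 1000000 in
theorem exists_quot_equiv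
    (e' : letI := γ.toAlgebra; M' ≃ₗ[R'] R' ⊗[O] N) :
    ∃ (e : (N ⧸ (RingHom.ker γ • ⊤ : Submodule O N)) ≃+ M'),
      ∀ (r : O ⧸ RingHom.ker γ) (x : N ⧸ (RingHom.ker γ • ⊤ : Submodule O N)),
        e (r • x) = RingHom.quotientKerEquivOfSurjective hγ r • e x := by
  letI algOR : Algebra O R' := γ.toAlgebra
  letI modOM : Module O M' := Module.compHom M' γ
  haveI : IsScalarTower O R' M' := IsScalarTower.of_algebraMap_smul fun _ _ => rfl
  set K := RingHom.ker γ with hK
  let σK : (O ⧸ K) ≃+* R' := RingHom.quotientKerEquivOfSurjective hγ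
  have hσK : ∀ o : O, σK (Ideal.Quotient.mk K o) = γ o := fun o =>
    RingHom.quotientKerEquivOfSurjective_apply_mk hγ o
  let σalg : (O ⧸ K) →ₐ[O] R' := { σK.toRingHom with commutes' := fun o => hσK o }
  let σlin : (O ⧸ K) ≃ₗ[O] R' :=
    { σK.toAddEquiv with
      map_smul' := fun o x => by
        show σK (o • x) = o • σK x
        rw [Algebra.smul_def, map_mul, Algebra.smul_def]
        exact congrArg (· * σK x) (hσK o) }
  let E : (N ⧸ (K • ⊤ : Submodule O N)) ≃ₗ[O] M' :=
    (TensorProduct.quotTensorEquivQuotSMul N K).symm ≪≫ₗ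
      TensorProduct.congr σlin (LinearEquiv.refl O N) ≪≫ₗ (e'.symm.restrictScalars O)
  haveI : IsScalarTower O (O ⧸ K) (N ⧸ (K • ⊤ : Submodule O N)) :=
    IsScalarTower.of_algebraMap_smul fun o x => by
      obtain ⟨n, rfl⟩ := Submodule.Quotient.mk_surjective _ x
      rfl
  have hfr : ∀ t : O ⧸ K, ∃ b s : O, IsUnit (algebraMap O (O ⧸ K) s) ∧
      t * algebraMap O (O ⧸ K) s = algebraMap O (O ⧸ K) b := by
    intro t
    obtain ⟨o, rfl⟩ := Ideal.Quotient.mk_surjective t
    exact ⟨o, 1, by simp, by simp⟩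
  refine ⟨E.toAddEquiv, fun r x => ?_⟩
  exact semilinear_of_linear hfr σalg E.toLinearMap r x

end StageQuot

section Bridge

variable (A B : Type u) [CommRing A] [CommRing B] [Algebra A B] (q : Ideal B) [q.IsPrime]
  (M : Type u) [AddCommGroup M] [Module B M]
  (O : Type u) [CommRing O] [Algebra B O] [IsLocalization.AtPrime O q] [Algebra A O]
  [IsScalarTower A B O]
  (N : Type u) [AddCommGroup N] [Module O N] [Module B N] [IsScalarTower B O N]
  (ℓ : M →ₗ[B] N) [IsLocalizedModule q.primeCompl ℓ]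
  {R' : Type u} [CommRing R'] (γ : O →+* R') (hγ : Function.Surjective γ)
  (hker : RingHom.ker γ = (q.comap (algebraMap A B)).map (algebraMap A O))
  (M' : Type u) [AddCommGroup M'] [Module R' M']

open EGA4 TensorProduct

set_option maxHeartbeats 1000000 in
include ℓ hker hγ in
/-- **abstract bridge**: a local ring `O` which is a localization of `B` at `q`, with a surjection
`γ : O → R'` whose kernel is generated by `p = q ∩ A`, and an `R'`-module `M'` isomorphic to
`R' ⊗_O N` for a localization `N` of `M`: then `(R', M')` is semilinearly isomorphic to the fibre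
local ring and the fibre local module -/
theorem exists_fibLoc_equiv
    (e' : letI := γ.toAlgebra; M' ≃ₗ[R'] R' ⊗[O] N) :
    ∃ (σ : FibLocRing A B q ≃+* R') (e : FibLocMod A B q M ≃+ M'),
      ∀ (r : FibLocRing A B q) (x : FibLocMod A B q M), e (r • x) = σ r • e x := by
  set L := Localization.AtPrime q with hL
  set NL := LocalizedModule q.primeCompl M with hNL
  set p := q.comap (algebraMap A B) with hp
  let σ₀ : L ≃ₐ[B] O := IsLocalization.algEquiv q.primeCompl L O
  let e₀ : NL ≃ₗ[B] N :=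
    IsLocalizedModule.linearEquiv q.primeCompl (LocalizedModule.mkLinearMap q.primeCompl M) ℓ
  have hfr : ∀ t : L, ∃ b s : B, IsUnit (algebraMap B L s) ∧
      t * algebraMap B L s = algebraMap B L b := by
    intro t
    obtain ⟨⟨b, s⟩, hbs⟩ := IsLocalization.surj q.primeCompl t
    exact ⟨b, s, IsLocalization.map_units L s, hbs⟩
  have he₀ : ∀ (r : L) (x : NL), e₀.toAddEquiv (r • x) = (σ₀ : L →+* O) r • e₀.toAddEquiv x :=
    fun r x => semilinear_of_linear hfr σ₀.toAlgHom e₀.toLinearMap r x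
  have hσ₀surj : Function.Surjective (σ₀ : L →+* O) := σ₀.surjective
  set K := RingHom.ker γ with hK
  have hJ : (p.map (algebraMap A L)).map (σ₀ : L →+* O) = K := by
    rw [hker, Ideal.map_map]
    congr 1
    refine RingHom.ext fun a => ?_
    show σ₀ (algebraMap A L a) = algebraMap A O a
    rw [IsScalarTower.algebraMap_apply A B L, σ₀.commutes, ← IsScalarTower.algebraMap_apply]
  let e₁ : FibLocMod A B q M ≃+ (N ⧸ (K • ⊤ : Submodule O N)) :=
    quotAddEquiv' (σ₀ : L →+* O) hσ₀surj e₀.toAddEquiv he₀ (p.map (algebraMap A L)) K hJ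
  let σ₁ : FibLocRing A B q ≃+* (O ⧸ K) :=
    Ideal.quotientEquiv (p.map (algebraMap A L)) K σ₀.toRingEquiv hJ.symm
  have he₁ : ∀ (r : FibLocRing A B q) (x : FibLocMod A B q M), e₁ (r • x) = σ₁ r • e₁ x := by
    intro r x
    exact quotAddEquiv'_smul (σ₀ : L →+* O) hσ₀surj e₀.toAddEquiv he₀ _ K hJ r x
  obtain ⟨e₂, he₂⟩ := exists_quot_equiv γ hγ N M' e'
  refine ⟨σ₁.trans (RingHom.quotientKerEquivOfSurjective hγ), e₁.trans e₂, fun r x => ?_⟩
  show e₂ (e₁ (r • x)) = RingHom.quotientKerEquivOfSurjective hγ (σ₁ r) • e₂ (e₁ x)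
  rw [he₁, he₂]

include hker hγ in
/-- ring-only version of the abstract bridge -/
theorem exists_fibLocRing_equiv : Nonempty (FibLocRing A B q ≃+* R') := by
  set L := Localization.AtPrime q with hL
  set p := q.comap (algebraMap A B) with hp
  let σ₀ : L ≃ₐ[B] O := IsLocalization.algEquiv q.primeCompl L O
  set K := RingHom.ker γ with hK
  have hJ : (p.map (algebraMap A L)).map (σ₀ : L →+* O) = K := by
    rw [hker, Ideal.map_map]
    congr 1
    refine RingHom.ext fun a => ?_
    show σ₀ (algebraMap A L a) = algebraMap A O a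
    rw [IsScalarTower.algebraMap_apply A B L, σ₀.commutes, ← IsScalarTower.algebraMap_apply]
  let σ₁ : FibLocRing A B q ≃+* (O ⧸ K) :=
    Ideal.quotientEquiv (p.map (algebraMap A L)) K σ₀.toRingEquiv hJ.symm
  exact ⟨σ₁.trans (RingHom.quotientKerEquivOfSurjective hγ)⟩

end Bridge

section Two

variable (A P B : Type u) [CommRing A] [CommRing P] [CommRing B] [Algebra A P] [Algebra P B]
  [Algebra A B] [IsScalarTower A P B] (hsurj : Function.Surjective (algebraMap P B))
  (M : Type u) [AddCommGroup M] [Module B M] [Module P M] [IsScalarTower P B M]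
  (q : Ideal B) [q.IsPrime]

open EGA4

include hsurj in
theorem algebraMapSubmonoid_primeCompl :
    Algebra.algebraMapSubmonoid B (q.comap (algebraMap P B)).primeCompl = q.primeCompl := by
  ext b
  constructor
  · rintro ⟨x, hx, rfl⟩
    exact hx
  · intro hb
    obtain ⟨x, rfl⟩ := hsurj b
    exact ⟨x, hb, rfl⟩

include hsurj in
theorem localRingHom_surjective :
    Function.Surjective (Localization.localRingHom (q.comap (algebraMap P B)) q
      (algebraMap P B) rfl) := by
  intro l
  obtain ⟨⟨b, s⟩, rfl⟩ := IsLocalization.mk'_surjective q.primeCompl l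
  obtain ⟨b', rfl⟩ := hsurj b
  obtain ⟨s', hs'⟩ := hsurj s.1
  have hs'mem : s' ∈ (q.comap (algebraMap P B)).primeCompl := by
    show algebraMap P B s' ∉ q
    rw [hs']
    exact s.2
  refine ⟨IsLocalization.mk' _ b' (⟨s', hs'mem⟩ : (q.comap (algebraMap P B)).primeCompl), ?_⟩
  rw [Localization.localRingHom_mk']
  congr 1
  exact Subtype.ext hs'

set_option maxHeartbeats 1000000 in
include hsurj in
/-- the fibre local module does not change (up to a bijection semilinear along a surjection) when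
the algebra is replaced by an algebra surjecting onto it -/
theorem exists_fibLocMod_equiv_of_surjective :
    ∃ (ρ : FibLocRing A P (q.comap (algebraMap P B)) →+* FibLocRing A B q)
      (e : FibLocMod A P (q.comap (algebraMap P B)) M ≃+ FibLocMod A B q M),
      Function.Surjective ρ ∧ ∀ r x, e (r • x) = ρ r • e x := by
  set q₀ := q.comap (algebraMap P B) with hq₀
  set L₀ := Localization.AtPrime q₀ with hL₀
  set L := Localization.AtPrime q with hL
  set N₀ := LocalizedModule q₀.primeCompl M with hN₀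
  set N := LocalizedModule q.primeCompl M with hN
  let ρ₀ : L₀ →+* L := Localization.localRingHom q₀ q (algebraMap P B) rfl
  have hρ₀ : Function.Surjective ρ₀ := localRingHom_surjective P B hsurj q
  let ℓB : M →ₗ[B] N := LocalizedModule.mkLinearMap q.primeCompl M
  haveI hlocB : IsLocalizedModule (Algebra.algebraMapSubmonoid B q₀.primeCompl) ℓB := by
    rw [algebraMapSubmonoid_primeCompl P B hsurj q]
    infer_instance
  haveI hlocP : IsLocalizedModule q₀.primeCompl (ℓB.restrictScalars P) :=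
    IsLocalizedModule.restrictScalars q₀.primeCompl ℓB
  let e₀ : N₀ ≃ₗ[P] N :=
    IsLocalizedModule.linearEquiv q₀.primeCompl (LocalizedModule.mkLinearMap q₀.primeCompl M)
      (ℓB.restrictScalars P)
  have hcomm : ∀ r : P, ρ₀ (algebraMap P L₀ r) = algebraMap P L r := fun r => by
    rw [Localization.localRingHom_to_map, ← IsScalarTower.algebraMap_apply]
  let σ : L₀ →ₐ[P] L := { ρ₀ with commutes' := hcomm }
  have hfr : ∀ t : L₀, ∃ b s : P, IsUnit (algebraMap P L₀ s) ∧
      t * algebraMap P L₀ s = algebraMap P L₀ b := by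
    intro t
    obtain ⟨⟨b, s⟩, hbs⟩ := IsLocalization.surj q₀.primeCompl t
    exact ⟨b, s, IsLocalization.map_units L₀ s, hbs⟩
  have he₀ : ∀ (r : L₀) (x : N₀), e₀.toAddEquiv (r • x) = ρ₀ r • e₀.toAddEquiv x := fun r x =>
    semilinear_of_linear hfr σ e₀.toLinearMap r x
  set p₀ := q₀.comap (algebraMap A P) with hp₀
  have hpp : q.comap (algebraMap A B) = p₀ := by
    rw [hp₀, hq₀, Ideal.comap_comap, ← IsScalarTower.algebraMap_eq]
  have hJ : (p₀.map (algebraMap A L₀)).map ρ₀ =
      (q.comap (algebraMap A B)).map (algebraMap A L) := by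
    rw [hpp, Ideal.map_map]
    congr 1
    refine RingHom.ext fun a => ?_
    show ρ₀ (algebraMap A L₀ a) = algebraMap A L a
    rw [IsScalarTower.algebraMap_apply A P L₀, Localization.localRingHom_to_map,
      ← IsScalarTower.algebraMap_apply A P B, ← IsScalarTower.algebraMap_apply A B L]
  refine ⟨Ideal.quotientMap _ ρ₀ (hJ ▸ Ideal.le_comap_map),
    quotAddEquiv' ρ₀ hρ₀ e₀.toAddEquiv he₀ (p₀.map (algebraMap A L₀)) _ hJ, ?_, ?_⟩
  · exact Ideal.quotientMap_surjective hρ₀
  · intro r x
    exact quotAddEquiv'_smul ρ₀ hρ₀ e₀.toAddEquiv he₀ _ _ hJ r x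

include hsurj in
theorem depth_fibLocMod_of_surjective [Module.Finite P M]
    [IsNoetherianRing (FibLocRing A P (q.comap (algebraMap P B)))]
    [IsNoetherianRing (FibLocRing A B q)] :
    depth (FibLocRing A B q) (FibLocMod A B q M) =
      depth (FibLocRing A P (q.comap (algebraMap P B)))
        (FibLocMod A P (q.comap (algebraMap P B)) M) := by
  obtain ⟨ρ, e, hρ, he⟩ := exists_fibLocMod_equiv_of_surjective A P B hsurj M q
  exact depth_eq_of_surjective_semilinear ρ hρ e he

end Two

end Groth.Agent.Lead.MFib
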