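import Mathlib
import Groth.Prelude
import Groth.Agent.Lib.Lead.SmLoc1
import Groth.Agent.Lib.Helper6.Normal.Smooth
import Groth.Agent.Lib.Helper7.CAlg.ReducedSmooth

/-!
# Reducedness and normality of local rings at smooth points
-/

set_option autoImplicit false
set_option backward.isDefEq.respectTransparency.types false
set_option synthInstance.maxHeartbeats 400000
set_option linter.style.haveILetI false
set_option linter.unusedSectionVars false

universe u

open AlgebraicGeometry CategoryTheory Limits TensorProduct

namespace Groth.Agent.Lead.SmLoc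

open IsLocalRing

section Alg

variable (A B : Type u) [CommRing A] [CommRing B] [Algebra A B]

/-- Transfer of reducedness from a localization of a localization. -/
lemma isReduced_of_isLocalization {B C : Type u} [CommRing B] [CommRing C] [Algebra B C]
    (N : Submonoid B) [IsLocalization N C] (Q : Ideal C) [Q.IsPrime] (q : Ideal B) [q.IsPrime]
    (hq : Q.comap (algebraMap B C) = q) (h : IsReduced C) :
    IsReduced (Localization.AtPrime q) := by
  subst hq
  have : IsScalarTower B C (Localization.AtPrime Q) := inferInstance
  have hloc : IsLocalization.AtPrime (Localization.AtPrime Q) (Q.comap (algebraMap B C)) :=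
    IsLocalization.isLocalization_isLocalization_atPrime_isLocalization N _ Q
  let e : Localization.AtPrime (Q.comap (algebraMap B C)) ≃ₐ[B] Localization.AtPrime Q :=
    IsLocalization.algEquiv (Q.comap (algebraMap B C)).primeCompl _ _
  haveI : IsReduced (Localization.AtPrime Q) := inferInstance
  exact isReduced_of_injective e.toRingEquiv.toRingHom e.toRingEquiv.injective

attribute [local instance] Algebra.TensorProduct.rightAlgebra in
theorem isReduced_atPrime_of_smooth [Algebra.Smooth A B] (q : Ideal B) [q.IsPrime]
    (hA : IsReduced (Localization.AtPrime (q.comap (algebraMap A B)))) :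
    IsReduced (Localization.AtPrime q) := by
  have hp : (q.comap (algebraMap A B)).IsPrime := inferInstance
  have hpush : Algebra.IsPushout A B (Localization.AtPrime (q.comap (algebraMap A B)))
      (Localization.AtPrime (q.comap (algebraMap A B)) ⊗[A] B) := TensorProduct.isPushout'
  have hloc : IsLocalization
      (Algebra.algebraMapSubmonoid B (q.comap (algebraMap A B)).primeCompl)
      (Localization.AtPrime (q.comap (algebraMap A B)) ⊗[A] B) :=
    (Algebra.isLocalization_iff_isPushout (q.comap (algebraMap A B)).primeCompl _).mpr hpush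
  have hdisj : Disjoint
      (Algebra.algebraMapSubmonoid B (q.comap (algebraMap A B)).primeCompl : Set B) (q : Set B) := by
    rw [Set.disjoint_left]
    rintro _ ⟨a, ha, rfl⟩ hq
    exact ha hq
  have hprime : (q.map (algebraMap B
      (Localization.AtPrime (q.comap (algebraMap A B)) ⊗[A] B))).IsPrime :=
    IsLocalization.isPrime_of_isPrime_disjoint _ _ _ ‹_› hdisj
  have hcomap : (q.map (algebraMap B
      (Localization.AtPrime (q.comap (algebraMap A B)) ⊗[A] B))).comap (algebraMap B _) = q :=
    IsLocalization.under_map_of_isPrime_disjoint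
      (Algebra.algebraMapSubmonoid B (q.comap (algebraMap A B)).primeCompl) _ ‹q.IsPrime› hdisj
  have := Groth.Agent.Helper7.isReduced_of_smooth
    (Localization.AtPrime (q.comap (algebraMap A B)))
    (Localization.AtPrime (q.comap (algebraMap A B)) ⊗[A] B)
  exact isReduced_of_isLocalization
    (Algebra.algebraMapSubmonoid B (q.comap (algebraMap A B)).primeCompl) _ q hcomap this

attribute [local instance] Algebra.TensorProduct.rightAlgebra in
theorem normalAt_atPrime_of_smooth [Algebra.Smooth A B] (q : Ideal B) [q.IsPrime]
    (hA : IsDomain (Localization.AtPrime (q.comap (algebraMap A B))) ∧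
      IsIntegrallyClosed (Localization.AtPrime (q.comap (algebraMap A B)))) :
    IsDomain (Localization.AtPrime q) ∧ IsIntegrallyClosed (Localization.AtPrime q) := by
  have hp : (q.comap (algebraMap A B)).IsPrime := inferInstance
  obtain ⟨hdom, hic⟩ := hA
  have hpush : Algebra.IsPushout A B (Localization.AtPrime (q.comap (algebraMap A B)))
      (Localization.AtPrime (q.comap (algebraMap A B)) ⊗[A] B) := TensorProduct.isPushout'
  have hloc : IsLocalization
      (Algebra.algebraMapSubmonoid B (q.comap (algebraMap A B)).primeCompl)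
      (Localization.AtPrime (q.comap (algebraMap A B)) ⊗[A] B) :=
    (Algebra.isLocalization_iff_isPushout (q.comap (algebraMap A B)).primeCompl _).mpr hpush
  have hdisj : Disjoint
      (Algebra.algebraMapSubmonoid B (q.comap (algebraMap A B)).primeCompl : Set B) (q : Set B) := by
    rw [Set.disjoint_left]
    rintro _ ⟨a, ha, rfl⟩ hq
    exact ha hq
  have hprime : (q.map (algebraMap B
      (Localization.AtPrime (q.comap (algebraMap A B)) ⊗[A] B))).IsPrime :=
    IsLocalization.isPrime_of_isPrime_disjoint _ _ _ ‹_› hdisj
  have hcomap : (q.map (algebraMap B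
      (Localization.AtPrime (q.comap (algebraMap A B)) ⊗[A] B))).comap (algebraMap B _) = q :=
    IsLocalization.under_map_of_isPrime_disjoint
      (Algebra.algebraMapSubmonoid B (q.comap (algebraMap A B)).primeCompl) _ ‹q.IsPrime› hdisj
  have := Groth.Agent.Lib.Helper6.Normal.normalAt_of_smooth
    (Localization.AtPrime (q.comap (algebraMap A B)))
    (Localization.AtPrime (q.comap (algebraMap A B)) ⊗[A] B)
    (q.map (algebraMap B (Localization.AtPrime (q.comap (algebraMap A B)) ⊗[A] B)))
  exact Groth.Agent.Lib.Helper6.Normal.normalAt_of_isLocalization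
    (Algebra.algebraMapSubmonoid B (q.comap (algebraMap A B)).primeCompl) _ q hcomap this

/-- Faithful flatness of the local homomorphism of a flat algebra. -/
theorem faithfullyFlat_localRingHom [Module.Flat A B] (q : Ideal B) [q.IsPrime] :
    letI := (Localization.localRingHom (q.comap (algebraMap A B)) q (algebraMap A B) rfl).toAlgebra
    Module.FaithfullyFlat (Localization.AtPrime (q.comap (algebraMap A B)))
      (Localization.AtPrime q) := by
  have hflat : (algebraMap A B).Flat := RingHom.flat_algebraMap_iff.mpr inferInstance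
  have hφflat := RingHom.Flat.localRingHom hflat q (q.comap (algebraMap A B)) rfl
  have hloc : IsLocalHom (Localization.localRingHom (q.comap (algebraMap A B)) q
      (algebraMap A B) rfl) :=
    Localization.isLocalHom_localRingHom (q.comap (algebraMap A B)) q (algebraMap A B) rfl
  algebraize [Localization.localRingHom (q.comap (algebraMap A B)) q (algebraMap A B) rfl]
  exact Module.FaithfullyFlat.of_flat_of_isLocalHom

theorem isReduced_atPrime_comap_of_flat [Module.Flat A B] (q : Ideal B) [q.IsPrime]
    (hB : IsReduced (Localization.AtPrime q)) :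
    IsReduced (Localization.AtPrime (q.comap (algebraMap A B))) := by
  letI := (Localization.localRingHom (q.comap (algebraMap A B)) q (algebraMap A B) rfl).toAlgebra
  haveI := faithfullyFlat_localRingHom A B q
  exact isReduced_of_injective (algebraMap (Localization.AtPrime (q.comap (algebraMap A B)))
    (Localization.AtPrime q)) (FaithfulSMul.algebraMap_injective _ _)

theorem normalAt_atPrime_comap_of_flat [Module.Flat A B] (q : Ideal B) [q.IsPrime]
    (hB : IsDomain (Localization.AtPrime q) ∧ IsIntegrallyClosed (Localization.AtPrime q)) :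
    IsDomain (Localization.AtPrime (q.comap (algebraMap A B))) ∧
      IsIntegrallyClosed (Localization.AtPrime (q.comap (algebraMap A B))) := by
  letI := (Localization.localRingHom (q.comap (algebraMap A B)) q (algebraMap A B) rfl).toAlgebra
  haveI := faithfullyFlat_localRingHom A B q
  obtain ⟨h1, h2⟩ := hB
  exact Groth.Agent.Lib.Helper6.Normal.isIntegrallyClosed_of_faithfullyFlat
    (Localization.AtPrime (q.comap (algebraMap A B))) (Localization.AtPrime q)

end Alg

end Groth.Agent.Lead.SmLoc

namespace Groth.Agent.Lead.SmLoc

variable {X Y : Scheme.{u}} (f : X ⟶ Y)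

theorem isReduced_atPrime_congr {R : Type u} [CommRing R] (p p' : Ideal R) [p.IsPrime]
    [p'.IsPrime] (h : p' = p) (hr : IsReduced (Localization.AtPrime p)) :
    IsReduced (Localization.AtPrime p') := by
  subst h
  exact hr

theorem normalAt_atPrime_congr {R : Type u} [CommRing R] (p p' : Ideal R) [p.IsPrime]
    [p'.IsPrime] (h : p' = p)
    (hr : IsDomain (Localization.AtPrime p) ∧ IsIntegrallyClosed (Localization.AtPrime p)) :
    IsDomain (Localization.AtPrime p') ∧ IsIntegrallyClosed (Localization.AtPrime p') := by
  subst h
  exact hr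

theorem S4989_main [LocallyOfFinitePresentation f] (x : X) (hx : x ∈ f.smoothLocus) :
    (IsReduced (X.presheaf.stalk x) ↔ IsReduced (Y.presheaf.stalk (f.base x))) ∧
    ((IsDomain (X.presheaf.stalk x) ∧ IsIntegrallyClosed (X.presheaf.stalk x)) ↔
      (IsDomain (Y.presheaf.stalk (f.base x)) ∧
        IsIntegrallyClosed (Y.presheaf.stalk (f.base x)))) := by
  obtain ⟨V, hV, W, hW, hWV, hxW, H⟩ := exists_smooth_of_formallySmooth_stalk f x hx
  algebraize [(f.appLE V W hWV).hom]
  let p := (hV.primeIdealOf ⟨f x, hWV hxW⟩).asIdeal
  let q := (hW.primeIdealOf ⟨x, hxW⟩).asIdeal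
  haveI hqp : q.LiesOver p :=
    ⟨congr($(IsAffineOpen.comap_primeIdealOf_appLE V hV W hW hWV hxW).1).symm⟩
  letI := Y.presheaf.algebra_section_stalk ⟨f x, hWV hxW⟩
  haveI := hV.isLocalization_stalk ⟨f x, hWV hxW⟩
  letI := X.presheaf.algebra_section_stalk ⟨x, hxW⟩
  haveI := hW.isLocalization_stalk ⟨x, hxW⟩
  let eA : Y.presheaf.stalk (f x) ≃+* Localization.AtPrime p :=
    (IsLocalization.algEquiv p.primeCompl (Y.presheaf.stalk (f x))
      (Localization.AtPrime p)).toRingEquiv
  let eB : X.presheaf.stalk x ≃+* Localization.AtPrime q :=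
    (IsLocalization.algEquiv q.primeCompl (X.presheaf.stalk x)
      (Localization.AtPrime q)).toRingEquiv
  have hp : q.comap (algebraMap Γ(Y, V) Γ(X, W)) = p := (hqp.over).symm
  refine ⟨⟨fun h => ?_, fun h => ?_⟩, ⟨fun h => ?_, fun h => ?_⟩⟩
  · haveI : IsReduced (Localization.AtPrime q) :=
      isReduced_of_injective eB.symm.toRingHom eB.symm.injective
    have h1 := isReduced_atPrime_comap_of_flat Γ(Y, V) Γ(X, W) q inferInstance
    have h2 : IsReduced (Localization.AtPrime p) := isReduced_atPrime_congr _ p hp.symm h1
    exact isReduced_of_injective eA.toRingHom eA.injective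
  · haveI : IsReduced (Localization.AtPrime p) :=
      isReduced_of_injective eA.symm.toRingHom eA.symm.injective
    have h1 : IsReduced (Localization.AtPrime (q.comap (algebraMap Γ(Y, V) Γ(X, W)))) :=
      isReduced_atPrime_congr p _ hp inferInstance
    have h2 := isReduced_atPrime_of_smooth Γ(Y, V) Γ(X, W) q h1
    exact isReduced_of_injective eB.toRingHom eB.injective
  · obtain ⟨h1, h2⟩ := h
    have hq : IsDomain (Localization.AtPrime q) ∧ IsIntegrallyClosed (Localization.AtPrime q) :=
      ⟨eB.symm.toMulEquiv.isDomain _, IsIntegrallyClosed.of_equiv eB⟩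
    have h3 := normalAt_atPrime_comap_of_flat Γ(Y, V) Γ(X, W) q hq
    obtain ⟨h4, h5⟩ := normalAt_atPrime_congr _ p hp.symm h3
    exact ⟨eA.toMulEquiv.isDomain _, IsIntegrallyClosed.of_equiv eA.symm⟩
  · obtain ⟨h1, h2⟩ := h
    have hq : IsDomain (Localization.AtPrime p) ∧ IsIntegrallyClosed (Localization.AtPrime p) :=
      ⟨eA.symm.toMulEquiv.isDomain _, IsIntegrallyClosed.of_equiv eA⟩
    have h3 := normalAt_atPrime_of_smooth Γ(Y, V) Γ(X, W) q (normalAt_atPrime_congr p _ hp hq)
    obtain ⟨h4, h5⟩ := h3
    exact ⟨eB.toMulEquiv.isDomain _, IsIntegrallyClosed.of_equiv eB.symm⟩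

end Groth.Agent.Lead.SmLoc
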