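import Mathlib
import Groth.Prelude.Def_AlgSp
import Groth.Agent.Lib.Helper2.AlgSp.Diag
import Groth.Agent.Lib.Helper2.AlgSp.Basic

/-!
# Finite fibre powers of a chart of a sheaf with representable diagonal (lead)
-/

set_option backward.isDefEq.respectTransparency.types false
set_option autoImplicit false
set_option synthInstance.maxHeartbeats 400000
set_option maxHeartbeats 1000000
set_option linter.style.haveILetI false
set_option linter.unusedSectionVars false
set_option linter.unusedSimpArgs false

open CategoryTheory CategoryTheory.Limits AlgebraicGeometry Opposite AlgSp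
open Groth.Agent.Helper2.AlgSpBasic

namespace Groth.Agent.Lead.HFib
universe u
variable {S : Scheme.{u}}

/-- `W` with the projections `pr` is the fibre power of `a : h_U ⟶ F` indexed by the finite set `s`
(the values of `pr` outside `s` are irrelevant). -/
structure IsFibPow {F : Sp S} {U : Over S} (a : (yon S).obj U ⟶ F) {H : Type u} (s : Finset H)
    (W : Over S) (pr : H → (W ⟶ U)) : Prop where
  compat : ∀ g ∈ s, ∀ h ∈ s, (yon S).map (pr g) ≫ a = (yon S).map (pr h) ≫ a
  lift : ∀ (T : Over S) (b : H → (T ⟶ U)),
    (∀ g ∈ s, ∀ h ∈ s, (yon S).map (b g) ≫ a = (yon S).map (b h) ≫ a) →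
      ∃ l : T ⟶ W, ∀ g ∈ s, l ≫ pr g = b g
  ext : ∀ (T : Over S) (l l' : T ⟶ W), (∀ g ∈ s, l ≫ pr g = l' ≫ pr g) → l = l'
  etale : RepWith @Etale a → ∀ g ∈ s, Etale (pr g).left

theorem exists_isFibPow {F : Sp S} (hF : Representable (Limits.diag F)) {U : Over S}
    (a : (yon S).obj U ⟶ F) {H : Type u} (s : Finset H) (hs : s.Nonempty) :
    ∃ (W : Over S) (pr : H → (W ⟶ U)), IsFibPow a s W pr := by
  classical
  induction hs using Finset.Nonempty.cons_induction with
  | singleton h0 =>
    refine ⟨U, fun _ => 𝟙 U, ?_, ?_, ?_, ?_⟩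
    · intro g _ h _; rfl
    · intro T b _
      exact ⟨b h0, fun g hg => by
        rw [Finset.mem_singleton] at hg; subst hg; exact Category.comp_id _⟩
    · intro T l l' h
      have := h h0 (Finset.mem_singleton_self _)
      simpa only [Category.comp_id] using this
    · intro _ g _
      exact inferInstanceAs (Etale (𝟙 U.left))
  | cons h0 s hh0 hs ih =>
    obtain ⟨W', pr', hW'⟩ := ih
    obtain ⟨g0, hg0⟩ := hs
    obtain ⟨W, fst, snd, sq⟩ := exists_isPullback_yon hF ((yon S).map (pr' g0) ≫ a) a
    let pr : H → (W ⟶ U) := fun g => if g = h0 then snd else fst ≫ pr' g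
    have hprh : pr h0 = snd := if_pos rfl
    have hprs : ∀ g ∈ s, pr g = fst ≫ pr' g := fun g hg => by
      have : g ≠ h0 := fun e => hh0 (e ▸ hg)
      exact if_neg this
    have hcommon : ∀ g ∈ Finset.cons h0 s hh0,
        (yon S).map (pr g) ≫ a = (yon S).map fst ≫ (yon S).map (pr' g0) ≫ a := by
      intro g hg
      rw [Finset.mem_cons] at hg
      rcases hg with rfl | hg
      · rw [hprh]; exact sq.w.symm
      · rw [hprs g hg, Functor.map_comp, Category.assoc, hW'.compat g hg g0 hg0]
    refine ⟨W, pr, ?_, ?_, ?_, ?_⟩
    · intro g hg h hh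
      rw [hcommon g hg, hcommon h hh]
    · intro T b hb
      have hb' : ∀ g ∈ s, ∀ h ∈ s, (yon S).map (b g) ≫ a = (yon S).map (b h) ≫ a :=
        fun g hg h hh => hb g (Finset.mem_cons.2 (Or.inr hg)) h (Finset.mem_cons.2 (Or.inr hh))
      obtain ⟨l', hl'⟩ := hW'.lift T b hb'
      obtain ⟨l, hl⟩ := (yon S).map_surjective
        (sq.lift ((yon S).map l') ((yon S).map (b h0)) (by
          rw [← Category.assoc, ← Functor.map_comp, hl' g0 hg0]
          exact hb g0 (Finset.mem_cons.2 (Or.inr hg0)) h0 (Finset.mem_cons_self _ _)))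
      have h1 : l ≫ fst = l' := (yon S).map_injective (by
        rw [Functor.map_comp, hl, sq.lift_fst])
      have h2 : l ≫ snd = b h0 := (yon S).map_injective (by
        rw [Functor.map_comp, hl, sq.lift_snd])
      refine ⟨l, fun g hg => ?_⟩
      rw [Finset.mem_cons] at hg
      rcases hg with rfl | hg
      · rw [hprh, h2]
      · rw [hprs g hg, ← Category.assoc, h1, hl' g hg]
    · intro T l l' h
      apply (yon S).map_injective
      apply sq.hom_ext
      · rw [← Functor.map_comp, ← Functor.map_comp]
        congr 1
        apply hW'.ext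
        intro g hg
        have := h g (Finset.mem_cons.2 (Or.inr hg))
        rw [hprs g hg] at this
        simpa only [Category.assoc] using this
      · rw [← Functor.map_comp, ← Functor.map_comp]
        congr 1
        have := h h0 (Finset.mem_cons_self _ _)
        rw [hprh] at this
        exact this
    · intro ha g hg
      have hα : RepWith @Etale ((yon S).map (pr' g0) ≫ a) :=
        repWith_comp @Etale ((repWith_yon_map_iff @Etale _).mpr (hW'.etale ha g0 hg0)) ha
      have hsnd : Etale snd.left := hα.property a _ _ sq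
      have hfst : Etale fst.left := ha.property _ _ _ sq.flip
      rw [Finset.mem_cons] at hg
      rcases hg with rfl | hg
      · rw [hprh]; exact hsnd
      · rw [hprs g hg, Over.comp_left]
        haveI := hW'.etale ha g hg
        infer_instance

end Groth.Agent.Lead.HFib
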