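import Mathlib
import Groth.Prelude.Def_AlgSp
import Groth.Agent.Lib.Lead.HFibA

/-!
# The permutation action on a fibre power indexed by a finite group (lead)
-/

set_option backward.isDefEq.respectTransparency.types false
set_option autoImplicit false
set_option synthInstance.maxHeartbeats 400000
set_option maxHeartbeats 1000000
set_option linter.style.haveILetI false
set_option linter.unusedSectionVars false
set_option linter.unusedSimpArgs false

open CategoryTheory CategoryTheory.Limits AlgebraicGeometry Opposite AlgSp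
open Groth.Agent.Helper2.AlgSpBasic

namespace Groth.Agent.Lead.HFib
universe u
variable {S : Scheme.{u}}

section
variable {F : Sp S} {U : Over S} {a : (yon S).obj U ⟶ F} {H : Type u} [Group H] [Fintype H]
  {W : Over S} {pr : H → (W ⟶ U)} (hW : IsFibPow a (Finset.univ : Finset H) W pr)

include hW in
theorem exists_act (h : H) : ∃ l : W ⟶ W, ∀ g, l ≫ pr g = pr (h⁻¹ * g) := by
  obtain ⟨l, hl⟩ := hW.lift W (fun g => pr (h⁻¹ * g))
    (fun g _ g' _ => hW.compat _ (Finset.mem_univ _) _ (Finset.mem_univ _))
  exact ⟨l, fun g => hl g (Finset.mem_univ _)⟩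

include hW in
theorem hom_ext_pr {T : Over S} (l l' : T ⟶ W) (h : ∀ g, l ≫ pr g = l' ≫ pr g) : l = l' :=
  hW.ext T l l' (fun g _ => h g)

include hW in
/-- The permutation action of `H` on the `H`-indexed fibre power. -/
theorem exists_action : ∃ ρ : H →* Aut W, ∀ h g, (ρ h).hom ≫ pr g = pr (h⁻¹ * g) := by
  choose act hact using exists_act hW
  have act_one : act 1 = 𝟙 W := by
    apply hom_ext_pr hW
    intro g
    rw [hact, inv_one, one_mul, Category.id_comp]
  have act_mul : ∀ h' h : H, act (h' * h) = act h ≫ act h' := by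
    intro h' h
    apply hom_ext_pr hW
    intro g
    rw [hact, Category.assoc, hact, hact, mul_inv_rev, mul_assoc]
  refine ⟨{ toFun := fun h => ⟨act h, act h⁻¹, by rw [← act_mul, inv_mul_cancel, act_one],
              by rw [← act_mul, mul_inv_cancel, act_one]⟩
            map_one' := by
              apply Iso.ext
              exact act_one
            map_mul' := fun h' h => by
              apply Iso.ext
              show act (h' * h) = act h ≫ act h'
              exact act_mul h' h }, fun h g => hact h g⟩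

include hW in
/-- An equivariant point of the fibre power from a point of `U` whose conjugates are
compatible. -/
theorem exists_point (ρ : H →* Aut W) (hρ : ∀ h g, (ρ h).hom ≫ pr g = pr (h⁻¹ * g))
    {T : Over S} (φ : H → (T ⟶ T)) (hφ : ∀ g h, φ (g * h) = φ g ≫ φ h) (u : T ⟶ U)
    (hu : ∀ g, (yon S).map (φ g ≫ u) ≫ a = (yon S).map u ≫ a) :
    ∃ w : T ⟶ W, (∀ g, w ≫ pr g = φ g ≫ u) ∧ ∀ h, φ h ≫ w = w ≫ (ρ h⁻¹).hom := by
  obtain ⟨w, hw⟩ := hW.lift T (fun g => φ g ≫ u) (fun g _ g' _ => by rw [hu g, hu g'])
  have hw' : ∀ g, w ≫ pr g = φ g ≫ u := fun g => hw g (Finset.mem_univ _)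
  refine ⟨w, hw', fun h => ?_⟩
  apply hom_ext_pr hW
  intro g
  rw [Category.assoc, Category.assoc, hw', hρ, inv_inv, hw', hφ, Category.assoc]

include hW in
theorem action_invariant (ρ : H →* Aut W) (hρ : ∀ h g, (ρ h).hom ≫ pr g = pr (h⁻¹ * g)) (h : H) :
    (yon S).map (ρ h).hom ≫ (yon S).map (pr 1) ≫ a = (yon S).map (pr 1) ≫ a := by
  rw [← Category.assoc, ← Functor.map_comp, hρ]
  exact hW.compat _ (Finset.mem_univ _) _ (Finset.mem_univ _)

end

end Groth.Agent.Lead.HFib
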