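import Mathlib
import Groth.Prelude.Def_AlgSp
import Groth.Agent.Lib.Helper2.AlgSp.FreeAct

/-!
# Restricting a finite group action on a scheme to stable opens (lead)
-/

set_option backward.isDefEq.respectTransparency.types false
set_option autoImplicit false
set_option synthInstance.maxHeartbeats 400000
set_option maxHeartbeats 1000000
set_option linter.style.haveILetI false
set_option linter.unusedSectionVars false
set_option linter.unusedSimpArgs false

open CategoryTheory CategoryTheory.Limits AlgebraicGeometry Opposite AlgSp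

namespace Groth.Agent.Lead.HFib
universe u
variable {S : Scheme.{u}}

section Restrict

variable {W : Over S} {H : Type u} [Group H] (ρ : H →* Aut W)

theorem act_comp (g h : H) : (ρ (g * h)).hom = (ρ h).hom ≫ (ρ g).hom := by
  rw [map_mul, Aut.Aut_mul_def]
  rfl

theorem act_id : (ρ 1).hom = 𝟙 W := by
  rw [map_one]
  rfl

theorem act_left_apply (g h : H) (x : W.left) :
    (ρ g).hom.left ((ρ h).hom.left x) = (ρ (g * h)).hom.left x := by
  rw [act_comp, Over.comp_left, Scheme.Hom.comp_apply]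

theorem act_left_one_apply (x : W.left) : (ρ 1).hom.left x = x := by
  rw [act_id]; rfl

/-- The restriction of an action to a stable open subscheme. -/
theorem exists_restrict (V : W.left.Opens) (hV : ∀ h, (ρ h).hom.left ⁻¹ᵁ V = V) :
    ∃ (WV : Over S) (j : WV ⟶ W) (ρV : H →* Aut WV), IsOpenImmersion j.left ∧
      Set.range j.left = (V : Set W.left) ∧ (∀ h, (ρV h).hom ≫ j = j ≫ (ρ h).hom) ∧
      (IsAffineOpen V → IsAffine WV.left) := by
  let WV : Over S := Over.mk (V.ι ≫ W.hom)
  let j : WV ⟶ W := Over.homMk V.ι rfl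
  have hrange : ∀ h, Set.range (V.ι ≫ (ρ h).hom.left) ⊆ Set.range V.ι := by
    intro h
    rintro _ ⟨x, rfl⟩
    rw [Scheme.Opens.range_ι]
    have hx : V.ι x ∈ (ρ h).hom.left ⁻¹ᵁ V := by
      rw [hV h]
      have : V.ι x ∈ Set.range V.ι := ⟨x, rfl⟩
      rwa [Scheme.Opens.range_ι] at this
    exact hx
  let r : H → (V.toScheme ⟶ V.toScheme) := fun h =>
    IsOpenImmersion.lift V.ι (V.ι ≫ (ρ h).hom.left) (hrange h)
  have hr : ∀ h, r h ≫ V.ι = V.ι ≫ (ρ h).hom.left := fun h => IsOpenImmersion.lift_fac _ _ _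
  let act : H → (WV ⟶ WV) := fun h => Over.homMk (r h) (by
    show r h ≫ V.ι ≫ W.hom = V.ι ≫ W.hom
    rw [← Category.assoc, hr, Category.assoc, Over.w])
  have hact : ∀ h, act h ≫ j = j ≫ (ρ h).hom := by
    intro h
    ext
    exact hr h
  have hjmono : ∀ {T : Over S} (l l' : T ⟶ WV), l ≫ j = l' ≫ j → l = l' := by
    intro T l l' e
    ext
    have e' := congrArg (fun m => m.left) e
    simp only [Over.comp_left] at e'
    exact (cancel_mono V.ι).1 e'
  have act_one : act 1 = 𝟙 WV := by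
    apply hjmono
    rw [hact, act_id, Category.comp_id, Category.id_comp]
  have act_mul : ∀ h' h : H, act (h' * h) = act h ≫ act h' := by
    intro h' h
    apply hjmono
    rw [hact, Category.assoc, hact, ← Category.assoc, hact, Category.assoc, act_comp]
  refine ⟨WV, j, { toFun := fun h => ⟨act h, act h⁻¹, by rw [← act_mul, inv_mul_cancel, act_one],
              by rw [← act_mul, mul_inv_cancel, act_one]⟩
                   map_one' := by
                     apply Iso.ext
                     exact act_one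
                   map_mul' := fun h' h => by
                     apply Iso.ext
                     show act (h' * h) = act h ≫ act h'
                     exact act_mul h' h }, ?_, ?_, ?_, ?_⟩
  · exact inferInstanceAs (IsOpenImmersion V.ι)
  · exact Scheme.Opens.range_ι V
  · intro h
    exact hact h
  · intro hVaff
    exact hVaff

/-- Non-freeness at a point passes along an equivariant morphism. -/
theorem fixed_of_fixed {W' : Over S} (ρ' : H →* Aut W') (j : W' ⟶ W)
    (hj : ∀ h, (ρ' h).hom ≫ j = j ≫ (ρ h).hom) (h : H) (x : W'.left)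
    (e : W'.left.fromSpecResidueField x ≫ (ρ' h).hom.left = W'.left.fromSpecResidueField x) :
    W.left.fromSpecResidueField (j.left x) ≫ (ρ h).hom.left =
      W.left.fromSpecResidueField (j.left x) := by
  haveI := Groth.Agent.Helper2.FreeAct.epi_spec_map_field (Field.toIsField _) (Field.toIsField _)
    (j.left.residueFieldMap x)
  rw [← cancel_epi (Spec.map (j.left.residueFieldMap x)),
    Scheme.Hom.SpecMap_residueFieldMap_fromSpecResidueField_assoc,
    Scheme.Hom.SpecMap_residueFieldMap_fromSpecResidueField, ← Over.comp_left, ← hj,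
    Over.comp_left, ← Category.assoc, e]

end Restrict

section Shrink

variable {W : Over S} {H : Type u} [Group H] [Finite H] (ρ : H →* Aut W)

theorem mem_basicOpen_prod {X : Scheme.{u}} {D : X.Opens} {ι : Type*} (s : Finset ι)
    (g : ι → Γ(X, D)) (x : X) :
    x ∈ X.basicOpen (∏ i ∈ s, g i) ↔ x ∈ D ∧ ∀ i ∈ s, x ∈ X.basicOpen (g i) := by
  classical
  induction s using Finset.induction_on with
  | empty =>
    rw [Finset.prod_empty, Scheme.basicOpen_of_isUnit _ isUnit_one]
    simp
  | insert i s hi ih =>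
    rw [Finset.prod_insert hi, Scheme.basicOpen_mul]
    constructor
    · rintro ⟨h1, h2⟩
      obtain ⟨hD, h3⟩ := ih.1 h2
      refine ⟨hD, fun k hk => ?_⟩
      rw [Finset.mem_insert] at hk
      rcases hk with rfl | hk
      · exact h1
      · exact h3 k hk
    · rintro ⟨hD, h3⟩
      exact ⟨h3 i (Finset.mem_insert_self _ _),
        ih.2 ⟨hD, fun k hk => h3 k (Finset.mem_insert_of_mem hk)⟩⟩

/-- A fixed point of a finite group action has arbitrarily small stable affine open
neighbourhoods. -/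
theorem exists_stable_affine (w0 : W.left) (hw0 : ∀ h, (ρ h).hom.left w0 = w0)
    (O : W.left.Opens) (hO : w0 ∈ O) :
    ∃ V : W.left.Opens, IsAffineOpen V ∧ (∀ h, (ρ h).hom.left ⁻¹ᵁ V = V) ∧ w0 ∈ V ∧ V ≤ O := by
  classical
  haveI : Fintype H := Fintype.ofFinite H
  obtain ⟨V₀, hV₀aff, hxV₀, hV₀O⟩ := exists_isAffineOpen_mem_and_subset (x := w0) (U := O) hO
  let V₁ : W.left.Opens := ⟨⋂ h : H, (((ρ h).hom.left ⁻¹ᵁ V₀ : W.left.Opens) : Set W.left),
    isOpen_iInter_of_finite (fun h => ((ρ h).hom.left ⁻¹ᵁ V₀).isOpen)⟩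
  have hmemV₁ : ∀ x, x ∈ V₁ ↔ ∀ h : H, (ρ h).hom.left x ∈ V₀ := by
    intro x
    show x ∈ ⋂ h : H, (((ρ h).hom.left ⁻¹ᵁ V₀ : W.left.Opens) : Set W.left) ↔ _
    rw [Set.mem_iInter]
    rfl
  have hw0V₁ : w0 ∈ V₁ := (hmemV₁ w0).2 (fun h => by rw [hw0 h]; exact hxV₀)
  obtain ⟨f, hfV, hxf⟩ := hV₀aff.exists_basicOpen_le (V := V₁) ⟨w0, hw0V₁⟩ hxV₀
  set D : W.left.Opens := W.left.basicOpen f with hD
  have hDaff : IsAffineOpen D := hV₀aff.basicOpen f
  have hDV₀ : D ≤ V₀ := W.left.basicOpen_le f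
  have hDle : ∀ h : H, D ≤ (ρ h).hom.left ⁻¹ᵁ V₀ := fun h x hx => (hmemV₁ x).1 (hfV hx) h
  let g : H → Γ(W.left, D) := fun h =>
    (W.left.presheaf.map (homOfLE (hDle h)).op).hom (((ρ h).hom.left.app V₀).hom f)
  have hg : ∀ h x, x ∈ W.left.basicOpen (g h) ↔ x ∈ D ∧ (ρ h).hom.left x ∈ D := by
    intro h x
    have e1 : W.left.basicOpen (g h) = D ⊓ W.left.basicOpen (((ρ h).hom.left.app V₀).hom f) :=
      Scheme.basicOpen_res _ _ _
    have e2 : W.left.basicOpen (((ρ h).hom.left.app V₀).hom f) = (ρ h).hom.left ⁻¹ᵁ D :=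
      (Scheme.preimage_basicOpen _ _).symm
    rw [e1, e2]
    rfl
  let V : W.left.Opens := W.left.basicOpen (∏ h ∈ (Finset.univ : Finset H), g h)
  have hmemV : ∀ x, x ∈ V ↔ ∀ h : H, (ρ h).hom.left x ∈ D := by
    intro x
    show x ∈ W.left.basicOpen (∏ h ∈ (Finset.univ : Finset H), g h) ↔ _
    rw [mem_basicOpen_prod]
    constructor
    · rintro ⟨-, h2⟩ h
      exact ((hg h x).1 (h2 h (Finset.mem_univ _))).2
    · intro h2
      have hxD : x ∈ D := by
        have := h2 1
        rwa [act_left_one_apply] at this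
      exact ⟨hxD, fun h _ => (hg h x).2 ⟨hxD, h2 h⟩⟩
  refine ⟨V, hDaff.basicOpen _, ?_, ?_, ?_⟩
  · intro k
    ext x
    show (ρ k).hom.left x ∈ V ↔ x ∈ V
    rw [hmemV, hmemV]
    constructor
    · intro h2 h
      have := h2 (h * k⁻¹)
      rwa [act_left_apply, inv_mul_cancel_right] at this
    · intro h2 h
      rw [act_left_apply]
      exact h2 (h * k)
  · rw [hmemV]
    intro h
    rw [hw0 h]
    exact hxf
  · intro x hx
    have := (hmemV x).1 hx 1
    rw [act_left_one_apply] at this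
    exact hV₀O (hDV₀ this)

theorem mem_basicOpen_iff_appTop_ne_zero {X : Scheme.{u}} (x : X) (d : Γ(X, ⊤)) :
    x ∈ X.basicOpen d ↔ (X.fromSpecResidueField x).appTop.hom d ≠ 0 := by
  haveI : Nonempty (Spec (X.residueField x)) :=
    inferInstanceAs (Nonempty (PrimeSpectrum (X.residueField x)))
  let pt : Spec (X.residueField x) := Classical.arbitrary _
  have h1 : x ∈ X.basicOpen d ↔
      pt ∈ (Spec (X.residueField x)).basicOpen ((X.fromSpecResidueField x).appTop.hom d) := by
    rw [← Scheme.preimage_basicOpen_top]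
    show _ ↔ (X.fromSpecResidueField x) pt ∈ X.basicOpen d
    rw [Scheme.fromSpecResidueField_apply]
  rw [h1]
  constructor
  · intro h e
    rw [e, Scheme.basicOpen_zero] at h
    exact h
  · intro h
    let e : Γ(Spec (X.residueField x), ⊤) ≃+* X.residueField x :=
      (Scheme.ΓSpecIso (X.residueField x)).commRingCatIsoToRingEquiv
    have hu : IsUnit ((X.fromSpecResidueField x).appTop.hom d) := by
      have h2 : e ((X.fromSpecResidueField x).appTop.hom d) ≠ 0 := by
        intro h3
        exact h (e.injective (by rw [h3, map_zero]))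
      have h3 : IsUnit (e ((X.fromSpecResidueField x).appTop.hom d)) := isUnit_iff_ne_zero.2 h2
      have := h3.map e.symm
      rwa [RingEquiv.symm_apply_apply] at this
    rw [Scheme.basicOpen_of_isUnit _ hu]
    trivial

/-- For an action on an affine scheme, freeness at a point spreads to a neighbourhood. -/
theorem exists_free_nbhd [IsAffine W.left] (w0 : W.left)
    (hfree0 : ∀ h : H, h ≠ 1 →
      W.left.fromSpecResidueField w0 ≫ (ρ h).hom.left ≠ W.left.fromSpecResidueField w0) :
    ∃ O : W.left.Opens, w0 ∈ O ∧ ∀ x ∈ O, ∀ h : H, h ≠ 1 →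
      W.left.fromSpecResidueField x ≫ (ρ h).hom.left ≠ W.left.fromSpecResidueField x := by
  classical
  let d : H → Γ(W.left, ⊤) → Γ(W.left, ⊤) := fun h b => (ρ h).hom.left.appTop.hom b - b
  let Oh : H → W.left.Opens := fun h => if h = 1 then ⊤ else ⨆ b, W.left.basicOpen (d h b)
  let O : W.left.Opens := ⟨⋂ h : H, ((Oh h : W.left.Opens) : Set W.left),
    isOpen_iInter_of_finite (fun h => (Oh h).isOpen)⟩
  have hmemO : ∀ x, x ∈ O ↔ ∀ h : H, h ≠ 1 → ∃ b, x ∈ W.left.basicOpen (d h b) := by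
    intro x
    show x ∈ ⋂ h : H, ((Oh h : W.left.Opens) : Set W.left) ↔ _
    rw [Set.mem_iInter]
    refine forall_congr' fun h => ?_
    by_cases hh : h = 1
    · simp only [Oh, hh, if_true]
      constructor
      · intro _ h2; exact absurd rfl h2
      · intro _; trivial
    · simp only [Oh, hh, if_false]
      constructor
      · intro h2 _
        exact TopologicalSpace.Opens.mem_iSup.1 h2
      · intro h2
        exact TopologicalSpace.Opens.mem_iSup.2 (h2 hh)
  have key : ∀ (x : W.left) (h : H) (b : Γ(W.left, ⊤)), x ∈ W.left.basicOpen (d h b) ↔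
      (W.left.fromSpecResidueField x ≫ (ρ h).hom.left).appTop.hom b ≠
        (W.left.fromSpecResidueField x).appTop.hom b := by
    intro x h b
    rw [mem_basicOpen_iff_appTop_ne_zero]
    show (W.left.fromSpecResidueField x).appTop.hom ((ρ h).hom.left.appTop.hom b - b) ≠ 0 ↔ _
    rw [map_sub, sub_ne_zero, Scheme.Hom.comp_appTop]
    rfl
  refine ⟨O, ?_, ?_⟩
  · rw [hmemO]
    intro h hh
    by_contra hcon
    rw [not_exists] at hcon
    apply hfree0 h hh
    apply ext_of_isAffine
    ext b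
    have := hcon b
    rw [key, not_not] at this
    exact this
  · intro x hx h hh e
    obtain ⟨b, hb⟩ := (hmemO x).1 hx h hh
    rw [key, e] at hb
    exact hb rfl

/-- A fixed point at which a finite group action is free has a stable affine open neighbourhood
on which the action is free. -/
theorem exists_free_affine (w0 : W.left) (hw0 : ∀ h, (ρ h).hom.left w0 = w0)
    (hfree0 : ∀ h : H, h ≠ 1 →
      W.left.fromSpecResidueField w0 ≫ (ρ h).hom.left ≠ W.left.fromSpecResidueField w0) :
    ∃ (V : Over S) (j : V ⟶ W) (ρV : H →* Aut V), IsAffine V.left ∧ IsOpenImmersion j.left ∧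
      (∀ h, (ρV h).hom ≫ j = j ≫ (ρ h).hom) ∧ w0 ∈ Set.range j.left ∧
      ∀ (g : H) (x : V.left), g ≠ 1 →
        V.left.fromSpecResidueField x ≫ (ρV g).hom.left ≠ V.left.fromSpecResidueField x := by
  obtain ⟨V₁, hV₁aff, hV₁st, hw0V₁, -⟩ := exists_stable_affine ρ w0 hw0 ⊤ trivial
  obtain ⟨W₁, j₁, ρ₁, hj₁o, hj₁r, hj₁e, hj₁a⟩ := exists_restrict ρ V₁ hV₁st
  haveI : IsAffine W₁.left := hj₁a hV₁aff
  haveI := hj₁o
  obtain ⟨w1, hw1⟩ : w0 ∈ Set.range j₁.left := by rw [hj₁r]; exact hw0V₁
  have hinj₁ : Function.Injective j₁.left := j₁.left.isOpenEmbedding.injective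
  have hw1fix : ∀ h, (ρ₁ h).hom.left w1 = w1 := by
    intro h
    apply hinj₁
    rw [← Scheme.Hom.comp_apply, ← Over.comp_left, hj₁e, Over.comp_left, Scheme.Hom.comp_apply,
      hw1, hw0 h]
  have hfree1 : ∀ h : H, h ≠ 1 →
      W₁.left.fromSpecResidueField w1 ≫ (ρ₁ h).hom.left ≠ W₁.left.fromSpecResidueField w1 := by
    intro h hh e
    have := fixed_of_fixed ρ ρ₁ j₁ hj₁e h w1 e
    rw [hw1] at this
    exact hfree0 h hh this
  obtain ⟨O₁, hw1O, hO₁⟩ := exists_free_nbhd ρ₁ w1 hfree1
  obtain ⟨V₂, hV₂aff, hV₂st, hw1V₂, hV₂O⟩ := exists_stable_affine ρ₁ w1 hw1fix O₁ hw1O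
  obtain ⟨W₂, j₂, ρ₂, hj₂o, hj₂r, hj₂e, hj₂a⟩ := exists_restrict ρ₁ V₂ hV₂st
  haveI := hj₂o
  obtain ⟨w2, hw2⟩ : w1 ∈ Set.range j₂.left := by rw [hj₂r]; exact hw1V₂
  refine ⟨W₂, j₂ ≫ j₁, ρ₂, hj₂a hV₂aff, ?_, ?_, ?_, ?_⟩
  · rw [Over.comp_left]
    infer_instance
  · intro h
    rw [← Category.assoc, hj₂e, Category.assoc, hj₁e, Category.assoc]
  · exact ⟨w2, by rw [Over.comp_left, Scheme.Hom.comp_apply, hw2, hw1]⟩
  · intro g x hg e
    have h1 := fixed_of_fixed ρ₁ ρ₂ j₂ hj₂e g x e
    have hx : j₂.left x ∈ O₁ := by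
      apply hV₂O
      have : j₂.left x ∈ Set.range j₂.left := ⟨x, rfl⟩
      rwa [hj₂r] at this
    exact hO₁ _ hx g hg h1

end Shrink

end Groth.Agent.Lead.HFib
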