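import Mathlib
import Groth.Prelude.Def_AlgSp
import Groth.Agent.Lib.Helper2.AlgSp.FreeAct
import Groth.Agent.Lib.Helper2.AlgSp.EtEqvQuot
import Groth.Agent.Lib.Helper2.AlgSp.QuotEff
import Groth.Agent.Lib.Helper2.AlgSp.FinLocFreeQuot2
import Groth.Agent.Lib.Helper2.AlgSp.FinLocFree
import Groth.Agent.Lib.Helper2.AlgSp.LocP
import Groth.Agent.Lib.Helper9.FE.SigmaFinite

/-!
# The quotient of an affine etale chart by a free finite group action (lead)
-/

set_option backward.isDefEq.respectTransparency.types false
set_option autoImplicit false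
set_option synthInstance.maxHeartbeats 400000
set_option maxHeartbeats 1000000
set_option linter.style.haveILetI false
set_option linter.unusedSectionVars false
set_option linter.unusedSimpArgs false

open CategoryTheory CategoryTheory.Limits AlgebraicGeometry Opposite AlgSp
open Groth.Agent.Helper2.AlgSpBasic Groth.Agent.Helper2.Coprod

namespace Groth.Agent.Lead.HFib
universe u
variable {S : Scheme.{u}}

open Groth.Agent.Helper2 in
/-- The quotient of an affine etale chart of an algebraic space by a free action of a finite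
group through automorphisms of the chart is an affine etale chart. -/
theorem exists_quotient_chart {X : Sp S} (hX : IsAlgSpace X) {V : Over S} [IsAffine V.left]
    {H : Type u} [Group H] [Finite H] (ρ : H →* Aut V)
    (hfree : ∀ (g : H) (x : V.left), g ≠ 1 →
      V.left.fromSpecResidueField x ≫ (ρ g).hom.left ≠ V.left.fromSpecResidueField x)
    (aV : (yon S).obj V ⟶ X) (haV : RepWith @Etale aV)
    (hinv : ∀ h, (yon S).map (ρ h).hom ≫ aV = aV) :
    ∃ (M : Over S) (q : V ⟶ M) (p : (yon S).obj M ⟶ X), IsAffine M.left ∧ RepWith @Etale p ∧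
      (yon S).map q ≫ p = aV ∧ ∀ h, (ρ h).hom ≫ q = q := by
  let c : Cofan (fun _ : H => V) :=
    Cofan.mk (sigmaOver (fun _ : H => V)) (sigmaOverι (fun _ : H => V))
  let hc : IsColimit c := FreeAct.isColimitSigmaOver (fun _ : H => V)
  let s : c.pt ⟶ V := hc.desc (Cofan.mk V (fun _ => 𝟙 V))
  let t : c.pt ⟶ V := hc.desc (Cofan.mk V (fun g => (ρ g).hom))
  have hs : ∀ g, c.inj g ≫ s = 𝟙 V := fun g => hc.fac (Cofan.mk V (fun _ => 𝟙 V)) ⟨g⟩
  have ht : ∀ g, c.inj g ≫ t = (ρ g).hom :=
    fun g => hc.fac (Cofan.mk V (fun g => (ρ g).hom)) ⟨g⟩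
  have hrel : IsEtaleEqvRel s t := FreeAct.isEtaleEqvRel_of_free ρ hfree c hc s t hs ht
  have hY : IsAlgSpace (QuotSh.quot Scheme.fppfPrecoverage s t) := AlgSpDesc.isAlgSpace_quot s t hrel
  have pres := QuotEff.isPresentation_qπ s t hrel hY
  -- `s` is finite locally free
  have hsleft : s.left = Sigma.desc (fun _ : H => 𝟙 V.left) := rfl
  have hfin : finLocFree s.left := by
    rw [hsleft]
    refine ⟨?_, ?_, ?_⟩
    · exact H9FE.isFinite_sigmaDesc (fun _ : H => V.left) (fun _ => 𝟙 V.left)
        (fun _ => inferInstance)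
    · exact IsZariskiLocalAtSource.sigmaDesc (P := @Flat) (fun _ => inferInstance)
    · exact IsZariskiLocalAtSource.sigmaDesc (P := @LocallyOfFinitePresentation)
        (fun _ => inferInstance)
  have hflf : RepWith finLocFree (QuotEff.qπ s t) :=
    FinLocFree.repWith_of_etale_cover finLocFree FinLocFree.finLocFree_le_isAffineHom
      (QuotEff.qπ s t) V (QuotEff.qπ s t) pres.etale pres.surjective ((yon S).map t)
      ((yon S).map s) pres.isPullback ((repWith_yon_map_iff finLocFree s).mpr hfin)
  obtain ⟨M, q, e, hM, hqe⟩ :=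
    FinLocFreeQuot.exists_iso_yon_of_finLocFree_affine (QuotEff.qπ s t) hflf pres.surjective
  -- the induced map from the quotient
  have hst : (yon S).map s ≫ aV = (yon S).map t ≫ aV := by
    apply (FreeAct.isColimitYonCofan c hc).hom_ext
    rintro ⟨g⟩
    show (yon S).map (c.inj g) ≫ (yon S).map s ≫ aV = (yon S).map (c.inj g) ≫ (yon S).map t ≫ aV
    rw [← Category.assoc, ← Category.assoc, ← Functor.map_comp, ← Functor.map_comp, hs, ht,
      CategoryTheory.Functor.map_id, Category.id_comp, hinv]
  let m : QuotSh.quot Scheme.fppfPrecoverage s t ⟶ X :=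
    coequalizer.desc ((QuotSh.repIsoUliftYoneda Scheme.fppfPrecoverage V).hom ≫ aV) (by
      rw [← Category.assoc, ← Category.assoc, QuotEff.repMap_repIso, QuotEff.repMap_repIso,
        Category.assoc, Category.assoc, hst])
  have hm : QuotEff.qπ s t ≫ m = aV := by
    show ((QuotSh.repIsoUliftYoneda Scheme.fppfPrecoverage V).inv ≫
      QuotSh.quotπ Scheme.fppfPrecoverage s t) ≫ m = aV
    rw [Category.assoc]
    show (QuotSh.repIsoUliftYoneda Scheme.fppfPrecoverage V).inv ≫
      coequalizer.π _ _ ≫ coequalizer.desc _ _ = aV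
    rw [coequalizer.π_desc, Iso.inv_hom_id_assoc]
  have hqet : Etale q.left := by
    have h1 : RepWith @Etale ((yon S).map q ≫ e.hom) := by rw [hqe]; exact pres.etale
    have h2 : RepWith @Etale (((yon S).map q ≫ e.hom) ≫ e.inv) :=
      MorphismProperty.RespectsIso.postcomp _ e.inv _ h1
    rw [Category.assoc, Iso.hom_inv_id, Category.comp_id] at h2
    exact (repWith_yon_map_iff @Etale q).1 h2
  have hqsurj : Surjective q.left := by
    have h1 : RepWith @Surjective ((yon S).map q ≫ e.hom) := by rw [hqe]; exact pres.surjective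
    have h2 : RepWith @Surjective (((yon S).map q ≫ e.hom) ≫ e.inv) :=
      MorphismProperty.RespectsIso.postcomp _ e.inv _ h1
    rw [Category.assoc, Iso.hom_inv_id, Category.comp_id] at h2
    exact (repWith_yon_map_iff @Surjective q).1 h2
  have hcomp : (yon S).map q ≫ e.hom ≫ m = aV := by
    rw [← Category.assoc, hqe, hm]
  refine ⟨M, q, e.hom ≫ m, hM, ?_, hcomp, ?_⟩
  · apply repWith_etale_of_comp_surjective_etale @Etale hX q hqet hqsurj
    rw [hcomp]
    exact haV
  · intro h
    apply (yon S).map_injective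
    rw [← cancel_mono e.hom, Functor.map_comp, Category.assoc, hqe]
    have h1 := QuotEff.qπ_condition s t
    have h2 := congrArg (fun φ => (yon S).map (c.inj h) ≫ φ) h1
    simp only [← Category.assoc, ← Functor.map_comp, hs, ht] at h2
    rw [CategoryTheory.Functor.map_id, Category.id_comp] at h2
    exact h2.symm

end Groth.Agent.Lead.HFib
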