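import Mathlib
import Groth.Prelude.Def_AlgSp
import Groth.Agent.Lib.Helper2.AlgSp.FreeAct
import Groth.Agent.Lib.Helper2.AlgSp.Diag
import Groth.Agent.Lib.Helper2.AlgSp.ResidueSep
import Groth.Agent.Lib.Helper2.AlgSp.FormalUnr

/-!
# Galois points of an etale chart over a field valued point of an algebraic space (lead)
-/

set_option backward.isDefEq.respectTransparency.types false
set_option autoImplicit false
set_option synthInstance.maxHeartbeats 400000
set_option maxHeartbeats 1000000
set_option linter.style.haveILetI false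
set_option linter.unusedSectionVars false
set_option linter.unusedSimpArgs false

open CategoryTheory CategoryTheory.Limits AlgebraicGeometry Opposite AlgSp
open Groth.Agent.Helper2.AlgSpBasic Groth.Agent.Helper2.AlgSpFormal

namespace Groth.Agent.Lead.HFib
universe u
variable {S : Scheme.{u}}

/-- Maps of sheaves out of `h_T` agreeing after an fppf cover of `T` are equal. -/
theorem yon_cancel_fppf {T' T : Over S} (p : T' ⟶ T)
    (hp : (@Flat ⊓ @LocallyOfFinitePresentation : MorphismProperty Scheme.{u}) p.left)
    (hs : Function.Surjective p.left) {F : Sp S} (a b : (yon S).obj T ⟶ F)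
    (h : (yon S).map p ≫ a = (yon S).map p ≫ b) : a = b :=
  hom_ext_of_family (fun _ : PUnit.{1} => T') (fun _ => p) (fun _ => hp) (fun x => ⟨⟨⟩, hs x⟩) a b
    (fun _ => h)

theorem fppf_spec_field {F E : Type u} [Field F] [Field E] (f : F →+* E) (hfin : f.Finite) :
    (@Flat ⊓ @LocallyOfFinitePresentation : MorphismProperty Scheme.{u})
      (Spec.map (CommRingCat.ofHom f)) ∧
    Function.Surjective (Spec.map (CommRingCat.ofHom f)) := by
  refine ⟨⟨?_, ?_⟩, ?_⟩
  · rw [HasRingHomProperty.Spec_iff (P := @Flat)]
    letI : Algebra F E := f.toAlgebra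
    show Module.Flat F E
    infer_instance
  · rw [HasRingHomProperty.Spec_iff (P := @LocallyOfFinitePresentation)]
    exact RingHom.FinitePresentation.of_finiteType.1 (RingHom.FiniteType.of_finite hfin)
  · intro y
    haveI : Subsingleton (Spec (CommRingCat.of F)) :=
      inferInstanceAs (Subsingleton (PrimeSpectrum F))
    haveI : Nonempty (Spec (CommRingCat.of E)) := inferInstanceAs (Nonempty (PrimeSpectrum E))
    exact ⟨Classical.arbitrary _, Subsingleton.elim _ _⟩

section Fields
variable {k : Type u} [Field k] (str : Spec (CommRingCat.of k) ⟶ S)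

/-- `Spec K` over `S` through `Spec k`. -/
noncomputable def spK (K : Type u) [Field K] [Algebra k K] : Over S :=
  Over.mk (Spec.map (CommRingCat.ofHom (algebraMap k K)) ≫ str)

noncomputable def piK (K : Type u) [Field K] [Algebra k K] : spK str K ⟶ Over.mk str :=
  Over.homMk (Spec.map (CommRingCat.ofHom (algebraMap k K))) rfl

noncomputable def spMap {K K' : Type u} [Field K] [Field K'] [Algebra k K] [Algebra k K']
    (σ : K →ₐ[k] K') : spK str K' ⟶ spK str K :=
  Over.homMk (Spec.map (CommRingCat.ofHom σ.toRingHom)) (by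
    show Spec.map (CommRingCat.ofHom σ.toRingHom) ≫
      Spec.map (CommRingCat.ofHom (algebraMap k K)) ≫ str =
        Spec.map (CommRingCat.ofHom (algebraMap k K')) ≫ str
    rw [← Category.assoc, ← Spec.map_comp]
    congr 2
    ext x
    exact σ.commutes x)

theorem spMap_left {K K' : Type u} [Field K] [Field K'] [Algebra k K] [Algebra k K']
    (σ : K →ₐ[k] K') : (spMap str σ).left = Spec.map (CommRingCat.ofHom σ.toRingHom) := rfl

theorem spMap_comp {K K' K'' : Type u} [Field K] [Field K'] [Field K''] [Algebra k K]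
    [Algebra k K'] [Algebra k K''] (σ : K →ₐ[k] K') (τ : K' →ₐ[k] K'') :
    spMap str (τ.comp σ) = spMap str τ ≫ spMap str σ := by
  ext
  show Spec.map (CommRingCat.ofHom (τ.comp σ).toRingHom) =
    Spec.map (CommRingCat.ofHom τ.toRingHom) ≫ Spec.map (CommRingCat.ofHom σ.toRingHom)
  rw [← Spec.map_comp]
  rfl

theorem spMap_id (K : Type u) [Field K] [Algebra k K] :
    spMap str (AlgHom.id k K) = 𝟙 (spK str K) := by
  ext
  show Spec.map (CommRingCat.ofHom (AlgHom.id k K).toRingHom) = 𝟙 _
  exact Spec.map_id _

theorem spMap_piK {K K' : Type u} [Field K] [Field K'] [Algebra k K] [Algebra k K']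
    (σ : K →ₐ[k] K') : spMap str σ ≫ piK str K = piK str K' := by
  ext
  show Spec.map (CommRingCat.ofHom σ.toRingHom) ≫
    Spec.map (CommRingCat.ofHom (algebraMap k K)) = Spec.map (CommRingCat.ofHom (algebraMap k K'))
  rw [← Spec.map_comp]
  congr 1
  ext x
  exact σ.commutes x

theorem spMap_fppf {K K' : Type u} [Field K] [Field K'] [Algebra k K] [Algebra k K']
    [FiniteDimensional k K'] (σ : K →ₐ[k] K') :
    (@Flat ⊓ @LocallyOfFinitePresentation : MorphismProperty Scheme.{u}) (spMap str σ).left ∧
      Function.Surjective (spMap str σ).left := by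
  apply fppf_spec_field
  letI : Algebra K K' := σ.toRingHom.toAlgebra
  haveI : IsScalarTower k K K' := IsScalarTower.of_algebraMap_eq' (by
    ext x
    exact (σ.commutes x).symm)
  have : Module.Finite K K' := Module.Finite.of_restrictScalars_finite k K K'
  exact RingHom.finite_algebraMap.2 this

theorem piK_fppf (K : Type u) [Field K] [Algebra k K] [FiniteDimensional k K] :
    (@Flat ⊓ @LocallyOfFinitePresentation : MorphismProperty Scheme.{u}) (piK str K).left ∧
      Function.Surjective (piK str K).left := by
  apply fppf_spec_field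
  exact RingHom.finite_algebraMap.2 inferInstance

/-- The automorphism of `Spec K` over `S` induced by a `k`-automorphism of `K`. -/
noncomputable def phi {K : Type u} [Field K] [Algebra k K] (g : K ≃ₐ[k] K) :
    spK str K ⟶ spK str K := spMap str (g : K →ₐ[k] K)

theorem phi_mul {K : Type u} [Field K] [Algebra k K] (g h : K ≃ₐ[k] K) :
    phi str (g * h) = phi str g ≫ phi str h := by
  unfold phi
  rw [← spMap_comp]
  rfl

theorem phi_one {K : Type u} [Field K] [Algebra k K] :
    phi str (1 : K ≃ₐ[k] K) = 𝟙 (spK str K) := by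
  unfold phi
  rw [← spMap_id]
  rfl

theorem phi_piK {K : Type u} [Field K] [Algebra k K] (g : K ≃ₐ[k] K) :
    phi str g ≫ piK str K = piK str K := spMap_piK str _

/-- A point of a scheme with values in `K` which is invariant under a subgroup of the Galois group
descends to the fixed field. -/
theorem exists_descend {K : Type u} [Field K] [Algebra k K] (N : Subgroup (K ≃ₐ[k] K))
    {U : Over S} (u : spK str K ⟶ U) (hu : ∀ h ∈ N, phi str h ≫ u = u) :
    ∃ u' : spK str (IntermediateField.fixedField N) ⟶ U,
      spMap str (IntermediateField.fixedField N).val ≫ u' = u := by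
  haveI : Subsingleton (Spec (CommRingCat.of K)) :=
    inferInstanceAs (Subsingleton (PrimeSpectrum K))
  haveI : Nonempty (Spec (CommRingCat.of K)) := inferInstanceAs (Nonempty (PrimeSpectrum K))
  let pt : Spec (CommRingCat.of K) := Classical.arbitrary _
  let ul : Spec (CommRingCat.of K) ⟶ U.left := u.left
  let x : U.left := ul pt
  obtain ⟨V, hV, hxV, -⟩ := exists_isAffineOpen_mem_and_subset (x := x) (U := ⊤) trivial
  have hrange : Set.range ul ⊆ Set.range hV.fromSpec := by
    rw [hV.range_fromSpec]
    rintro _ ⟨y, rfl⟩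
    rw [Subsingleton.elim y pt]
    exact hxV
  let v : Spec (CommRingCat.of K) ⟶ Spec Γ(U.left, V) :=
    IsOpenImmersion.lift hV.fromSpec ul hrange
  have hv : v ≫ hV.fromSpec = ul := IsOpenImmersion.lift_fac _ _ _
  let ψ : Γ(U.left, V) ⟶ CommRingCat.of K := Spec.preimage v
  have hψ : Spec.map ψ = v := Spec.map_preimage _
  have hfix : ∀ h ∈ N, ∀ a, h (ψ.hom a) = ψ.hom a := by
    intro h hh a
    have e1 : Spec.map (CommRingCat.ofHom (h : K →ₐ[k] K).toRingHom) ≫ ul = ul :=
      congrArg (fun m => m.left) (hu h hh)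
    have e2 : Spec.map (CommRingCat.ofHom (h : K →ₐ[k] K).toRingHom) ≫ v = v := by
      rw [← cancel_mono hV.fromSpec, Category.assoc, hv]
      exact e1
    rw [← hψ, ← Spec.map_comp] at e2
    have e3 := Spec.map_injective e2
    exact congrArg (fun φ => φ.hom a) e3
  let K' := IntermediateField.fixedField N
  let ψ' : Γ(U.left, V) →+* K' := ψ.hom.codRestrict K' (fun a => by
    rw [IntermediateField.mem_fixedField_iff]
    intro h hh
    exact hfix h hh a)
  have hψ' : CommRingCat.ofHom ψ' ≫ CommRingCat.ofHom (K'.val : K' →ₐ[k] K).toRingHom = ψ := by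
    ext a
    rfl
  haveI := Groth.Agent.Helper2.FreeAct.epi_spec_map_field (K := CommRingCat.of K')
    (L := CommRingCat.of K) (Field.toIsField _) (Field.toIsField _)
    (CommRingCat.ofHom (K'.val : K' →ₐ[k] K).toRingHom)
  have hfac : Spec.map (CommRingCat.ofHom (K'.val : K' →ₐ[k] K).toRingHom) ≫
      Spec.map (CommRingCat.ofHom ψ') ≫ hV.fromSpec = ul := by
    rw [← Category.assoc, ← Spec.map_comp, hψ', hψ, hv]
  have hover : (Spec.map (CommRingCat.ofHom ψ') ≫ hV.fromSpec) ≫ U.hom =
      Spec.map (CommRingCat.ofHom (algebraMap k K')) ≫ str := by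
    rw [← cancel_epi (Spec.map (CommRingCat.ofHom (K'.val : K' →ₐ[k] K).toRingHom)),
      ← Category.assoc, hfac]
    have h1 : ul ≫ U.hom = Spec.map (CommRingCat.ofHom (algebraMap k K)) ≫ str := Over.w u
    rw [h1, ← Category.assoc, ← Spec.map_comp]
    rfl
  refine ⟨Over.homMk (Spec.map (CommRingCat.ofHom ψ') ≫ hV.fromSpec) hover, ?_⟩
  ext
  exact hfac

variable {X : Sp S} {U : Over S}

/-- A finite Galois extension `K` of `k` with a `K`-point of the chart `U` over the given
`k`-point of `X`. -/
structure GalPt (z : (yon S).obj (Over.mk str) ⟶ X) (c : (yon S).obj U ⟶ X) where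
  K : Type u
  [field : Field K]
  [alg : Algebra k K]
  [fin : FiniteDimensional k K]
  [gal : IsGalois k K]
  u : spK str K ⟶ U
  compat : (yon S).map u ≫ c = (yon S).map (piK str K) ≫ z

attribute [instance] GalPt.field GalPt.alg GalPt.fin GalPt.gal

theorem nonempty_galPt (hX : IsAlgSpace X) (z : (yon S).obj (Over.mk str) ⟶ X)
    (c : (yon S).obj U ⟶ X) (hce : RepWith @Etale c) (hcs : RepWith @Surjective c) :
    Nonempty (GalPt str z c) := by
  obtain ⟨P, p1, p2, sq⟩ := exists_isPullback_yon hX.diag z c
  have he : Etale p1.left := hce.property z _ _ sq.flip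
  have hsj : Surjective p1.left := hcs.property z _ _ sq.flip
  haveI : Nonempty (Spec (CommRingCat.of k)) := inferInstanceAs (Nonempty (PrimeSpectrum k))
  obtain ⟨t, -⟩ := hsj.surj (Classical.arbitrary (Spec (CommRingCat.of k)))
  let d : P.left ⟶ Spec (CommRingCat.of k) := p1.left
  haveI : Etale d := he
  let L := P.left.residueField t
  letI algL : Algebra k L := (Spec.preimage (P.left.fromSpecResidueField t ≫ d)).hom.toAlgebra
  obtain ⟨hfin, hsep⟩ := finite_separable_residueField_over_field d t
  haveI : Module.Finite k L := hfin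
  haveI : Algebra.IsSeparable k L := hsep
  let Ω := SeparableClosure k
  let σ : L →ₐ[k] Ω := IsSepClosed.lift
  let K : IntermediateField k Ω := IntermediateField.normalClosure k L Ω
  haveI : FiniteDimensional k K := normalClosure.is_finiteDimensional k L Ω
  haveI : IsGalois k K := IsGalois.normalClosure k L Ω
  let ι : L →ₐ[k] K := σ.codRestrict K.toSubalgebra
    (fun x => σ.fieldRange_le_normalClosure ⟨x, rfl⟩)
  have hL : P.left.fromSpecResidueField t ≫ d = Spec.map (CommRingCat.ofHom (algebraMap k L)) := by
    rw [← Spec.map_preimage (P.left.fromSpecResidueField t ≫ d)]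
    rfl
  have hιk : Spec.map (CommRingCat.ofHom ι.toRingHom) ≫
      Spec.map (CommRingCat.ofHom (algebraMap k L)) =
        Spec.map (CommRingCat.ofHom (algebraMap k K)) := by
    rw [← Spec.map_comp]
    congr 1
    apply CommRingCat.hom_ext
    apply RingHom.ext
    intro x
    exact ι.commutes x
  have hover : (Spec.map (CommRingCat.ofHom ι.toRingHom) ≫ P.left.fromSpecResidueField t) ≫
      P.hom = Spec.map (CommRingCat.ofHom (algebraMap k K)) ≫ str := by
    have h1 : d ≫ str = P.hom := Over.w p1
    rw [← h1, Category.assoc, ← Category.assoc (P.left.fromSpecResidueField t), hL,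
      ← Category.assoc, hιk]
  let ut : spK str K ⟶ P :=
    Over.homMk (Spec.map (CommRingCat.ofHom ι.toRingHom) ≫ P.left.fromSpecResidueField t) hover
  have hut : ut ≫ p1 = piK str K := by
    ext
    show (Spec.map (CommRingCat.ofHom ι.toRingHom) ≫ P.left.fromSpecResidueField t) ≫ d =
      Spec.map (CommRingCat.ofHom (algebraMap k K))
    rw [Category.assoc, hL, hιk]
  refine ⟨{ K := K, u := ut ≫ p2, compat := ?_ }⟩
  rw [Functor.map_comp, Category.assoc, ← sq.w, ← Category.assoc, ← Functor.map_comp, hut]

/-- A Galois point of minimal degree is acted on faithfully by the Galois group. -/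
theorem exists_faithful_galPt (hX : IsAlgSpace X) (z : (yon S).obj (Over.mk str) ⟶ X)
    (c : (yon S).obj U ⟶ X) (hce : RepWith @Etale c) (hcs : RepWith @Surjective c) :
    ∃ P : GalPt str z c, ∀ h : P.K ≃ₐ[k] P.K,
      (∀ g : P.K ≃ₐ[k] P.K, phi str (h * g) ≫ P.u = phi str g ≫ P.u) → h = 1 := by
  classical
  obtain ⟨P0⟩ := nonempty_galPt str hX z c hce hcs
  have hex : ∃ n, ∃ P : GalPt str z c, Module.finrank k P.K = n := ⟨_, P0, rfl⟩
  obtain ⟨P, hP⟩ := Nat.find_spec hex
  have hmin : ∀ P' : GalPt str z c, Module.finrank k P.K ≤ Module.finrank k P'.K := by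
    intro P'
    rw [hP]
    exact Nat.find_min' hex ⟨P', rfl⟩
  refine ⟨P, fun h hh => ?_⟩
  by_contra hne
  let N : Subgroup (P.K ≃ₐ[k] P.K) :=
    { carrier := {h | ∀ g, phi str (h * g) ≫ P.u = phi str g ≫ P.u}
      one_mem' := fun g => by rw [one_mul]
      mul_mem' := fun {a b} ha hb g => by
        rw [mul_assoc, ha (b * g), hb g]
      inv_mem' := fun {a} ha g => by
        have := ha (a⁻¹ * g)
        rw [mul_inv_cancel_left] at this
        exact this.symm }
  haveI hN : N.Normal := ⟨fun n hn x g => by
    have h1 : x * n * x⁻¹ * g = x * (n * (x⁻¹ * g)) := by group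
    rw [h1, phi_mul, Category.assoc, hn (x⁻¹ * g), ← Category.assoc, ← phi_mul,
      mul_inv_cancel_left]⟩
  have hNbot : N ≠ ⊥ := by
    intro e
    have : h ∈ N := hh
    rw [e, Subgroup.mem_bot] at this
    exact hne this
  let K' := IntermediateField.fixedField N
  obtain ⟨u', hu'⟩ := exists_descend str N P.u (fun h hh => by
    have := hh 1
    rwa [mul_one, phi_one, Category.id_comp] at this)
  have hfp := spMap_fppf str (K'.val : K' →ₐ[k] P.K)
  let P' : GalPt str z c :=
    { K := K'
      u := u'
      compat := by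
        apply yon_cancel_fppf (spMap str (K'.val : K' →ₐ[k] P.K)) hfp.1 hfp.2
        rw [← Category.assoc, ← Functor.map_comp, hu', ← Category.assoc, ← Functor.map_comp,
          spMap_piK, P.compat] }
  have h1 : Module.finrank k P.K ≤ Module.finrank k K' := hmin P'
  have h2 : Module.finrank k K' * Module.finrank K' P.K = Module.finrank k P.K :=
    Module.finrank_mul_finrank k K' P.K
  have h3 : Module.finrank K' P.K = Nat.card N := IntermediateField.finrank_fixedField_eq_card N
  have h4 : 1 < Nat.card N := (Subgroup.one_lt_card_iff_ne_bot N).2 hNbot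
  have h5 : 0 < Module.finrank k K' := Module.finrank_pos
  rw [h3] at h2
  nlinarith

end Fields

end Groth.Agent.Lead.HFib
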