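import Mathlib
import Groth.Prelude.Def_AlgSp
import Groth.Agent.Lib.Lead.HFibA
import Groth.Agent.Lib.Lead.HFibB
import Groth.Agent.Lib.Lead.HFibC
import Groth.Agent.Lib.Lead.HFibD
import Groth.Agent.Lib.Lead.HFibE

/-!
# Field valued points of algebraic spaces lift to affine etale charts (lead)
-/

set_option backward.isDefEq.respectTransparency.types false
set_option autoImplicit false
set_option synthInstance.maxHeartbeats 400000
set_option maxHeartbeats 1000000
set_option linter.style.haveILetI false
set_option linter.unusedSectionVars false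
set_option linter.unusedSimpArgs false

open CategoryTheory CategoryTheory.Limits AlgebraicGeometry Opposite AlgSp
open Groth.Agent.Helper2.AlgSpBasic

namespace Groth.Agent.Lead.HFib
universe u
variable {S : Scheme.{u}}

/-- Every point of an algebraic space with values in a field lifts to an affine etale chart. -/
theorem exists_affine_chart_of_field {X : Sp S} (hX : IsAlgSpace X) {k : Type u} [Field k]
    (str : Spec (CommRingCat.of k) ⟶ S) (z : (yon S).obj (Over.mk str) ⟶ X) :
    ∃ (Z : Over S) (p : (yon S).obj Z ⟶ X) (g : Over.mk str ⟶ Z),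
      IsAffine Z.left ∧ RepWith @Etale p ∧ (yon S).map g ≫ p = z := by
  classical
  obtain ⟨U, c, hce, hcs⟩ := hX.atlas
  obtain ⟨P, hfaith⟩ := exists_faithful_galPt str hX z c hce hcs
  let K := P.K
  let H := K ≃ₐ[k] K
  haveI : Fintype H := inferInstanceAs (Fintype (K ≃ₐ[k] K))
  obtain ⟨W, pr, hW⟩ := exists_isFibPow hX.diag c (Finset.univ : Finset H)
    ⟨1, Finset.mem_univ _⟩
  obtain ⟨ρ, hρ⟩ := exists_action hW
  have hu : ∀ g : H, (yon S).map (phi str g ≫ P.u) ≫ c = (yon S).map P.u ≫ c := by
    intro g
    rw [Functor.map_comp, Category.assoc, P.compat, ← Category.assoc, ← Functor.map_comp,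
      phi_piK]
  obtain ⟨w, hw, hweq⟩ := exists_point hW ρ hρ (phi str) (phi_mul str) P.u hu
  haveI : Subsingleton (Spec (CommRingCat.of K)) :=
    inferInstanceAs (Subsingleton (PrimeSpectrum K))
  haveI : Nonempty (Spec (CommRingCat.of K)) := inferInstanceAs (Nonempty (PrimeSpectrum K))
  let pt : Spec (CommRingCat.of K) := Classical.arbitrary _
  let wl : Spec (CommRingCat.of K) ⟶ W.left := w.left
  let w0 : W.left := wl pt
  have hweq' : ∀ h : H, w ≫ (ρ h).hom = phi str h⁻¹ ≫ w := by
    intro h
    have := hweq h⁻¹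
    rw [inv_inv] at this
    exact this.symm
  have hfix : ∀ h : H, (ρ h).hom.left w0 = w0 := by
    intro h
    let φl : Spec (CommRingCat.of K) ⟶ Spec (CommRingCat.of K) := (phi str h⁻¹).left
    have e1 : wl ≫ (ρ h).hom.left = φl ≫ wl :=
      congrArg (fun m => m.left) (hweq' h)
    show (ρ h).hom.left (wl pt) = wl pt
    rw [← Scheme.Hom.comp_apply, e1, Scheme.Hom.comp_apply]
    congr 1
    exact Subsingleton.elim _ _
  have hfree0 : ∀ h : H, h ≠ 1 →
      W.left.fromSpecResidueField w0 ≫ (ρ h).hom.left ≠ W.left.fromSpecResidueField w0 := by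
    intro h hh e
    apply hh
    -- `w` is fixed by `ρ h`
    have hfac := Scheme.Hom.SpecMap_residueFieldMap_fromSpecResidueField wl pt
    have hepi : Epi ((Spec (CommRingCat.of K)).fromSpecResidueField pt) := by
      rw [← Spec.map_preimage ((Spec (CommRingCat.of K)).fromSpecResidueField pt)]
      exact Groth.Agent.Helper2.FreeAct.epi_spec_map_field (Field.toIsField K)
        (Field.toIsField _) _
    have e2 : wl ≫ (ρ h).hom.left = wl := by
      rw [← cancel_epi ((Spec (CommRingCat.of K)).fromSpecResidueField pt), ← Category.assoc,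
        ← hfac, Category.assoc, e]
    have e3 : w ≫ (ρ h).hom = w := by
      ext
      exact e2
    have e4 : phi str h⁻¹ ≫ w = w := by rw [← hweq' h, e3]
    have e5 : h⁻¹ = 1 := by
      apply hfaith
      intro g
      rw [phi_mul, Category.assoc, ← hw g, ← Category.assoc, e4]
    exact inv_eq_one.1 e5
  obtain ⟨V, j, ρV, hVaff, hjo, hje, hw0j, hfreeV⟩ := exists_free_affine ρ w0 hfix hfree0
  haveI := hVaff
  haveI := hjo
  -- the chart `V ⟶ X`
  let aV : (yon S).obj V ⟶ X := (yon S).map j ≫ (yon S).map (pr 1) ≫ c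
  have haV : RepWith @Etale aV := by
    have h1 : Etale j.left := inferInstance
    have h2 : Etale (pr 1).left := hW.etale hce 1 (Finset.mem_univ _)
    exact repWith_comp @Etale ((repWith_yon_map_iff @Etale _).mpr h1)
      (repWith_comp @Etale ((repWith_yon_map_iff @Etale _).mpr h2) hce)
  have hinv : ∀ h, (yon S).map (ρV h).hom ≫ aV = aV := by
    intro h
    show (yon S).map (ρV h).hom ≫ (yon S).map j ≫ (yon S).map (pr 1) ≫ c = _
    rw [← Category.assoc, ← Functor.map_comp, hje, Functor.map_comp, Category.assoc,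
      action_invariant hW ρ hρ h]
  obtain ⟨M, q, p, hM, hp, hqp, hqinv⟩ := exists_quotient_chart hX ρV hfreeV aV haV hinv
  -- lift the point to `V`
  have hrange : Set.range wl ⊆ Set.range j.left := by
    rintro _ ⟨y, rfl⟩
    rw [Subsingleton.elim y pt]
    exact hw0j
  let wV : spK str K ⟶ V := Over.homMk (IsOpenImmersion.lift j.left wl hrange) (by
    have h1 : j.left ≫ W.hom = V.hom := Over.w j
    rw [← h1, ← Category.assoc, IsOpenImmersion.lift_fac]
    exact Over.w w)
  have hwV : wV ≫ j = w := by
    ext
    exact IsOpenImmersion.lift_fac _ _ _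
  have hjmono : ∀ {T : Over S} (l l' : T ⟶ V), l ≫ j = l' ≫ j → l = l' := by
    intro T l l' e
    ext
    have e' := congrArg (fun m => m.left) e
    simp only [Over.comp_left] at e'
    exact (cancel_mono j.left).1 e'
  have hwVeq : ∀ h : H, phi str h ≫ wV = wV ≫ (ρV h⁻¹).hom := by
    intro h
    apply hjmono
    rw [Category.assoc, hwV, Category.assoc, hje, ← Category.assoc, hwV, hweq h]
  -- the invariant point of the quotient
  have hqinvpt : ∀ h ∈ (⊤ : Subgroup H), phi str h ≫ (wV ≫ q) = wV ≫ q := by
    intro h _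
    rw [← Category.assoc, hwVeq, Category.assoc, hqinv]
  obtain ⟨u', hu'⟩ := exists_descend str (⊤ : Subgroup H) (wV ≫ q) hqinvpt
  let K' := IntermediateField.fixedField (⊤ : Subgroup H)
  have hK' : K' = ⊥ := IsGalois.fixedField_top
  let b : K' →ₐ[k] k := (IntermediateField.botEquiv k K).toAlgHom.comp
    (IntermediateField.inclusion (le_of_eq hK'))
  have hb : ∀ x : K', algebraMap k K' (b x) = x := by
    intro x
    apply b.toRingHom.injective
    show b (algebraMap k K' (b x)) = b x
    rw [b.commutes]
    rfl
  let ek : Over.mk str ⟶ spK str K' := Over.homMk (Spec.map (CommRingCat.ofHom b.toRingHom)) (by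
    show Spec.map (CommRingCat.ofHom b.toRingHom) ≫
      Spec.map (CommRingCat.ofHom (algebraMap k K')) ≫ str = str
    rw [← Category.assoc, ← Spec.map_comp]
    have : CommRingCat.ofHom (algebraMap k K') ≫ CommRingCat.ofHom b.toRingHom =
        𝟙 (CommRingCat.of k) := by
      apply CommRingCat.hom_ext
      apply RingHom.ext
      intro x
      exact b.commutes x
    rw [this, Spec.map_id, Category.id_comp])
  have hek : piK str K ≫ ek = spMap str (K'.val : K' →ₐ[k] K) := by
    ext
    show Spec.map (CommRingCat.ofHom (algebraMap k K)) ≫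
      Spec.map (CommRingCat.ofHom b.toRingHom) =
        Spec.map (CommRingCat.ofHom (K'.val : K' →ₐ[k] K).toRingHom)
    rw [← Spec.map_comp]
    congr 1
    apply CommRingCat.hom_ext
    apply RingHom.ext
    intro x
    show algebraMap k K (b x) = (x : K)
    conv_rhs => rw [← hb x]
    rfl
  refine ⟨M, p, ek ≫ u', hM, hp, ?_⟩
  have hfp := piK_fppf str K
  apply yon_cancel_fppf (piK str K) hfp.1 hfp.2
  rw [← Category.assoc, ← Functor.map_comp, ← Category.assoc, hek, hu', Functor.map_comp,
    Category.assoc, hqp]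
  show (yon S).map wV ≫ (yon S).map j ≫ (yon S).map (pr 1) ≫ c = _
  rw [← Category.assoc, ← Functor.map_comp, hwV, ← Category.assoc, ← Functor.map_comp, hw 1,
    phi_one, Category.id_comp, P.compat]

end Groth.Agent.Lead.HFib
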