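import Mathlib
import Groth.Prelude.Def_AlgSp
import Groth.Agent.Lib.Lead.HFibF
import Groth.Agent.Lib.Helper7.SmoothSection

/-!
# Henselian lifting along smooth charts of algebraic spaces (lead)
-/

set_option backward.isDefEq.respectTransparency.types false
set_option autoImplicit false
set_option synthInstance.maxHeartbeats 400000
set_option maxHeartbeats 1000000
set_option linter.style.haveILetI false
set_option linter.unusedSectionVars false
set_option linter.unusedSimpArgs false

open CategoryTheory CategoryTheory.Limits AlgebraicGeometry Opposite AlgSp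
open Groth.Agent.Helper2.AlgSpBasic

namespace Groth.Agent.Lead.HFib
universe u
variable {S : Scheme.{u}}

/-- The closed point of the spectrum of a local ring, as a morphism over `S`. -/
noncomputable def resMap (R : Type u) [CommRing R] [IsLocalRing R]
    (str : Spec (CommRingCat.of R) ⟶ S) :
    Over.mk (Spec.map (CommRingCat.ofHom (IsLocalRing.residue R)) ≫ str) ⟶ Over.mk str :=
  Over.homMk (Spec.map (CommRingCat.ofHom (IsLocalRing.residue R))) rfl

/-- Henselian lifting along a chart which is smooth over the algebraic space. -/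
theorem exists_lift_of_smooth_chart {X : Sp S} (hX : IsAlgSpace X) (R : Type u) [CommRing R]
    [HenselianLocalRing R] (str : Spec (CommRingCat.of R) ⟶ S) {V : Over S}
    (pV : (yon S).obj V ⟶ X) (hpV : RepWith @Smooth pV) (z : (yon S).obj (Over.mk str) ⟶ X)
    (v₀ : Over.mk (Spec.map (CommRingCat.ofHom (IsLocalRing.residue R)) ≫ str) ⟶ V)
    (hv₀ : (yon S).map v₀ ≫ pV = (yon S).map (resMap R str) ≫ z) :
    ∃ v : Over.mk str ⟶ V, (yon S).map v ≫ pV = z ∧ resMap R str ≫ v = v₀ := by
  obtain ⟨Q, q1, q2, sq⟩ := exists_isPullback_yon hX.diag z pV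
  have hsm : Smooth q1.left := hpV.property z _ _ sq.flip
  obtain ⟨l₀, hl₀⟩ := (yon S).map_surjective
    (sq.lift ((yon S).map (resMap R str)) ((yon S).map v₀) hv₀.symm)
  have hl1 : l₀ ≫ q1 = resMap R str := (yon S).map_injective (by
    rw [Functor.map_comp, hl₀, sq.lift_fst])
  have hl2 : l₀ ≫ q2 = v₀ := (yon S).map_injective (by
    rw [Functor.map_comp, hl₀, sq.lift_snd])
  let f : Q.left ⟶ Spec (CommRingCat.of R) := q1.left
  haveI : Smooth f := hsm
  let u₀ : Spec (CommRingCat.of (IsLocalRing.ResidueField R)) ⟶ Q.left := l₀.left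
  have h₀ : u₀ ≫ f = Spec.map (CommRingCat.ofHom (IsLocalRing.residue R)) :=
    congrArg (fun m => m.left) hl1
  obtain ⟨u, hu1, hu2⟩ := Groth.Agent.Helper7.SmoothSection.S5038_main R f u₀ h₀
  let σ : Over.mk str ⟶ Q := Over.homMk u (by
    have h1 : f ≫ str = Q.hom := Over.w q1
    rw [← h1, ← Category.assoc, hu1]
    exact Category.id_comp _)
  have hσ1 : σ ≫ q1 = 𝟙 _ := by
    ext
    exact hu1
  have hσ2 : resMap R str ≫ σ = l₀ := by
    ext
    exact hu2
  refine ⟨σ ≫ q2, ?_, ?_⟩
  · rw [Functor.map_comp, Category.assoc, ← sq.w, ← Category.assoc, ← Functor.map_comp, hσ1,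
      CategoryTheory.Functor.map_id, Category.id_comp]
  · rw [← Category.assoc, hσ2, hl2]

/-- Every point of an algebraic space with values in a henselian local ring lifts to an affine
etale chart. -/
theorem exists_affine_chart_of_henselian {X : Sp S} (hX : IsAlgSpace X) (R : Type u) [CommRing R]
    [HenselianLocalRing R] (str : Spec (CommRingCat.of R) ⟶ S)
    (z : (yon S).obj (Over.mk str) ⟶ X) :
    ∃ (Z : Over S) (p : (yon S).obj Z ⟶ X) (g : Over.mk str ⟶ Z),
      IsAffine Z.left ∧ RepWith @Etale p ∧ (yon S).map g ≫ p = z := by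
  obtain ⟨Z, p, g₀, hZ, hp, hg₀⟩ := exists_affine_chart_of_field hX
    (k := IsLocalRing.ResidueField R)
    (Spec.map (CommRingCat.ofHom (IsLocalRing.residue R)) ≫ str) ((yon S).map (resMap R str) ≫ z)
  have hps : RepWith @Smooth p := repWith_mono (fun _ _ f hf => by
    haveI : Etale f := hf
    infer_instance) hp
  obtain ⟨v, hv, -⟩ := exists_lift_of_smooth_chart hX R str p hps z g₀ hg₀
  exact ⟨Z, p, v, hZ, hp, hv⟩

end Groth.Agent.Lead.HFib
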