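import Mathlib
import Groth.Prelude.Def_AlgSp3
import Groth.Agent.Lib.Lead.HFibG
import Groth.Agent.Lib.Helper2.AlgSp.LocP
import Groth.Agent.Lib.Helper2.EtaleLocalSmooth

/-!
# Henselian lifting along smooth morphisms of algebraic spaces (lead)
-/

set_option backward.isDefEq.respectTransparency.types false
set_option autoImplicit false
set_option synthInstance.maxHeartbeats 400000
set_option maxHeartbeats 1000000
set_option linter.style.haveILetI false
set_option linter.unusedSectionVars false
set_option linter.unusedSimpArgs false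

open CategoryTheory CategoryTheory.Limits AlgebraicGeometry Opposite AlgSp
open Groth.Agent.Helper2.AlgSpBasic

namespace Groth.Agent.Lead.HFib
universe u
variable {S : Scheme.{u}}

theorem repWith_smooth_of_etale {F G : Sp S} {f : F ⟶ G} (hf : RepWith @Etale f) :
    RepWith @Smooth f :=
  repWith_mono (fun _ _ f hf => by
    haveI : Etale f := hf
    infer_instance) hf

/-- An etale chart of the source of a smooth morphism of algebraic spaces is a smooth chart
of the target. -/
theorem repWith_smooth_comp {Z X : Sp S} (hZ : IsAlgSpace Z) (hX : IsAlgSpace X) (f : Z ⟶ X)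
    (hf : LocP @Smooth f) {V : Over S} (pV : (yon S).obj V ⟶ Z) (hpV : RepWith @Etale pV) :
    RepWith @Smooth (pV ≫ f) := by
  have hV := IsAlgSpace.yon_obj V
  have h1 : LocP @Smooth pV := locP_of_repWith @Smooth hV.diag pV (repWith_smooth_of_etale hpV)
  have h2 : LocP @Smooth (pV ≫ f) := locP_comp @Smooth hV hZ hX pV f h1 hf
  exact repWith_of_locP @Smooth hV hX _ (hX.representable_from_yon _) h2

theorem exists_lift_of_smooth_mor {Z X : Sp S} (hZ : IsAlgSpace Z) (hX : IsAlgSpace X) (f : Z ⟶ X)
    (hf : LocP @Smooth f) (R : Type u) [CommRing R] [HenselianLocalRing R]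
    (str : Spec (CommRingCat.of R) ⟶ S) (z : (yon S).obj (Over.mk str) ⟶ X)
    (z₀ : (yon S).obj (Over.mk (Spec.map (CommRingCat.ofHom (IsLocalRing.residue R)) ≫ str)) ⟶ Z)
    (w : z₀ ≫ f = (yon S).map (resMap R str) ≫ z) :
    ∃ z' : (yon S).obj (Over.mk str) ⟶ Z, z' ≫ f = z ∧ (yon S).map (resMap R str) ≫ z' = z₀ := by
  obtain ⟨V, pV, v₀, -, hpV, hv₀⟩ := exists_affine_chart_of_field hZ
    (k := IsLocalRing.ResidueField R)
    (Spec.map (CommRingCat.ofHom (IsLocalRing.residue R)) ≫ str) z₀
  have hsm := repWith_smooth_comp hZ hX f hf pV hpV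
  obtain ⟨v, hv1, hv2⟩ := exists_lift_of_smooth_chart hX R str (pV ≫ f) hsm z v₀ (by
    rw [← Category.assoc, hv₀, w])
  refine ⟨(yon S).map v ≫ pV, by rw [Category.assoc, hv1], ?_⟩
  rw [← Category.assoc, ← Functor.map_comp, hv2, hv₀]

end Groth.Agent.Lead.HFib
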