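import Mathlib
import Groth.Prelude.Def_AlgSt3
import Groth.Agent.Lib.Lead.HFibH
import Groth.Agent.Lib.Helper2.AlgSt.FppfLift

/-!
# Henselian lifting along a smooth representable functor from an algebraic space to a stack (lead)
-/

set_option backward.isDefEq.respectTransparency.types false
set_option autoImplicit false
set_option synthInstance.maxHeartbeats 400000
set_option maxHeartbeats 1000000
set_option linter.style.haveILetI false
set_option linter.unusedSectionVars false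
set_option linter.unusedSimpArgs false

open CategoryTheory CategoryTheory.Limits AlgebraicGeometry Opposite
open Groth.Agent.Helper2 Groth.Agent.Helper2.FibCatLib Groth.Agent.Helper2.StkLib
open Groth.Agent.Helper2.AlgStLib

namespace Groth.Agent.Lead.HFib
universe u
variable {S : Scheme.{u}}

/-- Functors to a slice are determined, up to isomorphism, by their map of sheaves. -/
theorem nonempty_iso_ofSpMap_toOverCat {F : AlgSp.Sp S} {U : Over S}
    (Φ : AlgSt.ofSp F ⥤ᵇ FibCat.overCat U) :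
    Nonempty (BasedFunctor.comp (AlgSt.ofSpMap (AlgSt.spMapOfOver Φ)) (AlgSt.toOverCat U) ≅ Φ) := by
  have h0 : Stk.ofPshMap (AlgSt.spMapOfOver Φ).hom =
      Stk.ofPshMap (mapOfFunctor (BasedFunctor.comp Φ (AlgSt.ofOverCat U))) := by
    rw [spMapOfOver_hom]
  obtain ⟨θ⟩ := ofPshMap_mapOfFunctor_iso (BasedFunctor.comp Φ (AlgSt.ofOverCat U))
  have i1 : BasedFunctor.comp (AlgSt.ofSpMap (AlgSt.spMapOfOver Φ)) (AlgSt.toOverCat U) ≅
      BasedFunctor.comp (BasedFunctor.comp Φ (AlgSt.ofOverCat U)) (AlgSt.toOverCat U) :=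
    (postF _ (AlgSt.toOverCat U)).mapIso (eqToIso h0 ≪≫ θ)
  have i2 : BasedFunctor.comp Φ (BasedFunctor.comp (AlgSt.ofOverCat U) (AlgSt.toOverCat U)) ≅
      BasedFunctor.comp Φ (BasedFunctor.id _) := whiskerLeftIso Φ (ofToIso U)
  exact ⟨i1 ≪≫ i2⟩


theorem exists_space_lift {𝒵 : AlgSt.Cat S} (Z : AlgSp.Space S)
    (f : AlgSt.ofSp Z.obj ⥤ᵇ 𝒵) (hf : AlgSt.RepByAlgSpWith (AlgSp.LocP @Smooth) f)
    (R : Type u) [CommRing R] [HenselianLocalRing R] (str : Spec (CommRingCat.of R) ⟶ S)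
    (z : FibCat.overCat (Over.mk str) ⥤ᵇ 𝒵)
    (z₀ : (AlgSp.yon S).obj (Over.mk ((Spec.map (CommRingCat.ofHom (IsLocalRing.residue R))) ≫ str)) ⟶ Z.obj)
    (w : BasedFunctor.comp (BasedFunctor.comp (AlgSt.ofOverCat (Over.mk ((Spec.map (CommRingCat.ofHom (IsLocalRing.residue R))) ≫ str))) (AlgSt.ofSpMap z₀)) f ≅
      BasedFunctor.comp (AlgSt.overMap (resMap R str)) z) :
    ∃ z' : (AlgSp.yon S).obj (Over.mk str) ⟶ Z.obj,
      (AlgSp.yon S).map (resMap R str) ≫ z' = z₀ ∧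
        Nonempty (BasedFunctor.comp (BasedFunctor.comp (AlgSt.ofOverCat (Over.mk str)) (AlgSt.ofSpMap z')) f ≅ z) := by
  let U : Over S := Over.mk str
  let U₀ : Over S := Over.mk ((Spec.map (CommRingCat.ofHom (IsLocalRing.residue R))) ≫ str)
  let ρ : U₀ ⟶ U := resMap R str
  obtain ⟨F, e, ⟨G, ⟨α⟩, ⟨β⟩⟩, hP⟩ := hf U z
  let Φ₁ : AlgSt.ofSp F.obj ⥤ᵇ FibCat.overCat U := BasedFunctor.comp e (FibCat.fpFst z f)
  let Φ₂ : AlgSt.ofSp F.obj ⥤ᵇ AlgSt.ofSp Z.obj := BasedFunctor.comp e (FibCat.fpSnd z f)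
  let π₁ : F.obj ⟶ (AlgSp.yon S).obj U := AlgSt.spMapOfOver Φ₁
  let π₂ : F.obj ⟶ Z.obj := ObjectProperty.homMk (mapOfFunctor Φ₂)
  let L : FibCat.overCat U₀ ⥤ᵇ FibCat.fp z f :=
    FibCat.fpLift (AlgSt.overMap ρ) (BasedFunctor.comp (AlgSt.ofOverCat U₀) (AlgSt.ofSpMap z₀)) w.symm
  let x₀ : (AlgSp.yon S).obj U₀ ⟶ F.obj := ObjectProperty.homMk (secMap (BasedFunctor.comp L G))
  -- the two compatibilities
  have hx1 : x₀ ≫ π₁ = (AlgSp.yon S).map ρ := by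
    rw [← spMapOfOver_toOverCat_overMap ρ]
    apply ObjectProperty.hom_ext
    change secMap (BasedFunctor.comp L G) ≫ (AlgSt.spMapOfOver Φ₁).hom = (AlgSt.spMapOfOver _).hom
    rw [spMapOfOver_hom, spMapOfOver_hom]
    unfold secMap
    rw [← mapOfFunctor_comp]
    have γ : BasedFunctor.comp (BasedFunctor.comp (AlgSt.toOverCat U₀) (BasedFunctor.comp L G))
        (BasedFunctor.comp Φ₁ (AlgSt.ofOverCat U)) ⟶
        BasedFunctor.comp (BasedFunctor.comp (AlgSt.toOverCat U₀) (AlgSt.overMap ρ)) (AlgSt.ofOverCat U) :=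
      BasedCategory.whiskerLeft (BasedFunctor.comp (AlgSt.toOverCat U₀) L)
        (BasedCategory.whiskerRight β.hom (BasedFunctor.comp (FibCat.fpFst z f) (AlgSt.ofOverCat U)))
    exact mapOfFunctor_congr γ
  have hx2 : x₀ ≫ π₂ = z₀ := by
    apply ObjectProperty.hom_ext
    change secMap (BasedFunctor.comp L G) ≫ mapOfFunctor Φ₂ = z₀.hom
    unfold secMap
    rw [← mapOfFunctor_comp]
    have γ : BasedFunctor.comp (BasedFunctor.comp (AlgSt.toOverCat U₀) (BasedFunctor.comp L G)) Φ₂ ⟶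
        BasedFunctor.comp (BasedFunctor.comp (AlgSt.toOverCat U₀) (AlgSt.ofOverCat U₀)) (AlgSt.ofSpMap z₀) :=
      BasedCategory.whiskerLeft (BasedFunctor.comp (AlgSt.toOverCat U₀) L)
        (BasedCategory.whiskerRight β.hom (FibCat.fpSnd z f))
    rw [mapOfFunctor_congr γ]
    have γ' : BasedFunctor.comp (BasedFunctor.comp (AlgSt.toOverCat U₀) (AlgSt.ofOverCat U₀)) (AlgSt.ofSpMap z₀) ⟶
        AlgSt.ofSpMap z₀ :=
      BasedCategory.whiskerRight (toOfIso U₀).hom (AlgSt.ofSpMap z₀)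
    rw [mapOfFunctor_congr γ']
    exact mapOfFunctor_ofPshMap z₀.hom
  obtain ⟨x, hxa, hxb⟩ := exists_lift_of_smooth_mor F.property (AlgSp.IsAlgSpace.yon_obj U) π₁ hP R str
    (𝟙 _) x₀ (by rw [hx1]; exact (Category.comp_id _).symm)
  refine ⟨x ≫ π₂, ?_, ?_⟩
  · rw [← Category.assoc, hxb, hx2]
  · obtain ⟨c1⟩ := ofPshMap_comp_iso x.hom π₂.hom
    obtain ⟨c2⟩ := ofPshMap_mapOfFunctor_iso Φ₂
    obtain ⟨c3⟩ := nonempty_iso_ofSpMap_toOverCat Φ₁
    obtain ⟨c4⟩ := ofPshMap_comp_iso x.hom π₁.hom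
    obtain ⟨c5⟩ := ofPshMap_id_iso (P := ((AlgSp.yon S).obj U).obj)
    have hid : x.hom ≫ π₁.hom = 𝟙 _ := congrArg (fun m => m.hom) hxa
    -- `ofSpMap (x ≫ π₂) ≅ ofSpMap x ⋙ Φ₂`
    have j1 : AlgSt.ofSpMap (x ≫ π₂) ≅ BasedFunctor.comp (AlgSt.ofSpMap x) Φ₂ :=
      c1.symm ≪≫ whiskerLeftIso (AlgSt.ofSpMap x) c2
    -- `ofSpMap x ⋙ Φ₁ ≅ toOverCat U`
    have j2 : BasedFunctor.comp (AlgSt.ofSpMap x) Φ₁ ≅ AlgSt.toOverCat U :=
      whiskerLeftIso (AlgSt.ofSpMap x) c3.symm ≪≫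
        (postF _ (AlgSt.toOverCat U)).mapIso (c4 ≪≫ eqToIso (by rw [hid]) ≪≫ c5)
    -- assemble
    have k1 : BasedFunctor.comp (BasedFunctor.comp (AlgSt.ofOverCat U) (AlgSt.ofSpMap (x ≫ π₂))) f ≅
        BasedFunctor.comp (BasedFunctor.comp (AlgSt.ofOverCat U) (BasedFunctor.comp (AlgSt.ofSpMap x) Φ₂)) f :=
      (postF _ f).mapIso (whiskerLeftIso (AlgSt.ofOverCat U) j1)
    have k2 : BasedFunctor.comp (BasedFunctor.comp (AlgSt.ofOverCat U) (BasedFunctor.comp (AlgSt.ofSpMap x) e))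
        (BasedFunctor.comp (FibCat.fpSnd z f) f) ≅
        BasedFunctor.comp (BasedFunctor.comp (AlgSt.ofOverCat U) (BasedFunctor.comp (AlgSt.ofSpMap x) e))
        (BasedFunctor.comp (FibCat.fpFst z f) z) :=
      whiskerLeftIso _ (FibCat.fpIso z f).symm
    have k3 : BasedFunctor.comp (BasedFunctor.comp (AlgSt.ofOverCat U) (BasedFunctor.comp (AlgSt.ofSpMap x) Φ₁)) z ≅
        BasedFunctor.comp (BasedFunctor.comp (AlgSt.ofOverCat U) (AlgSt.toOverCat U)) z :=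
      (postF _ z).mapIso (whiskerLeftIso (AlgSt.ofOverCat U) j2)
    have k4 : BasedFunctor.comp (BasedFunctor.comp (AlgSt.ofOverCat U) (AlgSt.toOverCat U)) z ≅
        BasedFunctor.comp (BasedFunctor.id _) z :=
      (postF _ z).mapIso (ofToIso U)
    exact ⟨k1 ≪≫ k2 ≪≫ k3 ≪≫ k4⟩
end Groth.Agent.Lead.HFib
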