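import Mathlib
import Groth.Prelude.Def_IntMult
import Groth.Agent.Lib.Helper1.TorL

/-!
# Tor-formula multiplicity against a principal ideal generated by a regular element (lead)
-/

set_option backward.isDefEq.respectTransparency.types false
set_option synthInstance.maxHeartbeats 400000
set_option autoImplicit false
set_option linter.unusedSectionVars false
set_option linter.style.haveILetI false
universe u
open CategoryTheory TensorProduct

namespace Groth.Agent.Lead.IntCart

open Groth.Agent.Helper1.TorL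

variable {A : Type u} [CommRing A]

theorem smul_top_quot (J K : Ideal A) :
    K • (⊤ : Submodule A (A ⧸ J)) = Submodule.map J.mkQ (J ⊔ K) := by
  rw [Submodule.map_sup]
  have h1 : Submodule.map J.mkQ J = ⊥ := by
    rw [eq_bot_iff]
    rintro _ ⟨x, hx, rfl⟩
    rw [Submodule.mem_bot, Submodule.mkQ_apply, Submodule.Quotient.mk_eq_zero]
    exact hx
  rw [h1, bot_sup_eq]
  have h2 : (⊤ : Submodule A (A ⧸ J)) = Submodule.map J.mkQ ⊤ := by
    rw [Submodule.map_top, Submodule.range_mkQ]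
  rw [h2, ← Submodule.map_smul'']
  congr 1
  rw [Ideal.smul_eq_mul, Ideal.mul_top]

/-- `(A/J) ⊗ (A/K) ≃ A/(J ⊔ K)` linearly -/
noncomputable def tensorQuotEquiv (J K : Ideal A) :
    ((A ⧸ J) ⊗[A] (A ⧸ K)) ≃ₗ[A] (A ⧸ (J ⊔ K)) :=
  (TensorProduct.tensorQuotEquivQuotSMul (A ⧸ J) K).trans
    ((Submodule.quotEquivOfEq _ _ (smul_top_quot J K)).trans
      (Submodule.quotientQuotientEquivQuotient J (J ⊔ K) le_sup_left))

theorem length_tor_zero (J K : Ideal A) :
    Module.length A (DRing.Tor A 0 (A ⧸ J) (A ⧸ K)) = Module.length A (A ⧸ (J ⊔ K)) := by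
  have e1 : DRing.Tor A 0 (A ⧸ J) (A ⧸ K) ≃ₗ[A] ((A ⧸ J) ⊗[A] (A ⧸ K)) :=
    (tor0Iso (ModuleCat.of A (A ⧸ J)) (ModuleCat.of A (A ⧸ K))).toLinearEquiv
  exact (e1.trans (tensorQuotEquiv J K)).length_eq

theorem length_tor_succ (J : Ideal A) (g : A) (hgA : IsSMulRegular A g)
    (hgM : IsSMulRegular (A ⧸ J) g) (n : ℕ) :
    Module.length A (DRing.Tor A (n + 1) (A ⧸ J) (A ⧸ Ideal.span {g})) = 0 := by
  have h := isZero_tor_quotient_span_singleton (R := A) (A ⧸ J) g hgA hgM n
  haveI : Subsingleton (DRing.Tor A (n + 1) (A ⧸ J) (A ⧸ Ideal.span {g})) :=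
    ModuleCat.subsingleton_of_isZero h
  exact Module.length_eq_zero

/-- the Tor-formula Euler characteristic against `A/(g)` for `g` regular on `A` and on `A/J` -/
theorem chi_eq_length (J : Ideal A) (g : A) (hgA : IsSMulRegular A g)
    (hgM : IsSMulRegular (A ⧸ J) g) :
    IntMult.chi A (A ⧸ J) (A ⧸ Ideal.span {g}) =
      ((Module.length A (A ⧸ (J ⊔ Ideal.span {g}))).toNat : ℤ) := by
  unfold IntMult.chi
  rw [finsum_eq_single _ 0]
  · rw [pow_zero, one_mul, length_tor_zero]
  · intro i hi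
    obtain ⟨n, rfl⟩ := Nat.exists_eq_succ_of_ne_zero hi
    rw [length_tor_succ J g hgA hgM n]
    simp

end Groth.Agent.Lead.IntCart
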