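import Mathlib
import Groth.Prelude.Def_IntMult
import Groth.Prelude.Def_CAlg
import Groth.Agent.Lib.Lead.IntCart1
import Groth.Agent.Lib.Helper4.KosRes3
import Groth.Agent.Lib.Helper8.Koszul6
import Groth.Agent.Lib.Lead.KoszCM1

/-!
# Tor-formula multiplicity against a regular sequence on a Cohen–Macaulay quotient (lead)
-/

set_option backward.isDefEq.respectTransparency.types false
set_option synthInstance.maxHeartbeats 400000
set_option autoImplicit false
set_option linter.unusedSectionVars false
set_option linter.style.haveILetI false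
universe u
open CategoryTheory TensorProduct

namespace Groth.Agent.Lead.IntReg

open Groth.Agent.Helper1.TorL Groth.Agent.Lead.IntCart

variable {A : Type u} [CommRing A]

theorem length_tor_succ_of_koszul (J : Ideal A) (l : List A) (hl : LCI.IsKoszulRegularSeq A l)
    (hl' : LCI.IsKoszulRegularSeq (A ⧸ J) (l.map (algebraMap A (A ⧸ J)))) (n : ℕ) :
    Module.length A (DRing.Tor A (n + 1) (A ⧸ J) (A ⧸ Ideal.span {x | x ∈ l})) = 0 := by
  have h := Groth.Agent.Lib.Helper4.KosRes3.isZero_tor_quotient A (A ⧸ J) l hl hl' n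
  have h' := (Groth.Agent.Helper1.TorBal.isZero_tor_symm (n + 1)
    (ModuleCat.of A (A ⧸ Ideal.span {x | x ∈ l})) (ModuleCat.of A (A ⧸ J))).1 h
  haveI : Subsingleton (DRing.Tor A (n + 1) (A ⧸ J) (A ⧸ Ideal.span {x | x ∈ l})) :=
    ModuleCat.subsingleton_of_isZero h'
  exact Module.length_eq_zero

theorem chi_eq_length_of_koszul (J : Ideal A) (l : List A) (hl : LCI.IsKoszulRegularSeq A l)
    (hl' : LCI.IsKoszulRegularSeq (A ⧸ J) (l.map (algebraMap A (A ⧸ J)))) :
    IntMult.chi A (A ⧸ J) (A ⧸ Ideal.span {x | x ∈ l}) =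
      ((Module.length A (A ⧸ (J ⊔ Ideal.span {x | x ∈ l}))).toNat : ℤ) := by
  unfold IntMult.chi
  rw [finsum_eq_single _ 0]
  · rw [pow_zero, one_mul, length_tor_zero]
  · intro i hi
    obtain ⟨n, rfl⟩ := Nat.exists_eq_succ_of_ne_zero hi
    rw [length_tor_succ_of_koszul J l hl hl' n]
    simp

/-- the algebraic core: `χ(A/J, A/(g)) = length A/(J + (g))` when `g` is `A`-regular, `A/J` is
Cohen–Macaulay of dimension at least the length of `g`, and `J + (g)` is primary to the maximal
ideal -/
theorem core [IsLocalRing A] [IsNoetherianRing A] (J : Ideal A)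
    [LocCoh.IsCohenMacaulayLocalRing (A ⧸ J)] (c : ℕ) (g : Fin c → A)
    (hreg : RingTheory.Sequence.IsRegular A (List.ofFn g))
    (hdim : (c : WithBot ℕ∞) ≤ ringKrullDim (A ⧸ J))
    (hmax : ∀ P : Ideal A, P.IsPrime → J ≤ P → Ideal.span (Set.range g) ≤ P →
      P = IsLocalRing.maximalIdeal A) :
    IntMult.chi A (A ⧸ J) (A ⧸ Ideal.span (Set.range g)) =
      ((Module.length A (A ⧸ (J ⊔ Ideal.span (Set.range g)))).toNat : ℤ) := by
  set l := List.ofFn g with hl_def
  have hset : {x | x ∈ l} = Set.range g := by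
    ext x
    simp [hl_def, List.mem_ofFn]
  have hl : LCI.IsKoszulRegularSeq A l :=
    (Groth.Agent.Helper8.KoszulLib.koszul_regular l hreg.toIsWeaklyRegular).1
  haveI : IsLocalRing (A ⧸ J) := inferInstance
  have hJtop : J ≠ ⊤ := by
    intro h
    have : Subsingleton (A ⧸ J) := by
      rw [h]; infer_instance
    exact not_subsingleton (A ⧸ J) this
  have hJm : J ≤ IsLocalRing.maximalIdeal A := IsLocalRing.le_maximalIdeal hJtop
  have hgm : Ideal.span (Set.range g) ≤ IsLocalRing.maximalIdeal A := by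
    rw [← hset]
    apply IsLocalRing.le_maximalIdeal
    intro h
    apply hreg.top_ne_smul
    have h2 : Ideal.ofList l = ⊤ := h
    rw [h2]
    simp
  set l' := l.map (algebraMap A (A ⧸ J)) with hl'_def
  have hofl' : Ideal.ofList l' = (Ideal.span (Set.range g)).map (Ideal.Quotient.mk J) := by
    rw [Ideal.map_span, ← hset]
    change Ideal.span {x | x ∈ l'} = _
    congr 1
    ext x
    simp only [hl'_def, List.mem_map, Set.mem_setOf_eq, Set.mem_image]
    rfl
  have hmB : (IsLocalRing.maximalIdeal A).map (Ideal.Quotient.mk J) =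
      IsLocalRing.maximalIdeal (A ⧸ J) := by
    haveI : ((IsLocalRing.maximalIdeal A).map (Ideal.Quotient.mk J)).IsMaximal :=
      Ideal.IsMaximal.map_of_surjective_of_ker_le Ideal.Quotient.mk_surjective
        (by rw [Ideal.mk_ker]; exact hJm)
    exact IsLocalRing.eq_maximalIdeal inferInstance
  have hne : Ideal.ofList l' ≠ ⊤ := by
    intro h
    have h1 : Ideal.ofList l' ≤ IsLocalRing.maximalIdeal (A ⧸ J) := by
      rw [hofl', ← hmB]
      exact Ideal.map_mono hgm
    rw [h] at h1
    exact (IsLocalRing.maximalIdeal.isMaximal (A ⧸ J)).ne_top (top_le_iff.mp h1)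
  have hlen : l'.length = c := by
    simp [hl'_def, hl_def]
  have hht : (l'.length : ℕ∞) ≤ (Ideal.ofList l').height := by
    rw [hlen, Ideal.height_eq_inf_minimalPrimes]
    refine le_iInf₂ fun P hP => ?_
    haveI hPp : P.IsPrime := hP.1.1
    have hPle : Ideal.ofList l' ≤ P := hP.1.2
    have hP' : P.comap (Ideal.Quotient.mk J) = IsLocalRing.maximalIdeal A := by
      apply hmax _ (Ideal.comap_isPrime _ _)
      · intro x hx
        rw [Ideal.mem_comap, Ideal.Quotient.eq_zero_iff_mem.mpr hx]
        exact P.zero_mem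
      · rw [← Ideal.map_le_iff_le_comap, ← hofl']
        exact hPle
    have hPm : P = IsLocalRing.maximalIdeal (A ⧸ J) := by
      rw [← hmB, ← hP', Ideal.map_comap_of_surjective _ Ideal.Quotient.mk_surjective]
    rw [hPm]
    have h3 := IsLocalRing.maximalIdeal_height_eq_ringKrullDim (R := A ⧸ J)
    rw [← h3] at hdim
    exact_mod_cast hdim
  have hregB : RingTheory.Sequence.IsRegular (A ⧸ J) l' :=
    Groth.Agent.Lead.KoszCM.isRegular_of_height_ge (A ⧸ J) l' hne hht
  have hl' : LCI.IsKoszulRegularSeq (A ⧸ J) l' :=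
    (Groth.Agent.Helper8.KoszulLib.koszul_regular l' hregB.toIsWeaklyRegular).1
  have := chi_eq_length_of_koszul J l hl hl'
  rw [hset] at this
  exact this

end Groth.Agent.Lead.IntReg
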