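import Mathlib
import Groth.Prelude.Def_CohB1
import Groth.Agent.Lib.Lead.FLF7

/-!
# Support of a finite type quasi-coherent module and powers of an ideal (lead)
-/

set_option autoImplicit false
universe u
open CategoryTheory CategoryTheory.Limits AlgebraicGeometry TopologicalSpace Opposite
set_option backward.isDefEq.respectTransparency.types false

namespace Groth.Agent.Lead.SuppPow

open Scheme.Modules Groth.Agent.Lead.SD Groth.Agent.Helper1

variable {X : Scheme.{u}}

attribute [local instance] stalkModule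

/-- an element killing the sections over an affine open kills the stalks -/
theorem stalk_smul_eq_zero (F : X.Modules) [F.IsQuasicoherent] {V : X.Opens} (hV : IsAffineOpen V)
    (x : V) (b : Γ(X, V)) (hb : ∀ m : Γ(F, V), b • m = 0) (y : F.presheaf.stalk x.1) :
    X.presheaf.germ V x.1 x.2 b • y = 0 := by
  haveI := isLocalizedModule_germ F hV x
  obtain ⟨⟨m, s⟩, hms⟩ :=
    IsLocalizedModule.surj (hV.primeIdealOf x).asIdeal.primeCompl (germₗ F x) y
  have hms' : (s : Γ(X, V)) • y = germₗ F x m := hms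
  have h1 : (s : Γ(X, V)) • (b • y) = (s : Γ(X, V)) • (0 : F.presheaf.stalk x.1) := by
    rw [smul_comm, hms', ← LinearMap.map_smul, hb, map_zero, smul_zero]
  have h2 : b • y = 0 :=
    (IsLocalizedModule.smul_inj (germₗ F x) s (b • y) 0).1 h1
  exact h2

theorem subsingleton_stalk_of_ann (F : X.Modules) [F.IsQuasicoherent] {V : X.Opens}
    (hV : IsAffineOpen V) (x : V) (a : Γ(X, V)) (hx : x.1 ∈ X.basicOpen a)
    (ha : ∀ m : Γ(F, V), a • m = 0) : Subsingleton (F.presheaf.stalk x.1) := by
  have key : ∀ y : F.presheaf.stalk x.1, y = 0 := by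
    intro y
    have h := stalk_smul_eq_zero F hV x a ha y
    have hu : IsUnit (X.presheaf.germ V x.1 x.2 a) := (Scheme.mem_basicOpen X a x.1 x.2).1 hx
    obtain ⟨u, hu'⟩ := hu
    rw [← hu'] at h
    have := congrArg (fun z => (↑u⁻¹ : X.presheaf.stalk x.1) • z) h
    simpa [smul_smul] using this
  exact ⟨fun y z => by rw [key y, key z]⟩

theorem exists_pow_ann (F : X.Modules) [F.IsQuasicoherent] (hF : CohB1.IsFT F)
    (I₀ : X.IdealSheafData) (hsupp : CohB1.support F ⊆ (I₀.support : Set X))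
    (V : X.affineOpens) (hfg : (I₀.ideal V).FG) :
    ∃ n : ℕ, ∀ a ∈ I₀.ideal V ^ n, ∀ m : Γ(F, V.1), a • m = 0 := by
  haveI : Module.Finite Γ(X, V.1) Γ(F, V.1) := Groth.Agent.Lead.FLF.ft_sections F hF V.2
  have hrad : I₀.ideal V ≤ (Module.annihilator Γ(X, V.1) Γ(F, V.1)).radical := by
    have hz : PrimeSpectrum.zeroLocus (Module.annihilator Γ(X, V.1) Γ(F, V.1) : Set Γ(X, V.1)) ⊆
        PrimeSpectrum.zeroLocus (I₀.ideal V : Set Γ(X, V.1)) := by
      rw [← Module.support_eq_zeroLocus]
      intro p hp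
      rw [Module.mem_support_iff] at hp
      obtain ⟨x, hpx⟩ : ∃ x : V.1, V.2.primeIdealOf x = p := ⟨_, primeIdealOf_fromSpec V.2 p⟩
      haveI := isLocalizedModule_germ F V.2 x
      have hnt : ¬ Subsingleton (F.presheaf.stalk x.1) := by
        intro hs
        let e := IsLocalizedModule.iso (V.2.primeIdealOf x).asIdeal.primeCompl (germₗ F x)
        rw [← hpx] at hp
        haveI : Subsingleton (LocalizedModule (V.2.primeIdealOf x).asIdeal.primeCompl Γ(F, V.1)) :=
          e.toEquiv.subsingleton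
        exact not_subsingleton _ ‹_›
      have hxs : x.1 ∈ I₀.support := hsupp hnt
      rw [Scheme.IdealSheafData.mem_support_iff_of_mem (U := V) x.2] at hxs
      intro f hf
      by_contra hfp
      have hxf : x.1 ∈ X.basicOpen f := (mem_basicOpen_iff V.2 x f).2 (by rw [hpx]; exact hfp)
      exact (X.mem_zeroLocus_iff _ _).1 hxs f hf hxf
    exact (PrimeSpectrum.zeroLocus_subset_zeroLocus_iff _ _).1 hz
  obtain ⟨n, hn⟩ := Ideal.exists_pow_le_of_le_radical_of_fg hrad hfg
  exact ⟨n, fun a ha m => Module.mem_annihilator.1 (hn ha) m⟩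

theorem stalkIdeal_congr (I₀ : X.IdealSheafData) (x : X) {W W' : X.affineOpens} (h : W = W')
    (hx : x ∈ W.1) (hx' : x ∈ W'.1) :
    (I₀.ideal W).map (X.presheaf.germ W.1 x hx).hom =
      (I₀.ideal W').map (X.presheaf.germ W'.1 x hx').hom := by
  subst h
  rfl

theorem stalkIdeal_basicOpen (I₀ : X.IdealSheafData) (x : X) (U : X.affineOpens) (f : Γ(X, U.1))
    (hxU : x ∈ U.1) (hxf : x ∈ X.basicOpen f) :
    (I₀.ideal U).map (X.presheaf.germ U.1 x hxU).hom =
      (I₀.ideal (X.affineBasicOpen f)).map (X.presheaf.germ (X.basicOpen f) x hxf).hom := by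
  have h := I₀.map_ideal_basicOpen U f
  calc (I₀.ideal U).map (X.presheaf.germ U.1 x hxU).hom
      = Ideal.map ((X.presheaf.germ (X.basicOpen f) x hxf).hom.comp
          (X.presheaf.map (homOfLE (X.basicOpen_le f)).op).hom) (I₀.ideal U) := by
        congr 1
        rw [← CommRingCat.hom_comp, X.presheaf.germ_res]
    _ = Ideal.map (X.presheaf.germ (X.basicOpen f) x hxf).hom
          (Ideal.map (X.presheaf.map (homOfLE (X.basicOpen_le f)).op).hom (I₀.ideal U)) :=
        (Ideal.map_map _ _).symm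
    _ = _ := congrArg (Ideal.map (X.presheaf.germ (X.basicOpen f) x hxf).hom) h

theorem stalkIdeal_eq (I₀ : X.IdealSheafData) {U V : X.affineOpens} (x : X) (hxU : x ∈ U.1)
    (hxV : x ∈ V.1) :
    (I₀.ideal U).map (X.presheaf.germ U.1 x hxU).hom =
      (I₀.ideal V).map (X.presheaf.germ V.1 x hxV).hom := by
  obtain ⟨f, g, hfg, hxf⟩ := exists_basicOpen_le_affine_inter U.2 V.2 x ⟨hxU, hxV⟩
  have hxg : x ∈ X.basicOpen g := hfg ▸ hxf
  have hW : X.affineBasicOpen f = X.affineBasicOpen g := Subtype.ext hfg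
  rw [stalkIdeal_basicOpen I₀ x U f hxU hxf, stalkIdeal_basicOpen I₀ x V g hxV hxg]
  exact stalkIdeal_congr I₀ x hW hxf hxg

theorem main (X : Scheme.{u}) [CompactSpace X]
    (I₀ : X.IdealSheafData) (hI₀ : ∀ V : X.affineOpens, (I₀.ideal V).FG)
    (F : X.Modules) [F.IsQuasicoherent] (hF : CohB1.IsFT F) :
    CohB1.support F ⊆ (I₀.support : Set X) ↔
      ∃ I : X.IdealSheafData, (∀ V : X.affineOpens, (I.ideal V).FG) ∧
        (I.support : Set X) = (I₀.support : Set X) ∧
        ∀ (V : X.affineOpens) (a : Γ(X, V)), a ∈ I.ideal V → ∀ m : F.val.obj (op V.1), a • m = 0 := by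
  constructor
  · intro hsupp
    choose n hn using fun V : X.affineOpens => exists_pow_ann F hF I₀ hsupp V (hI₀ V)
    obtain ⟨t, ht⟩ := isCompact_univ.elim_finite_subcover (fun V : X.affineOpens => (V.1 : Set X))
      (fun V => V.1.2) (by
        intro x _
        obtain ⟨V, hV, hxV, -⟩ := Opens.isBasis_iff_nbhd.mp X.isBasis_affineOpens
          (U := ⊤) (x := x) trivial
        exact Set.mem_iUnion.2 ⟨⟨V, hV⟩, hxV⟩)
    let N := t.sup n
    refine ⟨I₀ ^ (N + 1), ?_, ?_, ?_⟩
    · intro V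
      change (I₀.ideal V ^ (N + 1)).FG
      exact (hI₀ V).pow
    · rw [Scheme.IdealSheafData.support_pow_succ]
    · intro V a ha m
      have ha' : a ∈ I₀.ideal V ^ (N + 1) := ha
      change (a • (show Γ(F, V.1) from m)) = 0
      apply F.isSheaf.section_ext (U := Opposite.op V.1)
      intro x hx
      obtain ⟨Vi, hVi, hxVi⟩ : ∃ Vi ∈ t, x ∈ Vi.1 := by
        have := ht (Set.mem_univ x)
        simpa using this
      -- the germ of `a` kills the stalk
      have hann : X.presheaf.germ V.1 x hx a ∈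
          Module.annihilator (X.presheaf.stalk x) (F.presheaf.stalk x) := by
        have h1 : X.presheaf.germ V.1 x hx a ∈
            (I₀.ideal V ^ (N + 1)).map (X.presheaf.germ V.1 x hx).hom :=
          Ideal.mem_map_of_mem _ ha'
        rw [Ideal.map_pow, stalkIdeal_eq I₀ x hx hxVi, ← Ideal.map_pow] at h1
        have hle : (I₀.ideal Vi ^ (N + 1)).map (X.presheaf.germ Vi.1 x hxVi).hom ≤
            Module.annihilator (X.presheaf.stalk x) (F.presheaf.stalk x) := by
          rw [Ideal.map_le_iff_le_comap]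
          intro b hb
          have hb' : b ∈ I₀.ideal Vi ^ n Vi :=
            Ideal.pow_le_pow_right (le_trans (Finset.le_sup hVi) (Nat.le_succ _)) hb
          rw [Ideal.mem_comap, Module.mem_annihilator]
          intro y
          exact stalk_smul_eq_zero F Vi.2 ⟨x, hxVi⟩ b (hn Vi b hb') y
        exact hle h1
      have hg : F.presheaf.germ V.1 x hx (a • (show Γ(F, V.1) from m)) =
          F.presheaf.germ V.1 x hx 0 := by
        rw [germ_smul, map_zero]
        exact Module.mem_annihilator.1 hann _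
      obtain ⟨W, hxW, iU, iV, hW⟩ := TopCat.Presheaf.germ_eq F.presheaf x hx hx _ _ hg
      exact ⟨W, iU.le, hxW, hW⟩
  · rintro ⟨I, -, hsup, hann⟩ x hx
    rw [← hsup]
    by_contra hxI
    obtain ⟨V, hV, hxV, -⟩ := Opens.isBasis_iff_nbhd.mp X.isBasis_affineOpens
      (U := ⊤) (x := x) trivial
    have hxI' : ¬ x ∈ X.zeroLocus (U := V) (I.ideal ⟨V, hV⟩) := by
      rw [← Scheme.IdealSheafData.mem_support_iff_of_mem (U := ⟨V, hV⟩) hxV]
      exact hxI
    rw [X.mem_zeroLocus_iff] at hxI'
    simp only [not_forall, not_not] at hxI'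
    obtain ⟨a, ha, hxa⟩ := hxI'
    have := subsingleton_stalk_of_ann F hV ⟨x, hxV⟩ a hxa (fun m => hann ⟨V, hV⟩ a ha m)
    exact hx this

end Groth.Agent.Lead.SuppPow
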