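import Mathlib
import Groth.Prelude.Def_IntMult
import Groth.Agent.Lib.Lead.IntCart1
import Groth.Agent.Lib.Lead.SuppPow

/-!
# Intersection multiplicity with an effective Cartier divisor (lead)
-/

set_option backward.isDefEq.respectTransparency.types false
set_option synthInstance.maxHeartbeats 400000
set_option autoImplicit false
set_option linter.unusedSectionVars false
set_option linter.style.haveILetI false
universe u
open CategoryTheory AlgebraicGeometry TopologicalSpace

namespace Groth.Agent.Lead.IntCart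

section Top

/-- an irreducible set is contained in the closure of any nonempty relatively open part -/
theorem subset_closure_inter_of_irreducible {T : Type*} [TopologicalSpace T] {W U : Set T}
    (hW : IsIrreducible W) (hU : IsOpen U) (hne : (W ∩ U).Nonempty) : W ⊆ closure (W ∩ U) := by
  have h := isPreirreducible_iff_isClosed_union_isClosed.mp hW.isPreirreducible
    (closure (W ∩ U)) Uᶜ isClosed_closure hU.isClosed_compl (by
      intro x hx
      by_cases hxU : x ∈ U
      · exact Or.inl (subset_closure ⟨hx, hxU⟩)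
      · exact Or.inr hxU)
  rcases h with h | h
  · exact h
  · obtain ⟨x, hxW, hxU⟩ := hne
    exact absurd hxU (h hxW)

/-- a closed irreducible subset of full dimension in an irreducible finite-dimensional space is
everything -/
theorem eq_univ_of_le_dim {T : Type*} [TopologicalSpace T] [IrreducibleSpace T] (n : ℕ)
    (hT : topologicalKrullDim T = n) (V : Set T) (hVc : IsClosed V)
    (hV : (n : WithBot ℕ∞) ≤ topologicalKrullDim ↥V) : V = Set.univ := by
  by_contra hne
  obtain ⟨p, hp⟩ := (Order.le_krullDim_iff (α := IrreducibleCloseds ↥V) (n := n)).mp hV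
  have hemb : Topology.IsClosedEmbedding (Subtype.val : ↥V → T) := hVc.isClosedEmbedding_subtypeVal
  have hg : StrictMono (IrreducibleCloseds.map (Subtype.val : ↥V → T) hemb.continuous) :=
    IrreducibleCloseds.map_strictMono_of_isInducing hemb.isInducing
  let top : IrreducibleCloseds T := ⟨Set.univ, IrreducibleSpace.isIrreducible_univ T, isClosed_univ⟩
  have hlt : IrreducibleCloseds.map (Subtype.val : ↥V → T) hemb.continuous p.last < top := by
    refine lt_of_le_of_ne (fun x _ => Set.mem_univ x) ?_
    intro heq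
    apply hne
    have h1 : ((IrreducibleCloseds.map (Subtype.val : ↥V → T) hemb.continuous p.last :
        IrreducibleCloseds T) : Set T) ⊆ V := by
      rw [IrreducibleCloseds.coe_map]
      refine closure_minimal ?_ hVc
      rintro _ ⟨y, -, rfl⟩
      exact y.2
    rw [heq] at h1
    exact Set.eq_univ_of_univ_subset h1
  let q : LTSeries (IrreducibleCloseds T) := (p.map _ hg).snoc top hlt
  have hq : (q.length : WithBot ℕ∞) ≤ topologicalKrullDim T :=
    Order.LTSeries.length_le_krullDim q
  have hlen : q.length = p.length + 1 := rfl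
  rw [hlen, hp, hT] at hq
  have h3 : n + 1 ≤ n := by exact_mod_cast hq
  omega

end Top

section Sch

variable {X : Scheme.{u}}

theorem mem_basicOpen_iff {V : X.Opens} (hV : IsAffineOpen V) {y : X}
    (hy : y ∈ V) (s : Γ(X, V)) :
    y ∈ X.basicOpen s ↔ s ∉ (hV.primeIdealOf ⟨y, hy⟩).asIdeal := by
  have h1 : hV.fromSpec (hV.primeIdealOf ⟨y, hy⟩) = y := hV.fromSpec_primeIdealOf ⟨y, hy⟩
  have h2 := hV.fromSpec_preimage_basicOpen s
  have h3 : hV.primeIdealOf ⟨y, hy⟩ ∈ hV.fromSpec ⁻¹ᵁ X.basicOpen s ↔ y ∈ X.basicOpen s := by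
    change hV.fromSpec (hV.primeIdealOf ⟨y, hy⟩) ∈ X.basicOpen s ↔ _
    rw [h1]
  rw [← h3, h2]
  rfl

theorem mem_support_iff_le (I : X.IdealSheafData) (U : X.affineOpens) (x : X) (hx : x ∈ U.1) :
    x ∈ I.support ↔ I.ideal U ≤ (U.2.primeIdealOf ⟨x, hx⟩).asIdeal := by
  rw [Scheme.IdealSheafData.mem_support_iff_of_mem hx, Scheme.mem_zeroLocus_iff]
  constructor
  · intro h f hf
    by_contra hfp
    exact h f hf ((mem_basicOpen_iff U.2 hx f).2 hfp)
  · intro h f hf hxf
    exact (mem_basicOpen_iff U.2 hx f).1 hxf (h hf)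

theorem stalkIdeal_eq_map (I : X.IdealSheafData) (x : X) (U : X.affineOpens) (hx : x ∈ U.1) :
    IntMult.stalkIdeal I x = (I.ideal U).map (X.presheaf.germ U.1 x hx).hom := by
  unfold IntMult.stalkIdeal
  apply le_antisymm
  · refine iSup₂_le fun V hV => ?_
    rw [Groth.Agent.Lead.SuppPow.stalkIdeal_eq I x hV hx]
  · exact le_iSup₂ (f := fun (V : X.affineOpens) (hV : x ∈ (V : X.Opens)) =>
      (I.ideal V).map (X.presheaf.germ V x hV).hom) U hx

theorem ideal_isPrime (I : X.IdealSheafData) [IsIntegral I.subscheme] (U : X.affineOpens) (x : X)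
    (hx : x ∈ U.1) (hxI : x ∈ I.support) : (I.ideal U).IsPrime := by
  have e := (I.subschemeObjIso U).commRingCatIsoToRingEquiv
  obtain ⟨z, hz⟩ : x ∈ Set.range I.subschemeι := by
    rw [I.range_subschemeι]; exact hxI
  have hzU : z ∈ I.subschemeι ⁻¹ᵁ U.1 := by
    show I.subschemeι z ∈ U.1
    rw [hz]; exact hx
  haveI : IsDomain Γ(I.subscheme, I.subschemeι ⁻¹ᵁ U.1) :=
    @IsIntegral.component_integral I.subscheme _ (I.subschemeι ⁻¹ᵁ U.1) ⟨⟨z, hzU⟩⟩
  haveI : IsDomain (Γ(X, U.1) ⧸ I.ideal U) := e.symm.toMulEquiv.isDomain _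
  exact (Ideal.Quotient.isDomain_iff_prime _).mp inferInstance

theorem isIrreducible_support (I : X.IdealSheafData) [IsIntegral I.subscheme] :
    IsIrreducible (I.support : Set X) := by
  rw [← I.range_subschemeι, ← Set.image_univ]
  exact (IrreducibleSpace.isIrreducible_univ _).image _ I.subschemeι.continuous.continuousOn

end Sch

end Groth.Agent.Lead.IntCart
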