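import Mathlib
import Groth.Prelude.Def_IntMult
import Groth.Agent.Lib.Lead.IntCart2
import Groth.Agent.Lib.Helper2.HomExt.PureDimCodim
import Groth.Agent.Lib.Helper4.CycJac1

/-!
# Dimension formulas on charts of integral closed subschemes (lead)
-/

set_option backward.isDefEq.respectTransparency.types false
set_option synthInstance.maxHeartbeats 400000
set_option autoImplicit false
set_option linter.unusedSectionVars false
set_option linter.style.haveILetI false
universe u
open CategoryTheory AlgebraicGeometry TopologicalSpace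

namespace Groth.Agent.Lead.IntReg

section Alg

theorem height_map_eq_of_surjective {S T : Type*} [CommRing S] [CommRing T] (φ : S →+* T)
    (hφ : Function.Surjective φ) (a : Ideal S) (ha : RingHom.ker φ = a) (p : Ideal S) :
    (p.map φ).height = (p.map (Ideal.Quotient.mk a)).height := by
  subst ha
  let e := RingHom.quotientKerEquivOfSurjective hφ
  have h : (p.map (Ideal.Quotient.mk (RingHom.ker φ))).map (e : _ →+* T) = p.map φ := by
    rw [Ideal.map_map]
    congr 1
  rw [← h]
  exact e.height_map _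

theorem dim_quot_eq_of_surjective {S T : Type*} [CommRing S] [CommRing T] (φ : S →+* T)
    (hφ : Function.Surjective φ) (p : Ideal S) (hle : RingHom.ker φ ≤ p) :
    ringKrullDim (S ⧸ p) = ringKrullDim (T ⧸ p.map φ) := by
  let ψ : S →+* T ⧸ p.map φ := (Ideal.Quotient.mk _).comp φ
  have hψ : Function.Surjective ψ := Ideal.Quotient.mk_surjective.comp hφ
  have hker : RingHom.ker ψ = p := by
    rw [RingHom.ker_eq_comap_bot, ← Ideal.comap_comap, ← RingHom.ker_eq_comap_bot, Ideal.mk_ker,
      Ideal.comap_map_of_surjective _ hφ, ← RingHom.ker_eq_comap_bot]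
    exact sup_eq_left.mpr hle
  exact ringKrullDim_eq_of_ringEquiv ((Ideal.quotEquivOfEq hker).symm.trans
    (RingHom.quotientKerEquivOfSurjective hψ))

theorem ringKrullDim_quot_atPrime_aux {R A : Type u} [CommRing R] [CommRing A] [Algebra R A]
    (𝔭 : Ideal R) [𝔭.IsPrime] [IsLocalization.AtPrime A 𝔭] (𝔮 : Ideal A) [𝔮.IsPrime]
    (a : Ideal R) (ha : 𝔮.comap (algebraMap R A) = a) :
    ringKrullDim (A ⧸ 𝔮) = (((𝔭.map (Ideal.Quotient.mk a)).height : ℕ∞) : WithBot ℕ∞) := by
  subst ha
  exact Groth.Agent.Lib.Helper4.CycJac1.ringKrullDim_quot_atPrime 𝔭 𝔮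

theorem ringKrullDim_quot_map_atPrime {R A : Type u} [CommRing R] [CommRing A] [Algebra R A]
    (𝔭 : Ideal R) [𝔭.IsPrime] [IsLocalization.AtPrime A 𝔭] (a : Ideal R) [ha : a.IsPrime]
    (hle : a ≤ 𝔭) :
    (a.map (algebraMap R A)).IsPrime ∧ ringKrullDim (A ⧸ a.map (algebraMap R A)) =
      (((𝔭.map (Ideal.Quotient.mk a)).height : ℕ∞) : WithBot ℕ∞) := by
  have hdisj : Disjoint (𝔭.primeCompl : Set R) (a : Set R) := by
    rw [Set.disjoint_left]
    intro x hx hxa
    exact hx (hle hxa)
  have hprime : (a.map (algebraMap R A)).IsPrime :=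
    IsLocalization.isPrime_of_isPrime_disjoint 𝔭.primeCompl _ a ha hdisj
  have hc : (a.map (algebraMap R A)).comap (algebraMap R A) = a :=
    IsLocalization.under_map_of_isPrime_disjoint 𝔭.primeCompl _ ha hdisj
  exact ⟨hprime, @ringKrullDim_quot_atPrime_aux R A _ _ _ 𝔭 _ _ _ hprime a hc⟩

end Alg

section Top

theorem pure_of_irreducible (T : Type*) [TopologicalSpace T] [IrreducibleSpace T] (n : ℕ)
    (h : topologicalKrullDim T = n) :
    ∀ Z : Set T, Z ∈ irreducibleComponents T → topologicalKrullDim ↥Z = (n : WithBot ℕ∞) := by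
  intro Z hZ
  rw [irreducibleComponents_eq_singleton, Set.mem_singleton_iff] at hZ
  subst hZ
  rw [← h]
  exact IsHomeomorph.topologicalKrullDim_eq _ (Homeomorph.Set.univ T).isHomeomorph

end Top

section Sch

theorem height_add_dim_chart (K : Type u) [Field K] {X : Scheme.{u}}
    (f : X ⟶ Spec (CommRingCat.of K)) [LocallyOfFiniteType f] [IsIntegral X] (n : ℕ) (hn : topologicalKrullDim X = n)
    (U : X.affineOpens) (p : Ideal Γ(X, U.1)) [p.IsPrime] :
    (p.height : WithBot ℕ∞) + ringKrullDim (Γ(X, U.1) ⧸ p) = n := by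
  letI : X.Over (Spec (CommRingCat.of K)) := ⟨f⟩
  haveI : LocallyOfFiniteType (X ↘ Spec (CommRingCat.of K)) := ‹_›
  exact Groth.Agent.Helper2.HomExt.PureDimCodim.height_add_dim_quotient_of_pure K X n
    (pure_of_irreducible X n hn) U.2 p

theorem height_add_dim_of_subscheme (K : Type u) [Field K] {X : Scheme.{u}}
    (f : X ⟶ Spec (CommRingCat.of K)) [LocallyOfFiniteType f] (I : X.IdealSheafData) [IsIntegral I.subscheme] (r : ℕ)
    (hr : topologicalKrullDim I.support = r) (U : X.affineOpens) (p : Ideal Γ(X, U.1))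
    [hp : p.IsPrime] (hle : I.ideal U ≤ p) :
    ((p.map (Ideal.Quotient.mk (I.ideal U))).height : WithBot ℕ∞) +
      ringKrullDim (Γ(X, U.1) ⧸ p) = r := by
  have hV : topologicalKrullDim I.subscheme = r := by
    rw [← hr]
    let e1 := I.subschemeι.isClosedEmbedding.isEmbedding.toHomeomorph
    rw [IsHomeomorph.topologicalKrullDim_eq _ e1.isHomeomorph]
    exact IsHomeomorph.topologicalKrullDim_eq _
      (Homeomorph.setCongr I.range_subschemeι).isHomeomorph
  have hsurj : Function.Surjective (I.subschemeι.app U.1).hom := I.subschemeι_app_surjective U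
  have hker : RingHom.ker (I.subschemeι.app U.1).hom = I.ideal U := I.ker_subschemeι_app U
  have hle' : RingHom.ker (I.subschemeι.app U.1).hom ≤ p := by rw [hker]; exact hle
  haveI hp' : (p.map (I.subschemeι.app U.1).hom).IsPrime :=
    Ideal.map_isPrime_of_surjective hsurj hle'
  have h := height_add_dim_chart K (I.subschemeι ≫ f) r hV
    ⟨I.subschemeι ⁻¹ᵁ U.1, U.2.preimage I.subschemeι⟩ (p.map (I.subschemeι.app U.1).hom)
  rw [← dim_quot_eq_of_surjective _ hsurj p hle',
    height_map_eq_of_surjective _ hsurj (I.ideal U) hker p] at h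
  exact h

end Sch

end Groth.Agent.Lead.IntReg
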