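import Mathlib
import Groth.Prelude.Def_IntMult
import Groth.Agent.Lib.Lead.IntReg1
import Groth.Agent.Lib.Lead.IntReg2

/-!
# Multiplicity along a regular sequence against a Cohen–Macaulay subvariety (lead)
-/

set_option backward.isDefEq.respectTransparency.types false
set_option synthInstance.maxHeartbeats 400000
set_option autoImplicit false
set_option linter.unusedSectionVars false
set_option linter.style.haveILetI false
universe u
open CategoryTheory AlgebraicGeometry TopologicalSpace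

namespace Groth.Agent.Lead.IntReg

open Groth.Agent.Lead.IntCart

variable {X : Scheme.{u}}

theorem dim_quot_le_of_subset (U : X.affineOpens) (p : Ideal Γ(X, U.1)) (T : Set X)
    (hT : ∀ q : PrimeSpectrum Γ(X, U.1), p ≤ q.asIdeal → U.2.fromSpec q ∈ T) :
    ringKrullDim (Γ(X, U.1) ⧸ p) ≤ topologicalKrullDim ↥T := by
  rw [← PrimeSpectrum.topologicalKrullDim_eq_ringKrullDim]
  let h0 : PrimeSpectrum (Γ(X, U.1) ⧸ p) → X :=
    fun q => U.2.fromSpec (PrimeSpectrum.comap (Ideal.Quotient.mk p) q)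
  have hind : Topology.IsInducing h0 :=
    U.2.fromSpec.isOpenEmbedding.isInducing.comp
      (PrimeSpectrum.isClosedEmbedding_comap_of_surjective _ _
        Ideal.Quotient.mk_surjective).isInducing
  have hmem : ∀ q, h0 q ∈ T := by
    intro q
    apply hT
    intro x hx
    change Ideal.Quotient.mk p x ∈ q.asIdeal
    rw [Ideal.Quotient.eq_zero_iff_mem.mpr hx]
    exact q.asIdeal.zero_mem
  exact (hind.codRestrict hmem).topologicalKrullDim_le

theorem main6452 (K : Type u) [Field K] (f : X ⟶ Spec (CommRingCat.of K))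
    [LocallyOfFiniteType f] [IsIntegral X] (IV IW : X.IdealSheafData)
    [IsIntegral IV.subscheme] [IsIntegral IW.subscheme] (n r s : ℕ)
    (hn : topologicalKrullDim X = n) (hr : topologicalKrullDim IV.support = r)
    (hs : topologicalKrullDim IW.support = s)
    (hprop : IntMult.ProperInt (IV.support : Set X) (IW.support : Set X) n r s) (ξ : X)
    (hξV : ξ ∈ IV.support) (hξW : ξ ∈ IW.support)
    (hmax : ∀ ξ' : X, ξ' ∈ IV.support → ξ' ∈ IW.support → ξ' ⤳ ξ → ξ' = ξ)
    (c : ℕ) (g : Fin c → ↑(X.presheaf.stalk ξ))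
    (hg : IntMult.stalkIdeal IV ξ = Ideal.span (Set.range g))
    (hreg : RingTheory.Sequence.IsRegular (↑(X.presheaf.stalk ξ)) (List.ofFn g))
    (hW : LocCoh.IsCohenMacaulayLocalRing (↑(X.presheaf.stalk ξ) ⧸ IntMult.stalkIdeal IW ξ)) :
    (IntMult.mult IV IW ξ : ℤ) = (Module.length (X.presheaf.stalk ξ)
      (↑(X.presheaf.stalk ξ) ⧸ (IntMult.stalkIdeal IW ξ ⊔ IntMult.stalkIdeal IV ξ))).toNat := by
  haveI : IsLocallyNoetherian X := LocallyOfFiniteType.isLocallyNoetherian f
  obtain ⟨U, hU, hξU, -⟩ := exists_isAffineOpen_mem_and_subset (x := ξ) (U := ⊤) trivial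
  let U' : X.affineOpens := ⟨U, hU⟩
  letI := X.presheaf.algebra_section_stalk ⟨ξ, hξU⟩
  haveI := hU.isLocalization_stalk ⟨ξ, hξU⟩
  set p := (hU.primeIdealOf ⟨ξ, hξU⟩).asIdeal with hp
  haveI hpprime : p.IsPrime := (hU.primeIdealOf ⟨ξ, hξU⟩).isPrime
  set a := IV.ideal U' with ha
  set b := IW.ideal U' with hb
  haveI haprime : a.IsPrime := ideal_isPrime IV U' ξ hξU hξV
  haveI hbprime : b.IsPrime := ideal_isPrime IW U' ξ hξU hξW
  have hap : a ≤ p := (mem_support_iff_le IV U' ξ hξU).1 hξV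
  have hbp : b ≤ p := (mem_support_iff_le IW U' ξ hξU).1 hξW
  have hJW : IntMult.stalkIdeal IW ξ = b.map (algebraMap Γ(X, U) (X.presheaf.stalk ξ)) :=
    stalkIdeal_eq_map IW ξ U' hξU
  have hJV : IntMult.stalkIdeal IV ξ = a.map (algebraMap Γ(X, U) (X.presheaf.stalk ξ)) :=
    stalkIdeal_eq_map IV ξ U' hξU
  -- points of `U` given by primes
  have hmemU : ∀ q : PrimeSpectrum Γ(X, U), hU.fromSpec q ∈ U := by
    intro q
    rw [← SetLike.mem_coe, ← hU.range_fromSpec]
    exact ⟨q, rfl⟩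
  have hprimeOf : ∀ q : PrimeSpectrum Γ(X, U), hU.primeIdealOf ⟨hU.fromSpec q, hmemU q⟩ = q := by
    intro q
    exact hU.fromSpec.isOpenEmbedding.injective (hU.fromSpec_primeIdealOf ⟨hU.fromSpec q, hmemU q⟩)
  have hspec : ∀ (x y : X) (hx : x ∈ U) (hy : y ∈ U),
      (hU.primeIdealOf ⟨x, hx⟩).asIdeal ≤ (hU.primeIdealOf ⟨y, hy⟩).asIdeal → x ⤳ y := by
    intro x y hx hy hle
    have h3 : hU.primeIdealOf ⟨x, hx⟩ ⤳ hU.primeIdealOf ⟨y, hy⟩ :=
      (PrimeSpectrum.le_iff_specializes _ _).mp hle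
    have h4 := h3.map hU.fromSpec.continuous
    rwa [hU.fromSpec_primeIdealOf ⟨x, hx⟩, hU.fromSpec_primeIdealOf ⟨y, hy⟩] at h4
  -- dimension formulas on the chart
  have E1 := height_add_dim_chart K f n hn U' p
  have E2 := height_add_dim_of_subscheme K f IV r hr U' p hap
  have E3 := height_add_dim_of_subscheme K f IW s hs U' p hbp
  obtain ⟨hnrs, hD⟩ := hprop ⟨ξ, hξV, hξW⟩
  have E4 : ringKrullDim (Γ(X, U) ⧸ p) ≤ ((r + s - n : ℕ) : WithBot ℕ∞) := by
    refine (dim_quot_le_of_subset U' p ((IV.support : Set X) ∩ (IW.support : Set X)) ?_).trans hD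
    intro q hq
    refine ⟨?_, ?_⟩
    · rw [SetLike.mem_coe, mem_support_iff_le IV U' _ (hmemU q), hprimeOf q]
      exact hap.trans hq
    · rw [SetLike.mem_coe, mem_support_iff_le IW U' _ (hmemU q), hprimeOf q]
      exact hbp.trans hq
  -- local dimensions
  have F0 : ringKrullDim (X.presheaf.stalk ξ) = p.height :=
    IsLocalization.AtPrime.ringKrullDim_eq_height p _
  obtain ⟨hJVprime, F1⟩ := ringKrullDim_quot_map_atPrime (A := X.presheaf.stalk ξ) p a hap
  obtain ⟨hJWprime, F2⟩ := ringKrullDim_quot_map_atPrime (A := X.presheaf.stalk ξ) p b hbp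
  have F3 : ringKrullDim (↑(X.presheaf.stalk ξ) ⧸ Ideal.ofList (List.ofFn g)) + (c : WithBot ℕ∞) =
      ringKrullDim (X.presheaf.stalk ξ) := by
    have := ringKrullDim_add_length_eq_ringKrullDim_of_isRegular (List.ofFn g) hreg
    simpa using this
  have hofl : Ideal.ofList (List.ofFn g) = a.map (algebraMap Γ(X, U) (X.presheaf.stalk ξ)) := by
    rw [← hJV, hg]
    change Ideal.span {x | x ∈ List.ofFn g} = _
    congr 1
    ext x
    simp [List.mem_ofFn]
  rw [hofl, F1, F0] at F3
  -- arithmetic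
  have hcdim : (c : WithBot ℕ∞) ≤ ringKrullDim (↑(X.presheaf.stalk ξ) ⧸ IntMult.stalkIdeal IW ξ) := by
    rw [hJW, F2]
    have hnn : (0 : WithBot ℕ∞) ≤ ringKrullDim (Γ(X, U) ⧸ p) := ringKrullDim_nonneg_of_nontrivial
    obtain ⟨d, hd⟩ : ∃ d : ℕ∞, ringKrullDim (Γ(X, U) ⧸ p) = (d : WithBot ℕ∞) := by
      cases hq : ringKrullDim (Γ(X, U) ⧸ p) with
      | bot => rw [hq] at hnn; exact absurd hnn (by simp)
      | coe d => exact ⟨d, rfl⟩
    rw [hd] at E1 E2 E3 E4
    have e1 : p.height + d = (n : ℕ∞) := by exact_mod_cast E1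
    have e2 : (p.map (Ideal.Quotient.mk a)).height + d = (r : ℕ∞) := by exact_mod_cast E2
    have e3 : (p.map (Ideal.Quotient.mk b)).height + d = (s : ℕ∞) := by exact_mod_cast E3
    have e4 : d ≤ ((r + s - n : ℕ) : ℕ∞) := by
      rw [← WithBot.coe_le_coe]
      exact E4
    have f3 : (p.map (Ideal.Quotient.mk a)).height + (c : ℕ∞) = p.height := by exact_mod_cast F3
    have hdtop : d ≠ ⊤ := ne_top_of_le_ne_top (ENat.coe_ne_top _) e4
    lift d to ℕ using hdtop
    have h0top : p.height ≠ ⊤ := by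
      intro h; rw [h] at e1; simp at e1
    have h1top : (p.map (Ideal.Quotient.mk a)).height ≠ ⊤ := by
      intro h; rw [h] at e2; simp at e2
    have h2top : (p.map (Ideal.Quotient.mk b)).height ≠ ⊤ := by
      intro h; rw [h] at e3; simp at e3
    generalize p.height = x0 at *
    generalize (p.map (Ideal.Quotient.mk a)).height = x1 at *
    generalize (p.map (Ideal.Quotient.mk b)).height = x2 at *
    lift x0 to ℕ using h0top
    lift x1 to ℕ using h1top
    lift x2 to ℕ using h2top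
    norm_cast at e1 e2 e3 e4 f3 ⊢
    omega
  -- primes containing both ideals
  have hmax' : ∀ P : Ideal (X.presheaf.stalk ξ), P.IsPrime → IntMult.stalkIdeal IW ξ ≤ P →
      Ideal.span (Set.range g) ≤ P → P = IsLocalRing.maximalIdeal (X.presheaf.stalk ξ) := by
    intro P hP hWP hVP
    rw [← hg] at hVP
    set q : PrimeSpectrum Γ(X, U) :=
      ⟨P.comap (algebraMap Γ(X, U) (X.presheaf.stalk ξ)), Ideal.comap_isPrime _ _⟩ with hq
    have haq : a ≤ q.asIdeal := by
      rw [hJV] at hVP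
      exact Ideal.le_comap_map.trans (Ideal.comap_mono hVP)
    have hbq : b ≤ q.asIdeal := by
      rw [hJW] at hWP
      exact Ideal.le_comap_map.trans (Ideal.comap_mono hWP)
    have hqp : q.asIdeal ≤ p := by
      have h1 : P ≤ IsLocalRing.maximalIdeal (X.presheaf.stalk ξ) :=
        IsLocalRing.le_maximalIdeal hP.ne_top
      have h2 := Ideal.comap_mono (f := algebraMap Γ(X, U) (X.presheaf.stalk ξ)) h1
      exact h2.trans (IsLocalization.AtPrime.comap_maximalIdeal (X.presheaf.stalk ξ) p).le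
    have hηV : hU.fromSpec q ∈ IV.support := by
      rw [mem_support_iff_le IV U' _ (hmemU q), hprimeOf q]
      exact haq
    have hηW : hU.fromSpec q ∈ IW.support := by
      rw [mem_support_iff_le IW U' _ (hmemU q), hprimeOf q]
      exact hbq
    have hηξ : hU.fromSpec q ⤳ ξ := by
      apply hspec _ _ (hmemU q) hξU
      rw [hprimeOf q]
      exact hqp
    have hη := hmax _ hηV hηW hηξ
    have hpq : p = q.asIdeal := by
      have h5 : hU.primeIdealOf ⟨hU.fromSpec q, hmemU q⟩ = hU.primeIdealOf ⟨ξ, hξU⟩ := by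
        congr 1
        exact Subtype.ext hη
      rw [hprimeOf q] at h5
      rw [hp, ← h5]
    have h6 : IsLocalRing.maximalIdeal (X.presheaf.stalk ξ) ≤ P := by
      rw [← IsLocalization.AtPrime.map_eq_maximalIdeal p (X.presheaf.stalk ξ), hpq]
      exact Ideal.map_comap_le
    exact ((IsLocalRing.maximalIdeal.isMaximal _).eq_of_le hP.ne_top h6).symm
  unfold IntMult.mult
  rw [hg]
  haveI := hW
  exact core (IntMult.stalkIdeal IW ξ) c g hreg hcdim hmax'

end Groth.Agent.Lead.IntReg
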