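import Mathlib

set_option autoImplicit false
set_option backward.isDefEq.respectTransparency.types false
set_option synthInstance.maxHeartbeats 400000
set_option linter.style.haveILetI false
universe u

open AlgebraicGeometry CategoryTheory Limits TensorProduct

namespace Groth.Agent.Lead.GeomCount

/-- number of primes of a finite dimensional algebra over a field is at most the dimension -/
theorem card_primeSpectrum_le_finrank (K R : Type*) [Field K] [CommRing R] [Algebra K R]
    [Module.Finite K R] : ENat.card (PrimeSpectrum R) ≤ (Module.finrank K R : ℕ∞) := by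
  classical
  haveI : IsArtinianRing R := IsArtinianRing.of_finite K R
  haveI : Finite (MaximalSpectrum R) := inferInstance
  haveI : Fintype (MaximalSpectrum R) := Fintype.ofFinite _
  have e1 : PrimeSpectrum R ≃ MaximalSpectrum R := IsArtinianRing.primeSpectrumEquivMaximalSpectrum
  rw [ENat.card_congr e1]
  have e2 := IsArtinianRing.quotNilradicalEquivPi R
  -- the K-linear surjection R → ∏ R/m
  let φ : R →ₐ[K] (∀ I : MaximalSpectrum R, R ⧸ I.asIdeal) :=
    AlgHom.pi (fun I => Ideal.Quotient.mkₐ K I.asIdeal)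
  have hφ : Function.Surjective φ := by
    intro v
    obtain ⟨r, hr⟩ := Ideal.Quotient.mk_surjective (e2.symm v)
    refine ⟨r, ?_⟩
    have : e2 (Ideal.Quotient.mk _ r) = v := by rw [hr]; simp
    rw [← this, show Ideal.Quotient.mk (nilradical R) r = algebraMap R _ r from rfl, e2.commutes]
    rfl
  have h1 : Module.finrank K (∀ I : MaximalSpectrum R, R ⧸ I.asIdeal) ≤ Module.finrank K R :=
    LinearMap.finrank_le_finrank_of_surjective (f := φ.toLinearMap) hφ
  have h2 : Module.finrank K (∀ I : MaximalSpectrum R, R ⧸ I.asIdeal) =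
      ∑ I : MaximalSpectrum R, Module.finrank K (R ⧸ I.asIdeal) := Module.finrank_pi_fintype K
  have h3 : ∀ I : MaximalSpectrum R, 1 ≤ Module.finrank K (R ⧸ I.asIdeal) := by
    intro I
    haveI : Nontrivial (R ⧸ I.asIdeal) := Ideal.Quotient.nontrivial_iff.mpr I.isMaximal.ne_top
    exact Module.finrank_pos
  have h4 : Fintype.card (MaximalSpectrum R) ≤ Module.finrank K R := by
    calc Fintype.card (MaximalSpectrum R) = ∑ _I : MaximalSpectrum R, 1 := by simp
      _ ≤ ∑ I : MaximalSpectrum R, Module.finrank K (R ⧸ I.asIdeal) :=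
          Finset.sum_le_sum (fun I _ => h3 I)
      _ = _ := h2.symm
      _ ≤ _ := h1
  rw [ENat.card_eq_coe_fintype_card]
  exact_mod_cast h4

end Groth.Agent.Lead.GeomCount

namespace Groth.Agent.Lead.GeomCount

/-- uniform bound on all field valued fibres -/
def Bdd {X Y : Scheme.{u}} (f : X ⟶ Y) (d : ℕ) : Prop :=
  ∀ (K : Type u) [Field K] (s : Spec (CommRingCat.of K) ⟶ Y), ENat.card ↥(pullback f s) ≤ d

theorem card_le_of_iso {P Q : Scheme.{u}} (e : P ≅ Q) : ENat.card ↥P = ENat.card ↥Q :=
  ENat.card_congr (Scheme.homeoOfIso e).toEquiv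

theorem card_le_of_openImmersion {P Q : Scheme.{u}} (j : P ⟶ Q) [IsOpenImmersion j] :
    ENat.card ↥P ≤ ENat.card ↥Q :=
  ENat.card_le_card_of_injective j.isOpenEmbedding.injective

/-- (e) finite algebras -/
theorem bdd_spec (A C : Type u) [CommRing A] [CommRing C] [Algebra A C] (S : Finset C)
    (hS : Submodule.span A (S : Set C) = ⊤) :
    Bdd (Spec.map (CommRingCat.ofHom (algebraMap A C))) S.card := by
  classical
  intro K _ s
  let ψ : A →+* K := (Spec.preimage s).hom
  have hs : s = Spec.map (CommRingCat.ofHom ψ) := by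
    simp [ψ]
  letI : Algebra A K := ψ.toAlgebra
  have hs' : s = Spec.map (CommRingCat.ofHom (algebraMap A K)) := hs
  rw [hs', card_le_of_iso (pullbackSpecIso A C K)]
  -- `K ⊗[A] C`-side dimension bound
  letI : Algebra K (C ⊗[A] K) := Algebra.TensorProduct.rightAlgebra
  have key : ∀ c ∈ Submodule.span A (S : Set C),
      c ⊗ₜ[A] (1 : K) ∈ Submodule.span K ((fun c : C => c ⊗ₜ[A] (1 : K)) '' (S : Set C)) := by
    intro c hc
    induction hc using Submodule.span_induction with
    | mem c hc => exact Submodule.subset_span ⟨c, hc, rfl⟩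
    | zero => rw [TensorProduct.zero_tmul]; exact Submodule.zero_mem _
    | add c c' _ _ h h' => rw [TensorProduct.add_tmul]; exact Submodule.add_mem _ h h'
    | smul a c _ h =>
      have : (a • c) ⊗ₜ[A] (1 : K) = (algebraMap A K a) • (c ⊗ₜ[A] (1 : K)) := by
        rw [Algebra.smul_def (algebraMap A K a)]
        show _ = ((1 : C) ⊗ₜ[A] (algebraMap A K a)) * _
        rw [Algebra.TensorProduct.tmul_mul_tmul, one_mul, mul_one, TensorProduct.smul_tmul,
          Algebra.smul_def, mul_one]
      rw [this]
      exact Submodule.smul_mem _ _ h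
  have hspan : Submodule.span K ((fun c : C => c ⊗ₜ[A] (1 : K)) '' (S : Set C)) = ⊤ := by
    rw [eq_top_iff]
    rintro x -
    induction x using TensorProduct.induction_on with
    | zero => exact Submodule.zero_mem _
    | add x y hx hy => exact Submodule.add_mem _ hx hy
    | tmul c k =>
      have hc : c ∈ Submodule.span A (S : Set C) := hS ▸ Submodule.mem_top
      have : c ⊗ₜ[A] k = k • (c ⊗ₜ[A] (1 : K)) := by
        rw [Algebra.smul_def]
        show _ = ((1 : C) ⊗ₜ[A] k) * _
        rw [Algebra.TensorProduct.tmul_mul_tmul, one_mul, mul_one]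
      rw [this]
      exact Submodule.smul_mem _ _ (key c hc)
  haveI : Module.Finite K (C ⊗[A] K) :=
    ⟨⟨(S.image (fun c : C => c ⊗ₜ[A] (1 : K))), by rw [Finset.coe_image]; exact hspan⟩⟩
  have hfr : Module.finrank K (C ⊗[A] K) ≤ S.card := by
    have h : Module.finrank K (Submodule.span K
        ((S.image (fun c : C => c ⊗ₜ[A] (1 : K)) : Finset _) : Set (C ⊗[A] K))) ≤ _ :=
      finrank_span_finset_le_card (R := K) (S.image (fun c : C => c ⊗ₜ[A] (1 : K)))
    rw [Finset.coe_image, hspan, finrank_top] at h
    exact h.trans Finset.card_image_le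
  refine (card_primeSpectrum_le_finrank K (C ⊗[A] K)).trans ?_
  exact_mod_cast hfr

/-- (d) precomposition with an open immersion -/
theorem bdd_comp_openImmersion {U T Y : Scheme.{u}} (j : U ⟶ T) [IsOpenImmersion j] (t : T ⟶ Y)
    (d : ℕ) (h : Bdd t d) : Bdd (j ≫ t) d := by
  intro K _ s
  rw [← card_le_of_iso (pullbackRightPullbackFstIso t s j)]
  exact (card_le_of_openImmersion (pullback.snd j (pullback.fst t s))).trans (h K s)

/-- (c) postcomposition with an open immersion -/
theorem bdd_comp_mono {X V Y : Scheme.{u}} (f' : X ⟶ V) (i : V ⟶ Y) [IsOpenImmersion i]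
    (d : ℕ) (h : Bdd f' d) : Bdd (f' ≫ i) d := by
  intro K _ s
  by_cases hr : Set.range s ⊆ Set.range i
  · let s' : Spec (CommRingCat.of K) ⟶ V := IsOpenImmersion.lift i s hr
    have hs' : s' ≫ i = s := IsOpenImmersion.lift_fac i s hr
    rw [← hs']
    have e := IsLimit.conePointUniqueUpToIso (pullbackIsPullbackOfCompMono f' s' i)
      (pullback.isLimit (f' ≫ i) (s' ≫ i))
    have this : ENat.card ↥(pullback f' s') = ENat.card ↥(pullback (f' ≫ i) (s' ≫ i)) :=
      card_le_of_iso e
    rw [← this]
    exact h K s'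
  · have : IsEmpty ↥(pullback (f' ≫ i) s) := by
      refine ⟨fun w => hr ?_⟩
      rintro _ ⟨p, rfl⟩
      have hp : p = (pullback.snd (f' ≫ i) s) w := Subsingleton.elim _ _
      refine ⟨f' ((pullback.fst (f' ≫ i) s) w), ?_⟩
      rw [hp]
      have := congrArg (fun φ => φ w) (congrArg (fun φ : _ ⟶ Y => (φ : _ → _))
        (pullback.condition (f := f' ≫ i) (g := s)))
      simpa using this
    have h0 : ENat.card ↥(pullback (f' ≫ i) s) = 0 := by
      rw [ENat.card_eq_zero_iff_empty]; exact this
    rw [h0]
    exact zero_le
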