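import Mathlib
import Groth.Prelude.Def_MoreMor
import Groth.Agent.Lib.Lead.GeomCount2
import Groth.Agent.Lib.Lead.GeomCount3

set_option autoImplicit false
set_option backward.isDefEq.respectTransparency.types false
set_option synthInstance.maxHeartbeats 400000
set_option linter.style.haveILetI false
universe u

open AlgebraicGeometry CategoryTheory Limits TensorProduct

namespace Groth.Agent.Lead.GeomCount

/-- (b) finite jointly surjective families of open immersions -/
theorem bdd_of_cover {X Y : Scheme.{u}} (f : X ⟶ Y) {ι : Type*} [Fintype ι]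
    (T : ι → Scheme.{u}) (k : ∀ i, T i ⟶ X) [∀ i, IsOpenImmersion (k i)]
    (hcov : ∀ x : X, ∃ i, x ∈ Set.range (k i)) (d : ι → ℕ) (h : ∀ i, Bdd (k i ≫ f) (d i)) :
    Bdd f (∑ i, d i) := by
  classical
  intro K _ s
  -- the pieces
  let Q : ι → Scheme.{u} := fun i => pullback (k i) (pullback.fst f s)
  have hQ : ∀ i, ENat.card ↥(Q i) ≤ d i := fun i => by
    have := h i K s
    rwa [← card_le_of_iso (pullbackRightPullbackFstIso f s (k i))] at this
  haveI : ∀ i, Finite ↥(Q i) := fun i => by
    have := hQ i
    by_contra hinf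
    rw [not_finite_iff_infinite] at hinf
    rw [ENat.card_eq_top_of_infinite] at this
    exact absurd this (by simp)
  have hQ' : ∀ i, Nat.card ↥(Q i) ≤ d i := fun i => by
    have := hQ i
    rw [ENat.card_eq_coe_natCard] at this
    exact_mod_cast this
  let φ : (Σ i, ↥(Q i)) → ↥(pullback f s) := fun p => (pullback.snd (k p.1) (pullback.fst f s)) p.2
  have hφ : Function.Surjective φ := by
    intro w
    obtain ⟨i, hi⟩ := hcov ((pullback.fst f s) w)
    have hr := IsOpenImmersion.range_pullbackSnd (k i) (pullback.fst f s)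
    have hw : w ∈ Set.range (pullback.snd (k i) (pullback.fst f s)) := by
      rw [hr]
      exact hi
    obtain ⟨q, hq⟩ := hw
    exact ⟨⟨i, q⟩, hq⟩
  haveI : Finite ↥(pullback f s) := Finite.of_surjective φ hφ
  have h1 : Nat.card ↥(pullback f s) ≤ Nat.card (Σ i, ↥(Q i)) := Nat.card_le_card_of_surjective φ hφ
  have h2 : Nat.card (Σ i, ↥(Q i)) = ∑ i, Nat.card ↥(Q i) := Nat.card_sigma
  rw [ENat.card_eq_coe_natCard]
  have : Nat.card ↥(pullback f s) ≤ ∑ i, d i :=
    h1.trans (h2 ▸ Finset.sum_le_sum (fun i _ => hQ' i))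
  exact_mod_cast this

/-- (a) the geometric fibre -/
theorem card_geomFiber_le {X Y : Scheme.{u}} (f : X ⟶ Y) (d : ℕ) (h : Bdd f d) (y : Y) :
    ENat.card ↥(MoreMor.geomFiber f y) ≤ d := by
  unfold MoreMor.geomFiber
  have e := pullbackLeftPullbackSndIso f (Y.fromSpecResidueField y)
    (Spec.map (CommRingCat.ofHom
      (algebraMap (Y.residueField y) (SeparableClosure (Y.residueField y)))))
  have h1 := card_le_of_iso e
  have h2 := h (SeparableClosure (Y.residueField y)) (Spec.map (CommRingCat.ofHom
      (algebraMap (Y.residueField y) (SeparableClosure (Y.residueField y)))) ≫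
        Y.fromSpecResidueField y)
  exact h1 ▸ h2

end Groth.Agent.Lead.GeomCount
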