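import Mathlib
import Groth.Prelude.Def_MoreMor
import Groth.Agent.Lib.Lead.GeomCount4

set_option autoImplicit false
set_option backward.isDefEq.respectTransparency.types false
set_option synthInstance.maxHeartbeats 400000
set_option linter.style.haveILetI false
universe u

open AlgebraicGeometry CategoryTheory Limits TensorProduct

namespace Groth.Agent.Lead.GeomCount

/-- (f) local structure: an open immersion around `x` with uniformly bounded fibres -/
theorem exists_local_bdd {X Y : Scheme.{u}} (f : X ⟶ Y) [LocallyQuasiFinite f]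
    [LocallyOfFiniteType f] (x : X) :
    ∃ (T : Scheme.{u}) (k : T ⟶ X) (_ : IsOpenImmersion k) (d : ℕ),
      x ∈ Set.range k ∧ Bdd (k ≫ f) d := by
  classical
  obtain ⟨_, ⟨V, hV, rfl⟩, hxV, -⟩ :=
    Y.isBasis_affineOpens.exists_subset_of_mem_open (Set.mem_univ (f x)) isOpen_univ
  obtain ⟨_, ⟨W, hW, rfl⟩, hxW, hWV⟩ :=
    X.isBasis_affineOpens.exists_subset_of_mem_open (show x ∈ (f ⁻¹ᵁ V).1 from hxV) (f ⁻¹ᵁ V).2
  have e : W ≤ f ⁻¹ᵁ V := hWV
  let φ : Γ(Y, V) →+* Γ(X, W) := (f.appLE V W e).hom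
  letI : Algebra Γ(Y, V) Γ(X, W) := φ.toAlgebra
  haveI : Algebra.FiniteType Γ(Y, V) Γ(X, W) := f.finiteType_appLE hV hW e
  haveI : Algebra.QuasiFinite Γ(Y, V) Γ(X, W) := LocallyQuasiFinite.quasiFinite_appLE hV hW e
  let q : PrimeSpectrum Γ(X, W) := hW.primeIdealOf ⟨x, hxW⟩
  haveI : Algebra.QuasiFiniteAt Γ(Y, V) q.asIdeal := inferInstance
  obtain ⟨C, hC, r, hrq, hbij⟩ :=
    Algebra.QuasiFiniteAt.exists_fg_and_exists_notMem_and_awayMap_bijective
      (R := Γ(Y, V)) q.asIdeal
  haveI : Module.Finite Γ(Y, V) C := ⟨(Submodule.fg_top _).mpr hC⟩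
  obtain ⟨S', hS'⟩ := (Module.Finite.fg_top : (⊤ : Submodule Γ(Y, V) C).FG)
  -- notation
  let am : Localization.Away r →+* Localization.Away (r : Γ(X, W)) :=
    Localization.awayMap C.val.toRingHom r
  let k : Spec (CommRingCat.of (Localization.Away (r : Γ(X, W)))) ⟶ X :=
    Spec.map (CommRingCat.ofHom (algebraMap Γ(X, W) (Localization.Away (r : Γ(X, W))))) ≫ hW.fromSpec
  haveI : IsOpenImmersion k := inferInstance
  refine ⟨_, k, inferInstance, S'.card, ?_, ?_⟩
  · -- the point
    have hr : q ∈ Set.range (PrimeSpectrum.comap (algebraMap Γ(X, W) (Localization.Away (r : Γ(X, W))))) := by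
      rw [PrimeSpectrum.localization_away_comap_range (Localization.Away (r : Γ(X, W))) (r : Γ(X, W))]
      exact hrq
    obtain ⟨q', hq'⟩ := hr
    refine ⟨q', ?_⟩
    show hW.fromSpec ((Spec.map (CommRingCat.ofHom (algebraMap Γ(X, W) (Localization.Away (r : Γ(X, W)))))) q') = x
    have h1 : (Spec.map (CommRingCat.ofHom (algebraMap Γ(X, W) (Localization.Away (r : Γ(X, W)))))) q' = q := hq'
    rw [h1]
    exact hW.fromSpec_primeIdealOf ⟨x, hxW⟩
  · -- the bound
    have hring : (algebraMap Γ(X, W) (Localization.Away (r : Γ(X, W)))).comp φ =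
        am.comp ((algebraMap C (Localization.Away r)).comp (algebraMap Γ(Y, V) C)) := by
      ext a
      simp only [RingHom.comp_apply]
      have : am (algebraMap C (Localization.Away r) (algebraMap Γ(Y, V) C a)) =
          algebraMap Γ(X, W) (Localization.Away (r : Γ(X, W))) (C.val.toRingHom (algebraMap Γ(Y, V) C a)) := by
        simp only [am, IsLocalization.Away.map]
        exact IsLocalization.map_eq (S := Localization.Away r)
          (Q := Localization.Away (C.val.toRingHom r)) _ _
      rw [this]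
      rfl
    haveI : IsIso (CommRingCat.ofHom am) :=
      (RingEquiv.ofBijective am hbij).toCommRingCatIso.isIso_hom
    let j : Spec (CommRingCat.of (Localization.Away (r : Γ(X, W)))) ⟶ Spec (CommRingCat.of C) :=
      Spec.map (CommRingCat.ofHom am) ≫ Spec.map (CommRingCat.ofHom (algebraMap C (Localization.Away r)))
    haveI : IsOpenImmersion j := inferInstance
    have hk : k ≫ f = j ≫ (Spec.map (CommRingCat.ofHom (algebraMap Γ(Y, V) C)) ≫ hV.fromSpec) := by
      have h1 : hW.fromSpec ≫ f = Spec.map (f.appLE V W e) ≫ hV.fromSpec :=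
        (IsAffineOpen.SpecMap_appLE_fromSpec f hV hW e).symm
      simp only [k, j, Category.assoc, h1]
      rw [← Spec.map_comp_assoc, ← Spec.map_comp_assoc, ← Spec.map_comp_assoc]
      congr 1
      congr 1
      ext a
      exact congrArg (fun ψ : _ →+* _ => ψ a) hring
    rw [hk]
    exact bdd_comp_openImmersion j _ _ (bdd_comp_mono _ hV.fromSpec _ (bdd_spec _ _ S' hS'))

end Groth.Agent.Lead.GeomCount

namespace Groth.Agent.Lead.GeomCount

theorem S1415_main {X Y : Scheme.{u}} (f : X ⟶ Y) [LocallyQuasiFinite f] [LocallyOfFiniteType f] :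
    (∀ y : Y, MoreMor.nGeomIrredComp f y = MoreMor.nGeomConnComp f y) ∧
      (CompactSpace ↑X → ∃ d : ℕ, ∀ y : Y, MoreMor.nGeomConnComp f y ≤ d) := by
  classical
  refine ⟨fun y => part1 f y, fun hX => ?_⟩
  choose T k hk d hxk hbd using fun x : X => exists_local_bdd f x
  haveI := hk
  obtain ⟨t, ht⟩ := isCompact_univ.elim_finite_subcover (fun x : X => ((k x).opensRange : Set X))
    (fun x => (k x).opensRange.2) (fun x _ => Set.mem_iUnion.mpr ⟨x, hxk x⟩)
  have hcov : ∀ x : X, ∃ i : {x // x ∈ t}, x ∈ Set.range (k i.1) := by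
    intro x
    have := ht (Set.mem_univ x)
    simp only [Set.mem_iUnion] at this
    obtain ⟨i, hi, hx⟩ := this
    exact ⟨⟨i, hi⟩, hx⟩
  have hB := bdd_of_cover f (fun i : {x // x ∈ t} => T i.1) (fun i => k i.1) hcov
    (fun i => d i.1) (fun i => hbd i.1)
  refine ⟨∑ i : {x // x ∈ t}, d i.1, fun y => ?_⟩
  haveI := discreteTopology_geomFiber f y
  unfold MoreMor.nGeomConnComp
  rw [card_connectedComponents_of_discrete]
  exact card_geomFiber_le f _ hB y

end Groth.Agent.Lead.GeomCount
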