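import Mathlib
import Groth.Prelude
import Groth.Agent.Lib.Lead.GeomCount5

/-!
# The geometric fibre cardinality of a finite étale morphism is its rank
-/

set_option autoImplicit false
set_option backward.isDefEq.respectTransparency.types false
set_option synthInstance.maxHeartbeats 400000
set_option linter.style.haveILetI false
set_option linter.unusedSectionVars false

universe u

open AlgebraicGeometry CategoryTheory Limits TensorProduct

namespace Groth.Agent.Lead.GeomCount

/-- For an étale algebra over a separably closed field, the number of primes is the dimension. -/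
theorem card_primeSpectrum_eq_finrank (K : Type u) [Field K] [IsSepClosed K] (C : Type u)
    [CommRing C] [Algebra K C] [Algebra.Etale K C] :
    ENat.card (PrimeSpectrum C) = (Module.finrank K C : ℕ∞) := by
  classical
  haveI : Algebra.EssFiniteType K C := inferInstance
  haveI : Module.Finite K C := Algebra.FormallyUnramified.finite_of_free K C
  haveI : IsArtinianRing C := isArtinian_of_tower K inferInstance
  haveI : Finite (PrimeSpectrum C) := inferInstance
  haveI : Fintype (PrimeSpectrum C) := Fintype.ofFinite _
  let e := Algebra.FormallyEtale.equivPiOfIsSepClosed K C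
  rw [e.toLinearEquiv.finrank_eq, Module.finrank_fintype_fun_eq_card, ENat.card_eq_coe_fintype_card]

/-- A finite étale scheme over a separably closed field has as many points as its rank. -/
theorem card_eq_finrank_of_sepClosed (K : Type u) [Field K] [IsSepClosed K] {P : Scheme.{u}}
    (g : P ⟶ Spec (CommRingCat.of K)) [IsFinite g] [Etale g] (t : Spec (CommRingCat.of K)) :
    ENat.card ↥P = (g.finrank t : ℕ∞) := by
  haveI : IsAffine P := isAffine_of_isAffineHom g
  rw [card_le_of_iso P.isoSpec, ← Scheme.Hom.finrank_comp_left_of_isIso P.isoSpec.inv g]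
  obtain ⟨φ, hφ⟩ := Spec.map_surjective (P.isoSpec.inv ≫ g)
  have hfin : IsFinite (Spec.map φ) := by rw [hφ]; infer_instance
  have het : Etale (Spec.map φ) := by rw [hφ]; infer_instance
  have hflat : Flat (Spec.map φ) := inferInstance
  rw [← hφ]
  rw [IsFinite.SpecMap_iff] at hfin
  rw [Flat.SpecMap_iff] at hflat
  have het' : φ.hom.Etale := (HasRingHomProperty.Spec_iff (P := @Etale)).mp het
  rw [Scheme.Hom.finrank_SpecMap_eq_finrank hfin hflat]
  algebraize [φ.hom]
  rw [← RingHom.algebraMap_toAlgebra φ.hom, RingHom.finrank_algebraMap]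
  rw [Module.rankAtStalk_eq_finrank_of_free]
  exact card_primeSpectrum_eq_finrank K _

/-- counting the points of a base change to a separably closed point. -/
theorem card_pullback_eq_finrank {X Y : Scheme.{u}} (f : X ⟶ Y) [IsFinite f] [Etale f]
    (K : Type u) [Field K] [IsSepClosed K] (s : Spec (CommRingCat.of K) ⟶ Y)
    (t : Spec (CommRingCat.of K)) :
    ENat.card ↥(pullback f s) = (f.finrank (s t) : ℕ∞) := by
  rw [card_eq_finrank_of_sepClosed K (pullback.snd f s) t, Scheme.Hom.finrank_pullback_snd]

/-- the geometric fibre as a pullback along the geometric point -/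
theorem card_geomFiber_eq_pullback {X Y : Scheme.{u}} (f : X ⟶ Y) (y : Y) :
    ENat.card ↥(MoreMor.geomFiber f y) =
      ENat.card ↥(pullback f (Spec.map (CommRingCat.ofHom
      (algebraMap (Y.residueField y) (SeparableClosure (Y.residueField y)))) ≫
        Y.fromSpecResidueField y)) := by
  unfold MoreMor.geomFiber
  exact card_le_of_iso (pullbackLeftPullbackSndIso f (Y.fromSpecResidueField y)
    (Spec.map (CommRingCat.ofHom
      (algebraMap (Y.residueField y) (SeparableClosure (Y.residueField y))))))

theorem card_geomFiber_eq_finrank {X Y : Scheme.{u}} (f : X ⟶ Y) [IsFinite f] [Etale f] (y : Y) :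
    ENat.card ↥(MoreMor.geomFiber f y) = (f.finrank y : ℕ∞) := by
  rw [card_geomFiber_eq_pullback]
  have t : Spec (CommRingCat.of (SeparableClosure (Y.residueField y))) :=
    (⊥ : PrimeSpectrum (SeparableClosure (Y.residueField y)))
  rw [card_pullback_eq_finrank f _ _ t]
  congr 2
  rw [Scheme.Hom.comp_apply, Scheme.fromSpecResidueField_apply]

/-- restricting to an open does not change the count. -/
theorem card_pullback_restrict {X Y : Scheme.{u}} (f : X ⟶ Y) (U : Y.Opens) {T : Scheme.{u}}
    (s' : T ⟶ U) : ENat.card ↥(pullback (f ∣_ U) s') = ENat.card ↥(pullback f (s' ≫ U.ι)) := by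
  have h1 : IsPullback (pullback.fst (f ∣_ U) s') (pullback.snd (f ∣_ U) s') (f ∣_ U) s' :=
    IsPullback.of_hasPullback _ _
  have h2 : IsPullback (f ⁻¹ᵁ U).ι (f ∣_ U) f U.ι := (isPullback_morphismRestrict f U).flip
  have h3 := h1.paste_horiz h2
  exact card_le_of_iso h3.isoPullback

theorem card_geomFiber_eq_finrank_restrict {X Y : Scheme.{u}} (f : X ⟶ Y) (U : Y.Opens)
    [IsFinite (f ∣_ U)] [Etale (f ∣_ U)] (y : Y) (hy : y ∈ U) :
    ENat.card ↥(MoreMor.geomFiber f y) = ((f ∣_ U).finrank ⟨y, hy⟩ : ℕ∞) := by
  rw [card_geomFiber_eq_pullback]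
  set s := Spec.map (CommRingCat.ofHom
      (algebraMap (Y.residueField y) (SeparableClosure (Y.residueField y)))) ≫
        Y.fromSpecResidueField y with hs
  have hrange : Set.range s ⊆ Set.range U.ι := by
    rintro _ ⟨t, rfl⟩
    have : s t = y := by
      rw [hs, Scheme.Hom.comp_apply, Scheme.fromSpecResidueField_apply]
    rw [this]
    exact ⟨⟨y, hy⟩, rfl⟩
  set s' := IsOpenImmersion.lift U.ι s hrange with hs'
  have hfac : s' ≫ U.ι = s := IsOpenImmersion.lift_fac _ _ _
  rw [← hfac, ← card_pullback_restrict]
  have t : Spec (CommRingCat.of (SeparableClosure (Y.residueField y))) :=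
    (⊥ : PrimeSpectrum (SeparableClosure (Y.residueField y)))
  rw [card_pullback_eq_finrank (f ∣_ U) _ s' t]
  congr 2
  apply U.ι.injective
  rw [← Scheme.Hom.comp_apply, hfac, hs, Scheme.Hom.comp_apply, Scheme.fromSpecResidueField_apply]
  rfl

end Groth.Agent.Lead.GeomCount
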