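import Mathlib
import Groth.Prelude
import Groth.Agent.Lib.Lead.GeomCount6
import Groth.Agent.Lib.Lead.Wt13
import Groth.Agent.Lib.Helper2.EtaleLocal

/-!
# Étale separated quasi-compact morphisms: counting geometric points
-/

set_option autoImplicit false
set_option backward.isDefEq.respectTransparency.types false
set_option synthInstance.maxHeartbeats 400000
set_option linter.style.haveILetI false
set_option linter.unusedSectionVars false

universe u

open AlgebraicGeometry CategoryTheory Limits TensorProduct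

namespace Groth.Agent.Lead.GeomCount

theorem nGeomConnComp_eq_card {X Y : Scheme.{u}} (f : X ⟶ Y) [LocallyQuasiFinite f] (y : Y) :
    MoreMor.nGeomConnComp f y = ENat.card ↥(MoreMor.geomFiber f y) := by
  haveI := discreteTopology_geomFiber f y
  unfold MoreMor.nGeomConnComp
  exact card_connectedComponents_of_discrete _

theorem lsc_and_proper {X Y : Scheme.{u}} (f : X ⟶ Y) [Flat f]
    [LocallyOfFinitePresentation f] [IsSeparated f] [LocallyQuasiFinite f] [QuasiCompact f] :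
    LowerSemicontinuous (fun z : Y => MoreMor.nGeomConnComp f z) ∧
      ∀ y₀ : Y, (∃ V ∈ nhds y₀, ∀ z ∈ V, MoreMor.nGeomConnComp f z = MoreMor.nGeomConnComp f y₀) →
        ∃ U : Y.Opens, y₀ ∈ U ∧ IsProper (f ∣_ U) := by
  classical
  have hfin : ∀ y : Y, (f ⁻¹' {y}).Finite := fun y => Scheme.Hom.finite_preimage_singleton f y
  haveI : LocallyOfFiniteType f := inferInstance
  haveI : UniversallyOpen f := inferInstance
  refine ⟨?_, ?_⟩
  · intro y a ha
    obtain ⟨V, hV, hVle⟩ := Groth.Agent.Lead.Wt.S3411_main f hfin y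
      (fun x _ => Groth.Agent.Lead.Wt.isUnivOpenAt_of_universallyOpen f x)
    exact Filter.mem_of_superset hV (fun z hz => lt_of_lt_of_le ha (hVle z hz))
  · intro y₀ hc
    obtain ⟨U, hyU, hU⟩ := Groth.Agent.Lead.Wt.S3412_main f hfin y₀
      (fun x _ => Groth.Agent.Lead.Wt.isUnivOpenAt_of_universallyOpen f x) hc
    exact ⟨U, hyU, inferInstance⟩

theorem S5051_main {X Y : Scheme.{u}} (f : X ⟶ Y) [Etale f] [IsSeparated f]
    [LocallyOfFiniteType f] [QuasiCompact f] :
    LowerSemicontinuous (fun y : Y => ENat.card ↥(MoreMor.geomFiber f y)) := by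
  haveI : LocallyQuasiFinite f := Groth.Agent.Helper2.EtaleLocal.locallyQuasiFinite_of_etale f
  have h := (lsc_and_proper f).1
  have : (fun y : Y => ENat.card ↥(MoreMor.geomFiber f y)) =
      fun z : Y => MoreMor.nGeomConnComp f z := by
    funext y
    exact (nGeomConnComp_eq_card f y).symm
  rw [this]
  exact h

theorem exists_finite_of_const {X Y : Scheme.{u}} (f : X ⟶ Y) [Etale f] [IsSeparated f]
    [LocallyOfFiniteType f] [QuasiCompact f] (y : Y)
    (h : ∃ U : Y.Opens, y ∈ U ∧ ∀ y' : Y, y' ∈ U →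
      ENat.card ↥(MoreMor.geomFiber f y') = ENat.card ↥(MoreMor.geomFiber f y)) :
    ∃ U : Y.Opens, y ∈ U ∧ IsFinite (f ∣_ U) := by
  haveI : LocallyQuasiFinite f := Groth.Agent.Helper2.EtaleLocal.locallyQuasiFinite_of_etale f
  obtain ⟨U, hyU, hU⟩ := h
  obtain ⟨W, hyW, hW⟩ := (lsc_and_proper f).2 y ⟨U, U.2.mem_nhds hyU, fun z hz => by
    rw [nGeomConnComp_eq_card, nGeomConnComp_eq_card]
    exact hU z hz⟩
  haveI : LocallyQuasiFinite (f ∣_ W) := inferInstance
  exact ⟨W, hyW, IsFinite.of_isProper_of_locallyQuasiFinite _⟩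

theorem exists_const_of_finite {X Y : Scheme.{u}} (f : X ⟶ Y) [Etale f] (y : Y)
    (h : ∃ U : Y.Opens, y ∈ U ∧ IsFinite (f ∣_ U)) :
    ∃ U : Y.Opens, y ∈ U ∧ ∀ y' : Y, y' ∈ U →
      ENat.card ↥(MoreMor.geomFiber f y') = ENat.card ↥(MoreMor.geomFiber f y) := by
  obtain ⟨U, hyU, hU⟩ := h
  haveI : Flat (f ∣_ U) := inferInstance
  haveI : LocallyOfFinitePresentation (f ∣_ U) := inferInstance
  have hlc := Scheme.Hom.isLocallyConstant_finrank (f ∣_ U)
  rw [IsLocallyConstant.iff_exists_open] at hlc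
  obtain ⟨W', hW'o, hyW', hW'⟩ := hlc ⟨y, hyU⟩
  refine ⟨U.ι ''ᵁ ⟨W', hW'o⟩, ⟨⟨y, hyU⟩, hyW', rfl⟩, ?_⟩
  rintro y' ⟨w, hw, rfl⟩
  have h1 := card_geomFiber_eq_finrank_restrict f U (U.ι w) w.2
  have h2 := card_geomFiber_eq_finrank_restrict f U y hyU
  have h3 := hW' w hw
  have h4 : (⟨U.ι w, w.2⟩ : ↥U) = w := rfl
  rw [h4] at h1
  exact h1.trans ((congrArg (fun n : ℕ => (n : ℕ∞)) h3).trans h2.symm)

theorem S5052_main {X Y : Scheme.{u}} (f : X ⟶ Y) [Etale f] [IsSeparated f]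
    [LocallyOfFiniteType f] [QuasiCompact f] (y : Y) :
    (∃ U : Y.Opens, y ∈ U ∧ ∀ y' : Y, y' ∈ U →
      ENat.card ↥(MoreMor.geomFiber f y') = ENat.card ↥(MoreMor.geomFiber f y)) ↔
      ∃ U : Y.Opens, y ∈ U ∧ IsFinite (f ∣_ U) :=
  ⟨exists_finite_of_const f y, exists_const_of_finite f y⟩

theorem S5053_main {X Y : Scheme.{u}} [ConnectedSpace ↥Y] (f : X ⟶ Y)
    [Etale f] [IsSeparated f] [LocallyOfFiniteType f] [QuasiCompact f] :
    IsFinite f ↔ ∃ n : ℕ∞, ∀ y : Y, ENat.card ↥(MoreMor.geomFiber f y) = n := by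
  constructor
  · intro hf
    have hlc := Scheme.Hom.isLocallyConstant_finrank f
    obtain ⟨y₀⟩ := (inferInstance : Nonempty ↥Y)
    refine ⟨(f.finrank y₀ : ℕ∞), fun y => ?_⟩
    rw [card_geomFiber_eq_finrank, hlc.apply_eq_of_preconnectedSpace y y₀]
  · rintro ⟨n, hn⟩
    have key : ∀ y : Y, ∃ U : Y.Opens, y ∈ U ∧ IsFinite (f ∣_ U) := fun y =>
      exists_finite_of_const f y ⟨⊤, trivial, fun y' _ => by rw [hn y', hn y]⟩
    choose U hyU hU using key
    have hsup : iSup U = ⊤ := by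
      rw [eq_top_iff]
      intro y _
      exact TopologicalSpace.Opens.mem_iSup.mpr ⟨y, hyU y⟩
    exact (IsZariskiLocalAtTarget.iff_of_iSup_eq_top (P := @IsFinite) U hsup).mpr hU

end Groth.Agent.Lead.GeomCount
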