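import Mathlib
import Groth.Prelude.Def_W4bk4grossh1223Act

set_option autoImplicit false
universe u
open CategoryTheory MonoidalCategory CartesianMonoidalCategory MonObj GrpObj AlgebraicGeometry
open scoped TensorProduct

namespace Groth.Agent.Lead.AGFInv

theorem mulRight_tmul_injective {k : Type u} [Field k] (A : Type u) [CommRing A] [IsDomain A] [Algebra k A]
    (B : Type u) [CommRing B] [Algebra k B] (t : A) (ht : t ≠ 0) (y : B ⊗[k] A)
    (hy : y * ((1 : B) ⊗ₜ[k] t) = 0) : y = 0 := by
  have hinj : Function.Injective ((LinearMap.mulRight k t).lTensor B) := by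
    apply Module.Flat.lTensor_preserves_injective_linearMap
    intro a b hab
    simp only [LinearMap.mulRight_apply] at hab
    exact mul_right_cancel₀ ht hab
  have key : ∀ z : B ⊗[k] A, (LinearMap.mulRight k t).lTensor B z = z * ((1 : B) ⊗ₜ[k] t) := by
    intro z
    induction z using TensorProduct.induction_on with
    | zero => simp
    | tmul b a => simp [Algebra.TensorProduct.tmul_mul_tmul]
    | add x y hx hy => simp only [map_add, hx, hy, add_mul]
  apply hinj
  rw [key, hy, map_zero]

theorem isIntegrallyClosed_fixedSubalgebra {k : Type u} [Field k]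
    {G H : Over (Spec (CommRingCat.of k))} [GrpObj G] [GrpObj H]
    (A : Type u) [CommRing A] [IsDomain A] [Algebra k A] [IsIntegrallyClosed A]
    (ρ : VecGrp.GMod G A) (hρ : ρ.IsMult) (i : H ⟶ G) :
    IsIntegrallyClosed ↥(ρ.fixedSubalgebra hρ i) := by
  rw [isIntegrallyClosed_iff (FractionRing ↥(ρ.fixedSubalgebra hρ i))]
  intro x hx
  let S := ρ.fixedSubalgebra hρ i
  let ψ : S →+* FractionRing A := (algebraMap A (FractionRing A)).comp S.val.toRingHom
  have hψ : Function.Injective ψ := by
    intro a b hab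
    have := IsFractionRing.injective A (FractionRing A) hab
    exact Subtype.ext this
  let φ : FractionRing S →+* FractionRing A := IsFractionRing.lift hψ
  have hφ : ∀ s : S, φ (algebraMap S (FractionRing S) s) = algebraMap A (FractionRing A) (s : A) := by
    intro s
    exact IsFractionRing.lift_algebraMap hψ s
  have hxA : IsIntegral A (φ x) := by
    obtain ⟨p, hp, hpx⟩ := hx
    refine ⟨p.map S.val.toRingHom, hp.map _, ?_⟩
    rw [Polynomial.eval₂_map]
    have e : (algebraMap A (FractionRing A)).comp S.val.toRingHom =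
        φ.comp (algebraMap S (FractionRing S)) := by
      ext s; exact (hφ s).symm
    rw [e, ← Polynomial.hom_eval₂, hpx, map_zero]
  obtain ⟨a, ha⟩ := IsIntegrallyClosed.algebraMap_eq_of_integral hxA
  obtain ⟨s, t, ht, hst⟩ := IsFractionRing.div_surjective (A := S) x
  have ht0 : (t : A) ≠ 0 := by
    intro h0
    have : t = 0 := Subtype.ext h0
    exact (nonZeroDivisors.ne_zero ht) this
  have hat : a * (t : A) = (s : A) := by
    apply IsFractionRing.injective A (FractionRing A)
    rw [map_mul, ha, ← hφ t, ← hφ s, ← map_mul]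
    have hne : algebraMap S (FractionRing S) t ≠ 0 := by
      intro h0
      exact (nonZeroDivisors.ne_zero ht) ((IsFractionRing.injective S (FractionRing S)) (by rw [h0, map_zero]))
    have hx' : x * algebraMap S (FractionRing S) t = algebraMap S (FractionRing S) s := by
      rw [← hst]
      exact div_mul_cancel₀ _ hne
    rw [hx']
  have hmem : a ∈ S := by
    intro B _ _ h
    have hm := (hρ B (h ≫ i)).1
    have h1 : ρ.ρ B (h ≫ i) ((1 : B) ⊗ₜ[k] a) * ρ.ρ B (h ≫ i) ((1 : B) ⊗ₜ[k] (t : A)) =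
        ρ.ρ B (h ≫ i) ((1 : B) ⊗ₜ[k] (s : A)) := by
      rw [← hm]
      congr 1
      rw [Algebra.TensorProduct.tmul_mul_tmul, _root_.one_mul, hat]
    have hs' : ρ.ρ B (h ≫ i) ((1 : B) ⊗ₜ[k] (s : A)) = (1 : B) ⊗ₜ[k] (s : A) := s.2 B h
    have ht' : ρ.ρ B (h ≫ i) ((1 : B) ⊗ₜ[k] (t : A)) = (1 : B) ⊗ₜ[k] (t : A) := t.2 B h
    rw [hs', ht'] at h1
    have h2 : (ρ.ρ B (h ≫ i) ((1 : B) ⊗ₜ[k] a) - (1 : B) ⊗ₜ[k] a) * ((1 : B) ⊗ₜ[k] (t : A)) = 0 := by
      rw [sub_mul, h1, Algebra.TensorProduct.tmul_mul_tmul, _root_.one_mul, hat, sub_self]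
    exact sub_eq_zero.1 (mulRight_tmul_injective A B (t : A) ht0 _ h2)
  refine ⟨⟨a, hmem⟩, ?_⟩
  apply φ.injective
  rw [hφ, ← ha]

end Groth.Agent.Lead.AGFInv
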