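import Mathlib

/-!
# Short exactness of abelian sheaves on a space from sections (lead)
-/

set_option autoImplicit false
set_option linter.style.haveILetI false
universe u
open CategoryTheory CategoryTheory.Limits TopologicalSpace Opposite

namespace Groth.Agent.Lead.AbShExact

variable {X : TopCat.{u}}

theorem mono_of_sections {F G : TopCat.Sheaf AddCommGrpCat.{u} X} (f : F ⟶ G)
    (h1 : ∀ U : Opens X, Function.Injective (f.hom.app (op U))) : Mono f := by
  haveI : ∀ U : (Opens X)ᵒᵖ, Mono (f.hom.app U) := fun U =>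
    (AddCommGrpCat.mono_iff_injective _).mpr (h1 U.unop)
  haveI : Mono f.hom := NatTrans.mono_of_mono_app f.hom
  exact Sheaf.Hom.mono_of_presheaf_mono _ _ f

theorem epi_of_locally {F G : TopCat.Sheaf AddCommGrpCat.{u} X} (g : F ⟶ G)
    (h3 : ∀ (U : Opens X) (t : G.obj.obj (op U)) (x : X), x ∈ U →
      ∃ (V : Opens X) (hV : V ≤ U), x ∈ V ∧
        ∃ s : F.obj.obj (op V), g.hom.app (op V) s = G.obj.map (homOfLE hV).op t) : Epi g := by
  rw [← TopCat.Sheaf.isLocallySurjective_iff_epi, TopCat.Presheaf.isLocallySurjective_iff]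
  intro U t x hx
  obtain ⟨V, hV, hxV, s, hs⟩ := h3 U t x hx
  exact ⟨V, hV, ⟨s, hs⟩, hxV⟩

theorem exact_of_sections (S : ShortComplex (TopCat.Sheaf AddCommGrpCat.{u} X))
    (h2 : ∀ (U : Opens X) (x : S.X₂.obj.obj (op U)), S.g.hom.app (op U) x = 0 →
      ∃ y, S.f.hom.app (op U) y = x) : S.Exact := by
  rw [TopCat.Sheaf.exact_iff_stalkFunctor_map_exact]
  intro x
  rw [ShortComplex.ab_exact_iff]
  intro a ha
  obtain ⟨U, hxU, s, rfl⟩ := TopCat.Presheaf.exists_germ_eq S.X₂.obj a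
  have h4 : TopCat.Presheaf.germ S.X₃.obj U x hxU (S.g.hom.app (op U) s) =
      TopCat.Presheaf.germ S.X₃.obj U x hxU 0 := by
    rw [map_zero]
    refine Eq.trans ?_ ha
    exact (TopCat.Presheaf.stalkFunctor_map_germ_apply U x hxU S.g.hom s).symm
  obtain ⟨W, hxW, i1, i2, h5⟩ := TopCat.Presheaf.germ_eq S.X₃.obj x hxU hxU _ _ h4
  rw [map_zero] at h5
  have h6 : S.g.hom.app (op W) (S.X₂.obj.map i1.op s) = 0 := by
    rw [← h5]
    exact congr($(S.g.hom.naturality i1.op) s)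
  obtain ⟨y, hy⟩ := h2 W _ h6
  refine ⟨TopCat.Presheaf.germ S.X₁.obj W x hxW y, ?_⟩
  have h7 := TopCat.Presheaf.stalkFunctor_map_germ_apply W x hxW S.f.hom y
  refine h7.trans ?_
  rw [hy]
  exact TopCat.Presheaf.germ_res_apply S.X₂.obj i1 x hxW s

theorem shortExact_of_sections (S : ShortComplex (TopCat.Sheaf AddCommGrpCat.{u} X))
    (h1 : ∀ U : Opens X, Function.Injective (S.f.hom.app (op U)))
    (h2 : ∀ (U : Opens X) (x : S.X₂.obj.obj (op U)), S.g.hom.app (op U) x = 0 →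
      ∃ y, S.f.hom.app (op U) y = x)
    (h3 : ∀ (U : Opens X) (t : S.X₃.obj.obj (op U)) (x : X), x ∈ U →
      ∃ (V : Opens X) (hV : V ≤ U), x ∈ V ∧
        ∃ s : S.X₂.obj.obj (op V), S.g.hom.app (op V) s = S.X₃.obj.map (homOfLE hV).op t) :
    S.ShortExact :=
  haveI := mono_of_sections S.f h1
  haveI := epi_of_locally S.g h3
  ShortComplex.ShortExact.mk (exact_of_sections S h2)

end Groth.Agent.Lead.AbShExact
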