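import Mathlib

/-!
# A topological core for affineness over a one-dimensional base (lead)
-/

set_option backward.isDefEq.respectTransparency.types false
set_option autoImplicit false
set_option synthInstance.maxHeartbeats 400000
set_option maxHeartbeats 1000000
set_option linter.style.haveILetI false
set_option linter.unusedSectionVars false
set_option linter.unusedSimpArgs false
universe u

namespace Groth.Agent.Lead.AffDim

open PrimeSpectrum Topology

/-- a dense open subset of a prime spectrum contains all minimal primes -/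
theorem minimal_mem_of_dense {C : Type u} [CommRing C] [IsNoetherianRing C]
    (O : Set (PrimeSpectrum C)) (hO : IsOpen O) (hdense : Dense O)
    (p : PrimeSpectrum C) (hp : p.asIdeal ∈ minimalPrimes C) : p ∈ O := by
  classical
  -- the complement of the other components
  have hfin : (minimalPrimes C).Finite := minimalPrimes.finite_of_isNoetherianRing C
  let F : Set (PrimeSpectrum C) := ⋃ q ∈ (minimalPrimes C \ {p.asIdeal}), zeroLocus (q : Set C)
  have hF : IsClosed F :=
    (hfin.subset Set.diff_subset).isClosed_biUnion fun q _ => isClosed_zeroLocus _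
  have hpF : p ∉ F := by
    intro h
    simp only [F, Set.mem_iUnion, Set.mem_diff, Set.mem_singleton_iff, mem_zeroLocus,
      SetLike.coe_subset_coe] at h
    obtain ⟨q, ⟨hq, hqp⟩, hle⟩ := h
    exact hqp (le_antisymm hle (hp.2 hq.1 hle))
  obtain ⟨x, hxF, hxO⟩ := hdense.inter_open_nonempty Fᶜ hF.isOpen_compl ⟨p, hpF⟩
  obtain ⟨q, hq, hqx⟩ := Ideal.exists_minimalPrimes_le (bot_le : (⊥ : Ideal C) ≤ x.asIdeal)
  have hqp : q = p.asIdeal := by
    by_contra hne
    apply hxF
    simp only [F, Set.mem_iUnion, Set.mem_diff, Set.mem_singleton_iff, mem_zeroLocus,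
      SetLike.coe_subset_coe]
    exact ⟨q, ⟨hq, hne⟩, hqx⟩
  subst hqp
  have hspec : p ⤳ x := (le_iff_specializes p x).mp hqx
  exact hspec.mem_open hO hxO


/-- topological core: `O ∩ D(g)` is a basic open near every point -/
theorem topCore {R C : Type u} [CommRing R] [CommRing C] [IsNoetherianRing R] [IsNoetherianRing C]
    (φ : R →+* C)
    (hdim : ∀ p₀ p₁ p₂ : PrimeSpectrum R, p₀ < p₁ → p₁ ≤ p₂ → p₁ = p₂)
    (O : Set (PrimeSpectrum C)) (hO : IsOpen O) (hdense : Dense O)
    (hfib : ∀ x ∈ O, ∀ z : PrimeSpectrum C, x ⤳ z → comap φ x = comap φ z → z ∈ O)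
    (y : PrimeSpectrum C) :
    ∃ g h : C, y ∈ basicOpen g ∧
      ((basicOpen g : Set (PrimeSpectrum C)) ∩ O = (basicOpen h : Set (PrimeSpectrum C))) := by
  classical
  by_cases hy : y ∈ O
  · obtain ⟨_, ⟨_, ⟨g, rfl⟩, rfl⟩, hyg, hg⟩ :=
      isBasis_basic_opens.exists_subset_of_mem_open hy hO
    exact ⟨g, g, hyg, Set.inter_eq_left.mpr hg⟩
  · obtain ⟨I, hI⟩ : ∃ I : Ideal C, Oᶜ = zeroLocus (I : Set C) :=
      (isClosed_iff_zeroLocus_ideal _).mp hO.isClosed_compl
    have hfinI : (I.minimalPrimes).Finite := I.finite_minimalPrimes_of_isNoetherianRing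
    have key : ∀ q ∈ I.minimalPrimes, ∀ 𝔭 ∈ minimalPrimes R, ¬ (Ideal.comap φ q ≤ 𝔭) := by
      intro q hq 𝔭 h𝔭 hle
      haveI : q.IsPrime := hq.1.1
      have hqZ : (⟨q, inferInstance⟩ : PrimeSpectrum C) ∈ Oᶜ := by
        rw [hI, mem_zeroLocus]; exact hq.1.2
      obtain ⟨p, hp, hpq⟩ := Ideal.exists_minimalPrimes_le (bot_le : (⊥ : Ideal C) ≤ q)
      haveI : p.IsPrime := hp.1.1
      have hpO : (⟨p, inferInstance⟩ : PrimeSpectrum C) ∈ O :=
        minimal_mem_of_dense O hO hdense _ hp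
      have hspec : (⟨p, inferInstance⟩ : PrimeSpectrum C) ⤳ ⟨q, inferInstance⟩ :=
        (le_iff_specializes _ _).mp hpq
      apply hqZ
      apply hfib _ hpO _ hspec
      apply PrimeSpectrum.ext
      have h1 : Ideal.comap φ p ≤ Ideal.comap φ q := Ideal.comap_mono hpq
      have h2 : 𝔭 ≤ Ideal.comap φ p := h𝔭.2 ⟨inferInstance, bot_le⟩ (h1.trans hle)
      exact le_antisymm h1 (hle.trans h2)
    -- prime avoidance
    have hfinR : (minimalPrimes R).Finite := minimalPrimes.finite_of_isNoetherianRing R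
    let 𝔞 : Ideal R := hfinI.toFinset.inf (fun q => Ideal.comap φ q)
    obtain ⟨t, ht𝔞, htmin⟩ : ∃ t : R, t ∈ 𝔞 ∧ ∀ 𝔭 ∈ minimalPrimes R, t ∉ 𝔭 := by
      by_contra hcon
      have hsub : (𝔞 : Set R) ⊆ ⋃ 𝔭 ∈ (↑hfinR.toFinset : Set (Ideal R)), (id 𝔭 : Ideal R) := by
        intro t ht
        by_contra hnot
        apply hcon
        refine ⟨t, ht, fun 𝔭 h𝔭 ht𝔭 => hnot ?_⟩
        simp only [Set.mem_iUnion]
        exact ⟨𝔭, by simpa using h𝔭, ht𝔭⟩
      have hprime : ∀ i ∈ hfinR.toFinset, i ≠ (⊤ : Ideal R) → i ≠ (⊤ : Ideal R) →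
          Ideal.IsPrime (id i : Ideal R) := by
        intro i hi _ _
        exact ((Set.Finite.mem_toFinset hfinR).mp hi).1.1
      obtain ⟨𝔭, h𝔭, hle⟩ := (Ideal.subset_union_prime (⊤ : Ideal R) ⊤ hprime).mp hsub
      have h𝔭' : 𝔭 ∈ minimalPrimes R := (Set.Finite.mem_toFinset hfinR).mp h𝔭
      haveI : 𝔭.IsPrime := h𝔭'.1.1
      obtain ⟨q, hq, hq𝔭⟩ := (Ideal.IsPrime.inf_le' (inferInstance : 𝔭.IsPrime)).mp hle
      exact key q ((Set.Finite.mem_toFinset hfinI).mp hq) 𝔭 h𝔭' hq𝔭
    have ht𝔮 : ∀ q ∈ I.minimalPrimes, φ t ∈ q := by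
      intro q hq
      have : 𝔞 ≤ Ideal.comap φ q :=
        Finset.inf_le (f := fun q => Ideal.comap φ q) ((Set.Finite.mem_toFinset hfinI).mpr hq)
      exact this ht𝔞
    -- every prime containing `t` is closed
    have hclosed : ∀ 𝔮 𝔮' : PrimeSpectrum R, t ∈ 𝔮.asIdeal → 𝔮 ≤ 𝔮' → 𝔮 = 𝔮' := by
      intro 𝔮 𝔮' ht hle
      obtain ⟨𝔭, h𝔭, h𝔭𝔮⟩ := Ideal.exists_minimalPrimes_le (bot_le : (⊥ : Ideal R) ≤ 𝔮.asIdeal)
      haveI : 𝔭.IsPrime := h𝔭.1.1
      have hne : (⟨𝔭, inferInstance⟩ : PrimeSpectrum R) ≠ 𝔮 := by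
        rintro rfl
        exact htmin 𝔭 h𝔭 ht
      exact hdim ⟨𝔭, inferInstance⟩ 𝔮 𝔮' (lt_of_le_of_ne h𝔭𝔮 hne) hle
    -- `Z ⊆ V(φ t)`
    have hZt : ∀ z : PrimeSpectrum C, z ∉ O → φ t ∈ z.asIdeal := by
      intro z hz
      have hz' : z ∈ zeroLocus (I : Set C) := by rw [← hI]; exact hz
      rw [mem_zeroLocus] at hz'
      obtain ⟨q, hq, hqz⟩ := Ideal.exists_minimalPrimes_le (show I ≤ z.asIdeal from hz')
      exact hqz (ht𝔮 q hq)
    -- `Z' = V(φ t) ∩ O` is closed
    let Z' : Set (PrimeSpectrum C) := zeroLocus {φ t} ∩ O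
    have hZ'closed : IsClosed Z' := by
      apply isClosed_of_stableUnderSpecialization_of_isConstructible
      · intro x z hxz hx
        have hxt : φ t ∈ x.asIdeal := by
          have := hx.1
          rw [mem_zeroLocus, Set.singleton_subset_iff] at this
          exact this
        have hle : x ≤ z := (le_iff_specializes x z).mpr hxz
        refine ⟨?_, ?_⟩
        · rw [mem_zeroLocus, Set.singleton_subset_iff]
          exact hle hxt
        · apply hfib x hx.2 z hxz
          apply hclosed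
          · exact hxt
          · exact Ideal.comap_mono hle
      · refine IsConstructible.inter ?_ ?_
        · rw [← isConstructible_compl]
          exact (TopologicalSpace.NoetherianSpace.isCompact _).isConstructible
            (isClosed_zeroLocus _).isOpen_compl
        · exact (TopologicalSpace.NoetherianSpace.isCompact _).isConstructible hO
    have hyZ' : y ∈ Z'ᶜ := fun h => hy h.2
    obtain ⟨_, ⟨_, ⟨g, rfl⟩, rfl⟩, hyg, hg⟩ :=
      isBasis_basic_opens.exists_subset_of_mem_open hyZ' hZ'closed.isOpen_compl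
    refine ⟨g, g * φ t, hyg, ?_⟩
    ext x
    simp only [Set.mem_inter_iff, SetLike.mem_coe, mem_basicOpen]
    constructor
    · rintro ⟨hxg, hxO⟩
      intro hmul
      rcases x.2.mem_or_mem hmul with h | h
      · exact hxg h
      · have : x ∈ Z' := ⟨by rw [mem_zeroLocus, Set.singleton_subset_iff]; exact h, hxO⟩
        exact hg hxg this
    · intro hx
      refine ⟨fun h => hx (Ideal.mul_mem_right _ _ h), ?_⟩
      by_contra hxO
      exact hx (Ideal.mul_mem_left _ _ (hZt x hxO))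

end Groth.Agent.Lead.AffDim
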