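import Mathlib

/-!
# Finite form of Zariski's main theorem over an affine base: ring-level lemmas and assembly (lead)
-/

set_option backward.isDefEq.respectTransparency.types false
set_option autoImplicit false
set_option synthInstance.maxHeartbeats 400000
set_option maxHeartbeats 1000000
set_option linter.style.haveILetI false
set_option linter.unusedSectionVars false
set_option linter.unusedSimpArgs false
universe u
open CategoryTheory CategoryTheory.Limits AlgebraicGeometry

namespace Groth.Agent.Lead.FinZMT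

theorem ringKrullDim_le_of_isIntegral (R S : Type*) [CommRing R] [CommRing S] [Algebra R S]
    [Algebra.IsIntegral R S] : ringKrullDim S ≤ ringKrullDim R := by
  refine Order.krullDim_le_of_strictMono
    (fun I : PrimeSpectrum S ↦
      (⟨Ideal.comap (algebraMap R S) I.asIdeal, inferInstance⟩ : PrimeSpectrum R)) ?_
  intro I J hIJ
  have : I.asIdeal < J.asIdeal := hIJ
  exact Ideal.IsIntegral.comap_lt_comap (R := R) this

/-- one generator: a finite set of elements of `B` such that every subalgebra containing them and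
`g` surjects onto the localization `B_g` after inverting `g`. -/
theorem exists_finset_away (R B L : Type*) [CommRing R] [CommRing B] [CommRing L] [Algebra R B]
    [Algebra B L] [Algebra R L] [IsScalarTower R B L] (g : B) [IsLocalization.Away g L]
    [Algebra.FiniteType R L] :
    ∃ T : Finset B, ∀ B₀ : Subalgebra R B, g ∈ B₀ → (↑T : Set B) ⊆ B₀ →
      ∀ y : L, ∃ b ∈ B₀, ∃ n : ℕ, y * algebraMap B L g ^ n = algebraMap B L b := by
  classical
  obtain ⟨s, hs⟩ := (Algebra.FiniteType.out : (⊤ : Subalgebra R L).FG)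
  have hsurj : ∀ y : L, ∃ (b : B) (n : ℕ), y * algebraMap B L g ^ n = algebraMap B L b := by
    intro y
    obtain ⟨n, b, hb⟩ := IsLocalization.Away.surj g y
    exact ⟨b, n, hb⟩
  choose bf nf hbn using hsurj
  refine ⟨s.image bf, ?_⟩
  intro B₀ hg hT y
  have hy : y ∈ Algebra.adjoin R (s : Set L) := by rw [hs]; trivial
  induction hy using Algebra.adjoin_induction with
  | mem y hy =>
    refine ⟨bf y, hT ?_, nf y, hbn y⟩
    simp only [Finset.coe_image, Set.mem_image, Finset.mem_coe]
    exact ⟨y, hy, rfl⟩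
  | algebraMap r =>
    refine ⟨algebraMap R B r, B₀.algebraMap_mem r, 0, ?_⟩
    rw [pow_zero, _root_.mul_one, ← IsScalarTower.algebraMap_apply]
  | add y y' _ _ ih ih' =>
    obtain ⟨b, hb, n, h⟩ := ih
    obtain ⟨b', hb', n', h'⟩ := ih'
    refine ⟨b * g ^ n' + b' * g ^ n, ?_, n + n', ?_⟩
    · exact B₀.add_mem (B₀.mul_mem hb (B₀.pow_mem hg _)) (B₀.mul_mem hb' (B₀.pow_mem hg _))
    · rw [pow_add, map_add, map_mul, map_mul, map_pow, map_pow, ← h, ← h']; ring
  | mul y y' _ _ ih ih' =>
    obtain ⟨b, hb, n, h⟩ := ih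
    obtain ⟨b', hb', n', h'⟩ := ih'
    refine ⟨b * b', B₀.mul_mem hb hb', n + n', ?_⟩
    rw [pow_add, map_mul, ← h, ← h']; ring

/-- the localisation `B_g` is also the localisation of the subalgebra `B₀` at `g`, hence
`Spec B_g ⟶ Spec B ⟶ Spec B₀` is an open immersion. -/
theorem isOpenImmersion_spec_subalgebra {R B L : Type u} [CommRing R] [CommRing B] [CommRing L]
    [Algebra R B] [Algebra B L] (g : B) [IsLocalization.Away g L] (B₀ : Subalgebra R B)
    (hg : g ∈ B₀)
    (hsurj : ∀ y : L, ∃ b ∈ B₀, ∃ n : ℕ, y * algebraMap B L g ^ n = algebraMap B L b) :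
    IsOpenImmersion (Spec.map (CommRingCat.ofHom (algebraMap B L)) ≫
      Spec.map (CommRingCat.ofHom (algebraMap B₀ B))) := by
  letI : Algebra B₀ L := ((algebraMap B L).comp (algebraMap B₀ B)).toAlgebra
  have hmap : ∀ b : B₀, algebraMap B₀ L b = algebraMap B L (b : B) := fun b => rfl
  haveI : IsLocalization.Away (⟨g, hg⟩ : B₀) L := by
    refine (isLocalization_iff _ _).mpr ⟨?_, ?_, ?_⟩
    · rintro ⟨y, n, rfl⟩
      rw [hmap]
      simp only [SubmonoidClass.coe_pow]
      rw [map_pow]
      exact (IsLocalization.Away.algebraMap_isUnit (S := L) g).pow n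
    · intro z
      obtain ⟨b, hb, n, h⟩ := hsurj z
      refine ⟨(⟨b, hb⟩, ⟨(⟨g, hg⟩ : B₀) ^ n, n, rfl⟩), ?_⟩
      rw [hmap, hmap]
      simpa using h
    · intro x y hxy
      rw [hmap, hmap] at hxy
      obtain ⟨⟨c, n, rfl⟩, hc⟩ := IsLocalization.exists_of_eq (M := Submonoid.powers g) hxy
      refine ⟨⟨(⟨g, hg⟩ : B₀) ^ n, n, rfl⟩, ?_⟩
      apply Subtype.ext
      simpa using hc
  have h1 : IsOpenImmersion (Spec.map (CommRingCat.ofHom (algebraMap B₀ L))) :=
    IsOpenImmersion.of_isLocalization (⟨g, hg⟩ : B₀)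
  have h2 : CommRingCat.ofHom (algebraMap B₀ L) =
      CommRingCat.ofHom (algebraMap B₀ B) ≫ CommRingCat.ofHom (algebraMap B L) := rfl
  rw [h2, Spec.map_comp] at h1
  exact h1

/-- A morphism which restricts to open immersions over opens of the target whose preimages cover
the source is an open immersion. -/
theorem isOpenImmersion_of_cover {X Z : Scheme.{u}} (h : X ⟶ Z) {ι : Type*} (U : ι → X.Opens)
    (V : ι → Z.Opens) (hUV : ∀ k, U k = h ⁻¹ᵁ V k) (hcov : ∀ x : X, ∃ k, x ∈ U k)
    (hV : ∀ k, IsOpenImmersion ((U k).ι ≫ h)) : IsOpenImmersion h := by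
  have hU : TopologicalSpace.IsOpenCover U := by
    apply TopologicalSpace.IsOpenCover.mk
    ext x
    simp only [TopologicalSpace.Opens.coe_iSup, Set.mem_iUnion, SetLike.mem_coe,
      TopologicalSpace.Opens.coe_top, Set.mem_univ, iff_true]
    exact hcov x
  refine IsOpenImmersion.of_openCover_source h (X.openCoverOfIsOpenCover U hU) ?_ (fun k => hV k)
  intro x x' hxx'
  obtain ⟨k, hk⟩ := hcov x
  have hk' : x' ∈ U k := by
    rw [hUV] at hk ⊢
    change h x' ∈ V k
    rw [← hxx']
    exact hk
  have hinj : Function.Injective ((U k).ι ≫ h) := ((U k).ι ≫ h).isOpenEmbedding.injective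
  have h3 := @hinj ⟨x, hk⟩ ⟨x', hk'⟩ (by simpa using hxx')
  exact congrArg Subtype.val h3

end Groth.Agent.Lead.FinZMT
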