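import Mathlib
import Groth.Agent.Lib.Lead.FinZMT1
import Groth.Agent.Lib.Lead.AffDimA

/-!
# Affineness of an open subscheme of an affine scheme from local basic-open data; finite refinement (lead)
-/

set_option backward.isDefEq.respectTransparency.types false
set_option autoImplicit false
set_option synthInstance.maxHeartbeats 400000
set_option maxHeartbeats 1000000
set_option linter.style.haveILetI false
set_option linter.unusedSectionVars false
set_option linter.unusedSimpArgs false
universe u
open CategoryTheory CategoryTheory.Limits AlgebraicGeometry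

namespace Groth.Agent.Lead.AffDim

open Groth.Agent.Lead.FinZMT

theorem affCore {C : Type u} [CommRing C] {X : Scheme.{u}} (j : X ⟶ Spec (.of C))
    [IsOpenImmersion j]
    (H : ∀ y : PrimeSpectrum C, ∃ g h : C, y ∈ PrimeSpectrum.basicOpen g ∧
      ((PrimeSpectrum.basicOpen g : Set (PrimeSpectrum C)) ∩ Set.range j =
        (PrimeSpectrum.basicOpen h : Set (PrimeSpectrum C)))) : IsAffine X := by
  haveI : IsAffineHom j := by
    apply isAffineHom_of_forall_exists_isAffineOpen
    intro y
    obtain ⟨g, h, hyg, hgh⟩ := H y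
    refine ⟨(PrimeSpectrum.basicOpen g : (Spec (.of C)).Opens), hyg,
      IsAffineOpen.Spec_basicOpen (R := CommRingCat.of C) g, ?_⟩
    have heq : j ⁻¹ᵁ (PrimeSpectrum.basicOpen g : (Spec (.of C)).Opens) =
        j ⁻¹ᵁ (PrimeSpectrum.basicOpen h : (Spec (.of C)).Opens) := by
      ext x
      constructor
      · intro hx
        have : j x ∈ (PrimeSpectrum.basicOpen g : Set (PrimeSpectrum C)) ∩ Set.range j :=
          ⟨hx, Set.mem_range_self x⟩
        rw [hgh] at this
        exact this
      · intro hx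
        have : j x ∈ (PrimeSpectrum.basicOpen g : Set (PrimeSpectrum C)) ∩ Set.range j := by
          rw [hgh]; exact hx
        exact this.1
    rw [heq]
    refine (IsAffineOpen.Spec_basicOpen (R := CommRingCat.of C) h).preimage_of_isOpenImmersion j ?_
    intro z hz
    have : z ∈ (PrimeSpectrum.basicOpen g : Set (PrimeSpectrum C)) ∩ Set.range j := by
      rw [hgh]; exact hz
    exact this.2
  exact isAffine_of_isAffineHom j

/-- finite refinement of an integral Zariski main theorem factorisation -/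
theorem exists_finite_subalgebra {R B : Type u} [CommRing R] [CommRing B] [IsNoetherianRing R]
    [Algebra R B] [Algebra.IsIntegral R B]
    {X : Scheme.{u}} [CompactSpace X] (j' : X ⟶ Spec (.of B)) [IsOpenImmersion j']
    [LocallyOfFiniteType (j' ≫ Spec.map (CommRingCat.ofHom (algebraMap R B)))] :
    ∃ B₀ : Subalgebra R B, Module.Finite R B₀ ∧
      IsOpenImmersion (j' ≫ Spec.map (CommRingCat.ofHom (algebraMap B₀ B))) := by
  classical
  let ψ : R →+* B := algebraMap R B
  let f : X ⟶ Spec (.of R) := j' ≫ Spec.map (CommRingCat.ofHom ψ)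
  have hj'p : j' ≫ Spec.map (CommRingCat.ofHom ψ) = f := rfl
  haveI : LocallyOfFiniteType f := ‹_›
  -- Step 1: a finite cover of the image of `X` by basic opens
  have hbasic : ∀ x : X, ∃ g : B, j' x ∈ PrimeSpectrum.basicOpen g ∧
      (PrimeSpectrum.basicOpen g : Set (PrimeSpectrum B)) ⊆ Set.range j' := by
    intro x
    obtain ⟨_, ⟨_, ⟨g, rfl⟩, rfl⟩, hxg, hg⟩ := PrimeSpectrum.isBasis_basic_opens.exists_subset_of_mem_open
      (Set.mem_range_self x) j'.isOpenEmbedding.isOpen_range
    exact ⟨g, hxg, hg⟩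
  choose G hG1 hG2 using hbasic
  obtain ⟨t, ht⟩ := isCompact_univ.elim_finite_subcover
    (fun x : X => (j' ⁻¹ᵁ (PrimeSpectrum.basicOpen (G x)) : Set X))
    (fun x => (j' ⁻¹ᵁ (PrimeSpectrum.basicOpen (G x))).2)
    (fun x _ => Set.mem_iUnion.mpr ⟨x, hG1 x⟩)
  -- Step 2: each localisation is of finite type over `R`
  have hrange : ∀ x : X, Set.range (Spec.map (CommRingCat.ofHom
      (algebraMap B (Localization.Away (G x))))) =
      ((PrimeSpectrum.basicOpen (G x) : TopologicalSpace.Opens (PrimeSpectrum B)) :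
        Set (PrimeSpectrum B)) :=
    fun x => PrimeSpectrum.localization_away_comap_range (Localization.Away (G x)) (G x)
  have hft : ∀ x : X, Algebra.FiniteType R (Localization.Away (G x)) := by
    intro x
    let a : B →+* Localization.Away (G x) := algebraMap B (Localization.Away (G x))
    let m : Spec (.of (Localization.Away (G x))) ⟶ X :=
      IsOpenImmersion.lift j' (Spec.map (CommRingCat.ofHom a)) (by rw [hrange x]; exact hG2 x)
    have hm : m ≫ j' = Spec.map (CommRingCat.ofHom a) := IsOpenImmersion.lift_fac _ _ _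
    haveI : IsOpenImmersion m := by
      haveI : IsOpenImmersion (m ≫ j') := by rw [hm]; infer_instance
      exact IsOpenImmersion.of_comp m j'
    have h1 : m ≫ f = Spec.map (CommRingCat.ofHom (a.comp ψ)) := by
      rw [← hj'p, reassoc_of% hm, ← Spec.map_comp]
      rfl
    haveI : LocallyOfFiniteType (Spec.map (CommRingCat.ofHom (a.comp ψ))) := by
      rw [← h1]; infer_instance
    have h2 : (a.comp ψ).FiniteType :=
      (HasRingHomProperty.Spec_iff (P := @LocallyOfFiniteType)
        (φ := CommRingCat.ofHom (a.comp ψ))).mp inferInstance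
    have h3 : a.comp ψ = algebraMap R (Localization.Away (G x)) :=
      (IsScalarTower.algebraMap_eq R B (Localization.Away (G x))).symm
    rw [h3] at h2
    exact (RingHom.finiteType_algebraMap).mp h2
  -- Step 3: a finite subalgebra
  choose T hT using fun x : X =>
    @exists_finset_away R B (Localization.Away (G x)) _ _ _ _ _ _ _ (G x) _ (hft x)
  let S₀ : Finset B := t.image G ∪ t.biUnion T
  let B₀ : Subalgebra R B := Algebra.adjoin R (↑S₀ : Set B)
  have hGmem : ∀ x ∈ t, G x ∈ B₀ := by
    intro x hx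
    apply Algebra.subset_adjoin
    simp only [S₀, Finset.coe_union, Finset.coe_image, Set.mem_union, Set.mem_image,
      Finset.mem_coe]
    exact Or.inl ⟨x, hx, rfl⟩
  have hTsub : ∀ x ∈ t, (↑(T x) : Set B) ⊆ B₀ := by
    intro x hx b hb
    apply Algebra.subset_adjoin
    simp only [S₀, Finset.coe_union, Set.mem_union, Finset.mem_coe, Finset.mem_biUnion]
    exact Or.inr ⟨x, hx, hb⟩
  have hfg : (Subalgebra.toSubmodule B₀).FG :=
    fg_adjoin_of_finite S₀.finite_toSet (fun b _ => Algebra.IsIntegral.isIntegral b)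
  have hfin : Module.Finite R B₀ := Module.Finite.iff_fg.mpr hfg
  refine ⟨B₀, hfin, ?_⟩
  -- Step 4/5: the map to `Spec B₀` is an open immersion
  let Z : Scheme.{u} := Spec (.of B₀)
  let π : Spec (.of B) ⟶ Z := Spec.map (CommRingCat.ofHom (algebraMap B₀ B))
  let h : X ⟶ Z := j' ≫ π
  have hpre : ∀ (g : B) (hg : g ∈ B₀),
      π ⁻¹ᵁ (PrimeSpectrum.basicOpen (⟨g, hg⟩ : B₀) : Z.Opens) =
        (PrimeSpectrum.basicOpen g : (Spec (.of B)).Opens) := by
    intro g hg
    ext q
    rfl
  change IsOpenImmersion h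
  refine isOpenImmersion_of_cover h
    (fun k : {x // x ∈ t} => j' ⁻¹ᵁ (PrimeSpectrum.basicOpen (G k.1) : (Spec (.of B)).Opens))
    (fun k : {x // x ∈ t} =>
      (PrimeSpectrum.basicOpen (⟨G k.1, hGmem k.1 k.2⟩ : B₀) : Z.Opens)) ?_ ?_ ?_
  · intro k
    exact (congrArg (fun W => j' ⁻¹ᵁ W) (hpre (G k.1) (hGmem k.1 k.2)).symm).trans
      (Scheme.Hom.comp_preimage j' π _).symm
  · intro x
    have hx := ht (Set.mem_univ x)
    simp only [Set.mem_iUnion] at hx
    obtain ⟨y, hy, hxy⟩ := hx
    exact ⟨⟨y, hy⟩, hxy⟩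
  · intro k
    let U : X.Opens := j' ⁻¹ᵁ (PrimeSpectrum.basicOpen (G k.1) : (Spec (.of B)).Opens)
    let a : B →+* Localization.Away (G k.1) := algebraMap B (Localization.Away (G k.1))
    let l : (U : Scheme.{u}) ⟶ Spec (.of (Localization.Away (G k.1))) :=
      IsOpenImmersion.lift (Spec.map (CommRingCat.ofHom a)) (U.ι ≫ j') (by
        rw [hrange k.1]
        rintro _ ⟨x, rfl⟩
        exact x.2)
    have hl : l ≫ Spec.map (CommRingCat.ofHom a) = U.ι ≫ j' := IsOpenImmersion.lift_fac _ _ _
    haveI : IsOpenImmersion l := by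
      haveI : IsOpenImmersion (l ≫ Spec.map (CommRingCat.ofHom a)) := by
        rw [hl]; infer_instance
      exact IsOpenImmersion.of_comp l (Spec.map (CommRingCat.ofHom a))
    haveI h2 : IsOpenImmersion (Spec.map (CommRingCat.ofHom a) ≫ π) :=
      isOpenImmersion_spec_subalgebra (G k.1) B₀ (hGmem k.1 k.2)
        (hT k.1 B₀ (hGmem k.1 k.2) (hTsub k.1 k.2))
    have h3 : U.ι ≫ h = l ≫ (Spec.map (CommRingCat.ofHom a) ≫ π) :=
      calc U.ι ≫ h = (U.ι ≫ j') ≫ π := (Category.assoc _ _ _).symm
        _ = (l ≫ Spec.map (CommRingCat.ofHom a)) ≫ π := by rw [hl]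
        _ = _ := Category.assoc _ _ _
    change IsOpenImmersion (U.ι ≫ h)
    rw [h3]
    infer_instance

end Groth.Agent.Lead.AffDim
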