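import Mathlib
import Groth.Agent.Lib.Lead.AffDimB

/-!
# Affineness in an affine chart (lead)
-/

set_option backward.isDefEq.respectTransparency.types false
set_option autoImplicit false
set_option synthInstance.maxHeartbeats 400000
set_option maxHeartbeats 1000000
set_option linter.style.haveILetI false
set_option linter.unusedSectionVars false
set_option linter.unusedSimpArgs false
universe u
open CategoryTheory CategoryTheory.Limits AlgebraicGeometry

namespace Groth.Agent.Lead.AffDim

theorem chartCore {R B C' : Type u} [CommRing R] [CommRing B] [CommRing C']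
    [IsNoetherianRing R] [IsNoetherianRing B] [Algebra B C'] [Algebra.IsIntegral B C']
    (φ : R →+* B)
    (hdim : ∀ p₀ p₁ p₂ : PrimeSpectrum R, p₀ < p₁ → p₁ ≤ p₂ → p₁ = p₂)
    {X' : Scheme.{u}} [CompactSpace X'] (j'' : X' ⟶ Spec (.of C')) [IsOpenImmersion j'']
    (hdense : DenseRange j'')
    [LocallyOfFiniteType (j'' ≫ Spec.map (CommRingCat.ofHom (algebraMap B C')))]
    (hfib : ∀ (x : X') (c : PrimeSpectrum C'), (j'' x : PrimeSpectrum C') ⤳ c →
      PrimeSpectrum.comap ((algebraMap B C').comp φ) (j'' x) =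
        PrimeSpectrum.comap ((algebraMap B C').comp φ) c → c ∈ Set.range j'') :
    IsAffine X' := by
  obtain ⟨B₀, hfin, hopen⟩ := exists_finite_subalgebra (R := B) (B := C') j''
  haveI := hfin
  haveI := hopen
  haveI : IsNoetherianRing B₀ := Algebra.FiniteType.isNoetherianRing B B₀
  let ι₀ : B₀ →+* C' := algebraMap B₀ C'
  have hι₀int : ι₀.IsIntegral := by
    intro c
    have hc : IsIntegral B c := Algebra.IsIntegral.isIntegral c
    exact IsIntegral.tower_top hc
  have hι₀inj : Function.Injective ι₀ := Subtype.val_injective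
  let π : Spec (.of C') ⟶ Spec (.of B₀) := Spec.map (CommRingCat.ofHom ι₀)
  let h₀ : X' ⟶ Spec (.of B₀) := j'' ≫ π
  haveI : IsOpenImmersion h₀ := hopen
  let φ₀ : R →+* B₀ := (algebraMap B B₀).comp φ
  have hφ : (algebraMap B C').comp φ = ι₀.comp φ₀ := by
    ext r
    rfl
  have hπ : ∀ c : PrimeSpectrum C', (π c : PrimeSpectrum B₀) = PrimeSpectrum.comap ι₀ c :=
    fun c => rfl
  have hh₀ : ∀ x : X', (h₀ x : PrimeSpectrum B₀) = PrimeSpectrum.comap ι₀ (j'' x) := fun x => rfl
  apply affCore h₀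
  intro y
  refine topCore φ₀ hdim (Set.range h₀) h₀.isOpenEmbedding.isOpen_range ?_ ?_ y
  · -- density
    have hsurj : Function.Surjective (PrimeSpectrum.comap ι₀) :=
      hι₀int.comap_surjective hι₀inj
    have hd : DenseRange ((PrimeSpectrum.comap ι₀) ∘ (fun x : X' => (j'' x : PrimeSpectrum C'))) :=
      (hsurj.denseRange).comp hdense (PrimeSpectrum.continuous_comap ι₀)
    exact hd
  · rintro _ ⟨x, rfl⟩ b hab hcomap
    have hcl : IsClosedMap (PrimeSpectrum.comap ι₀) :=
      PrimeSpectrum.isClosedMap_comap_of_isIntegral ι₀ hι₀int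
    have hab' : PrimeSpectrum.comap ι₀ (j'' x) ⤳ b := hab
    obtain ⟨c, hc1, hc2⟩ := hcl.specializingMap hab'
    have hc1' : (j'' x : PrimeSpectrum C') ⤳ c := hc1
    have hmem : c ∈ Set.range j'' := by
      apply hfib x c hc1'
      have e1 : ∀ c : PrimeSpectrum C', PrimeSpectrum.comap (ι₀.comp φ₀) c =
          PrimeSpectrum.comap φ₀ (PrimeSpectrum.comap ι₀ c) := fun c => rfl
      rw [hφ, e1, e1, hc2]
      exact hcomap
    obtain ⟨x₂, hx₂⟩ := hmem
    refine ⟨x₂, ?_⟩
    rw [hh₀, hx₂]
    exact hc2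

end Groth.Agent.Lead.AffDim
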