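import Mathlib
import Groth.Prelude.Def_Red
import Groth.Agent.Lib.Helper4.SchClosGrp1

set_option backward.isDefEq.respectTransparency.types false
set_option autoImplicit false
set_option synthInstance.maxHeartbeats 400000
set_option maxHeartbeats 1000000
set_option linter.style.haveILetI false
set_option linter.unusedSectionVars false
set_option linter.unusedSimpArgs false

universe u
open CategoryTheory CategoryTheory.Limits AlgebraicGeometry TopologicalSpace Opposite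
open MonoidalCategory CartesianMonoidalCategory MonObj
open Groth.Agent.Lib.Helper4.SchClosGrp1

namespace Groth.Agent.Lead.GrpMonoCl

/-- The (flat) scheme-theoretic image of a homomorphism from a flat group scheme is a closed
subgroup scheme through which the homomorphism factors as a homomorphism. -/
theorem exists_grp_image {S : Scheme.{u}} (G H : Over S) [GrpObj G] [GrpObj H] [Flat G.hom]
    (u : G ⟶ H) [IsMonHom u]
    (Z : Scheme.{u}) (j : Z ⟶ H.left) [IsClosedImmersion j] (φ : G.left ⟶ Z)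
    [IsSchemeTheoreticallyDominant φ] [QuasiCompact φ]
    (hφj : φ ≫ j = u.left) [Flat (j ≫ H.hom)] :
    ∃ (_ : GrpObj (Over.mk (j ≫ H.hom))) (φ' : G ⟶ Over.mk (j ≫ H.hom)),
      IsMonHom (Over.homMk j rfl : Over.mk (j ≫ H.hom) ⟶ H) ∧ IsMonHom φ' ∧ φ'.left = φ ∧
        φ' ≫ (Over.homMk j rfl : Over.mk (j ≫ H.hom) ⟶ H) = u := by
  let Hz : Over S := Over.mk (j ≫ H.hom)
  let jH : Hz ⟶ H := Over.homMk j rfl
  haveI : Mono jH := by
    haveI : Mono jH.left := (inferInstance : Mono j)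
    exact Over.mono_of_mono_left jH
  have h1 : φ ≫ Hz.hom = G.hom := by
    show φ ≫ j ≫ H.hom = G.hom
    rw [← Category.assoc, hφj]
    exact Over.w u
  let φ' : G ⟶ Hz := Over.homMk φ h1
  have hφ'j : φ' ≫ jH = u := Over.OverMorphism.ext hφj
  haveI : Flat (φ ≫ Hz.hom) := by rw [h1]; infer_instance
  haveI : Flat Hz.hom := (inferInstance : Flat (j ≫ H.hom))
  let c' : pullback G.hom G.hom ⟶ pullback (φ ≫ Hz.hom) (φ ≫ Hz.hom) :=
    pullback.map G.hom G.hom (φ ≫ Hz.hom) (φ ≫ Hz.hom) (𝟙 _) (𝟙 _) (𝟙 S)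
      (by rw [Category.id_comp, Category.comp_id, h1]) (by rw [Category.id_comp, Category.comp_id, h1])
  haveI : IsIso c' := isIso_map_of_mono G.hom G.hom (𝟙 S) _ _
    (by rw [Category.comp_id, h1]) (by rw [Category.comp_id, h1])
  let ψ1 : pullback (φ ≫ Hz.hom) (φ ≫ Hz.hom) ⟶ pullback Hz.hom (φ ≫ Hz.hom) :=
    pullback.map (φ ≫ Hz.hom) (φ ≫ Hz.hom) Hz.hom (φ ≫ Hz.hom) φ (𝟙 _) (𝟙 _) (by simp) (by simp)
  haveI : IsSchemeTheoreticallyDominant ψ1 := schDominant_map_left φ Hz.hom (φ ≫ Hz.hom)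
  let ψ2 : pullback Hz.hom (φ ≫ Hz.hom) ⟶ pullback Hz.hom Hz.hom :=
    pullback.map Hz.hom (φ ≫ Hz.hom) Hz.hom Hz.hom (𝟙 _) φ (𝟙 _) (by simp) (by simp)
  haveI : IsSchemeTheoreticallyDominant ψ2 := schDominant_map_right φ Hz.hom Hz.hom
  obtain ⟨ψ, hψdom, hψfst, hψsnd⟩ : ∃ ψ : pullback G.hom G.hom ⟶ pullback Hz.hom Hz.hom,
      IsSchemeTheoreticallyDominant ψ ∧
      ψ ≫ pullback.fst Hz.hom Hz.hom = pullback.fst G.hom G.hom ≫ φ ∧
      ψ ≫ pullback.snd Hz.hom Hz.hom = pullback.snd G.hom G.hom ≫ φ := by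
    refine ⟨c' ≫ ψ1 ≫ ψ2, inferInstance, ?_, ?_⟩
    · have e1 : ψ2 ≫ pullback.fst Hz.hom Hz.hom = pullback.fst Hz.hom (φ ≫ Hz.hom) :=
        (pullback.lift_fst _ _ _).trans (Category.comp_id _)
      have e2 : ψ1 ≫ pullback.fst Hz.hom (φ ≫ Hz.hom) =
          pullback.fst (φ ≫ Hz.hom) (φ ≫ Hz.hom) ≫ φ := pullback.lift_fst _ _ _
      have e3 : c' ≫ pullback.fst (φ ≫ Hz.hom) (φ ≫ Hz.hom) = pullback.fst G.hom G.hom :=
        (pullback.lift_fst _ _ _).trans (Category.comp_id _)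
      rw [Category.assoc, Category.assoc, e1, e2, ← Category.assoc, e3]
    · have e1 : ψ2 ≫ pullback.snd Hz.hom Hz.hom = pullback.snd Hz.hom (φ ≫ Hz.hom) ≫ φ :=
        pullback.lift_snd _ _ _
      have e2 : ψ1 ≫ pullback.snd Hz.hom (φ ≫ Hz.hom) = pullback.snd (φ ≫ Hz.hom) (φ ≫ Hz.hom) :=
        (pullback.lift_snd _ _ _).trans (Category.comp_id _)
      have e3 : c' ≫ pullback.snd (φ ≫ Hz.hom) (φ ≫ Hz.hom) = pullback.snd G.hom G.hom :=
        (pullback.lift_snd _ _ _).trans (Category.comp_id _)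
      rw [Category.assoc, Category.assoc, e1, ← Category.assoc ψ1, e2, ← Category.assoc, e3]
  -- Claim B
  have hB3 : ψ ≫ (jH ⊗ₘ jH).left = (u ⊗ₘ u).left := by
    have t1 : (jH ⊗ₘ jH).left ≫ pullback.fst H.hom H.hom = pullback.fst Hz.hom Hz.hom ≫ j := by
      rw [Over.tensorHom_left]; exact pullback.lift_fst _ _ _
    have t2 : (u ⊗ₘ u).left ≫ pullback.fst H.hom H.hom = pullback.fst G.hom G.hom ≫ u.left := by
      rw [Over.tensorHom_left]; exact pullback.lift_fst _ _ _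
    have t1' : (jH ⊗ₘ jH).left ≫ pullback.snd H.hom H.hom = pullback.snd Hz.hom Hz.hom ≫ j := by
      rw [Over.tensorHom_left]; exact pullback.lift_snd _ _ _
    have t2' : (u ⊗ₘ u).left ≫ pullback.snd H.hom H.hom = pullback.snd G.hom G.hom ≫ u.left := by
      rw [Over.tensorHom_left]; exact pullback.lift_snd _ _ _
    apply pullback.hom_ext
    · calc (ψ ≫ (jH ⊗ₘ jH).left) ≫ pullback.fst H.hom H.hom
          = ψ ≫ ((jH ⊗ₘ jH).left ≫ pullback.fst H.hom H.hom) := Category.assoc _ _ _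
        _ = ψ ≫ (pullback.fst Hz.hom Hz.hom ≫ j) := by rw [t1]
        _ = (pullback.fst G.hom G.hom ≫ φ) ≫ j := by rw [← Category.assoc, hψfst]
        _ = pullback.fst G.hom G.hom ≫ u.left := by rw [Category.assoc, hφj]
        _ = (u ⊗ₘ u).left ≫ pullback.fst H.hom H.hom := t2.symm
    · calc (ψ ≫ (jH ⊗ₘ jH).left) ≫ pullback.snd H.hom H.hom
          = ψ ≫ ((jH ⊗ₘ jH).left ≫ pullback.snd H.hom H.hom) := Category.assoc _ _ _
        _ = ψ ≫ (pullback.snd Hz.hom Hz.hom ≫ j) := by rw [t1']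
        _ = (pullback.snd G.hom G.hom ≫ φ) ≫ j := by rw [← Category.assoc, hψsnd]
        _ = pullback.snd G.hom G.hom ≫ u.left := by rw [Category.assoc, hφj]
        _ = (u ⊗ₘ u).left ≫ pullback.snd H.hom H.hom := t2'.symm
  have hB : ψ ≫ ((jH ⊗ₘ jH) ≫ μ[H]).left = ((μ[G]).left ≫ φ) ≫ j := by
    rw [Over.comp_left, ← Category.assoc, hB3, ← Over.comp_left, ← IsMonHom.mul_hom u,
      Over.comp_left, Category.assoc, hφj]
  obtain ⟨lμ, hlμ⟩ := exists_lift_of_schDominant j ψ ((jH ⊗ₘ jH) ≫ μ[H]).left _ hB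
  -- Claim D
  have hD : φ ≫ (j ≫ (ι[H]).left) = ((ι[G]).left ≫ φ) ≫ j := by
    rw [← Category.assoc, hφj, Category.assoc, hφj, ← Over.comp_left, ← Over.comp_left,
      GrpObj.inv_hom u]
  obtain ⟨lι, hlι⟩ := exists_lift_of_schDominant j φ (j ≫ (ι[H]).left) _ hD
  let mulH : Hz ⊗ Hz ⟶ Hz := Over.homMk lμ (by
    show lμ ≫ j ≫ H.hom = (Hz ⊗ Hz).hom
    rw [← Category.assoc, hlμ]
    exact Over.w ((jH ⊗ₘ jH) ≫ μ[H]))
  let oneH : 𝟙_ (Over S) ⟶ Hz := η[G] ≫ φ'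
  let invH : Hz ⟶ Hz := Over.homMk lι (by
    show lι ≫ j ≫ H.hom = j ≫ H.hom
    rw [← Category.assoc, hlι, Category.assoc, Over.w ι[H]])
  have hm : mulH ≫ jH = (jH ⊗ₘ jH) ≫ μ[H] := Over.OverMorphism.ext hlμ
  have ho : oneH ≫ jH = η[H] := by
    show (η[G] ≫ φ') ≫ jH = η[H]
    rw [Category.assoc, hφ'j, IsMonHom.one_hom]
  have hi : invH ≫ jH = jH ≫ ι[H] := Over.OverMorphism.ext hlι
  letI inst : GrpObj Hz := grpObjOfMono jH oneH mulH invH ho hm hi
  haveI hjH : IsMonHom jH := { one_hom := ho, mul_hom := hm }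
  refine ⟨inst, φ', hjH, ?_, rfl, hφ'j⟩
  refine { one_hom := rfl, mul_hom := ?_ }
  rw [← cancel_mono jH, Category.assoc, hφ'j, IsMonHom.mul_hom u, Category.assoc]
  show (u ⊗ₘ u) ≫ μ[H] = (φ' ⊗ₘ φ') ≫ mulH ≫ jH
  rw [hm, ← Category.assoc, MonoidalCategory.tensorHom_comp_tensorHom, hφ'j]

end Groth.Agent.Lead.GrpMonoCl
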