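import Mathlib
import Groth.Agent.Lib.Helper6.GenFin.Top

set_option autoImplicit false
set_option backward.isDefEq.respectTransparency.types false
set_option synthInstance.maxHeartbeats 400000
set_option linter.style.haveILetI false
set_option linter.unusedSectionVars false

universe u

open AlgebraicGeometry CategoryTheory Limits

namespace Groth.Agent.Lead.NwDense

variable {A C : Type*} [CommRing A] [CommRing C] [Algebra A C]

/-- `C/I` is generated near `p` by `k` elements. -/
def GenAt (I : Ideal C) (p : PrimeSpectrum A) (k : ℕ) : Prop :=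
  ∃ (c : Fin k → C) (s : A), s ∉ p.asIdeal ∧
    ∀ x : C, s • x ∈ I.restrictScalars A ⊔ Submodule.span A (Set.range c)

theorem genAt_of_finite [Module.Finite A C] (I : Ideal C) :
    ∃ n : ℕ, ∃ γ : Fin n → C, Submodule.span A (Set.range γ) = ⊤ ∧
      ∀ p : PrimeSpectrum A, GenAt I p n := by
  obtain ⟨n, γ, hγ⟩ := Module.Finite.exists_fin (R := A) (M := C)
  refine ⟨n, γ, hγ, fun p => ⟨γ, 1, ?_, ?_⟩⟩
  · exact fun h => p.2.ne_top ((Ideal.eq_top_iff_one _).mpr h)
  · intro x
    rw [one_smul, hγ]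
    exact Submodule.mem_sup_right Submodule.mem_top

/-- Dropping a generator with an invertible coefficient in a relation. -/
theorem genAt_pred (I : Ideal C) (p : PrimeSpectrum A) (k : ℕ) (c : Fin (k + 1) → C) (s : A)
    (hs : s ∉ p.asIdeal)
    (hc : ∀ x : C, s • x ∈ I.restrictScalars A ⊔ Submodule.span A (Set.range c))
    (r : Fin (k + 1) → A) (m : Fin (k + 1)) (hrm : r m ∉ p.asIdeal)
    (hrel : ∑ j, r j • c j ∈ I) : GenAt I p k := by
  classical
  refine ⟨fun j => c (m.succAbove j), r m * s, ?_, ?_⟩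
  · exact fun h => (p.2.mem_or_mem h).elim hrm hs
  · set S' : Submodule A C :=
      I.restrictScalars A ⊔ Submodule.span A (Set.range fun j => c (m.succAbove j)) with hS'
    have hI : I.restrictScalars A ≤ S' := le_sup_left
    have hcj : ∀ j : Fin k, c (m.succAbove j) ∈ S' := fun j =>
      Submodule.mem_sup_right (Submodule.subset_span ⟨j, rfl⟩)
    have hm : r m • c m ∈ S' := by
      have h1 : r m • c m = ∑ j, r j • c j - ∑ j : Fin k, r (m.succAbove j) • c (m.succAbove j) := by
        rw [Fin.sum_univ_succAbove _ m]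
        ring
      rw [h1]
      refine S'.sub_mem (hI hrel) (S'.sum_mem fun j _ => S'.smul_mem _ (hcj j))
    have hall : ∀ j : Fin (k + 1), r m • c j ∈ S' := by
      intro j
      rcases Fin.eq_self_or_eq_succAbove m j with h | ⟨j', h⟩
      · rw [h]; exact hm
      · rw [h]; exact S'.smul_mem _ (hcj j')
    have hle : I.restrictScalars A ⊔ Submodule.span A (Set.range c) ≤
        S'.comap ((r m) • (LinearMap.id : C →ₗ[A] C)) := by
      refine sup_le ?_ (Submodule.span_le.mpr ?_)
      · intro y hy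
        show r m • y ∈ S'
        exact hI (Submodule.smul_mem _ _ hy)
      · rintro _ ⟨j, rfl⟩
        exact hall j
    intro x
    have := hle (hc x)
    change r m • (s • x) ∈ S' at this
    rwa [smul_smul] at this


set_option maxHeartbeats 1000000 in
/-- Key algebra statement: for a finite ring map, if the image of `V(I)` contains a nonempty
basic open, then `V(I)` contains a nonempty open. -/
theorem exists_open_subset_zeroLocus [Module.Finite A C] (I : Ideal C) (a : A)
    (hne : (PrimeSpectrum.basicOpen a : Set (PrimeSpectrum A)).Nonempty)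
    (hsub : (PrimeSpectrum.basicOpen a : Set (PrimeSpectrum A)) ⊆
      PrimeSpectrum.comap (algebraMap A C) '' PrimeSpectrum.zeroLocus (I : Set C)) :
    ∃ O : Set (PrimeSpectrum C), IsOpen O ∧ O.Nonempty ∧
      O ⊆ PrimeSpectrum.zeroLocus (I : Set C) := by
  classical
  obtain ⟨n, γ, hγ, hG⟩ := genAt_of_finite (A := A) I
  have hex : ∃ k, ∃ p ∈ (PrimeSpectrum.basicOpen a : Set (PrimeSpectrum A)), GenAt I p k := by
    obtain ⟨p₁, hp₁⟩ := hne
    exact ⟨n, p₁, hp₁, hG p₁⟩
  obtain ⟨k, ⟨p₀, hp₀, c, s, hs, hc⟩, hmin⟩ :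
      ∃ k, (∃ p ∈ (PrimeSpectrum.basicOpen a : Set (PrimeSpectrum A)), GenAt I p k) ∧
        ∀ k' < k, ∀ p ∈ (PrimeSpectrum.basicOpen a : Set (PrimeSpectrum A)), ¬ GenAt I p k' :=
    ⟨Nat.find hex, Nat.find_spec hex, fun k' hk' p hp h => Nat.find_min hex hk' ⟨p, hp, h⟩⟩
  have hγs : ∀ j, ∃ y ∈ I.restrictScalars A, ∃ z ∈ Submodule.span A (Set.range c),
      y + z = s • γ j := fun j => Submodule.mem_sup.mp (hc (γ j))
  choose i hi z hz hiz using hγs
  set I' : Ideal C := Ideal.span (Set.range i) with hI'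
  have hI'I : I' ≤ I := Ideal.span_le.mpr (by rintro _ ⟨j, rfl⟩; exact hi j)
  have hsmulI : ∀ (J : Ideal C) (r : A) (x : C), x ∈ J → r • x ∈ J := fun J r x hx => by
    rw [Algebra.smul_def]; exact J.mul_mem_left _ hx
  -- Claim 1
  have claim1 : ∀ x : C, s • x ∈ I'.restrictScalars A ⊔ Submodule.span A (Set.range c) := by
    have hle : Submodule.span A (Set.range γ) ≤
        (I'.restrictScalars A ⊔ Submodule.span A (Set.range c)).comap
          (s • (LinearMap.id : C →ₗ[A] C)) := by
      refine Submodule.span_le.mpr ?_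
      rintro _ ⟨j, rfl⟩
      show s • γ j ∈ I'.restrictScalars A ⊔ Submodule.span A (Set.range c)
      rw [← hiz j]
      exact add_mem (Submodule.mem_sup_left (Ideal.subset_span ⟨j, rfl⟩))
        (Submodule.mem_sup_right (hz j))
    intro x
    have hx : x ∈ Submodule.span A (Set.range γ) := by rw [hγ]; exact Submodule.mem_top
    exact hle hx
  -- Claim 2
  have claim2 : ∀ q : PrimeSpectrum C, I' ≤ q.asIdeal → algebraMap A C a ∉ q.asIdeal →
      algebraMap A C s ∉ q.asIdeal → I ≤ q.asIdeal := by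
    intro q hq hqa hqs
    by_contra hIq
    obtain ⟨i₀, hi₀I, hi₀q⟩ := SetLike.not_le_iff_exists.mp hIq
    have h1 : ∀ l, ∃ y ∈ I', ∃ r : Fin k → A, y + ∑ m, r m • c m = s • (i₀ * c l) := by
      intro l
      obtain ⟨y, hy, z', hz', hyz⟩ := Submodule.mem_sup.mp (claim1 (i₀ * c l))
      obtain ⟨r, hr⟩ := (Submodule.mem_span_range_iff_exists_fun A).mp hz'
      exact ⟨y, hy, r, by rw [hr]; exact hyz⟩
    choose y hy r hr using h1
    have hrel : ∀ l, ∑ m, r l m • c m ∈ I := by
      intro l
      have : ∑ m, r l m • c m = s • (i₀ * c l) - y l := by rw [← hr l]; ring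
      rw [this]
      exact I.sub_mem (hsmulI I _ _ (I.mul_mem_right _ hi₀I)) (hI'I (hy l))
    have hrq : ∀ l m, algebraMap A C (r l m) ∈ q.asIdeal := by
      intro l m
      by_contra hrm
      obtain ⟨k', rfl⟩ : ∃ k', k = k' + 1 :=
        Nat.exists_eq_succ_of_ne_zero (by rintro rfl; exact l.elim0)
      refine hmin k' (Nat.lt_succ_self k') (PrimeSpectrum.comap (algebraMap A C) q) ?_
        (genAt_pred I (PrimeSpectrum.comap (algebraMap A C) q) k' c s ?_ hc (r l) m ?_ (hrel l))
      · exact hqa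
      · exact hqs
      · exact hrm
    have h2 : ∀ l, s • (i₀ * c l) ∈ q.asIdeal := by
      intro l
      rw [← hr l]
      refine add_mem (hq (hy l)) (sum_mem fun m _ => ?_)
      rw [Algebra.smul_def]
      exact q.asIdeal.mul_mem_right _ (hrq l m)
    obtain ⟨y₁, hy₁, z₁, hz₁, hyz₁⟩ := Submodule.mem_sup.mp (claim1 1)
    obtain ⟨b, hb⟩ := (Submodule.mem_span_range_iff_exists_fun A).mp hz₁
    have h3 : s • (s • i₀) ∈ q.asIdeal := by
      have e : s • (s • i₀) = s • (i₀ * y₁) + ∑ m, b m • (s • (i₀ * c m)) := by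
        have e1 : s • i₀ = i₀ * (s • (1 : C)) := by rw [mul_smul_comm, mul_one]
        rw [e1, ← hyz₁, ← hb, mul_add, smul_add, Finset.mul_sum, Finset.smul_sum]
        congr 1
        refine Finset.sum_congr rfl fun m _ => ?_
        rw [mul_smul_comm, smul_comm]
      rw [e]
      refine add_mem (hsmulI _ _ _ (q.asIdeal.mul_mem_left _ (hq hy₁)))
        (sum_mem fun m _ => hsmulI _ _ _ (h2 m))
    rw [Algebra.smul_def, Algebra.smul_def] at h3
    rcases q.2.mem_or_mem h3 with h | h
    · exact hqs h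
    · rcases q.2.mem_or_mem h with h | h
      · exact hqs h
      · exact hi₀q h
  -- Claim 3: a minimal prime in V(I) over a minimal prime in D(as)
  obtain ⟨η, hηmin, hηle⟩ := Ideal.exists_minimalPrimes_le (I := (⊥ : Ideal A))
    (J := p₀.asIdeal) bot_le
  have hηp : η.IsPrime := hηmin.1.1
  have hηa : a ∉ η := fun h => hp₀ (hηle h)
  have hηs : s ∉ η := fun h => hs (hηle h)
  obtain ⟨t, htI, htη⟩ := hsub (show (⟨η, hηp⟩ : PrimeSpectrum A) ∈
    (PrimeSpectrum.basicOpen a : Set (PrimeSpectrum A)) from hηa)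
  have htη' : t.asIdeal.comap (algebraMap A C) = η := congrArg PrimeSpectrum.asIdeal htη
  have htmin : t.asIdeal ∈ minimalPrimes C := by
    obtain ⟨t', ht'min, ht'le⟩ := Ideal.exists_minimalPrimes_le (I := (⊥ : Ideal C))
      (J := t.asIdeal) bot_le
    have ht'p : t'.IsPrime := ht'min.1.1
    have h1 : t'.comap (algebraMap A C) ≤ η := htη' ▸ Ideal.comap_mono ht'le
    have h2 : η ≤ t'.comap (algebraMap A C) := hηmin.2 ⟨inferInstance, bot_le⟩ h1
    have h3 : t'.comap (algebraMap A C) = t.asIdeal.comap (algebraMap A C) := by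
      rw [htη']; exact le_antisymm h1 h2
    have h4 : t' = t.asIdeal := by
      by_contra hne'
      have hlt : t' < t.asIdeal := lt_of_le_of_ne ht'le hne'
      have := Ideal.IsIntegral.comap_lt_comap (R := A) hlt
      exact (ne_of_lt this) h3
    exact h4 ▸ ht'min
  have hti : ∀ j, i j ∈ t.asIdeal := fun j => htI (hi j)
  have htcl : ∀ j, t ∉ closure (PrimeSpectrum.basicOpen (i j) : Set (PrimeSpectrum C)) := by
    intro j hcl
    obtain ⟨w, hw, hwt⟩ :=
      Groth.Agent.Lib.Helper6.GenFin.exists_specializes_of_mem_closure_basicOpen (i j) hcl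
    have hwle : w.asIdeal ≤ t.asIdeal := (PrimeSpectrum.le_iff_specializes w t).mpr hwt
    have := htmin.2 ⟨w.2, bot_le⟩ hwle
    exact hw (this (hti j))
  refine ⟨(⋂ j, (closure (PrimeSpectrum.basicOpen (i j) : Set (PrimeSpectrum C)))ᶜ) ∩
    ((PrimeSpectrum.basicOpen (algebraMap A C a) : Set (PrimeSpectrum C)) ∩
      (PrimeSpectrum.basicOpen (algebraMap A C s) : Set (PrimeSpectrum C))), ?_, ⟨t, ?_⟩, ?_⟩
  · exact (isOpen_iInter_of_finite fun j => isClosed_closure.isOpen_compl).inter
      ((PrimeSpectrum.basicOpen _).2.inter (PrimeSpectrum.basicOpen _).2)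
  · refine ⟨Set.mem_iInter.mpr htcl, ?_, ?_⟩
    · show algebraMap A C a ∉ t.asIdeal
      intro h
      exact hηa (htη' ▸ h)
    · show algebraMap A C s ∉ t.asIdeal
      intro h
      exact hηs (htη' ▸ h)
  · rintro q ⟨hq1, hq2, hq3⟩
    have hI'q : I' ≤ q.asIdeal := by
      refine Ideal.span_le.mpr ?_
      rintro _ ⟨j, rfl⟩
      by_contra hij
      exact Set.mem_iInter.mp hq1 j (subset_closure hij)
    exact claim2 q hI'q hq2 hq3

end Groth.Agent.Lead.NwDense
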