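import Mathlib
import Groth.Agent.Lib.Lead.NwDense1

set_option autoImplicit false
set_option backward.isDefEq.respectTransparency.types false
set_option synthInstance.maxHeartbeats 400000
set_option linter.style.haveILetI false
set_option linter.unusedSectionVars false

universe u

open AlgebraicGeometry CategoryTheory Limits

namespace Groth.Agent.Lead.NwDense

theorem spec_case {A C : CommRingCat.{u}} (φ : A ⟶ C) (hφ : φ.hom.Finite) (T : Set ↥(Spec C))
    (hT : IsClosed T) (W : Set ↥(Spec A)) (hW : IsOpen W) (hWne : W.Nonempty)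
    (hWT : W ⊆ Spec.map φ '' T) : ∃ O : Set ↥(Spec C), IsOpen O ∧ O.Nonempty ∧ O ⊆ T := by
  letI := φ.hom.toAlgebra
  haveI : Module.Finite A C := hφ
  obtain ⟨w, hw⟩ := hWne
  obtain ⟨_, ⟨a, rfl⟩, hwa, haW⟩ :=
    PrimeSpectrum.isTopologicalBasis_basic_opens.exists_subset_of_mem_open hw hW
  have hTz : (T : Set (PrimeSpectrum C)) =
      PrimeSpectrum.zeroLocus ((PrimeSpectrum.vanishingIdeal T : Ideal C) : Set C) := by
    rw [PrimeSpectrum.zeroLocus_vanishingIdeal_eq_closure]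
    exact hT.closure_eq.symm
  obtain ⟨O, hO, hOne, hOT⟩ := exists_open_subset_zeroLocus (A := A) (C := C)
    (PrimeSpectrum.vanishingIdeal T) a ⟨w, hwa⟩ (by
      intro p hp
      obtain ⟨t, ht, htp⟩ := hWT (haW hp)
      exact ⟨t, hTz ▸ ht, htp⟩)
  exact ⟨O, hO, hOne, fun q hq => hTz ▸ hOT hq⟩

theorem affine_case {P Q : Scheme.{u}} [IsAffine P] [IsAffine Q] (g : P ⟶ Q) [IsFinite g]
    (T : Set P) (hT : IsClosed T) (W : Set Q) (hW : IsOpen W) (hWne : W.Nonempty)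
    (hWT : W ⊆ g '' T) : ∃ O : Set P, IsOpen O ∧ O.Nonempty ∧ O ⊆ T := by
  have hnat := Scheme.isoSpec_hom_naturality g
  have hPinv : ∀ x : P, P.isoSpec.inv (P.isoSpec.hom x) = x := fun x => by
    rw [← Scheme.Hom.comp_apply, Iso.hom_inv_id]; rfl
  have hQinv : ∀ x : Q, Q.isoSpec.inv (Q.isoSpec.hom x) = x := fun x => by
    rw [← Scheme.Hom.comp_apply, Iso.hom_inv_id]; rfl
  have hQinv' : ∀ x, Q.isoSpec.hom (Q.isoSpec.inv x) = x := fun x => by
    rw [← Scheme.Hom.comp_apply, Iso.inv_hom_id]; rfl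
  have hPinv' : ∀ x, P.isoSpec.hom (P.isoSpec.inv x) = x := fun x => by
    rw [← Scheme.Hom.comp_apply, Iso.inv_hom_id]; rfl
  obtain ⟨w, hw⟩ := hWne
  obtain ⟨O', hO', hO'ne, hO'T⟩ := spec_case g.appTop g.finite_appTop (P.isoSpec.inv ⁻¹' T)
    (hT.preimage P.isoSpec.inv.continuous) (Q.isoSpec.inv ⁻¹' W)
    (hW.preimage Q.isoSpec.inv.continuous) ⟨Q.isoSpec.hom w, by
      show Q.isoSpec.inv (Q.isoSpec.hom w) ∈ W
      rw [hQinv]; exact hw⟩ (by
      intro w' hw'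
      obtain ⟨t, ht, htw⟩ := hWT hw'
      refine ⟨P.isoSpec.hom t, ?_, ?_⟩
      · show P.isoSpec.inv (P.isoSpec.hom t) ∈ T
        rw [hPinv]; exact ht
      · rw [← Scheme.Hom.comp_apply, hnat, Scheme.Hom.comp_apply, htw, hQinv'])
  obtain ⟨o, ho⟩ := hO'ne
  refine ⟨P.isoSpec.hom ⁻¹' O', hO'.preimage P.isoSpec.hom.continuous, ⟨P.isoSpec.inv o, ?_⟩, ?_⟩
  · show P.isoSpec.hom (P.isoSpec.inv o) ∈ O'
    rw [hPinv']; exact ho
  · intro x hx
    have := hO'T hx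
    change P.isoSpec.inv (P.isoSpec.hom x) ∈ T at this
    rwa [hPinv] at this

theorem exists_open_subset_of_isFinite {P Q : Scheme.{u}} (g : P ⟶ Q) [IsFinite g]
    (T : Set P) (hT : IsClosed T) (W : Set Q) (hW : IsOpen W) (hWne : W.Nonempty)
    (hWT : W ⊆ g '' T) : ∃ O : Set P, IsOpen O ∧ O.Nonempty ∧ O ⊆ T := by
  obtain ⟨x, hx⟩ := hWne
  obtain ⟨_, ⟨V, hV, rfl⟩, hxV, hVW⟩ := Q.isBasis_affineOpens.exists_subset_of_mem_open hx hW
  haveI : IsAffine (V : Scheme.{u}) := hV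
  haveI : IsAffine ((g ⁻¹ᵁ V : P.Opens) : Scheme.{u}) := hV.preimage g
  haveI : IsFinite (g ∣_ V) := inferInstance
  obtain ⟨O', hO', hO'ne, hO'T⟩ := affine_case (g ∣_ V) ((g ⁻¹ᵁ V).ι ⁻¹' T)
    (hT.preimage (g ⁻¹ᵁ V).ι.continuous) Set.univ isOpen_univ ⟨⟨x, hxV⟩, trivial⟩ (by
      intro v _
      obtain ⟨t, ht, htv⟩ := hWT (hVW v.2)
      have htV : t ∈ g ⁻¹ᵁ V := by
        show g t ∈ V
        rw [htv]; exact v.2
      refine ⟨⟨t, htV⟩, ht, ?_⟩
      apply Subtype.ext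
      exact (morphismRestrict_base_coe g V ⟨t, htV⟩).trans htv)
  obtain ⟨o, ho⟩ := hO'ne
  refine ⟨(g ⁻¹ᵁ V).ι '' O', (g ⁻¹ᵁ V).ι.isOpenEmbedding.isOpenMap _ hO', ⟨_, o, ho, rfl⟩, ?_⟩
  rintro _ ⟨y, hy, rfl⟩
  exact hO'T hy

/-- The image of a closed nowhere dense set under a finite morphism is closed and nowhere
dense. -/
theorem isNowhereDense_image_of_isFinite {P Q : Scheme.{u}} (g : P ⟶ Q) [IsFinite g]
    (T : Set P) (hT : IsClosed T) (hnd : IsNowhereDense T) :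
    IsClosed (g '' T) ∧ IsNowhereDense (g '' T) := by
  have hcl : IsClosed (g '' T) := g.isClosedMap _ hT
  refine ⟨hcl, ?_⟩
  unfold IsNowhereDense at hnd ⊢
  rw [hcl.closure_eq]
  rw [hT.closure_eq] at hnd
  by_contra hne
  obtain ⟨O, hO, hOne, hOT⟩ := exists_open_subset_of_isFinite g T hT (interior (g '' T))
    isOpen_interior (Set.nonempty_iff_ne_empty.mpr hne) interior_subset
  have : O ⊆ interior T := interior_maximal hOT hO
  rw [hnd] at this
  exact hOne.ne_empty (Set.subset_empty_iff.mp this)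

end Groth.Agent.Lead.NwDense
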