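import Mathlib
import Groth.Agent.Lib.Lead.NwDense2
import Groth.Agent.Lib.Helper6.GenFin.Main
import Groth.Agent.Lib.Helper6.GenFin.Dense
import Groth.Agent.Lib.Helper6.LocIso.QFGeneric
import Groth.Agent.Lib.Helper7.NowDense.Main

set_option autoImplicit false
set_option backward.isDefEq.respectTransparency.types false
set_option synthInstance.maxHeartbeats 400000
set_option linter.style.haveILetI false
set_option linter.unusedSectionVars false

universe u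

open AlgebraicGeometry CategoryTheory Limits

namespace Groth.Agent.Lead.NwDense

section Top

variable {α : Type*} [TopologicalSpace α]

theorem closed_nowhereDense_union {A B : Set α} (hA : IsClosed A ∧ IsNowhereDense A)
    (hB : IsClosed B ∧ IsNowhereDense B) : IsClosed (A ∪ B) ∧ IsNowhereDense (A ∪ B) := by
  rw [isClosed_isNowhereDense_iff_compl] at hA hB ⊢
  rw [Set.compl_union]
  exact ⟨hA.1.inter hB.1, hA.2.inter_of_isOpen_left hB.2 hA.1⟩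

theorem closed_nowhereDense_biUnion {κ : Type*} (N : κ → Set α) (s : Finset κ)
    (h : ∀ i ∈ s, IsClosed (N i) ∧ IsNowhereDense (N i)) :
    IsClosed (⋃ i ∈ s, N i) ∧ IsNowhereDense (⋃ i ∈ s, N i) := by
  classical
  induction s using Finset.induction_on with
  | empty => simp [isNowhereDense_empty]
  | insert a s _ ih =>
    rw [Finset.set_biUnion_insert]
    exact closed_nowhereDense_union (h a (Finset.mem_insert_self a s))
      (ih fun i hi => h i (Finset.mem_insert_of_mem hi))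

theorem closed_nowhereDense_iUnion {κ : Type*} [Finite κ] (N : κ → Set α)
    (h : ∀ i, IsClosed (N i) ∧ IsNowhereDense (N i)) :
    IsClosed (⋃ i, N i) ∧ IsNowhereDense (⋃ i, N i) := by
  classical
  haveI := Fintype.ofFinite κ
  have := closed_nowhereDense_biUnion N Finset.univ fun i _ => h i
  simpa using this

theorem isNowhereDense_frontier_of_isOpen {s : Set α} (hs : IsOpen s) :
    IsNowhereDense (frontier s) := by
  rw [isClosed_frontier.isNowhereDense_iff, ← frontier_compl]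
  exact interior_frontier hs.isClosed_compl

end Top


open Groth.Agent.Lib.Helper6.GenFin Groth.Agent.Lib.Helper6.LocIso in
set_option maxHeartbeats 1000000 in
/-- Local structure: inside any nonempty open of the target there are a nonempty open `V₁`
contained in an affine open `V₀`, and a finite affine cover of `f⁻¹ V₀`, each member of which
is finite over `V₁`. -/
theorem exists_local_finite_cover {Y X : Scheme.{u}} (f : Y ⟶ X) [LocallyQuasiFinite f]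
    [LocallyOfFiniteType f] [QuasiCompact f] (W : X.Opens) (hW : (W : Set X).Nonempty) :
    ∃ (V₀ V₁ : X.Opens) (ι : Type u) (_ : Finite ι) (U : ι → Y.Opens),
      IsAffineOpen V₀ ∧ V₀ ≤ W ∧ V₁ ≤ V₀ ∧ (V₁ : Set X).Nonempty ∧ (∀ i, IsAffineOpen (U i)) ∧
      (∀ i, U i ≤ f ⁻¹ᵁ V₀) ∧ (∀ x : Y, f x ∈ V₀ → ∃ i, x ∈ U i) ∧
      ∀ i, IsFinite (((U i).ι ≫ f) ∣_ V₁) := by
  classical
  obtain ⟨w, hw⟩ := hW
  obtain ⟨_, ⟨V₀, hV₀, rfl⟩, hwV₀, hV₀W⟩ :=
    X.isBasis_affineOpens.exists_subset_of_mem_open hw W.2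
  obtain ⟨η, hηgen, hηw⟩ := exists_generic_specializes w
  have hηV₀ : η ∈ V₀ := hηw.mem_open V₀.2 hwV₀
  have hη : ∀ y : X, y ⤳ η → y = η := fun y hy => eq_of_specializes_of_closure_mem hηgen hy
  have hcpt : IsCompact ((f ⁻¹ᵁ V₀ : Y.Opens) : Set Y) := f.isCompact_preimage hV₀.isCompact
  obtain ⟨s, hs, hsU⟩ := (isCompact_iff_finite_and_eq_biUnion_affineOpens).mp hcpt
  have hsfin : Finite ↥s := hs.to_subtype
  have hUle : ∀ i : ↥s, (i.1.1 : Y.Opens) ≤ f ⁻¹ᵁ V₀ := fun i =>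
    (le_iSup₂ (f := fun (j : Y.affineOpens) (_ : j ∈ s) => (j : Y.Opens)) i.1 i.2).trans_eq
      hsU.symm
  have hcov : ∀ x : Y, f x ∈ V₀ → ∃ i : ↥s, x ∈ (i.1.1 : Y.Opens) := by
    intro x hx
    have : x ∈ (f ⁻¹ᵁ V₀ : Y.Opens) := hx
    rw [hsU] at this
    obtain ⟨i, hi⟩ := TopologicalSpace.Opens.mem_iSup.mp this
    obtain ⟨hi', hxi⟩ := TopologicalSpace.Opens.mem_iSup.mp hi
    exact ⟨⟨i, hi'⟩, hxi⟩
  have hfin : (f ⁻¹' {η}).Finite := Scheme.Hom.finite_preimage_singleton f η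
  have h1 : ∀ i : ↥s, ∃ V' : X.Opens, V' ≤ V₀ ∧ η ∈ V' ∧
      IsFinite (((i.1.1 : Y.Opens).ι ≫ f) ∣_ V') := fun i =>
    exists_isFinite_morphismRestrict_ι_comp f η hη hV₀ hηV₀ i.1.2 (hUle i)
      (hfin.subset fun x hx => hx.2)
  choose V' hV'le hV'η hV'fin using h1
  let V₁ : X.Opens := ⟨(V₀ : Set X) ∩ ⋂ i, (V' i : Set X),
    V₀.2.inter (isOpen_iInter_of_finite fun i => (V' i).2)⟩
  have hV₁le : ∀ i, V₁ ≤ V' i := fun i x hx => Set.mem_iInter.mp hx.2 i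
  have hV₁V₀ : V₁ ≤ V₀ := fun x hx => hx.1
  have hηV₁ : η ∈ V₁ := ⟨hηV₀, Set.mem_iInter.mpr hV'η⟩
  refine ⟨V₀, V₁, ↥s, hsfin, fun i => (i.1.1 : Y.Opens), hV₀, hV₀W, hV₁V₀, ⟨η, hηV₁⟩,
    fun i => i.1.2, hUle, hcov, fun i => ?_⟩
  exact isFinite_morphismRestrict_of_le _ (hV₁le i) (hV'fin i)

set_option maxHeartbeats 1000000 in
/-- Images of relatively nowhere dense closed sets under the finite pieces. -/
theorem image_nowhereDense {Y X : Scheme.{u}} (f : Y ⟶ X) (V₁ : X.Opens) (U : Y.Opens)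
    (hfin : IsFinite ((U.ι ≫ f) ∣_ V₁)) (Z : Set Y) (hZ : IsClosed Z)
    (hnd : IsNowhereDense (Z ∩ (U : Set Y))) :
    IsClosed {v : ↥V₁ | ∃ z ∈ Z, z ∈ U ∧ f z = v.1} ∧
      IsNowhereDense {v : ↥V₁ | ∃ z ∈ Z, z ∈ U ∧ f z = v.1} := by
  let S := ((U.ι ≫ f) ⁻¹ᵁ V₁ : U.toScheme.Opens)
  let e : ↥S → Y := fun x => (x.1.1 : Y)
  have he : Topology.IsOpenEmbedding e :=
    U.2.isOpenEmbedding_subtypeVal.comp S.2.isOpenEmbedding_subtypeVal
  let T : Set ↥S := e ⁻¹' Z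
  have hT : IsClosed T := hZ.preimage he.continuous
  have hTnd : IsNowhereDense T := by
    have : T = e ⁻¹' (Z ∩ (U : Set Y)) := by
      ext x
      exact ⟨fun hx => ⟨hx, x.1.2⟩, fun hx => hx.1⟩
    rw [this]
    exact Groth.Agent.Helper7.NowDense.isNowhereDense_preimage_of_isOpenEmbedding he hnd
  have himg : {v : ↥V₁ | ∃ z ∈ Z, z ∈ U ∧ f z = v.1} = ((U.ι ≫ f) ∣_ V₁) '' T := by
    ext v
    constructor
    · rintro ⟨z, hzZ, hzU, hzv⟩
      have hzS : (⟨z, hzU⟩ : U.toScheme) ∈ S := by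
        show (U.ι ≫ f) ⟨z, hzU⟩ ∈ V₁
        rw [Scheme.Hom.comp_apply]
        show f z ∈ V₁
        rw [hzv]; exact v.2
      refine ⟨⟨⟨z, hzU⟩, hzS⟩, hzZ, ?_⟩
      apply Subtype.ext
      refine (morphismRestrict_base_coe (U.ι ≫ f) V₁ ⟨⟨z, hzU⟩, hzS⟩).trans ?_
      rw [Scheme.Hom.comp_apply]
      exact hzv
    · rintro ⟨x, hxT, rfl⟩
      refine ⟨x.1.1, hxT, x.1.2, ?_⟩
      have := morphismRestrict_base_coe (U.ι ≫ f) V₁ x
      rw [this, Scheme.Hom.comp_apply]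
      rfl
  rw [himg]
  haveI := hfin
  exact isNowhereDense_image_of_isFinite ((U.ι ≫ f) ∣_ V₁) T hT hTnd


set_option maxHeartbeats 1000000 in
theorem S0439_main {Y X : Scheme.{u}} (f : Y ⟶ X) [LocallyQuasiFinite f]
    [LocallyOfFiniteType f] [QuasiCompact f] (T : Set Y) (hT : IsClosed T)
    (hT' : IsNowhereDense T) : IsNowhereDense (f '' T) := by
  classical
  unfold IsNowhereDense
  by_contra hne
  obtain ⟨V₀, V₁, ι, hι, U, hV₀, hV₀W, hV₁V₀, hV₁ne, hU, hUle, hcov, hfin⟩ :=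
    exists_local_finite_cover f ⟨interior (closure (f '' T)), isOpen_interior⟩
      (Set.nonempty_iff_ne_empty.mpr hne)
  have hN : ∀ i, IsClosed {v : ↥V₁ | ∃ z ∈ T, z ∈ U i ∧ f z = v.1} ∧
      IsNowhereDense {v : ↥V₁ | ∃ z ∈ T, z ∈ U i ∧ f z = v.1} := fun i =>
    image_nowhereDense f V₁ (U i) (hfin i) T hT (hT'.mono Set.inter_subset_left)
  obtain ⟨hNcl, hNnd⟩ := closed_nowhereDense_iUnion _ hN
  have hall : (⋃ i, {v : ↥V₁ | ∃ z ∈ T, z ∈ U i ∧ f z = v.1}) = Set.univ := by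
    rw [Set.eq_univ_iff_forall]
    intro v
    rw [← hNcl.closure_eq, mem_closure_iff]
    intro O hO hvO
    have hO' : IsOpen (Subtype.val '' O : Set X) := V₁.2.isOpenMap_subtype_val _ hO
    have hv : v.1 ∈ closure (f '' T) := interior_subset (hV₀W (hV₁V₀ v.2))
    obtain ⟨x, ⟨o, hoO, rfl⟩, t, ht, hto⟩ := mem_closure_iff.mp hv _ hO' ⟨v, hvO, rfl⟩
    obtain ⟨i, hi⟩ := hcov t (by rw [hto]; exact hV₁V₀ o.2)
    exact ⟨o, hoO, Set.mem_iUnion.mpr ⟨i, t, ht, hi, hto⟩⟩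
  rw [hall] at hNnd
  unfold IsNowhereDense at hNnd
  rw [closure_univ, interior_univ] at hNnd
  obtain ⟨x, hx⟩ := hV₁ne
  have : (⟨x, hx⟩ : ↥V₁) ∈ (Set.univ : Set ↥V₁) := Set.mem_univ _
  rw [hNnd] at this
  exact this

open Groth.Agent.Lib.Helper6.GenFin Groth.Agent.Lib.Helper6.LocIso in
set_option maxHeartbeats 1000000 in
theorem exists_finite_open {Y X : Scheme.{u}} (f : Y ⟶ X) [LocallyQuasiFinite f]
    [LocallyOfFiniteType f] [QuasiCompact f] (W : X.Opens) (hW : (W : Set X).Nonempty) :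
    ∃ V : X.Opens, V ≤ W ∧ (V : Set X).Nonempty ∧ IsFinite (f ∣_ V) := by
  classical
  obtain ⟨V₀, V₁, ι, hι, U, hV₀, hV₀W, hV₁V₀, hV₁ne, hU, hUle, hcov, hfin⟩ :=
    exists_local_finite_cover f W hW
  let Z : ι → ι → Set Y := fun i k => closure ((U i : Set Y) ∩ U k) ∩ (U i : Set Y)ᶜ
  have hZ : ∀ i k, IsClosed (Z i k) := fun i k =>
    isClosed_closure.inter (U i).2.isClosed_compl
  have hZnd : ∀ i k, IsNowhereDense (Z i k ∩ (U k : Set Y)) := by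
    intro i k
    refine (isNowhereDense_frontier_of_isOpen ((U i).2.inter (U k).2)).mono ?_
    rintro z ⟨⟨hz1, hz2⟩, -⟩
    exact ⟨hz1, fun h => hz2 (interior_subset h).1⟩
  have hN : ∀ p : ι × ι, IsClosed {v : ↥V₁ | ∃ z ∈ Z p.1 p.2, z ∈ U p.2 ∧ f z = v.1} ∧
      IsNowhereDense {v : ↥V₁ | ∃ z ∈ Z p.1 p.2, z ∈ U p.2 ∧ f z = v.1} := fun p =>
    image_nowhereDense f V₁ (U p.2) (hfin p.2) (Z p.1 p.2) (hZ p.1 p.2) (hZnd p.1 p.2)
  have hNall := closed_nowhereDense_iUnion _ hN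
  rw [isClosed_isNowhereDense_iff_compl] at hNall
  obtain ⟨hNo, hNd⟩ := hNall
  haveI : Nonempty ↥V₁ := by
    obtain ⟨x, hx⟩ := hV₁ne
    exact ⟨⟨x, hx⟩⟩
  obtain ⟨y, hy⟩ := hNd.nonempty
  obtain ⟨η, hηgen, hηy⟩ := exists_generic_specializes (y.1 : X)
  have hη : ∀ y' : X, y' ⤳ η → y' = η := fun y' hy' =>
    eq_of_specializes_of_closure_mem hηgen hy'
  have hV₂ : IsOpen (Subtype.val '' (⋃ p : ι × ι,
      {v : ↥V₁ | ∃ z ∈ Z p.1 p.2, z ∈ U p.2 ∧ f z = v.1})ᶜ : Set X) :=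
    V₁.2.isOpenMap_subtype_val _ hNo
  obtain ⟨y', hy', hy'η⟩ := hηy.mem_open hV₂ ⟨y, hy, rfl⟩
  have hηV₁ : η ∈ V₁ := hy'η ▸ y'.2
  have hfib : (f ⁻¹' {η}).Finite := Scheme.Hom.finite_preimage_singleton f η
  obtain ⟨V, -, hVV₀, hηV, hfinV⟩ := exists_isFinite_morphismRestrict_of_cover f η hη hV₀
    (hV₁V₀ hηV₁) U hU hUle hcov hfib (by
      intro i k z hzk hfz hzcl
      by_contra hzi
      apply hy'
      refine Set.mem_iUnion.mpr ⟨(i, k), z, ⟨hzcl, hzi⟩, hzk, ?_⟩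
      rw [hfz, hy'η])
  exact ⟨V, hVV₀.trans hV₀W, ⟨η, hηV⟩, hfinV⟩

open Groth.Agent.Lib.Helper6.GenFin in
theorem S0409_main {Y X : Scheme.{u}} (f : Y ⟶ X) [LocallyQuasiFinite f]
    [LocallyOfFiniteType f] [QuasiCompact f] :
    ∃ U : X.Opens, Dense (U : Set X) ∧ IsFinite (f ∣_ U) := by
  refine ⟨⨆ V : {V : X.Opens // IsFinite (f ∣_ V)}, V.1, ?_,
    isFinite_morphismRestrict_iSup f _ fun V => V.2⟩
  rw [dense_iff_inter_open]
  intro O hO hOne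
  obtain ⟨V, hVO, ⟨x, hxV⟩, hVfin⟩ := exists_finite_open f ⟨O, hO⟩ hOne
  exact ⟨x, hVO hxV, TopologicalSpace.Opens.mem_iSup.mpr ⟨⟨V, hVfin⟩, hxV⟩⟩

end Groth.Agent.Lead.NwDense
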