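import Mathlib
import Groth.Agent.Lib.Lead.NwDense3

set_option backward.isDefEq.respectTransparency.types false
set_option autoImplicit false
set_option synthInstance.maxHeartbeats 400000
set_option maxHeartbeats 1000000
set_option linter.style.haveILetI false
set_option linter.unusedSectionVars false

universe u
open CategoryTheory CategoryTheory.Limits AlgebraicGeometry TopologicalSpace Opposite

namespace Groth.Agent.Lead.MonoImm

theorem isImmersion_restrict_congr {X Y : Scheme.{u}} {f g : X ⟶ Y} (h : f = g) (U : Y.Opens)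
    (hg : IsImmersion (g ∣_ U)) : IsImmersion (f ∣_ U) := by
  subst h; exact hg

theorem isFinite_restrict_congr {X Y : Scheme.{u}} (f : X ⟶ Y) {W V : Y.Opens} (h : W = V)
    (hV : IsFinite (f ∣_ V)) : IsFinite (f ∣_ W) := by
  subst h; exact hV

theorem mono_restrict {X Y : Scheme.{u}} (f : X ⟶ Y) [Mono f] (V : Y.Opens) : Mono (f ∣_ V) := by
  haveI : Mono ((f ∣_ V) ≫ V.ι) := by
    rw [morphismRestrict_ι]; infer_instance
  exact mono_of_mono (f ∣_ V) V.ι

theorem main_aux {X Y : Scheme.{u}} (f : X ⟶ Y) [Mono f] [LocallyOfFiniteType f]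
    [QuasiCompact f] [Nonempty X] :
    ∃ U : Y.Opens, Dense (U : Set Y) ∧ Nonempty ↥(f ⁻¹ᵁ U) ∧ IsImmersion (f ∣_ U) := by
  have hpι : f.toImage ≫ f.imageι = f := f.toImage_imageι
  haveI : Mono f.toImage := by
    haveI : Mono (f.toImage ≫ f.imageι) := by rw [hpι]; infer_instance
    exact mono_of_mono f.toImage f.imageι
  haveI : LocallyOfFiniteType f.toImage := by
    haveI : LocallyOfFiniteType (f.toImage ≫ f.imageι) := by rw [hpι]; infer_instance
    exact locallyOfFiniteType_of_comp f.toImage f.imageι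
  haveI : LocallyQuasiFinite f.toImage :=
    LocallyQuasiFinite.of_injective (f := f.toImage) (Scheme.Hom.injective f.toImage)
  obtain ⟨V, hVd, hVfin⟩ := Groth.Agent.Lead.NwDense.S0409_main f.toImage
  -- an open of `Y` restricting to `V`
  obtain ⟨U', hU'⟩ : ∃ U' : Y.Opens, f.imageι ⁻¹ᵁ U' = V := by
    obtain ⟨s, hs, hsV⟩ := (f.imageι.isEmbedding.isInducing.isOpen_iff).mp V.2
    exact ⟨⟨s, hs⟩, Opens.ext hsV⟩
  have hcl : IsClosed (Set.range f.imageι) := f.imageι.isClosedEmbedding.isClosed_range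
  let C : Y.Opens := ⟨(Set.range f.imageι)ᶜ, hcl.isOpen_compl⟩
  have hιC : f.imageι ⁻¹ᵁ C = ⊥ := by
    apply Opens.ext
    ext z
    constructor
    · intro hz
      exact (hz ⟨z, rfl⟩).elim
    · intro hz
      exact hz.elim
  have hιU : f.imageι ⁻¹ᵁ (U' ⊔ C) = V := by
    rw [Scheme.Hom.preimage_sup, hU', hιC, sup_bot_eq]
  refine ⟨U' ⊔ C, ?_, ?_, ?_⟩
  · rw [dense_iff_inter_open]
    intro O hO hOne
    by_cases hOC : (O ∩ (C : Set Y)).Nonempty
    · obtain ⟨y, hyO, hyC⟩ := hOC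
      exact ⟨y, hyO, Or.inr hyC⟩
    · have hsub : O ⊆ Set.range f.imageι := by
        intro y hy
        by_contra hyr
        exact hOC ⟨y, hy, hyr⟩
      obtain ⟨y, hy⟩ := hOne
      obtain ⟨z, rfl⟩ := hsub hy
      have hOz : (f.imageι ⁻¹' O).Nonempty := ⟨z, hy⟩
      obtain ⟨w, hwO, hwV⟩ := (dense_iff_inter_open.mp hVd) _
        (hO.preimage f.imageι.continuous) hOz
      refine ⟨f.imageι w, hwO, Or.inl ?_⟩
      have : w ∈ f.imageι ⁻¹ᵁ U' := by rw [hU']; exact hwV
      exact this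
  · haveI : Nonempty ↥f.image := ⟨f.toImage (Classical.arbitrary X)⟩
    obtain ⟨v, hv⟩ := hVd.nonempty
    obtain ⟨x, hx⟩ := (IsDominant.denseRange (f := f.toImage)).exists_mem_open V.2 ⟨v, hv⟩
    refine ⟨⟨x, ?_⟩⟩
    show f x ∈ U' ⊔ C
    have h1 : f.toImage x ∈ f.imageι ⁻¹ᵁ (U' ⊔ C) := by rw [hιU]; exact hx
    have h2 : f.imageι (f.toImage x) = f x := by
      rw [← Scheme.Hom.comp_apply, hpι]
    rw [← h2]; exact h1
  · refine isImmersion_restrict_congr hpι.symm _ ?_
    rw [morphismRestrict_comp]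
    haveI : IsFinite (f.toImage ∣_ (f.imageι ⁻¹ᵁ (U' ⊔ C))) :=
      isFinite_restrict_congr f.toImage hιU hVfin
    haveI : Mono (f.toImage ∣_ (f.imageι ⁻¹ᵁ (U' ⊔ C))) := mono_restrict _ _
    haveI : IsClosedImmersion (f.toImage ∣_ (f.imageι ⁻¹ᵁ (U' ⊔ C))) :=
      (IsClosedImmersion.iff_isFinite_and_mono _).mpr ⟨inferInstance, inferInstance⟩
    haveI : IsClosedImmersion (f.imageι ∣_ (U' ⊔ C)) := inferInstance
    have hcl2 : IsClosedImmersion
        (f.toImage ∣_ (f.imageι ⁻¹ᵁ (U' ⊔ C)) ≫ f.imageι ∣_ (U' ⊔ C)) := inferInstance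
    have key : ∀ {A B : Scheme.{u}} (g : A ⟶ B), IsClosedImmersion g → IsImmersion g :=
      fun g _ => inferInstance
    exact key _ hcl2

theorem main8019 (k : Type u) [Field k]
    (X Y : Over (Spec (CommRingCat.of k))) [LocallyOfFiniteType X.hom] [QuasiCompact X.hom]
    [LocallyOfFiniteType Y.hom] [QuasiCompact Y.hom] [Nonempty X.left]
    (φ : X ⟶ Y) [Mono φ] :
    ∃ U : Y.left.Opens, Dense (U : Set Y.left) ∧ Nonempty ↥(φ.left ⁻¹ᵁ U) ∧
      IsImmersion (φ.left ∣_ U) := by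
  haveI : Mono φ.left := inferInstance
  haveI : LocallyOfFiniteType (φ.left ≫ Y.hom) := by rw [Over.w φ]; infer_instance
  haveI : LocallyOfFiniteType φ.left := locallyOfFiniteType_of_comp φ.left Y.hom
  haveI : IsLocallyNoetherian Y.left := LocallyOfFiniteType.isLocallyNoetherian Y.hom
  haveI : QuasiSeparatedSpace Y.left := inferInstance
  haveI : QuasiSeparated Y.hom := inferInstance
  haveI : QuasiCompact (φ.left ≫ Y.hom) := by rw [Over.w φ]; infer_instance
  haveI : QuasiCompact φ.left := QuasiCompact.of_comp φ.left Y.hom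
  exact main_aux φ.left

end Groth.Agent.Lead.MonoImm
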