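import Mathlib
import Groth.Prelude.Def_Red
import Groth.Agent.Lib.Lead.GrpMonoCl1
import Groth.Agent.Lib.Lead.MonoImm1
import Groth.Agent.Lib.Helper2.Sch.GrpHomFlatLocus
import Groth.Agent.S0351

set_option backward.isDefEq.respectTransparency.types false
set_option autoImplicit false
set_option synthInstance.maxHeartbeats 400000
set_option maxHeartbeats 1000000
set_option linter.style.haveILetI false
set_option linter.unusedSectionVars false
set_option linter.unusedSimpArgs false

universe u
open CategoryTheory CategoryTheory.Limits AlgebraicGeometry TopologicalSpace Opposite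
open MonoidalCategory CartesianMonoidalCategory MonObj
open Groth.Agent.Lib.Helper4.SchClosGrp1 Groth.Agent.Helper2.FlatPt

namespace Groth.Agent.Lead.GrpMonoCl

/-- A quasi-compact monomorphism of group schemes locally of finite type over a field is a closed
immersion. -/
theorem isClosedImmersion_of_mono_field (k : Type u) [Field k]
    (G H : Over (Spec (CommRingCat.of k))) [GrpObj G] [GrpObj H]
    [LocallyOfFiniteType G.hom] [LocallyOfFiniteType H.hom]
    (u : G ⟶ H) [IsMonHom u] [Mono u] [QuasiCompact u.left] : IsClosedImmersion u.left := by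
  haveI : Mono u.left := inferInstance
  have hpι : u.left.toImage ≫ u.left.imageι = u.left := u.left.toImage_imageι
  haveI : Mono u.left.toImage := by
    haveI : Mono (u.left.toImage ≫ u.left.imageι) := by rw [hpι]; infer_instance
    exact mono_of_mono u.left.toImage u.left.imageι
  haveI : LocallyOfFiniteType (u.left ≫ H.hom) := by rw [Over.w u]; infer_instance
  haveI : LocallyOfFiniteType u.left := locallyOfFiniteType_of_comp u.left H.hom
  haveI : LocallyOfFiniteType u.left.toImage := by
    haveI : LocallyOfFiniteType (u.left.toImage ≫ u.left.imageι) := by rw [hpι]; infer_instance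
    exact locallyOfFiniteType_of_comp u.left.toImage u.left.imageι
  haveI : IsSchemeTheoreticallyDominant u.left.toImage := ⟨ker_toImage_eq_bot u.left⟩
  haveI : Flat G.hom := inferInstance
  haveI : Flat (u.left.imageι ≫ H.hom) := inferInstance
  obtain ⟨inst, φ', hjH, hφ', hφ'l, hφ'j⟩ :=
    exists_grp_image G H u u.left.image u.left.imageι u.left.toImage hpι
  letI := inst
  haveI := hφ'
  haveI := hjH
  haveI : LocallyOfFiniteType (Over.mk (u.left.imageι ≫ H.hom)).hom :=
    (inferInstance : LocallyOfFiniteType (u.left.imageι ≫ H.hom))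
  haveI : LocallyQuasiFinite u.left.toImage :=
    LocallyQuasiFinite.of_injective (f := u.left.toImage) (Scheme.Hom.injective u.left.toImage)
  obtain ⟨V, hVd, hVfin⟩ := Groth.Agent.Lead.NwDense.S0409_main u.left.toImage
  haveI : IsFinite (u.left.toImage ∣_ V) := hVfin
  haveI : Mono (u.left.toImage ∣_ V) := Groth.Agent.Lead.MonoImm.mono_restrict _ _
  haveI : IsClosedImmersion (u.left.toImage ∣_ V) :=
    (IsClosedImmersion.iff_isFinite_and_mono _).mpr ⟨inferInstance, inferInstance⟩
  haveI : IsSchemeTheoreticallyDominant (u.left.toImage ∣_ V) :=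
    IsSchemeTheoreticallyDominant.of_isPullback (isPullback_morphismRestrict u.left.toImage V).flip
  haveI : IsIso (u.left.toImage ∣_ V) :=
    IsClosedImmersion.isIso_iff_ker_eq_bot.mpr (Scheme.Hom.ker_eq_bot _)
  -- a point of `G` over `V`
  haveI : Nonempty ↥(Spec (CommRingCat.of k)) := inferInstance
  obtain ⟨pt⟩ := (inferInstance : Nonempty ↥(Spec (CommRingCat.of k)))
  haveI : Nonempty ↥u.left.image := ⟨u.left.toImage ((η[G]).left pt)⟩
  obtain ⟨v, hv⟩ := hVd.nonempty
  obtain ⟨x, hx⟩ := (IsDominant.denseRange (f := u.left.toImage)).exists_mem_open V.2 ⟨v, hv⟩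
  have hxV : x ∈ u.left.toImage ⁻¹ᵁ V := hx
  have hfl1 : FlatAt ((u.left.toImage ⁻¹ᵁ V).ι ≫ u.left.toImage) ⟨x, hxV⟩ := by
    haveI : Flat ((u.left.toImage ⁻¹ᵁ V).ι ≫ u.left.toImage) := by
      rw [← morphismRestrict_ι]; infer_instance
    exact flatAt_of_flat _ _
  have hfl2 : FlatAt u.left.toImage x :=
    (flatAt_comp_openImmersion_iff (u.left.toImage ⁻¹ᵁ V).ι u.left.toImage ⟨x, hxV⟩).1 hfl1
  have hfl3 : FlatAt φ'.left x := by rw [hφ'l]; exact hfl2
  haveI : Flat φ'.left := Groth.Agent.Helper2.GrpHom.flat_of_flatAt_field φ' x hfl3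
  haveI : Flat u.left.toImage := by rw [← hφ'l]; infer_instance
  haveI : IsLocallyNoetherian u.left.image :=
    LocallyOfFiniteType.isLocallyNoetherian (u.left.imageι ≫ H.hom)
  haveI : LocallyOfFinitePresentation u.left.toImage :=
    LocallyOfFinitePresentation.iff_locallyOfFiniteType.2 inferInstance
  haveI : IsOpenImmersion u.left.toImage := IsOpenImmersion.of_flat_of_mono _
  haveI : IsImmersion u.left := by
    rw [← hpι]; infer_instance
  exact Groth.Agent.S0351.result k G H u

end Groth.Agent.Lead.GrpMonoCl
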