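import Mathlib
import Groth.Prelude.Def_Red
import Groth.Agent.Lib.Lead.GrpMonoCl2

set_option backward.isDefEq.respectTransparency.types false
set_option autoImplicit false
set_option synthInstance.maxHeartbeats 400000
set_option maxHeartbeats 1000000
set_option linter.style.haveILetI false
set_option linter.unusedSectionVars false
set_option linter.unusedSimpArgs false

universe u
open CategoryTheory CategoryTheory.Limits AlgebraicGeometry TopologicalSpace Opposite
open MonoidalCategory CartesianMonoidalCategory MonObj
open Groth.Agent.Lib.Helper4.SchClosGrp1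

namespace Groth.Agent.Lead.GrpMonoCl

/-- the base change square of a morphism over `S` along `q : S' ⟶ S`. -/
theorem isPullback_map_left {S S' : Scheme.{u}} (q : S' ⟶ S) {G H : Over S} (u : G ⟶ H) :
    IsPullback (pullback.fst G.hom q) ((Over.pullback q).map u).left u.left
      (pullback.fst H.hom q) := by
  have big : IsPullback (pullback.fst G.hom q) (pullback.snd G.hom q) G.hom q :=
    IsPullback.of_hasPullback _ _
  have right : IsPullback (pullback.fst H.hom q) (pullback.snd H.hom q) H.hom q :=
    IsPullback.of_hasPullback _ _
  have e1 : ((Over.pullback q).map u).left ≫ pullback.snd H.hom q = pullback.snd G.hom q :=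
    Over.w ((Over.pullback q).map u)
  have e2 : u.left ≫ H.hom = G.hom := Over.w u
  refine IsPullback.of_bot ?_ (map_left_fst' q u).symm right
  rw [e1, e2]
  exact big

theorem main3036 (A : Type u) [CommRing A] [IsArtinianRing A] [IsLocalRing A]
    (G H : Over (Spec (CommRingCat.of A))) [GrpObj G] [GrpObj H]
    [LocallyOfFiniteType G.hom] [LocallyOfFiniteType H.hom]
    (u : G ⟶ H) [IsMonHom u] [Mono u] [QuasiCompact u.left] : IsClosedImmersion u.left := by
  let k : Type u := IsLocalRing.ResidueField A
  let q : Spec (CommRingCat.of k) ⟶ Spec (CommRingCat.of A) :=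
    Spec.map (CommRingCat.ofHom (algebraMap A k))
  haveI : IsClosedImmersion q :=
    IsClosedImmersion.spec_of_surjective _ IsLocalRing.residue_surjective
  haveI : Subsingleton ↥(Spec (CommRingCat.of A)) :=
    inferInstanceAs (Subsingleton (PrimeSpectrum A))
  haveI : Nonempty ↥(Spec (CommRingCat.of k)) := inferInstance
  haveI : Surjective q := ⟨fun x => by
    obtain ⟨pt⟩ := (inferInstance : Nonempty ↥(Spec (CommRingCat.of k)))
    exact ⟨pt, Subsingleton.elim _ _⟩⟩
  have sq := isPullback_map_left q u
  let uk : Red.bc q G ⟶ Red.bc q H := (Over.pullback q).map u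
  haveI : IsMonHom uk := inferInstance
  haveI : Mono u.left := inferInstance
  haveI : Mono uk.left :=
    MorphismProperty.of_isPullback (P := MorphismProperty.monomorphisms Scheme.{u}) sq
      (MorphismProperty.monomorphisms.infer_property u.left)
  haveI : Mono uk := Over.mono_of_mono_left uk
  haveI : QuasiCompact uk.left := MorphismProperty.of_isPullback (P := @QuasiCompact) sq inferInstance
  haveI : LocallyOfFiniteType (Red.bc q G).hom := MorphismProperty.pullback_snd _ _ inferInstance
  haveI : LocallyOfFiniteType (Red.bc q H).hom := MorphismProperty.pullback_snd _ _ inferInstance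
  haveI : IsClosedImmersion uk.left := isClosedImmersion_of_mono_field k _ _ uk
  haveI : IsClosedImmersion (pullback.fst H.hom q) := inferInstance
  haveI : Surjective (pullback.fst G.hom q) := inferInstance
  haveI : UniversallyClosed (pullback.fst G.hom q ≫ u.left) := by
    rw [sq.w]; infer_instance
  haveI : UniversallyClosed u.left :=
    UniversallyClosed.of_comp_surjective (pullback.fst G.hom q) u.left
  haveI : LocallyOfFiniteType (u.left ≫ H.hom) := by rw [Over.w u]; infer_instance
  haveI : LocallyOfFiniteType u.left := locallyOfFiniteType_of_comp u.left H.hom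
  exact (IsClosedImmersion.iff_isProper_and_mono u.left).2 ⟨{}, inferInstance⟩

end Groth.Agent.Lead.GrpMonoCl
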