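import Mathlib
import Groth.Agent.Lib.Lead.GrpMonoCl3

/-!
# Fibrewise finiteness gives closedness under specialisation in the fibres of the normalisation (lead)
-/

set_option backward.isDefEq.respectTransparency.types false
set_option autoImplicit false
set_option synthInstance.maxHeartbeats 400000
set_option maxHeartbeats 1000000
set_option linter.style.haveILetI false
set_option linter.unusedSectionVars false
set_option linter.unusedSimpArgs false
universe u
open CategoryTheory CategoryTheory.Limits AlgebraicGeometry

namespace Groth.Agent.Lead.AffDim

theorem fib_of_finite {S : Scheme.{u}} (X Y : Over S) (u : X ⟶ Y)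
    [QuasiCompact u.left] [QuasiSeparated u.left]
    (hfin : ∀ s : S, IsFinite ((Over.pullback (S.fromSpecResidueField s)).map u).left)
    (x : X.left) (z : u.left.normalization) (hxz : u.left.toNormalization x ⤳ z)
    (hs : X.hom x = Y.hom (u.left.fromNormalization z)) :
    z ∈ Set.range u.left.toNormalization := by
  let f := u.left
  let j := f.toNormalization
  let p := f.fromNormalization
  have hjp : j ≫ p = f := f.toNormalization_fromNormalization
  let N' : Over S := Over.mk (p ≫ Y.hom)
  let jO : X ⟶ N' := Over.homMk j (by
    change j ≫ p ≫ Y.hom = X.hom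
    rw [reassoc_of% hjp]; exact Over.w u)
  let pO : N' ⟶ Y := Over.homMk p rfl
  have hu : jO ≫ pO = u := by
    apply Over.OverMorphism.ext
    exact hjp
  let s : S := X.hom x
  let q := S.fromSpecResidueField s
  have sqp := Groth.Agent.Lead.GrpMonoCl.isPullback_map_left q pO
  have sqj := Groth.Agent.Lead.GrpMonoCl.isPullback_map_left q jO
  haveI : IsIntegralHom pO.left := inferInstanceAs (IsIntegralHom f.fromNormalization)
  haveI : IsIntegralHom ((Over.pullback q).map pO).left :=
    MorphismProperty.of_isPullback (P := @IsIntegralHom) sqp inferInstance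
  have hcomp : ((Over.pullback q).map jO).left ≫ ((Over.pullback q).map pO).left =
      ((Over.pullback q).map u).left := by
    rw [← Over.comp_left, ← Functor.map_comp, hu]
  haveI : UniversallyClosed (((Over.pullback q).map jO).left ≫ ((Over.pullback q).map pO).left) := by
    rw [hcomp]
    haveI := hfin s
    infer_instance
  haveI : UniversallyClosed ((Over.pullback q).map jO).left :=
    UniversallyClosed.of_comp_of_isSeparated _ ((Over.pullback q).map pO).left
  have hclosed : IsClosedMap ((Over.pullback q).map jO).left :=
    ((Over.pullback q).map jO).left.isClosedMap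
  -- lift the points to the fibres
  obtain ⟨pt, hpt⟩ : ∃ pt : Spec (S.residueField s), q pt = s := by
    have := S.range_fromSpecResidueField s
    have hmem : s ∈ Set.range q := by rw [this]; rfl
    exact hmem
  obtain ⟨x', hx'1, hx'2⟩ := Scheme.Pullback.exists_preimage_pullback (f := X.hom) (g := q)
    x pt hpt.symm
  have hz : N'.hom z = q pt := by
    rw [hpt]
    exact hs.symm
  obtain ⟨z', hz'1, hz'2⟩ := Scheme.Pullback.exists_preimage_pullback (f := N'.hom) (g := q)
    z pt hz
  -- the fibre inclusion is an embedding
  haveI hpre : IsPreimmersion (pullback.fst N'.hom q) :=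
    inferInstanceAs (IsPreimmersion (N'.hom.fiberι s))
  have hemb : Topology.IsEmbedding (pullback.fst N'.hom q) :=
    (pullback.fst N'.hom q).isEmbedding
  have hfst : ∀ w, pullback.fst N'.hom q (((Over.pullback q).map jO).left w) =
      j (pullback.fst X.hom q w) := by
    intro w
    rw [← Scheme.Hom.comp_apply, ← Scheme.Hom.comp_apply]
    exact congrArg (fun m : pullback X.hom q ⟶ f.normalization => m w) sqj.w.symm
  have hspec : ((Over.pullback q).map jO).left x' ⤳ z' := by
    rw [← hemb.isInducing.specializes_iff, hfst, hx'1, hz'1]
    exact hxz
  obtain ⟨x'', _, hx''⟩ := hclosed.specializingMap hspec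
  refine ⟨pullback.fst X.hom q x'', ?_⟩
  change j (pullback.fst X.hom q x'') = z
  rw [← hfst, hx'', hz'1]

end Groth.Agent.Lead.AffDim
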