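import Mathlib
import Groth.Agent.Lib.Lead.AffDimC
import Groth.Agent.Lib.Lead.AffDimD

/-!
# A separated quasi-finite morphism with finite fibres over a one-dimensional base is affine (lead)
-/

set_option backward.isDefEq.respectTransparency.types false
set_option autoImplicit false
set_option synthInstance.maxHeartbeats 400000
set_option maxHeartbeats 1000000
set_option linter.style.haveILetI false
set_option linter.unusedSectionVars false
set_option linter.unusedSimpArgs false
universe u
open CategoryTheory CategoryTheory.Limits AlgebraicGeometry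

namespace Groth.Agent.Lead.AffDim

theorem no_chain_of_dim_le_one {R : Type u} [CommRing R] (hR : ringKrullDim R ≤ 1)
    (p₀ p₁ p₂ : PrimeSpectrum R) (h01 : p₀ < p₁) (h12 : p₁ ≤ p₂) : p₁ = p₂ := by
  have h := (Order.krullDim_le_one_iff (α := PrimeSpectrum R)).mp hR p₁
  rcases h with h | h
  · exact absurd (h h01.le) (not_le_of_gt h01)
  · exact le_antisymm h12 (h h12)

theorem ringKrullDim_sections_le {S : Scheme.{u}} (hdim : topologicalKrullDim ↥S ≤ 1)
    {U : S.Opens} (hU : IsAffineOpen U) : ringKrullDim Γ(S, U) ≤ 1 := by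
  rw [← PrimeSpectrum.topologicalKrullDim_eq_ringKrullDim]
  exact (hU.fromSpec.isOpenEmbedding.isInducing.topologicalKrullDim_le).trans hdim


theorem main5414 (S : Scheme.{u}) [IsLocallyNoetherian S] (hdim : topologicalKrullDim ↥S ≤ 1)
    (X Y : Over S) [LocallyOfFiniteType X.hom] [LocallyOfFiniteType Y.hom] (u : X ⟶ Y)
    [QuasiCompact u.left] [LocallyQuasiFinite u.left] [IsSeparated u.left]
    (hfin : ∀ s : S, IsFinite ((Over.pullback (S.fromSpecResidueField s)).map u).left) :
    IsAffineHom u.left := by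
  let f := u.left
  haveI : LocallyOfFiniteType (f ≫ Y.hom) := by
    change LocallyOfFiniteType (u.left ≫ Y.hom)
    rw [Over.w u]; infer_instance
  haveI : LocallyOfFiniteType f := locallyOfFiniteType_of_comp f Y.hom
  haveI : IsLocallyNoetherian Y.left := LocallyOfFiniteType.isLocallyNoetherian Y.hom
  let j := f.toNormalization
  let p := f.fromNormalization
  have hjp : j ≫ p = f := f.toNormalization_fromNormalization
  haveI : IsOpenImmersion j := inferInstanceAs (IsOpenImmersion f.toNormalization)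
  haveI : IsIntegralHom p := inferInstanceAs (IsIntegralHom f.fromNormalization)
  haveI : QuasiCompact j := inferInstanceAs (QuasiCompact f.toNormalization)
  haveI : IsDominant j := inferInstanceAs (IsDominant f.toNormalization)
  suffices IsAffineHom j by
    change IsAffineHom f
    rw [← hjp]; infer_instance
  apply isAffineHom_of_forall_exists_isAffineOpen
  intro z
  let y := p z
  let s := Y.hom y
  obtain ⟨_, ⟨U, hU : IsAffineOpen U, rfl⟩, hsU, -⟩ :=
    S.isBasis_affineOpens.exists_subset_of_mem_open (Set.mem_univ s) isOpen_univ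
  obtain ⟨_, ⟨V, hV : IsAffineOpen V, rfl⟩, hyV, hVU⟩ :=
    Y.left.isBasis_affineOpens.exists_subset_of_mem_open (show y ∈ (Y.hom ⁻¹ᵁ U : Set Y.left) from hsU)
      (Y.hom ⁻¹ᵁ U).2
  let W : f.normalization.Opens := p ⁻¹ᵁ V
  have hW : IsAffineOpen W := hV.preimage p
  refine ⟨W, hyV, hW, ?_⟩
  let X'o : X.left.Opens := j ⁻¹ᵁ W
  change IsAffine (X'o : Scheme.{u})
  -- rings
  let R : Type u := Γ(S, U)
  let B : Type u := Γ(Y.left, V)
  let C' : Type u := Γ(f.normalization, W)
  haveI : IsNoetherianRing R := IsLocallyNoetherian.component_noetherian ⟨U, hU⟩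
  haveI : IsNoetherianRing B := IsLocallyNoetherian.component_noetherian ⟨V, hV⟩
  let φ : R →+* B := (Y.hom.appLE U V hVU).hom
  let ψ : B →+* C' := (p.appLE V W le_rfl).hom
  letI : Algebra B C' := ψ.toAlgebra
  have hψint : ψ.IsIntegral := by
    have := IsIntegralHom.isIntegral_app p V hV
    rwa [Scheme.Hom.app_eq_appLE] at this
  haveI : Algebra.IsIntegral B C' := ⟨hψint⟩
  have hR : ∀ p₀ p₁ p₂ : PrimeSpectrum R, p₀ < p₁ → p₁ ≤ p₂ → p₁ = p₂ :=
    no_chain_of_dim_le_one (ringKrullDim_sections_le hdim hU)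
  -- the chart map
  have hrange : Set.range (X'o.ι ≫ j) ⊆ Set.range hW.fromSpec := by
    rw [hW.range_fromSpec]
    rintro _ ⟨x, rfl⟩
    exact x.2
  let j'' : (X'o : Scheme.{u}) ⟶ Spec (.of C') := IsOpenImmersion.lift hW.fromSpec (X'o.ι ≫ j) hrange
  have hj'' : j'' ≫ hW.fromSpec = X'o.ι ≫ j := IsOpenImmersion.lift_fac _ _ _
  haveI : IsOpenImmersion j'' := by
    haveI : IsOpenImmersion (j'' ≫ hW.fromSpec) := by rw [hj'']; infer_instance
    exact IsOpenImmersion.of_comp j'' hW.fromSpec
  haveI : CompactSpace (X'o : Scheme.{u}) :=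
    isCompact_iff_compactSpace.mp (j.isCompact_preimage hW.isCompact)
  have hψfrom : Spec.map (CommRingCat.ofHom ψ) ≫ hV.fromSpec = hW.fromSpec ≫ p :=
    IsAffineOpen.SpecMap_appLE_fromSpec p hV hW le_rfl
  have hφfrom : Spec.map (CommRingCat.ofHom φ) ≫ hU.fromSpec = hV.fromSpec ≫ Y.hom :=
    IsAffineOpen.SpecMap_appLE_fromSpec Y.hom hU hV hVU
  haveI : LocallyOfFiniteType (j'' ≫ Spec.map (CommRingCat.ofHom (algebraMap B C'))) := by
    have e : (j'' ≫ Spec.map (CommRingCat.ofHom ψ)) ≫ hV.fromSpec = X'o.ι ≫ f := by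
      rw [Category.assoc, hψfrom, reassoc_of% hj'', hjp]
    haveI : LocallyOfFiniteType ((j'' ≫ Spec.map (CommRingCat.ofHom ψ)) ≫ hV.fromSpec) := by
      rw [e]; infer_instance
    exact locallyOfFiniteType_of_comp (j'' ≫ Spec.map (CommRingCat.ofHom ψ)) hV.fromSpec
  have hfromj : ∀ x' : (X'o : Scheme.{u}), hW.fromSpec (j'' x') = j (X'o.ι x') := by
    intro x'
    rw [← Scheme.Hom.comp_apply, ← Scheme.Hom.comp_apply]
    exact congrArg (fun m : (X'o : Scheme.{u}) ⟶ f.normalization => m x') hj''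
  have hinj : Function.Injective hW.fromSpec := hW.fromSpec.isOpenEmbedding.injective
  have hmemW : ∀ c : Spec (.of C'), hW.fromSpec c ∈ W := by
    intro c
    have h : hW.fromSpec c ∈ Set.range hW.fromSpec := ⟨c, rfl⟩
    rw [hW.range_fromSpec] at h
    exact h
  -- density
  have hdense : DenseRange j'' := by
    rw [denseRange_iff_closure_range, ← Set.univ_subset_iff]
    intro c _
    rw [mem_closure_iff]
    intro O hO hcO
    have hopen : IsOpen (hW.fromSpec '' O) := hW.fromSpec.isOpenEmbedding.isOpenMap O hO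
    obtain ⟨_, ⟨c', hc'O, rfl⟩, ⟨x, hx⟩⟩ :=
      j.denseRange.inter_open_nonempty _ hopen ⟨_, c, hcO, rfl⟩ |>.imp fun w hw => hw
    have hxW : x ∈ X'o := by
      change j x ∈ W
      rw [hx]
      exact hmemW c'
    refine ⟨c', hc'O, ⟨⟨x, hxW⟩, ?_⟩⟩
    apply hinj
    rw [hfromj]
    exact hx
  -- the fibre condition
  have hbase : hW.fromSpec ≫ p ≫ Y.hom =
      Spec.map (CommRingCat.ofHom ((algebraMap B C').comp φ)) ≫ hU.fromSpec := by
    have e : CommRingCat.ofHom ((algebraMap B C').comp φ) =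
        CommRingCat.ofHom φ ≫ CommRingCat.ofHom ψ := rfl
    rw [e, Spec.map_comp, Category.assoc, hφfrom, reassoc_of% hψfrom]
  have hbase' : ∀ c : PrimeSpectrum C', Y.hom (p (hW.fromSpec c)) =
      hU.fromSpec (PrimeSpectrum.comap ((algebraMap B C').comp φ) c) := by
    intro c
    have := congrArg (fun m : Spec (.of C') ⟶ S => m c) hbase
    exact this
  have hfib : ∀ (x' : (X'o : Scheme.{u})) (c : PrimeSpectrum C'),
      (j'' x' : PrimeSpectrum C') ⤳ c →
      PrimeSpectrum.comap ((algebraMap B C').comp φ) (j'' x') =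
        PrimeSpectrum.comap ((algebraMap B C').comp φ) c → c ∈ Set.range j'' := by
    intro x' c hspec hcomap
    have h1 : j (X'o.ι x') ⤳ hW.fromSpec c := by
      rw [← hfromj]
      exact hspec.map hW.fromSpec.continuous
    have h2 : X.hom (X'o.ι x') = Y.hom (p (hW.fromSpec c)) := by
      rw [hbase' c, ← hcomap, ← hbase' (j'' x'), hfromj]
      have : X.hom = j ≫ p ≫ Y.hom := by rw [reassoc_of% hjp]; exact (Over.w u).symm
      rw [this]
      rfl
    obtain ⟨x₂, hx₂⟩ := fib_of_finite X Y u hfin (X'o.ι x') (hW.fromSpec c) h1 h2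
    have hx₂W : x₂ ∈ X'o := by
      change j x₂ ∈ W
      have : j x₂ = hW.fromSpec c := hx₂
      rw [this]
      exact hmemW c
    refine ⟨⟨x₂, hx₂W⟩, ?_⟩
    apply hinj
    rw [hfromj]
    exact hx₂
  exact chartCore φ hR j'' hdense hfib

end Groth.Agent.Lead.AffDim
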