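import Mathlib
import Groth.Prelude.Def_Red
import Groth.Agent.Lib.Lead.GrpMonoCl3
import Groth.Agent.Lib.Helper4.GrpKer2
import Groth.Agent.Lib.Helper2.Sch.GrpHomDominant

set_option backward.isDefEq.respectTransparency.types false
set_option autoImplicit false
set_option synthInstance.maxHeartbeats 400000
set_option maxHeartbeats 1000000
set_option linter.style.haveILetI false
set_option linter.unusedSectionVars false
set_option linter.unusedSimpArgs false

universe u

open CategoryTheory CategoryTheory.Limits AlgebraicGeometry
open MonoidalCategory CartesianMonoidalCategory MonObj GrpObj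
open Groth.Agent.Lib.Helper4.GrpKer1 Groth.Agent.Lib.Helper4.GrpKer2
open Groth.Agent.Lib.Helper4.SchClosGrp1

namespace Groth.Agent.Lead.GrpProp

variable {S : Scheme.{u}}

/-- the canonical kernel object of a morphism to a group object in `Over S` -/
noncomputable def kerObj {G H : Over S} [GrpObj H] (u : G ⟶ H) : Over S :=
  Over.mk (pullback.snd u.left (η[H]).left ≫ (𝟙_ (Over S)).hom)

theorem kerObj_hom {G H : Over S} [GrpObj H] (u : G ⟶ H) :
    (kerObj u).hom = pullback.snd u.left (η[H]).left ≫ (𝟙_ (Over S)).hom := rfl

theorem kerι_w {G H : Over S} [GrpObj H] (u : G ⟶ H) :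
    pullback.fst u.left (η[H]).left ≫ G.hom = (kerObj u).hom := by
  rw [kerObj_hom, ← Over.w u, ← Category.assoc, pullback.condition, Category.assoc, Over.w]

/-- the canonical kernel inclusion -/
noncomputable def kerι {G H : Over S} [GrpObj H] (u : G ⟶ H) : kerObj u ⟶ G :=
  Over.homMk (pullback.fst u.left (η[H]).left) (kerι_w u)

theorem kerι_left {G H : Over S} [GrpObj H] (u : G ⟶ H) :
    (kerι u).left = pullback.fst u.left (η[H]).left := rfl

theorem mono_one_left {H : Over S} [GrpObj H] : Mono (η[H]).left := by
  have h : (η[H]).left ≫ H.hom = 𝟙 _ := Over.w η[H]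
  exact (SplitMono.mk H.hom h).mono

instance {G H : Over S} [GrpObj H] (u : G ⟶ H) : Mono (kerι u) := by
  haveI : Mono (kerι u).left := by
    rw [kerι_left]
    exact @pullback.fst_of_mono _ _ _ _ _ u.left (η[H]).left _ mono_one_left
  exact Over.mono_of_mono_left _

theorem isKer_kerι {G H : Over S} [GrpObj H] (u : G ⟶ H) : IsKer (kerι u) u := by
  have hsnd : (toUnit (kerObj u)).left = pullback.snd u.left (η[H]).left := by
    rw [toUnit_left, kerObj_hom]
    exact Category.comp_id _
  refine isKer_of_points ?_ ?_
  · rw [Hom.one_def]
    ext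
    rw [Over.comp_left, Over.comp_left, kerι_left, hsnd]
    exact pullback.condition
  · intro T x hx
    rw [Hom.one_def] at hx
    have hx' : x.left ≫ u.left = T.hom ≫ (η[H]).left := by
      have := congrArg (fun f => f.left) hx
      simp only [Over.comp_left] at this
      rw [this, toUnit_left]
    refine ⟨Over.homMk (pullback.lift x.left T.hom hx') ?_, ?_⟩
    · show pullback.lift x.left T.hom hx' ≫ pullback.snd u.left (η[H]).left ≫ (𝟙_ (Over S)).hom = T.hom
      rw [pullback.lift_snd_assoc]
      exact Category.comp_id _
    · ext
      rw [Over.comp_left, kerι_left]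
      exact pullback.lift_fst _ _ _

/-- a homomorphism of group schemes with separated kernel is separated -/
theorem isSeparated_of_isKer {N G H : Over S} [GrpObj G] [GrpObj H] (u : G ⟶ H) [IsMonHom u]
    (i : N ⟶ G) (hK : IsKer i u) [IsSeparated N.hom] : IsSeparated u.left := by
  have sq := isPullback_left (isPullback_shear u i hK)
  haveI : IsSeparated (fst G N).left := prop_fst_left G N @IsSeparated inferInstance
  have e1 : sq.isoPullback.hom ≫ pullback.fst u.left u.left = (fst G N).left :=
    sq.isoPullback_hom_fst
  haveI : IsSeparated (pullback.fst u.left u.left) := by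
    have : pullback.fst u.left u.left = sq.isoPullback.inv ≫ (fst G N).left :=
      (Iso.eq_inv_comp _).mpr e1
    rw [this]; infer_instance
  haveI : IsClosedImmersion (pullback.diagonal u.left ≫ pullback.fst u.left u.left) := by
    rw [pullback.diagonal_fst]; infer_instance
  exact ⟨IsClosedImmersion.of_comp (pullback.diagonal u.left) (pullback.fst u.left u.left)⟩

end Groth.Agent.Lead.GrpProp
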