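import Mathlib
import Groth.Prelude.Def_Red
import Groth.Agent.Lib.Lead.GrpProp1

set_option backward.isDefEq.respectTransparency.types false
set_option autoImplicit false
set_option synthInstance.maxHeartbeats 400000
set_option maxHeartbeats 1000000
set_option linter.style.haveILetI false
set_option linter.unusedSectionVars false
set_option linter.unusedSimpArgs false

universe u

open CategoryTheory CategoryTheory.Limits AlgebraicGeometry
open MonoidalCategory CartesianMonoidalCategory MonObj GrpObj
open Groth.Agent.Lib.Helper4.GrpKer1 Groth.Agent.Lib.Helper4.GrpKer2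
open Groth.Agent.Lib.Helper4.SchClosGrp1

namespace Groth.Agent.Lead.GrpProp

/-- kernels are insensitive to composing with a monomorphic homomorphism -/
theorem isKer_of_comp_mono {C : Type*} [Category C] [CartesianMonoidalCategory C]
    {N G Z H : C} [GrpObj Z] [GrpObj H] (i : N ⟶ G) (φ : G ⟶ Z) (j : Z ⟶ H) [IsMonHom j] [Mono j]
    (hK : IsKer i (φ ≫ j)) : IsKer i φ := by
  haveI := hK.mono
  refine isKer_of_points ?_ ?_
  · rw [← cancel_mono j, Category.assoc, hK.comp_eq_one, MonObj.one_comp]
  · intro T x hx
    refine hK.exists_lift x ?_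
    rw [← Category.assoc, hx, MonObj.one_comp]

/-- Lemma A: a quasi-compact homomorphism from a reduced group scheme over a field with
universally closed kernel is universally closed. -/
theorem universallyClosed_of_isReduced (k : Type u) [Field k]
    {N G H : Over (Spec (CommRingCat.of k))} [GrpObj G] [GrpObj H] [IsReduced G.left]
    (u : G ⟶ H) [IsMonHom u] [QuasiCompact u.left] (i : N ⟶ G) (hK : IsKer i u)
    [UniversallyClosed N.hom] : UniversallyClosed u.left := by
  have hpι : u.left.toImage ≫ u.left.imageι = u.left := u.left.toImage_imageι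
  haveI : IsSchemeTheoreticallyDominant u.left.toImage := ⟨ker_toImage_eq_bot u.left⟩
  haveI : QuasiCompact u.left.toImage := by
    haveI : QuasiCompact (u.left.toImage ≫ u.left.imageι) := by rw [hpι]; infer_instance
    exact QuasiCompact.of_comp u.left.toImage u.left.imageι
  haveI : Flat G.hom := inferInstance
  haveI : Flat (u.left.imageι ≫ H.hom) := inferInstance
  obtain ⟨inst, φ', hjH, hφ', hφ'l, hφ'j⟩ :=
    Groth.Agent.Lead.GrpMonoCl.exists_grp_image G H u u.left.image u.left.imageι u.left.toImage hpι
  letI := inst
  haveI := hφ'
  haveI := hjH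
  haveI : IsReduced (Over.mk (u.left.imageι ≫ H.hom)).left :=
    IsSchemeTheoreticallyDominant.isReduced u.left.toImage
  haveI : QuasiCompact φ'.left := by rw [hφ'l]; infer_instance
  have hdense : DenseRange φ'.left := by
    rw [hφ'l]
    exact IsDominant.denseRange (f := u.left.toImage)
  haveI : Surjective φ'.left := Groth.Agent.Helper2.GrpHom.surjective_of_denseRange φ' hdense
  haveI : Flat φ'.left := Groth.Agent.Helper2.GrpHom.flat_of_denseRange_of_isReduced φ' hdense
  let jH : Over.mk (u.left.imageι ≫ H.hom) ⟶ H := Over.homMk u.left.imageι rfl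
  haveI : Mono jH := by
    haveI : Mono jH.left := (inferInstance : Mono u.left.imageι)
    exact Over.mono_of_mono_left jH
  have hKφ : IsKer i φ' := isKer_of_comp_mono i φ' jH (by rw [hφ'j]; exact hK)
  haveI : UniversallyClosed φ'.left := isKer_prop_of_hom hKφ @UniversallyClosed inferInstance
  haveI : UniversallyClosed u.left.toImage := by rw [← hφ'l]; infer_instance
  rw [← hpι]
  infer_instance

end Groth.Agent.Lead.GrpProp
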