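import Mathlib
import Groth.Prelude.Def_Red
import Groth.Agent.Lib.Lead.GrpProp2
import Groth.Agent.Lib.Helper4.GenSub1

set_option backward.isDefEq.respectTransparency.types false
set_option autoImplicit false
set_option synthInstance.maxHeartbeats 400000
set_option maxHeartbeats 1000000
set_option linter.style.haveILetI false
set_option linter.unusedSectionVars false
set_option linter.unusedSimpArgs false

universe u

open CategoryTheory CategoryTheory.Limits AlgebraicGeometry
open MonoidalCategory CartesianMonoidalCategory MonObj GrpObj
open Groth.Agent.Lib.Helper4.GrpKer1 Groth.Agent.Lib.Helper4.GrpKer2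
open Groth.Agent.Lib.Helper4.SchClosGrp1

namespace Groth.Agent.Lead.GrpProp

theorem geometricallyReduced_id (k : Type u) [Field k] :
    GeometricallyReduced (𝟙 (Spec (CommRingCat.of k))) := by
  refine ⟨fun K _ y Z fst' snd' h => ?_⟩
  haveI : IsIso snd' := h.isIso_snd_of_isIso
  exact isReduced_of_isOpenImmersion snd'

/-- kernel of a composite `z ≫ u` as pullback of the kernel of `u` -/
theorem isKer_pullback {C : Type*} [Category C] [CartesianMonoidalCategory C] [HasPullbacks C]
    {N Z G H : C} [GrpObj H] (z : Z ⟶ G) (u : G ⟶ H) (i : N ⟶ G) (hK : IsKer i u) :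
    IsKer (pullback.fst z i) (z ≫ u) := by
  have sq1 : IsPullback (pullback.fst z i) (pullback.snd z i) z i := IsPullback.of_hasPullback z i
  have h := (sq1.flip.paste_horiz hK.flip).flip
  unfold IsKer
  rwa [toUnit_unique (pullback.snd z i ≫ toUnit N) (toUnit (pullback z i))] at h

/-- Lemma B: over an algebraically closed field, a quasi-compact homomorphism from a group scheme
locally of finite type with universally closed kernel is universally closed. -/
theorem universallyClosed_of_algClosed (k : Type u) [Field k] [IsAlgClosed k]
    {N G H : Over (Spec (CommRingCat.of k))} [GrpObj G] [GrpObj H] [LocallyOfFiniteType G.hom]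
    (u : G ⟶ H) [IsMonHom u] [QuasiCompact u.left] (i : N ⟶ G) (hK : IsKer i u)
    [UniversallyClosed N.hom] : UniversallyClosed u.left := by
  obtain ⟨Z, instZ, z, hzmon, hzcl, hZgr, hZuniv⟩ :=
    Groth.Agent.Lib.Helper4.GenSub1.exists_gredSubgroup G
  letI := instZ
  haveI := hzmon
  haveI := hzcl
  haveI := hZgr
  -- `z` is surjective
  haveI : JacobsonSpace G.left := LocallyOfFiniteType.jacobsonSpace G.hom
  haveI : Surjective z.left := by
    constructor
    have hcl : IsClosed (Set.range z.left) := z.left.isClosedEmbedding.isClosed_range
    have hsub : closedPoints G.left ⊆ Set.range z.left := by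
      intro x hx
      let T : Over (Spec (CommRingCat.of k)) := Over.mk (𝟙 (Spec (CommRingCat.of k)))
      haveI : GeometricallyReduced T.hom := geometricallyReduced_id k
      let t : T ⟶ G := Over.homMk (pointOfClosedPoint G.hom x hx) (pointOfClosedPoint_comp G.hom x hx)
      obtain ⟨t', ht'⟩ := hZuniv T t
      refine ⟨t'.left (IsLocalRing.closedPoint k), ?_⟩
      have h1 : t'.left ≫ z.left = pointOfClosedPoint G.hom x hx := by
        have := congrArg (fun f => f.left) ht'
        exact this
      have h2 := pointOfClosedPoint_apply G.hom x hx (IsLocalRing.closedPoint k)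
      rw [← h1] at h2
      exact h2
    have huniv : (Set.univ : Set G.left) ⊆ Set.range z.left := by
      rw [← closure_closedPoints]
      exact hcl.closure_subset_iff.mpr hsub
    intro x
    exact huniv (Set.mem_univ x)
  haveI : IsReduced Z.left := self_of_isIntegral_of_geometrically hZgr.geometrically_isReduced
  have hK' : IsKer (pullback.fst z i) (z ≫ u) := isKer_pullback z u i hK
  haveI : UniversallyClosed (pullback z i).hom := by
    have sqL := isPullback_left (IsPullback.of_hasPullback z i)
    haveI : IsClosedImmersion (pullback.snd z i).left :=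
      MorphismProperty.of_isPullback (P := @IsClosedImmersion) sqL hzcl
    rw [← Over.w (pullback.snd z i)]
    infer_instance
  haveI : QuasiCompact (z ≫ u).left := by
    rw [Over.comp_left]; infer_instance
  haveI : UniversallyClosed (z ≫ u).left :=
    universallyClosed_of_isReduced k (z ≫ u) (pullback.fst z i) hK'
  haveI : UniversallyClosed (z.left ≫ u.left) := by
    rw [← Over.comp_left]; infer_instance
  exact UniversallyClosed.of_comp_surjective z.left u.left

end Groth.Agent.Lead.GrpProp
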