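import Mathlib
import Groth.Prelude.Def_Red
import Groth.Agent.Lib.Lead.GrpProp3

set_option backward.isDefEq.respectTransparency.types false
set_option autoImplicit false
set_option synthInstance.maxHeartbeats 400000
set_option maxHeartbeats 1000000
set_option linter.style.haveILetI false
set_option linter.unusedSectionVars false
set_option linter.unusedSimpArgs false

universe u

open CategoryTheory CategoryTheory.Limits AlgebraicGeometry
open MonoidalCategory CartesianMonoidalCategory MonObj GrpObj
open Groth.Agent.Lib.Helper4.GrpKer1 Groth.Agent.Lib.Helper4.GrpKer2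
open Groth.Agent.Lib.Helper4.SchClosGrp1

namespace Groth.Agent.Lead.GrpProp

/-- base change of a kernel square -/
theorem isKer_bc {S S' : Scheme.{u}} (q : S' ⟶ S) {N G H : Over S} [GrpObj H] (i : N ⟶ G)
    (u : G ⟶ H) (hK : IsKer i u) :
    IsKer ((Over.pullback q).map i) ((Over.pullback q).map u : Red.bc q G ⟶ Red.bc q H) := by
  have h := hK.map (Over.pullback q)
  unfold IsKer
  have hη : (η[Red.bc q H] : 𝟙_ (Over S') ⟶ Red.bc q H) =
      Functor.LaxMonoidal.ε (Over.pullback q) ≫ (Over.pullback q).map η[H] := rfl
  rw [hη]
  refine IsPullback.of_iso h (Iso.refl _) (Iso.refl _)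
    (asIso (Functor.LaxMonoidal.ε (Over.pullback q))).symm (Iso.refl _) ?_ ?_ ?_ ?_
  · simp
  · exact toUnit_unique _ _
  · simp
  · simp

theorem main_uc (A : Type u) [CommRing A] [IsArtinianRing A] [IsLocalRing A]
    {N G H : Over (Spec (CommRingCat.of A))} [GrpObj G] [GrpObj H] [LocallyOfFiniteType G.hom]
    (u : G ⟶ H) [IsMonHom u] [QuasiCompact u.left] (i : N ⟶ G) (hK : IsKer i u)
    [UniversallyClosed N.hom] : UniversallyClosed u.left := by
  let K : Type u := AlgebraicClosure (IsLocalRing.ResidueField A)
  let q : Spec (CommRingCat.of K) ⟶ Spec (CommRingCat.of A) :=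
    Spec.map (CommRingCat.ofHom (algebraMap A K))
  haveI : Subsingleton ↥(Spec (CommRingCat.of A)) :=
    inferInstanceAs (Subsingleton (PrimeSpectrum A))
  haveI : Nonempty ↥(Spec (CommRingCat.of K)) := inferInstance
  haveI : Surjective q := ⟨fun x => by
    obtain ⟨pt⟩ := (inferInstance : Nonempty ↥(Spec (CommRingCat.of K)))
    exact ⟨pt, Subsingleton.elim _ _⟩⟩
  haveI : Algebra.IsIntegral A (IsLocalRing.ResidueField A) :=
    Algebra.IsIntegral.of_surjective (Algebra.ofId A (IsLocalRing.ResidueField A))
      IsLocalRing.residue_surjective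
  haveI : Algebra.IsIntegral A K := Algebra.IsIntegral.trans (IsLocalRing.ResidueField A)
  haveI : IsIntegralHom q := by
    rw [IsIntegralHom.SpecMap_iff]
    exact algebraMap_isIntegral_iff.mpr inferInstance
  haveI : UniversallyClosed q := inferInstance
  have sq := Groth.Agent.Lead.GrpMonoCl.isPullback_map_left q u
  let uk : Red.bc q G ⟶ Red.bc q H := (Over.pullback q).map u
  haveI : IsMonHom uk := inferInstance
  haveI : LocallyOfFiniteType (Red.bc q G).hom := MorphismProperty.pullback_snd _ _ inferInstance
  haveI : QuasiCompact uk.left :=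
    MorphismProperty.of_isPullback (P := @QuasiCompact) sq inferInstance
  have hKk := isKer_bc q i u hK
  haveI : UniversallyClosed ((Over.pullback q).obj N).hom :=
    MorphismProperty.pullback_snd _ _ inferInstance
  haveI : UniversallyClosed uk.left :=
    universallyClosed_of_algClosed K uk ((Over.pullback q).map i) hKk
  haveI : UniversallyClosed (pullback.fst H.hom q) := MorphismProperty.pullback_fst _ _ inferInstance
  haveI : Surjective (pullback.fst G.hom q) := inferInstance
  haveI hcomp : UniversallyClosed (pullback.fst G.hom q ≫ u.left) := by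
    rw [sq.w]; infer_instance
  exact UniversallyClosed.of_comp_surjective (pullback.fst G.hom q) u.left

theorem main3035 (A : Type u) [CommRing A] [IsArtinianRing A] [IsLocalRing A]
    (G H : Over (Spec (CommRingCat.of A))) [GrpObj G] [GrpObj H]
    [LocallyOfFiniteType G.hom] [LocallyOfFiniteType H.hom]
    (u : G ⟶ H) [IsMonHom u] [QuasiCompact u.left] :
    IsProper u.left ↔
      IsProper (pullback.snd u.left (η[H] : 𝟙_ (Over (Spec (CommRingCat.of A))) ⟶ H).left) := by
  constructor
  · intro h
    exact MorphismProperty.pullback_snd _ _ h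
  · intro h
    haveI hN : IsProper (kerObj u).hom := by
      rw [kerObj_hom]
      have : (𝟙_ (Over (Spec (CommRingCat.of A)))).hom = 𝟙 _ := rfl
      rw [this, Category.comp_id]
      exact h
    haveI : IsSeparated u.left := isSeparated_of_isKer u (kerι u) (isKer_kerι u)
    haveI : UniversallyClosed u.left := main_uc A u (kerι u) (isKer_kerι u)
    haveI : LocallyOfFiniteType (u.left ≫ H.hom) := by rw [Over.w u]; infer_instance
    haveI : LocallyOfFiniteType u.left := locallyOfFiniteType_of_comp u.left H.hom
    exact {}

end Groth.Agent.Lead.GrpProp
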