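import Mathlib
import Groth.Prelude.Def_Red
import Groth.Agent.Lib.Lead.GrpProp4

set_option backward.isDefEq.respectTransparency.types false
set_option autoImplicit false
set_option synthInstance.maxHeartbeats 400000
set_option maxHeartbeats 1000000
set_option linter.style.haveILetI false
set_option linter.unusedSectionVars false
set_option linter.unusedSimpArgs false

universe u

open CategoryTheory CategoryTheory.Limits AlgebraicGeometry
open MonoidalCategory CartesianMonoidalCategory MonObj GrpObj
open Groth.Agent.Lib.Helper4.GrpKer1 Groth.Agent.Lib.Helper4.GrpKer2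
open Groth.Agent.Lib.Helper4.SchClosGrp1

namespace Groth.Agent.Lead.GrpProp

/-- a homomorphism of group schemes with finite kernel has finite fibres -/
theorem finite_preimage_of_isKer {S : Scheme.{u}} {N G H : Over S} [GrpObj G] [GrpObj H]
    (u : G ⟶ H) [IsMonHom u] (i : N ⟶ G) (hK : IsKer i u) [IsFinite N.hom] (h : H.left) :
    (u.left ⁻¹' {h}).Finite := by
  have sq := isPullback_left (isPullback_shear u i hK)
  haveI : IsFinite (fst G N).left := prop_fst_left G N @IsFinite inferInstance
  have e1 : sq.isoPullback.hom ≫ pullback.fst u.left u.left = (fst G N).left :=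
    sq.isoPullback_hom_fst
  haveI : IsFinite (pullback.fst u.left u.left) := by
    have : pullback.fst u.left u.left = sq.isoPullback.inv ≫ (fst G N).left :=
      (Iso.eq_inv_comp _).mpr e1
    rw [this]; infer_instance
  by_cases hne : (u.left ⁻¹' {h}).Nonempty
  · obtain ⟨g, hg⟩ := hne
    have hfin := (pullback.fst u.left u.left).finite_preimage_singleton g
    refine (hfin.image (pullback.snd u.left u.left)).subset ?_
    intro g' hg'
    have hgg' : u.left g = u.left g' := by
      rw [Set.mem_preimage, Set.mem_singleton_iff] at hg hg'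
      rw [hg, hg']
    obtain ⟨t, ht1, ht2⟩ := Scheme.Pullback.exists_preimage_pullback (f := u.left) (g := u.left)
      g g' hgg'
    exact ⟨t, ht1, ht2⟩
  · rw [Set.not_nonempty_iff_eq_empty] at hne
    rw [hne]
    exact Set.finite_empty

theorem main3037 (A : Type u) [CommRing A] [IsArtinianRing A] [IsLocalRing A]
    (G H : Over (Spec (CommRingCat.of A))) [GrpObj G] [GrpObj H]
    [LocallyOfFiniteType G.hom] [LocallyOfFiniteType H.hom]
    (u : G ⟶ H) [IsMonHom u] [QuasiCompact u.left] :
    IsFinite u.left ↔
      DiscreteTopology ↥(pullback u.left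
        (η[H] : 𝟙_ (Over (Spec (CommRingCat.of A))) ⟶ H).left) := by
  haveI : IsLocallyArtinian (Spec (CommRingCat.of A)) :=
    Scheme.isLocallyArtinianScheme_Spec.mpr (inferInstanceAs (IsArtinianRing A))
  haveI : IsLocallyArtinian (𝟙_ (Over (Spec (CommRingCat.of A)))).left :=
    (inferInstance : IsLocallyArtinian (Spec (CommRingCat.of A)))
  have hu1 : (𝟙_ (Over (Spec (CommRingCat.of A)))).hom = 𝟙 _ := rfl
  constructor
  · intro h
    haveI : IsFinite (pullback.snd u.left
        (η[H] : 𝟙_ (Over (Spec (CommRingCat.of A))) ⟶ H).left) :=
      MorphismProperty.pullback_snd _ _ h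
    haveI : IsLocallyArtinian (pullback u.left
        (η[H] : 𝟙_ (Over (Spec (CommRingCat.of A))) ⟶ H).left) :=
      IsLocallyArtinian.of_locallyQuasiFinite (pullback.snd u.left
        (η[H] : 𝟙_ (Over (Spec (CommRingCat.of A))) ⟶ H).left)
    infer_instance
  · intro h
    haveI : LocallyOfFiniteType (u.left ≫ H.hom) := by rw [Over.w u]; infer_instance
    haveI : LocallyOfFiniteType u.left := locallyOfFiniteType_of_comp u.left H.hom
    let p := pullback.snd u.left (η[H] : 𝟙_ (Over (Spec (CommRingCat.of A))) ⟶ H).left
    haveI : LocallyOfFiniteType p := MorphismProperty.pullback_snd _ _ inferInstance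
    haveI : QuasiCompact p := MorphismProperty.pullback_snd _ _ inferInstance
    haveI : LocallyQuasiFinite p := by
      rw [locallyQuasiFinite_iff_isDiscrete_preimage_singleton]
      intro x
      rw [isDiscrete_iff_discreteTopology]
      infer_instance
    haveI : IsFinite p := IsFinite.of_locallyQuasiFinite p
    haveI hN : IsFinite (kerObj u).hom := by
      rw [kerObj_hom, hu1, Category.comp_id]
      exact (inferInstance : IsFinite p)
    haveI : IsProper u.left := (main3035 A G H u).mpr inferInstance
    haveI : LocallyQuasiFinite u.left := by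
      rw [locallyQuasiFinite_iff_finite_preimage_singleton]
      intro x
      exact finite_preimage_of_isKer u (kerι u) (isKer_kerι u) x
    exact IsFinite.of_isProper_of_locallyQuasiFinite u.left

end Groth.Agent.Lead.GrpProp
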