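import Mathlib
import Groth.Agent.Lib.Lead.AffDimE
import Groth.Agent.Lib.Lead.GrpProp5

/-!
# Quasi-finite separated homomorphisms of group schemes over a one-dimensional base are affine (lead)
-/

set_option backward.isDefEq.respectTransparency.types false
set_option autoImplicit false
set_option synthInstance.maxHeartbeats 400000
set_option maxHeartbeats 1000000
set_option linter.style.haveILetI false
set_option linter.unusedSectionVars false
set_option linter.unusedSimpArgs false
universe u
open CategoryTheory CategoryTheory.Limits AlgebraicGeometry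
open MonoidalCategory CartesianMonoidalCategory MonObj GrpObj

namespace Groth.Agent.Lead.AffDim

theorem main2993 {S : Scheme.{u}} [IsLocallyNoetherian S] (hS : topologicalKrullDim S ≤ 1)
    (G H : Over S) [GrpObj G] [GrpObj H] [LocallyOfFiniteType G.hom] [LocallyOfFiniteType H.hom]
    (f : G ⟶ H) [IsMonHom f] [LocallyQuasiFinite f.left] [QuasiCompact f.left]
    [IsSeparated f.left] : IsAffineHom f.left := by
  apply main5414 S hS G H f
  intro s
  let κ : Type u := S.residueField s
  let q : Spec (CommRingCat.of κ) ⟶ S := S.fromSpecResidueField s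
  let Gs : Over (Spec (CommRingCat.of κ)) := (Over.pullback q).obj G
  let Hs : Over (Spec (CommRingCat.of κ)) := (Over.pullback q).obj H
  let fs : Gs ⟶ Hs := (Over.pullback q).map f
  haveI : IsMonHom fs := inferInstance
  have sq := Groth.Agent.Lead.GrpMonoCl.isPullback_map_left q f
  haveI : LocallyQuasiFinite fs.left :=
    MorphismProperty.of_isPullback (P := @LocallyQuasiFinite) sq inferInstance
  haveI : QuasiCompact fs.left :=
    MorphismProperty.of_isPullback (P := @QuasiCompact) sq inferInstance
  haveI : LocallyOfFiniteType Gs.hom := MorphismProperty.pullback_snd _ _ inferInstance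
  haveI : LocallyOfFiniteType Hs.hom := MorphismProperty.pullback_snd _ _ inferInstance
  change IsFinite fs.left
  refine (Groth.Agent.Lead.GrpProp.main3037 κ Gs Hs fs).mpr ?_
  haveI : IsLocallyArtinian (Spec (CommRingCat.of κ)) :=
    Scheme.isLocallyArtinianScheme_Spec.mpr (inferInstanceAs (IsArtinianRing κ))
  haveI : IsLocallyArtinian (𝟙_ (Over (Spec (CommRingCat.of κ)))).left :=
    (inferInstance : IsLocallyArtinian (Spec (CommRingCat.of κ)))
  haveI : LocallyQuasiFinite (pullback.snd fs.left
      (η[Hs] : 𝟙_ (Over (Spec (CommRingCat.of κ))) ⟶ Hs).left) :=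
    MorphismProperty.pullback_snd _ _ inferInstance
  haveI : IsLocallyArtinian (pullback fs.left
      (η[Hs] : 𝟙_ (Over (Spec (CommRingCat.of κ))) ⟶ Hs).left) :=
    IsLocallyArtinian.of_locallyQuasiFinite (pullback.snd fs.left
      (η[Hs] : 𝟙_ (Over (Spec (CommRingCat.of κ))) ⟶ Hs).left)
  infer_instance

end Groth.Agent.Lead.AffDim
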