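import Mathlib
import Groth.Agent.Lib.Lead.FpqcGen5

/-!
# The affinization morphism of a qcqs scheme induces bijections on all sections (lead)
-/

set_option autoImplicit false
universe u
open CategoryTheory CategoryTheory.Limits AlgebraicGeometry TopologicalSpace Opposite

namespace Groth.Agent.Lead.AffLoc

theorem stalk_surjective_of_isBasis' {T : TopCat.{u}} {F G : TopCat.Presheaf CommRingCat.{u} T}
    (α : F ⟶ G) {B : Set (Opens T)} (hB : Opens.IsBasis B)
    (hα : ∀ U ∈ B, Function.Surjective (α.app (op U))) (x : T) :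
    Function.Surjective ((TopCat.Presheaf.stalkFunctor CommRingCat.{u} x).map α) := by
  intro t
  obtain ⟨U, hxU, hU, s, rfl⟩ := TopCat.Presheaf.exists_mem_germ_eq_of_isBasis hB _ x t
  obtain ⟨r, rfl⟩ := hα U hU s
  exact ⟨F.germ U x hxU r, TopCat.Presheaf.stalkFunctor_map_germ_apply U x hxU α r⟩

/-- a morphism of schemes which is bijective on the sections over a basis is bijective on all
sections -/
theorem app_bijective_of_basis {X Y : Scheme.{u}} (f : X ⟶ Y) {B : Set Y.Opens}
    (hB : Opens.IsBasis B) (h : ∀ U ∈ B, Function.Bijective (f.app U)) (V : Y.Opens) :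
    Function.Bijective (f.app V) := by
  let ψ : Y.sheaf ⟶ (TopCat.Sheaf.pushforward CommRingCat.{u} f.base).obj X.sheaf := ⟨f.c⟩
  haveI : ∀ x : Y, IsIso ((TopCat.Presheaf.stalkFunctor CommRingCat.{u} x).map ψ.1) := fun x =>
    (ConcreteCategory.isIso_iff_bijective _).2
      ⟨TopCat.Presheaf.stalkFunctor_map_injective_of_isBasis hB (fun U hU => (h U hU).1) x,
        stalk_surjective_of_isBasis' ψ.1 hB (fun U hU => (h U hU).2) x⟩
  haveI : IsIso ψ := TopCat.Presheaf.isIso_of_stalkFunctor_map_iso ψ
  haveI h2 : IsIso ((TopCat.Sheaf.forget CommRingCat.{u} Y).map ψ) := Functor.map_isIso _ ψ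
  have h3 : IsIso (((TopCat.Sheaf.forget CommRingCat.{u} Y).map ψ).app (op V)) := inferInstance
  exact (ConcreteCategory.isIso_iff_bijective _).1 h3


/-- pure algebra: a ring map between localizations lying over a bijection is a bijection -/
theorem bijective_of_isLocalization {R P S Q : Type u} [CommRing R] [CommRing P] [CommRing S]
    [CommRing Q] [Algebra R S] [Algebra P Q] (r : R) (α : R →+* P) (hα : Function.Bijective α)
    [IsLocalization.Away r S] [IsLocalization.Away (α r) Q] (φ : S →+* Q)
    (hφ : φ.comp (algebraMap R S) = (algebraMap P Q).comp α) : Function.Bijective φ := by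
  let e : R ≃+* P := RingEquiv.ofBijective α hα
  have H : (Submonoid.powers r).map e.toMonoidHom = Submonoid.powers (α r) := by
    rw [Submonoid.map_powers]
    rfl
  let E : S ≃+* Q := IsLocalization.ringEquivOfRingEquiv S Q e H
  have : φ = (E : S →+* Q) := by
    apply IsLocalization.ringHom_ext (Submonoid.powers r)
    rw [hφ]
    ext x
    simp only [RingHom.comp_apply]
    exact (IsLocalization.ringEquivOfRingEquiv_eq (S := S) (Q := Q) (j := e) H x).symm
  rw [this]
  exact E.bijective


/-- **the affinization morphism of a qcqs scheme is bijective on all sections** -/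
theorem toSpecΓ_app_bijective (X : Scheme.{u}) [CompactSpace X] [QuasiSeparatedSpace X]
    (V : (Spec Γ(X, ⊤)).Opens) : Function.Bijective (X.toSpecΓ.app V) := by
  apply app_bijective_of_basis X.toSpecΓ (isBasis_basicOpen (Spec Γ(X, ⊤)))
  rintro _ ⟨r, rfl⟩
  have hO : X.basicOpen (X.toSpecΓ.appTop r) = X.toSpecΓ ⁻¹ᵁ ((Spec Γ(X, ⊤)).basicOpen r) :=
    (Scheme.preimage_basicOpen X.toSpecΓ r).symm
  refine Groth.Agent.Lead.FpqcGen.bijective_app_of_eq X.toSpecΓ _ _ (le_of_eq hO) hO ?_
  haveI : IsLocalization.Away r Γ(Spec Γ(X, ⊤), (Spec Γ(X, ⊤)).basicOpen r) :=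
    (isAffineOpen_top (Spec Γ(X, ⊤))).isLocalization_basicOpen r
  haveI : IsLocalization.Away (X.toSpecΓ.appTop.hom r) Γ(X, X.basicOpen (X.toSpecΓ.appTop r)) :=
    isLocalization_basicOpen_of_qcqs (U := (⊤ : X.Opens)) CompactSpace.isCompact_univ
      isQuasiSeparated_univ (X.toSpecΓ.appTop r)
  refine bijective_of_isLocalization r X.toSpecΓ.appTop.hom ?_ _ ?_
  · have : IsIso X.toSpecΓ.appTop := by
      rw [Scheme.toSpecΓ_appTop]; infer_instance
    exact (ConcreteCategory.isIso_iff_bijective _).1 this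
  · have h1 : (Spec Γ(X, ⊤)).presheaf.map (homOfLE ((Spec Γ(X, ⊤)).basicOpen_le r)).op ≫
        X.toSpecΓ.appLE _ _ (le_of_eq hO) =
        X.toSpecΓ.appTop ≫ X.presheaf.map (homOfLE (X.basicOpen_le (X.toSpecΓ.appTop r))).op := by
      rw [Scheme.Hom.map_appLE]
      rfl
    exact congrArg CommRingCat.Hom.hom h1

end Groth.Agent.Lead.AffLoc
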