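import Mathlib

set_option backward.isDefEq.respectTransparency.types false
set_option synthInstance.maxHeartbeats 400000
set_option linter.style.haveILetI false
set_option linter.unusedSectionVars false
set_option autoImplicit false

open CategoryTheory AlgebraicGeometry Opposite Limits TopologicalSpace

namespace Groth.Agent.Lead.AffSh

universe u

section Site

variable (X : Scheme.{u})

/-- inclusion of affine opens into opens -/
abbrev incl : X.affineOpens ⥤ X.Opens :=
  Monotone.functor (f := fun U : X.affineOpens => (U : X.Opens)) (fun _ _ h => h)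

instance : (incl X).Faithful where
  map_injective := fun _ => Subsingleton.elim _ _

instance : (incl X).Full where
  map_surjective := fun f => ⟨homOfLE f.le, Subsingleton.elim _ _⟩

instance : (incl X).IsCoverDense (Opens.grothendieckTopology X) where
  is_cover := by
    intro U x hx
    obtain ⟨_, ⟨V, hV, rfl⟩, hxV, hVU⟩ := X.isBasis_affineOpens.exists_subset_of_mem_open hx U.2
    exact ⟨V, homOfLE hVU, ⟨⟨V, hV⟩, 𝟙 _, homOfLE hVU, rfl⟩, hxV⟩

/-- induced topology on affine opens -/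
noncomputable abbrev J : GrothendieckTopology X.affineOpens :=
  (incl X).inducedTopology (Opens.grothendieckTopology X)

theorem mem_J {U : X.affineOpens} {S : Sieve U} :
    S ∈ J X U ↔ ∀ x ∈ (U : X.Opens), ∃ (V : X.affineOpens) (f : V ⟶ U), S.arrows f ∧
      x ∈ (V : X.Opens) := by
  rw [Functor.mem_inducedTopology_iff_of_isCoverDense]
  apply forall₂_congr fun x hxU ↦ ⟨?_, ?_⟩
  · rintro ⟨V, f, ⟨W, g, h, hg, rfl⟩, hxV⟩
    exact ⟨W, g, hg, h.le hxV⟩
  · rintro ⟨W, g, hg, hxW⟩
    exact ⟨(W : X.Opens), homOfLE g.le, ⟨W, g, 𝟙 _, hg, rfl⟩, hxW⟩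

theorem exists_sheaf_iff (F : (X.affineOpens)ᵒᵖ ⥤ Type u) :
    (∃ G : TopCat.Sheaf (Type u) X.carrier, Nonempty ((incl X).op ⋙ G.1 ≅ F)) ↔
      Presieve.IsSheaf (J X) F := by
  rw [← isSheaf_iff_isSheaf_of_type]
  constructor
  · rintro ⟨G, ⟨e⟩⟩
    rw [← Presheaf.isSheaf_of_iso_iff e]
    exact (incl X).op_comp_isSheaf (J X) (Opens.grothendieckTopology X) G
  · intro h
    let F' : Sheaf (J X) (Type u) := ⟨F, h⟩
    let Φ := (incl X).sheafPushforwardContinuous (Type u) (J X) (Opens.grothendieckTopology X)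
    have : Φ.IsEquivalence := inferInstance
    refine ⟨Φ.objPreimage F', ⟨(sheafToPresheaf _ _).mapIso (Φ.objObjPreimageIso F')⟩⟩



end Site

section Core

variable {X : Scheme.{u}} (F : (X.affineOpens)ᵒᵖ ⥤ Type u)

/-- restriction of sections of the presheaf on affine opens -/
def res {U V : X.affineOpens} (h : V ≤ U) (s : F.obj (op U)) : F.obj (op V) :=
  F.map (homOfLE h).op s

theorem res_res {U V W : X.affineOpens} (h1 : W ≤ V) (h2 : V ≤ U) (s : F.obj (op U)) :
    res F h1 (res F h2 s) = res F (h1.trans h2) s := by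
  unfold res
  rw [← Functor.map_comp_apply]
  rfl

theorem map_eq_res {U V : X.affineOpens} (f : V ⟶ U) (s : F.obj (op U)) :
    F.map f.op s = res F f.le s := by
  unfold res
  congr

theorem res_self {U : X.affineOpens} (h : U ≤ U) (s : F.obj (op U)) : res F h s = s := by
  unfold res
  have : (homOfLE h).op = 𝟙 (op U) := Subsingleton.elim _ _
  rw [this, Functor.map_id_apply]

/-- restriction of functions -/
noncomputable def ρ {U W : X.affineOpens} (h : W ≤ U) : Γ(X, (U : X.Opens)) →+* Γ(X, (W : X.Opens)) :=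
  (X.presheaf.map (homOfLE (show (W : X.Opens) ≤ (U : X.Opens) from h)).op).hom

theorem basicOpen_ρ {U W : X.affineOpens} (h : W ≤ U) (f : Γ(X, (U : X.Opens))) :
    X.basicOpen (ρ h f) = (W : X.Opens) ⊓ X.basicOpen f :=
  Scheme.basicOpen_res X f _

theorem isUnit_ρ {U W : X.affineOpens} (h : W ≤ U) (g : Γ(X, (U : X.Opens)))
    (hW : (W : X.Opens) ≤ X.basicOpen g) : IsUnit (ρ h g) := by
  have h1 := RingedSpace.isUnit_res_basicOpen X.toRingedSpace g
  have h2 : ρ h g = (X.presheaf.map (homOfLE hW).op).hom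
      ((X.presheaf.map (homOfLE (X.basicOpen_le g)).op).hom g) := by
    unfold ρ
    rw [← CommRingCat.comp_apply, ← Functor.map_comp]
    rfl
  rw [h2]
  exact h1.map _

theorem span_ρ_eq_top {ι : Type*} {U W : X.affineOpens} (h : W ≤ U)
    (fs : ι → Γ(X, (U : X.Opens))) (g : Γ(X, (U : X.Opens)))
    (hg : g ∈ Ideal.span (Set.range fs)) (hu : IsUnit (ρ h g)) :
    Ideal.span (Set.range fun i => ρ h (fs i)) = ⊤ := by
  apply Ideal.eq_top_of_isUnit_mem _ _ hu
  have h1 : ρ h g ∈ Ideal.map (ρ h) (Ideal.span (Set.range fs)) := Ideal.mem_map_of_mem _ hg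
  rw [Ideal.map_span, ← Set.range_comp] at h1
  exact h1

/-- the affine open `D(f)` -/
def D (U : X.affineOpens) (f : Γ(X, (U : X.Opens))) : X.affineOpens :=
  ⟨X.basicOpen f, U.2.basicOpen f⟩

theorem D_le (U : X.affineOpens) (f : Γ(X, (U : X.Opens))) : D U f ≤ U :=
  X.basicOpen_le f

theorem le_sup_of_span_pair {U V W : X.affineOpens} (f g : Γ(X, (U : X.Opens)))
    (hV : (V : X.Opens) = X.basicOpen f) (hW : (W : X.Opens) = X.basicOpen g)
    (hfg : Ideal.span {f, g} = ⊤) : (U : X.Opens) = (V : X.Opens) ⊔ (W : X.Opens) := by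
  apply le_antisymm
  · have h1 := (U.2.self_le_iSup_basicOpen_iff (s := {f, g})).mpr hfg
    refine h1.trans ?_
    rw [iSup_le_iff]
    rintro ⟨x, hx⟩
    rcases hx with rfl | hx
    · rw [hV]; exact le_sup_left
    · rw [Set.mem_singleton_iff] at hx
      subst hx
      rw [hW]; exact le_sup_right
  · rw [hV, hW]
    exact sup_le (X.basicOpen_le f) (X.basicOpen_le g)

/-- the two-element standard cover condition -/
def Two : Prop := ∀ (U V W VW : X.affineOpens) (f g : Γ(X, (U : X.Opens))),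
    (V : X.Opens) = X.basicOpen f → (W : X.Opens) = X.basicOpen g →
    (VW : X.Opens) = X.basicOpen (f * g) → (U : X.Opens) = (V : X.Opens) ⊔ (W : X.Opens) →
    ∀ (hV : V ≤ U) (hW : W ≤ U) (h1 : VW ≤ V) (h2 : VW ≤ W),
    Function.Injective (fun s : F.obj (op U) =>
      (F.map (homOfLE hV).op s, F.map (homOfLE hW).op s)) ∧
    Set.range (fun s : F.obj (op U) => (F.map (homOfLE hV).op s, F.map (homOfLE hW).op s)) =
      {p | F.map (homOfLE h1).op p.1 = F.map (homOfLE h2).op p.2}

variable {F}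

theorem sep2 (H : Two F) {U V W : X.affineOpens} (f g : Γ(X, (U : X.Opens)))
    (hfg : Ideal.span {f, g} = ⊤)
    (hV : (V : X.Opens) = X.basicOpen f) (hW : (W : X.Opens) = X.basicOpen g)
    (hVU : V ≤ U) (hWU : W ≤ U) (t₁ t₂ : F.obj (op U))
    (e1 : res F hVU t₁ = res F hVU t₂) (e2 : res F hWU t₁ = res F hWU t₂) : t₁ = t₂ := by
  have h1 : D U (f * g) ≤ V := by
    show X.basicOpen (f * g) ≤ (V : X.Opens)
    rw [hV, X.basicOpen_mul]; exact inf_le_left
  have h2 : D U (f * g) ≤ W := by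
    show X.basicOpen (f * g) ≤ (W : X.Opens)
    rw [hW, X.basicOpen_mul]; exact inf_le_right
  exact (H U V W (D U (f * g)) f g hV hW rfl (le_sup_of_span_pair f g hV hW hfg)
    hVU hWU h1 h2).1 (Prod.ext e1 e2)

theorem glue2 (H : Two F) {U V W VW : X.affineOpens} (f g : Γ(X, (U : X.Opens)))
    (hfg : Ideal.span {f, g} = ⊤)
    (hV : (V : X.Opens) = X.basicOpen f) (hW : (W : X.Opens) = X.basicOpen g)
    (hVW : (VW : X.Opens) = X.basicOpen (f * g))
    (hVU : V ≤ U) (hWU : W ≤ U) (h1 : VW ≤ V) (h2 : VW ≤ W)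
    (a : F.obj (op V)) (b : F.obj (op W)) (hab : res F h1 a = res F h2 b) :
    ∃ t : F.obj (op U), res F hVU t = a ∧ res F hWU t = b := by
  have h3 := (H U V W VW f g hV hW hVW (le_sup_of_span_pair f g hV hW hfg) hVU hWU h1 h2).2
  have h4 : (a, b) ∈ {p : F.obj (op V) × F.obj (op W) |
      F.map (homOfLE h1).op p.1 = F.map (homOfLE h2).op p.2} := hab
  rw [← h3] at h4
  obtain ⟨t, ht⟩ := h4
  exact ⟨t, congrArg Prod.fst ht, congrArg Prod.snd ht⟩

variable (F)

/-- separatedness for a finite family -/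
def SepFor {n : ℕ} (U : X.affineOpens) (Vs : Fin n → X.affineOpens) (hle : ∀ i, Vs i ≤ U) : Prop :=
  ∀ t₁ t₂ : F.obj (op U), (∀ i, res F (hle i) t₁ = res F (hle i) t₂) → t₁ = t₂

/-- gluing for a finite family -/
def GlueFor {n : ℕ} (U : X.affineOpens) (Vs : Fin n → X.affineOpens) (hle : ∀ i, Vs i ≤ U) : Prop :=
  ∀ x : ∀ i, F.obj (op (Vs i)),
    (∀ i j (Z : X.affineOpens) (hi : Z ≤ Vs i) (hj : Z ≤ Vs j), res F hi (x i) = res F hj (x j)) →
    ∃ t : F.obj (op U), ∀ i, res F (hle i) t = x i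

/-- the induction predicate -/
def P (n : ℕ) : Prop := ∀ (U : X.affineOpens) (fs : Fin n → Γ(X, (U : X.Opens)))
  (Vs : Fin n → X.affineOpens) (_ : ∀ i, ((Vs i : X.affineOpens) : X.Opens) = X.basicOpen (fs i))
  (_ : Ideal.span (Set.range fs) = ⊤) (hle : ∀ i, Vs i ≤ U),
  SepFor F U Vs hle ∧ GlueFor F U Vs hle

variable {F}

theorem P_zero (E : X.affineOpens) (hE : (E : X.Opens) = ⊥)
    (hE1 : Nonempty (F.obj (op E))) (hE2 : Subsingleton (F.obj (op E))) : P F 0 := by
  intro U fs Vs hVs hspan hle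
  have h0 : (1 : Γ(X, (U : X.Opens))) = 0 := by
    have : Set.range fs = ∅ := Set.range_eq_empty fs
    rw [this, Ideal.span_empty] at hspan
    have h1 : (1 : Γ(X, (U : X.Opens))) ∈ (⊥ : Ideal Γ(X, (U : X.Opens))) := by
      rw [hspan]; trivial
    exact h1
  have hU : (U : X.Opens) = ⊥ := by
    rw [← X.basicOpen_of_isUnit (U := (U : X.Opens)) isUnit_one, h0, X.basicOpen_zero]
  have hUE : U = E := Subtype.ext (hU.trans hE.symm)
  subst hUE
  refine ⟨fun t₁ t₂ _ => Subsingleton.elim _ _, fun x _ => ?_⟩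
  obtain ⟨t⟩ := hE1
  exact ⟨t, fun i => i.elim0⟩

theorem P_succ (H : Two F) (n : ℕ) (ih : P F n) : P F (n + 1) := by
  intro U fs Vs hVs hspan hle
  have h1 : (1 : Γ(X, (U : X.Opens))) ∈ Ideal.span (Set.range fs) := by rw [hspan]; trivial
  obtain ⟨c, hc⟩ := Ideal.mem_span_range_iff_exists_fun.mp h1
  rw [Fin.sum_univ_succ] at hc
  set f0 : Γ(X, (U : X.Opens)) := fs 0 with hf0
  set g : Γ(X, (U : X.Opens)) := ∑ i : Fin n, c i.succ * fs i.succ with hg
  have hfg : Ideal.span {f0, g} = ⊤ := by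
    rw [Ideal.eq_top_iff_one, Ideal.mem_span_pair]
    exact ⟨c 0, 1, by rw [one_mul]; exact hc⟩
  have hg_mem : g ∈ Ideal.span (Set.range fun i : Fin n => fs i.succ) :=
    Ideal.sum_mem _ fun i _ => Ideal.mul_mem_left _ _ (Ideal.subset_span ⟨i, rfl⟩)
  have hUg : D U g ≤ U := D_le U g
  -- induction hypothesis on any affine open inside `D(g)`
  have key : ∀ (W : X.affineOpens) (hWU : W ≤ U) (_ : (W : X.Opens) ≤ X.basicOpen g)
      (hle' : ∀ i : Fin n, D W (ρ hWU (fs i.succ)) ≤ W),
      SepFor F W (fun i : Fin n => D W (ρ hWU (fs i.succ))) hle' ∧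
      GlueFor F W (fun i : Fin n => D W (ρ hWU (fs i.succ))) hle' := by
    intro W hWU hWg hle'
    exact ih W (fun i => ρ hWU (fs i.succ)) _ (fun i => rfl)
      (span_ρ_eq_top hWU _ g hg_mem (isUnit_ρ hWU g hWg)) hle'
  -- `D_W(r_i) ≤ V_{i+1}`
  have hDV : ∀ (W : X.affineOpens) (hWU : W ≤ U) (i : Fin n),
      D W (ρ hWU (fs i.succ)) ≤ Vs i.succ := by
    intro W hWU i
    show X.basicOpen (ρ hWU (fs i.succ)) ≤ ((Vs i.succ : X.affineOpens) : X.Opens)
    rw [basicOpen_ρ, hVs]
    exact inf_le_right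
  have hV0 : ((Vs 0 : X.affineOpens) : X.Opens) = X.basicOpen f0 := hVs 0
  constructor
  · -- separatedness
    intro t₁ t₂ ht
    refine sep2 H f0 g hfg hV0 rfl (hle 0) hUg t₁ t₂ (ht 0) ?_
    refine (key (D U g) hUg le_rfl (fun i => D_le _ _)).1 _ _ (fun i => ?_)
    rw [res_res, res_res]
    have e1 := res_res F (hDV (D U g) hUg i) (hle i.succ) t₁
    have e2 := res_res F (hDV (D U g) hUg i) (hle i.succ) t₂
    rw [← e1, ← e2, ht i.succ]
  · -- gluing
    intro x hx
    -- glue on `D(g)`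
    obtain ⟨y, hy⟩ := (key (D U g) hUg le_rfl (fun i => D_le _ _)).2
      (fun i => res F (hDV (D U g) hUg i) (x i.succ)) (by
        intro i j Z hi hj
        rw [res_res, res_res]
        exact hx i.succ j.succ Z _ _)
    -- compare on `D(f0 g)`
    have hVW0 : D U (f0 * g) ≤ Vs 0 := by
      show X.basicOpen (f0 * g) ≤ ((Vs 0 : X.affineOpens) : X.Opens)
      rw [hV0, X.basicOpen_mul]; exact inf_le_left
    have hVWg : D U (f0 * g) ≤ D U g := by
      show X.basicOpen (f0 * g) ≤ X.basicOpen g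
      rw [X.basicOpen_mul]; exact inf_le_right
    have hVWU : D U (f0 * g) ≤ U := D_le U _
    have hcmp : res F hVW0 (x 0) = res F hVWg y := by
      refine (key (D U (f0 * g)) hVWU hVWg (fun i => D_le _ _)).1 _ _ (fun i => ?_)
      rw [res_res, res_res]
      have hle2 : D (D U (f0 * g)) (ρ hVWU (fs i.succ)) ≤ D (D U g) (ρ hUg (fs i.succ)) := by
        show X.basicOpen (ρ hVWU (fs i.succ)) ≤ X.basicOpen (ρ hUg (fs i.succ))
        rw [basicOpen_ρ, basicOpen_ρ]
        exact inf_le_inf_right _ hVWg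
      have e1 := res_res F hle2 (D_le (D U g) (ρ hUg (fs i.succ))) y
      rw [← e1, hy i, res_res]
      exact hx 0 i.succ _ _ _
    obtain ⟨t, ht0, htg⟩ := glue2 H f0 g hfg hV0 rfl rfl (hle 0) hUg hVW0 hVWg (x 0) y hcmp
    refine ⟨t, ?_⟩
    intro i
    refine Fin.cases ht0 (fun j => ?_) i
    -- on `V_{j+1}` use the two-cover by `f0, g`
    set R : X.affineOpens := Vs j.succ with hR
    have hRU : R ≤ U := hle j.succ
    have hfg' : Ideal.span {ρ hRU f0, ρ hRU g} = ⊤ := by
      rw [Ideal.eq_top_iff_one, Ideal.mem_span_pair]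
      refine ⟨ρ hRU (c 0), 1, ?_⟩
      rw [one_mul, ← map_mul, ← map_add, hc, map_one]
    refine sep2 H (ρ hRU f0) (ρ hRU g) hfg' rfl rfl (D_le R _) (D_le R _) _ _ ?_ ?_
    · -- on `R ∩ D(f0)`
      have hle3 : D R (ρ hRU f0) ≤ Vs 0 := by
        show X.basicOpen (ρ hRU f0) ≤ ((Vs 0 : X.affineOpens) : X.Opens)
        rw [basicOpen_ρ, hV0]; exact inf_le_right
      rw [res_res]
      have e1 := res_res F hle3 (hle 0) t
      rw [← e1, ht0]
      exact hx 0 j.succ _ _ _
    · -- on `R ∩ D(g)`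
      have hle4 : D R (ρ hRU g) ≤ D (D U g) (ρ hUg (fs j.succ)) := by
        show X.basicOpen (ρ hRU g) ≤ X.basicOpen (ρ hUg (fs j.succ))
        rw [basicOpen_ρ, basicOpen_ρ]
        rw [show ((R : X.affineOpens) : X.Opens) = X.basicOpen (fs j.succ) from hVs j.succ]
        rw [inf_comm]
        exact le_rfl
      rw [res_res]
      have hle5 : D R (ρ hRU g) ≤ D U g := hle4.trans (D_le _ _)
      have e1 := res_res F hle5 hUg t
      rw [← e1, htg]
      have e2 := res_res F hle4 (D_le (D U g) (ρ hUg (fs j.succ))) y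
      rw [← e2, hy j, res_res]

theorem P_all (H : Two F) (E : X.affineOpens) (hE : (E : X.Opens) = ⊥)
    (hE1 : Nonempty (F.obj (op E))) (hE2 : Subsingleton (F.obj (op E))) : ∀ n, P F n := by
  intro n
  induction n with
  | zero => exact P_zero E hE hE1 hE2
  | succ n ih => exact P_succ H n ih


end Core

section SheafOfCond

variable {X : Scheme.{u}} {F : (X.affineOpens)ᵒᵖ ⥤ Type u}

theorem isSeparatedFor_of_le {U : X.affineOpens} {T T' : Presieve U} (hTT : T ≤ T')
    (hT : Presieve.IsSeparatedFor F T) : Presieve.IsSeparatedFor F T' := by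
  intro x t₁ t₂ h₁ h₂
  apply hT.ext
  intro Z k hk
  rw [h₁ k (hTT Z k hk), h₂ k (hTT Z k hk)]

/-- sheaf condition for a finite standard cover -/
theorem isSheafFor_std (hP : ∀ n, P F n) {n : ℕ} (U : X.affineOpens)
    (fs : Fin n → Γ(X, (U : X.Opens))) (hspan : Ideal.span (Set.range fs) = ⊤) :
    Presieve.IsSheafFor F (Presieve.ofArrows (fun i => D U (fs i))
      (fun i => homOfLE (D_le U (fs i)))) := by
  rw [Presieve.isSheafFor_arrows_iff]
  intro x hx
  obtain ⟨hsep, hglue⟩ := hP n U fs (fun i => D U (fs i)) (fun i => rfl) hspan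
    (fun i => D_le U (fs i))
  obtain ⟨t, ht⟩ := hglue x (by
    intro i j Z hi hj
    exact hx i j Z (homOfLE hi) (homOfLE hj) (Subsingleton.elim _ _))
  refine ⟨t, ht, ?_⟩
  intro t' ht'
  apply hsep
  intro i
  exact (ht' i).trans (ht i).symm

theorem isSheaf_of_cond (H : Two F) (E : X.affineOpens) (hE : (E : X.Opens) = ⊥)
    (hE1 : Nonempty (F.obj (op E))) (hE2 : Subsingleton (F.obj (op E))) :
    Presieve.IsSheaf (J X) F := by
  have hP := P_all H E hE hE1 hE2
  intro U S hS
  rw [mem_J] at hS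
  -- the sections whose basic open lies in the sieve
  let s : Set Γ(X, (U : X.Opens)) := {f | S.arrows (homOfLE (D_le U f))}
  have hs : Ideal.span s = ⊤ := by
    rw [← U.2.self_le_iSup_basicOpen_iff]
    intro x hxU
    obtain ⟨V, v, hv, hxV⟩ := hS x hxU
    obtain ⟨f, hfV, hxf⟩ := U.2.exists_basicOpen_le ⟨x, hxV⟩ hxU
    have hf : f ∈ s := by
      have h1 : D U f ≤ V := hfV
      have h2 := S.downward_closed hv (homOfLE h1)
      have h3 : homOfLE h1 ≫ v = homOfLE (D_le U f) := Subsingleton.elim _ _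
      rw [h3] at h2
      exact h2
    exact Opens.mem_iSup.mpr ⟨⟨f, hf⟩, hxf⟩
  obtain ⟨s', hs's, hs'⟩ := (Ideal.span_eq_top_iff_finite s).mp hs
  let fs : Fin s'.card → Γ(X, (U : X.Opens)) := fun i => (s'.equivFin.symm i).1
  have hrange : Set.range fs = (s' : Set Γ(X, (U : X.Opens))) := by
    ext f
    constructor
    · rintro ⟨i, rfl⟩
      exact (s'.equivFin.symm i).2
    · intro hf
      exact ⟨s'.equivFin ⟨f, hf⟩, by simp [fs]⟩
  have hspan : Ideal.span (Set.range fs) = ⊤ := by rw [hrange]; exact hs'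
  have hfs : ∀ i, fs i ∈ s := fun i => hs's (s'.equivFin.symm i).2
  -- the small sieve
  let R : Sieve U := Sieve.generate (Presieve.ofArrows (fun i => D U (fs i))
      (fun i => homOfLE (D_le U (fs i))))
  have hRS : R ≤ S := by
    rw [Sieve.generate_le_iff]
    rintro _ _ ⟨i⟩
    exact hfs i
  have hR : Presieve.IsSheafFor F R.arrows := by
    rw [← Presieve.isSheafFor_iff_generate]
    exact isSheafFor_std hP U fs hspan
  refine Presieve.isSheafFor_subsieve_aux F hRS hR ?_
  intro Y0 f0 hf0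
  have hYU : Y0 ≤ U := f0.le
  have hspanY : Ideal.span (Set.range fun i => ρ hYU (fs i)) = ⊤ := by
    refine span_ρ_eq_top hYU fs 1 (by rw [hspan]; trivial) ?_
    rw [map_one]; exact isUnit_one
  have h1 := (isSheafFor_std hP Y0 (fun i => ρ hYU (fs i)) hspanY).isSeparatedFor
  refine isSeparatedFor_of_le ?_ h1
  intro Z k hk
  obtain ⟨i⟩ := hk
  show R.arrows (homOfLE (D_le Y0 (ρ hYU (fs i))) ≫ f0)
  have hle : D Y0 (ρ hYU (fs i)) ≤ D U (fs i) := by
    show X.basicOpen (ρ hYU (fs i)) ≤ X.basicOpen (fs i)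
    rw [basicOpen_ρ]; exact inf_le_right
  refine ⟨D U (fs i), homOfLE hle, homOfLE (D_le U (fs i)), Presieve.ofArrows.mk i, ?_⟩
  exact Subsingleton.elim _ _

end SheafOfCond

section CondOfSheaf

variable {X : Scheme.{u}} {F : (X.affineOpens)ᵒᵖ ⥤ Type u}

theorem empty_of_isSheaf (hF : Presieve.IsSheaf (J X) F) (E : X.affineOpens)
    (hE : (E : X.Opens) = ⊥) : Nonempty (F.obj (op E)) ∧ Subsingleton (F.obj (op E)) := by
  have hcov : (⊥ : Sieve E) ∈ J X E := by
    rw [mem_J]
    intro x hx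
    rw [hE] at hx
    exact hx.elim
  have h := hF ⊥ hcov
  let x : Presieve.FamilyOfElements F (⊥ : Sieve E).arrows := fun _ _ hf => hf.elim
  have hx : x.Compatible := fun _ _ _ _ _ _ _ h₁ => h₁.elim
  obtain ⟨t, -, huniq⟩ := h x hx
  refine ⟨⟨t⟩, ⟨fun a b => ?_⟩⟩
  have ha : a = t := huniq a (fun _ _ hf => hf.elim)
  have hb : b = t := huniq b (fun _ _ hf => hf.elim)
  rw [ha, hb]

theorem two_of_isSheaf (hF : Presieve.IsSheaf (J X) F) : Two F := by
  intro U V W VW f g hV hW hVW hU hVU hWU h1 h2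
  -- the two-element covering family
  let Y : Bool → X.affineOpens := fun b => cond b V W
  have hY : ∀ b, Y b ≤ U := fun b => by cases b <;> assumption
  let π : ∀ b, Y b ⟶ U := fun b => homOfLE (hY b)
  have hcov : Sieve.generate (Presieve.ofArrows Y π) ∈ J X U := by
    rw [mem_J]
    intro x hx
    rw [hU] at hx
    rcases hx with hx | hx
    · exact ⟨V, π true, Sieve.le_generate _ _ _ (Presieve.ofArrows.mk true), hx⟩
    · exact ⟨W, π false, Sieve.le_generate _ _ _ (Presieve.ofArrows.mk false), hx⟩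
  have h := hF _ hcov
  rw [← Presieve.isSheafFor_iff_generate, Presieve.isSheafFor_arrows_iff] at h
  have hinfVW : ∀ Z : X.affineOpens, Z ≤ V → Z ≤ W → Z ≤ VW := by
    intro Z hZV hZW
    show (Z : X.Opens) ≤ (VW : X.Opens)
    rw [hVW, X.basicOpen_mul, ← hV, ← hW]
    exact le_inf hZV hZW
  constructor
  · -- injectivity
    intro t₁ t₂ ht
    have e1 : res F hVU t₁ = res F hVU t₂ := congrArg Prod.fst ht
    have e2 : res F hWU t₁ = res F hWU t₂ := congrArg Prod.snd ht
    let x : ∀ b, F.obj (op (Y b)) := fun b => F.map (π b).op t₂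
    have hx : Presieve.Arrows.Compatible F π x := by
      intro i j Z gi gj hij
      show F.map gi.op (F.map (π i).op t₂) = F.map gj.op (F.map (π j).op t₂)
      rw [← Functor.map_comp_apply, ← Functor.map_comp_apply]
      congr 1
    obtain ⟨t, -, huniq⟩ := h x hx
    have ht1 : t₁ = t := huniq t₁ (fun b => by cases b; exact e2; exact e1)
    have ht2 : t₂ = t := huniq t₂ (fun b => rfl)
    rw [ht1, ht2]
  · -- range
    ext p
    constructor
    · rintro ⟨s, rfl⟩
      show res F h1 (res F hVU s) = res F h2 (res F hWU s)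
      rw [res_res, res_res]
    · intro hp
      have hp' : res F h1 p.1 = res F h2 p.2 := hp
      let x : ∀ b, F.obj (op (Y b)) := fun b => Bool.rec (motive := fun b => F.obj (op (Y b))) p.2 p.1 b
      have hx : Presieve.Arrows.Compatible F π x := by
        intro i j Z gi gj hij
        rw [map_eq_res, map_eq_res]
        cases i <;> cases j
        · rfl
        · show res F _ p.2 = res F _ p.1
          have hZ := hinfVW Z gj.le gi.le
          have e1 := res_res F hZ h1 p.1
          have e2 := res_res F hZ h2 p.2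
          rw [← e1, ← e2, hp']
        · show res F _ p.1 = res F _ p.2
          have hZ := hinfVW Z gi.le gj.le
          have e1 := res_res F hZ h1 p.1
          have e2 := res_res F hZ h2 p.2
          rw [← e1, ← e2, hp']
        · rfl
      obtain ⟨t, ht, -⟩ := h x hx
      exact ⟨t, Prod.ext (ht true) (ht false)⟩

end CondOfSheaf

section Main

theorem main (X : Scheme.{u})
    (F : (X.affineOpens)ᵒᵖ ⥤ Type u) (E : X.affineOpens) (hE : (E : X.Opens) = ⊥) :
    (∃ G : TopCat.Sheaf (Type u) X.carrier,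
        Nonempty ((Monotone.functor (f := fun U : X.affineOpens => (U : X.Opens))
          (fun _ _ h => h)).op ⋙ G.1 ≅ F)) ↔
    ((Nonempty (F.obj (op E)) ∧ Subsingleton (F.obj (op E))) ∧ Two F) := by
  rw [exists_sheaf_iff]
  constructor
  · intro h
    exact ⟨empty_of_isSheaf h E hE, two_of_isSheaf h⟩
  · rintro ⟨⟨h1, h2⟩, H⟩
    exact isSheaf_of_cond H E hE h1 h2

end Main

end Groth.Agent.Lead.AffSh
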