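import Mathlib

set_option backward.isDefEq.respectTransparency.types false
set_option autoImplicit false
set_option synthInstance.maxHeartbeats 400000
set_option maxHeartbeats 1000000
set_option linter.style.haveILetI false
set_option linter.unusedSectionVars false

open CategoryTheory CategoryTheory.Limits

universe u

namespace Groth.Agent.Lead.AlgzB

variable {B : Type u} [CommRing B]

/-- exactness at `j+1` makes `toCycles` an epimorphism -/
theorem epi_toCycles_of_exactAt (P : CochainComplex (ModuleCat.{u} B) ℤ) (j : ℤ)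
    (h : P.ExactAt (j + 1)) : Epi (P.toCycles j (j + 1)) := by
  have h1 : IsZero (P.homology (j + 1)) := by
    rwa [← HomologicalComplex.exactAt_iff_isZero_homology]
  have hc := P.homologyIsCokernel j (j + 1) (by simp)
  exact Preadditive.epi_of_isZero_cokernel' _ hc h1

/-- one step of the splitting: a retraction of `iCycles (j+1)` and exactness at `j+1` give a
retraction of `iCycles j` -/
theorem retraction_step (P : CochainComplex (ModuleCat.{u} B) ℤ) (j : ℤ)
    (hproj : Projective (P.X (j + 1)))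
    (h : P.ExactAt (j + 1))
    (ρ : P.X (j + 1) ⟶ P.cycles (j + 1)) (hρ : P.iCycles (j + 1) ≫ ρ = 𝟙 _) :
    ∃ ρ' : P.X j ⟶ P.cycles j, P.iCycles j ≫ ρ' = 𝟙 _ := by
  haveI : Epi (P.toCycles j (j + 1)) := epi_toCycles_of_exactAt P j h
  haveI : Projective (P.cycles (j + 1)) :=
    Retract.projective (Retract.mk (P.iCycles (j + 1)) ρ hρ)
  -- section of toCycles
  let σ : P.cycles (j + 1) ⟶ P.X j := Projective.factorThru (𝟙 _) (P.toCycles j (j + 1))
  have hσ : σ ≫ P.toCycles j (j + 1) = 𝟙 _ := Projective.factorThru_comp _ _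
  let r : P.X j ⟶ P.X j := 𝟙 _ - P.toCycles j (j + 1) ≫ σ
  have hr : r ≫ P.d j (j + 1) = 0 := by
    have h1 : P.d j (j + 1) = P.toCycles j (j + 1) ≫ P.iCycles (j + 1) := by simp
    show (𝟙 _ - P.toCycles j (j + 1) ≫ σ) ≫ P.d j (j + 1) = 0
    rw [Preadditive.sub_comp, Category.id_comp, h1, Category.assoc, ← Category.assoc σ,
      hσ, Category.id_comp, sub_self]
  refine ⟨P.liftCycles r (j + 1) (by simp) hr, ?_⟩
  rw [← cancel_mono (P.iCycles j), Category.assoc, HomologicalComplex.liftCycles_i,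
    Category.id_comp]
  show P.iCycles j ≫ (𝟙 _ - P.toCycles j (j + 1) ≫ σ) = _
  rw [Preadditive.comp_sub, Category.comp_id]
  have h2 : P.iCycles j ≫ P.toCycles j (j + 1) = 0 := by
    rw [← cancel_mono (P.iCycles (j + 1)), Category.assoc, HomologicalComplex.toCycles_i,
      HomologicalComplex.iCycles_d, zero_comp]
  rw [← Category.assoc, h2, zero_comp, sub_zero]

/-- bounded above complex of projectives, exact above `s`: all cycle objects in degrees `≥ s` are
retracts of the terms -/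
theorem exists_retraction_cycles (P : CochainComplex (ModuleCat.{u} B) ℤ) (t s : ℤ)
    (hproj : ∀ j, Projective (P.X j)) (hzero : ∀ j, t < j → IsZero (P.X j))
    (hex : ∀ j, s < j → P.ExactAt j) :
    ∀ j, s ≤ j → ∃ ρ : P.X j ⟶ P.cycles j, P.iCycles j ≫ ρ = 𝟙 _ := by
  have key : ∀ n : ℕ, ∀ j : ℤ, s ≤ j → t + 1 - n ≤ j →
      ∃ ρ : P.X j ⟶ P.cycles j, P.iCycles j ≫ ρ = 𝟙 _ := by
    intro n
    induction n with
    | zero =>
      intro j _ hj
      have hz : IsZero (P.X j) := hzero j (by omega)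
      have hz' : IsZero (P.cycles j) := IsZero.of_mono (P.iCycles j) hz
      exact ⟨0, hz'.eq_of_src _ _⟩
    | succ n ih =>
      intro j hsj hj
      obtain ⟨ρ, hρ⟩ := ih (j + 1) (by omega) (by push_cast at hj; omega)
      exact retraction_step P j (hproj _) (hex _ (by omega)) ρ hρ
  intro j hj
  by_cases h : t + 1 ≤ j
  · exact key 0 j hj (by simpa using h)
  · obtain ⟨n, hn⟩ := Int.eq_ofNat_of_zero_le (show 0 ≤ t + 1 - j by omega)
    exact key n j hj (by omega)

/-- `X` is generated by `n` elements -/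
def GenBy (n : ℕ) (X : ModuleCat.{u} B) : Prop :=
  ∃ g : (Fin n → B) →ₗ[B] X, Function.Surjective g

theorem GenBy.of_epi {n : ℕ} {X Y : ModuleCat.{u} B} (h : GenBy n X) (f : X ⟶ Y) [Epi f] :
    GenBy n Y := by
  obtain ⟨g, hg⟩ := h
  exact ⟨f.hom.comp g, ((ModuleCat.epi_iff_surjective f).1 inferInstance).comp hg⟩

theorem GenBy.of_iso {n : ℕ} {X Y : ModuleCat.{u} B} (h : GenBy n X) (e : X ≅ Y) : GenBy n Y :=
  h.of_epi e.hom

theorem GenBy.mono {n m : ℕ} {X : ModuleCat.{u} B} (h : GenBy n X) (hnm : n ≤ m) : GenBy m X := by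
  obtain ⟨g, hg⟩ := h
  let π : (Fin m → B) →ₗ[B] (Fin n → B) := LinearMap.funLeft B B (Fin.castLE hnm)
  have hπ : Function.Surjective π :=
    LinearMap.funLeft_surjective_of_injective B B _ (Fin.castLE_injective hnm)
  exact ⟨g.comp π, hg.comp hπ⟩

theorem GenBy.of_isZero {n : ℕ} {X : ModuleCat.{u} B} (h : IsZero X) : GenBy n X := by
  refine ⟨0, fun x => ⟨0, ?_⟩⟩
  haveI := ModuleCat.subsingleton_of_isZero h
  exact Subsingleton.elim _ _

/-- an object which is a "biproduct" of `X` and `Y` is generated by the sum -/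
theorem GenBy.of_biprod {n m : ℕ} {X Y Z : ModuleCat.{u} B} (hX : GenBy n X) (hY : GenBy m Y)
    (iX : X ⟶ Z) (iY : Y ⟶ Z) (pX : Z ⟶ X) (pY : Z ⟶ Y)
    (hid : pX ≫ iX + pY ≫ iY = 𝟙 Z) : GenBy (n + m) Z := by
  obtain ⟨g, hg⟩ := hX
  obtain ⟨g', hg'⟩ := hY
  let e : (Fin (n + m) → B) ≃ₗ[B] ((Fin n → B) × (Fin m → B)) :=
    (LinearEquiv.funCongrLeft B B finSumFinEquiv) ≪≫ₗ (LinearEquiv.sumArrowLequivProdArrow _ _ B B)
  let G : ((Fin n → B) × (Fin m → B)) →ₗ[B] Z :=
    (iX.hom.comp g).coprod (iY.hom.comp g')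
  refine ⟨G.comp e.toLinearMap, ?_⟩
  have hG : Function.Surjective G := ?_
  · rw [LinearMap.coe_comp]
    exact hG.comp e.surjective
  intro z
  obtain ⟨a, ha⟩ := hg (pX.hom z)
  obtain ⟨b, hb⟩ := hg' (pY.hom z)
  refine ⟨(a, b), ?_⟩
  have h1 : (pX ≫ iX + pY ≫ iY).hom z = z := by rw [hid]; rfl
  simp only [G, LinearMap.coprod_apply, LinearMap.comp_apply, ha, hb]
  exact h1

theorem projective_of_biprod {X Y Z : ModuleCat.{u} B} [Projective X] [Projective Y]
    (iX : X ⟶ Z) (iY : Y ⟶ Z) (pX : Z ⟶ X) (pY : Z ⟶ Y)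
    (hid : pX ≫ iX + pY ≫ iY = 𝟙 Z) : Projective Z := by
  -- Z is a retract of X ⊞ Y
  have : Retract Z (X ⊞ Y) :=
    { i := biprod.lift pX pY
      r := biprod.desc iX iY
      retract := by simp [biprod.lift_desc, hid] }
  exact this.projective

/-- generators of the top cohomology -/
theorem genBy_homology (P : CochainComplex (ModuleCat.{u} B) ℤ) (t s : ℤ) (M : ℕ)
    (hproj : ∀ j, Projective (P.X j)) (hzero : ∀ j, t < j → IsZero (P.X j))
    (hex : ∀ j, s < j → P.ExactAt j) (hgen : GenBy M (P.X s)) :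
    GenBy M (P.homology s) := by
  obtain ⟨ρ, hρ⟩ := exists_retraction_cycles P t s hproj hzero hex s le_rfl
  haveI : IsSplitEpi ρ := ⟨⟨⟨P.iCycles s, hρ⟩⟩⟩
  haveI : Epi (ρ ≫ P.homologyπ s) := epi_comp _ _
  exact hgen.of_epi (ρ ≫ P.homologyπ s)

/-- the bottom case: the cohomology is projective -/
theorem projective_homology_bottom (P : CochainComplex (ModuleCat.{u} B) ℤ) (t c : ℤ)
    (hproj : ∀ j, Projective (P.X j)) (hzero : ∀ j, t < j → IsZero (P.X j))
    (hbot : IsZero (P.X (c - 1)))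
    (hex : ∀ j, c < j → P.ExactAt j) :
    Projective (P.homology c) := by
  obtain ⟨ρ, hρ⟩ := exists_retraction_cycles P t c hproj hzero hex c le_rfl
  haveI : Projective (P.cycles c) := Retract.projective (Retract.mk (P.iCycles c) ρ hρ)
  have hd : P.d (c - 1) c = 0 := hbot.eq_of_src _ _
  exact Projective.of_iso (P.isoHomologyπ (c - 1) c (by simp) hd) inferInstance

end Groth.Agent.Lead.AlgzB
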