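import Mathlib
import Groth.Prelude.Def_W4c5algebraiztannakaNis
import Groth.Agent.Lib.Lead.FLF2
import Groth.Agent.Lib.Helper8.ExtScal
import Groth.Agent.Lib.Helper5.Perf.Pull

/-!
# Generators of a module from a Nisnevich cover of bounded length (lead)
-/

set_option autoImplicit false
set_option backward.isDefEq.respectTransparency.types false
set_option synthInstance.maxHeartbeats 400000
set_option maxHeartbeats 1000000
set_option linter.style.haveILetI false
set_option linter.unusedSectionVars false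

universe u
open CategoryTheory CategoryTheory.Limits AlgebraicGeometry TopologicalSpace

namespace Groth.Agent.Lead.NisGen

open Scheme.Modules TensorProduct

/-- lifting from a reduced scheme through an immersion -/
theorem exists_lift_of_isReduced {X T Y : Scheme.{u}} [IsReduced X] (g : T ⟶ Y) [IsImmersion g]
    (ι : X ⟶ Y) (hr : Set.range ι ⊆ Set.range g) : ∃ h : X ⟶ T, h ≫ g = ι := by
  have hsurj : Function.Surjective (pullback.fst ι g) := by
    intro x
    obtain ⟨t, ht⟩ := hr ⟨x, rfl⟩
    obtain ⟨p, hp, -⟩ := Scheme.Pullback.exists_preimage_pullback (f := ι) (g := g) x t ht.symm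
    exact ⟨p, hp⟩
  haveI : Surjective (pullback.fst ι g) := ⟨hsurj⟩
  haveI : IsClosedImmersion (pullback.fst ι g) :=
    IsClosedImmersion.of_isPreimmersion _ (by
      rw [Set.range_eq_univ.2 hsurj]; exact isClosed_univ)
  haveI : IsIso (pullback.fst ι g) := isIso_of_isClosedImmersion_of_surjective _
  refine ⟨inv (pullback.fst ι g) ≫ pullback.snd ι g, ?_⟩
  rw [Category.assoc, ← pullback.condition, IsIso.inv_hom_id_assoc]

/-- the algebraic core: generation modulo `I` gives disjointness of the support of the quotient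
from `V(I)` -/
theorem notMem_support_of_span {R : Type u} [CommRing R] (I : Ideal R) (M : Type u)
    [AddCommGroup M] [Module R M] [Module.Finite R M] {n : ℕ} (y : Fin n → M)
    (hy : ∀ m : M, ∃ c : Fin n → R, m - ∑ j, c j • y j ∈ (I • ⊤ : Submodule R M)) :
    ∀ p ∈ PrimeSpectrum.zeroLocus (I : Set R),
      p ∉ Module.support R (M ⧸ Submodule.span R (Set.range y)) := by
  intro p hp hps
  set N : Submodule R M := Submodule.span R (Set.range y) with hN
  have htop : (I • ⊤ : Submodule R (M ⧸ N)) = ⊤ := by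
    rw [eq_top_iff]
    intro q _
    obtain ⟨m, rfl⟩ := N.mkQ_surjective q
    obtain ⟨c, hc⟩ := hy m
    have h1 : N.mkQ m = N.mkQ (m - ∑ j, c j • y j) := by
      rw [map_sub, sub_eq_self.2]
      rw [Submodule.mkQ_apply, Submodule.Quotient.mk_eq_zero]
      exact Submodule.sum_mem _ fun j _ => Submodule.smul_mem _ _ (Submodule.subset_span ⟨j, rfl⟩)
    rw [h1]
    have h2 : N.mkQ (m - ∑ j, c j • y j) ∈ (I • ⊤ : Submodule R M).map N.mkQ :=
      Submodule.mem_map_of_mem hc
    rw [Submodule.map_smul'', Submodule.map_top, Submodule.range_mkQ] at h2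
    exact h2
  have h3 := Module.support_quotient (R := R) (M := M ⧸ N) I
  have h4 : Subsingleton ((M ⧸ N) ⧸ (I • ⊤ : Submodule R (M ⧸ N))) := by
    rw [htop]
    exact Submodule.Quotient.subsingleton_iff.2 rfl
  rw [Module.support_eq_empty] at h3
  have : p ∈ Module.support R (M ⧸ N) ∩ PrimeSpectrum.zeroLocus (I : Set R) := ⟨hps, hp⟩
  rw [← h3] at this
  exact this

/-- pull an epimorphism from a free module back along a section and read it as a surjection of
modules -/
theorem exists_surj_of_epi_pullback (R S : CommRingCat.{u}) (ψ : R ⟶ S) (M : ModuleCat.{u} R)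
    (n : ℕ) {U : Scheme.{u}} (f : U ⟶ Spec R) (σ : Spec S ⟶ U) (hσ : σ ≫ f = Spec.map ψ)
    (φ : FlatMod.freeMod U n ⟶ (Scheme.Modules.pullback f).obj (tilde M)) [Epi φ] :
    ∃ g : ModuleCat.of S (ULift.{u} (Fin n) →₀ S) ⟶ (ModuleCat.extendScalars ψ.hom).obj M,
      Function.Surjective g.hom := by
  let φ' := (Scheme.Modules.pullback σ).map φ
  haveI : Epi φ' := inferInstance
  let e1 : (Scheme.Modules.pullback σ).obj (FlatMod.freeMod U n) ≅ FlatMod.freeMod (Spec S) n :=
    Groth.Agent.Lib.Helper5.PerfPull.pullbackFreeIso σ n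
  let e2 : (Scheme.Modules.pullback σ).obj ((Scheme.Modules.pullback f).obj (tilde M)) ≅
      (Scheme.Modules.pullback (Spec.map ψ)).obj (tilde M) :=
    (Scheme.Modules.pullbackComp σ f).app (tilde M) ≪≫
      (Scheme.Modules.pullbackCongr hσ).app (tilde M)
  let e3 : (Scheme.Modules.pullback (Spec.map ψ)).obj (tilde M) ≅
      tilde ((ModuleCat.extendScalars ψ.hom).obj M) :=
    (Groth.Agent.Helper1.TildeBC.pullbackTildeIso ψ).app M
  let χ : (tilde.functor S).obj (ModuleCat.of S (ULift.{u} (Fin n) →₀ S)) ⟶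
      (tilde.functor S).obj ((ModuleCat.extendScalars ψ.hom).obj M) :=
    (Groth.Agent.Lead.FLF.tildeFreeIso S n).hom ≫ e1.inv ≫ φ' ≫ e2.hom ≫ e3.hom
  haveI : Epi χ := by
    show Epi ((Groth.Agent.Lead.FLF.tildeFreeIso S n).hom ≫ e1.inv ≫ φ' ≫ e2.hom ≫ e3.hom)
    infer_instance
  let g := (tilde.fullyFaithfulFunctor (R := S)).preimage χ
  have hg : (tilde.functor S).map g = χ := (tilde.fullyFaithfulFunctor (R := S)).map_preimage χ
  haveI : Epi ((tilde.functor S).map g) := by rw [hg]; infer_instance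
  haveI : (tilde.functor S).Faithful := (tilde.fullyFaithfulFunctor (R := S)).faithful
  haveI : (tilde.functor S).ReflectsEpimorphisms := Functor.reflectsEpimorphisms_of_faithful _
  haveI : Epi g := (tilde.functor S).epi_of_epi_map inferInstance
  exact ⟨g, (ModuleCat.epi_iff_surjective g).1 inferInstance⟩

/-- generators over a closed subset contained in a stratum with a section -/
theorem exists_gens_of_section (R : CommRingCat.{u}) (M : ModuleCat.{u} R) [Module.Finite R M]
    {U : Scheme.{u}} (f : U ⟶ Spec R) (N : ℕ)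
    (φ : FlatMod.freeMod U N ⟶ (Scheme.Modules.pullback f).obj (tilde M)) [Epi φ]
    (W : Set (Spec R)) (hW : W4c5algebraiztannaka.HasSectOver f W) (J : Ideal R)
    (hJ : PrimeSpectrum.zeroLocus (J : Set R) ⊆ W) :
    ∃ y : Fin N → M, ∀ p ∈ PrimeSpectrum.zeroLocus (J : Set R),
      p ∉ Module.support R (M ⧸ Submodule.span R (Set.range y)) := by
  set I : Ideal R := J.radical with hI
  let S : CommRingCat.{u} := CommRingCat.of (R ⧸ I)
  let ψ : R ⟶ S := CommRingCat.ofHom (algebraMap R (R ⧸ I))
  haveI : _root_.IsReduced (R ⧸ I) :=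
    (Ideal.isRadical_iff_quotient_reduced I).1 (Ideal.radical_isRadical J)
  haveI : IsReduced (Spec S) := inferInstance
  have hrange : Set.range (Spec.map ψ) = PrimeSpectrum.zeroLocus (I : Set R) := by
    have h1 := range_comap_of_surjective (R ⧸ I) (algebraMap R (R ⧸ I))
      Ideal.Quotient.mk_surjective
    rw [show RingHom.ker (algebraMap R (R ⧸ I)) = I from Ideal.mk_ker] at h1
    exact h1
  obtain ⟨T, g, s, hg, hgr, hs⟩ := hW
  haveI := hg
  obtain ⟨h, hh⟩ := exists_lift_of_isReduced g (Spec.map ψ) (by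
    rw [hrange, hI, PrimeSpectrum.zeroLocus_radical]
    exact hJ.trans hgr.ge)
  have hσ : (h ≫ s) ≫ f = Spec.map ψ := by rw [Category.assoc, hs, hh]
  obtain ⟨g', hg'⟩ := exists_surj_of_epi_pullback R S ψ M N f (h ≫ s) hσ φ
  let e := Groth.Agent.Helper8.extScalEquiv (R := R) (S := R ⧸ I) M
  let G : (ULift.{u} (Fin N) →₀ (R ⧸ I)) →ₗ[R ⧸ I] ((R ⧸ I) ⊗[R] M) := e.toLinearMap ∘ₗ g'.hom
  have hG : Function.Surjective G := e.surjective.comp hg'
  have hmk : Function.Surjective (TensorProduct.mk R (R ⧸ I) M 1) :=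
    TensorProduct.mk_surjective R M (R ⧸ I) Ideal.Quotient.mk_surjective
  choose y hy using fun j : Fin N => hmk (G (Finsupp.single ⟨j⟩ 1))
  refine ⟨y, ?_⟩
  have key : ∀ m : M, ∃ c : Fin N → R, m - ∑ j, c j • y j ∈ (I • ⊤ : Submodule R M) := by
    intro m
    obtain ⟨w, hw⟩ := hG ((1 : R ⧸ I) ⊗ₜ[R] m)
    choose c hc using fun j : Fin N => Ideal.Quotient.mk_surjective (w ⟨j⟩)
    refine ⟨c, ?_⟩
    have h1 : w = ∑ j : Fin N, (Ideal.Quotient.mk I (c j)) • Finsupp.single (ULift.up j) (1 : R ⧸ I) := by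
      ext ⟨i⟩
      rw [Finsupp.coe_finset_sum, Finset.sum_apply]
      simp only [Finsupp.coe_smul, Pi.smul_apply, Finsupp.single_apply, smul_eq_mul, mul_ite,
        mul_one, mul_zero, ULift.up.injEq]
      rw [Finset.sum_ite_eq' Finset.univ i]
      simp [hc]
    have h2 : (1 : R ⧸ I) ⊗ₜ[R] m = (1 : R ⧸ I) ⊗ₜ[R] (∑ j, c j • y j) := by
      rw [← hw, h1, map_sum, TensorProduct.tmul_sum]
      refine Finset.sum_congr rfl fun j _ => ?_
      rw [_root_.map_smul, ← hy j]
      show Ideal.Quotient.mk I (c j) • ((1 : R ⧸ I) ⊗ₜ[R] y j) =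
        (1 : R ⧸ I) ⊗ₜ[R] (c j • y j)
      rw [TensorProduct.smul_tmul', smul_eq_mul, mul_one,
        ← TensorProduct.smul_tmul (c j) (1 : R ⧸ I) (y j)]
      congr 1
      rw [Algebra.smul_def, mul_one]
      rfl
    have h3 : (1 : R ⧸ I) ⊗ₜ[R] (m - ∑ j, c j • y j) = 0 := by
      rw [TensorProduct.tmul_sub, h2, sub_self]
    have h4 := congrArg (TensorProduct.quotTensorEquivQuotSMul M I) h3
    rw [map_zero, ← map_one (Ideal.Quotient.mk I), TensorProduct.quotTensorEquivQuotSMul_mk_tmul,
      one_smul, Submodule.Quotient.mk_eq_zero] at h4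
    exact h4
  have := notMem_support_of_span I M y key
  rw [hI, PrimeSpectrum.zeroLocus_radical] at this
  exact this

/-- the support of a quotient shrinks when the submodule grows -/
theorem support_quotient_anti {R : Type u} [CommRing R] {M : Type u} [AddCommGroup M] [Module R M]
    {N₁ N₂ : Submodule R M} (h : N₁ ≤ N₂) :
    Module.support R (M ⧸ N₂) ⊆ Module.support R (M ⧸ N₁) :=
  Module.support_subset_of_surjective (Submodule.factor h) (Submodule.factor_surjective h)

theorem main17867 (R : CommRingCat.{u}) (M : ModuleCat.{u} R) [Module.Finite R M]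
    {U : Scheme.{u}} (f : U ⟶ Spec R) (m N : ℕ)
    (hf : W4c5algebraiztannaka.IsNisCoverLen f m)
    (hgen : ∃ φ : FlatMod.freeMod U N ⟶ (Scheme.Modules.pullback f).obj (tilde M), Epi φ) :
    ∃ s : Fin (N * m) → M, Submodule.span R (Set.range s) = ⊤ := by
  obtain ⟨φ, hφ⟩ := hgen
  obtain ⟨Z, hZ0, hZm, hmono, hcl, hsect⟩ := hf.flag
  have key : ∀ k (hk : k ≤ m), ∃ x : Fin (N * k) → M,
      ∀ p ∈ Z ⟨k, Nat.lt_succ_of_le hk⟩,
        p ∉ Module.support R (M ⧸ Submodule.span R (Set.range x)) := by
    intro k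
    induction k with
    | zero =>
      intro hk
      refine ⟨fun _ => 0, fun p hp => ?_⟩
      have : Z ⟨0, Nat.lt_succ_of_le hk⟩ = ∅ := hZ0
      rw [this] at hp
      exact hp.elim
    | succ k ih =>
      intro hk
      obtain ⟨x, hx⟩ := ih (Nat.le_of_succ_le hk)
      let kk : Fin m := ⟨k, hk⟩
      have hs1 : Z kk.succ = Z ⟨k + 1, Nat.lt_succ_of_le hk⟩ := rfl
      have hs0 : Z kk.castSucc = Z ⟨k, Nat.lt_succ_of_le (Nat.le_of_succ_le hk)⟩ := rfl
      set M' := (M ⧸ Submodule.span R (Set.range x)) with hM'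
      let Zs : Set (PrimeSpectrum R) := Z kk.succ
      have hZs : IsClosed Zs := (hcl kk.succ).1
      have hZsc : PrimeSpectrum.zeroLocus (PrimeSpectrum.vanishingIdeal Zs : Set R) = Zs := by
        rw [PrimeSpectrum.zeroLocus_vanishingIdeal_eq_closure, hZs.closure_eq]
      set J : Ideal R := PrimeSpectrum.vanishingIdeal Zs ⊔ Module.annihilator R M' with hJ
      have hJW : PrimeSpectrum.zeroLocus (J : Set R) ⊆ Z kk.succ \ Z kk.castSucc := by
        intro p hp
        rw [hJ, PrimeSpectrum.zeroLocus_sup] at hp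
        obtain ⟨hp1, hp2⟩ := hp
        rw [hZsc] at hp1
        refine ⟨hp1, fun hp0 => ?_⟩
        rw [← Module.support_eq_zeroLocus] at hp2
        rw [hs0] at hp0
        exact hx p hp0 hp2
      obtain ⟨y, hy⟩ := exists_gens_of_section R M f N φ _ (hsect kk) J hJW
      have hNk : N * (k + 1) = N * k + N := by ring
      refine ⟨fun i => Fin.append x y (Fin.cast hNk i), fun p hp => ?_⟩
      have hle1 : Submodule.span R (Set.range x) ≤
          Submodule.span R (Set.range fun i => Fin.append x y (Fin.cast hNk i)) := by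
        apply Submodule.span_mono
        rintro _ ⟨i, rfl⟩
        exact ⟨Fin.cast hNk.symm (Fin.castAdd N i), by simp⟩
      have hle2 : Submodule.span R (Set.range y) ≤
          Submodule.span R (Set.range fun i => Fin.append x y (Fin.cast hNk i)) := by
        apply Submodule.span_mono
        rintro _ ⟨i, rfl⟩
        exact ⟨Fin.cast hNk.symm (Fin.natAdd (N * k) i), by simp⟩
      intro hps
      by_cases hpx : p ∈ Module.support R M'
      · have hpJ : p ∈ PrimeSpectrum.zeroLocus (J : Set R) := by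
          rw [hJ, PrimeSpectrum.zeroLocus_sup]
          refine ⟨?_, ?_⟩
          · rw [hZsc]
            exact hp
          · rw [← Module.support_eq_zeroLocus]
            exact hpx
        exact hy p hpJ (support_quotient_anti hle2 hps)
      · exact hpx (support_quotient_anti hle1 hps)
  obtain ⟨x, hx⟩ := key m le_rfl
  refine ⟨x, ?_⟩
  have hall : Module.support R (M ⧸ Submodule.span R (Set.range x)) = ∅ := by
    rw [Set.eq_empty_iff_forall_notMem]
    intro p
    apply hx p
    have : Z ⟨m, Nat.lt_succ_of_le le_rfl⟩ = Set.univ := hZm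
    rw [this]
    trivial
  rw [Module.support_eq_empty_iff, Submodule.Quotient.subsingleton_iff] at hall
  exact hall

end Groth.Agent.Lead.NisGen
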