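import Mathlib
import Groth.Prelude.Def_W4c5algebraiztannakaNis
import Groth.Agent.Lib.Lead.NisGen1
import Groth.Agent.Lib.Lead.AlgzB1

set_option backward.isDefEq.respectTransparency.types false
set_option autoImplicit false
set_option synthInstance.maxHeartbeats 400000
set_option maxHeartbeats 1000000
set_option linter.style.haveILetI false
set_option linter.unusedSectionVars false

open CategoryTheory CategoryTheory.Limits AlgebraicGeometry

universe u

namespace Groth.Agent.Lead.AlgzA

open Groth.Agent.Lead.AlgzB TensorProduct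

section Nis

variable {U Y : Scheme.{u}}

/-- a Nisnevich cover of bounded length is surjective -/
theorem surjective_of_isNisCoverLen (f : U ⟶ Y) (m : ℕ)
    (hf : W4c5algebraiztannaka.IsNisCoverLen f m) : Function.Surjective f := by
  obtain ⟨Z, hZ0, hZm, hmono, -, hsect⟩ := hf.flag
  intro y
  have key : ∀ k : Fin (m + 1), y ∈ Z k → ∃ k' : Fin m, y ∈ Z k'.succ \ Z k'.castSucc := by
    intro k
    induction k using Fin.induction with
    | zero => intro h; rw [hZ0] at h; exact h.elim
    | succ k ih =>
      intro h
      by_cases h' : y ∈ Z k.castSucc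
      · exact ih h'
      · exact ⟨k, h, h'⟩
  obtain ⟨k', hk'⟩ := key (Fin.last m) (by rw [hZm]; trivial)
  obtain ⟨T, g, s, -, hrange, hs⟩ := hsect k'
  rw [← hrange] at hk'
  obtain ⟨t, ht⟩ := hk'
  refine ⟨s t, ?_⟩
  have : (s ≫ f) t = g t := by rw [hs]
  simpa using this.trans ht

end Nis

section FF

variable {R B : Type u} [CommRing R] [CommRing B]

theorem faithfullyFlat_of_nis (φ : R →+* B) (m : ℕ)
    (h : W4c5algebraiztannaka.IsNisCoverLen (Spec.map (CommRingCat.ofHom φ)) m) :
    φ.FaithfullyFlat := by
  haveI := h.etale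
  have h1 : Flat (Spec.map (CommRingCat.ofHom φ)) := inferInstance
  have h2 : Surjective (Spec.map (CommRingCat.ofHom φ)) :=
    ⟨surjective_of_isNisCoverLen _ m h⟩
  exact (flat_and_surjective_SpecMap_iff (CommRingCat.ofHom φ)).1 ⟨h1, h2⟩

/-- generators descend along a Nisnevich cover of bounded length -/
theorem genBy_of_nis (φ : R →+* B) (m n : ℕ)
    (hnis : W4c5algebraiztannaka.IsNisCoverLen (Spec.map (CommRingCat.ofHom φ)) m)
    (H : ModuleCat.{u} R) [Module.Finite R H]
    (h : GenBy n ((ModuleCat.extendScalars.{u, u, u} φ).obj H)) : GenBy (n * m) H := by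
  classical
  obtain ⟨g, hg⟩ := h
  let ε : (ULift.{u} (Fin n) →₀ B) ≃ₗ[B] (Fin n → B) :=
    (Finsupp.domLCongr Equiv.ulift) ≪≫ₗ (Finsupp.linearEquivFunOnFinite B B (Fin n))
  let g₁ : ModuleCat.of B (ULift.{u} (Fin n) →₀ B) ⟶ (ModuleCat.extendScalars.{u, u, u} φ).obj H :=
    ModuleCat.ofHom (Y := ((ModuleCat.extendScalars.{u, u, u} φ).obj H : ModuleCat.{u} B))
      (g.comp ε.toLinearMap)
  haveI : Epi g₁ := (ModuleCat.epi_iff_surjective g₁).2 (by
    have h1 : Function.Surjective (g.comp ε.toLinearMap) := by
      rw [LinearMap.coe_comp]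
      exact hg.comp ε.surjective
    exact h1)
  haveI : (tilde.functor (CommRingCat.of B)).PreservesEpimorphisms :=
    Functor.preservesEpimorphisms_of_adjunction (tilde.adjunction (R := CommRingCat.of B))
  let φ' : FlatMod.freeMod (Spec (CommRingCat.of B)) n ⟶
      (Scheme.Modules.pullback (Spec.map (CommRingCat.ofHom φ))).obj
        (tilde (R := CommRingCat.of R) H) :=
    (Groth.Agent.Lead.FLF.tildeFreeIso (CommRingCat.of B) n).inv ≫
      (tilde.functor (CommRingCat.of B)).map g₁ ≫
      ((Groth.Agent.Helper1.TildeBC.pullbackTildeIso (CommRingCat.ofHom φ)).app H).inv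
  haveI : Epi φ' := by
    show Epi ((Groth.Agent.Lead.FLF.tildeFreeIso (CommRingCat.of B) n).inv ≫
      (tilde.functor (CommRingCat.of B)).map g₁ ≫
      ((Groth.Agent.Helper1.TildeBC.pullbackTildeIso (CommRingCat.ofHom φ)).app H).inv)
    exact epi_comp' (IsIso.epi_of_iso _)
      (epi_comp' ((tilde.functor (CommRingCat.of B)).map_epi g₁) (IsIso.epi_of_iso _))
  obtain ⟨s, hs⟩ := Groth.Agent.Lead.NisGen.main17867 (CommRingCat.of R) H
    (Spec.map (CommRingCat.ofHom φ)) m n hnis ⟨φ', inferInstance⟩
  refine ⟨Fintype.linearCombination R s, ?_⟩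
  rw [← LinearMap.range_eq_top, Fintype.range_linearCombination]
  exact hs

end FF

section Descent

variable {R B : Type u} [CommRing R] [CommRing B] [Algebra R B] [Module.FaithfullyFlat R B]

theorem finite_of_genBy_bc (H : ModuleCat.{u} R) (n : ℕ)
    (h : GenBy n ((ModuleCat.extendScalars.{u, u, u} (algebraMap R B)).obj H)) :
    Module.Finite R H := by
  obtain ⟨g, hg⟩ := h
  haveI : Module.Finite B (B ⊗[R] H) :=
    Module.Finite.of_surjective
      ((Groth.Agent.Helper8.extScalEquiv (S := B) H).toLinearMap.comp g)
      (by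
        rw [LinearMap.coe_comp]
        exact (Groth.Agent.Helper8.extScalEquiv (S := B) H).surjective.comp hg)
  exact Module.Finite.of_finite_tensorProduct_of_faithfullyFlat B

/-- descent of finite presentation for finite modules whose base change is projective -/
theorem finitePresentation_of_bc (M : Type u) [AddCommGroup M] [Module R M] [Module.Finite R M]
    [Module.Projective B (B ⊗[R] M)] : Module.FinitePresentation R M := by
  obtain ⟨n, f, hf⟩ := Module.Finite.exists_fin' R M
  let fB : (B ⊗[R] (Fin n → R)) →ₗ[B] (B ⊗[R] M) := TensorProduct.AlgebraTensorModule.lTensor B B f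
  have hfB : Function.Surjective fB := by
    have : Function.Surjective (LinearMap.lTensor B f) := LinearMap.lTensor_surjective B hf
    exact this
  haveI : Module.Finite B (B ⊗[R] M) := inferInstance
  haveI : Module.FinitePresentation B (B ⊗[R] M) := Module.finitePresentation_of_projective _ _
  have hker : (LinearMap.ker fB).FG := Module.FinitePresentation.fg_ker fB hfB
  haveI : Module.Finite B (LinearMap.ker fB) := Module.Finite.iff_fg.2 hker
  haveI : Module.Finite B (B ⊗[R] LinearMap.ker f) :=
    Module.Finite.equiv (LinearMap.tensorKerEquiv B B f).symm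
  haveI : Module.Finite R (LinearMap.ker f) :=
    Module.Finite.of_finite_tensorProduct_of_faithfullyFlat B
  exact Module.finitePresentation_of_surjective f hf (Module.Finite.iff_fg.1 inferInstance)

theorem projective_of_bc (H : ModuleCat.{u} R) [Module.Finite R H]
    (h : Projective ((ModuleCat.extendScalars.{u, u, u} (algebraMap R B)).obj H)) :
    Projective H := by
  haveI h1 : Module.Projective B ((ModuleCat.extendScalars.{u, u, u} (algebraMap R B)).obj H) :=
    (IsProjective.iff_projective (R := B)
      (P := ((ModuleCat.extendScalars.{u, u, u} (algebraMap R B)).obj H))).2 h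
  haveI : Module.Projective B (B ⊗[R] H) :=
    Module.Projective.of_equiv (Groth.Agent.Helper8.extScalEquiv (S := B) H)
  haveI : Module.FinitePresentation R H := finitePresentation_of_bc (B := B) H
  haveI : Module.Flat B (B ⊗[R] H) := Module.Flat.of_projective
  haveI : Module.Flat R H := Module.Flat.of_flat_tensorProduct R H B
  haveI : Module.Projective R H := Module.Flat.projective_of_finitePresentation
  exact (IsProjective.iff_projective (R := R) (P := H)).1 inferInstance

end Descent

end Groth.Agent.Lead.AlgzA
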