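import Mathlib
import Groth.Prelude.Def_W4c5algebraiztannakaNis

set_option backward.isDefEq.respectTransparency.types false
set_option autoImplicit false
set_option synthInstance.maxHeartbeats 400000
set_option maxHeartbeats 1000000
set_option linter.style.haveILetI false
set_option linter.unusedSectionVars false

open CategoryTheory CategoryTheory.Limits

universe u

attribute [local instance] HasDerivedCategory.standard

namespace Groth.Agent.Lead.AlgzC

open DerivedCategory

section Lift

variable {C : Type (u+1)} [Category.{u} C] [Abelian C]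

/-- maps in the derived category out of a K-projective complex lift to chain maps -/
theorem exists_Q_map_eq (K L : CochainComplex C ℤ) [K.IsKProjective]
    (f : Q.obj K ⟶ Q.obj L) : ∃ f₀ : K ⟶ L, Q.map f₀ = f := by
  obtain ⟨g, hg⟩ := (CochainComplex.IsKProjective.Qh_map_bijective K
    ((HomotopyCategory.quotient _ _).obj L)).surjective
    ((quotientCompQhIso C).hom.app K ≫ f ≫ (quotientCompQhIso C).inv.app L)
  obtain ⟨f₀, rfl⟩ := (HomotopyCategory.quotient C (ComplexShape.up ℤ)).map_surjective g
  refine ⟨f₀, ?_⟩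
  have h1 := quotientCompQhIso_hom_naturality (C := C) f₀
  rw [hg] at h1
  simp only [Category.assoc, Iso.inv_hom_id_app, Category.comp_id] at h1
  exact ((cancel_epi ((quotientCompQhIso C).hom.app K)).1 h1).symm

end Lift

section BC

variable {R B : Type u} [CommRing R] [CommRing B] (φ : R →+* B)

/-- extension of scalars -/
noncomputable abbrev F : ModuleCat.{u} R ⥤ ModuleCat.{u} B := ModuleCat.extendScalars.{u, u, u} φ

variable [PreservesFiniteLimits (F φ)]

instance : PreservesFiniteColimits (F φ) := by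
  dsimp only [F]
  infer_instance

/-- derived base change -/
noncomputable abbrev Φ : DerivedCategory (ModuleCat.{u} R) ⥤ DerivedCategory (ModuleCat.{u} B) :=
  (F φ).mapDerivedCategory

instance : (F φ).PreservesHomology := {}

theorem nonempty_homology_bc (E : CochainComplex (ModuleCat.{u} R) ℤ) (j : ℤ) :
    Nonempty ((((F φ).mapHomologicalComplex (ComplexShape.up ℤ)).obj E).homology j ≅
      (F φ).obj (E.homology j)) :=
  ⟨(E.sc j).mapHomologyIso (F φ)⟩

theorem nonempty_homology_Φ (K : DerivedCategory (ModuleCat.{u} R)) (j : ℤ) :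
    Nonempty ((homologyFunctor (ModuleCat.{u} B) j).obj ((Φ φ).obj K) ≅
      (F φ).obj ((homologyFunctor (ModuleCat.{u} R) j).obj K)) := by
  let E := Q.objPreimage K
  let e : Q.obj E ≅ K := Q.objObjPreimageIso K
  obtain ⟨i⟩ := nonempty_homology_bc φ E j
  exact ⟨(homologyFunctor (ModuleCat.{u} B) j).mapIso ((Φ φ).mapIso e.symm) ≪≫
    (homologyFunctor (ModuleCat.{u} B) j).mapIso ((F φ).mapDerivedCategoryFactors.app E) ≪≫
    (homologyFunctorFactors (ModuleCat.{u} B) j).app _ ≪≫ i ≪≫
    (F φ).mapIso ((homologyFunctorFactors (ModuleCat.{u} R) j).app E).symm ≪≫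
    (F φ).mapIso ((homologyFunctor (ModuleCat.{u} R) j).mapIso e)⟩

end BC

section Psi

variable {R : Type u} [CommRing R]

/-- a map from a projective module onto the `s`-th cohomology is induced by a map from the
single complex -/
theorem exists_single_map (K : DerivedCategory (ModuleCat.{u} R)) (s : ℤ)
    (Fm : ModuleCat.{u} R) [Projective Fm]
    (g : Fm ⟶ (homologyFunctor (ModuleCat.{u} R) s).obj K) [Epi g] :
    ∃ ψ : (singleFunctor (ModuleCat.{u} R) s).obj Fm ⟶ K,
      Epi ((homologyFunctor (ModuleCat.{u} R) s).map ψ) := by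
  let E := Q.objPreimage K
  let e : Q.obj E ≅ K := Q.objObjPreimageIso K
  let i : (homologyFunctor (ModuleCat.{u} R) s).obj K ≅ E.homology s :=
    (homologyFunctor (ModuleCat.{u} R) s).mapIso e.symm ≪≫
      (homologyFunctorFactors (ModuleCat.{u} R) s).app E
  let g' : Fm ⟶ E.homology s := g ≫ i.hom
  haveI : Epi g' := epi_comp _ _
  let z : Fm ⟶ E.cycles s := Projective.factorThru g' (E.homologyπ s)
  have hz : z ≫ E.homologyπ s = g' := Projective.factorThru_comp _ _
  let S : CochainComplex (ModuleCat.{u} R) ℤ :=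
    (HomologicalComplex.single (ModuleCat.{u} R) (ComplexShape.up ℤ) s).obj Fm
  let ψ₀ : S ⟶ E :=
    HomologicalComplex.mkHomFromSingle (z ≫ E.iCycles s) (by
      intro j hj
      rw [Category.assoc, HomologicalComplex.iCycles_d, comp_zero])
  refine ⟨Q.map ψ₀ ≫ e.hom, ?_⟩
  rw [Functor.map_comp]
  haveI : Epi (HomologicalComplex.homologyMap ψ₀ s) := by
    let θ : Fm ⟶ S.X s := (HomologicalComplex.singleObjXSelf (ComplexShape.up ℤ) s Fm).inv
    have hθ : θ ≫ S.d s (s + 1) = 0 := by
      apply IsZero.eq_of_tgt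
      exact HomologicalComplex.isZero_single_obj_X _ _ _ _ (by omega)
    let lθ : Fm ⟶ S.cycles s := S.liftCycles θ (s + 1) (by simp) hθ
    have h1 : lθ ≫ HomologicalComplex.cyclesMap ψ₀ s = z := by
      rw [← cancel_mono (E.iCycles s), Category.assoc, HomologicalComplex.cyclesMap_i,
        HomologicalComplex.liftCycles_i_assoc]
      show θ ≫ (HomologicalComplex.mkHomFromSingle (z ≫ E.iCycles s) _).f s = _
      rw [HomologicalComplex.mkHomFromSingle_f]
      simp [θ]
    have h2 : (lθ ≫ S.homologyπ s) ≫ HomologicalComplex.homologyMap ψ₀ s = g' := by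
      rw [Category.assoc, HomologicalComplex.homologyπ_naturality, ← Category.assoc, h1, hz]
    haveI h3 : Epi ((lθ ≫ S.homologyπ s) ≫ HomologicalComplex.homologyMap ψ₀ s) := by
      rw [h2]; infer_instance
    exact epi_of_epi (lθ ≫ S.homologyπ s) _
  haveI : Epi ((homologyFunctor (ModuleCat.{u} R) s).map (Q.map ψ₀)) := by
    let aE : (homologyFunctor (ModuleCat.{u} R) s).obj (Q.obj E) ≅ E.homology s :=
      (homologyFunctorFactors (ModuleCat.{u} R) s).app E
    let aS : (homologyFunctor (ModuleCat.{u} R) s).obj (Q.obj S) ≅ S.homology s :=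
      (homologyFunctorFactors (ModuleCat.{u} R) s).app S
    have hnat : (homologyFunctor (ModuleCat.{u} R) s).map (Q.map ψ₀) ≫ aE.hom =
        aS.hom ≫ HomologicalComplex.homologyMap ψ₀ s :=
      (homologyFunctorFactors (ModuleCat.{u} R) s).hom.naturality ψ₀
    have h4 : (homologyFunctor (ModuleCat.{u} R) s).map (Q.map ψ₀) =
        aS.hom ≫ HomologicalComplex.homologyMap ψ₀ s ≫ aE.inv := by
      calc (homologyFunctor (ModuleCat.{u} R) s).map (Q.map ψ₀)
          = ((homologyFunctor (ModuleCat.{u} R) s).map (Q.map ψ₀) ≫ aE.hom) ≫ aE.inv := by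
            rw [Category.assoc, Iso.hom_inv_id, Category.comp_id]
        _ = _ := by rw [hnat, Category.assoc]
    rw [h4]
    exact epi_comp' (IsIso.epi_of_iso aS.hom)
      (epi_comp' this (IsIso.epi_of_iso aE.inv))
  exact epi_comp' this (IsIso.epi_of_iso ((homologyFunctor (ModuleCat.{u} R) s).map e.hom))

open Pretriangulated in
/-- the cone of a map from a complex concentrated in degrees `≤ s`, surjective on `H^s`, to a
complex with no cohomology above `s` has no cohomology in degrees `≥ s` -/
theorem isZero_homology_cone (T : Triangle (DerivedCategory (ModuleCat.{u} R)))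
    (hT : T ∈ distTriang _) (s : ℤ)
    (h₁ : ∀ j, s < j → IsZero ((homologyFunctor (ModuleCat.{u} R) j).obj T.obj₁))
    (h₂ : ∀ j, s < j → IsZero ((homologyFunctor (ModuleCat.{u} R) j).obj T.obj₂))
    (hepi : Epi ((homologyFunctor (ModuleCat.{u} R) s).map T.mor₁)) :
    ∀ j, s ≤ j → IsZero ((homologyFunctor (ModuleCat.{u} R) j).obj T.obj₃) := by
  intro j hj
  have hδ : HomologySequence.δ T j (j + 1) rfl = 0 := (h₁ (j + 1) (by omega)).eq_of_tgt _ _
  haveI hepi₂ : Epi ((homologyFunctor (ModuleCat.{u} R) j).map T.mor₂) :=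
    (HomologySequence.epi_homologyMap_mor₂_iff T hT j (j + 1) rfl).2 hδ
  rcases hj.eq_or_lt with rfl | hlt
  · have h0 : (homologyFunctor (ModuleCat.{u} R) s).map T.mor₂ = 0 :=
      (HomologySequence.epi_homologyMap_mor₁_iff T hT s).1 hepi
    exact IsZero.of_epi_eq_zero _ h0
  · exact IsZero.of_epi ((homologyFunctor (ModuleCat.{u} R) j).map T.mor₂) (h₂ j hlt)

end Psi

end Groth.Agent.Lead.AlgzC
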