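import Mathlib
import Groth.Agent.Lib.Lead.AlgzB1
import Groth.Agent.Lib.Lead.AlgzC1

set_option backward.isDefEq.respectTransparency.types false
set_option autoImplicit false
set_option synthInstance.maxHeartbeats 400000
set_option maxHeartbeats 1000000
set_option linter.style.haveILetI false
set_option linter.unusedSectionVars false

open CategoryTheory CategoryTheory.Limits

universe u

attribute [local instance] HasDerivedCategory.standard

namespace Groth.Agent.Lead.AlgzC

open DerivedCategory Pretriangulated Groth.Agent.Lead.AlgzB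

section Terms

variable {B : Type u} [CommRing B]

theorem isZero_of_biprod {X Y Z : ModuleCat.{u} B} (hX : IsZero X) (hY : IsZero Y)
    (iX : X ⟶ Z) (iY : Y ⟶ Z) (pX : Z ⟶ X) (pY : Z ⟶ Y)
    (hid : pX ≫ iX + pY ≫ iY = 𝟙 Z) : IsZero Z := by
  rw [IsZero.iff_id_eq_zero, ← hid, hX.eq_of_src iX 0, hY.eq_of_src iY 0]
  simp

/-- the single complex on a projective module has projective terms -/
theorem projective_single_X (A : ModuleCat.{u} B) [Projective A] (s j : ℤ) :
    Projective (((HomologicalComplex.single (ModuleCat.{u} B) (ComplexShape.up ℤ) s).obj A).X j) := by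
  by_cases h : j = s
  · subst h
    exact Projective.of_iso (HomologicalComplex.singleObjXSelf (ComplexShape.up ℤ) j A).symm
      inferInstance
  · exact (HomologicalComplex.isZero_single_obj_X (ComplexShape.up ℤ) s A j h).projective

theorem genBy_single_X (A : ModuleCat.{u} B) (n : ℕ) (hA : GenBy n A) (s j : ℤ) :
    GenBy n (((HomologicalComplex.single (ModuleCat.{u} B) (ComplexShape.up ℤ) s).obj A).X j) := by
  by_cases h : j = s
  · subst h
    exact hA.of_iso (HomologicalComplex.singleObjXSelf (ComplexShape.up ℤ) j A).symm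
  · exact GenBy.of_isZero (HomologicalComplex.isZero_single_obj_X (ComplexShape.up ℤ) s A j h)

instance isKProjective_single (A : ModuleCat.{u} B) [Projective A] (s : ℤ) :
    CochainComplex.IsKProjective
      ((HomologicalComplex.single (ModuleCat.{u} B) (ComplexShape.up ℤ) s).obj A) := by
  haveI : ∀ j, Projective
      (((HomologicalComplex.single (ModuleCat.{u} B) (ComplexShape.up ℤ) s).obj A).X j) :=
    fun j => projective_single_X A s j
  exact CochainComplex.isKProjective_of_projective _ s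

theorem cone_biprod {K L : CochainComplex (ModuleCat.{u} B) ℤ} (f : K ⟶ L) (j : ℤ) :
    ∃ (iX : K.X (j + 1) ⟶ (CochainComplex.mappingCone f).X j)
      (iY : L.X j ⟶ (CochainComplex.mappingCone f).X j)
      (pX : (CochainComplex.mappingCone f).X j ⟶ K.X (j + 1))
      (pY : (CochainComplex.mappingCone f).X j ⟶ L.X j), pX ≫ iX + pY ≫ iY = 𝟙 _ :=
  ⟨_, _, _, _, CochainComplex.mappingCone.id_X f j (j + 1) rfl⟩

theorem cocone_biprod {K L : CochainComplex (ModuleCat.{u} B) ℤ} (f : K ⟶ L) (j : ℤ) :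
    ∃ (iX : K.X j ⟶ (CochainComplex.mappingCocone f).X j)
      (iY : L.X (j + -1) ⟶ (CochainComplex.mappingCocone f).X j)
      (pX : (CochainComplex.mappingCocone f).X j ⟶ K.X j)
      (pY : (CochainComplex.mappingCocone f).X j ⟶ L.X (j + -1)), pX ≫ iX + pY ≫ iY = 𝟙 _ :=
  ⟨_, _, _, _, CochainComplex.mappingCocone.id_X f j (j + -1) rfl⟩

end Terms

section Local

variable {R B : Type u} [CommRing R] [CommRing B] (φ : R →+* B)

instance projective_F_obj (Fm : ModuleCat.{u} R) [Projective Fm] : Projective ((F φ).obj Fm) :=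
  (ModuleCat.extendRestrictScalarsAdj.{u, u, u} φ).map_projective _ inferInstance

variable [PreservesFiniteLimits (F φ)]

/-- the local model of the cone -/
theorem exists_local_cone (T : Triangle (DerivedCategory (ModuleCat.{u} R)))
    (hT : T ∈ distTriang _) (s : ℤ) (Fm : ModuleCat.{u} R) [Projective Fm]
    (e₀ : T.obj₁ ≅ (singleFunctor (ModuleCat.{u} R) s).obj Fm)
    (P : CochainComplex (ModuleCat.{u} B) ℤ) (e : (Φ φ).obj T.obj₂ ≅ Q.obj P) :
    ∃ ψ' : (HomologicalComplex.single (ModuleCat.{u} B) (ComplexShape.up ℤ) s).obj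
        ((F φ).obj Fm) ⟶ P,
      Nonempty ((Φ φ).obj T.obj₃ ≅ Q.obj (CochainComplex.mappingCone ψ')) := by
  let SB : CochainComplex (ModuleCat.{u} B) ℤ :=
    (HomologicalComplex.single (ModuleCat.{u} B) (ComplexShape.up ℤ) s).obj ((F φ).obj Fm)
  let e₁ : (Φ φ).obj T.obj₁ ≅ Q.obj SB :=
    (Φ φ).mapIso e₀ ≪≫ ((F φ).mapDerivedCategorySingleFunctor s).app Fm
  obtain ⟨ψ', hψ'⟩ := exists_Q_map_eq SB P (e₁.inv ≫ (Φ φ).map T.mor₁ ≫ e.hom)
  refine ⟨ψ', ?_⟩
  have h1 : (Φ φ).mapTriangle.obj T ∈ distTriang _ := (Φ φ).map_distinguished T hT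
  have h2 : Q.mapTriangle.obj (CochainComplex.mappingCone.triangle ψ') ∈ distTriang _ :=
    mappingCone_triangle_distinguished ψ'
  have comm : ((Φ φ).mapTriangle.obj T).mor₁ ≫ e.hom =
      e₁.hom ≫ (Q.mapTriangle.obj (CochainComplex.mappingCone.triangle ψ')).mor₁ := by
    show (Φ φ).map T.mor₁ ≫ e.hom = e₁.hom ≫ Q.map ψ'
    rw [hψ', Iso.hom_inv_id_assoc]
  exact ⟨Triangle.π₃.mapIso (isoTriangleOfIso₁₂ _ _ h1 h2 e₁ e comm)⟩

end Local

section Global

variable {R : Type u} [CommRing R]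

/-- reconstruct the middle vertex from the third one -/
theorem exists_global_cocone (T : Triangle (DerivedCategory (ModuleCat.{u} R)))
    (hT : T ∈ distTriang _) (s : ℤ) (Fm : ModuleCat.{u} R)
    (e₀ : T.obj₁ ≅ (singleFunctor (ModuleCat.{u} R) s).obj Fm)
    (P' : CochainComplex (ModuleCat.{u} R) ℤ) [P'.IsKProjective] (e' : Q.obj P' ≅ T.obj₃) :
    ∃ δ' : P' ⟶ (HomologicalComplex.single (ModuleCat.{u} R) (ComplexShape.up ℤ) (s - 1)).obj Fm,
      Nonempty (Q.obj (CochainComplex.mappingCocone δ') ≅ T.obj₂) := by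
  let Tc : CochainComplex (ModuleCat.{u} R) ℤ :=
    (HomologicalComplex.single (ModuleCat.{u} R) (ComplexShape.up ℤ) (s - 1)).obj Fm
  let eS : (T.obj₁)⟦(1 : ℤ)⟧ ≅ Q.obj Tc :=
    (shiftFunctor _ (1 : ℤ)).mapIso e₀ ≪≫
      ((DerivedCategory.singleFunctors (ModuleCat.{u} R)).shiftIso 1 (s - 1) s (by omega)).app Fm
  obtain ⟨δ', hδ'⟩ := exists_Q_map_eq P' Tc (e'.hom ≫ T.mor₃ ≫ eS.hom)
  refine ⟨δ', ?_⟩
  have h1 : T.rotate.rotate ∈ distTriang _ := rot_of_distTriang _ (rot_of_distTriang _ hT)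
  have h2 : (Q.mapTriangle.obj (CochainComplex.mappingCocone.triangle δ')).rotate ∈ distTriang _ :=
    rot_of_distTriang _ (mappingCocone_triangle_distinguished δ')
  have comm : T.rotate.rotate.mor₁ ≫ eS.hom =
      e'.symm.hom ≫ (Q.mapTriangle.obj (CochainComplex.mappingCocone.triangle δ')).rotate.mor₁ := by
    show T.mor₃ ≫ eS.hom = e'.inv ≫ Q.map δ'
    rw [hδ', Iso.inv_hom_id_assoc]
  let ρ := isoTriangleOfIso₁₂ _ _ h1 h2 e'.symm eS comm
  let ρ' : T.rotate ≅ Q.mapTriangle.obj (CochainComplex.mappingCocone.triangle δ') :=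
    (rotate _).preimageIso ρ
  exact ⟨(Triangle.π₁.mapIso ρ').symm⟩

end Global

end Groth.Agent.Lead.AlgzC
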