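import Mathlib
import Groth.Agent.Lib.Lead.AlgzA1
import Groth.Agent.Lib.Lead.AlgzB1
import Groth.Agent.Lib.Lead.AlgzC1
import Groth.Agent.Lib.Lead.AlgzC2

set_option backward.isDefEq.respectTransparency.types false
set_option autoImplicit false
set_option synthInstance.maxHeartbeats 400000
set_option maxHeartbeats 1000000
set_option linter.style.haveILetI false
set_option linter.unusedSectionVars false

open CategoryTheory CategoryTheory.Limits AlgebraicGeometry

universe u

attribute [local instance] HasDerivedCategory.standard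

namespace Groth.Agent.Lead.AlgzC

open DerivedCategory Pretriangulated Groth.Agent.Lead.AlgzB Groth.Agent.Lead.AlgzA TensorProduct

/-- a complex with projective terms generated by `M` elements, vanishing outside `[c, t]` -/
structure LocModel {B : Type u} [CommRing B] (P : CochainComplex (ModuleCat.{u} B) ℤ)
    (c t : ℤ) (M : ℕ) : Prop where
  proj : ∀ j, Projective (P.X j)
  gen : ∀ j, GenBy M (P.X j)
  zero_lt : ∀ j, j < c → IsZero (P.X j)
  zero_gt : ∀ j, t < j → IsZero (P.X j)

section Basic

variable {R B : Type u} [CommRing R] [CommRing B] [Algebra R B]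

instance preservesFiniteLimits_F [Module.Flat R B] :
    PreservesFiniteLimits (F (algebraMap R B)) :=
  ModuleCat.preservesFiniteLimits_extendScalars_of_flat (RingHom.flat_algebraMap_iff.2 inferInstance)

theorem isZero_homology_of_isZero_X (P : CochainComplex (ModuleCat.{u} B) ℤ) (j : ℤ)
    (h : IsZero (P.X j)) : IsZero (P.homology j) := by
  have h1 : IsZero (P.opcycles j) := IsZero.of_epi (P.pOpcycles j) h
  exact IsZero.of_mono (P.homologyι j) h1

variable [Module.FaithfullyFlat R B]

theorem isZero_of_isZero_F_obj (X : ModuleCat.{u} R)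
    (h : IsZero ((F (algebraMap R B)).obj X)) : IsZero X := by
  haveI := ModuleCat.subsingleton_of_isZero h
  haveI : Subsingleton (B ⊗[R] X) :=
    (Groth.Agent.Helper8.extScalEquiv (S := B) X).symm.injective.subsingleton
  haveI : Subsingleton X := (Module.FaithfullyFlat.subsingleton_tensorProduct_iff_right R B).1
    inferInstance
  exact ModuleCat.isZero_of_subsingleton X

theorem exactAt_of_iso (K : DerivedCategory (ModuleCat.{u} R))
    (P : CochainComplex (ModuleCat.{u} B) ℤ)
    (e : (Φ (algebraMap R B)).obj K ≅ Q.obj P) (j : ℤ)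
    (h : IsZero ((homologyFunctor (ModuleCat.{u} R) j).obj K)) : P.ExactAt j := by
  rw [HomologicalComplex.exactAt_iff_isZero_homology]
  obtain ⟨i⟩ := nonempty_homology_Φ (algebraMap R B) K j
  have h1 : IsZero ((F (algebraMap R B)).obj ((homologyFunctor (ModuleCat.{u} R) j).obj K)) :=
    (F (algebraMap R B)).map_isZero h
  have h2 : IsZero ((homologyFunctor (ModuleCat.{u} B) j).obj ((Φ (algebraMap R B)).obj K)) :=
    h1.of_iso i
  have h3 : IsZero ((homologyFunctor (ModuleCat.{u} B) j).obj (Q.obj P)) :=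
    h2.of_iso ((homologyFunctor (ModuleCat.{u} B) j).mapIso e.symm)
  exact h3.of_iso ((homologyFunctorFactors (ModuleCat.{u} B) j).app P).symm

/-- the base change of the cohomology of `K` is the cohomology of the local model -/
theorem nonempty_F_homology_iso (K : DerivedCategory (ModuleCat.{u} R))
    (P : CochainComplex (ModuleCat.{u} B) ℤ)
    (e : (Φ (algebraMap R B)).obj K ≅ Q.obj P) (j : ℤ) :
    Nonempty ((F (algebraMap R B)).obj ((homologyFunctor (ModuleCat.{u} R) j).obj K) ≅
      P.homology j) := by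
  obtain ⟨i⟩ := nonempty_homology_Φ (algebraMap R B) K j
  exact ⟨i.symm ≪≫ (homologyFunctor (ModuleCat.{u} B) j).mapIso e ≪≫
    (homologyFunctorFactors (ModuleCat.{u} B) j).app P⟩

theorem isZero_homology_of_model (K : DerivedCategory (ModuleCat.{u} R))
    (P : CochainComplex (ModuleCat.{u} B) ℤ)
    (e : (Φ (algebraMap R B)).obj K ≅ Q.obj P) (j : ℤ) (h : IsZero (P.X j)) :
    IsZero ((homologyFunctor (ModuleCat.{u} R) j).obj K) := by
  obtain ⟨i⟩ := nonempty_F_homology_iso K P e j
  exact isZero_of_isZero_F_obj _ ((isZero_homology_of_isZero_X P j h).of_iso i)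

end Basic

section Main

variable {R B : Type u} [CommRing R] [CommRing B] [Algebra R B] [Module.FaithfullyFlat R B]

theorem genBy_F_free (n : ℕ) :
    GenBy n ((F (algebraMap R B)).obj (ModuleCat.of R (Fin n → R))) := by
  let ε : (Fin n → B) ≃ₗ[B] (F (algebraMap R B)).obj (ModuleCat.of R (Fin n → R)) :=
    (TensorProduct.piScalarRight R B B (Fin n)).symm ≪≫ₗ
      (Groth.Agent.Helper8.extScalEquiv (S := B) (ModuleCat.of R (Fin n → R))).symm
  exact ⟨ε.toLinearMap, ε.surjective⟩

theorem genBy_free (n : ℕ) : GenBy n (ModuleCat.of R (Fin n → R)) :=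
  ⟨LinearMap.id, Function.surjective_id⟩

instance projective_free (n : ℕ) : Projective (ModuleCat.of R (Fin n → R)) :=
  (IsProjective.iff_projective (R := R) (P := (Fin n → R))).1 inferInstance

/-- the base case: cohomology concentrated in one degree -/
theorem base_case (m : ℕ)
    (hnis : W4c5algebraiztannaka.IsNisCoverLen
      (Spec.map (CommRingCat.ofHom (algebraMap R B))) m)
    (K : DerivedCategory (ModuleCat.{u} R)) (c t : ℤ) (M : ℕ)
    (P : CochainComplex (ModuleCat.{u} B) ℤ) (hP : LocModel P c t M)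
    (e : (Φ (algebraMap R B)).obj K ≅ Q.obj P)
    (hK : ∀ j, c < j → IsZero ((homologyFunctor (ModuleCat.{u} R) j).obj K)) :
    ∃ P' : CochainComplex (ModuleCat.{u} R) ℤ, LocModel P' c c (M * m) ∧
      Nonempty (Q.obj P' ≅ K) := by
  have hlow : ∀ j, j < c → IsZero ((homologyFunctor (ModuleCat.{u} R) j).obj K) :=
    fun j hj => isZero_homology_of_model K P e j (hP.zero_lt j hj)
  haveI : K.IsGE c := (isGE_iff K c).2 hlow
  haveI : K.IsLE c := (isLE_iff K c).2 hK
  obtain ⟨Y, ⟨i⟩⟩ := exists_iso_singleFunctor_obj_of_isGE_of_isLE K c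
  let iY : (homologyFunctor (ModuleCat.{u} R) c).obj K ≅ Y :=
    (homologyFunctor (ModuleCat.{u} R) c).mapIso i ≪≫
      (singleFunctorCompHomologyFunctorIso (ModuleCat.{u} R) c).app Y
  obtain ⟨iH⟩ := nonempty_F_homology_iso K P e c
  let iFY : (F (algebraMap R B)).obj Y ≅ P.homology c :=
    (F (algebraMap R B)).mapIso iY.symm ≪≫ iH
  have hex : ∀ j, c < j → P.ExactAt j := fun j hj => exactAt_of_iso K P e j (hK j hj)
  have hproj : Projective (P.homology c) :=
    projective_homology_bottom P t c hP.proj hP.zero_gt (hP.zero_lt _ (by omega)) hex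
  have hgen : GenBy M (P.homology c) :=
    genBy_homology P t c M hP.proj hP.zero_gt hex (hP.gen c)
  have hprojY : Projective ((F (algebraMap R B)).obj Y) := Projective.of_iso iFY.symm hproj
  have hgenY : GenBy M ((F (algebraMap R B)).obj Y) := hgen.of_iso iFY.symm
  haveI : Module.Finite R Y := finite_of_genBy_bc (B := B) Y M hgenY
  have hY1 : GenBy (M * m) Y := genBy_of_nis (algebraMap R B) m M hnis Y hgenY
  haveI hY2 : Projective Y := projective_of_bc (B := B) Y hprojY
  refine ⟨(HomologicalComplex.single (ModuleCat.{u} R) (ComplexShape.up ℤ) c).obj Y, ?_, ⟨i.symm⟩⟩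
  exact
    { proj := fun j => projective_single_X Y c j
      gen := fun j => genBy_single_X Y _ hY1 c j
      zero_lt := fun j hj => HomologicalComplex.isZero_single_obj_X _ _ _ _ (by omega)
      zero_gt := fun j hj => HomologicalComplex.isZero_single_obj_X _ _ _ _ (by omega) }

/-- the inductive step: kill the top cohomology -/
theorem step (m : ℕ)
    (hnis : W4c5algebraiztannaka.IsNisCoverLen
      (Spec.map (CommRingCat.ofHom (algebraMap R B))) m)
    (K : DerivedCategory (ModuleCat.{u} R)) (c t s : ℤ) (hcs : c < s) (hst : s ≤ t) (M : ℕ)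
    (P : CochainComplex (ModuleCat.{u} B) ℤ) (hP : LocModel P c t M)
    (e : (Φ (algebraMap R B)).obj K ≅ Q.obj P)
    (hK : ∀ j, s < j → IsZero ((homologyFunctor (ModuleCat.{u} R) j).obj K)) (G' : ℕ)
    (IH : ∀ (K' : DerivedCategory (ModuleCat.{u} R)) (P'' : CochainComplex (ModuleCat.{u} B) ℤ),
      LocModel P'' c t (M * m + M) → Nonempty ((Φ (algebraMap R B)).obj K' ≅ Q.obj P'') →
      (∀ j, s - 1 < j → IsZero ((homologyFunctor (ModuleCat.{u} R) j).obj K')) →
      ∃ P'g : CochainComplex (ModuleCat.{u} R) ℤ, LocModel P'g c (s - 1) G' ∧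
        Nonempty (Q.obj P'g ≅ K')) :
    ∃ P' : CochainComplex (ModuleCat.{u} R) ℤ, LocModel P' c s (G' + M * m) ∧
      Nonempty (Q.obj P' ≅ K) := by
  have hex : ∀ j, s < j → P.ExactAt j := fun j hj => exactAt_of_iso K P e j (hK j hj)
  -- generators of the top cohomology
  set H := (homologyFunctor (ModuleCat.{u} R) s).obj K with hH
  obtain ⟨iH⟩ := nonempty_F_homology_iso K P e s
  have hgen : GenBy M (P.homology s) :=
    genBy_homology P t s M hP.proj hP.zero_gt hex (hP.gen s)
  have hgenH : GenBy M ((F (algebraMap R B)).obj H) := hgen.of_iso iH.symm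
  haveI : Module.Finite R H := finite_of_genBy_bc (B := B) H M hgenH
  obtain ⟨g, hg⟩ := genBy_of_nis (algebraMap R B) m M hnis H hgenH
  let Fm : ModuleCat.{u} R := ModuleCat.of R (Fin (M * m) → R)
  let g' : Fm ⟶ H := ModuleCat.ofHom (Y := (H : ModuleCat.{u} R)) g
  haveI : Epi g' := (ModuleCat.epi_iff_surjective g').2 hg
  obtain ⟨ψ, hψ⟩ := exists_single_map K s Fm g'
  obtain ⟨K', α, β, hT⟩ := distinguished_cocone_triangle ψ
  have h₁ : ∀ j, s < j → IsZero ((homologyFunctor (ModuleCat.{u} R) j).obj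
      ((singleFunctor (ModuleCat.{u} R) s).obj Fm)) :=
    fun j hj => isZero_of_isLE _ s j hj
  have hK' := isZero_homology_cone (Triangle.mk ψ α β) hT s h₁ hK hψ
  -- local model
  obtain ⟨ψ', ⟨e''⟩⟩ := exists_local_cone (algebraMap R B) (Triangle.mk ψ α β) hT s Fm
    (Iso.refl _) P e
  have hP'' : LocModel (CochainComplex.mappingCone ψ') c t (M * m + M) := by
    refine ⟨fun j => ?_, fun j => ?_, fun j hj => ?_, fun j hj => ?_⟩
    · obtain ⟨iX, iY, pX, pY, hid⟩ := cone_biprod ψ' j
      haveI := projective_single_X ((F (algebraMap R B)).obj Fm) s (j + 1)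
      haveI := hP.proj j
      exact projective_of_biprod iX iY pX pY hid
    · obtain ⟨iX, iY, pX, pY, hid⟩ := cone_biprod ψ' j
      exact GenBy.of_biprod (genBy_single_X _ _ (genBy_F_free (M * m)) s (j + 1)) (hP.gen j)
        iX iY pX pY hid
    · obtain ⟨iX, iY, pX, pY, hid⟩ := cone_biprod ψ' j
      exact isZero_of_biprod
        (HomologicalComplex.isZero_single_obj_X _ _ _ _ (by omega)) (hP.zero_lt j hj)
        iX iY pX pY hid
    · obtain ⟨iX, iY, pX, pY, hid⟩ := cone_biprod ψ' j
      exact isZero_of_biprod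
        (HomologicalComplex.isZero_single_obj_X _ _ _ _ (by omega)) (hP.zero_gt j hj)
        iX iY pX pY hid
  obtain ⟨P'g, hP'g, ⟨e'⟩⟩ := IH K' _ hP'' ⟨e''⟩ (fun j hj => hK' j (by omega))
  -- global reconstruction
  haveI : ∀ j, Projective (P'g.X j) := hP'g.proj
  haveI : P'g.IsStrictlyLE (s - 1) := by
    rw [CochainComplex.isStrictlyLE_iff]
    exact fun j hj => hP'g.zero_gt j hj
  haveI : P'g.IsKProjective := CochainComplex.isKProjective_of_projective P'g (s - 1)
  obtain ⟨δ', ⟨i⟩⟩ := exists_global_cocone (Triangle.mk ψ α β) hT s Fm (Iso.refl _) P'g e'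
  refine ⟨CochainComplex.mappingCocone δ', ?_, ⟨i⟩⟩
  refine ⟨fun j => ?_, fun j => ?_, fun j hj => ?_, fun j hj => ?_⟩
  · obtain ⟨iX, iY, pX, pY, hid⟩ := cocone_biprod δ' j
    haveI := projective_single_X Fm (s - 1) (j + -1)
    exact projective_of_biprod iX iY pX pY hid
  · obtain ⟨iX, iY, pX, pY, hid⟩ := cocone_biprod δ' j
    exact GenBy.of_biprod (hP'g.gen j) (genBy_single_X _ _ (genBy_free (M * m)) (s - 1) (j + -1))
      iX iY pX pY hid
  · obtain ⟨iX, iY, pX, pY, hid⟩ := cocone_biprod δ' j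
    exact isZero_of_biprod (hP'g.zero_lt j hj)
      (HomologicalComplex.isZero_single_obj_X _ _ _ _ (by omega))
      iX iY pX pY hid
  · obtain ⟨iX, iY, pX, pY, hid⟩ := cocone_biprod δ' j
    exact isZero_of_biprod (hP'g.zero_gt j (by omega))
      (HomologicalComplex.isZero_single_obj_X _ _ _ _ (by omega))
      iX iY pX pY hid

end Main

/-- the main induction on the cohomological amplitude -/
theorem main_ind (k : ℕ) : ∀ M m : ℕ, ∃ G : ℕ,
    ∀ (R B : Type u) [CommRing R] [CommRing B] [Algebra R B] [Module.FaithfullyFlat R B],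
      W4c5algebraiztannaka.IsNisCoverLen (Spec.map (CommRingCat.ofHom (algebraMap R B))) m →
      ∀ (K : DerivedCategory (ModuleCat.{u} R)) (c t : ℤ), c + k ≤ t →
      ∀ (P : CochainComplex (ModuleCat.{u} B) ℤ), LocModel P c t M →
      Nonempty ((Φ (algebraMap R B)).obj K ≅ Q.obj P) →
      (∀ j, c + k < j → IsZero ((homologyFunctor (ModuleCat.{u} R) j).obj K)) →
      ∃ P' : CochainComplex (ModuleCat.{u} R) ℤ, LocModel P' c (c + k) G ∧
        Nonempty (Q.obj P' ≅ K) := by
  induction k with
  | zero =>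
    intro M m
    refine ⟨M * m, ?_⟩
    intro R B _ _ _ _ hnis K c t hct P hP ⟨e⟩ hK
    simp only [Nat.cast_zero, add_zero] at hK hct ⊢
    exact base_case m hnis K c t M P hP e hK
  | succ k ih =>
    intro M m
    obtain ⟨G', hG'⟩ := ih (M * m + M) m
    refine ⟨G' + M * m, ?_⟩
    intro R B _ _ _ _ hnis K c t hct P hP ⟨e⟩ hK
    have hs1 : c + ((k + 1 : ℕ) : ℤ) - 1 = c + (k : ℤ) := by push_cast; ring
    refine step m hnis K c t (c + ((k + 1 : ℕ) : ℤ)) (by push_cast; omega) hct M P hP e hK G' ?_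
    intro K' P'' h1 h2 h3
    rw [hs1] at h3 ⊢
    exact hG' R B hnis K' c t (by push_cast at hct; omega) P'' h1 h2 h3

end Groth.Agent.Lead.AlgzC
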