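import Mathlib
import Groth.Prelude.Def_DRing2
import Groth.Prelude.Def_W4c5algebraiztannakaNis
import Groth.Agent.Lib.Lead.AlgzC3

set_option backward.isDefEq.respectTransparency.types false
set_option autoImplicit false
set_option synthInstance.maxHeartbeats 400000
set_option maxHeartbeats 1000000
set_option linter.style.haveILetI false
set_option linter.unusedSectionVars false

open CategoryTheory CategoryTheory.Limits AlgebraicGeometry

universe u

attribute [local instance] HasDerivedCategory.standard

namespace Groth.Agent.Lead.AlgzC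

open DerivedCategory Pretriangulated Groth.Agent.Lead.AlgzB Groth.Agent.Lead.AlgzA TensorProduct

/-- the bound -/
noncomputable def bound (N : ℕ) : ℕ := max N (Classical.choose (main_ind.{u} (2 * N) N N))

theorem main17870 :
    ∃ F : ℕ → ℕ, ∀ (R : Type u) [CommRing R] (E : DRing.Cx R) (a b : ℤ),
      DRing.VanishesOutside E a b → DRing.TermwiseFiniteProjective E →
      ∀ N : ℕ, W4c5algebraiztannaka.LocSize E N →
        W4c5algebraiztannaka.GlobSize R (DRing.toD E) (F N) := by
  refine ⟨bound.{u}, ?_⟩
  intro R _ E a b _ _ N hloc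
  obtain ⟨B, _, φ, hnis, P, hP, ⟨i⟩⟩ := hloc
  letI : Algebra R B := φ.toAlgebra
  have hff : φ.FaithfullyFlat := faithfullyFlat_of_nis φ N hnis
  haveI : Module.FaithfullyFlat R B := hff
  have hG := Classical.choose_spec (main_ind.{u} (2 * N) N N)
  set G := Classical.choose (main_ind.{u} (2 * N) N N) with hGdef
  have hmodel : LocModel P (-(N : ℤ)) N N :=
    { proj := fun j => (IsProjective.iff_projective (R := B) (P := P.X j)).1 (hP.2 j).1
      gen := fun j => (hP.2 j).2
      zero_lt := fun j hj => hP.1 j (Or.inl hj)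
      zero_gt := fun j hj => hP.1 j (Or.inr hj) }
  let K : DerivedCategory (ModuleCat.{u} R) := Q.obj E
  let e : (Φ (algebraMap R B)).obj K ≅ Q.obj P :=
    (F (algebraMap R B)).mapDerivedCategoryFactors.app E ≪≫ i.symm
  have hK : ∀ j, -(N : ℤ) + ((2 * N : ℕ) : ℤ) < j →
      IsZero ((homologyFunctor (ModuleCat.{u} R) j).obj K) := by
    intro j hj
    exact isZero_homology_of_model K P e j (hmodel.zero_gt j (by push_cast at hj; omega))
  obtain ⟨P', hP', ⟨i'⟩⟩ := hG R B hnis K (-(N : ℤ)) N (by push_cast; omega) P hmodel ⟨e⟩ hK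
  have hN : N ≤ bound.{u} N := le_max_left _ _
  have hGb : G ≤ bound.{u} N := le_max_right _ _
  refine ⟨P', ⟨?_, fun j => ⟨?_, ?_⟩⟩, ⟨i'⟩⟩
  · intro j hj
    rcases hj with hj | hj
    · exact hP'.zero_lt j (by omega)
    · exact hP'.zero_gt j (by push_cast; omega)
  · exact (IsProjective.iff_projective (R := R) (P := P'.X j)).2 (hP'.proj j)
  · exact (hP'.gen j).mono hGb

end Groth.Agent.Lead.AlgzC
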