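import Mathlib

set_option autoImplicit false
set_option linter.style.haveILetI false
set_option linter.unusedSectionVars false

namespace Groth.Agent.Lib.Lead.EtDense1

open TensorProduct

universe u

section Ring

variable {A B A' B' : Type u} [CommRing A] [CommRing B] [CommRing A'] [CommRing B']

/-- algebra form -/
theorem etale_of_tower [Algebra A B] [Algebra A A'] [Algebra B B'] [Algebra A' B'] [Algebra A B']
    [IsScalarTower A B B'] [IsScalarTower A A' B'] [Algebra.IsStandardSmooth A B]
    [Algebra.FormallyEtale B B'] [Algebra.FormallyUnramified A A']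
    [Algebra.FormallyUnramified A' B'] [Nontrivial B'] : Algebra.Etale A B := by
  haveI : Algebra.FormallyUnramified A B' := Algebra.FormallyUnramified.comp A A' B'
  have e := KaehlerDifferential.tensorKaehlerEquivOfFormallyEtale A B B'
  haveI : Subsingleton (B' ⊗[B] Ω[B⁄A]) := e.toEquiv.subsingleton
  haveI : Module.Free B Ω[B⁄A] := inferInstance
  have hsub : Subsingleton Ω[B⁄A] := by
    let b := Module.Free.chooseBasis B Ω[B⁄A]
    let b' := Algebra.TensorProduct.basis B' b
    by_contra hne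
    rw [not_subsingleton_iff_nontrivial] at hne
    haveI := hne
    haveI : Nonempty (Module.Free.ChooseBasisIndex B Ω[B⁄A]) := by
      by_contra hemp
      rw [not_nonempty_iff] at hemp
      haveI := hemp
      exact not_subsingleton Ω[B⁄A] (b.repr.toEquiv.subsingleton)
    obtain ⟨i⟩ := this
    have h1 : b' i = 0 := Subsingleton.elim _ _
    exact b'.ne_zero i h1
  haveI : Algebra.FormallyUnramified A B := ⟨hsub⟩
  haveI : Algebra.Smooth A B := inferInstance
  exact ⟨Algebra.FormallyEtale.of_formallyUnramified_and_formallySmooth, inferInstance⟩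

/-- ring hom form -/
theorem etale_of_square (φ : A →+* B) (ρA : A →+* A') (ρB : B →+* B') (φ' : A' →+* B')
    (hcomm : φ'.comp ρA = ρB.comp φ) (hφ : φ.IsStandardSmooth) (hρA : ρA.Etale) (hρB : ρB.Etale)
    (hφ' : φ'.Etale) [Nontrivial B'] : φ.Etale := by
  letI := φ.toAlgebra
  letI := ρA.toAlgebra
  letI := ρB.toAlgebra
  letI := φ'.toAlgebra
  letI : Algebra A B' := (ρB.comp φ).toAlgebra
  haveI : IsScalarTower A B B' := IsScalarTower.of_algebraMap_eq fun _ => rfl
  haveI : IsScalarTower A A' B' := IsScalarTower.of_algebraMap_eq fun x => by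
    change (ρB.comp φ) x = (φ'.comp ρA) x
    rw [hcomm]
  haveI : Algebra.IsStandardSmooth A B := hφ
  haveI : Algebra.Etale B B' := hρB
  haveI : Algebra.Etale A A' := hρA
  haveI : Algebra.Etale A' B' := hφ'
  have : Algebra.Etale A B := etale_of_tower (A := A) (B := B) (A' := A') (B' := B')
  exact this

end Ring

section Sch

open AlgebraicGeometry CategoryTheory Limits

theorem etale_restrict_map {X : Scheme.{u}} {U V : X.Opens} (hU : IsAffineOpen U)
    (hV : IsAffineOpen V) (h : V ≤ U) : (X.presheaf.map (homOfLE h).op).hom.Etale := by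
  have h1 : Spec.map (X.presheaf.map (homOfLE h).op) ≫ hU.fromSpec = hV.fromSpec :=
    hU.map_fromSpec hV (homOfLE h).op
  haveI : IsOpenImmersion (Spec.map (X.presheaf.map (homOfLE h).op)) := by
    haveI : IsOpenImmersion (Spec.map (X.presheaf.map (homOfLE h).op) ≫ hU.fromSpec) := by
      rw [h1]; infer_instance
    exact IsOpenImmersion.of_comp _ hU.fromSpec
  have : Etale (Spec.map (X.presheaf.map (homOfLE h).op)) := inferInstance
  exact (HasRingHomProperty.Spec_iff (P := @Etale)).1 this

theorem etale_appLE_of_etale_comp {N S : Scheme.{u}} (f : N ⟶ S) {V' : S.Opens} {W : N.Opens}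
    (hV' : IsAffineOpen V') (hW : IsAffineOpen W) (e : W ≤ f ⁻¹ᵁ V')
    (h : Etale (hW.fromSpec ≫ f)) : (f.appLE V' W e).hom.Etale := by
  have h1 := IsAffineOpen.SpecMap_appLE_fromSpec f hV' hW e
  haveI : Etale (Spec.map (f.appLE V' W e) ≫ hV'.fromSpec) := by rw [h1]; exact h
  have : Etale (Spec.map (f.appLE V' W e)) :=
    MorphismProperty.of_postcomp (W := @Etale) (W' := @Etale) _ hV'.fromSpec inferInstance
      inferInstance
  exact (HasRingHomProperty.Spec_iff (P := @Etale)).1 this

theorem etale_sucwlas :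
    RingHom.StableUnderCompositionWithLocalizationAwaySource RingHom.Etale := by
  intro R S T _ _ _ _ r _ f hf
  refine RingHom.Etale.stableUnderComposition _ _ ?_ hf
  change (algebraMap R S).Etale
  rw [RingHom.etale_algebraMap]
  exact Algebra.Etale.of_isLocalizationAway r

theorem etale_of_dense {N S : Scheme.{u}} (f : N ⟶ S) [Smooth f] (S₀ : S.Opens)
    (hd : Dense (S₀ : Set S))
    (het : ∀ {Z : Scheme.{u}} (j : Z ⟶ N) [IsOpenImmersion j], j.opensRange ≤ f ⁻¹ᵁ S₀ →
      Etale (j ≫ f)) : Etale f := by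
  rw [HasRingHomProperty.iff_exists_appLE (P := @Etale) (Q := RingHom.Etale) etale_sucwlas]
  intro x
  obtain ⟨V, hV, U, hU, hxU, e, hstd⟩ := Smooth.exists_isStandardSmooth f x
  refine ⟨⟨V, hV⟩, ⟨U, hU⟩, hxU, e, ?_⟩
  have hopen : IsOpen (f.base '' (U : Set N)) := f.isOpenMap _ U.isOpen
  have hne : (f.base '' (U : Set N)).Nonempty := ⟨_, x, hxU, rfl⟩
  obtain ⟨s, hs1, hs0⟩ := hd.inter_open_nonempty _ hopen hne
  obtain ⟨y, hyU, rfl⟩ := hs1
  have hyV : f.base y ∈ V := e hyU
  obtain ⟨_, ⟨V', hV', rfl⟩, hyV', hV'le⟩ := S.isBasis_affineOpens.exists_subset_of_mem_open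
    (show f.base y ∈ ((V ⊓ S₀ : S.Opens) : Set S) from ⟨hyV, hs0⟩) (V ⊓ S₀).isOpen
  obtain ⟨_, ⟨W, hW, rfl⟩, hyW, hWle⟩ := N.isBasis_affineOpens.exists_subset_of_mem_open
    (show y ∈ ((U ⊓ f ⁻¹ᵁ V' : N.Opens) : Set N) from ⟨hyU, hyV'⟩) (U ⊓ f ⁻¹ᵁ V').isOpen
  have hV'V : V' ≤ V := fun a ha => (hV'le ha).1
  have hV'S : V' ≤ S₀ := fun a ha => (hV'le ha).2
  have hWU : W ≤ U := fun a ha => (hWle ha).1
  have eW : W ≤ f ⁻¹ᵁ V' := fun a ha => (hWle ha).2
  haveI : Nonempty W := ⟨⟨y, hyW⟩⟩
  haveI : Nontrivial Γ(N, W) := inferInstance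
  refine etale_of_square (f.appLE V U e).hom (S.presheaf.map (homOfLE hV'V).op).hom
    (N.presheaf.map (homOfLE hWU).op).hom (f.appLE V' W eW).hom ?_ hstd
    (etale_restrict_map hV hV' hV'V) (etale_restrict_map hU hW hWU) ?_
  · rw [← CommRingCat.hom_comp, ← CommRingCat.hom_comp, Scheme.Hom.appLE_map,
      Scheme.Hom.map_appLE]
  · apply etale_appLE_of_etale_comp f hV' hW eW
    haveI := hW.isOpenImmersion_fromSpec
    apply het
    rw [hW.opensRange_fromSpec]
    exact eW.trans (f.preimage_mono hV'S)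

end Sch

section Main

open AlgebraicGeometry CategoryTheory Limits

theorem dense_of_inj {S : Scheme.{u}} (S₀ : S.Opens)
    (h : ∀ V : S.Opens, Function.Injective (S.presheaf.map (homOfLE (inf_le_left : V ⊓ S₀ ≤ V)).op)) :
    Dense (S₀ : Set S) := by
  rw [dense_iff_inter_open]
  intro U hU hne
  by_contra hemp
  rw [Set.not_nonempty_iff_eq_empty] at hemp
  let V : S.Opens := ⟨U, hU⟩
  have hbot : V ⊓ S₀ = ⊥ := by
    ext a
    constructor
    · intro ha
      have : a ∈ U ∩ (S₀ : Set S) := ha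
      rw [hemp] at this
      exact this.elim
    · intro ha
      exact ha.elim
  obtain ⟨a, ha⟩ := hne
  haveI : Nonempty V := ⟨⟨a, ha⟩⟩
  haveI : Nontrivial Γ(S, V) := inferInstance
  haveI : Subsingleton Γ(S, V ⊓ S₀) := by
    rw [hbot]
    infer_instance
  exact not_subsingleton Γ(S, V) ((h V).subsingleton)

theorem std_of_inj {S : Scheme.{u}} (S₀ : S.Opens) [QuasiCompact S₀.ι]
    (h : ∀ V : S.Opens, Function.Injective (S.presheaf.map (homOfLE (inf_le_left : V ⊓ S₀ ≤ V)).op)) :
    IsSchemeTheoreticallyDominant S₀.ι := by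
  have h' : ∀ (V W : S.Opens) (hle : W ≤ V), W = V ⊓ S₀ →
      Function.Injective (S.presheaf.map (homOfLE hle).op) := by
    rintro V W hle rfl
    exact h V
  rw [isSchemeTheoreticallyDominant_iff]
  refine Scheme.IdealSheafData.ext ?_
  funext U
  rw [Scheme.Hom.ker_apply, Scheme.IdealSheafData.ideal_bot, Pi.bot_apply,
    ← RingHom.injective_iff_ker_eq_bot, Scheme.Opens.ι_app]
  apply h'
  ext a
  simp only [Scheme.Hom.coe_image, Scheme.Hom.coe_preimage, TopologicalSpace.Opens.coe_inf]
  constructor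
  · rintro ⟨b, hb, rfl⟩
    exact ⟨hb, b.2⟩
  · rintro ⟨ha, ha0⟩
    exact ⟨⟨a, ha0⟩, ha, rfl⟩

theorem ext_of_std {X Y Z W : Scheme.{u}} {a b : X ⟶ Y} (s : Y ⟶ Z) [IsSeparated s]
    (h : a ≫ s = b ≫ s) (ι : W ⟶ X) [IsSchemeTheoreticallyDominant ι] (hι : ι ≫ a = ι ≫ b) :
    a = b := by
  let X' : Over Z := Over.mk (a ≫ s)
  let Y' : Over Z := Over.mk s
  let U' : Over Z := Over.mk (ι ≫ a ≫ s)
  let f' : X' ⟶ Y' := Over.homMk a
  let g' : X' ⟶ Y' := Over.homMk b (show b ≫ s = a ≫ s from h.symm)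
  let ι' : U' ⟶ X' := Over.homMk ι
  haveI : IsSeparated Y'.hom := ‹_›
  have hcond : ι' ≫ f' = ι' ≫ g' := by
    ext1
    exact hι
  have hl : (equalizer.lift ι' hcond).left ≫ (equalizer.ι f' g').left = ι := by
    rw [← Over.comp_left, equalizer.lift_ι]
    rfl
  have hker : (equalizer.ι f' g').left.ker = ⊥ := by
    have h1 := Scheme.Hom.le_ker_comp (equalizer.lift ι' hcond).left (equalizer.ι f' g').left
    rw [hl, ι.ker_eq_bot] at h1
    exact le_bot_iff.1 h1
  haveI : IsIso (equalizer.ι f' g').left := IsClosedImmersion.isIso_iff_ker_eq_bot.2 hker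
  rw [← cancel_epi (equalizer.ι f' g').left]
  exact congr($(equalizer.condition f' g').left)

end Main

section Main2

open AlgebraicGeometry CategoryTheory Limits

theorem etale_of_etale_restrict {S : Scheme.{u}} (S₀ : S.Opens) (hd : Dense (S₀ : Set S))
    {N : Scheme.{u}} (f : N ⟶ S) [Smooth f] [Etale (pullback.snd f S₀.ι)] : Etale f := by
  apply etale_of_dense f S₀ hd
  intro Z j _ hj
  have hr : (pullback.fst f S₀.ι).opensRange = f ⁻¹ᵁ S₀ := by
    rw [Scheme.Hom.opensRange_pullbackFst, Scheme.Opens.opensRange_ι]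
  have hle : Set.range j.base ⊆ Set.range (pullback.fst f S₀.ι).base := by
    intro a ha
    have h1 : a ∈ j.opensRange := ha
    have h2 := hj h1
    rw [← hr] at h2
    exact h2
  let l := IsOpenImmersion.lift (pullback.fst f S₀.ι) j hle
  have hl : l ≫ pullback.fst f S₀.ι = j := IsOpenImmersion.lift_fac _ _ _
  haveI : IsOpenImmersion l := by
    haveI : IsOpenImmersion (l ≫ pullback.fst f S₀.ι) := by rw [hl]; infer_instance
    exact IsOpenImmersion.of_comp l (pullback.fst f S₀.ι)
  have : j ≫ f = l ≫ pullback.snd f S₀.ι ≫ S₀.ι := by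
    rw [← hl, Category.assoc, pullback.condition]
  rw [this]
  infer_instance

theorem isOpenImmersion_main {S : Scheme.{u}} [IsLocallyNoetherian S] (S₀ : S.Opens)
    (hS₀ : ∀ V : S.Opens,
      Function.Injective (S.presheaf.map (homOfLE (inf_le_left : V ⊓ S₀ ≤ V)).op))
    (N : Over S) [Smooth N.hom] [Etale ((Over.pullback S₀.ι).obj N).hom]
    (M : Over S) [Etale M.hom] [IsSeparated M.hom]
    (φ : M ⟶ N) [IsIso ((Over.pullback S₀.ι).map φ)] : IsOpenImmersion φ.left := by
  have hd := dense_of_inj S₀ hS₀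
  haveI : IsSchemeTheoreticallyDominant S₀.ι := std_of_inj S₀ hS₀
  haveI : Etale (pullback.snd N.hom S₀.ι) := ‹Etale ((Over.pullback S₀.ι).obj N).hom›
  haveI : Etale N.hom := etale_of_etale_restrict S₀ hd N.hom
  haveI : Etale φ.left := by
    apply MorphismProperty.of_postcomp (W := @Etale) (W' := @Etale) φ.left N.hom inferInstance
    rw [Over.w φ]
    infer_instance
  -- monomorphism
  have hp : pullback.fst φ.left φ.left = pullback.snd φ.left φ.left := by
    have hg : pullback.fst φ.left φ.left ≫ M.hom = pullback.snd φ.left φ.left ≫ M.hom := by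
      rw [← Over.w φ, ← Category.assoc, ← Category.assoc, pullback.condition]
    let g := pullback.fst φ.left φ.left ≫ M.hom
    apply ext_of_std M.hom hg (pullback.snd S₀.ι g)
    -- equality over S₀
    let q := pullback.fst S₀.ι g
    have hq : pullback.snd S₀.ι g ≫ g = q ≫ S₀.ι := pullback.condition.symm
    have hq2 : (pullback.snd S₀.ι g ≫ pullback.snd φ.left φ.left) ≫ M.hom = q ≫ S₀.ι := by
      rw [Category.assoc, ← hg]; exact hq
    have hq1 : (pullback.snd S₀.ι g ≫ pullback.fst φ.left φ.left) ≫ M.hom = q ≫ S₀.ι := by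
      rw [Category.assoc]; exact hq
    let c₁ : pullback S₀.ι g ⟶ pullback M.hom S₀.ι :=
      pullback.lift (pullback.snd S₀.ι g ≫ pullback.fst φ.left φ.left) q hq1
    let c₂ : pullback S₀.ι g ⟶ pullback M.hom S₀.ι :=
      pullback.lift (pullback.snd S₀.ι g ≫ pullback.snd φ.left φ.left) q hq2
    have hfst : ((Over.pullback S₀.ι).map φ).left ≫ pullback.fst N.hom S₀.ι =
        pullback.fst M.hom S₀.ι ≫ φ.left := by
      simp only [Over.pullback]
      exact pullback.lift_fst _ _ _
    have hsnd : ((Over.pullback S₀.ι).map φ).left ≫ pullback.snd N.hom S₀.ι =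
        pullback.snd M.hom S₀.ι := by
      simp only [Over.pullback]
      exact pullback.lift_snd _ _ _
    have hc : c₁ ≫ ((Over.pullback S₀.ι).map φ).left = c₂ ≫ ((Over.pullback S₀.ι).map φ).left := by
      apply pullback.hom_ext
      · rw [Category.assoc, Category.assoc, hfst, ← Category.assoc, ← Category.assoc,
          pullback.lift_fst, pullback.lift_fst, Category.assoc, Category.assoc, pullback.condition]
      · rw [Category.assoc, Category.assoc, hsnd, pullback.lift_snd, pullback.lift_snd]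
    haveI : IsIso ((Over.pullback S₀.ι).map φ).left :=
      inferInstanceAs (IsIso ((Over.forget _).map ((Over.pullback S₀.ι).map φ)))
    have hc' : c₁ = c₂ := (cancel_mono _).1 hc
    have e1 : c₁ ≫ pullback.fst M.hom S₀.ι = pullback.snd S₀.ι g ≫ pullback.fst φ.left φ.left :=
      pullback.lift_fst _ _ _
    have e2 : c₂ ≫ pullback.fst M.hom S₀.ι = pullback.snd S₀.ι g ≫ pullback.snd φ.left φ.left :=
      pullback.lift_fst _ _ _
    rw [← e1, ← e2, hc']
  haveI : Mono φ.left := by
    constructor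
    intro T a b hab
    have h1 : pullback.lift a b hab ≫ pullback.fst φ.left φ.left = a := pullback.lift_fst _ _ _
    have h2 : pullback.lift a b hab ≫ pullback.snd φ.left φ.left = b := pullback.lift_snd _ _ _
    calc a = pullback.lift a b hab ≫ pullback.fst φ.left φ.left := h1.symm
      _ = pullback.lift a b hab ≫ pullback.snd φ.left φ.left := by rw [hp]
      _ = b := h2
  exact IsOpenImmersion.of_flat_of_mono φ.left

end Main2

end Groth.Agent.Lib.Lead.EtDense1
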