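import Mathlib
import Groth.Prelude
import Groth.Agent.Lib.Helper3.SchDominant
import Groth.Agent.Lib.Helper6.GrpSchSep
import Groth.Agent.Lib.Lead.EtDense1

set_option autoImplicit false
set_option backward.isDefEq.respectTransparency.types false
set_option synthInstance.maxHeartbeats 400000
set_option linter.style.haveILetI false
set_option linter.unusedSectionVars false

universe u

open CategoryTheory CategoryTheory.Limits AlgebraicGeometry MonoidalCategory
  CartesianMonoidalCategory MonObj GrpObj

namespace Groth.Agent.Lead.AlignSep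

theorem main {S : Scheme.{u}} [IsLocallyNoetherian S] (S₀ : S.Opens)
    (G : Over S)
    (hG : ∀ U : Over S, Etale U.hom →
      Function.Injective (fun g : U ⟶ G => (Over.pullback S₀.ι).map g))
    (H : Over S) [GrpObj H] (j : H ⟶ G) [Mono j.left]
    (hal : Etale (η[H].left.ker.subschemeι ≫ H.hom))
    (h0 : IsSeparated (Limits.pullback.snd H.hom S₀.ι)) :
    IsSeparated H.hom := by
  let e : S ⟶ H.left := η[H].left
  have he : e ≫ H.hom = 𝟙 S := by
    exact Over.w η[H]
  let jE : e.ker.subscheme ⟶ H.left := e.ker.subschemeι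
  let π : e.ker.subscheme ⟶ S := jE ≫ H.hom
  haveI : Etale π := hal
  let s : S ⟶ e.ker.subscheme := e.toImage
  have hsj : s ≫ jE = e := e.toImage_imageι
  have hsπ : s ≫ π = 𝟙 S := by rw [← Category.assoc, hsj, he]
  haveI : Etale (s ≫ π) := hsπ ▸ inferInstance
  haveI : Etale s := Etale.of_comp s π
  haveI : Mono s := mono_of_mono_fac hsπ
  haveI : IsOpenImmersion s := IsOpenImmersion.of_flat_of_mono s
  haveI : IsLocallyNoetherian e.ker.subscheme := LocallyOfFiniteType.isLocallyNoetherian π
  haveI : QuasiCompact s := inferInstance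
  haveI : QuasiCompact e := by rw [← hsj]; infer_instance
  haveI : IsSchemeTheoreticallyDominant s := ⟨Groth.Agent.Helper3.ker_toImage_eq_bot e⟩
  -- key: the closure is the image
  have key : jE = π ≫ e := by
    let U : Over S := Over.mk π
    let a : U ⟶ G := Over.homMk (jE ≫ j.left) (by
      change (jE ≫ j.left) ≫ G.hom = π
      rw [Category.assoc, Over.w j])
    let b : U ⟶ G := Over.homMk (π ≫ e ≫ j.left) (by
      change (π ≫ e ≫ j.left) ≫ G.hom = π
      simp only [Category.assoc]
      rw [Over.w j, he, Category.comp_id])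
    have hab : a = b := by
      apply hG U ‹Etale π›
      change (Over.pullback S₀.ι).map a = (Over.pullback S₀.ι).map b
      -- restriction to S₀
      let p₁ := pullback.fst π S₀.ι
      let p₂ := pullback.snd π S₀.ι
      have hp : p₁ ≫ π = p₂ ≫ S₀.ι := pullback.condition
      have h1 : (p₁ ≫ jE) ≫ H.hom = p₂ ≫ S₀.ι := by rw [Category.assoc]; exact hp
      have h2 : (p₁ ≫ π ≫ e) ≫ H.hom = p₂ ≫ S₀.ι := by
        rw [Category.assoc, Category.assoc, he, Category.comp_id]; exact hp
      let c₁ : pullback π S₀.ι ⟶ pullback H.hom S₀.ι := pullback.lift (p₁ ≫ jE) p₂ h1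
      let c₂ : pullback π S₀.ι ⟶ pullback H.hom S₀.ι := pullback.lift (p₁ ≫ π ≫ e) p₂ h2
      have hc : c₁ = c₂ := by
        haveI := h0
        haveI : Flat p₁ := inferInstanceAs (Flat (pullback.fst π S₀.ι))
        haveI : IsSchemeTheoreticallyDominant (pullback.fst p₁ s) := inferInstance
        refine Groth.Agent.Lib.Lead.EtDense1.ext_of_std (pullback.snd H.hom S₀.ι) ?_
          (pullback.fst p₁ s) ?_
        · rw [pullback.lift_snd, pullback.lift_snd]
        · apply pullback.hom_ext
          · rw [Category.assoc, Category.assoc, pullback.lift_fst, pullback.lift_fst,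
              ← Category.assoc, ← Category.assoc, pullback.condition, Category.assoc,
              Category.assoc, hsj, ← Category.assoc s, hsπ, Category.id_comp]
          · rw [Category.assoc, Category.assoc, pullback.lift_snd, pullback.lift_snd]
      have hfst : p₁ ≫ jE = p₁ ≫ π ≫ e := by
        have e1 : c₁ ≫ pullback.fst H.hom S₀.ι = p₁ ≫ jE := pullback.lift_fst _ _ _
        have e2 : c₂ ≫ pullback.fst H.hom S₀.ι = p₁ ≫ π ≫ e := pullback.lift_fst _ _ _
        rw [← e1, ← e2, hc]
      have hfa : ((Over.pullback S₀.ι).map a).left ≫ pullback.fst G.hom S₀.ι =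
          pullback.fst U.hom S₀.ι ≫ a.left := by
        simp only [Over.pullback]
        exact pullback.lift_fst _ _ _
      have hsa : ((Over.pullback S₀.ι).map a).left ≫ pullback.snd G.hom S₀.ι =
          pullback.snd U.hom S₀.ι := by
        simp only [Over.pullback]
        exact pullback.lift_snd _ _ _
      have hfb : ((Over.pullback S₀.ι).map b).left ≫ pullback.fst G.hom S₀.ι =
          pullback.fst U.hom S₀.ι ≫ b.left := by
        simp only [Over.pullback]
        exact pullback.lift_fst _ _ _
      have hsb : ((Over.pullback S₀.ι).map b).left ≫ pullback.snd G.hom S₀.ι =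
          pullback.snd U.hom S₀.ι := by
        simp only [Over.pullback]
        exact pullback.lift_snd _ _ _
      apply Over.OverMorphism.ext
      apply pullback.hom_ext
      · rw [hfa, hfb]
        change p₁ ≫ jE ≫ j.left = p₁ ≫ π ≫ e ≫ j.left
        rw [← Category.assoc, hfst, Category.assoc, Category.assoc]
      · rw [hsa, hsb]
    have h3 : jE ≫ j.left = (π ≫ e) ≫ j.left := by
      have := congrArg (fun (g : U ⟶ G) => g.left) hab
      simpa [a, b] using this
    exact (cancel_mono j.left).1 h3
  have hπs : π ≫ s = 𝟙 _ := by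
    rw [← cancel_mono jE, Category.assoc, hsj, ← key, Category.id_comp]
  haveI : IsIso s := ⟨π, hsπ, hπs⟩
  have hcl : IsClosedImmersion η[H].left := by
    change IsClosedImmersion e
    rw [← hsj]
    infer_instance
  exact Groth.Agent.Helper6.GrpSchSep.isSeparated_of_isClosedImmersion_unit H hcl

end Groth.Agent.Lead.AlignSep
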