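import Mathlib
import Groth.Prelude.Def_AlphaP

set_option autoImplicit false

universe u

namespace Groth.Agent.Lead.AlphaPL

open TensorProduct

variable (p : ℕ) [hp : Fact p.Prime] (R : Type u) [CommRing R] [CharP R p]

include hp in
theorem nontrivial_of_charP : Nontrivial R :=
  CharP.nontrivial_of_char_ne_one (R := R) (v := p) hp.out.ne_one

/-- the comultiplication of a power of `x` -/
theorem comul_x_pow (k : ℕ) :
    Coalgebra.comul (R := R) (AlphaP.x p R ^ k) =
      ∑ i ∈ Finset.range (k + 1), ((k.choose i : ℕ) : R) • (((AlphaP.x p R) ^ i) ⊗ₜ[R] ((AlphaP.x p R) ^ (k - i))) := by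
  have h1 : Coalgebra.comul (R := R) (AlphaP.x p R ^ k) =
      (Coalgebra.comul (R := R) (AlphaP.x p R)) ^ k := by
    rw [← Bialgebra.comulAlgHom_apply, map_pow]
    rfl
  rw [h1, AlphaP.comul_x, add_pow]
  apply Finset.sum_congr rfl
  intro i _
  rw [Algebra.TensorProduct.tmul_pow, Algebra.TensorProduct.tmul_pow, one_pow, one_pow,
    Algebra.TensorProduct.tmul_mul_tmul, mul_one, one_mul, mul_comm, ← nsmul_eq_mul,
    Nat.cast_smul_eq_nsmul]

omit hp [CharP R p] in
theorem x_pow_eq_basis [Nontrivial R] (k : ℕ) (hk : k < p) :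
    AlphaP.x p R ^ k = AlphaP.basis p R ⟨k, hk⟩ := by
  rw [AlphaP.basis_apply]

omit hp [CharP R p] in
theorem coord_x_pow [Nontrivial R] (i : Fin p) (k : ℕ) (hk : k < p) :
    (AlphaP.basis p R).coord i (AlphaP.x p R ^ k) = if k = i then 1 else 0 := by
  rw [x_pow_eq_basis p R k hk, Module.Basis.coord_apply, Module.Basis.repr_self, Finsupp.single_apply]
  by_cases h : k = (i : ℕ)
  · rw [if_pos h, if_pos (Fin.ext h)]
  · rw [if_neg h, if_neg (fun h' => h (congrArg Fin.val h'))]

/-- the coordinate functional on the tensor square -/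
noncomputable def T [Nontrivial R] (a b : Fin p) : AlphaP.A p R ⊗[R] AlphaP.A p R →ₗ[R] R :=
  LinearMap.mul' R R ∘ₗ TensorProduct.map ((AlphaP.basis p R).coord a) ((AlphaP.basis p R).coord b)

omit hp [CharP R p] in
theorem T_tmul [Nontrivial R] (a b : Fin p) (u v : AlphaP.A p R) :
    T p R a b (u ⊗ₜ[R] v) = (AlphaP.basis p R).coord a u * (AlphaP.basis p R).coord b v := by
  simp [T]

theorem T_comul_x_pow [Nontrivial R] (a b : Fin p) (k : ℕ) (hk : k < p) :
    T p R a b (Coalgebra.comul (R := R) (AlphaP.x p R ^ k)) =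
      if (a : ℕ) + (b : ℕ) = k then ((k.choose a : ℕ) : R) else 0 := by
  rw [comul_x_pow, map_sum]
  have hterm : ∀ i ∈ Finset.range (k + 1),
      T p R a b (((k.choose i : ℕ) : R) • (((AlphaP.x p R) ^ i) ⊗ₜ[R] ((AlphaP.x p R) ^ (k - i)))) =
        if i = (a : ℕ) ∧ k - i = (b : ℕ) then ((k.choose i : ℕ) : R) else 0 := by
    intro i hi
    rw [Finset.mem_range] at hi
    rw [map_smul, T_tmul, coord_x_pow p R a i (by omega), coord_x_pow p R b (k - i) (by omega), smul_eq_mul]
    by_cases h1 : i = (a : ℕ) <;> by_cases h2 : k - i = (b : ℕ) <;> simp [h1, h2]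
  rw [Finset.sum_congr rfl hterm]
  by_cases hab : (a : ℕ) + (b : ℕ) = k
  · rw [if_pos hab, Finset.sum_eq_single (a : ℕ)]
    · rw [if_pos ⟨rfl, by omega⟩]
    · intro i _ hia
      rw [if_neg (fun h => hia h.1)]
    · intro ha
      exfalso; apply ha; rw [Finset.mem_range]; omega
  · rw [if_neg hab]
    apply Finset.sum_eq_zero
    intro i hi
    rw [Finset.mem_range] at hi
    rw [if_neg]
    rintro ⟨h1, h2⟩
    apply hab; omega

/-- the (a,b)-coordinate of the comultiplication of a general element -/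
theorem T_comul [Nontrivial R] (a b : Fin p) (y : AlphaP.A p R) :
    T p R a b (Coalgebra.comul (R := R) y) =
      if h : (a : ℕ) + (b : ℕ) < p then
        (AlphaP.basis p R).coord ⟨(a : ℕ) + (b : ℕ), h⟩ y * ((((a : ℕ) + (b : ℕ)).choose a : ℕ) : R)
      else 0 := by
  conv_lhs => rw [← (AlphaP.basis p R).sum_repr y]
  rw [map_sum, map_sum]
  have hterm : ∀ k ∈ (Finset.univ : Finset (Fin p)),
      T p R a b (Coalgebra.comul (R := R) (((AlphaP.basis p R).repr y) k • (AlphaP.basis p R) k)) =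
        if (a : ℕ) + (b : ℕ) = (k : ℕ) then ((AlphaP.basis p R).repr y) k * (((k : ℕ).choose a : ℕ) : R) else 0 := by
    intro k _
    rw [map_smul, map_smul, AlphaP.basis_apply, T_comul_x_pow p R a b k k.2, smul_eq_mul]
    split_ifs <;> simp
  rw [Finset.sum_congr rfl hterm]
  by_cases h : (a : ℕ) + (b : ℕ) < p
  · rw [dif_pos h, Finset.sum_eq_single (⟨(a : ℕ) + (b : ℕ), h⟩ : Fin p)]
    · rw [if_pos rfl]; rfl
    · intro k _ hk
      rw [if_neg]
      intro h'
      apply hk
      exact Fin.ext h'.symm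
    · intro h'
      exact absurd (Finset.mem_univ _) h'
  · rw [dif_neg h]
    apply Finset.sum_eq_zero
    intro k _
    rw [if_neg]
    intro h'
    apply h
    rw [h']
    exact k.2

/-- the counit reads off the constant coordinate -/
theorem counit_eq_coord [Nontrivial R] (y : AlphaP.A p R) :
    Coalgebra.counit (R := R) y = (AlphaP.basis p R).coord ⟨0, hp.out.pos⟩ y := by
  conv_lhs => rw [← (AlphaP.basis p R).sum_repr y]
  rw [map_sum]
  have hterm : ∀ k ∈ (Finset.univ : Finset (Fin p)),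
      Coalgebra.counit (R := R) (((AlphaP.basis p R).repr y) k • (AlphaP.basis p R) k) =
        if (k : ℕ) = 0 then ((AlphaP.basis p R).repr y) k else 0 := by
    intro k _
    rw [map_smul, AlphaP.basis_apply, smul_eq_mul]
    have h1 : Coalgebra.counit (R := R) (AlphaP.x p R ^ (k : ℕ)) =
        (Coalgebra.counit (R := R) (AlphaP.x p R)) ^ (k : ℕ) := by
      rw [← Bialgebra.counitAlgHom_apply, map_pow]
      rfl
    rw [h1, AlphaP.counit_x]
    by_cases hk : (k : ℕ) = 0
    · rw [if_pos hk, hk, pow_zero, mul_one]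
    · rw [if_neg hk, zero_pow hk, mul_zero]
  rw [Finset.sum_congr rfl hterm, Finset.sum_eq_single (⟨0, hp.out.pos⟩ : Fin p)]
  · rw [if_pos rfl]; rfl
  · intro k _ hk
    rw [if_neg]
    intro h'
    exact hk (Fin.ext h')
  · intro h'
    exact absurd (Finset.mem_univ _) h'

/-- natural numbers below `p` are units in characteristic `p` -/
theorem isUnit_natCast_of_lt (n : ℕ) (hn0 : 0 < n) (hn : n < p) : IsUnit (n : R) := by
  have hcop : Nat.Coprime n p :=
    Nat.Coprime.symm ((Nat.Prime.coprime_iff_not_dvd hp.out).2 (Nat.not_dvd_of_pos_of_lt hn0 hn))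
  have h1 : IsCoprime (n : ℤ) (p : ℤ) := Nat.isCoprime_iff_coprime.2 hcop
  have h2 := h1.map (Int.castRingHom R)
  simp only [eq_intCast, Int.cast_natCast, CharP.cast_eq_zero R p] at h2
  exact isCoprime_zero_right.1 h2

theorem isUnit_natCast_of_not_dvd (n : ℕ) (hn : ¬ p ∣ n) : IsUnit (n : R) := by
  have hcop : Nat.Coprime n p :=
    Nat.Coprime.symm ((Nat.Prime.coprime_iff_not_dvd hp.out).2 hn)
  have h1 : IsCoprime (n : ℤ) (p : ℤ) := Nat.isCoprime_iff_coprime.2 hcop
  have h2 := h1.map (Int.castRingHom R)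
  simp only [eq_intCast, Int.cast_natCast, CharP.cast_eq_zero R p] at h2
  exact isCoprime_zero_right.1 h2

end Groth.Agent.Lead.AlphaPL
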