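import Mathlib
import Groth.Agent.Lib.Helper1.AmpleLib4
import Groth.Agent.Lib.Helper1.P1Iso2
import Groth.Agent.Lib.Helper1.InvFt
import Groth.Agent.Lib.Helper1.VA5
import Groth.Agent.Lib.Helper1.HH0
import Groth.Agent.Lib.Helper4.PnC6

set_option autoImplicit false
universe u
open CategoryTheory CategoryTheory.Limits AlgebraicGeometry TopologicalSpace Opposite

namespace Groth.Agent.Lead.AmpPn

open Groth.Agent.Helper1.QcCech Groth.Agent.Helper1.LGen Groth.Agent.Helper1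

variable {X : Scheme.{u}}

theorem not_isZero_of_isInvertible [Nonempty X] {L : X.Modules} (hL : PicF.IsInvertible L) :
    ¬ IsZero L := by
  intro hz
  obtain ⟨x⟩ : Nonempty X := inferInstance
  obtain ⟨W, a, hxW, ha⟩ := exists_isGen hL x
  haveI : Nonempty W := ⟨⟨x, hxW⟩⟩
  have hsub : ∀ p : Γ(L, W), p = 0 := by
    intro p
    have h1 : (𝟙 L : L ⟶ L) = 0 := (IsZero.iff_id_eq_zero _).1 hz
    have h2 : (𝟙 L : L ⟶ L).app W p = (0 : L ⟶ L).app W p := by rw [h1]
    exact h2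
  have hb := ha W le_rfl
  have h01 : (0 : Γ(X, W)) = 1 := by
    apply hb.1
    exact (hsub _).trans (hsub _).symm
  exact zero_ne_one h01

variable (n : ℕ) (R : Type u) [CommRing R]

theorem pkg :
    (∀ m : ℤ, PicF.IsInvertible (Twist.twistProjSpace n R m)) ∧
      (∀ a b : ℤ, Nonempty (CohB1.tensorMod (Twist.twistProjSpace n R a)
        (Twist.twistProjSpace n R b) ≅ Twist.twistProjSpace n R (a + b))) :=
  ⟨(TwistTens.twist_package (CohB1.polyGrading n R)
    (Groth.Agent.Lib.Helper4.SerreFin.hcov1 n R)).1,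
   (TwistTens.twist_package (CohB1.polyGrading n R)
    (Groth.Agent.Lib.Helper4.SerreFin.hcov1 n R)).2.1⟩

theorem pow_iso (d : ℤ) (m : ℕ) :
    Nonempty (CohB1.tensorPow (Twist.twistProjSpace n R d) m ≅ Twist.twistProjSpace n R (m * d)) := by
  induction m with
  | zero =>
    obtain ⟨e⟩ := TwistTens.nonempty_twist_zero_iso (CohB1.polyGrading n R)
    refine ⟨e.symm ≪≫ eqToIso ?_⟩
    simp
    rfl
  | succ m ih =>
    obtain ⟨e⟩ := ih
    obtain ⟨e'⟩ := (pkg n R).2 (m * d) d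
    refine ⟨TwistTens.tensorModCongrLeft e _ ≪≫ e' ≪≫ eqToIso ?_⟩
    congr 1
    push_cast
    ring

instance [Nontrivial R] : Nonempty (CohB1.ProjSpace n R) :=
  ⟨(ProjSpaceLib.sec n R).base (Classical.arbitrary _)⟩

theorem pos_of_isAmple [Nontrivial R] (hn : 1 ≤ n) (d : ℤ)
    (h : CohB1.IsAmple (Twist.twistProjSpace n R d)) : 0 < d := by
  by_contra hd
  have hd' : d ≤ 0 := not_lt.1 hd
  have hcoh : Coh.IsCoh (Twist.twistProjSpace n R (-1)) :=
    InvQc.isCoh_of_isInvertible _ ((pkg n R).1 (-1))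
  obtain ⟨n₀, hn₀⟩ := AmpleLib.eventually_globallyGenerated h (Twist.twistProjSpace n R (-1)) hcoh
  have hgg := hn₀ n₀ le_rfl
  obtain ⟨e1⟩ := pow_iso n R d n₀
  obtain ⟨e2⟩ := (pkg n R).2 (-1) (n₀ * d)
  have hgg' : Curv2.IsGloballyGenerated (Twist.twistProjSpace n R (-1 + n₀ * d)) :=
    AmpleLib.isGloballyGenerated_of_iso (TwistTens.tensorModCongrRight _ e1 ≪≫ e2) hgg
  have hneg : (-1 + (n₀ : ℤ) * d) < 0 := by
    have : (n₀ : ℤ) * d ≤ 0 := mul_nonpos_of_nonneg_of_nonpos (Int.natCast_nonneg _) hd'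
    omega
  have hH : Subsingleton (Coh.HH (CohB1.ProjSpace n R) (Twist.twistProjSpace n R (-1 + n₀ * d)) 0) :=
    Groth.Agent.Lib.Helper4.PnC6.s0844 n R _ 0 (fun h => by omega) (fun h => by omega)
  have hsub : Subsingleton Γ(Twist.twistProjSpace n R (-1 + n₀ * d), ⊤) :=
    (HH0.equiv (CohB1.ProjSpace n R) _).symm.toEquiv.subsingleton
  have hz := P1Iso.isZero_of_gg_of_subsingleton_top _ hgg' hsub
  exact not_isZero_of_isInvertible ((pkg n R).1 _) hz

theorem isAmple_of_pos (d : ℤ) (hd : 0 < d) : CohB1.IsAmple (Twist.twistProjSpace n R d) := by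
  have hc : CompactSpace (Proj (CohB1.polyGrading n R)) := VA5.compactSpace_projSpace n R
  obtain ⟨m, rfl⟩ : ∃ m : ℕ, d = m := ⟨d.toNat, (Int.toNat_of_nonneg hd.le).symm⟩
  have hm : 0 < m := by exact_mod_cast hd
  exact TwistAmple.isAmple_twist (𝒜 := CohB1.polyGrading n R) (m := m) hm (fun x => by
    obtain ⟨i, hi⟩ := ProjSpaceLib.exists_X_notMem n R x
    refine ⟨⟨MvPolynomial.X i ^ m, ?_⟩, fun hmem => hi (x.isPrime.mem_of_pow_mem _ hmem)⟩
    have := (MvPolynomial.isHomogeneous_X R i).pow m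
    simpa using this)

end Groth.Agent.Lead.AmpPn
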