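import Mathlib

/-!
# Annihilators of finite modules and flat base change; local equality of ideals (lead)

The inequality `annihilator_tensor_le_of_flat` follows the argument of
`Groth.Agent.Lib.Helper3.QFD4.annihilator_baseChange_le_of_flat` (helper3).
-/

set_option backward.isDefEq.respectTransparency.types false
set_option synthInstance.maxHeartbeats 400000
set_option autoImplicit false
set_option linter.unusedSectionVars false
set_option linter.style.haveILetI false

universe u
open TensorProduct

namespace Groth.Agent.Lead.AnnBC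

section Tensor

variable {R R' : Type u} [CommRing R] [CommRing R'] [Algebra R R']

/-- flat base change of annihilators of finite modules (tensor product form) -/
theorem annihilator_tensor_le_of_flat [Module.Flat R R'] (N : Type u) [AddCommGroup N]
    [Module R N] [Module.Finite R N] :
    Module.annihilator R' (R' ⊗[R] N) ≤ (Module.annihilator R N).map (algebraMap R R') := by
  obtain ⟨n, s, hs⟩ := Module.Finite.exists_fin (R := R) (M := N)
  let f : R →ₗ[R] (Fin n → N) := LinearMap.pi (fun i => LinearMap.toSpanSingleton R N (s i))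
  have hker : LinearMap.ker f = Module.annihilator R N := by
    ext r
    rw [LinearMap.mem_ker, Module.mem_annihilator]
    constructor
    · intro h m
      have hm : m ∈ Submodule.span R (Set.range s) := by rw [hs]; trivial
      induction hm using Submodule.span_induction with
      | mem x hx =>
        obtain ⟨i, rfl⟩ := hx
        have := congrFun h i
        simpa [f] using this
      | zero => simp
      | add x y _ _ hx hy => rw [smul_add, hx, hy, add_zero]
      | smul a x _ hx => rw [smul_comm, hx, smul_zero]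
    · intro h
      ext i
      simp [f, h (s i)]
  intro r' hr'
  rw [Module.mem_annihilator] at hr'
  have hz : (TensorProduct.AlgebraTensorModule.lTensor R' R' f) (r' ⊗ₜ[R] (1 : R)) = 0 := by
    rw [TensorProduct.AlgebraTensorModule.lTensor_tmul]
    have h1 : f 1 = ∑ i, LinearMap.single R (fun _ => N) i (s i) := by
      ext j
      simp [f, Finset.sum_apply, Pi.single_apply]
    rw [h1, TensorProduct.tmul_sum]
    refine Finset.sum_eq_zero fun i _ => ?_
    have h2 : r' ⊗ₜ[R] (LinearMap.single R (fun _ => N) i (s i)) =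
        (LinearMap.single R (fun _ => N) i).baseChange R' (r' • ((1 : R') ⊗ₜ[R] s i)) := by
      rw [TensorProduct.smul_tmul', smul_eq_mul, mul_one, LinearMap.baseChange_tmul]
    rw [h2, hr', map_zero]
  have hmem : r' ⊗ₜ[R] (1 : R) ∈
      LinearMap.ker (TensorProduct.AlgebraTensorModule.lTensor R' R' f) := hz
  rw [Module.Flat.ker_lTensor_eq] at hmem
  obtain ⟨w, hw⟩ := hmem
  have key : ∀ w : R' ⊗[R] (LinearMap.ker f),
      TensorProduct.AlgebraTensorModule.rid R R' R'
        ((TensorProduct.AlgebraTensorModule.lTensor R' R' (LinearMap.ker f).subtype) w) ∈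
        (Module.annihilator R N).map (algebraMap R R') := by
    intro w
    induction w using TensorProduct.induction_on with
    | zero => simp
    | tmul a k =>
      rw [TensorProduct.AlgebraTensorModule.lTensor_tmul,
        TensorProduct.AlgebraTensorModule.rid_tmul, Submodule.subtype_apply, Algebra.smul_def]
      refine Ideal.mul_mem_right _ _ (Ideal.mem_map_of_mem _ ?_)
      rw [← hker]
      exact k.2
    | add x y hx hy => rw [map_add, map_add]; exact Ideal.add_mem _ hx hy
  have := key w
  rw [hw, TensorProduct.AlgebraTensorModule.rid_tmul, one_smul] at this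
  exact this

theorem map_annihilator_le_annihilator_tensor (N : Type u) [AddCommGroup N] [Module R N] :
    (Module.annihilator R N).map (algebraMap R R') ≤ Module.annihilator R' (R' ⊗[R] N) := by
  rw [Ideal.map_le_iff_le_comap]
  intro a ha
  rw [Ideal.mem_comap, Module.mem_annihilator]
  rw [Module.mem_annihilator] at ha
  intro z
  induction z using TensorProduct.induction_on with
  | zero => simp
  | tmul b m =>
    rw [TensorProduct.smul_tmul', algebraMap_smul, TensorProduct.smul_tmul, ha m,
      TensorProduct.tmul_zero]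
  | add x y hx hy => rw [smul_add, hx, hy, add_zero]

/-- **annihilators of finite modules commute with flat base change** -/
theorem annihilator_eq_map_of_isBaseChange [Module.Flat R R'] {M N : Type u} [AddCommGroup M]
    [Module R M] [Module.Finite R M] [AddCommGroup N] [Module R' N] [Module R N]
    [IsScalarTower R R' N] (ℓ : M →ₗ[R] N) (hℓ : IsBaseChange R' ℓ) :
    Module.annihilator R' N = (Module.annihilator R M).map (algebraMap R R') := by
  rw [← hℓ.equiv.annihilator_eq]
  exact le_antisymm (annihilator_tensor_le_of_flat M) (map_annihilator_le_annihilator_tensor M)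

end Tensor

section Local

theorem ideal_eq_top' {B : Type*} [CommRing B] (I : Ideal B) (s : Set B) (hs : Ideal.span s = ⊤)
    (h : ∀ g ∈ s, ∃ k : ℕ, g ^ k ∈ I) : I = ⊤ := by
  by_contra hI
  obtain ⟨𝔪, hm, hIm⟩ := Ideal.exists_le_maximal I hI
  have h1 : Ideal.span s ≤ 𝔪 := Ideal.span_le.2 (fun g hg => by
    obtain ⟨k, hk⟩ := h g hg
    exact hm.isPrime.mem_of_pow_mem k (hIm hk))
  rw [hs] at h1
  exact hm.ne_top (top_le_iff.1 h1)

/-- an inclusion of ideals can be checked after localizing at elements spanning the unit ideal -/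
theorem ideal_le_of_local {B : Type u} [CommRing B] (I₁ I₂ : Ideal B) (s : Set B)
    (hs : Ideal.span s = ⊤)
    (h : ∀ b ∈ s, ∃ (Bb : Type u) (_ : CommRing Bb) (ρ : B →+* Bb),
      (letI := ρ.toAlgebra; IsLocalization.Away b Bb) ∧ I₁.map ρ ≤ I₂.map ρ) : I₁ ≤ I₂ := by
  intro x hx
  let K : Ideal B := I₂.colon (Ideal.span {x})
  have hK : K = ⊤ := by
    refine ideal_eq_top' K s hs (fun b hb => ?_)
    obtain ⟨Bb, _, ρ, hloc, hle⟩ := h b hb
    letI := ρ.toAlgebra
    haveI : IsLocalization.Away b Bb := hloc
    have h1 : algebraMap B Bb x ∈ I₂.map (algebraMap B Bb) := hle (Ideal.mem_map_of_mem ρ hx)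
    rw [IsLocalization.mem_map_algebraMap_iff (Submonoid.powers b)] at h1
    obtain ⟨⟨y, ⟨_, n, rfl⟩⟩, hy⟩ := h1
    rw [← map_mul] at hy
    obtain ⟨⟨_, j, rfl⟩, hc⟩ := (IsLocalization.eq_iff_exists (Submonoid.powers b) Bb).1 hy
    refine ⟨j + n, ?_⟩
    rw [Submodule.mem_colon]
    intro z hz
    obtain ⟨c, rfl⟩ := Ideal.mem_span_singleton'.1 hz
    have h2 : b ^ (j + n) • (c * x) = c * (b ^ j * (x * b ^ n)) := by
      rw [smul_eq_mul, pow_add]; ring
    rw [h2, hc]
    exact I₂.mul_mem_left _ (I₂.mul_mem_left _ y.2)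
  have h1 : (1 : B) ∈ K := by rw [hK]; trivial
  rw [Submodule.mem_colon] at h1
  have := h1 x (Ideal.mem_span_singleton_self x)
  rwa [one_smul] at this

theorem ideal_eq_of_local {B : Type u} [CommRing B] (I₁ I₂ : Ideal B) (s : Set B)
    (hs : Ideal.span s = ⊤)
    (h : ∀ b ∈ s, ∃ (Bb : Type u) (_ : CommRing Bb) (ρ : B →+* Bb),
      (letI := ρ.toAlgebra; IsLocalization.Away b Bb) ∧ I₁.map ρ = I₂.map ρ) : I₁ = I₂ := by
  apply le_antisymm
  · refine ideal_le_of_local I₁ I₂ s hs (fun b hb => ?_)
    obtain ⟨Bb, i, ρ, hloc, he⟩ := h b hb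
    exact ⟨Bb, i, ρ, hloc, he.le⟩
  · refine ideal_le_of_local I₂ I₁ s hs (fun b hb => ?_)
    obtain ⟨Bb, i, ρ, hloc, he⟩ := h b hb
    exact ⟨Bb, i, ρ, hloc, he.ge⟩

end Local

end Groth.Agent.Lead.AnnBC
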