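import Mathlib
import Groth.Prelude.Def_Coh
import Groth.Prelude.Def_CohB1
import Groth.Agent.Lib.Lead.AnnBC1
import Groth.Agent.Lib.Lead.BCU3
import Groth.Agent.Lib.Lead.PBQc
import Groth.Agent.Lib.Helper4.IdealComap
import Groth.Agent.Lib.Helper1.SymAlg
import Groth.Agent.Lib.Helper1.FinPush

/-!
# The scheme-theoretic support commutes with flat pullback (lead)
-/

set_option backward.isDefEq.respectTransparency.types false
set_option synthInstance.maxHeartbeats 400000
set_option autoImplicit false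
set_option linter.unusedSectionVars false
set_option linter.style.haveILetI false

universe u
open CategoryTheory AlgebraicGeometry TopologicalSpace TensorProduct

namespace Groth.Agent.Lead.AnnBC

open Scheme.Modules

/-- Step 1: the case of an affine open of the source mapping into an affine open of the target -/
theorem comap_ideal_eq_of_le {Y X : Scheme.{u}} (f : Y ⟶ X) [Flat f] (F : X.Modules)
    (hq : Coh.IsQCoh F) (hft : CohB1.IsFT F) (J : X.IdealSheafData)
    (hJ : ∀ U : X.affineOpens, J.ideal U = Module.annihilator Γ(X, U.1) Γ(F, U.1))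
    {U : X.Opens} (hU : IsAffineOpen U) {V : Y.Opens} (hV : IsAffineOpen V) (e : V ≤ f ⁻¹ᵁ U) :
    (J.comap f).ideal ⟨V, hV⟩ =
      Module.annihilator Γ(Y, V) Γ((Scheme.Modules.pullback f).obj F, V) := by
  rw [Groth.Agent.Helper4.IdealComap.ideal_comap_eq_map f J ⟨V, hV⟩ ⟨U, hU⟩ e, hJ ⟨U, hU⟩]
  haveI : F.IsQuasicoherent := hq
  letI := (f.appLE U V e).hom.toAlgebra
  letI : Module Γ(X, U) Γ((Scheme.Modules.pullback f).obj F, V) :=
    Module.compHom _ (f.appLE U V e).hom
  haveI : IsScalarTower Γ(X, U) Γ(Y, V) Γ((Scheme.Modules.pullback f).obj F, V) :=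
    ⟨fun a a' n => by
      change ((f.appLE U V e).hom a * a') • n = (f.appLE U V e).hom a • a' • n
      exact mul_smul _ _ _⟩
  obtain ⟨l', -, hb⟩ : ∃ l' : Γ(F, U) →ₗ[Γ(X, U)] Γ((Scheme.Modules.pullback f).obj F, V),
      (∀ m, l' m = Groth.Agent.Lead.BCU.unitRes f F e m) ∧ IsBaseChange Γ(Y, V) l' :=
    Groth.Agent.Lead.BCU.isBC_unitRes f F hU hV e
  haveI : Module.Flat Γ(X, U) Γ(Y, V) :=
    HasRingHomProperty.appLE (P := @Flat) f inferInstance ⟨U, hU⟩ ⟨V, hV⟩ e
  haveI : Module.Finite Γ(X, U) Γ(F, U) :=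
    Groth.Agent.Helper1.FinPush.finite_sections F ⟨hq, hft⟩ hU
  exact (annihilator_eq_map_of_isBaseChange l' hb).symm

/-- Step 2: localisation of annihilators to a basic open -/
theorem annihilator_basicOpen {Y : Scheme.{u}} (G : Y.Modules) [G.IsQuasicoherent]
    (hft : CohB1.IsFT G) {V : Y.Opens} (hV : IsAffineOpen V) (b : Γ(Y, V)) :
    Module.annihilator Γ(Y, Y.basicOpen b) Γ(G, Y.basicOpen b) =
      (Module.annihilator Γ(Y, V) Γ(G, V)).map
        (Y.presheaf.map (homOfLE (Y.basicOpen_le b)).op).hom := by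
  letI : Module Γ(Y, V) Γ(G, Y.basicOpen b) :=
    Module.compHom _ (Groth.Agent.Helper1.QcCech.resR (Y.basicOpen_le b))
  haveI : IsScalarTower Γ(Y, V) Γ(Y, Y.basicOpen b) Γ(G, Y.basicOpen b) := ⟨fun r r' m => by
    change (Groth.Agent.Helper1.QcCech.resR (Y.basicOpen_le b) r * r') • m =
      Groth.Agent.Helper1.QcCech.resR (Y.basicOpen_le b) r • (r' • m)
    rw [mul_smul]⟩
  haveI := Groth.Agent.Helper1.SymAlg.isLocalizedModule_resLin G hV b
  haveI : IsLocalization (Submonoid.powers b) Γ(Y, Y.basicOpen b) := hV.isLocalization_basicOpen b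
  haveI : Module.Flat Γ(Y, V) Γ(Y, Y.basicOpen b) :=
    IsLocalization.flat Γ(Y, Y.basicOpen b) (Submonoid.powers b)
  haveI : Module.Finite Γ(Y, V) Γ(G, V) :=
    Groth.Agent.Helper1.FinPush.finite_sections G ⟨inferInstance, hft⟩ hV
  have hb : IsBaseChange Γ(Y, Y.basicOpen b) (Groth.Agent.Helper1.SymAlg.resLin G b) :=
    IsLocalizedModule.isBaseChange (Submonoid.powers b) Γ(Y, Y.basicOpen b) _
  exact annihilator_eq_map_of_isBaseChange _ hb

/-- **the scheme-theoretic support commutes with flat pullback** -/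
theorem comap_ideal_eq {Y X : Scheme.{u}} (f : Y ⟶ X) [Flat f] (F : X.Modules)
    (hq : Coh.IsQCoh F) (hft : CohB1.IsFT F) (J : X.IdealSheafData)
    (hJ : ∀ U : X.affineOpens, J.ideal U = Module.annihilator Γ(X, U.1) Γ(F, U.1))
    (V : Y.affineOpens) :
    (J.comap f).ideal V =
      Module.annihilator Γ(Y, V.1) Γ((Scheme.Modules.pullback f).obj F, V.1) := by
  obtain ⟨V, hV⟩ := V
  haveI : F.IsQuasicoherent := hq
  haveI : ((Scheme.Modules.pullback f).obj F).IsQuasicoherent :=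
    Groth.Agent.Lead.PB.isQuasicoherent_pullback f F
  have hGft : CohB1.IsFT ((Scheme.Modules.pullback f).obj F) :=
    Groth.Agent.Lead.PB.isFT_pullback f F hft
  let s : Set Γ(Y, V) := {b | ∃ U : X.Opens, IsAffineOpen U ∧ Y.basicOpen b ≤ f ⁻¹ᵁ U}
  have hs : Ideal.span s = ⊤ := by
    rw [← hV.self_le_iSup_basicOpen_iff]
    intro y hy
    obtain ⟨_, ⟨U, hU, rfl⟩, hxU, -⟩ :=
      X.isBasis_affineOpens.exists_subset_of_mem_open (Set.mem_univ (f y)) isOpen_univ
    obtain ⟨b, hb, hyb⟩ := hV.exists_basicOpen_le (V := f ⁻¹ᵁ U) ⟨y, hxU⟩ hy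
    exact Opens.mem_iSup.2 ⟨⟨b, U, hU, hb⟩, hyb⟩
  refine ideal_eq_of_local _ _ s hs (fun b hb => ?_)
  obtain ⟨U, hU, hle⟩ := hb
  refine ⟨Γ(Y, Y.basicOpen b), inferInstance,
    (Y.presheaf.map (homOfLE (Y.basicOpen_le b)).op).hom, hV.isLocalization_basicOpen b, ?_⟩
  rw [← annihilator_basicOpen _ hGft hV b]
  rw [(J.comap f).map_ideal_basicOpen ⟨V, hV⟩ b]
  exact comap_ideal_eq_of_le f F hq hft J hJ hU (hV.basicOpen b) hle

end Groth.Agent.Lead.AnnBC
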