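import Mathlib

/-!
# The annihilator of a finite module commutes with localization (lead)
-/

set_option autoImplicit false
universe u

namespace Groth.Agent.Lead.AnnLoc

variable {R S M M' : Type*} [CommRing R] [CommRing S] [Algebra R S]
  [AddCommGroup M] [Module R M] [AddCommGroup M'] [Module R M'] [Module S M']
  [IsScalarTower R S M'] (p : Submonoid R) [IsLocalization p S] (g : M →ₗ[R] M')
  [IsLocalizedModule p g]

include p g in
theorem map_annihilator_le :
    (Module.annihilator R M).map (algebraMap R S) ≤ Module.annihilator S M' := by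
  rw [Ideal.map_le_iff_le_comap]
  intro r hr
  rw [Ideal.mem_comap, Module.mem_annihilator]
  intro m'
  obtain ⟨⟨m, s⟩, hs⟩ := IsLocalizedModule.surj p g m'
  rw [algebraMap_smul]
  apply IsLocalizedModule.smul_injective g s
  show s • r • m' = s • (0 : M')
  rw [smul_zero, smul_comm, hs, ← map_smul, Module.mem_annihilator.1 hr m, map_zero]

/-- a finite product of elements of `p` killing finitely many elements -/
theorem exists_common_kill (a : R) (T : Finset M) (hT : ∀ m ∈ T, g (a • m) = 0) :
    ∃ c ∈ p, ∀ m ∈ T, (c * a) • m = 0 := by
  classical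
  induction T using Finset.induction_on with
  | empty => exact ⟨1, p.one_mem, by simp⟩
  | insert x T hx ih =>
    obtain ⟨c, hc, hcT⟩ := ih (fun m hm => hT m (Finset.mem_insert_of_mem hm))
    obtain ⟨⟨s, hs⟩, hs0⟩ := (IsLocalizedModule.eq_zero_iff p g).1 (hT x (Finset.mem_insert_self _ _))
    refine ⟨s * c, p.mul_mem hs hc, ?_⟩
    intro m hm
    rcases Finset.mem_insert.1 hm with rfl | hm
    · have : (s * c * a) • m = c • (s • (a • m)) := by
        rw [smul_smul, smul_smul]; congr 1; ring
      rw [this]
      have h0 : s • a • m = 0 := hs0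
      rw [h0, smul_zero]
    · have : (s * c * a) • m = s • ((c * a) • m) := by
        rw [smul_smul]; congr 1; ring
      rw [this, hcT m hm, smul_zero]

include p g in
theorem annihilator_le_map [Module.Finite R M] :
    Module.annihilator S M' ≤ (Module.annihilator R M).map (algebraMap R S) := by
  intro x hx
  obtain ⟨⟨a, s⟩, has⟩ := IsLocalization.surj p x
  obtain ⟨T, hT⟩ := (Module.Finite.fg_top : (⊤ : Submodule R M).FG)
  have h1 : ∀ m ∈ T, g (a • m) = 0 := by
    intro m _
    rw [map_smul, ← algebraMap_smul S a (g m), ← has, mul_comm, mul_smul,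
      Module.mem_annihilator.1 hx, smul_zero]
  obtain ⟨c, hc, hcT⟩ := exists_common_kill p g a T h1
  have h2 : c * a ∈ Module.annihilator R M := by
    rw [Module.mem_annihilator]
    intro m
    have hm : m ∈ Submodule.span R (T : Set M) := by rw [hT]; trivial
    induction hm using Submodule.span_induction with
    | mem y hy => exact hcT y hy
    | zero => exact smul_zero _
    | add y z _ _ hy hz => rw [smul_add, hy, hz, add_zero]
    | smul r y _ hy => rw [smul_comm, hy, smul_zero]
  have h3 : x * algebraMap R S (s * c) ∈ (Module.annihilator R M).map (algebraMap R S) := by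
    have : x * algebraMap R S (s * c) = algebraMap R S (c * a) := by
      rw [map_mul, ← mul_assoc, has, ← map_mul, mul_comm]
    rw [this]
    exact Ideal.mem_map_of_mem _ h2
  have hu : IsUnit (algebraMap R S (s * c)) :=
    IsLocalization.map_units S (⟨s * c, p.mul_mem s.2 hc⟩ : p)
  exact (Ideal.mul_unit_mem_iff_mem _ hu).1 h3

include p g in
theorem map_annihilator [Module.Finite R M] :
    (Module.annihilator R M).map (algebraMap R S) = Module.annihilator S M' :=
  le_antisymm (map_annihilator_le p g) (annihilator_le_map p g)

end Groth.Agent.Lead.AnnLoc
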