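import Mathlib

/-!
# Associated primes of a Noetherian algebra avoiding a multiplicative set, and a torsion-freeness
criterion (lead)
-/

set_option backward.isDefEq.respectTransparency.types false
set_option synthInstance.maxHeartbeats 400000
set_option autoImplicit false
set_option linter.unusedSectionVars false
set_option linter.style.haveILetI false

universe u

namespace Groth.Agent.Lead.AssFin

section Ann

variable {A B : Type*} [CommRing A] [CommRing B] (φ : A →+* B) (p : Ideal A) [hp : p.IsPrime]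

/-- the saturated annihilator of `e` with respect to the complement of `p` -/
def satAnn (e : B) : Ideal B where
  carrier := {r | ∃ u : A, u ∉ p ∧ φ u * r * e = 0}
  add_mem' := by
    rintro r s ⟨u, hu, hr⟩ ⟨v, hv, hs⟩
    refine ⟨u * v, fun h => (hp.mem_or_mem h).elim hu hv, ?_⟩
    have : φ (u * v) * (r + s) * e = φ v * (φ u * r * e) + φ u * (φ v * s * e) := by
      rw [map_mul]; ring
    rw [this, hr, hs, mul_zero, mul_zero, add_zero]
  zero_mem' := ⟨1, fun h => hp.ne_top ((Ideal.eq_top_iff_one p).2 h), by simp⟩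
  smul_mem' := by
    rintro c r ⟨u, hu, hr⟩
    refine ⟨u, hu, ?_⟩
    have : φ u * (c • r) * e = c * (φ u * r * e) := by
      rw [smul_eq_mul]; ring
    rw [this, hr, mul_zero]

theorem mem_satAnn {e r : B} : r ∈ satAnn φ p e ↔ ∃ u : A, u ∉ p ∧ φ u * r * e = 0 := Iff.rfl

/-- `e` is not killed by the complement of `p` -/
def SNonzero (e : B) : Prop := ∀ u : A, u ∉ p → φ u * e ≠ 0

theorem one_notMem_satAnn {e : B} (he : SNonzero φ p e) : (1 : B) ∉ satAnn φ p e := by
  rintro ⟨u, hu, h⟩
  rw [mul_one] at h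
  exact he u hu h

theorem satAnn_le_mul (e x : B) : satAnn φ p e ≤ satAnn φ p (x * e) := by
  rintro r ⟨u, hu, hr⟩
  refine ⟨u, hu, ?_⟩
  have : φ u * r * (x * e) = x * (φ u * r * e) := by ring
  rw [this, hr, mul_zero]

theorem sNonzero_mul_of_notMem {e x : B} (hx : x ∉ satAnn φ p e) : SNonzero φ p (x * e) := by
  intro u hu h
  apply hx
  refine ⟨u, hu, ?_⟩
  rw [mul_assoc]
  exact h

/-- **an associated prime of `B` containing the annihilator of `b` and contracting into `p`** -/
theorem exists_ann_prime [IsNoetherianRing B] (b : B) (hb : SNonzero φ p b) :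
    ∃ (q : Ideal B) (t : B), q.IsPrime ∧ q = Submodule.colon (⊥ : Submodule B B) {t} ∧
      (∀ r : B, r * b = 0 → r ∈ q) ∧ q.comap φ ≤ p := by
  let 𝒮 : Set (Submodule B B) := {I | ∃ c : B, SNonzero φ p (c * b) ∧ I = satAnn φ p (c * b)}
  have hne : 𝒮.Nonempty := ⟨satAnn φ p (1 * b), 1, by rwa [one_mul], rfl⟩
  obtain ⟨I, ⟨c, hc, rfl⟩, hmax⟩ :=
    (set_has_maximal_iff_noetherian (R := B) (M := B)).2 inferInstance 𝒮 hne
  set e := c * b with he
  have hprime : (satAnn φ p e).IsPrime := by
    refine ⟨fun h => one_notMem_satAnn φ p hc ((Ideal.eq_top_iff_one _).1 h), ?_⟩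
    intro x y hxy
    by_contra hcon
    rw [not_or] at hcon
    obtain ⟨hx, hy⟩ := hcon
    have h1 : SNonzero φ p (x * e) := sNonzero_mul_of_notMem φ p hx
    have h2 : satAnn φ p (x * e) ∈ 𝒮 := ⟨x * c, by rw [mul_assoc]; exact h1, by rw [mul_assoc]⟩
    have h3 : satAnn φ p e = satAnn φ p (x * e) := by
      by_contra hneq
      exact hmax _ h2 (lt_of_le_of_ne (satAnn_le_mul φ p e x) hneq)
    apply hy
    rw [h3]
    obtain ⟨u, hu, h⟩ := hxy
    refine ⟨u, hu, ?_⟩
    have : φ u * y * (x * e) = φ u * (x * y) * e := by ring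
    rw [this, h]
  -- a single element realizing the saturated annihilator
  obtain ⟨s, hs⟩ := (isNoetherianRing_iff_ideal_fg B).1 inferInstance (satAnn φ p e)
  have hu₀ : ∃ u₀ : A, u₀ ∉ p ∧ ∀ r ∈ satAnn φ p e, φ u₀ * r * e = 0 := by
    classical
    have hgen : ∀ r ∈ (s : Set B), ∃ u : A, u ∉ p ∧ φ u * r * e = 0 := fun r hr => by
      have : r ∈ satAnn φ p e := hs ▸ Ideal.subset_span hr
      exact this
    choose! v hv using hgen
    refine ⟨∏ r ∈ s, v r, ?_, ?_⟩
    · intro h
      obtain ⟨r, hr, hrp⟩ := (hp.prod_mem_iff).1 h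
      exact (hv r hr).1 hrp
    · intro r hr
      rw [← hs] at hr
      refine Submodule.span_induction (p := fun r _ => φ (∏ r ∈ s, v r) * r * e = 0)
        ?_ ?_ ?_ ?_ hr
      · intro r hr
        obtain ⟨w, hw⟩ := Finset.dvd_prod_of_mem v hr
        rw [hw, map_mul]
        have : φ (v r) * φ w * r * e = φ w * (φ (v r) * r * e) := by ring
        rw [this, (hv r hr).2, mul_zero]
      · simp
      · intro x y _ _ hx hy
        have : φ (∏ r ∈ s, v r) * (x + y) * e =
            φ (∏ r ∈ s, v r) * x * e + φ (∏ r ∈ s, v r) * y * e := by ring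
        rw [this, hx, hy, add_zero]
      · intro a x _ hx
        have : φ (∏ r ∈ s, v r) * (a • x) * e = a * (φ (∏ r ∈ s, v r) * x * e) := by
          rw [smul_eq_mul]; ring
        rw [this, hx, mul_zero]
  obtain ⟨u₀, hu₀p, hu₀⟩ := hu₀
  refine ⟨satAnn φ p e, φ u₀ * e, hprime, ?_, ?_, ?_⟩
  · ext r
    rw [Submodule.mem_colon_singleton, Submodule.mem_bot, smul_eq_mul]
    constructor
    · intro hr
      have := hu₀ r hr
      rw [← this]; ring
    · intro hr
      refine ⟨u₀, hu₀p, ?_⟩
      rw [← hr]; ring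
  · intro r hr
    refine ⟨1, fun h => hp.ne_top ((Ideal.eq_top_iff_one p).2 h), ?_⟩
    rw [map_one, one_mul, he, ← mul_assoc, mul_comm r c, mul_assoc, hr, mul_zero]
  · intro a ha
    by_contra hap
    obtain ⟨u, hu, h⟩ := ha
    apply hc (u * a) (fun h' => (hp.mem_or_mem h').elim hu hap)
    rw [map_mul]
    exact h

end Ann

section Tors

variable {A : Type*} [CommRing A] (p : Ideal A) [hp : p.IsPrime] (R' : Type*) [CommRing R']
  [Algebra A R'] [IsLocalization.AtPrime R' p] [IsDomain R']
  {N N' : Type*} [AddCommGroup N] [Module A N] [AddCommGroup N'] [Module A N'] [Module R' N']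
  [IsScalarTower A R' N']

include hp in
/-- torsion-freeness of a localized module from a condition on zero divisors -/
theorem eq_zero_of_smul_eq_zero (ℓ : N →ₗ[A] N') [IsLocalizedModule p.primeCompl ℓ]
    (H : ∀ (α : A) (n : N), α • n = 0 → (∀ u : A, u ∉ p → u • n ≠ 0) → algebraMap A R' α = 0)
    (a : R') (z : N') (ha : a ≠ 0) (haz : a • z = 0) : z = 0 := by
  obtain ⟨α, v, rfl⟩ := IsLocalization.exists_mk'_eq p.primeCompl a
  obtain ⟨⟨n, w⟩, hnw⟩ := IsLocalizedModule.surj p.primeCompl ℓ z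
  have hnw' : (w : A) • z = ℓ n := hnw
  by_contra hz
  have hunit : ∀ s : p.primeCompl, ∀ y : N', (s : A) • y = 0 → y = 0 := by
    intro s y hy
    rw [← algebraMap_smul R' (s : A) y] at hy
    exact ((IsLocalization.map_units R' s).smul_eq_zero).1 hy
  have h1 : α • ℓ n = 0 := by
    rw [← hnw', ← algebraMap_smul R' α, ← algebraMap_smul R' (w : A) z, smul_smul,
      ← IsLocalization.mk'_spec R' α v, mul_assoc, mul_comm, ← smul_smul, ← smul_smul, haz,
      smul_zero, smul_zero]
  obtain ⟨u, hu⟩ := (IsLocalizedModule.eq_zero_iff p.primeCompl ℓ).1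
    (show ℓ (α • n) = 0 by rw [map_smul]; exact h1)
  have hu' : (u : A) • α • n = 0 := hu
  have hn' : ∀ u' : A, u' ∉ p → u' • (u : A) • n ≠ 0 := by
    intro u' hu'p h0
    apply hz
    have h2 : ℓ n = 0 := by
      rw [IsLocalizedModule.eq_zero_iff p.primeCompl ℓ]
      refine ⟨⟨u', hu'p⟩ * u, ?_⟩
      change (u' * (u : A)) • n = 0
      rw [mul_smul]
      exact h0
    rw [h2] at hnw'
    exact hunit w z hnw'
  have h3 := H α ((u : A) • n) (by rw [smul_comm]; exact hu') hn'
  apply ha
  rw [← IsLocalization.mk'_spec R' α v] at h3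
  exact ((IsLocalization.map_units R' v).mul_left_eq_zero).1 h3

end Tors

end Groth.Agent.Lead.AssFin
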