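import Mathlib
import Groth.Prelude.Def_Coh
import Groth.Prelude.Def_CurvBase
import Groth.Prelude.Def_FlatMod2
import Groth.Agent.Lib.Lead.AssFin1
import Groth.Agent.Lib.Lead.SD1
import Groth.Agent.Lib.Helper1.AssFlat1
import Groth.Agent.Lib.Helper1.FinPush
import Groth.Agent.Lib.Helper1.FpLocal
import Groth.Agent.Lib.Helper1.Curve3
import Groth.Agent.Lib.Helper4.LimFlfA
import Groth.Agent.Lib.Helper4.RegularLocalCopy

/-!
# The direct image of the structure sheaf along a finite morphism to a regular scheme of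
dimension `≤ 1` whose associated points lie over generic points is finite locally free (lead)
-/

set_option backward.isDefEq.respectTransparency.types false
set_option synthInstance.maxHeartbeats 400000
set_option autoImplicit false
set_option linter.unusedSectionVars false
set_option linter.style.haveILetI false

universe u
open CategoryTheory CategoryTheory.Limits AlgebraicGeometry TopologicalSpace Opposite IsLocalRing

namespace Groth.Agent.Lead.AssFin

open Groth.Agent.Helper1 Groth.Agent.Helper1.AssFlat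

attribute [local instance] Groth.Agent.Lead.SD.stalkModule

variable {C C' : Scheme.{u}} (f : C ⟶ C')

/-- the key vanishing: a function on an affine open of the base killing a section of the source
which is nonzero near the fibre has zero germ -/
theorem germ_eq_zero [IsFinite f] [IsLocallyNoetherian C']
    (hreg : ∀ y : C', IsRegularLocalRing (C'.presheaf.stalk y))
    (hass : ∀ x : C, Curv2.IsAssPoint (Coh.structureModule C) x →
      ringKrullDim (C'.presheaf.stalk (f.base x)) = 0)
    {V : C'.Opens} (hV : IsAffineOpen V) (y : V) (α : Γ(C', V)) (n : Γ(C, f ⁻¹ᵁ V))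
    (hαn : (f.app V).hom α * n = 0)
    (hn : ∀ u : Γ(C', V), u ∉ (hV.primeIdealOf y).asIdeal → (f.app V).hom u * n ≠ 0) :
    C'.presheaf.germ V y.1 y.2 α = 0 := by
  have hW : IsAffineOpen (f ⁻¹ᵁ V) := hV.preimage f
  haveI : IsNoetherianRing Γ(C', V) := IsLocallyNoetherian.component_noetherian ⟨V, hV⟩
  haveI : IsNoetherianRing Γ(C, f ⁻¹ᵁ V) := by
    letI := (f.app V).hom.toAlgebra
    haveI : Module.Finite Γ(C', V) Γ(C, f ⁻¹ᵁ V) := IsFinite.finite_app f V hV
    exact IsNoetherianRing.of_finite Γ(C', V) Γ(C, f ⁻¹ᵁ V)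
  obtain ⟨q, t, hq, hqt, hann, hle⟩ := exists_ann_prime (f.app V).hom (hV.primeIdealOf y).asIdeal n hn
  have hφα : (f.app V).hom α ∈ q := hann _ hαn
  set x : C := hW.fromSpec ⟨q, hq⟩ with hx
  have hxW : x ∈ f ⁻¹ᵁ V := Groth.Agent.Lead.SD.fromSpec_mem hW ⟨q, hq⟩
  letI algX : Algebra Γ(C, f ⁻¹ᵁ V) (C.presheaf.stalk x) :=
    TopCat.Presheaf.algebra_section_stalk C.presheaf (⟨x, hxW⟩ : (f ⁻¹ᵁ V : C.Opens))
  haveI locX : IsLocalization.AtPrime (C.presheaf.stalk x) q :=
    hW.isLocalization_stalk' ⟨q, hq⟩ hxW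
  have hassx : IsAssociatedPrime (maximalIdeal (C.presheaf.stalk x)) (C.presheaf.stalk x) :=
    isAssociatedPrime_maximalIdeal_of_atPrime q t hqt
  have hdim0 := hass x ((isAssPoint_structure_iff x).2 hassx)
  have hfxV : f.base x ∈ V := hxW
  haveI := hreg (f.base x)
  haveI : IsDomain (C'.presheaf.stalk (f.base x)) :=
    Groth.Agent.Lib.Helper4.RegularLocalCopy.isDomain _
  have hm0 : maximalIdeal (C'.presheaf.stalk (f.base x)) = ⊥ := by
    rw [← IsLocalRing.isField_iff_maximalIdeal_eq]
    haveI : Ring.KrullDimLE 0 (C'.presheaf.stalk (f.base x)) := by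
      rw [Ring.krullDimLE_iff]
      exact hdim0.le
    exact Ring.KrullDimLE.isField_of_isDomain
  -- germs at `x` of pulled back functions
  have hgerm : ∀ r : Γ(C', V), algebraMap Γ(C, f ⁻¹ᵁ V) (C.presheaf.stalk x) ((f.app V).hom r) =
      (f.stalkMap x).hom (C'.presheaf.germ V (f.base x) hfxV r) := fun r => by
    have h := germ_appLE f V (f ⁻¹ᵁ V) le_rfl x hxW r
    rw [← Scheme.Hom.app_eq_appLE] at h
    exact h
  have hunit : ∀ r : Γ(C', V), (f.app V).hom r ∉ q →
      IsUnit (C'.presheaf.germ V (f.base x) hfxV r) := by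
    intro r hr
    have h1 : IsUnit (algebraMap Γ(C, f ⁻¹ᵁ V) (C.presheaf.stalk x) ((f.app V).hom r)) :=
      (IsLocalization.AtPrime.isUnit_to_map_iff (C.presheaf.stalk x) q _).2 hr
    rw [hgerm] at h1
    exact isUnit_of_map_unit (f.stalkMap x).hom _ h1
  have hα0 : C'.presheaf.germ V (f.base x) hfxV α = 0 := by
    have h1 : algebraMap Γ(C, f ⁻¹ᵁ V) (C.presheaf.stalk x) ((f.app V).hom α) ∈
        maximalIdeal (C.presheaf.stalk x) :=
      (IsLocalization.AtPrime.to_map_mem_maximal_iff _ q _).2 hφα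
    rw [hgerm] at h1
    have h2 : C'.presheaf.germ V (f.base x) hfxV α ∈
        maximalIdeal (C'.presheaf.stalk (f.base x)) := by
      rw [mem_maximalIdeal, mem_nonunits_iff]
      intro hu
      exact (mem_maximalIdeal _).1 h1 (hu.map _)
    rw [hm0] at h2
    exact h2
  -- spread out the vanishing
  letI algV : Algebra Γ(C', V) (C'.presheaf.stalk (f.base x)) :=
    TopCat.Presheaf.algebra_section_stalk C'.presheaf (⟨f.base x, hfxV⟩ : V)
  haveI locV : IsLocalization.AtPrime (C'.presheaf.stalk (f.base x))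
      (hV.primeIdealOf ⟨f.base x, hfxV⟩).asIdeal := hV.isLocalization_stalk ⟨f.base x, hfxV⟩
  obtain ⟨u, hu⟩ := (IsLocalization.map_eq_zero_iff
    (hV.primeIdealOf ⟨f.base x, hfxV⟩).asIdeal.primeCompl (C'.presheaf.stalk (f.base x)) α).1 hα0
  letI algY : Algebra Γ(C', V) (C'.presheaf.stalk y.1) :=
    TopCat.Presheaf.algebra_section_stalk C'.presheaf y
  haveI locY : IsLocalization.AtPrime (C'.presheaf.stalk y.1) (hV.primeIdealOf y).asIdeal :=
    hV.isLocalization_stalk y
  haveI := hreg y.1
  haveI : IsDomain (C'.presheaf.stalk y.1) := Groth.Agent.Lib.Helper4.RegularLocalCopy.isDomain _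
  have hprod : algebraMap Γ(C', V) (C'.presheaf.stalk y.1) (u : Γ(C', V)) *
      algebraMap Γ(C', V) (C'.presheaf.stalk y.1) α = 0 := by
    rw [← map_mul, hu, map_zero]
  rcases mul_eq_zero.1 hprod with h0 | h0
  · exfalso
    obtain ⟨u', hu'⟩ := (IsLocalization.map_eq_zero_iff
      (hV.primeIdealOf y).asIdeal.primeCompl (C'.presheaf.stalk y.1) (u : Γ(C', V))).1 h0
    -- `u'` lies in the prime of `f x`, which is contained in the prime of `y`
    have h1 : (f.app V).hom (u' : Γ(C', V)) ∈ q := by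
      by_contra hcon
      have h2 := hunit _ hcon
      have h3 : IsUnit (algebraMap Γ(C', V) (C'.presheaf.stalk (f.base x)) (u : Γ(C', V))) :=
        IsLocalization.map_units _ u
      have h4 : algebraMap Γ(C', V) (C'.presheaf.stalk (f.base x)) ((u' : Γ(C', V)) * u) = 0 := by
        rw [hu', map_zero]
      rw [map_mul] at h4
      have h5 : IsUnit (algebraMap Γ(C', V) (C'.presheaf.stalk (f.base x)) (u' : Γ(C', V))) := h2
      exact (h5.mul h3).ne_zero h4
    exact u'.2 (hle h1)
  · exact h0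

theorem isFlatAt_push [IsFinite f] [IsLocallyNoetherian C']
    (hreg : ∀ y : C', IsRegularLocalRing (C'.presheaf.stalk y))
    (hdim : ∀ y : C', ringKrullDim (C'.presheaf.stalk y) ≤ 1)
    (hass : ∀ x : C, Curv2.IsAssPoint (Coh.structureModule C) x →
      ringKrullDim (C'.presheaf.stalk (f.base x)) = 0) (y : C') :
    FlatMod.IsFlatAt ((Scheme.Modules.pushforward f).obj (Coh.structureModule C)) y := by
  have hcohO : Coh.IsCoh (Coh.structureModule C) :=
    InvQc.isCoh_of_isInvertible _ (GenLoc.isInvertible_O (X := C))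
  have hcohF : Coh.IsCoh ((Scheme.Modules.pushforward f).obj (Coh.structureModule C)) :=
    FinPush.isCoh_pushforward f _ hcohO
  haveI : ((Scheme.Modules.pushforward f).obj (Coh.structureModule C)).IsQuasicoherent := hcohF.1
  obtain ⟨_, ⟨V, hV, rfl⟩, hyV, -⟩ := C'.isBasis_affineOpens.exists_subset_of_mem_open
    (Set.mem_univ y) isOpen_univ
  obtain ⟨yV, rfl⟩ : ∃ yV : V, yV.1 = y := ⟨⟨y, hyV⟩, rfl⟩
  letI algY : Algebra Γ(C', V) (C'.presheaf.stalk yV.1) :=
    TopCat.Presheaf.algebra_section_stalk C'.presheaf yV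
  haveI locY : IsLocalization.AtPrime (C'.presheaf.stalk yV.1) (hV.primeIdealOf yV).asIdeal :=
    hV.isLocalization_stalk yV
  haveI := hreg yV.1
  haveI : IsDomain (C'.presheaf.stalk yV.1) := Groth.Agent.Lib.Helper4.RegularLocalCopy.isDomain _
  haveI : ValuationRing (C'.presheaf.stalk yV.1) := VB5.valuationRing_of_regular _ (hdim yV.1)
  haveI hlocM := Groth.Agent.Lead.SD.isLocalizedModule_germ
    ((Scheme.Modules.pushforward f).obj (Coh.structureModule C)) hV yV
  unfold FlatMod.IsFlatAt
  rw [Module.Flat.flat_iff_torsion_eq_bot_of_isBezout, eq_bot_iff]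
  rintro z ⟨⟨a, ha⟩, haz⟩
  rw [Submodule.mem_bot]
  have ha0 : a ≠ 0 := nonZeroDivisors.ne_zero ha
  have haz' : a • z = 0 := haz
  refine eq_zero_of_smul_eq_zero (hV.primeIdealOf yV).asIdeal (C'.presheaf.stalk yV.1)
    (Groth.Agent.Lead.SD.germₗ ((Scheme.Modules.pushforward f).obj (Coh.structureModule C)) yV)
    ?_ a z ha0 haz'
  intro α n hαn hn
  exact germ_eq_zero f hreg hass hV yV α n hαn (fun u hu => hn u hu)

/-- **the direct image of the structure sheaf is finite locally free** -/
theorem isFinLocFree_push [IsFinite f] [IsLocallyNoetherian C']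
    (hreg : ∀ y : C', IsRegularLocalRing (C'.presheaf.stalk y))
    (hdim : ∀ y : C', ringKrullDim (C'.presheaf.stalk y) ≤ 1)
    (hass : ∀ x : C, Curv2.IsAssPoint (Coh.structureModule C) x →
      ringKrullDim (C'.presheaf.stalk (f.base x)) = 0) :
    FlatMod.IsFinLocFree ((Coh.push f).obj (Coh.structureModule C)) := by
  have hcohO : Coh.IsCoh (Coh.structureModule C) :=
    InvQc.isCoh_of_isInvertible _ (GenLoc.isInvertible_O (X := C))
  have hcohF : Coh.IsCoh ((Scheme.Modules.pushforward f).obj (Coh.structureModule C)) :=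
    FinPush.isCoh_pushforward f _ hcohO
  haveI : ((Scheme.Modules.pushforward f).obj (Coh.structureModule C)).IsQuasicoherent := hcohF.1
  exact Groth.Agent.Lib.Helper4.LimFlfA.isFinLocFree_of_isFP_of_isFlat _
    (FpLocal.isFP_of_isCoh _ hcohF) (fun y => isFlatAt_push f hreg hdim hass y)

end Groth.Agent.Lead.AssFin
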