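import Mathlib
import Groth.Prelude.Def_Red2
import Groth.Prelude.Def_TwC
import Groth.Agent.Lib.Lead.DiagAct

/-!
# Actions of groups with "character points" on schemes over a general base, trivial modulo a
nilpotent ideal (lead)

A points-based version of `Lead/DiagAct`, over a general base scheme `S`, for test objects
`Spec B ⟶ Spec R ⟶ S` (`B` an `R`-algebra), a group `G` whose points over such test objects are
(naturally and multiplicatively) characters `M → Bˣ`, and charts of `X ×_S Spec R`.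
-/

set_option autoImplicit false
universe u
open CategoryTheory CategoryTheory.Limits AlgebraicGeometry TopologicalSpace Opposite

namespace Groth.Agent.Lead.DiagActS

open Groth.Agent.Lead.DiagAct (coaction_trivial liftNC_eq_sum coeff_mem_of_mem_map
  surjective_Spec_of_nilp liftNC_of liftNC_singleOne diag_coeff)

section Pts

variable {S : Scheme.{u}} {R : Type u} [CommRing R] (e : Spec (CommRingCat.of R) ⟶ S)

/-- affine test objects over `S` -/
noncomputable abbrev tob (B : Type u) [CommRing B] [Algebra R B] : Over S :=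
  Over.mk (Spec.map (CommRingCat.ofHom (algebraMap R B)) ≫ e)

/-- morphisms of affine test objects -/
noncomputable def tmor {B B' : Type u} [CommRing B] [CommRing B'] [Algebra R B] [Algebra R B']
    (θ : B →ₐ[R] B') : tob e B' ⟶ tob e B :=
  Over.homMk (Spec.map (CommRingCat.ofHom θ.toRingHom)) (by
    show Spec.map (CommRingCat.ofHom θ.toRingHom) ≫
      Spec.map (CommRingCat.ofHom (algebraMap R B)) ≫ e =
      Spec.map (CommRingCat.ofHom (algebraMap R B')) ≫ e
    rw [← Category.assoc, ← Spec.map_comp, ← CommRingCat.ofHom_comp]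
    congr 3
    exact θ.comp_algebraMap)

theorem tmor_left {B B' : Type u} [CommRing B] [CommRing B'] [Algebra R B] [Algebra R B']
    (θ : B →ₐ[R] B') : (tmor e θ).left = Spec.map (CommRingCat.ofHom θ.toRingHom) := rfl

end Pts

section XPts

variable {S : Scheme.{u}} {R : Type u} [CommRing R] (e : Spec (CommRingCat.of R) ⟶ S)
  (X : Over S)
  {A : Type u} [CommRing A] [Algebra R A] (j : Spec (CommRingCat.of A) ⟶ pullback X.hom e)
  (hj : j ≫ pullback.snd X.hom e = Spec.map (CommRingCat.ofHom (algebraMap R A)))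

/-- the point of `X ×_S Spec R` attached to a point of `X` over a test object -/
noncomputable def xl {B : Type u} [CommRing B] [Algebra R B] (x : tob e B ⟶ X) :
    Spec (CommRingCat.of B) ⟶ pullback X.hom e :=
  pullback.lift x.left (Spec.map (CommRingCat.ofHom (algebraMap R B))) (Over.w x)

theorem xl_fst {B : Type u} [CommRing B] [Algebra R B] (x : tob e B ⟶ X) :
    xl e X x ≫ pullback.fst X.hom e = x.left := pullback.lift_fst _ _ _

theorem xl_snd {B : Type u} [CommRing B] [Algebra R B] (x : tob e B ⟶ X) :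
    xl e X x ≫ pullback.snd X.hom e = Spec.map (CommRingCat.ofHom (algebraMap R B)) :=
  pullback.lift_snd _ _ _

theorem xl_tmor {B B' : Type u} [CommRing B] [CommRing B'] [Algebra R B] [Algebra R B']
    (θ : B →ₐ[R] B') (x : tob e B ⟶ X) :
    xl e X (tmor e θ ≫ x) = Spec.map (CommRingCat.ofHom θ.toRingHom) ≫ xl e X x := by
  apply pullback.hom_ext
  · rw [xl_fst, Category.assoc, xl_fst]
    rfl
  · rw [xl_snd, Category.assoc, xl_snd, ← Spec.map_comp, ← CommRingCat.ofHom_comp]
    congr 2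
    exact θ.comp_algebraMap.symm

/-- points of `X` in the affine chart `j` of `X ×_S Spec R` -/
noncomputable def xpt {B : Type u} [CommRing B] [Algebra R B] (ξ : A →ₐ[R] B) : tob e B ⟶ X :=
  Over.homMk (Spec.map (CommRingCat.ofHom ξ.toRingHom) ≫ j ≫ pullback.fst X.hom e) (by
    show (Spec.map (CommRingCat.ofHom ξ.toRingHom) ≫ j ≫ pullback.fst X.hom e) ≫ X.hom =
      Spec.map (CommRingCat.ofHom (algebraMap R B)) ≫ e
    rw [Category.assoc, Category.assoc, pullback.condition, ← Category.assoc j, hj,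
      ← Category.assoc, ← Spec.map_comp, ← CommRingCat.ofHom_comp]
    congr 3
    exact ξ.comp_algebraMap)

theorem xpt_left {B : Type u} [CommRing B] [Algebra R B] (ξ : A →ₐ[R] B) :
    (xpt e X j hj ξ).left =
      Spec.map (CommRingCat.ofHom ξ.toRingHom) ≫ j ≫ pullback.fst X.hom e := rfl

theorem xl_xpt {B : Type u} [CommRing B] [Algebra R B] (ξ : A →ₐ[R] B) :
    xl e X (xpt e X j hj ξ) = Spec.map (CommRingCat.ofHom ξ.toRingHom) ≫ j := by
  apply pullback.hom_ext
  · rw [xl_fst, xpt_left, Category.assoc]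
  · rw [xl_snd, Category.assoc, hj, ← Spec.map_comp, ← CommRingCat.ofHom_comp]
    congr 2
    exact ξ.comp_algebraMap.symm

theorem xpt_injective [Mono j] {B : Type u} [CommRing B] [Algebra R B] (ξ ξ' : A →ₐ[R] B)
    (h : xpt e X j hj ξ = xpt e X j hj ξ') : ξ = ξ' := by
  have h1 := congrArg (fun x => xl e X x) h
  simp only [xl_xpt] at h1
  rw [cancel_mono] at h1
  have h2 := Spec.map_injective h1
  apply AlgHom.ext
  intro a
  exact congrArg (fun k => k.hom a) h2

theorem tmor_xpt {B B' : Type u} [CommRing B] [CommRing B'] [Algebra R B] [Algebra R B']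
    (θ : B →ₐ[R] B') (ξ : A →ₐ[R] B) :
    tmor e θ ≫ xpt e X j hj ξ = xpt e X j hj (θ.comp ξ) := by
  apply Over.OverMorphism.ext
  show Spec.map (CommRingCat.ofHom θ.toRingHom) ≫ Spec.map (CommRingCat.ofHom ξ.toRingHom) ≫
      j ≫ pullback.fst X.hom e =
    Spec.map (CommRingCat.ofHom (θ.comp ξ).toRingHom) ≫ j ≫ pullback.fst X.hom e
  rw [← Category.assoc, ← Spec.map_comp, ← CommRingCat.ofHom_comp]
  rfl

theorem exists_xpt [IsOpenImmersion j] {B : Type u} [CommRing B] [Algebra R B]
    (x : tob e B ⟶ X) (hx : Set.range (xl e X x).base ⊆ Set.range j.base) :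
    ∃ ξ : A →ₐ[R] B, x = xpt e X j hj ξ := by
  have hl : IsOpenImmersion.lift j (xl e X x) hx ≫ j = xl e X x :=
    IsOpenImmersion.lift_fac _ _ _
  obtain ⟨ξ₀, hξ₀⟩ : ∃ ξ₀ : A →+* B, Spec.map (CommRingCat.ofHom ξ₀) =
      IsOpenImmersion.lift j (xl e X x) hx :=
    ⟨(Spec.preimage (IsOpenImmersion.lift j (xl e X x) hx)).hom, Spec.map_preimage _⟩
  have hcomm : ξ₀.comp (algebraMap R A) = algebraMap R B := by
    have hw := xl_snd e X x
    rw [← hl, ← hξ₀, Category.assoc, hj, ← Spec.map_comp, ← CommRingCat.ofHom_comp] at hw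
    have h2 := Spec.map_injective hw
    exact congrArg (fun k => k.hom) h2
  refine ⟨{ ξ₀ with commutes' := fun r => congrArg (fun k => k r) hcomm }, ?_⟩
  apply Over.OverMorphism.ext
  rw [xpt_left, ← xl_fst e X x, ← hl, ← hξ₀, Category.assoc]

end XPts

section Act

open MonObj MonoidalCategory CartesianMonoidalCategory

variable {S : Scheme.{u}} {R : Type u} [CommRing R] (e : Spec (CommRingCat.of R) ⟶ S)
  {M : Type} [AddCommGroup M] (G X : Over S) [GrpObj G] (act : G ⊗ X ⟶ X)
  (gam : ∀ (B : Type u) [CommRing B] [Algebra R B], (Multiplicative M →* B) → (tob e B ⟶ G))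
  (gam_nat : ∀ (B B' : Type u) [CommRing B] [CommRing B'] [Algebra R B] [Algebra R B']
    (θ : B →ₐ[R] B') (χ : Multiplicative M →* B),
    tmor e θ ≫ gam B χ = gam B' ((θ : B →* B').comp χ))

/-- the action on points -/
noncomputable def op {T : Over S} (g : T ⟶ G) (x : T ⟶ X) : T ⟶ X := lift g x ≫ act

theorem comp_op {T T' : Over S} (t : T' ⟶ T) (g : T ⟶ G) (x : T ⟶ X) :
    t ≫ op G X act g x = op G X act (t ≫ g) (t ≫ x) := by
  unfold op
  rw [← Category.assoc, comp_lift]

variable {A : Type u} [CommRing A] [Algebra R A] (j : Spec (CommRingCat.of A) ⟶ pullback X.hom e)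
  (hj : j ≫ pullback.snd X.hom e = Spec.map (CommRingCat.ofHom (algebraMap R A)))

include gam_nat in
theorem op_formula (ρ : A →ₐ[R] MonoidAlgebra A (Multiplicative M))
    (hρ : op G X act (gam _ (MonoidAlgebra.of A (Multiplicative M)))
      (xpt e X j hj MonoidAlgebra.singleOneAlgHom) = xpt e X j hj ρ)
    {B : Type u} [CommRing B] [Algebra R B] (χ : Multiplicative M →* B) (ξ : A →ₐ[R] B) :
    op G X act (gam B χ) (xpt e X j hj ξ) =
      xpt e X j hj ((MonoidAlgebra.liftNCAlgHom ξ χ (fun _ _ => Commute.all _ _)).comp ρ) := by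
  rw [← tmor_xpt, ← hρ, comp_op, gam_nat, tmor_xpt, liftNC_of, liftNC_singleOne]

end Act

section Main

open MonObj MonoidalCategory CartesianMonoidalCategory

variable {S : Scheme.{u}} {R : Type u} [CommRing R] (e : Spec (CommRingCat.of R) ⟶ S)
  {M : Type} [AddCommGroup M] (G X : Over S) [GrpObj G] (act : G ⊗ X ⟶ X)
  (I : Ideal R) (hI : IsNilpotent I)
  (h_triv : ∀ (B : Type u) [CommRing B] [Algebra R B], I.map (algebraMap R B) = ⊥ →
    ∀ (g : tob e B ⟶ G) (x : tob e B ⟶ X), op G X act g x = x)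

include hI h_triv in
theorem mod_eq {B : Type u} [CommRing B] [Algebra R B] (g : tob e B ⟶ G)
    (x : tob e B ⟶ X) :
    tmor e (Ideal.Quotient.mkₐ R (I.map (algebraMap R B))) ≫ op G X act g x =
      tmor e (Ideal.Quotient.mkₐ R (I.map (algebraMap R B))) ≫ x := by
  have hK : I.map (algebraMap R (B ⧸ I.map (algebraMap R B))) = ⊥ := by
    have : algebraMap R (B ⧸ I.map (algebraMap R B)) =
        (Ideal.Quotient.mk (I.map (algebraMap R B))).comp (algebraMap R B) := rfl
    rw [this, ← Ideal.map_map, Ideal.map_quotient_self]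
  rw [comp_op]
  exact h_triv (B ⧸ I.map (algebraMap R B)) hK _ _

include hI h_triv in
theorem op_base_eq {B : Type u} [CommRing B] [Algebra R B] (g : tob e B ⟶ G)
    (x : tob e B ⟶ X) (t : Spec (CommRingCat.of B)) :
    (xl e X (op G X act g x)).base t = (xl e X x).base t := by
  have h1 := mod_eq e G X act I hI h_triv g x
  have h2 := congrArg (fun y => xl e X y) h1
  simp only [xl_tmor] at h2
  have hsurj : Function.Surjective
      (Spec.map (CommRingCat.ofHom (Ideal.Quotient.mk (I.map (algebraMap R B))))).base := by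
    apply surjective_Spec_of_nilp _ Ideal.Quotient.mk_surjective
    intro y hy
    rw [Ideal.mk_ker] at hy
    obtain ⟨n, hn⟩ := hI
    refine ⟨n, ?_⟩
    have h2 : y ^ n ∈ (I.map (algebraMap R B)) ^ n := Ideal.pow_mem_pow hy n
    rw [← Ideal.map_pow, hn, Ideal.zero_eq_bot, Ideal.map_bot] at h2
    exact h2
  obtain ⟨t₀, rfl⟩ := hsurj t
  have := congrArg (fun φ => φ.base t₀) h2
  exact this

end Main

section Univ

open MonObj MonoidalCategory CartesianMonoidalCategory

variable {S : Scheme.{u}} {R : Type u} [CommRing R] (e : Spec (CommRingCat.of R) ⟶ S)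
  {M : Type} [AddCommGroup M] (G X : Over S) [GrpObj G] (act : G ⊗ X ⟶ X)
  (gam : ∀ (B : Type u) [CommRing B] [Algebra R B], (Multiplicative M →* B) → (tob e B ⟶ G))
  (gam_nat : ∀ (B B' : Type u) [CommRing B] [CommRing B'] [Algebra R B] [Algebra R B']
    (θ : B →ₐ[R] B') (χ : Multiplicative M →* B),
    tmor e θ ≫ gam B χ = gam B' ((θ : B →* B').comp χ))
  (gam_mul : ∀ (B : Type u) [CommRing B] [Algebra R B] (χ χ' : Multiplicative M →* B),
    gam B (χ * χ') = gam B χ * gam B χ')
  (gam_one : ∀ (B : Type u) [CommRing B] [Algebra R B], gam B 1 = 1)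
  (gam_surj : ∀ (B : Type u) [CommRing B] [Algebra R B] (g : tob e B ⟶ G), ∃ χ, g = gam B χ)
  (I : Ideal R) (hI : IsNilpotent I)
  (h_one : ∀ (T : Over S) (x : T ⟶ X), op G X act 1 x = x)
  (h_mul : ∀ (T : Over S) (g h : T ⟶ G) (x : T ⟶ X),
    op G X act (g * h) x = op G X act g (op G X act h x))
  (h_triv : ∀ (B : Type u) [CommRing B] [Algebra R B], I.map (algebraMap R B) = ⊥ →
    ∀ (g : tob e B ⟶ G) (x : tob e B ⟶ X), op G X act g x = x)
  {A : Type u} [CommRing A] [Algebra R A] (j : Spec (CommRingCat.of A) ⟶ pullback X.hom e)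
  [IsOpenImmersion j]
  (hj : j ≫ pullback.snd X.hom e = Spec.map (CommRingCat.ofHom (algebraMap R A)))

include hI h_triv in
theorem exists_rho :
    ∃ ρ : A →ₐ[R] MonoidAlgebra A (Multiplicative M),
      op G X act (gam _ (MonoidAlgebra.of A (Multiplicative M)))
        (xpt e X j hj MonoidAlgebra.singleOneAlgHom) = xpt e X j hj ρ := by
  apply exists_xpt e X j hj
  rintro _ ⟨t, rfl⟩
  have h0 := op_base_eq e G X act I hI h_triv (gam _ (MonoidAlgebra.of A (Multiplicative M)))
    (xpt e X j hj MonoidAlgebra.singleOneAlgHom) t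
  rw [h0, xl_xpt]
  exact ⟨_, rfl⟩

include hI h_triv in
theorem rho_triv (ρ : A →ₐ[R] MonoidAlgebra A (Multiplicative M))
    (hρ : op G X act (gam _ (MonoidAlgebra.of A (Multiplicative M)))
      (xpt e X j hj MonoidAlgebra.singleOneAlgHom) = xpt e X j hj ρ) (a : A) (m : Multiplicative M)
    (hm : m ≠ 1) : (ρ a).coeff m ∈ I.map (algebraMap R A) := by
  have h1 := mod_eq e G X act I hI h_triv (gam _ (MonoidAlgebra.of A (Multiplicative M)))
    (xpt e X j hj MonoidAlgebra.singleOneAlgHom)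
  rw [hρ, tmor_xpt, tmor_xpt] at h1
  have h2 := xpt_injective e X j hj _ _ h1
  have h3 := congrArg (fun φ => φ a) h2
  have h4 : ρ a - MonoidAlgebra.single 1 a ∈
      I.map (algebraMap R (MonoidAlgebra A (Multiplicative M))) := by
    rw [← Ideal.Quotient.eq]
    exact h3
  have h5 := coeff_mem_of_mem_map I _ h4 m
  classical
  rw [MonoidAlgebra.coeff_sub, Finsupp.sub_apply, MonoidAlgebra.coeff_single,
    Finsupp.single_apply, if_neg (Ne.symm hm), sub_zero] at h5
  exact h5

include gam_nat gam_one h_one in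
theorem rho_sum (ρ : A →ₐ[R] MonoidAlgebra A (Multiplicative M))
    (hρ : op G X act (gam _ (MonoidAlgebra.of A (Multiplicative M)))
      (xpt e X j hj MonoidAlgebra.singleOneAlgHom) = xpt e X j hj ρ) (a : A) :
    ((ρ a).coeff.sum fun _ c => c) = a := by
  have e1 := op_formula e G X act gam gam_nat j hj ρ hρ (1 : Multiplicative M →* A)
    (AlgHom.id R A)
  rw [gam_one, h_one] at e1
  have e2 := xpt_injective e X j hj _ _ e1
  have e3 := congrArg (fun φ => φ a) e2
  simp only [AlgHom.comp_apply, AlgHom.id_apply, MonoidAlgebra.coe_liftNCAlgHom] at e3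
  rw [liftNC_eq_sum] at e3
  simpa using e3.symm

include gam_nat gam_mul h_mul in
theorem rho_idem (ρ : A →ₐ[R] MonoidAlgebra A (Multiplicative M))
    (hρ : op G X act (gam _ (MonoidAlgebra.of A (Multiplicative M)))
      (xpt e X j hj MonoidAlgebra.singleOneAlgHom) = xpt e X j hj ρ) (a : A) (m : Multiplicative M) :
    (ρ ((ρ a).coeff m)).coeff m = (ρ a).coeff m := by
  have hin : op G X act
      (gam _ (((MonoidAlgebra.singleOneAlgHom : MonoidAlgebra A (Multiplicative M) →ₐ[R]
        MonoidAlgebra (MonoidAlgebra A (Multiplicative M)) (Multiplicative M)) :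
          MonoidAlgebra A (Multiplicative M) →*
            MonoidAlgebra (MonoidAlgebra A (Multiplicative M)) (Multiplicative M)).comp
          (MonoidAlgebra.of A (Multiplicative M))))
      (xpt e X j hj (((MonoidAlgebra.singleOneAlgHom : MonoidAlgebra A (Multiplicative M) →ₐ[R]
        MonoidAlgebra (MonoidAlgebra A (Multiplicative M)) (Multiplicative M))).comp
        (MonoidAlgebra.singleOneAlgHom : A →ₐ[R] MonoidAlgebra A (Multiplicative M)))) =
      xpt e X j hj ((MonoidAlgebra.singleOneAlgHom : MonoidAlgebra A (Multiplicative M) →ₐ[R]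
        MonoidAlgebra (MonoidAlgebra A (Multiplicative M)) (Multiplicative M)).comp ρ) := by
    have e1 := tmor_xpt e X j hj (MonoidAlgebra.singleOneAlgHom :
      MonoidAlgebra A (Multiplicative M) →ₐ[R]
        MonoidAlgebra (MonoidAlgebra A (Multiplicative M)) (Multiplicative M)) ρ
    rw [← e1, ← hρ, comp_op, gam_nat, tmor_xpt]
  have hout : op G X act
      (gam _ (MonoidAlgebra.of (MonoidAlgebra A (Multiplicative M)) (Multiplicative M)))
      (xpt e X j hj ((MonoidAlgebra.singleOneAlgHom : MonoidAlgebra A (Multiplicative M) →ₐ[R]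
        MonoidAlgebra (MonoidAlgebra A (Multiplicative M)) (Multiplicative M)).comp ρ)) =
      xpt e X j hj ((MonoidAlgebra.mapAlgHom (Multiplicative M) ρ).comp ρ) := by
    rw [op_formula e G X act gam gam_nat j hj ρ hρ]
    congr 2
    refine MonoidAlgebra.algHom_ext (fun m' => ?_) ?_
    · simp [MonoidAlgebra.mapAlgHom_single, MonoidAlgebra.single_mul_single]
    · ext c
      simp [MonoidAlgebra.mapAlgHom_single, MonoidAlgebra.single_mul_single]
  have hprod := h_mul _
    (gam _ (MonoidAlgebra.of (MonoidAlgebra A (Multiplicative M)) (Multiplicative M)))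
    (gam _ (((MonoidAlgebra.singleOneAlgHom : MonoidAlgebra A (Multiplicative M) →ₐ[R]
        MonoidAlgebra (MonoidAlgebra A (Multiplicative M)) (Multiplicative M)) :
          MonoidAlgebra A (Multiplicative M) →*
            MonoidAlgebra (MonoidAlgebra A (Multiplicative M)) (Multiplicative M)).comp
          (MonoidAlgebra.of A (Multiplicative M))))
    (xpt e X j hj (((MonoidAlgebra.singleOneAlgHom : MonoidAlgebra A (Multiplicative M) →ₐ[R]
        MonoidAlgebra (MonoidAlgebra A (Multiplicative M)) (Multiplicative M))).comp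
        (MonoidAlgebra.singleOneAlgHom : A →ₐ[R] MonoidAlgebra A (Multiplicative M))))
  rw [hin, hout, ← gam_mul, op_formula e G X act gam gam_nat j hj ρ hρ] at hprod
  have e2 := xpt_injective e X j hj _ _ hprod
  have e3 := congrArg (fun φ => ((φ a).coeff m).coeff m) e2
  simp only [AlgHom.comp_apply] at e3
  rw [diag_coeff, MonoidAlgebra.coeff_mapAlgHom] at e3
  exact e3.symm

include gam_nat gam_mul gam_one hI h_one h_mul h_triv in
theorem univ_trivial :
    op G X act (gam _ (MonoidAlgebra.of A (Multiplicative M)))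
      (xpt e X j hj MonoidAlgebra.singleOneAlgHom) = xpt e X j hj MonoidAlgebra.singleOneAlgHom := by
  obtain ⟨ρ, hρ⟩ := exists_rho e G X act gam I hI h_triv j hj
  rw [hρ]
  congr 1
  apply AlgHom.ext
  intro a
  exact coaction_trivial I hI ρ (rho_sum e G X act gam gam_nat gam_one h_one j hj ρ hρ)
    (rho_idem e G X act gam gam_nat gam_mul h_mul j hj ρ hρ)
    (rho_triv e G X act gam I hI h_triv j hj ρ hρ) a

include gam_nat gam_mul gam_one gam_surj hI h_one h_mul h_triv hj in
/-- the action is trivial on affine points in an affine chart -/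
theorem main_affine {B : Type u} [CommRing B] [Algebra R B] (g : tob e B ⟶ G)
    (x : tob e B ⟶ X) (hx : Set.range (xl e X x).base ⊆ Set.range j.base) :
    op G X act g x = x := by
  obtain ⟨χ, rfl⟩ := gam_surj B g
  obtain ⟨ξ, rfl⟩ := exists_xpt e X j hj x hx
  rw [op_formula e G X act gam gam_nat j hj MonoidAlgebra.singleOneAlgHom
    (univ_trivial e G X act gam gam_nat gam_mul gam_one I hI h_one h_mul h_triv j hj),
    liftNC_singleOne]

end Univ

section Loc

open MonObj MonoidalCategory CartesianMonoidalCategory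

theorem hom_ext_of_local {Y Z : Scheme.{u}} (a b : Y ⟶ Z)
    (h : ∀ y : Y, ∃ V : Y.Opens, y ∈ V ∧ V.ι ≫ a = V.ι ≫ b) : a = b := by
  choose V hyV hV using h
  have hU : TopologicalSpace.IsOpenCover V := by
    apply eq_top_iff.2
    intro y _
    exact TopologicalSpace.Opens.mem_iSup.2 ⟨y, hyV y⟩
  apply (Y.openCoverOfIsOpenCover V hU).hom_ext
  intro y
  exact hV y

variable {S : Scheme.{u}} {R : Type u} [CommRing R] (e : Spec (CommRingCat.of R) ⟶ S)
  {M : Type} [AddCommGroup M] (G X : Over S) [GrpObj G] (act : G ⊗ X ⟶ X)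
  (gam : ∀ (B : Type u) [CommRing B] [Algebra R B], (Multiplicative M →* B) → (tob e B ⟶ G))
  (gam_nat : ∀ (B B' : Type u) [CommRing B] [CommRing B'] [Algebra R B] [Algebra R B']
    (θ : B →ₐ[R] B') (χ : Multiplicative M →* B),
    tmor e θ ≫ gam B χ = gam B' ((θ : B →* B').comp χ))
  (gam_mul : ∀ (B : Type u) [CommRing B] [Algebra R B] (χ χ' : Multiplicative M →* B),
    gam B (χ * χ') = gam B χ * gam B χ')
  (gam_one : ∀ (B : Type u) [CommRing B] [Algebra R B], gam B 1 = 1)
  (gam_surj : ∀ (B : Type u) [CommRing B] [Algebra R B] (g : tob e B ⟶ G), ∃ χ, g = gam B χ)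
  (I : Ideal R) (hI : IsNilpotent I)
  (h_one : ∀ (T : Over S) (x : T ⟶ X), op G X act 1 x = x)
  (h_mul : ∀ (T : Over S) (g h : T ⟶ G) (x : T ⟶ X),
    op G X act (g * h) x = op G X act g (op G X act h x))
  (h_triv : ∀ (B : Type u) [CommRing B] [Algebra R B], I.map (algebraMap R B) = ⊥ →
    ∀ (g : tob e B ⟶ G) (x : tob e B ⟶ X), op G X act g x = x)

include gam_nat gam_mul gam_one gam_surj hI h_one h_mul h_triv in
/-- the action is trivial on all affine test points -/
theorem main_tob {B : Type u} [CommRing B] [Algebra R B] (g : tob e B ⟶ G)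
    (x : tob e B ⟶ X) : op G X act g x = x := by
  have key : ∀ t : Spec (CommRingCat.of B), ∃ V : (Spec (CommRingCat.of B)).Opens, t ∈ V ∧
      V.ι ≫ (op G X act g x).left = V.ι ≫ x.left := by
    intro t
    obtain ⟨W, hW, hxW⟩ : ∃ W : (pullback X.hom e).Opens, IsAffineOpen W ∧
        (xl e X x).base t ∈ W := by
      obtain ⟨_, ⟨W, hW, rfl⟩, hx, -⟩ :=
        (pullback X.hom e).isBasis_affineOpens.exists_subset_of_mem_open
          (Set.mem_univ ((xl e X x).base t)) isOpen_univ
      exact ⟨W, hW, hx⟩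
    let O : (Spec (CommRingCat.of B)).Opens := (xl e X x) ⁻¹ᵁ W
    have htO : t ∈ O := hxW
    obtain ⟨_, ⟨V, hV, rfl⟩, htV, hVO⟩ :=
      (Spec (CommRingCat.of B)).isBasis_affineOpens.exists_subset_of_mem_open htO O.isOpen
    refine ⟨V, htV, ?_⟩
    have hVO' : ∀ z ∈ V, (xl e X x).base z ∈ W := fun z hz => hVO hz
    let θ₀ : B →+* Γ(Spec (CommRingCat.of B), V) := (Spec.preimage hV.fromSpec).hom
    have hθ₀ : Spec.map (CommRingCat.ofHom θ₀) = hV.fromSpec := Spec.map_preimage _
    letI algB' : Algebra R Γ(Spec (CommRingCat.of B), V) := (θ₀.comp (algebraMap R B)).toAlgebra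
    let θ : B →ₐ[R] Γ(Spec (CommRingCat.of B), V) := { θ₀ with commutes' := fun r => rfl }
    let ψA : R →+* Γ(pullback X.hom e, W) :=
      (Spec.preimage (hW.fromSpec ≫ pullback.snd X.hom e)).hom
    letI algA : Algebra R Γ(pullback X.hom e, W) := ψA.toAlgebra
    have hjA : hW.fromSpec ≫ pullback.snd X.hom e =
        Spec.map (CommRingCat.ofHom (algebraMap R Γ(pullback X.hom e, W))) :=
      (Spec.map_preimage (hW.fromSpec ≫ pullback.snd X.hom e)).symm
    have hrange : ∀ z : Spec (CommRingCat.of Γ(Spec (CommRingCat.of B), V)),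
        hV.fromSpec.base z ∈ V := by
      intro z
      have : hV.fromSpec.base z ∈ Set.range hV.fromSpec.base := ⟨z, rfl⟩
      rw [hV.range_fromSpec] at this
      exact this
    have hx : Set.range (xl e X (tmor e θ ≫ x)).base ⊆ Set.range hW.fromSpec.base := by
      rw [hW.range_fromSpec, xl_tmor]
      rintro _ ⟨z, rfl⟩
      have h1 : (Spec.map (CommRingCat.ofHom θ.toRingHom) ≫ xl e X x).base z =
          (xl e X x).base (hV.fromSpec.base z) := by
        rw [← hθ₀]
        rfl
      rw [h1]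
      exact hVO' _ (hrange z)
    have key := main_affine e G X act gam gam_nat gam_mul gam_one gam_surj I hI h_one h_mul
      h_triv hW.fromSpec hjA (tmor e θ ≫ g) (tmor e θ ≫ x) hx
    rw [← comp_op] at key
    have h3 := congrArg (fun φ => φ.left) key
    have h4 : hV.fromSpec ≫ (op G X act g x).left = hV.fromSpec ≫ x.left := by
      rw [← hθ₀]
      exact h3
    rw [← hV.isoSpec_inv_ι, Category.assoc, Category.assoc, cancel_epi] at h4
    exact h4
  apply Over.OverMorphism.ext
  exact hom_ext_of_local _ _ key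

end Loc

section BC

open MonObj MonoidalCategory CartesianMonoidalCategory

variable {S U : Scheme.{u}} (u : U ⟶ S) (Z : Over S) {T' : Scheme.{u}} (t : T' ⟶ U) (q : T' ⟶ S)
  (hq : t ≫ u = q)

/-- points of a base change, from points of the original object -/
noncomputable def bcpt (k : Over.mk q ⟶ Z) : Over.mk t ⟶ Red.bc u Z :=
  Over.homMk (pullback.lift k.left t (by rw [hq]; exact Over.w k)) (pullback.lift_snd _ _ _)

/-- points of the original object, from points of a base change -/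
noncomputable def bcinv (k' : Over.mk t ⟶ Red.bc u Z) : Over.mk q ⟶ Z :=
  Over.homMk (k'.left ≫ pullback.fst Z.hom u) (by
    show (k'.left ≫ pullback.fst Z.hom u) ≫ Z.hom = q
    have hw : k'.left ≫ pullback.snd Z.hom u = t := Over.w k'
    rw [Category.assoc, pullback.condition, ← Category.assoc, hw, hq])

theorem bcpt_left_fst (k : Over.mk q ⟶ Z) :
    (bcpt u Z t q hq k).left ≫ pullback.fst Z.hom u = k.left := pullback.lift_fst _ _ _

theorem bcpt_left_snd (k : Over.mk q ⟶ Z) :
    (bcpt u Z t q hq k).left ≫ pullback.snd Z.hom u = t := pullback.lift_snd _ _ _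

theorem bcinv_left (k' : Over.mk t ⟶ Red.bc u Z) :
    (bcinv u Z t q hq k').left = k'.left ≫ pullback.fst Z.hom u := rfl

theorem bcinv_bcpt (k : Over.mk q ⟶ Z) : bcinv u Z t q hq (bcpt u Z t q hq k) = k := by
  apply Over.OverMorphism.ext
  rw [bcinv_left, bcpt_left_fst]

theorem bcpt_bcinv (k' : Over.mk t ⟶ Red.bc u Z) : bcpt u Z t q hq (bcinv u Z t q hq k') = k' := by
  apply Over.OverMorphism.ext
  apply pullback.hom_ext
  · rw [bcpt_left_fst, bcinv_left]
  · rw [bcpt_left_snd]
    exact (Over.w k').symm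

theorem bcinv_nat {T'' : Scheme.{u}} (s : T'' ⟶ T') (t' : T'' ⟶ U) (q' : T'' ⟶ S)
    (ht' : s ≫ t = t') (hq'' : s ≫ q = q') (hq' : t' ≫ u = q') (k' : Over.mk t ⟶ Red.bc u Z) :
    (Over.homMk s hq'' : Over.mk q' ⟶ Over.mk q) ≫ bcinv u Z t q hq k' =
      bcinv u Z t' q' hq' ((Over.homMk s ht' : Over.mk t' ⟶ Over.mk t) ≫ k') := by
  apply Over.OverMorphism.ext
  show s ≫ k'.left ≫ pullback.fst Z.hom u = (s ≫ k'.left) ≫ pullback.fst Z.hom u
  rw [Category.assoc]

theorem bcpt_nat {T'' : Scheme.{u}} (s : T'' ⟶ T') (t' : T'' ⟶ U) (q' : T'' ⟶ S)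
    (ht' : s ≫ t = t') (hq'' : s ≫ q = q') (hq' : t' ≫ u = q') (k : Over.mk q ⟶ Z) :
    (Over.homMk s ht' : Over.mk t' ⟶ Over.mk t) ≫ bcpt u Z t q hq k =
      bcpt u Z t' q' hq' ((Over.homMk s hq'' : Over.mk q' ⟶ Over.mk q) ≫ k) := by
  apply Over.OverMorphism.ext
  apply pullback.hom_ext
  · rw [bcpt_left_fst]
    show (s ≫ (bcpt u Z t q hq k).left) ≫ pullback.fst Z.hom u = s ≫ k.left
    rw [Category.assoc, bcpt_left_fst]
  · rw [bcpt_left_snd]
    show (s ≫ (bcpt u Z t q hq k).left) ≫ pullback.snd Z.hom u = t'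
    rw [Category.assoc, bcpt_left_snd, ht']

theorem bcpt_eq_unit (k : Over.mk (t ≫ u) ⟶ Z) :
    bcpt u Z t (t ≫ u) rfl k =
      bcpt u (Over.mk (t ≫ u)) t (t ≫ u) rfl (𝟙 _) ≫ (Over.pullback u).map k := by
  apply Over.OverMorphism.ext
  apply pullback.hom_ext
  · rw [bcpt_left_fst]
    show k.left = ((bcpt u (Over.mk (t ≫ u)) t (t ≫ u) rfl (𝟙 _)).left ≫
      ((Over.pullback u).map k).left) ≫ pullback.fst Z.hom u
    have h1 : ((Over.pullback u).map k).left ≫ pullback.fst Z.hom u =
        pullback.fst (Over.mk (t ≫ u)).hom u ≫ k.left := pullback.lift_fst _ _ _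
    rw [Category.assoc, h1, ← Category.assoc, bcpt_left_fst]
    exact (Category.id_comp _).symm
  · rw [bcpt_left_snd]
    show t = ((bcpt u (Over.mk (t ≫ u)) t (t ≫ u) rfl (𝟙 _)).left ≫
      ((Over.pullback u).map k).left) ≫ pullback.snd Z.hom u
    have h1 : ((Over.pullback u).map k).left ≫ pullback.snd Z.hom u =
        pullback.snd (Over.mk (t ≫ u)).hom u := pullback.lift_snd _ _ _
    rw [Category.assoc, h1, bcpt_left_snd]

variable [GrpObj Z]

theorem bcpt_mul (k k' : Over.mk q ⟶ Z) :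
    bcpt u Z t q hq (k * k') = bcpt u Z t q hq k * bcpt u Z t q hq k' := by
  subst hq
  rw [bcpt_eq_unit, bcpt_eq_unit u Z t k, bcpt_eq_unit u Z t k', Functor.map_mul,
    MonObj.comp_mul]

theorem bcpt_one : bcpt u Z t q hq (1 : Over.mk q ⟶ Z) = 1 := by
  subst hq
  rw [bcpt_eq_unit, Functor.map_one, MonObj.comp_one]

theorem bcinv_mul (k k' : Over.mk t ⟶ Red.bc u Z) :
    bcinv u Z t q hq (k * k') = bcinv u Z t q hq k * bcinv u Z t q hq k' := by
  have h1 := bcpt_mul u Z t q hq (bcinv u Z t q hq k) (bcinv u Z t q hq k')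
  rw [bcpt_bcinv, bcpt_bcinv] at h1
  rw [← h1, bcinv_bcpt]

theorem bcinv_one : bcinv u Z t q hq (1 : Over.mk t ⟶ Red.bc u Z) = 1 := by
  have h1 := bcpt_one u Z t q hq
  rw [← h1, bcinv_bcpt]

end BC

section Gam

open MonObj MonoidalCategory CartesianMonoidalCategory

/-- every ring is an algebra over `ULift ℤ` -/
noncomputable def zAlg (B : Type u) [CommRing B] : Algebra (ULift.{u} ℤ) B :=
  ((Int.castRingHom B).comp (ULift.ringEquiv : ULift.{u} ℤ ≃+* ℤ).toRingHom).toAlgebra

attribute [local instance] zAlg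
attribute [-instance] AlgebraicGeometry.instMonObjSpecAsOverSpec

/-- points of the diagonalisable group over `ULift ℤ`, with source written as `Over.mk` -/
noncomputable def gptO {M : Type} [AddCommGroup M] {B : Type u} [CommRing B]
    (χ : Multiplicative M →* B) :
    Over.mk (Spec.map (CommRingCat.ofHom (algebraMap (ULift.{u} ℤ) B))) ⟶
      Red.diag (ULift.{u} ℤ) M :=
  DiagAct.gpt χ

theorem gptO_mul {M : Type} [AddCommGroup M] {B : Type u} [CommRing B]
    (χ χ' : Multiplicative M →* B) : gptO (χ * χ') = gptO χ * gptO χ' :=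
  DiagAct.gpt_mul χ χ'

theorem gptO_one {M : Type} [AddCommGroup M] {B : Type u} [CommRing B] :
    gptO (1 : Multiplicative M →* B) = 1 :=
  DiagAct.gpt_one

theorem exists_gptO {M : Type} [AddCommGroup M] {B : Type u} [CommRing B]
    (g : Over.mk (Spec.map (CommRingCat.ofHom (algebraMap (ULift.{u} ℤ) B))) ⟶
      Red.diag (ULift.{u} ℤ) M) : ∃ χ : Multiplicative M →* B, g = gptO χ :=
  DiagAct.exists_gpt g

theorem gptO_nat {M : Type} [AddCommGroup M] {B B' : Type u} [CommRing B] [CommRing B']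
    (θ₀ : B →+* B') (χ : Multiplicative M →* B)
    (h : Spec.map (CommRingCat.ofHom θ₀) ≫
      Spec.map (CommRingCat.ofHom (algebraMap (ULift.{u} ℤ) B)) =
      Spec.map (CommRingCat.ofHom (algebraMap (ULift.{u} ℤ) B'))) :
    (Over.homMk (Spec.map (CommRingCat.ofHom θ₀)) h :
      Over.mk (Spec.map (CommRingCat.ofHom (algebraMap (ULift.{u} ℤ) B'))) ⟶
      Over.mk (Spec.map (CommRingCat.ofHom (algebraMap (ULift.{u} ℤ) B)))) ≫ gptO χ =
      gptO ((θ₀ : B →* B').comp χ) := by
  have hc : ∀ r : ULift.{u} ℤ, θ₀ (algebraMap (ULift.{u} ℤ) B r) =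
      algebraMap (ULift.{u} ℤ) B' r := by
    intro r
    show θ₀ ((Int.castRingHom B) r.down) = (Int.castRingHom B') r.down
    simp
  let θ' : B →ₐ[ULift.{u} ℤ] B' := { θ₀ with commutes' := hc }
  have h1 := DiagAct.tmor_gpt θ' χ
  exact h1

variable {S U' : Scheme.{u}} (u : U' ⟶ S) (G : Over S) [GrpObj G] (M : Type) [AddCommGroup M]
  (φ : Grp.mk (Red.bc u G) ≅ Grp.mk (Red.DS U' M))
  {R : Type u} [CommRing R] (tR : Spec (CommRingCat.of R) ⟶ U') (e : Spec (CommRingCat.of R) ⟶ S)
  (he : tR ≫ u = e)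

include he in
theorem hqB (B : Type u) [CommRing B] [Algebra R B] :
    (Spec.map (CommRingCat.ofHom (algebraMap R B)) ≫ tR) ≫ u =
      Spec.map (CommRingCat.ofHom (algebraMap R B)) ≫ e := by
  rw [Category.assoc, he]

theorem hzB (B : Type u) [CommRing B] [Algebra R B] :
    (Spec.map (CommRingCat.ofHom (algebraMap R B)) ≫ tR) ≫
      Limits.IsTerminal.from specULiftZIsTerminal U' =
      Spec.map (CommRingCat.ofHom (algebraMap (ULift.{u} ℤ) B)) :=
  specULiftZIsTerminal.hom_ext _ _

/-- points of `G` from characters -/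
noncomputable def gam (B : Type u) [CommRing B] [Algebra R B] (χ : Multiplicative M →* B) :
    tob e B ⟶ G :=
  bcinv u G (Spec.map (CommRingCat.ofHom (algebraMap R B)) ≫ tR)
    (Spec.map (CommRingCat.ofHom (algebraMap R B)) ≫ e) (hqB u tR e he B)
    (bcpt (Limits.IsTerminal.from specULiftZIsTerminal U') (Red.diag (ULift.{u} ℤ) M)
      (Spec.map (CommRingCat.ofHom (algebraMap R B)) ≫ tR)
      (Spec.map (CommRingCat.ofHom (algebraMap (ULift.{u} ℤ) B))) (hzB tR B)
      (gptO χ) ≫ φ.inv.hom.hom)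

theorem gam_mul (B : Type u) [CommRing B] [Algebra R B] (χ χ' : Multiplicative M →* B) :
    gam u G M φ tR e he B (χ * χ') = gam u G M φ tR e he B χ * gam u G M φ tR e he B χ' := by
  unfold gam
  rw [gptO_mul, bcpt_mul, MonObj.mul_comp, bcinv_mul]

theorem gam_one (B : Type u) [CommRing B] [Algebra R B] :
    gam u G M φ tR e he B 1 = 1 := by
  unfold gam
  rw [gptO_one, bcpt_one, MonObj.one_comp, bcinv_one]

theorem gam_surj (B : Type u) [CommRing B] [Algebra R B] (g : tob e B ⟶ G) :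
    ∃ χ, g = gam u G M φ tR e he B χ := by
  obtain ⟨χ, hχ⟩ := exists_gptO
    (bcinv (Limits.IsTerminal.from specULiftZIsTerminal U') (Red.diag (ULift.{u} ℤ) M)
      (Spec.map (CommRingCat.ofHom (algebraMap R B)) ≫ tR)
      (Spec.map (CommRingCat.ofHom (algebraMap (ULift.{u} ℤ) B))) (hzB tR B)
      (bcpt u G (Spec.map (CommRingCat.ofHom (algebraMap R B)) ≫ tR)
        (Spec.map (CommRingCat.ofHom (algebraMap R B)) ≫ e) (hqB u tR e he B) g ≫ φ.hom.hom.hom))
  refine ⟨χ, ?_⟩
  unfold gam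
  rw [← hχ, bcpt_bcinv, Category.assoc]
  have h1 : φ.hom.hom.hom ≫ φ.inv.hom.hom = 𝟙 _ := by
    have := φ.hom_inv_id
    exact congrArg (fun k => k.hom.hom) this
  rw [h1, Category.comp_id, bcinv_bcpt]

theorem gam_nat (B B' : Type u) [CommRing B] [CommRing B'] [Algebra R B] [Algebra R B']
    (θ : B →ₐ[R] B') (χ : Multiplicative M →* B) :
    tmor e θ ≫ gam u G M φ tR e he B χ = gam u G M φ tR e he B' ((θ : B →* B').comp χ) := by
  have hs : Spec.map (CommRingCat.ofHom θ.toRingHom) ≫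
      Spec.map (CommRingCat.ofHom (algebraMap R B)) =
      Spec.map (CommRingCat.ofHom (algebraMap R B')) := by
    rw [← Spec.map_comp, ← CommRingCat.ofHom_comp]
    congr 2
    exact θ.comp_algebraMap
  have ht' : Spec.map (CommRingCat.ofHom θ.toRingHom) ≫
      (Spec.map (CommRingCat.ofHom (algebraMap R B)) ≫ tR) =
      Spec.map (CommRingCat.ofHom (algebraMap R B')) ≫ tR := by
    rw [← Category.assoc, hs]
  have hq'' : Spec.map (CommRingCat.ofHom θ.toRingHom) ≫
      (Spec.map (CommRingCat.ofHom (algebraMap R B)) ≫ e) =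
      Spec.map (CommRingCat.ofHom (algebraMap R B')) ≫ e := by
    rw [← Category.assoc, hs]
  have hz'' : Spec.map (CommRingCat.ofHom θ.toRingHom) ≫
      Spec.map (CommRingCat.ofHom (algebraMap (ULift.{u} ℤ) B)) =
      Spec.map (CommRingCat.ofHom (algebraMap (ULift.{u} ℤ) B')) :=
    specULiftZIsTerminal.hom_ext _ _
  unfold gam
  have h1 := bcinv_nat u G (Spec.map (CommRingCat.ofHom (algebraMap R B)) ≫ tR)
    (Spec.map (CommRingCat.ofHom (algebraMap R B)) ≫ e) (hqB u tR e he B)
    (Spec.map (CommRingCat.ofHom θ.toRingHom))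
    (Spec.map (CommRingCat.ofHom (algebraMap R B')) ≫ tR)
    (Spec.map (CommRingCat.ofHom (algebraMap R B')) ≫ e) ht' hq'' (hqB u tR e he B')
  have h2 := bcpt_nat (Limits.IsTerminal.from specULiftZIsTerminal U')
    (Red.diag (ULift.{u} ℤ) M) (Spec.map (CommRingCat.ofHom (algebraMap R B)) ≫ tR)
    (Spec.map (CommRingCat.ofHom (algebraMap (ULift.{u} ℤ) B))) (hzB tR B)
    (Spec.map (CommRingCat.ofHom θ.toRingHom))
    (Spec.map (CommRingCat.ofHom (algebraMap R B')) ≫ tR)
    (Spec.map (CommRingCat.ofHom (algebraMap (ULift.{u} ℤ) B'))) ht' hz'' (hzB tR B')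
    (gptO χ)
  have h3 := gptO_nat θ.toRingHom χ hz''
  refine (h1 _).trans ?_
  rw [← Category.assoc, h2]
  congr 3

end Gam

section Final

open MonObj MonoidalCategory CartesianMonoidalCategory

variable {S S₀ : Scheme.{u}} (i₀ : S₀ ⟶ S) [IsClosedImmersion i₀]

/-- a morphism from an affine scheme into an affine open, killing the ideal of a closed
subscheme, factors through the closed subscheme -/
theorem exists_lift_of_map_eq_bot {U : S.Opens} (hU : IsAffineOpen U) {B : Type u} [CommRing B]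
    (ρB : Γ(S, U) →+* B) (hρB : (i₀.ker.ideal ⟨U, hU⟩).map ρB = ⊥) :
    ∃ p₀ : Spec (CommRingCat.of B) ⟶ S₀,
      p₀ ≫ i₀ = Spec.map (CommRingCat.ofHom ρB) ≫ hU.fromSpec := by
  have hsurj : Function.Surjective (i₀.app U).hom := i₀.app_surjective U hU
  have hker : RingHom.ker (i₀.app U).hom ≤ RingHom.ker ρB := by
    intro a ha
    rw [← Scheme.Hom.ker_apply i₀ ⟨U, hU⟩] at ha
    have : ρB a ∈ (i₀.ker.ideal ⟨U, hU⟩).map ρB := Ideal.mem_map_of_mem _ ha
    rw [hρB] at this
    exact this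
  let ρ₀ : Γ(S₀, i₀ ⁻¹ᵁ U) →+* B := RingHom.liftOfSurjective (i₀.app U).hom hsurj ⟨ρB, hker⟩
  have hρ₀ : ρ₀.comp (i₀.app U).hom = ρB :=
    RingHom.liftOfSurjective_comp (i₀.app U).hom hsurj ⟨ρB, hker⟩
  have hU₀ : IsAffineOpen (i₀ ⁻¹ᵁ U) := hU.preimage i₀
  refine ⟨Spec.map (CommRingCat.ofHom ρ₀) ≫ hU₀.fromSpec, ?_⟩
  have h1 := IsAffineOpen.SpecMap_appLE_fromSpec i₀ hU hU₀ le_rfl
  rw [Category.assoc, ← h1, ← Category.assoc, ← Spec.map_comp]
  congr 2
  rw [← Scheme.Hom.app_eq_appLE]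
  ext a
  exact congrArg (fun k => k a) hρ₀

variable (G X : Over S) [GrpObj G] (act : G ⊗ X ⟶ X)
  (h_one : ∀ (T : Over S) (x : T ⟶ X), op G X act 1 x = x)
  (h_mul : ∀ (T : Over S) (g h : T ⟶ G) (x : T ⟶ X),
    op G X act (g * h) x = op G X act g (op G X act h x))
  (h0 : ∀ (Y : Over S) (_ : Y ⟶ Over.mk i₀) (g : Y ⟶ G) (x : Y ⟶ X), op G X act g x = x)

include h_one h_mul h0 in
theorem local_trivial (U : S.Opens) (hU : IsAffineOpen U)
    (hnilU : IsNilpotent (i₀.ker.ideal ⟨U, hU⟩))
    {U' : Scheme.{u}} (u : U' ⟶ S) (M : Type) [AddCommGroup M]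
    (φ : Grp.mk (Red.bc u G) ≅ Grp.mk (Red.DS U' M))
    {R : Type u} [CommRing R] (tR : Spec (CommRingCat.of R) ⟶ U')
    (e : Spec (CommRingCat.of R) ⟶ S) (he : tR ≫ u = e)
    (heU : Set.range e.base ⊆ U)
    (g : Over.mk e ⟶ G) (x : Over.mk e ⟶ X) : op G X act g x = x := by
  -- the ring map induced by `e`
  have hr : Set.range e.base ⊆ Set.range hU.fromSpec.base := by
    rw [hU.range_fromSpec]
    exact heU
  let ρ : Γ(S, U) →+* R := (Spec.preimage (IsOpenImmersion.lift hU.fromSpec e hr)).hom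
  have hρ : Spec.map (CommRingCat.ofHom ρ) ≫ hU.fromSpec = e := by
    have h1 : Spec.map (CommRingCat.ofHom ρ) = IsOpenImmersion.lift hU.fromSpec e hr :=
      Spec.map_preimage _
    rw [h1, IsOpenImmersion.lift_fac]
  let I : Ideal R := (i₀.ker.ideal ⟨U, hU⟩).map ρ
  have hI : IsNilpotent I := by
    obtain ⟨n, hn⟩ := hnilU
    refine ⟨n, ?_⟩
    show ((i₀.ker.ideal ⟨U, hU⟩).map ρ) ^ n = ⊥
    rw [← Ideal.map_pow, hn, Ideal.zero_eq_bot, Ideal.map_bot]
  have h_triv : ∀ (B : Type u) [CommRing B] [Algebra R B], I.map (algebraMap R B) = ⊥ →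
      ∀ (g : tob e B ⟶ G) (x : tob e B ⟶ X), op G X act g x = x := by
    intro B _ _ hB g x
    have hB' : (i₀.ker.ideal ⟨U, hU⟩).map ((algebraMap R B).comp ρ) = ⊥ := by
      rw [← Ideal.map_map]
      exact hB
    obtain ⟨p₀, hp₀⟩ := exists_lift_of_map_eq_bot i₀ hU ((algebraMap R B).comp ρ) hB'
    have hp : p₀ ≫ i₀ = Spec.map (CommRingCat.ofHom (algebraMap R B)) ≫ e := by
      rw [hp₀, ← hρ, ← Category.assoc, ← Spec.map_comp, ← CommRingCat.ofHom_comp]
    exact h0 (tob e B) (Over.homMk p₀ hp) g x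
  have key := main_tob e G X act (gam u G M φ tR e he) (gam_nat u G M φ tR e he)
    (gam_mul u G M φ tR e he) (gam_one u G M φ tR e he) (gam_surj u G M φ tR e he) I hI
    h_one h_mul h_triv (B := R)
  -- transport along `tob e R ≅ Over.mk e`
  have hid : 𝟙 (Spec (CommRingCat.of R)) ≫ e =
      Spec.map (CommRingCat.ofHom (algebraMap R R)) ≫ e := by
    have : CommRingCat.ofHom (algebraMap R R) = 𝟙 (CommRingCat.of R) := rfl
    rw [this, Spec.map_id]
  let iota0 : tob e R ⟶ Over.mk e := Over.homMk (𝟙 _) hid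
  have h2 := key (iota0 ≫ g) (iota0 ≫ x)
  rw [← comp_op] at h2
  have h3 := congrArg (fun k => k.left) h2
  apply Over.OverMorphism.ext
  have h4 : 𝟙 (Spec (CommRingCat.of R)) ≫ (op G X act g x).left =
      𝟙 (Spec (CommRingCat.of R)) ≫ x.left := h3
  rw [Category.id_comp, Category.id_comp] at h4
  exact h4

include h_one h_mul h0 in
/-- the main theorem: an action of a group of multiplicative type which is trivial modulo a
locally nilpotent ideal is trivial -/
theorem action_trivial
    (hnil : ∀ x : S, ∃ U : S.affineOpens, x ∈ (U : S.Opens) ∧ IsNilpotent (i₀.ker.ideal U))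
    (hG : TwC.Locally S TwC.Topology.fpqc (fun S' f => ∃ (M : Type) (_ : AddCommGroup M),
      Nonempty (Grp.mk (Red.bc f G) ≅ Grp.mk (Red.DS S' M))))
    (Y : Over S) (g : Y ⟶ G) (x : Y ⟶ X) : op G X act g x = x := by
  obtain ⟨S', f, hflat, hsurj, -, hloc⟩ := hG
  haveI := hflat
  haveI := hsurj
  haveI : Epi (pullback.fst Y.hom f) := Flat.epi_of_flat_of_surjective _
  apply Over.OverMorphism.ext
  rw [← cancel_epi (pullback.fst Y.hom f)]
  apply hom_ext_of_local
  intro y'
  obtain ⟨U', hs'U', M, instM, ⟨φ⟩⟩ := hloc ((pullback.snd Y.hom f).base y')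
  obtain ⟨U, hsU, hnilU⟩ := hnil (f.base ((pullback.snd Y.hom f).base y'))
  let O : (pullback Y.hom f).Opens :=
    (pullback.snd Y.hom f) ⁻¹ᵁ U' ⊓ (pullback.snd Y.hom f ≫ f) ⁻¹ᵁ U.1
  have hyO : y' ∈ O := ⟨hs'U', hsU⟩
  obtain ⟨_, ⟨V, hV, rfl⟩, hyV, hVO⟩ :=
    (pullback Y.hom f).isBasis_affineOpens.exists_subset_of_mem_open hyO O.isOpen
  refine ⟨V, hyV, ?_⟩
  have hrange : ∀ z : Spec (CommRingCat.of Γ(pullback Y.hom f, V)), hV.fromSpec.base z ∈ V := by
    intro z
    have : hV.fromSpec.base z ∈ Set.range hV.fromSpec.base := ⟨z, rfl⟩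
    rw [hV.range_fromSpec] at this
    exact this
  have hr' : Set.range (hV.fromSpec ≫ pullback.snd Y.hom f).base ⊆ Set.range U'.ι.base := by
    rw [Scheme.Opens.range_ι]
    rintro _ ⟨z, rfl⟩
    exact (hVO (hrange z)).1
  let tR : Spec (CommRingCat.of Γ(pullback Y.hom f, V)) ⟶ (U' : Scheme.{u}) :=
    IsOpenImmersion.lift U'.ι (hV.fromSpec ≫ pullback.snd Y.hom f) hr'
  have htR : tR ≫ U'.ι = hV.fromSpec ≫ pullback.snd Y.hom f := IsOpenImmersion.lift_fac _ _ _
  let e : Spec (CommRingCat.of Γ(pullback Y.hom f, V)) ⟶ S :=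
    hV.fromSpec ≫ pullback.snd Y.hom f ≫ f
  have he : tR ≫ (U'.ι ≫ f) = e := by
    rw [← Category.assoc, htR, Category.assoc]
  have heU : Set.range e.base ⊆ U.1 := by
    rintro _ ⟨z, rfl⟩
    exact (hVO (hrange z)).2
  have hw : (hV.fromSpec ≫ pullback.fst Y.hom f) ≫ Y.hom = e := by
    rw [Category.assoc, pullback.condition]
  let w : Over.mk e ⟶ Y := Over.homMk (hV.fromSpec ≫ pullback.fst Y.hom f) hw
  have key := @local_trivial S S₀ i₀ _ G X _ act h_one h_mul h0 U.1 U.2 hnilU U' (U'.ι ≫ f) M instM φ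
    _ _ tR e he heU (w ≫ g) (w ≫ x)
  rw [← comp_op] at key
  have h3 := congrArg (fun k => k.left) key
  have h4 : hV.fromSpec ≫ pullback.fst Y.hom f ≫ (op G X act g x).left =
      hV.fromSpec ≫ pullback.fst Y.hom f ≫ x.left := by
    rw [← Category.assoc, ← Category.assoc]
    exact h3
  rw [← hV.isoSpec_inv_ι, Category.assoc, Category.assoc, cancel_epi] at h4
  exact h4

end Final

end Groth.Agent.Lead.DiagActS
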