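import Mathlib
import Groth.Prelude.Def_Red2
import Groth.Agent.Lib.Lead.DiagActS
import Groth.Agent.Lib.Helper9.ThickAff

/-!
# A morphism from a flat scheme which is an isomorphism modulo a nilpotent ideal is an isomorphism
(lead)
-/

set_option autoImplicit false
universe u
open CategoryTheory CategoryTheory.Limits AlgebraicGeometry TopologicalSpace Opposite

namespace Groth.Agent.Lead.NilIso

section Alg

variable {R : Type u} [CommRing R] (I : Ideal R) (hI : IsNilpotent I)

include hI in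
theorem submodule_eq_bot_of_le_smul {N : Type*} [AddCommGroup N] [Module R N]
    (K : Submodule R N) (h : K ≤ I • K) : K = ⊥ := by
  have key : ∀ n : ℕ, K ≤ (I ^ n) • K := by
    intro n
    induction n with
    | zero => rw [pow_zero, Ideal.one_eq_top, Submodule.top_smul]
    | succ n ih =>
      calc K ≤ I • K := h
        _ ≤ I • ((I ^ n) • K) := Submodule.smul_mono le_rfl ih
        _ = (I ^ (n + 1)) • K := by rw [← Submodule.mul_smul, pow_succ']
  obtain ⟨n, hn⟩ := hI
  have := key n
  rw [hn, Ideal.zero_eq_bot, Submodule.bot_smul] at this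
  exact le_bot_iff.mp this

include hI in
theorem submodule_eq_top_of_sup_smul {N : Type*} [AddCommGroup N] [Module R N]
    (K : Submodule R N) (h : K ⊔ I • (⊤ : Submodule R N) = ⊤) : K = ⊤ := by
  have key : ∀ n : ℕ, K ⊔ (I ^ n) • (⊤ : Submodule R N) = ⊤ := by
    intro n
    induction n with
    | zero => rw [pow_zero, Ideal.one_eq_top, Submodule.top_smul, sup_top_eq]
    | succ n ih =>
      apply eq_top_iff.2
      calc (⊤ : Submodule R N) = K ⊔ I • (⊤ : Submodule R N) := h.symm
        _ = K ⊔ I • (K ⊔ (I ^ n) • (⊤ : Submodule R N)) := by rw [ih]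
        _ = K ⊔ (I • K ⊔ I • ((I ^ n) • (⊤ : Submodule R N))) := by rw [Submodule.smul_sup]
        _ ≤ K ⊔ (I ^ (n + 1)) • (⊤ : Submodule R N) := by
          rw [← Submodule.mul_smul, ← pow_succ']
          refine sup_le le_sup_left (sup_le ?_ le_sup_right)
          exact le_trans Submodule.smul_le_right le_sup_left
  obtain ⟨n, hn⟩ := hI
  have := key n
  rw [hn, Ideal.zero_eq_bot, Submodule.bot_smul, sup_bot_eq] at this
  exact this

/-- for a surjection onto a flat module, `ker ⊓ I • ⊤ ≤ I • ker` -/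
theorem ker_inf_smul_le {C B : Type u} [AddCommGroup C] [AddCommGroup B] [Module R C] [Module R B]
    [Module.Flat R B] (ψ : C →ₗ[R] B) (hψ : Function.Surjective ψ) :
    LinearMap.ker ψ ⊓ I • (⊤ : Submodule R C) ≤ I • LinearMap.ker ψ := by
  classical
  rintro x ⟨hxK, hxI⟩
  have hxI' : x ∈ I • Submodule.span R (Set.range (id : C → C)) := by
    rw [Set.range_id, Submodule.span_univ]
    exact hxI
  obtain ⟨a, ha, hsum⟩ := (Submodule.mem_ideal_smul_span_iff_exists_sum I (id : C → C) x).1 hxI'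
  -- the relation in `B`
  have hrel : ∑ i : a.support, a i.1 • ψ i.1 = 0 := by
    have h1 : ψ x = 0 := hxK
    rw [← hsum, Finsupp.sum, map_sum] at h1
    rw [← h1]
    rw [← Finset.sum_coe_sort a.support (fun i => ψ (a i • id i))]
    refine Finset.sum_congr rfl fun i _ => ?_
    rw [map_smul]
    rfl
  obtain ⟨k, α, y, hy, hα⟩ := Module.Flat.isTrivialRelation_of_sum_smul_eq_zero hrel
  choose c' hc' using fun j => hψ (y j)
  have hd : ∀ i : a.support, i.1 - ∑ j, α i j • c' j ∈ LinearMap.ker ψ := by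
    intro i
    have hyi : ψ i.1 = ∑ j, α i j • y j := hy i
    rw [LinearMap.mem_ker, map_sub, map_sum, hyi, sub_eq_zero]
    refine Finset.sum_congr rfl fun j _ => ?_
    rw [map_smul, hc']
  have hx : x = ∑ i : a.support, a i.1 • (i.1 - ∑ j, α i j • c' j) := by
    have h2 : ∑ i : a.support, a i.1 • ∑ j, α i j • c' j = 0 := by
      simp_rw [Finset.smul_sum, smul_smul]
      rw [Finset.sum_comm]
      refine Finset.sum_eq_zero fun j _ => ?_
      rw [← Finset.sum_smul, hα j, zero_smul]
    simp_rw [smul_sub]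
    rw [Finset.sum_sub_distrib, h2, sub_zero, ← hsum, Finsupp.sum]
    rw [← Finset.sum_coe_sort a.support (fun i => a i • id i)]
    rfl
  rw [hx]
  refine Submodule.sum_mem _ fun i _ => ?_
  exact Submodule.smul_mem_smul (ha i.1) (hd i)

include hI in
/-- Yoneda form: an algebra map into a flat algebra which induces bijections on homs into
algebras killed by a nilpotent ideal is bijective -/
theorem bijective_of_yoneda {C B : Type u} [CommRing C] [CommRing B] [Algebra R C] [Algebra R B]
    [Module.Flat R B] (ψ : C →ₐ[R] B)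
    (H : ∀ (A' : Type u) [CommRing A'] [Algebra R A'], I.map (algebraMap R A') = ⊥ →
      Function.Bijective (fun ξ : B →ₐ[R] A' => ξ.comp ψ)) :
    Function.Bijective ψ := by
  have hbot : ∀ (D : Type u) [CommRing D] [Algebra R D],
      I.map (algebraMap R (D ⧸ I.map (algebraMap R D))) = ⊥ := by
    intro D _ _
    have : algebraMap R (D ⧸ I.map (algebraMap R D)) =
        (Ideal.Quotient.mk (I.map (algebraMap R D))).comp (algebraMap R D) := rfl
    rw [this, ← Ideal.map_map, Ideal.map_quotient_self]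
  obtain ⟨ξ, hξ⟩ := (H (C ⧸ I.map (algebraMap R C)) (hbot C)).2
    (Ideal.Quotient.mkₐ R (I.map (algebraMap R C)))
  have hξ' : ∀ c, ξ (ψ c) = Ideal.Quotient.mk (I.map (algebraMap R C)) c := fun c =>
    congrArg (fun k => k c) hξ
  -- the induced map on quotients
  have hle : I.map (algebraMap R C) ≤ (I.map (algebraMap R B)).comap ψ := by
    rw [Ideal.map_le_iff_le_comap]
    intro r hr
    rw [Ideal.mem_comap, Ideal.mem_comap, AlgHom.commutes]
    exact Ideal.mem_map_of_mem _ hr
  let ψbar : (C ⧸ I.map (algebraMap R C)) →ₐ[R] (B ⧸ I.map (algebraMap R B)) :=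
    Ideal.quotientMapₐ (I.map (algebraMap R B)) ψ hle
  have hψbar : ∀ c, ψbar (Ideal.Quotient.mk _ c) = Ideal.Quotient.mk _ (ψ c) := fun c => rfl
  have h2 : (ψbar.comp ξ) = Ideal.Quotient.mkₐ R (I.map (algebraMap R B)) := by
    apply (H (B ⧸ I.map (algebraMap R B)) (hbot B)).1
    apply AlgHom.ext
    intro c
    show ψbar (ξ (ψ c)) = Ideal.Quotient.mk _ (ψ c)
    rw [hξ', hψbar]
  have h2' : ∀ b, ψbar (ξ b) = Ideal.Quotient.mk (I.map (algebraMap R B)) b := fun b =>
    congrArg (fun k => k b) h2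
  -- surjectivity
  have hsurj : Function.Surjective ψ := by
    have htop : LinearMap.range ψ.toLinearMap ⊔ I • (⊤ : Submodule R B) = ⊤ := by
      apply eq_top_iff.2
      intro b _
      obtain ⟨c, hc⟩ := Ideal.Quotient.mk_surjective (ξ b)
      have h3 : Ideal.Quotient.mk (I.map (algebraMap R B)) b =
          Ideal.Quotient.mk (I.map (algebraMap R B)) (ψ c) := by
        rw [← h2', ← hc, hψbar]
      rw [Ideal.Quotient.eq] at h3
      have h4 : b - ψ c ∈ I • (⊤ : Submodule R B) := by
        rw [Ideal.smul_top_eq_map]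
        exact h3
      have h5 : b = ψ c + (b - ψ c) := by ring
      rw [h5]
      exact Submodule.add_mem_sup ⟨c, rfl⟩ h4
    have := submodule_eq_top_of_sup_smul I hI _ htop
    intro b
    have hb : b ∈ LinearMap.range ψ.toLinearMap := by rw [this]; exact Submodule.mem_top
    obtain ⟨c, hc⟩ := hb
    exact ⟨c, hc⟩
  refine ⟨?_, hsurj⟩
  -- injectivity
  have hK : LinearMap.ker ψ.toLinearMap ≤ I • (⊤ : Submodule R C) := by
    intro x hx
    have h1 : ψ x = 0 := hx
    have h3 : Ideal.Quotient.mk (I.map (algebraMap R C)) x = 0 := by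
      rw [← hξ', h1, map_zero]
    rw [Ideal.Quotient.eq_zero_iff_mem] at h3
    rw [Ideal.smul_top_eq_map]
    exact h3
  have hK2 : LinearMap.ker ψ.toLinearMap ≤ I • LinearMap.ker ψ.toLinearMap :=
    le_trans (le_inf le_rfl hK) (ker_inf_smul_le I ψ.toLinearMap hsurj)
  have hK3 := submodule_eq_bot_of_le_smul I hI _ hK2
  rw [injective_iff_map_eq_zero]
  intro x hx
  have : x ∈ LinearMap.ker ψ.toLinearMap := hx
  rw [hK3] at this
  exact this

end Alg

section Sch

open Groth.Agent.Lead.DiagActS (bcpt bcinv bcpt_bcinv bcinv_bcpt bcpt_left_fst bcpt_left_snd)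

variable {R : Type u} [CommRing R] (I : Ideal R)

/-- the closed immersion `Spec R/I ⟶ Spec R` -/
noncomputable abbrev mI : Spec (CommRingCat.of (R ⧸ I)) ⟶ Spec (CommRingCat.of R) :=
  Spec.map (CommRingCat.ofHom (Ideal.Quotient.mk I))

theorem surjective_mI (hI : IsNilpotent I) : Surjective (mI I) := by
  constructor
  apply DiagAct.surjective_Spec_of_nilp _ Ideal.Quotient.mk_surjective
  intro x hx
  rw [Ideal.mk_ker] at hx
  obtain ⟨n, hn⟩ := hI
  refine ⟨n, ?_⟩
  have h2 : x ^ n ∈ I ^ n := Ideal.pow_mem_pow hx n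
  rw [hn, Ideal.zero_eq_bot, Ideal.mem_bot] at h2
  exact h2

theorem bcpt_comp {S U : Scheme.{u}} (u : U ⟶ S) {Y Z : Over S} (φ : Y ⟶ Z) {T' : Scheme.{u}}
    (t : T' ⟶ U) (q : T' ⟶ S) (hq : t ≫ u = q) (k : Over.mk q ⟶ Y) :
    bcpt u Z t q hq (k ≫ φ) = bcpt u Y t q hq k ≫ (Over.pullback u).map φ := by
  apply Over.OverMorphism.ext
  apply pullback.hom_ext
  · rw [bcpt_left_fst]
    show k.left ≫ φ.left = ((bcpt u Y t q hq k).left ≫ ((Over.pullback u).map φ).left) ≫
      pullback.fst Z.hom u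
    have h1 : ((Over.pullback u).map φ).left ≫ pullback.fst Z.hom u =
        pullback.fst Y.hom u ≫ φ.left := pullback.lift_fst _ _ _
    rw [Category.assoc, h1, ← Category.assoc, bcpt_left_fst]
  · rw [bcpt_left_snd]
    show t = ((bcpt u Y t q hq k).left ≫ ((Over.pullback u).map φ).left) ≫
      pullback.snd Z.hom u
    have h1 : ((Over.pullback u).map φ).left ≫ pullback.snd Z.hom u =
        pullback.snd Y.hom u := pullback.lift_snd _ _ _
    rw [Category.assoc, h1, bcpt_left_snd]

variable (Y Z : Over (Spec (CommRingCat.of R))) (φ : Y ⟶ Z)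
  [IsIso ((Over.pullback (mI I)).map φ)]

/-- points over algebras killed by `I` -/
theorem bijective_comp_of_isIso (A' : Type u) [CommRing A'] [Algebra R A']
    (hA' : I.map (algebraMap R A') = ⊥) :
    Function.Bijective (fun k : Over.mk (Spec.map (CommRingCat.ofHom (algebraMap R A'))) ⟶ Y =>
      k ≫ φ) := by
  have hle : I ≤ RingHom.ker (algebraMap R A') := by
    intro r hr
    rw [RingHom.mem_ker]
    have : algebraMap R A' r ∈ I.map (algebraMap R A') := Ideal.mem_map_of_mem _ hr
    rw [hA'] at this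
    exact this
  let θ : R ⧸ I →+* A' := Ideal.Quotient.lift I (algebraMap R A') (fun r hr => hle hr)
  have hθ : θ.comp (Ideal.Quotient.mk I) = algebraMap R A' := by
    ext r
    exact Ideal.Quotient.lift_mk I (algebraMap R A') (fun r hr => hle hr)
  have hq : Spec.map (CommRingCat.ofHom θ) ≫ mI I =
      Spec.map (CommRingCat.ofHom (algebraMap R A')) := by
    rw [← Spec.map_comp, ← CommRingCat.ofHom_comp, hθ]
  have hform : ∀ k : Over.mk (Spec.map (CommRingCat.ofHom (algebraMap R A'))) ⟶ Y,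
      k ≫ φ = bcinv (mI I) Z (Spec.map (CommRingCat.ofHom θ)) _ hq
        (bcpt (mI I) Y (Spec.map (CommRingCat.ofHom θ)) _ hq k ≫
          (Over.pullback (mI I)).map φ) := by
    intro k
    rw [← bcpt_comp, bcinv_bcpt]
  constructor
  · intro k k' hkk
    have h1 : k ≫ φ = k' ≫ φ := hkk
    rw [hform k, hform k'] at h1
    have h2 := congrArg (fun w => bcpt (mI I) Z (Spec.map (CommRingCat.ofHom θ)) _ hq w) h1
    simp only [bcpt_bcinv] at h2
    rw [cancel_mono] at h2
    have h3 := congrArg (fun w => bcinv (mI I) Y (Spec.map (CommRingCat.ofHom θ)) _ hq w) h2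
    simp only [bcinv_bcpt] at h3
    exact h3
  · intro z
    refine ⟨bcinv (mI I) Y (Spec.map (CommRingCat.ofHom θ)) _ hq
      (bcpt (mI I) Z (Spec.map (CommRingCat.ofHom θ)) _ hq z ≫
        inv ((Over.pullback (mI I)).map φ)), ?_⟩
    show _ ≫ φ = z
    rw [hform, bcpt_bcinv, Category.assoc, IsIso.inv_hom_id, Category.comp_id, bcinv_bcpt]

include I in
/-- preimages of affine opens are affine -/
theorem isAffineOpen_preimage (hI : IsNilpotent I) {V : Z.left.Opens} (hV : IsAffineOpen V) :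
    IsAffineOpen (φ.left ⁻¹ᵁ V) := by
  haveI : Surjective (mI I) := surjective_mI I hI
  haveI : IsClosedImmersion (mI I) :=
    IsClosedImmersion.spec_of_surjective _ Ideal.Quotient.mk_surjective
  have nat : ((Over.pullback (mI I)).map φ).left ≫ pullback.fst Z.hom (mI I) =
      pullback.fst Y.hom (mI I) ≫ φ.left := pullback.lift_fst _ _ _
  haveI : IsIso ((Over.pullback (mI I)).map φ).left :=
    inferInstanceAs (IsIso ((Over.forget _).map ((Over.pullback (mI I)).map φ)))
  have h1 : IsAffineOpen (pullback.fst Z.hom (mI I) ⁻¹ᵁ V) := hV.preimage _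
  have h2 : IsAffineOpen (((Over.pullback (mI I)).map φ).left ⁻¹ᵁ
      (pullback.fst Z.hom (mI I) ⁻¹ᵁ V)) := h1.preimage_of_isIso _
  have h3 : ((Over.pullback (mI I)).map φ).left ⁻¹ᵁ (pullback.fst Z.hom (mI I) ⁻¹ᵁ V) =
      pullback.fst Y.hom (mI I) ⁻¹ᵁ (φ.left ⁻¹ᵁ V) := by
    rw [← Scheme.Hom.comp_preimage, ← Scheme.Hom.comp_preimage, nat]
  rw [h3] at h2
  haveI : IsAffine (pullback.fst Y.hom (mI I) ⁻¹ᵁ (φ.left ⁻¹ᵁ V)).toScheme := h2
  haveI : Surjective (pullback.fst Y.hom (mI I) ∣_ (φ.left ⁻¹ᵁ V)) :=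
    IsZariskiLocalAtTarget.restrict (P := @Surjective) inferInstance _
  exact H9ThickAff.isAffine_of_thickening (pullback.fst Y.hom (mI I) ∣_ (φ.left ⁻¹ᵁ V))
    (Surjective.surj)

include I in
/-- sections over an affine open: the ring map is bijective -/
theorem app_bijective (hI : IsNilpotent I) [Flat Y.hom] {V : Z.left.Opens}
    (hV : IsAffineOpen V) : Function.Bijective (φ.left.app V).hom := by
  have hW : IsAffineOpen (φ.left ⁻¹ᵁ V) := isAffineOpen_preimage I Y Z φ hI hV
  let ψC : R →+* Γ(Z.left, V) := (Spec.preimage (hV.fromSpec ≫ Z.hom)).hom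
  let ψB : R →+* Γ(Y.left, φ.left ⁻¹ᵁ V) := (Spec.preimage (hW.fromSpec ≫ Y.hom)).hom
  letI algC : Algebra R Γ(Z.left, V) := ψC.toAlgebra
  letI algB : Algebra R Γ(Y.left, φ.left ⁻¹ᵁ V) := ψB.toAlgebra
  have hjV : hV.fromSpec ≫ Z.hom =
      Spec.map (CommRingCat.ofHom (algebraMap R Γ(Z.left, V))) :=
    (Spec.map_preimage (hV.fromSpec ≫ Z.hom)).symm
  have hjW : hW.fromSpec ≫ Y.hom =
      Spec.map (CommRingCat.ofHom (algebraMap R Γ(Y.left, φ.left ⁻¹ᵁ V))) :=
    (Spec.map_preimage (hW.fromSpec ≫ Y.hom)).symm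
  have hcomm : Spec.map (φ.left.app V) ≫ hV.fromSpec = hW.fromSpec ≫ φ.left := by
    rw [Scheme.Hom.app_eq_appLE]
    exact IsAffineOpen.SpecMap_appLE_fromSpec φ.left hV hW le_rfl
  -- `ψ` is an algebra map
  have halg : (φ.left.app V).hom.comp (algebraMap R Γ(Z.left, V)) =
      algebraMap R Γ(Y.left, φ.left ⁻¹ᵁ V) := by
    have h1 : Spec.map (CommRingCat.ofHom (algebraMap R Γ(Y.left, φ.left ⁻¹ᵁ V))) =
        Spec.map (CommRingCat.ofHom (algebraMap R Γ(Z.left, V)) ≫ φ.left.app V) := by
      rw [Spec.map_comp, ← hjV, ← Category.assoc, hcomm, Category.assoc, Over.w φ, hjW]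
    have h2 := Spec.map_injective h1
    have h3 := congrArg (fun k => k.hom) h2
    exact h3.symm
  let ψ : Γ(Z.left, V) →ₐ[R] Γ(Y.left, φ.left ⁻¹ᵁ V) :=
    { (φ.left.app V).hom with commutes' := fun r => congrArg (fun k => k r) halg }
  -- flatness
  haveI : Module.Flat R Γ(Y.left, φ.left ⁻¹ᵁ V) := by
    have h1 : Flat (hW.fromSpec ≫ Y.hom) := inferInstance
    rw [hjW, HasRingHomProperty.Spec_iff (P := @Flat)] at h1
    exact h1
  -- the Yoneda hypothesis
  have H : ∀ (A' : Type u) [CommRing A'] [Algebra R A'], I.map (algebraMap R A') = ⊥ →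
      Function.Bijective (fun ξ : Γ(Y.left, φ.left ⁻¹ᵁ V) →ₐ[R] A' => ξ.comp ψ) := by
    intro A' _ _ hA'
    have hb := bijective_comp_of_isIso I Y Z φ A' hA'
    have hform : ∀ ξ : Γ(Y.left, φ.left ⁻¹ᵁ V) →ₐ[R] A',
        DiagAct.xpt Y hW.fromSpec hjW ξ ≫ φ = DiagAct.xpt Z hV.fromSpec hjV (ξ.comp ψ) := by
      intro ξ
      apply Over.OverMorphism.ext
      show (Spec.map (CommRingCat.ofHom ξ.toRingHom) ≫ hW.fromSpec) ≫ φ.left =
        Spec.map (CommRingCat.ofHom (ξ.comp ψ).toRingHom) ≫ hV.fromSpec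
      rw [Category.assoc, ← hcomm, ← Category.assoc, ← Spec.map_comp]
      rfl
    constructor
    · intro ξ₁ ξ₂ h12
      have h1 : ξ₁.comp ψ = ξ₂.comp ψ := h12
      have h2 : DiagAct.xpt Y hW.fromSpec hjW ξ₁ ≫ φ = DiagAct.xpt Y hW.fromSpec hjW ξ₂ ≫ φ := by
        rw [hform, hform, h1]
      exact DiagAct.xpt_injective Y hW.fromSpec hjW _ _ (hb.1 h2)
    · intro ζ
      obtain ⟨y, hy'⟩ : ∃ y : DiagAct.tobj R A' ⟶ Y,
          y ≫ φ = DiagAct.xpt Z hV.fromSpec hjV ζ := hb.2 (DiagAct.xpt Z hV.fromSpec hjV ζ)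
      have hrange : Set.range y.left.base ⊆ Set.range hW.fromSpec.base := by
        rw [hW.range_fromSpec]
        rintro _ ⟨p, rfl⟩
        show φ.left.base (y.left.base p) ∈ V
        have h1 : φ.left.base (y.left.base p) =
            (DiagAct.xpt Z hV.fromSpec hjV ζ).left.base p := by
          rw [← hy']
          rfl
        rw [h1, DiagAct.xpt_left]
        have h2 : (Spec.map (CommRingCat.ofHom ζ.toRingHom) ≫ hV.fromSpec).base p ∈
            Set.range hV.fromSpec.base := ⟨(Spec.map (CommRingCat.ofHom ζ.toRingHom)).base p, rfl⟩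
        rw [hV.range_fromSpec] at h2
        exact h2
      obtain ⟨ξ, hξ⟩ := DiagAct.exists_xpt Y hW.fromSpec hjW y hrange
      refine ⟨ξ, ?_⟩
      show ξ.comp ψ = ζ
      apply DiagAct.xpt_injective Z hV.fromSpec hjV
      have h5 : DiagAct.xpt Y hW.fromSpec hjW ξ ≫ φ = DiagAct.xpt Z hV.fromSpec hjV ζ := by
        rw [← hξ]
        exact hy'
      exact (hform ξ).symm.trans h5
  exact bijective_of_yoneda I hI ψ H

set_option backward.isDefEq.respectTransparency false in
include I in
/-- **Main theorem**: a morphism from a flat `R`-scheme which becomes an isomorphism modulo a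
nilpotent ideal is an isomorphism. -/
theorem isIso_of_isIso_map (hI : IsNilpotent I) [Flat Y.hom] : IsIso φ := by
  suffices h : IsIso φ.left by
    haveI : IsIso ((Over.forget _).map φ) := h
    exact isIso_of_reflects_iso φ (Over.forget _)
  rw [← MorphismProperty.isomorphisms.iff,
    HasAffineProperty.iff_of_iSup_eq_top (P := MorphismProperty.isomorphisms Scheme)
      (fun V : Z.left.affineOpens => V) (iSup_affineOpens_eq_top _)]
  intro V
  refine ⟨isAffineOpen_preimage I Y Z φ hI V.2, ?_⟩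
  have hbij := app_bijective I Y Z φ hI V.2
  haveI hiso : IsIso (φ.left.app V.1) := (ConcreteCategory.isIso_iff_bijective _).2 hbij
  have key : ∀ U' : Z.left.Opens, U' = V.1 → IsIso (φ.left.app U') := by
    rintro _ rfl
    exact hiso
  rw [morphismRestrict_appTop]
  haveI := key _ (Scheme.Opens.ι_image_top V.1)
  infer_instance

end Sch

end Groth.Agent.Lead.NilIso
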