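import Mathlib

/-!
# Semigroup objects with invertible shear maps are group objects (lead)

In a cartesian monoidal category, an associative multiplication `P : X ⊗ X ⟶ X` whose two shear
maps are isomorphisms, together with a global point `e : 𝟙_ ⟶ X` through which the "local unit"
factors, is a group object structure.
-/

set_option autoImplicit false
universe v u
open CategoryTheory MonoidalCategory CartesianMonoidalCategory

namespace Groth.Agent.Lead.SemiGrp

variable {C : Type u} [Category.{v} C] [CartesianMonoidalCategory C] {X : C} (P : X ⊗ X ⟶ X)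

/-- multiplication of points -/
def mul {T : C} (a b : T ⟶ X) : T ⟶ X := lift a b ≫ P

theorem comp_mul {T T' : C} (t : T' ⟶ T) (a b : T ⟶ X) :
    t ≫ mul P a b = mul P (t ≫ a) (t ≫ b) := by
  unfold mul
  rw [← Category.assoc, comp_lift]

variable (hassoc : (P ▷ X) ≫ P = (α_ X X X).hom ≫ (X ◁ P) ≫ P)

include hassoc in
theorem mul_assoc {T : C} (a b c : T ⟶ X) :
    mul P (mul P a b) c = mul P a (mul P b c) := by
  unfold mul
  have h1 : lift (lift a b ≫ P) c = lift (lift a b) c ≫ (P ▷ X) := by
    rw [lift_whiskerRight]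
  rw [h1, Category.assoc, hassoc, ← Category.assoc, lift_lift_associator_hom, ← Category.assoc,
    lift_whiskerLeft]

/-- left shear map `(x, y) ↦ (x, xy)` -/
def shl : X ⊗ X ⟶ X ⊗ X := lift (fst X X) P

/-- right shear map `(x, y) ↦ (xy, y)` -/
def shr : X ⊗ X ⟶ X ⊗ X := lift P (snd X X)

theorem lift_shl {T : C} (a b : T ⟶ X) : lift a b ≫ shl P = lift a (mul P a b) := by
  unfold shl mul
  rw [comp_lift, lift_fst]

theorem lift_shr {T : C} (a b : T ⟶ X) : lift a b ≫ shr P = lift (mul P a b) b := by
  unfold shr mul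
  rw [comp_lift, lift_snd]

section Cancel

variable [IsIso (shl P)] [IsIso (shr P)]

theorem mul_left_cancel {T : C} (a b b' : T ⟶ X) (h : mul P a b = mul P a b') : b = b' := by
  have h1 : lift a b ≫ shl P = lift a b' ≫ shl P := by
    rw [lift_shl, lift_shl, h]
  rw [cancel_mono] at h1
  have h2 := congrArg (fun k => k ≫ snd X X) h1
  simpa using h2

theorem mul_right_cancel {T : C} (a b b' : T ⟶ X) (h : mul P b a = mul P b' a) : b = b' := by
  have h1 : lift b a ≫ shr P = lift b' a ≫ shr P := by
    rw [lift_shr, lift_shr, h]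
  rw [cancel_mono] at h1
  have h2 := congrArg (fun k => k ≫ fst X X) h1
  simpa using h2

/-- left division `a \ c` -/
noncomputable def dl {T : C} (a c : T ⟶ X) : T ⟶ X := lift a c ≫ inv (shl P) ≫ snd X X

/-- right division `c / a` -/
noncomputable def dr {T : C} (c a : T ⟶ X) : T ⟶ X := lift c a ≫ inv (shr P) ≫ fst X X

theorem mul_dl {T : C} (a c : T ⟶ X) : mul P a (dl P a c) = c := by
  have hw : (lift a c ≫ inv (shl P)) ≫ shl P = lift a c := by
    rw [Category.assoc, IsIso.inv_hom_id, Category.comp_id]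
  have hw1 : (lift a c ≫ inv (shl P)) ≫ fst X X = a := by
    have := congrArg (fun k => k ≫ fst X X) hw
    simp only [Category.assoc] at this
    unfold shl at this
    rw [lift_fst, lift_fst] at this
    rw [Category.assoc]
    exact this
  have hw2 : (lift a c ≫ inv (shl P)) ≫ P = c := by
    have := congrArg (fun k => k ≫ snd X X) hw
    simp only [Category.assoc] at this
    unfold shl at this
    rw [lift_snd, lift_snd] at this
    rw [Category.assoc]
    exact this
  unfold mul dl
  have h3 : lift a (lift a c ≫ inv (shl P) ≫ snd X X) = lift a c ≫ inv (shl P) := by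
    apply CartesianMonoidalCategory.hom_ext
    · rw [lift_fst, hw1]
    · rw [lift_snd, Category.assoc]
  rw [h3, hw2]

theorem dr_mul {T : C} (c a : T ⟶ X) : mul P (dr P c a) a = c := by
  have hw : (lift c a ≫ inv (shr P)) ≫ shr P = lift c a := by
    rw [Category.assoc, IsIso.inv_hom_id, Category.comp_id]
  have hw1 : (lift c a ≫ inv (shr P)) ≫ snd X X = a := by
    have := congrArg (fun k => k ≫ snd X X) hw
    simp only [Category.assoc] at this
    unfold shr at this
    rw [lift_snd, lift_snd] at this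
    rw [Category.assoc]
    exact this
  have hw2 : (lift c a ≫ inv (shr P)) ≫ P = c := by
    have := congrArg (fun k => k ≫ fst X X) hw
    simp only [Category.assoc] at this
    unfold shr at this
    rw [lift_fst, lift_fst] at this
    rw [Category.assoc]
    exact this
  unfold mul dr
  have h3 : lift (lift c a ≫ inv (shr P) ≫ fst X X) a = lift c a ≫ inv (shr P) := by
    apply CartesianMonoidalCategory.hom_ext
    · rw [lift_fst, Category.assoc]
    · rw [lift_snd, hw1]
  rw [h3, hw2]

/-- the local right unit `x ↦ x \ x` -/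
noncomputable def eR : X ⟶ X := dl P (𝟙 X) (𝟙 X)

/-- the local left unit `x ↦ x / x` -/
noncomputable def eL : X ⟶ X := dr P (𝟙 X) (𝟙 X)

theorem mul_eR {T : C} (a : T ⟶ X) : mul P a (a ≫ eR P) = a := by
  have h := mul_dl P (𝟙 X) (𝟙 X)
  have h2 := congrArg (fun k => a ≫ k) h
  simp only [comp_mul, Category.comp_id] at h2
  exact h2

theorem eL_mul {T : C} (a : T ⟶ X) : mul P (a ≫ eL P) a = a := by
  have h := dr_mul P (𝟙 X) (𝟙 X)
  have h2 := congrArg (fun k => a ≫ k) h
  simp only [comp_mul, Category.comp_id] at h2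
  exact h2

include hassoc in
theorem mul_eR' {T : C} (a b : T ⟶ X) : mul P b (a ≫ eR P) = b := by
  have h1 := dr_mul P b a
  conv_lhs => rw [← h1]
  rw [mul_assoc P hassoc, mul_eR, h1]

include hassoc in
theorem eL_mul' {T : C} (a b : T ⟶ X) : mul P (a ≫ eL P) b = b := by
  have h1 := mul_dl P a b
  conv_lhs => rw [← h1]
  rw [← mul_assoc P hassoc, eL_mul, h1]

include hassoc in
theorem eL_eq_eR {T : C} (a b : T ⟶ X) : a ≫ eL P = b ≫ eR P := by
  have h1 := mul_eR' P hassoc b (a ≫ eL P)
  have h2 := eL_mul' P hassoc a (b ≫ eR P)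
  rw [← h1, h2]

include hassoc in
theorem eR_const {T : C} (a b : T ⟶ X) : a ≫ eR P = b ≫ eR P := by
  rw [← eL_eq_eR P hassoc a a, eL_eq_eR P hassoc a b]

/-- the local inverse -/
noncomputable def invP : X ⟶ X := dl P (𝟙 X) (eR P)

theorem mul_invP {T : C} (a : T ⟶ X) : mul P a (a ≫ invP P) = a ≫ eR P := by
  have h := mul_dl P (𝟙 X) (eR P)
  have h2 := congrArg (fun k => a ≫ k) h
  simp only [comp_mul, Category.comp_id] at h2
  exact h2

include hassoc in
theorem invP_mul {T : C} (a : T ⟶ X) : mul P (a ≫ invP P) a = a ≫ eR P := by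
  apply mul_left_cancel P a
  rw [← mul_assoc P hassoc, mul_invP, mul_eR, ← eL_eq_eR P hassoc a a, eL_mul]

end Cancel

section Grp

variable [IsIso (shl P)] [IsIso (shr P)] (e : 𝟙_ C ⟶ X) (he : toUnit X ≫ e = eR P)

include he in
theorem unit_eq {T : C} (a : T ⟶ X) : toUnit T ≫ e = a ≫ eR P := by
  rw [← he, ← Category.assoc]
  congr 1
  exact (toUnit_unique _ _)

/-- the group object structure -/
noncomputable def grpObj : GrpObj X where
  one := e
  mul := P
  one_mul := by
    have h1 : (e ▷ X) = lift (fst (𝟙_ C) X ≫ e) (snd (𝟙_ C) X) := by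
      apply CartesianMonoidalCategory.hom_ext
      · rw [whiskerRight_fst, lift_fst]
      · rw [whiskerRight_snd, lift_snd]
    rw [h1, leftUnitor_hom]
    have h2 : fst (𝟙_ C) X ≫ e = snd (𝟙_ C) X ≫ eR P := by
      rw [← unit_eq P e he (snd (𝟙_ C) X)]
      congr 1
      exact (toUnit_unique _ _)
    rw [h2, ← eL_eq_eR P hassoc (snd (𝟙_ C) X) (snd (𝟙_ C) X)]
    exact eL_mul P _
  mul_one := by
    have h1 : (X ◁ e) = lift (fst X (𝟙_ C)) (snd X (𝟙_ C) ≫ e) := by
      apply CartesianMonoidalCategory.hom_ext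
      · rw [whiskerLeft_fst, lift_fst]
      · rw [whiskerLeft_snd, lift_snd]
    rw [h1, rightUnitor_hom]
    have h2 : snd X (𝟙_ C) ≫ e = fst X (𝟙_ C) ≫ eR P := by
      rw [← unit_eq P e he (fst X (𝟙_ C))]
      congr 1
      exact (toUnit_unique _ _)
    rw [h2]
    exact mul_eR P _
  mul_assoc := hassoc
  inv := invP P
  left_inv := by
    have h := invP_mul P hassoc (𝟙 X)
    rw [Category.id_comp, Category.id_comp] at h
    rw [he]
    exact h
  right_inv := by
    have h := mul_invP P (𝟙 X)
    rw [Category.id_comp, Category.id_comp] at h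
    rw [he]
    exact h

end Grp

end Groth.Agent.Lead.SemiGrp
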