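import Mathlib
import Groth.Prelude.Def_Red2
import Groth.Agent.Lib.Lead.SemiGrp
import Groth.Agent.Lib.Lead.NilIso

/-!
# An associative law on a flat scheme which is a group law modulo a nilpotent ideal is a group law
(lead)
-/

set_option autoImplicit false
universe u
open CategoryTheory CategoryTheory.Limits AlgebraicGeometry MonoidalCategory
  CartesianMonoidalCategory MonObj

namespace Groth.Agent.Lead.AssocGrp

open Groth.Agent.Lead.SemiGrp (shl shr)
open Groth.Agent.Lead.NilIso (mI)

section Shear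

variable {C : Type*} [Category C] [CartesianMonoidalCategory C] (G : C) [GrpObj G]

theorem isIso_shl : IsIso (shl μ[G]) := by
  refine ⟨lift (fst G G) ((fst G G)⁻¹ * snd G G), ?_, ?_⟩
  · unfold shl
    apply CartesianMonoidalCategory.hom_ext
    · rw [Category.assoc, lift_fst, lift_fst, Category.id_comp]
    · rw [Category.assoc, lift_snd, MonObj.comp_mul, GrpObj.comp_inv, lift_fst, lift_snd,
        Category.id_comp, MonObj.mul_eq_mul, inv_mul_cancel_left]
  · unfold shl
    apply CartesianMonoidalCategory.hom_ext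
    · rw [Category.assoc, lift_fst, lift_fst, Category.id_comp]
    · rw [Category.assoc, lift_snd, Category.id_comp, MonObj.mul_eq_mul, MonObj.comp_mul,
        lift_fst, lift_snd, mul_inv_cancel_left]

theorem isIso_shr : IsIso (shr μ[G]) := by
  refine ⟨lift (fst G G * (snd G G)⁻¹) (snd G G), ?_, ?_⟩
  · unfold shr
    apply CartesianMonoidalCategory.hom_ext
    · rw [Category.assoc, lift_fst, MonObj.comp_mul, GrpObj.comp_inv, lift_fst, lift_snd,
        Category.id_comp, MonObj.mul_eq_mul, mul_inv_cancel_right]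
    · rw [Category.assoc, lift_snd, lift_snd, Category.id_comp]
  · unfold shr
    apply CartesianMonoidalCategory.hom_ext
    · rw [Category.assoc, lift_fst, Category.id_comp, MonObj.mul_eq_mul, MonObj.comp_mul,
        lift_fst, lift_snd, inv_mul_cancel_right]
    · rw [Category.assoc, lift_snd, lift_snd, Category.id_comp]

end Shear

section Fun

variable {C D : Type*} [Category C] [Category D] [CartesianMonoidalCategory C]
  [CartesianMonoidalCategory D] (F : C ⥤ D) [F.Monoidal] {X : C} (P : X ⊗ X ⟶ X)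

theorem map_hom_ext {T : D} (a b : T ⟶ F.obj (X ⊗ X))
    (h1 : a ≫ F.map (fst X X) = b ≫ F.map (fst X X))
    (h2 : a ≫ F.map (snd X X) = b ≫ F.map (snd X X)) : a = b := by
  rw [← cancel_mono (Functor.Monoidal.μIso F X X).inv]
  apply CartesianMonoidalCategory.hom_ext
  · have e1 : (Functor.Monoidal.μIso F X X).inv ≫ fst (F.obj X) (F.obj X) = F.map (fst X X) := by
      rw [Iso.inv_comp_eq]
      exact (Functor.Monoidal.μ_fst F X X).symm
    rw [Category.assoc, Category.assoc, e1, h1]
  · have e2 : (Functor.Monoidal.μIso F X X).inv ≫ snd (F.obj X) (F.obj X) = F.map (snd X X) := by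
      rw [Iso.inv_comp_eq]
      exact (Functor.Monoidal.μ_snd F X X).symm
    rw [Category.assoc, Category.assoc, e2, h2]

theorem map_shl : Functor.LaxMonoidal.μ F X X ≫ F.map (shl P) =
    shl (Functor.LaxMonoidal.μ F X X ≫ F.map P) ≫ Functor.LaxMonoidal.μ F X X := by
  apply map_hom_ext F
  · unfold shl
    rw [Category.assoc, ← F.map_comp, lift_fst, Category.assoc, Functor.Monoidal.μ_fst,
      lift_fst]
  · unfold shl
    rw [Category.assoc, ← F.map_comp, lift_snd, Category.assoc, Functor.Monoidal.μ_snd,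
      lift_snd]

theorem map_shr : Functor.LaxMonoidal.μ F X X ≫ F.map (shr P) =
    shr (Functor.LaxMonoidal.μ F X X ≫ F.map P) ≫ Functor.LaxMonoidal.μ F X X := by
  apply map_hom_ext F
  · unfold shr
    rw [Category.assoc, ← F.map_comp, lift_fst, Category.assoc, Functor.Monoidal.μ_fst,
      lift_fst]
  · unfold shr
    rw [Category.assoc, ← F.map_comp, lift_snd, Category.assoc, Functor.Monoidal.μ_snd,
      lift_snd]

theorem isIso_map_shl [IsIso (shl (Functor.LaxMonoidal.μ F X X ≫ F.map P))] :
    IsIso (F.map (shl P)) := by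
  have h := map_shl F P
  have h2 : F.map (shl P) = (Functor.Monoidal.μIso F X X).inv ≫
      shl (Functor.LaxMonoidal.μ F X X ≫ F.map P) ≫ Functor.LaxMonoidal.μ F X X := by
    rw [← h, ← Category.assoc]
    have : (Functor.Monoidal.μIso F X X).inv ≫ Functor.LaxMonoidal.μ F X X = 𝟙 _ :=
      (Functor.Monoidal.μIso F X X).inv_hom_id
    rw [this, Category.id_comp]
  rw [h2]
  haveI : IsIso (Functor.LaxMonoidal.μ F X X) :=
    inferInstanceAs (IsIso (Functor.Monoidal.μIso F X X).hom)
  infer_instance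

theorem isIso_map_shr [IsIso (shr (Functor.LaxMonoidal.μ F X X ≫ F.map P))] :
    IsIso (F.map (shr P)) := by
  have h := map_shr F P
  have h2 : F.map (shr P) = (Functor.Monoidal.μIso F X X).inv ≫
      shr (Functor.LaxMonoidal.μ F X X ≫ F.map P) ≫ Functor.LaxMonoidal.μ F X X := by
    rw [← h, ← Category.assoc]
    have : (Functor.Monoidal.μIso F X X).inv ≫ Functor.LaxMonoidal.μ F X X = 𝟙 _ :=
      (Functor.Monoidal.μIso F X X).inv_hom_id
    rw [this, Category.id_comp]
  rw [h2]
  haveI : IsIso (Functor.LaxMonoidal.μ F X X) :=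
    inferInstanceAs (IsIso (Functor.Monoidal.μIso F X X).hom)
  infer_instance

end Fun

section Main

variable (R : Type u) [CommRing R] (I : Ideal R) (hI : IsNilpotent I)
  (X : Over (Spec (CommRingCat.of R))) [Flat X.hom]
  (hX : QuasiCompact X.hom ∨ LocallyOfFinitePresentation X.hom) (P : X ⊗ X ⟶ X)
  (hassoc : (P ▷ X) ≫ P = (α_ X X X).hom ≫ (X ◁ P) ≫ P)
  (h0 : ∃ _ : GrpObj ((Over.pullback (mI I)).obj X),
    μ[(Over.pullback (mI I)).obj X] =
      Functor.LaxMonoidal.μ (Over.pullback (mI I)) X X ≫ (Over.pullback (mI I)).map P)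

include hI hX hassoc h0 in
theorem main : ∃ _ : GrpObj X, μ[X] = P := by
  obtain ⟨instG, hμ⟩ := h0
  -- the shear maps are isomorphisms modulo `I`
  haveI i1 : IsIso (shl (Functor.LaxMonoidal.μ (Over.pullback (mI I)) X X ≫
      (Over.pullback (mI I)).map P)) := by
    rw [← hμ]
    exact isIso_shl _
  haveI i2 : IsIso (shr (Functor.LaxMonoidal.μ (Over.pullback (mI I)) X X ≫
      (Over.pullback (mI I)).map P)) := by
    rw [← hμ]
    exact isIso_shr _
  haveI i3 : IsIso ((Over.pullback (mI I)).map (shl P)) := isIso_map_shl _ P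
  haveI i4 : IsIso ((Over.pullback (mI I)).map (shr P)) := isIso_map_shr _ P
  haveI i5 : Flat (X ⊗ X).hom := by
    show Flat (pullback.fst X.hom X.hom ≫ X.hom)
    infer_instance
  haveI i6 : IsIso (shl P) := NilIso.isIso_of_isIso_map I (X ⊗ X) (X ⊗ X) (shl P) hI
  haveI i7 : IsIso (shr P) := NilIso.isIso_of_isIso_map I (X ⊗ X) (X ⊗ X) (shr P) hI
  -- surjectivity of the structure map
  haveI hsurj : Surjective X.hom := by
    haveI := NilIso.surjective_mI I hI
    constructor
    intro s
    obtain ⟨s₀, rfl⟩ := (mI I).surjective s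
    refine ⟨(pullback.fst X.hom (mI I)).base
      ((η[(Over.pullback (mI I)).obj X]).left.base s₀), ?_⟩
    have h1 : (η[(Over.pullback (mI I)).obj X]).left ≫ pullback.snd X.hom (mI I) = 𝟙 _ :=
      Over.w (η[(Over.pullback (mI I)).obj X])
    have h2 : (η[(Over.pullback (mI I)).obj X]).left ≫ pullback.fst X.hom (mI I) ≫ X.hom =
        mI I := by
      rw [pullback.condition, ← Category.assoc, h1, Category.id_comp]
    have h3 := congrArg (fun k => k.base s₀) h2
    exact h3
  haveI hepi : EffectiveEpi X.hom := by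
    rcases hX with h | h
    · infer_instance
    · infer_instance
  -- descent of the local unit
  have hcompat : ∀ {Z : Scheme.{u}} (g₁ g₂ : Z ⟶ X.left), g₁ ≫ X.hom = g₂ ≫ X.hom →
      g₁ ≫ (SemiGrp.eR P).left = g₂ ≫ (SemiGrp.eR P).left := by
    intro Z g₁ g₂ h12
    let a : Over.mk (g₁ ≫ X.hom) ⟶ X := Over.homMk g₁ rfl
    let b : Over.mk (g₁ ≫ X.hom) ⟶ X := Over.homMk g₂ h12.symm
    have h := SemiGrp.eR_const P hassoc a b
    exact congrArg (fun k => k.left) h
  let e₀ : Spec (CommRingCat.of R) ⟶ X.left :=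
    EffectiveEpi.desc X.hom (SemiGrp.eR P).left hcompat
  have hfac : X.hom ≫ e₀ = (SemiGrp.eR P).left := EffectiveEpi.fac X.hom _ hcompat
  have he₀ : e₀ ≫ X.hom = 𝟙 _ := by
    rw [← cancel_epi X.hom, ← Category.assoc, hfac, Over.w (SemiGrp.eR P), Category.comp_id]
  let e : 𝟙_ (Over (Spec (CommRingCat.of R))) ⟶ X := Over.homMk e₀ he₀
  have he : toUnit X ≫ e = SemiGrp.eR P := by
    apply Over.OverMorphism.ext
    exact hfac
  exact ⟨SemiGrp.grpObj P hassoc e he, rfl⟩

end Main

end Groth.Agent.Lead.AssocGrp
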