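import Mathlib

set_option autoImplicit false
universe u
open CategoryTheory AlgebraicGeometry TopologicalSpace Opposite HomogeneousLocalization

namespace Groth.Agent.Lead.AwayApp

variable {R A : Type u} [CommRing R] [CommRing A] [Algebra R A] (𝒜 : ℕ → Submodule R A)
  [GradedAlgebra 𝒜]

theorem awayι_preimage_self {m : ℕ} (f : A) (hf : f ∈ 𝒜 m) (hm : 0 < m) :
    (Proj.awayι 𝒜 f hf hm) ⁻¹ᵁ (Proj.basicOpen 𝒜 f) = ⊤ := by
  rw [← Proj.opensRange_awayι 𝒜 f hf hm]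
  exact Scheme.Hom.preimage_opensRange _

theorem id_appLE_top {Y : Scheme.{u}} (g : Y ⟶ Y) (hg : g = 𝟙 Y) (h : (⊤ : Y.Opens) ≤ g ⁻¹ᵁ ⊤) :
    g.appLE ⊤ ⊤ h = 𝟙 _ := by
  subst hg
  rw [Scheme.Hom.appLE, Scheme.Hom.id_app]
  exact (Y.presheaf.map_id _)

/-- generalities: an iso of schemes -/
theorem iso_app_appLE {X Y : Scheme.{u}} (e : X ≅ Y) (V : X.Opens)
    (h : (⊤ : Y.Opens) ≤ e.inv ⁻¹ᵁ V) :
    e.hom.appTop ≫ X.presheaf.map (homOfLE (le_top : V ≤ ⊤)).op ≫ e.inv.appLE V ⊤ h = 𝟙 _ := by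
  rw [Scheme.Hom.map_appLE]
  refine (Scheme.Hom.comp_appLE e.inv e.hom ⊤ ⊤ (by simp)).symm.trans ?_
  exact id_appLE_top _ e.inv_hom_id _

theorem key {m : ℕ} (f : A) (hf : f ∈ 𝒜 m) (hm : 0 < m) :
    Proj.awayToSection 𝒜 f ≫ (Proj.awayι 𝒜 f hf hm).appLE (Proj.basicOpen 𝒜 f) ⊤
      (by rw [awayι_preimage_self]) = (Scheme.ΓSpecIso (CommRingCat.of (Away 𝒜 f))).inv := by
  set U := Proj.basicOpen 𝒜 f with hU
  set e := Proj.basicOpenIsoSpec 𝒜 f hf hm with he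
  have hB : Proj.awayToSection 𝒜 f ≫ U.topIso.inv = (Scheme.ΓSpecIso _).inv ≫ e.hom.appTop := by
    have h1 := Proj.basicOpenToSpec_app_top 𝒜 f
    have h2 : e.hom.appTop = (Proj.basicOpenToSpec 𝒜 f).app ⊤ := rfl
    rw [h2, h1]
    simp
  have hA : (Proj.awayι 𝒜 f hf hm).appLE U ⊤ (by rw [awayι_preimage_self]) =
      U.ι.app U ≫ e.inv.appLE (U.ι ⁻¹ᵁ U) ⊤ (by rw [Scheme.Opens.ι_preimage_self]; exact le_top) :=
    Scheme.Hom.comp_appLE e.inv U.ι U ⊤ _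
  have hC : U.ι.app U = U.topIso.inv ≫
      (U : Scheme.{u}).presheaf.map (homOfLE (le_top : U.ι ⁻¹ᵁ U ≤ ⊤)).op := by
    rw [Scheme.Opens.ι_app]
    simp only [Scheme.Opens.topIso, Scheme.Opens.toScheme_presheaf_map]
    rfl
  calc Proj.awayToSection 𝒜 f ≫ (Proj.awayι 𝒜 f hf hm).appLE U ⊤ _
      = Proj.awayToSection 𝒜 f ≫ (U.topIso.inv ≫
          (U : Scheme.{u}).presheaf.map (homOfLE (le_top : U.ι ⁻¹ᵁ U ≤ ⊤)).op) ≫
          e.inv.appLE (U.ι ⁻¹ᵁ U) ⊤ (by rw [Scheme.Opens.ι_preimage_self]; exact le_top) := by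
        rw [hA, hC]
    _ = (Proj.awayToSection 𝒜 f ≫ U.topIso.inv) ≫
          (U : Scheme.{u}).presheaf.map (homOfLE (le_top : U.ι ⁻¹ᵁ U ≤ ⊤)).op ≫
          e.inv.appLE (U.ι ⁻¹ᵁ U) ⊤ (by rw [Scheme.Opens.ι_preimage_self]; exact le_top) := by
        simp only [Category.assoc]
    _ = (Scheme.ΓSpecIso _).inv ≫ (e.hom.appTop ≫
          (U : Scheme.{u}).presheaf.map (homOfLE (le_top : U.ι ⁻¹ᵁ U ≤ ⊤)).op ≫
          e.inv.appLE (U.ι ⁻¹ᵁ U) ⊤ (by rw [Scheme.Opens.ι_preimage_self]; exact le_top)) := by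
        rw [hB]; simp only [Category.assoc]
    _ = (Scheme.ΓSpecIso _).inv := by
        rw [iso_app_appLE e]; exact Category.comp_id _

/-- the chart pulls `awayToSection z` back to `z` -/
theorem awayι_appLE_awayToSection {m : ℕ} (f : A) (hf : f ∈ 𝒜 m) (hm : 0 < m) (z : Away 𝒜 f) :
    ((Proj.awayι 𝒜 f hf hm).appLE (Proj.basicOpen 𝒜 f) ⊤
      (by rw [awayι_preimage_self]) ).hom ((Proj.awayToSection 𝒜 f).hom z) =
      (Scheme.ΓSpecIso (CommRingCat.of (Away 𝒜 f))).inv.hom z :=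
  congrArg (fun g => g.hom z) (key 𝒜 f hf hm)

end Groth.Agent.Lead.AwayApp
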