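import Mathlib
import Groth.Agent.Lib.Lead.AzReg4

/-!
# Étale algebras over a field are separable
-/

set_option autoImplicit false

namespace Groth.Agent.Lead.AzReg

open Polynomial Module

universe u v w

theorem isSeparable_pi {K : Type u} [Field K] {I : Type v} [Finite I] (Ai : I → Type w)
    [∀ i, Field (Ai i)] [∀ i, Algebra K (Ai i)] (h : ∀ i, Algebra.IsSeparable K (Ai i)) :
    Algebra.IsSeparable K (Π i, Ai i) := by
  classical
  cases nonempty_fintype I
  refine ⟨fun y => ?_⟩
  change (minpoly K y).Separable
  have hint : ∀ i, IsIntegral K (y i) := fun i => Algebra.IsSeparable.isIntegral K (y i)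
  let S : Finset K[X] := Finset.univ.image (fun i => minpoly K (y i))
  have hS : ∀ p ∈ S, ∃ i, p = minpoly K (y i) := by
    intro p hp
    obtain ⟨i, -, rfl⟩ := Finset.mem_image.mp hp
    exact ⟨i, rfl⟩
  have hPsep : (∏ p ∈ S, p).Separable := by
    apply separable_prod' (f := fun p => p)
    · intro p hp q hq hpq
      obtain ⟨i, rfl⟩ := hS p hp
      obtain ⟨j, rfl⟩ := hS q hq
      rw [(minpoly.irreducible (hint i)).coprime_iff_not_dvd]
      intro hdvd
      apply hpq
      have hassoc : Associated (minpoly K (y i)) (minpoly K (y j)) :=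
        (minpoly.irreducible (hint i)).associated_of_dvd (minpoly.irreducible (hint j)) hdvd
      exact eq_of_monic_of_associated (minpoly.monic (hint i)) (minpoly.monic (hint j)) hassoc
    · intro p hp
      obtain ⟨i, rfl⟩ := hS p hp
      exact Algebra.IsSeparable.isSeparable K (y i)
  have hP0 : aeval y (∏ p ∈ S, p) = 0 := by
    funext i
    have h1 := aeval_algHom_apply (Pi.evalAlgHom K Ai i) y (∏ p ∈ S, p)
    rw [Pi.evalAlgHom_apply, Pi.evalAlgHom_apply] at h1
    rw [← h1]
    have hdvd : minpoly K (y i) ∣ ∏ p ∈ S, p :=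
      Finset.dvd_prod_of_mem _ (Finset.mem_image.mpr ⟨i, Finset.mem_univ _, rfl⟩)
    obtain ⟨q, hq⟩ := hdvd
    rw [hq, map_mul, minpoly.aeval, zero_mul]
    rfl
  exact hPsep.of_dvd (minpoly.dvd K y hP0)

/-- an algebra étale over a field is separable in the sense that every element has separable
minimal polynomial -/
theorem isSeparable_of_formallyEtale (K : Type u) [Field K] (E : Type v) [CommRing E] [Algebra K E]
    [Algebra.EssFiniteType K E] [Algebra.FormallyEtale K E] : Algebra.IsSeparable K E := by
  obtain ⟨I, _, Ai, _, _, e, hsep⟩ :=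
    (Algebra.FormallyEtale.iff_exists_algEquiv_prod K E).mp inferInstance
  have h1 := isSeparable_pi Ai hsep
  refine ⟨fun z => ?_⟩
  change (minpoly K z).Separable
  rw [← minpoly.algEquiv_eq e z]
  exact Algebra.IsSeparable.isSeparable K (e z)

/-- if `x` has a separable minimal polynomial, so has every polynomial in `x` -/
theorem separable_aeval_of_separable {K : Type u} [Field K] {A : Type v} [Ring A] [Algebra K A]
    (x : A) (hint : IsIntegral K x) (hsep : (minpoly K x).Separable) (g : K[X]) :
    (minpoly K (aeval x g)).Separable := by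
  have hmonic := minpoly.monic hint
  have : Algebra.Etale K (AdjoinRoot (minpoly K x)) := etale_adjoinRoot _ hmonic hsep
  have hE : Algebra.IsSeparable K (AdjoinRoot (minpoly K x)) := isSeparable_of_formallyEtale K _
  have hvan : ∀ a : K[X], a ∈ Ideal.span {minpoly K x} → (aeval x : K[X] →ₐ[K] A) a = 0 := by
    intro a ha
    obtain ⟨b, rfl⟩ := Ideal.mem_span_singleton'.mp ha
    rw [map_mul, minpoly.aeval, mul_zero]
  let ψ : AdjoinRoot (minpoly K x) →ₐ[K] A :=
    Ideal.Quotient.liftₐ (Ideal.span {minpoly K x}) (aeval x) hvan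
  have hψ : ψ (AdjoinRoot.mk (minpoly K x) g) = aeval x g := rfl
  have h1 : (minpoly K (AdjoinRoot.mk (minpoly K x) g)).Separable :=
    Algebra.IsSeparable.isSeparable K _
  apply h1.of_dvd
  apply minpoly.dvd
  rw [← hψ, aeval_algHom_apply, minpoly.aeval, map_zero]

theorem isSeparable_adjoin_singleton {K : Type u} [Field K] {A : Type v} [Ring A] [Algebra K A]
    (x : A) (hint : IsIntegral K x) (hsep : (minpoly K x).Separable) :
    Algebra.IsSeparable K (Algebra.adjoin K ({x} : Set A)) := by
  refine ⟨fun y => ?_⟩
  change (minpoly K y).Separable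
  obtain ⟨y, hy⟩ := y
  have hST : Function.Injective (Algebra.adjoin K ({x} : Set A)).val := Subtype.coe_injective
  rw [← minpoly.algHom_eq (Algebra.adjoin K ({x} : Set A)).val hST]
  change (minpoly K y).Separable
  rw [Algebra.adjoin_singleton_eq_range_aeval] at hy
  obtain ⟨g, rfl⟩ := (Polynomial.aeval x).mem_range.mp hy
  exact separable_aeval_of_separable x hint hsep g

end Groth.Agent.Lead.AzReg
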