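import Mathlib
import Groth.Agent.Lib.Lead.BL6

namespace Groth.Agent.Lead.BL

open TensorProduct

universe u

variable {R R' : Type u} [CommRing R] [CommRing R'] [Algebra R R'] {f : R}
  {M N : Type u} [AddCommGroup M] [Module R M] [AddCommGroup N] [Module R N]

theorem hom_glue (hN : EtGlue.IsGlueable R R' f N)
    (φ' : R' ⊗[R] M →ₗ[R'] R' ⊗[R] N)
    (φ₁ : LocalizedModule (Submonoid.powers f) M →ₗ[R] LocalizedModule (Submonoid.powers f) N)
    (hc : ∀ m : M, EtGlue.locOfTensor R R' f N (φ' ((1 : R') ⊗ₜ[R] m)) =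
      EtGlue.tensorOfLoc R R' f N (φ₁ (LocalizedModule.mkLinearMap (Submonoid.powers f) M m))) :
    ∃! ψ : M →ₗ[R] N, ψ.baseChange R' = φ' ∧
      IsLocalizedModule.map (Submonoid.powers f) (LocalizedModule.mkLinearMap (Submonoid.powers f) M)
        (LocalizedModule.mkLinearMap (Submonoid.powers f) N) ψ = φ₁ := by
  obtain ⟨hinj, hmid⟩ := hN
  have hch : ∀ m : M, ∃ n : N, (1 : R') ⊗ₜ[R] n = φ' ((1 : R') ⊗ₜ[R] m) ∧
      LocalizedModule.mkLinearMap (Submonoid.powers f) N n =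
        φ₁ (LocalizedModule.mkLinearMap (Submonoid.powers f) M m) :=
    fun m => hmid _ _ (hc m)
  choose ψ₀ hψ1 hψ2 using hch
  have huniq : ∀ n₁ n₂ : N, (1 : R') ⊗ₜ[R] n₁ = (1 : R') ⊗ₜ[R] n₂ →
      LocalizedModule.mkLinearMap (Submonoid.powers f) N n₁ =
        LocalizedModule.mkLinearMap (Submonoid.powers f) N n₂ → n₁ = n₂ :=
    fun n₁ n₂ h1 h2 => hinj (Prod.ext h1 h2)
  let ψ : M →ₗ[R] N :=
    { toFun := ψ₀
      map_add' := fun a b => by
        apply huniq
        · rw [tmul_add, hψ1, hψ1, hψ1, tmul_add, map_add]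
        · rw [map_add, hψ2, hψ2, hψ2, map_add, map_add]
      map_smul' := fun r a => by
        apply huniq
        · rw [RingHom.id_apply, tmul_smul, hψ1, hψ1, tmul_smul, ← algebraMap_smul R' r,
            ← algebraMap_smul R' r (φ' _), map_smul]
        · rw [RingHom.id_apply, map_smul, hψ2, hψ2, map_smul, map_smul] }
  have hψ : ∀ m, ψ m = ψ₀ m := fun m => rfl
  refine ⟨ψ, ⟨?_, ?_⟩, ?_⟩
  · apply TensorProduct.AlgebraTensorModule.ext
    intro r' m
    rw [LinearMap.baseChange_tmul, hψ, ← mul_one r', ← smul_eq_mul, ← smul_tmul', ← smul_tmul',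
      map_smul, hψ1]
  · apply IsLocalizedModule.linearMap_ext (Submonoid.powers f)
      (LocalizedModule.mkLinearMap (Submonoid.powers f) M)
      (LocalizedModule.mkLinearMap (Submonoid.powers f) N)
    ext m
    rw [LinearMap.comp_apply, IsLocalizedModule.map_apply, LinearMap.comp_apply, hψ, hψ2]
  · rintro ψ' ⟨h1, h2⟩
    ext m
    apply huniq
    · rw [hψ, hψ1, ← h1, LinearMap.baseChange_tmul]
    · rw [hψ, hψ2, ← h2, IsLocalizedModule.map_apply]

end Groth.Agent.Lead.BL
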