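import Mathlib

set_option autoImplicit false
universe u
open MvPolynomial

namespace Groth.Agent.Lead.BinForm

/-- exponent vectors of degree `d` in two variables -/
noncomputable def expEquiv (d : ℕ) : Fin (d + 1) ≃ ({s : Fin 2 →₀ ℕ | s.degree = d} : Set (Fin 2 →₀ ℕ)) where
  toFun i := ⟨Finsupp.single 0 i.1 + Finsupp.single 1 (d - i.1), by
    have := i.2
    simp only [Set.mem_setOf_eq, Finsupp.degree_eq_sum, Fin.sum_univ_two, Finsupp.add_apply,
      Finsupp.single_apply]
    simp
    omega⟩
  invFun s := ⟨s.1 0, by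
    have h := s.2
    simp only [Set.mem_setOf_eq, Finsupp.degree_eq_sum, Fin.sum_univ_two] at h
    omega⟩
  left_inv i := by
    apply Fin.ext
    simp
  right_inv s := by
    have h := s.2
    simp only [Set.mem_setOf_eq, Finsupp.degree_eq_sum, Fin.sum_univ_two] at h
    apply Subtype.ext
    ext j
    fin_cases j
    · simp
    · simp
      omega

variable (K : Type u) [Field K]

noncomputable instance (d : ℕ) : Fintype ({s : Fin 2 →₀ ℕ | s.degree = d} : Set (Fin 2 →₀ ℕ)) :=
  Fintype.ofEquiv _ (expEquiv d)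

theorem card_exp (d : ℕ) :
    Fintype.card ({s : Fin 2 →₀ ℕ | s.degree = d} : Set (Fin 2 →₀ ℕ)) = d + 1 := by
  rw [← Fintype.card_congr (expEquiv d), Fintype.card_fin]

theorem finrank_homog (d : ℕ) :
    Module.finrank K (homogeneousSubmodule (Fin 2) K d) = d + 1 := by
  rw [← card_exp d, ← Module.finrank_finsupp_self (R := K)]
  refine LinearEquiv.finrank_eq ?_
  rw [homogeneousSubmodule_eq_finsupp_supported]
  exact AddMonoidAlgebra.supportedEquivFinsupp _

instance finite_homog (d : ℕ) : Module.Finite K (homogeneousSubmodule (Fin 2) K d) := by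
  apply Module.finite_of_finrank_pos
  rw [finrank_homog]; omega

/-- multiplication of forms -/
noncomputable def mulMap (a b c : ℕ) (h : a + b = c) :
    homogeneousSubmodule (Fin 2) K a →ₗ[K] homogeneousSubmodule (Fin 2) K b →ₗ[K]
      homogeneousSubmodule (Fin 2) K c :=
  LinearMap.mk₂ K (fun g h' => ⟨g.1 * h'.1, h ▸ (IsHomogeneous.mul g.2 h'.2)⟩)
    (fun g₁ g₂ h' => Subtype.ext (by simp [add_mul]))
    (fun c g h' => Subtype.ext (by simp))
    (fun g h₁ h₂ => Subtype.ext (by simp [mul_add]))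
    (fun c g h' => Subtype.ext (by simp))

theorem main (n r k : ℕ)
    (hkn : k ≤ n) (hineq : (r + 1) * (n + 1) ≤ (r + 2) * k)
    (U : Submodule K (MvPolynomial (Fin 2) K))
    (hU : U ≤ MvPolynomial.homogeneousSubmodule (Fin 2) K n)
    (hcodim : Module.finrank K ↥U + (r + 1) = n + 1) :
    ∃ g ∈ MvPolynomial.homogeneousSubmodule (Fin 2) K k, g ≠ 0 ∧
      ∀ h ∈ MvPolynomial.homogeneousSubmodule (Fin 2) K (n - k), g * h ∈ U := by
  set W := homogeneousSubmodule (Fin 2) K n with hW
  set U' : Submodule K W := U.comap W.subtype with hU'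
  have hfU' : Module.finrank K U' = Module.finrank K U :=
    LinearEquiv.finrank_eq (Submodule.comapSubtypeEquivOfLe hU)
  have hQ : Module.finrank K (W ⧸ U') = r + 1 := by
    have h1 := Submodule.finrank_quotient_add_finrank U'
    rw [hfU', finrank_homog] at h1
    omega
  let Θ : homogeneousSubmodule (Fin 2) K k →ₗ[K] homogeneousSubmodule (Fin 2) K (n - k) →ₗ[K] (W ⧸ U') :=
    (mulMap K k (n - k) n (by omega)).compr₂ U'.mkQ
  have hlt : Module.finrank K (homogeneousSubmodule (Fin 2) K (n - k) →ₗ[K] (W ⧸ U')) <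
      Module.finrank K (homogeneousSubmodule (Fin 2) K k) := by
    rw [Module.finrank_linearMap, hQ, finrank_homog, finrank_homog]
    have : (n - k + 1) * (r + 1) + k * (r + 1) = (r + 1) * (n + 1) := by
      have : n - k + 1 + k = n + 1 := by omega
      rw [← add_mul, this, mul_comm]
    nlinarith
  have hker := LinearMap.ker_ne_bot_of_finrank_lt (f := Θ) hlt
  obtain ⟨g, hg, hg0⟩ := Submodule.exists_mem_ne_zero_of_ne_bot hker
  refine ⟨g.1, g.2, fun h0 => hg0 (Subtype.ext h0), fun h hh => ?_⟩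
  have h1 : Θ g ⟨h, hh⟩ = 0 := by
    rw [LinearMap.mem_ker] at hg
    rw [hg]; rfl
  have h2 : (mulMap K k (n - k) n (by omega) g ⟨h, hh⟩) ∈ U' := by
    have : U'.mkQ (mulMap K k (n - k) n (by omega) g ⟨h, hh⟩) = 0 := h1
    simpa using this
  exact h2

end Groth.Agent.Lead.BinForm
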