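import Mathlib
set_option backward.isDefEq.respectTransparency.types false
set_option autoImplicit false
set_option synthInstance.maxHeartbeats 400000
set_option maxHeartbeats 1000000
set_option linter.style.haveILetI false
set_option linter.unusedSectionVars false
set_option linter.unusedSimpArgs false

/-! # Ring theory for the fixed point theorem for `𝔾_a`, `𝔾_m` (lead) -/

namespace Groth.Agent.Lead.Borel

universe u

/-- a ring map from a discrete valuation ring to a domain not killing a uniformizer is injective -/
theorem dvr_hom_injective {R R' : Type*} [CommRing R] [IsDomain R] [IsDiscreteValuationRing R]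
    [CommRing R'] [IsDomain R'] (f : R →+* R') (ϖ : R) (hϖ : Irreducible ϖ) (hf : f ϖ ≠ 0) :
    Function.Injective f := by
  rw [injective_iff_map_eq_zero]
  intro x hx
  by_contra hx0
  obtain ⟨n, v, rfl⟩ := IsDiscreteValuationRing.eq_unit_mul_pow_irreducible hx0 hϖ
  rw [map_mul, map_pow] at hx
  rcases mul_eq_zero.mp hx with h | h
  · exact (v.isUnit.map f).ne_zero h
  · exact hf (pow_eq_zero_iff (n := n) (by
      rintro rfl
      simp at h) |>.mp h)

section PS

variable (k : Type u) [Field k] (B : Type u) [CommRing B] [Algebra k B]

open PowerSeries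

/-- substitution `X ↦ a` as a `k`-algebra map `k⟦X⟧ → B⟦X⟧` -/
noncomputable def rho (a : PowerSeries B) (ha : PowerSeries.constantCoeff a = 0) :
    PowerSeries k →ₐ[k] PowerSeries B :=
  PowerSeries.substAlgHom (HasSubst.of_constantCoeff_zero' ha)

theorem rho_X (a : PowerSeries B) (ha : PowerSeries.constantCoeff a = 0) :
    rho k B a ha (PowerSeries.X) = a :=
  PowerSeries.substAlgHom_X _

theorem constantCoeff_rho (a : PowerSeries B) (ha : PowerSeries.constantCoeff a = 0)
    (f : PowerSeries k) :
    PowerSeries.constantCoeff (rho k B a ha f) = algebraMap k B (PowerSeries.constantCoeff f) := by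
  have hdec : f = algebraMap k (PowerSeries k) (PowerSeries.constantCoeff f) +
      (f - PowerSeries.C (PowerSeries.constantCoeff f)) := by
    rw [PowerSeries.algebraMap_apply, Algebra.algebraMap_self, RingHom.id_apply]
    ring
  have h0 : PowerSeries.constantCoeff (f - PowerSeries.C (PowerSeries.constantCoeff f)) = 0 := by
    simp
  have h1 : PowerSeries.constantCoeff
      (rho k B a ha (f - PowerSeries.C (PowerSeries.constantCoeff f))) = 0 := by
    have := PowerSeries.constantCoeff_subst_eq_zero (R := k) (S := B) (τ := Unit) (a := a) ha
      (f - PowerSeries.C (PowerSeries.constantCoeff f)) h0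
    rw [rho, PowerSeries.coe_substAlgHom]
    exact this
  conv_lhs => rw [hdec]
  rw [map_add, map_add, h1, add_zero, AlgHom.commutes, PowerSeries.algebraMap_apply]
  simp

end PS

end Groth.Agent.Lead.Borel
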