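import Mathlib
import Groth.Prelude.Def_AlgGrp
import Groth.Agent.Lib.Lead.GaGmTriv
import Groth.Agent.Lib.Helper4.Act1
set_option backward.isDefEq.respectTransparency.types false
set_option autoImplicit false
set_option synthInstance.maxHeartbeats 400000
set_option maxHeartbeats 1000000
set_option linter.style.haveILetI false
set_option linter.unusedSectionVars false
set_option linter.unusedSimpArgs false

/-! # Geometric core of the fixed point theorem for `𝔾_a`, `𝔾_m` (lead) -/

namespace Groth.Agent.Lead.Borel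
open AlgebraicGeometry CategoryTheory Limits MonoidalCategory CartesianMonoidalCategory MonObj
open Groth.Agent.Lead.GaGmTriv

universe u

variable (k : Type u) [Field k]

/-- the base -/
noncomputable abbrev Sk : Scheme.{u} := Spec (CommRingCat.of k)

/-- affine test objects -/
noncomputable abbrev tk (B : Type u) [CommRing B] [Algebra k B] : Over (Sk k) :=
  tb (𝟙 (Sk k)) (algebraMap k B)

variable {k}

/-- morphisms of affine test objects -/
noncomputable abbrev tm {B B' : Type u} [CommRing B] [Algebra k B] [CommRing B'] [Algebra k B']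
    (f : B →ₐ[k] B') : tk k B' ⟶ tk k B :=
  tmor (𝟙 (Sk k)) (algebraMap k B) (algebraMap k B') f.toRingHom f.comp_algebraMap

section
variable {B B' B'' : Type u} [CommRing B] [Algebra k B] [CommRing B'] [Algebra k B']
  [CommRing B''] [Algebra k B'']

theorem tm_left (f : B →ₐ[k] B') : (tm f).left = Spec.map (CommRingCat.ofHom f.toRingHom) := rfl

theorem tm_comp (f : B →ₐ[k] B') (g : B' →ₐ[k] B'') : tm g ≫ tm f = tm (g.comp f) := by
  ext
  show Spec.map _ ≫ Spec.map _ = Spec.map _
  rw [← Spec.map_comp]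
  rfl

theorem tm_id : tm (AlgHom.id k B) = 𝟙 (tk k B) := by
  ext
  show Spec.map _ = 𝟙 _
  exact Spec.map_id _

theorem tm_congr {f g : B →ₐ[k] B'} (h : f = g) : tm f = tm g := by rw [h]

/-- the rational point of a test object given by an augmentation -/
noncomputable def pt (res : B →ₐ[k] k) : 𝟙_ (Over (Sk k)) ⟶ tk k B :=
  Over.homMk (Spec.map (CommRingCat.ofHom res.toRingHom)) (by
    show Spec.map _ ≫ Spec.map _ ≫ 𝟙 _ = 𝟙 _
    rw [Category.comp_id, ← Spec.map_comp]
    have : CommRingCat.ofHom (algebraMap k B) ≫ CommRingCat.ofHom res.toRingHom = 𝟙 _ := by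
      ext c
      exact res.commutes c
    rw [this]
    exact Spec.map_id _)

theorem tm_eq_toUnit_pt (f : B →ₐ[k] B') (res : B →ₐ[k] k)
    (h : f = (Algebra.ofId k B').comp res) : tm f = toUnit (tk k B') ≫ pt res := by
  subst h
  ext
  show Spec.map _ = (Spec.map _ ≫ 𝟙 _) ≫ Spec.map _
  rw [Category.comp_id, ← Spec.map_comp]
  rfl

end

section Ext

variable {X : Over (Sk k)} [IsProper X.hom]
variable (R : Type u) [CommRing R] [IsDomain R] [ValuationRing R] [Algebra k R]
  (K : Type u) [Field K] [Algebra R K] [Algebra k K] [IsScalarTower k R K] [IsFractionRing R K]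

/-- valuative criterion: a `K`-point of a proper `k`-scheme extends to an `R`-point -/
theorem exists_extension (φK : tk k K ⟶ X) :
    ∃ φR : tk k R ⟶ X, tm (IsScalarTower.toAlgHom k R K) ≫ φR = φK := by
  have hvc : ValuativeCriterion.Existence X.hom := by
    have h := (IsProper.eq_valuativeCriterion ▸ (inferInstance : IsProper X.hom) :
      (ValuativeCriterion ⊓ @QuasiCompact ⊓ @QuasiSeparated ⊓ @LocallyOfFiniteType) X.hom)
    exact h.1.1.1.existence
  have hsq : CommSq φK.left (Spec.map (CommRingCat.ofHom (algebraMap R K))) X.hom (tk k R).hom := by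
    constructor
    rw [Over.w φK]
    show Spec.map _ ≫ 𝟙 _ = Spec.map _ ≫ Spec.map _ ≫ 𝟙 _
    rw [← Category.assoc, ← Spec.map_comp]
    congr 2
    ext c
    exact IsScalarTower.algebraMap_apply k R K c
  let Sq : ValuativeCommSq X.hom :=
    { R := R, K := K, i₁ := φK.left, i₂ := (tk k R).hom, commSq := hsq }
  obtain ⟨⟨l⟩⟩ := hvc Sq
  refine ⟨Over.homMk l.l l.fac_right, ?_⟩
  ext
  exact l.fac_left

end Ext

section Act

variable {G X : Over (Sk k)} [GrpObj G] (a : AlgGrp.Action G X)

/-- acting on a point -/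
noncomputable abbrev actOn {T : Over (Sk k)} (g : T ⟶ G) (y : T ⟶ X) : T ⟶ X := lift g y ≫ a.act

theorem comp_actOn {T T' : Over (Sk k)} (f : T' ⟶ T) (g : T ⟶ G) (y : T ⟶ X) :
    f ≫ actOn a g y = actOn a (f ≫ g) (f ≫ y) := by
  show f ≫ lift g y ≫ a.act = lift (f ≫ g) (f ≫ y) ≫ a.act
  rw [← Category.assoc, comp_lift]

theorem mul_actOn {T : Over (Sk k)} (g h : T ⟶ G) (y : T ⟶ X) :
    actOn a (g * h) y = actOn a g (actOn a h y) :=
  Groth.Agent.Helper4.Act.mul_smul' a.act a.mul_act g h y

end Act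

section Core

variable {G X : Over (Sk k)} [GrpObj G] [IsSeparated X.hom] (a : AlgGrp.Action G X)
  (x₀ : 𝟙_ (Over (Sk k)) ⟶ X)

variable (R : Type u) [CommRing R] [IsDomain R] [Algebra k R] (res : R →ₐ[k] k)
  (K : Type u) [Field K] [Algebra R K] [Algebra k K] [IsScalarTower k R K]
  (gK : tk k K ⟶ G) (φR : tk k R ⟶ X)
  (hφR : tm (IsScalarTower.toAlgHom k R K) ≫ φR = actOn a gK (toUnit _ ≫ x₀))
  (B₀ R' : Type u) [CommRing B₀] [Algebra k B₀] [CommRing R'] [IsDomain R'] [Algebra k R']
  (K' : Type u) [Field K'] [Algebra R' K'] [Algebra k K'] [IsScalarTower k R' K']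
  (hinj : Function.Injective (algebraMap R' K'))
  (g₀ : tk k B₀ ⟶ G)
  (iR rR : R →ₐ[k] R') (sB : B₀ →ₐ[k] R') (pB : R' →ₐ[k] B₀)
  (hpi : pB.comp iR = (Algebra.ofId k B₀).comp res) (hpr : pB.comp rR = (Algebra.ofId k B₀).comp res)
  (hps : pB.comp sB = AlgHom.id k B₀)
  (iK rK : K →ₐ[k] K')
  (hiK : iK.comp (IsScalarTower.toAlgHom k R K) = (IsScalarTower.toAlgHom k R' K').comp iR)
  (hrK : rK.comp (IsScalarTower.toAlgHom k R K) = (IsScalarTower.toAlgHom k R' K').comp rR)
  (key : (tm ((IsScalarTower.toAlgHom k R' K').comp sB) ≫ g₀) * (tm iK ≫ gK) = tm rK ≫ gK)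

include hφR hinj hpi hpr hps hiK hrK key in
theorem core : actOn a g₀ (toUnit _ ≫ (pt res ≫ φR)) = toUnit _ ≫ (pt res ≫ φR) := by
  -- the two maps on `Spec R'`
  have hF : tm rR ≫ φR = actOn a (tm sB ≫ g₀) (tm iR ≫ φR) := by
    have hK' : tm (IsScalarTower.toAlgHom k R' K') ≫ (tm rR ≫ φR) =
        tm (IsScalarTower.toAlgHom k R' K') ≫ actOn a (tm sB ≫ g₀) (tm iR ≫ φR) := by
      have e1 : tm (IsScalarTower.toAlgHom k R' K') ≫ (tm rR ≫ φR) =
          actOn a (tm rK ≫ gK) (toUnit _ ≫ x₀) := by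
        rw [← Category.assoc, tm_comp, ← hrK, ← tm_comp, Category.assoc, hφR, comp_actOn,
          ← Category.assoc, toUnit_unique (tm rK ≫ toUnit _) (toUnit _)]
      have s1 : tm (IsScalarTower.toAlgHom k R' K') ≫ (tm sB ≫ g₀) =
          tm ((IsScalarTower.toAlgHom k R' K').comp sB) ≫ g₀ := by
        rw [← Category.assoc, tm_comp]
      have s2 : tm (IsScalarTower.toAlgHom k R' K') ≫ (tm iR ≫ φR) =
          actOn a (tm iK ≫ gK) (toUnit _ ≫ x₀) := by
        rw [← Category.assoc, tm_comp, ← hiK, ← tm_comp, Category.assoc, hφR, comp_actOn,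
          ← Category.assoc, toUnit_unique (tm iK ≫ toUnit _) (toUnit _)]
      have e2 : tm (IsScalarTower.toAlgHom k R' K') ≫ actOn a (tm sB ≫ g₀) (tm iR ≫ φR) =
          actOn a (tm rK ≫ gK) (toUnit _ ≫ x₀) := by
        rw [comp_actOn, s1, s2, ← mul_actOn, key]
      rw [e1, e2]
    have hdom : IsDominant (tm (IsScalarTower.toAlgHom k R' K')).left := by
      constructor
      show DenseRange (Spec.map (CommRingCat.ofHom (algebraMap R' K')))
      have h1 : DenseRange (PrimeSpectrum.comap (algebraMap R' K')) := by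
        rw [PrimeSpectrum.denseRange_comap_iff_ker_le_nilRadical]
        rw [(RingHom.injective_iff_ker_eq_bot _).mp hinj]
        exact bot_le
      exact h1
    haveI : IsReduced (tk k R').left := (inferInstance : IsReduced (Spec (CommRingCat.of R')))
    have hleft := ext_of_isDominant_of_isSeparated (f := (tm rR ≫ φR).left)
      (g := (actOn a (tm sB ≫ g₀) (tm iR ≫ φR)).left) X.hom
      (by rw [Over.w, Over.w]) (tm (IsScalarTower.toAlgHom k R' K')).left
      (by
        have := congrArg (fun m => m.left) hK'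
        simpa only [Over.comp_left] using this)
    exact Over.OverMorphism.ext hleft
  have h1 : tm pB ≫ (tm rR ≫ φR) = toUnit _ ≫ (pt res ≫ φR) := by
    rw [← Category.assoc, tm_comp, tm_eq_toUnit_pt _ res hpr, Category.assoc]
  have h2 : tm pB ≫ actOn a (tm sB ≫ g₀) (tm iR ≫ φR) =
      actOn a g₀ (toUnit _ ≫ (pt res ≫ φR)) := by
    rw [comp_actOn, ← Category.assoc, tm_comp, hps, tm_id, Category.id_comp, ← Category.assoc,
      tm_comp, tm_eq_toUnit_pt _ res hpi, Category.assoc]
  rw [← h2, ← hF, h1]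

end Core

end Groth.Agent.Lead.Borel
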