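import Mathlib
import Groth.Agent.Lib.Lead.BorelA
import Groth.Agent.Lib.Lead.BorelB
set_option backward.isDefEq.respectTransparency.types false
set_option autoImplicit false
set_option synthInstance.maxHeartbeats 400000
set_option maxHeartbeats 1000000
set_option linter.style.haveILetI false
set_option linter.unusedSectionVars false
set_option linter.unusedSimpArgs false

/-! # The power series instance of the core (lead) -/

namespace Groth.Agent.Lead.Borel
open AlgebraicGeometry CategoryTheory Limits MonoidalCategory CartesianMonoidalCategory MonObj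
open Groth.Agent.Lead.GaGmTriv

universe u

section Rings

variable (k : Type u) [Field k] (B : Type u) [CommRing B] [IsDomain B] [Algebra k B]

/-- the constant coefficient as an augmentation -/
noncomputable def resA : PowerSeries k →ₐ[k] k :=
  { (PowerSeries.constantCoeff : PowerSeries k →+* k) with
    commutes' := fun c => by
      show PowerSeries.constantCoeff (algebraMap k (PowerSeries k) c) = c
      rw [PowerSeries.algebraMap_apply]
      simp }

/-- the constant coefficient over `B` -/
noncomputable def pBA : PowerSeries B →ₐ[k] B :=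
  { (PowerSeries.constantCoeff : PowerSeries B →+* B) with
    commutes' := fun c => by
      show PowerSeries.constantCoeff (algebraMap k (PowerSeries B) c) = algebraMap k B c
      rw [PowerSeries.algebraMap_apply]
      simp }

/-- constants -/
noncomputable def sBA : B →ₐ[k] PowerSeries B :=
  { (PowerSeries.C : B →+* PowerSeries B) with
    commutes' := fun c => by
      show PowerSeries.C (algebraMap k B c) = algebraMap k (PowerSeries B) c
      rw [PowerSeries.algebraMap_apply] }

/-- the substitution `X ↦ X * v` -/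
noncomputable def rA (v : (PowerSeries B)ˣ) : PowerSeries k →ₐ[k] PowerSeries B :=
  rho k B (PowerSeries.X * (v : PowerSeries B)) (by simp)

theorem rA_X (v : (PowerSeries B)ˣ) : rA k B v PowerSeries.X = PowerSeries.X * (v : PowerSeries B) :=
  rho_X k B _ _

theorem pBA_rA (v : (PowerSeries B)ˣ) :
    (pBA k B).comp (rA k B v) = (Algebra.ofId k B).comp (resA k) := by
  ext f
  exact constantCoeff_rho k B (PowerSeries.X * (v : PowerSeries B)) (by simp) f

theorem pBA_sBA : (pBA k B).comp (sBA k B) = AlgHom.id k B := by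
  ext b
  show PowerSeries.constantCoeff (PowerSeries.C b) = b
  simp

theorem rA_injective (v : (PowerSeries B)ˣ) : Function.Injective (rA k B v) := by
  apply dvr_hom_injective (rA k B v).toRingHom PowerSeries.X PowerSeries.X_irreducible
  show rA k B v PowerSeries.X ≠ 0
  rw [rA_X]
  exact mul_ne_zero PowerSeries.X_ne_zero v.ne_zero

/-- the fraction fields -/
abbrev KK : Type u := FractionRing (PowerSeries k)
abbrev KB : Type u := FractionRing (PowerSeries B)

/-- the composite into the fraction field -/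
noncomputable def rAK (v : (PowerSeries B)ˣ) : PowerSeries k →ₐ[k] KB B :=
  (IsScalarTower.toAlgHom k (PowerSeries B) (KB B)).comp (rA k B v)

theorem rAK_injective (v : (PowerSeries B)ˣ) : Function.Injective (rAK k B v) :=
  (IsFractionRing.injective (PowerSeries B) (KB B)).comp (rA_injective k B v)

/-- the induced map of fraction fields -/
noncomputable def rK (v : (PowerSeries B)ˣ) : KK k →ₐ[k] KB B :=
  IsFractionRing.liftAlgHom (rAK_injective k B v)

theorem rK_algebraMap (v : (PowerSeries B)ˣ) (f : PowerSeries k) :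
    rK k B v (algebraMap (PowerSeries k) (KK k) f) =
      algebraMap (PowerSeries B) (KB B) (rA k B v f) :=
  IsFractionRing.lift_algebraMap (rAK_injective k B v) f

theorem rK_comp (v : (PowerSeries B)ˣ) :
    (rK k B v).comp (IsScalarTower.toAlgHom k (PowerSeries k) (KK k)) =
      (IsScalarTower.toAlgHom k (PowerSeries B) (KB B)).comp (rA k B v) := by
  ext f
  exact rK_algebraMap k B v f

end Rings

section Assemble

variable {k : Type u} [Field k] {G X : Over (Sk k)} [GrpObj G] (a : AlgGrp.Action G X)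

/-- fixedness may be tested on affine test objects -/
theorem fixed_of_affine (x : 𝟙_ (Over (Sk k)) ⟶ X)
    (H : ∀ (B : Type u) [CommRing B] [Algebra k B] (g : tk k B ⟶ G),
      actOn a g (toUnit _ ≫ x) = toUnit _ ≫ x) : a.IsFixedPt x := by
  intro T g
  apply Over.OverMorphism.ext
  apply Scheme.Cover.hom_ext T.left.affineCover
  intro i
  let U := T.left.affineCover.X i
  let A : CommRingCat.{u} := Γ(U, ⊤)
  let c : Spec A ⟶ T.left := U.isoSpec.inv ≫ T.left.affineCover.f i
  suffices hc : c ≫ (lift g (toUnit T ≫ x) ≫ a.act).left = c ≫ (toUnit T ≫ x).left by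
    have h2 := congrArg (fun m => U.isoSpec.hom ≫ m) hc
    simpa only [c, Category.assoc, Iso.hom_inv_id_assoc] using h2
  let β : CommRingCat.of k ⟶ A := Spec.preimage (c ≫ T.hom)
  have hβ : Spec.map β = c ≫ T.hom := Spec.map_preimage _
  letI : Algebra k A := β.hom.toAlgebra
  let e : tk k A ⟶ T := Over.homMk c (by
    show c ≫ T.hom = Spec.map (CommRingCat.ofHom (algebraMap k A)) ≫ 𝟙 _
    rw [Category.comp_id, ← hβ]
    rfl)
  have h1 : e ≫ (lift g (toUnit T ≫ x) ≫ a.act) = e ≫ (toUnit T ≫ x) := by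
    have := comp_actOn a e g (toUnit T ≫ x)
    rw [show lift g (toUnit T ≫ x) ≫ a.act = actOn a g (toUnit T ≫ x) from rfl, this,
      ← Category.assoc, toUnit_unique (e ≫ toUnit T) (toUnit _), H A (e ≫ g)]
  have h2 := congrArg (fun m => m.left) h1
  exact h2

variable [IsProper X.hom] (x₀ : 𝟙_ (Over (Sk k)) ⟶ X)

theorem core_ps (gK : tk k (KK k) ⟶ G) (φR : tk k (PowerSeries k) ⟶ X)
    (hφR : tm (IsScalarTower.toAlgHom k (PowerSeries k) (KK k)) ≫ φR = actOn a gK (toUnit _ ≫ x₀))
    (B : Type u) [CommRing B] [IsDomain B] [Algebra k B] (v : (PowerSeries B)ˣ) (g₀ : tk k B ⟶ G)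
    (key : (tm ((IsScalarTower.toAlgHom k (PowerSeries B) (KB B)).comp (sBA k B)) ≫ g₀) *
      (tm (rK k B 1) ≫ gK) = tm (rK k B v) ≫ gK) :
    actOn a g₀ (toUnit _ ≫ (pt (resA k) ≫ φR)) = toUnit _ ≫ (pt (resA k) ≫ φR) :=
  core a x₀ (PowerSeries k) (resA k) (KK k) gK φR hφR B (PowerSeries B) (KB B)
    (IsFractionRing.injective _ _) g₀ (rA k B 1) (rA k B v) (sBA k B) (pBA k B) (pBA_rA k B 1)
    (pBA_rA k B v) (pBA_sBA k B) (rK k B 1) (rK k B v) (rK_comp k B 1) (rK_comp k B v) key

include x₀ in
theorem assemble (gK : tk k (KK k) ⟶ G)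
    (B₀ : Type u) [CommRing B₀] [IsDomain B₀] [Algebra k B₀] (v : (PowerSeries B₀)ˣ)
    (g₀ : tk k B₀ ⟶ G)
    (key : (tm ((IsScalarTower.toAlgHom k (PowerSeries B₀) (KB B₀)).comp (sBA k B₀)) ≫ g₀) *
      (tm (rK k B₀ 1) ≫ gK) = tm (rK k B₀ v) ≫ gK)
    (huniv : ∀ (B : Type u) [CommRing B] [Algebra k B] (g : tk k B ⟶ G),
      ∃ f : B₀ →ₐ[k] B, g = tm f ≫ g₀) : ∃ x : 𝟙_ (Over (Sk k)) ⟶ X, a.IsFixedPt x := by
  obtain ⟨φR, hφR⟩ := exists_extension (PowerSeries k) (KK k) (actOn a gK (toUnit _ ≫ x₀))
  refine ⟨pt (resA k) ≫ φR, fixed_of_affine a _ ?_⟩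
  intro B _ _ g
  obtain ⟨f, rfl⟩ := huniv B g
  have h0 := core_ps a x₀ gK φR hφR B₀ v g₀ key
  have h1 : tm f ≫ actOn a g₀ (toUnit _ ≫ (pt (resA k) ≫ φR)) =
      tm f ≫ (toUnit _ ≫ (pt (resA k) ≫ φR)) := by rw [h0]
  rw [comp_actOn, ← Category.assoc, toUnit_unique (tm f ≫ toUnit _) (toUnit _)] at h1
  exact h1

end Assemble

end Groth.Agent.Lead.Borel
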