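import Mathlib
import Groth.Agent.Lib.Lead.BorelC
set_option backward.isDefEq.respectTransparency.types false
set_option autoImplicit false
set_option synthInstance.maxHeartbeats 400000
set_option maxHeartbeats 1000000
set_option linter.style.haveILetI false
set_option linter.unusedSectionVars false
set_option linter.unusedSimpArgs false

/-! # The additive group case (lead) -/

namespace Groth.Agent.Lead.Borel
open AlgebraicGeometry CategoryTheory Limits MonoidalCategory CartesianMonoidalCategory MonObj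
open Groth.Agent.Lead.GaGmTriv Groth.Agent.Lib.Helper6.GaGm

universe u

section Pts

variable {k : Type u} [Field k] {B B' : Type u} [CommRing B] [Algebra k B] [CommRing B'] [Algebra k B']

theorem fnB_mul (x y : tk k B ⟶ Red.Ga (Sk k)) :
    fnB (𝟙 (Sk k)) (algebraMap k B) (x * y) =
      fnB (𝟙 (Sk k)) (algebraMap k B) x + fnB (𝟙 (Sk k)) (algebraMap k B) y := by
  unfold fnB
  rw [gaFn_mul]
  exact map_add (Scheme.ΓSpecIso (CommRingCat.of B)).hom.hom _ _

/-- the point of the additive group with a given coordinate -/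
noncomputable def gaPt (b : B) : tk k B ⟶ Red.Ga (Sk k) :=
  (exists_fnB_eq (𝟙 (Sk k)) (algebraMap k B) b).choose

theorem fnB_gaPt (b : B) : fnB (𝟙 (Sk k)) (algebraMap k B) (gaPt (k := k) b) = b :=
  (exists_fnB_eq (𝟙 (Sk k)) (algebraMap k B) b).choose_spec

theorem gaPt_fnB (x : tk k B ⟶ Red.Ga (Sk k)) :
    gaPt (fnB (𝟙 (Sk k)) (algebraMap k B) x) = x :=
  fnB_injective (𝟙 (Sk k)) (algebraMap k B) (fnB_gaPt _)

theorem tm_gaPt (f : B →ₐ[k] B') (b : B) : tm f ≫ gaPt (k := k) b = gaPt (f b) := by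
  apply fnB_injective (𝟙 (Sk k)) (algebraMap k B')
  rw [fnB_tmor, fnB_gaPt, fnB_gaPt]
  rfl

theorem gaPt_add (b b' : B) : gaPt (k := k) b * gaPt b' = gaPt (b + b') := by
  apply fnB_injective (𝟙 (Sk k)) (algebraMap k B)
  rw [fnB_mul, fnB_gaPt, fnB_gaPt, fnB_gaPt]

end Pts

section GaMain

variable {k : Type u} [Field k] {G X : Over (Sk k)} [GrpObj G] [IsProper X.hom]
  (a : AlgGrp.Action G X) (x₀ : 𝟙_ (Over (Sk k)) ⟶ X)

include x₀ in
open Polynomial in
theorem main_Ga (jj : G ≅ Red.Ga (Sk k)) (hj : IsMonHom jj.inv) :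
    ∃ x : 𝟙_ (Over (Sk k)) ⟶ X, a.IsFixedPt x := by
  haveI := hj
  let B₀ : Type u := Polynomial k
  let s : B₀ := Polynomial.X
  have hu : IsUnit (1 + PowerSeries.C s * PowerSeries.X : PowerSeries B₀) := by
    rw [PowerSeries.isUnit_iff_constantCoeff]
    simp
  let v : (PowerSeries B₀)ˣ := hu.unit⁻¹
  let XK : KK k := algebraMap (PowerSeries k) (KK k) PowerSeries.X
  let gK : tk k (KK k) ⟶ G := gaPt (k := k) (XK⁻¹) ≫ jj.inv
  let g₀ : tk k B₀ ⟶ G := gaPt (k := k) s ≫ jj.inv
  refine assemble a x₀ gK B₀ v g₀ ?_ ?_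
  · -- the key identity
    show (tm ((IsScalarTower.toAlgHom k (PowerSeries B₀) (KB B₀)).comp (sBA k B₀)) ≫
        (gaPt (k := k) s ≫ jj.inv)) * (tm (rK k B₀ 1) ≫ (gaPt (k := k) (XK⁻¹) ≫ jj.inv)) =
      tm (rK k B₀ v) ≫ (gaPt (k := k) (XK⁻¹) ≫ jj.inv)
    rw [← Category.assoc, ← Category.assoc, ← Category.assoc, tm_gaPt, tm_gaPt, tm_gaPt,
      ← MonObj.mul_comp _ _ jj.inv, gaPt_add]
    congr 2
    -- the field identity
    let X' : KB B₀ := algebraMap (PowerSeries B₀) (KB B₀) PowerSeries.X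
    have hX' : X' ≠ 0 := by
      intro h
      have h0 : algebraMap (PowerSeries B₀) (KB B₀) PowerSeries.X =
          algebraMap (PowerSeries B₀) (KB B₀) 0 := by rw [map_zero]; exact h
      exact PowerSeries.X_ne_zero (IsFractionRing.injective (PowerSeries B₀) (KB B₀) h0)
    have e1 : rK k B₀ 1 (XK⁻¹) = X'⁻¹ := by
      rw [map_inv₀]
      congr 1
      show rK k B₀ 1 (algebraMap (PowerSeries k) (KK k) PowerSeries.X) = X'
      rw [rK_algebraMap, rA_X, Units.val_one, _root_.mul_one]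
    have e2 : rK k B₀ v (XK⁻¹) = (X' * algebraMap (PowerSeries B₀) (KB B₀) (v : PowerSeries B₀))⁻¹ := by
      rw [map_inv₀]
      congr 1
      show rK k B₀ v (algebraMap (PowerSeries k) (KK k) PowerSeries.X) = _
      rw [rK_algebraMap, rA_X, map_mul]
    have e3 : algebraMap (PowerSeries B₀) (KB B₀) (v : PowerSeries B₀) *
        (1 + algebraMap (PowerSeries B₀) (KB B₀) (PowerSeries.C s) * X') = 1 := by
      have h1 : (v : PowerSeries B₀) * (1 + PowerSeries.C s * PowerSeries.X) = 1 := by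
        have := hu.unit.inv_mul
        simpa [v] using this
      have h2 := congrArg (algebraMap (PowerSeries B₀) (KB B₀)) h1
      simpa only [map_mul, map_add, map_one] using h2
    show (IsScalarTower.toAlgHom k (PowerSeries B₀) (KB B₀)).comp (sBA k B₀) s +
      rK k B₀ 1 (XK⁻¹) = rK k B₀ v (XK⁻¹)
    rw [e1, e2]
    show algebraMap (PowerSeries B₀) (KB B₀) (PowerSeries.C s) + X'⁻¹ = _
    set c := algebraMap (PowerSeries B₀) (KB B₀) (PowerSeries.C s) with hc
    set w := algebraMap (PowerSeries B₀) (KB B₀) (v : PowerSeries B₀) with hw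
    have hw0 : w ≠ 0 := by
      intro h
      rw [h, zero_mul] at e3
      exact zero_ne_one e3
    have hw' : w⁻¹ = 1 + c * X' := (eq_inv_of_mul_eq_one_right e3).symm
    rw [mul_inv, hw']
    field_simp
    ring
  · intro B _ _ g
    let b : B := fnB (𝟙 (Sk k)) (algebraMap k B) (g ≫ jj.hom)
    refine ⟨Polynomial.aeval b, ?_⟩
    show g = tm (Polynomial.aeval b) ≫ (gaPt (k := k) s ≫ jj.inv)
    rw [← Category.assoc, tm_gaPt]
    have : (Polynomial.aeval b) s = b := Polynomial.aeval_X b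
    rw [this, gaPt_fnB, Category.assoc, Iso.hom_inv_id, Category.comp_id]

end GaMain

end Groth.Agent.Lead.Borel
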