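import Mathlib
import Groth.Prelude.Def_GmPts
import Groth.Agent.Lib.Lead.BorelC
set_option backward.isDefEq.respectTransparency.types false
set_option autoImplicit false
set_option synthInstance.maxHeartbeats 400000
set_option maxHeartbeats 1000000
set_option linter.style.haveILetI false
set_option linter.unusedSectionVars false
set_option linter.unusedSimpArgs false

/-! # The multiplicative group case (lead) -/

namespace Groth.Agent.Lead.Borel
open AlgebraicGeometry CategoryTheory Limits MonoidalCategory CartesianMonoidalCategory MonObj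
open Groth.Agent.Lead.GaGmTriv

universe u

section Pts

variable {k : Type u} [Field k] {B B' : Type u} [CommRing B] [Algebra k B] [CommRing B'] [Algebra k B']

theorem unB_mul (x y : tk k B ⟶ Red.Gm (Sk k)) :
    unB (𝟙 (Sk k)) (algebraMap k B) (x * y) =
      unB (𝟙 (Sk k)) (algebraMap k B) x * unB (𝟙 (Sk k)) (algebraMap k B) y := by
  unfold unB
  rw [GmPts.gmFn_mul]
  exact map_mul (Scheme.ΓSpecIso (CommRingCat.of B)).hom.hom _ _

theorem exists_unB_eq (b : Bˣ) :
    ∃ t : tk k B ⟶ Red.Gm (Sk k), unB (𝟙 (Sk k)) (algebraMap k B) t = (b : B) := by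
  let T : Over (Sk k) := tk k B
  let φ : B →+* Γ(T.left, ⊤) := (Scheme.ΓSpecIso (CommRingCat.of B)).inv.hom
  let w : (Γ(T.left, ⊤))ˣ := Units.map (φ : B →* Γ(T.left, ⊤)) b
  refine ⟨(GmPts.equiv T).symm w, ?_⟩
  unfold unB
  have h1 : GmPts.unitOfPt ((GmPts.equiv T).symm w) = w := (GmPts.equiv T).apply_symm_apply w
  have h2 : Red.gmFn ((GmPts.equiv T).symm w) = (w : Γ(T.left, ⊤)) := by
    rw [← GmPts.val_unitOfPt, h1]
  rw [h2]
  show (Scheme.ΓSpecIso (CommRingCat.of B)).hom.hom
    ((Scheme.ΓSpecIso (CommRingCat.of B)).inv.hom (b : B)) = (b : B)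
  exact iso_inv_hom (b : B)

/-- the point of the multiplicative group with a given coordinate -/
noncomputable def gmPt (b : Bˣ) : tk k B ⟶ Red.Gm (Sk k) := (exists_unB_eq (k := k) b).choose

theorem unB_gmPt (b : Bˣ) : unB (𝟙 (Sk k)) (algebraMap k B) (gmPt (k := k) b) = (b : B) :=
  (exists_unB_eq (k := k) b).choose_spec

theorem gmPt_unB (x : tk k B ⟶ Red.Gm (Sk k)) :
    gmPt (isUnit_unB (𝟙 (Sk k)) (algebraMap k B) x).unit = x := by
  apply unB_injective (𝟙 (Sk k)) (algebraMap k B)
  rw [unB_gmPt]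
  rfl

theorem tm_gmPt (f : B →ₐ[k] B') (b : Bˣ) :
    tm f ≫ gmPt (k := k) b = gmPt (Units.map (f : B →* B') b) := by
  apply unB_injective (𝟙 (Sk k)) (algebraMap k B')
  rw [unB_tmor, unB_gmPt, unB_gmPt]
  rfl

theorem gmPt_mul (b b' : Bˣ) : gmPt (k := k) b * gmPt b' = gmPt (b * b') := by
  apply unB_injective (𝟙 (Sk k)) (algebraMap k B)
  rw [unB_mul, unB_gmPt, unB_gmPt, unB_gmPt]
  rfl

end Pts

section GmMain

variable {k : Type u} [Field k] {G X : Over (Sk k)} [GrpObj G] [IsProper X.hom]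
  (a : AlgGrp.Action G X) (x₀ : 𝟙_ (Over (Sk k)) ⟶ X)

include x₀ in
theorem main_Gm (jj : G ≅ Red.Gm (Sk k)) (hj : IsMonHom jj.inv) :
    ∃ x : 𝟙_ (Over (Sk k)) ⟶ X, a.IsFixedPt x := by
  haveI := hj
  let B₀ : Type u := Localization.Away (Polynomial.X : Polynomial k)
  haveI : IsDomain B₀ := IsLocalization.isDomain_localization
    (powers_le_nonZeroDivisors_of_noZeroDivisors (Polynomial.X_ne_zero (R := k)))
  have hs : IsUnit (algebraMap (Polynomial k) B₀ Polynomial.X) :=
    IsLocalization.Away.algebraMap_isUnit Polynomial.X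
  let s : B₀ˣ := hs.unit
  let v : (PowerSeries B₀)ˣ :=
    (Units.map ((PowerSeries.C : B₀ →+* PowerSeries B₀) : B₀ →* PowerSeries B₀) s)⁻¹
  let XK : KK k := algebraMap (PowerSeries k) (KK k) PowerSeries.X
  have hXK : XK ≠ 0 := by
    intro h
    have h0 : algebraMap (PowerSeries k) (KK k) PowerSeries.X =
        algebraMap (PowerSeries k) (KK k) 0 := by rw [map_zero]; exact h
    exact PowerSeries.X_ne_zero (IsFractionRing.injective (PowerSeries k) (KK k) h0)
  let t : (KK k)ˣ := (Units.mk0 XK hXK)⁻¹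
  let gK : tk k (KK k) ⟶ G := gmPt (k := k) t ≫ jj.inv
  let g₀ : tk k B₀ ⟶ G := gmPt (k := k) s ≫ jj.inv
  refine assemble a x₀ gK B₀ v g₀ ?_ ?_
  · show (tm ((IsScalarTower.toAlgHom k (PowerSeries B₀) (KB B₀)).comp (sBA k B₀)) ≫
        (gmPt (k := k) s ≫ jj.inv)) * (tm (rK k B₀ 1) ≫ (gmPt (k := k) t ≫ jj.inv)) =
      tm (rK k B₀ v) ≫ (gmPt (k := k) t ≫ jj.inv)
    rw [← Category.assoc, ← Category.assoc, ← Category.assoc, tm_gmPt, tm_gmPt, tm_gmPt,
      ← MonObj.mul_comp _ _ jj.inv, gmPt_mul]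
    congr 2
    apply Units.ext
    let X' : KB B₀ := algebraMap (PowerSeries B₀) (KB B₀) PowerSeries.X
    have hX' : X' ≠ 0 := by
      intro h
      have h0 : algebraMap (PowerSeries B₀) (KB B₀) PowerSeries.X =
          algebraMap (PowerSeries B₀) (KB B₀) 0 := by rw [map_zero]; exact h
      exact PowerSeries.X_ne_zero (IsFractionRing.injective (PowerSeries B₀) (KB B₀) h0)
    have ht : (t : KK k) = XK⁻¹ := rfl
    have e1 : rK k B₀ 1 (t : KK k) = X'⁻¹ := by
      rw [ht, map_inv₀]
      congr 1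
      show rK k B₀ 1 (algebraMap (PowerSeries k) (KK k) PowerSeries.X) = X'
      rw [rK_algebraMap, rA_X, Units.val_one, _root_.mul_one]
    have e2 : rK k B₀ v (t : KK k) =
        (X' * algebraMap (PowerSeries B₀) (KB B₀) (v : PowerSeries B₀))⁻¹ := by
      rw [ht, map_inv₀]
      congr 1
      show rK k B₀ v (algebraMap (PowerSeries k) (KK k) PowerSeries.X) = _
      rw [rK_algebraMap, rA_X, map_mul]
    have e3 : algebraMap (PowerSeries B₀) (KB B₀) (v : PowerSeries B₀) *
        algebraMap (PowerSeries B₀) (KB B₀) (PowerSeries.C (s : B₀)) = 1 := by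
      have h1 : (v : PowerSeries B₀) * PowerSeries.C (s : B₀) = 1 := by
        have := (Units.map ((PowerSeries.C : B₀ →+* PowerSeries B₀) : B₀ →* PowerSeries B₀) s).inv_mul
        exact this
      have h2 := congrArg (algebraMap (PowerSeries B₀) (KB B₀)) h1
      simpa only [map_mul, map_one] using h2
    show (IsScalarTower.toAlgHom k (PowerSeries B₀) (KB B₀)).comp (sBA k B₀) (s : B₀) *
      rK k B₀ 1 (t : KK k) = rK k B₀ v (t : KK k)
    rw [e1, e2]
    show algebraMap (PowerSeries B₀) (KB B₀) (PowerSeries.C (s : B₀)) * X'⁻¹ = _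
    set c := algebraMap (PowerSeries B₀) (KB B₀) (PowerSeries.C (s : B₀)) with hc
    set w := algebraMap (PowerSeries B₀) (KB B₀) (v : PowerSeries B₀) with hw
    have hw' : w⁻¹ = c := (eq_inv_of_mul_eq_one_right e3).symm
    rw [mul_inv, hw', mul_comm]
  · intro B _ _ g
    let b : Bˣ := (isUnit_unB (𝟙 (Sk k)) (algebraMap k B) (g ≫ jj.hom)).unit
    have hf : ∀ y : Submonoid.powers (Polynomial.X : Polynomial k),
        IsUnit (Polynomial.aeval (R := k) (b : B) (y : Polynomial k)) := by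
      rintro ⟨y, n, rfl⟩
      show IsUnit (Polynomial.aeval (R := k) (b : B) (Polynomial.X ^ n))
      rw [map_pow, Polynomial.aeval_X]
      exact (b ^ n).isUnit
    let f : B₀ →ₐ[k] B := IsLocalization.liftAlgHom (M := Submonoid.powers (Polynomial.X : Polynomial k))
      (f := Polynomial.aeval (R := k) (b : B)) hf
    refine ⟨f, ?_⟩
    show g = tm f ≫ (gmPt (k := k) s ≫ jj.inv)
    rw [← Category.assoc, tm_gmPt]
    have hfs : Units.map (f : B₀ →* B) s = b := by
      apply Units.ext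
      show f (algebraMap (Polynomial k) B₀ Polynomial.X) = (b : B)
      show IsLocalization.lift hf (algebraMap (Polynomial k) B₀ Polynomial.X) = (b : B)
      rw [IsLocalization.lift_eq]
      exact Polynomial.aeval_X _
    rw [hfs, gmPt_unB, Category.assoc, Iso.hom_inv_id, Category.comp_id]

end GmMain

end Groth.Agent.Lead.Borel
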