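import Mathlib
import Groth.Agent.Lib.Lead.BorelD
import Groth.Agent.Lib.Lead.BorelE
set_option backward.isDefEq.respectTransparency.types false
set_option autoImplicit false
set_option synthInstance.maxHeartbeats 400000
set_option maxHeartbeats 1000000
set_option linter.style.haveILetI false
set_option linter.unusedSectionVars false
set_option linter.unusedSimpArgs false

/-! # Fixed points of `𝔾_a` and `𝔾_m` on proper schemes with a rational point (lead) -/

namespace Groth.Agent.Lead.Borel
open AlgebraicGeometry CategoryTheory Limits MonoidalCategory CartesianMonoidalCategory MonObj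

universe u

theorem main15592 (k : Type u) [Field k]
    (G X : Over (Spec (CommRingCat.of k))) [GrpObj G]
    (hG : Nonempty (Grp.mk G ≅ Grp.mk (Red.Ga (Spec (CommRingCat.of k)))) ∨
      Nonempty (Grp.mk G ≅ Grp.mk (Red.Gm (Spec (CommRingCat.of k)))))
    [IsProper X.hom] (x₀ : 𝟙_ (Over (Spec (CommRingCat.of k))) ⟶ X) (a : AlgGrp.Action G X) :
    ∃ x : 𝟙_ (Over (Spec (CommRingCat.of k))) ⟶ X, a.IsFixedPt x := by
  rcases hG with ⟨⟨θ⟩⟩ | ⟨⟨θ⟩⟩
  · exact main_Ga a x₀ ((Grp.forget _).mapIso θ) (by
      change IsMonHom (θ.inv.hom.hom : Red.Ga (Sk k) ⟶ G)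
      infer_instance)
  · exact main_Gm a x₀ ((Grp.forget _).mapIso θ) (by
      change IsMonHom (θ.inv.hom.hom : Red.Gm (Sk k) ⟶ G)
      infer_instance)

end Groth.Agent.Lead.Borel
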