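import Mathlib
import Groth.Prelude
import Groth.Agent.Lib.Lead.CMAt2

set_option backward.isDefEq.respectTransparency.types false
set_option synthInstance.maxHeartbeats 400000
set_option autoImplicit false
set_option linter.unusedSectionVars false
set_option linter.style.haveILetI false
universe u

open CategoryTheory CategoryTheory.Limits AlgebraicGeometry IsLocalRing TensorProduct

namespace Groth.Agent.Lead.CMAt

open LocCoh Groth.Agent.Helper3.FibStalk

theorem S7608_main (k : Type u) [Field k] (X : Scheme.{u}) [X.Over (Spec (CommRingCat.of k))]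
    [IsLocallyNoetherian X] (k' : Type u) [Field k'] [Algebra k k']
    (hfg : (⊤ : IntermediateField k k').FG) (x' : ↥(Curv2.bc k X k')) :
    LocCoh.IsCohenMacaulayLocalRing ↥(X.presheaf.stalk (Curv2.bcFst k X k' x')) ↔
      LocCoh.IsCohenMacaulayLocalRing ↥((Curv2.bc k X k').presheaf.stalk x') := by
  have sq : IsPullback (Curv2.bcFst k X k') (Curv2.bcSnd k X k') (X ↘ Spec (CommRingCat.of k))
      (Spec.map (CommRingCat.ofHom (algebraMap k k'))) := IsPullback.of_hasPullback _ _
  haveI : Algebra.EssFiniteType k k' := IntermediateField.fg_top_iff.mp hfg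
  have hι : (algebraMap k k').EssFiniteType := RingHom.essFiniteType_algebraMap.mpr inferInstance
  haveI : IsLocallyNoetherian (Curv2.bc k X k') :=
    isLocallyNoetherian_of_field_baseChange k k' (algebraMap k k') _ _ _ sq hι
  constructor
  · intro h
    exact cm_field_baseChange_of_cm k k' (algebraMap k k') _ _ _ sq (Or.inl hι) x' h
  · intro h
    exact cm_of_cm_field_baseChange k k' (algebraMap k k') _ _ _ sq x' h

theorem S7609_main (k : Type u) [Field k] (X : Scheme.{u}) [X.Over (Spec (CommRingCat.of k))]
    [LocallyOfFiniteType (X ↘ (Spec (CommRingCat.of k)))]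
    (k' : Type u) [Field k'] [Algebra k k'] (x' : ↥(Curv2.bc k X k')) :
    LocCoh.IsCohenMacaulayLocalRing ↥(X.presheaf.stalk (Curv2.bcFst k X k' x')) ↔
      LocCoh.IsCohenMacaulayLocalRing ↥((Curv2.bc k X k').presheaf.stalk x') := by
  have sq : IsPullback (Curv2.bcFst k X k') (Curv2.bcSnd k X k') (X ↘ Spec (CommRingCat.of k))
      (Spec.map (CommRingCat.ofHom (algebraMap k k'))) := IsPullback.of_hasPullback _ _
  haveI : IsLocallyNoetherian X :=
    LocallyOfFiniteType.isLocallyNoetherian (X ↘ (Spec (CommRingCat.of k)))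
  haveI : LocallyOfFiniteType (Curv2.bcSnd k X k') :=
    MorphismProperty.pullback_snd _ _ inferInstance
  haveI : IsLocallyNoetherian (Curv2.bc k X k') :=
    LocallyOfFiniteType.isLocallyNoetherian (Curv2.bcSnd k X k')
  constructor
  · intro h
    exact cm_field_baseChange_of_cm k k' (algebraMap k k') _ _ _ sq (Or.inr inferInstance) x' h
  · intro h
    exact cm_of_cm_field_baseChange k k' (algebraMap k k') _ _ _ sq x' h

end Groth.Agent.Lead.CMAt
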