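import Mathlib
import Groth.Prelude.Def_CAlg
import Groth.Agent.Lib.Helper4.DimFT5
import Groth.Agent.Lib.Helper7.DimFun.CMEqui

set_option backward.isDefEq.respectTransparency.types false
set_option synthInstance.maxHeartbeats 400000
set_option linter.style.haveILetI false
set_option linter.unusedSectionVars false
set_option autoImplicit false

universe u

namespace Groth.Agent.Lead.CMDecomp

open Groth.Agent.Lib.Helper4.DimFT1 Groth.Agent.Lib.Helper4.DimFT2 Groth.Agent.Lib.Helper4.DimFT5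
open Groth.Agent.Helper7.DimFun Function

variable (k : Type u) [Field k] (S : Type u) [CommRing S] [Algebra k S] [Algebra.FiniteType k S]

include k in
theorem height_eq_dim_quotient [LocCoh.IsCohenMacaulayRing S] (m : Ideal S) [hm : m.IsMaximal]
    (P : Ideal S) (hP : P ∈ minimalPrimes S) (hPm : P ≤ m) :
    (m.height : WithBot ℕ∞) = ringKrullDim (S ⧸ P) := by
  haveI hPp : P.IsPrime := hP.1.1
  haveI : LocCoh.IsCohenMacaulayLocalRing (Localization.AtPrime m) :=
    LocCoh.IsCohenMacaulayRing.isCohenMacaulayLocalRing_localization m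
  have hdisj : Disjoint (m.primeCompl : Set S) (P : Set S) := by
    rw [Set.disjoint_left]
    intro x hx hxP
    exact hx (hPm hxP)
  have hpprime : (P.map (algebraMap S (Localization.AtPrime m))).IsPrime :=
    IsLocalization.isPrime_of_isPrime_disjoint m.primeCompl _ P hPp hdisj
  have hcomap : (P.map (algebraMap S (Localization.AtPrime m))).comap
      (algebraMap S (Localization.AtPrime m)) = P :=
    IsLocalization.under_map_of_isPrime_disjoint m.primeCompl _ hPp hdisj
  have hpmin : P.map (algebraMap S (Localization.AtPrime m)) ∈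
      minimalPrimes (Localization.AtPrime m) := by
    refine ⟨⟨hpprime, bot_le⟩, fun q hq hqp => ?_⟩
    haveI := hq.1
    have h1 : q.comap (algebraMap S (Localization.AtPrime m)) ≤ P := by
      rw [← hcomap]; exact Ideal.comap_mono hqp
    have h2 : P ≤ q.comap (algebraMap S (Localization.AtPrime m)) :=
      hP.2 ⟨inferInstance, bot_le⟩ h1
    calc P.map (algebraMap S (Localization.AtPrime m))
        ≤ (q.comap (algebraMap S (Localization.AtPrime m))).map _ := Ideal.map_mono h2
      _ = q := IsLocalization.map_comap m.primeCompl _ q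
  have h1 := ringKrullDim_quotient_minimalPrime_of_CM _ hpmin
  have h2 : ringKrullDim (Localization.AtPrime m) = m.height :=
    IsLocalization.AtPrime.ringKrullDim_eq_height m _
  have h3 : ringKrullDim (Localization.AtPrime m ⧸ P.map (algebraMap S (Localization.AtPrime m))) ≤
      ringKrullDim (S ⧸ P) := by
    have e1 := coheight_eq_ringKrullDim_quotient
      (⟨P.map (algebraMap S (Localization.AtPrime m)), hpprime⟩ :
        PrimeSpectrum (Localization.AtPrime m))
    have e2 := coheight_eq_ringKrullDim_quotient (⟨P, hPp⟩ : PrimeSpectrum S)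
    change _ = ringKrullDim (_ ⧸ P.map (algebraMap S (Localization.AtPrime m))) at e1
    change _ = ringKrullDim (S ⧸ P) at e2
    rw [← e1, ← e2]
    have hsm : StrictMono (PrimeSpectrum.comap (algebraMap S (Localization.AtPrime m))) := by
      intro a b hab
      refine lt_of_le_of_ne ?_ ?_
      · exact Ideal.comap_mono hab.le
      · intro h
        exact hab.ne (PrimeSpectrum.localization_comap_injective _ m.primeCompl h)
    have h4 := Order.coheight_le_coheight_apply_of_strictMono _ hsm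
      (⟨P.map (algebraMap S (Localization.AtPrime m)), hpprime⟩ :
        PrimeSpectrum (Localization.AtPrime m))
    have h5 : PrimeSpectrum.comap (algebraMap S (Localization.AtPrime m))
        ⟨P.map (algebraMap S (Localization.AtPrime m)), hpprime⟩ = ⟨P, hPp⟩ :=
      PrimeSpectrum.ext hcomap
    rw [h5] at h4
    exact_mod_cast h4
  have h4 := height_map_eq_dim_of_isMaximal k S P m hPm
  have h5 := height_map_mk_le P m hPm
  apply le_antisymm
  · rw [← h2, ← h1]; exact h3
  · rw [← h4]; exact_mod_cast h5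

include k in
theorem exists_natDim (P : Ideal S) (hP : P ∈ minimalPrimes S) :
    ∃ d : ℕ, ringKrullDim (S ⧸ P) = (d : ℕ) := by
  haveI : IsNoetherianRing S := Algebra.FiniteType.isNoetherianRing k S
  haveI hPp : P.IsPrime := hP.1.1
  obtain ⟨m, hm, hPm⟩ := Ideal.exists_le_maximal P hPp.ne_top
  haveI := hm
  have h4 := height_map_eq_dim_of_isMaximal k S P m hPm
  haveI := isPrime_map_mk P m hPm
  have hne : (m.map (Ideal.Quotient.mk P)).height ≠ ⊤ := Ideal.height_ne_top_of_isPrime
  obtain ⟨d, hd⟩ := ENat.ne_top_iff_exists.mp hne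
  refine ⟨d, ?_⟩
  rw [← h4, ← hd]
  rfl

include k in
theorem main [LocCoh.IsCohenMacaulayRing S] :
    ∃ (N : ℕ) (T : Fin (N + 1) → Type u) (_ : ∀ d, CommRing (T d)) (_ : ∀ d, Algebra k (T d)),
      Nonempty (S ≃ₐ[k] ((d : Fin (N + 1)) → T d)) ∧
        ∀ (d : Fin (N + 1)) (m : Ideal (T d)), m.IsMaximal → m.height = (d : ℕ) := by
  classical
  haveI : IsNoetherianRing S := Algebra.FiniteType.isNoetherianRing k S
  have hfin : (minimalPrimes S).Finite := Ideal.finite_minimalPrimes_of_isNoetherianRing S ⊥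
  have hex : ∀ P : Ideal S, ∃ d : ℕ, P ∈ minimalPrimes S → ringKrullDim (S ⧸ P) = (d : ℕ) := by
    intro P
    by_cases hP : P ∈ minimalPrimes S
    · obtain ⟨d, hd⟩ := exists_natDim k S P hP
      exact ⟨d, fun _ => hd⟩
    · exact ⟨0, fun h => absurd h hP⟩
  choose δ hδ using hex
  obtain ⟨N, hN⟩ : ∃ N : ℕ, N = hfin.toFinset.sup δ := ⟨_, rfl⟩
  obtain ⟨F, hF'⟩ : ∃ F : Fin (N + 1) → Finset (Ideal S),
      F = fun d => hfin.toFinset.filter (fun P => δ P = d.val) := ⟨_, rfl⟩
  obtain ⟨I, hI⟩ : ∃ I : Fin (N + 1) → Ideal S, I = fun d => (F d).inf id := ⟨_, rfl⟩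
  have hF : ∀ d P, P ∈ F d ↔ P ∈ minimalPrimes S ∧ δ P = d.val := by
    intro d P
    rw [hF', Finset.mem_filter, Set.Finite.mem_toFinset]
  have hle : ∀ (d : Fin (N + 1)) (q : Ideal S), q.IsPrime → I d ≤ q → ∃ P ∈ F d, P ≤ q := by
    intro d q hq h
    rw [hI] at h
    exact (Ideal.IsPrime.inf_le' hq).1 h
  have hIle : ∀ (d : Fin (N + 1)) (P : Ideal S), P ∈ F d → I d ≤ P := by
    intro d P hP
    rw [hI]
    exact Finset.inf_le (f := id) hP
  have hcop : Pairwise (IsCoprime on I) := by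
    intro d d' hdd'
    rw [Function.onFun, Ideal.isCoprime_iff_sup_eq]
    by_contra hne
    obtain ⟨m, hm, hle_m⟩ := Ideal.exists_le_maximal _ hne
    haveI := hm
    obtain ⟨P, hPF, hPm⟩ := hle d m hm.isPrime (le_sup_left.trans hle_m)
    obtain ⟨P', hPF', hPm'⟩ := hle d' m hm.isPrime (le_sup_right.trans hle_m)
    rw [hF] at hPF hPF'
    have e1 := height_eq_dim_quotient k S m P hPF.1 hPm
    have e2 := height_eq_dim_quotient k S m P' hPF'.1 hPm'
    rw [hδ P hPF.1, hPF.2] at e1
    rw [hδ P' hPF'.1, hPF'.2] at e2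
    have h3 : ((d.val : ℕ) : WithBot ℕ∞) = (d'.val : ℕ) := e1.symm.trans e2
    have h4 : d.val = d'.val := by exact_mod_cast h3
    exact hdd' (Fin.ext h4)
  have hnil : ⨅ d, I d ≤ nilradical S := by
    intro x hx
    have h1 : nilradical S = sInf (minimalPrimes S) := by
      rw [minimalPrimes, Ideal.sInf_minimalPrimes]
      rfl
    rw [h1, Ideal.mem_sInf]
    intro P hP
    have hPN : δ P ≤ N := by
      rw [hN]
      exact Finset.le_sup (hfin.mem_toFinset.2 hP)
    have hx' := (Ideal.mem_iInf.1 hx) ⟨δ P, by omega⟩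
    exact hIle ⟨δ P, by omega⟩ P ((hF _ _).2 ⟨hP, rfl⟩) hx'
  obtain ⟨n, hn⟩ := IsNoetherianRing.isNilpotent_nilradical S
  obtain ⟨J, hJ⟩ : ∃ J : Fin (N + 1) → Ideal S, J = fun d => I d ^ (n + 1) := ⟨_, rfl⟩
  have hcopJ : Pairwise (IsCoprime on J) := by
    intro d d' h
    rw [Function.onFun, hJ]
    exact (hcop h).pow
  have hJbot : ⨅ d, J d = ⊥ := by
    have h1 : ∏ d ∈ Finset.univ, J d = ⨅ d ∈ Finset.univ, J d :=
      Ideal.prod_eq_iInf_of_pairwise_isCoprime (fun a _ b _ hab => hcopJ hab)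
    simp only [Finset.mem_univ, iInf_pos] at h1
    rw [← h1, hJ, Finset.prod_pow, eq_bot_iff]
    have h2 : ∏ d, I d ≤ nilradical S := by
      refine le_trans Ideal.prod_le_inf (le_trans ?_ hnil)
      rw [Finset.inf_eq_iInf]
      simp
    calc (∏ d, I d) ^ (n + 1) ≤ (nilradical S) ^ (n + 1) := Ideal.pow_right_mono h2 _
      _ = ⊥ := by rw [pow_succ, hn]; simp
  obtain ⟨φ, hφ⟩ : ∃ φ : S →ₐ[k] (∀ d, S ⧸ J d),
      ∀ x d, φ x d = Ideal.Quotient.mk (J d) x :=
    ⟨Pi.algHom k _ (fun d => Ideal.Quotient.mkₐ k (J d)), fun x d => rfl⟩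
  have hφinj : Function.Injective φ := by
    rw [injective_iff_map_eq_zero]
    intro x hx
    have h1 : x ∈ ⨅ d, J d := by
      rw [Ideal.mem_iInf]
      intro d
      have h2 := congrFun hx d
      rw [hφ] at h2
      exact Ideal.Quotient.eq_zero_iff_mem.1 h2
    rw [hJbot] at h1
    exact h1
  have hφsurj : Function.Surjective φ := by
    intro y
    obtain ⟨r, hr⟩ := Ideal.pi_quotient_surjective hcopJ y
    refine ⟨r, funext fun d => ?_⟩
    rw [hφ]
    exact hr d
  refine ⟨N, fun d => S ⧸ J d, fun d => inferInstance, fun d => inferInstance,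
    ⟨AlgEquiv.ofBijective φ ⟨hφinj, hφsurj⟩⟩, ?_⟩
  intro d M hM
  haveI := hM
  obtain ⟨Q, hQmin, hQM, hQp, hht⟩ := exists_minimalPrimes_height_eq_dim k (S ⧸ J d) M
  haveI := hQp
  have hJQ : J d ≤ Q.comap (Ideal.Quotient.mk (J d)) := by
    intro x hx
    rw [Ideal.mem_comap, Ideal.Quotient.eq_zero_iff_mem.2 hx]
    exact Q.zero_mem
  have hIQ : I d ≤ Q.comap (Ideal.Quotient.mk (J d)) := by
    have hJd : I d ^ (n + 1) = J d := by rw [hJ]
    exact (Ideal.IsPrime.pow_le_iff (Nat.succ_ne_zero n)).1 (hJd.le.trans hJQ)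
  obtain ⟨P, hPF, hPQ⟩ := hle d _ inferInstance hIQ
  have hPF2 := (hF d P).1 hPF
  haveI hPp : P.IsPrime := hPF2.1.1.1
  have hJP : J d ≤ P := by
    have hJd : J d = I d ^ (n + 1) := by rw [hJ]
    exact hJd.le.trans ((Ideal.pow_le_self (Nat.succ_ne_zero n)).trans (hIle d P hPF))
  haveI hP'p : (P.map (Ideal.Quotient.mk (J d))).IsPrime := isPrime_map_mk (J d) P hJP
  have hP'Q : P.map (Ideal.Quotient.mk (J d)) ≤ Q := by
    rw [Ideal.map_le_iff_le_comap]
    exact hPQ
  have hQeq : Q = P.map (Ideal.Quotient.mk (J d)) :=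
    le_antisymm (hQmin.2 ⟨hP'p, bot_le⟩ hP'Q) hP'Q
  have hdim : ringKrullDim ((S ⧸ J d) ⧸ Q) = (d.val : ℕ) := by
    rw [hQeq, ringKrullDim_eq_of_ringEquiv (DoubleQuot.quotQuotEquivQuotOfLE hJP), hδ P hPF2.1,
      hPF2.2]
  rw [hdim] at hht
  exact_mod_cast hht

end Groth.Agent.Lead.CMDecomp
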