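import Mathlib
import Groth.Prelude
import Groth.Agent.Lib.Lead.CMQF14
import Groth.Agent.Lib.Helper4.Aff2

set_option autoImplicit false
set_option backward.isDefEq.respectTransparency.types false
set_option synthInstance.maxHeartbeats 400000
set_option linter.style.haveILetI false
universe u

open AlgebraicGeometry CategoryTheory CategoryTheory.Limits TopologicalSpace IsLocalRing

namespace Groth.Agent.Lead.CMEqui

open Groth.Agent.Lead.CMQF Groth.Agent.Lib.Helper4.Aff2

theorem S2595_main {X Y : Scheme.{u}} [IsLocallyNoetherian Y] (f : X ⟶ Y)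
    [LocallyOfFiniteType f] (x : X) (hflat : (f.stalkMap x).hom.Flat)
    (hCM : LocCoh.IsCohenMacaulayLocalRing ((f.fiber (f.base x)).presheaf.stalk (f.asFiber x))) :
    EGA43.IsEquidimAt f x := by
  haveI : LocallyOfFinitePresentation f :=
    LocallyOfFinitePresentation.iff_locallyOfFiniteType.mpr inferInstance
  have hcm : MoreMor.IsCMAt f x := ⟨hflat, hCM⟩
  obtain ⟨n, U, g, hxU, hg, hfl, hqf, hfp⟩ := exists_flat_lqf_chart f x hcm
  refine S3386_ba f x n U g hxU hg hqf ?_
  intro Z hZ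
  have hZirr : IsIrreducible Z := hZ.1
  have hZcl : IsClosed Z := isClosed_of_mem_irreducibleComponents Z hZ
  haveI : QuasiSober (↥U : Type u) := inferInstanceAs (QuasiSober ↥(U : Scheme.{u}))
  obtain ⟨ξ, hξ⟩ := QuasiSober.sober hZirr hZcl
  have hξcl : closure ({ξ} : Set ↥(U : Scheme.{u})) = Z := hξ.def
  have hmax : ∀ ξ' : ↥(U : Scheme.{u}), ξ' ⤳ ξ → ξ' = ξ :=
    max_of_closure_mem_irreducibleComponents ξ (hξcl ▸ hZ)
  have hgmax : ∀ ζ' : 𝔸(ULift.{u} (Fin n); Y), ζ' ⤳ g ξ → ζ' = g ξ := by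
    intro ζ' hsp
    obtain ⟨ξ', hξ', hgξ'⟩ := (Flat.generalizingMap g) hsp
    rw [← hgξ', hmax ξ' hξ']
  have h1 : closure (g.base '' Z) = closure ({g ξ} : Set ↥𝔸(ULift.{u} (Fin n); Y)) := by
    rw [← hξcl, closure_image_closure (Scheme.Hom.continuous _)]
    congr 1
    exact Set.image_singleton
  rw [h1]
  exact Groth.Agent.Lib.Helper4.Chev6.closure_mem_irreducibleComponents_of_max _ hgmax

end Groth.Agent.Lead.CMEqui
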