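import Mathlib
import Groth.Agent.Lib.Lead.CMPt2

set_option autoImplicit false
set_option backward.isDefEq.respectTransparency.types false
set_option synthInstance.maxHeartbeats 400000
set_option linter.style.haveILetI false

universe u

open AlgebraicGeometry CategoryTheory CategoryTheory.Limits TopologicalSpace IsLocalRing

namespace Groth.Agent.Lead.CMPt

set_option maxHeartbeats 1000000 in
theorem S9432_main (R : Type u) [CommRing R]
    (S : Type u) [CommRing S] [Algebra R S] [Module.FaithfullyFlat R S]
    [Algebra.FinitePresentation R S] :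
    ∃ (S' : Type u) (_ : CommRing S') (_ : Algebra R S'),
      Algebra.QuasiFinite R S' ∧ Algebra.FiniteType R S' ∧ Module.FaithfullyFlat R S' ∧
        Algebra.FinitePresentation R S' ∧ Nonempty (S →ₐ[R] S') := by
  let α : CommRingCat.of R ⟶ CommRingCat.of S := CommRingCat.ofHom (algebraMap R S)
  haveI : Flat (Spec.map α) := (HasRingHomProperty.Spec_iff (P := @Flat)).mpr
    (RingHom.flat_algebraMap_iff.mpr inferInstance)
  haveI : LocallyOfFinitePresentation (Spec.map α) :=
    (HasRingHomProperty.Spec_iff (P := @LocallyOfFinitePresentation)).mpr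
      (RingHom.finitePresentation_algebraMap.mpr inferInstance)
  haveI : Surjective (Spec.map α) :=
    ⟨PrimeSpectrum.comap_surjective_of_faithfullyFlat⟩
  obtain ⟨Y, g, h, hg, hfl, hfp, hqf, hsurj, haff⟩ := S2735_main (Spec.map α)
  haveI : IsAffine Y := haff inferInstance
  let T : CommRingCat.{u} := Γ(Y, ⊤)
  let g' : Spec T ⟶ Spec (CommRingCat.of R) := Y.isoSpec.inv ≫ g
  let h' : Spec T ⟶ Spec (CommRingCat.of S) := Y.isoSpec.inv ≫ h
  obtain ⟨φ, hφ⟩ : ∃ φ : CommRingCat.of R ⟶ T, Spec.map φ = g' := ⟨Spec.preimage g', Spec.map_preimage g'⟩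
  obtain ⟨ψ, hψ⟩ : ∃ ψ : CommRingCat.of S ⟶ T, Spec.map ψ = h' := ⟨Spec.preimage h', Spec.map_preimage h'⟩
  have hrel : α ≫ ψ = φ := by
    apply Spec.map_injective
    rw [Spec.map_comp, hψ, hφ]
    change (Y.isoSpec.inv ≫ h) ≫ Spec.map α = Y.isoSpec.inv ≫ g
    rw [Category.assoc, hg]
  haveI : Flat g' := by haveI := hfl; infer_instance
  haveI : LocallyOfFinitePresentation g' := by haveI := hfp; infer_instance
  haveI : LocallyQuasiFinite g' := by haveI := hqf; infer_instance
  haveI : Surjective g' := by haveI := hsurj; infer_instance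
  have hF : Flat (Spec.map φ) := by rw [hφ]; infer_instance
  have hP : LocallyOfFinitePresentation (Spec.map φ) := by rw [hφ]; infer_instance
  have hQ : LocallyQuasiFinite (Spec.map φ) := by rw [hφ]; infer_instance
  have hS : Surjective (Spec.map φ) := by rw [hφ]; infer_instance
  rw [HasRingHomProperty.Spec_iff (P := @Flat)] at hF
  rw [HasRingHomProperty.Spec_iff (P := @LocallyOfFinitePresentation)] at hP
  rw [HasRingHomProperty.Spec_iff (P := @LocallyQuasiFinite)] at hQ
  letI algRT : Algebra R T := φ.hom.toAlgebra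
  haveI hflat : Module.Flat R T := RingHom.flat_algebraMap_iff.mp hF
  haveI hfpT : Algebra.FinitePresentation R T := RingHom.finitePresentation_algebraMap.mp hP
  refine ⟨T, inferInstance, algRT, ?_, ?_, ?_, hfpT, ?_⟩
  · exact RingHom.quasiFinite_algebraMap.mp hQ
  · infer_instance
  · apply Module.FaithfullyFlat.of_comap_surjective
    exact hS.1
  · refine ⟨⟨ψ.hom, ?_⟩⟩
    intro r
    have := congrArg (fun θ => θ.hom r) hrel
    exact this

end Groth.Agent.Lead.CMPt
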