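import Mathlib
import Groth.Prelude
import Groth.Agent.Lib.Lead.CMQF14
import Groth.Agent.Lib.Helper4.Chev5
import Groth.Agent.Lib.Helper8.FlatReg6

set_option autoImplicit false
set_option backward.isDefEq.respectTransparency.types false
set_option synthInstance.maxHeartbeats 400000
set_option linter.style.haveILetI false
set_option linter.unusedSectionVars false
universe u

open AlgebraicGeometry CategoryTheory CategoryTheory.Limits TopologicalSpace IsLocalRing

namespace Groth.Agent.Lead.CMReg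

open Groth.Agent.Lead.CMQF Groth.Agent.Lead.CMAt Groth.Agent.Lib.Helper4.FibDim2
  Groth.Agent.Lib.Helper4.FibDim5 Groth.Agent.Lib.Helper4.Chev5 Groth.Agent.Helper8.GorFlat
  Groth.Agent.Lib.Helper4.FibDim1

section Fib

variable {X Y : Scheme.{u}} (f : X ⟶ Y)

/-- variant of helper4's `stalk_dim_ge_of_max`: only the maximal points of the fibre generizing `x`
are needed -/
theorem stalk_dim_ge_of_max' [IsLocallyNoetherian Y] [LocallyOfFiniteType f] (x : X)
    (hb : ∀ z : X, f z = f x → z ⤳ x → IsMax (⟨z, rfl⟩ : {z' : X // f z' = f z}) →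
      ringKrullDim (X.presheaf.stalk z) = ringKrullDim (Y.presheaf.stalk (f z))) :
    ringKrullDim (Y.presheaf.stalk (f x)) +
      ringKrullDim ((f.fiber (f x)).presheaf.stalk (f.asFiber x)) ≤
      ringKrullDim (X.presheaf.stalk x) := by
  obtain ⟨m, hm⟩ := exists_stalk_dim_nat (Y := Y) (f x)
  rw [stalk_fiber_dim, hm, AlgebraicGeometry.ringKrullDim_stalk_eq_coheight]
  have key : ∀ p : LTSeries {z : X // f z = f x}, p.head = ⟨x, rfl⟩ →
      (p.length : ℕ∞) + (m : ℕ∞) ≤ Order.coheight x := by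
    intro p hp
    obtain ⟨z', hz', hmax⟩ := exists_isMax_ge_fib f (f x) p.last
    have hz'f : f z'.1 = f x := z'.2
    have hmax' : IsMax (⟨z'.1, rfl⟩ : {z'' : X // f z'' = f z'.1}) := by
      intro b hb'
      have hbf : f b.1 = f x := b.2.trans hz'f
      have h1 : z' ≤ (⟨b.1, hbf⟩ : {z : X // f z = f x}) := hb'
      exact hmax h1
    have hxz' : z'.1 ⤳ x := by
      have h1 : p.head ≤ p.last := LTSeries.head_le_last p
      rw [hp] at h1
      have h2 : (⟨x, rfl⟩ : {z : X // f z = f x}) ≤ z' := h1.trans hz'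
      exact h2
    have h1 := hb z'.1 hz'f hxz' hmax'
    have e1 : ∀ a b : Y, a = b →
        ringKrullDim (Y.presheaf.stalk a) = ringKrullDim (Y.presheaf.stalk b) := by
      intro a b h; subst h; rfl
    rw [e1 _ _ hz'f, hm, AlgebraicGeometry.ringKrullDim_stalk_eq_coheight] at h1
    have hmono : StrictMono (fun z : {z : X // f z = f x} => z.1) := fun _ _ h => h
    have h2 := coheight_add_length_le (p.map _ hmono)
    rw [LTSeries.last_map, LTSeries.head_map, hp, LTSeries.map_length] at h2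
    have h3 : Order.coheight z'.1 ≤ Order.coheight p.last.1 := Order.coheight_anti hz'
    have h4 : (m : ℕ∞) = Order.coheight z'.1 := by
      have : ((m : ℕ∞) : WithBot ℕ∞) = ((Order.coheight z'.1 : ℕ∞) : WithBot ℕ∞) := h1.symm
      exact_mod_cast this
    rw [h4, add_comm]
    exact le_trans (add_le_add h3 le_rfl) h2
  have hm0 : (m : ℕ∞) ≤ Order.coheight x := by
    have := key (RelSeries.singleton _ ⟨x, rfl⟩) rfl
    simpa using this
  have h6 : Order.coheight (⟨x, rfl⟩ : {z : X // f z = f x}) ≤ Order.coheight x - (m : ℕ∞) := by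
    rw [Order.coheight_le_iff']
    intro p hp
    exact ENat.le_sub_of_add_le_right (ENat.natCast_ne_top m) (key p hp)
  have h7 : Order.coheight (⟨x, rfl⟩ : {z : X // f z = f x}) + (m : ℕ∞) ≤ Order.coheight x :=
    add_le_of_le_tsub_right_of_le hm0 h6
  have : (((Order.coheight (⟨x, rfl⟩ : {z : X // f z = f x}) + (m : ℕ∞) : ℕ∞)) : WithBot ℕ∞) ≤
      ((Order.coheight x : ℕ∞) : WithBot ℕ∞) := WithBot.coe_le_coe.mpr h7
  rw [add_comm]
  push_cast at this
  exact this

end Fib


section Main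

variable {X Y : Scheme.{u}} [IsLocallyNoetherian Y] (f : X ⟶ Y) [LocallyOfFiniteType f] (x : X)

theorem flat_imp_cm (hCM : LocCoh.IsCohenMacaulayLocalRing (X.presheaf.stalk x))
    (hfl : (f.stalkMap x).hom.Flat) :
    LocCoh.IsCohenMacaulayLocalRing ((f.fiber (f.base x)).presheaf.stalk (f.asFiber x)) := by
  haveI : IsLocallyNoetherian X := LocallyOfFiniteType.isLocallyNoetherian f
  obtain ⟨γ, hγ, hk⟩ := Groth.Agent.Helper3.FibStalk.exists_fibre_presentation f x
  have D : FLData (f.stalkMap x).hom γ := ⟨hfl, inferInstance, hγ, hk⟩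
  exact ((cm_iff_of_flData D).mp hCM).2

theorem flat_imp_univOpen (hfl : (f.stalkMap x).hom.Flat) :
    ∃ U : X.Opens, x ∈ U ∧ UniversallyOpen (U.ι ≫ f) := by
  haveI : LocallyOfFinitePresentation f :=
    LocallyOfFinitePresentation.iff_locallyOfFiniteType.mpr inferInstance
  have hopen := Groth.Agent.Lead.FlatLoc.isOpen_flatLocus_of_locallyOfFinitePresentation f
  let V : X.Opens := ⟨{x | (f.stalkMap x).hom.Flat}, hopen⟩
  haveI : Flat (V.ι ≫ f) := by
    apply Flat.of_stalkMap
    intro v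
    exact (Groth.Agent.Lib.Helper6.EtLoc.flat_stalkMap_comp_iff V.ι f v).mp v.2
  exact ⟨V, hfl, inferInstance⟩

theorem univOpen_imp_openAt (U : X.Opens) (hxU : x ∈ U) (hU : UniversallyOpen (U.ι ≫ f))
    (z : ↥(f.fiber (f.base x))) (hz : f.asFiber x ∈ closure {z}) :
    EGA43.IsOpenAt f.base ((f.fiberι (f.base x)).base z) := by
  have hsp : z ⤳ f.asFiber x := specializes_iff_mem_closure.mpr hz
  have hsp' : f.fiberι (f x) z ⤳ x := by
    have := hsp.map (f.fiberι (f x)).continuous
    rwa [f.fiberι_asFiber x] at this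
  have hzU : f.fiberι (f x) z ∈ U := hsp'.mem_open U.2 hxU
  intro N hN
  have hom : IsOpenMap (U.ι ≫ f) := (U.ι ≫ f).isOpenMap
  have h1 : (U.ι ≫ f) '' (U.ι ⁻¹' N) ∈ nhds ((U.ι ≫ f) ⟨f.fiberι (f x) z, hzU⟩) :=
    hom.image_mem_nhds (U.ι.continuous.continuousAt.preimage_mem_nhds hN)
  refine Filter.mem_of_superset h1 ?_
  rintro _ ⟨u, hu, rfl⟩
  exact ⟨U.ι u, hu, rfl⟩

theorem openAt_imp_dim
    (h : ∀ z : ↥(f.fiber (f.base x)), f.asFiber x ∈ closure {z} →
          (∀ z' : ↥(f.fiber (f.base x)), z ∈ closure {z'} → z' = z) →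
          EGA43.IsOpenAt f.base ((f.fiberι (f.base x)).base z)) :
    ringKrullDim (X.presheaf.stalk x) =
        ringKrullDim (Y.presheaf.stalk (f.base x)) +
          ringKrullDim ((f.fiber (f.base x)).presheaf.stalk (f.asFiber x)) := by
  apply le_antisymm (Groth.Agent.Lib.Helper4.FibreStalkDim1.S3447_main f x)
  apply stalk_dim_ge_of_max' f x
  intro z hz hzx hmax
  have hmax' : ∀ z' : X, f z' = f z → z' ⤳ z → z' = z := (isMax_fib_iff f z).mp hmax
  apply stalk_dim_eq_of_isOpenAt_of_max f z hmax'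
  -- the point of the fibre
  let zf : ↥(f.fiber (f x)) := (fibOrderIso f (f x)).symm ⟨z, hz⟩
  have hzf : f.fiberι (f x) zf = z := by
    have := (fibOrderIso f (f x)).apply_symm_apply ⟨z, hz⟩
    exact congrArg Subtype.val this
  have h1 : f.asFiber x ∈ closure {zf} := by
    rw [← specializes_iff_mem_closure]
    have h2 : (⟨x, rfl⟩ : {w : X // f w = f x}) ≤ ⟨z, hz⟩ := hzx
    have h3 := (fibOrderIso f (f x)).symm.monotone h2
    have h4 : (fibOrderIso f (f x)).symm ⟨x, rfl⟩ = f.asFiber x := by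
      rw [← fibOrderIso_asFiber f x, OrderIso.symm_apply_apply]
    rw [h4] at h3
    exact h3
  have h2 : ∀ z' : ↥(f.fiber (f.base x)), zf ∈ closure {z'} → z' = zf := by
    intro z' hz'
    have hsp : z' ⤳ zf := specializes_iff_mem_closure.mpr hz'
    have hsp' : f.fiberι (f x) z' ⤳ z := by
      have := hsp.map (f.fiberι (f x)).continuous
      rwa [hzf] at this
    have h5 := hmax' _ ((fiberι_mem f (f x) z').trans hz.symm) hsp'
    apply (f.fiberι (f x)).isEmbedding.injective
    rw [h5, hzf]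
  have h3 := h zf h1 h2
  have h4 : (f.fiberι (f.base x)).base zf = z := hzf
  rw [h4] at h3
  exact h3

theorem dim_imp_flat (hreg : IsRegularLocalRing (Y.presheaf.stalk (f.base x)))
    (hCM : LocCoh.IsCohenMacaulayLocalRing (X.presheaf.stalk x))
    (hdim : ringKrullDim (X.presheaf.stalk x) =
        ringKrullDim (Y.presheaf.stalk (f.base x)) +
          ringKrullDim ((f.fiber (f.base x)).presheaf.stalk (f.asFiber x))) :
    (f.stalkMap x).hom.Flat := by
  obtain ⟨γ, hγ, hk⟩ := Groth.Agent.Helper3.FibStalk.exists_fibre_presentation f x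
  letI : Algebra (Y.presheaf.stalk (f x)) (X.presheaf.stalk x) := (f.stalkMap x).hom.toAlgebra
  haveI : IsLocalHom (algebraMap (Y.presheaf.stalk (f x)) (X.presheaf.stalk x)) :=
    inferInstanceAs (IsLocalHom (f.stalkMap x).hom)
  have hk' : RingHom.ker γ = (maximalIdeal (Y.presheaf.stalk (f x))).map
      (algebraMap (Y.presheaf.stalk (f x)) (X.presheaf.stalk x)) := hk
  let e : (X.presheaf.stalk x ⧸ (maximalIdeal (Y.presheaf.stalk (f x))).map
      (algebraMap (Y.presheaf.stalk (f x)) (X.presheaf.stalk x))) ≃+*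
        (f.fiber (f x)).presheaf.stalk (f.asFiber x) :=
    (Ideal.quotEquivOfEq hk'.symm).trans (RingHom.quotientKerEquivOfSurjective hγ)
  have hfl : Module.Flat (Y.presheaf.stalk (f x)) (X.presheaf.stalk x) := by
    haveI := hreg
    haveI := hCM
    apply Groth.Agent.Helper8.FlatReg.miracle_flatness
    rw [ringKrullDim_eq_of_ringEquiv e]
    exact hdim
  exact hfl

theorem S3440_main (hreg : IsRegularLocalRing (Y.presheaf.stalk (f.base x)))
    (hCM : LocCoh.IsCohenMacaulayLocalRing (X.presheaf.stalk x)) :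
    List.TFAE [
      (f.stalkMap x).hom.Flat ∧ LocCoh.IsCohenMacaulayLocalRing ((f.fiber (f.base x)).presheaf.stalk (f.asFiber x)),
      (f.stalkMap x).hom.Flat,
      ∃ U : X.Opens, x ∈ U ∧ UniversallyOpen (U.ι ≫ f),
      (∀ z : ↥(f.fiber (f.base x)), f.asFiber x ∈ closure {z} →
          (∀ z' : ↥(f.fiber (f.base x)), z ∈ closure {z'} → z' = z) →
          EGA43.IsOpenAt f.base ((f.fiberι (f.base x)).base z)),
      ringKrullDim (X.presheaf.stalk x) =
        ringKrullDim (Y.presheaf.stalk (f.base x)) + ringKrullDim ((f.fiber (f.base x)).presheaf.stalk (f.asFiber x)) ] := by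
  tfae_have 1 → 2 := fun h => h.1
  tfae_have 2 → 1 := fun h => ⟨h, flat_imp_cm f x hCM h⟩
  tfae_have 2 → 3 := fun h => flat_imp_univOpen f x h
  tfae_have 3 → 4 := by
    rintro ⟨U, hxU, hU⟩ z hz -
    exact univOpen_imp_openAt f x U hxU hU z hz
  tfae_have 4 → 5 := fun h => openAt_imp_dim f x h
  tfae_have 5 → 2 := fun h => dim_imp_flat f x hreg hCM h
  tfae_finish

end Main

end Groth.Agent.Lead.CMReg
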