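import Mathlib
import Groth.Agent.Lib.Lead.CSA5
import Groth.Agent.Lib.Lead.CSA8

namespace Groth.Agent.Lead.CSA

open TensorProduct MulOpposite Module

section Iso

variable {k : Type*} [Field k] {R : Type*} [Ring R] [Algebra k R] [IsSimpleRing R]
  [FiniteDimensional k R]
  {M : Type*} [AddCommGroup M] [Module R M] [Module k M] [IsScalarTower k R M]
  [FiniteDimensional k M]
  {N : Type*} [AddCommGroup N] [Module R N] [Module k N] [IsScalarTower k R N]
  [FiniteDimensional k N]

/-- two finite-dimensional modules over a simple finite-dimensional algebra with the same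
dimension are isomorphic -/
theorem nonempty_linearEquiv_of_finrank_eq (h : finrank k M = finrank k N) :
    Nonempty (M ≃ₗ[R] N) := by
  have : IsArtinianRing R := IsArtinianRing.of_finite k R
  obtain ⟨m, hm, S, hS, ⟨e⟩⟩ := (IsSimpleRing.isIsotypic R R).linearEquiv_fun
  have : Module.Finite R M := Module.Finite.of_restrictScalars_finite k R M
  have : Module.Finite R N := Module.Finite.of_restrictScalars_finite k R N
  obtain ⟨n₁, ⟨e₁⟩⟩ := (isIsotypicOfType_of_simple S M).linearEquiv_fun
  obtain ⟨n₂, ⟨e₂⟩⟩ := (isIsotypicOfType_of_simple S N).linearEquiv_fun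
  have h1 : finrank k M = n₁ * finrank k S := by
    rw [LinearEquiv.finrank_eq (e₁.restrictScalars k), Module.finrank_pi_fintype]
    simp
  have h2 : finrank k N = n₂ * finrank k S := by
    rw [LinearEquiv.finrank_eq (e₂.restrictScalars k), Module.finrank_pi_fintype]
    simp
  have hSpos : 0 < finrank k S := by
    have : Nontrivial S := IsSimpleModule.nontrivial R S
    exact Module.finrank_pos
  have hn : n₁ = n₂ := by
    rw [h1, h2] at h
    exact Nat.eq_of_mul_eq_mul_right hSpos h
  subst hn
  exact ⟨e₁.trans e₂.symm⟩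

end Iso

section SN

variable {k : Type*} [Field k] {A : Type*} [Ring A] [Algebra k A]
  [Algebra.IsCentral k A] [IsSimpleRing A] [FiniteDimensional k A]
  {B : Type*} [Ring B] [Algebra k B] [IsSimpleRing B]

theorem skolem_noether (f g : B →ₐ[k] A) :
    ∃ x : Aˣ, ∀ b : B, f b = (x : A) * g b * (x⁻¹ : Aˣ) := by
  have hfinj : Function.Injective f := RingHom.injective f.toRingHom
  have : FiniteDimensional k B := FiniteDimensional.of_injective f.toLinearMap hfinj
  obtain ⟨φ⟩ := nonempty_linearEquiv_of_finrank_eq (k := k) (R := B ⊗[k] Aᵐᵒᵖ)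
    (M := Bimod f) (N := Bimod g) (by rw [Bimod.finrank_eq, Bimod.finrank_eq])
  set u : A := (Bimod.of g).symm (φ (Bimod.of f 1)) with hu
  set v : A := (Bimod.of f).symm (φ.symm (Bimod.of g 1)) with hv
  have hφ : ∀ x : A, φ (Bimod.of f x) = Bimod.of g (u * x) := by
    intro x
    have h1 : Bimod.of f x = ((1 : B) ⊗ₜ[k] (op x)) • (Bimod.of f 1) := by
      rw [Bimod.smul_def, LinearEquiv.symm_apply_apply, rho_tmul]
      simp
    rw [h1, map_smul, Bimod.smul_def, rho_tmul]
    simp [hu]
  have hψ : ∀ y : A, φ.symm (Bimod.of g y) = Bimod.of f (v * y) := by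
    intro y
    have h1 : Bimod.of g y = ((1 : B) ⊗ₜ[k] (op y)) • (Bimod.of g 1) := by
      rw [Bimod.smul_def, LinearEquiv.symm_apply_apply, rho_tmul]
      simp
    rw [h1, map_smul, Bimod.smul_def, rho_tmul]
    simp [hv]
  have huv : u * v = 1 := by
    have h1 : φ (φ.symm (Bimod.of g 1)) = Bimod.of g 1 := φ.apply_symm_apply _
    rw [hψ, hφ, mul_one] at h1
    exact (Bimod.of g).injective h1
  have hvu : v * u = 1 := by
    have h1 : φ.symm (φ (Bimod.of f 1)) = Bimod.of f 1 := φ.symm_apply_apply _
    rw [hφ, hψ, mul_one] at h1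
    exact (Bimod.of f).injective h1
  have hfg : ∀ b : B, u * f b = g b * u := by
    intro b
    have h1 : Bimod.of f (f b) = (b ⊗ₜ[k] (op (1 : A))) • (Bimod.of f 1) := by
      rw [Bimod.smul_def, LinearEquiv.symm_apply_apply, rho_tmul]
      simp
    have h2 := hφ (f b)
    rw [h1, map_smul, Bimod.smul_def, rho_tmul] at h2
    simp only [unop_op, mul_one] at h2
    have h3 := (Bimod.of g).injective h2
    rw [← hu] at h3
    exact h3.symm
  refine ⟨⟨v, u, hvu, huv⟩, fun b => ?_⟩
  show f b = v * g b * u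
  rw [mul_assoc, ← hfg b, ← mul_assoc, hvu, one_mul]

end SN

end Groth.Agent.Lead.CSA
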