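import Mathlib

namespace Groth.Agent.Lead.CSA

open TensorProduct Module

variable {k : Type*} [Field k] {D : Type*} [DivisionRing D] [Algebra k D]
  [FiniteDimensional k D] {k' : Type*} [Field k'] [Algebra k k'] [FiniteDimensional k k']

/-- the action of `D` on column vectors coming from a splitting -/
noncomputable def splitHom {n : ℕ} (e : k' ⊗[k] D ≃ₐ[k'] Matrix (Fin n) (Fin n) k') :
    D →ₐ[k] Module.End k' (Fin n → k') :=
  (((Matrix.toLinAlgEquiv' (R := k') (n := Fin n)).restrictScalars k).toAlgHom.comp
    (e.restrictScalars k).toAlgHom).comp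
    (Algebra.TensorProduct.includeRight : D →ₐ[k] k' ⊗[k] D)

/-- column vectors as a `D`-module through a splitting -/
def SplitMod {n : ℕ} (_e : k' ⊗[k] D ≃ₐ[k'] Matrix (Fin n) (Fin n) k') : Type _ := Fin n → k'

namespace SplitMod

variable {n : ℕ} (e : k' ⊗[k] D ≃ₐ[k'] Matrix (Fin n) (Fin n) k')

instance : AddCommGroup (SplitMod e) := inferInstanceAs (AddCommGroup (Fin n → k'))
instance : Module k' (SplitMod e) := inferInstanceAs (Module k' (Fin n → k'))
instance : Module k (SplitMod e) := inferInstanceAs (Module k (Fin n → k'))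
instance : IsScalarTower k k' (SplitMod e) :=
  inferInstanceAs (IsScalarTower k k' (Fin n → k'))
noncomputable instance : Module D (SplitMod e) :=
  Module.compHom (Fin n → k') (splitHom e).toRingHom

omit [FiniteDimensional k D] [FiniteDimensional k k'] in
theorem smul_def (x : D) (v : SplitMod e) : x • v = (splitHom e x) v := rfl

instance : IsScalarTower k D (SplitMod e) where
  smul_assoc c x v := by
    rw [smul_def, smul_def, map_smul]
    rfl

omit [FiniteDimensional k D] in
theorem finrank_k : finrank k (SplitMod e) = finrank k k' * n := by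
  have h := Module.finrank_mul_finrank k k' (SplitMod e)
  rw [← h]
  congr 1
  show finrank k' (Fin n → k') = n
  simp

end SplitMod

theorem dvd_of_splits (d : ℕ) (hd : finrank k D = d ^ 2) {n : ℕ} (hn : n ≠ 0)
    (e : k' ⊗[k] D ≃ₐ[k'] Matrix (Fin n) (Fin n) k') : d ∣ finrank k k' := by
  have h1 : finrank k' (k' ⊗[k] D) = finrank k D := Module.finrank_baseChange
  have h2 : finrank k' (k' ⊗[k] D) = n * n := by
    rw [LinearEquiv.finrank_eq e.toLinearEquiv, Module.finrank_matrix]
    simp
  have hnd : n = d := by
    have : n ^ 2 = d ^ 2 := by rw [← hd, ← h1, h2, pow_two]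
    exact Nat.pow_left_injective (by norm_num : (2 : ℕ) ≠ 0) this
  subst hnd
  have h3 := Module.finrank_mul_finrank k D (SplitMod e)
  rw [SplitMod.finrank_k, hd] at h3
  have hpos : 0 < n := Nat.pos_of_ne_zero hn
  refine ⟨finrank D (SplitMod e), ?_⟩
  have : n * (finrank k k') = n * (n * finrank D (SplitMod e)) := by
    rw [mul_comm n (finrank k k'), ← h3]; ring
  exact Nat.eq_of_mul_eq_mul_left hpos this

end Groth.Agent.Lead.CSA
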