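import Mathlib
import Groth.Agent.Lib.Lead.CSA13

namespace Groth.Agent.Lead.CSA

open Module IntermediateField Polynomial

universe u v

section adjoin

variable {K : Type u} [Field K] {A : Type v} [DivisionRing A] [Algebra K A]

theorem adjoin_singleton_comm (x : A) :
    ∀ a ∈ Algebra.adjoin K ({x} : Set A), ∀ b ∈ Algebra.adjoin K ({x} : Set A), a * b = b * a := by
  intro a ha b hb
  have hs : ∀ a ∈ ({x} : Set A), ∀ b ∈ ({x} : Set A), a * b = b * a := by
    rintro a rfl b rfl; rfl
  exact Set.centralizer_centralizer_comm_of_comm hs a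
      (Algebra.adjoin_le_centralizer_centralizer K _ ha) b
      (Algebra.adjoin_le_centralizer_centralizer K _ hb)

variable [FiniteDimensional K A]

theorem finrank_adjoin_eq (x : A) :
    finrank K (Algebra.adjoin K ({x} : Set A)) = (minpoly K x).natDegree := by
  set L := Algebra.adjoin K ({x} : Set A) with hL
  have hcomm := adjoin_singleton_comm (K := K) x
  letI : Field L := fieldSub L hcomm
  let x' : L := ⟨x, Algebra.subset_adjoin (Set.mem_singleton x)⟩
  have hint : IsIntegral K x' := Algebra.IsIntegral.isIntegral x'
  have h1 : finrank K K⟮x'⟯ = (minpoly K x').natDegree := IntermediateField.adjoin.finrank hint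
  have h2 : minpoly K x' = minpoly K x := by
    have := minpoly.algHom_eq L.val Subtype.val_injective x'
    exact this.symm
  have h3 : K⟮x'⟯ = ⊤ := by
    apply IntermediateField.toSubalgebra_injective
    rw [IntermediateField.adjoin_simple_toSubalgebra_of_isAlgebraic hint.isAlgebraic,
      IntermediateField.top_toSubalgebra]
    have := Algebra.adjoin_adjoin_coe_preimage (R := K) (s := ({x} : Set A))
    have hpre : ({x'} : Set L) = Subtype.val ⁻¹' {x} := by
      ext y
      constructor
      · rintro rfl; rfl
      · intro h; exact Subtype.ext h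
    rw [hpre]
    exact this
  rw [← h2, ← h1, h3]
  exact (IntermediateField.finrank_top' (F := K) (E := L)).symm

variable [Algebra.IsCentral K A]

/-- in a central division algebra of dimension `n²`, `[K[x]:K]` divides `n` and the centralizer of
`K[x]` has dimension `n² / [K[x]:K]` -/
theorem finrank_adjoin_dvd (n : ℕ) (hn : finrank K A = n ^ 2) (x : A) :
    finrank K (Algebra.adjoin K ({x} : Set A)) ∣ n := by
  set L := Algebra.adjoin K ({x} : Set A) with hL
  have hcomm := adjoin_singleton_comm (K := K) x
  have hsim : IsSimpleRing L := isSimpleRing_subalgebra L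
  have hcen := finrank_centralizer (k := K) (A := A) L
  set Cz := Subalgebra.centralizer K (L : Set A) with hCz
  have hLC : L ≤ Cz := by
    intro a ha
    rw [Subalgebra.mem_centralizer_iff]
    intro g hg
    exact hcomm g hg a ha
  letI : Field L := fieldSub L hcomm
  letI : Module L Cz := Module.compHom Cz (Subalgebra.inclusion hLC).toRingHom
  have : IsScalarTower K L Cz := by
    constructor
    intro a l z
    show (Subalgebra.inclusion hLC (a • l)) * z = a • ((Subalgebra.inclusion hLC l) * z)
    rw [map_smul, smul_mul_assoc]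
  have htower := Module.finrank_mul_finrank K L Cz
  rw [← htower, hn] at hcen
  have : finrank K L ^ 2 ∣ n ^ 2 := ⟨finrank L Cz, by rw [hcen]; ring⟩
  exact (Nat.pow_dvd_pow_iff (by norm_num)).mp this

end adjoin

section prime

variable {K : Type u} [Field K] {A : Type v} [DivisionRing A] [Algebra K A]
  [FiniteDimensional K A] [Algebra.IsCentral K A] {p : ℕ}

theorem finrank_adjoin_prime (hp : p.Prime) (hA : finrank K A = p ^ 2) (x : A)
    (hx : x ∉ (algebraMap K A).range) :
    finrank K (Algebra.adjoin K ({x} : Set A)) = p := by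
  have hdvd := finrank_adjoin_dvd p hA x
  rcases (Nat.dvd_prime hp).mp hdvd with h | h
  · exfalso
    apply hx
    have hbot := Subalgebra.eq_bot_of_finrank_one h
    have hmem : x ∈ Algebra.adjoin K ({x} : Set A) := Algebra.subset_adjoin (Set.mem_singleton x)
    rw [hbot, Algebra.mem_bot] at hmem
    obtain ⟨c, hc⟩ := hmem
    exact ⟨c, hc⟩
  · exact h

theorem mem_adjoin_of_commute (hp : p.Prime) (hA : finrank K A = p ^ 2) (x : A)
    (hx : x ∉ (algebraMap K A).range) (y : A) (hy : x * y = y * x) :
    y ∈ Algebra.adjoin K ({x} : Set A) := by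
  set L := Algebra.adjoin K ({x} : Set A) with hL
  have hcomm := adjoin_singleton_comm (K := K) x
  have hsim : IsSimpleRing L := isSimpleRing_subalgebra L
  have hcen := finrank_centralizer (k := K) (A := A) L
  rw [hA, finrank_adjoin_prime hp hA x hx, pow_two] at hcen
  have hCz : finrank K (Subalgebra.centralizer K (L : Set A)) = p :=
    (Nat.eq_of_mul_eq_mul_left hp.pos hcen).symm
  have hLC : L ≤ Subalgebra.centralizer K (L : Set A) := by
    intro a ha
    rw [Subalgebra.mem_centralizer_iff]
    intro g hg
    exact hcomm g hg a ha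
  have heq : L = Subalgebra.centralizer K (L : Set A) := by
    apply Subalgebra.toSubmodule_injective
    apply Submodule.eq_of_le_of_finrank_eq hLC
    show finrank K L = finrank K (Subalgebra.centralizer K (L : Set A))
    rw [hCz]
    exact finrank_adjoin_prime hp hA x hx
  rw [heq, Subalgebra.mem_centralizer_iff]
  intro g hg
  have hyc : y ∈ Set.centralizer ({x} : Set A) := by
    rw [Set.mem_centralizer_iff]
    rintro m rfl
    exact hy
  have := Algebra.adjoin_le_centralizer_centralizer K ({x} : Set A) hg
  exact (this y hyc).symm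

/-- key lemma: if `θ^p` commutes with the noncentral `u` but `θ` does not, then `θ^p ∈ K` -/
theorem pow_mem_of_commute (hp : p.Prime) (hA : finrank K A = p ^ 2) (u θ : A)
    (hu : u ∉ (algebraMap K A).range)
    (h1 : θ ^ p * u = u * θ ^ p) (h2 : θ * u ≠ u * θ) : θ ^ p ∈ (algebraMap K A).range := by
  by_contra h
  apply h2
  have hmem : u ∈ Algebra.adjoin K ({θ ^ p} : Set A) :=
    mem_adjoin_of_commute hp hA (θ ^ p) h u h1
  have hle : Algebra.adjoin K ({θ ^ p} : Set A) ≤ Algebra.adjoin K ({θ} : Set A) := by
    apply Algebra.adjoin_le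
    rintro z rfl
    exact Subalgebra.pow_mem _ (Algebra.subset_adjoin (Set.mem_singleton θ)) p
  exact adjoin_singleton_comm (K := K) θ θ (Algebra.subset_adjoin (Set.mem_singleton θ)) u
    (hle hmem)

/-- an element outside `K` whose `p`-th power lies in `K` is inseparable in characteristic `p` -/
theorem not_isSeparable_of_pow_mem [CharP K p] (hp : p.Prime) (hA : finrank K A = p ^ 2) (θ : A)
    (hθ : θ ∉ (algebraMap K A).range) (h : θ ^ p ∈ (algebraMap K A).range) :
    ¬ IsSeparable K θ := by
  obtain ⟨c, hc⟩ := h
  intro hsep
  have hint : IsIntegral K θ := Algebra.IsIntegral.isIntegral θ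
  have hdeg : (minpoly K θ).natDegree = p := by
    rw [← finrank_adjoin_eq]; exact finrank_adjoin_prime hp hA θ hθ
  have hmon : (X ^ p - C c : K[X]).Monic := monic_X_pow_sub_C c hp.ne_zero
  have hdvd : minpoly K θ ∣ X ^ p - C c := by
    apply minpoly.dvd
    simp [hc]
  have heq : X ^ p - C c = minpoly K θ :=
    Polynomial.eq_of_monic_of_dvd_of_natDegree_le (minpoly.monic hint) hmon hdvd
      (by rw [natDegree_X_pow_sub_C, hdeg])
  have hs : (X ^ p - C c : K[X]).Separable := by rw [heq]; exact hsep
  rw [separable_def] at hs
  have hder : derivative (X ^ p - C c : K[X]) = 0 := by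
    rw [derivative_sub, derivative_X_pow, derivative_C, sub_zero]
    rw [CharP.cast_eq_zero K p, map_zero, zero_mul]
  rw [hder, isCoprime_zero_right] at hs
  have := natDegree_eq_zero_of_isUnit hs
  rw [natDegree_X_pow_sub_C] at this
  exact hp.ne_zero this

end prime

end Groth.Agent.Lead.CSA
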