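import Mathlib
import Groth.Agent.Lib.Lead.CSA21
import Groth.Agent.Lib.Lead.CSA10

namespace Groth.Agent.Lead.CSA

open Module IntermediateField Polynomial

universe u v

section galois

variable {K : Type u} [Field K] {A : Type v} [DivisionRing A] [Algebra K A]
  [FiniteDimensional K A] [Algebra.IsCentral K A] {p : ℕ}

/-- the map `K[X]/(f) → A` sending the root to a root `b` of `f` -/
noncomputable def rootHom (f : K[X]) (b : A) (hb : aeval b f = 0) : AdjoinRoot f →ₐ[K] A :=
  Ideal.Quotient.liftₐ (Ideal.span {f}) (aeval b) (fun a ha => by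
    obtain ⟨q, rfl⟩ := Ideal.mem_span_singleton.mp ha
    rw [map_mul, hb, zero_mul])

omit [FiniteDimensional K A] [Algebra.IsCentral K A] in
theorem rootHom_mk (f : K[X]) (b : A) (hb : aeval b f = 0) (q : K[X]) :
    rootHom f b hb (AdjoinRoot.mk f q) = aeval b q := by
  rfl

omit [FiniteDimensional K A] [Algebra.IsCentral K A] in
theorem rootHom_root (f : K[X]) (b : A) (hb : aeval b f = 0) :
    rootHom f b hb (AdjoinRoot.root f) = b := by
  show rootHom f b hb (AdjoinRoot.mk f X) = b
  rw [rootHom_mk, aeval_X]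

theorem exists_theta_of_root (hp : p.Prime) (hA : finrank K A = p ^ 2) (u b : A)
    (hu : u ∉ (algebraMap K A).range) (hb : b ∈ Algebra.adjoin K ({u} : Set A)) (hbu : b ≠ u)
    (hroot : aeval b (minpoly K u) = 0) :
    ∃ θ : A, θ ^ p * u = u * θ ^ p ∧ θ * u ≠ u * θ := by
  classical
  have hint : IsIntegral K u := Algebra.IsIntegral.isIntegral u
  set f := minpoly K u with hf
  have hirr : Irreducible f := minpoly.irreducible hint
  have : Fact (Irreducible f) := ⟨hirr⟩
  have hdeg : f.natDegree = p := by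
    rw [hf, ← finrank_adjoin_eq]; exact finrank_adjoin_prime hp hA u hu
  let ιu : AdjoinRoot f →ₐ[K] A := rootHom f u (minpoly.aeval K u)
  have hιu_inj : Function.Injective ιu := (ιu : AdjoinRoot f →+* A).injective
  -- β
  rw [Algebra.adjoin_singleton_eq_range_aeval] at hb
  obtain ⟨q, hq⟩ := hb
  have hq' : aeval u q = b := hq
  let β : AdjoinRoot f := AdjoinRoot.mk f q
  have hβ : ιu β = b := by rw [rootHom_mk, hq']
  have hβroot : aeval β f = 0 := by
    apply hιu_inj
    rw [map_zero, ← aeval_algHom_apply, hβ, hroot]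
  let σ₀ : AdjoinRoot f →ₐ[K] AdjoinRoot f := AdjoinRoot.liftAlgHom f (Algebra.ofId K _) β hβroot
  have hσ₀root : σ₀ (AdjoinRoot.root f) = β := AdjoinRoot.liftAlgHom_root ..
  have hfin : FiniteDimensional K (AdjoinRoot f) := (AdjoinRoot.powerBasis hirr.ne_zero).finite
  have hfr : finrank K (AdjoinRoot f) = p := by
    rw [(AdjoinRoot.powerBasis hirr.ne_zero).finrank, AdjoinRoot.powerBasis_dim, hdeg]
  have hbij : Function.Bijective σ₀ := Algebra.IsAlgebraic.algHom_bijective σ₀
  let σ : AdjoinRoot f ≃ₐ[K] AdjoinRoot f := AlgEquiv.ofBijective σ₀ hbij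
  have hσroot : σ (AdjoinRoot.root f) = β := hσ₀root
  have hσ1 : σ ≠ 1 := by
    intro h
    apply hbu
    rw [← hβ, ← hσroot, h]
    exact rootHom_root f u _
  -- order of σ divides p
  have hord : orderOf σ ∣ p := by
    let H : Subgroup (AdjoinRoot f ≃ₐ[K] AdjoinRoot f) := Subgroup.zpowers σ
    have h1 : finrank (fixedField H) (AdjoinRoot f) = Nat.card H :=
      IntermediateField.finrank_fixedField_eq_card H
    have h2 := Module.finrank_mul_finrank K (fixedField H) (AdjoinRoot f)
    rw [h1, hfr, Nat.card_zpowers] at h2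
    exact ⟨_, by rw [← h2, mul_comm]⟩
  have hσp : σ ^ p = 1 := orderOf_dvd_iff_pow_eq_one.mp hord
  -- Skolem–Noether
  obtain ⟨x, hx⟩ := skolem_noether (k := K) (A := A) ιu (ιu.comp σ.toAlgHom)
  have hconj : ∀ z : AdjoinRoot f, ιu (σ z) = (x⁻¹ : Aˣ) * ιu z * x := by
    intro z
    have := hx z
    have h' : (ιu.comp (σ : AdjoinRoot f →ₐ[K] AdjoinRoot f)) z = ιu (σ z) := rfl
    rw [h'] at this
    rw [this]
    simp only [← mul_assoc, Units.inv_mul, one_mul]
    rw [mul_assoc, Units.inv_mul, mul_one]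
  have hconjn : ∀ (n : ℕ) (z : AdjoinRoot f), ιu ((σ ^ n) z) = ((x⁻¹ : Aˣ) : A) ^ n * ιu z * (x : A) ^ n := by
    intro n
    induction n with
    | zero => intro z; simp
    | succ n ih =>
      intro z
      rw [pow_succ', AlgEquiv.mul_apply, hconj, ih, pow_succ' ((x⁻¹ : Aˣ) : A), pow_succ (x : A)]
      simp only [mul_assoc]
  have huroot : ιu (AdjoinRoot.root f) = u := rootHom_root f u _
  refine ⟨(x : A), ?_, ?_⟩
  · have := hconjn p (AdjoinRoot.root f)
    rw [hσp, AlgEquiv.one_apply, huroot] at this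
    -- u = x⁻¹^p u x^p
    have h3 : (x : A) ^ p * u = (x : A) ^ p * (((x⁻¹ : Aˣ) : A) ^ p * u * (x : A) ^ p) := by
      rw [← this]
    have h4 : (x : A) ^ p * ((x⁻¹ : Aˣ) : A) ^ p = 1 := by
      rw [← Units.val_pow_eq_pow_val, ← Units.val_pow_eq_pow_val, ← Units.val_mul, inv_pow,
        mul_inv_cancel, Units.val_one]
    rw [h3, ← mul_assoc, ← mul_assoc, h4, one_mul]
  · intro h
    apply hbu
    have := hconj (AdjoinRoot.root f)
    rw [hσroot, hβ, huroot] at this
    rw [this, mul_assoc, ← h, ← mul_assoc, Units.inv_mul, one_mul]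

end galois

section wedderburn

variable {K : Type u} [Field K] {A : Type v} [DivisionRing A] [Algebra K A]

/-- the cubic expression -/
def cub (a₂ a₁ a₀ : K) (x : A) : A := x * x * x + a₂ • (x * x) + a₁ • x + a₀ • (1 : A)

theorem cub_conj (a₂ a₁ a₀ : K) (x y z : A) (hz : z ≠ 0) (h : y * z = z * x)
    (hx : cub a₂ a₁ a₀ x = 0) : cub a₂ a₁ a₀ y = 0 := by
  have h2 : y * y * z = z * (x * x) := by
    rw [mul_assoc, h, ← mul_assoc, h, mul_assoc]
  have h3 : y * y * y * z = z * (x * x * x) := by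
    rw [mul_assoc (y * y), h, ← mul_assoc, h2, mul_assoc, mul_assoc]
  have : cub a₂ a₁ a₀ y * z = z * cub a₂ a₁ a₀ x := by
    unfold cub
    simp only [add_mul, mul_add, smul_mul_assoc, mul_smul_comm, one_mul, mul_one, h3, h2, h]
  rw [hx, mul_zero] at this
  rcases mul_eq_zero.mp this with h | h
  · exact h
  · exact absurd h hz

/-- the relation `R1` between `u` and `b = δ w δ⁻¹`, `δ = w - u` -/
theorem rel_R1 (a₂ a₁ a₀ : K) (u w b : A) (hδ : w - u ≠ 0) (hb : b * (w - u) = (w - u) * w)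
    (hu : cub a₂ a₁ a₀ u = 0) (hw : cub a₂ a₁ a₀ w = 0) :
    b * b + u * b + u * u + a₂ • (u + b) + a₁ • (1 : A) = 0 := by
  have h2 : b * b * (w - u) = (w - u) * (w * w) := by
    rw [mul_assoc, hb, ← mul_assoc, hb, mul_assoc]
  have key : (b * b + u * b + u * u + a₂ • (u + b) + a₁ • (1 : A)) * (w - u) =
      cub a₂ a₁ a₀ w - cub a₂ a₁ a₀ u := by
    have e1 : (b * b + u * b + u * u + a₂ • (u + b) + a₁ • (1 : A)) * (w - u) =
        b * b * (w - u) + u * (b * (w - u)) + u * u * (w - u) + a₂ • (u * (w - u) + b * (w - u))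
          + a₁ • (w - u) := by
      simp only [add_mul, mul_add, smul_mul_assoc, mul_smul_comm, one_mul, mul_one, smul_add,
        mul_assoc]
    rw [e1, h2, hb]
    unfold cub
    simp only [add_mul, mul_add, sub_mul, mul_sub, smul_mul_assoc, mul_smul_comm, one_mul,
      mul_one, smul_add, smul_sub, mul_assoc]
    module
  rw [hu, hw, sub_zero] at key
  rcases mul_eq_zero.mp key with h | h
  · exact h
  · exact absurd h hδ

/-- Wedderburn's relations: `θ = ub - bu` conjugates `u → b → c → u` -/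
theorem wedderburn_rel (a₂ a₁ a₀ : K) (u b : A)
    (hu : cub a₂ a₁ a₀ u = 0) (hb : cub a₂ a₁ a₀ b = 0)
    (hR : b * b + u * b + u * u + a₂ • (u + b) + a₁ • (1 : A) = 0) :
    let θ := u * b - b * u
    let c := -(a₂ • (1 : A)) - u - b
    θ * u = b * θ ∧ θ * b = c * θ ∧ θ * c = u * θ := by
  intro θ c
  set r1 := b * b + u * b + u * u + a₂ • (u + b) + a₁ • (1 : A) with hr1
  have e1 : θ * u - b * θ = r1 * u - b * r1 - cub a₂ a₁ a₀ u + cub a₂ a₁ a₀ b := by
    simp only [θ, hr1, cub]
    simp only [add_mul, mul_add, sub_mul, mul_sub, smul_mul_assoc, mul_smul_comm, one_mul,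
      mul_one, smul_add, smul_sub, mul_assoc]
    module
  have e2 : θ * b - c * θ = u * r1 - r1 * u := by
    simp only [θ, c, hr1]
    simp only [add_mul, mul_add, sub_mul, mul_sub, neg_mul, mul_neg, smul_mul_assoc,
      mul_smul_comm, one_mul, mul_one, smul_add, smul_sub, mul_assoc]
    module
  have h1 : θ * u = b * θ := by
    rw [← sub_eq_zero, e1, hR, hu, hb]; simp
  have h2 : θ * b = c * θ := by
    rw [← sub_eq_zero, e2, hR]; simp
  refine ⟨h1, h2, ?_⟩
  have e3 : θ * c - u * θ = -(θ * u - b * θ) - (θ * b - c * θ) := by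
    simp only [c]
    simp only [add_mul, mul_add, sub_mul, mul_sub, neg_mul, mul_neg, smul_mul_assoc,
      mul_smul_comm, one_mul, mul_one, smul_add, smul_sub, mul_assoc]
    module
  rw [← sub_eq_zero, e3, h1, h2]; simp

end wedderburn

end Groth.Agent.Lead.CSA
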