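import Mathlib
import Groth.Agent.Lib.Lead.CSA3

namespace Groth.Agent.Lead.CSA

open TensorProduct

variable {k : Type*} [Field k] {A : Type*} [Ring A] [Algebra k A] {B : Type*} [Ring B]
  [Algebra k B]

/-- the `k`-subspace of those `a` with `a ⊗ 1 ∈ I` -/
def leftPart (I : TwoSidedIdeal (A ⊗[k] B)) : Submodule k A :=
  (idealSubmodule I).comap ((TensorProduct.mk k A B).flip 1)

theorem mem_leftPart (I : TwoSidedIdeal (A ⊗[k] B)) (a : A) :
    a ∈ leftPart I ↔ a ⊗ₜ[k] (1 : B) ∈ I := by
  unfold leftPart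
  rw [Submodule.mem_comap, mem_idealSubmodule]
  rfl

theorem exists_decomp (P Q : Submodule k A) (h : IsCompl P Q) (x : A ⊗[k] B) :
    ∃ x₁ ∈ LinearMap.range (P.subtype.rTensor B), ∃ x₂ ∈ LinearMap.range (Q.subtype.rTensor B),
      x = x₁ + x₂ := by
  induction x using TensorProduct.induction_on with
  | zero => exact ⟨0, Submodule.zero_mem _, 0, Submodule.zero_mem _, by simp⟩
  | tmul a y =>
    have ha : a ∈ P ⊔ Q := by rw [h.sup_eq_top]; exact Submodule.mem_top
    obtain ⟨p, hp, q, hq, rfl⟩ := Submodule.mem_sup.mp ha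
    refine ⟨p ⊗ₜ y, ⟨(⟨p, hp⟩ : P) ⊗ₜ y, rfl⟩, q ⊗ₜ y, ⟨(⟨q, hq⟩ : Q) ⊗ₜ y, rfl⟩, ?_⟩
    rw [TensorProduct.add_tmul]
  | add x y hx hy =>
    obtain ⟨x₁, hx₁, x₂, hx₂, rfl⟩ := hx
    obtain ⟨y₁, hy₁, y₂, hy₂, rfl⟩ := hy
    refine ⟨x₁ + y₁, Submodule.add_mem _ hx₁ hy₁, x₂ + y₂, Submodule.add_mem _ hx₂ hy₂, ?_⟩
    abel

variable [IsSimpleRing B] [Algebra.IsCentral k B]

theorem ideal_eq_span (I : TwoSidedIdeal (A ⊗[k] B)) :
    I = TwoSidedIdeal.span ((fun a : A => a ⊗ₜ[k] (1 : B)) '' {a : A | a ⊗ₜ[k] (1 : B) ∈ I}) := by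
  apply le_antisymm
  · intro x hx
    obtain ⟨Q, hQ⟩ := Submodule.exists_isCompl (leftPart I)
    obtain ⟨x₁, hx₁, x₂, hx₂, rfl⟩ := exists_decomp (B := B) (leftPart I) Q hQ x
    -- the first part lies in the span
    have hspan : ∀ w : (leftPart I) ⊗[k] B, ((leftPart I).subtype.rTensor B) w ∈
        TwoSidedIdeal.span
          ((fun a : A => a ⊗ₜ[k] (1 : B)) '' {a : A | a ⊗ₜ[k] (1 : B) ∈ I}) := by
      intro w
      induction w using TensorProduct.induction_on with
      | zero => simp only [map_zero]; exact TwoSidedIdeal.zero_mem _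
      | tmul p y =>
        have : ((leftPart I).subtype.rTensor B) (p ⊗ₜ y) =
            ((p : A) ⊗ₜ[k] (1 : B)) * ((1 : A) ⊗ₜ[k] y) := by simp
        rw [this]
        apply TwoSidedIdeal.mul_mem_right
        apply TwoSidedIdeal.subset_span
        exact ⟨p, (mem_leftPart I p).mp p.2, rfl⟩
      | add w₁ w₂ h₁ h₂ =>
        rw [map_add]
        exact TwoSidedIdeal.add_mem _ h₁ h₂
    have h1 : x₁ ∈ TwoSidedIdeal.span
        ((fun a : A => a ⊗ₜ[k] (1 : B)) '' {a : A | a ⊗ₜ[k] (1 : B) ∈ I}) := by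
      obtain ⟨w, rfl⟩ := hx₁
      exact hspan w
    have h1I : x₁ ∈ I := by
      have hle : TwoSidedIdeal.span
          ((fun a : A => a ⊗ₜ[k] (1 : B)) '' {a : A | a ⊗ₜ[k] (1 : B) ∈ I}) ≤ I := by
        rw [TwoSidedIdeal.span_le]
        rintro _ ⟨a, ha, rfl⟩
        exact ha
      exact hle h1
    have h2I : x₂ ∈ I := by
      have := I.sub_mem hx h1I
      rwa [add_sub_cancel_left] at this
    -- the second part vanishes
    obtain ⟨w, rfl⟩ := hx₂
    have hw : w = 0 := by
      by_contra hw0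
      let N : Submodule k (Q ⊗[k] B) := (idealSubmodule I).comap (Q.subtype.rTensor B)
      have hN : N ≠ ⊥ := by
        intro h
        have : w ∈ N := by
          show (Q.subtype.rTensor B) w ∈ idealSubmodule I
          rw [mem_idealSubmodule]; exact h2I
        rw [h, Submodule.mem_bot] at this
        exact hw0 this
      obtain ⟨c, hc0, hc⟩ := exists_tmul_one_mem (k := k) N
        (by
          intro u z hz
          show (Q.subtype.rTensor B) (LinearMap.lTensor Q (LinearMap.mulLeft k u) z) ∈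
            idealSubmodule I
          have h3 : (Q.subtype.rTensor B) (LinearMap.lTensor Q (LinearMap.mulLeft k u) z) =
              LinearMap.lTensor A (LinearMap.mulLeft k u) ((Q.subtype.rTensor B) z) := by
            rw [← LinearMap.comp_apply, ← LinearMap.comp_apply, LinearMap.rTensor_comp_lTensor,
              LinearMap.lTensor_comp_rTensor]
          rw [h3, mem_idealSubmodule, lTensor_mulLeft_eq]
          exact I.mul_mem_left _ _ ((mem_idealSubmodule I _).mp hz))
        (by
          intro v z hz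
          show (Q.subtype.rTensor B) (LinearMap.lTensor Q (LinearMap.mulRight k v) z) ∈
            idealSubmodule I
          have h3 : (Q.subtype.rTensor B) (LinearMap.lTensor Q (LinearMap.mulRight k v) z) =
              LinearMap.lTensor A (LinearMap.mulRight k v) ((Q.subtype.rTensor B) z) := by
            rw [← LinearMap.comp_apply, ← LinearMap.comp_apply, LinearMap.rTensor_comp_lTensor,
              LinearMap.lTensor_comp_rTensor]
          rw [h3, mem_idealSubmodule, lTensor_mulRight_eq]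
          exact I.mul_mem_right _ _ ((mem_idealSubmodule I _).mp hz)) hN
      have hcI : (c : A) ⊗ₜ[k] (1 : B) ∈ I := by
        have : (Q.subtype.rTensor B) (c ⊗ₜ[k] (1 : B)) ∈ idealSubmodule I := hc
        rw [mem_idealSubmodule] at this
        simpa using this
      have hcP : (c : A) ∈ leftPart I := (mem_leftPart I _).mpr hcI
      have : (c : A) ∈ leftPart I ⊓ Q := ⟨hcP, c.2⟩
      rw [hQ.inf_eq_bot, Submodule.mem_bot] at this
      exact hc0 (Subtype.ext this)
    rw [hw, map_zero, add_zero]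
    exact h1
  · rw [TwoSidedIdeal.span_le]
    rintro _ ⟨a, ha, rfl⟩
    exact ha

end Groth.Agent.Lead.CSA
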