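import Mathlib
import Groth.Agent.Lib.Helper5.Stalk.Pull
import Groth.Agent.Lib.Lead.RkSch
import Groth.Agent.Lib.Helper4.Seesaw1

set_option autoImplicit false
set_option backward.isDefEq.respectTransparency.types false
set_option linter.style.haveILetI false
universe u
open CategoryTheory CategoryTheory.Limits AlgebraicGeometry TopologicalSpace Opposite TensorProduct

namespace Groth.Agent.Lead.DescInv
open Groth.Agent.Lib.Helper5.StalkAdj Groth.Agent.Helper1.LGen Groth.Agent.Lead.RkSch

/-- a finite module over a local ring which becomes free of rank one after a flat local base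
change is free of rank one -/
theorem exists_free_gen_of_faithfullyFlat {A B : Type u} [CommRing A] [CommRing B] [IsLocalRing A]
    [IsLocalRing B] [Algebra A B] [Module.Flat A B] [IsLocalHom (algebraMap A B)]
    (N : Type u) [AddCommGroup N] [Module A N] [Module.Finite A N]
    (e : (B ⊗[A] N) ≃ₗ[B] B) :
    ∃ n : N, Function.Bijective (fun a : A => a • n) := by
  haveI : Module.FaithfullyFlat A B := Module.FaithfullyFlat.of_flat_of_isLocalHom
  haveI : Module.Flat B (B ⊗[A] N) := Module.Flat.of_linearEquiv e
  haveI : Module.Flat A N := Module.Flat.of_flat_tensorProduct A N B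
  haveI : Module.Free A N := Module.free_of_flat_of_isLocalRing
  have hr : Module.finrank A N = 1 := by
    have h1 : Module.finrank B (B ⊗[A] N) = Module.finrank A N := Module.finrank_baseChange
    have h2 : Module.finrank B (B ⊗[A] N) = 1 := by
      rw [LinearEquiv.finrank_eq e, Module.finrank_self]
    omega
  let b : Module.Basis (Fin 1) A N := Module.finBasisOfFinrankEq A N hr
  refine ⟨b 0, ?_⟩
  constructor
  · intro a a' h
    have h' : a • b 0 = a' • b 0 := h
    have := congrArg (fun v => b.repr v 0) h'
    simpa using this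
  · intro v
    refine ⟨b.repr v 0, ?_⟩
    show b.repr v 0 • b 0 = v
    conv_rhs => rw [← b.sum_repr v]
    simp

variable {X Y : Scheme.{u}} (f : X ⟶ Y)

theorem exists_free_gen_stalk (x : X) (hfl : (f.stalkMap x).hom.Flat) (N : Y.Modules)
    (hfin : Module.Finite (Y.presheaf.stalk (f x)) (N.presheaf.stalk (f x)))
    (g : ((Scheme.Modules.pullback f).obj N).presheaf.stalk x)
    (hg : Function.Bijective (fun ρ : X.presheaf.stalk x => ρ • g)) :
    ∃ n : N.presheaf.stalk (f x),
      Function.Bijective (fun a : Y.presheaf.stalk (f x) => a • n) := by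
  letI := (f.stalkMap x).hom.toAlgebra
  haveI : Module.Flat (Y.presheaf.stalk (f x)) (X.presheaf.stalk x) := hfl
  haveI : IsLocalHom (algebraMap (Y.presheaf.stalk (f x)) (X.presheaf.stalk x)) :=
    inferInstanceAs (IsLocalHom (f.stalkMap x).hom)
  let e0 : ((Scheme.Modules.pullback f).obj N).presheaf.stalk x ≃ₗ[X.presheaf.stalk x]
      (X.presheaf.stalk x ⊗[Y.presheaf.stalk (f x)] N.presheaf.stalk (f x)) :=
    ((stalkPullbackIso f x).app N).toLinearEquiv
  let e1 : X.presheaf.stalk x ≃ₗ[X.presheaf.stalk x]
      ((Scheme.Modules.pullback f).obj N).presheaf.stalk x :=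
    LinearEquiv.ofBijective (LinearMap.toSpanSingleton (X.presheaf.stalk x) _ g) hg
  exact exists_free_gen_of_faithfullyFlat (N.presheaf.stalk (f x)) (e0.symm ≪≫ₗ e1.symm)


/-- **descent of invertibility**: a coherent module on a locally Noetherian scheme whose pullback
along a flat surjective morphism is invertible is invertible -/
theorem isInvertible_of_pullback [IsLocallyNoetherian Y] [Flat f] [Surjective f]
    (N : Y.Modules) (hN : Coh.IsCoh N)
    (h : PicF.IsInvertible ((Scheme.Modules.pullback f).obj N)) : PicF.IsInvertible N := by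
  apply Groth.Agent.Helper1.TwForm.isInvertible_of_locGen
  intro y
  obtain ⟨x, rfl⟩ := f.surjective y
  obtain ⟨W, a, hxW, ha⟩ := exists_isGen h x
  have hfree := freeAt_of_isGen ha x hxW
  obtain ⟨V, hyV, hV, n, m, -, hm⟩ := Groth.Agent.Lead.RH.exists_finite_gen hN.1 hN.2 (f x)
  have hfin : Module.Finite (Y.presheaf.stalk (f x)) (N.presheaf.stalk (f x)) :=
    ⟨by rw [← hm (f x) hyV]; exact Submodule.fg_span (Set.finite_range _)⟩
  obtain ⟨g, hg⟩ := exists_free_gen_stalk f x (Flat.stalkMap f x) N hfin _ hfree
  refine exists_isGen_of_free_stalk hN.1 hN.2 (f x) g ?_ ?_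
  · intro ρ hρ
    apply hg.1
    show ρ • g = (0 : Y.presheaf.stalk (f x)) • g
    rw [zero_smul]
    exact hρ
  · intro v
    exact hg.2 v

end Groth.Agent.Lead.DescInv
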