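import Mathlib
import Groth.Agent.Lib.Lead.DescInv
import Groth.Agent.Lib.Lead.CanonSeesaw
import Groth.Agent.Lib.Helper4.RpushCoh1
import Groth.Agent.Lib.Helper1.Curve1
import Groth.Agent.Lib.Helper1.InvFt
import Groth.Agent.Lib.Lead.ParaF1
import Groth.Agent.S0485
import Groth.Agent.Lib.Helper1.FtLocal
import Groth.Agent.Lib.Helper1.QcAbel

set_option backward.isDefEq.respectTransparency.types false
set_option synthInstance.maxHeartbeats 400000
set_option autoImplicit false
set_option linter.style.haveILetI false
universe u
open CategoryTheory CategoryTheory.Limits AlgebraicGeometry TopologicalSpace Opposite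

namespace Groth.Agent.Lead.CanonDesc

open Groth.Agent.Helper1 Groth.Agent.Lead.CanonSeesaw

/-- direct images of coherent modules along proper morphisms are coherent -/
theorem isCoh_pushforward {X S : Scheme.{u}} (f : X ⟶ S) [IsProper f] [IsLocallyNoetherian S]
    (M : X.Modules) (hM : Coh.IsCoh M) : Coh.IsCoh ((Scheme.Modules.pushforward f).obj M) := by
  haveI : EnoughInjectives X.Modules := Groth.Agent.S0485.result _ X.ringCatSheaf
  haveI : HasInjectiveResolutions X.Modules := inferInstance
  let e0 : (Coh.Rpush f 0).obj M ≅ (Scheme.Modules.pushforward f).obj M :=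
    (Functor.rightDerivedZeroIsoSelf (Scheme.Modules.pushforward f)).app M
  have h0 := Groth.Agent.Lib.Helper4.RpushCoh1.s0036 f M hM 0
  haveI : ((Coh.Rpush f 0).obj M).IsQuasicoherent := h0.1
  have hN : ((Scheme.Modules.pushforward f).obj M).IsQuasicoherent :=
    QcAbel.isQuasicoherent_of_iso e0
  exact FtLocal.isCoh_of_mono e0.inv h0 hN

theorem s15936 {X S : Scheme.{u}} [IsLocallyNoetherian S] (f : X ⟶ S)
    (hproj : RedSub.IsLocallyProjective (Over.mk f))
    (n : ℕ) [SmoothOfRelativeDimension n f] [GeometricallyConnected f]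
    (ω : X.Modules) (hω : Canon.IsTopDiff f n ω) (m : ℕ)
    (hev : IsIso ((Scheme.Modules.pullbackPushforwardAdjunction f).counit.app
      (CohB1.tensorPow ω m))) :
    PicF.IsInvertible ((Scheme.Modules.pushforward f).obj (CohB1.tensorPow ω m)) := by
  haveI : Smooth f := SmoothOfRelativeDimension.smooth n f
  haveI : IsProper f := isProper_of_isLocallyProjective f hproj
  have hωinv : PicF.IsInvertible ω := isInvertible_of_isTopDiff f n ω hω
  have hL := Groth.Agent.Helper1.TwForm.isInvertible_tensorPow hωinv m
  have hLcoh : Coh.IsCoh (CohB1.tensorPow ω m) := InvQc.isCoh_of_isInvertible _ hL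
  have hNcoh := isCoh_pushforward f _ hLcoh
  haveI := hev
  exact Groth.Agent.Lead.DescInv.isInvertible_of_pullback f _ hNcoh
    (Groth.Agent.Lead.ParaF.isInvertible_of_iso
      (asIso ((Scheme.Modules.pullbackPushforwardAdjunction f).counit.app
        (CohB1.tensorPow ω m))).symm hL)

end Groth.Agent.Lead.CanonDesc
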