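import Mathlib

/-! Comparison of the chosen cartesian-monoidal product with the categorical product (lead). -/

universe u
open CategoryTheory CategoryTheory.Limits MonoidalCategory

namespace Groth.Agent.Lead

section
variable {E : Type*} [Category E] [CartesianMonoidalCategory E] [HasBinaryProducts E]

noncomputable def prodIsoTensor (Z W : E) : Z ⨯ W ≅ Z ⊗ W :=
  (limit.isLimit (pair Z W)).conePointUniqueUpToIso
      (CartesianMonoidalCategory.tensorProductIsBinaryProduct Z W)

lemma prodIsoTensor_hom_fst (Z W : E) :
    (prodIsoTensor Z W).hom ≫ SemiCartesianMonoidalCategory.fst Z W = prod.fst :=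
  IsLimit.conePointUniqueUpToIso_hom_comp (limit.isLimit (pair Z W))
    (CartesianMonoidalCategory.tensorProductIsBinaryProduct Z W) (Discrete.mk WalkingPair.left)

lemma prodIsoTensor_hom_snd (Z W : E) :
    (prodIsoTensor Z W).hom ≫ SemiCartesianMonoidalCategory.snd Z W = prod.snd :=
  IsLimit.conePointUniqueUpToIso_hom_comp (limit.isLimit (pair Z W))
    (CartesianMonoidalCategory.tensorProductIsBinaryProduct Z W) (Discrete.mk WalkingPair.right)

lemma prodIsoTensor_nat (Z : E) {W W' : E} (f : W ⟶ W') :
    prod.map (𝟙 Z) f ≫ (prodIsoTensor Z W').hom = (prodIsoTensor Z W).hom ≫ (Z ◁ f) := by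
  apply CartesianMonoidalCategory.hom_ext
  · rw [Category.assoc, prodIsoTensor_hom_fst, prod.map_fst, Category.comp_id, Category.assoc,
      CartesianMonoidalCategory.whiskerLeft_fst, prodIsoTensor_hom_fst]
  · rw [Category.assoc, prodIsoTensor_hom_snd, prod.map_snd, Category.assoc,
      CartesianMonoidalCategory.whiskerLeft_snd, ← Category.assoc, prodIsoTensor_hom_snd]

noncomputable def tensorLeftIsoStarForget (Z : E) : Over.star Z ⋙ Over.forget Z ≅ tensorLeft Z :=
  NatIso.ofComponents (fun W => prodIsoTensor Z W)
    (by
      intro W W' f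
      exact prodIsoTensor_nat Z f)
end

end Groth.Agent.Lead
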