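import Mathlib

/-!
# Čech cohomology and product-preserving functors, universe-general (lead)

A universe-general copy of `Groth.Agent.Helper3.CechComp` (helper3).
-/

set_option autoImplicit false
universe w v₁ v₂ u₁ u₂
open CategoryTheory Limits Opposite

namespace Groth.Agent.Lead.CechCompG

variable {C : Type u₁} [Category.{v₁} C] {D : Type u₂} [Category.{v₂} D] (Φ : C ⥤ D) {U : C}
  [HasFiniteProducts (Over U)] [HasFiniteProducts (Over (Φ.obj U))]
  [PreservesFiniteProducts (Over.post (X := U) Φ)]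
  {ι : Type w} (Y : ι → Over U) (P : Dᵒᵖ ⥤ AddCommGrpCat.{w})

/-- the image family -/
abbrev Y' : ι → Over (Φ.obj U) := fun i => (Over.post Φ).obj (Y i)

/-- the comparison isomorphism for iterated fibre products -/
noncomputable def compIso {α : Type} [Finite α] (a : α → ι) :
    Φ.obj (∏ᶜ fun k => Y (a k)).left ≅ (∏ᶜ fun k => Y' Φ Y (a k)).left :=
  (Over.forget _).mapIso (PreservesProduct.iso (Over.post (X := U) Φ) (fun k => Y (a k)))

lemma compIso_hom_π {α : Type} [Finite α] (a : α → ι) (k : α) :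
    (compIso Φ Y a).hom ≫ (Pi.π (fun k => Y' Φ Y (a k)) k).left =
      Φ.map (Pi.π (fun k => Y (a k)) k).left := by
  have h := piComparison_comp_π (Over.post (X := U) Φ) (fun k => Y (a k)) k
  exact congrArg (fun m => m.left) h

/-- the two cosimplicial groups of Čech cochains -/
noncomputable abbrev A : CosimplicialObject AddCommGrpCat.{w} :=
  (FormalCoproduct.cosimplicialObjectFunctor (FormalCoproduct.mk _ Y).cech).obj
    ((Over.forget U).op ⋙ Φ.op ⋙ P)

noncomputable abbrev B : CosimplicialObject AddCommGrpCat.{w} :=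
  (FormalCoproduct.cosimplicialObjectFunctor (FormalCoproduct.mk _ (Y' Φ Y)).cech).obj
    ((Over.forget (Φ.obj U)).op ⋙ P)

noncomputable def termIso (n : SimplexCategory) : (A Φ Y P).obj n ≅ (B Φ Y P).obj n :=
  Pi.mapIso fun (a : ToType n → ι) => P.mapIso (compIso Φ Y a).symm.op

/-- compatibility of the comparison isomorphisms with the simplicial structure maps -/
lemma compIso_lift {α β : Type} [Finite α] [Finite β] (b : β → ι) (θ : α → β) :
    (compIso Φ Y b).hom ≫ (Pi.lift (fun k => Pi.π (fun k => Y' Φ Y (b k)) (θ k))).left =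
      Φ.map (Pi.lift (fun k => Pi.π (fun k => Y (b k)) (θ k))).left ≫ (compIso Φ Y (b ∘ θ)).hom := by
  have h : piComparison (Over.post (X := U) Φ) (fun k => Y (b k)) ≫
      Pi.lift (fun k => Pi.π (fun k => Y' Φ Y (b k)) (θ k)) =
      (Over.post (X := U) Φ).map (Pi.lift (fun k => Pi.π (fun k => Y (b k)) (θ k))) ≫
        piComparison (Over.post (X := U) Φ) (fun k => Y ((b ∘ θ) k)) := by
    apply Pi.hom_ext
    intro k
    have e1 := piComparison_comp_π (Over.post (X := U) Φ) (fun k => Y (b k)) (θ k)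
    have e2 := piComparison_comp_π (Over.post (X := U) Φ) (fun k => Y ((b ∘ θ) k)) k
    rw [Category.assoc, Category.assoc, Pi.lift_π, e1]
    refine Eq.trans ?_ (congrArg (_ ≫ ·) e2.symm)
    rw [← Functor.map_comp]
    congr 1
    exact (Pi.lift_π (fun k => Pi.π (fun k => Y (b k)) (θ k)) k).symm
  exact congrArg (fun m => m.left) h

lemma termIso_naturality {n m : SimplexCategory} (θ : n ⟶ m) :
    (A Φ Y P).map θ ≫ (termIso Φ Y P m).hom = (termIso Φ Y P n).hom ≫ (B Φ Y P).map θ := by
  apply Pi.hom_ext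
  intro a
  have hA : (A Φ Y P).map θ = Pi.lift (fun (b : ToType m → ι) =>
      Pi.π (fun (c : ToType n → ι) => P.obj (op (Φ.obj (∏ᶜ fun k => Y (c k)).left))) (b ∘ θ.toOrderHom) ≫
        P.map (Φ.map (Pi.lift (fun k => Pi.π (fun k => Y (b k)) (θ.toOrderHom k))).left).op) := rfl
  have hB : (B Φ Y P).map θ = Pi.lift (fun (b : ToType m → ι) =>
      Pi.π (fun (c : ToType n → ι) => P.obj (op (∏ᶜ fun k => Y' Φ Y (c k)).left)) (b ∘ θ.toOrderHom) ≫
        P.map ((Pi.lift (fun k => Pi.π (fun k => Y' Φ Y (b k)) (θ.toOrderHom k))).left).op) := rfl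
  rw [hA, hB]
  have h1 : (termIso Φ Y P m).hom ≫ Pi.π _ a =
      Pi.π (fun (c : ToType m → ι) => P.obj (op (Φ.obj (∏ᶜ fun k => Y (c k)).left))) a ≫
        (P.mapIso (compIso Φ Y a).symm.op).hom :=
    Pi.mapIso_hom_π _ a
  have h2 : ∀ c : ToType n → ι, (termIso Φ Y P n).hom ≫
      Pi.π (fun (c : ToType n → ι) => P.obj (op (∏ᶜ fun k => Y' Φ Y (c k)).left)) c =
      Pi.π (fun (c : ToType n → ι) => P.obj (op (Φ.obj (∏ᶜ fun k => Y (c k)).left))) c ≫
        (P.mapIso (compIso Φ Y c).symm.op).hom := fun c =>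
    Pi.mapIso_hom_π _ c
  refine (Category.assoc _ _ _).trans ((congrArg (_ ≫ ·) h1).trans ?_)
  refine ((Category.assoc _ _ _).symm.trans (congrArg (· ≫ _) (Pi.lift_π _ a))).trans ?_
  refine Eq.symm ((Category.assoc _ _ _).trans ((congrArg (_ ≫ ·) (Pi.lift_π _ a)).trans ?_))
  refine ((Category.assoc _ _ _).symm.trans (congrArg (· ≫ _) (h2 _))).trans ?_
  refine (Category.assoc _ _ _).trans (Eq.trans ?_ (Category.assoc _ _ _).symm)
  refine congrArg (_ ≫ ·) ?_
  dsimp only [Functor.mapIso_hom]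
  rw [← P.map_comp, ← P.map_comp]
  change P.map ((compIso Φ Y _).inv.op ≫ _) = P.map (_ ≫ (compIso Φ Y _).inv.op)
  rw [← op_comp, ← op_comp]
  congr 2
  -- lift' ≫ inv = inv ≫ Φ.map lift
  rw [Iso.comp_inv_eq, Category.assoc, Iso.eq_inv_comp]
  exact compIso_lift Φ Y a θ.toOrderHom

/-- the Čech cosimplicial groups agree -/
noncomputable def cosimpIso : A Φ Y P ≅ B Φ Y P :=
  NatIso.ofComponents (termIso Φ Y P) (fun θ => termIso_naturality Φ Y P θ)

/-- Čech cohomology of the restricted presheaf agrees with Čech cohomology of the image family -/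
noncomputable def cechHIso (p : ℕ) :
    ((cechComplexFunctor Y).obj ((Over.forget U).op ⋙ Φ.op ⋙ P)).homology p ≅
      ((cechComplexFunctor (Y' Φ Y)).obj ((Over.forget (Φ.obj U)).op ⋙ P)).homology p :=
  (HomologicalComplex.homologyFunctor _ _ p).mapIso
    ((AlgebraicTopology.alternatingCofaceMapComplex AddCommGrpCat.{w}).mapIso (cosimpIso Φ Y P))

end Groth.Agent.Lead.CechCompG
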