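import Mathlib
import Groth.Prelude
import Groth.Agent.Lib.Helper2.Sch.GorEtale
import Groth.Agent.Lib.Lead.CMAt1
import Groth.Agent.Lib.Helper8.Depth30
import Groth.Agent.Lib.Helper8.FlatReg5

set_option backward.isDefEq.respectTransparency.types false
set_option synthInstance.maxHeartbeats 400000
set_option autoImplicit false
set_option linter.unusedSectionVars false
set_option linter.style.haveILetI false
universe u

open CategoryTheory CategoryTheory.Limits AlgebraicGeometry IsLocalRing

namespace Groth.Agent.Lead.ChartCMGor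

open Groth.Agent.Helper2 Groth.Agent.Helper2.GorSch Groth.Agent.Helper2.FlatPt
open Groth.Agent.Lead.CMAt

variable {X Y Z : Scheme.{u}}

theorem isCM_of_isField {A : Type u} [CommRing A] (h : IsField A) :
    LocCoh.IsCohenMacaulayLocalRing A := by
  haveI := Groth.Agent.Helper8.Depth.isRegularLocalRing_of_isField A h
  exact Groth.Agent.Helper8.FlatReg.isCohenMacaulayLocalRing_of_isRegularLocalRing A

theorem isCMAt_of_etale (e : X ⟶ Y) [Etale e] (x : X) : MoreMor.IsCMAt e x := by
  refine ⟨Flat.stalkMap e x, ?_⟩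
  haveI : Etale (e.fiberToSpecResidueField (e x)) :=
    MorphismProperty.pullback_snd _ _ inferInstance
  have hF : EtaleField.IsFieldLike (e.fiber (e x)) :=
    EtaleField.isFieldLike_of_etale (K := ↑(Y.residueField (e x)))
      (e.fiberToSpecResidueField (e x))
  exact isCM_of_isField (hF.isField _)

theorem cm_precomp_etale_iff (e : X ⟶ Y) [Etale e] (h : Y ⟶ Z)
    (hfh : ∀ z, IsLocallyNoetherian (h.fiber z))
    (hfeh : ∀ z, IsLocallyNoetherian ((e ≫ h).fiber z)) (x : X) :
    MoreMor.IsCMAt (e ≫ h) x ↔ MoreMor.IsCMAt h (e x) := by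
  constructor
  · intro hg
    exact (S9767_main e h x (isLocallyNoetherian_fiber_of_lft e _) (hfh _) hg
      (Flat.stalkMap e x)).2
  · intro hg
    exact S9766_main e h x (hfeh _) (isCMAt_of_etale e x) hg

theorem cm_postcomp_etale_iff (h : X ⟶ Y) (e : Y ⟶ Z) [Etale e]
    (hfh : ∀ y, IsLocallyNoetherian (h.fiber y))
    (hfhe : ∀ z, IsLocallyNoetherian ((h ≫ e).fiber z)) (x : X) :
    MoreMor.IsCMAt (h ≫ e) x ↔ MoreMor.IsCMAt h x := by
  constructor
  · intro hg
    have hfl : FlatAt h x := FlatAt.of_postcomp_etale (g := e) hg.1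
    exact (S9767_main h e x (hfh _) (isLocallyNoetherian_fiber_of_lft e _) hg hfl).1
  · intro hg
    exact S9766_main h e x (hfhe _) hg (isCMAt_of_etale e (h x))

end Groth.Agent.Lead.ChartCMGor
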