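import Mathlib
import Groth.Prelude
import Groth.Agent.Lib.Lead.ChartCMGor
import Groth.Agent.Lib.Helper3.FibStalk2

set_option backward.isDefEq.respectTransparency.types false
set_option synthInstance.maxHeartbeats 400000
set_option autoImplicit false
set_option linter.unusedSectionVars false
set_option linter.style.haveILetI false
universe u

open CategoryTheory CategoryTheory.Limits AlgebraicGeometry IsLocalRing

namespace Groth.Agent.Lead.ChartCMGor

open Groth.Agent.Helper2 Groth.Agent.Helper2.GorSch Groth.Agent.Helper2.FlatPt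
open Groth.Agent.Lead.CMAt Groth.Agent.Helper3.FibStalk

/-- a property of scheme morphisms that passes to the top arrow of an etale chart square is
detected on identity charts -/
theorem locP_yon_map_iff_of_chart {S : Scheme.{u}} (P : MorphismProperty Scheme.{u})
    (hP : ∀ {U V X Y : Scheme.{u}} (a : U ⟶ X) (b : V ⟶ Y) (h : U ⟶ V) (f : X ⟶ Y),
      a ≫ f = h ≫ b → Etale a → Etale b → P f → P h)
    {U V : Over S} (g : U ⟶ V) : AlgSp.LocP P ((AlgSp.yon S).map g) ↔ P g.left := by
  constructor
  · intro hf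
    exact AlgSp.locP_yon_map hf
  · intro hg U' V' a b h hae hbe comm
    obtain ⟨a', rfl⟩ := (AlgSp.yon S).map_surjective a
    obtain ⟨b', rfl⟩ := (AlgSp.yon S).map_surjective b
    have ha : Etale a'.left := (AlgSp.repWith_yon_map_iff @Etale a').1 hae
    have hb : Etale b'.left := (AlgSp.repWith_yon_map_iff @Etale b').1 hbe
    have w : a' ≫ g = h ≫ b' := (AlgSp.yon S).map_injective (by
      rw [Functor.map_comp, Functor.map_comp]; exact comm)
    have w' : a'.left ≫ g.left = h.left ≫ b'.left := by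
      rw [← Over.comp_left, w, Over.comp_left]
    exact hP a'.left b'.left h.left g.left w' ha hb hg

variable {U V X Y : Scheme.{u}}

theorem lft_of_chart (a : U ⟶ X) (b : V ⟶ Y) (h : U ⟶ V) (f : X ⟶ Y)
    (w : a ≫ f = h ≫ b) [Etale a] [LocallyOfFiniteType f] : LocallyOfFiniteType h := by
  haveI : LocallyOfFiniteType (h ≫ b) := by rw [← w]; infer_instance
  exact locallyOfFiniteType_of_comp h b

theorem cm_chart (a : U ⟶ X) (b : V ⟶ Y) (h : U ⟶ V) (f : X ⟶ Y)
    (w : a ≫ f = h ≫ b) [Etale a] [Etale b] [LocallyOfFiniteType f] (u : U) :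
    MoreMor.IsCMAt h u ↔ MoreMor.IsCMAt f (a u) := by
  haveI := lft_of_chart a b h f w
  rw [← cm_precomp_etale_iff a f (fun z => isLocallyNoetherian_fiber_of_lft f z)
    (fun z => isLocallyNoetherian_fiber_of_lft (a ≫ f) z) u,
    ← cm_postcomp_etale_iff h b (fun z => isLocallyNoetherian_fiber_of_lft h z)
    (fun z => isLocallyNoetherian_fiber_of_lft (h ≫ b) z) u]
  rw [w]

theorem gor_chart (a : U ⟶ X) (b : V ⟶ Y) (h : U ⟶ V) (f : X ⟶ Y)
    (w : a ≫ f = h ≫ b) [Etale a] [Etale b] [LocallyOfFiniteType f] (u : U) :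
    Dual3.IsGorensteinAt h u ↔ Dual3.IsGorensteinAt f (a u) := by
  haveI := lft_of_chart a b h f w
  rw [← gor_precomp_etale_iff a f (fun z => isLocallyNoetherian_fiber_of_lft f z)
    (fun z => isLocallyNoetherian_fiber_of_lft (a ≫ f) z) u,
    ← gor_postcomp_etale_iff h b (fun z => isLocallyNoetherian_fiber_of_lft h z)
    (fun z => isLocallyNoetherian_fiber_of_lft (h ≫ b) z) u]
  rw [w]

end Groth.Agent.Lead.ChartCMGor
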