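import Mathlib
import Groth.Prelude
import Groth.Agent.Lib.Lead.ChartCMGor2

set_option backward.isDefEq.respectTransparency.types false
set_option synthInstance.maxHeartbeats 400000
set_option autoImplicit false
set_option linter.unusedSectionVars false
set_option linter.style.haveILetI false
universe u

open CategoryTheory CategoryTheory.Limits AlgebraicGeometry IsLocalRing

namespace Groth.Agent.Lead.ChartCMGor

open Groth.Agent.Helper2 Groth.Agent.Helper2.GorSch Groth.Agent.Helper2.FlatPt
open Groth.Agent.Lead.CMAt Groth.Agent.Helper3.FibStalk Groth.Agent.Helper8.GorFlat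

/-- a property of scheme morphisms that passes from `g` to the top arrow of an etale chart square
over `g` is detected on identity charts -/
theorem locP_yon_map_iff_of_chart' {S : Scheme.{u}} (P : MorphismProperty Scheme.{u})
    {U V : Over S} (g : U ⟶ V)
    (hP : ∀ {U' V' : Scheme.{u}} (a : U' ⟶ U.left) (b : V' ⟶ V.left) (h : U' ⟶ V'),
      a ≫ g.left = h ≫ b → Etale a → Etale b → P g.left → P h) :
    AlgSp.LocP P ((AlgSp.yon S).map g) ↔ P g.left := by
  constructor
  · intro hf
    exact AlgSp.locP_yon_map hf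
  · intro hg U' V' a b h hae hbe comm
    obtain ⟨a', rfl⟩ := (AlgSp.yon S).map_surjective a
    obtain ⟨b', rfl⟩ := (AlgSp.yon S).map_surjective b
    have ha : Etale a'.left := (AlgSp.repWith_yon_map_iff @Etale a').1 hae
    have hb : Etale b'.left := (AlgSp.repWith_yon_map_iff @Etale b').1 hbe
    have w : a' ≫ g = h ≫ b' := (AlgSp.yon S).map_injective (by
      rw [Functor.map_comp, Functor.map_comp]; exact comm)
    have w' : a'.left ≫ g.left = h.left ≫ b'.left := by
      rw [← Over.comp_left, w, Over.comp_left]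
    exact hP a'.left b'.left h.left w' ha hb hg

variable (k : Type u) [Field k] {X : Scheme.{u}} (p : X ⟶ Spec (CommRingCat.of k))

theorem isField_stalk_spec_field (y : ↥(Spec (CommRingCat.of k))) :
    IsField ((Spec (CommRingCat.of k)).presheaf.stalk y) :=
  (EtaleField.isFieldLike_of_etale (K := k) (𝟙 (Spec (CommRingCat.of k)))).isField y

theorem cm_stalk_iff_field [LocallyOfFiniteType p] (x : X) :
    MoreMor.IsCMAt p x ↔ LocCoh.IsCohenMacaulayLocalRing (X.presheaf.stalk x) := by
  haveI : IsLocallyNoetherian X := LocallyOfFiniteType.isLocallyNoetherian p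
  have hfl : (p.stalkMap x).hom.Flat := Flat.stalkMap p x
  obtain ⟨γ, hγ, hk⟩ := exists_fibre_presentation p x
  have D : FLData (p.stalkMap x).hom γ := ⟨hfl, inferInstance, hγ, hk⟩
  have hA : LocCoh.IsCohenMacaulayLocalRing ((Spec (CommRingCat.of k)).presheaf.stalk (p x)) :=
    isCM_of_isField (isField_stalk_spec_field k (p x))
  constructor
  · intro h
    exact (cm_iff_of_flData D).mpr ⟨hA, h.2⟩
  · intro h
    exact ⟨hfl, ((cm_iff_of_flData D).mp h).2⟩

theorem gor_stalk_iff_field [LocallyOfFiniteType p] (x : X) :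
    Dual3.IsGorensteinAt p x ↔ LocCoh.IsGorensteinLocalRing (X.presheaf.stalk x) := by
  haveI : IsLocallyNoetherian X := LocallyOfFiniteType.isLocallyNoetherian p
  have hfl : (p.stalkMap x).hom.Flat := Flat.stalkMap p x
  have hA : LocCoh.IsGorensteinLocalRing ((Spec (CommRingCat.of k)).presheaf.stalk (p x)) :=
    isGorensteinLocalRing_of_isField (isField_stalk_spec_field k (p x))
  constructor
  · intro h
    exact (gor_stalk_iff p x hfl).mpr ⟨hA, h.2⟩
  · intro h
    exact ⟨hfl, ((gor_stalk_iff p x hfl).mp h).2⟩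

theorem main17306 (S : Scheme.{u}) (t : Spec (CommRingCat.of k) ⟶ S) [LocallyOfFiniteType p] :
    AlgSp.LocP (fun _ _ g => ∀ x, MoreMor.IsCMAt g x)
      ((AlgSp.yon S).map (Over.homMk p rfl : Over.mk (p ≫ t) ⟶ Over.mk t)) ↔
      ∀ x : ↥X, LocCoh.IsCohenMacaulayLocalRing (X.presheaf.stalk x) := by
  rw [locP_yon_map_iff_of_chart' (S := S) (fun _ _ g => ∀ x, MoreMor.IsCMAt g x)
    (Over.homMk p rfl : Over.mk (p ≫ t) ⟶ Over.mk t)]
  · exact forall_congr' fun x => cm_stalk_iff_field k p x
  · intro U' V' a b h w ha hb hg u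
    exact (cm_chart a b h p w u).2 (hg (a u))

theorem main17307 (S : Scheme.{u}) (t : Spec (CommRingCat.of k) ⟶ S) [LocallyOfFiniteType p] :
    AlgSp.LocP (fun _ _ g => ∀ x, (g.stalkMap x).hom.Flat ∧
        LocCoh.IsGorensteinLocalRing ((g.fiber (g x)).presheaf.stalk (g.asFiber x)))
      ((AlgSp.yon S).map (Over.homMk p rfl : Over.mk (p ≫ t) ⟶ Over.mk t)) ↔
      ∀ x : ↥X, LocCoh.IsGorensteinLocalRing (X.presheaf.stalk x) := by
  rw [locP_yon_map_iff_of_chart' (S := S) (fun _ _ g => ∀ x, (g.stalkMap x).hom.Flat ∧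
        LocCoh.IsGorensteinLocalRing ((g.fiber (g x)).presheaf.stalk (g.asFiber x)))
    (Over.homMk p rfl : Over.mk (p ≫ t) ⟶ Over.mk t)]
  · exact forall_congr' fun x => gor_stalk_iff_field k p x
  · intro U' V' a b h w ha hb hg u
    exact (gor_chart a b h p w u).2 (hg (a u))

end Groth.Agent.Lead.ChartCMGor
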