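import Mathlib
import Groth.Prelude
import Groth.Agent.Lib.Helper4.RegSpread1
import Groth.Agent.Lib.Helper6.Normal.Scheme

set_option autoImplicit false
set_option backward.isDefEq.respectTransparency.types false
set_option synthInstance.maxHeartbeats 400000
set_option linter.style.haveILetI false
set_option linter.unusedSectionVars false

universe u

open CategoryTheory CategoryTheory.Limits AlgebraicGeometry TopologicalSpace IsLocalRing Opposite

namespace Groth.Agent.Lead.ClSec

/-! lead: on a locally Noetherian scheme whose local rings are domains, the scheme-theoretic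
closure of an open subscheme is an open subscheme; application to closures of sections of étale
morphisms over a normal base (S13424) -/

section Algebra

/-- a finitely generated ideal killed in the localization at `p` is killed by one element outside
`p` -/
theorem exists_mul_eq_zero_of_fg {B : Type u} [CommRing B] (p : Ideal B) [p.IsPrime]
    (Bp : Type u) [CommRing Bp] [Algebra B Bp] [IsLocalization.AtPrime Bp p]
    (k : Ideal B) (hk : k.FG) (hk0 : ∀ a ∈ k, algebraMap B Bp a = 0) :
    ∃ u : B, u ∉ p ∧ ∀ a ∈ k, u * a = 0 := by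
  classical
  obtain ⟨s, rfl⟩ := hk
  have h1 : ∀ a : B, ∃ v : B, a ∈ s → (v ∉ p ∧ v * a = 0) := by
    intro a
    by_cases ha : a ∈ s
    · have h0 := hk0 a (Ideal.subset_span ha)
      rw [IsLocalization.map_eq_zero_iff p.primeCompl] at h0
      obtain ⟨m, hm⟩ := h0
      exact ⟨m.1, fun _ => ⟨m.2, hm⟩⟩
    · exact ⟨0, fun h => absurd h ha⟩
  choose v hv using h1
  refine ⟨∏ a ∈ s, v a, ?_, ?_⟩
  · have : ∏ a ∈ s, v a ∈ p.primeCompl :=
      Submonoid.prod_mem _ (fun a ha => (hv a ha).1)
    exact this
  · intro a ha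
    refine Submodule.span_induction (p := fun a _ => (∏ a ∈ s, v a) * a = 0) ?_ ?_ ?_ ?_ ha
    · intro a ha
      obtain ⟨c, hc⟩ := Finset.dvd_prod_of_mem v ha
      rw [hc, mul_comm (v a) c, mul_assoc, (hv a ha).2, mul_zero]
    · exact mul_zero _
    · intro a b _ _ h1 h2
      rw [mul_add, h1, h2, add_zero]
    · intro c a _ h1
      rw [smul_eq_mul, mul_left_comm, h1, mul_zero]

end Algebra

section Germ

variable {P : Scheme.{u}}

/-- a section vanishing on a set `W` has vanishing germ at every point of the closure of `W`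
whose local ring is a domain (Noetherian chart) -/
theorem germ_eq_zero_of_mem_closure (V : P.Opens) (hV : IsAffineOpen V)
    [IsNoetherianRing Γ(P, V)] (b : Γ(P, V)) (x : P) (hxV : x ∈ V)
    [IsDomain (P.presheaf.stalk x)] (W : Set P) (hxW : x ∈ closure W)
    (hW : ∀ w ∈ W, ∀ hw : w ∈ V, P.presheaf.germ V w hw b = 0) :
    P.presheaf.germ V x hxV b = 0 := by
  letI : Algebra Γ(P, V) (P.presheaf.stalk x) := (P.presheaf.germ V x hxV).hom.toAlgebra
  haveI hloc : IsLocalization.AtPrime (P.presheaf.stalk x) (hV.primeIdealOf ⟨x, hxV⟩).asIdeal :=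
    hV.isLocalization_stalk ⟨x, hxV⟩
  set p : Ideal Γ(P, V) := (hV.primeIdealOf ⟨x, hxV⟩).asIdeal with hp
  let k : Ideal Γ(P, V) := RingHom.ker (algebraMap Γ(P, V) (P.presheaf.stalk x))
  have hkfg : k.FG := IsNoetherian.noetherian k
  obtain ⟨u, hup, huk⟩ := exists_mul_eq_zero_of_fg p (P.presheaf.stalk x) k hkfg
    (fun a ha => ha)
  -- `x` lies in the basic open of `u`
  have hxu : x ∈ P.basicOpen u := by
    rw [P.mem_basicOpen u x hxV]
    exact (IsLocalization.AtPrime.isUnit_to_map_iff (P.presheaf.stalk x) p u).2 hup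
  obtain ⟨w, hwu, hwW⟩ := mem_closure_iff.1 hxW (P.basicOpen u) (P.basicOpen u).2 hxu
  have hwV : w ∈ V := P.basicOpen_le u hwu
  letI : Algebra Γ(P, V) (P.presheaf.stalk w) := (P.presheaf.germ V w hwV).hom.toAlgebra
  haveI hlocw : IsLocalization.AtPrime (P.presheaf.stalk w)
      (hV.primeIdealOf ⟨w, hwV⟩).asIdeal := hV.isLocalization_stalk ⟨w, hwV⟩
  have huw : u ∉ (hV.primeIdealOf ⟨w, hwV⟩).asIdeal := by
    have h1 := (P.mem_basicOpen u w hwV).1 hwu
    exact (IsLocalization.AtPrime.isUnit_to_map_iff (P.presheaf.stalk w)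
      (hV.primeIdealOf ⟨w, hwV⟩).asIdeal u).1 h1
  -- the kernel `k` is contained in the prime of `w`
  have hkw : k ≤ (hV.primeIdealOf ⟨w, hwV⟩).asIdeal := by
    intro a ha
    have h1 : u * a ∈ (hV.primeIdealOf ⟨w, hwV⟩).asIdeal := by
      rw [huk a ha]
      exact Ideal.zero_mem _
    exact ((hV.primeIdealOf ⟨w, hwV⟩).isPrime.mem_or_mem h1).resolve_left huw
  -- `b` is killed by some `t` outside the prime of `w`
  have hbw : algebraMap Γ(P, V) (P.presheaf.stalk w) b = 0 := hW w hwW hwV
  rw [IsLocalization.map_eq_zero_iff (hV.primeIdealOf ⟨w, hwV⟩).asIdeal.primeCompl] at hbw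
  obtain ⟨t, ht⟩ := hbw
  have htk : t.1 ∉ k := fun h => t.2 (hkw h)
  have h2 : algebraMap Γ(P, V) (P.presheaf.stalk x) t.1 *
      algebraMap Γ(P, V) (P.presheaf.stalk x) b = 0 := by
    rw [← map_mul, ht, map_zero]
  rcases mul_eq_zero.1 h2 with h3 | h3
  · exact absurd h3 htk
  · exact h3

end Germ

section Closure

variable {S P : Scheme.{u}}

/-- on a locally Noetherian scheme whose local rings are domains, the scheme-theoretic image of
an open immersion is an open subscheme -/
theorem isOpenImmersion_ker_subschemeι [IsLocallyNoetherian P]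
    (hP : ∀ x : P, IsDomain (P.presheaf.stalk x)) (s : S ⟶ P) [IsOpenImmersion s]
    [QuasiCompact s] : IsOpenImmersion s.ker.subschemeι := by
  haveI : LocallyOfFinitePresentation s.ker.subschemeι := by
    haveI : LocallyOfFiniteType s.ker.subschemeι := inferInstance
    infer_instance
  haveI : Flat s.ker.subschemeι := by
    rw [Flat.iff_flat_stalkMap]
    intro z
    apply RingHom.Flat.of_bijective
    refine ⟨?_, s.ker.subschemeι.stalkMap_surjective z⟩
    rw [injective_iff_map_eq_zero]
    intro a ha
    let x : P := s.ker.subschemeι z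
    obtain ⟨_, ⟨V, hV : IsAffineOpen V, rfl⟩, hxV, -⟩ :=
      P.isBasis_affineOpens.exists_subset_of_mem_open (Set.mem_univ x) isOpen_univ
    haveI : IsNoetherianRing Γ(P, V) := IsLocallyNoetherian.component_noetherian ⟨V, hV⟩
    haveI := hP x
    have hker := Groth.Agent.Lib.Helper4.RegSpread1.ker_stalkMap_of_app_surjective
      s.ker.subschemeι z V hV hxV (hV.preimage s.ker.subschemeι)
      (s.ker.subschemeι.app_surjective V hV)
    have hbot : (RingHom.ker (s.ker.subschemeι.app V).hom).map (P.presheaf.germ V x hxV).hom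
        = ⊥ := by
      rw [Ideal.map_eq_bot_iff_le_ker]
      intro b hb
      rw [Scheme.IdealSheafData.ker_subschemeι_app s.ker ⟨V, hV⟩, Scheme.Hom.ker_apply] at hb
      rw [RingHom.mem_ker]
      apply germ_eq_zero_of_mem_closure V hV b x hxV (Set.range s)
      · have h1 : x ∈ s.ker.support := by
          rw [← SetLike.mem_coe, ← Scheme.IdealSheafData.range_subschemeι]
          exact ⟨z, rfl⟩
        rw [← SetLike.mem_coe, Scheme.Hom.support_ker] at h1
        exact h1
      · rintro _ ⟨σ, rfl⟩ hw
        have h2 := Scheme.Hom.germ_stalkMap_apply s V σ hw b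
        rw [RingHom.mem_ker] at hb
        rw [hb, map_zero] at h2
        have hinj : Function.Injective (s.stalkMap σ).hom :=
          (ConcreteCategory.bijective_of_isIso (s.stalkMap σ)).1
        apply hinj
        rw [map_zero]
        exact h2
    have : a ∈ RingHom.ker (s.ker.subschemeι.stalkMap z).hom := ha
    rw [hker, hbot] at this
    exact this
  exact IsOpenImmersion.of_flat_of_mono _

end Closure

section Main

open Scheme.IdealSheafData

theorem S13424_main {S : Scheme.{u}} [IsLocallyNoetherian S] (hS : Pi1.IsNormalScheme S)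
    {G H : Scheme.{u}} (p : G ⟶ S) (q : H ⟶ S) [Smooth p] [Smooth q]
    (eG : S ⟶ G) (eH : S ⟶ H) (heG : eG ≫ p = 𝟙 S)
    (f : G ⟶ H) [Etale f] (hf : f ≫ q = p) (hfe : eG ≫ f = eH)
    (hH : Etale (eH.ker.subschemeι ≫ q)) :
    Etale (eG.ker.subschemeι ≫ p) := by
  -- the preimage of the closure of the section of `H`
  let jH : eH.ker.subscheme ⟶ H := eH.ker.subschemeι
  let c : pullback f jH ⟶ G := pullback.fst f jH
  let r : pullback f jH ⟶ eH.ker.subscheme := pullback.snd f jH
  haveI : IsClosedImmersion c := inferInstanceAs (IsClosedImmersion (pullback.fst f jH))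
  haveI : Etale r := inferInstanceAs (Etale (pullback.snd f jH))
  haveI : Etale (r ≫ jH ≫ q) := by
    haveI := hH
    infer_instance
  have hcp : c ≫ p = r ≫ jH ≫ q := by
    rw [← hf, ← Category.assoc, pullback.condition, Category.assoc]
  haveI : Etale (c ≫ p) := hcp ▸ inferInstance
  -- the section lifts
  have hlift : eG ≫ f = eH.toImage ≫ jH := by
    rw [hfe]
    exact (eH.toImage_imageι).symm
  let s : S ⟶ pullback f jH := pullback.lift eG eH.toImage hlift
  have hsc : s ≫ c = eG := pullback.lift_fst _ _ _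
  have hsπ : s ≫ (c ≫ p) = 𝟙 S := by
    rw [← Category.assoc, hsc, heG]
  haveI : Etale (s ≫ (c ≫ p)) := hsπ ▸ inferInstance
  haveI : Etale s := Etale.of_comp s (c ≫ p)
  haveI : Mono s := mono_of_mono_fac hsπ
  haveI : IsOpenImmersion s := IsOpenImmersion.of_flat_of_mono s
  haveI : IsLocallyNoetherian (pullback f jH) :=
    LocallyOfFiniteType.isLocallyNoetherian (c ≫ p)
  have hP : Pi1.IsNormalScheme (pullback f jH) :=
    Groth.Agent.Lib.Helper6.Normal.isNormalScheme_of_smooth (c ≫ p) hS
  haveI : QuasiCompact s := inferInstance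
  haveI hopen : IsOpenImmersion s.ker.subschemeι :=
    isOpenImmersion_ker_subschemeι (fun x => (hP x).1) s
  -- compare the two closures
  have hker : eG.ker = (s.ker.subschemeι ≫ c).ker := by
    rw [← hsc, ← map_ker]
    rfl
  haveI : IsIso (IsClosedImmersion.lift (s.ker.subschemeι ≫ c) eG.ker.subschemeι
      (by rw [ker_subschemeι, hker])) :=
    IsClosedImmersion.isIso_lift (s.ker.subschemeι ≫ c) eG.ker.subschemeι
      (by rw [ker_subschemeι, hker])
  have hfac := IsClosedImmersion.lift_fac (s.ker.subschemeι ≫ c) eG.ker.subschemeι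
      (by rw [ker_subschemeι, hker])
  rw [← hfac, Category.assoc, Category.assoc]
  infer_instance

end Main

end Groth.Agent.Lead.ClSec
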