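import Mathlib

set_option autoImplicit false
set_option linter.style.haveILetI false
set_option linter.unusedSectionVars false

universe u

open TensorProduct

namespace Groth.Agent.Lead.CodimOne

section Transfer

variable {B : Type u} [CommRing B] {M N : Type u} [AddCommGroup M] [AddCommGroup N]
  [Module B M] [Module B N]

/-- base change of a bijective linear map is bijective -/
theorem bijective_baseChange (φ : M →ₗ[B] N) (T : Type u) [CommRing T] [Algebra B T]
    (h : Function.Bijective φ) : Function.Bijective (φ.baseChange T) := by
  let e := LinearEquiv.ofBijective φ h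
  have : φ.baseChange T = (e.baseChange B T M N).toLinearMap := by
    ext m
    simp [e]
  rw [this]
  exact (e.baseChange B T M N).bijective

theorem bijective_baseChange_baseChange_iff (φ : M →ₗ[B] N) (T T' : Type u) [CommRing T]
    [CommRing T'] [Algebra B T] [Algebra B T'] [Algebra T T'] [IsScalarTower B T T'] :
    Function.Bijective ((φ.baseChange T).baseChange T') ↔ Function.Bijective (φ.baseChange T') := by
  let cM := AlgebraTensorModule.cancelBaseChange B T T' T' M
  let cN := AlgebraTensorModule.cancelBaseChange B T T' T' N
  have hcomm : (φ.baseChange T') ∘ₗ cM.toLinearMap =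
      cN.toLinearMap ∘ₗ ((φ.baseChange T).baseChange T') := by
    ext m
    simp [cM, cN]
  constructor
  · intro h
    have h1 : Function.Bijective ((φ.baseChange T') ∘ₗ cM.toLinearMap) := by
      rw [hcomm]
      exact cN.bijective.comp h
    have h2 : (φ.baseChange T' : T' ⊗[B] M → T' ⊗[B] N) =
        ((φ.baseChange T') ∘ₗ cM.toLinearMap) ∘ cM.symm := by
      funext x
      simp
    rw [h2]
    exact h1.comp cM.symm.bijective
  · intro h
    have h1 : Function.Bijective (cN.toLinearMap ∘ₗ ((φ.baseChange T).baseChange T')) := by
      rw [← hcomm]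
      exact h.comp cM.bijective
    have h2 : (((φ.baseChange T).baseChange T') : T' ⊗[T] (T ⊗[B] M) → T' ⊗[T] (T ⊗[B] N)) =
        cN.symm ∘ (cN.toLinearMap ∘ₗ ((φ.baseChange T).baseChange T')) := by
      funext x
      simp
    rw [h2]
    exact cN.symm.bijective.comp h1

/-- bijectivity after base change transfers along algebra maps -/
theorem bijective_baseChange_of_tower (φ : M →ₗ[B] N) (T T' : Type u) [CommRing T]
    [CommRing T'] [Algebra B T] [Algebra B T'] [Algebra T T'] [IsScalarTower B T T']
    (h : Function.Bijective (φ.baseChange T)) : Function.Bijective (φ.baseChange T') :=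
  (bijective_baseChange_baseChange_iff φ T T').1 (bijective_baseChange (φ.baseChange T) T' h)

theorem bijective_baseChange_of_algHom (φ : M →ₗ[B] N) (T T' : Type u) [CommRing T]
    [CommRing T'] [Algebra B T] [Algebra B T'] (θ : T →ₐ[B] T')
    (h : Function.Bijective (φ.baseChange T)) : Function.Bijective (φ.baseChange T') := by
  letI : Algebra T T' := θ.toRingHom.toAlgebra
  haveI : IsScalarTower B T T' := IsScalarTower.of_algebraMap_eq fun x => (θ.commutes x).symm
  exact bijective_baseChange_of_tower φ T T' h

end Transfer

section Local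

variable {C : Type u} [CommRing C] [IsNoetherianRing C]
  {P Q : Type u} [AddCommGroup P] [AddCommGroup Q] [Module C P] [Module C Q]
  [Module.Free C P] [Module.Finite C P] [Module.Free C Q] [Module.Finite C Q]

/-- a map of finite free modules over a noetherian ring which is bijective at all primes of
height at most one is bijective -/
theorem bijective_of_height_le_one_free (ψ : P →ₗ[C] Q)
    (h : ∀ (𝔭 : Ideal C) [𝔭.IsPrime], 𝔭.height ≤ 1 →
      Function.Bijective (ψ.baseChange (Localization.AtPrime 𝔭))) :
    Function.Bijective ψ := by
  rcases subsingleton_or_nontrivial C with hC | hC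
  · haveI : Subsingleton P := Module.subsingleton C P
    haveI : Subsingleton Q := Module.subsingleton C Q
    exact ⟨fun a b _ => Subsingleton.elim a b, fun b => ⟨0, Subsingleton.elim _ _⟩⟩
  -- ranks agree
  obtain ⟨𝔭0, h𝔭0⟩ := Ideal.nonempty_minimalPrimes (I := (⊥ : Ideal C)) (by simp)
  haveI : 𝔭0.IsPrime := h𝔭0.1.1
  have hht0 : 𝔭0.height ≤ 1 := by
    have : 𝔭0.height = 0 := Ideal.height_eq_zero_iff.2 h𝔭0
    rw [this]
    exact zero_le
  have hfin : Module.finrank C P = Module.finrank C Q := by
    have e0 := LinearEquiv.ofBijective _ (h 𝔭0 hht0)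
    have := e0.finrank_eq
    rwa [Module.finrank_baseChange, Module.finrank_baseChange] at this
  let e : Q ≃ₗ[C] P := LinearEquiv.ofFinrankEq Q P hfin.symm
  let g : P →ₗ[C] P := e.toLinearMap ∘ₗ ψ
  have hg : IsUnit (LinearMap.det g) := by
    by_contra hd
    have hne : Ideal.span {LinearMap.det g} ≠ ⊤ := by
      rwa [Ne, Ideal.span_singleton_eq_top]
    obtain ⟨𝔭, h𝔭⟩ := Ideal.nonempty_minimalPrimes hne
    haveI : 𝔭.IsPrime := h𝔭.1.1
    have hht : 𝔭.height ≤ 1 :=
      Ideal.height_le_one_of_isPrincipal_of_mem_minimalPrimes (Ideal.span {LinearMap.det g}) 𝔭 h𝔭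
    have hb := h 𝔭 hht
    have hgb : Function.Bijective (g.baseChange (Localization.AtPrime 𝔭)) := by
      have : g.baseChange (Localization.AtPrime 𝔭) =
          (e.toLinearMap.baseChange (Localization.AtPrime 𝔭)) ∘ₗ
            (ψ.baseChange (Localization.AtPrime 𝔭)) := LinearMap.baseChange_comp _ _
      rw [this]
      exact (bijective_baseChange e.toLinearMap _ e.bijective).comp hb
    have hu : IsUnit (LinearMap.det (g.baseChange (Localization.AtPrime 𝔭))) :=
      (LinearEquiv.ofBijective _ hgb).isUnit_det'
    rw [LinearMap.det_baseChange] at hu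
    have hmem : LinearMap.det g ∈ 𝔭.primeCompl :=
      (IsLocalization.AtPrime.isUnit_to_map_iff (Localization.AtPrime 𝔭) 𝔭 _).1 hu
    exact hmem (h𝔭.1.2 (Ideal.subset_span rfl))
  have hgu : IsUnit g := (LinearMap.isUnit_iff_isUnit_det g).2 hg
  have hgb : Function.Bijective g := (Module.End.isUnit_iff g).1 hgu
  have : (ψ : P → Q) = e.symm ∘ g := by
    funext x
    simp [g]
  rw [this]
  exact e.symm.bijective.comp hgb

end Local

section Global

variable {B : Type u} [CommRing B] [IsNoetherianRing B]
  {M N : Type u} [AddCommGroup M] [AddCommGroup N] [Module B M] [Module B N]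
  [Module.Finite B M] [Module.Projective B M] [Module.Finite B N] [Module.Projective B N]

/-- a map of finite projective modules over a noetherian ring which is bijective at all primes
of height at most one is bijective -/
theorem bijective_of_height_le_one (φ : M →ₗ[B] N)
    (h : ∀ (q : Ideal B) [q.IsPrime], q.height ≤ 1 →
      Function.Bijective (φ.baseChange (Localization.AtPrime q))) :
    Function.Bijective φ := by
  apply bijective_of_isLocalized_maximal (fun P _ => Localization.AtPrime P ⊗[B] M)
    (fun P _ => TensorProduct.mk B (Localization.AtPrime P) M 1)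
    (fun P _ => Localization.AtPrime P ⊗[B] N)
    (fun P _ => TensorProduct.mk B (Localization.AtPrime P) N 1) φ
  intro q hq
  have hmap : IsLocalizedModule.map q.primeCompl (TensorProduct.mk B (Localization.AtPrime q) M 1)
      (TensorProduct.mk B (Localization.AtPrime q) N 1) φ =
      (φ.baseChange (Localization.AtPrime q)).restrictScalars B := by
    apply IsLocalizedModule.linearMap_ext q.primeCompl
      (TensorProduct.mk B (Localization.AtPrime q) M 1)
      (TensorProduct.mk B (Localization.AtPrime q) N 1)
    ext m
    have := IsLocalizedModule.map_apply q.primeCompl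
      (TensorProduct.mk B (Localization.AtPrime q) M 1)
      (TensorProduct.mk B (Localization.AtPrime q) N 1) φ m
    simpa using this
  rw [hmap]
  change Function.Bijective (φ.baseChange (Localization.AtPrime q))
  haveI : Module.Free (Localization.AtPrime q) (Localization.AtPrime q ⊗[B] M) :=
    Module.free_of_flat_of_isLocalRing
  haveI : Module.Free (Localization.AtPrime q) (Localization.AtPrime q ⊗[B] N) :=
    Module.free_of_flat_of_isLocalRing
  apply bijective_of_height_le_one_free
  intro 𝔭 _ h𝔭
  have hq' : (𝔭.comap (algebraMap B (Localization.AtPrime q))).height ≤ 1 := by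
    have := IsLocalization.height_under q.primeCompl 𝔭
    rw [Ideal.under_def] at this
    rw [this]
    exact h𝔭
  have h1 := h _ hq'
  haveI : IsLocalization.AtPrime (Localization.AtPrime 𝔭)
      (𝔭.comap (algebraMap B (Localization.AtPrime q))) :=
    IsLocalization.isLocalization_isLocalization_atPrime_isLocalization q.primeCompl _ 𝔭
  let θ : Localization.AtPrime (𝔭.comap (algebraMap B (Localization.AtPrime q))) ≃ₐ[B]
      Localization.AtPrime 𝔭 :=
    IsLocalization.algEquiv (𝔭.comap (algebraMap B (Localization.AtPrime q))).primeCompl _ _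
  have h2 := bijective_baseChange_of_algHom φ _ _ θ.toAlgHom h1
  exact (bijective_baseChange_baseChange_iff φ (Localization.AtPrime q)
    (Localization.AtPrime 𝔭)).2 h2

end Global

end Groth.Agent.Lead.CodimOne
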