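import Mathlib
import Groth.Agent.Lib.Lead.CodimOne1

set_option autoImplicit false
set_option linter.style.haveILetI false
set_option linter.unusedSectionVars false

universe u

open TensorProduct KaehlerDifferential

namespace Groth.Agent.Lead.CodimOne

section Kaehler

variable (R A B : Type u) [CommRing R] [CommRing A] [CommRing B] [Algebra R A] [Algebra R B]
  [Algebra A B] [IsScalarTower R A B]

/-- If `B` is formally smooth over `R` and `B ⊗ Ω[A/R] → Ω[B/R]` is bijective then `B` is
formally étale over `A`. -/
theorem formallyEtale_of_bijective_mapBaseChange [Algebra.FormallySmooth R B]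
    (hbij : Function.Bijective (mapBaseChange R A B)) : Algebra.FormallyEtale A B := by
  have hΩ : Subsingleton Ω[B⁄A] := by
    refine ⟨fun a b => ?_⟩
    have h0 : ∀ ω : Ω[B⁄A], ω = 0 := by
      intro ω
      obtain ⟨y, rfl⟩ := KaehlerDifferential.map_surjective R A B ω
      obtain ⟨z, rfl⟩ := hbij.2 y
      exact (KaehlerDifferential.exact_mapBaseChange_map R A B _).2 ⟨z, rfl⟩
    rw [h0 a, h0 b]
  haveI : Algebra.FormallyUnramified A B := ⟨hΩ⟩
  have hH1 : Subsingleton (Algebra.H1Cotangent A B) := by
    refine ⟨fun a b => ?_⟩
    have h0 : ∀ h : Algebra.H1Cotangent A B, h = 0 := by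
      intro h
      have h1 : Algebra.H1Cotangent.δ R A B h = 0 := by
        apply hbij.1
        rw [map_zero]
        exact (Algebra.H1Cotangent.exact_δ_mapBaseChange R A B _).2 ⟨h, rfl⟩
      obtain ⟨y, rfl⟩ := (Algebra.H1Cotangent.exact_map_δ R A B h).1 h1
      rw [Subsingleton.elim y 0, map_zero]
    rw [h0 a, h0 b]
  haveI : Algebra.FormallySmooth A B := ⟨inferInstance, hH1⟩
  exact Algebra.FormallyEtale.of_formallyUnramified_and_formallySmooth

variable (T : Type u) [CommRing T] [Algebra R T] [Algebra A T] [Algebra B T]
  [IsScalarTower R A T] [IsScalarTower R B T] [IsScalarTower A B T]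

theorem map_map_apply (ω : Ω[A⁄R]) :
    KaehlerDifferential.map R R B T (KaehlerDifferential.map R R A B ω) =
      KaehlerDifferential.map R R A T ω := by
  have hω : ω ∈ Submodule.span A (Set.range (D R A)) := by
    rw [KaehlerDifferential.span_range_derivation]; trivial
  induction hω using Submodule.span_induction with
  | mem ω h =>
    obtain ⟨a, rfl⟩ := h
    rw [map_D, map_D, map_D, ← IsScalarTower.algebraMap_apply]
  | zero => simp
  | add x y _ _ hx hy => rw [map_add, map_add, map_add, hx, hy]
  | smul a x _ hx =>
    rw [map_smul, ← algebraMap_smul B a (KaehlerDifferential.map R R A B x), map_smul, hx,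
      map_smul, algebraMap_smul]

/-- the base change of `B ⊗ Ω[A/R] → Ω[B/R]` to a `B`-algebra which is formally étale over both
`A` and `B` is bijective -/
theorem bijective_baseChange_mapBaseChange [Algebra.FormallyEtale A T] [Algebra.FormallyEtale B T] :
    Function.Bijective ((mapBaseChange R A B).baseChange T) := by
  have hA : Function.Bijective (mapBaseChange R A T) :=
    (tensorKaehlerEquivOfFormallyEtale R A T).bijective
  have hB : Function.Bijective (mapBaseChange R B T) :=
    (tensorKaehlerEquivOfFormallyEtale R B T).bijective
  let c := AlgebraTensorModule.cancelBaseChange A B T T Ω[A⁄R]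
  have hcomm : (mapBaseChange R B T) ∘ₗ ((mapBaseChange R A B).baseChange T) =
      (mapBaseChange R A T) ∘ₗ c.toLinearMap := by
    apply LinearMap.ext
    intro x
    induction x using TensorProduct.induction_on with
    | zero => simp
    | add x y hx hy => rw [map_add, map_add, hx, hy]
    | tmul t y =>
      induction y using TensorProduct.induction_on with
      | zero => simp
      | add x y hx hy => rw [tmul_add, map_add, map_add, hx, hy]
      | tmul b ω =>
        simp only [LinearMap.coe_comp, Function.comp_apply, LinearMap.baseChange_tmul,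
          mapBaseChange_tmul, LinearEquiv.coe_coe, c,
          AlgebraTensorModule.cancelBaseChange_tmul, map_smul, map_map_apply]
        rw [← algebraMap_smul T b (KaehlerDifferential.map R R A T ω), smul_smul,
          Algebra.smul_def b t, mul_comm]
  have h1 : Function.Bijective ((mapBaseChange R B T) ∘ₗ ((mapBaseChange R A B).baseChange T)) := by
    rw [hcomm]
    exact hA.comp c.bijective
  let eB := LinearEquiv.ofBijective (mapBaseChange R B T) hB
  have h2 : (((mapBaseChange R A B).baseChange T) : T ⊗[B] (B ⊗[A] Ω[A⁄R]) → T ⊗[B] Ω[B⁄R]) =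
      eB.symm ∘ ((mapBaseChange R B T) ∘ₗ ((mapBaseChange R A B).baseChange T)) := by
    funext x
    simp [eB]
  rw [h2]
  exact eB.symm.bijective.comp h1

end Kaehler

section Main

variable (R A B : Type u) [CommRing R] [CommRing A] [CommRing B] [Algebra R A] [Algebra R B]
  [Algebra A B] [IsScalarTower R A B]

/-- **Purity for maps between smooth algebras**: if `A` and `B` are smooth over `R`, `B` is
noetherian, and `A → B` is étale at all primes of `B` of height at most one, then `A → B` is
étale. -/
theorem etale_of_height_le_one [IsNoetherianRing B] [Algebra.Smooth R A] [Algebra.Smooth R B]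
    (h : ∀ (q : Ideal B) [q.IsPrime], q.height ≤ 1 →
      Algebra.FormallyEtale A (Localization.AtPrime q)) :
    Algebra.Etale A B := by
  have hbij : Function.Bijective (mapBaseChange R A B) := by
    apply bijective_of_height_le_one
    intro q _ hq
    haveI := h q hq
    haveI : Algebra.FormallyEtale B (Localization.AtPrime q) :=
      Algebra.FormallyEtale.of_isLocalization q.primeCompl
    exact bijective_baseChange_mapBaseChange R A B (Localization.AtPrime q)
  haveI : Algebra.FormallyEtale A B := formallyEtale_of_bijective_mapBaseChange R A B hbij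
  haveI : Algebra.FinitePresentation A B :=
    Algebra.FinitePresentation.of_restrict_scalars_finitePresentation R A B
  exact ⟨inferInstance, inferInstance⟩

theorem height_comap_le_of_hasGoingDown {R S : Type u} [CommRing R] [CommRing S] [Algebra R S]
    [Algebra.HasGoingDown R S] (P : Ideal S) [P.IsPrime] :
    (P.comap (algebraMap R S)).height ≤ P.height := by
  have h1 := PrimeSpectrum.height_eq_orderHeight
    (⟨P.comap (algebraMap R S), inferInstance⟩ : PrimeSpectrum R)
  have h2 := PrimeSpectrum.height_eq_orderHeight (⟨P, inferInstance⟩ : PrimeSpectrum S)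
  change (P.comap (algebraMap R S)).height = _ at h1
  change P.height = _ at h2
  rw [h1, h2]
  apply Order.height_le
  intro l hl
  haveI : P.LiesOver l.last.asIdeal := ⟨by rw [hl]⟩
  obtain ⟨L, hlen, hlast, -⟩ := Ideal.exists_ltSeries_of_hasGoingDown l P
  rw [← hlen]
  exact Order.length_le_height (le_of_eq hlast)

/-- ring hom form, with the height condition on the contraction to the base -/
theorem etale_of_height_le_one_ringHom {R A B : Type u} [CommRing R] [CommRing A] [CommRing B]
    [IsNoetherianRing B] (α : R →+* A) (φ : A →+* B) (hα : α.Smooth) (hβ : (φ.comp α).Smooth)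
    (h : ∀ (q : Ideal B) [q.IsPrime], (q.comap (φ.comp α)).height ≤ 1 →
      ∃ (T : Type u) (_ : CommRing T) (τ : B →+* T),
        @IsLocalization.AtPrime B _ T _ τ.toAlgebra q _ ∧
        @Algebra.FormallyEtale A T _ _ (τ.comp φ).toAlgebra) :
    φ.Etale := by
  letI : Algebra R A := α.toAlgebra
  letI : Algebra A B := φ.toAlgebra
  letI : Algebra R B := (φ.comp α).toAlgebra
  haveI : IsScalarTower R A B := IsScalarTower.of_algebraMap_eq fun _ => rfl
  haveI : Algebra.Smooth R A := hα
  haveI : Algebra.Smooth R B := hβ
  change Algebra.Etale A B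
  apply etale_of_height_le_one R A B
  intro q _ hq
  have hle : (q.comap (φ.comp α)).height ≤ 1 := by
    change (q.comap (algebraMap R B)).height ≤ 1
    exact (height_comap_le_of_hasGoingDown q).trans hq
  obtain ⟨T, _, τ, hloc, het⟩ := h q hle
  letI : Algebra B T := τ.toAlgebra
  letI : Algebra A T := (τ.comp φ).toAlgebra
  haveI : IsScalarTower A B T := IsScalarTower.of_algebraMap_eq fun _ => rfl
  haveI : IsLocalization.AtPrime T q := hloc
  haveI : Algebra.FormallyEtale A T := het
  let e : T ≃ₐ[B] Localization.AtPrime q := IsLocalization.algEquiv q.primeCompl T _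
  exact Algebra.FormallyEtale.of_equiv (e.restrictScalars A)

end Main

end Groth.Agent.Lead.CodimOne
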