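import Mathlib
import Groth.Agent.Lib.Lead.CodimOne2
import Groth.Agent.Lib.Lead.EtDense1

set_option autoImplicit false
set_option backward.isDefEq.respectTransparency.types false
set_option synthInstance.maxHeartbeats 400000
set_option linter.style.haveILetI false
set_option linter.unusedSectionVars false

universe u

open CategoryTheory CategoryTheory.Limits AlgebraicGeometry TopologicalSpace

namespace Groth.Agent.Lead.CodimOne

open Groth.Agent.Lib.Lead.EtDense1

/-- étaleness of `f` on an affine open contained in an open on which `f` is étale -/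
theorem etale_appLE_of_le {X Y : Scheme.{u}} (f : X ⟶ Y) (X₁ : X.Opens) [Etale (X₁.ι ≫ f)]
    {V : Y.Opens} (hV : IsAffineOpen V) {U' : X.Opens} (hU' : IsAffineOpen U')
    (e : U' ≤ f ⁻¹ᵁ V) (hle : U' ≤ X₁) : (f.appLE V U' e).hom.Etale := by
  apply etale_appLE_of_etale_comp f hV hU' e
  haveI := hU'.isOpenImmersion_fromSpec
  have hr : Set.range hU'.fromSpec.base ⊆ Set.range X₁.ι.base := by
    rw [hU'.range_fromSpec, Scheme.Opens.range_ι]
    exact hle
  let l := IsOpenImmersion.lift X₁.ι hU'.fromSpec hr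
  have hl : l ≫ X₁.ι = hU'.fromSpec := IsOpenImmersion.lift_fac _ _ _
  haveI : IsOpenImmersion l := by
    haveI : IsOpenImmersion (l ≫ X₁.ι) := by rw [hl]; infer_instance
    exact IsOpenImmersion.of_comp l X₁.ι
  rw [← hl, Category.assoc]
  infer_instance

/-- the stalk at a point of an affine open `U'` is formally étale over `Γ(Y, V)` when `f` is
étale on `U'` -/
theorem formallyEtale_stalk {X Y : Scheme.{u}} (f : X ⟶ Y)
    {V : Y.Opens} {U U' : X.Opens} (hU' : IsAffineOpen U')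
    (eU : U ≤ f ⁻¹ᵁ V) (eU' : U' ≤ f ⁻¹ᵁ V) (hle : U' ≤ U)
    (het : (f.appLE V U' eU').hom.Etale) (x' : X) (hxU' : x' ∈ U') :
    @Algebra.FormallyEtale Γ(Y, V) (X.presheaf.stalk x') _ _
      (((X.presheaf.germ U x' (hle hxU')).hom).comp (f.appLE V U eU).hom).toAlgebra := by
  have heq : ((X.presheaf.germ U x' (hle hxU')).hom).comp (f.appLE V U eU).hom =
      ((X.presheaf.germ U' x' hxU').hom).comp (f.appLE V U' eU').hom := by
    rw [← CommRingCat.hom_comp, ← CommRingCat.hom_comp]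
    congr 1
    rw [← Scheme.Hom.appLE_map f eU (homOfLE hle).op, Category.assoc, X.presheaf.germ_res]
  rw [heq]
  letI : Algebra Γ(Y, V) Γ(X, U') := (f.appLE V U' eU').hom.toAlgebra
  letI : Algebra Γ(X, U') (X.presheaf.stalk x') := (X.presheaf.germ U' x' hxU').hom.toAlgebra
  letI : Algebra Γ(Y, V) (X.presheaf.stalk x') :=
    (((X.presheaf.germ U' x' hxU').hom).comp (f.appLE V U' eU').hom).toAlgebra
  haveI : IsScalarTower Γ(Y, V) Γ(X, U') (X.presheaf.stalk x') :=
    IsScalarTower.of_algebraMap_eq fun _ => rfl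
  haveI : Algebra.Etale Γ(Y, V) Γ(X, U') := het
  haveI : IsLocalization.AtPrime (X.presheaf.stalk x') (hU'.primeIdealOf ⟨x', hxU'⟩).asIdeal :=
    hU'.isLocalization_stalk ⟨x', hxU'⟩
  haveI : Algebra.FormallyEtale Γ(X, U') (X.presheaf.stalk x') :=
    Algebra.FormallyEtale.of_isLocalization (hU'.primeIdealOf ⟨x', hxU'⟩).asIdeal.primeCompl
  exact Algebra.FormallyEtale.comp Γ(Y, V) Γ(X, U') (X.presheaf.stalk x')

/-- **Purity for morphisms between smooth schemes**: a morphism between smooth `S`-schemes which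
is étale over the complement of a closed subset of codimension at least two in `S` is étale. -/
theorem etale_of_etale_codim_one {X Y S : Scheme.{u}} [IsLocallyNoetherian S] (p : X ⟶ S)
    (q : Y ⟶ S) (f : X ⟶ Y) (hf : f ≫ q = p) [Smooth p] [Smooth q] (S₁ : S.Opens)
    (hcodim : ∀ s : S, s ∉ S₁ → (2 : WithBot ℕ∞) ≤ ringKrullDim (S.presheaf.stalk s))
    [Etale ((p ⁻¹ᵁ S₁).ι ≫ f)] : Etale f := by
  haveI : IsLocallyNoetherian X := LocallyOfFiniteType.isLocallyNoetherian p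
  rw [HasRingHomProperty.iff_exists_appLE (P := @Etale) (Q := RingHom.Etale) etale_sucwlas]
  intro x
  obtain ⟨_, ⟨W, hW, rfl⟩, hsW, -⟩ := S.isBasis_affineOpens.exists_subset_of_mem_open
    (Set.mem_univ (p x)) isOpen_univ
  have hyW : f x ∈ q ⁻¹ᵁ W := by
    change q (f x) ∈ W
    rw [← Scheme.Hom.comp_apply, hf]
    exact hsW
  obtain ⟨_, ⟨V, hV, rfl⟩, hyV, hVW⟩ := Y.isBasis_affineOpens.exists_subset_of_mem_open
    hyW (q ⁻¹ᵁ W).isOpen
  obtain ⟨_, ⟨U, hU, rfl⟩, hxU, hUV⟩ := X.isBasis_affineOpens.exists_subset_of_mem_open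
    (show x ∈ f ⁻¹ᵁ V from hyV) (f ⁻¹ᵁ V).isOpen
  refine ⟨⟨V, hV⟩, ⟨U, hU⟩, hxU, hUV, ?_⟩
  have eVW : V ≤ q ⁻¹ᵁ W := hVW
  have eUV : U ≤ f ⁻¹ᵁ V := hUV
  have eUW : U ≤ p ⁻¹ᵁ W := by
    intro a ha
    change p a ∈ W
    rw [← hf, Scheme.Hom.comp_apply]
    exact hVW (hUV ha)
  have hcomp : (f.appLE V U eUV).hom.comp (q.appLE W V eVW).hom = (p.appLE W U eUW).hom := by
    subst hf
    rw [← CommRingCat.hom_comp, Scheme.Hom.appLE_comp_appLE]
  haveI : IsNoetherianRing Γ(X, U) := IsLocallyNoetherian.component_noetherian ⟨U, hU⟩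
  apply etale_of_height_le_one_ringHom (q.appLE W V eVW).hom (f.appLE V U eUV).hom
  · exact HasRingHomProperty.appLE (P := @Smooth) q inferInstance ⟨W, hW⟩ ⟨V, hV⟩ eVW
  · rw [hcomp]
    exact HasRingHomProperty.appLE (P := @Smooth) p inferInstance ⟨W, hW⟩ ⟨U, hU⟩ eUW
  · intro 𝔮 _ h𝔮
    rw [hcomp] at h𝔮
    let y : PrimeSpectrum Γ(X, U) := ⟨𝔮, inferInstance⟩
    have hx'U : hU.fromSpec y ∈ U := by
      have : hU.fromSpec y ∈ Set.range hU.fromSpec := Set.mem_range_self y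
      rw [hU.range_fromSpec] at this
      exact this
    have hprime : hU.primeIdealOf ⟨hU.fromSpec y, hx'U⟩ = y := by
      haveI := hU.isOpenImmersion_fromSpec
      apply hU.fromSpec.isOpenEmbedding.injective
      exact hU.fromSpec_primeIdealOf ⟨hU.fromSpec y, hx'U⟩
    -- the image point lies in `S₁`
    have hs₁ : p (hU.fromSpec y) ∈ S₁ := by
      by_contra hns
      have h2 := hcodim _ hns
      letI := S.presheaf.algebra_section_stalk ⟨p (hU.fromSpec y), eUW hx'U⟩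
      haveI := hW.isLocalization_stalk ⟨p (hU.fromSpec y), eUW hx'U⟩
      rw [IsLocalization.AtPrime.ringKrullDim_eq_height
        (hW.primeIdealOf ⟨p (hU.fromSpec y), eUW hx'U⟩).asIdeal] at h2
      have hc := IsAffineOpen.comap_primeIdealOf_appLE (f := p) W hW U hU eUW hx'U
      rw [hprime] at hc
      have hc' : 𝔮.comap (p.appLE W U eUW).hom =
          (hW.primeIdealOf ⟨p (hU.fromSpec y), eUW hx'U⟩).asIdeal := congr($(hc).asIdeal)
      rw [← hc'] at h2
      have h3 : (2 : ℕ∞) ≤ (𝔮.comap (p.appLE W U eUW).hom).height := by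
        have h2' : ((2 : ℕ∞) : WithBot ℕ∞) ≤
            ((𝔮.comap (p.appLE W U eUW).hom).height : WithBot ℕ∞) := h2
        exact WithBot.coe_le_coe.1 h2'
      have h4 := h3.trans h𝔮
      exact absurd h4 (by norm_num)
    -- a smaller affine open on which `f` is étale
    obtain ⟨_, ⟨U', hU', rfl⟩, hxU', hU'le⟩ := X.isBasis_affineOpens.exists_subset_of_mem_open
      (show hU.fromSpec y ∈ ((U ⊓ p ⁻¹ᵁ S₁ : X.Opens) : Set X) from ⟨hx'U, hs₁⟩)
      (U ⊓ p ⁻¹ᵁ S₁).isOpen
    have hU'U : U' ≤ U := fun a ha => (hU'le ha).1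
    have hU'X₁ : U' ≤ p ⁻¹ᵁ S₁ := fun a ha => (hU'le ha).2
    have eU'V : U' ≤ f ⁻¹ᵁ V := hU'U.trans eUV
    have het' := etale_appLE_of_le f (p ⁻¹ᵁ S₁) hV hU' eU'V hU'X₁
    refine ⟨X.presheaf.stalk (hU.fromSpec y), inferInstance,
      (X.presheaf.germ U (hU.fromSpec y) hx'U).hom, ?_, ?_⟩
    · exact hU.isLocalization_stalk' y hx'U
    · exact formallyEtale_stalk f hU' eUV eU'V hU'U het' (hU.fromSpec y) hxU'

/-- Over-category form with the restriction expressed by `Over.pullback`. -/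
theorem etale_of_etale_pullback {S : Scheme.{u}} [IsLocallyNoetherian S] (S₁ : S.Opens)
    (hcodim : ∀ s : S, s ∉ S₁ → (2 : WithBot ℕ∞) ≤ ringKrullDim (S.presheaf.stalk s))
    (G H : Over S) [Smooth G.hom] [Smooth H.hom] (f : G ⟶ H)
    [Etale ((Over.pullback S₁.ι).map f).left] : Etale f.left := by
  have hfst : ((Over.pullback S₁.ι).map f).left ≫ pullback.fst H.hom S₁.ι =
      pullback.fst G.hom S₁.ι ≫ f.left := by
    simp only [Over.pullback]
    exact pullback.lift_fst _ _ _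
  haveI : Etale (pullback.fst G.hom S₁.ι ≫ f.left) := by
    rw [← hfst]
    infer_instance
  have hr : Set.range (G.hom ⁻¹ᵁ S₁).ι.base ⊆ Set.range (pullback.fst G.hom S₁.ι).base := by
    intro a ha
    have h1 : a ∈ (G.hom ⁻¹ᵁ S₁).ι.opensRange := ha
    have h2 : (pullback.fst G.hom S₁.ι).opensRange = G.hom ⁻¹ᵁ S₁ := by
      rw [Scheme.Hom.opensRange_pullbackFst, Scheme.Opens.opensRange_ι]
    rw [Scheme.Opens.opensRange_ι, ← h2] at h1
    exact h1
  let l := IsOpenImmersion.lift (pullback.fst G.hom S₁.ι) (G.hom ⁻¹ᵁ S₁).ι hr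
  have hl : l ≫ pullback.fst G.hom S₁.ι = (G.hom ⁻¹ᵁ S₁).ι := IsOpenImmersion.lift_fac _ _ _
  haveI : IsOpenImmersion l := by
    haveI : IsOpenImmersion (l ≫ pullback.fst G.hom S₁.ι) := by rw [hl]; infer_instance
    exact IsOpenImmersion.of_comp l (pullback.fst G.hom S₁.ι)
  haveI : Etale ((G.hom ⁻¹ᵁ S₁).ι ≫ f.left) := by
    rw [← hl, Category.assoc]
    infer_instance
  exact etale_of_etale_codim_one G.hom H.hom f.left (Over.w f) S₁ hcodim

end Groth.Agent.Lead.CodimOne
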