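import Mathlib

set_option autoImplicit false
set_option linter.style.haveILetI false
universe u

namespace Groth.Agent.Lead.CodimTwo

/-- Krull: an element outside all minimal primes does not lie in all powers of a prime -/
theorem exists_not_mem_pow {A : Type*} [CommRing A] [IsNoetherianRing A] (t : A)
    (ht : ∀ q ∈ minimalPrimes A, t ∉ q) (P : Ideal A) [hP : P.IsPrime] : ∃ n : ℕ, t ∉ P ^ n := by
  by_contra h
  have h' : ∀ n : ℕ, t ∈ P ^ n := by
    intro n
    by_contra hn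
    exact h ⟨n, hn⟩
  have hmem : t ∈ (⨅ i : ℕ, P ^ i • ⊤ : Submodule A A) := by
    rw [Submodule.mem_iInf]
    intro i
    rw [smul_eq_mul, Ideal.mul_top]
    exact h' i
  obtain ⟨r, hr⟩ := (Ideal.mem_iInf_smul_pow_eq_bot_iff P t).1 hmem
  obtain ⟨q, hq, hqP⟩ := Ideal.exists_minimalPrimes_le (I := (⊥ : Ideal A)) (J := P) bot_le
  haveI := hq.isPrime
  have h1 : (1 - (r : A)) * t ∈ q := by
    have : (1 - (r : A)) * t = 0 := by
      rw [sub_mul, one_mul, sub_eq_zero]
      exact hr.symm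
    rw [this]
    exact q.zero_mem
  rcases (Ideal.IsPrime.mem_or_mem inferInstance h1) with h2 | h2
  · have h3 : (1 - (r : A)) ∈ P := hqP h2
    have h4 : (1 : A) ∈ P := by
      have := P.add_mem h3 r.2
      rwa [sub_add_cancel] at this
    exact hP.ne_top ((Ideal.eq_top_iff_one P).2 h4)
  · exact ht q hq h2

/-- a product over a subset contains the product over the whole set -/
theorem prod_le_prod_subset {A : Type*} [CommRing A] {ι : Type*} [DecidableEq ι] (s s' : Finset ι)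
    (h : s' ⊆ s) (J : ι → Ideal A) : ∏ i ∈ s, J i ≤ ∏ i ∈ s', J i := by
  rw [← Finset.prod_sdiff h]
  exact Ideal.mul_le_right (I := ∏ i ∈ s \ s', J i)

/-- **bounding the number of height one prime factors** -/
theorem exists_bound_factors {A : Type u} [CommRing A] [IsNoetherianRing A] (t : A)
    (ht : ∀ q ∈ minimalPrimes A, t ∉ q) :
    ∃ N : ℕ, ∀ {ι : Type u} (s : Finset ι) (𝔭 : ι → Ideal A) (e : ι → ℕ),
      (∀ i ∈ s, 𝔭 i = ⊤ ∨ ((𝔭 i).IsPrime ∧ (𝔭 i).height ≤ 1)) →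
      t ∈ ∏ i ∈ s, 𝔭 i ^ e i → ∑ i ∈ s with 𝔭 i ≠ ⊤, e i ≤ N := by
  classical
  have hfin := (Ideal.span {t}).finite_minimalPrimes_of_isNoetherianRing A
  let F : Finset (Ideal A) := hfin.toFinset
  have hNf : ∀ P : Ideal A, ∃ n : ℕ, P.IsPrime → t ∉ P ^ n := by
    intro P
    by_cases hP : P.IsPrime
    · obtain ⟨n, hn⟩ := exists_not_mem_pow t ht P
      exact ⟨n, fun _ => hn⟩
    · exact ⟨0, fun h => absurd h hP⟩
  choose Nf hNf' using hNf
  refine ⟨∑ P ∈ F, Nf P, ?_⟩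
  intro ι s 𝔭 e hs hts
  let s' : Finset ι := s.filter (fun i => 𝔭 i ≠ ⊤ ∧ e i ≠ 0)
  have hsum : ∑ i ∈ s with 𝔭 i ≠ ⊤, e i = ∑ i ∈ s', e i := by
    symm
    apply Finset.sum_subset
    · intro i hi
      rw [Finset.mem_filter] at hi ⊢
      exact ⟨hi.1, hi.2.1⟩
    · intro i hi hi'
      rw [Finset.mem_filter] at hi
      by_contra hne
      exact hi' (Finset.mem_filter.2 ⟨hi.1, hi.2, hne⟩)
  have hmaps : ∀ i ∈ s', 𝔭 i ∈ F := by
    intro i hi
    rw [Finset.mem_filter] at hi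
    obtain ⟨his, hne, he⟩ := hi
    rcases hs i his with h | ⟨hp, hh⟩
    · exact absurd h hne
    · haveI := hp
      have hti : t ∈ 𝔭 i := by
        have h1 : ∏ j ∈ s, 𝔭 j ^ e j ≤ 𝔭 i ^ e i := by
          rw [← Finset.mul_prod_erase s _ his]
          exact Ideal.mul_le_left (I := 𝔭 i ^ e i)
        have h2 : 𝔭 i ^ e i ≤ 𝔭 i := Ideal.pow_le_self he
        exact h2 (h1 hts)
      obtain ⟨P, hP, hPle⟩ := Ideal.exists_minimalPrimes_le (I := Ideal.span {t}) (J := 𝔭 i)
        ((Ideal.span_singleton_le_iff_mem _).2 hti)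
      haveI := hP.isPrime
      have heq : P = 𝔭 i := by
        by_contra hne'
        have hlt : P < 𝔭 i := lt_of_le_of_ne hPle hne'
        have h1 := Ideal.height_strict_mono_of_isPrime_of_isPrime hlt
        have h0 : P.height = 0 := by
          have : P.height < 1 := lt_of_lt_of_le h1 hh
          exact Order.lt_one_iff.1 this
        rw [Ideal.height_eq_zero_iff] at h0
        exact ht P h0 (hP.1.2 (Ideal.mem_span_singleton_self t))
      rw [← heq]
      exact hfin.mem_toFinset.2 hP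
  rw [hsum, ← Finset.sum_fiberwise_of_maps_to hmaps]
  apply Finset.sum_le_sum
  intro P hP
  have hPp : P.IsPrime := (hfin.mem_toFinset.1 hP).isPrime
  have hn := hNf' P hPp
  by_contra hcon
  rw [not_le] at hcon
  apply hn
  have h1 : ∏ i ∈ s, 𝔭 i ^ e i ≤ ∏ i ∈ s' with 𝔭 i = P, 𝔭 i ^ e i := by
    apply prod_le_prod_subset
    intro i hi
    exact (Finset.mem_filter.1 (Finset.mem_filter.1 hi).1).1
  have h2 : ∏ i ∈ s' with 𝔭 i = P, 𝔭 i ^ e i = P ^ ∑ i ∈ s' with 𝔭 i = P, e i := by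
    rw [← Finset.prod_pow_eq_pow_sum]
    apply Finset.prod_congr rfl
    intro i hi
    rw [(Finset.mem_filter.1 hi).2]
  have h3 : P ^ ∑ i ∈ s' with 𝔭 i = P, e i ≤ P ^ Nf P := Ideal.pow_le_pow_right hcon.le
  exact h3 (h2 ▸ h1 hts)

end Groth.Agent.Lead.CodimTwo
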