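import Mathlib
import Groth.Prelude.Def_BlowUp2
import Groth.Agent.Lib.Helper4.EffCartier
import Groth.Agent.Lib.Lead.CodimTwo1

set_option autoImplicit false
set_option backward.isDefEq.respectTransparency.types false
set_option synthInstance.maxHeartbeats 400000
set_option linter.style.haveILetI false
set_option linter.unusedSectionVars false
universe u
open CategoryTheory CategoryTheory.Limits AlgebraicGeometry TopologicalSpace Opposite

namespace Groth.Agent.Lead.CodimTwo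

open Groth.Agent.Helper4

variable {X : Scheme.{u}}

/-- membership in the prime ideal of a point -/
theorem mem_primeIdealOf_iff {W : X.Opens} (hW : IsAffineOpen W) (x : X) (hx : x ∈ W)
    (t : Γ(X, W)) : t ∈ (hW.primeIdealOf ⟨x, hx⟩).asIdeal ↔ x ∉ X.basicOpen t := by
  have h := hW.fromSpec_primeIdealOf ⟨x, hx⟩
  have h1 : x ∈ X.basicOpen t ↔
      hW.primeIdealOf ⟨x, hx⟩ ∈ hW.fromSpec ⁻¹ᵁ X.basicOpen t := by
    change _ ↔ hW.fromSpec (hW.primeIdealOf ⟨x, hx⟩) ∈ X.basicOpen t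
    rw [h]
  rw [h1, hW.fromSpec_preimage_basicOpen]
  exact not_not.symm

theorem fromSpec_mem {W : X.Opens} (hW : IsAffineOpen W) (q : PrimeSpectrum Γ(X, W)) :
    hW.fromSpec q ∈ W := by
  have : hW.fromSpec q ∈ Set.range hW.fromSpec := ⟨q, rfl⟩
  rw [hW.range_fromSpec] at this
  exact this

theorem primeIdealOf_fromSpec {W : X.Opens} (hW : IsAffineOpen W) (q : PrimeSpectrum Γ(X, W)) :
    hW.primeIdealOf ⟨hW.fromSpec q, fromSpec_mem hW q⟩ = q := by
  apply hW.fromSpec.isOpenEmbedding.injective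
  exact hW.fromSpec_primeIdealOf ⟨hW.fromSpec q, fromSpec_mem hW q⟩

theorem ringKrullDim_stalk_eq_height {W : X.Opens} (hW : IsAffineOpen W) (x : X) (hx : x ∈ W) :
    ringKrullDim (X.presheaf.stalk x) = ((hW.primeIdealOf ⟨x, hx⟩).asIdeal.height : WithBot ℕ∞) := by
  letI := TopCat.Presheaf.algebra_section_stalk X.presheaf (⟨x, hx⟩ : W)
  haveI := hW.isLocalization_stalk ⟨x, hx⟩
  exact IsLocalization.AtPrime.ringKrullDim_eq_height (hW.primeIdealOf ⟨x, hx⟩).asIdeal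
    (X.presheaf.stalk x)

theorem primeIdealOf_le_of_specializes {W : X.Opens} (hW : IsAffineOpen W) {y z : X}
    (h : y ⤳ z) (hz : z ∈ W) :
    ∃ hy : y ∈ W, (hW.primeIdealOf ⟨y, hy⟩).asIdeal ≤ (hW.primeIdealOf ⟨z, hz⟩).asIdeal := by
  have hy : y ∈ W := h.mem_open W.2 hz
  refine ⟨hy, fun t ht => ?_⟩
  rw [mem_primeIdealOf_iff] at ht ⊢
  intro hzt
  exact ht (h.mem_open (X.basicOpen t).2 hzt)

theorem dim_mono {y z : X} (h : y ⤳ z) :
    ringKrullDim (X.presheaf.stalk y) ≤ ringKrullDim (X.presheaf.stalk z) := by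
  obtain ⟨_, ⟨W, hW, rfl⟩, hzW, -⟩ :=
    X.isBasis_affineOpens.exists_subset_of_mem_open (Set.mem_univ z) isOpen_univ
  obtain ⟨hy, hle⟩ := primeIdealOf_le_of_specializes hW h hzW
  rw [ringKrullDim_stalk_eq_height hW y hy, ringKrullDim_stalk_eq_height hW z hzW]
  exact WithBot.coe_le_coe.2 (Ideal.height_mono hle)

/-- points of a closed set whose minimal points have codimension at least two have
codimension at least two -/
theorem two_le_dim_of_mem (Z' : Set X) (hZ' : IsClosed Z')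
    (hcodim : ∀ z ∈ Z', (∀ y ∈ Z', y ⤳ z → y = z) →
      (2 : WithBot ℕ∞) ≤ ringKrullDim (X.presheaf.stalk z))
    (z : X) (hz : z ∈ Z') : (2 : WithBot ℕ∞) ≤ ringKrullDim (X.presheaf.stalk z) := by
  obtain ⟨_, ⟨W, hW, rfl⟩, hzW, -⟩ :=
    X.isBasis_affineOpens.exists_subset_of_mem_open (Set.mem_univ z) isOpen_univ
  let T : Set (PrimeSpectrum Γ(X, W)) := hW.fromSpec ⁻¹' Z'
  have hT : IsClosed T := hZ'.preimage hW.fromSpec.continuous
  let I' : Ideal Γ(X, W) := PrimeSpectrum.vanishingIdeal T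
  have hmemT : ∀ y (hy : y ∈ W), y ∈ Z' → hW.primeIdealOf ⟨y, hy⟩ ∈ T := by
    intro y hy hyZ
    change hW.fromSpec (hW.primeIdealOf ⟨y, hy⟩) ∈ Z'
    rw [hW.fromSpec_primeIdealOf ⟨y, hy⟩]
    exact hyZ
  have hle : ∀ y (hy : y ∈ W), y ∈ Z' → I' ≤ (hW.primeIdealOf ⟨y, hy⟩).asIdeal := by
    intro y hy hyZ t ht
    exact (PrimeSpectrum.mem_vanishingIdeal _ _).1 ht _ (hmemT y hy hyZ)
  obtain ⟨q, hq, hqz⟩ := Ideal.exists_minimalPrimes_le (hle z hzW hz)
  haveI hqp : q.IsPrime := hq.isPrime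
  let Q : PrimeSpectrum Γ(X, W) := ⟨q, hqp⟩
  have hQT : Q ∈ T := by
    have h1 : Q ∈ PrimeSpectrum.zeroLocus (I' : Set Γ(X, W)) := hq.1.2
    rw [PrimeSpectrum.zeroLocus_vanishingIdeal_eq_closure, hT.closure_eq] at h1
    exact h1
  let y : X := hW.fromSpec Q
  have hyW : y ∈ W := fromSpec_mem hW Q
  have hyZ : y ∈ Z' := hQT
  have hpy : hW.primeIdealOf ⟨y, hyW⟩ = Q := primeIdealOf_fromSpec hW Q
  have hmin : ∀ y' ∈ Z', y' ⤳ y → y' = y := by
    intro y' hy'Z hsp
    obtain ⟨hy'W, hle'⟩ := primeIdealOf_le_of_specializes hW hsp hyW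
    rw [hpy] at hle'
    have h1 : q ≤ (hW.primeIdealOf ⟨y', hy'W⟩).asIdeal :=
      hq.2 ⟨(hW.primeIdealOf ⟨y', hy'W⟩).isPrime, hle y' hy'W hy'Z⟩ hle'
    have h2 : hW.primeIdealOf ⟨y', hy'W⟩ = Q := by
      apply PrimeSpectrum.ext
      exact le_antisymm hle' h1
    have h3 := hW.fromSpec_primeIdealOf ⟨y', hy'W⟩
    rw [h2] at h3
    exact h3.symm
  have h2 := hcodim y hyZ hmin
  rw [ringKrullDim_stalk_eq_height hW y hyW, hpy] at h2
  rw [ringKrullDim_stalk_eq_height hW z hzW]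
  exact h2.trans (WithBot.coe_le_coe.2 (Ideal.height_mono hqz))

/-- the stalk ideal of an ideal sheaf is independent of the affine chart -/
theorem map_germ_eq (I : X.IdealSheafData) (W W' : X.affineOpens) (x : X) (hx : x ∈ W.1)
    (hx' : x ∈ W'.1) :
    (I.ideal W).map (X.presheaf.germ W.1 x hx).hom =
      (I.ideal W').map (X.presheaf.germ W'.1 x hx').hom := by
  obtain ⟨_, ⟨W₁, hW₁, rfl⟩, hxW₁, hle⟩ :=
    X.isBasis_affineOpens.exists_subset_of_mem_open
      (show x ∈ W.1 ⊓ W'.1 from ⟨hx, hx'⟩) (W.1 ⊓ W'.1).2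
  let V : X.affineOpens := ⟨W₁, hW₁⟩
  have hV : V ≤ W := fun y hy => (hle hy).1
  have hV' : V ≤ W' := fun y hy => (hle hy).2
  have key : ∀ (U : X.affineOpens) (hU : V ≤ U) (hxU : x ∈ U.1),
      (I.ideal U).map (X.presheaf.germ U.1 x hxU).hom =
        (I.ideal V).map (X.presheaf.germ V.1 x hxW₁).hom := by
    intro U hU hxU
    have e : X.presheaf.map (homOfLE hU).op ≫ X.presheaf.germ V.1 x hxW₁ =
        X.presheaf.germ U.1 x hxU := X.presheaf.germ_res (homOfLE hU) x hxW₁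
    rw [← I.map_ideal hU, Ideal.map_map, ← CommRingCat.hom_comp, e]
  rw [key W hV hx, key W' hV' hx']

/-- the stalk of an effective Cartier ideal is generated by a nonzerodivisor -/
theorem stalk_ideal_principal (𝓓 : X.IdealSheafData) (hD : BlowUp.IsEffCartierIdeal 𝓓)
    (W : X.affineOpens) (x : X) (hx : x ∈ W.1) :
    ∃ g' : X.presheaf.stalk x, g' ∈ nonZeroDivisors (X.presheaf.stalk x) ∧
      (𝓓.ideal W).map (X.presheaf.germ W.1 x hx).hom = Ideal.span {g'} := by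
  obtain ⟨U, hxU, g, hg, hDg⟩ := hD x
  refine ⟨(X.presheaf.germ U.1 x hxU).hom g, EffCartier.germ_nzd U.1 U.2 g hg x hxU, ?_⟩
  rw [map_germ_eq 𝓓 W U x hx hxU, hDg, Ideal.map_span, Set.image_singleton]

/-- the maximal ideal of the stalk is the image of the prime of the point -/
theorem map_primeIdealOf_eq {W : X.Opens} (hW : IsAffineOpen W) (x : X) (hx : x ∈ W) :
    (hW.primeIdealOf ⟨x, hx⟩).asIdeal.map (X.presheaf.germ W x hx).hom =
      IsLocalRing.maximalIdeal (X.presheaf.stalk x) := by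
  letI := TopCat.Presheaf.algebra_section_stalk X.presheaf (⟨x, hx⟩ : W)
  haveI := hW.isLocalization_stalk ⟨x, hx⟩
  exact IsLocalization.AtPrime.map_eq_maximalIdeal (hW.primeIdealOf ⟨x, hx⟩).asIdeal
    (X.presheaf.stalk x)

/-- a prime ideal which is the ideal of an effective Cartier divisor on a chart has height at
most one -/
theorem height_le_one [IsLocallyNoetherian X] (𝓓 : X.IdealSheafData)
    (hD : BlowUp.IsEffCartierIdeal 𝓓) (W : X.affineOpens) (hp : (𝓓.ideal W).IsPrime) :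
    (𝓓.ideal W).height ≤ 1 := by
  let Q : PrimeSpectrum Γ(X, W.1) := ⟨𝓓.ideal W, hp⟩
  let x : X := W.2.fromSpec Q
  have hx : x ∈ W.1 := fromSpec_mem W.2 Q
  have hpx : W.2.primeIdealOf ⟨x, hx⟩ = Q := primeIdealOf_fromSpec W.2 Q
  have hm := map_primeIdealOf_eq W.2 x hx
  rw [hpx] at hm
  obtain ⟨g', -, hg'⟩ := stalk_ideal_principal 𝓓 hD W x hx
  have hm' : IsLocalRing.maximalIdeal (X.presheaf.stalk x) = Ideal.span {g'} := hm.symm.trans hg'
  have h1 : (IsLocalRing.maximalIdeal (X.presheaf.stalk x)).height ≤ 1 := by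
    have hmem : IsLocalRing.maximalIdeal (X.presheaf.stalk x) ∈
        (Ideal.span {g'}).minimalPrimes := by
      rw [← hm', Ideal.minimalPrimes_eq_subsingleton_self]
      rfl
    exact Ideal.height_le_one_of_isPrincipal_of_mem_minimalPrimes (Ideal.span {g'}) _ hmem
  have h2 := ringKrullDim_stalk_eq_height W.2 x hx
  rw [hpx, ← IsLocalRing.maximalIdeal_height_eq_ringKrullDim] at h2
  have h3 : (IsLocalRing.maximalIdeal (X.presheaf.stalk x)).height = (𝓓.ideal W).height :=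
    WithBot.coe_injective h2
  rw [← h3]
  exact h1

/-- under the hypotheses of the theorem, the ideal of `𝓩` on an affine open contains an element
outside all minimal primes -/
theorem exists_avoid [IsLocallyNoetherian X] (𝓩 : X.IdealSheafData) {I : Type u}
    (𝓓 : I → X.IdealSheafData) (hD : ∀ i, BlowUp.IsEffCartierIdeal (𝓓 i))
    (Z' : Set X) (hZ' : IsClosed Z')
    (hcodim : ∀ z ∈ Z', (∀ y ∈ Z', y ⤳ z → y = z) →
      (2 : WithBot ℕ∞) ≤ ringKrullDim (X.presheaf.stalk z))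
    (hcover : (𝓩.support : Set X) ⊆ Z' ∪ ⋃ i, ((𝓓 i).support : Set X)) (W : X.affineOpens) :
    ∃ t ∈ 𝓩.ideal W, ∀ q ∈ minimalPrimes Γ(X, W.1), t ∉ q := by
  classical
  haveI : IsNoetherianRing Γ(X, W.1) := IsLocallyNoetherian.component_noetherian W
  by_contra hcon
  have hall : ∀ t ∈ 𝓩.ideal W, ∃ q ∈ minimalPrimes Γ(X, W.1), t ∈ q := by
    intro t ht
    by_contra h
    apply hcon
    refine ⟨t, ht, fun q hq htq => h ⟨q, hq, htq⟩⟩
  have hfin := minimalPrimes.finite_of_isNoetherianRing Γ(X, W.1)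
  have hsub : ((𝓩.ideal W : Ideal Γ(X, W.1)) : Set Γ(X, W.1)) ⊆
      ⋃ q ∈ (↑hfin.toFinset : Set (Ideal Γ(X, W.1))), (id q : Ideal Γ(X, W.1)) := by
    intro t ht
    obtain ⟨q, hq, htq⟩ := hall t ht
    exact Set.mem_iUnion₂.2 ⟨q, Finset.mem_coe.2 (hfin.mem_toFinset.2 hq), htq⟩
  obtain ⟨q, hqF, hle⟩ := (Ideal.subset_union_prime (s := hfin.toFinset) (f := id) ⊤ ⊤
    (fun i hi _ _ => (hfin.mem_toFinset.1 hi).isPrime)).1 hsub
  have hq : q ∈ minimalPrimes Γ(X, W.1) := hfin.mem_toFinset.1 hqF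
  haveI hqp : q.IsPrime := hq.isPrime
  let Q : PrimeSpectrum Γ(X, W.1) := ⟨q, hqp⟩
  let η : X := W.2.fromSpec Q
  have hη : η ∈ W.1 := fromSpec_mem W.2 Q
  have hpη : W.2.primeIdealOf ⟨η, hη⟩ = Q := primeIdealOf_fromSpec W.2 Q
  have hdim : ringKrullDim (X.presheaf.stalk η) = ((0 : ℕ∞) : WithBot ℕ∞) := by
    rw [ringKrullDim_stalk_eq_height W.2 η hη, hpη]
    congr 1
    exact Ideal.height_eq_zero_iff.2 hq
  have hmemsupp : ∀ (𝓙 : X.IdealSheafData), 𝓙.ideal W ≤ q → η ∈ 𝓙.support := by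
    intro 𝓙 h𝓙
    rw [Scheme.IdealSheafData.mem_support_iff_of_mem (U := W) hη, Scheme.mem_zeroLocus_iff]
    intro f hf
    rw [← mem_primeIdealOf_iff W.2 η hη, hpη]
    exact h𝓙 hf
  have hηZ : η ∈ 𝓩.support := hmemsupp 𝓩 hle
  rcases hcover hηZ with h | h
  · have h2 := two_le_dim_of_mem Z' hZ' hcodim η h
    rw [hdim] at h2
    have h3 : (2 : ℕ∞) ≤ 0 := WithBot.coe_le_coe.1 h2
    simp at h3
  · obtain ⟨i, hi⟩ := Set.mem_iUnion.1 h
    have hi' : η ∈ (𝓓 i).support := hi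
    obtain ⟨g', hg'nzd, hg'⟩ := stalk_ideal_principal (𝓓 i) (hD i) W η hη
    have hDq : (𝓓 i).ideal W ≤ q := by
      intro f hf
      rw [Scheme.IdealSheafData.mem_support_iff_of_mem (U := W) hη,
        Scheme.mem_zeroLocus_iff] at hi'
      have h1 := hi' f hf
      rw [← mem_primeIdealOf_iff W.2 η hη, hpη] at h1
      exact h1
    have hg'm : g' ∈ IsLocalRing.maximalIdeal (X.presheaf.stalk η) := by
      rw [← map_primeIdealOf_eq W.2 η hη, hpη]
      have : g' ∈ Ideal.span {g'} := Ideal.mem_span_singleton_self g'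
      rw [← hg'] at this
      exact Ideal.map_mono hDq this
    have hh : (IsLocalRing.maximalIdeal (X.presheaf.stalk η)).height = 0 := by
      have h1 := hdim
      rw [← IsLocalRing.maximalIdeal_height_eq_ringKrullDim] at h1
      exact WithBot.coe_injective h1
    rw [Ideal.height_eq_zero_iff] at hh
    exact Set.disjoint_left.1 (Ideal.disjoint_nonZeroDivisors_of_mem_minimalPrimes hh) hg'm hg'nzd

end Groth.Agent.Lead.CodimTwo
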