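import Mathlib

set_option autoImplicit false
universe u

namespace Groth.Agent.Lead.DivProd

/-- Krull: a nonzerodivisor of a noetherian ring is not divisible by all powers of a nonunit -/
theorem exists_not_mem_span_pow {A : Type*} [CommRing A] [IsNoetherianRing A] (f g : A)
    (hf : f ∈ nonZeroDivisors A) (hg : ¬ IsUnit g) : ∃ n : ℕ, f ∉ Ideal.span {g ^ n} := by
  by_contra h
  have h' : ∀ n : ℕ, f ∈ Ideal.span {g ^ n} := by
    intro n
    by_contra hn
    exact h ⟨n, hn⟩
  have hmem : f ∈ (⨅ i : ℕ, (Ideal.span {g}) ^ i • ⊤ : Submodule A A) := by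
    rw [Submodule.mem_iInf]
    intro i
    rw [Ideal.span_singleton_pow, smul_eq_mul, Ideal.mul_top]
    exact h' i
  obtain ⟨r, hr⟩ := (Ideal.mem_iInf_smul_pow_eq_bot_iff (Ideal.span {g}) f).1 hmem
  have h1 : ((r : A) - 1) * f = 0 := by
    rw [sub_mul, one_mul, sub_eq_zero]
    exact hr
  have h2 : (r : A) - 1 = 0 := (mem_nonZeroDivisors_iff_right.1 hf) _ h1
  have h3 : (r : A) = 1 := sub_eq_zero.1 h2
  have h4 : (1 : A) ∈ Ideal.span {g} := h3 ▸ r.2
  rw [Ideal.mem_span_singleton] at h4
  exact hg (isUnit_of_dvd_one h4)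

/-- a prime principal ideal generated by a nonzerodivisor which lies in a minimal prime over
a principal ideal equals it -/
theorem eq_of_le_minimalPrime {A : Type*} [CommRing A] [IsNoetherianRing A] (g f' : A)
    (hg : g ∈ nonZeroDivisors A) (hP : (Ideal.span {g}).IsPrime) (q : Ideal A)
    (hq : q ∈ (Ideal.span {f'}).minimalPrimes) (hgq : g ∈ q) : f' ∈ Ideal.span {g} := by
  haveI := hq.isPrime
  have hle : Ideal.span {g} ≤ q := (Ideal.span_singleton_le_iff_mem q).2 hgq
  have hq1 : q.height ≤ 1 := Ideal.height_le_one_of_isPrincipal_of_mem_minimalPrimes _ q hq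
  have hf'q : f' ∈ q := hq.1.2 (Ideal.mem_span_singleton_self f')
  by_cases heq : Ideal.span {g} = q
  · rw [heq]; exact hf'q
  · exfalso
    have hlt : Ideal.span {g} < q := lt_of_le_of_ne hle heq
    have h1 := Ideal.height_strict_mono_of_isPrime_of_isPrime hlt
    have h0 : (Ideal.span {g}).height = 0 := by
      have : (Ideal.span {g}).height < 1 := lt_of_lt_of_le h1 hq1
      exact ENat.lt_one_iff_eq_zero.1 this
    rw [Ideal.height_eq_zero_iff] at h0
    have hd := Ideal.disjoint_nonZeroDivisors_of_mem_minimalPrimes h0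
    exact Set.disjoint_left.1 hd (Ideal.mem_span_singleton_self g) hg

end Groth.Agent.Lead.DivProd
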