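import Mathlib
import Groth.Prelude.Def_BlowUp2
import Groth.Agent.Lib.Helper4.EffCartier
import Groth.Agent.Lib.Lead.DivProd1

set_option autoImplicit false
set_option backward.isDefEq.respectTransparency.types false
set_option synthInstance.maxHeartbeats 400000
set_option linter.style.haveILetI false
set_option linter.unusedSectionVars false
universe u
open CategoryTheory CategoryTheory.Limits AlgebraicGeometry TopologicalSpace Opposite

namespace Groth.Agent.Lead.DivProd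

open Groth.Agent.Helper4

variable {X : Scheme.{u}}

/-- the ideal on an affine open, as a monoid hom -/
def idealHom (W : X.affineOpens) : X.IdealSheafData →* Ideal Γ(X, W.1) where
  toFun I := I.ideal W
  map_one' := by
    change (⊤ : Ideal Γ(X, W.1)) = 1
    exact Ideal.one_eq_top.symm
  map_mul' _ _ := rfl

theorem ideal_prod_pow {r : ℕ} (Ds : Fin r → X.IdealSheafData) (a : Fin r → ℕ)
    (W : X.affineOpens) :
    (∏ i, Ds i ^ a i).ideal W = ∏ i, ((Ds i).ideal W) ^ a i := by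
  have h := map_prod (idealHom W) (fun i => Ds i ^ a i) Finset.univ
  have h2 : ∀ i, idealHom W (Ds i ^ a i) = ((Ds i).ideal W) ^ a i := by
    intro i
    change (Ds i ^ a i).ideal W = _
    rw [Scheme.IdealSheafData.ideal_pow]
    rfl
  simp only [h2] at h
  exact h

variable (D : X.IdealSheafData) {r : ℕ} (Ds : Fin r → X.IdealSheafData)

/-- a common principal chart -/
structure Chart where
  W : X.affineOpens
  f : Γ(X, W.1)
  hf : f ∈ nonZeroDivisors Γ(X, W.1)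
  hD : D.ideal W = Ideal.span {f}
  g : Fin r → Γ(X, W.1)
  hg : ∀ i, g i ∈ nonZeroDivisors Γ(X, W.1)
  hDs : ∀ i, (Ds i).ideal W = Ideal.span {g i}

variable {D Ds}

theorem exists_chart (hD : BlowUp.IsEffCartierIdeal D)
    (hDs : ∀ i, BlowUp.IsEffCartierIdeal (Ds i)) (x : X) :
    ∃ c : Chart D Ds, x ∈ c.W.1 := by
  obtain ⟨U₀, hxU₀, f₀, hf₀, hD₀⟩ := hD x
  choose U hxU g₀ hg₀ hDs₀ using fun i => hDs i x
  have hopen : IsOpen ((U₀.1 : Set X) ∩ ⋂ i, ((U i).1 : Set X)) :=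
    U₀.1.2.inter (isOpen_iInter_of_finite fun i => (U i).1.2)
  let N : X.Opens := ⟨_, hopen⟩
  have hxN : x ∈ N := ⟨hxU₀, Set.mem_iInter.2 hxU⟩
  obtain ⟨_, ⟨W, hW, rfl⟩, hxW, hWN⟩ :=
    X.isBasis_affineOpens.exists_subset_of_mem_open hxN N.2
  have hW₀ : W ≤ U₀.1 := fun y hy => (hWN hy).1
  have hWi : ∀ i, W ≤ (U i).1 := fun i y hy => Set.mem_iInter.1 (hWN hy).2 i
  obtain ⟨hf', hD'⟩ := EffCartier.restrict D U₀ f₀ hf₀ hD₀ ⟨W, hW⟩ hW₀
  refine ⟨⟨⟨W, hW⟩, _, hf', hD', fun i => (X.presheaf.map (homOfLE (hWi i)).op).hom (g₀ i),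
    fun i => (EffCartier.restrict (Ds i) (U i) (g₀ i) (hg₀ i) (hDs₀ i) ⟨W, hW⟩ (hWi i)).1,
    fun i => (EffCartier.restrict (Ds i) (U i) (g₀ i) (hg₀ i) (hDs₀ i) ⟨W, hW⟩ (hWi i)).2⟩, hxW⟩

theorem iSup_chart (hD : BlowUp.IsEffCartierIdeal D)
    (hDs : ∀ i, BlowUp.IsEffCartierIdeal (Ds i)) :
    ⨆ c : Chart D Ds, (c.W.1 : X.Opens) = ⊤ := by
  rw [eq_top_iff]
  intro x _
  obtain ⟨c, hc⟩ := exists_chart hD hDs x
  exact Opens.mem_iSup.2 ⟨c, hc⟩

namespace Chart

variable (c : Chart D Ds)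

/-- the local equation of a product of powers -/
noncomputable def m (a : Fin r → ℕ) : Γ(X, c.W.1) := ∏ i, c.g i ^ a i

theorem m_nzd (a : Fin r → ℕ) : c.m a ∈ nonZeroDivisors Γ(X, c.W.1) :=
  prod_mem fun i _ => pow_mem (c.hg i) _

theorem ideal_prod (a : Fin r → ℕ) :
    (∏ i, Ds i ^ a i).ideal c.W = Ideal.span {c.m a} := by
  rw [ideal_prod_pow, m, ← Ideal.prod_span_singleton]
  refine Finset.prod_congr rfl fun i _ => ?_
  rw [c.hDs i, Ideal.span_singleton_pow]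

theorem mem_support_iff (i : Fin r) (x : X) (hx : x ∈ c.W.1) :
    x ∈ (Ds i).support ↔ x ∉ X.basicOpen (c.g i) := by
  rw [EffCartier.mem_basicOpen_iff_not_mem_support c.W (c.g i) (c.hDs i) x hx, not_not]

theorem mem_support_iff' (x : X) (hx : x ∈ c.W.1) :
    x ∈ D.support ↔ x ∉ X.basicOpen c.f := by
  rw [EffCartier.mem_basicOpen_iff_not_mem_support c.W c.f c.hD x hx, not_not]

theorem ideal_eq_top_of_disjoint (j : Fin r) (h : ∀ x ∈ c.W.1, x ∉ (Ds j).support) :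
    (Ds j).ideal c.W = ⊤ := by
  rw [c.hDs j, Ideal.span_singleton_eq_top]
  apply RingedSpace.isUnit_of_isUnit_germ
  intro x hx
  have hx' : x ∈ X.basicOpen (c.g j) := by
    by_contra hcon
    exact h x hx ((c.mem_support_iff j x hx).2 hcon)
  exact (X.toRingedSpace.mem_basicOpen (c.g j) x hx).1 hx'

theorem isPrime (j : Fin r) [IsIntegral (Ds j).subscheme] (y : X) (hy : y ∈ c.W.1)
    (hys : y ∈ (Ds j).support) : (Ideal.span {c.g j}).IsPrime := by
  rw [← c.hDs j, ← (Ds j).ker_subschemeι_app c.W]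
  have hr : y ∈ Set.range (Ds j).subschemeι := by
    rw [(Ds j).range_subschemeι]; exact hys
  obtain ⟨z, rfl⟩ := hr
  haveI : IsDomain Γ((Ds j).subscheme, (Ds j).subschemeι ⁻¹ᵁ c.W.1) :=
    @IsIntegral.component_integral _ _ _ ⟨⟨z, hy⟩⟩
  exact RingHom.ker_isPrime _

end Chart

end Groth.Agent.Lead.DivProd
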