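import Mathlib
import Groth.Agent.Lib.Lead.DivProd2

set_option autoImplicit false
set_option backward.isDefEq.respectTransparency.types false
set_option synthInstance.maxHeartbeats 400000
set_option linter.style.haveILetI false
set_option linter.unusedSectionVars false
universe u
open CategoryTheory CategoryTheory.Limits AlgebraicGeometry TopologicalSpace Opposite

namespace Groth.Agent.Lead.DivProd

open Groth.Agent.Helper4

variable {X : Scheme.{u}} {D : X.IdealSheafData} {r : ℕ} {Ds : Fin r → X.IdealSheafData}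

/-- propagation between charts through a common point of `Ds j` -/
theorem propagate (M : X.IdealSheafData) (j : Fin r) [IsIntegral (Ds j).subscheme]
    (c c' : Chart D Ds) (hDM : D ≤ M) (m' : Γ(X, c'.W.1))
    (hm' : m' ∈ nonZeroDivisors Γ(X, c'.W.1)) (hM' : M.ideal c'.W = Ideal.span {m'})
    (z : X) (hz : z ∈ c.W.1) (hz' : z ∈ c'.W.1) (hzs : z ∈ (Ds j).support)
    (h : D.ideal c.W ≤ (M * Ds j).ideal c.W) :
    D.ideal c'.W ≤ (M * Ds j).ideal c'.W := by
  obtain ⟨_, ⟨W₁, hW₁, rfl⟩, hzW₁, hle⟩ :=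
    X.isBasis_affineOpens.exists_subset_of_mem_open
      (show z ∈ c.W.1 ⊓ c'.W.1 from ⟨hz, hz'⟩) (c.W.1 ⊓ c'.W.1).2
  let V : X.affineOpens := ⟨W₁, hW₁⟩
  have hVc : V ≤ c.W := fun y hy => (hle hy).1
  have hVc' : V ≤ c'.W := fun y hy => (hle hy).2
  have h₁ : D.ideal V ≤ (M * Ds j).ideal V := by
    rw [← D.map_ideal hVc, ← (M * Ds j).map_ideal hVc]
    exact Ideal.map_mono h
  have hfM : c'.f ∈ M.ideal c'.W :=
    hDM c'.W (by rw [c'.hD]; exact Ideal.mem_span_singleton_self _)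
  rw [hM'] at hfM
  obtain ⟨f₁, hf₁⟩ := Ideal.mem_span_singleton'.1 hfM
  let ρ : Γ(X, c'.W.1) →+* Γ(X, V.1) := (X.presheaf.map (homOfLE hVc').op).hom
  have hρf : ρ c'.f ∈ (M * Ds j).ideal V := by
    apply h₁
    exact D.ideal_le_comap_ideal hVc' (by rw [c'.hD]; exact Ideal.mem_span_singleton_self _)
  have hMV : (M * Ds j).ideal V = Ideal.span {ρ m' * ρ (c'.g j)} := by
    rw [Scheme.IdealSheafData.ideal_mul, Pi.mul_apply, ← M.map_ideal hVc',
      ← (Ds j).map_ideal hVc', hM', c'.hDs j, Ideal.map_span, Ideal.map_span,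
      Set.image_singleton, Set.image_singleton, Ideal.span_singleton_mul_span_singleton]
  rw [hMV] at hρf
  obtain ⟨t, ht⟩ := Ideal.mem_span_singleton'.1 hρf
  have hρm : ρ m' ∈ nonZeroDivisors Γ(X, V.1) := EffCartier.nzd_res c'.W m' hm' V.1 hVc'
  have e1 : ρ f₁ = t * ρ (c'.g j) := by
    have h2 : (ρ f₁ - t * ρ (c'.g j)) * ρ m' = 0 := by
      rw [sub_mul, ← map_mul, hf₁, ← ht]
      ring
    exact sub_eq_zero.1 ((mem_nonZeroDivisors_iff_right.1 hρm) _ h2)
  have e2 : ρ f₁ ∈ (Ds j).ideal V := by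
    rw [← (Ds j).map_ideal hVc', c'.hDs j, Ideal.map_span, Set.image_singleton,
      Ideal.mem_span_singleton']
    exact ⟨t, e1.symm⟩
  rw [← (Ds j).ker_subschemeι_app V, RingHom.mem_ker] at e2
  have e3 : ((Ds j).subschemeι.app c'.W.1).hom f₁ = 0 := by
    have hr : z ∈ Set.range (Ds j).subschemeι := by
      rw [(Ds j).range_subschemeι]; exact hzs
    obtain ⟨w, rfl⟩ := hr
    have hinj := @AlgebraicGeometry.map_injective_of_isIntegral (Ds j).subscheme _
      ((Ds j).subschemeι ⁻¹ᵁ V.1) ((Ds j).subschemeι ⁻¹ᵁ c'.W.1)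
      (homOfLE (fun _ hy => hVc' hy)) ⟨⟨w, hzW₁⟩⟩
    apply hinj
    rw [map_zero]
    have nat := (Ds j).subschemeι.naturality (homOfLE hVc').op
    have h3 := ConcreteCategory.congr_hom nat f₁
    exact h3.symm.trans e2
  have e4 : f₁ ∈ (Ds j).ideal c'.W := by
    rw [← (Ds j).ker_subschemeι_app c'.W, RingHom.mem_ker]; exact e3
  rw [c'.hD, Ideal.span_singleton_le_iff_mem, Scheme.IdealSheafData.ideal_mul, Pi.mul_apply,
    ← hf₁, mul_comm f₁ m']
  exact Ideal.mul_mem_mul (by rw [hM']; exact Ideal.mem_span_singleton_self _) e4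

/-- a product is below each factor -/
theorem prod_le_factor (a : Fin r → ℕ) (i : Fin r) : ∏ k, Ds k ^ a k ≤ Ds i ^ a i := by
  rw [← Finset.mul_prod_erase Finset.univ (fun k => Ds k ^ a k) (Finset.mem_univ i)]
  intro W
  rw [Scheme.IdealSheafData.ideal_mul, Pi.mul_apply]
  exact Ideal.mul_le_left (I := (Ds i ^ a i).ideal W)

theorem pow_anti (I : X.IdealSheafData) {n N : ℕ} (h : N ≤ n) : I ^ n ≤ I ^ N := by
  intro W
  rw [Scheme.IdealSheafData.ideal_pow, Scheme.IdealSheafData.ideal_pow, Pi.pow_apply,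
    Pi.pow_apply]
  exact Ideal.pow_le_pow_right h

/-- the exponents are bounded (Krull's intersection theorem) -/
theorem exists_bound [IsNoetherian X] (hD : BlowUp.IsEffCartierIdeal D)
    (hDs : ∀ i, BlowUp.IsEffCartierIdeal (Ds i)) (i : Fin r) [IsIntegral (Ds i).subscheme] :
    ∃ N : ℕ, ¬ D ≤ Ds i ^ N := by
  obtain ⟨w⟩ : Nonempty (Ds i).subscheme := inferInstance
  have hy : (Ds i).subschemeι w ∈ (Ds i).support := by
    have : (Ds i).subschemeι w ∈ Set.range (Ds i).subschemeι := ⟨w, rfl⟩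
    rw [(Ds i).range_subschemeι] at this
    exact this
  obtain ⟨c, hc⟩ := exists_chart hD hDs ((Ds i).subschemeι w)
  have hnu : ¬ IsUnit (c.g i) := by
    intro hu
    have h1 := (c.mem_support_iff i _ hc).1 hy
    apply h1
    exact (X.mem_basicOpen (c.g i) _ hc).2 (hu.map _)
  haveI : IsNoetherianRing Γ(X, c.W.1) := IsLocallyNoetherian.component_noetherian c.W
  obtain ⟨n, hn⟩ := exists_not_mem_span_pow c.f (c.g i) c.hf hnu
  refine ⟨n, fun hle => hn ?_⟩
  have h2 := hle c.W (by rw [c.hD]; exact Ideal.mem_span_singleton_self _)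
  rw [Scheme.IdealSheafData.ideal_pow, Pi.pow_apply, c.hDs i, Ideal.span_singleton_pow] at h2
  exact h2

/-- the product with one more factor -/
theorem prod_succ (a : Fin r → ℕ) (j : Fin r) :
    ∏ i, Ds i ^ ((a + Pi.single j 1 : Fin r → ℕ) i) = (∏ i, Ds i ^ a i) * Ds j := by
  have h1 : ∀ i, Ds i ^ ((a + Pi.single j 1 : Fin r → ℕ) i) =
      Ds i ^ a i * (if i = j then Ds j else 1) := by
    intro i
    rw [Pi.add_apply, pow_add, Pi.single_apply]
    split_ifs with h
    · rw [pow_one, h]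
    · rw [pow_zero]
  simp only [h1]
  rw [Finset.prod_mul_distrib, Finset.prod_ite_eq' Finset.univ j (fun _ => Ds j)]
  simp

/-- the step: if the quotient is not a unit on some chart, one more factor divides -/
theorem exists_factor [IsNoetherian X] (hD : BlowUp.IsEffCartierIdeal D)
    (hDs : ∀ i, BlowUp.IsEffCartierIdeal (Ds i)) (hint : ∀ i, IsIntegral (Ds i).subscheme)
    (hsub : (D.support : Set X) ⊆ ⋃ i, ((Ds i).support : Set X))
    (a : Fin r → ℕ) (hle : D ≤ ∏ i, Ds i ^ a i) (c : Chart D Ds) (f' : Γ(X, c.W.1))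
    (hf' : f' * c.m a = c.f) (hnu : ¬ IsUnit f') :
    ∃ j : Fin r, D ≤ (∏ i, Ds i ^ a i) * Ds j := by
  haveI : IsNoetherianRing Γ(X, c.W.1) := IsLocallyNoetherian.component_noetherian c.W
  have hne : Ideal.span {f'} ≠ ⊤ := by
    rw [Ne, Ideal.span_singleton_eq_top]; exact hnu
  obtain ⟨⟨q, hq⟩⟩ := Ideal.nonempty_minimalPrimes hne
  haveI hqp : q.IsPrime := hq.isPrime
  have hf'q : f' ∈ q := hq.1.2 (Ideal.mem_span_singleton_self f')
  have hfq : c.f ∈ q := by rw [← hf']; exact Ideal.mul_mem_right _ _ hf'q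
  let P : PrimeSpectrum Γ(X, c.W.1) := ⟨q, hqp⟩
  let y : X := c.W.2.fromSpec P
  have hy : y ∈ c.W.1 := by
    have : y ∈ Set.range c.W.2.fromSpec := ⟨P, rfl⟩
    rw [c.W.2.range_fromSpec] at this
    exact this
  have hbo : ∀ t : Γ(X, c.W.1), y ∈ X.basicOpen t ↔ t ∉ q := by
    intro t
    have h1 : y ∈ X.basicOpen t ↔ P ∈ c.W.2.fromSpec ⁻¹ᵁ X.basicOpen t := Iff.rfl
    rw [h1, c.W.2.fromSpec_preimage_basicOpen]
    exact Iff.rfl
  have hyD : y ∈ D.support := by
    rw [c.mem_support_iff' y hy, hbo]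
    exact fun h => h hfq
  obtain ⟨j, hyj⟩ := Set.mem_iUnion.1 (hsub hyD)
  have hyj' : y ∈ (Ds j).support := hyj
  haveI := hint j
  have hgq : c.g j ∈ q := by
    have h1 := (c.mem_support_iff j y hy).1 hyj'
    rw [hbo] at h1
    exact not_not.1 h1
  have hprime := c.isPrime j y hy hyj'
  have hmem := eq_of_le_minimalPrime (c.g j) f' (c.hg j) hprime q hq hgq
  obtain ⟨f'', hf''⟩ := Ideal.mem_span_singleton'.1 hmem
  refine ⟨j, ?_⟩
  -- the inequality on the chart `c`
  have hc : D.ideal c.W ≤ ((∏ i, Ds i ^ a i) * Ds j).ideal c.W := by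
    rw [c.hD, Ideal.span_singleton_le_iff_mem, Scheme.IdealSheafData.ideal_mul, Pi.mul_apply,
      c.ideal_prod a, c.hDs j, Ideal.span_singleton_mul_span_singleton,
      Ideal.mem_span_singleton']
    exact ⟨f'', by rw [← hf', ← hf'']; ring⟩
  -- irreducibility of the support
  have hirr : IsIrreducible ((Ds j).support : Set X) := by
    have h1 : IsIrreducible (Set.range (Ds j).subschemeι) := by
      rw [← Set.image_univ]
      exact (IrreducibleSpace.isIrreducible_univ _).image _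
        (Ds j).subschemeι.continuous.continuousOn
    rwa [(Ds j).range_subschemeι] at h1
  refine Scheme.IdealSheafData.le_of_iSup_eq_top (fun c' : Chart D Ds => c'.W)
    (iSup_chart hD hDs) fun c' => ?_
  by_cases hmeet : ∃ y', y' ∈ c'.W.1 ∧ y' ∈ (Ds j).support
  · obtain ⟨y', hy', hy's⟩ := hmeet
    obtain ⟨z, hzs, hzc, hzc'⟩ := hirr.2 c.W.1 c'.W.1 c.W.1.2 c'.W.1.2 ⟨y, hyj', hy⟩
      ⟨y', hy's, hy'⟩
    exact propagate (∏ i, Ds i ^ a i) j c c' hle (c'.m a) (c'.m_nzd a) (c'.ideal_prod a) z hzc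
      hzc' hzs hc
  · have htop := c'.ideal_eq_top_of_disjoint j (fun x hx hxs => hmeet ⟨x, hx, hxs⟩)
    rw [Scheme.IdealSheafData.ideal_mul, Pi.mul_apply, htop, Ideal.mul_top]
    exact hle c'.W

/-- **an effective Cartier divisor supported in a union of integral effective Cartier divisors
is a product of powers of them** -/
theorem main [IsNoetherian X] (hD : BlowUp.IsEffCartierIdeal D)
    (hDs : ∀ i, BlowUp.IsEffCartierIdeal (Ds i)) (hint : ∀ i, IsIntegral (Ds i).subscheme)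
    (hsub : (D.support : Set X) ⊆ ⋃ i, ((Ds i).support : Set X)) :
    ∃ a : Fin r → ℕ, D = ∏ i, Ds i ^ a i := by
  have hb : ∀ i, ∃ N : ℕ, ¬ D ≤ Ds i ^ N := fun i => by
    haveI := hint i
    exact exists_bound hD hDs i
  choose N hN using hb
  let S : Set (Fin r → ℕ) := {a | D ≤ ∏ i, Ds i ^ a i}
  have hSsub : S ⊆ Set.pi Set.univ (fun i => Set.Iio (N i)) := by
    intro a ha i _
    rw [Set.mem_Iio]
    by_contra hcon
    rw [not_lt] at hcon
    exact hN i ((ha.trans (prod_le_factor a i)).trans (pow_anti (Ds i) hcon))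
  have hSfin : S.Finite := (Set.Finite.pi fun i => Set.finite_Iio (N i)).subset hSsub
  have h0 : (0 : Fin r → ℕ) ∈ S := by
    change D ≤ ∏ i, Ds i ^ (0 : ℕ)
    rw [show ∏ i, Ds i ^ (0 : ℕ) = 1 from by simp only [pow_zero, Finset.prod_const_one]]
    change D ≤ ⊤
    exact le_top
  obtain ⟨a, haS, hmax⟩ := Finset.exists_max_image hSfin.toFinset (fun a => ∑ i, a i)
    ⟨0, hSfin.mem_toFinset.2 h0⟩
  have ha : D ≤ ∏ i, Ds i ^ a i := hSfin.mem_toFinset.1 haS
  refine ⟨a, ?_⟩
  refine Scheme.IdealSheafData.ext_of_iSup_eq_top (fun c : Chart D Ds => c.W)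
    (iSup_chart hD hDs) fun c => ?_
  rw [c.hD, c.ideal_prod a]
  have hfm : c.f ∈ Ideal.span {c.m a} := by
    rw [← c.ideal_prod a]
    exact ha c.W (by rw [c.hD]; exact Ideal.mem_span_singleton_self _)
  obtain ⟨f', hf'⟩ := Ideal.mem_span_singleton'.1 hfm
  by_cases hu : IsUnit f'
  · rw [← hf']
    exact Ideal.span_singleton_mul_left_unit hu _
  · exfalso
    obtain ⟨j, hj⟩ := exists_factor hD hDs hint hsub a ha c f' hf' hu
    rw [← prod_succ] at hj
    have hmem : (a + Pi.single j 1 : Fin r → ℕ) ∈ hSfin.toFinset := hSfin.mem_toFinset.2 hj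
    have h1 := hmax _ hmem
    have h2 : ∑ i, (a + Pi.single j 1 : Fin r → ℕ) i = ∑ i, a i + 1 := by
      simp [Finset.sum_add_distrib]
    omega

end Groth.Agent.Lead.DivProd
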