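import Mathlib
import Groth.Agent.Lib.Lead.CodimTwo2
import Groth.Agent.Lib.Lead.DivProd3

set_option autoImplicit false
set_option backward.isDefEq.respectTransparency.types false
set_option synthInstance.maxHeartbeats 400000
set_option linter.style.haveILetI false
set_option linter.unusedSectionVars false
universe u
open CategoryTheory CategoryTheory.Limits AlgebraicGeometry TopologicalSpace Opposite

namespace Groth.Agent.Lead.CodimTwo

open Groth.Agent.Helper4 Groth.Agent.Lead.DivProd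

variable {X : Scheme.{u}}

/-- a point of an affine open in the support: the ideal lies in the prime of the point -/
theorem mem_support_iff_le {W : X.affineOpens} (𝓙 : X.IdealSheafData) (x : X) (hx : x ∈ W.1) :
    x ∈ 𝓙.support ↔ 𝓙.ideal W ≤ (W.2.primeIdealOf ⟨x, hx⟩).asIdeal := by
  rw [Scheme.IdealSheafData.mem_support_iff_of_mem (U := W) hx, Scheme.mem_zeroLocus_iff]
  constructor
  · intro h f hf
    rw [mem_primeIdealOf_iff W.2 x hx]
    exact h f hf
  · intro h f hf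
    rw [← mem_primeIdealOf_iff W.2 x hx]
    exact h hf

/-- the ideal of an integral closed subscheme on an affine open is prime or the unit ideal -/
theorem prime_or_top (𝓓 : X.IdealSheafData) [IsIntegral 𝓓.subscheme] (W : X.affineOpens) :
    𝓓.ideal W = ⊤ ∨ (𝓓.ideal W).IsPrime := by
  by_cases htop : 𝓓.ideal W = ⊤
  · exact Or.inl htop
  · right
    obtain ⟨𝔪, h𝔪, hle⟩ := Ideal.exists_le_maximal _ htop
    let Q : PrimeSpectrum Γ(X, W.1) := ⟨𝔪, h𝔪.isPrime⟩
    let x : X := W.2.fromSpec Q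
    have hx : x ∈ W.1 := fromSpec_mem W.2 Q
    have hpx : W.2.primeIdealOf ⟨x, hx⟩ = Q := primeIdealOf_fromSpec W.2 Q
    have hxs : x ∈ 𝓓.support := by
      rw [mem_support_iff_le 𝓓 x hx, hpx]
      exact hle
    have hr : x ∈ Set.range 𝓓.subschemeι := by
      rw [𝓓.range_subschemeι]; exact hxs
    obtain ⟨w, hw⟩ := hr
    rw [← 𝓓.ker_subschemeι_app W]
    haveI : IsDomain Γ(𝓓.subscheme, 𝓓.subschemeι ⁻¹ᵁ W.1) :=
      @IsIntegral.component_integral _ _ _ ⟨⟨w, by change 𝓓.subschemeι w ∈ W.1; rw [hw]; exact hx⟩⟩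
    exact RingHom.ker_isPrime _

/-- the ideal on a chart meeting the support is not the unit ideal -/
theorem ideal_ne_top_of_mem (𝓙 : X.IdealSheafData) (W : X.affineOpens) (x : X) (hx : x ∈ W.1)
    (hxs : x ∈ 𝓙.support) : 𝓙.ideal W ≠ ⊤ := by
  intro htop
  rw [mem_support_iff_le 𝓙 x hx, htop] at hxs
  exact (W.2.primeIdealOf ⟨x, hx⟩).isPrime.ne_top (top_le_iff.1 hxs)

/-- powers and finitely supported products of effective Cartier ideals are effective Cartier -/
theorem isEffCartier_pow {𝓓 : X.IdealSheafData} (hD : BlowUp.IsEffCartierIdeal 𝓓) (n : ℕ) :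
    BlowUp.IsEffCartierIdeal (𝓓 ^ n) := by
  induction n with
  | zero => rw [pow_zero]; exact EffCartier.top
  | succ n ih => rw [pow_succ]; exact EffCartier.mul ih hD

theorem isEffCartier_prod {I : Type u} (𝓓 : I → X.IdealSheafData)
    (hD : ∀ i, BlowUp.IsEffCartierIdeal (𝓓 i)) (a : I →₀ ℕ) :
    BlowUp.IsEffCartierIdeal (a.prod fun i n => 𝓓 i ^ n) := by
  unfold Finsupp.prod
  apply Finset.prod_induction _ (fun J : X.IdealSheafData => BlowUp.IsEffCartierIdeal J)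
  · intro J J' hJ hJ'
    exact EffCartier.mul hJ hJ'
  · exact EffCartier.top
  · intro i _
    exact isEffCartier_pow (hD i) _

theorem ideal_finsupp_prod {I : Type u} (𝓓 : I → X.IdealSheafData) (a : I →₀ ℕ)
    (W : X.affineOpens) :
    (a.prod fun i n => 𝓓 i ^ n).ideal W = ∏ i ∈ a.support, ((𝓓 i).ideal W) ^ a i := by
  unfold Finsupp.prod
  have h := map_prod (idealHom W) (fun i => 𝓓 i ^ a i) a.support
  have h2 : ∀ i, idealHom W (𝓓 i ^ a i) = ((𝓓 i).ideal W) ^ a i := by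
    intro i
    change (𝓓 i ^ a i).ideal W = _
    rw [Scheme.IdealSheafData.ideal_pow]
    rfl
  simp only [h2] at h
  exact h

/-- propagation between affine opens through a common point of an integral divisor -/
theorem propagate' (𝓩 M 𝓓 : X.IdealSheafData) [IsIntegral 𝓓.subscheme] (W W' : X.affineOpens)
    (h𝓩M : 𝓩 ≤ M) (m' g' : Γ(X, W'.1)) (hm' : m' ∈ nonZeroDivisors Γ(X, W'.1))
    (hM' : M.ideal W' = Ideal.span {m'}) (hD' : 𝓓.ideal W' = Ideal.span {g'})
    (z : X) (hz : z ∈ W.1) (hz' : z ∈ W'.1) (hzs : z ∈ 𝓓.support)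
    (h : 𝓩.ideal W ≤ (M * 𝓓).ideal W) :
    𝓩.ideal W' ≤ (M * 𝓓).ideal W' := by
  obtain ⟨_, ⟨W₁, hW₁, rfl⟩, hzW₁, hle⟩ :=
    X.isBasis_affineOpens.exists_subset_of_mem_open
      (show z ∈ W.1 ⊓ W'.1 from ⟨hz, hz'⟩) (W.1 ⊓ W'.1).2
  let V : X.affineOpens := ⟨W₁, hW₁⟩
  have hVc : V ≤ W := fun y hy => (hle hy).1
  have hVc' : V ≤ W' := fun y hy => (hle hy).2
  have h₁ : 𝓩.ideal V ≤ (M * 𝓓).ideal V := by
    rw [← 𝓩.map_ideal hVc, ← (M * 𝓓).map_ideal hVc]
    exact Ideal.map_mono h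
  intro f hf
  have hfM : f ∈ M.ideal W' := h𝓩M W' hf
  rw [hM'] at hfM
  obtain ⟨f₁, hf₁⟩ := Ideal.mem_span_singleton'.1 hfM
  let ρ : Γ(X, W'.1) →+* Γ(X, V.1) := (X.presheaf.map (homOfLE hVc').op).hom
  have hρf : ρ f ∈ (M * 𝓓).ideal V := by
    apply h₁
    exact 𝓩.ideal_le_comap_ideal hVc' hf
  have hMV : (M * 𝓓).ideal V = Ideal.span {ρ m' * ρ g'} := by
    rw [Scheme.IdealSheafData.ideal_mul, Pi.mul_apply, ← M.map_ideal hVc',
      ← 𝓓.map_ideal hVc', hM', hD', Ideal.map_span, Ideal.map_span,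
      Set.image_singleton, Set.image_singleton, Ideal.span_singleton_mul_span_singleton]
  rw [hMV] at hρf
  obtain ⟨t, ht⟩ := Ideal.mem_span_singleton'.1 hρf
  have hρm : ρ m' ∈ nonZeroDivisors Γ(X, V.1) := EffCartier.nzd_res W' m' hm' V.1 hVc'
  have e1 : ρ f₁ = t * ρ g' := by
    have h2 : (ρ f₁ - t * ρ g') * ρ m' = 0 := by
      rw [sub_mul, ← map_mul, hf₁, ← ht]
      ring
    exact sub_eq_zero.1 ((mem_nonZeroDivisors_iff_right.1 hρm) _ h2)
  have e2 : ρ f₁ ∈ 𝓓.ideal V := by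
    rw [← 𝓓.map_ideal hVc', hD', Ideal.map_span, Set.image_singleton,
      Ideal.mem_span_singleton']
    exact ⟨t, e1.symm⟩
  rw [← 𝓓.ker_subschemeι_app V, RingHom.mem_ker] at e2
  have e3 : (𝓓.subschemeι.app W'.1).hom f₁ = 0 := by
    have hr : z ∈ Set.range 𝓓.subschemeι := by
      rw [𝓓.range_subschemeι]; exact hzs
    obtain ⟨w, rfl⟩ := hr
    have hinj := @AlgebraicGeometry.map_injective_of_isIntegral 𝓓.subscheme _
      (𝓓.subschemeι ⁻¹ᵁ V.1) (𝓓.subschemeι ⁻¹ᵁ W'.1)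
      (homOfLE (fun _ hy => hVc' hy)) ⟨⟨w, hzW₁⟩⟩
    apply hinj
    rw [map_zero]
    have nat := 𝓓.subschemeι.naturality (homOfLE hVc').op
    have h3 := ConcreteCategory.congr_hom nat f₁
    exact h3.symm.trans e2
  have e4 : f₁ ∈ 𝓓.ideal W' := by
    rw [← 𝓓.ker_subschemeι_app W', RingHom.mem_ker]; exact e3
  rw [Scheme.IdealSheafData.ideal_mul, Pi.mul_apply, ← hf₁, mul_comm f₁ m']
  exact Ideal.mul_mem_mul (by rw [hM']; exact Ideal.mem_span_singleton_self _) e4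

end Groth.Agent.Lead.CodimTwo
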