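import Mathlib
import Groth.Agent.Lib.Lead.CodimTwo3

set_option autoImplicit false
set_option backward.isDefEq.respectTransparency.types false
set_option synthInstance.maxHeartbeats 400000
set_option linter.style.haveILetI false
set_option linter.unusedSectionVars false
universe u
open CategoryTheory CategoryTheory.Limits AlgebraicGeometry TopologicalSpace Opposite

namespace Groth.Agent.Lead.CodimTwo

open Groth.Agent.Helper4 Groth.Agent.Lead.DivProd

variable {X : Scheme.{u}}

/-- **the total degree of the admissible exponent vectors is bounded** -/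
theorem exists_degree_bound [IsNoetherian X] (𝓩 : X.IdealSheafData) {I : Type u}
    (𝓓 : I → X.IdealSheafData) (hD : ∀ i, BlowUp.IsEffCartierIdeal (𝓓 i))
    (hint : ∀ i, IsIntegral (𝓓 i).subscheme)
    (Z' : Set X) (hZ' : IsClosed Z')
    (hcodim : ∀ z ∈ Z', (∀ y ∈ Z', y ⤳ z → y = z) →
      (2 : WithBot ℕ∞) ≤ ringKrullDim (X.presheaf.stalk z))
    (hcover : (𝓩.support : Set X) ⊆ Z' ∪ ⋃ i, ((𝓓 i).support : Set X)) :
    ∃ N : ℕ, ∀ a : I →₀ ℕ, 𝓩 ≤ (a.prod fun i n => 𝓓 i ^ n) → ∑ i ∈ a.support, a i ≤ N := by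
  classical
  -- a finite affine cover
  obtain ⟨t, ht⟩ := isCompact_univ.elim_finite_subcover (fun W : X.affineOpens => (W.1 : Set X))
    (fun W => W.1.2) (by
      intro x _
      obtain ⟨_, ⟨W, hW, rfl⟩, hxW, -⟩ :=
        X.isBasis_affineOpens.exists_subset_of_mem_open (Set.mem_univ x) isOpen_univ
      exact Set.mem_iUnion.2 ⟨⟨W, hW⟩, hxW⟩)
  have hav := fun W : X.affineOpens => exists_avoid 𝓩 𝓓 hD Z' hZ' hcodim hcover W
  choose τ hτmem hτ using hav
  have hbd := fun W : X.affineOpens =>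
    haveI : IsNoetherianRing Γ(X, W.1) := IsLocallyNoetherian.component_noetherian W
    exists_bound_factors (τ W) (hτ W)
  choose NW hNW using hbd
  refine ⟨∑ W ∈ t, NW W, ?_⟩
  intro a ha
  -- the bound on each chart
  have hW : ∀ W ∈ t, ∑ i ∈ a.support with (𝓓 i).ideal W ≠ ⊤, a i ≤ NW W := by
    intro W _
    apply hNW W a.support (fun i => (𝓓 i).ideal W) (fun i => a i)
    · intro i _
      haveI := hint i
      rcases prime_or_top (𝓓 i) W with h | h
      · exact Or.inl h
      · exact Or.inr ⟨h, height_le_one (𝓓 i) (hD i) W h⟩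
    · rw [← ideal_finsupp_prod]
      exact ha W (hτmem W)
  -- every divisor meets a chart
  have hex : ∀ i, ∃ W ∈ t, (𝓓 i).ideal W ≠ ⊤ := by
    intro i
    haveI := hint i
    obtain ⟨w⟩ : Nonempty (𝓓 i).subscheme := inferInstance
    have hy : (𝓓 i).subschemeι w ∈ (𝓓 i).support := by
      have : (𝓓 i).subschemeι w ∈ Set.range (𝓓 i).subschemeι := ⟨w, rfl⟩
      rw [(𝓓 i).range_subschemeι] at this
      exact this
    obtain ⟨W, hWt, hxW⟩ := Set.mem_iUnion₂.1 (ht (Set.mem_univ ((𝓓 i).subschemeι w)))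
    exact ⟨W, hWt, ideal_ne_top_of_mem (𝓓 i) W _ hxW hy⟩
  calc ∑ i ∈ a.support, a i
      ≤ ∑ i ∈ a.support, ∑ W ∈ t, (if (𝓓 i).ideal W ≠ ⊤ then a i else 0) := by
        apply Finset.sum_le_sum
        intro i _
        obtain ⟨W, hWt, hne⟩ := hex i
        have h1 : (if (𝓓 i).ideal W ≠ ⊤ then a i else 0) ≤
            ∑ W ∈ t, (if (𝓓 i).ideal W ≠ ⊤ then a i else 0) :=
          Finset.single_le_sum (f := fun W => if (𝓓 i).ideal W ≠ ⊤ then a i else 0)
            (fun _ _ => Nat.zero_le _) hWt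
        rw [if_pos hne] at h1
        exact h1
    _ = ∑ W ∈ t, ∑ i ∈ a.support, (if (𝓓 i).ideal W ≠ ⊤ then a i else 0) := Finset.sum_comm
    _ = ∑ W ∈ t, ∑ i ∈ a.support with (𝓓 i).ideal W ≠ ⊤, a i := by
        apply Finset.sum_congr rfl
        intro W _
        rw [Finset.sum_filter]
    _ ≤ ∑ W ∈ t, NW W := Finset.sum_le_sum hW

end Groth.Agent.Lead.CodimTwo
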