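import Mathlib
import Groth.Agent.Lib.Lead.CodimTwo4
import Groth.Agent.Lib.Helper4.IdealComap

set_option autoImplicit false
set_option backward.isDefEq.respectTransparency.types false
set_option synthInstance.maxHeartbeats 400000
set_option linter.style.haveILetI false
set_option linter.unusedSectionVars false
universe u
open CategoryTheory CategoryTheory.Limits AlgebraicGeometry TopologicalSpace Opposite

namespace Groth.Agent.Lead.CodimTwo

open Groth.Agent.Helper4 Groth.Agent.Lead.DivProd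

variable {X : Scheme.{u}}

/-- the product with one more factor -/
theorem prod_add_single {I : Type u} (𝓓 : I → X.IdealSheafData) (a : I →₀ ℕ) (j : I) :
    ((a + Finsupp.single j 1).prod fun i n => 𝓓 i ^ n) = (a.prod fun i n => 𝓓 i ^ n) * 𝓓 j := by
  rw [Finsupp.prod_add_index' (h := fun i n => 𝓓 i ^ n) (fun i => pow_zero _)
    (fun i m n => pow_add _ m n),
    Finsupp.prod_single_index (h := fun i n => 𝓓 i ^ n) (pow_zero _), pow_one]

theorem sum_add_single {I : Type u} (a : I →₀ ℕ) (j : I) :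
    ((a + Finsupp.single j 1).sum fun _ n => n) = (a.sum fun _ n => n) + 1 := by
  rw [Finsupp.sum_add_index' (fun _ => rfl) (fun _ _ _ => rfl),
    Finsupp.sum_single_index rfl]

/-- equality of restrictions to an open covered by affine opens on which the ideals agree -/
theorem comap_ι_eq (P 𝓩 : X.IdealSheafData) :
    P.comap (Scheme.Opens.ι (X := X)
        (⨆ W : {W : X.affineOpens // P.ideal W = 𝓩.ideal W}, (W.1.1 : X.Opens))) =
      𝓩.comap (Scheme.Opens.ι (X := X)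
        (⨆ W : {W : X.affineOpens // P.ideal W = 𝓩.ideal W}, (W.1.1 : X.Opens))) := by
  generalize hU : (⨆ W : {W : X.affineOpens // P.ideal W = 𝓩.ideal W}, (W.1.1 : X.Opens)) = U
  have hle : ∀ W : {W : X.affineOpens // P.ideal W = 𝓩.ideal W}, W.1.1 ≤ U.ι.opensRange := by
    intro W
    rw [Scheme.Opens.opensRange_ι, ← hU]
    exact le_iSup (fun W' : {W : X.affineOpens // P.ideal W = 𝓩.ideal W} => (W'.1.1 : X.Opens)) W
  refine Scheme.IdealSheafData.ext_of_iSup_eq_top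
    (fun W : {W : X.affineOpens // P.ideal W = 𝓩.ideal W} =>
      (⟨U.ι ⁻¹ᵁ W.1.1, W.1.2.preimage_of_isOpenImmersion U.ι (hle W)⟩ :
        (↑U : Scheme.{u}).affineOpens)) ?_ ?_
  · rw [eq_top_iff]
    intro x _
    have hx : x.1 ∈ (⨆ W : {W : X.affineOpens // P.ideal W = 𝓩.ideal W}, (W.1.1 : X.Opens)) :=
      hU ▸ x.2
    obtain ⟨W, hW⟩ := Opens.mem_iSup.1 hx
    exact Opens.mem_iSup.2 ⟨W, hW⟩
  · intro W
    rw [IdealComap.ideal_comap_eq_map U.ι P _ W.1 le_rfl,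
      IdealComap.ideal_comap_eq_map U.ι 𝓩 _ W.1 le_rfl, W.2]

/-- the local step: near a point `z` of codimension `≤ 1` of `(𝓓 j).support` outside the locus
where `P` and `𝓩` agree, `𝓩` is contained in `P * 𝓓 j` -/
theorem local_step [IsNoetherian X] (𝓩 P D : X.IdealSheafData) [IsIntegral D.subscheme]
    (hle : 𝓩 ≤ P) (c : Chart P (fun _ : Fin 1 => D)) (z : X) (hz : z ∈ c.W.1)
    (hzs : z ∈ D.support)
    (hdim : ¬ (2 : WithBot ℕ∞) ≤ ringKrullDim (X.presheaf.stalk z))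
    (hzU : ∀ W : X.affineOpens, P.ideal W = 𝓩.ideal W → z ∉ W.1) :
    𝓩.ideal c.W ≤ (P * D).ideal c.W := by
  haveI : IsNoetherianRing Γ(X, c.W.1) := IsLocallyNoetherian.component_noetherian c.W
  set p : Ideal Γ(X, c.W.1) := (c.W.2.primeIdealOf ⟨z, hz⟩).asIdeal with hp
  haveI hpp : p.IsPrime := (c.W.2.primeIdealOf ⟨z, hz⟩).isPrime
  have hgp : c.g 0 ∈ p := by
    rw [hp, mem_primeIdealOf_iff c.W.2 z hz]
    exact (c.mem_support_iff 0 z hz).1 hzs
  haveI hgprime : (Ideal.span {c.g 0}).IsPrime := c.isPrime 0 z hz hzs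
  have hspan_le : Ideal.span {c.g 0} ≤ p := (Ideal.span_singleton_le_iff_mem _).2 hgp
  have hht : p.height ≤ 1 := by
    rw [ringKrullDim_stalk_eq_height c.W.2 z hz] at hdim
    have h1 : ¬ (2 : ℕ∞) ≤ p.height := fun h => hdim (WithBot.coe_le_coe.2 h)
    have h2 : p.height < 2 := not_le.1 h1
    have h3 : p.height < 1 + 1 := by rwa [one_add_one_eq_two]
    exact (ENat.lt_add_one_iff ENat.one_ne_top).1 h3
  have hpeq : Ideal.span {c.g 0} = p := by
    by_contra hne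
    have hlt : Ideal.span {c.g 0} < p := lt_of_le_of_ne hspan_le hne
    have h1 := Ideal.height_strict_mono_of_isPrime hlt
    have h0 : (Ideal.span {c.g 0}).height = 0 := by
      have h2 : (Ideal.span {c.g 0}).height < 1 := lt_of_lt_of_le h1 hht
      exact Order.lt_one_iff.1 h2
    have hmin := Ideal.height_eq_zero_iff.1 h0
    exact Set.disjoint_left.1 (Ideal.disjoint_nonZeroDivisors_of_mem_minimalPrimes hmin)
      (Ideal.mem_span_singleton_self (c.g 0)) (c.hg 0)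
  intro h hh
  have hhP : h ∈ P.ideal c.W := hle c.W hh
  rw [c.hD] at hhP
  obtain ⟨h₁, hh₁⟩ := Ideal.mem_span_singleton'.1 hhP
  have hh₁g : h₁ ∈ Ideal.span {c.g 0} := by
    by_contra hcon
    rw [hpeq, hp, mem_primeIdealOf_iff c.W.2 z hz, not_not] at hcon
    apply hzU (X.affineBasicOpen h₁) _ hcon
    rw [← P.map_ideal_basicOpen c.W h₁, ← 𝓩.map_ideal_basicOpen c.W h₁]
    apply le_antisymm
    · rw [c.hD, Ideal.map_span, Set.image_singleton]
      apply (Ideal.span_singleton_le_iff_mem _).2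
      have hu : IsUnit ((X.presheaf.map (homOfLE (X.basicOpen_le h₁)).op).hom h₁) :=
        RingedSpace.isUnit_res_basicOpen X.toRingedSpace h₁
      have hm : (X.presheaf.map (homOfLE (X.basicOpen_le h₁)).op).hom h ∈
          (𝓩.ideal c.W).map (X.presheaf.map (homOfLE (X.basicOpen_le h₁)).op).hom :=
        Ideal.mem_map_of_mem _ hh
      rw [← hh₁, map_mul] at hm
      exact (Ideal.unit_mul_mem_iff_mem _ hu).1 hm
    · exact Ideal.map_mono (hle c.W)
  obtain ⟨h₂, hh₂⟩ := Ideal.mem_span_singleton'.1 hh₁g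
  rw [Scheme.IdealSheafData.ideal_mul, Pi.mul_apply, c.hD, c.hDs 0,
    Ideal.span_singleton_mul_span_singleton, Ideal.mem_span_singleton']
  exact ⟨h₂, by rw [← hh₁, ← hh₂]; ring⟩

/-- globalization of the local step -/
theorem global_step [IsNoetherian X] (𝓩 P D : X.IdealSheafData) [IsIntegral D.subscheme]
    (hP : BlowUp.IsEffCartierIdeal P) (hD : BlowUp.IsEffCartierIdeal D)
    (hle : 𝓩 ≤ P) (z : X) (hzs : z ∈ D.support)
    (hdim : ¬ (2 : WithBot ℕ∞) ≤ ringKrullDim (X.presheaf.stalk z))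
    (hzU : ∀ W : X.affineOpens, P.ideal W = 𝓩.ideal W → z ∉ W.1) :
    𝓩 ≤ P * D := by
  obtain ⟨c, hz⟩ := exists_chart (D := P) (Ds := fun _ : Fin 1 => D) hP (fun _ => hD) z
  have hc := local_step 𝓩 P D hle c z hz hzs hdim hzU
  have hirr : IsIrreducible (D.support : Set X) := by
    have h1 : IsIrreducible (Set.range D.subschemeι) := by
      rw [← Set.image_univ]
      exact (IrreducibleSpace.isIrreducible_univ _).image _
        D.subschemeι.continuous.continuousOn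
    rwa [D.range_subschemeι] at h1
  refine Scheme.IdealSheafData.le_of_iSup_eq_top
    (fun c' : Chart P (fun _ : Fin 1 => D) => c'.W)
    (iSup_chart hP (fun _ => hD)) fun c' => ?_
  by_cases hmeet : ∃ y', y' ∈ c'.W.1 ∧ y' ∈ D.support
  · obtain ⟨y', hy', hy's⟩ := hmeet
    obtain ⟨z', hz's, hz'c, hz'c'⟩ := hirr.2 c.W.1 c'.W.1 c.W.1.2 c'.W.1.2 ⟨z, hzs, hz⟩
      ⟨y', hy's, hy'⟩
    exact propagate' 𝓩 P D c.W c'.W hle c'.f (c'.g 0) c'.hf c'.hD (c'.hDs 0) z' hz'c hz'c'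
      hz's hc
  · have htop := c'.ideal_eq_top_of_disjoint 0 (fun x hx hxs => hmeet ⟨x, hx, hxs⟩)
    have htop' : D.ideal c'.W = ⊤ := htop
    rw [Scheme.IdealSheafData.ideal_mul, Pi.mul_apply, htop', Ideal.mul_top]
    exact hle c'.W

/-- **the statement** -/
theorem main [IsNoetherian X] (𝓩 : X.IdealSheafData) {I : Type u}
    (𝓓 : I → X.IdealSheafData) (hD : ∀ i, BlowUp.IsEffCartierIdeal (𝓓 i))
    (hint : ∀ i, IsIntegral (𝓓 i).subscheme)
    (Z' : Set X) (hZ' : IsClosed Z')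
    (hcodim : ∀ z ∈ Z', (∀ y ∈ Z', y ⤳ z → y = z) →
      (2 : WithBot ℕ∞) ≤ ringKrullDim (X.presheaf.stalk z))
    (hcover : (𝓩.support : Set X) ⊆ Z' ∪ ⋃ i, ((𝓓 i).support : Set X)) :
    ∃ a : I →₀ ℕ, 𝓩 ≤ a.prod (fun i n => 𝓓 i ^ n) ∧
      ∃ U : X.Opens, (a.prod (fun i n => 𝓓 i ^ n)).comap U.ι = 𝓩.comap U.ι ∧
        ∀ z ∈ (𝓩.support : Set X) \ (U : Set X),
          (∀ y ∈ (𝓩.support : Set X) \ (U : Set X), y ⤳ z → y = z) →
          (2 : WithBot ℕ∞) ≤ ringKrullDim (X.presheaf.stalk z) := by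
  classical
  obtain ⟨N, hN⟩ := exists_degree_bound 𝓩 𝓓 hD hint Z' hZ' hcodim hcover
  -- a maximal exponent vector
  have hmax : ∃ a : I →₀ ℕ, 𝓩 ≤ (a.prod fun i n => 𝓓 i ^ n) ∧
      ∀ j, ¬ 𝓩 ≤ ((a + Finsupp.single j 1).prod fun i n => 𝓓 i ^ n) := by
    by_contra hcon
    have hstep : ∀ a : I →₀ ℕ, 𝓩 ≤ (a.prod fun i n => 𝓓 i ^ n) →
        ∃ j, 𝓩 ≤ ((a + Finsupp.single j 1).prod fun i n => 𝓓 i ^ n) := by
      intro a ha
      by_contra hj
      exact hcon ⟨a, ha, fun j hj' => hj ⟨j, hj'⟩⟩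
    have hall : ∀ n : ℕ, ∃ a : I →₀ ℕ, 𝓩 ≤ (a.prod fun i n => 𝓓 i ^ n) ∧
        (a.sum fun _ n => n) = n := by
      intro n
      induction n with
      | zero =>
        refine ⟨0, ?_, Finsupp.sum_zero_index⟩
        rw [Finsupp.prod_zero_index]
        change 𝓩 ≤ ⊤
        exact le_top
      | succ n ih =>
        obtain ⟨a, ha, hdeg⟩ := ih
        obtain ⟨j, hj⟩ := hstep a ha
        exact ⟨a + Finsupp.single j 1, hj, by rw [sum_add_single, hdeg]⟩
    obtain ⟨a, ha, hdeg⟩ := hall (N + 1)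
    have h1 := hN a ha
    have h2 : (∑ i ∈ a.support, a i) = N + 1 := hdeg
    omega
  obtain ⟨a, ha, hamax⟩ := hmax
  refine ⟨a, ha, ⨆ W : {W : X.affineOpens //
    (a.prod fun i n => 𝓓 i ^ n).ideal W = 𝓩.ideal W}, (W.1.1 : X.Opens),
    comap_ι_eq _ _, ?_⟩
  rintro z ⟨hzs, hzU⟩ -
  by_contra hdim
  rcases hcover hzs with hzZ' | hzD
  · exact hdim (two_le_dim_of_mem Z' hZ' hcodim z hzZ')
  · obtain ⟨j, hzj⟩ := Set.mem_iUnion.1 hzD
    haveI := hint j
    apply hamax j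
    rw [prod_add_single]
    refine global_step 𝓩 _ (𝓓 j) (isEffCartier_prod 𝓓 hD a) (hD j) ha z hzj hdim ?_
    intro W hW hzW
    exact hzU (Opens.mem_iSup.2 ⟨⟨W, hW⟩, hzW⟩)

end Groth.Agent.Lead.CodimTwo
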