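import Mathlib
import Groth.Prelude

set_option autoImplicit false
set_option backward.isDefEq.respectTransparency.types false
set_option synthInstance.maxHeartbeats 400000
set_option linter.style.haveILetI false
set_option linter.unusedSectionVars false

universe u

open CategoryTheory CategoryTheory.Limits AlgebraicGeometry TopologicalSpace IsLocalRing Opposite

namespace Groth.Agent.Lead.NeronExt

theorem isDominant_SpecMap_of_injective {A B : CommRingCat.{u}} (φ : A ⟶ B)
    (hφ : Function.Injective φ.hom) : IsDominant (Spec.map φ) := by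
  apply isDominant_of_of_appTop_injective
  have h := Scheme.ΓSpecIso_naturality φ
  have h2 : (Spec.map φ).appTop = (Scheme.ΓSpecIso A).hom ≫ φ ≫ (Scheme.ΓSpecIso B).inv := by
    rw [← Category.assoc, ← h, Category.assoc, Iso.hom_inv_id, Category.comp_id]
  rw [h2]
  simp only [CommRingCat.hom_comp, RingHom.coe_comp]
  refine Function.Injective.comp (Function.Injective.comp ?_ hφ) ?_
  · exact (ConcreteCategory.bijective_of_isIso (Scheme.ΓSpecIso B).inv).1
  · exact (ConcreteCategory.bijective_of_isIso (Scheme.ΓSpecIso A).hom).1

theorem ext_of_schDominant {S : Scheme.{u}} (X Y : Over S) [IsSeparated Y.hom] (f g : X ⟶ Y)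
    {W : Scheme.{u}} (j : W ⟶ X.left) [IsSchemeTheoreticallyDominant j]
    (hj : j ≫ f.left = j ≫ g.left) : f = g := by
  let i := (equalizer.ι f g).left
  haveI : IsClosedImmersion i := inferInstance
  let j' : Over.mk (j ≫ X.hom) ⟶ X := Over.homMk j
  let l := equalizer.lift (f := f) (g := g) j' (by ext1; exact hj)
  have hl : l.left ≫ i = j := by
    change l.left ≫ (equalizer.ι f g).left = j
    rw [← Over.comp_left, equalizer.lift_ι]
    rfl
  haveI : IsIso i := by
    rw [IsClosedImmersion.isIso_iff_ker_eq_bot]
    have h1 := Scheme.Hom.le_ker_comp l.left i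
    rw [hl, j.ker_eq_bot] at h1
    exact le_bot_iff.mp h1
  have h2 : i ≫ f.left = i ≫ g.left := congr($(equalizer.condition f g).left)
  ext1
  exact (cancel_epi i).mp h2

theorem S18498_main (R : Type u) [CommRing R] [IsDomain R]
    (X Y : Over (Spec (CommRingCat.of R))) [Flat X.hom] [IsSeparated Y.hom] (f g : X ⟶ Y)
    (h : (Neron.genericFibre R).map f = (Neron.genericFibre R).map g) : f = g := by
  haveI : IsDominant (Neron.genPt R) :=
    isDominant_SpecMap_of_injective _ (IsFractionRing.injective R (FractionRing R))
  haveI : IsSchemeTheoreticallyDominant (Neron.genPt R) := .of_isDominant _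
  haveI : IsSchemeTheoreticallyDominant (pullback.fst X.hom (Neron.genPt R)) := inferInstance
  apply ext_of_schDominant X Y f g (pullback.fst X.hom (Neron.genPt R))
  have h3 := congr($(h).left ≫ pullback.fst Y.hom (Neron.genPt R))
  simp only [Over.pullback_map_left] at h3
  rw [pullback.lift_fst, pullback.lift_fst] at h3
  exact h3

end Groth.Agent.Lead.NeronExt
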