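import Mathlib
import Groth.Prelude
import Groth.Agent.Lib.Lead.NeronExt1

set_option autoImplicit false
set_option backward.isDefEq.respectTransparency.types false
set_option synthInstance.maxHeartbeats 400000
set_option linter.style.haveILetI false
set_option linter.unusedSectionVars false

universe u

open CategoryTheory CategoryTheory.Limits AlgebraicGeometry TopologicalSpace IsLocalRing Opposite
open MonoidalCategory MonObj

namespace Groth.Agent.Lead.CommGen

open scoped Obj in
/-- if the image of `M` under a braided functor is commutative then the two multiplications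
agree after applying the functor -/
theorem map_braiding_mul_eq {C D : Type*} [Category C] [MonoidalCategory C] [BraidedCategory C]
    [Category D] [MonoidalCategory D] [BraidedCategory D] (F : C ⥤ D) [F.Braided]
    (M : C) [MonObj M] [IsCommMonObj (F.obj M)] :
    F.map ((β_ M M).hom ≫ μ[M]) = F.map μ[M] := by
  have h1 : (β_ (F.obj M) (F.obj M)).hom ≫ μ[F.obj M] = μ[F.obj M] := IsCommMonObj.mul_comm _
  have h2 : μ[F.obj M] = Functor.LaxMonoidal.μ F M M ≫ F.map μ[M] := rfl
  rw [h2, ← Functor.LaxBraided.braided_assoc, ← Functor.map_comp] at h1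
  exact (cancel_epi (Functor.LaxMonoidal.μ F M M)).mp h1

theorem isCommMonObj_of_generic {A K : Type u} [CommRing A] [IsDomain A] [Field K] [Algebra A K]
    [IsFractionRing A K]
    (G : Over (Spec (CommRingCat.of A))) [GrpObj G] [Flat G.hom] [IsSeparated G.hom]
    [IsCommMonObj (Red.bc (Spec.map (CommRingCat.ofHom (algebraMap A K))) G)] :
    IsCommMonObj G := by
  refine ⟨?_⟩
  let g : Spec (CommRingCat.of K) ⟶ Spec (CommRingCat.of A) :=
    Spec.map (CommRingCat.ofHom (algebraMap A K))
  haveI : IsDominant g :=
    Groth.Agent.Lead.NeronExt.isDominant_SpecMap_of_injective _ (IsFractionRing.injective A K)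
  haveI : IsSchemeTheoreticallyDominant g := .of_isDominant _
  haveI : Flat (G ⊗ G).hom := by
    rw [Over.tensorObj_hom]
    infer_instance
  haveI : IsSchemeTheoreticallyDominant (pullback.fst (G ⊗ G).hom g) := inferInstance
  have h := map_braiding_mul_eq (Over.pullback g) G
  apply Groth.Agent.Lead.NeronExt.ext_of_schDominant (G ⊗ G) G _ _ (pullback.fst (G ⊗ G).hom g)
  have h3 := congr($(h).left ≫ pullback.fst G.hom g)
  simp only [Over.pullback_map_left] at h3
  rw [pullback.lift_fst, pullback.lift_fst] at h3
  exact h3

theorem S18063_main (A : Type u) [CommRing A] [IsDomain A] [IsDiscreteValuationRing A]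
    (K : Type u) [Field K] [Algebra A K] [IsFractionRing A K]
    (G : Over (Spec (CommRingCat.of A))) [GrpObj G] [Flat G.hom]
    [IsSeparated G.hom] [IsCommMonObj (Red.bc (Spec.map (CommRingCat.ofHom (algebraMap A K))) G)] :
    IsCommMonObj (Red.bc (Spec.map (CommRingCat.ofHom
      (algebraMap A (IsLocalRing.ResidueField A)))) G) := by
  haveI : IsCommMonObj G := isCommMonObj_of_generic (K := K) G
  infer_instance

end Groth.Agent.Lead.CommGen
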