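import Mathlib
import Groth.Prelude.Def_HopfRep
open TensorProduct
universe u v w
namespace Groth.Agent.Lead.ComodOp

variable {k : Type u} {C : Type v} [CommRing k] [AddCommGroup C] [Module k C] [Coalgebra k C]
variable (V : Type w) [AddCommGroup V] [Module k V] [HopfRep.Comod k C V]

/-- the operator attached to a functional on C -/
noncomputable def T (φ : C →ₗ[k] k) : Module.End k V :=
  (TensorProduct.rid k V).toLinearMap ∘ₗ (φ.lTensor V) ∘ₗ (HopfRep.Comod.coact (k := k) (A := C))

theorem T_apply (φ : C →ₗ[k] k) (v : V) :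
    T V φ v = TensorProduct.rid k V (φ.lTensor V (HopfRep.Comod.coact (k := k) (A := C) v)) := rfl

variable {V}

theorem T_mem_of_subcomod (W : Submodule k V) (h : HopfRep.IsSubcomod (k := k) (A := C) W)
    (φ : C →ₗ[k] k) (w : V) (hw : w ∈ W) : T V φ w ∈ W := by
  obtain ⟨y, hy⟩ := h w hw
  rw [T_apply, ← hy]
  clear hy
  induction y using TensorProduct.induction_on with
  | zero => simp
  | tmul a c =>
    simp only [LinearMap.rTensor_tmul, Submodule.subtype_apply, LinearMap.lTensor_tmul,
      TensorProduct.rid_tmul]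
    exact W.smul_mem _ a.2
  | add a b ha hb =>
    simp only [map_add]
    exact W.add_mem ha hb

/-- dual-basis expansion in `V ⊗ C` for projective `C` -/
theorem exists_expansion [Module.Projective k C] :
    ∃ φ : C → (C →ₗ[k] k), ∀ x : V ⊗[k] C, ∃ D : Finset C,
      x = ∑ d ∈ D, (TensorProduct.rid k V ((φ d).lTensor V x)) ⊗ₜ[k] d := by
  classical
  obtain ⟨s, hs⟩ := Module.projective_def'.1 (inferInstance : Module.Projective k C)
  refine ⟨fun d => (Finsupp.lapply d) ∘ₗ s, fun x => ?_⟩
  obtain ⟨y, hy⟩ : ∃ y, y = TensorProduct.finsuppScalarRight k k V C (s.lTensor V x) := ⟨_, rfl⟩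
  have hyd : ∀ d, y d = TensorProduct.rid k V (((Finsupp.lapply d) ∘ₗ s).lTensor V x) := by
    intro d
    rw [hy, TensorProduct.finsuppScalarRight_apply, LinearMap.lTensor_comp_apply]
    rfl
  have hx : x = (Finsupp.linearCombination k (id : C → C)).lTensor V (s.lTensor V x) := by
    rw [← LinearMap.lTensor_comp_apply, hs, LinearMap.lTensor_id, LinearMap.id_apply]
  have ht : s.lTensor V x = (TensorProduct.finsuppScalarRight k k V C).symm y := by
    rw [hy, LinearEquiv.symm_apply_apply]
  refine ⟨y.support, ?_⟩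
  conv_lhs => rw [hx, ht, ← Finsupp.sum_single y, Finsupp.sum, map_sum, map_sum]
  refine Finset.sum_congr rfl (fun d _ => ?_)
  rw [TensorProduct.finsuppScalarRight_symm_apply_single, LinearMap.lTensor_tmul,
    Finsupp.linearCombination_single, one_smul, hyd]
  rfl

theorem subcomod_iff [Module.Projective k C] (W : Submodule k V) :
    HopfRep.IsSubcomod (k := k) (A := C) W ↔ ∀ φ : C →ₗ[k] k, ∀ w ∈ W, T V φ w ∈ W := by
  constructor
  · intro h φ w hw
    exact T_mem_of_subcomod W h φ w hw
  · intro h w hw
    obtain ⟨φ, hφ⟩ := exists_expansion (k := k) (C := C) (V := V)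
    obtain ⟨D, hD⟩ := hφ (HopfRep.Comod.coact (k := k) (A := C) w)
    rw [hD]
    refine Submodule.sum_mem _ (fun d _ => ?_)
    exact ⟨(⟨_, h (φ d) w hw⟩ : W) ⊗ₜ[k] d, rfl⟩

/-- convolution of functionals -/
noncomputable def conv (ψ φ : C →ₗ[k] k) : C →ₗ[k] k :=
  (TensorProduct.lid k k).toLinearMap ∘ₗ (TensorProduct.map ψ φ) ∘ₗ Coalgebra.comul

theorem T_comp (ψ φ : C →ₗ[k] k) (m : V) : T V ψ (T V φ m) = T V (conv ψ φ) m := by
  let H : V ⊗[k] (C ⊗[k] C) →ₗ[k] V :=
    (TensorProduct.rid k V).toLinearMap ∘ₗ
      (((TensorProduct.lid k k).toLinearMap ∘ₗ (TensorProduct.map ψ φ)).lTensor V)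
  have h1 : ∀ (t : V ⊗[k] C) (c : C), H (TensorProduct.assoc k V C C (t ⊗ₜ[k] c))
      = φ c • TensorProduct.rid k V (ψ.lTensor V t) := by
    intro t c
    induction t using TensorProduct.induction_on with
    | zero => simp
    | tmul v c' =>
      simp only [H, TensorProduct.assoc_tmul, LinearMap.comp_apply, LinearMap.lTensor_tmul,
        TensorProduct.map_tmul, LinearEquiv.coe_coe, TensorProduct.lid_tmul, TensorProduct.rid_tmul,
        smul_eq_mul]
      rw [mul_comm, mul_smul]
    | add a b ha hb =>
      rw [TensorProduct.add_tmul, map_add, map_add, ha, hb, map_add, map_add, smul_add]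
  have h2 : ∀ z : V ⊗[k] C, T V ψ (TensorProduct.rid k V (φ.lTensor V z))
      = H (TensorProduct.assoc k V C C
          ((HopfRep.Comod.coact (k := k) (A := C)).rTensor C z)) := by
    intro z
    induction z using TensorProduct.induction_on with
    | zero => simp
    | tmul v c =>
      rw [LinearMap.lTensor_tmul, TensorProduct.rid_tmul, map_smul, LinearMap.rTensor_tmul, h1, T_apply]
    | add a b ha hb => simp only [map_add, ha, hb]
  have h3 : ∀ z : V ⊗[k] C, TensorProduct.rid k V ((conv ψ φ).lTensor V z)
      = H ((Coalgebra.comul (R := k) (A := C)).lTensor V z) := by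
    intro z
    induction z using TensorProduct.induction_on with
    | zero => simp
    | tmul v c => rfl
    | add a b ha hb => simp only [map_add, ha, hb]
  rw [T_apply V φ m, h2, T_apply, h3]
  have hco := LinearMap.congr_fun (HopfRep.Comod.coassoc (k := k) (A := C) (V := V)) m
  simp only [LinearMap.comp_apply, LinearEquiv.coe_coe] at hco
  rw [hco]

theorem T_counit (m : V) : T V (Coalgebra.counit (R := k) (A := C)) m = m := by
  have h := LinearMap.congr_fun (HopfRep.Comod.counit_comp (k := k) (A := C) (V := V)) m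
  simp only [LinearMap.comp_apply] at h
  rw [T_apply, h]
  simp

/-- the subcomodule generated by a submodule -/
def gen (M : Submodule k V) : Submodule k V :=
  Submodule.span k {x | ∃ φ : C →ₗ[k] k, ∃ m ∈ M, x = T V φ m}

theorem le_gen (M : Submodule k V) : M ≤ gen (C := C) M := by
  intro m hm
  exact Submodule.subset_span ⟨Coalgebra.counit, m, hm, (T_counit m).symm⟩

theorem gen_subcomod [Module.Projective k C] (M : Submodule k V) :
    HopfRep.IsSubcomod (k := k) (A := C) (gen (C := C) M) := by
  rw [subcomod_iff]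
  intro ψ w hw
  induction hw using Submodule.span_induction with
  | mem x hx =>
    obtain ⟨φ, m, hm, rfl⟩ := hx
    rw [T_comp]
    exact Submodule.subset_span ⟨_, m, hm, rfl⟩
  | zero => simp
  | add a b _ _ ha hb => rw [map_add]; exact Submodule.add_mem _ ha hb
  | smul c a _ ha => rw [map_smul]; exact Submodule.smul_mem _ _ ha

theorem gen_le (M W' : Submodule k V) (hW' : HopfRep.IsSubcomod (k := k) (A := C) W')
    (hM : M ≤ W') : gen (C := C) M ≤ W' := by
  refine Submodule.span_le.2 ?_
  rintro _ ⟨φ, m, hm, rfl⟩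
  exact T_mem_of_subcomod W' hW' φ m (hM hm)

theorem gen_fg [Module.Projective k C] (M : Submodule k V) (hM : M.FG) : (gen (C := C) M).FG := by
  classical
  obtain ⟨S, hS⟩ := hM
  obtain ⟨φ, hφ⟩ := exists_expansion (k := k) (C := C) (V := V)
  choose D hD using fun m : V => hφ (HopfRep.Comod.coact (k := k) (A := C) m)
  refine ⟨S.biUnion (fun m => (D m).image (fun d => T V (φ d) m)), ?_⟩
  apply le_antisymm
  · refine Submodule.span_le.2 ?_
    intro x hx
    simp only [Finset.coe_biUnion, Finset.coe_image, Set.mem_iUnion, Set.mem_image] at hx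
    obtain ⟨m, hm, d, _, rfl⟩ := hx
    refine Submodule.subset_span ⟨φ d, m, ?_, rfl⟩
    rw [← hS]; exact Submodule.subset_span hm
  · refine Submodule.span_le.2 ?_
    rintro _ ⟨ψ, m, hm, rfl⟩
    rw [← hS] at hm
    induction hm using Submodule.span_induction with
    | mem m hm =>
      have h1 : T V ψ m = ∑ d ∈ D m, ψ d • T V (φ d) m := by
        conv_lhs => rw [T_apply, hD m, map_sum, map_sum]
        refine Finset.sum_congr rfl (fun d _ => ?_)
        rw [LinearMap.lTensor_tmul, TensorProduct.rid_tmul]
        rfl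
      rw [h1]
      refine Submodule.sum_mem _ (fun d hd => Submodule.smul_mem _ _ (Submodule.subset_span ?_))
      simp only [Finset.coe_biUnion, Finset.coe_image, Set.mem_iUnion, Set.mem_image]
      exact ⟨m, hm, d, hd, rfl⟩
    | zero => simp
    | add a b _ _ ha hb => rw [map_add]; exact Submodule.add_mem _ ha hb
    | smul c a _ ha => rw [map_smul]; exact Submodule.smul_mem _ _ ha

end Groth.Agent.Lead.ComodOp
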