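import Mathlib
import Groth.Agent.Lib.Lead.PicExt2
import Groth.Agent.Lib.Lead.PicExt1
import Groth.Agent.Lib.Helper1.CohRestr
import Groth.Agent.Lib.Helper1.TwRestr

/-!
# Extension of invertible modules across points with factorial local rings: the dense case (lead)
-/

set_option autoImplicit false
set_option backward.isDefEq.respectTransparency.types false
set_option synthInstance.maxHeartbeats 400000
set_option linter.style.haveILetI false
set_option linter.unusedSectionVars false
universe u
open CategoryTheory CategoryTheory.Limits AlgebraicGeometry TopologicalSpace Opposite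

namespace Groth.Agent.Lead.PicExt2

open Groth.Agent.Helper1.QcCech Groth.Agent.Helper1.LGen Groth.Agent.Lead.RkSch
  Groth.Agent.Helper1 Groth.Agent.Lead.RH Groth.Agent.Lead.FlatHart Scheme.Modules
  Groth.Agent.Helper7.FinType

section Pre

/-- invertible modules have reflexive stalks -/
theorem isReflexive_stalk_of_isInvertible {Y : Scheme.{u}} (L : Y.Modules)
    (hL : PicF.IsInvertible L) (y : Y) :
    Module.IsReflexive (Y.presheaf.stalk y) (L.presheaf.stalk y) := by
  obtain ⟨W, a, hxW, ha⟩ := exists_isGen hL y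
  obtain ⟨h0, h1⟩ := (freeAt_iff a y hxW).1 (freeAt_of_isGen ha y hxW)
  let f : Y.presheaf.stalk y →ₗ[Y.presheaf.stalk y] L.presheaf.stalk y :=
    LinearMap.toSpanSingleton _ _ (L.presheaf.germ W y hxW a)
  have hf : Function.Bijective f := by
    constructor
    · rw [injective_iff_map_eq_zero]
      intro ρ hρ
      exact h0 ρ hρ
    · intro v
      obtain ⟨ρ, hρ⟩ := h1 v
      exact ⟨ρ, hρ⟩
  let e := LinearEquiv.ofBijective f hf
  haveI : Module.Free (Y.presheaf.stalk y) (L.presheaf.stalk y) := Module.Free.of_equiv e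
  haveI : Module.Finite (Y.presheaf.stalk y) (L.presheaf.stalk y) := Module.Finite.equiv e
  infer_instance

variable {Y X : Scheme.{u}} (j : Y ⟶ X) [IsOpenImmersion j]

theorem isReflexive_restrict_stalk (M : X.Modules) (y : Y)
    (h : Module.IsReflexive (X.presheaf.stalk (j y)) (M.presheaf.stalk (j y))) :
    Module.IsReflexive (Y.presheaf.stalk y) ((M.restrict j).presheaf.stalk y) := by
  have he : ∀ (r : Y.presheaf.stalk y) (a : (M.restrict j).presheaf.stalk y),
      (restrictStalkIso j M y).addCommGroupIsoToAddEquiv (r • a) =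
        stalkRingEquiv j y r • (restrictStalkIso j M y).addCommGroupIsoToAddEquiv a := by
    intro r a
    obtain ⟨W, hW, ρ, rfl⟩ := TopCat.Presheaf.exists_germ_eq Y.presheaf r
    rw [stalkRingEquiv_germ]
    exact restrictStalkIso_germ_smul j M y hW ρ a
  exact isReflexive_of_semilinear (stalkRingEquiv j y).symm
    (restrictStalkIso j M y).addCommGroupIsoToAddEquiv.symm
    (symm_semilinear (stalkRingEquiv j y) (restrictStalkIso j M y).addCommGroupIsoToAddEquiv he)

/-- local generators from invertibility of a restriction -/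
theorem exists_isGen_of_restrict_isInvertible (M : X.Modules) (U : X.Opens)
    (h : PicF.IsInvertible (M.restrict U.ι)) (x : X) (hx : x ∈ U) :
    ∃ (W : X.Opens) (a : Γ(M, W)), x ∈ W ∧ IsGen M W a := by
  obtain ⟨W', a, hxW', ha⟩ := exists_isGen h (show (U : Scheme.{u}) from ⟨x, hx⟩)
  exact ⟨U.ι ''ᵁ W', a, ⟨⟨x, hx⟩, hxW', rfl⟩, TwForm.isGen_image_of_isGen_restrict U.ι M W' a ha⟩

end Pre

section Stalk

variable {X : Scheme.{u}} [IsLocallyNoetherian X]

/-- the stalk of the sheaf Hom into a module with reflexive stalk, at a point whose local ring is a domain -/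
theorem isReflexive_stalk_homSh (F G : X.Modules) (hF : Coh.IsCoh F) (hG : Coh.IsCoh G) (x : X)
    [IsDomain (X.presheaf.stalk x)]
    [Module.IsReflexive (X.presheaf.stalk x) (G.presheaf.stalk x)] :
    Module.IsReflexive (X.presheaf.stalk x) ((RefHull.homSh F G).presheaf.stalk x) := by
  have hFP : CohB1.IsFP F := FpLocal.isFP_of_isCoh F hF
  have hGP : CohB1.IsFP G := FpLocal.isFP_of_isCoh G hG
  haveI : SheafOfModules.IsFinitePresentation (R := X.ringCatSheaf) G := hGP
  haveI : G.IsQuasicoherent := inferInstance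
  haveI : Module.Finite (X.presheaf.stalk x) (F.presheaf.stalk x) :=
    Groth.Agent.Helper7.FinType.stalk_finite_of_isCoh F hF x
  haveI : Module.Finite (X.presheaf.stalk x) (G.presheaf.stalk x) :=
    Groth.Agent.Helper7.FinType.stalk_finite_of_isCoh G hG x
  haveI : Module.IsReflexive (X.presheaf.stalk x) (RefHull.StalkHom F G x) :=
    ReflAlg.isReflexive_linearMap
  exact Module.equiv (evalEquiv (G := G) hFP x).symm

end Stalk

section Dense

variable {X : Scheme.{u}} [IsLocallyNoetherian X]

/-- the generic point of an integral open meeting `U` lies in `U` -/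
theorem generic_mem (U W : X.Opens) [IsIntegral (W : Scheme.{u})]
    (h : ((W : Set X) ∩ (U : Set X)).Nonempty) :
    W.ι (genericPoint (W : Scheme.{u})) ∈ U := by
  obtain ⟨y, hyW, hyU⟩ := h
  have h2 : (W.ι ⁻¹ᵁ U : (W : Scheme.{u}).Opens).1.Nonempty := ⟨⟨y, hyW⟩, hyU⟩
  exact ((genericPoint_spec (W : Scheme.{u})).mem_open_set_iff (W.ι ⁻¹ᵁ U).2).2 (by
    rw [Set.univ_inter]; exact h2)

/-- a generator near the generic point of an open subscheme gives rank one of the restriction -/
theorem genInvertible_restrict (M : X.Modules) (W : X.Opens) [IsIntegral (W : Scheme.{u})]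
    (W₀ : X.Opens) (a₀ : Γ(M, W₀)) (ha₀ : IsGen M W₀ a₀)
    (hη : W.ι (genericPoint (W : Scheme.{u})) ∈ W₀) :
    RefHull.GenInvertible (M.restrict W.ι) := by
  have hle : W.ι ''ᵁ (W.ι ⁻¹ᵁ W₀) ≤ W₀ := by
    rintro _ ⟨y, hy, rfl⟩
    exact hy
  exact Groth.Agent.Lead.Ref1.genInvertible_of_isGen
    (TwForm.isGen_restrict_of_isGen_image W.ι M (W.ι ⁻¹ᵁ W₀) (res M hle a₀) (ha₀.res hle)) hη

/-- local generator at a point with factorial local ring -/
theorem exists_isGen_at_ufd (M : X.Modules) (hMc : Coh.IsCoh M) (W : X.Opens)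
    [IsIntegral (W : Scheme.{u})]
    (hgen : RefHull.GenInvertible (M.restrict W.ι)) (x : W)
    (hufd : UniqueFactorizationMonoid (X.presheaf.stalk x.1))
    (hr : Module.IsReflexive (X.presheaf.stalk x.1) (M.presheaf.stalk x.1)) :
    ∃ (W₁ : X.Opens) (a : Γ(M, W₁)), x.1 ∈ W₁ ∧ IsGen M W₁ a := by
  have hGc : Coh.IsCoh (M.restrict W.ι) := Groth.Agent.Helper1.FinPush.isCoh_restrict W.ι _ hMc
  haveI : UniqueFactorizationMonoid ((W : Scheme.{u}).presheaf.stalk x) :=
    (W.stalkIso x).commRingCatIsoToRingEquiv.symm.toMulEquiv.uniqueFactorizationMonoid hufd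
  haveI : Module.IsReflexive ((W : Scheme.{u}).presheaf.stalk x)
      ((M.restrict W.ι).presheaf.stalk x) :=
    isReflexive_restrict_stalk W.ι M x hr
  obtain ⟨W', a, hxW', ha⟩ := Groth.Agent.Lead.Ref1.exists_isGen_at hGc hgen
    (show (W : Scheme.{u}) from x)
  exact ⟨W.ι ''ᵁ W', a, ⟨x, hxW', rfl⟩,
    TwForm.isGen_image_of_isGen_restrict W.ι M W' a ha⟩

/-- the stalk of a double dual at a point whose local ring is a domain is reflexive -/
theorem isReflexive_stalk_ddual (G' : X.Modules) (hG'c : Coh.IsCoh G') (x : X)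
    [IsDomain (X.presheaf.stalk x)] :
    Module.IsReflexive (X.presheaf.stalk x) ((RefHull.ddual G').presheaf.stalk x) := by
  have hOc : Coh.IsCoh (Coh.structureModule X) :=
    (FpLocal.isCoh_iff_isFP _).2 (isFP_structureModule X)
  have hdc : Coh.IsCoh (RefHull.dual G') := isCoh_homSh hG'c hOc
  haveI : Module.IsReflexive (X.presheaf.stalk x)
      ((Coh.structureModule X).presheaf.stalk x) := by
    haveI : Module.Free (X.presheaf.stalk x) ((Coh.structureModule X).presheaf.stalk x) :=
      Module.Free.of_equiv (unitEquiv x)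
    haveI : Module.Finite (X.presheaf.stalk x) ((Coh.structureModule X).presheaf.stalk x) :=
      Module.Finite.equiv (unitEquiv x)
    infer_instance
  exact isReflexive_stalk_homSh (RefHull.dual G') (Coh.structureModule X) hdc hOc x

/-- the double dual of a coherent extension restricts to the given invertible module -/
theorem exists_ddual_restrict_iso (U : X.Opens) (L : (U : Scheme.{u}).Modules)
    (hL : PicF.IsInvertible L) :
    ∃ G' : X.Modules, Coh.IsCoh G' ∧ Nonempty ((RefHull.ddual G').restrict U.ι ≅ L) := by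
  have hLc := InvQc.isCoh_of_isInvertible L hL
  haveI : Coh.IsQCoh L := hLc.1
  obtain ⟨G', hG'q, hG'ft, ⟨e⟩⟩ := Groth.Agent.S2252.result (X := X)
    (fun x => locally_noetherianSpace x) U L hLc.2
  have hG'c : Coh.IsCoh G' := ⟨hG'q, hG'ft⟩
  have hfp' : CohB1.IsFP G' := FpLocal.isFP_of_isCoh G' hG'c
  have hG'r : ∀ x ∈ U, RefHull.IsReflexiveAt G' x := by
    intro x hx
    have h1 : Module.IsReflexive ((U : Scheme.{u}).presheaf.stalk ⟨x, hx⟩)
        ((G'.restrict U.ι).presheaf.stalk ⟨x, hx⟩) :=
      haveI := isReflexive_stalk_of_isInvertible L hL ⟨x, hx⟩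
      Module.equiv (stalkEquivOfIso e ⟨x, hx⟩).symm
    exact isReflexive_stalk_of_restrict U.ι G' ⟨x, hx⟩ h1
  haveI i2 : IsIso ((restrictFunctor U.ι).map (RefHull.bidualMap G')) :=
    isIso_restrict_bidualMap' G' hfp' U hG'r
  exact ⟨G', hG'c, ⟨(asIso ((restrictFunctor U.ι).map (RefHull.bidualMap G'))).symm ≪≫ e⟩⟩

/-- an invertible module on a dense open extends across points with factorial local rings -/
theorem exists_extension_of_dense (U : X.Opens) (L : (U : Scheme.{u}).Modules)
    (hL : PicF.IsInvertible L)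
    (hufd : ∀ x : X, x ∉ U → UniqueFactorizationMonoid (X.presheaf.stalk x))
    (hdense : ∀ x : X, x ∉ U → x ∈ closure (U : Set X)) :
    ∃ L' : X.Modules, PicF.IsInvertible L' ∧ Nonempty (L'.restrict U.ι ≅ L) := by
  obtain ⟨G', hG'c, ⟨e'⟩⟩ := exists_ddual_restrict_iso U L hL
  have hOc : Coh.IsCoh (Coh.structureModule X) :=
    (FpLocal.isCoh_iff_isFP _).2 (isFP_structureModule X)
  have hdc : Coh.IsCoh (RefHull.dual G') := isCoh_homSh hG'c hOc
  have hHc : Coh.IsCoh (RefHull.ddual G') := isCoh_homSh hdc hOc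
  refine ⟨RefHull.ddual G', ?_, ⟨e'⟩⟩
  have hinvU : PicF.IsInvertible ((RefHull.ddual G').restrict U.ι) :=
    Groth.Agent.Lead.ParaF.isInvertible_of_iso e'.symm hL
  apply TwForm.isInvertible_of_locGen
  intro x
  by_cases hx : x ∈ U
  · exact exists_isGen_of_restrict_isInvertible _ U hinvU x hx
  · have hu := hufd x hx
    haveI : IsDomain (X.presheaf.stalk x) := IsDomain.mk
    obtain ⟨W, hxW, hWint⟩ := exists_integral_nhd_of_isDomain x
    haveI := hWint
    have hηU : W.ι (genericPoint (W : Scheme.{u})) ∈ U :=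
      generic_mem U W (mem_closure_iff.1 (hdense x hx) W W.2 hxW)
    obtain ⟨W₀, a₀, hηW₀, ha₀⟩ := exists_isGen_of_restrict_isInvertible _ U hinvU _ hηU
    have hgen := genInvertible_restrict (RefHull.ddual G') W W₀ a₀ ha₀ hηW₀
    exact exists_isGen_at_ufd (RefHull.ddual G') hHc W hgen ⟨x, hxW⟩ hu
      (isReflexive_stalk_ddual G' hG'c x)

end Dense

end Groth.Agent.Lead.PicExt2
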