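import Mathlib
import Groth.Prelude
import Groth.Agent.Lib.Helper3.SchDominant

set_option autoImplicit false
set_option backward.isDefEq.respectTransparency.types false
set_option synthInstance.maxHeartbeats 400000
set_option linter.style.haveILetI false
set_option linter.unusedSectionVars false

universe u

open CategoryTheory CategoryTheory.Limits AlgebraicGeometry TopologicalSpace IsLocalRing Opposite

namespace Groth.Agent.Lead.SchDenseImm

/-- the reduced induced structure is reduced (as in helper4's `Equi7`) -/
theorem isReduced_vanishingIdeal_subscheme {X : Scheme.{u}} (Z : TopologicalSpace.Closeds X) :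
    IsReduced (Scheme.IdealSheafData.vanishingIdeal Z).subscheme := by
  haveI : ∀ i, IsReduced ((Scheme.IdealSheafData.vanishingIdeal Z).subschemeCover.openCover.X i) := by
    intro U
    change IsReduced (Spec (.of (Γ(X, U.1) ⧸ (Scheme.IdealSheafData.vanishingIdeal Z).ideal U)))
    haveI : _root_.IsReduced (Γ(X, U.1) ⧸ (Scheme.IdealSheafData.vanishingIdeal Z).ideal U) := by
      rw [← Ideal.isRadical_iff_quotient_reduced, Scheme.IdealSheafData.vanishingIdeal_ideal]
      exact PrimeSpectrum.isRadical_vanishingIdeal _
    infer_instance
  exact IsReduced.of_openCover _ (Scheme.IdealSheafData.vanishingIdeal Z).subschemeCover.openCover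

/-- the kernel of a morphism out of a reduced scheme is the vanishing ideal of the closure of its
range -/
theorem ker_eq_vanishingIdeal_of_isReduced {Z X : Scheme.{u}} (h : Z ⟶ X) [IsReduced Z] :
    h.ker = Scheme.IdealSheafData.vanishingIdeal ⟨closure (Set.range h), isClosed_closure⟩ := by
  apply le_antisymm
  · rw [← Scheme.IdealSheafData.le_support_iff_le_vanishingIdeal]
    intro x hx
    exact h.ker.support.isClosed.closure_subset_iff.mpr h.range_subset_ker_support hx
  · rw [Scheme.Hom.ker, Scheme.IdealSheafData.le_ofIdeals_iff]
    intro U s hs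
    rw [Scheme.IdealSheafData.vanishingIdeal_ideal, PrimeSpectrum.mem_vanishingIdeal] at hs
    rw [RingHom.mem_ker]
    rw [← basicOpen_eq_bot_iff, ← Scheme.preimage_basicOpen]
    ext z
    simp only [Scheme.Hom.coe_preimage, Set.mem_preimage, SetLike.mem_coe, Opens.coe_bot,
      Set.mem_empty_iff_false, iff_false]
    intro hz
    have hzU : h z ∈ U.1 := X.basicOpen_le s hz
    have hz' : h z ∈ Set.range U.2.fromSpec := by
      rw [IsAffineOpen.range_fromSpec]; exact hzU
    obtain ⟨p, hp⟩ := hz'
    have h1 : s ∈ p.asIdeal := by
      apply hs p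
      change U.2.fromSpec p ∈ closure (Set.range h)
      rw [hp]
      exact subset_closure ⟨z, rfl⟩
    have h2 : p ∈ U.2.fromSpec ⁻¹ᵁ X.basicOpen s := by
      change U.2.fromSpec p ∈ X.basicOpen s
      rw [hp]; exact hz
    rw [IsAffineOpen.fromSpec_preimage_basicOpen] at h2
    exact h2 h1

/-- an immersion with dense range into a reduced scheme is an open immersion -/
theorem isOpenImmersion_of_isImmersion_of_denseRange {Z Y : Scheme.{u}} (t : Z ⟶ Y)
    [IsImmersion t] [IsReduced Y] (hd : DenseRange t) : IsOpenImmersion t := by
  let c := t.liftCoborder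
  have hc : c ≫ t.coborderRange.ι = t := t.liftCoborder_ι
  haveI : IsReduced t.coborderRange := inferInstance
  haveI : Surjective c := by
    constructor
    rw [← Set.range_eq_univ]
    have hcl : IsClosed (Set.range c) := c.isClosedEmbedding.isClosed_range
    rw [← hcl.closure_eq, t.coborderRange.ι.isEmbedding.closure_eq_preimage_closure_image,
      ← Set.range_comp]
    have h2 : (⇑t.coborderRange.ι ∘ ⇑c) = ⇑t := by
      funext z
      exact congr($hc z)
    rw [h2, hd.closure_range, Set.preimage_univ]
  haveI : IsIso c := isIso_of_isClosedImmersion_of_surjective c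
  rw [← hc]
  infer_instance

theorem S9385_main {Z X : Scheme.{u}} (h : Z ⟶ X) [IsImmersion h]
    (hyp : QuasiCompact h ∨ IsReduced Z) :
    ∃ hI : IsOpenImmersion h.toImage,
      (∀ W : h.image.Opens, IsSchemeTheoreticallyDominant
          (h.image.homOfLE (inf_le_right : @Scheme.Hom.opensRange _ _ h.toImage hI ⊓ W ≤ W))) ∧
        DenseRange h.toImage.base := by
  rcases hyp with hqc | hred
  · haveI := hqc
    haveI hI : IsOpenImmersion h.toImage := inferInstance
    refine ⟨hI, fun W => ?_, (inferInstance : IsDominant h.toImage).denseRange⟩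
    haveI : IsSchemeTheoreticallyDominant h.toImage :=
      ⟨Groth.Agent.Helper3.ker_toImage_eq_bot h⟩
    haveI : IsSchemeTheoreticallyDominant (pullback.snd h.toImage W.ι) := inferInstance
    have hr : Set.range (pullback.snd h.toImage W.ι) =
        Set.range (h.image.homOfLE (inf_le_right : h.toImage.opensRange ⊓ W ≤ W)) := by
      rw [Scheme.Pullback.range_snd]
      have h1 := congrArg (fun O : W.toScheme.Opens => (O : Set W.toScheme))
        (Scheme.opensRange_homOfLE (X := h.image) (inf_le_right : h.toImage.opensRange ⊓ W ≤ W))
      simp only [Scheme.Hom.coe_opensRange] at h1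
      rw [h1]
      ext w
      simp only [Set.mem_preimage, Scheme.Hom.coe_preimage, Opens.coe_inf, Set.mem_inter_iff,
        SetLike.mem_coe, Scheme.Hom.coe_opensRange]
      constructor
      · intro hw
        exact ⟨hw, w.2⟩
      · intro hw
        exact hw.1
    let e := IsOpenImmersion.isoOfRangeEq (pullback.snd h.toImage W.ι)
      (h.image.homOfLE (inf_le_right : h.toImage.opensRange ⊓ W ≤ W)) hr
    have he : e.hom ≫ (h.image.homOfLE (inf_le_right : h.toImage.opensRange ⊓ W ≤ W)) =
        pullback.snd h.toImage W.ι := IsOpenImmersion.isoOfRangeEq_hom_fac _ _ _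
    have h2 : (h.image.homOfLE (inf_le_right : h.toImage.opensRange ⊓ W ≤ W)) =
        e.inv ≫ pullback.snd h.toImage W.ι := by
      rw [← he, Iso.inv_hom_id_assoc]
    rw [h2]
    infer_instance
  · haveI := hred
    have hker := ker_eq_vanishingIdeal_of_isReduced h
    haveI hYred : IsReduced h.image := by
      change IsReduced h.ker.subscheme
      rw [hker]
      exact isReduced_vanishingIdeal_subscheme _
    have hd : DenseRange h.toImage := by
      rw [denseRange_iff_closure_range, h.imageι.isEmbedding.closure_eq_preimage_closure_image,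
        ← Set.range_comp]
      have h2 : (⇑h.imageι ∘ ⇑h.toImage) = ⇑h := by
        funext z
        exact congr($(h.toImage_imageι) z)
      rw [h2, ← Set.univ_subset_iff]
      intro y _
      have hy : h.imageι y ∈ Set.range h.imageι := ⟨y, rfl⟩
      rw [Scheme.IdealSheafData.range_subschemeι, hker,
        Scheme.IdealSheafData.coe_support_vanishingIdeal] at hy
      exact hy
    haveI hI : IsOpenImmersion h.toImage := isOpenImmersion_of_isImmersion_of_denseRange _ hd
    refine ⟨hI, fun W => ?_, hd⟩
    haveI : IsReduced W.toScheme := inferInstance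
    haveI : IsDominant (h.image.homOfLE (inf_le_right : h.toImage.opensRange ⊓ W ≤ W)) := by
      constructor
      have h1 := congrArg (fun O : W.toScheme.Opens => (O : Set W.toScheme))
        (Scheme.opensRange_homOfLE (X := h.image) (inf_le_right : h.toImage.opensRange ⊓ W ≤ W))
      simp only [Scheme.Hom.coe_opensRange] at h1
      rw [DenseRange, h1]
      have h3 : Dense (W.ι ⁻¹' (Set.range h.toImage)) :=
        Dense.preimage hd W.ι.isOpenEmbedding.isOpenMap
      refine h3.mono ?_
      intro w hw
      exact ⟨hw, w.2⟩
    exact .of_isDominant _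

end Groth.Agent.Lead.SchDenseImm
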