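import Mathlib
import Groth.Agent.Lib.Helper4.Hartogs1
import Groth.Agent.Lib.Helper4.Hartogs4
import Groth.Agent.Lib.Helper4.CartierUFD2
import Groth.Agent.Lib.Lead.PicExt2
import Groth.Agent.Lib.Lead.PicExt3
import Groth.Agent.Lib.Lead.SchDenseImm

set_option autoImplicit false
set_option backward.isDefEq.respectTransparency.types false
set_option synthInstance.maxHeartbeats 400000
set_option linter.style.haveILetI false
set_option linter.unusedSectionVars false
universe u
open CategoryTheory CategoryTheory.Limits AlgebraicGeometry TopologicalSpace Opposite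

namespace Groth.Agent.Lead.CompAff

open Groth.Agent.Lib.Helper4

section Ring

variable (R : Type u) [CommRing R] [IsDomain R] [IsLocalRing R] [IsNoetherianRing R]
  [UniqueFactorizationMonoid R]

/-- a noetherian local factorial domain which is not a field has dimension one or depth at least two -/
theorem dim_one_or_depth (hnf : ¬ IsField R) :
    ringKrullDim R = 1 ∨ (2 : ℕ∞) ≤ LocCoh.depth R R := by
  have hm : IsLocalRing.maximalIdeal R ≠ ⊥ := IsLocalRing.isField_iff_maximalIdeal_eq.not.mp hnf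
  obtain ⟨a, ham, ha0⟩ := Submodule.exists_mem_ne_zero_of_ne_bot hm
  have hau : ¬ IsUnit a := (IsLocalRing.mem_maximalIdeal a).1 ham
  obtain ⟨π, hπi, -⟩ := WfDvdMonoid.exists_irreducible_factor hau ha0
  have hπp : Prime π := UniqueFactorizationMonoid.irreducible_iff_prime.1 hπi
  have hπm : π ∈ IsLocalRing.maximalIdeal R := (IsLocalRing.mem_maximalIdeal π).2 hπi.not_isUnit
  by_cases hprin : IsLocalRing.maximalIdeal R = Ideal.span {π}
  · left
    have h1 : (IsLocalRing.maximalIdeal R).IsPrincipal := ⟨⟨π, hprin⟩⟩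
    haveI : IsDiscreteValuationRing R := ((IsDiscreteValuationRing.TFAE R hnf).out 4 0).1 h1
    exact IsDiscreteValuationRing.ringKrullDim_eq_one R
  · right
    have hlt : ¬ (IsLocalRing.maximalIdeal R ≤ Ideal.span {π}) := by
      intro hle
      exact hprin (le_antisymm hle ((Ideal.span_singleton_le_iff_mem _).2 hπm))
    obtain ⟨y, hym, hy⟩ := SetLike.not_le_iff_exists.1 hlt
    rw [Hartogs1.two_le_depth_iff]
    right
    refine ⟨π, hπm, y, hym, ?_, ?_⟩
    · intro b c hbc
      exact mul_left_cancel₀ hπp.ne_zero hbc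
    · rw [Hartogs1.regular_quot_iff]
      intro n hn
      rw [Hartogs1.mem_smul_top_iff] at hn ⊢
      obtain ⟨n', hn'⟩ := hn
      have hdvd : π ∣ y * n := ⟨n', by simpa [smul_eq_mul] using hn'⟩
      rcases hπp.dvd_or_dvd hdvd with h | h
      · exact (hy (Ideal.mem_span_singleton.2 h)).elim
      · obtain ⟨c, hc⟩ := h
        exact ⟨c, by simpa [smul_eq_mul] using hc⟩

end Ring


section Sch

variable {X : Scheme.{u}}

/-- a point whose local ring is a field has no proper generization -/
theorem eq_of_specializes_of_isField (z : X) (hf : IsField (X.presheaf.stalk z)) (y : X)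
    (hy : y ⤳ z) : y = z := by
  have hy' : y ∈ Set.range (X.fromSpecStalk z) := by
    rw [Scheme.range_fromSpecStalk]
    exact hy
  obtain ⟨p, rfl⟩ := hy'
  letI := hf.toField
  have hp : p = IsLocalRing.closedPoint (X.presheaf.stalk z) :=
    @Subsingleton.elim (PrimeSpectrum (X.presheaf.stalk z)) inferInstance _ _
  rw [hp, Scheme.fromSpecStalk_closedPoint]

/-- a dense open contains every point whose local ring is a field -/
theorem mem_of_isField_stalk [IsLocallyNoetherian X] (U : X.Opens) (hdense : Dense (U : Set X))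
    (z : X) (hf : IsField (X.presheaf.stalk z)) : z ∈ U := by
  haveI : IsDomain (X.presheaf.stalk z) := hf.isDomain
  obtain ⟨W, hzW, hW⟩ := Groth.Agent.Lead.PicExt2.exists_integral_nhd_of_isDomain z
  obtain ⟨y, hyW, hyU⟩ := hdense.inter_open_nonempty W W.2 ⟨z, hzW⟩
  have hgen : W.ι (genericPoint (W : Scheme.{u})) ∈ U :=
    Groth.Agent.Lead.PicExt2.generic_mem U W ⟨y, hyW, hyU⟩
  have hsp : W.ι (genericPoint (W : Scheme.{u})) ⤳ z := by
    have h1 : genericPoint (W : Scheme.{u}) ⤳ (⟨z, hzW⟩ : W) :=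
      genericPoint_specializes _
    exact h1.map W.ι.continuous
  rw [eq_of_specializes_of_isField z hf _ hsp] at hgen
  exact hgen


/-- the preimage of an affine open under `Spec O_z ⟶ X` is affine when affine opens are stable under
intersection -/
theorem isAffineOpen_preimage_fromSpecStalk
    (hΔ : ∀ V W : X.Opens, IsAffineOpen V → IsAffineOpen W → IsAffineOpen (V ⊓ W))
    (U : X.Opens) (hU : IsAffineOpen U) (z : X) :
    IsAffineOpen ((X.fromSpecStalk z) ⁻¹ᵁ U) := by
  obtain ⟨W, hW, hzW, -⟩ := exists_isAffineOpen_mem_and_subset (x := z) (U := ⊤) trivial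
  have h1 : IsAffineOpen (hW.fromSpec ⁻¹ᵁ (W ⊓ U)) :=
    (hΔ W U hW hU).preimage_of_isOpenImmersion hW.fromSpec (by
      rw [hW.opensRange_fromSpec]; exact inf_le_left)
  have h2 : hW.fromSpec ⁻¹ᵁ (W ⊓ U) = hW.fromSpec ⁻¹ᵁ U := by
    ext p
    constructor
    · intro hp; exact hp.2
    · intro hp
      refine ⟨?_, hp⟩
      have : hW.fromSpec p ∈ hW.fromSpec.opensRange := ⟨p, rfl⟩
      rwa [hW.opensRange_fromSpec] at this
  rw [h2] at h1
  have h3 : X.fromSpecStalk z = Spec.map (X.presheaf.germ W z hzW) ≫ hW.fromSpec :=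
    (hW.fromSpecStalk_eq_fromSpecStalk hzW).symm
  rw [h3]
  exact h1.preimage (Spec.map (X.presheaf.germ W z hzW))

/-- a maximal point of the complement of an affine open has local ring of depth less than two -/
theorem mem_of_two_le_depth [IsLocallyNoetherian X]
    (hΔ : ∀ V W : X.Opens, IsAffineOpen V → IsAffineOpen W → IsAffineOpen (V ⊓ W))
    (U : X.Opens) (hU : IsAffineOpen U) (z : X)
    (hzmax : ∀ x' : X, x' ∉ U → x' ⤳ z → x' = z)
    (hdepth : (2 : ℕ∞) ≤ LocCoh.depth (X.presheaf.stalk z) (X.presheaf.stalk z)) : z ∈ U := by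
  by_contra hz
  let V : (Spec (X.presheaf.stalk z)).Opens := (X.fromSpecStalk z) ⁻¹ᵁ U
  have hV : IsAffineOpen V := isAffineOpen_preimage_fromSpecStalk hΔ U hU z
  have hpts : ∀ y : Spec (X.presheaf.stalk z), y ∉ V →
      y = IsLocalRing.closedPoint (X.presheaf.stalk z) := by
    intro y hy
    have h1 : X.fromSpecStalk z y ⤳ z := by
      have : X.fromSpecStalk z y ∈ Set.range (X.fromSpecStalk z) := ⟨y, rfl⟩
      rw [Scheme.range_fromSpecStalk] at this
      exact this
    have h2 : X.fromSpecStalk z y = z := hzmax _ hy h1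
    apply (X.fromSpecStalk z).isEmbedding.injective
    rw [h2, Scheme.fromSpecStalk_closedPoint]
  have hdepthY : ∀ y : Spec (X.presheaf.stalk z), y ∉ V → (2 : ℕ∞) ≤
      LocCoh.depth ((Spec (X.presheaf.stalk z)).presheaf.stalk y)
        ((Spec (X.presheaf.stalk z)).presheaf.stalk y) := by
    intro y hy
    rw [hpts y hy]
    rw [Hartogs4.depth_self_eq_of_ringEquiv
      (stalkClosedPointIso (X.presheaf.stalk z)).commRingCatIsoToRingEquiv.symm]
    exact hdepth
  haveI : IsAffine (V : Scheme.{u}) := hV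
  obtain ⟨g, hg, -⟩ := Hartogs4.S2848_main (Spec (X.presheaf.stalk z)) V V hdepthY (𝟙 _)
  obtain ⟨g', -, huniq⟩ := Hartogs4.S2848_main (Spec (X.presheaf.stalk z))
    (Spec (X.presheaf.stalk z)) V hdepthY V.ι
  have h1 : g ≫ V.ι = g' := huniq _ (by
    show V.ι ≫ g ≫ V.ι = V.ι
    rw [← Category.assoc, hg, Category.id_comp])
  have h2 : 𝟙 _ = g' := huniq _ (by
    show V.ι ≫ 𝟙 _ = V.ι
    exact Category.comp_id _)
  have h3 : g ≫ V.ι = 𝟙 _ := h1.trans h2.symm
  have h4 : IsLocalRing.closedPoint (X.presheaf.stalk z) ∈ V := by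
    have h5 : V.ι (g (IsLocalRing.closedPoint (X.presheaf.stalk z))) =
        IsLocalRing.closedPoint (X.presheaf.stalk z) := by
      rw [← Scheme.Hom.comp_apply, h3]
      rfl
    rw [← h5]
    exact (g (IsLocalRing.closedPoint (X.presheaf.stalk z))).2
  apply hz
  have h6 : X.fromSpecStalk z (IsLocalRing.closedPoint (X.presheaf.stalk z)) ∈ U := h4
  rwa [Scheme.fromSpecStalk_closedPoint] at h6

end Sch

end Groth.Agent.Lead.CompAff
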