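import Mathlib
import Groth.Agent.Lib.Lead.CompAff1

set_option autoImplicit false
set_option backward.isDefEq.respectTransparency.types false
set_option synthInstance.maxHeartbeats 400000
set_option linter.style.haveILetI false
set_option linter.unusedSectionVars false
universe u
open CategoryTheory CategoryTheory.Limits AlgebraicGeometry TopologicalSpace Opposite

namespace Groth.Agent.Lead.CompAff

open Groth.Agent.Lib.Helper4

/-- a reduced local ring whose maximal ideal is an associated prime is a field -/
theorem isField_of_isAssociatedPrime_maximalIdeal (A : Type u) [CommRing A] [IsLocalRing A]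
    [IsReduced A] (h : IsAssociatedPrime (IsLocalRing.maximalIdeal A) A) : IsField A := by
  obtain ⟨-, a, ha⟩ := h
  rw [IsLocalRing.isField_iff_maximalIdeal_eq]
  have hanil : ¬ IsNilpotent a := by
    intro hn
    have ha0 : a = 0 := hn.eq_zero
    have htop : (Submodule.colon (⊥ : Submodule A A) {a}) = ⊤ := by
      rw [Ideal.eq_top_iff_one, Submodule.mem_colon_singleton, ha0]
      simp
    rw [htop, Ideal.radical_top] at ha
    exact (IsLocalRing.maximalIdeal.isMaximal A).ne_top ha
  have hanr : a ∉ nilradical A := hanil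
  rw [nilradical_eq_sInf, Ideal.mem_sInf] at hanr
  simp only [not_forall] at hanr
  obtain ⟨Q, hQ, haQ⟩ := hanr
  have hQp : Q.IsPrime := hQ
  have hle : IsLocalRing.maximalIdeal A ≤ Q := by
    rw [ha]
    rw [hQp.isRadical.radical_le_iff] 
    intro r hr
    rw [Submodule.mem_colon_singleton] at hr
    have hra : r * a ∈ Q := by
      have : r • a = 0 := by simpa using hr
      rw [smul_eq_mul] at this
      rw [this]; exact Q.zero_mem
    exact (hQp.mem_or_mem hra).resolve_right haQ
  have hau : IsUnit a := by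
    by_contra hnu
    exact haQ (hle ((IsLocalRing.mem_maximalIdeal a).2 hnu))
  have hbot : (Submodule.colon (⊥ : Submodule A A) {a}) = ⊥ := by
    rw [eq_bot_iff]
    intro r hr
    rw [Submodule.mem_colon_singleton] at hr
    have : r • a = 0 := by simpa using hr
    rw [smul_eq_mul] at this
    have h0 : r = 0 := by
      obtain ⟨u, rfl⟩ := hau
      exact (Units.mul_left_eq_zero u).1 this
    rw [h0]; exact Submodule.zero_mem _
  rw [ha, hbot]
  exact (Ideal.isRadical_iff_quotient_reduced (⊥ : Ideal A)).2 (by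
    exact isReduced_of_injective (RingEquiv.quotientBot A).toRingHom (RingEquiv.quotientBot A).injective) |>.radical

end Groth.Agent.Lead.CompAff

namespace Groth.Agent.Lead.CompAff

open Groth.Agent.Lib.Helper4

theorem S1687_main (X : Scheme.{u}) [IsNoetherian X]
    (hΔ : ∀ V W : X.Opens, IsAffineOpen V → IsAffineOpen W → IsAffineOpen (V ⊓ W)) (U : X.Opens)
    (hU : IsAffineOpen U) (hdense : Dense (U : Set ↥X))
    (hufd : ∀ x : ↥X, x ∉ U → IsDomain (X.presheaf.stalk x) ∧
      UniqueFactorizationMonoid (X.presheaf.stalk x)) :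
    ∃ 𝓘 : X.IdealSheafData, BlowUp.IsEffCartierIdeal 𝓘 ∧
      (𝓘.support : Set ↥X) = (U : Set ↥X)ᶜ := by
  let Z : TopologicalSpace.Closeds X := ⟨(U : Set X)ᶜ, U.2.isClosed_compl⟩
  let 𝓘 : X.IdealSheafData := Scheme.IdealSheafData.vanishingIdeal Z
  have hsupp : (𝓘.support : Set X) = (U : Set X)ᶜ :=
    Scheme.IdealSheafData.coe_support_vanishingIdeal Z
  have hrange : Set.range 𝓘.subschemeι = (U : Set X)ᶜ := by
    rw [𝓘.range_subschemeι, hsupp]
  haveI : IsReduced 𝓘.subscheme :=
    Groth.Agent.Lead.SchDenseImm.isReduced_vanishingIdeal_subscheme Z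
  refine ⟨𝓘, ?_, hsupp⟩
  apply CartierUFD2.S1700_main X 𝓘
  · intro z hass z' hz'
    have hf : IsField (𝓘.subscheme.presheaf.stalk z) :=
      isField_of_isAssociatedPrime_maximalIdeal _ hass
    exact eq_of_specializes_of_isField z hf z' hz'
  · intro z hzmax
    have hxU : 𝓘.subschemeι z ∉ U := by
      have : 𝓘.subschemeι z ∈ Set.range 𝓘.subschemeι := ⟨z, rfl⟩
      rw [hrange] at this
      exact this
    obtain ⟨hdom, hUFD⟩ := hufd _ hxU
    have hnf : ¬ IsField (X.presheaf.stalk (𝓘.subschemeι z)) := by
      intro hf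
      exact hxU (mem_of_isField_stalk U hdense _ hf)
    rcases dim_one_or_depth (X.presheaf.stalk (𝓘.subschemeι z)) hnf with h | h
    · exact h
    · exfalso
      apply hxU
      refine mem_of_two_le_depth hΔ U hU _ ?_ h
      intro x' hx' hsp
      have hx'r : x' ∈ Set.range 𝓘.subschemeι := by rw [hrange]; exact hx'
      obtain ⟨z', rfl⟩ := hx'r
      have hsp' : z' ⤳ z := 𝓘.subschemeι.isEmbedding.isInducing.specializes_iff.1 hsp
      rw [hzmax z' hsp']
  · intro x hx
    apply hufd
    have : x ∈ (𝓘.support : Set X) := hx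
    rw [hsupp] at this
    exact this

theorem S1572_main (X : Scheme.{u}) [IsNoetherian X] [X.IsSeparated]
    (U : X.Opens) (hU : IsAffineOpen U) (hdense : Dense (U : Set X))
    (hufd : ∀ x : X, x ∉ U → IsDomain (X.presheaf.stalk x) ∧
      UniqueFactorizationMonoid (X.presheaf.stalk x)) :
    ∃ D : X.IdealSheafData, BlowUp.IsEffCartierIdeal D ∧ (D.support : Set X) = (U : Set X)ᶜ :=
  S1687_main X (fun V W hV hW => hV.inf hW) U hU hdense hufd

end Groth.Agent.Lead.CompAff
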