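import Mathlib
import Groth.Prelude.Def_Omega4
import Groth.Agent.Lib.Lead.ConComp

set_option autoImplicit false
universe u
open CategoryTheory CategoryTheory.Limits AlgebraicGeometry TopologicalSpace Opposite

set_option backward.isDefEq.respectTransparency.types false

namespace Groth.Agent.Lead.ConComp

open OmegaSh Groth.Agent.Lead.DerU Groth.Agent.Lead.IdM Groth.Agent.Lead.OmU
  Groth.Agent.Lead.BCU Groth.Agent.Lead.ConMap Groth.Agent.Lead.ConChart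

section PullComp

variable {X Y Z : Scheme.{u}} (f : X ⟶ Y) (g : Y ⟶ Z) (M : Z.Modules)

theorem pullbackComp_inv_app (W : Z.Opens) (m : Γ(M, W)) :
    ((Scheme.Modules.pullbackComp f g).inv.app M).app ((f ≫ g) ⁻¹ᵁ W) (pullSect (f ≫ g) M W m) =
      pullSect f ((Scheme.Modules.pullback g).obj M) (g ⁻¹ᵁ W) (pullSect g M W m) := by
  have h1 := unit_conjugateEquiv
    ((Scheme.Modules.pullbackPushforwardAdjunction g).comp
      (Scheme.Modules.pullbackPushforwardAdjunction f))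
    (Scheme.Modules.pullbackPushforwardAdjunction (f ≫ g)) (Scheme.Modules.pullbackComp f g).inv M
  rw [Scheme.Modules.conjugateEquiv_pullbackComp_inv] at h1
  have h2 := congrArg (fun ψ => Scheme.Modules.Hom.app ψ W m) h1
  rw [Adjunction.comp_unit_app] at h2
  exact h2.symm

end PullComp


section ResPull

variable {X Y : Scheme.{u}} (h : X ⟶ Y) (M : Y.Modules)

theorem pullSect_res {A A' : Y.Opens} (e : A' ≤ A) (ξ : Γ(M, A)) :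
    pullSect h M A' (res M e ξ) =
      res ((Scheme.Modules.pullback h).obj M) (h.preimage_mono e) (pullSect h M A ξ) :=
  app_res ((Scheme.Modules.pullbackPushforwardAdjunction h).unit.app M) e ξ

end ResPull

section CompGen

variable {Z₁ X₁ Z₂ X₂ Z₃ X₃ : Scheme.{u}} (i₁ : Z₁ ⟶ X₁) (i₂ : Z₂ ⟶ X₂) (i₃ : Z₃ ⟶ X₃)
  [QuasiCompact i₂]
  (g : X₁ ⟶ X₂) (h : Z₁ ⟶ Z₂) (g' : X₂ ⟶ X₃) (h' : Z₂ ⟶ Z₃)
  (β : (Scheme.Modules.pullback h).obj (Omega.conormal i₂) ⟶ Omega.conormal i₁)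
  (hβ : IsConormalMap i₁ i₂ g h β)
  (ψ : (Scheme.Modules.pullback h').obj (Omega.conormal i₃) ⟶ Omega.conormal i₂)
  (hψ : IsConormalMap i₂ i₃ g' h' ψ)

include hβ hψ in
/-- composition of canonical maps of conormal sheaves, general shape. -/
theorem isConormalMap_comp_gen :
    IsConormalMap i₁ i₃ (g ≫ g') (h ≫ h')
      ((Scheme.Modules.pullbackComp h h').inv.app (Omega.conormal i₃) ≫
        (Scheme.Modules.pullback h).map ψ ≫ β) := by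
  have hsq : (h ≫ h') ≫ i₃ = i₁ ≫ (g ≫ g') := by
    rw [Category.assoc, hψ.1, ← Category.assoc, hβ.1, Category.assoc]
  refine ⟨hsq, ?_⟩
  intro U' s' s hs V h₁ h₂
  set s₂ := liftI i₂ i₃ g' h' hψ.1 U' s' with hs₂
  have hs₂' := liftI_spec i₂ i₃ g' h' hψ.1 U' s'
  have hle : i₂ ⁻¹ᵁ (g' ⁻¹ᵁ U') ≤ h' ⁻¹ᵁ (i₃ ⁻¹ᵁ U') := by
    intro z hz
    have := congrArg (fun χ => χ.base z) hψ.1
    change (h' ≫ i₃).base z ∈ U'
    rw [show (h' ≫ i₃).base z = (i₂ ≫ g').base z from this]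
    exact hz
  have h1 := hψ.2 U' s' s₂ hs₂' (i₂ ⁻¹ᵁ (g' ⁻¹ᵁ U')) hle le_rfl
  have h1' : res (Omega.conormal i₂) hle
      (ψ.app (h' ⁻¹ᵁ (i₃ ⁻¹ᵁ U'))
        (pullSect h' (Omega.conormal i₃) (i₃ ⁻¹ᵁ U') (conormalSect i₃ U' s'))) =
      conormalSect i₂ (g' ⁻¹ᵁ U') s₂ := by
    refine h1.trans ?_
    change (Omega.conormal i₂).presheaf.map (𝟙 _) _ = _
    rw [CategoryTheory.Functor.map_id]
    rfl
  have hs' : idealSect i₁.ker (g ⁻¹ᵁ (g' ⁻¹ᵁ U')) s =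
      g.app (g' ⁻¹ᵁ U') (idealSect i₂.ker (g' ⁻¹ᵁ U') s₂) := by
    rw [hs₂']
    exact hs
  have hV₁ : V ≤ h ⁻¹ᵁ (i₂ ⁻¹ᵁ (g' ⁻¹ᵁ U')) := by
    intro z hz
    have h3 : z ∈ i₁ ⁻¹ᵁ (g ⁻¹ᵁ (g' ⁻¹ᵁ U')) := h₂ hz
    have := congrArg (fun χ => χ.base z) hβ.1
    change (h ≫ i₂).base z ∈ g' ⁻¹ᵁ U'
    rw [show (h ≫ i₂).base z = (i₁ ≫ g).base z from this]
    exact h3
  have h4 := hβ.2 (g' ⁻¹ᵁ U') s₂ s hs' V hV₁ h₂
  refine Eq.trans ?_ h4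
  -- unfold the composite
  have e1 : ((Scheme.Modules.pullbackComp h h').inv.app (Omega.conormal i₃) ≫
        (Scheme.Modules.pullback h).map ψ ≫ β).app ((h ≫ h') ⁻¹ᵁ (i₃ ⁻¹ᵁ U'))
        (pullSect (h ≫ h') (Omega.conormal i₃) (i₃ ⁻¹ᵁ U') (conormalSect i₃ U' s')) =
      β.app (h ⁻¹ᵁ (h' ⁻¹ᵁ (i₃ ⁻¹ᵁ U')))
        (pullSect h (Omega.conormal i₂) (h' ⁻¹ᵁ (i₃ ⁻¹ᵁ U'))
          (ψ.app (h' ⁻¹ᵁ (i₃ ⁻¹ᵁ U'))
            (pullSect h' (Omega.conormal i₃) (i₃ ⁻¹ᵁ U') (conormalSect i₃ U' s')))) := by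
    change β.app (h ⁻¹ᵁ (h' ⁻¹ᵁ (i₃ ⁻¹ᵁ U'))) (((Scheme.Modules.pullback h).map ψ).app
        (h ⁻¹ᵁ (h' ⁻¹ᵁ (i₃ ⁻¹ᵁ U')))
      (((Scheme.Modules.pullbackComp h h').inv.app (Omega.conormal i₃)).app
        ((h ≫ h') ⁻¹ᵁ (i₃ ⁻¹ᵁ U'))
        (pullSect (h ≫ h') (Omega.conormal i₃) (i₃ ⁻¹ᵁ U') (conormalSect i₃ U' s')))) = _
    rw [pullbackComp_inv_app]
    exact congrArg _ (pullSect_naturality h ψ _ _)
  rw [e1, ← h1', pullSect_res, app_res]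
  exact (res_res _ _ _ _).symm

end CompGen

end Groth.Agent.Lead.ConComp
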