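import Mathlib
import Groth.Prelude.Def_CAlgX
import Groth.Agent.Lib.Lead.ConChart1

set_option autoImplicit false
universe u

namespace Groth.Agent.Lead.H1Alg

open CAlgX

section Basic

variable {R : Type u} [CommRing R] {c : ℕ} (f : Fin c → R)

/-- the generators of the module of trivial relations. -/
def trivRel : Set (Fin c → R) :=
  {v | ∃ i j : Fin c, v = Pi.single i (f j) - Pi.single j (f i)}

theorem isH1Regular_iff :
    IsH1Regular f ↔ ∀ a : Fin c → R, ∑ i, a i * f i = 0 → a ∈ Submodule.span R (trivRel f) :=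
  Iff.rfl

/-- the components of a combination of trivial relations lie in the ideal of the sequence. -/
theorem apply_mem_of_mem_span (v : Fin c → R) (hv : v ∈ Submodule.span R (trivRel f)) (i : Fin c) :
    v i ∈ Ideal.span (Set.range f) := by
  induction hv using Submodule.span_induction with
  | mem x hx =>
    obtain ⟨p, q, rfl⟩ := hx
    rw [Pi.sub_apply]
    refine sub_mem ?_ ?_
    · by_cases h : i = p
      · subst h
        rw [Pi.single_eq_same]
        exact Ideal.subset_span ⟨q, rfl⟩
      · rw [Pi.single_eq_of_ne h]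
        exact zero_mem _
    · by_cases h : i = q
      · subst h
        rw [Pi.single_eq_same]
        exact Ideal.subset_span ⟨p, rfl⟩
      · rw [Pi.single_eq_of_ne h]
        exact zero_mem _
  | zero => exact zero_mem _
  | add x y _ _ hx hy => exact add_mem hx hy
  | smul a x _ hx => exact Ideal.mul_mem_left _ _ hx

/-- a combination of the sequence lying in the square of the ideal has coefficients in the
ideal (quasi-regularity in degree one). -/
theorem coeff_mem_of_sum_mem_sq (hf : IsH1Regular f) (b : Fin c → R)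
    (hb : ∑ i, b i * f i ∈ Ideal.span (Set.range f) ^ 2) (i : Fin c) :
    b i ∈ Ideal.span (Set.range f) := by
  rw [pow_two] at hb
  have h1 : ∑ i, b i * f i ∈ Ideal.span (Set.range f) • Submodule.span R (Set.range f) := hb
  rw [Submodule.mem_ideal_smul_span_iff_exists_sum] at h1
  obtain ⟨β, hβ, hsum⟩ := h1
  have h2 : ∑ i, (b i - β i) * f i = 0 := by
    have : ∑ i, β i * f i = ∑ i, b i * f i := by
      rw [← hsum, Finsupp.sum_fintype]
      · rfl
      · intro i; exact zero_smul _ _
    simp only [sub_mul, Finset.sum_sub_distrib, this, sub_self]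
  have h3 := hf (fun i => b i - β i) h2
  have h4 := apply_mem_of_mem_span f _ h3 i
  have h5 : b i = (b i - β i) + β i := by ring
  rw [h5]
  exact add_mem h4 (hβ i)

end Basic

section Loc

variable {R S : Type u} [CommRing R] [CommRing S] [Algebra R S] (g : R) [IsLocalization.Away g S]
  {c : ℕ} (f : Fin c → R)

/-- componentwise application of the structure map. -/
def mapVec : (Fin c → R) →ₗ[R] (Fin c → S) where
  toFun v := fun i => algebraMap R S (v i)
  map_add' v w := by funext i; simp
  map_smul' r v := by funext i; simp [Algebra.smul_def]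

theorem mapVec_mem (v : Fin c → R) (hv : v ∈ Submodule.span R (trivRel f)) :
    mapVec (S := S) v ∈ Submodule.span S (trivRel (fun i => algebraMap R S (f i))) := by
  induction hv using Submodule.span_induction with
  | mem x hx =>
    obtain ⟨p, q, rfl⟩ := hx
    refine Submodule.subset_span ⟨p, q, ?_⟩
    funext i
    change algebraMap R S ((Pi.single p (f q) - Pi.single q (f p) : Fin c → R) i) = _
    rw [Pi.sub_apply, Pi.sub_apply, map_sub]
    congr 1
    · by_cases h : i = p
      · subst h; rw [Pi.single_eq_same, Pi.single_eq_same]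
      · rw [Pi.single_eq_of_ne h, Pi.single_eq_of_ne h, map_zero]
    · by_cases h : i = q
      · subst h; rw [Pi.single_eq_same, Pi.single_eq_same]
      · rw [Pi.single_eq_of_ne h, Pi.single_eq_of_ne h, map_zero]
  | zero => rw [map_zero]; exact zero_mem _
  | add x y _ _ hx hy => rw [map_add]; exact add_mem hx hy
  | smul a x _ hx =>
    rw [map_smul, ← algebraMap_smul S a (mapVec (S := S) x)]
    exact Submodule.smul_mem _ _ hx

include g in
/-- `H_1`-regularity is preserved by localisation at an element. -/
theorem isH1Regular_away (hf : IsH1Regular f) :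
    IsH1Regular (fun i => algebraMap R S (f i)) := by
  intro a ha
  obtain ⟨b, hb⟩ := IsLocalization.exist_integer_multiples (Submonoid.powers g)
    (Finset.univ : Finset (Fin c)) a
  choose a' ha' using fun i => hb i (Finset.mem_univ i)
  have h1 : algebraMap R S (∑ i, a' i * f i) = 0 := by
    rw [map_sum]
    have : ∀ i, algebraMap R S (a' i * f i) = (b : R) • (a i * algebraMap R S (f i)) := by
      intro i
      rw [map_mul, ha' i, smul_mul_assoc]
    simp only [this]
    rw [← Finset.smul_sum, ha, smul_zero]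
  obtain ⟨m, hm⟩ := (IsLocalization.map_eq_zero_iff (Submonoid.powers g) S _).1 h1
  have h2 : ∑ i, ((m : R) * a' i) * f i = 0 := by
    have : ∀ i, ((m : R) * a' i) * f i = (m : R) * (a' i * f i) := fun i => by ring
    simp only [this]
    rw [← Finset.mul_sum, hm]
  have h3 := hf (fun i => (m : R) * a' i) h2
  have h4 := mapVec_mem (S := S) f _ h3
  have hu : IsUnit (algebraMap R S ((m : R) * (b : R))) := by
    rw [map_mul]
    exact (IsLocalization.map_units S m).mul (IsLocalization.map_units S b)
  have h5 : mapVec (S := S) (fun i => (m : R) * a' i) = algebraMap R S ((m : R) * (b : R)) • a := by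
    funext i
    change algebraMap R S ((m : R) * a' i) = algebraMap R S ((m : R) * (b : R)) * a i
    rw [map_mul, ha' i, map_mul, Algebra.smul_def, mul_assoc]
  rw [h5] at h4
  obtain ⟨u, hu'⟩ := hu
  have h6 : a = (↑u⁻¹ : S) • (algebraMap R S ((m : R) * (b : R)) • a) := by
    rw [smul_smul, ← hu', Units.inv_mul, one_smul]
  rw [h6]
  exact Submodule.smul_mem _ _ h4

end Loc

section Inf

variable {A B : Type u} [CommRing A] [CommRing B] (π : A →+* B) (hπ : Function.Surjective π)
  {c : ℕ} (fb : Fin c → B)

theorem sum_mem_of_ker (K : Ideal A) (f : Fin c → A) (hfK : ∀ i, f i ∈ K) (r : Fin c → A)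
    (hr : ∀ i, π (r i) = 0) : ∑ i, r i * f i ∈ K * RingHom.ker π := by
  refine Ideal.sum_mem _ fun i _ => ?_
  rw [mul_comm (r i) (f i)]
  exact Ideal.mul_mem_mul (hfK i) (hr i)

include hπ in
theorem sum_lift_mem (K : Ideal A) (f : Fin c → A) (hfK : ∀ i, f i ∈ K)
    (hf : ∀ i, π (f i) = fb i) (rb : Fin c → B) (hrb : rb ∈ Submodule.span B (trivRel fb)) :
    ∀ r : Fin c → A, (∀ i, π (r i) = rb i) → ∑ i, r i * f i ∈ K * RingHom.ker π := by
  induction hrb using Submodule.span_induction with
  | mem x hx =>
    obtain ⟨p, q, rfl⟩ := hx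
    intro r hr
    let r₀ : Fin c → A := Pi.single p (f q) - Pi.single q (f p)
    have h0 : ∑ i, r₀ i * f i = 0 := by
      simp only [r₀, Pi.sub_apply, sub_mul, Finset.sum_sub_distrib]
      rw [Finset.sum_eq_single p, Finset.sum_eq_single q]
      · rw [Pi.single_eq_same, Pi.single_eq_same, mul_comm, sub_self]
      · intro b _ hb; rw [Pi.single_eq_of_ne hb, zero_mul]
      · intro h; exact absurd (Finset.mem_univ _) h
      · intro b _ hb; rw [Pi.single_eq_of_ne hb, zero_mul]
      · intro h; exact absurd (Finset.mem_univ _) h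
    have h1 : ∀ i, π (r i - r₀ i) = 0 := by
      intro i
      rw [map_sub, hr i]
      simp only [r₀, Pi.sub_apply, map_sub]
      have e1 : π ((Pi.single p (f q) : Fin c → A) i) = (Pi.single p (fb q) : Fin c → B) i := by
        by_cases h : i = p
        · subst h; rw [Pi.single_eq_same, Pi.single_eq_same, hf]
        · rw [Pi.single_eq_of_ne h, Pi.single_eq_of_ne h, map_zero]
      have e2 : π ((Pi.single q (f p) : Fin c → A) i) = (Pi.single q (fb p) : Fin c → B) i := by
        by_cases h : i = q
        · subst h; rw [Pi.single_eq_same, Pi.single_eq_same, hf]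
        · rw [Pi.single_eq_of_ne h, Pi.single_eq_of_ne h, map_zero]
      rw [e1, e2, sub_self]
    have h2 : ∑ i, r i * f i = ∑ i, (r i - r₀ i) * f i := by
      simp only [sub_mul, Finset.sum_sub_distrib, h0, sub_zero]
    rw [h2]
    exact sum_mem_of_ker π K f hfK _ h1
  | zero =>
    intro r hr
    exact sum_mem_of_ker π K f hfK r hr
  | add x y _ _ hx hy =>
    intro r hr
    choose rx hrx using fun i => hπ (x i)
    have h1 := hx rx hrx
    have h2 := hy (fun i => r i - rx i) (fun i => by
      rw [map_sub, hr i, hrx i, Pi.add_apply, add_sub_cancel_left])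
    have h3 : ∑ i, r i * f i = ∑ i, rx i * f i + ∑ i, (r i - rx i) * f i := by
      rw [← Finset.sum_add_distrib]
      refine Finset.sum_congr rfl fun i _ => by ring
    rw [h3]
    exact add_mem h1 h2
  | smul b x _ hx =>
    intro r hr
    choose rx hrx using fun i => hπ (x i)
    obtain ⟨b', hb'⟩ := hπ b
    have h1 := hx rx hrx
    have h2 := sum_mem_of_ker π K f hfK (fun i => r i - b' * rx i) (fun i => by
      rw [map_sub, hr i, map_mul, hb', hrx i, Pi.smul_apply, smul_eq_mul, sub_self])
    have h3 : ∑ i, r i * f i = b' * ∑ i, rx i * f i + ∑ i, (r i - b' * rx i) * f i := by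
      rw [Finset.mul_sum, ← Finset.sum_add_distrib]
      refine Finset.sum_congr rfl fun i _ => by ring
    rw [h3]
    exact add_mem (Ideal.mul_mem_left _ _ h1) h2

include hπ in
theorem inf_sq_le_mul_aux (hfb : IsH1Regular fb) (K J : Ideal A)
    (hK : K = Ideal.comap π (Ideal.span (Set.range fb))) (hJ : J = RingHom.ker π) :
    J ⊓ K ^ 2 ≤ K * J := by
  choose f hf using fun i => hπ (fb i)
  have hfK : ∀ i, f i ∈ K := fun i => by
    rw [hK]
    change π (f i) ∈ Ideal.span (Set.range fb)
    rw [hf]
    exact Ideal.subset_span ⟨i, rfl⟩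
  obtain ⟨F, hF⟩ : ∃ F : Ideal A, F = Ideal.span (Set.range f) := ⟨_, rfl⟩
  have hFK : F ≤ K := by
    rw [hF]
    exact Ideal.span_le.2 (by rintro _ ⟨i, rfl⟩; exact hfK i)
  have hJK : J ≤ K := fun x hx => by
    rw [hK]
    change π x ∈ Ideal.span (Set.range fb)
    rw [hJ] at hx
    rw [RingHom.mem_ker.1 hx]
    exact zero_mem _
  have hKeq : K = F ⊔ J := by
    have h1 : Ideal.map π F = Ideal.span (Set.range fb) := by
      rw [hF, Ideal.map_span]
      congr 1
      ext y
      constructor
      · rintro ⟨_, ⟨i, rfl⟩, rfl⟩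
        exact ⟨i, (hf i).symm⟩
      · rintro ⟨i, rfl⟩
        exact ⟨f i, ⟨i, rfl⟩, hf i⟩
    rw [hK, ← h1, Ideal.comap_map_of_surjective π hπ, hJ]
    rfl
  have hsq : K ^ 2 ≤ K * J ⊔ F * F := by
    have e : K ^ 2 = (F ⊔ J) * (F ⊔ J) := by rw [pow_two, ← hKeq]
    rw [e, Ideal.sup_mul, Ideal.mul_sup, Ideal.mul_sup]
    refine sup_le (sup_le le_sup_right ?_) (sup_le ?_ ?_)
    · exact le_sup_of_le_left (Ideal.mul_mono_left hFK)
    · rw [mul_comm J F]
      exact le_sup_of_le_left (Ideal.mul_mono_left hFK)
    · exact le_sup_of_le_left (Ideal.mul_mono_left hJK)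
  intro x hx
  have hxJ : x ∈ J := (Submodule.mem_inf.1 hx).1
  have hxK : x ∈ K ^ 2 := (Submodule.mem_inf.1 hx).2
  have hx2 : x ∈ K * J ⊔ F * F := hsq hxK
  obtain ⟨y, hy, w, hw, hyw⟩ := Submodule.mem_sup.1 hx2
  rw [← hyw]
  refine add_mem hy ?_
  have hyJ : y ∈ J := (Ideal.mul_le_right (I := K) (J := J)) hy
  have hwJ : π w = 0 := by
    have h1 : π (y + w) = 0 := by
      rw [hyw]
      have := hxJ
      rw [hJ] at this
      exact this
    rw [hJ] at hyJ
    rw [map_add, RingHom.mem_ker.1 hyJ, zero_add] at h1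
    exact h1
  have h1 : w ∈ F • Submodule.span A (Set.range f) := by
    rw [hF] at hw ⊢
    exact hw
  rw [Submodule.mem_ideal_smul_span_iff_exists_sum] at h1
  obtain ⟨β, hβ, hsum⟩ := h1
  have hsum' : ∑ i, β i * f i = w := by
    rw [← hsum, Finsupp.sum_fintype]
    · rfl
    · intro i; exact zero_smul _ _
  have h2 : ∑ i, π (β i) * fb i = 0 := by
    have : ∀ i, π (β i) * fb i = π (β i * f i) := fun i => by rw [map_mul, hf]
    simp only [this]
    rw [← map_sum, hsum', hwJ]
  have h3 := hfb (fun i => π (β i)) h2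
  have h4 := sum_lift_mem π hπ fb K f hfK hf _ h3 (fun i => β i) (fun i => rfl)
  rw [hsum', ← hJ] at h4
  exact h4

include hπ in
/-- if the image of `K` in `A ⧸ J` is generated by an `H_1`-regular sequence then
`J ∩ K² ⊆ K J`. -/
theorem inf_sq_le_mul (hfb : IsH1Regular fb) :
    RingHom.ker π ⊓ (Ideal.comap π (Ideal.span (Set.range fb))) ^ 2 ≤
      Ideal.comap π (Ideal.span (Set.range fb)) * RingHom.ker π :=
  inf_sq_le_mul_aux π hπ fb hfb _ _ rfl rfl

end Inf

section Free

variable {B C : Type u} [CommRing B] [CommRing C] [Algebra B C]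
  (hs : Function.Surjective (algebraMap B C))
  {M N : Type u} [AddCommGroup M] [Module B M] [AddCommGroup N] [Module B N] [Module C N]
  [IsScalarTower B C N]
  (l : M →ₗ[B] N) (hb : IsBaseChange C l)
  (ι : M →ₗ[B] B) (hι : Function.Injective ι)
  (hr : LinearMap.range ι = RingHom.ker (algebraMap B C))
  {c : ℕ} (f : Fin c → B) (hf : IsH1Regular f)
  (hker : RingHom.ker (algebraMap B C) = Ideal.span (Set.range f))

include hs hb hι hr hf hker in
/-- the conormal module of an ideal generated by an `H_1`-regular sequence is free. -/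
theorem free_of_h1 : Module.Free C N ∧ Module.Finite C N := by
  have hmem : ∀ i, f i ∈ LinearMap.range ι := fun i => by
    rw [hr, hker]; exact Ideal.subset_span ⟨i, rfl⟩
  choose m hm using hmem
  let φ : (Fin c → C) →ₗ[C] N := Fintype.linearCombination C (fun i => l (m i))
  have hφ : ∀ y, φ y = ∑ i, y i • l (m i) := fun y => Fintype.linearCombination_apply C _ y
  have hcomb : ∀ b : Fin c → B, φ (fun i => algebraMap B C (b i)) = l (∑ i, b i • m i) := by
    intro b
    rw [hφ, map_sum]
    refine Finset.sum_congr rfl fun i _ => ?_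
    rw [map_smul, algebraMap_smul]
  have hιcomb : ∀ b : Fin c → B, ι (∑ i, b i • m i) = ∑ i, b i * f i := by
    intro b
    rw [map_sum]
    refine Finset.sum_congr rfl fun i _ => ?_
    rw [map_smul, hm, smul_eq_mul]
  have hbij : Function.Bijective φ := by
    constructor
    · rw [← LinearMap.ker_eq_bot, LinearMap.ker_eq_bot']
      intro y hy
      choose b hb' using fun i => hs (y i)
      have hy' : y = fun i => algebraMap B C (b i) := funext fun i => (hb' i).symm
      rw [hy', hcomb] at hy
      have h1 := (Groth.Agent.Lead.ConChart.bc_eq_zero_iff hs l hb ι hι hr _).1 hy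
      rw [hιcomb, hker] at h1
      funext i
      have h2 := coeff_mem_of_sum_mem_sq f hf b h1 i
      rw [← hker] at h2
      rw [hy']
      exact h2
    · intro n
      obtain ⟨x, rfl⟩ := Groth.Agent.Lead.ConChart.bc_surjective hs l hb n
      have hx : ι x ∈ Ideal.span (Set.range f) := by
        rw [← hker, ← hr]; exact ⟨x, rfl⟩
      obtain ⟨b, hb'⟩ := (Ideal.mem_span_range_iff_exists_fun).1 hx
      refine ⟨fun i => algebraMap B C (b i), ?_⟩
      rw [hcomb]
      congr 1
      apply hι
      rw [hιcomb, hb']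
  let e : (Fin c → C) ≃ₗ[C] N := LinearEquiv.ofBijective φ hbij
  exact ⟨Module.Free.of_equiv e, Module.Finite.equiv e⟩

end Free

end Groth.Agent.Lead.H1Alg
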