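import Mathlib
import Groth.Prelude.Def_Omega4
import Groth.Prelude.Def_RegImm
import Groth.Agent.Lib.Lead.ConChart4
import Groth.Agent.Lib.Lead.H1Alg
import Groth.Agent.Lib.Lead.FLF4

set_option autoImplicit false
universe u
open CategoryTheory CategoryTheory.Limits AlgebraicGeometry TopologicalSpace Opposite

set_option backward.isDefEq.respectTransparency.types false

namespace Groth.Agent.Lead.ConH1

open OmegaSh Groth.Agent.Lead.DerU Groth.Agent.Lead.IdM Groth.Agent.Lead.OmU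
  Groth.Agent.Lead.BCU Groth.Agent.Lead.ConMap Groth.Agent.Lead.ConChart Groth.Agent.Lead.H1Alg

section Chart

variable {Y' Y X : Scheme.{u}} (f : Y ⟶ X) [IsImmersion f] [QuasiCompact f]
    (j : Y' ⟶ Y) [IsImmersion j] [QuasiCompact j]

/-- charts adapted to `f`, `j ≫ f` and an `H_1`-regular chart of `j`. -/
theorem exists_chart_h1 (y' : Y') (hreg : RegImm.IsRegularImmersionAt .h1 j y')
    (O : Y'.Opens) (hy : y' ∈ O) :
    ∃ W : X.Opens, IsAffineOpen W ∧ W ≤ f.coborderRange ∧ W ≤ (j ≫ f).coborderRange ∧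
      y' ∈ (j ≫ f) ⁻¹ᵁ W ∧ (j ≫ f) ⁻¹ᵁ W ≤ O ∧
      ∃ (c : ℕ) (fb : Fin c → Γ(Y, f ⁻¹ᵁ W)), CAlgX.IsH1Regular fb ∧
        RingHom.ker (j.appLE (f ⁻¹ᵁ W) (j ⁻¹ᵁ (f ⁻¹ᵁ W)) le_rfl).hom =
          Ideal.span (Set.range fb) := by
  obtain ⟨U, hjU, -, rs, hrs, hker⟩ := hreg
  obtain ⟨W₀, hW₀, hW₀f, hW₀jf, hyW₀, hW₀O⟩ := exists_chart2 f j y' O hy
  have hV₀ : IsAffineOpen (f ⁻¹ᵁ W₀) := isAffineOpen_preimage_of_le_coborder f hW₀ hW₀f
  have hsf : Function.Surjective (f.appLE W₀ (f ⁻¹ᵁ W₀) le_rfl).hom :=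
    app_surjective_of_le_coborder f hW₀ hW₀f
  obtain ⟨g', gV, hgg, hyg⟩ := exists_basicOpen_le_affine_inter U.2 hV₀ (j y')
    ⟨hjU, hyW₀⟩
  obtain ⟨a, ha⟩ := hsf gV
  have ha' : (f.app W₀).hom a = gV := by
    rw [← ha, Scheme.Hom.appLE_eq_app]
  have hW : IsAffineOpen (X.basicOpen a) := hW₀.basicOpen a
  have hWW₀ : X.basicOpen a ≤ W₀ := X.basicOpen_le a
  have hD : f ⁻¹ᵁ X.basicOpen a = Y.basicOpen g' := by
    rw [Scheme.preimage_basicOpen, hgg]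
    congr 1
  have hDU : f ⁻¹ᵁ X.basicOpen a ≤ U.1 := by
    rw [hD]; exact Y.basicOpen_le g'
  have hDaff : IsAffineOpen (f ⁻¹ᵁ X.basicOpen a) :=
    isAffineOpen_preimage_of_le_coborder f hW (hWW₀.trans hW₀f)
  refine ⟨X.basicOpen a, hW, hWW₀.trans hW₀f, hWW₀.trans hW₀jf, ?_, ?_, ?_⟩
  · change j y' ∈ f ⁻¹ᵁ X.basicOpen a
    rw [hD]; exact hyg
  · exact le_trans (fun x hx => hWW₀ hx) hW₀O
  · letI alg := (Y.presheaf.map (homOfLE hDU).op).hom.toAlgebra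
    haveI : IsLocalization.Away g' Γ(Y, f ⁻¹ᵁ X.basicOpen a) :=
      U.2.isLocalization_of_eq_basicOpen g' (homOfLE hDU) hD
    have h1 := isH1Regular_away (S := Γ(Y, f ⁻¹ᵁ X.basicOpen a)) g' rs.get hrs
    refine ⟨rs.length, fun k => algebraMap Γ(Y, U.1) Γ(Y, f ⁻¹ᵁ X.basicOpen a) (rs.get k), h1, ?_⟩
    rw [ker_appLE_eq j hDaff]
    have h2 := j.ker.map_ideal (U := ⟨f ⁻¹ᵁ X.basicOpen a, hDaff⟩) (V := U) hDU
    rw [← h2, Scheme.Hom.ker_apply, hker]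
    change Ideal.map (algebraMap Γ(Y, U.1) Γ(Y, f ⁻¹ᵁ X.basicOpen a)) (Ideal.ofList rs) = _
    rw [Ideal.ofList, Ideal.map_span]
    congr 1
    ext x
    constructor
    · rintro ⟨r, hr, rfl⟩
      obtain ⟨k, rfl⟩ := List.mem_iff_get.1 hr
      exact ⟨k, rfl⟩
    · rintro ⟨k, rfl⟩
      exact ⟨rs.get k, List.get_mem _ _, rfl⟩

end Chart

section Inj

variable {Y' Y X : Scheme.{u}} (f : Y ⟶ X) [IsImmersion f] [QuasiCompact f]
    (j : Y' ⟶ Y) [IsImmersion j] [QuasiCompact j]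
    (φ₁ : (Scheme.Modules.pullback j).obj (Omega.conormal f) ⟶ Omega.conormal (j ≫ f))
    (hφ₁ : OmegaSh.IsConormalMap (j ≫ f) f (𝟙 X) j φ₁)
    {W : X.Opens} (hW : IsAffineOpen W) (hWf : W ≤ f.coborderRange)
    (hWjf : W ≤ (j ≫ f).coborderRange)
    {c : ℕ} (fb : Fin c → Γ(Y, f ⁻¹ᵁ W)) (hfb : CAlgX.IsH1Regular fb)
    (hker : RingHom.ker (j.appLE (f ⁻¹ᵁ W) (j ⁻¹ᵁ (f ⁻¹ᵁ W)) le_rfl).hom =
      Ideal.span (Set.range fb))

omit [IsImmersion f] [IsImmersion j] [QuasiCompact j] in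
/-- pulled back classes of sections of `K J` vanish. -/
theorem pull_cls_eq_zero (x : Γ(X, W))
    (hx : x ∈ RingHom.ker ((j ≫ f).app W).hom * RingHom.ker (f.app W).hom) :
    ∀ σ : Γ(ClSub.idealMod f.ker, W), idealSect f.ker W σ = x →
      pullSect j (Omega.conormal f) (f ⁻¹ᵁ W) (conormalSect f W σ) = 0 := by
  refine Submodule.mul_induction_on' (C := fun x _ => ∀ σ : Γ(ClSub.idealMod f.ker, W),
    idealSect f.ker W σ = x →
      pullSect j (Omega.conormal f) (f ⁻¹ᵁ W) (conormalSect f W σ) = 0) ?_ ?_ hx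
  · intro k hk y hy σ hσ
    obtain ⟨σy, hσy⟩ := exists_idealSect f W y hy
    have e : σ = k • σy := idealSect_injective f.ker W (by
      rw [hσ, idealSect_smul, hσy])
    rw [e, conormalSect_smul]
    have h0 : (j.app (f ⁻¹ᵁ W)).hom ((f.app W).hom k) = 0 := hk
    have h1 := pullSect_smul j (Omega.conormal f) (f ⁻¹ᵁ W) ((f.app W).hom k)
      (conormalSect f W σy)
    refine h1.trans ?_
    change (j.app (f ⁻¹ᵁ W)).hom ((f.app W).hom k) • _ = _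
    rw [h0, zero_smul]
  · intro x₁ hx₁ x₂ hx₂ h₁ h₂ σ hσ
    have hx₁' : (f.app W).hom x₁ = 0 := Ideal.mul_le_right hx₁
    have hx₂' : (f.app W).hom x₂ = 0 := Ideal.mul_le_right hx₂
    obtain ⟨σ₁, hσ₁⟩ := exists_idealSect f W x₁ hx₁'
    obtain ⟨σ₂, hσ₂⟩ := exists_idealSect f W x₂ hx₂'
    have e : σ = σ₁ + σ₂ := idealSect_injective f.ker W (by
      rw [hσ, map_add, hσ₁, hσ₂])
    rw [e, map_add, map_add, h₁ σ₁ hσ₁, h₂ σ₂ hσ₂, add_zero]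

include hφ₁ hW hWf hWjf hfb hker in
theorem φ₁_injective_chart : Function.Injective (φ₁.app ((j ≫ f) ⁻¹ᵁ W)) := by
  rw [injective_iff_map_eq_zero]
  intro m hm
  have hV : IsAffineOpen (f ⁻¹ᵁ W) := isAffineOpen_preimage_of_le_coborder f hW hWf
  have hO : IsAffineOpen (j ⁻¹ᵁ (f ⁻¹ᵁ W)) :=
    isAffineOpen_preimage_of_le_coborder (j ≫ f) hW hWjf
  have hsf : Function.Surjective (f.appLE W (f ⁻¹ᵁ W) le_rfl).hom :=
    app_surjective_of_le_coborder f hW hWf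
  have hsj := surj_j f j hW hWjf
  haveI : (ClSub.idealMod f.ker).IsQuasicoherent :=
    Groth.Agent.Helper1.IdealModL.isQuasicoherent_idealMod f.ker
  haveI : (Omega.conormal f).IsQuasicoherent :=
    Groth.Agent.Lead.PB.isQuasicoherent_pullback _ _
  obtain ⟨n, rfl⟩ : ∃ n, pullSect j (Omega.conormal f) (f ⁻¹ᵁ W) n = m := by
    letI algAB := (j.appLE (f ⁻¹ᵁ W) (j ⁻¹ᵁ (f ⁻¹ᵁ W)) le_rfl).hom.toAlgebra
    letI : Module Γ(Y, f ⁻¹ᵁ W)
        Γ((Scheme.Modules.pullback j).obj (Omega.conormal f), j ⁻¹ᵁ (f ⁻¹ᵁ W)) :=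
      Module.compHom _ (j.appLE (f ⁻¹ᵁ W) (j ⁻¹ᵁ (f ⁻¹ᵁ W)) le_rfl).hom
    haveI : IsScalarTower Γ(Y, f ⁻¹ᵁ W) Γ(Y', j ⁻¹ᵁ (f ⁻¹ᵁ W))
        Γ((Scheme.Modules.pullback j).obj (Omega.conormal f), j ⁻¹ᵁ (f ⁻¹ᵁ W)) :=
      ⟨fun a a' n => by
        change ((j.appLE (f ⁻¹ᵁ W) (j ⁻¹ᵁ (f ⁻¹ᵁ W)) le_rfl).hom a * a') • n =
          (j.appLE (f ⁻¹ᵁ W) (j ⁻¹ᵁ (f ⁻¹ᵁ W)) le_rfl).hom a • a' • n
        exact mul_smul _ _ _⟩
    obtain ⟨l₁, hl₁, hb₁⟩ := isBC_unitRes j (Omega.conormal f) hV hO le_rfl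
    obtain ⟨n, hn⟩ := bc_surjective hsj l₁ hb₁ m
    refine ⟨n, ?_⟩
    rw [← hn, hl₁, unitRes_self]
  obtain ⟨σ, rfl⟩ := cls_surjective f hW hWf n
  have hk : ((j ≫ f).app W).hom (idealSect f.ker W σ) = 0 := by
    have h1 : ((j ≫ f).app W).hom (idealSect f.ker W σ) =
        (j.app (f ⁻¹ᵁ W)).hom ((f.app W).hom (idealSect f.ker W σ)) := rfl
    rw [h1]
    have := app_idealSect f W σ
    change (j.app (f ⁻¹ᵁ W)).hom ((f.app W) (idealSect f.ker W σ)) = 0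
    rw [this, map_zero]
  obtain ⟨s, hs⟩ := exists_idealSect (j ≫ f) W _ hk
  have h5 := φ₁_cls f j φ₁ hφ₁ W σ s hs
  have h6 : conormalSect (j ≫ f) W s = 0 := h5.symm.trans hm
  rw [cls_eq_zero_iff (j ≫ f) hW hWjf, hs] at h6
  refine pull_cls_eq_zero f j _ ?_ σ rfl
  have hcomp : (j.appLE (f ⁻¹ᵁ W) (j ⁻¹ᵁ (f ⁻¹ᵁ W)) le_rfl).hom.comp
      (f.appLE W (f ⁻¹ᵁ W) le_rfl).hom = ((j ≫ f).appLE W ((j ≫ f) ⁻¹ᵁ W) le_rfl).hom := by
    rw [← CommRingCat.hom_comp, Scheme.Hom.appLE_comp_appLE]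
    rfl
  have hK : Ideal.comap (f.appLE W (f ⁻¹ᵁ W) le_rfl).hom (Ideal.span (Set.range fb)) =
      RingHom.ker ((j ≫ f).appLE W ((j ≫ f) ⁻¹ᵁ W) le_rfl).hom := by
    rw [← hker, RingHom.comap_ker, hcomp]
    rfl
  have h7 := inf_sq_le_mul (f.appLE W (f ⁻¹ᵁ W) le_rfl).hom hsf fb hfb
  rw [hK] at h7
  have h8 : idealSect f.ker W σ ∈ RingHom.ker (f.appLE W (f ⁻¹ᵁ W) le_rfl).hom := by
    rw [Scheme.Hom.appLE_eq_app]
    exact app_idealSect f W σ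
  have h9 := h7 ⟨h8, h6⟩
  rw [Scheme.Hom.appLE_eq_app, Scheme.Hom.appLE_eq_app] at h9
  exact h9

include hφ₁ in
/-- the first map of the conormal sequence of a composite is a monomorphism when the inner
immersion is `H_1`-regular. -/
theorem mono_φ₁ (hreg : ∀ y' : Y', RegImm.IsRegularImmersionAt .h1 j y') : Mono φ₁ := by
  apply mono_of_locally_injective
  intro y' O hy
  obtain ⟨W, hW, hWf, hWjf, hyW, hWO, c, fb, hfb, hker⟩ := exists_chart_h1 f j y' (hreg y') O hy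
  exact ⟨(j ≫ f) ⁻¹ᵁ W, hyW, hWO, φ₁_injective_chart f j φ₁ hφ₁ hW hWf hWjf fb hfb hker⟩

end Inj

section FLF

variable {Y' Y : Scheme.{u}} (j : Y' ⟶ Y) [IsImmersion j] [QuasiCompact j]

omit [QuasiCompact j] in
theorem le_coborder_of_isClosedImmersion_restrict (U : Y.Opens) [IsClosedImmersion (j ∣_ U)] :
    U ≤ j.coborderRange := by
  intro x hx
  change x ∈ coborder (Set.range j.base)
  rw [coborder_eq_union_closure_compl]
  by_cases hc : x ∈ closure (Set.range j.base)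
  · left
    have hcl : IsClosed (Set.range (j ∣_ U).base) := (j ∣_ U).isClosedEmbedding.isClosed_range
    have hS : Set.range (j ∣_ U).base = Subtype.val ⁻¹' (Set.range j.base) := by
      ext u
      constructor
      · rintro ⟨v, rfl⟩
        exact ⟨v.1, (morphismRestrict_base_coe j U v).symm⟩
      · rintro ⟨y, hy⟩
        have hyU : y ∈ j ⁻¹ᵁ U := by
          change j.base y ∈ U
          rw [hy]; exact u.2
        refine ⟨⟨y, hyU⟩, Subtype.ext ?_⟩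
        rw [morphismRestrict_base_coe]
        exact hy
    obtain ⟨C, hC, hCS⟩ := isClosed_induced_iff.1 hcl
    have h2 : x ∈ closure ((U : Set Y) ∩ Set.range j.base) := U.2.inter_closure ⟨hx, hc⟩
    have h3 : (U : Set Y) ∩ Set.range j.base ⊆ C := by
      rintro y ⟨hyU, hyr⟩
      exact (Set.ext_iff.1 hCS ⟨y, hyU⟩).2 ((Set.ext_iff.1 hS ⟨y, hyU⟩).2 hyr)
    have h4 : x ∈ C := (closure_minimal h3 hC) h2
    exact (Set.ext_iff.1 hS ⟨x, hx⟩).1 ((Set.ext_iff.1 hCS ⟨x, hx⟩).1 h4)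
  · right
    exact hc

/-- the conormal sheaf of an `H_1`-regular quasi-compact immersion is finite locally free. -/
theorem isFinLocFree_conormal (hreg : ∀ y' : Y', RegImm.IsRegularImmersionAt .h1 j y') :
    FlatMod.IsFinLocFree (Omega.conormal j) := by
  haveI : (ClSub.idealMod j.ker).IsQuasicoherent :=
    Groth.Agent.Helper1.IdealModL.isQuasicoherent_idealMod j.ker
  haveI : (Omega.conormal j).IsQuasicoherent :=
    Groth.Agent.Lead.PB.isQuasicoherent_pullback _ _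
  apply Groth.Agent.Lead.FLF.isFinLocFree_of_affine_nhds
  intro y'
  obtain ⟨U, hjU, hci, rs, hrs, hker⟩ := hreg y'
  haveI := hci
  have hUc : U.1 ≤ j.coborderRange := le_coborder_of_isClosedImmersion_restrict j U.1
  have hV : IsAffineOpen (j ⁻¹ᵁ U.1) := isAffineOpen_preimage_of_le_coborder j U.2 hUc
  have hs : Function.Surjective (j.appLE U.1 (j ⁻¹ᵁ U.1) le_rfl).hom :=
    app_surjective_of_le_coborder j U.2 hUc
  refine ⟨j ⁻¹ᵁ U.1, hV, hjU, ?_⟩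
  letI algAB := (j.appLE U.1 (j ⁻¹ᵁ U.1) le_rfl).hom.toAlgebra
  letI : Module Γ(Y, U.1) Γ((Scheme.Modules.pullback j).obj (ClSub.idealMod j.ker), j ⁻¹ᵁ U.1) :=
    Module.compHom _ (j.appLE U.1 (j ⁻¹ᵁ U.1) le_rfl).hom
  haveI : IsScalarTower Γ(Y, U.1) Γ(Y', j ⁻¹ᵁ U.1)
      Γ((Scheme.Modules.pullback j).obj (ClSub.idealMod j.ker), j ⁻¹ᵁ U.1) :=
    ⟨fun a a' n => by
      change ((j.appLE U.1 (j ⁻¹ᵁ U.1) le_rfl).hom a * a') • n =
        (j.appLE U.1 (j ⁻¹ᵁ U.1) le_rfl).hom a • a' • n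
      exact mul_smul _ _ _⟩
  obtain ⟨l₁, hl₁, hb₁⟩ := isBC_unitRes j (ClSub.idealMod j.ker) U.2 hV le_rfl
  have hkerA : RingHom.ker (algebraMap Γ(Y, U.1) Γ(Y', j ⁻¹ᵁ U.1)) =
      RingHom.ker (j.app U.1).hom := by
    change RingHom.ker (j.appLE U.1 (j ⁻¹ᵁ U.1) le_rfl).hom = _
    rw [Scheme.Hom.appLE_eq_app]
  have hr : LinearMap.range (ιL j.ker U.1) =
      RingHom.ker (algebraMap Γ(Y, U.1) Γ(Y', j ⁻¹ᵁ U.1)) := by
    rw [hkerA, range_ιL j.ker U, Scheme.Hom.ker_apply]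
  have hkk : RingHom.ker (algebraMap Γ(Y, U.1) Γ(Y', j ⁻¹ᵁ U.1)) =
      Ideal.span (Set.range rs.get) := by
    rw [hkerA, hker, Ideal.ofList]
    congr 1
    ext x
    constructor
    · intro hx
      obtain ⟨k, rfl⟩ := List.mem_iff_get.1 hx
      exact ⟨k, rfl⟩
    · rintro ⟨k, rfl⟩
      exact List.get_mem _ _
  obtain ⟨h1, h2⟩ := free_of_h1 hs l₁ hb₁ (ιL j.ker U.1) (ιL_injective j.ker U.1) hr rs.get hrs hkk
  have h3 : Module.Projective Γ(Y', j ⁻¹ᵁ U.1)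
      Γ((Scheme.Modules.pullback j).obj (ClSub.idealMod j.ker), j ⁻¹ᵁ U.1) := by
    haveI := h1
    infer_instance
  exact ⟨h2, h3⟩

end FLF

theorem main {Z Y X : Scheme.{u}} (i : Z ⟶ Y) (j : Y ⟶ X) [IsImmersion i] [IsImmersion j]
    [QuasiCompact i] [QuasiCompact j]
    (a : (Scheme.Modules.pullback i).obj (Omega.conormal j) ⟶ Omega.conormal (i ≫ j))
    (ha : OmegaSh.IsConormalMap (i ≫ j) j (𝟙 X) i a)
    (b : (Scheme.Modules.pullback (𝟙 Z)).obj (Omega.conormal (i ≫ j)) ⟶ Omega.conormal i)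
    (hb : OmegaSh.IsConormalMap i (i ≫ j) j (𝟙 Z) b)
    (hi : RegImm.IsRegularImmersion RegImm.Kind.h1 i) :
    a ≫ ((Scheme.Modules.pullbackId Z).inv.app (Omega.conormal (i ≫ j)) ≫ b) = 0 ∧
      (∀ w : a ≫ ((Scheme.Modules.pullbackId Z).inv.app (Omega.conormal (i ≫ j)) ≫ b) = 0,
        (ShortComplex.mk a ((Scheme.Modules.pullbackId Z).inv.app (Omega.conormal (i ≫ j)) ≫ b)
          w).ShortExact) ∧
      FlatMod.IsFinLocFree (Omega.conormal i) := by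
  refine ⟨comp_zero j i a ha b hb, ?_, isFinLocFree_conormal i hi.2⟩
  intro w
  haveI : Mono a := mono_φ₁ j i a ha hi.2
  haveI : Epi b := epi_φ₂ j i b hb
  haveI : Epi ((Scheme.Modules.pullbackId Z).inv.app (Omega.conormal (i ≫ j)) ≫ b) :=
    epi_comp _ _
  exact ShortComplex.ShortExact.mk' (exact_φ₁_θ j i a ha b hb) ‹_› ‹_›

end Groth.Agent.Lead.ConH1
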