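import Mathlib

set_option autoImplicit false
set_option backward.isDefEq.respectTransparency.types false
set_option synthInstance.maxHeartbeats 400000
set_option linter.style.haveILetI false
set_option linter.unusedSectionVars false

namespace Groth.Agent.Lead.CplStalk

open IsLocalRing

universe u

section alg

variable {A Â R R' : Type u} [CommRing A] [CommRing Â] [CommRing R] [CommRing R']
  (α : A →+* R) (γ : A →+* Â) (φ : R →+* R') (β : Â →+* R')
  (hsq : φ.comp α = β.comp γ)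
  (P1 : Subring.closure (Set.range φ ∪ Set.range β) = ⊤)
  (P2 : ∀ (T : Type u) [CommRing T] (u : R →+* T) (v : Â →+* T), u.comp α = v.comp γ →
    ∃ w : R' →+* T, w.comp φ = u ∧ w.comp β = v)
  (m : Ideal A) (n : ℕ) (hn : 1 ≤ n)
  (H1 : ∀ x : Â, ∃ a : A, x - γ a ∈ (m ^ n).map γ)
  (H2 : ∃ e : Â →+* A ⧸ m ^ n, e.comp γ = Ideal.Quotient.mk (m ^ n))

include hsq P1 H1 in
theorem F1 (x : R') : ∃ r : R, x - φ r ∈ (m ^ n).map (φ.comp α) := by
  have hx : x ∈ Subring.closure (Set.range φ ∪ Set.range β) := P1 ▸ Subring.mem_top x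
  induction hx using Subring.closure_induction with
  | mem x hx =>
    rcases hx with ⟨r, rfl⟩ | ⟨y, rfl⟩
    · exact ⟨r, by rw [sub_self]; exact Ideal.zero_mem _⟩
    · obtain ⟨a, ha⟩ := H1 y
      refine ⟨α a, ?_⟩
      have h1 : φ (α a) = β (γ a) := congrArg (fun t : A →+* R' => t a) hsq
      rw [h1, ← map_sub]
      have h2 : β (y - γ a) ∈ ((m ^ n).map γ).map β := Ideal.mem_map_of_mem _ ha
      rw [Ideal.map_map, ← hsq] at h2
      exact h2
  | zero => exact ⟨0, by rw [map_zero, sub_self]; exact Ideal.zero_mem _⟩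
  | one => exact ⟨1, by rw [map_one, sub_self]; exact Ideal.zero_mem _⟩
  | add x y _ _ hx hy =>
    obtain ⟨r, hr⟩ := hx
    obtain ⟨s, hs⟩ := hy
    refine ⟨r + s, ?_⟩
    have : x + y - φ (r + s) = (x - φ r) + (y - φ s) := by rw [map_add]; ring
    rw [this]
    exact Ideal.add_mem _ hr hs
  | neg x _ hx =>
    obtain ⟨r, hr⟩ := hx
    refine ⟨-r, ?_⟩
    have : -x - φ (-r) = -(x - φ r) := by rw [map_neg]; ring
    rw [this]
    exact Ideal.neg_mem_iff _ |>.mpr hr
  | mul x y _ _ hx hy =>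
    obtain ⟨r, hr⟩ := hx
    obtain ⟨s, hs⟩ := hy
    refine ⟨r * s, ?_⟩
    have : x * y - φ (r * s) = (x - φ r) * y + φ r * (y - φ s) := by rw [map_mul]; ring
    rw [this]
    exact Ideal.add_mem _ (Ideal.mul_mem_right _ _ hr) (Ideal.mul_mem_left _ _ hs)

include P2 H2 in
theorem F2 : ∃ θ : R' →+* R ⧸ (m ^ n).map α, θ.comp φ = Ideal.Quotient.mk _ ∧
    (m ^ n).map (φ.comp α) ≤ RingHom.ker θ := by
  obtain ⟨e, he⟩ := H2
  have hle : m ^ n ≤ ((m ^ n).map α).comap α := Ideal.le_comap_map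
  obtain ⟨θ, hθ1, -⟩ := P2 (R ⧸ (m ^ n).map α) (Ideal.Quotient.mk _)
    ((Ideal.quotientMap ((m ^ n).map α) α hle).comp e) (by
      rw [RingHom.comp_assoc, he]
      ext a
      simp)
  refine ⟨θ, hθ1, ?_⟩
  rw [← Ideal.map_map, Ideal.map_le_iff_le_comap]
  intro i hi
  rw [Ideal.mem_comap, RingHom.mem_ker]
  have : θ (φ i) = Ideal.Quotient.mk _ i := congrArg (fun t : R →+* _ => t i) hθ1
  rw [this]
  exact Ideal.Quotient.eq_zero_iff_mem.mpr hi

section loc

variable (p' : Ideal R) [p'.IsPrime] (hp : m ≤ p'.comap α)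
  (q' : Ideal R') [q'.IsPrime] (hq : q'.comap φ = p')
  (S S' : Type u) [CommRing S] [CommRing S'] [Algebra R S] [Algebra R' S']
  [IsLocalization.AtPrime S p'] [IsLocalization.AtPrime S' q']
  [IsLocalRing S] [IsLocalRing S']
  (ψ : S →+* S') (hψ : ψ.comp (algebraMap R S) = (algebraMap R' S').comp φ)

include hn hp hq in
theorem J_le_pow : (m ^ n).map (φ.comp α) ≤ q' ^ n := by
  rw [Ideal.map_pow]
  refine Ideal.pow_right_mono ?_ n
  rw [Ideal.map_le_iff_le_comap, ← Ideal.comap_comap, hq]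
  exact hp

include hn hp hq in
theorem J_le : (m ^ n).map (φ.comp α) ≤ q' :=
  (J_le_pow α φ m n hn p' hp q' hq).trans (Ideal.pow_le_self (by omega))

include hn hp hq in
theorem mapJ_le : ((m ^ n).map (φ.comp α)).map (algebraMap R' S') ≤ maximalIdeal S' ^ n := by
  rw [← IsLocalization.AtPrime.map_eq_maximalIdeal q' S', ← Ideal.map_pow]
  exact Ideal.map_mono (J_le_pow α φ m n hn p' hp q' hq)

include hsq P1 H1 hn hp hq hψ in
theorem surj (y : S') : ∃ z : S, y - ψ z ∈ maximalIdeal S' ^ n := by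
  obtain ⟨x, s, rfl⟩ := IsLocalization.exists_mk'_eq q'.primeCompl y
  obtain ⟨r, hr⟩ := F1 α γ φ β hsq P1 m n H1 x
  obtain ⟨t, ht⟩ := F1 α γ φ β hsq P1 m n H1 s.1
  have hJ := J_le α φ m n hn p' hp q' hq
  have htp : t ∉ p' := by
    intro htp
    have h1 : φ t ∈ q' := by rw [← hq] at htp; exact htp
    have h2 : (s : R') ∈ q' := by
      have : (s : R') = (s.1 - φ t) + φ t := by ring
      rw [this]
      exact Ideal.add_mem _ (hJ ht) h1
    exact s.2 h2
  have hφt : φ t ∈ q'.primeCompl := by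
    intro h1
    apply htp
    rw [← hq]
    exact h1
  let tt : p'.primeCompl := ⟨t, htp⟩
  refine ⟨IsLocalization.mk' S r tt, ?_⟩
  have hu : IsUnit (algebraMap R' S' s.1) := IsLocalization.map_units S' s
  have hv : IsUnit (algebraMap R' S' (φ t)) := IsLocalization.map_units S' ⟨φ t, hφt⟩
  rw [← Ideal.mul_unit_mem_iff_mem _ (hu.mul hv)]
  have e1 : IsLocalization.mk' S' x s * algebraMap R' S' s.1 = algebraMap R' S' x :=
    IsLocalization.mk'_spec S' x s
  have e2 : ψ (IsLocalization.mk' S r tt) * algebraMap R' S' (φ t) =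
      algebraMap R' S' (φ r) := by
    have h1 : algebraMap R' S' (φ t) = ψ (algebraMap R S t) :=
      (congrArg (fun g : R →+* S' => g t) hψ).symm
    have h2 : algebraMap R' S' (φ r) = ψ (algebraMap R S r) :=
      (congrArg (fun g : R →+* S' => g r) hψ).symm
    rw [h1, h2, ← map_mul]
    congr 1
    exact IsLocalization.mk'_spec S r tt
  have e3 : (IsLocalization.mk' S' x s - ψ (IsLocalization.mk' S r tt)) *
      (algebraMap R' S' s.1 * algebraMap R' S' (φ t)) =
      algebraMap R' S' ((x - φ r) * φ t - φ r * (s.1 - φ t)) := by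
    have : (IsLocalization.mk' S' x s - ψ (IsLocalization.mk' S r tt)) *
      (algebraMap R' S' s.1 * algebraMap R' S' (φ t)) =
      (IsLocalization.mk' S' x s * algebraMap R' S' s.1) * algebraMap R' S' (φ t) -
      (ψ (IsLocalization.mk' S r tt) * algebraMap R' S' (φ t)) * algebraMap R' S' s.1 := by
      ring
    rw [this, e1, e2, ← map_mul, ← map_mul, ← map_sub]
    congr 1
    ring
  rw [e3]
  refine mapJ_le α φ m n hn p' hp q' hq S' (Ideal.mem_map_of_mem _ ?_)
  exact Ideal.sub_mem _ (Ideal.mul_mem_right _ _ hr) (Ideal.mul_mem_left _ _ ht)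

include hsq P1 P2 H1 H2 hn hp hq hψ in
theorem inj (z : S) (hz : ψ z ∈ maximalIdeal S' ^ n) : z ∈ maximalIdeal S ^ n := by
  obtain ⟨θ, hθ1, hθ2⟩ := F2 α γ φ β P2 m n H2
  have hJ := J_le α φ m n hn p' hp q' hq
  have hIR : (m ^ n).map α ≤ (maximalIdeal S ^ n).comap (algebraMap R S) := by
    rw [Ideal.map_pow, ← Ideal.map_le_iff_le_comap, Ideal.map_pow]
    refine Ideal.pow_right_mono ?_ n
    rw [← IsLocalization.AtPrime.map_eq_maximalIdeal p' S]
    exact Ideal.map_mono (Ideal.map_le_iff_le_comap.mpr hp)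
  let κ : R ⧸ (m ^ n).map α →+* S ⧸ maximalIdeal S ^ n :=
    Ideal.quotientMap _ (algebraMap R S) hIR
  let θ' : R' →+* S ⧸ maximalIdeal S ^ n := κ.comp θ
  have hθ'φ : ∀ r, θ' (φ r) = Ideal.Quotient.mk _ (algebraMap R S r) := by
    intro r
    show κ (θ (φ r)) = _
    have : θ (φ r) = Ideal.Quotient.mk _ r := congrArg (fun g : R →+* _ => g r) hθ1
    rw [this]
    exact Ideal.quotientMap_mk
  have hθ'J : ∀ j ∈ (m ^ n).map (φ.comp α), θ' j = 0 := by
    intro j hj
    show κ (θ j) = 0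
    rw [RingHom.mem_ker.mp (hθ2 hj), map_zero]
  have hθ'x : ∀ (x : R') (r : R), x - φ r ∈ (m ^ n).map (φ.comp α) →
      θ' x = Ideal.Quotient.mk _ (algebraMap R S r) := by
    intro x r hr
    have : x = (x - φ r) + φ r := by ring
    rw [this, map_add, hθ'J _ hr, zero_add, hθ'φ]
  have hunit : ∀ s : q'.primeCompl, IsUnit (θ' s) := by
    intro s
    obtain ⟨t, ht⟩ := F1 α γ φ β hsq P1 m n H1 s.1
    have htp : t ∉ p' := by
      intro htp
      have h1 : φ t ∈ q' := by rw [← hq] at htp; exact htp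
      have h2 : (s : R') ∈ q' := by
        have : (s : R') = (s.1 - φ t) + φ t := by ring
        rw [this]
        exact Ideal.add_mem _ (hJ ht) h1
      exact s.2 h2
    rw [hθ'x s.1 t ht]
    let tt : p'.primeCompl := ⟨t, htp⟩
    exact (IsLocalization.map_units S tt).map _
  let Θ : S' →+* S ⧸ maximalIdeal S ^ n := IsLocalization.lift hunit
  have hΘ : ∀ x, Θ (algebraMap R' S' x) = θ' x := IsLocalization.lift_eq hunit
  have hΘψ : Θ.comp ψ = Ideal.Quotient.mk _ := by
    apply IsLocalization.ringHom_ext p'.primeCompl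
    ext r
    show Θ (ψ (algebraMap R S r)) = _
    have : ψ (algebraMap R S r) = algebraMap R' S' (φ r) :=
      congrArg (fun g : R →+* S' => g r) hψ
    rw [this, hΘ, hθ'φ]
    rfl
  have h1 : (maximalIdeal S').map Θ ≤
      (maximalIdeal S).map (Ideal.Quotient.mk (maximalIdeal S ^ n)) := by
    rw [← IsLocalization.AtPrime.map_eq_maximalIdeal q' S', Ideal.map_map,
      Ideal.map_le_iff_le_comap]
    intro x hx
    rw [Ideal.mem_comap]
    show Θ (algebraMap R' S' x) ∈ _
    rw [hΘ]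
    obtain ⟨r, hr⟩ := F1 α γ φ β hsq P1 m n H1 x
    have hrp : r ∈ p' := by
      rw [← hq]
      show φ r ∈ q'
      have : φ r = x - (x - φ r) := by ring
      rw [this]
      exact Ideal.sub_mem _ hx (hJ hr)
    rw [hθ'x x r hr]
    apply Ideal.mem_map_of_mem
    rw [← IsLocalization.AtPrime.map_eq_maximalIdeal p' S]
    exact Ideal.mem_map_of_mem _ hrp
  have h2 : (maximalIdeal S' ^ n).map Θ ≤ ⊥ := by
    rw [Ideal.map_pow]
    refine (Ideal.pow_right_mono h1 n).trans ?_
    rw [← Ideal.map_pow, Ideal.map_quotient_self]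
  have h3 : Θ (ψ z) = 0 := by
    have := Ideal.mem_map_of_mem Θ hz
    exact (Submodule.mem_bot _).mp (h2 this)
  have h4 : Ideal.Quotient.mk (maximalIdeal S ^ n) z = 0 := by
    rw [← h3]
    exact (congrArg (fun g : S →+* _ => g z) hΘψ).symm
  exact Ideal.Quotient.eq_zero_iff_mem.mp h4

include hsq P1 P2 H1 H2 hn hp hq hψ in
theorem bijective (h : maximalIdeal S ^ n ≤ (maximalIdeal S' ^ n).comap ψ) :
    Function.Bijective (Ideal.quotientMap (maximalIdeal S' ^ n) ψ h) := by
  constructor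
  · apply Ideal.quotientMap_injective'
    intro z hz
    exact inj α γ φ β hsq P1 P2 m n hn H1 H2 p' hp q' hq S S' ψ hψ z hz
  · intro y
    obtain ⟨y, rfl⟩ := Ideal.Quotient.mk_surjective y
    obtain ⟨z, hz⟩ := surj α γ φ β hsq P1 m n hn H1 p' hp q' hq S S' ψ hψ y
    refine ⟨Ideal.Quotient.mk _ z, ?_⟩
    rw [Ideal.quotientMap_mk]
    refine (Ideal.Quotient.eq.mpr ?_).symm
    exact hz

end loc

end alg

end Groth.Agent.Lead.CplStalk
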