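import Mathlib
import Groth.Agent.Lib.Lead.CplStalk1

set_option autoImplicit false
set_option backward.isDefEq.respectTransparency.types false
set_option synthInstance.maxHeartbeats 400000
set_option linter.style.haveILetI false
set_option linter.unusedSectionVars false

namespace Groth.Agent.Lead.CplStalk

open IsLocalRing AlgebraicGeometry CategoryTheory Limits

universe u

theorem H1_adic {A : Type u} [CommRing A] (I : Ideal A) (fg : I.FG) (n : ℕ)
    (x : AdicCompletion I A) :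
    ∃ a : A, x - algebraMap A (AdicCompletion I A) a ∈
      (I ^ n).map (algebraMap A (AdicCompletion I A)) := by
  obtain ⟨a, ha⟩ := Submodule.mkQ_surjective _ (AdicCompletion.eval I A n x)
  refine ⟨a, ?_⟩
  rw [← Submodule.restrictScalars_mem A, ← Ideal.smul_top_eq_map,
    AdicCompletion.pow_smul_top_eq_ker_eval fg, LinearMap.mem_ker, map_sub, sub_eq_zero, ← ha]
  rfl

theorem H2_adic {A : Type u} [CommRing A] (I : Ideal A) (n : ℕ) :
    ∃ e : AdicCompletion I A →+* A ⧸ I ^ n,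
      e.comp (algebraMap A (AdicCompletion I A)) = Ideal.Quotient.mk (I ^ n) := by
  refine ⟨(AdicCompletion.evalₐ I n).toRingHom, ?_⟩
  ext a
  exact (AdicCompletion.evalₐ I n).commutes a

theorem main' {A Â : Type u} [CommRing A] [CommRing Â] (γ : A →+* Â) (m : Ideal A) (n : ℕ)
    (hn : 1 ≤ n)
    (H1 : ∀ x : Â, ∃ a : A, x - γ a ∈ (m ^ n).map γ)
    (H2 : ∃ e : Â →+* A ⧸ m ^ n, e.comp γ = Ideal.Quotient.mk (m ^ n))
    {X X' : Scheme.{u}} (f : X ⟶ Spec (CommRingCat.of A)) (fst : X' ⟶ X)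
    (snd : X' ⟶ Spec (CommRingCat.of Â))
    (H : IsPullback fst snd f (Spec.map (CommRingCat.ofHom γ)))
    (q : X') (hq : ∀ a ∈ m, a ∈ (f.base (fst.base q)).asIdeal)
    (h : maximalIdeal (X.presheaf.stalk (fst.base q)) ^ n ≤
      (maximalIdeal (X'.presheaf.stalk q) ^ n).comap (fst.stalkMap q).hom) :
    Function.Bijective (Ideal.quotientMap _ (fst.stalkMap q).hom h) := by
  obtain ⟨U, hU, hpU, -⟩ := exists_isAffineOpen_mem_and_subset (x := fst.base q)
    (U := ⊤) trivial
  let V : X'.Opens := fst ⁻¹ᵁ U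
  have hqV : q ∈ V := hpU
  have hVeq : V = fst ⁻¹ᵁ U ⊓ snd ⁻¹ᵁ ⊤ := by simp [V]
  have hpush := (isIso_pushoutSection_iff H (US := ⊤) (UT := ⊤) (UX := U) le_top le_top hVeq).mp
    (isIso_pushoutSection_of_isAffineOpen H le_top le_top hVeq (isAffineOpen_top _)
      (isAffineOpen_top _) hU)
  have hpush' : IsPushout ((Scheme.ΓSpecIso (CommRingCat.of A)).inv ≫ f.appLE ⊤ U le_top)
      (CommRingCat.ofHom γ) (fst.appLE U V le_rfl)
      ((Scheme.ΓSpecIso (CommRingCat.of Â)).inv ≫ snd.appLE ⊤ V le_top) := by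
    refine hpush.of_iso (Scheme.ΓSpecIso (CommRingCat.of A)) (Iso.refl _)
      (Scheme.ΓSpecIso (CommRingCat.of Â)) (Iso.refl _) ?_ ?_ ?_ ?_
    · simp
    · rw [← Scheme.ΓSpecIso_naturality]
      rfl
    · simp
    · simp
  haveI : IsAffineHom fst := MorphismProperty.of_isPullback H.flip
    (inferInstance : IsAffineHom (Spec.map (CommRingCat.ofHom γ)))
  have hV : IsAffineOpen V := hU.preimage fst
  let xp : U := ⟨fst.base q, hpU⟩
  let xq : V := ⟨q, hqV⟩
  letI : Algebra Γ(X, U) (X.presheaf.stalk (fst.base q)) :=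
    TopCat.Presheaf.algebra_section_stalk X.presheaf xp
  letI : Algebra Γ(X', V) (X'.presheaf.stalk q) :=
    TopCat.Presheaf.algebra_section_stalk X'.presheaf xq
  haveI : IsLocalization.AtPrime (X.presheaf.stalk (fst.base q)) (hU.primeIdealOf xp).asIdeal :=
    hU.isLocalization_stalk xp
  haveI : IsLocalization.AtPrime (X'.presheaf.stalk q) (hV.primeIdealOf xq).asIdeal :=
    hV.isLocalization_stalk xq
  let α : A →+* Γ(X, U) := ((Scheme.ΓSpecIso (CommRingCat.of A)).inv ≫ f.appLE ⊤ U le_top).hom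
  let φ : Γ(X, U) →+* Γ(X', V) := (fst.appLE U V le_rfl).hom
  let β : Â →+* Γ(X', V) := ((Scheme.ΓSpecIso (CommRingCat.of Â)).inv ≫ snd.appLE ⊤ V le_top).hom
  have hsq : φ.comp α = β.comp γ := by
    have := congrArg CommRingCat.Hom.hom hpush'.w
    exact this
  have P1 : Subring.closure (Set.range φ ∪ Set.range β) = ⊤ :=
    CommRingCat.closure_range_union_range_eq_top_of_isPushout hpush'
  have P2 : ∀ (T : Type u) [CommRing T] (u : Γ(X, U) →+* T) (v : Â →+* T),
      u.comp α = v.comp γ → ∃ w : Γ(X', V) →+* T, w.comp φ = u ∧ w.comp β = v := by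
    intro T _ u v huv
    have hw : ((Scheme.ΓSpecIso (CommRingCat.of A)).inv ≫ f.appLE ⊤ U le_top) ≫
        CommRingCat.ofHom u = CommRingCat.ofHom γ ≫ CommRingCat.ofHom v := by
      ext a
      exact congrArg (fun t : A →+* T => t a) huv
    refine ⟨(hpush'.desc (CommRingCat.ofHom u) (CommRingCat.ofHom v) hw).hom, ?_, ?_⟩
    · exact congrArg CommRingCat.Hom.hom (hpush'.inl_desc _ _ hw)
    · exact congrArg CommRingCat.Hom.hom (hpush'.inr_desc _ _ hw)
  have hψ : (fst.stalkMap q).hom.comp (algebraMap Γ(X, U) (X.presheaf.stalk (fst.base q))) =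
      (algebraMap Γ(X', V) (X'.presheaf.stalk q)).comp φ := by
    ext r
    show (fst.stalkMap q).hom ((X.presheaf.germ U _ hpU).hom r) =
      (X'.presheaf.germ V q hqV).hom ((fst.appLE U V le_rfl).hom r)
    rw [← Scheme.Hom.app_eq_appLE]
    exact Scheme.Hom.germ_stalkMap_apply fst U q hpU r
  have hmem : ∀ r : Γ(X, U), r ∈ (hU.primeIdealOf xp).asIdeal ↔ fst.base q ∉ X.basicOpen r := by
    intro r
    rw [← IsLocalization.AtPrime.to_map_mem_maximal_iff (X.presheaf.stalk (fst.base q))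
      (hU.primeIdealOf xp).asIdeal r, IsLocalRing.mem_maximalIdeal, mem_nonunits_iff,
      Scheme.mem_basicOpen _ _ _ hpU]
    rfl
  have hmem' : ∀ r : Γ(X', V), r ∈ (hV.primeIdealOf xq).asIdeal ↔ q ∉ X'.basicOpen r := by
    intro r
    rw [← IsLocalization.AtPrime.to_map_mem_maximal_iff (X'.presheaf.stalk q)
      (hV.primeIdealOf xq).asIdeal r, IsLocalRing.mem_maximalIdeal, mem_nonunits_iff,
      Scheme.mem_basicOpen _ _ _ hqV]
    rfl
  have hp : m ≤ (hU.primeIdealOf xp).asIdeal.comap α := by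
    intro a ha
    rw [Ideal.mem_comap, hmem]
    intro hc
    have h1 : X.basicOpen (α a) = U ⊓ f ⁻¹ᵁ ((Spec (CommRingCat.of A)).basicOpen
        ((Scheme.ΓSpecIso (CommRingCat.of A)).inv a)) :=
      Scheme.basicOpen_appLE f U ⊤ le_top _
    rw [h1, basicOpen_eq_of_affine] at hc
    exact hc.2 (hq a ha)
  have hq' : (hV.primeIdealOf xq).asIdeal.comap φ = (hU.primeIdealOf xp).asIdeal := by
    ext r
    rw [Ideal.mem_comap, hmem', hmem]
    have h1 : X'.basicOpen (φ r) = V ⊓ fst ⁻¹ᵁ (X.basicOpen r) :=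
      Scheme.basicOpen_appLE fst V U le_rfl r
    rw [h1]
    constructor
    · intro h2 h3
      exact h2 ⟨hqV, h3⟩
    · intro h2 h3
      exact h2 h3.2
  exact bijective α γ φ β hsq P1 P2 m n hn H1 H2 (hU.primeIdealOf xp).asIdeal hp
    (hV.primeIdealOf xq).asIdeal hq' (X.presheaf.stalk (fst.base q)) (X'.presheaf.stalk q)
    (fst.stalkMap q).hom hψ h

end Groth.Agent.Lead.CplStalk
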