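import Mathlib
import Groth.Prelude
import Groth.Agent.Lib.Lead.CurveDVR1

set_option autoImplicit false
set_option backward.isDefEq.respectTransparency.types false
set_option synthInstance.maxHeartbeats 400000
set_option linter.style.haveILetI false
set_option linter.unusedSectionVars false

universe u

open CategoryTheory CategoryTheory.Limits AlgebraicGeometry TopologicalSpace IsLocalRing Opposite

namespace Groth.Agent.Lead.CurveDVR

/-- A Noetherian integrally closed local domain of dimension one is a discrete valuation ring. -/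
theorem isDVR_of_isIntegrallyClosed_of_dim_one (R : Type*) [CommRing R] [IsDomain R]
    [IsLocalRing R] [IsNoetherianRing R] [IsIntegrallyClosed R] (hdim : ringKrullDim R = 1) :
    IsDiscreteValuationRing R := by
  have hnf : ¬ IsField R := by
    intro hf
    have := ringKrullDim_eq_zero_of_isField hf
    rw [hdim] at this
    exact one_ne_zero this
  haveI : Ring.KrullDimLE 1 R := by
    rw [Ring.KrullDimLE, Order.krullDimLE_iff]
    change ringKrullDim R ≤ _
    rw [hdim]
    rfl
  have h3 : IsIntegrallyClosed R ∧ ∀ P : Ideal R, P ≠ ⊥ → P.IsPrime → P = maximalIdeal R :=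
    ⟨inferInstance, fun P hP hP' => eq_maximalIdeal (hP'.isMaximal_of_ne_bot hP)⟩
  haveI : IsPrincipalIdealRing R :=
    ((tfae_of_isNoetherianRing_of_isLocalRing_of_isDomain R).out 3 0).mp h3
  exact { not_a_field' := isField_iff_maximalIdeal_eq.not.mp hnf }

attribute [local instance] Curv2.resAlgebra

theorem S13844_main (K : Type u) [Field K] (C : Scheme.{u}) [C.Over (Spec (CommRingCat.of K))]
    [IsIntegral C] [LocallyOfFinitePresentation (C ↘ (Spec (CommRingCat.of K)))]
    (hN : ∀ x : C, IsIntegrallyClosed (C.presheaf.stalk x))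
    (hdim : topologicalKrullDim C = 1) (S : Set C)
    (hS : ∀ x ∈ S, IsClosed ({x} : Set C) ∧ Algebra.IsSeparable K (C.residueField x))
    (hsm : ∀ x : C, x ∉ S → x ∈ (C ↘ (Spec (CommRingCat.of K))).smoothLocus) :
    AlgebraicGeometry.Smooth (C ↘ (Spec (CommRingCat.of K))) := by
  haveI : IsLocallyNoetherian C :=
    LocallyOfFiniteType.isLocallyNoetherian (C ↘ (Spec (CommRingCat.of K)))
  rw [← Scheme.Hom.smoothLocus_eq_top_iff, ← top_le_iff]
  rintro x -
  by_cases hx : x ∈ S
  · obtain ⟨hcl, hsep⟩ := hS x hx
    haveI := hsep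
    haveI := hN x
    apply (S1556_main K C hdim x hcl).mp
    exact isDVR_of_isIntegrallyClosed_of_dim_one _ (ringKrullDim_stalk_eq_one K C hdim x hcl)
  · exact hsm x hx

end Groth.Agent.Lead.CurveDVR
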