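import Mathlib
import Groth.Prelude
import Groth.Agent.Lib.Helper7.GeomConn.GlobSec
import Groth.Agent.S1628

set_option autoImplicit false
set_option backward.isDefEq.respectTransparency.types false
set_option synthInstance.maxHeartbeats 400000
set_option linter.style.haveILetI false
set_option linter.unusedSectionVars false

universe u

open CategoryTheory CategoryTheory.Limits AlgebraicGeometry TopologicalSpace Opposite TensorProduct Polynomial

namespace Groth.Agent.Lead.DOmZ

/-- A derivation-like additive map kills the roots of separable polynomials. -/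
theorem D_eq_zero_of_separable {k A M : Type*} [Field k] [CommRing A] [Algebra k A]
    [AddCommGroup M] [Module A M] (D : A →+ M)
    (hmul : ∀ a b : A, D (a * b) = a • D b + b • D a)
    (hconst : ∀ c : k, D (algebraMap k A c) = 0) (s : A) (P : k[X]) (hP : P.Separable)
    (h0 : aeval s P = 0) : D s = 0 := by
  letI : Module k M := Module.compHom M (algebraMap k A)
  haveI : IsScalarTower k A M := IsScalarTower.of_algebraMap_smul (fun r m => rfl)
  let L : A →ₗ[k] M :=
    { toFun := D
      map_add' := D.map_add
      map_smul' := fun c a => by
        simp only [RingHom.id_apply]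
        rw [Algebra.smul_def, hmul, hconst, smul_zero, add_zero]
        rfl }
  let D' : Derivation k A M := Derivation.mk' L hmul
  have h1 : D' (aeval s P) = aeval s (derivative P) • D' s := Derivation.map_aeval D' P s
  rw [h0, map_zero] at h1
  obtain ⟨a, b, hab⟩ := hP
  have h2 : aeval s b * aeval s (derivative P) = 1 := by
    have := congrArg (aeval s) hab
    rw [map_add, map_mul, map_mul, h0, mul_zero, zero_add, map_one] at this
    exact this
  have h3 : D' s = (aeval s b * aeval s (derivative P)) • D' s := by rw [h2, one_smul]
  rw [mul_smul, ← h1, smul_zero] at h3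
  exact h3

/-- base change of a linearly independent family along a field extension -/
theorem linearIndependent_one_tmul {k K A ι : Type*} [Field k] [Field K] [Algebra k K]
    [CommRing A] [Algebra k A] (v : ι → A) (hv : LinearIndependent k v) :
    LinearIndependent K (fun i => (1 : K) ⊗ₜ[k] v i) := by
  let b := Module.Basis.extend hv.linearIndepOn_id
  let B := Algebra.TensorProduct.basis K b
  let j : ι → ↑(hv.linearIndepOn_id.extend (Set.subset_univ (Set.range v))) :=
    fun i => ⟨v i, Module.Basis.subset_extend hv.linearIndepOn_id ⟨i, rfl⟩⟩
  have hj : Function.Injective j := by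
    intro i i' h
    exact hv.injective (congrArg Subtype.val h)
  have h1 := B.linearIndependent.comp j hj
  convert h1 using 1
  funext i
  simp only [Function.comp_apply, B, Algebra.TensorProduct.basis_apply]
  congr 1
  exact (Module.Basis.extend_apply_self hv.linearIndepOn_id (j i)).symm

/-- If `K ⊗ A` is reduced for a perfect extension `K` of `k`, integral elements of `A` have
separable minimal polynomials. -/
theorem separable_minpoly_of_isReduced_tensor {k K A : Type*} [Field k] [Field K] [Algebra k K]
    [PerfectField K] [CommRing A] [Algebra k A] (hred : IsReduced (K ⊗[k] A)) (s : A)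
    (hs : IsIntegral k s) : (minpoly k s).Separable := by
  set P := minpoly k s with hPdef
  rw [← Polynomial.separable_map (algebraMap k K), PerfectField.separable_iff_squarefree]
  intro Q hQ
  obtain ⟨R, hR⟩ := hQ
  set t : K ⊗[k] A := (1 : K) ⊗ₜ[k] s with ht
  have hmonic : (P.map (algebraMap k K)).Monic := (minpoly.monic hs).map _
  have hPt : aeval t (P.map (algebraMap k K)) = 0 := by
    rw [aeval_map_algebraMap]
    have : t = (Algebra.TensorProduct.includeRight : A →ₐ[k] K ⊗[k] A) s := rfl
    rw [this, aeval_algHom_apply, minpoly.aeval, map_zero]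
  -- the powers of `t` below the degree are independent
  have hli : LinearIndependent K (fun i : Fin P.natDegree => t ^ (i : ℕ)) := by
    have h1 := linearIndependent_one_tmul (K := K) _ (linearIndependent_pow (K := k) s)
    convert h1 using 1
    funext i
    rw [ht, Algebra.TensorProduct.tmul_pow, one_pow]
  have hdeg : ∀ G : K[X], aeval t G = 0 → G.natDegree < P.natDegree → G = 0 := by
    intro G hG hlt
    rw [aeval_eq_sum_range' hlt] at hG
    have h2 : ∑ i : Fin P.natDegree, G.coeff i • t ^ (i : ℕ) = 0 := by
      rw [← hG, Finset.sum_range]
    have h3 := Fintype.linearIndependent_iff.mp hli (fun i => G.coeff i) h2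
    ext n
    rw [coeff_zero]
    by_cases hn : n < P.natDegree
    · exact h3 ⟨n, hn⟩
    · exact coeff_eq_zero_of_natDegree_lt (by omega)
  have hz : aeval t (Q * R) = 0 := by
    have hsq : aeval t (Q * R) * aeval t (Q * R) = 0 := by
      rw [← map_mul]
      have : Q * R * (Q * R) = P.map (algebraMap k K) * R := by rw [hR]; ring
      rw [this, map_mul, hPt, zero_mul]
    exact (IsReduced.eq_zero _ ⟨2, by rw [pow_two]; exact hsq⟩)
  have hne : P.map (algebraMap k K) ≠ 0 := hmonic.ne_zero
  have hQne : Q ≠ 0 := by
    rintro rfl
    apply hne
    rw [hR, zero_mul, zero_mul]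
  have hRne : R ≠ 0 := by
    rintro rfl
    apply hne
    rw [hR, mul_zero]
  have hnat : (P.map (algebraMap k K)).natDegree = P.natDegree :=
    natDegree_map (algebraMap k K)
  have hdegeq : P.natDegree = Q.natDegree + Q.natDegree + R.natDegree := by
    rw [← hnat, hR, natDegree_mul (mul_ne_zero hQne hQne) hRne, natDegree_mul hQne hQne]
  have hQ0 : Q.natDegree = 0 := by
    by_contra hpos
    have hlt : (Q * R).natDegree < P.natDegree := by
      rw [natDegree_mul hQne hRne, hdegeq]
      omega
    exact mul_ne_zero hQne hRne (hdeg _ hz hlt)
  rw [natDegree_eq_zero] at hQ0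
  obtain ⟨c, rfl⟩ := hQ0
  have hc : c ≠ 0 := by
    rintro rfl
    exact hQne (by rw [map_zero])
  exact isUnit_C.mpr (isUnit_iff_ne_zero.mpr hc)

end Groth.Agent.Lead.DOmZ
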