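import Mathlib
import Groth.Prelude
import Groth.Agent.Lib.Helper7.GeomConn.GlobSec
import Groth.Agent.S1628
import Groth.Agent.Lib.Lead.DOmZ1

set_option autoImplicit false
set_option backward.isDefEq.respectTransparency.types false
set_option synthInstance.maxHeartbeats 400000
set_option linter.style.haveILetI false
set_option linter.unusedSectionVars false

universe u

open CategoryTheory CategoryTheory.Limits AlgebraicGeometry TopologicalSpace Opposite TensorProduct Polynomial

namespace Groth.Agent.Lead.DOmZ

open Groth.Agent.Helper7.GeomConn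

theorem S15533_main (k : Type u) [Field k] (X : Scheme.{u})
    (f : X ⟶ Spec (CommRingCat.of k)) [IsProper f] [Smooth f] (s : Γ(X, ⊤)) :
    (OmegaSh.dOmega f).app ⊤ s = 0 := by
  letI : X.Over (Spec (CommRingCat.of k)) := ⟨f⟩
  haveI : Smooth (X ↘ Spec (CommRingCat.of k)) := ‹Smooth f›
  haveI hgr : GeometricallyReduced f := (Groth.Agent.S1628.result k X).1
  letI a1 : Algebra k Γ(X, ⊤) := (toΓ k X f).toAlgebra
  haveI hfin : Module.Finite k Γ(X, ⊤) := finite_globalSections k X f
  let K := AlgebraicClosure k
  let i : Spec (CommRingCat.of K) ⟶ Spec (CommRingCat.of k) :=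
    Spec.map (CommRingCat.ofHom (algebraMap k K))
  haveI hred : IsReduced (pullback f i) :=
    GeometricallyReduced.geometrically_isReduced (f := f) (K := K) i (pullback.fst f i)
      (pullback.snd f i) (IsPullback.of_hasPullback f i)
  obtain ⟨e⟩ := exists_algEquiv_baseChange k X f K
  have hredT : IsReduced (K ⊗[k] Γ(X, ⊤)) := isReduced_of_injective e.toRingHom e.injective
  have hs : IsIntegral k s := Algebra.IsIntegral.isIntegral s
  have hsep := separable_minpoly_of_isReduced_tensor (K := K) hredT s hs
  refine D_eq_zero_of_separable (k := k) (A := Γ(X, ⊤)) ((OmegaSh.dOmega f).app ⊤) ?_ ?_ s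
    (minpoly k s) hsep (minpoly.aeval k s)
  · intro a b
    exact (OmegaSh.dOmega f).d_mul (X := op ⊤) a b
  · intro c
    exact (OmegaSh.dOmega f).d_app (X := op ⊤) ((Scheme.ΓSpecIso (CommRingCat.of k)).inv.hom c)

end Groth.Agent.Lead.DOmZ
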