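import Mathlib
import Groth.Prelude
import Groth.Agent.Lib.Helper1.DomGen
import Groth.Agent.Lib.Helper3.FibStalk2

/-!
# Flatness over Dedekind bases via torsion-freeness
-/

set_option autoImplicit false
set_option backward.isDefEq.respectTransparency.types false
set_option synthInstance.maxHeartbeats 400000
set_option linter.style.haveILetI false
set_option linter.unusedSectionVars false

universe u

open AlgebraicGeometry CategoryTheory Limits

namespace Groth.Agent.Lead.DedFlat

open IsLocalRing Groth.Agent.Helper1.DomGen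

theorem flat_of_forall_smul {A B : Type u} [CommRing A] [IsDomain A] [IsDedekindDomain A]
    [CommRing B] [Algebra A B]
    (h : ∀ (a : A) (b : B), a ≠ 0 → algebraMap A B a * b = 0 → b = 0) : Module.Flat A B := by
  rw [IsDedekindDomain.flat_iff_torsion_eq_bot, Submodule.eq_bot_iff]
  intro b hb
  obtain ⟨a, ha⟩ := (Submodule.mem_torsion_iff b).mp hb
  refine h a b (nonZeroDivisors.ne_zero a.2) ?_
  rw [← Algebra.smul_def]
  exact ha

theorem eq_zero_of_mul_eq_zero_of_reduced_quotient {B : Type u} [CommRing B] [IsNoetherianRing B]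
    [IsLocalRing B] (π : B) (hπ : π ∈ maximalIdeal B) (hred : IsReduced (B ⧸ Ideal.span {π}))
    (hmin : ∀ 𝔭 ∈ minimalPrimes B, π ∉ 𝔭) (b : B) (hb : π * b = 0) : b = 0 := by
  classical
  by_contra hb0
  have hI : Ideal.span {π} ≠ ⊤ := by
    intro h
    have : (1 : B) ∈ Ideal.span {π} := h ▸ Submodule.mem_top
    have h2 : Ideal.span {π} ≤ maximalIdeal B := (Ideal.span_singleton_le_iff_mem _).mpr hπ
    exact (Ideal.ne_top_iff_one _).mp (IsLocalRing.maximalIdeal.isMaximal B).ne_top (h2 this)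
  have hK : ⨅ i, (Ideal.span {π}) ^ i = (⊥ : Ideal B) :=
    Ideal.iInf_pow_eq_bot_of_isLocalRing _ hI
  have hex : ∃ n, b ∉ (Ideal.span {π}) ^ n := by
    by_contra hall
    simp only [not_exists, not_not] at hall
    have : b ∈ ⨅ i, (Ideal.span {π}) ^ i := by
      rw [Ideal.mem_iInf]
      exact hall
    rw [hK] at this
    exact hb0 this
  let n₀ := Nat.find hex
  have hn₀ : b ∉ (Ideal.span {π}) ^ n₀ := Nat.find_spec hex
  have hn₀pos : n₀ ≠ 0 := by
    intro h0
    rw [h0, pow_zero, Ideal.one_eq_top] at hn₀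
    exact hn₀ Submodule.mem_top
  obtain ⟨m, hm⟩ := Nat.exists_eq_succ_of_ne_zero hn₀pos
  have hbm : b ∈ (Ideal.span {π}) ^ m := by
    by_contra h
    exact Nat.find_min hex (by omega : m < n₀) h
  rw [Ideal.span_singleton_pow, Ideal.mem_span_singleton] at hbm
  obtain ⟨c, rfl⟩ := hbm
  have hc : c ∉ Ideal.span {π} := by
    intro hc
    rw [Ideal.mem_span_singleton] at hc
    obtain ⟨d, rfl⟩ := hc
    apply hn₀
    rw [hm, Ideal.span_singleton_pow, Ideal.mem_span_singleton]
    exact ⟨d, by rw [pow_succ]; ring⟩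
  have hcnil : c ∈ nilradical B := by
    rw [nilradical_eq_sInf, Ideal.mem_sInf]
    intro 𝔭 h𝔭
    haveI : 𝔭.IsPrime := h𝔭
    obtain ⟨𝔮, h𝔮, h𝔮le⟩ := Ideal.exists_minimalPrimes_le (show (⊥ : Ideal B) ≤ 𝔭 from bot_le)
    have h𝔮p : 𝔮.IsPrime := h𝔮.1.1
    have h1 : π ^ (m + 1) * c ∈ 𝔮 := by
      have : π ^ (m + 1) * c = π * (π ^ m * c) := by rw [pow_succ]; ring
      rw [this, hb]
      exact 𝔮.zero_mem
    rcases h𝔮p.mem_or_mem h1 with h2 | h2
    · exact absurd (h𝔮p.mem_of_pow_mem _ h2) (hmin 𝔮 h𝔮)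
    · exact h𝔮le h2
  have hnil : IsNilpotent (Ideal.Quotient.mk (Ideal.span {π}) c) := (mem_nilradical.mp hcnil).map _
  have h0 : Ideal.Quotient.mk (Ideal.span {π}) c = 0 := hnil.eq_zero
  exact hc (Ideal.Quotient.eq_zero_iff_mem.mp h0)

end Groth.Agent.Lead.DedFlat

namespace Groth.Agent.Lead.DedFlat

open IsLocalRing Groth.Agent.Helper1.DomGen

section Top

theorem closure_singleton_mem_irreducibleComponents {W : Type*} [TopologicalSpace W] [QuasiSober W]
    [T0Space W] (ξ : W) (hξ : GenMax ξ) : closure {ξ} ∈ irreducibleComponents W := by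
  refine ⟨isIrreducible_singleton.closure, ?_⟩
  intro S hS hle
  have hScl : IsIrreducible (closure S) := hS.closure
  obtain ⟨ζ, hζ⟩ := QuasiSober.sober hScl isClosed_closure
  have h1 : ζ ⤳ ξ := hζ.specializes (subset_closure (hle (subset_closure rfl)))
  have h2 := hξ ζ h1
  intro z hz
  have : z ∈ closure S := subset_closure hz
  rw [← hζ.def, h2] at this
  exact this

theorem mem_of_dense_of_genMax_noetherianSpace {W : Type*} [TopologicalSpace W]
    [TopologicalSpace.NoetherianSpace W] [QuasiSober W] [T0Space W] (ξ : W) (hξ : GenMax ξ)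
    (D : Set W) (hDo : IsOpen D) (hDd : Dense D) : ξ ∈ D := by
  classical
  have hZ₁ := closure_singleton_mem_irreducibleComponents ξ hξ
  let 𝒮 : Set (Set W) := irreducibleComponents W \ {closure {ξ}}
  have h𝒮fin : 𝒮.Finite :=
    (TopologicalSpace.NoetherianSpace.finite_irreducibleComponents).subset Set.diff_subset
  let S : Set W := ⋃ Z ∈ 𝒮, Z
  have hScl : IsClosed S :=
    h𝒮fin.isClosed_biUnion (fun Z hZ => isClosed_of_mem_irreducibleComponents Z hZ.1)
  have hξS : ξ ∉ S := by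
    intro h
    rw [Set.mem_iUnion₂] at h
    obtain ⟨Z, hZ, hξZ⟩ := h
    have hZcl : IsClosed Z := isClosed_of_mem_irreducibleComponents Z hZ.1
    have h1 : closure {ξ} ⊆ Z := hZcl.closure_subset_iff.mpr (Set.singleton_subset_iff.mpr hξZ)
    have h2 : Z ⊆ closure {ξ} := hZ₁.2 hZ.1.1 h1
    exact hZ.2 (Set.mem_singleton_iff.mpr (le_antisymm h2 h1))
  obtain ⟨d, hdS, hdD⟩ := hDd.inter_open_nonempty Sᶜ hScl.isOpen_compl ⟨ξ, hξS⟩
  have hd : d ∈ closure {ξ} := by
    by_contra hd
    apply hdS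
    rw [Set.mem_iUnion₂]
    refine ⟨irreducibleComponent d, ⟨irreducibleComponent_mem_irreducibleComponents d, ?_⟩,
      mem_irreducibleComponent⟩
    intro h
    rw [Set.mem_singleton_iff] at h
    exact hd (h ▸ mem_irreducibleComponent)
  have hsp : ξ ⤳ d := specializes_iff_mem_closure.mpr hd
  exact hsp.mem_open hDo hdD

end Top

section Dict

variable {X Y : Scheme.{u}}

theorem mem_of_dense_of_genMax [IsLocallyNoetherian X] (D : Set X) (hDo : IsOpen D) (hDd : Dense D)
    (ξ : X) (hξ : GenMax ξ) : ξ ∈ D := by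
  obtain ⟨_, ⟨W, hW, rfl⟩, hξW, -⟩ :=
    X.isBasis_affineOpens.exists_subset_of_mem_open (Set.mem_univ ξ) isOpen_univ
  haveI : IsNoetherianRing Γ(X, W) := IsLocallyNoetherian.component_noetherian ⟨W, hW⟩
  haveI hNS := noetherianSpace_of_isAffineOpen W hW
  let ξW : W := ⟨ξ, hξW⟩
  have hgm : GenMax ξW := by
    intro ξ' h
    have h1 : (ξ' : X) ⤳ ξ := h.map continuous_subtype_val
    exact Subtype.ext (hξ _ h1)
  have hemb : Topology.IsOpenEmbedding (Subtype.val : W → X) := W.isOpen.isOpenEmbedding_subtypeVal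
  have h := @mem_of_dense_of_genMax_noetherianSpace W _ hNS _ _ ξW hgm (Subtype.val ⁻¹' D)
    (hDo.preimage continuous_subtype_val) (hDd.preimage hemb.isOpenMap)
  exact h

variable (f : X ⟶ Y) (x : X)

theorem map_fromSpecStalk (p : Spec (X.presheaf.stalk x)) :
    f (X.fromSpecStalk x p) = Y.fromSpecStalk (f x) (Spec.map (f.stalkMap x) p) := by
  rw [← Scheme.Hom.comp_apply, ← Scheme.Hom.comp_apply, Scheme.SpecMap_stalkMap_fromSpecStalk]

theorem genMax_fromSpecStalk (p : Spec (X.presheaf.stalk x))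
    (hp : p.asIdeal ∈ minimalPrimes (X.presheaf.stalk x)) : GenMax (X.fromSpecStalk x p) := by
  intro ξ' h
  have hpx : X.fromSpecStalk x p ⤳ x := by
    have : X.fromSpecStalk x p ∈ Set.range (X.fromSpecStalk x) := ⟨p, rfl⟩
    rw [Scheme.range_fromSpecStalk] at this
    exact this
  obtain ⟨p', rfl⟩ : ξ' ∈ Set.range (X.fromSpecStalk x) := by
    rw [Scheme.range_fromSpecStalk]
    exact h.trans hpx
  have h1 : p' ⤳ p := (X.fromSpecStalk x).isEmbedding.isInducing.specializes_iff.mp h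
  have h2 : p'.asIdeal ≤ p.asIdeal := by
    rw [PrimeSpectrum.asIdeal_le_asIdeal, PrimeSpectrum.le_iff_specializes]
    exact h1
  have h3 : p.asIdeal ≤ p'.asIdeal := hp.2 ⟨p'.2, bot_le⟩ h2
  rw [PrimeSpectrum.ext (le_antisymm h2 h3)]

theorem fromSpecStalk_eq_genericPoint_iff [IsIntegral Y] (y : Y) (p : Spec (Y.presheaf.stalk y)) :
    Y.fromSpecStalk y p = genericPoint Y ↔ p.asIdeal = ⊥ := by
  have hgen : genericPoint Y ∈ Set.range (Y.fromSpecStalk y) := by
    rw [Scheme.range_fromSpecStalk]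
    exact (genericPoint_spec Y).specializes (by trivial)
  obtain ⟨p₀, hp₀⟩ := hgen
  have hp₀bot : p₀.asIdeal = ⊥ := by
    let b : Spec (Y.presheaf.stalk y) := (⟨⊥, Ideal.isPrime_bot⟩ : PrimeSpectrum _)
    have h1 : Y.fromSpecStalk y p₀ ⤳ Y.fromSpecStalk y b := by
      rw [hp₀]
      exact (genericPoint_spec Y).specializes (by trivial)
    have h2 : p₀ ⤳ b := (Y.fromSpecStalk y).isEmbedding.isInducing.specializes_iff.mp h1
    have h3 : p₀.asIdeal ≤ b.asIdeal := by
      rw [PrimeSpectrum.asIdeal_le_asIdeal, PrimeSpectrum.le_iff_specializes]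
      exact h2
    exact le_bot_iff.mp h3
  constructor
  · intro h
    have : p = p₀ := (Y.fromSpecStalk y).isEmbedding.injective (h.trans hp₀.symm)
    rw [this, hp₀bot]
  · intro h
    have : p = p₀ := PrimeSpectrum.ext (h.trans hp₀bot.symm)
    rw [this, hp₀]

end Dict

end Groth.Agent.Lead.DedFlat
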