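import Mathlib
import Groth.Prelude
import Groth.Agent.Lib.Lead.DedFlat1

/-!
# Flatness over a DVR from a reduced special fibre and a dense generic fibre
-/

set_option autoImplicit false
set_option backward.isDefEq.respectTransparency.types false
set_option synthInstance.maxHeartbeats 400000
set_option linter.style.haveILetI false
set_option linter.unusedSectionVars false

universe u

open AlgebraicGeometry CategoryTheory Limits

namespace Groth.Agent.Lead.DedFlat

open IsLocalRing Groth.Agent.Helper1.DomGen

theorem S10880_main (R : Type u) [CommRing R] [IsDomain R] [IsDiscreteValuationRing R]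
    {X : Scheme.{u}} (f : X ⟶ Spec (CommRingCat.of R)) [IsLocallyNoetherian X]
    (hred : IsReduced (f.fiber (IsLocalRing.closedPoint R)))
    (hdense : Dense (f.base ⁻¹' {genericPoint (Spec (CommRingCat.of R))})) : Flat f := by
  classical
  rw [Flat.iff_flat_stalkMap]
  intro x
  obtain ⟨π, hπ⟩ := IsDiscreteValuationRing.exists_irreducible R
  have hπ0 : π ≠ 0 := hπ.ne_zero
  let S := Spec (CommRingCat.of R)
  let y : PrimeSpectrum R := f x
  let A := S.presheaf.stalk (f x)
  let B := X.presheaf.stalk x
  letI algRA : Algebra R A := StructureSheaf.stalkAlgebra R y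
  haveI hloc : IsLocalization.AtPrime A y.asIdeal := StructureSheaf.IsLocalization.to_stalk R y
  letI algAB : Algebra A B := (f.stalkMap x).hom.toAlgebra
  letI algRB : Algebra R B := ((algebraMap A B).comp (algebraMap R A)).toAlgebra
  haveI : IsScalarTower R A B := IsScalarTower.of_algebraMap_eq' rfl
  show Module.Flat A B
  rw [Module.flat_iff_of_isLocalization A y.asIdeal.primeCompl B]
  have hinjRA : Function.Injective (algebraMap R A) :=
    IsLocalization.injective A (Ideal.primeCompl_le_nonZeroDivisors y.asIdeal)
  let πB : B := algebraMap R B π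
  -- the key torsion-freeness
  have key : ∀ b : B, πB * b = 0 → b = 0 := by
    intro b hb
    by_cases hu : IsUnit πB
    · exact (hu.mul_right_eq_zero).mp hb
    have hπm : πB ∈ maximalIdeal B := (mem_maximalIdeal _).mpr hu
    have hπA : algebraMap R A π ∈ maximalIdeal A := by
      rw [mem_maximalIdeal, mem_nonunits_iff]
      intro h
      exact hu (h.map (algebraMap A B))
    have hπy : π ∈ y.asIdeal := (IsLocalization.AtPrime.to_map_mem_maximal_iff A y.asIdeal π).mp hπA
    have hymax : y.asIdeal = maximalIdeal R := by
      have hne : y.asIdeal ≠ ⊥ := fun h => hπ0 (by rw [h] at hπy; exact hπy)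
      have : y.asIdeal.IsMaximal := Ring.DimensionLEOne.maximalOfPrime hne y.isPrime
      exact IsLocalRing.eq_maximalIdeal this
    have hfx : f x = IsLocalRing.closedPoint R := PrimeSpectrum.ext hymax
    -- reduced quotient
    obtain ⟨γ, hγ, hk⟩ := Groth.Agent.Helper3.FibStalk.exists_fibre_presentation f x
    haveI : IsReduced (f.fiber (f x)) := by rw [hfx]; exact hred
    have hmA : maximalIdeal A = Ideal.span {algebraMap R A π} := by
      rw [← IsLocalization.AtPrime.map_eq_maximalIdeal y.asIdeal A, hymax,
        (IsDiscreteValuationRing.irreducible_iff_uniformizer π).mp hπ, Ideal.map_span,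
        Set.image_singleton]
    have hker : RingHom.ker γ = Ideal.span {πB} := by
      rw [hk, hmA, Ideal.map_span, Set.image_singleton]
      rfl
    have hredB : IsReduced (B ⧸ Ideal.span {πB}) := by
      rw [← hker]
      exact isReduced_of_injective (RingHom.kerLift γ) (RingHom.kerLift_injective γ)
    -- minimal primes avoid π
    have hmin : ∀ 𝔭 ∈ minimalPrimes B, πB ∉ 𝔭 := by
      intro 𝔭 h𝔭 hmem
      haveI : 𝔭.IsPrime := h𝔭.1.1
      let p : Spec (X.presheaf.stalk x) := (⟨𝔭, inferInstance⟩ : PrimeSpectrum B)
      have hgm : GenMax (X.fromSpecStalk x p) := genMax_fromSpecStalk x p h𝔭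
      have hopen : IsOpen (f.base ⁻¹' {genericPoint S}) := by
        have h1 : ({genericPoint S} : Set S) = (PrimeSpectrum.basicOpen π : Set (PrimeSpectrum R)) := by
          ext q
          rw [Set.mem_singleton_iff, genericPoint_eq_bot_of_affine]
          constructor
          · rintro rfl
            exact hπ0
          · intro hq
            by_contra hne
            have hne' : q.asIdeal ≠ ⊥ := fun h => hne (PrimeSpectrum.ext h)
            have : q.asIdeal.IsMaximal := Ring.DimensionLEOne.maximalOfPrime hne' q.isPrime
            have h2 : q.asIdeal = maximalIdeal R := IsLocalRing.eq_maximalIdeal this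
            apply hq
            show π ∈ q.asIdeal
            rw [h2]
            exact hπ.not_isUnit
        rw [h1]
        exact (PrimeSpectrum.basicOpen π).isOpen.preimage f.base.hom.continuous
      have hξ := mem_of_dense_of_genMax _ hopen hdense _ hgm
      have hfξ : f (X.fromSpecStalk x p) = genericPoint S := hξ
      rw [map_fromSpecStalk, fromSpecStalk_eq_genericPoint_iff] at hfξ
      have h3 : algebraMap R A π ∈ (Spec.map (f.stalkMap x) p).asIdeal := hmem
      rw [hfξ, Ideal.mem_bot] at h3
      exact hπ0 (hinjRA (h3.trans (map_zero _).symm))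
    exact eq_zero_of_mul_eq_zero_of_reduced_quotient πB hπm hredB hmin b hb
  have keyn : ∀ (n : ℕ) (b : B), πB ^ n * b = 0 → b = 0 := by
    intro n
    induction n with
    | zero => intro b hb; simpa using hb
    | succ n ih =>
      intro b hb
      apply ih
      apply key
      rw [← mul_assoc, ← pow_succ']
      exact hb
  apply flat_of_forall_smul
  intro r b hr hrb
  obtain ⟨n, u, rfl⟩ := IsDiscreteValuationRing.eq_unit_mul_pow_irreducible hr hπ
  rw [map_mul, map_pow, mul_assoc] at hrb
  have hu : IsUnit (algebraMap R B (u : R)) := u.isUnit.map _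
  exact keyn n b ((hu.mul_right_eq_zero).mp hrb)

end Groth.Agent.Lead.DedFlat
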