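import Mathlib
import Groth.Prelude
import Groth.Agent.Lib.Lead.DedFlat1
import Groth.Agent.Lib.Helper4.DedekindOpen1
import Groth.Agent.Lib.Helper4.DimIneq4

/-!
# Flatness of a reduced scheme over a Dedekind scheme
-/

set_option autoImplicit false
set_option backward.isDefEq.respectTransparency.types false
set_option synthInstance.maxHeartbeats 400000
set_option linter.style.haveILetI false
set_option linter.unusedSectionVars false

universe u

open AlgebraicGeometry CategoryTheory Limits

namespace Groth.Agent.Lead.DedFlat

open IsLocalRing Groth.Agent.Helper1.DomGen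

theorem S10887_main {X Y : Scheme.{u}} [IsIntegral Y]
    [IsNoetherian Y] (hreg : ∀ y : Y, IsRegularLocalRing (Y.presheaf.stalk y))
    (hdim : topologicalKrullDim Y ≤ 1)
    (f : X ⟶ Y) [IsReduced X] :
    Flat f ↔ ∀ Z ∈ irreducibleComponents (X : Type u), Dense (f.base '' Z) := by
  constructor
  · intro hf Z hZ
    obtain ⟨ξ, hξ⟩ := QuasiSober.sober hZ.1 (isClosed_of_mem_irreducibleComponents Z hZ)
    have hgm : GenMax ξ := genMax_of_mem_irreducibleComponents ξ (by rw [hξ.def]; exact hZ)
    have hgen : genericPoint Y ⤳ f ξ := (genericPoint_spec Y).specializes (by trivial)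
    obtain ⟨ξ', hξ', hfξ'⟩ := (Flat.generalizingMap f) hgen
    have h1 : ξ' = ξ := hgm ξ' hξ'
    have hmem : genericPoint Y ∈ f.base '' Z := by
      refine ⟨ξ, ?_, ?_⟩
      · rw [← hξ.def]; exact subset_closure rfl
      · rw [← h1]; exact hfξ'
    intro y
    have h2 : y ∈ closure ({genericPoint Y} : Set Y) := by
      rw [(genericPoint_spec Y).def]; trivial
    exact closure_mono (Set.singleton_subset_iff.mpr hmem) h2
  · intro h
    rw [Flat.iff_flat_stalkMap]
    intro x
    let A := Y.presheaf.stalk (f x)
    let B := X.presheaf.stalk x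
    haveI := hreg (f x)
    have hdimA : ringKrullDim A ≤ 1 :=
      (Groth.Agent.Lib.Helper4.DimIneq4.ringKrullDim_stalk_le Y (f x)).trans hdim
    obtain ⟨hdom, hded⟩ := Groth.Agent.Lib.Helper4.DedekindOpen1.isDedekindDomain_of_regular A hdimA
    letI algAB : Algebra A B := (f.stalkMap x).hom.toAlgebra
    show Module.Flat A B
    apply flat_of_forall_smul
    intro a b ha hab
    have hnil : b ∈ nilradical B := by
      rw [nilradical_eq_sInf, Ideal.mem_sInf]
      intro 𝔮 h𝔮
      haveI : 𝔮.IsPrime := h𝔮
      obtain ⟨𝔭, h𝔭, h𝔭le⟩ := Ideal.exists_minimalPrimes_le (show (⊥ : Ideal B) ≤ 𝔮 from bot_le)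
      haveI : 𝔭.IsPrime := h𝔭.1.1
      let p : Spec (X.presheaf.stalk x) := (⟨𝔭, inferInstance⟩ : PrimeSpectrum B)
      have hgm : GenMax (X.fromSpecStalk x p) := genMax_fromSpecStalk x p h𝔭
      have hcomp := closure_singleton_mem_irreducibleComponents _ hgm
      have hd := h _ hcomp
      have hfξ : f (X.fromSpecStalk x p) = genericPoint Y := by
        have h1 : closure ({f (X.fromSpecStalk x p)} : Set Y) = Set.univ := by
          apply Set.eq_univ_of_univ_subset
          intro z _
          have h2 := hd z
          have h3 : f.base '' closure {X.fromSpecStalk x p} ⊆ closure {f (X.fromSpecStalk x p)} := by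
            have := image_closure_subset_closure_image (s := {X.fromSpecStalk x p})
              f.base.hom.continuous
            rw [Set.image_singleton] at this
            exact this
          exact closure_minimal h3 isClosed_closure h2
        have hg : IsGenericPoint (f (X.fromSpecStalk x p)) (Set.univ : Set Y) := h1
        exact hg.eq (genericPoint_spec Y)
      rw [map_fromSpecStalk, fromSpecStalk_eq_genericPoint_iff] at hfξ
      have hnot : algebraMap A B a ∉ 𝔭 := by
        intro hmem
        have h3 : a ∈ (Spec.map (f.stalkMap x) p).asIdeal := hmem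
        rw [hfξ, Ideal.mem_bot] at h3
        exact ha h3
      have h4 : algebraMap A B a * b ∈ 𝔭 := by rw [hab]; exact 𝔭.zero_mem
      rcases (inferInstance : 𝔭.IsPrime).mem_or_mem h4 with h5 | h5
      · exact absurd h5 hnot
      · exact h𝔭le h5
    have : IsNilpotent b := mem_nilradical.mp hnil
    exact this.eq_zero

end Groth.Agent.Lead.DedFlat
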