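import Mathlib
import Groth.Prelude.Def_DefoSh2
import Groth.Agent.Lib.Helper5.Perf.LocLift
import Groth.Agent.Lib.Helper1.SerreCrit

/-!
# First-order deformations of a locally free module are locally trivial (lead)
-/

set_option autoImplicit false
set_option linter.unusedSectionVars false
set_option linter.style.haveILetI false
set_option backward.isDefEq.respectTransparency.types false
universe u
open CategoryTheory CategoryTheory.Limits AlgebraicGeometry TopologicalSpace Opposite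

namespace Groth.Agent.Lead.DefoLoc

section Algebra

open DualNumber

variable {k : Type u} [Field k] {M : Type u} [AddCommGroup M] [Module (DualNumber k) M]

/-- an element of a flat `k[ε]`-module killed by `ε` is a multiple of `ε` -/
theorem exists_eq_eps_smul_of_flat [Module.Flat (DualNumber k) M] (v : M)
    (h : (ε : DualNumber k) • v = 0) : ∃ w : M, v = (ε : DualNumber k) • w := by
  have h' : ∑ i : Fin 1, (fun _ : Fin 1 => (ε : DualNumber k)) i • (fun _ : Fin 1 => v) i = 0 := by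
    simpa using h
  obtain ⟨n, a, y, hxy, hfa⟩ := Module.Flat.isTrivialRelation_of_sum_smul_eq_zero h'
  have ha : ∀ j, ∃ c : DualNumber k, a 0 j = ε * c := by
    intro j
    have h1 := hfa j
    simp only [Fin.sum_univ_one] at h1
    have h2 : (a 0 j).fst = 0 := by
      have := congrArg TrivSqZeroExt.snd h1
      simpa using this
    obtain ⟨c, hc⟩ := fst_eq_zero_iff_eps_dvd.1 h2
    exact ⟨c, hc⟩
  choose c hc using ha
  refine ⟨∑ j, c j • y j, ?_⟩
  have h0 : v = ∑ j, a 0 j • y j := hxy 0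
  rw [h0, Finset.smul_sum]
  refine Finset.sum_congr rfl fun j _ => ?_
  rw [hc j, mul_smul]

/-- an element of `𝔪 • ⊤` is a multiple of `ε` -/
theorem exists_eq_eps_smul_of_mem (v : M)
    (h : v ∈ IsLocalRing.maximalIdeal (DualNumber k) • (⊤ : Submodule (DualNumber k) M)) :
    ∃ w : M, v = (ε : DualNumber k) • w := by
  rw [maximalIdeal_eq_span_singleton_eps] at h
  refine Submodule.smul_induction_on h ?_ ?_
  · intro r hr n _
    obtain ⟨c, rfl⟩ := Ideal.mem_span_singleton'.1 hr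
    exact ⟨c • n, by rw [mul_comm, mul_smul]⟩
  · rintro x y ⟨w, rfl⟩ ⟨w', rfl⟩
    exact ⟨w + w', by rw [smul_add]⟩

end Algebra

section Lift

open Scheme.Modules

/-- local lifting over an open subset (in the form `U.ι`) -/
theorem exists_lift_opens {X : Scheme.{u}} {P M N : X.Modules} (hP : FlatMod.IsFinLocFree P)
    (π : M ⟶ N) [Epi π] (φ : P ⟶ N) (x : X) :
    ∃ U : X.Opens, x ∈ U ∧ ∃ ψ : P.restrict U.ι ⟶ M.restrict U.ι,
      ψ ≫ (restrictFunctor U.ι).map π = (restrictFunctor U.ι).map φ := by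
  obtain ⟨V, j, hj, hx, ψ, hψ⟩ := Groth.Agent.Lib.Helper5.LocLift.exists_lift hP π φ x
  refine ⟨j.opensRange, hx, ?_⟩
  have hi : j.opensRange.ι = j.isoOpensRange.inv ≫ j := (j.isoOpensRange_inv_comp).symm
  let θ : restrictFunctor j.opensRange.ι ≅
      restrictFunctor j ⋙ restrictFunctor j.isoOpensRange.inv :=
    restrictFunctorCongr hi ≪≫ restrictFunctorComp j.isoOpensRange.inv j
  refine ⟨θ.hom.app P ≫ (restrictFunctor j.isoOpensRange.inv).map ψ ≫ θ.inv.app M, ?_⟩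
  have hn : θ.inv.app M ≫ (restrictFunctor j.opensRange.ι).map π =
      (restrictFunctor j.isoOpensRange.inv).map ((restrictFunctor j).map π) ≫ θ.inv.app N :=
    (θ.inv.naturality π).symm
  have hn2 : θ.hom.app P ≫ (restrictFunctor j.isoOpensRange.inv).map ((restrictFunctor j).map φ) =
      (restrictFunctor j.opensRange.ι).map φ ≫ θ.hom.app N :=
    (θ.hom.naturality φ).symm
  simp only [Category.assoc]
  rw [hn, ← Functor.map_comp_assoc, hψ, reassoc_of% hn2, Iso.hom_inv_id_app, Category.comp_id]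

end Lift

section Main

open Groth.Agent.Helper1.QcCech ArtFun ArtFun.Art

variable {k : Type u} [Field k] {X : Scheme.{u}} [X.Over (Spec (CommRingCat.of k))]
  {E : X.Modules} (D : DefoSh.Defo E (dual k k))

/-- `ε` as an endomorphism of the deformed module -/
noncomputable def epsD : D.sheaf ⟶ D.sheaf := D.act (DualNumber.eps : DualNumber k)

theorem epsD_π : epsD D ≫ D.π = 0 := D.act_π _ rfl

theorem epsD_epsD : epsD D ≫ epsD D = 0 := by
  have h1 : D.act ((DualNumber.eps : DualNumber k) * (DualNumber.eps : DualNumber k)) =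
      D.act (DualNumber.eps : DualNumber k) * D.act (DualNumber.eps : DualNumber k) := map_mul _ _ _
  have h0 : D.act ((DualNumber.eps : DualNumber k) * (DualNumber.eps : DualNumber k)) = 0 :=
    (congrArg D.act (DualNumber.eps_mul_eps (R := k))).trans (map_zero D.act)
  exact h1.symm.trans h0

theorem app_res {M N : X.Modules} (f : M ⟶ N) {U V : X.Opens} (h : V ≤ U) (m : Γ(M, U)) :
    f.app V (res M h m) = res N h (f.app U m) :=
  (ConcreteCategory.congr_hom (f.mapPresheaf.naturality (homOfLE h).op) m)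

theorem comp_app_apply {M N P : X.Modules} (f : M ⟶ N) (g : N ⟶ P) (U : X.Opens) (m : Γ(M, U)) :
    (f ≫ g).app U m = g.app U (f.app U m) := rfl

theorem epsD_π_app (V : X.Opens) (y : Γ(D.sheaf, V)) : D.π.app V ((epsD D).app V y) = 0 := by
  rw [← comp_app_apply, epsD_π, Scheme.Modules.Hom.zero_app]
  rfl

theorem epsD_epsD_app (V : X.Opens) (y : Γ(D.sheaf, V)) :
    (epsD D).app V ((epsD D).app V y) = 0 := by
  rw [← comp_app_apply, epsD_epsD, Scheme.Modules.Hom.zero_app]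
  rfl

/-- a section killed by `ε` near `p` reduces to zero near `p` -/
theorem germ_π_eq_zero {V : X.Opens} (p : X) (hp : p ∈ V) (y : Γ(D.sheaf, V))
    (h : D.sheaf.presheaf.germ V p hp ((epsD D).app V y) = 0) :
    E.presheaf.germ V p hp (D.π.app V y) = 0 := by
  letI inst : Module (DualNumber k) ↑(D.sheaf.presheaf.stalk p) := D.stalkMod p
  haveI : Module.Flat (DualNumber k) ↑(D.sheaf.presheaf.stalk p) := D.flat p
  have h1 : (DualNumber.eps : DualNumber k) • (D.sheaf.presheaf.germ V p hp y) = 0 := by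
    show RefHull.stalkMapₗ (epsD D) p (D.sheaf.presheaf.germ V p hp y) = 0
    rw [RefHull.stalkMapₗ_germ]
    exact h
  obtain ⟨w, hw⟩ := exists_eq_eps_smul_of_flat (k := k) _ h1
  rw [← RefHull.stalkMapₗ_germ, hw]
  show RefHull.stalkMapₗ D.π p (RefHull.stalkMapₗ (epsD D) p w) = 0
  rw [← DefoSh.stalkMapₗ_comp_apply, epsD_π, DefoSh.stalkMapₗ_zero_apply]

/-- a section reducing to zero near `p` is a multiple of `ε` near `p` -/
theorem exists_eps_of_germ_π {V : X.Opens} (p : X) (hp : p ∈ V) (v : Γ(D.sheaf, V))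
    (h : E.presheaf.germ V p hp (D.π.app V v) = 0) :
    ∃ (V' : X.Opens) (hV' : V' ≤ V) (w : Γ(D.sheaf, V')), p ∈ V' ∧
      res D.sheaf hV' v = (epsD D).app V' w := by
  letI inst : Module (DualNumber k) ↑(D.sheaf.presheaf.stalk p) := D.stalkMod p
  have h1 : RefHull.stalkMapₗ D.π p (D.sheaf.presheaf.germ V p hp v) = 0 := by
    rw [RefHull.stalkMapₗ_germ]
    exact h
  have h2 := D.ker_le p _ h1
  obtain ⟨w₀, hw₀⟩ := exists_eq_eps_smul_of_mem (k := k) _ h2
  obtain ⟨V₁, hp₁, w, rfl⟩ := TopCat.Presheaf.exists_germ_eq D.sheaf.presheaf w₀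
  have h3 : D.sheaf.presheaf.germ V p hp v =
      D.sheaf.presheaf.germ V₁ p hp₁ ((epsD D).app V₁ w) := by
    rw [hw₀]
    show RefHull.stalkMapₗ (epsD D) p _ = _
    rw [RefHull.stalkMapₗ_germ]
  obtain ⟨W, hpW, iU, iV, hW⟩ := TopCat.Presheaf.germ_eq D.sheaf.presheaf p hp hp₁ _ _ h3
  refine ⟨W, iU.le, res D.sheaf iV.le w, hpW, ?_⟩
  rw [app_res]
  exact hW

/-- a section reducing to zero near `p` is killed by `ε` near `p` -/
theorem exists_eps_eq_zero_of_germ_π {V : X.Opens} (p : X) (hp : p ∈ V) (v : Γ(D.sheaf, V))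
    (h : E.presheaf.germ V p hp (D.π.app V v) = 0) :
    ∃ (V' : X.Opens) (hV' : V' ≤ V), p ∈ V' ∧ res D.sheaf hV' ((epsD D).app V v) = 0 := by
  obtain ⟨V', hV', w, hpV', hw⟩ := exists_eps_of_germ_π D p hp v h
  refine ⟨V', hV', hpV', ?_⟩
  rw [← app_res, hw, epsD_epsD_app]

section Restricted

open Scheme.Modules

variable (U : X.Opens) (τ : E.restrict U.ι ⟶ D.sheaf.restrict U.ι)

/-- the candidate trivialisation `(a, b) ↦ τ a + ε τ b` -/
noncomputable def einv : (E ⊞ E).restrict U.ι ⟶ D.sheaf.restrict U.ι :=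
  (restrictFunctor U.ι).map biprod.fst ≫ τ +
    (restrictFunctor U.ι).map biprod.snd ≫ τ ≫ (restrictFunctor U.ι).map (epsD D)

/-- `τ` on sections, typed over `X` -/
noncomputable def τs (W : U.toScheme.Opens) : Γ(E, U.ι ''ᵁ W) →+ Γ(D.sheaf, U.ι ''ᵁ W) :=
  (τ.app W).hom

/-- `einv` on sections, typed over `X` -/
noncomputable def einvs (W : U.toScheme.Opens) :
    Γ(E ⊞ E, U.ι ''ᵁ W) →+ Γ(D.sheaf, U.ι ''ᵁ W) :=
  ((einv D U τ).app W).hom

theorem einvs_apply (W : U.toScheme.Opens) (s : Γ(E ⊞ E, U.ι ''ᵁ W)) :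
    einvs D U τ W s =
      τs D U τ W ((biprod.fst : E ⊞ E ⟶ E).app (U.ι ''ᵁ W) s) +
        (epsD D).app (U.ι ''ᵁ W) (τs D U τ W ((biprod.snd : E ⊞ E ⟶ E).app (U.ι ''ᵁ W) s)) := by
  unfold einvs einv
  rw [Scheme.Modules.Hom.add_app]
  rfl

theorem sec_ext_germ (M : X.Modules) {V : X.Opens} (a b : Γ(M, V))
    (h : ∀ (p : X) (hp : p ∈ V), M.presheaf.germ V p hp a = M.presheaf.germ V p hp b) : a = b :=
  TopCat.Presheaf.section_ext (⟨M.presheaf, M.isSheaf⟩ : TopCat.Sheaf Ab X) V a b h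

variable (hτ : τ ≫ (restrictFunctor U.ι).map D.π = 𝟙 _)

include hτ in
theorem π_τs (W : U.toScheme.Opens) (a : Γ(E, U.ι ''ᵁ W)) :
    D.π.app (U.ι ''ᵁ W) (τs D U τ W a) = a := by
  have h := congrArg (fun φ : E.restrict U.ι ⟶ E.restrict U.ι => φ.app W a) hτ
  exact h

theorem total_app (V : X.Opens) (e : Γ(E ⊞ E, V)) :
    (biprod.inl : E ⟶ E ⊞ E).app V ((biprod.fst : E ⊞ E ⟶ E).app V e) +
      (biprod.inr : E ⟶ E ⊞ E).app V ((biprod.snd : E ⊞ E ⟶ E).app V e) = e := by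
  have h : (biprod.fst ≫ biprod.inl + biprod.snd ≫ biprod.inr : E ⊞ E ⟶ E ⊞ E).app V e = e := by
    rw [biprod.total]
    rfl
  rw [Scheme.Modules.Hom.add_app] at h
  exact h

include hτ in
theorem einvs_injective (W : U.toScheme.Opens) : Function.Injective (einvs D U τ W) := by
  rw [injective_iff_map_eq_zero]
  intro s hs
  rw [einvs_apply] at hs
  have ha : (biprod.fst : E ⊞ E ⟶ E).app (U.ι ''ᵁ W) s = 0 := by
    have h1 := congrArg (D.π.app (U.ι ''ᵁ W)) hs
    rw [map_add, π_τs D U τ hτ, epsD_π_app, add_zero, map_zero] at h1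
    exact h1
  have hb : (biprod.snd : E ⊞ E ⟶ E).app (U.ι ''ᵁ W) s = 0 := by
    apply sec_ext_germ E
    intro p hp
    rw [map_zero]
    have h2 : (epsD D).app (U.ι ''ᵁ W)
        (τs D U τ W ((biprod.snd : E ⊞ E ⟶ E).app (U.ι ''ᵁ W) s)) = 0 := by
      rw [ha, map_zero, zero_add] at hs
      exact hs
    have h3 := germ_π_eq_zero D p hp _ (by rw [h2, map_zero])
    rw [π_τs D U τ hτ] at h3
    exact h3
  have htot := total_app (U.ι ''ᵁ W) s
  rw [← htot, ha, hb, map_zero, map_zero, add_zero]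

theorem fst_inl_app (V : X.Opens) (a : Γ(E, V)) :
    (biprod.fst : E ⊞ E ⟶ E).app V ((biprod.inl : E ⟶ E ⊞ E).app V a) = a := by
  rw [← comp_app_apply, biprod.inl_fst]
  rfl

theorem fst_inr_app (V : X.Opens) (a : Γ(E, V)) :
    (biprod.fst : E ⊞ E ⟶ E).app V ((biprod.inr : E ⟶ E ⊞ E).app V a) = 0 := by
  rw [← comp_app_apply, biprod.inr_fst, Scheme.Modules.Hom.zero_app]
  rfl

theorem snd_inl_app (V : X.Opens) (a : Γ(E, V)) :
    (biprod.snd : E ⊞ E ⟶ E).app V ((biprod.inl : E ⟶ E ⊞ E).app V a) = 0 := by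
  rw [← comp_app_apply, biprod.inl_snd, Scheme.Modules.Hom.zero_app]
  rfl

theorem snd_inr_app (V : X.Opens) (a : Γ(E, V)) :
    (biprod.snd : E ⊞ E ⟶ E).app V ((biprod.inr : E ⟶ E ⊞ E).app V a) = a := by
  rw [← comp_app_apply, biprod.inr_snd]
  rfl

/-- a section reducing to zero is killed by `ε` -/
theorem epsD_app_eq_zero_of_π {V : X.Opens} (y : Γ(D.sheaf, V)) (h : D.π.app V y = 0) :
    (epsD D).app V y = 0 := by
  apply sec_ext_germ D.sheaf
  intro p hp
  rw [map_zero]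
  obtain ⟨V', hV', hpV', h0⟩ := exists_eps_eq_zero_of_germ_π D p hp y (by rw [h, map_zero])
  have h1 := TopCat.Presheaf.germ_res_apply D.sheaf.presheaf (homOfLE hV') p hpV'
    ((epsD D).app V y)
  rw [← h1]
  have h2 : D.sheaf.presheaf.map (homOfLE hV').op ((epsD D).app V y) = 0 := h0
  rw [h2, map_zero]

theorem τs_res {W W' : U.toScheme.Opens} (h : W' ≤ W) (a : Γ(E, U.ι ''ᵁ W)) :
    τs D U τ W' (res E (U.ι.image_mono h) a) = res D.sheaf (U.ι.image_mono h) (τs D U τ W a) :=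
  (ConcreteCategory.congr_hom (τ.mapPresheaf.naturality (homOfLE h).op) a)

include hτ in
theorem einvs_locally_surjective (W : U.toScheme.Opens) (v : Γ(D.sheaf, U.ι ''ᵁ W)) (q : U)
    (hq : q ∈ W) :
    ∃ (W' : U.toScheme.Opens) (hW' : W' ≤ W), q ∈ W' ∧ ∃ m : Γ(E ⊞ E, U.ι ''ᵁ W'),
      einvs D U τ W' m = res D.sheaf (U.ι.image_mono hW') v := by
  have hp : (q : X) ∈ U.ι ''ᵁ W := (Scheme.Opens.mem_ι_image_iff U).2 hq
  have h1 : D.π.app (U.ι ''ᵁ W) (v - τs D U τ W (D.π.app (U.ι ''ᵁ W) v)) = 0 := by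
    rw [map_sub, π_τs D U τ hτ, sub_self]
  obtain ⟨V₁, hV₁, w, hpV₁, hw⟩ := exists_eps_of_germ_π D (q : X) hp _ (by rw [h1, map_zero])
  obtain ⟨W₁, hW₁def⟩ : ∃ W₁ : U.toScheme.Opens, W₁ = U.ι ⁻¹ᵁ V₁ ⊓ W := ⟨_, rfl⟩
  have hle₁ : U.ι ''ᵁ W₁ ≤ V₁ := by
    rw [hW₁def]
    exact (U.ι.image_mono inf_le_left).trans (U.ι.image_preimage_le V₁)
  have hW₁ : W₁ ≤ W := by
    rw [hW₁def]
    exact inf_le_right
  have hqW₁ : q ∈ W₁ := by
    rw [hW₁def]
    exact ⟨hpV₁, hq⟩
  refine ⟨W₁, hW₁, hqW₁, ?_⟩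
  let w₁ : Γ(D.sheaf, U.ι ''ᵁ W₁) := res D.sheaf hle₁ w
  have h2 : D.π.app (U.ι ''ᵁ W₁) (w₁ - τs D U τ W₁ (D.π.app (U.ι ''ᵁ W₁) w₁)) = 0 := by
    rw [map_sub, π_τs D U τ hτ, sub_self]
  have h3 := epsD_app_eq_zero_of_π D _ h2
  rw [map_sub, sub_eq_zero] at h3
  refine ⟨(biprod.inl : E ⟶ E ⊞ E).app (U.ι ''ᵁ W₁)
      (res E (U.ι.image_mono hW₁) (D.π.app (U.ι ''ᵁ W) v)) +
    (biprod.inr : E ⟶ E ⊞ E).app (U.ι ''ᵁ W₁) (D.π.app (U.ι ''ᵁ W₁) w₁), ?_⟩
  have e1 : (biprod.fst : E ⊞ E ⟶ E).app (U.ι ''ᵁ W₁)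
      ((biprod.inl : E ⟶ E ⊞ E).app (U.ι ''ᵁ W₁)
        (res E (U.ι.image_mono hW₁) (D.π.app (U.ι ''ᵁ W) v)) +
      (biprod.inr : E ⟶ E ⊞ E).app (U.ι ''ᵁ W₁) (D.π.app (U.ι ''ᵁ W₁) w₁)) =
      res E (U.ι.image_mono hW₁) (D.π.app (U.ι ''ᵁ W) v) := by
    rw [map_add, fst_inl_app, fst_inr_app, add_zero]
  have e2 : (biprod.snd : E ⊞ E ⟶ E).app (U.ι ''ᵁ W₁)
      ((biprod.inl : E ⟶ E ⊞ E).app (U.ι ''ᵁ W₁)
        (res E (U.ι.image_mono hW₁) (D.π.app (U.ι ''ᵁ W) v)) +
      (biprod.inr : E ⟶ E ⊞ E).app (U.ι ''ᵁ W₁) (D.π.app (U.ι ''ᵁ W₁) w₁)) =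
      D.π.app (U.ι ''ᵁ W₁) w₁ := by
    rw [map_add, snd_inl_app, snd_inr_app, zero_add]
  rw [einvs_apply, e1, e2, τs_res D U τ hW₁, ← h3]
  have h4 : (epsD D).app (U.ι ''ᵁ W₁) w₁ =
      res D.sheaf (U.ι.image_mono hW₁) (v - τs D U τ W (D.π.app (U.ι ''ᵁ W) v)) := by
    show (epsD D).app (U.ι ''ᵁ W₁) (res D.sheaf hle₁ w) = _
    rw [app_res, ← hw, res_res]
  rw [h4, map_sub, add_sub_cancel]

theorem mono_of_app_injective {Y : Scheme.{u}} {M N : Y.Modules} (φ : M ⟶ N)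
    (h : ∀ W : Y.Opens, Function.Injective (φ.app W)) : Mono φ := by
  apply Preadditive.mono_of_cancel_zero
  intro Q g hg
  apply Scheme.Modules.hom_ext
  intro W
  ext t
  apply h W
  have h1 := congrArg (fun ψ : Q ⟶ N => ψ.app W t) hg
  exact h1.trans (map_zero (φ.app W).hom).symm

include hτ in
theorem isIso_einv : IsIso (einv D U τ) := by
  haveI : Mono (einv D U τ) := mono_of_app_injective _ (fun W => einvs_injective D U τ hτ W)
  haveI : Epi (einv D U τ) := by
    apply Groth.Agent.Helper1.SerreCrit.epi_of_locally_surjective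
    intro W t q hq
    obtain ⟨W', hW', hqW', m, hm⟩ := einvs_locally_surjective D U τ hτ W t q hq
    exact ⟨W', hW', hqW', m, hm⟩
  exact isIso_of_mono_of_epi _

instance restrictFunctor_additive' : (restrictFunctor U.ι).Additive :=
  (restrictAdjunction U.ι).left_adjoint_additive

include hτ in
theorem einv_π : einv D U τ ≫ (restrictFunctor U.ι).map D.π =
    (restrictFunctor U.ι).map (biprod.fst : E ⊞ E ⟶ E) := by
  unfold einv
  rw [Preadditive.add_comp, Category.assoc, Category.assoc, Category.assoc, hτ, Category.comp_id,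
    ← Functor.map_comp, epsD_π, Functor.map_zero, comp_zero, comp_zero, add_zero]

theorem einv_eps : einv D U τ ≫ (restrictFunctor U.ι).map (epsD D) =
    (restrictFunctor U.ι).map ((biprod.fst : E ⊞ E ⟶ E) ≫ biprod.inr) ≫ einv D U τ := by
  unfold einv
  rw [Preadditive.add_comp, Preadditive.comp_add, Category.assoc, Category.assoc, Category.assoc,
    ← Functor.map_comp (restrictFunctor U.ι) (epsD D) (epsD D), epsD_epsD, Functor.map_zero,
    comp_zero, comp_zero, add_zero, ← Functor.map_comp_assoc, ← Functor.map_comp_assoc,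
    Category.assoc, Category.assoc, biprod.inr_fst, biprod.inr_snd, comp_zero, Functor.map_zero,
    zero_comp, zero_add, Category.comp_id]

theorem τs_smul (W : U.toScheme.Opens) (r : Γ(X, U.ι ''ᵁ W)) (a : Γ(E, U.ι ''ᵁ W)) :
    τs D U τ W (r • a) = r • τs D U τ W a := by
  have h := Scheme.Modules.Hom.app_smul τ ((U.ι.appIso W).hom r) a
  have h2 : (U.ι.appIso W).inv ((U.ι.appIso W).hom r) = r := by
    rw [← CommRingCat.comp_apply, Iso.hom_inv_id]
    rfl
  have h3 : ∀ (M : X.Modules) (b : Γ(M, U.ι ''ᵁ W)),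
      (((U.ι.appIso W).hom r) • (show Γ(M.restrict U.ι, W) from b) : Γ(M.restrict U.ι, W)) =
        (show Γ(M.restrict U.ι, W) from (((U.ι.appIso W).inv ((U.ι.appIso W).hom r)) • b)) :=
    fun M b => rfl
  rw [h3, h3, h2] at h
  exact h

theorem einv_smul (c : k) :
    einv D U τ ≫ (restrictFunctor U.ι).map (Formal.smulMod k D.sheaf c) =
      (restrictFunctor U.ι).map (Formal.smulMod k (E ⊞ E) c) ≫ einv D U τ := by
  apply Scheme.Modules.hom_ext
  intro W
  ext s
  show (Formal.smulMod k D.sheaf c).app (U.ι ''ᵁ W) (einvs D U τ W s) =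
    einvs D U τ W ((Formal.smulMod k (E ⊞ E) c).app (U.ι ''ᵁ W) s)
  unfold Formal.smulMod
  rw [KLin.smulModΓ_app_apply, KLin.smulModΓ_app_apply, einvs_apply, einvs_apply,
    Scheme.Modules.Hom.app_smul, Scheme.Modules.Hom.app_smul, τs_smul, τs_smul,
    Scheme.Modules.Hom.app_smul, smul_add]

theorem act_decomp (a : DualNumber k) :
    (D.act a : D.sheaf ⟶ D.sheaf) =
      Formal.smulMod k D.sheaf a.fst + epsD D ≫ Formal.smulMod k D.sheaf a.snd := by
  have ha : a = algebraMap k (DualNumber k) a.fst +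
      algebraMap k (DualNumber k) a.snd * (DualNumber.eps : DualNumber k) := by
    apply TrivSqZeroExt.ext <;> simp [TrivSqZeroExt.algebraMap_eq_inl]
  have h1 : D.act a = D.act (algebraMap k (DualNumber k) a.fst) +
      D.act (algebraMap k (DualNumber k) a.snd) * D.act (DualNumber.eps : DualNumber k) := by
    conv_lhs => rw [ha]
    exact (map_add D.act _ _).trans (congrArg₂ (· + ·) rfl (map_mul D.act _ _))
  have e1 : D.act (algebraMap k (DualNumber k) a.fst) = Formal.smulMod k D.sheaf a.fst :=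
    D.act_algebraMap a.fst
  have e2 : D.act (algebraMap k (DualNumber k) a.snd) = Formal.smulMod k D.sheaf a.snd :=
    D.act_algebraMap a.snd
  rw [h1, e1, e2]
  rfl

theorem dualAct_decomp (a : DualNumber k) :
    (DefoSh.dualAct k E a : E ⊞ E ⟶ E ⊞ E) =
      Formal.smulMod k (E ⊞ E) a.fst +
        ((biprod.fst : E ⊞ E ⟶ E) ≫ biprod.inr) ≫ Formal.smulMod k (E ⊞ E) a.snd := by
  rw [DefoSh.dualAct_hom, KLin.smul_id, KLin.smul_def]
  congr 1
  unfold Formal.smulMod
  rw [KLin.comp_smulModΓ]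

theorem einv_act (a : DualNumber k) :
    einv D U τ ≫ (restrictFunctor U.ι).map (D.act a) =
      (restrictFunctor U.ι).map (DefoSh.dualAct k E a : E ⊞ E ⟶ E ⊞ E) ≫ einv D U τ := by
  rw [act_decomp, dualAct_decomp, Functor.map_add, Functor.map_add, Functor.map_comp,
    Functor.map_comp, Preadditive.comp_add, Preadditive.add_comp, einv_smul,
    ← Category.assoc (einv D U τ), einv_eps, Category.assoc, Category.assoc, einv_smul]

end Restricted

section Final

open Scheme.Modules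

theorem epi_π : Epi D.π := by
  apply Groth.Agent.Helper1.SerreCrit.epi_of_locally_surjective
  intro U t x hx
  obtain ⟨v, hv⟩ := D.surj x (E.presheaf.germ U x hx t)
  obtain ⟨V₁, hx₁, m, rfl⟩ := TopCat.Presheaf.exists_germ_eq D.sheaf.presheaf v
  rw [RefHull.stalkMapₗ_germ] at hv
  obtain ⟨W, hxW, iV, iU, hW⟩ := TopCat.Presheaf.germ_eq E.presheaf x hx₁ hx _ _ hv
  refine ⟨W, iU.le, hxW, res D.sheaf iV.le m, ?_⟩
  rw [app_res]
  exact hW

theorem main (hE : FlatMod.IsFinLocFree E) (x : X) :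
    ∃ (U : X.Opens)
      (e : D.sheaf.restrict U.ι ≅ (DefoSh.Defo.trivDual k E).sheaf.restrict U.ι), x ∈ U ∧
      e.hom ≫ (restrictFunctor U.ι).map (DefoSh.Defo.trivDual k E).π =
        (restrictFunctor U.ι).map D.π ∧
      ∀ a : dual k k, (restrictFunctor U.ι).map (D.act a) ≫ e.hom =
        e.hom ≫ (restrictFunctor U.ι).map ((DefoSh.Defo.trivDual k E).act a) := by
  haveI : Epi D.π := epi_π D
  obtain ⟨U, hxU, τ, hτ⟩ := exists_lift_opens hE D.π (𝟙 E) x
  have hτ' : τ ≫ (restrictFunctor U.ι).map D.π = 𝟙 _ := by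
    rw [hτ, CategoryTheory.Functor.map_id]
  haveI := isIso_einv D U τ hτ'
  let e : D.sheaf.restrict U.ι ≅ (E ⊞ E).restrict U.ι := (asIso (einv D U τ)).symm
  have h1 : e.hom ≫ (restrictFunctor U.ι).map (biprod.fst : E ⊞ E ⟶ E) =
      (restrictFunctor U.ι).map D.π := by
    show inv (einv D U τ) ≫ _ = _
    rw [IsIso.inv_comp_eq]
    exact (einv_π D U τ hτ').symm
  have h2 : ∀ a : DualNumber k, (restrictFunctor U.ι).map (D.act a) ≫ e.hom =
      e.hom ≫ (restrictFunctor U.ι).map (DefoSh.dualAct k E a : E ⊞ E ⟶ E ⊞ E) := by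
    intro a
    show _ ≫ inv (einv D U τ) = inv (einv D U τ) ≫ _
    rw [IsIso.comp_inv_eq, Category.assoc, IsIso.eq_inv_comp]
    exact einv_act D U τ a
  exact ⟨U, e, hxU, h1, h2⟩

end Final

end Main

end Groth.Agent.Lead.DefoLoc
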