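import Mathlib
import Groth.Prelude.Def_DefoConn
import Groth.Prelude.Def_DefoSh2
import Groth.Agent.Lib.Helper1.TensGen

/-!
# Morphisms out of a tensor product of modules are determined by pure tensors (lead)
-/

set_option autoImplicit false
set_option linter.unusedSectionVars false
set_option backward.isDefEq.respectTransparency.types false
universe u
open CategoryTheory CategoryTheory.Limits AlgebraicGeometry TopologicalSpace Opposite TensorProduct

namespace Groth.Agent.Lead.TensExt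

open Groth.Agent.Helper1.QcCech Groth.Agent.Helper1.TmulLib Groth.Agent.Helper1.TensGen

variable {X : Scheme.{u}}

/-- sections agreeing locally are equal -/
theorem sec_ext_local (P : X.Modules) {U : X.Opens} (a b : Γ(P, U))
    (h : ∀ x ∈ U, ∃ (V : X.Opens) (hV : V ≤ U), x ∈ V ∧ res P hV a = res P hV b) : a = b := by
  choose V hV hxV hab using h
  apply TopCat.Sheaf.eq_of_locally_eq' (⟨P.presheaf, P.isSheaf⟩ : TopCat.Sheaf Ab X)
    (fun x : U => V x.1 x.2) U (fun x => homOfLE (hV x.1 x.2))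
  · intro x hx
    exact Opens.mem_iSup.2 ⟨⟨x, hx⟩, hxV x hx⟩
  · intro x
    exact hab x.1 x.2

theorem app_res {M N : X.Modules} (f : M ⟶ N) {U V : X.Opens} (h : V ≤ U) (m : Γ(M, U)) :
    f.app V (res M h m) = res N h (f.app U m) :=
  (ConcreteCategory.congr_hom (f.mapPresheaf.naturality (homOfLE h).op) m)

theorem hom_ext_tmul {M N P : X.Modules} (φ ψ : CohB1.tensorMod M N ⟶ P)
    (h : ∀ (U : X.Opens) (m : Γ(M, U)) (n : Γ(N, U)),
      φ.app U (tm M N U m n) = ψ.app U (tm M N U m n)) : φ = ψ := by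
  refine Scheme.Modules.hom_ext _ _ fun U => ?_
  ext t
  apply sec_ext_local P
  intro x hx
  obtain ⟨V, hV, p, hxV, hp⟩ := toT_locally_surjective M N U t x hx
  refine ⟨V, hV, hxV, ?_⟩
  rw [← app_res φ, ← app_res ψ, ← hp]
  clear hp
  let f : (CohB1.tensorPre M N).obj (op V) →+ Γ(P, V) :=
    (φ.app V).hom.comp ((SecTwist.toTensor M N).app (op V)).hom.toAddMonoidHom
  let g : (CohB1.tensorPre M N).obj (op V) →+ Γ(P, V) :=
    (ψ.app V).hom.comp ((SecTwist.toTensor M N).app (op V)).hom.toAddMonoidHom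
  show f p = g p
  refine TensorProduct.induction_on p ?_ ?_ ?_
  · exact (map_zero f).trans (map_zero g).symm
  · intro m n
    exact h V m n
  · intro a b ha hb
    exact (map_add f a b).trans ((congrArg₂ (· + ·) ha hb).trans (map_add g a b).symm)


section TensorMapLinear

variable {M M' N N' : X.Modules}

theorem tensorMap_app_tm (f : M ⟶ M') (g : N ⟶ N') (U : X.Opens) (m : Γ(M, U)) (n : Γ(N, U)) :
    (KoszTw.tensorMap f g).app U (tm M N U m n) = tm M' N' U (f.app U m) (g.app U n) :=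
  KoszTw.tensorMap_tmul f g U m n

theorem tensorMap_add_left (f f' : M ⟶ M') (g : N ⟶ N') :
    KoszTw.tensorMap (f + f') g = KoszTw.tensorMap f g + KoszTw.tensorMap f' g := by
  apply hom_ext_tmul
  intro U m n
  rw [Scheme.Modules.Hom.add_app]
  show (KoszTw.tensorMap (f + f') g).app U (tm M N U m n) =
    (KoszTw.tensorMap f g).app U (tm M N U m n) + (KoszTw.tensorMap f' g).app U (tm M N U m n)
  rw [tensorMap_app_tm, tensorMap_app_tm, tensorMap_app_tm, Scheme.Modules.Hom.add_app]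
  exact tm_add_left M' N' U _ _ _

theorem tensorMap_zero_left (g : N ⟶ N') :
    KoszTw.tensorMap (0 : M ⟶ M') g = 0 := by
  apply hom_ext_tmul
  intro U m n
  rw [tensorMap_app_tm, Scheme.Modules.Hom.zero_app]
  show tm M' N' U 0 _ = 0
  exact tm_zero_left M' N' U _

end TensorMapLinear


section KLinear

variable {k : Type u} [Field k] [X.Over (Spec (CommRingCat.of k))] {M M' N N' : X.Modules}

theorem tensorMap_smul_left (c : k) (f : M ⟶ M') (g : N ⟶ N') :
    KoszTw.tensorMap (c • f) g = c • KoszTw.tensorMap f g := by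
  apply hom_ext_tmul
  intro U m n
  rw [tensorMap_app_tm, KLin.smul_app_apply, KLin.smul_app_apply, tensorMap_app_tm]
  exact tm_smul_left M' N' U _ _ _

end KLinear


section TrivConn

variable {k : Type u} [Field k] [X.Over (Spec (CommRingCat.of k))] {Ω' : X.Modules}
  (δ : OmegaSh.Der (X ↘ Spec (CommRingCat.of k)) Ω') {E : X.Modules}
  (nabla : Coh.toAb E ⟶ Coh.toAb (CohB1.tensorMod E Ω'))

/-- the underlying map of abelian sheaves -/
noncomputable abbrev toAbMap {M N : X.Modules} (φ : M ⟶ N) : Coh.toAb M ⟶ Coh.toAb N :=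
  (SheafOfModules.toSheaf X.ringCatSheaf).map φ

/-- the connection `∇ ⊕ ∇` on `E ⊞ E` -/
noncomputable def trivConn : Coh.toAb (E ⊞ E) ⟶ Coh.toAb (CohB1.tensorMod (E ⊞ E) Ω') :=
  toAbMap biprod.fst ≫ nabla ≫ toAbMap (KoszTw.tensorMap biprod.inl (𝟙 Ω')) +
  toAbMap biprod.snd ≫ nabla ≫ toAbMap (KoszTw.tensorMap biprod.inr (𝟙 Ω'))

theorem secApp_trivConn (U : X.Opens) (e : (E ⊞ E).val.obj (op U)) :
    ConnSh.secApp (trivConn nabla) U e =
      (KoszTw.tensorMap biprod.inl (𝟙 Ω')).app U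
        (ConnSh.secApp nabla U ((biprod.fst : E ⊞ E ⟶ E).app U e)) +
      (KoszTw.tensorMap biprod.inr (𝟙 Ω')).app U
        (ConnSh.secApp nabla U ((biprod.snd : E ⊞ E ⟶ E).app U e)) := rfl

theorem total_app (U : X.Opens) (e : Γ(E ⊞ E, U)) :
    (biprod.inl : E ⟶ E ⊞ E).app U ((biprod.fst : E ⊞ E ⟶ E).app U e) +
      (biprod.inr : E ⟶ E ⊞ E).app U ((biprod.snd : E ⊞ E ⟶ E).app U e) = e := by
  have h : (biprod.fst ≫ biprod.inl + biprod.snd ≫ biprod.inr : E ⊞ E ⟶ E ⊞ E).app U e = e := by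
    rw [biprod.total]
    rfl
  rw [Scheme.Modules.Hom.add_app] at h
  exact h

theorem trivConn_isConn (hn : ConnSh.IsConn δ E nabla) :
    ConnSh.IsConn δ (E ⊞ E) (trivConn nabla) := by
  intro U t e
  rw [secApp_trivConn, secApp_trivConn]
  let a : E.val.obj (op U) := (biprod.fst : E ⊞ E ⟶ E).app U e
  let b : E.val.obj (op U) := (biprod.snd : E ⊞ E ⟶ E).app U e
  have h1 : ((biprod.fst : E ⊞ E ⟶ E).app U (t • e) : E.val.obj (op U)) = t • a :=
    Scheme.Modules.Hom.app_smul _ _ _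
  have h2 : ((biprod.snd : E ⊞ E ⟶ E).app U (t • e) : E.val.obj (op U)) = t • b :=
    Scheme.Modules.Hom.app_smul _ _ _
  rw [h1, h2, hn U t a, hn U t b]
  have hadd : ∀ {P Q : X.Modules} (φ : P ⟶ Q) (x y : P.val.obj (op U)),
      (φ.app U (x + y) : Q.val.obj (op U)) = φ.app U x + φ.app U y :=
    fun φ x y => map_add (φ.app U).hom x y
  rw [hadd, hadd]
  have hs : ∀ {P Q : X.Modules} (φ : P ⟶ Q) (x : P.val.obj (op U)),
      (φ.app U (t • x) : Q.val.obj (op U)) = t • (φ.app U x : Q.val.obj (op U)) :=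
    fun φ x => Scheme.Modules.Hom.app_smul _ _ _
  have ht : ∀ (φ : E ⟶ E ⊞ E) (x : E.val.obj (op U)) (w : Ω'.val.obj (op U)),
      (KoszTw.tensorMap φ (𝟙 Ω')).app U (SecTwist.tmul E Ω' U x w) =
        SecTwist.tmul (E ⊞ E) Ω' U (φ.app U x) w := fun φ x w =>
    KoszTw.tensorMap_tmul φ (𝟙 Ω') U x w
  have htot : (e : (E ⊞ E).val.obj (op U)) =
      (biprod.inl : E ⟶ E ⊞ E).app U a + (biprod.inr : E ⟶ E ⊞ E).app U b :=
    (total_app U e).symm
  rw [hs, hs, ht, ht]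
  have hT : SecTwist.tmul (E ⊞ E) Ω' U e ((δ.app U) t) =
      SecTwist.tmul (E ⊞ E) Ω' U ((biprod.inl : E ⟶ E ⊞ E).app U a) ((δ.app U) t) +
        SecTwist.tmul (E ⊞ E) Ω' U ((biprod.inr : E ⟶ E ⊞ E).app U b) ((δ.app U) t) :=
    (congrArg (fun z => SecTwist.tmul (E ⊞ E) Ω' U z ((δ.app U) t)) htot).trans
      (tmul_add_left (E ⊞ E) Ω' U _ _ _)
  rw [hT]
  have key : ∀ (A B C D : (CohB1.tensorMod (E ⊞ E) Ω').val.obj (op U)),
      t • A + C + (t • B + D) = t • (A + B) + (C + D) := by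
    intro A B C D
    rw [smul_add]
    abel
  exact key _ _ _ _

theorem der_const (c : k) (U : X.Opens) :
    δ.app U (X.presheaf.map (homOfLE (le_top : U ≤ ⊤)).op
      (Coh.toGlobal (X ↘ Spec (CommRingCat.of k)) c)) = 0 := by
  have h0 : δ.d (X := op ⊤) (Coh.toGlobal (X ↘ Spec (CommRingCat.of k)) c) = 0 :=
    δ.d_app (X := op ⊤) ((Scheme.ΓSpecIso (CommRingCat.of k)).inv c)
  have h1 := δ.d_map (homOfLE (le_top : U ≤ ⊤)).op (Coh.toGlobal (X ↘ Spec (CommRingCat.of k)) c)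
  rw [h0, map_zero] at h1
  exact h1

theorem T_comp {M M' M'' : X.Modules} (f : M ⟶ M') (f' : M' ⟶ M'') :
    KoszTw.tensorMap f (𝟙 Ω') ≫ KoszTw.tensorMap f' (𝟙 Ω') =
      KoszTw.tensorMap (f ≫ f') (𝟙 Ω') := by
  rw [← KoszTw.tensorMap_comp, Category.id_comp]

theorem app_add' {P Q : X.Modules} (φ : P ⟶ Q) (U : X.Opens) (x y : P.val.obj (op U)) :
    (φ.app U (x + y) : Q.val.obj (op U)) = φ.app U x + φ.app U y :=
  map_add (φ.app U).hom x y

theorem app_smul' {P Q : X.Modules} (φ : P ⟶ Q) (U : X.Opens) (t : Γ(X, U))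
    (x : P.val.obj (op U)) :
    (φ.app U (t • x) : Q.val.obj (op U)) = t • (φ.app U x : Q.val.obj (op U)) :=
  Scheme.Modules.Hom.app_smul _ _ _

theorem tensorMap_trivConn {M : X.Modules} (φ : E ⊞ E ⟶ M) (U : X.Opens)
    (e : (E ⊞ E).val.obj (op U)) :
    (KoszTw.tensorMap φ (𝟙 Ω')).app U (ConnSh.secApp (trivConn nabla) U e) =
      (KoszTw.tensorMap (biprod.inl ≫ φ) (𝟙 Ω')).app U
        (ConnSh.secApp nabla U ((biprod.fst : E ⊞ E ⟶ E).app U e)) +
      (KoszTw.tensorMap (biprod.inr ≫ φ) (𝟙 Ω')).app U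
        (ConnSh.secApp nabla U ((biprod.snd : E ⊞ E ⟶ E).app U e)) := by
  have h := map_add ((KoszTw.tensorMap φ (𝟙 Ω')).app U).hom
    ((KoszTw.tensorMap biprod.inl (𝟙 Ω')).app U
      (ConnSh.secApp nabla U ((biprod.fst : E ⊞ E ⟶ E).app U e)))
    ((KoszTw.tensorMap biprod.inr (𝟙 Ω')).app U
      (ConnSh.secApp nabla U ((biprod.snd : E ⊞ E ⟶ E).app U e)))
  rw [← T_comp, ← T_comp]
  exact h

theorem trivConn_π_horizontal :
    ConnSh.IsHorizontal (trivConn nabla) nabla (biprod.fst : E ⊞ E ⟶ E) := by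
  intro U e
  rw [tensorMap_trivConn, biprod.inl_fst, biprod.inr_fst, KoszTw.tensorMap_id,
    tensorMap_zero_left]
  have h1 : ∀ y : (CohB1.tensorMod E Ω').val.obj (op U),
      ((0 : CohB1.tensorMod E Ω' ⟶ CohB1.tensorMod E Ω').app U y :
        (CohB1.tensorMod E Ω').val.obj (op U)) = 0 := fun y => by
    rw [Scheme.Modules.Hom.zero_app]
    rfl
  have h2 : ∀ y : (CohB1.tensorMod E Ω').val.obj (op U),
      ((𝟙 (CohB1.tensorMod E Ω') : CohB1.tensorMod E Ω' ⟶ CohB1.tensorMod E Ω').app U y :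
        (CohB1.tensorMod E Ω').val.obj (op U)) = y :=
    fun y => rfl
  rw [h1, h2, add_zero]

section ActIds

variable (z : DualNumber k)

theorem act_fst :
    (DefoSh.dualAct k E z : E ⊞ E ⟶ E ⊞ E) ≫ biprod.fst = z.fst • (biprod.fst : E ⊞ E ⟶ E) := by
  rw [DefoSh.dualAct_hom]
  change (z.fst • 𝟙 (E ⊞ E) + z.snd • ((biprod.fst : E ⊞ E ⟶ E) ≫ biprod.inr)) ≫ biprod.fst = _
  simp [Preadditive.add_comp, Linear.smul_comp]

theorem act_snd :
    (DefoSh.dualAct k E z : E ⊞ E ⟶ E ⊞ E) ≫ biprod.snd =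
      z.fst • (biprod.snd : E ⊞ E ⟶ E) + z.snd • (biprod.fst : E ⊞ E ⟶ E) := by
  rw [DefoSh.dualAct_hom]
  change (z.fst • 𝟙 (E ⊞ E) + z.snd • ((biprod.fst : E ⊞ E ⟶ E) ≫ biprod.inr)) ≫ biprod.snd = _
  simp [Preadditive.add_comp, Linear.smul_comp]

theorem inl_act :
    (biprod.inl : E ⟶ E ⊞ E) ≫ (DefoSh.dualAct k E z : E ⊞ E ⟶ E ⊞ E) =
      z.fst • (biprod.inl : E ⟶ E ⊞ E) + z.snd • (biprod.inr : E ⟶ E ⊞ E) := by
  rw [DefoSh.dualAct_hom]
  change (biprod.inl : E ⟶ E ⊞ E) ≫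
    (z.fst • 𝟙 (E ⊞ E) + z.snd • ((biprod.fst : E ⊞ E ⟶ E) ≫ biprod.inr)) = _
  simp [Preadditive.comp_add, Linear.comp_smul]

theorem inr_act :
    (biprod.inr : E ⟶ E ⊞ E) ≫ (DefoSh.dualAct k E z : E ⊞ E ⟶ E ⊞ E) =
      z.fst • (biprod.inr : E ⟶ E ⊞ E) := by
  rw [DefoSh.dualAct_hom]
  change (biprod.inr : E ⟶ E ⊞ E) ≫
    (z.fst • 𝟙 (E ⊞ E) + z.snd • ((biprod.fst : E ⊞ E ⟶ E) ≫ biprod.inr)) = _
  simp [Preadditive.comp_add, Linear.comp_smul]

end ActIds

/-- the image of a constant in the functions on `U` -/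
noncomputable abbrev cU (c : k) (U : X.Opens) : Γ(X, U) :=
  X.presheaf.map (homOfLE (le_top : U ≤ ⊤)).op (Coh.toGlobal (X ↘ Spec (CommRingCat.of k)) c)

theorem nabla_smul_const (hn : ConnSh.IsConn δ E nabla) (c : k) (U : X.Opens)
    (s : E.val.obj (op U)) :
    ConnSh.secApp nabla U (cU c U • s) = cU c U • ConnSh.secApp nabla U s := by
  have h1 := hn U (cU c U) s
  have h2 : SecTwist.tmul E Ω' U s (δ.app U (cU c U)) = 0 := by
    rw [der_const δ c U]
    exact tmul_zero_right E Ω' U s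
  rw [h1, h2, add_zero]

theorem trivConn_act_horizontal (hn : ConnSh.IsConn δ E nabla) (z : DualNumber k) :
    ConnSh.IsHorizontal (trivConn nabla) (trivConn nabla)
      (DefoSh.dualAct k E z : E ⊞ E ⟶ E ⊞ E) := by
  intro U e
  rw [tensorMap_trivConn, secApp_trivConn]
  let a : E.val.obj (op U) := (biprod.fst : E ⊞ E ⟶ E).app U e
  let b : E.val.obj (op U) := (biprod.snd : E ⊞ E ⟶ E).app U e
  have hf : ((biprod.fst : E ⊞ E ⟶ E).app U
      ((DefoSh.dualAct k E z : E ⊞ E ⟶ E ⊞ E).app U e) : E.val.obj (op U)) = cU z.fst U • a :=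
    (congrArg (fun φ : E ⊞ E ⟶ E => (φ.app U e : E.val.obj (op U))) (act_fst z)).trans
      (KLin.smul_app_apply z.fst (biprod.fst : E ⊞ E ⟶ E) U e)
  have hs' : ((biprod.snd : E ⊞ E ⟶ E).app U
      ((DefoSh.dualAct k E z : E ⊞ E ⟶ E ⊞ E).app U e) : E.val.obj (op U)) =
      cU z.fst U • b + cU z.snd U • a := by
    refine (congrArg (fun φ : E ⊞ E ⟶ E => (φ.app U e : E.val.obj (op U))) (act_snd z)).trans ?_
    show ((z.fst • (biprod.snd : E ⊞ E ⟶ E) + z.snd • (biprod.fst : E ⊞ E ⟶ E)).app U e :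
      E.val.obj (op U)) = _
    rw [Scheme.Modules.Hom.add_app]
    exact congrArg₂ (· + ·) (KLin.smul_app_apply z.fst (biprod.snd : E ⊞ E ⟶ E) U e)
      (KLin.smul_app_apply z.snd (biprod.fst : E ⊞ E ⟶ E) U e)
  rw [hf, hs', nabla_smul_const δ nabla hn, map_add (ConnSh.secApp nabla U),
    nabla_smul_const δ nabla hn, nabla_smul_const δ nabla hn, app_smul', app_add', app_smul',
    app_smul', inl_act, inr_act, tensorMap_add_left, tensorMap_smul_left, tensorMap_smul_left,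
    tensorMap_smul_left]
  have hR1 : ∀ x : (CohB1.tensorMod E Ω').val.obj (op U),
      ((z.fst • KoszTw.tensorMap (biprod.inl : E ⟶ E ⊞ E) (𝟙 Ω') +
        z.snd • KoszTw.tensorMap (biprod.inr : E ⟶ E ⊞ E) (𝟙 Ω')).app U x :
          (CohB1.tensorMod (E ⊞ E) Ω').val.obj (op U)) =
      cU z.fst U • ((KoszTw.tensorMap (biprod.inl : E ⟶ E ⊞ E) (𝟙 Ω')).app U x :
          (CohB1.tensorMod (E ⊞ E) Ω').val.obj (op U)) +
        cU z.snd U • ((KoszTw.tensorMap (biprod.inr : E ⟶ E ⊞ E) (𝟙 Ω')).app U x :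
          (CohB1.tensorMod (E ⊞ E) Ω').val.obj (op U)) := by
    intro x
    rw [Scheme.Modules.Hom.add_app]
    exact congrArg₂ (· + ·)
      (KLin.smul_app_apply z.fst (KoszTw.tensorMap (biprod.inl : E ⟶ E ⊞ E) (𝟙 Ω')) U x)
      (KLin.smul_app_apply z.snd (KoszTw.tensorMap (biprod.inr : E ⟶ E ⊞ E) (𝟙 Ω')) U x)
  have hR2 : ∀ x : (CohB1.tensorMod E Ω').val.obj (op U),
      ((z.fst • KoszTw.tensorMap (biprod.inr : E ⟶ E ⊞ E) (𝟙 Ω')).app U x :
          (CohB1.tensorMod (E ⊞ E) Ω').val.obj (op U)) =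
      cU z.fst U • ((KoszTw.tensorMap (biprod.inr : E ⟶ E ⊞ E) (𝟙 Ω')).app U x :
          (CohB1.tensorMod (E ⊞ E) Ω').val.obj (op U)) :=
    fun x => KLin.smul_app_apply z.fst (KoszTw.tensorMap (biprod.inr : E ⟶ E ⊞ E) (𝟙 Ω')) U x
  rw [hR1, hR2]
  have key : ∀ (A B C : (CohB1.tensorMod (E ⊞ E) Ω').val.obj (op U)),
      A + (B + C) = A + C + B := by
    intro A B C
    abel
  exact key _ _ _

/-- the trivial first-order deformation carries the connection `∇ ⊕ ∇` -/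
theorem nonempty_defoConn_trivDual (hn : ConnSh.IsConn δ E nabla) :
    Nonempty (DefoSh.DefoConn δ nabla (DefoSh.Defo.trivDual k E)) :=
  ⟨{ conn := trivConn nabla
     isConn := trivConn_isConn δ nabla hn
     act_horizontal := fun a => trivConn_act_horizontal δ nabla hn a
     π_horizontal := trivConn_π_horizontal nabla }⟩

end TrivConn

end Groth.Agent.Lead.TensExt
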