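import Mathlib
import Groth.Prelude.Def_DefoConn
import Groth.Prelude.Def_DefoSh2
import Groth.Agent.Lib.Lead.TensExt
import Groth.Agent.Lib.Lead.DefoLoc
import Groth.Agent.Lib.Helper1.FtLocal

/-!
# First-order deformations: the extension `0 → E → D → E → 0`, factorisation lemmas (lead)
-/

set_option autoImplicit false
set_option linter.unusedSectionVars false
set_option linter.style.haveILetI false
set_option backward.isDefEq.respectTransparency.types false
set_option synthInstance.maxHeartbeats 400000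
universe u
open CategoryTheory CategoryTheory.Limits AlgebraicGeometry TopologicalSpace Opposite

namespace Groth.Agent.Lead.DefoTors

open Groth.Agent.Helper1.QcCech Groth.Agent.Lead.TensExt

section General

variable {X : Scheme.{u}} {M N P : X.Modules}

theorem secApp_add (d d' : Coh.toAb M ⟶ Coh.toAb N) (U : X.Opens) (x : M.val.obj (op U)) :
    ConnSh.secApp (d + d') U x = ConnSh.secApp d U x + ConnSh.secApp d' U x := rfl

theorem secApp_sub (d d' : Coh.toAb M ⟶ Coh.toAb N) (U : X.Opens) (x : M.val.obj (op U)) :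
    ConnSh.secApp (d - d') U x = ConnSh.secApp d U x - ConnSh.secApp d' U x := rfl

theorem secApp_toAbMap (φ : M ⟶ N) (U : X.Opens) (x : M.val.obj (op U)) :
    ConnSh.secApp (toAbMap φ) U x = φ.app U x := rfl

theorem secApp_comp (d : Coh.toAb M ⟶ Coh.toAb N) (d' : Coh.toAb N ⟶ Coh.toAb P) (U : X.Opens)
    (x : M.val.obj (op U)) :
    ConnSh.secApp (d ≫ d') U x = ConnSh.secApp d' U (ConnSh.secApp d U x) := rfl

theorem toAb_hom_ext (d d' : Coh.toAb M ⟶ Coh.toAb N)
    (h : ∀ (U : X.Opens) (x : M.val.obj (op U)), ConnSh.secApp d U x = ConnSh.secApp d' U x) :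
    d = d' := by
  apply Sheaf.hom_ext
  ext U x
  exact h U.unop x

/-- a morphism of abelian sheaves which is linear on sections is a morphism of modules -/
noncomputable def homOfLinear (d : Coh.toAb M ⟶ Coh.toAb N)
    (h : ∀ (U : X.Opens) (t : Γ(X, U)) (e : M.val.obj (op U)),
      ConnSh.secApp d U (t • e) = t • ConnSh.secApp d U e) : M ⟶ N :=
  ⟨PresheafOfModules.homMk d.hom (fun U r m => h U.unop r m)⟩

theorem homOfLinear_app (d : Coh.toAb M ⟶ Coh.toAb N)
    (h : ∀ (U : X.Opens) (t : Γ(X, U)) (e : M.val.obj (op U)),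
      ConnSh.secApp d U (t • e) = t • ConnSh.secApp d U e) (U : X.Opens) (x : M.val.obj (op U)) :
    (homOfLinear d h).app U x = ConnSh.secApp d U x := rfl

theorem toAbMap_homOfLinear (d : Coh.toAb M ⟶ Coh.toAb N)
    (h : ∀ (U : X.Opens) (t : Γ(X, U)) (e : M.val.obj (op U)),
      ConnSh.secApp d U (t • e) = t • ConnSh.secApp d U e) :
    toAbMap (homOfLinear d h) = d := by
  apply toAb_hom_ext
  intro U x
  rfl

end General


section Crit

variable {X : Scheme.{u}}

/-- exactness criterion: local lifting of sections killed by `g`. -/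
theorem exact_of_locally (S : ShortComplex X.Modules)
    (h : ∀ (U : X.Opens) (s : Γ(S.X₂, U)), S.g.app U s = 0 → ∀ x ∈ U,
      ∃ (W : X.Opens) (hW : W ≤ U), x ∈ W ∧ ∃ m : Γ(S.X₁, W), S.f.app W m = res S.X₂ hW s) :
    S.Exact := by
  rw [S.exact_iff_epi_toCycles]
  apply Groth.Agent.Helper1.SerreCrit.epi_of_locally_surjective
  intro U t x hx
  have h0 : S.g.app U (S.iCycles.app U t) = 0 := by
    have := congrArg (fun χ => χ.app U t) S.iCycles_g
    exact this
  obtain ⟨W, hW, hxW, m, hm⟩ := h U (S.iCycles.app U t) h0 x hx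
  refine ⟨W, hW, hxW, m, ?_⟩
  apply Groth.Agent.Helper1.FtLocal.app_injective_of_mono S.iCycles W
  have h1 : S.iCycles.app W (S.toCycles.app W m) = S.f.app W m := by
    have := congrArg (fun χ => χ.app W m) S.toCycles_i
    exact this
  rw [h1, hm]
  exact (TensExt.app_res S.iCycles hW t).symm

/-- factorisation through a short exact sequence on the left and on the right -/
theorem exists_unique_factor {S S' : ShortComplex X.Modules} (hS : S.ShortExact)
    (hS' : S'.ShortExact) (d : S.X₂ ⟶ S'.X₂) (h1 : S.f ≫ d = 0) (h2 : d ≫ S'.g = 0) :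
    ∃! φ : S.X₃ ⟶ S'.X₁, d = S.g ≫ φ ≫ S'.f := by
  haveI := hS.epi_g
  haveI := hS'.mono_f
  have h3 : hS.exact.desc d h1 ≫ S'.g = 0 := by
    rw [← cancel_epi S.g, ← Category.assoc, hS.exact.g_desc, h2, comp_zero]
  refine ⟨hS'.exact.lift (hS.exact.desc d h1) h3, ?_, ?_⟩
  · show d = S.g ≫ hS'.exact.lift (hS.exact.desc d h1) h3 ≫ S'.f
    rw [hS'.exact.lift_f, hS.exact.g_desc]
  · intro φ hφ
    rw [← cancel_mono S'.f, hS'.exact.lift_f, ← cancel_epi S.g, hS.exact.g_desc]
    exact hφ.symm

end Crit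

section SES

open Groth.Agent.Lead.DefoLoc ArtFun ArtFun.Art

variable {k : Type u} [Field k] {X : Scheme.{u}} [X.Over (Spec (CommRingCat.of k))]
  {E : X.Modules} (D : DefoSh.Defo E (dual k k)) (ι : E ⟶ D.sheaf)
  (hι : D.π ≫ ι = D.act (DualNumber.eps : DualNumber k))

include hι in
theorem ι_π : ι ≫ D.π = 0 := by
  haveI := epi_π D
  rw [← cancel_epi D.π, ← Category.assoc, hι, comp_zero]
  exact epsD_π D

include hι in
theorem ι_eps : ι ≫ epsD D = 0 := by
  have h : epsD D = D.π ≫ ι := hι.symm
  rw [h, ← Category.assoc, ι_π D ι hι, zero_comp]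

include hι in
theorem eps_eq : epsD D = D.π ≫ ι := hι.symm

include hι in
theorem ι_app_injective (W : X.Opens) : Function.Injective (ι.app W) := by
  haveI := epi_π D
  rw [injective_iff_map_eq_zero]
  intro a ha
  apply sec_ext_germ E
  intro p hp
  rw [map_zero]
  obtain ⟨V, hV, y, hpV, hy⟩ := Groth.Agent.Lib.Helper5.LocLift.exists_local_lift D.π W a p hp
  have hy' : D.π.app V y = res E hV a := hy
  have h1 : (epsD D).app V y = 0 := by
    rw [eps_eq D ι hι]
    show ι.app V (D.π.app V y) = 0
    rw [hy', TensExt.app_res, ha, map_zero]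
  have h2 := germ_π_eq_zero D p hpV y (by rw [h1, map_zero])
  rw [hy'] at h2
  have h3 := TopCat.Presheaf.germ_res_apply E.presheaf (homOfLE hV) p hpV a
  rw [← h3]
  exact h2

include hι in
theorem mono_ι : Mono ι := mono_of_app_injective ι (ι_app_injective D ι hι)

/-- the extension `0 → E → D → E → 0` -/
noncomputable def ses : ShortComplex X.Modules := ShortComplex.mk ι D.π (ι_π D ι hι)

include hι in
theorem ses_shortExact : (ses D ι hι).ShortExact := by
  haveI := epi_π D
  haveI := mono_ι D ι hι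
  refine ShortComplex.ShortExact.mk' ?_ (inferInstanceAs (Mono ι)) (inferInstanceAs (Epi D.π))
  apply exact_of_locally
  intro U s hs x hx
  have hs' : D.π.app U s = 0 := hs
  obtain ⟨V', hV', w, hxV', hw⟩ := exists_eps_of_germ_π D x hx s (by rw [hs', map_zero])
  refine ⟨V', hV', hxV', D.π.app V' w, ?_⟩
  show ι.app V' (D.π.app V' w) = res D.sheaf hV' s
  rw [hw, eps_eq D ι hι]
  rfl

end SES

end Groth.Agent.Lead.DefoTors
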