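import Mathlib
import Groth.Agent.Lib.Lead.DefoTors1

/-!
# Transport of deformed connections along automorphisms of a first-order deformation (lead)
-/

set_option autoImplicit false
set_option linter.unusedSectionVars false
set_option linter.style.haveILetI false
set_option backward.isDefEq.respectTransparency.types false
set_option synthInstance.maxHeartbeats 400000
universe u
open CategoryTheory CategoryTheory.Limits AlgebraicGeometry TopologicalSpace Opposite

namespace Groth.Agent.Lead.DefoTors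

open Groth.Agent.Helper1.QcCech Groth.Agent.Lead.TensExt Groth.Agent.Lead.DefoLoc ArtFun ArtFun.Art

section General

variable {X : Scheme.{u}} {M N : X.Modules}

theorem secApp_res (d : Coh.toAb M ⟶ Coh.toAb N) {U V : X.Opens} (h : V ≤ U)
    (m : M.val.obj (op U)) :
    ConnSh.secApp d V (res M h m) = res N h (ConnSh.secApp d U m) :=
  (ConcreteCategory.congr_hom (d.hom.naturality (homOfLE h).op) m)

/-- a morphism of modules on sections, typed with `val.obj` -/
noncomputable def appV {P Q : X.Modules} (φ : P ⟶ Q) (U : X.Opens) :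
    P.val.obj (op U) →+ Q.val.obj (op U) := (φ.app U).hom

theorem appV_apply {P Q : X.Modules} (φ : P ⟶ Q) (U : X.Opens) (x : P.val.obj (op U)) :
    appV φ U x = φ.app U x := rfl

theorem app_sub' {P Q : X.Modules} (φ : P ⟶ Q) (U : X.Opens) (x y : P.val.obj (op U)) :
    (φ.app U (x - y) : Q.val.obj (op U)) = φ.app U x - φ.app U y :=
  map_sub (φ.app U).hom x y

end General

section Horiz

variable {k : Type u} [Field k] {X : Scheme.{u}} [X.Over (Spec (CommRingCat.of k))]
  {Ω' : X.Modules} {δ : OmegaSh.Der (X ↘ Spec (CommRingCat.of k)) Ω'} {E : X.Modules}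
  {nabla : Coh.toAb E ⟶ Coh.toAb (CohB1.tensorMod E Ω')}
  {D : DefoSh.Defo E (dual k k)} (ι : E ⟶ D.sheaf)
  (hι : D.π ≫ ι = D.act (DualNumber.eps : DualNumber k))
  (c : DefoSh.DefoConn δ nabla D)

include hι in
/-- the inclusion `ι` is horizontal -/
theorem ι_horizontal : ConnSh.IsHorizontal nabla c.conn ι := by
  haveI := epi_π D
  intro U e
  apply sec_ext_local (CohB1.tensorMod D.sheaf Ω')
  intro x hx
  obtain ⟨V, hV, y, hxV, hy⟩ := Groth.Agent.Lib.Helper5.LocLift.exists_local_lift D.π U e x hx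
  have hy' : D.π.app V y = res E hV e := hy
  refine ⟨V, hV, hxV, ?_⟩
  rw [← secApp_res, ← TensExt.app_res, ← TensExt.app_res, ← secApp_res, ← hy']
  have h1 : ι.app V (D.π.app V y) = (D.act (DualNumber.eps : DualNumber k)).app V y := by
    rw [← hι]
    rfl
  rw [h1, c.act_horizontal (DualNumber.eps : DualNumber k) V y, ← hι, ← T_comp]
  have h2 := c.π_horizontal V y
  rw [h2]
  rfl


/-- the automorphism `1 + ι S π` of the deformed module -/
noncomputable def autOf (S : E ⟶ E) : D.sheaf ⟶ D.sheaf := 𝟙 D.sheaf + D.π ≫ S ≫ ι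

/-- the difference map attached to `S` -/
noncomputable def diffMap (nabla : Coh.toAb E ⟶ Coh.toAb (CohB1.tensorMod E Ω')) (S : E ⟶ E) :
    Coh.toAb D.sheaf ⟶ Coh.toAb (CohB1.tensorMod D.sheaf Ω') :=
  toAbMap D.π ≫ (nabla ≫ toAbMap (KoszTw.tensorMap S (𝟙 Ω')) - toAbMap S ≫ nabla) ≫
    toAbMap (KoszTw.tensorMap ι (𝟙 Ω'))

theorem secApp_diffMap (S : E ⟶ E) (U : X.Opens) (v : D.sheaf.val.obj (op U)) :
    ConnSh.secApp (diffMap ι nabla S) U v =
      appV (KoszTw.tensorMap ι (𝟙 Ω')) U
        (appV (KoszTw.tensorMap S (𝟙 Ω')) U (ConnSh.secApp nabla U (appV D.π U v)) -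
          ConnSh.secApp nabla U (appV S U (appV D.π U v))) := rfl

variable (c' : DefoSh.DefoConn δ nabla D)

include hι in
theorem horizontal_autOf_iff (S : E ⟶ E) :
    ConnSh.IsHorizontal c.conn c'.conn (autOf ι S) ↔ c'.conn - c.conn = diffMap ι nabla S := by
  have key : ∀ (U : X.Opens) (v : D.sheaf.val.obj (op U)),
      (ConnSh.secApp c'.conn U ((autOf ι S).app U v) =
        (KoszTw.tensorMap (autOf ι S) (𝟙 Ω')).app U (ConnSh.secApp c.conn U v)) ↔
      ConnSh.secApp (c'.conn - c.conn) U v = ConnSh.secApp (diffMap ι nabla S) U v := by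
    intro U v
    have e1 : ((autOf ι S).app U v : D.sheaf.val.obj (op U)) =
        v + appV ι U (appV S U (appV D.π U v)) := by
      unfold autOf
      rw [Scheme.Modules.Hom.add_app]
      rfl
    have e2 : KoszTw.tensorMap (autOf ι S) (𝟙 Ω') =
        𝟙 _ + KoszTw.tensorMap D.π (𝟙 Ω') ≫ KoszTw.tensorMap S (𝟙 Ω') ≫
          KoszTw.tensorMap ι (𝟙 Ω') := by
      unfold autOf
      rw [tensorMap_add_left, KoszTw.tensorMap_id, T_comp, T_comp]
    have e3 : ((KoszTw.tensorMap (autOf ι S) (𝟙 Ω')).app U (ConnSh.secApp c.conn U v) :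
        (CohB1.tensorMod D.sheaf Ω').val.obj (op U)) =
        ConnSh.secApp c.conn U v + appV (KoszTw.tensorMap ι (𝟙 Ω')) U
          (appV (KoszTw.tensorMap S (𝟙 Ω')) U (ConnSh.secApp nabla U (appV D.π U v))) := by
      rw [e2]
      have h := c.π_horizontal U v
      show ConnSh.secApp c.conn U v + appV (KoszTw.tensorMap ι (𝟙 Ω')) U
          (appV (KoszTw.tensorMap S (𝟙 Ω')) U
            (appV (KoszTw.tensorMap D.π (𝟙 Ω')) U (ConnSh.secApp c.conn U v))) = _
      rw [appV_apply (KoszTw.tensorMap D.π (𝟙 Ω')), ← h]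
      rfl
    have e4 : ConnSh.secApp c'.conn U (appV ι U (appV S U (appV D.π U v))) =
        appV (KoszTw.tensorMap ι (𝟙 Ω')) U (ConnSh.secApp nabla U (appV S U (appV D.π U v))) :=
      ι_horizontal ι hι c' U _
    rw [e1, e3, map_add (ConnSh.secApp c'.conn U), e4, secApp_sub,
      secApp_diffMap, map_sub]
    constructor
    · intro h
      rw [sub_eq_sub_iff_add_eq_add, h]
      abel
    · intro h
      rw [sub_eq_sub_iff_add_eq_add] at h
      rw [h]
      abel
  constructor
  · intro h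
    apply toAb_hom_ext
    intro U v
    exact (key U v).1 (h U v)
  · intro h U v
    exact (key U v).2 (by rw [h])


theorem smulMod_comm {M N : X.Modules} (f : M ⟶ N) (a : k) :
    Formal.smulMod k M a ≫ f = f ≫ Formal.smulMod k N a := by
  unfold Formal.smulMod
  rw [KLin.comp_smulModΓ]

include hι in
theorem nil_sq (S S' : E ⟶ E) : (D.π ≫ S ≫ ι) ≫ (D.π ≫ S' ≫ ι) = 0 := by
  simp only [Category.assoc]
  rw [reassoc_of% (ι_π D ι hι), zero_comp, comp_zero, comp_zero]

include hι in
theorem eps_nil (S : E ⟶ E) : epsD D ≫ (D.π ≫ S ≫ ι) = 0 := by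
  rw [← Category.assoc, epsD_π, zero_comp]

include hι in
theorem nil_eps (S : E ⟶ E) : (D.π ≫ S ≫ ι) ≫ epsD D = 0 := by
  simp only [Category.assoc]
  rw [ι_eps D ι hι, comp_zero, comp_zero]

include hι in
theorem act_nil_comm (S : E ⟶ E) (a : DualNumber k) :
    (D.act a : D.sheaf ⟶ D.sheaf) ≫ (D.π ≫ S ≫ ι) = (D.π ≫ S ≫ ι) ≫ D.act a := by
  have h1 : (epsD D ≫ Formal.smulMod k D.sheaf a.snd) ≫ (D.π ≫ S ≫ ι) = 0 := by
    rw [Category.assoc, smulMod_comm, ← Category.assoc, eps_nil ι hι, zero_comp]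
  have h2 : (D.π ≫ S ≫ ι) ≫ epsD D ≫ Formal.smulMod k D.sheaf a.snd = 0 := by
    rw [← Category.assoc, nil_eps ι hι, zero_comp]
  rw [act_decomp, Preadditive.add_comp, Preadditive.comp_add, h1, h2, smulMod_comm]

include hι in
/-- the automorphism of the deformation attached to `S` -/
noncomputable def isoOf (S : E ⟶ E) : DefoSh.Defo.Iso D D where
  iso :=
    { hom := autOf ι S
      inv := 𝟙 D.sheaf - D.π ≫ S ≫ ι
      hom_inv_id := by
        unfold autOf
        rw [Preadditive.add_comp, Preadditive.comp_sub, Preadditive.comp_sub, Category.id_comp,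
          Category.id_comp, Category.comp_id, nil_sq ι hι]
        abel
      inv_hom_id := by
        unfold autOf
        rw [Preadditive.sub_comp, Preadditive.comp_add, Preadditive.comp_add, Category.id_comp,
          Category.id_comp, Category.comp_id, nil_sq ι hι]
        abel }
  act_hom a := by
    show (D.act a : D.sheaf ⟶ D.sheaf) ≫ autOf ι S = autOf ι S ≫ D.act a
    unfold autOf
    rw [Preadditive.comp_add, Preadditive.add_comp, Category.comp_id, Category.id_comp,
      act_nil_comm ι hι]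
  hom_π := by
    show autOf ι S ≫ D.π = D.π
    unfold autOf
    rw [Preadditive.add_comp, Category.id_comp, Category.assoc, Category.assoc, ι_π D ι hι,
      comp_zero, comp_zero, add_zero]

include hι in
theorem exists_S_of_iso (e : DefoSh.Defo.Iso D D) : ∃ S : E ⟶ E, e.iso.hom = autOf ι S := by
  haveI := epi_π D
  have hS := ses_shortExact D ι hι
  obtain ⟨n, hn⟩ : ∃ n : D.sheaf ⟶ D.sheaf, n = e.iso.hom - 𝟙 D.sheaf := ⟨_, rfl⟩
  have h2 : n ≫ D.π = 0 := by
    rw [hn, Preadditive.sub_comp, e.hom_π, Category.id_comp, sub_self]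
  have hcomm : epsD D ≫ n = n ≫ epsD D := by
    have h := e.act_hom (DualNumber.eps : DualNumber k)
    have h' : epsD D ≫ e.iso.hom = e.iso.hom ≫ epsD D := h
    rw [hn, Preadditive.comp_sub, Preadditive.sub_comp, h', Category.comp_id, Category.id_comp]
  have h1 : ι ≫ n = 0 := by
    rw [← cancel_epi D.π, ← Category.assoc, comp_zero, ← eps_eq D ι hι, hcomm, eps_eq D ι hι,
      ← Category.assoc, h2, zero_comp]
  obtain ⟨S, hS1, -⟩ := exists_unique_factor hS hS n h1 h2
  obtain ⟨S', hS'⟩ : ∃ S' : E ⟶ E, D.π ≫ S' ≫ ι = n := ⟨S, hS1.symm⟩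
  refine ⟨S', ?_⟩
  unfold autOf
  rw [hS', hn]
  abel

include hι in
/-- **transport of deformed connections**: `c` and `c'` are transport equivalent iff they differ
by the image of some endomorphism `S` -/
theorem transport_iff :
    DefoSh.DefoConn.Transport c c' ↔ ∃ S : E ⟶ E, c'.conn - c.conn = diffMap ι nabla S := by
  constructor
  · rintro ⟨e, he⟩
    obtain ⟨S, hS⟩ := exists_S_of_iso ι hι e
    refine ⟨S, ?_⟩
    rw [hS] at he
    exact (horizontal_autOf_iff ι hι c c' S).1 he
  · rintro ⟨S, hS⟩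
    exact ⟨isoOf ι hι S, (horizontal_autOf_iff ι hι c c' S).2 hS⟩

end Horiz

end Groth.Agent.Lead.DefoTors
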