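import Mathlib
import Groth.Agent.Lib.Lead.DefoTors1
import Groth.Agent.Lib.Helper5.RestrTen.RestrTenS

/-!
# Locally split sequences of modules and their tensor products (lead)
-/

set_option autoImplicit false
set_option linter.unusedSectionVars false
set_option linter.style.haveILetI false
set_option backward.isDefEq.respectTransparency.types false
set_option synthInstance.maxHeartbeats 400000
universe u
open CategoryTheory CategoryTheory.Limits AlgebraicGeometry TopologicalSpace Opposite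

namespace Groth.Agent.Lead.DefoTors

open Groth.Agent.Helper1.QcCech Groth.Agent.Lead.TensExt Groth.Agent.Lead.DefoLoc ArtFun ArtFun.Art
open Scheme.Modules

section LocSplit

variable {X : Scheme.{u}} {A B C : X.Modules}

/-- a pair of composable morphisms of modules which is locally a split short exact sequence -/
def LocSplit (f : A ⟶ B) (g : B ⟶ C) : Prop :=
  ∀ x : X, ∃ (U : X.Opens) (_ : x ∈ U) (r : B.restrict U.ι ⟶ A.restrict U.ι)
    (s : C.restrict U.ι ⟶ B.restrict U.ι),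
    (restrictFunctor U.ι).map f ≫ r = 𝟙 _ ∧ s ≫ (restrictFunctor U.ι).map g = 𝟙 _ ∧
      r ≫ (restrictFunctor U.ι).map f + (restrictFunctor U.ι).map g ≫ s = 𝟙 _

theorem mem_image_preimage {U W : X.Opens} {x : X} (hxU : x ∈ U) (hxW : x ∈ W) :
    x ∈ U.ι ''ᵁ (U.ι ⁻¹ᵁ W) := by
  have : (⟨x, hxU⟩ : U) ∈ U.ι ⁻¹ᵁ W := hxW
  exact (Scheme.Opens.mem_ι_image_iff U).2 this

/-- a morphism of restricted modules on sections, typed over `X` -/
noncomputable def rs {P Q : X.Modules} {U : X.Opens} (r : P.restrict U.ι ⟶ Q.restrict U.ι)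
    (W : U.toScheme.Opens) : Γ(P, U.ι ''ᵁ W) →+ Γ(Q, U.ι ''ᵁ W) := (r.app W).hom

theorem LocSplit.shortExact {f : A ⟶ B} {g : B ⟶ C} (h : LocSplit f g) (w : f ≫ g = 0) :
    (ShortComplex.mk f g w).ShortExact := by
  have hmono : Mono f := by
    apply mono_of_app_injective
    intro W
    rw [injective_iff_map_eq_zero]
    intro a ha
    apply sec_ext_local A
    intro x hx
    obtain ⟨U, hxU, r, s, h1, h2, h3⟩ := h x
    have hV : U.ι ''ᵁ (U.ι ⁻¹ᵁ W) ≤ W := U.ι.image_preimage_le W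
    refine ⟨U.ι ''ᵁ (U.ι ⁻¹ᵁ W), hV, mem_image_preimage hxU hx, ?_⟩
    have e1 := congrArg (fun φ : A.restrict U.ι ⟶ A.restrict U.ι =>
      φ.app (U.ι ⁻¹ᵁ W) (res A hV a)) h1
    have e2 : rs r (U.ι ⁻¹ᵁ W) (f.app (U.ι ''ᵁ (U.ι ⁻¹ᵁ W)) (res A hV a)) =
        res A hV a := e1
    rw [← e2, TensExt.app_res, ha, map_zero, map_zero, map_zero]
  have hepi : Epi g := by
    apply Groth.Agent.Helper1.SerreCrit.epi_of_locally_surjective
    intro W t x hx
    obtain ⟨U, hxU, r, s, h1, h2, h3⟩ := h x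
    have hV : U.ι ''ᵁ (U.ι ⁻¹ᵁ W) ≤ W := U.ι.image_preimage_le W
    refine ⟨U.ι ''ᵁ (U.ι ⁻¹ᵁ W), hV, mem_image_preimage hxU hx,
      rs s (U.ι ⁻¹ᵁ W) (res C hV t), ?_⟩
    have e1 := congrArg (fun φ : C.restrict U.ι ⟶ C.restrict U.ι =>
      φ.app (U.ι ⁻¹ᵁ W) (res C hV t)) h2
    exact e1
  refine ShortComplex.ShortExact.mk' ?_ hmono hepi
  apply exact_of_locally
  intro W t ht x hx
  have ht' : g.app W t = 0 := ht
  obtain ⟨U, hxU, r, s, h1, h2, h3⟩ := h x
  have hV : U.ι ''ᵁ (U.ι ⁻¹ᵁ W) ≤ W := U.ι.image_preimage_le W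
  refine ⟨U.ι ''ᵁ (U.ι ⁻¹ᵁ W), hV, mem_image_preimage hxU hx,
    rs r (U.ι ⁻¹ᵁ W) (res B hV t), ?_⟩
  have e1 := congrArg (fun φ : B.restrict U.ι ⟶ B.restrict U.ι =>
    φ.app (U.ι ⁻¹ᵁ W) (res B hV t)) h3
  have e2 : f.app (U.ι ''ᵁ (U.ι ⁻¹ᵁ W)) (rs r (U.ι ⁻¹ᵁ W) (res B hV t)) +
      rs s (U.ι ⁻¹ᵁ W) (g.app (U.ι ''ᵁ (U.ι ⁻¹ᵁ W)) (res B hV t)) = res B hV t := by
    refine Eq.trans ?_ e1
    simp only [Scheme.Modules.Hom.add_app]
    rfl
  rw [TensExt.app_res g, ht', map_zero, map_zero, add_zero] at e2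
  exact e2

end LocSplit


section SesSplit

variable {k : Type u} [Field k] {X : Scheme.{u}} [X.Over (Spec (CommRingCat.of k))]
  {E : X.Modules} (D : DefoSh.Defo E (dual k k)) (ι : E ⟶ D.sheaf)
  (hι : D.π ≫ ι = D.act (DualNumber.eps : DualNumber k))

include hι in
/-- the extension `0 → E → D → E → 0` is locally split when `E` is finite locally free -/
theorem locSplit_ses (hE : FlatMod.IsFinLocFree E) : LocSplit ι D.π := by
  intro x
  haveI : Epi D.π := epi_π D
  obtain ⟨U, hxU, τ, hτ⟩ := exists_lift_opens hE D.π (𝟙 E) x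
  have hτ' : τ ≫ (restrictFunctor U.ι).map D.π = 𝟙 _ := by
    rw [hτ, CategoryTheory.Functor.map_id]
  haveI := isIso_einv D U τ hτ'
  have hε : (restrictFunctor U.ι).map (epsD D) =
      (restrictFunctor U.ι).map D.π ≫ (restrictFunctor U.ι).map ι := by
    rw [← Functor.map_comp, hι]
    rfl
  have hinr : (restrictFunctor U.ι).map (biprod.inr : E ⟶ E ⊞ E) ≫ einv D U τ =
      (restrictFunctor U.ι).map ι := by
    unfold einv
    rw [Preadditive.comp_add, ← Functor.map_comp_assoc, ← Functor.map_comp_assoc, biprod.inr_fst,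
      biprod.inr_snd, Functor.map_zero, zero_comp, zero_add, CategoryTheory.Functor.map_id, Category.id_comp,
      hε, ← Category.assoc, hτ', Category.id_comp]
  have hinl : (restrictFunctor U.ι).map (biprod.inl : E ⟶ E ⊞ E) ≫ einv D U τ = τ := by
    unfold einv
    rw [Preadditive.comp_add, ← Functor.map_comp_assoc, ← Functor.map_comp_assoc, biprod.inl_fst,
      biprod.inl_snd, Functor.map_zero, zero_comp, add_zero, CategoryTheory.Functor.map_id, Category.id_comp]
  have hπ : (restrictFunctor U.ι).map D.π =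
      inv (einv D U τ) ≫ (restrictFunctor U.ι).map (biprod.fst : E ⊞ E ⟶ E) := by
    rw [IsIso.eq_inv_comp]
    exact einv_π D U τ hτ'
  refine ⟨U, hxU, inv (einv D U τ) ≫ (restrictFunctor U.ι).map (biprod.snd : E ⊞ E ⟶ E), τ,
    ?_, hτ', ?_⟩
  · rw [← hinr, Category.assoc, IsIso.hom_inv_id_assoc, ← Functor.map_comp, biprod.inr_snd,
      CategoryTheory.Functor.map_id]
  · rw [hπ, ← hinr]
    simp only [Category.assoc]
    rw [← Preadditive.comp_add]
    have h5 : (restrictFunctor U.ι).map (biprod.snd : E ⊞ E ⟶ E) ≫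
          (restrictFunctor U.ι).map (biprod.inr : E ⟶ E ⊞ E) ≫ einv D U τ +
        (restrictFunctor U.ι).map (biprod.fst : E ⊞ E ⟶ E) ≫
          (restrictFunctor U.ι).map (biprod.inl : E ⟶ E ⊞ E) ≫ einv D U τ = einv D U τ := by
      rw [← Category.assoc, ← Category.assoc, ← Preadditive.add_comp,
        ← CategoryTheory.Functor.map_comp, ← CategoryTheory.Functor.map_comp,
        ← CategoryTheory.Functor.map_add, add_comm, biprod.total, CategoryTheory.Functor.map_id,
        Category.id_comp]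
    rw [hinl] at h5
    rw [h5, IsIso.inv_hom_id]

end SesSplit


section Tens

open Groth.Agent.Lib.Helper5.RestrTen

variable {X : Scheme.{u}} {A B C : X.Modules} (N : X.Modules)

theorem Fmap_comp {Y : Scheme.{u}} {P Q R : Y.Modules} (a : P ⟶ Q) (b : Q ⟶ R) (N' : Y.Modules) :
    (DCoh.tensorBi.map (a ≫ b)).app N' = (DCoh.tensorBi.map a).app N' ≫ (DCoh.tensorBi.map b).app N' := by
  rw [CategoryTheory.Functor.map_comp, NatTrans.comp_app]

theorem Fmap_id {Y : Scheme.{u}} (P : Y.Modules) (N' : Y.Modules) :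
    (DCoh.tensorBi.map (𝟙 P)).app N' = 𝟙 _ := by
  rw [CategoryTheory.Functor.map_id, NatTrans.id_app]

theorem Fmap_add {Y : Scheme.{u}} {P Q : Y.Modules} (a b : P ⟶ Q) (N' : Y.Modules) :
    (DCoh.tensorBi.map (a + b)).app N' = (DCoh.tensorBi.map a).app N' + (DCoh.tensorBi.map b).app N' := by
  rw [CategoryTheory.Functor.map_add, NatTrans.app_add]

/-- tensoring a locally split sequence with a module gives a locally split sequence -/
theorem LocSplit.tensor {f : A ⟶ B} {g : B ⟶ C} (h : LocSplit f g) :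
    LocSplit ((DCoh.tensorBi.map f).app N) ((DCoh.tensorBi.map g).app N) := by
  intro x
  obtain ⟨U, hxU, r, s, h1, h2, h3⟩ := h x
  have nf := restrictTensorIso_naturality_left U.ι f N
  have ng := restrictTensorIso_naturality_left U.ι g N
  have nf' := iso_sq _ _ _ _ nf
  have ng' := iso_sq _ _ _ _ ng
  refine ⟨U, hxU,
    (restrictTensorIso U.ι B N).hom ≫ (DCoh.tensorBi.map r).app ((restrictFunctor U.ι).obj N) ≫
      (restrictTensorIso U.ι A N).inv,
    (restrictTensorIso U.ι C N).hom ≫ (DCoh.tensorBi.map s).app ((restrictFunctor U.ι).obj N) ≫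
      (restrictTensorIso U.ι B N).inv, ?_, ?_, ?_⟩
  · rw [← Category.assoc, nf, Category.assoc, ← Category.assoc _ _ (restrictTensorIso U.ι A N).inv,
      ← Fmap_comp, h1, Fmap_id, Category.id_comp, Iso.hom_inv_id]
  · rw [Category.assoc, Category.assoc, ← ng', ← Category.assoc _ _ (restrictTensorIso U.ι C N).inv,
      ← Fmap_comp, h2, Fmap_id, Category.id_comp, Iso.hom_inv_id]
  · rw [Category.assoc, Category.assoc, ← nf', ← Category.assoc _ (restrictTensorIso U.ι C N).hom, ng,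
      Category.assoc, ← Category.assoc _ _ (restrictTensorIso U.ι B N).inv, ← Fmap_comp,
      ← Category.assoc ((DCoh.tensorBi.map ((restrictFunctor U.ι).map g)).app _) _
        (restrictTensorIso U.ι B N).inv, ← Fmap_comp, ← Preadditive.comp_add,
      ← Preadditive.add_comp, ← Fmap_add, h3, Fmap_id, Category.id_comp, Iso.hom_inv_id]

end Tens


section Main

variable {k : Type u} [Field k] {X : Scheme.{u}} [X.Over (Spec (CommRingCat.of k))]
  {E : X.Modules} (D : DefoSh.Defo E (dual k k)) (ι : E ⟶ D.sheaf)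
  (hι : D.π ≫ ι = D.act (DualNumber.eps : DualNumber k))

include hι in
theorem tens_ι_π (N : X.Modules) :
    KoszTw.tensorMap ι (𝟙 N) ≫ KoszTw.tensorMap D.π (𝟙 N) = 0 := by
  rw [← KoszTw.tensorMap_comp, Category.id_comp, ι_π D ι hι, tensorMap_zero_left]

include hι in
theorem locSplit_tens (hE : FlatMod.IsFinLocFree E) (N : X.Modules) :
    LocSplit (KoszTw.tensorMap ι (𝟙 N)) (KoszTw.tensorMap D.π (𝟙 N)) := by
  have h := (locSplit_ses D ι hι hE).tensor N
  rw [KoszTw.tensorBi_map_app, KoszTw.tensorBi_map_app] at h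
  exact h

include hι in
/-- the tensored extension `0 → E ⊗ N → D ⊗ N → E ⊗ N → 0` is short exact -/
theorem ses_tens_shortExact (hE : FlatMod.IsFinLocFree E) (N : X.Modules) :
    (ShortComplex.mk (KoszTw.tensorMap ι (𝟙 N)) (KoszTw.tensorMap D.π (𝟙 N))
      (tens_ι_π D ι hι N)).ShortExact :=
  (locSplit_tens D ι hι hE N).shortExact _

end Main

end Groth.Agent.Lead.DefoTors
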