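import Mathlib
import Groth.Agent.Lib.Lead.DefoTors2
import Groth.Agent.Lib.Lead.DefoTors3

/-!
# Deformations of a connection over a first-order deformation form a torsor (lead)
-/

set_option autoImplicit false
set_option linter.unusedSectionVars false
set_option linter.style.haveILetI false
set_option backward.isDefEq.respectTransparency.types false
set_option synthInstance.maxHeartbeats 400000
universe u
open CategoryTheory CategoryTheory.Limits AlgebraicGeometry TopologicalSpace Opposite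

namespace Groth.Agent.Lead.DefoTors

open Groth.Agent.Helper1.QcCech Groth.Agent.Lead.TensExt Groth.Agent.Lead.DefoLoc ArtFun ArtFun.Art

section General

variable {X : Scheme.{u}} {M N : X.Modules}

theorem hom_ext_sec (φ ψ : M ⟶ N)
    (h : ∀ (U : X.Opens) (x : M.val.obj (op U)), φ.app U x = ψ.app U x) : φ = ψ := by
  refine Scheme.Modules.hom_ext _ _ fun U => ?_
  ext x
  exact h U x

theorem toAbMap_injective {φ ψ : M ⟶ N} (h : toAbMap φ = toAbMap ψ) : φ = ψ :=
  (SheafOfModules.toSheaf X.ringCatSheaf).map_injective h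

end General

section Torsor

variable {k : Type u} [Field k] {X : Scheme.{u}} [X.Over (Spec (CommRingCat.of k))]
  {Ω' : X.Modules} {δ : OmegaSh.Der (X ↘ Spec (CommRingCat.of k)) Ω'} {E : X.Modules}
  {nabla : Coh.toAb E ⟶ Coh.toAb (CohB1.tensorMod E Ω')}
  {D : DefoSh.Defo E (dual k k)} (ι : E ⟶ D.sheaf)
  (hι : D.π ≫ ι = D.act (DualNumber.eps : DualNumber k))
  (c₀ : DefoSh.DefoConn δ nabla D)

theorem defoConn_ext (c c' : DefoSh.DefoConn δ nabla D) (h : c.conn = c'.conn) : c = c' := by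
  cases c
  cases c'
  simp only at h
  subst h
  rfl

include hι in
theorem act_π_eq (a : DualNumber k) : (D.act a : D.sheaf ⟶ D.sheaf) ≫ D.π = a.fst • D.π := by
  have h1 : (epsD D ≫ Formal.smulMod k D.sheaf a.snd) ≫ D.π = 0 := by
    rw [Category.assoc, smulMod_comm, ← Category.assoc, epsD_π, zero_comp]
  rw [act_decomp, Preadditive.add_comp, h1, add_zero, KLin.smul_def]

include hι in
theorem ι_act_eq (a : DualNumber k) : ι ≫ (D.act a : D.sheaf ⟶ D.sheaf) = a.fst • ι := by
  have h1 : ι ≫ epsD D ≫ Formal.smulMod k D.sheaf a.snd = 0 := by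
    rw [← Category.assoc, ι_eps D ι hι, zero_comp]
  rw [act_decomp, Preadditive.comp_add, h1, add_zero, KLin.smul_def, smulMod_comm]

/-- the twisting morphism attached to `φ` -/
noncomputable def twist (φ : E ⟶ CohB1.tensorMod E Ω') : D.sheaf ⟶ CohB1.tensorMod D.sheaf Ω' :=
  D.π ≫ φ ≫ KoszTw.tensorMap ι (𝟙 Ω')

include hι in
theorem act_twist (φ : E ⟶ CohB1.tensorMod E Ω') (a : DualNumber k) :
    (D.act a : D.sheaf ⟶ D.sheaf) ≫ twist ι φ =
      twist ι φ ≫ KoszTw.tensorMap (D.act a : D.sheaf ⟶ D.sheaf) (𝟙 Ω') := by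
  unfold twist
  rw [← Category.assoc, act_π_eq ι hι, Category.assoc, Category.assoc, T_comp, ι_act_eq ι hι,
    tensorMap_smul_left, Linear.smul_comp, Linear.comp_smul, Linear.comp_smul]

include hι in
theorem twist_π (φ : E ⟶ CohB1.tensorMod E Ω') :
    twist ι φ ≫ KoszTw.tensorMap D.π (𝟙 Ω') = 0 := by
  unfold twist
  rw [Category.assoc, Category.assoc, tens_ι_π D ι hι, comp_zero, comp_zero]

include hι in
/-- the deformation of the connection attached to `φ` -/
noncomputable def mkConn (φ : E ⟶ CohB1.tensorMod E Ω') : DefoSh.DefoConn δ nabla D where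
  conn := c₀.conn + toAbMap (twist ι φ)
  isConn := by
    intro U t e
    rw [secApp_add, secApp_add, c₀.isConn U t e, secApp_toAbMap, secApp_toAbMap, app_smul',
      smul_add]
    abel
  act_horizontal := by
    intro a U e
    rw [secApp_add, secApp_add, c₀.act_horizontal a U e, secApp_toAbMap, secApp_toAbMap, app_add']
    congr 1
    exact congrArg (fun χ : D.sheaf ⟶ CohB1.tensorMod D.sheaf Ω' => χ.app U e)
      (act_twist ι hι φ a)
  π_horizontal := by
    intro U e
    rw [secApp_add, secApp_toAbMap, app_add', ← c₀.π_horizontal U e]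
    have h := congrArg (fun χ : D.sheaf ⟶ CohB1.tensorMod E Ω' => χ.app U e) (twist_π ι hι φ)
    have h' : (KoszTw.tensorMap D.π (𝟙 Ω')).app U ((twist ι φ).app U e) = 0 := h
    rw [h', add_zero]


include hι in
theorem mkConn_injective (hE : FlatMod.IsFinLocFree E) :
    Function.Injective (mkConn (δ := δ) (nabla := nabla) ι hι c₀) := by
  intro φ φ' h
  have h1 : c₀.conn + toAbMap (twist ι φ) = c₀.conn + toAbMap (twist ι φ') :=
    congrArg DefoSh.DefoConn.conn h
  have h2 : twist ι φ = twist ι φ' := toAbMap_injective (add_left_cancel h1)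
  haveI := epi_π D
  haveI : Mono (KoszTw.tensorMap ι (𝟙 Ω')) := (ses_tens_shortExact D ι hι hE Ω').mono_f
  unfold twist at h2
  rw [cancel_epi] at h2
  exact (cancel_mono _).1 h2

include hι in
theorem mkConn_surjective (hE : FlatMod.IsFinLocFree E) :
    Function.Surjective (mkConn (δ := δ) (nabla := nabla) ι hι c₀) := by
  intro c
  haveI := epi_π D
  have P1 : ∀ (U : X.Opens) (t : Γ(X, U)) (e : D.sheaf.val.obj (op U)),
      ConnSh.secApp (c.conn - c₀.conn) U (t • e) = t • ConnSh.secApp (c.conn - c₀.conn) U e := by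
    intro U t e
    rw [secApp_sub, secApp_sub, c.isConn U t e, c₀.isConn U t e, smul_sub]
    abel
  obtain ⟨d, hd⟩ : ∃ d : D.sheaf ⟶ CohB1.tensorMod D.sheaf Ω', d = homOfLinear _ P1 := ⟨_, rfl⟩
  have hdT : toAbMap d = c.conn - c₀.conn := by
    rw [hd]
    exact toAbMap_homOfLinear _ P1
  have hdapp : ∀ (U : X.Opens) (e : D.sheaf.val.obj (op U)),
      d.app U e = ConnSh.secApp c.conn U e - ConnSh.secApp c₀.conn U e := by
    intro U e
    rw [hd]
    rfl
  have h2 : d ≫ KoszTw.tensorMap D.π (𝟙 Ω') = 0 := by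
    apply hom_ext_sec
    intro U e
    show (KoszTw.tensorMap D.π (𝟙 Ω')).app U (d.app U e) = 0
    rw [hdapp, app_sub', ← c.π_horizontal U e, ← c₀.π_horizontal U e, sub_self]
  have h3 : epsD D ≫ d = d ≫ KoszTw.tensorMap (epsD D) (𝟙 Ω') := by
    apply hom_ext_sec
    intro U e
    show d.app U ((epsD D).app U e) = (KoszTw.tensorMap (epsD D) (𝟙 Ω')).app U (d.app U e)
    rw [hdapp, hdapp, app_sub']
    have e1 := c.act_horizontal (DualNumber.eps : DualNumber k) U e
    have e2 := c₀.act_horizontal (DualNumber.eps : DualNumber k) U e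
    exact congrArg₂ (· - ·) e1 e2
  have h1 : ι ≫ d = 0 := by
    rw [← cancel_epi D.π, ← Category.assoc, comp_zero, ← eps_eq D ι hι, h3, eps_eq D ι hι,
      ← T_comp, ← Category.assoc, h2, zero_comp]
  obtain ⟨φ, hφ, -⟩ := exists_unique_factor (ses_shortExact D ι hι)
    (ses_tens_shortExact D ι hι hE Ω') d h1 h2
  obtain ⟨φ', hφ'⟩ : ∃ φ' : E ⟶ CohB1.tensorMod E Ω', twist ι φ' = d := ⟨φ, hφ.symm⟩
  refine ⟨φ', ?_⟩
  apply defoConn_ext
  show c₀.conn + toAbMap (twist ι φ') = c.conn
  rw [hφ', hdT]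
  abel

include hι in
/-- **the deformations of a connection over a first-order deformation form a torsor** -/
theorem torsor (hE : FlatMod.IsFinLocFree E) :
    ∃ Φ : DefoSh.DefoConn δ nabla D ≃ (E ⟶ CohB1.tensorMod E Ω'),
      ∀ c : DefoSh.DefoConn δ nabla D,
        c.conn - c₀.conn = toAbMap (D.π ≫ Φ c ≫ KoszTw.tensorMap ι (𝟙 Ω')) := by
  refine ⟨(Equiv.ofBijective (mkConn (δ := δ) (nabla := nabla) ι hι c₀)
    ⟨mkConn_injective ι hι c₀ hE, mkConn_surjective ι hι c₀ hE⟩).symm, ?_⟩
  intro c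
  have h1 : mkConn (δ := δ) (nabla := nabla) ι hι c₀
      ((Equiv.ofBijective (mkConn (δ := δ) (nabla := nabla) ι hι c₀)
        ⟨mkConn_injective ι hι c₀ hE, mkConn_surjective ι hι c₀ hE⟩).symm c) = c :=
    (Equiv.ofBijective (mkConn (δ := δ) (nabla := nabla) ι hι c₀)
        ⟨mkConn_injective ι hι c₀ hE, mkConn_surjective ι hι c₀ hE⟩).apply_symm_apply c
  have h2 := congrArg DefoSh.DefoConn.conn h1
  have h3 : c₀.conn + toAbMap (twist ι ((Equiv.ofBijective (mkConn (δ := δ) (nabla := nabla) ι hι c₀)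
        ⟨mkConn_injective ι hι c₀ hE, mkConn_surjective ι hι c₀ hE⟩).symm c)) = c.conn := h2
  rw [← h3, add_sub_cancel_left]
  rfl

end Torsor

end Groth.Agent.Lead.DefoTors
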