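import Mathlib

/-!
# Flatness over the dual numbers (lead)
-/

set_option autoImplicit false
set_option linter.unusedSectionVars false
universe u
open TensorProduct DualNumber

namespace Groth.Agent.Lead.DualFlat

variable {k : Type u} [Field k] {M : Type u} [AddCommGroup M] [Module (DualNumber k) M]

/-- a module over the dual numbers in which every element killed by `ε` is a multiple of `ε` is flat -/
theorem flat_of_eps
    (h : ∀ v : M, (ε : DualNumber k) • v = 0 → ∃ w : M, v = (ε : DualNumber k) • w) :
    Module.Flat (DualNumber k) M := by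
  rw [Module.Flat.iff_rTensor_injective']
  intro I
  rcases DualNumber.ideal_trichotomy I with hI | hI | hI
  · subst hI
    intro x y _
    have h0 : ∀ z : (↥(⊥ : Ideal (DualNumber k))) ⊗[DualNumber k] M, z = 0 := by
      intro z
      induction z using TensorProduct.induction_on with
      | zero => rfl
      | tmul i m =>
        have hi : i = 0 := Subtype.ext ((Submodule.mem_bot _).1 i.2)
        rw [hi, TensorProduct.zero_tmul]
      | add a b ha hb => rw [ha, hb, add_zero]
    rw [h0 x, h0 y]
  · subst hI
    have hεmem : (ε : DualNumber k) ∈ Ideal.span {(ε : DualNumber k)} :=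
      Ideal.subset_span (Set.mem_singleton _)
    let ε' : ↥(Ideal.span {(ε : DualNumber k)}) := ⟨ε, hεmem⟩
    have hform : ∀ z : (↥(Ideal.span {(ε : DualNumber k)})) ⊗[DualNumber k] M,
        ∃ m : M, z = ε' ⊗ₜ m := by
      intro z
      induction z using TensorProduct.induction_on with
      | zero => exact ⟨0, (TensorProduct.tmul_zero _ _).symm⟩
      | tmul i m =>
        obtain ⟨a, ha⟩ := Ideal.mem_span_singleton'.1 i.2
        have hi : i = a • ε' := Subtype.ext ha.symm
        exact ⟨a • m, by rw [hi, TensorProduct.smul_tmul]⟩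
      | add a b ha hb =>
        obtain ⟨m, rfl⟩ := ha
        obtain ⟨m', rfl⟩ := hb
        exact ⟨m + m', (TensorProduct.tmul_add _ _ _).symm⟩
    rw [injective_iff_map_eq_zero]
    intro z hz
    obtain ⟨m, rfl⟩ := hform z
    have h1 : (TensorProduct.lid (DualNumber k) M)
        ((LinearMap.rTensor M (Submodule.subtype (Ideal.span {(ε : DualNumber k)}))) (ε' ⊗ₜ m)) =
        (ε : DualNumber k) • m := by
      rw [LinearMap.rTensor_tmul]
      exact TensorProduct.lid_tmul _ _
    rw [hz, map_zero] at h1
    obtain ⟨w, rfl⟩ := h m h1.symm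
    have h2 : ε' ⊗ₜ[DualNumber k] ((ε : DualNumber k) • w) = ((ε : DualNumber k) • ε') ⊗ₜ w :=
      (TensorProduct.smul_tmul _ _ _).symm
    have h3 : (ε : DualNumber k) • ε' = 0 := by
      apply Subtype.ext
      show (ε : DualNumber k) * ε = 0
      exact DualNumber.eps_mul_eps
    rw [h2, h3, TensorProduct.zero_tmul]
  · subst hI
    have h1 : LinearMap.rTensor M (Submodule.subtype (⊤ : Ideal (DualNumber k))) =
        (LinearEquiv.rTensor M (Submodule.topEquiv : _ ≃ₗ[DualNumber k] DualNumber k)).toLinearMap := by
      apply TensorProduct.ext'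
      intro i m
      rfl
    rw [h1]
    exact LinearEquiv.injective _

end Groth.Agent.Lead.DualFlat
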