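import Mathlib
import Groth.Agent.Lib.Lead.DefoTors4
import Groth.Agent.Lib.Lead.DualFlat
import Groth.Agent.Lib.Lead.ExtYon1

/-!
# First-order deformations and extensions (lead)
-/

set_option autoImplicit false
set_option linter.unusedSectionVars false
set_option linter.style.haveILetI false
set_option backward.isDefEq.respectTransparency.types false
set_option synthInstance.maxHeartbeats 400000
universe u
open CategoryTheory CategoryTheory.Limits AlgebraicGeometry TopologicalSpace Opposite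

namespace Groth.Agent.Lead.DefoExt

open Groth.Agent.Helper1.QcCech Groth.Agent.Lead.TensExt Groth.Agent.Lead.DefoLoc
  Groth.Agent.Lead.DefoTors ArtFun ArtFun.Art

section IotaOf

variable {k : Type u} [Field k] {X : Scheme.{u}} [X.Over (Spec (CommRingCat.of k))]
  {E : X.Modules} (D : DefoSh.Defo E (dual k k))

theorem kernel_ι_eps : kernel.ι D.π ≫ epsD D = 0 := by
  apply hom_ext_sec
  intro U s
  show (epsD D).app U ((kernel.ι D.π).app U s) = 0
  apply epsD_app_eq_zero_of_π
  have h := congrArg (fun χ : kernel D.π ⟶ E => χ.app U s) (kernel.condition D.π)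
  exact h

/-- multiplication by `ε` factors through the reduction -/
theorem exists_ι : ∃ ι : E ⟶ D.sheaf, D.π ≫ ι = D.act (DualNumber.eps : DualNumber k) := by
  haveI := epi_π D
  let S : ShortComplex X.Modules := ShortComplex.mk (kernel.ι D.π) D.π (kernel.condition D.π)
  have hS : S.Exact := S.exact_of_f_is_kernel (kernelIsKernel D.π)
  haveI : Epi S.g := inferInstanceAs (Epi D.π)
  exact ⟨hS.desc (epsD D) (kernel_ι_eps D), hS.g_desc _ _⟩

/-- the inclusion `E → D`, "multiplication by `ε`" -/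
noncomputable def ιOf : E ⟶ D.sheaf := (exists_ι D).choose

theorem π_ιOf : D.π ≫ ιOf D = D.act (DualNumber.eps : DualNumber k) := (exists_ι D).choose_spec

theorem ι_unique (i : E ⟶ D.sheaf) (hi : D.π ≫ i = D.act (DualNumber.eps : DualNumber k)) :
    i = ιOf D := by
  haveI := epi_π D
  rw [← cancel_epi D.π, hi, π_ιOf]

end IotaOf


section Stalks

variable {X : Scheme.{u}} {M N P : X.Modules}

theorem germ_eq_zero_iff (M : X.Modules) {U : X.Opens} (p : X) (hp : p ∈ U) (s : Γ(M, U)) :
    M.presheaf.germ U p hp s = 0 ↔ ∃ (V : X.Opens) (hV : V ≤ U), p ∈ V ∧ res M hV s = 0 := by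
  constructor
  · intro h
    have h' : M.presheaf.germ U p hp s = M.presheaf.germ U p hp 0 := by rw [h, map_zero]
    obtain ⟨W, hpW, iU, iV, hW⟩ := TopCat.Presheaf.germ_eq M.presheaf p hp hp _ _ h'
    refine ⟨W, iU.le, hpW, ?_⟩
    have : M.presheaf.map iU.op s = M.presheaf.map iV.op 0 := hW
    rw [map_zero] at this
    exact this
  · rintro ⟨V, hV, hpV, h⟩
    have h1 := TopCat.Presheaf.germ_res_apply M.presheaf (homOfLE hV) p hpV s
    rw [← h1]
    have h2 : M.presheaf.map (homOfLE hV).op s = 0 := h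
    rw [h2, map_zero]

theorem stalk_surjective_of_epi (g : M ⟶ N) [Epi g] (p : X) :
    Function.Surjective (RefHull.stalkMapₗ g p) := by
  intro v
  obtain ⟨U, hp, t, rfl⟩ := TopCat.Presheaf.exists_germ_eq N.presheaf v
  obtain ⟨V, hV, s, hpV, hs⟩ := Groth.Agent.Lib.Helper5.LocLift.exists_local_lift g U t p hp
  refine ⟨M.presheaf.germ V p hpV s, ?_⟩
  rw [RefHull.stalkMapₗ_germ, hs]
  exact TopCat.Presheaf.germ_res_apply N.presheaf (homOfLE hV) p hpV t

theorem stalk_injective_of_mono (f : M ⟶ N) [Mono f] (p : X) :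
    Function.Injective (RefHull.stalkMapₗ f p) := by
  rw [injective_iff_map_eq_zero]
  intro v hv
  obtain ⟨U, hp, t, rfl⟩ := TopCat.Presheaf.exists_germ_eq M.presheaf v
  rw [RefHull.stalkMapₗ_germ, germ_eq_zero_iff] at hv
  obtain ⟨V, hV, hpV, h⟩ := hv
  rw [germ_eq_zero_iff]
  refine ⟨V, hV, hpV, ?_⟩
  apply Groth.Agent.Helper1.FtLocal.app_injective_of_mono f V
  rw [TensExt.app_res, h, map_zero]

theorem stalk_exact (f : M ⟶ N) (g : N ⟶ P) (w : f ≫ g = 0)
    (hS : (ShortComplex.mk f g w).ShortExact) (p : X) (v : ↑(N.presheaf.stalk p))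
    (hv : RefHull.stalkMapₗ g p v = 0) : ∃ u, RefHull.stalkMapₗ f p u = v := by
  obtain ⟨U, hp, t, rfl⟩ := TopCat.Presheaf.exists_germ_eq N.presheaf v
  rw [RefHull.stalkMapₗ_germ, germ_eq_zero_iff] at hv
  obtain ⟨V, hV, hpV, h⟩ := hv
  have h' : g.app V (res N hV t) = 0 := by rw [TensExt.app_res, h]
  haveI : Mono (ShortComplex.mk f g w).f := hS.mono_f
  obtain ⟨m, hm⟩ := Groth.Agent.Helper1.QcAbel.app_exact' hS.exact V (res N hV t) h'
  have hm' : f.app V m = res N hV t := hm
  refine ⟨M.presheaf.germ V p hpV m, ?_⟩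
  rw [RefHull.stalkMapₗ_germ, hm']
  exact TopCat.Presheaf.germ_res_apply N.presheaf (homOfLE hV) p hpV t

end Stalks


section OfExt

variable {k : Type u} [Field k] {X : Scheme.{u}} [X.Over (Spec (CommRingCat.of k))]
  {E B : X.Modules} (f : E ⟶ B) (g : B ⟶ E) (w : f ≫ g = 0)

/-- the square-zero endomorphism of the middle term of a self-extension -/
noncomputable def nilEnd : End B := g ≫ f

include w in
theorem nilEnd_sq : nilEnd f g * nilEnd f g = 0 := by
  rw [End.mul_def]
  unfold nilEnd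
  rw [Category.assoc, reassoc_of% w, zero_comp, comp_zero]

variable (k) in
/-- the action of the dual numbers on the middle term of a self-extension -/
noncomputable def extAct : DualNumber k →ₐ[k] End B :=
  DualNumber.lift ⟨(Algebra.ofId k (End B), nilEnd f g),
    nilEnd_sq f g w, fun a => (Algebra.commutes a (nilEnd f g)).symm⟩

theorem extAct_apply (z : DualNumber k) :
    extAct k f g w z = z.fst • (1 : End B) + z.snd • nilEnd f g := by
  change algebraMap k (End B) z.fst + (algebraMap k (End B) z.snd) * nilEnd f g = _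
  rw [Algebra.algebraMap_eq_smul_one, Algebra.algebraMap_eq_smul_one, smul_mul_assoc, one_mul]

theorem extAct_hom (z : DualNumber k) :
    (extAct k f g w z : B ⟶ B) = z.fst • 𝟙 B + z.snd • (g ≫ f) :=
  extAct_apply f g w z

theorem extAct_eps : (extAct k f g w (DualNumber.eps : DualNumber k) : B ⟶ B) = g ≫ f := by
  rw [extAct_hom]
  change ((DualNumber.eps : DualNumber k).fst • 𝟙 B +
    (DualNumber.eps : DualNumber k).snd • (g ≫ f) : B ⟶ B) = _
  simp

theorem extAct_comp_g (z : DualNumber k) (hz : z.fst = 0) :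
    (extAct k f g w z : B ⟶ B) ≫ g = 0 := by
  rw [extAct_hom, hz]
  change ((0 : k) • 𝟙 B + z.snd • (g ≫ f)) ≫ g = 0
  rw [zero_smul, zero_add, Linear.smul_comp, Category.assoc, w, comp_zero, smul_zero]

variable (hS : (ShortComplex.mk f g w).ShortExact)

include hS in
theorem stalk_ker (p : X) (v : ↑(B.presheaf.stalk p)) (hv : RefHull.stalkMapₗ g p v = 0) :
    ∃ u : ↑(B.presheaf.stalk p), v = RefHull.stalkMapₗ (g ≫ f) p u := by
  haveI : Epi g := hS.epi_g
  obtain ⟨m, hm⟩ := stalk_exact f g w hS p v hv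
  obtain ⟨u, hu⟩ := stalk_surjective_of_epi g p m
  refine ⟨u, ?_⟩
  rw [DefoSh.stalkMapₗ_comp_apply, hu, hm]

/-- the first-order deformation attached to a self-extension -/
noncomputable def ofExt : DefoSh.Defo E (dual k k) where
  sheaf := B
  act := extAct k f g w
  π := g
  act_π a ha := extAct_comp_g f g w a ha
  surj p := by
    haveI : Epi g := hS.epi_g
    exact stalk_surjective_of_epi g p
  ker_le p v hv := by
    letI : Module (dual k k) ↑(B.presheaf.stalk p) :=
      DefoSh.stalkModule (A := dual k k) B (extAct k f g w).toRingHom p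
    obtain ⟨u, hu⟩ := stalk_ker f g w hS p v hv
    let ε : (dual k k) := (DualNumber.eps : DualNumber k)
    have hε : ε ∈ IsLocalRing.maximalIdeal (dual k k) := by
      rw [Art.mem_maximalIdeal_iff]
      rfl
    have hv' : v = ε • u := by
      change v = RefHull.stalkMapₗ (extAct k f g w (DualNumber.eps : DualNumber k) : B ⟶ B) p u
      rw [extAct_eps]
      exact hu
    rw [hv']
    exact Submodule.smul_mem_smul hε Submodule.mem_top
  flat p := by
    letI : Module (DualNumber k) ↑(B.presheaf.stalk p) :=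
      DefoSh.stalkModule (A := DualNumber k) B (extAct k f g w).toRingHom p
    change Module.Flat (DualNumber k) ↑(B.presheaf.stalk p)
    apply Groth.Agent.Lead.DualFlat.flat_of_eps
    intro v hv
    haveI : Mono f := hS.mono_f
    have hv1 : RefHull.stalkMapₗ (extAct k f g w (DualNumber.eps : DualNumber k) : B ⟶ B) p v = 0 :=
      hv
    rw [extAct_eps, DefoSh.stalkMapₗ_comp_apply] at hv1
    have hv2 : RefHull.stalkMapₗ g p v = 0 :=
      stalk_injective_of_mono f p (hv1.trans (map_zero _).symm)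
    obtain ⟨u, hu⟩ := stalk_ker f g w hS p v hv2
    refine ⟨u, ?_⟩
    change v = RefHull.stalkMapₗ (extAct k f g w (DualNumber.eps : DualNumber k) : B ⟶ B) p u
    rw [extAct_eps]
    exact hu

theorem ofExt_π_f : (ofExt f g w hS).π ≫ f = (ofExt f g w hS).act (DualNumber.eps : DualNumber k) :=
  (extAct_eps f g w).symm

end OfExt


section Main

open CategoryTheory.Abelian

variable {k : Type u} [Field k] {X : Scheme.{u}} [X.Over (Spec (CommRingCat.of k))]
  {E : X.Modules} [HasExt.{u} X.Modules]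

/-- the extension class of a first-order deformation -/
noncomputable def classOf (D : DefoSh.Defo E (dual k k)) : Ext E E 1 :=
  (ses_shortExact D (ιOf D) (π_ιOf D)).extClass

theorem classOf_eq (D : DefoSh.Defo E (dual k k)) (i : E ⟶ D.sheaf)
    (hi : D.π ≫ i = D.act (DualNumber.eps : DualNumber k)) (h0 : i ≫ D.π = 0)
    (hS : (ShortComplex.mk i D.π h0).ShortExact) : classOf D = hS.extClass := by
  have h := ι_unique D i hi
  subst h
  rfl

theorem ιOf_comp_iso {D D' : DefoSh.Defo E (dual k k)} (β : D.sheaf ⟶ D'.sheaf)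
    (h1 : ∀ a : DualNumber k, (D.act a : D.sheaf ⟶ D.sheaf) ≫ β = β ≫ D'.act a)
    (h2 : β ≫ D'.π = D.π) : ιOf D ≫ β = ιOf D' := by
  haveI := epi_π D
  rw [← cancel_epi D.π, ← Category.assoc, π_ιOf, h1, ← π_ιOf, ← Category.assoc, h2]

theorem classOf_eq_of_iso {D D' : DefoSh.Defo E (dual k k)} (e : DefoSh.Defo.Iso D D') :
    classOf D = classOf D' :=
  Groth.Agent.Lead.ExtYon.extClass_eq_of_hom
    (ses_shortExact D (ιOf D) (π_ιOf D)) (ses_shortExact D' (ιOf D') (π_ιOf D'))
    e.iso.hom (ιOf_comp_iso e.iso.hom e.act_hom e.hom_π) e.hom_π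

theorem iso_of_classOf_eq {D D' : DefoSh.Defo E (dual k k)} (h : classOf D = classOf D') :
    Nonempty (DefoSh.Defo.Iso D D') := by
  obtain ⟨β, hβ1, hβ2⟩ := Groth.Agent.Lead.ExtYon.exists_iso_of_extClass_eq
    (ses_shortExact D (ιOf D) (π_ιOf D)) (ses_shortExact D' (ιOf D') (π_ιOf D')) h
  have hβ1' : ιOf D ≫ β.hom = ιOf D' := hβ1
  have hβ2' : β.hom ≫ D'.π = D.π := hβ2
  have hε : epsD D ≫ β.hom = β.hom ≫ epsD D' := by
    have e1 : epsD D = D.π ≫ ιOf D := (π_ιOf D).symm
    have e2 : epsD D' = D'.π ≫ ιOf D' := (π_ιOf D').symm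
    rw [e1, e2, Category.assoc, hβ1', ← Category.assoc, hβ2']
  refine ⟨⟨β, fun a => ?_, hβ2'⟩⟩
  show (D.act a : D.sheaf ⟶ D.sheaf) ≫ β.hom = β.hom ≫ D'.act a
  have h3 : (epsD D ≫ Formal.smulMod k D.sheaf a.snd) ≫ β.hom =
      β.hom ≫ epsD D' ≫ Formal.smulMod k D'.sheaf a.snd := by
    rw [Category.assoc, smulMod_comm, ← Category.assoc, hε, Category.assoc]
  rw [act_decomp D, act_decomp D', Preadditive.add_comp, Preadditive.comp_add, h3, smulMod_comm]

theorem classOf_trivDual : classOf (DefoSh.Defo.trivDual k E) = 0 := by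
  have hi : (DefoSh.Defo.trivDual k E).π ≫ (biprod.inr : E ⟶ E ⊞ E) =
      (DefoSh.Defo.trivDual k E).act (DualNumber.eps : DualNumber k) :=
    (DefoSh.dualAct_eps (k := k) E).symm
  have hS := ses_shortExact (DefoSh.Defo.trivDual k E) (biprod.inr : E ⟶ E ⊞ E) hi
  rw [classOf_eq (DefoSh.Defo.trivDual k E) (biprod.inr : E ⟶ E ⊞ E) hi _ hS]
  exact Groth.Agent.Lead.ExtYon.extClass_eq_zero_of_retraction hS
    (biprod.snd : E ⊞ E ⟶ E) biprod.inr_snd

/-- **first-order deformations are classified by `Ext¹(E, E)`** -/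
theorem firstOrder_equiv_ext :
    ∃ e : DefoSh.FirstOrder k E ≃ Ext E E 1,
      e (DefoSh.Defo.trivDual k E).cl = 0 ∧
      ∀ (D : DefoSh.Defo E (dual k k)) (i : E ⟶ D.sheaf)
        (hi : D.π ≫ i = D.act (DualNumber.eps : DualNumber k))
        (h0 : i ≫ D.π = 0) (hS : (ShortComplex.mk i D.π h0).ShortExact),
        e D.cl = hS.extClass := by
  let φ : DefoSh.FirstOrder k E → Ext E E 1 :=
    Quotient.lift (s := DefoSh.Defo.setoid E (dual k k)) classOf
      (fun D D' h => by
        obtain ⟨e⟩ := h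
        exact classOf_eq_of_iso e)
  have hφ : ∀ D : DefoSh.Defo E (dual k k), φ D.cl = classOf D := fun D => rfl
  have hinj : Function.Injective φ := by
    intro a b
    refine Quotient.inductionOn₂ a b ?_
    intro D D' h
    exact Quotient.sound (iso_of_classOf_eq h)
  have hsurj : Function.Surjective φ := by
    intro x
    obtain ⟨B, f, g, w, hS, hx⟩ := Groth.Agent.Lead.ExtYon.exists_shortExact_of_ext x
    refine ⟨(ofExt f g w hS).cl, ?_⟩
    rw [hφ, classOf_eq (ofExt f g w hS) f (ofExt_π_f f g w hS) w hS]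
    exact hx
  refine ⟨Equiv.ofBijective φ ⟨hinj, hsurj⟩, ?_, ?_⟩
  · show φ (DefoSh.Defo.trivDual k E).cl = 0
    rw [hφ]
    exact classOf_trivDual
  · intro D i hi h0 hS
    show φ D.cl = hS.extClass
    rw [hφ]
    exact classOf_eq D i hi h0 hS

end Main

end Groth.Agent.Lead.DefoExt
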