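import Mathlib
import Groth.Agent.Lib.Lead.DetSF1
import Groth.Agent.Lib.Helper1.QuasiReg

set_option backward.isDefEq.respectTransparency.types false
set_option autoImplicit false
set_option synthInstance.maxHeartbeats 400000
set_option linter.style.haveILetI false
set_option linter.unusedSectionVars false

universe u

open scoped TensorProduct
open MvPolynomial

namespace Groth.Agent.Lead.DetSF

theorem nonempty_basis_cotangent {P : Type u} [CommRing P] (J : Ideal P) {r : ℕ} (F : Fin r → P)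
    (hreg : RingTheory.Sequence.IsWeaklyRegular P (List.ofFn F))
    (hJ : Ideal.span (Set.range F) = J) :
    Nonempty (Module.Basis (Fin r) (P ⧸ J) J.Cotangent) := by
  have hmem : ∀ i, F i ∈ J := fun i => hJ ▸ Ideal.subset_span ⟨i, rfl⟩
  let f : Fin r → J := fun i => ⟨F i, hmem i⟩
  have hq := Groth.Agent.Helper1.QuasiReg.isQuasiRegular_of_isWeaklyRegular r F hreg
  obtain ⟨hli, hsp⟩ := Groth.Agent.Helper1.QuasiReg.basis_of_isQuasiRegular J f hq hJ
  exact ⟨Module.Basis.mk hli hsp.ge⟩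

theorem nonempty_split (A : Type u) [CommRing A] (P B : Type u) [CommRing P] [CommRing B]
    [Algebra A P] [Algebra A B] [Algebra P B] [IsScalarTower A P B]
    [Algebra.FormallySmooth A P] [Algebra.FormallySmooth A B]
    (hf : Function.Surjective (algebraMap P B)) :
    Nonempty ((B ⊗[P] Ω[P⁄A]) ≃ₗ[P] ((RingHom.ker (algebraMap P B)).Cotangent × Ω[B⁄A])) := by
  obtain ⟨l, hl⟩ := (Algebra.FormallySmooth.iff_split_injection (R := A) (P := P) (A := B) hf).mp
    inferInstance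
  have hex := KaehlerDifferential.exact_kerCotangentToTensor_mapBaseChange A P B hf
  have hsurj := KaehlerDifferential.mapBaseChange_surjective A P B hf
  exact ⟨(Function.Exact.splitInjectiveEquiv
    (f := KaehlerDifferential.kerCotangentToTensor A P B)
    (g := (KaehlerDifferential.mapBaseChange A P B).restrictScalars P) hex hsurj ⟨l, hl⟩).1⟩

theorem nonempty_stable (A : Type u) [CommRing A] (n r : ℕ) (F : Fin r → MvPolynomial (Fin n) A)
    (hreg : RingTheory.Sequence.IsWeaklyRegular (MvPolynomial (Fin n) A) (List.ofFn F))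
    (I : Ideal (MvPolynomial (Fin n) A)) (hI : I = Ideal.span (Set.range F))
    [Algebra.FormallySmooth A (MvPolynomial (Fin n) A ⧸ I)] :
    Nonempty ((Ω[(MvPolynomial (Fin n) A ⧸ I)⁄A] × (Fin r → (MvPolynomial (Fin n) A ⧸ I)))
      ≃ₗ[MvPolynomial (Fin n) A ⧸ I] (Fin n → (MvPolynomial (Fin n) A ⧸ I))) := by
  have hf : Function.Surjective (algebraMap (MvPolynomial (Fin n) A) (MvPolynomial (Fin n) A ⧸ I)) :=
    Ideal.Quotient.mk_surjective
  have hK : RingHom.ker (algebraMap (MvPolynomial (Fin n) A) (MvPolynomial (Fin n) A ⧸ I)) = I := by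
    rw [Ideal.Quotient.algebraMap_eq]; exact Ideal.mk_ker
  obtain ⟨bK⟩ := nonempty_basis_cotangent
    (RingHom.ker (algebraMap (MvPolynomial (Fin n) A) (MvPolynomial (Fin n) A ⧸ I))) F hreg
    (by rw [hK, hI])
  obtain ⟨e⟩ := nonempty_split A (MvPolynomial (Fin n) A) (MvPolynomial (Fin n) A ⧸ I) hf
  let bΩ := KaehlerDifferential.mvPolynomialBasis A (Fin n)
  let bB : Module.Basis (Fin n) (MvPolynomial (Fin n) A ⧸ I)
      ((MvPolynomial (Fin n) A ⧸ I) ⊗[MvPolynomial (Fin n) A] Ω[MvPolynomial (Fin n) A⁄A]) :=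
    Module.Basis.baseChange (MvPolynomial (Fin n) A ⧸ I) bΩ
  let q : (MvPolynomial (Fin n) A ⧸
        RingHom.ker (algebraMap (MvPolynomial (Fin n) A) (MvPolynomial (Fin n) A ⧸ I)))
      ≃ₗ[MvPolynomial (Fin n) A] (MvPolynomial (Fin n) A ⧸ I) :=
    (Ideal.quotientEquivAlgOfEq (MvPolynomial (Fin n) A) hK).toLinearEquiv
  let e1 : (Fin r → (MvPolynomial (Fin n) A ⧸ I)) ≃ₗ[MvPolynomial (Fin n) A]
      (Fin r → (MvPolynomial (Fin n) A ⧸
        RingHom.ker (algebraMap (MvPolynomial (Fin n) A) (MvPolynomial (Fin n) A ⧸ I)))) :=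
    LinearEquiv.piCongrRight (fun _ => q.symm)
  let e2 := (bK.equivFun.symm).restrictScalars (MvPolynomial (Fin n) A)
  let eP : (Ω[(MvPolynomial (Fin n) A ⧸ I)⁄A] × (Fin r → (MvPolynomial (Fin n) A ⧸ I)))
      ≃ₗ[MvPolynomial (Fin n) A] (Fin n → (MvPolynomial (Fin n) A ⧸ I)) :=
    ((LinearEquiv.refl (MvPolynomial (Fin n) A) _).prodCongr (e1.trans e2)).trans
      ((LinearEquiv.prodComm (MvPolynomial (Fin n) A) _ _).trans
        (e.symm.trans (bB.equivFun.restrictScalars (MvPolynomial (Fin n) A))))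
  exact ⟨eP.extendScalarsOfSurjective hf⟩

theorem main13315 (A : Type u) [CommRing A]
    (n r : ℕ) (hrn : r ≤ n) (F : Fin r → MvPolynomial (Fin n) A)
    (hreg : RingTheory.Sequence.IsWeaklyRegular (MvPolynomial (Fin n) A) (List.ofFn F))
    (I : Ideal (MvPolynomial (Fin n) A)) (hI : I = Ideal.span (Set.range F))
    [Algebra.Smooth A (MvPolynomial (Fin n) A ⧸ I)] :
    Nonempty ((Module.Dual (MvPolynomial (Fin n) A ⧸ I)
        (⋀[MvPolynomial (Fin n) A ⧸ I]^r I.Cotangent)) ⊗[MvPolynomial (Fin n) A ⧸ I]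
        ((MvPolynomial (Fin n) A ⧸ I) ⊗[MvPolynomial (Fin n) A]
          (⋀[MvPolynomial (Fin n) A]^n (Ω[MvPolynomial (Fin n) A⁄A])))
      ≃ₗ[MvPolynomial (Fin n) A ⧸ I]
        (⋀[MvPolynomial (Fin n) A ⧸ I]^(n - r) (Ω[(MvPolynomial (Fin n) A ⧸ I)⁄A]))) := by
  obtain ⟨bI⟩ := nonempty_basis_cotangent I F hreg hI.symm
  obtain ⟨e1⟩ := nonempty_top_equiv bI
  obtain ⟨e2⟩ := nonempty_top_equiv (KaehlerDifferential.mvPolynomialBasis A (Fin n))
  obtain ⟨es⟩ := nonempty_stable A n r F hreg I hI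
  obtain ⟨e3⟩ := main n r hrn (Ω[(MvPolynomial (Fin n) A ⧸ I)⁄A]) es
  let eDual : Module.Dual (MvPolynomial (Fin n) A ⧸ I)
      (⋀[MvPolynomial (Fin n) A ⧸ I]^r I.Cotangent) ≃ₗ[MvPolynomial (Fin n) A ⧸ I]
      (MvPolynomial (Fin n) A ⧸ I) :=
    e1.symm.dualMap.trans (LinearMap.ringLmapEquivSelf (MvPolynomial (Fin n) A ⧸ I)
      (MvPolynomial (Fin n) A ⧸ I) (MvPolynomial (Fin n) A ⧸ I))
  let e2' : ((MvPolynomial (Fin n) A ⧸ I) ⊗[MvPolynomial (Fin n) A]
      (⋀[MvPolynomial (Fin n) A]^n (Ω[MvPolynomial (Fin n) A⁄A])))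
      ≃ₗ[MvPolynomial (Fin n) A ⧸ I] (MvPolynomial (Fin n) A ⧸ I) :=
    (TensorProduct.AlgebraTensorModule.congr
      (LinearEquiv.refl (MvPolynomial (Fin n) A ⧸ I) (MvPolynomial (Fin n) A ⧸ I)) e2).trans
      (TensorProduct.AlgebraTensorModule.rid (MvPolynomial (Fin n) A)
        (MvPolynomial (Fin n) A ⧸ I) (MvPolynomial (Fin n) A ⧸ I))
  exact ⟨((TensorProduct.congr eDual e2').trans
    (TensorProduct.lid (MvPolynomial (Fin n) A ⧸ I) (MvPolynomial (Fin n) A ⧸ I))).trans e3.symm⟩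

end Groth.Agent.Lead.DetSF
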