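import Mathlib
import Groth.Prelude.Def_Disc

/-!
# Comparison of the Dedekind different and the Noether different of a finite free algebra (lead)
-/

set_option autoImplicit false
set_option linter.unusedSectionVars false
universe u v w
open TensorProduct

namespace Groth.Agent.Lead.DiffCmp

variable {A : Type u} {B : Type v} [CommRing A] [CommRing B] [Algebra A B]
  {ι : Type w} [Fintype ι] [DecidableEq ι] (b : Module.Basis ι A B)

/-- `Θ_f : B ⊗ B → B, x ⊗ y ↦ f x • y` -/
noncomputable def Th (f : B →ₗ[A] A) : B ⊗[A] B →ₗ[A] B :=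
  (TensorProduct.lid A B).toLinearMap ∘ₗ (LinearMap.rTensor B f)

theorem Th_tmul (f : B →ₗ[A] A) (x y : B) : Th f (x ⊗ₜ[A] y) = f x • y := by
  simp [Th]

theorem Th_right (f : B →ₗ[A] A) (s : B) (u : B ⊗[A] B) :
    Th f (((1 : B) ⊗ₜ[A] s) * u) = s * Th f u := by
  induction u with
  | zero => simp
  | tmul x y => simp [Th_tmul, Algebra.TensorProduct.tmul_mul_tmul]
  | add x y hx hy => rw [mul_add, map_add, hx, hy, map_add, mul_add]

theorem Th_left (f : B →ₗ[A] A) (s : B) (u : B ⊗[A] B) :
    Th f ((s ⊗ₜ[A] (1 : B)) * u) = Th (f ∘ₗ LinearMap.mulLeft A s) u := by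
  induction u with
  | zero => simp
  | tmul x y => simp [Th_tmul, Algebra.TensorProduct.tmul_mul_tmul]
  | add x y hx hy => rw [mul_add, map_add, hx, hy, map_add]

theorem trace_eq_sum (y : B) : Algebra.trace A B y = ∑ j, b.coord j (y * b j) := by
  rw [Algebra.trace_eq_matrix_trace b, Matrix.trace]
  apply Finset.sum_congr rfl
  intro j _
  simp [Matrix.diag, Algebra.leftMulMatrix_eq_repr_mul]

theorem expand (y : B) : y = ∑ j, b.coord j y • b j := by
  conv_lhs => rw [← b.sum_repr y]
  rfl

/-- the key contraction identity -/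
theorem contract (φ : B →ₗ[A] A) (z : B) (u : B ⊗[A] B) :
    ∑ j, b.coord j (Th (φ ∘ₗ LinearMap.mulLeft A (z * b j)) u) =
      φ (z * Algebra.TensorProduct.lmul' (S := B) A u) := by
  induction u with
  | zero => simp
  | tmul x y =>
    simp only [Th_tmul, LinearMap.comp_apply, LinearMap.mulLeft_apply, map_smul, smul_eq_mul,
      Algebra.TensorProduct.lmul'_apply_tmul]
    have h1 : z * (x * y) = ∑ j, b.coord j y • (z * b j * x) := by
      conv_lhs => rw [expand b y]
      rw [Finset.mul_sum, Finset.mul_sum]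
      refine Finset.sum_congr rfl (fun j _ => ?_)
      rw [mul_smul_comm, mul_smul_comm]
      congr 1
      ring
    rw [h1, map_sum]
    refine Finset.sum_congr rfl (fun j _ => ?_)
    rw [map_smul, smul_eq_mul, mul_comm]
  | add x y hx hy =>
    simp only [map_add, mul_add]
    rw [Finset.sum_add_distrib, hx, hy]

include b in
/-- **the Noether different is contained in the Dedekind different** (element form) -/
theorem noether_sub (t : B ⊗[A] B)
    (ht : ∀ s : B, ((1 : B) ⊗ₜ[A] s - s ⊗ₜ[A] (1 : B)) * t = 0) (φ : B →ₗ[A] A) (z : B) :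
    φ (Algebra.TensorProduct.lmul' (S := B) A t * z) = Algebra.trace A B (Th φ t * z) := by
  rw [trace_eq_sum b]
  have h1 : ∀ j, Th φ t * z * b j = Th (φ ∘ₗ LinearMap.mulLeft A (z * b j)) t := by
    intro j
    rw [← Th_left, mul_assoc, mul_comm (Th φ t), ← Th_right]
    congr 1
    have := ht (z * b j)
    rw [sub_mul, sub_eq_zero] at this
    exact this
  rw [Finset.sum_congr rfl (fun j _ => congrArg (b.coord j) (h1 j)), contract b φ z t, mul_comm]

include b in
/-- elements of the Dedekind different kill the kernel of the trace pairing -/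
theorem kill (x : B) (hx : x ∈ Disc.differentSet A B) (c : B)
    (hc : ∀ z : B, Algebra.trace A B (c * z) = 0) : x * c = 0 := by
  apply b.ext_elem
  intro k
  obtain ⟨c', hc'⟩ := hx (b.coord k)
  have h1 := hc' c
  rw [mul_comm c' c, hc c'] at h1
  rw [map_zero, Finsupp.zero_apply]
  exact h1

include b in
theorem kill_sub (x : B) (hx : x ∈ Disc.differentSet A B) (c c' : B)
    (hc : ∀ z : B, Algebra.trace A B (c * z) = Algebra.trace A B (c' * z)) : x * c = x * c' := by
  have h := kill b x hx (c - c') (fun z => by rw [sub_mul, map_sub, hc z, sub_self])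
  rw [mul_sub, sub_eq_zero] at h
  exact h

/-- the candidate element of the annihilator of the diagonal ideal -/
noncomputable def tel (x : B) (c : ι → B) : B ⊗[A] B := ∑ j, (x * c j) ⊗ₜ[A] b j

theorem lmul_tel (x : B) (hx : x ∈ Disc.differentSet A B) (c : ι → B)
    (hc : ∀ j z, b.coord j (x * z) = Algebra.trace A B (c j * z)) :
    Algebra.TensorProduct.lmul' (S := B) A (tel b x c) = x ^ 2 := by
  unfold tel
  rw [map_sum]
  simp only [Algebra.TensorProduct.lmul'_apply_tmul]
  have h1 : ∑ j, x * c j * b j = x * ∑ j, c j * b j := by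
    rw [Finset.mul_sum]
    exact Finset.sum_congr rfl (fun j _ => mul_assoc _ _ _)
  rw [h1, pow_two]
  apply kill_sub b x hx
  intro z
  rw [Finset.sum_mul, map_sum, trace_eq_sum b (x * z)]
  refine Finset.sum_congr rfl (fun j _ => ?_)
  rw [mul_assoc, ← hc j (b j * z)]
  congr 1
  ring

theorem tel_mul_right (x : B) (hx : x ∈ Disc.differentSet A B) (c : ι → B)
    (hc : ∀ j z, b.coord j (x * z) = Algebra.trace A B (c j * z)) (s : B) :
    tel b x c * ((1 : B) ⊗ₜ[A] s) = tel b x c * (s ⊗ₜ[A] (1 : B)) := by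
  unfold tel
  rw [Finset.sum_mul, Finset.sum_mul]
  simp only [Algebra.TensorProduct.tmul_mul_tmul, mul_one]
  -- expand `b j * s` in the basis
  have h1 : ∀ j, (x * c j) ⊗ₜ[A] (b j * s) =
      ∑ k, (b.coord k (b j * s) • (x * c j)) ⊗ₜ[A] b k := by
    intro j
    conv_lhs => rw [expand b (b j * s)]
    rw [TensorProduct.tmul_sum]
    refine Finset.sum_congr rfl (fun k _ => ?_)
    rw [TensorProduct.tmul_smul, TensorProduct.smul_tmul']
  rw [Finset.sum_congr rfl (fun j _ => h1 j), Finset.sum_comm]
  refine Finset.sum_congr rfl (fun k _ => ?_)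
  rw [← TensorProduct.sum_tmul]
  congr 1
  have h2 : ∑ j, b.coord k (b j * s) • (x * c j) = x * ∑ j, b.coord k (b j * s) • c j := by
    rw [Finset.mul_sum]
    exact Finset.sum_congr rfl (fun j _ => (mul_smul_comm _ _ _).symm)
  rw [h2, mul_assoc]
  apply kill_sub b x hx
  intro z
  rw [Finset.sum_mul, map_sum]
  have h3 : ∀ j, Algebra.trace A B (b.coord k (b j * s) • c j * z) =
      b.coord k (b.coord j (x * z) • (b j * s)) := by
    intro j
    rw [smul_mul_assoc, map_smul, ← hc j z, map_smul, smul_eq_mul, smul_eq_mul, mul_comm]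
  rw [Finset.sum_congr rfl (fun j _ => h3 j), ← map_sum]
  have h4 : ∑ j, b.coord j (x * z) • (b j * s) = x * z * s := by
    conv_rhs => rw [expand b (x * z), Finset.sum_mul]
    exact Finset.sum_congr rfl (fun j _ => (smul_mul_assoc _ _ _).symm)
  rw [h4, mul_assoc (c k), ← hc k (s * z)]
  congr 1
  ring

theorem lmul_surjective :
    Function.Surjective (Algebra.TensorProduct.lmul' (S := B) A) := fun y =>
  ⟨y ⊗ₜ[A] (1 : B), by rw [Algebra.TensorProduct.lmul'_apply_tmul, mul_one]⟩

include b in
/-- **the Noether different is contained in the Dedekind different** -/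
theorem noether_le_different (x : B) (hx : x ∈ Disc.noetherDifferent A B) :
    x ∈ Disc.differentSet A B := by
  unfold Disc.noetherDifferent at hx
  rw [Ideal.mem_map_iff_of_surjective _ lmul_surjective] at hx
  obtain ⟨t, ht, rfl⟩ := hx
  intro φ
  refine ⟨Th φ t, fun z => noether_sub b t ?_ φ z⟩
  intro s
  rw [Submodule.mem_annihilator] at ht
  have h1 : ((1 : B) ⊗ₜ[A] s - s ⊗ₜ[A] (1 : B)) ∈
      RingHom.ker (Algebra.TensorProduct.lmul' (S := B) A) := by
    rw [RingHom.mem_ker, map_sub, Algebra.TensorProduct.lmul'_apply_tmul,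
      Algebra.TensorProduct.lmul'_apply_tmul, one_mul, mul_one, sub_self]
  have h2 := ht _ h1
  rw [smul_eq_mul, mul_comm] at h2
  exact h2

include b in
/-- **squares of elements of the Dedekind different lie in the Noether different** -/
theorem sq_mem_noether (x : B) (hx : x ∈ Disc.differentSet A B) :
    x ^ 2 ∈ Disc.noetherDifferent A B := by
  choose c hc using fun j => hx (b.coord j)
  unfold Disc.noetherDifferent
  rw [Ideal.mem_map_iff_of_surjective _ lmul_surjective]
  refine ⟨tel b x c, ?_, lmul_tel b x hx c hc⟩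
  have h1 : RingHom.ker (Algebra.TensorProduct.lmul' (S := B) A) =
      Submodule.span (B ⊗[A] B)
        (Set.range fun s : B => (1 : B) ⊗ₜ[A] s - s ⊗ₜ[A] (1 : B)) :=
    (KaehlerDifferential.span_range_eq_ideal A B).symm
  rw [h1, Submodule.mem_annihilator_span]
  rintro ⟨_, s, rfl⟩
  change tel b x c * ((1 : B) ⊗ₜ[A] s - s ⊗ₜ[A] (1 : B)) = 0
  rw [mul_sub, tel_mul_right b x hx c hc s, sub_self]

/-- **the two differents have the same prime divisors** -/
theorem different_subset_iff [Module.Free A B] [Module.Finite A B] (q : Ideal B) [q.IsPrime] :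
    Disc.differentSet A B ⊆ q ↔ Disc.noetherDifferent A B ≤ q := by
  classical
  have : Nontrivial B := by
    refine ⟨⟨0, 1, fun h => ?_⟩⟩
    exact (Ideal.IsPrime.ne_top' (I := q)) ((Ideal.eq_top_iff_one q).2 (h ▸ q.zero_mem))
  have : Nontrivial A := (algebraMap A B).domain_nontrivial
  let b := Module.Free.chooseBasis A B
  constructor
  · intro h x hx
    exact h (noether_le_different b x hx)
  · intro h x hx
    have h1 := h (sq_mem_noether b x hx)
    exact Ideal.IsPrime.mem_of_pow_mem inferInstance 2 h1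

end Groth.Agent.Lead.DiffCmp
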