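import Mathlib
import Groth.Agent.Lib.Lead.ODiv1
import Groth.Agent.Lib.Lead.PBQc
import Groth.Agent.Lib.Helper1.CocycleIso
import Groth.Agent.Lib.Helper1.PullGen
import Groth.Agent.Lib.Helper1.PullSec

set_option autoImplicit false
set_option backward.isDefEq.respectTransparency.types false
set_option synthInstance.maxHeartbeats 400000
set_option linter.style.haveILetI false
set_option linter.unusedSectionVars false
universe u
open CategoryTheory CategoryTheory.Limits AlgebraicGeometry TopologicalSpace Opposite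

namespace Groth.Agent.Lead.DualPB

open Groth.Agent.Helper1 Groth.Agent.Helper1.QcCech Groth.Agent.Lead.RH Groth.Agent.Helper1.LGen
open Groth.Agent.Helper1.CocycleIso Groth.Agent.Lead.ODiv

section Basic

variable {X : Scheme.{u}} {F : X.Modules}

/-- the value of a restricted dual section on a restricted section -/
theorem app_res_res {U V : X.Opens} (h : V ≤ U) (a : Γ(RefHull.dual F, U)) (m : Γ(F, U)) :
    (show Γ(X, V) from app (res (RefHull.dual F) h a) le_rfl (res F h m)) =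
      resR h (show Γ(X, U) from app a le_rfl m) := by
  have h1 : app (res (RefHull.dual F) h a) le_rfl (res F h m) = app a h (res F h m) :=
    app_map a (homOfLE h) le_rfl (res F h m)
  have h2 := app_res a le_rfl h m
  change _ = app a h (res F h m) at h2
  rw [h1, ← h2]
  rfl

/-- value of a scaled dual section -/
theorem app_smul_self {U : X.Opens} (r : Γ(X, U)) (a : Γ(RefHull.dual F, U)) (m : Γ(F, U)) :
    (show Γ(X, U) from app (r • a) le_rfl m) = r * (show Γ(X, U) from app a le_rfl m) := by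
  rw [app_smul_left]
  have : X.presheaf.map (homOfLE (le_refl U)).op r = r :=
    ConcreteCategory.congr_hom (X.presheaf.map_id _) r
  rw [this]
  rfl

/-- value on a scaled section -/
theorem app_self_smul {U : X.Opens} (r : Γ(X, U)) (a : Γ(RefHull.dual F, U)) (m : Γ(F, U)) :
    (show Γ(X, U) from app a le_rfl (r • m)) = r * (show Γ(X, U) from app a le_rfl m) := by
  rw [app_smul]
  rfl

/-- the transition function of two pairs of dual generators -/
theorem dual_trans {U₁ U₂ : X.Opens} {n₁ : Γ(F, U₁)} {n₂ : Γ(F, U₂)}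
    {a₁ : Γ(RefHull.dual F, U₁)} {a₂ : Γ(RefHull.dual F, U₂)}
    (hn₂ : IsGen F U₂ n₂) (ha₁ : IsGen (RefHull.dual F) U₁ a₁)
    (h1 : app a₁ le_rfl n₁ = (1 : Γ(X, U₁)))
    (h2 : app a₂ le_rfl n₂ = (1 : Γ(X, U₂))) :
    ∃ c : Γ(X, U₁ ⊓ U₂), res F inf_le_left n₁ = c • res F inf_le_right n₂ ∧
      res (RefHull.dual F) inf_le_right a₂ = c • res (RefHull.dual F) inf_le_left a₁ := by
  obtain ⟨c, hc⟩ := (hn₂.res (inf_le_right : U₁ ⊓ U₂ ≤ U₂)).exists_coeff (res F inf_le_left n₁)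
  obtain ⟨d, hd⟩ := (ha₁.res (inf_le_left : U₁ ⊓ U₂ ≤ U₁)).exists_coeff
    (res (RefHull.dual F) inf_le_right a₂)
  have e1 : (show Γ(X, U₁ ⊓ U₂) from app (res (RefHull.dual F) inf_le_right a₂) le_rfl
      (res F inf_le_left n₁)) = c := by
    rw [← hc, app_self_smul, app_res_res, h2, map_one, mul_one]
  have e2 : (show Γ(X, U₁ ⊓ U₂) from app (res (RefHull.dual F) inf_le_right a₂) le_rfl
      (res F inf_le_left n₁)) = d := by
    rw [← hd, app_smul_self, app_res_res, h1, map_one, mul_one]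
  refine ⟨c, hc.symm, ?_⟩
  rw [← hd, ← e1, e2]

/-- the compatibility of the comparison data -/
theorem compat_aux {Q : X.Modules} {W₁ W₂ : X.Opens} {ν₁ : Γ(F, W₁)} {ν₂ : Γ(F, W₂)}
    {α₁ : Γ(RefHull.dual F, W₁)} {α₂ : Γ(RefHull.dual F, W₂)} {b₁ : Γ(Q, W₁)} {b₂ : Γ(Q, W₂)}
    (c : Γ(X, W₁ ⊓ W₂)) (hν : res F inf_le_left ν₁ = c • res F inf_le_right ν₂)
    (hb : res Q inf_le_right b₂ = c • res Q inf_le_left b₁)
    (h1 : app α₁ le_rfl ν₁ = (1 : Γ(X, W₁)))
    (h2 : app α₂ le_rfl ν₂ = (1 : Γ(X, W₂)))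
    (v : Γ(X, W₁ ⊓ W₂))
    (hv : res (RefHull.dual F) inf_le_left α₁ = v • res (RefHull.dual F) inf_le_right α₂) :
    res Q inf_le_left b₁ = v • res Q inf_le_right b₂ := by
  have e : v * c = 1 := by
    have h := app_res_res (inf_le_left : W₁ ⊓ W₂ ≤ W₁) α₁ ν₁
    rw [h1, map_one, hv, hν, app_smul_self, app_self_smul, app_res_res, h2, map_one, mul_one] at h
    exact h
  rw [hb, ← mul_smul, e, one_smul]

end Basic

section Main

open Groth.Agent.Helper1.PullSec Groth.Agent.Helper1.PullGen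

variable {X Y : Scheme.{u}} (f : Y ⟶ X)

/-- pulled back sections transform by the pulled back transition function -/
theorem σ_trans (M : X.Modules) {U₁ U₂ U' : X.Opens} (m₁ : Γ(M, U₁)) (m₂ : Γ(M, U₂))
    (h₁ : U' ≤ U₁) (h₂ : U' ≤ U₂) (c₀ : Γ(X, U'))
    (h : res M h₁ m₁ = c₀ • res M h₂ m₂) {V : Y.Opens} (hV : V ≤ f ⁻¹ᵁ U')
    (k₁ : V ≤ f ⁻¹ᵁ U₁) (k₂ : V ≤ f ⁻¹ᵁ U₂) :
    res ((Scheme.Modules.pullback f).obj M) k₁ (σ f M U₁ m₁) =
      resR hV ((f.app U').hom c₀) • res ((Scheme.Modules.pullback f).obj M) k₂ (σ f M U₂ m₂) := by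
  have e1 : res ((Scheme.Modules.pullback f).obj M) k₁ (σ f M U₁ m₁) =
      res ((Scheme.Modules.pullback f).obj M) hV (σ f M U' (res M h₁ m₁)) := by
    rw [← σ_res f M h₁ m₁, res_res]
  have e2 : res ((Scheme.Modules.pullback f).obj M) k₂ (σ f M U₂ m₂) =
      res ((Scheme.Modules.pullback f).obj M) hV (σ f M U' (res M h₂ m₂)) := by
    rw [← σ_res f M h₂ m₂, res_res]
  rw [e1, e2, h, σ_smul, res_smul]

variable (N : X.Modules)

/-- the index type of the comparison family -/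
structure Idx where
  U : X.Opens
  n : Γ(N, U)
  a : Γ(RefHull.dual N, U)
  hn : IsGen N U n
  ha : IsGen (RefHull.dual N) U a
  han : app a le_rfl n = (1 : Γ(X, U))
  W : Y.Opens
  hW : W ≤ f ⁻¹ᵁ U
  α : Γ(RefHull.dual ((Scheme.Modules.pullback f).obj N), W)
  hα : IsGen (RefHull.dual ((Scheme.Modules.pullback f).obj N)) W α
  hαν : app α le_rfl (res ((Scheme.Modules.pullback f).obj N) hW (σ f N U n)) = (1 : Γ(Y, W))

/-- the comparison family -/
noncomputable def fam (hcov : ∀ y : Y, ∃ i : Idx f N, y ∈ i.W) :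
    GenFam (RefHull.dual ((Scheme.Modules.pullback f).obj N))
      ((Scheme.Modules.pullback f).obj (RefHull.dual N)) where
  ι := Idx f N
  W i := i.W
  a i := i.α
  b i := res ((Scheme.Modules.pullback f).obj (RefHull.dual N)) i.hW (σ f (RefHull.dual N) i.U i.a)
  ha i := i.hα
  hb i := (isGen_σ f i.ha).res i.hW
  cov := hcov
  compat := by
    intro i j v hv
    obtain ⟨c₀, hc1, hc2⟩ := dual_trans (n₁ := i.n) (a₂ := j.a) j.hn i.ha i.han j.han
    have hV : i.W ⊓ j.W ≤ f ⁻¹ᵁ (i.U ⊓ j.U) := fun x hx => ⟨i.hW hx.1, j.hW hx.2⟩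
    refine compat_aux (F := (Scheme.Modules.pullback f).obj N) (ν₁ := _) (ν₂ := _)
      (resR hV ((f.app (i.U ⊓ j.U)).hom c₀)) ?_ ?_ i.hαν j.hαν v hv
    · rw [res_res, res_res]
      exact σ_trans f N i.n j.n inf_le_left inf_le_right c₀ hc1 hV _ _
    · rw [res_res, res_res]
      exact σ_trans f (RefHull.dual N) j.a i.a inf_le_right inf_le_left c₀ hc2 hV _ _

/-- **the dual of the pullback of a locally free rank one quasi-coherent module is the pullback
of the dual** -/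
theorem nonempty_dual_pullback_iso [N.IsQuasicoherent]
    (hN : ∀ x : X, ∃ (U : X.Opens) (n : Γ(N, U)), IsAffineOpen U ∧ x ∈ U ∧ IsGen N U n) :
    Nonempty (RefHull.dual ((Scheme.Modules.pullback f).obj N) ≅
      (Scheme.Modules.pullback f).obj (RefHull.dual N)) := by
  haveI : ((Scheme.Modules.pullback f).obj N).IsQuasicoherent :=
    Groth.Agent.Lead.PB.isQuasicoherent_pullback f N
  refine ⟨(fam f N ?_).iso⟩
  intro y
  obtain ⟨U, n, hU, hxU, hn⟩ := hN (f y)
  obtain ⟨a, ha, han⟩ := exists_dual_gen hU n hn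
  obtain ⟨_, ⟨W, hWaff, rfl⟩, hyW, hle⟩ :=
    Y.isBasis_affineOpens.exists_subset_of_mem_open (show y ∈ f ⁻¹ᵁ U from hxU) (f ⁻¹ᵁ U).2
  have hW : W ≤ f ⁻¹ᵁ U := hle
  have hν : IsGen ((Scheme.Modules.pullback f).obj N) W
      (res ((Scheme.Modules.pullback f).obj N) hW (σ f N U n)) := (isGen_σ f hn).res hW
  obtain ⟨α, hα, hαν⟩ := exists_dual_gen hWaff _ hν
  exact ⟨⟨U, n, a, hn, ha, han, W, hW, α, hα, hαν⟩, hyW⟩

end Main

end Groth.Agent.Lead.DualPB
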