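import Mathlib
import Groth.Prelude.Def_AlgSt3
import Groth.Agent.Lib.Helper2.AlgSt.FppfLift

/-!
# Fibre powers of a chart over a stack (lead)

The `I`-fold 2-fibre power of `a : (Sch/V) ⟶ 𝒵` over `𝒵`, as a category over `(Sch/S)`:
objects are `(z, (A i)_i, (θ i : a (A i) ≅ z)_i)`.
-/

set_option backward.isDefEq.respectTransparency.types false
set_option autoImplicit false
set_option synthInstance.maxHeartbeats 400000
set_option maxHeartbeats 1000000
set_option linter.style.haveILetI false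
set_option linter.unusedSectionVars false
set_option linter.unusedSimpArgs false

open CategoryTheory CategoryTheory.Limits AlgebraicGeometry Opposite
open Groth.Agent.Helper2 Groth.Agent.Helper2.FibCatLib Groth.Agent.Helper2.StkLib
open Groth.Agent.Helper2.AlgStLib

namespace Groth.Agent.Lead.ET
universe u
variable {S : Scheme.{u}} {𝒵 : AlgSt.Cat S} {V : Over S}

/-- Objects of the fibre power. -/
structure WObj (a : FibCat.overCat V ⥤ᵇ 𝒵) (I : Type u) where
  z : 𝒵.obj
  A : I → (FibCat.overCat V).obj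
  θ : ∀ i, a.obj (A i) ≅ z
  hθ : ∀ i, 𝒵.p.IsHomLift (𝟙 (𝒵.p.obj z)) (θ i).hom

variable {a : FibCat.overCat V ⥤ᵇ 𝒵} {I : Type u}

/-- Morphisms of the fibre power. -/
@[ext]
structure WHom (X Y : WObj a I) where
  φ : X.z ⟶ Y.z
  ψ : ∀ i, X.A i ⟶ Y.A i
  w : ∀ i, a.map (ψ i) ≫ (Y.θ i).hom = (X.θ i).hom ≫ φ

instance : Category (WObj a I) where
  Hom := WHom
  id X := ⟨𝟙 _, fun i => 𝟙 _, fun i => by
    rw [a.toFunctor.map_id, Category.id_comp, Category.comp_id]⟩
  comp f g := ⟨f.φ ≫ g.φ, fun i => f.ψ i ≫ g.ψ i, fun i => by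
    rw [a.toFunctor.map_comp, Category.assoc, g.w, ← Category.assoc, f.w,
      Category.assoc]⟩
  id_comp f := by
    apply WHom.ext
    · exact Category.id_comp _
    · funext i
      exact Category.id_comp _
  comp_id f := by
    apply WHom.ext
    · exact Category.comp_id _
    · funext i
      exact Category.comp_id _
  assoc f g h := by
    apply WHom.ext
    · exact Category.assoc _ _ _
    · funext i
      exact Category.assoc _ _ _

@[simp] theorem id_φ (X : WObj a I) : (𝟙 X : X ⟶ X).φ = 𝟙 X.z := rfl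
@[simp] theorem id_ψ (X : WObj a I) (i : I) : (𝟙 X : X ⟶ X).ψ i = 𝟙 (X.A i) := rfl
@[simp] theorem comp_φ {X Y Z : WObj a I} (f : X ⟶ Y) (g : Y ⟶ Z) : (f ≫ g).φ = f.φ ≫ g.φ := rfl
@[simp] theorem comp_ψ {X Y Z : WObj a I} (f : X ⟶ Y) (g : Y ⟶ Z) (i : I) :
    (f ≫ g).ψ i = f.ψ i ≫ g.ψ i := rfl

theorem hom_ext' {X Y : WObj a I} (f g : X ⟶ Y) (h1 : f.φ = g.φ) (h2 : ∀ i, f.ψ i = g.ψ i) :
    f = g :=
  WHom.ext h1 (funext h2)

variable (a I)

/-- The fibre power as a category over `(Sch/S)`. -/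
def W : AlgSt.Cat S where
  obj := WObj a I
  p :=
    { obj := fun X => 𝒵.p.obj X.z
      map := fun {X Y} (f : X ⟶ Y) => 𝒵.p.map (WHom.φ f)
      map_id := fun X => 𝒵.p.map_id _
      map_comp := fun f g => 𝒵.p.map_comp _ _ }

/-- The projection to `𝒵`. -/
def prz : W a I ⥤ᵇ 𝒵 where
  toFunctor :=
    { obj := fun X => X.z
      map := fun {X Y} (f : X ⟶ Y) => WHom.φ f
      map_id := fun _ => rfl
      map_comp := fun _ _ => rfl }
  w := rfl


variable {a I}

theorem dom_θ (X : WObj a I) (i : I) : 𝒵.p.obj (a.obj (X.A i)) = 𝒵.p.obj X.z :=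
  @IsHomLift.domain_eq _ _ _ _ 𝒵.p _ _ _ _ (𝟙 (𝒵.p.obj X.z)) (X.θ i).hom (X.hθ i)

theorem hA (X : WObj a I) (i : I) : (X.A i).left = 𝒵.p.obj X.z :=
  (a.w_obj (X.A i)).symm.trans (dom_θ X i)

theorem p_θ (X : WObj a I) (i : I) :
    𝒵.p.map (X.θ i).hom = eqToHom (dom_θ X i) := by
  have h := @IsHomLift.fac' _ _ _ _ 𝒵.p _ _ _ _ (𝟙 (𝒵.p.obj X.z)) (X.θ i).hom (X.hθ i)
  rw [h, Category.id_comp, eqToHom_trans]

theorem p_aψ {A B : (FibCat.overCat V).obj} (ψ : A ⟶ B) :
    𝒵.p.map (a.map ψ) = eqToHom (a.w_obj A) ≫ ψ.left ≫ eqToHom (a.w_obj B).symm :=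
  Functor.congr_hom a.w ψ

theorem ψ_left {X Y : WObj a I} (f : X ⟶ Y) (i : I) :
    (f.ψ i).left = eqToHom (hA X i) ≫ 𝒵.p.map f.φ ≫ eqToHom (hA Y i).symm := by
  have h1 := congrArg (fun m => 𝒵.p.map m) (f.w i)
  simp only [CategoryTheory.Functor.map_comp] at h1
  rw [p_θ, p_θ, p_aψ] at h1
  have h3 : (f.ψ i).left ≫ eqToHom (hA Y i) = eqToHom (hA X i) ≫ 𝒵.p.map f.φ := by
    have h4 := congrArg (fun m => eqToHom (a.w_obj (X.A i)).symm ≫ m) h1
    simp only [Category.assoc, eqToHom_trans, eqToHom_trans_assoc, eqToHom_refl,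
      Category.id_comp] at h4
    exact h4
  rw [← Category.assoc, ← h3, Category.assoc, eqToHom_trans, eqToHom_refl, Category.comp_id]

variable (a I)

/-- The projections to `(Sch/V)`. -/
def pr (i : I) : W a I ⥤ᵇ FibCat.overCat V where
  toFunctor :=
    { obj := fun X => X.A i
      map := fun {X Y} (f : X ⟶ Y) => WHom.ψ f i
      map_id := fun _ => rfl
      map_comp := fun _ _ => rfl }
  w := by
    refine CategoryTheory.Functor.ext (fun X => hA X i) ?_
    intro X Y f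
    exact ψ_left f i


/-- Reindexing of the fibre power along a map of index sets. -/
def reidx {J : Type u} (σ : J → I) : W a I ⥤ᵇ W a J where
  toFunctor :=
    { obj := fun X => ⟨X.z, fun j => X.A (σ j), fun j => X.θ (σ j), fun j => X.hθ (σ j)⟩
      map := fun {X Y} (f : X ⟶ Y) =>
        ⟨WHom.φ (X := X) (Y := Y) f, fun j => WHom.ψ (X := X) (Y := Y) f (σ j),
          fun j => WHom.w (X := X) (Y := Y) f (σ j)⟩
      map_id := fun _ => rfl
      map_comp := fun _ _ => rfl }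
  w := rfl

theorem reidx_prz {J : Type u} (σ : J → I) :
    BasedFunctor.comp (reidx a I σ) (prz a J) = prz a I := rfl

theorem reidx_pr {J : Type u} (σ : J → I) (j : J) :
    BasedFunctor.comp (reidx a I σ) (pr a J j) = pr a I (σ j) := rfl

theorem reidx_comp {J L : Type u} (σ : J → I) (τ : L → J) :
    BasedFunctor.comp (reidx a I σ) (reidx a J τ) = reidx a I (σ ∘ τ) := rfl

theorem reidx_id : reidx a I (fun i => i) = BasedFunctor.id (W a I) := rfl

/-- The structure 2-isomorphisms of the fibre power. -/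
def θIso (i : I) : BasedFunctor.comp (pr a I i) a ≅ prz a I :=
  BasedNatIso.mkNatIso
    (NatIso.ofComponents (fun X => X.θ i) (fun {X Y} (f : X ⟶ Y) => WHom.w f i))
    (fun X => X.hθ i)

variable {a I}

/-- The functor into the fibre power determined by a functor to `𝒵`, a family of functors to
`(Sch/V)` and 2-isomorphisms. -/
def wLift {𝒳 : AlgSt.Cat S} (ζ : 𝒳 ⥤ᵇ 𝒵) (b : I → (𝒳 ⥤ᵇ FibCat.overCat V))
    (ε : ∀ i, BasedFunctor.comp (b i) a ≅ ζ) : 𝒳 ⥤ᵇ W a I where
  toFunctor :=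
    { obj := fun x =>
        ⟨ζ.obj x, fun i => (b i).obj x,
          fun i => ((BasedNatTrans.forgetful _ _).mapIso (ε i)).app x,
          fun i => BasedNatTrans.isHomLift (ε i).hom (ζ.w_obj x).symm⟩
      map := fun {x y} f =>
        ⟨ζ.map f, fun i => (b i).map f, fun i => (ε i).hom.toNatTrans.naturality f⟩
      map_id := fun x => by
        apply hom_ext'
        · exact ζ.toFunctor.map_id x
        · intro i
          exact (b i).toFunctor.map_id x
      map_comp := fun f g => by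
        apply hom_ext'
        · exact ζ.toFunctor.map_comp f g
        · intro i
          exact (b i).toFunctor.map_comp f g }
  w := ζ.w

theorem wLift_prz {𝒳 : AlgSt.Cat S} (ζ : 𝒳 ⥤ᵇ 𝒵) (b : I → (𝒳 ⥤ᵇ FibCat.overCat V))
    (ε : ∀ i, BasedFunctor.comp (b i) a ≅ ζ) :
    BasedFunctor.comp (wLift ζ b ε) (prz a I) = ζ := rfl

theorem wLift_pr {𝒳 : AlgSt.Cat S} (ζ : 𝒳 ⥤ᵇ 𝒵) (b : I → (𝒳 ⥤ᵇ FibCat.overCat V))
    (ε : ∀ i, BasedFunctor.comp (b i) a ≅ ζ) (i : I) :
    BasedFunctor.comp (wLift ζ b ε) (pr a I i) = b i := rfl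

/-- Isomorphisms in the fibre power. -/
def isoMk {X Y : WObj a I} (φ : X.z ≅ Y.z) (ψ : ∀ i, X.A i ≅ Y.A i)
    (w : ∀ i, a.map (ψ i).hom ≫ (Y.θ i).hom = (X.θ i).hom ≫ φ.hom) : X ≅ Y where
  hom := ⟨φ.hom, fun i => (ψ i).hom, w⟩
  inv := ⟨φ.inv, fun i => (ψ i).inv, fun i => by
    have h := w i
    rw [← cancel_epi (a.map (ψ i).hom), ← Category.assoc, ← a.toFunctor.map_comp,
      Iso.hom_inv_id, a.toFunctor.map_id, Category.id_comp, ← Category.assoc, h,
      Category.assoc, Iso.hom_inv_id, Category.comp_id]⟩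
  hom_inv_id := by
    apply hom_ext'
    · exact φ.hom_inv_id
    · intro i
      exact (ψ i).hom_inv_id
  inv_hom_id := by
    apply hom_ext'
    · exact φ.inv_hom_id
    · intro i
      exact (ψ i).inv_hom_id

/-- Natural isomorphisms of functors into the fibre power. -/
def natIsoMk {𝒳 : AlgSt.Cat S} (G G' : 𝒳 ⥤ᵇ W a I)
    (α : BasedFunctor.comp G (prz a I) ≅ BasedFunctor.comp G' (prz a I))
    (β : ∀ i, BasedFunctor.comp G (pr a I i) ≅ BasedFunctor.comp G' (pr a I i))
    (h : ∀ x i, a.map ((β i).hom.toNatTrans.app x) ≫ ((G'.obj x).θ i).hom =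
      ((G.obj x).θ i).hom ≫ α.hom.toNatTrans.app x) : G ≅ G' :=
  BasedNatIso.mkNatIso
    (NatIso.ofComponents
      (fun x => isoMk (((BasedNatTrans.forgetful _ _).mapIso α).app x)
        (fun i => ((BasedNatTrans.forgetful _ _).mapIso (β i)).app x) (fun i => h x i))
      (fun {x y} f => by
        apply hom_ext'
        · exact α.hom.toNatTrans.naturality f
        · intro i
          exact (β i).hom.toNatTrans.naturality f))
    (fun x => by
      have h1 : 𝒵.p.IsHomLift (𝟙 (𝒳.p.obj x)) (α.hom.toNatTrans.app x) :=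
        α.hom.isHomLift' x
      exact (BasedFunctor.isHomLift_iff (prz a I) _ _).1 h1)

end Groth.Agent.Lead.ET
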