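import Mathlib
import Groth.Prelude.Def_AlgSt3
import Groth.Agent.Lib.Lead.ETa
import Groth.Agent.Lib.Helper2.AlgSt.FppfLift
import Groth.Agent.Lib.Helper2.AlgSt.LocQ.Crux
import Groth.Agent.Lib.Helper2.AlgSt.Cancel
import Groth.Agent.Lib.Helper2.AlgSt.RelDiag
import Groth.Agent.Lib.Helper2.AlgSt.RepDiagApps3
import Groth.Agent.Lib.Helper2.FibProd

/-!
# Fibre powers of a chart over a stack: representability (lead)
-/

set_option backward.isDefEq.respectTransparency.types false
set_option autoImplicit false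
set_option synthInstance.maxHeartbeats 400000
set_option maxHeartbeats 1000000
set_option linter.style.haveILetI false
set_option linter.unusedSectionVars false
set_option linter.unusedSimpArgs false

open CategoryTheory CategoryTheory.Limits AlgebraicGeometry Opposite
open Groth.Agent.Helper2 Groth.Agent.Helper2.FibCatLib Groth.Agent.Helper2.StkLib
open Groth.Agent.Helper2.AlgStLib Groth.Agent.Helper2.AlgSpBasic Groth.Agent.Helper2.EtaleLocal

namespace Groth.Agent.Lead.ET
universe u
variable {S : Scheme.{u}} {𝒵 : AlgSt.Cat S} {V : Over S}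
variable (a : FibCat.overCat V ⥤ᵇ 𝒵) (I : Type u)

/-- The comparison functor `W (Option I) ⟶ (Sch/V) ×_𝒵 W I`. -/
def Φ : W a (Option I) ⥤ᵇ FibCat.fp a (prz a I) :=
  FibCat.fpLift (pr a (Option I) none) (reidx a (Option I) some) (θIso a (Option I) none)

instance Φ_faithful : (Φ a I).toFunctor.Faithful where
  map_injective {X Y} f g h := by
    have h1 : f.ψ none = g.ψ none := congrArg (fun k => k.hom.fst) h
    have h2 : f.φ = g.φ := congrArg (fun k => k.hom.snd.φ) h
    have h3 : (fun i => f.ψ (some i)) = (fun i => g.ψ (some i)) :=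
      congrArg (fun k => k.hom.snd.ψ) h
    apply hom_ext'
    · exact h2
    · intro o
      cases o with
      | none => exact h1
      | some i => exact congrFun h3 i

instance Φ_full : (Φ a I).toFunctor.Full where
  map_surjective {X Y} m := by
    refine ⟨⟨m.hom.snd.φ, fun o => Option.rec (motive := fun o => X.A o ⟶ Y.A o) m.hom.fst
      (fun i => m.hom.snd.ψ i) o, ?_⟩, ?_⟩
    · intro o
      cases o with
      | none => exact m.hom.w
      | some i => exact m.hom.snd.w i
    · apply ObjectProperty.hom_ext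
      apply CategoricalPullback.hom_ext
      · rfl
      · rfl

/-- Extension of an object by one more chart. -/
def extObj (A₀ : (FibCat.overCat V).obj) (X' : WObj a I) (ι : a.obj A₀ ≅ X'.z)
    (hι : 𝒵.p.IsHomLift (𝟙 (𝒵.p.obj X'.z)) ι.hom) : WObj a (Option I) where
  z := X'.z
  A := fun o => Option.rec (motive := fun _ => (FibCat.overCat V).obj) A₀ X'.A o
  θ := fun o => Option.rec
    (motive := fun o => a.obj (Option.rec (motive := fun _ => (FibCat.overCat V).obj) A₀ X'.A o) ≅
      X'.z) ι X'.θ o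
  hθ := fun o => by
    cases o with
    | none => exact hι
    | some i => exact X'.hθ i

theorem Φ_exists_iso (η : (FibCat.fp a (prz a I)).obj) :
    ∃ (ξ : (W a (Option I)).obj) (e : (Φ a I).toFunctor.obj ξ ≅ η),
      (FibCat.fp a (prz a I)).p.IsHomLift (𝟙 ((FibCat.fp a (prz a I)).p.obj η)) e.hom := by
  have hη : 𝒵.p.IsHomLift (𝟙 ((FibCat.overCat V).p.obj η.obj.fst)) η.obj.iso.hom := η.property
  have hcod : (FibCat.overCat V).p.obj η.obj.fst = 𝒵.p.obj η.obj.snd.z :=
    (IsHomLift.codomain_eq 𝒵.p (𝟙 ((FibCat.overCat V).p.obj η.obj.fst)) η.obj.iso.hom).symm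
  have hι : 𝒵.p.IsHomLift (𝟙 (𝒵.p.obj η.obj.snd.z)) η.obj.iso.hom := by
    rw [← hcod]
    exact hη
  refine ⟨extObj a I η.obj.fst η.obj.snd η.obj.iso hι, Iso.refl _, ?_⟩
  exact IsHomLift.id rfl

theorem Φ_isEquivOver : FibCat.IsEquivOver (Φ a I) :=
  isEquivOver_of_fullyFaithful_of_exists_iso _ (Φ_exists_iso a I)


instance prz_empty_faithful : (prz a PEmpty.{u + 1}).toFunctor.Faithful where
  map_injective {X Y} f g h := by
    apply hom_ext'
    · exact h
    · intro o
      exact o.elim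

instance prz_empty_full : (prz a PEmpty.{u + 1}).toFunctor.Full where
  map_surjective {X Y} m := ⟨⟨m, fun o => o.elim, fun o => o.elim⟩, rfl⟩

theorem prz_empty_isEquivOver : FibCat.IsEquivOver (prz a PEmpty.{u + 1}) := by
  apply isEquivOver_of_fullyFaithful_of_exists_iso
  intro η
  exact ⟨⟨η, fun o => o.elim, fun o => o.elim, fun o => o.elim⟩, Iso.refl _, IsHomLift.id rfl⟩

theorem reidx_isEquivOver {J : Type u} (e : J ≃ I) : FibCat.IsEquivOver (reidx a I e) := by
  refine ⟨reidx a J e.symm, ⟨eqToIso ?_⟩, ⟨eqToIso ?_⟩⟩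
  · rw [reidx_comp]
    have h : (⇑e ∘ ⇑e.symm) = fun i => i := funext e.apply_symm_apply
    rw [h]
    rfl
  · rw [reidx_comp]
    have h : (⇑e.symm ∘ ⇑e) = fun i => i := funext e.symm_apply_apply
    rw [h]
    rfl

theorem repByAlgSpWith_id (P : MorphismProperty (AlgSp.Sp S))
    (hP : ∀ U : Over S, P (𝟙 ((AlgSp.yon S).obj U))) (𝒴 : AlgSt.Cat S) :
    AlgSt.RepByAlgSpWith P (BasedFunctor.id 𝒴) := by
  intro U y
  refine ⟨⟨(AlgSp.yon S).obj U, AlgSp.IsAlgSpace.yon_obj U⟩,
    BasedFunctor.comp (AlgSt.toOverCat U) (FpId.graphE y),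
    ReprInv.isEquivOver_comp (toOverCat_isEquivOver U) (FpId.graphE_isEquivOver y), ?_⟩
  have h1 : BasedFunctor.comp (BasedFunctor.comp (AlgSt.toOverCat U) (FpId.graphE y))
      (FibCat.fpFst y (BasedFunctor.id 𝒴)) =
      BasedFunctor.comp (AlgSt.ofSpMap (𝟙 ((AlgSp.yon S).obj U))) (AlgSt.toOverCat U) := rfl
  rw [h1, spMapOfOver_ofPshMap_toOverCat]
  exact hP U


theorem locP_smooth_id (U : Over S) :
    AlgSp.LocP @Smooth (𝟙 ((AlgSp.yon S).obj U)) :=
  Groth.Agent.Helper2.AlgSpBasic.locP_id @Smooth (AlgSp.IsAlgSpace.yon_obj U).diag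

/-- **Fibre powers of a smooth chart.** They are fibred in groupoids, smooth over the stack, and
(for a nonempty index set) algebraic spaces. -/
theorem main (h𝒵 : FibCat.IsFibGrpd 𝒵.p)
    (ha : AlgSt.RepByAlgSpWith (AlgSp.LocP @Smooth) a) (I : Type u) [Finite I] :
    FibCat.IsFibGrpd (W a I).p ∧ AlgSt.RepByAlgSpWith (AlgSp.LocP @Smooth) (prz a I) ∧
      (Nonempty I → AlgSt.RepByAlgSp (W a I)) := by
  induction I using Finite.induction_empty_option with
  | of_equiv e ih =>
    rename_i α β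
    have hE : FibCat.IsEquivOver (reidx a α e.symm) := reidx_isEquivOver a α e.symm
    refine ⟨(isFibGrpd_iff_of_isEquivOver _ hE).1 ih.1, ?_, fun hne => ?_⟩
    · exact (LocQ.repByAlgSpWith_equiv_comp _ (reidx a α e.symm) hE (prz a β)).1 ih.2.1
    · haveI : Nonempty α := hne.map e.symm
      exact repByAlgSp_of_isEquivOver _ hE (ih.2.2 inferInstance)
  | h_empty =>
    have hE := prz_empty_isEquivOver a
    refine ⟨(isFibGrpd_iff_of_isEquivOver _ hE).2 h𝒵, ?_, fun hne => (hne.some).elim⟩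
    exact (LocQ.repByAlgSpWith_equiv_comp _ (prz a PEmpty.{u + 1}) hE (BasedFunctor.id 𝒵)).2
      (repByAlgSpWith_id _ locP_smooth_id 𝒵)
  | h_option ih =>
    rename_i α _
    have hE := Φ_isEquivOver a α
    have hfp : FibCat.IsFibGrpd (FibCat.fp a (prz a α)).p :=
      isFibGrpd_fp a (prz a α) (isFibGrpd_overCat V) ih.1 h𝒵
    refine ⟨(isFibGrpd_iff_of_isEquivOver _ hE).2 hfp, ?_, fun _ => ?_⟩
    · have h1 : AlgSt.RepByAlgSpWith (AlgSp.LocP @Smooth) (FibCat.fpSnd a (prz a α)) :=
        repByAlgSpWith_fpSnd _ a (prz a α) ha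
      have h2 := repByAlgSpWith_comp hfp ih.1 (AlgSp.LocP @Smooth) (stableBC_locP _)
        (stableComp_locP _) isLocalOnBase_fppf_locP_smooth _ _ h1 ih.2.1
      exact (LocQ.repByAlgSpWith_equiv_comp _ (Φ a α) hE _).2 h2
    · obtain ⟨G, hG, -, -⟩ := isEquivOver_inverse hE
      refine repByAlgSp_of_isEquivOver G hG ?_
      exact repByAlgSp_fp_of_repByAlgSp ih.1 h𝒵 (prz a α) a
        (repByAlgSp1_of_repByAlgSpWith _ ih.2.1) (repByAlgSp_overCat V)

end Groth.Agent.Lead.ET
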