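import Mathlib
import Groth.Prelude.Def_AlgSt3
import Groth.Agent.Lib.Helper2.AlgSt.FppfLift
import Groth.Agent.Lib.Helper2.AlgSt.Setoid
import Groth.Agent.Lib.Helper2.AlgSt.LocalBase
import Groth.Agent.Lib.Helper2.AlgSt.Dict

/-!
# Points of a category representable by an algebraic space (lead)

For a category `𝒲` over `(Sch/S)` with an equivalence `e : ofSp F ≃ 𝒲`, functors `(Sch/T) ⟶ 𝒲`
are the same as maps of sheaves `h_T ⟶ F`, and endofunctors of `𝒲` induce endomorphisms of `F`.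
-/

set_option backward.isDefEq.respectTransparency.types false
set_option autoImplicit false
set_option synthInstance.maxHeartbeats 400000
set_option maxHeartbeats 1000000
set_option linter.style.haveILetI false
set_option linter.unusedSectionVars false
set_option linter.unusedSimpArgs false

open CategoryTheory CategoryTheory.Limits AlgebraicGeometry Opposite
open Groth.Agent.Helper2 Groth.Agent.Helper2.FibCatLib Groth.Agent.Helper2.StkLib
open Groth.Agent.Helper2.AlgStLib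

namespace Groth.Agent.Lead.ET
universe u
variable {S : Scheme.{u}}

section Thin

variable {C : Type*} [Category C] {𝒳 : BasedCategory C}

/-- In a category fibred in setoids, morphisms over the same base morphism coincide. -/
theorem eq_of_isFibSetoid (h : FibCat.IsFibSetoid 𝒳.p) {R T : C} (f : R ⟶ T) {a b : 𝒳.obj}
    (φ ψ : a ⟶ b) [𝒳.p.IsHomLift f φ] [𝒳.p.IsHomLift f ψ] : φ = ψ := by
  obtain ⟨χ, ⟨hχ1, hχ2⟩, -⟩ := IsFibGrpd.existsUnique 𝒳.p h.1 (𝟙 R) f f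
    (Category.id_comp _).symm φ ψ
  have ha : 𝒳.p.obj a = R := IsHomLift.domain_eq 𝒳.p f φ
  haveI : 𝒳.p.IsHomLift (𝟙 R) (𝟙 a) := IsHomLift.id ha
  have h1 : χ = 𝟙 a := eq_of_isThin_fiber 𝒳.p (h.2 R) χ (𝟙 a)
  rw [← hχ2, h1, Category.id_comp]

/-- Natural transformations into a category fibred in setoids are unique. -/
theorem nat_eq_of_isFibSetoid (h : FibCat.IsFibSetoid 𝒳.p) {𝒜 : BasedCategory C}
    {G G' : 𝒜 ⥤ᵇ 𝒳} (α β : G ⟶ G') : α = β := by
  apply BasedNatTrans.ext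
  ext x
  haveI := α.isHomLift' x
  haveI := β.isHomLift' x
  exact eq_of_isFibSetoid h (𝟙 (𝒜.p.obj x)) _ _

end Thin

/-- A presentation of a category over `(Sch/S)` by an algebraic space. -/
structure Pres (𝒲 : AlgSt.Cat S) where
  F : AlgSp.Space S
  e : AlgSt.ofSp F.obj ⥤ᵇ 𝒲
  G : 𝒲 ⥤ᵇ AlgSt.ofSp F.obj
  η₁ : BasedFunctor.comp e G ≅ BasedFunctor.id _
  η₂ : BasedFunctor.comp G e ≅ BasedFunctor.id _

theorem nonempty_pres {𝒲 : AlgSt.Cat S} (h : AlgSt.RepByAlgSp 𝒲) : Nonempty (Pres 𝒲) := by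
  obtain ⟨F, e, G, ⟨η₁⟩, ⟨η₂⟩⟩ := h
  exact ⟨⟨F, e, G, η₁, η₂⟩⟩

namespace Pres

variable {𝒲 : AlgSt.Cat S} (P : Pres 𝒲)

/-- The point of the space attached to a functor from a scheme. -/
noncomputable def pt {T : Over S} (Φ : FibCat.overCat T ⥤ᵇ 𝒲) : (AlgSp.yon S).obj T ⟶ P.F.obj :=
  ObjectProperty.homMk (secMap (BasedFunctor.comp Φ P.G))

/-- The endomorphism of the space attached to an endofunctor. -/
noncomputable def edo (A : 𝒲 ⥤ᵇ 𝒲) : P.F.obj ⟶ P.F.obj :=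
  ObjectProperty.homMk (mapOfFunctor (BasedFunctor.comp P.e (BasedFunctor.comp A P.G)))

theorem pt_congr {T : Over S} {Φ Φ' : FibCat.overCat T ⥤ᵇ 𝒲} (α : Φ ⟶ Φ') : P.pt Φ = P.pt Φ' := by
  apply ObjectProperty.hom_ext
  exact mapOfFunctor_congr (BasedCategory.whiskerLeft (AlgSt.toOverCat T)
    (BasedCategory.whiskerRight α P.G))

theorem edo_congr {A A' : 𝒲 ⥤ᵇ 𝒲} (α : A ⟶ A') : P.edo A = P.edo A' := by
  apply ObjectProperty.hom_ext
  exact mapOfFunctor_congr (BasedCategory.whiskerLeft P.e (BasedCategory.whiskerRight α P.G))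

theorem edo_id : P.edo (BasedFunctor.id 𝒲) = 𝟙 _ := by
  apply ObjectProperty.hom_ext
  change mapOfFunctor (BasedFunctor.comp P.e P.G) = 𝟙 _
  rw [mapOfFunctor_congr P.η₁.hom]
  exact mapOfFunctor_id

theorem edo_comp (A B : 𝒲 ⥤ᵇ 𝒲) : P.edo (BasedFunctor.comp A B) = P.edo A ≫ P.edo B := by
  apply ObjectProperty.hom_ext
  change mapOfFunctor (BasedFunctor.comp P.e (BasedFunctor.comp (BasedFunctor.comp A B) P.G)) =
    mapOfFunctor (BasedFunctor.comp P.e (BasedFunctor.comp A P.G)) ≫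
      mapOfFunctor (BasedFunctor.comp P.e (BasedFunctor.comp B P.G))
  rw [← mapOfFunctor_comp]
  have γ : BasedFunctor.comp (BasedFunctor.comp P.e A)
      (BasedFunctor.comp (BasedFunctor.comp P.G P.e) (BasedFunctor.comp B P.G)) ⟶
      BasedFunctor.comp (BasedFunctor.comp P.e A)
        (BasedFunctor.comp (BasedFunctor.id 𝒲) (BasedFunctor.comp B P.G)) :=
    BasedCategory.whiskerLeft (BasedFunctor.comp P.e A)
      (BasedCategory.whiskerRight P.η₂.hom (BasedFunctor.comp B P.G))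
  exact (mapOfFunctor_congr γ).symm

theorem pt_edo {T : Over S} (Φ : FibCat.overCat T ⥤ᵇ 𝒲) (A : 𝒲 ⥤ᵇ 𝒲) :
    P.pt (BasedFunctor.comp Φ A) = P.pt Φ ≫ P.edo A := by
  apply ObjectProperty.hom_ext
  change mapOfFunctor (BasedFunctor.comp (AlgSt.toOverCat T)
      (BasedFunctor.comp (BasedFunctor.comp Φ A) P.G)) =
    mapOfFunctor (BasedFunctor.comp (AlgSt.toOverCat T) (BasedFunctor.comp Φ P.G)) ≫
      mapOfFunctor (BasedFunctor.comp P.e (BasedFunctor.comp A P.G))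
  rw [← mapOfFunctor_comp]
  have γ : BasedFunctor.comp (BasedFunctor.comp (AlgSt.toOverCat T) Φ)
      (BasedFunctor.comp (BasedFunctor.comp P.G P.e) (BasedFunctor.comp A P.G)) ⟶
      BasedFunctor.comp (BasedFunctor.comp (AlgSt.toOverCat T) Φ)
        (BasedFunctor.comp (BasedFunctor.id 𝒲) (BasedFunctor.comp A P.G)) :=
    BasedCategory.whiskerLeft (BasedFunctor.comp (AlgSt.toOverCat T) Φ)
      (BasedCategory.whiskerRight P.η₂.hom (BasedFunctor.comp A P.G))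
  exact (mapOfFunctor_congr γ).symm

theorem pt_overMap {T' T : Over S} (f : T' ⟶ T) (Φ : FibCat.overCat T ⥤ᵇ 𝒲) :
    P.pt (BasedFunctor.comp (AlgSt.overMap f) Φ) = (AlgSp.yon S).map f ≫ P.pt Φ := by
  apply ObjectProperty.hom_ext
  change mapOfFunctor (BasedFunctor.comp (AlgSt.toOverCat T')
      (BasedFunctor.comp (BasedFunctor.comp (AlgSt.overMap f) Φ) P.G)) =
    ((AlgSp.yon S).map f).hom ≫
      mapOfFunctor (BasedFunctor.comp (AlgSt.toOverCat T) (BasedFunctor.comp Φ P.G))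
  conv_rhs => rw [← mapOfFunctor_ofPshMap ((AlgSp.yon S).map f).hom, ← mapOfFunctor_comp]
  have i1 : BasedFunctor.comp (AlgSt.toOverCat T') (AlgSt.overMap f) ≅
      BasedFunctor.comp (BasedFunctor.comp (AlgSt.toOverCat T') (AlgSt.ofOverCat T'))
        (BasedFunctor.comp (Stk.ofPshMap ((AlgSp.yon S).map f).hom) (AlgSt.toOverCat T)) :=
    whiskerLeftIso (AlgSt.toOverCat T') (ofSecMapYonIso f).symm
  have i2 : BasedFunctor.comp (BasedFunctor.comp (AlgSt.toOverCat T') (AlgSt.ofOverCat T'))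
        (BasedFunctor.comp (Stk.ofPshMap ((AlgSp.yon S).map f).hom) (AlgSt.toOverCat T)) ≅
      BasedFunctor.comp (BasedFunctor.id _)
        (BasedFunctor.comp (Stk.ofPshMap ((AlgSp.yon S).map f).hom) (AlgSt.toOverCat T)) :=
    (postF _ _).mapIso (toOfIso T')
  exact mapOfFunctor_congr (BasedCategory.whiskerRight (i1 ≪≫ i2).hom (BasedFunctor.comp Φ P.G))

theorem pt_ofSecMap {T : Over S} (ω : (AlgSp.yon S).obj T ⟶ P.F.obj) :
    P.pt (BasedFunctor.comp (ofSecMap ω.hom) P.e) = ω := by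
  apply ObjectProperty.hom_ext
  change mapOfFunctor (BasedFunctor.comp (AlgSt.toOverCat T)
      (BasedFunctor.comp (BasedFunctor.comp (AlgSt.ofOverCat T) (Stk.ofPshMap ω.hom)) P.e)
        |>.comp P.G) = ω.hom
  have γ1 : BasedFunctor.comp (BasedFunctor.comp (BasedFunctor.comp (AlgSt.toOverCat T)
      (AlgSt.ofOverCat T)) (Stk.ofPshMap ω.hom)) (BasedFunctor.comp P.e P.G) ⟶
      BasedFunctor.comp (BasedFunctor.comp (BasedFunctor.comp (AlgSt.toOverCat T)
      (AlgSt.ofOverCat T)) (Stk.ofPshMap ω.hom)) (BasedFunctor.id _) :=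
    BasedCategory.whiskerLeft _ P.η₁.hom
  have γ2 : BasedFunctor.comp (BasedFunctor.comp (AlgSt.toOverCat T)
      (AlgSt.ofOverCat T)) (Stk.ofPshMap ω.hom) ⟶
      BasedFunctor.comp (BasedFunctor.id _) (Stk.ofPshMap ω.hom) :=
    BasedCategory.whiskerRight (toOfIso T).hom (Stk.ofPshMap ω.hom)
  exact (mapOfFunctor_congr γ1).trans ((mapOfFunctor_congr γ2).trans
    (mapOfFunctor_ofPshMap ω.hom))

theorem iso_of_pt_eq {T : Over S} {Φ Φ' : FibCat.overCat T ⥤ᵇ 𝒲} (h : P.pt Φ = P.pt Φ') :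
    Nonempty (Φ ≅ Φ') := by
  have h0 : secMap (BasedFunctor.comp Φ P.G) = secMap (BasedFunctor.comp Φ' P.G) :=
    congrArg (fun m => m.hom) h
  obtain ⟨c1⟩ := secMap_iso (BasedFunctor.comp Φ P.G)
  obtain ⟨c2⟩ := secMap_iso (BasedFunctor.comp Φ' P.G)
  have i1 : BasedFunctor.comp (AlgSt.toOverCat T) (BasedFunctor.comp Φ P.G) ≅
      BasedFunctor.comp (AlgSt.toOverCat T) (BasedFunctor.comp Φ' P.G) :=
    c1.symm ≪≫ eqToIso (by rw [h0]) ≪≫ c2
  have i2 : BasedFunctor.comp (BasedFunctor.comp (AlgSt.ofOverCat T) (AlgSt.toOverCat T))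
      (BasedFunctor.comp Φ P.G) ≅
      BasedFunctor.comp (BasedFunctor.comp (AlgSt.ofOverCat T) (AlgSt.toOverCat T))
        (BasedFunctor.comp Φ' P.G) := whiskerLeftIso (AlgSt.ofOverCat T) i1
  have i3 : ∀ Ψ : FibCat.overCat T ⥤ᵇ 𝒲,
      BasedFunctor.comp (BasedFunctor.comp (AlgSt.ofOverCat T) (AlgSt.toOverCat T))
        (BasedFunctor.comp Ψ P.G) ≅ BasedFunctor.comp Ψ P.G := fun Ψ =>
    (postF _ _).mapIso (ofToIso T)
  have i4 : BasedFunctor.comp Φ P.G ≅ BasedFunctor.comp Φ' P.G := (i3 Φ).symm ≪≫ i2 ≪≫ i3 Φ'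
  have i5 : ∀ Ψ : FibCat.overCat T ⥤ᵇ 𝒲,
      BasedFunctor.comp (BasedFunctor.comp Ψ P.G) P.e ≅ Ψ := fun Ψ => whiskerLeftIso Ψ P.η₂
  exact ⟨(i5 Φ).symm ≪≫ (postF _ P.e).mapIso i4 ≪≫ i5 Φ'⟩

end Pres

end Groth.Agent.Lead.ET
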