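import Mathlib
import Groth.Prelude.Def_AlgSt3
import Groth.Agent.Lib.Lead.ETa
import Groth.Agent.Lib.Lead.ETb
import Groth.Agent.Lib.Lead.ETc
import Groth.Agent.Lib.Lead.HFibE

/-!
# The Galois action on a fibre power and its equivariant point (lead)
-/

set_option backward.isDefEq.respectTransparency.types false
set_option autoImplicit false
set_option synthInstance.maxHeartbeats 400000
set_option maxHeartbeats 1000000
set_option linter.style.haveILetI false
set_option linter.unusedSectionVars false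
set_option linter.unusedSimpArgs false

open CategoryTheory CategoryTheory.Limits AlgebraicGeometry Opposite
open Groth.Agent.Helper2 Groth.Agent.Helper2.FibCatLib Groth.Agent.Helper2.StkLib
open Groth.Agent.Helper2.AlgStLib Groth.Agent.Lead.HFib

namespace Groth.Agent.Lead.ET
universe u
variable {S : Scheme.{u}} {𝒵 : AlgSt.Cat S} {V : Over S}

section Act

variable (a : FibCat.overCat V ⥤ᵇ 𝒵) {Γ : Type u} [Group Γ]

/-- The permutation action on the fibre power indexed by a group. -/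
def act (γ : Γ) : W a Γ ⥤ᵇ W a Γ := reidx a Γ (fun j => γ⁻¹ * j)

theorem act_mul (γ δ : Γ) : act a (γ * δ) = BasedFunctor.comp (act a δ) (act a γ) := by
  unfold act
  rw [reidx_comp]
  congr 1
  funext j
  simp [mul_assoc]

theorem act_one : act a (1 : Γ) = BasedFunctor.id (W a Γ) := by
  unfold act
  have h : (fun j : Γ => (1 : Γ)⁻¹ * j) = fun j => j := by
    funext j
    simp
  rw [h]
  rfl

theorem act_prz (γ : Γ) : BasedFunctor.comp (act a γ) (prz a Γ) = prz a Γ := rfl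

theorem act_pr (γ j : Γ) : BasedFunctor.comp (act a γ) (pr a Γ j) = pr a Γ (γ⁻¹ * j) := rfl

variable (P : Pres (W a Γ))

/-- The induced action on the representing space. -/
noncomputable def Rr (γ : Γ) : P.F.obj ⟶ P.F.obj := P.edo (act a γ)

theorem Rr_mul (γ δ : Γ) : Rr a P (γ * δ) = Rr a P δ ≫ Rr a P γ := by
  unfold Rr
  rw [act_mul, P.edo_comp]

theorem Rr_one : Rr a P (1 : Γ) = 𝟙 _ := by
  unfold Rr
  rw [act_one, P.edo_id]

end Act

section Congr

theorem comp_chase {D : Type*} [Category D] {X1 X2 X3 X4 Y2 Y3 : D} (A : X1 ⟶ X2) (B : X2 ⟶ X3)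
    (C : X3 ⟶ X4) (D' : X1 ⟶ Y2) (M : Y2 ⟶ X3) (E : Y2 ⟶ Y3) (F : Y3 ⟶ X4)
    (h1 : A ≫ B = D' ≫ M) (h2 : M ≫ C = E ≫ F) : A ≫ (B ≫ C) = (D' ≫ E) ≫ F := by
  rw [← Category.assoc, h1, Category.assoc, h2, Category.assoc]

/-- A commutative triangle of schemes induces an isomorphism between the composite of the
functors between slices and the functor of the composite, with identity components. -/
def ovTri {T' T₁ T : Over S} (f : T' ⟶ T₁) (g : T₁ ⟶ T) (f₂ : T' ⟶ T) (h : f ≫ g = f₂) :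
    BasedFunctor.comp (AlgSt.overMap f) (AlgSt.overMap g) ≅ AlgSt.overMap f₂ :=
  BasedNatIso.mkNatIso
    (NatIso.ofComponents
      (fun t => Over.isoMk (Iso.refl (t : Over T').left) (by
        subst h
        change 𝟙 _ ≫ ((t : Over T').hom ≫ f ≫ g) = ((t : Over T').hom ≫ f) ≫ g
        rw [Category.id_comp, Category.assoc]))
      (by
        intro t t' m
        apply Over.OverMorphism.ext
        exact (Category.comp_id _).trans (Category.id_comp _).symm))
    (fun t => OverFun.over_isHomLift_id_of_left_eq _ rfl rfl)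

theorem ovTri_hom_left {T' T₁ T : Over S} (f : T' ⟶ T₁) (g : T₁ ⟶ T) (f₂ : T' ⟶ T)
    (h : f ≫ g = f₂) (t : (FibCat.overCat T').obj) :
    ((ovTri f g f₂ h).hom.toNatTrans.app t).left = 𝟙 (t : Over T').left := rfl

end Congr

section Point

variable {k : Type u} [Field k] (sk : Spec (CommRingCat.of k) ⟶ S)
  {K : Type u} [Field K] [Algebra k K]

/-- `φ_g^* π^* ≅ π^*`. -/
noncomputable def cIso (g : K ≃ₐ[k] K) :
    BasedFunctor.comp (AlgSt.overMap (phi sk g)) (AlgSt.overMap (piK sk K)) ≅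
      AlgSt.overMap (piK sk K) :=
  ovTri _ _ _ (phi_piK sk g)

/-- `φ_g^* φ_h^* ≅ φ_{gh}^*`. -/
noncomputable def mIso (g h : K ≃ₐ[k] K) :
    BasedFunctor.comp (AlgSt.overMap (phi sk g)) (AlgSt.overMap (phi sk h)) ≅
      AlgSt.overMap (phi sk (g * h)) :=
  ovTri _ _ _ (phi_mul sk g h).symm

theorem cIso_hom_left (g : K ≃ₐ[k] K) (t : (FibCat.overCat (spK sk K)).obj) :
    ((cIso sk g).hom.toNatTrans.app t).left = 𝟙 (t : Over (spK sk K)).left := rfl

theorem mIso_hom_left (g h : K ≃ₐ[k] K) (t : (FibCat.overCat (spK sk K)).obj) :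
    ((mIso sk g h).hom.toNatTrans.app t).left = 𝟙 (t : Over (spK sk K)).left := rfl

variable (a : FibCat.overCat V ⥤ᵇ 𝒵) (x : FibCat.overCat (Over.mk sk) ⥤ᵇ 𝒵)
  (v' : spK sk K ⟶ V)
  (θ₀ : BasedFunctor.comp (AlgSt.overMap v') a ≅ BasedFunctor.comp (AlgSt.overMap (piK sk K)) x)

/-- The structure isomorphisms of the Galois point. -/
noncomputable def wε (j : K ≃ₐ[k] K) :
    BasedFunctor.comp (BasedFunctor.comp (AlgSt.overMap (phi sk j)) (AlgSt.overMap v')) a ≅
      BasedFunctor.comp (AlgSt.overMap (piK sk K)) x :=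
  whiskerLeftIso (AlgSt.overMap (phi sk j)) θ₀ ≪≫ (postF _ x).mapIso (cIso sk j)

/-- The Galois point of the fibre power: the conjugates of the given point. -/
noncomputable def wF : FibCat.overCat (spK sk K) ⥤ᵇ W a (K ≃ₐ[k] K) :=
  wLift (BasedFunctor.comp (AlgSt.overMap (piK sk K)) x)
    (fun j => BasedFunctor.comp (AlgSt.overMap (phi sk j)) (AlgSt.overMap v'))
    (wε sk a x v' θ₀)

theorem wF_prz : BasedFunctor.comp (wF sk a x v' θ₀) (prz a (K ≃ₐ[k] K)) =
    BasedFunctor.comp (AlgSt.overMap (piK sk K)) x := rfl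

theorem wF_pr (j : K ≃ₐ[k] K) : BasedFunctor.comp (wF sk a x v' θ₀) (pr a (K ≃ₐ[k] K) j) =
    BasedFunctor.comp (AlgSt.overMap (phi sk j)) (AlgSt.overMap v') := rfl

theorem wF_θ_hom (t : (FibCat.overCat (spK sk K)).obj) (j : K ≃ₐ[k] K) :
    (((wF sk a x v' θ₀).obj t).θ j).hom =
      θ₀.hom.toNatTrans.app ((AlgSt.overMap (phi sk j)).obj t) ≫
        x.map ((cIso sk j).hom.toNatTrans.app t) := rfl

theorem over_ext_left {T : Over S} {A B : (FibCat.overCat T).obj} (m m' : A ⟶ B)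
    (h : m.left = m'.left) : m = m' := Over.OverMorphism.ext h

theorem over_comp_left {T : Over S} {A B C : (FibCat.overCat T).obj} (f : A ⟶ B) (g : B ⟶ C) :
    Over.Hom.left (f ≫ g) = Over.Hom.left f ≫ Over.Hom.left g := rfl

theorem wF_compat_aux (δ j : K ≃ₐ[k] K) (t : (FibCat.overCat (spK sk K)).obj) :
    (AlgSt.overMap (piK sk K)).map ((mIso sk δ⁻¹ j).hom.toNatTrans.app t) ≫
        (cIso sk (δ⁻¹ * j)).hom.toNatTrans.app t =
      (cIso sk j).hom.toNatTrans.app ((AlgSt.overMap (phi sk δ⁻¹)).obj t) ≫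
        (cIso sk δ⁻¹).hom.toNatTrans.app t := by
  apply over_ext_left
  have e2 : Over.Hom.left ((AlgSt.overMap (piK sk K)).map
      ((mIso sk δ⁻¹ j).hom.toNatTrans.app t)) = 𝟙 _ := mIso_hom_left sk δ⁻¹ j t
  have e3 := cIso_hom_left sk (δ⁻¹ * j) t
  have e4 := cIso_hom_left sk j ((AlgSt.overMap (phi sk δ⁻¹)).obj t)
  have e5 := cIso_hom_left sk δ⁻¹ t
  refine (over_comp_left _ _).trans (Eq.trans ?_ (over_comp_left _ _).symm)
  exact Eq.trans (congrArg₂ (fun p q => p ≫ q) e2 e3) (congrArg₂ (fun p q => p ≫ q) e4 e5).symm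

theorem wF_compat (δ j : K ≃ₐ[k] K) (t : (FibCat.overCat (spK sk K)).obj) :
    a.map ((AlgSt.overMap v').map ((mIso sk δ⁻¹ j).hom.toNatTrans.app t)) ≫
        (θ₀.hom.toNatTrans.app ((AlgSt.overMap (phi sk (δ⁻¹ * j))).obj t) ≫
          x.map ((cIso sk (δ⁻¹ * j)).hom.toNatTrans.app t)) =
      (θ₀.hom.toNatTrans.app
          ((AlgSt.overMap (phi sk j)).obj ((AlgSt.overMap (phi sk δ⁻¹)).obj t)) ≫
        x.map ((cIso sk j).hom.toNatTrans.app ((AlgSt.overMap (phi sk δ⁻¹)).obj t))) ≫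
        x.map ((cIso sk δ⁻¹).hom.toNatTrans.app t) := by
  have hn := θ₀.hom.toNatTrans.naturality ((mIso sk δ⁻¹ j).hom.toNatTrans.app t)
  have h2 : x.map ((AlgSt.overMap (piK sk K)).map ((mIso sk δ⁻¹ j).hom.toNatTrans.app t)) ≫
      x.map ((cIso sk (δ⁻¹ * j)).hom.toNatTrans.app t) =
      x.map ((cIso sk j).hom.toNatTrans.app ((AlgSt.overMap (phi sk δ⁻¹)).obj t)) ≫
        x.map ((cIso sk δ⁻¹).hom.toNatTrans.app t) :=
    ((x.toFunctor.map_comp _ _).symm.trans (congrArg (fun m => x.toFunctor.map m)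
      (wF_compat_aux sk δ j t))).trans (x.toFunctor.map_comp _ _)
  exact comp_chase _ _ _ _ _ _ _ hn h2

/-- The Galois point is equivariant. -/
noncomputable def wFEquiv (δ : K ≃ₐ[k] K) :
    BasedFunctor.comp (AlgSt.overMap (phi sk δ⁻¹)) (wF sk a x v' θ₀) ≅
      BasedFunctor.comp (wF sk a x v' θ₀) (act a δ) :=
  natIsoMk _ _ ((postF _ x).mapIso (cIso sk δ⁻¹))
    (fun j => (postF _ (AlgSt.overMap v')).mapIso (mIso sk δ⁻¹ j))
    (fun t j => wF_compat sk a x v' θ₀ δ j t)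

theorem wFEquiv_prz (δ : K ≃ₐ[k] K) (t : (FibCat.overCat (spK sk K)).obj) :
    ((wFEquiv sk a x v' θ₀ δ).hom.toNatTrans.app t).φ =
      x.map ((cIso sk δ⁻¹).hom.toNatTrans.app t) := rfl

end Point

end Groth.Agent.Lead.ET
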