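import Mathlib
import Groth.Prelude.Def_AlgSp
import Groth.Agent.Lib.Helper2.AlgSp.Diag
import Groth.Agent.Lib.Helper2.AlgSp.Basic

/-!
# Finite fibre products of a family of charts of a sheaf with representable diagonal (lead)
-/

set_option backward.isDefEq.respectTransparency.types false
set_option autoImplicit false
set_option synthInstance.maxHeartbeats 400000
set_option maxHeartbeats 1000000
set_option linter.style.haveILetI false
set_option linter.unusedSectionVars false
set_option linter.unusedSimpArgs false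

open CategoryTheory CategoryTheory.Limits AlgebraicGeometry Opposite AlgSp
open Groth.Agent.Helper2.AlgSpBasic

namespace Groth.Agent.Lead.ET
universe u
variable {S : Scheme.{u}}

/-- `W` with the projections `pr` is the fibre power of `a : h_U ⟶ F` indexed by the finite set `s`
(the values of `pr` outside `s` are irrelevant). -/
structure IsFibProd {F : Sp S} {U : Over S} {H : Type u} (a : H → ((yon S).obj U ⟶ F)) (s : Finset H)
    (W : Over S) (pr : H → (W ⟶ U)) : Prop where
  compat : ∀ g ∈ s, ∀ h ∈ s, (yon S).map (pr g) ≫ a g = (yon S).map (pr h) ≫ a h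
  lift : ∀ (T : Over S) (b : H → (T ⟶ U)),
    (∀ g ∈ s, ∀ h ∈ s, (yon S).map (b g) ≫ a g = (yon S).map (b h) ≫ a h) →
      ∃ l : T ⟶ W, ∀ g ∈ s, l ≫ pr g = b g
  ext : ∀ (T : Over S) (l l' : T ⟶ W), (∀ g ∈ s, l ≫ pr g = l' ≫ pr g) → l = l'
  etale : (∀ g, RepWith @Etale (a g)) → ∀ g ∈ s, Etale (pr g).left

theorem exists_isFibProd {F : Sp S} (hF : Representable (Limits.diag F)) {U : Over S}
    {H : Type u} (a : H → ((yon S).obj U ⟶ F)) (s : Finset H) (hs : s.Nonempty) :
    ∃ (W : Over S) (pr : H → (W ⟶ U)), IsFibProd a s W pr := by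
  classical
  induction hs using Finset.Nonempty.cons_induction with
  | singleton h0 =>
    refine ⟨U, fun _ => 𝟙 U, ?_, ?_, ?_, ?_⟩
    · intro g hg h hh
      rw [Finset.mem_singleton] at hg hh
      subst hg
      subst hh
      rfl
    · intro T b _
      exact ⟨b h0, fun g hg => by
        rw [Finset.mem_singleton] at hg; subst hg; exact Category.comp_id _⟩
    · intro T l l' h
      have := h h0 (Finset.mem_singleton_self _)
      simpa only [Category.comp_id] using this
    · intro _ g _
      exact inferInstanceAs (Etale (𝟙 U.left))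
  | cons h0 s hh0 hs ih =>
    obtain ⟨W', pr', hW'⟩ := ih
    obtain ⟨g0, hg0⟩ := hs
    obtain ⟨W, fst, snd, sq⟩ := exists_isPullback_yon hF ((yon S).map (pr' g0) ≫ a g0) (a h0)
    let pr : H → (W ⟶ U) := fun g => if g = h0 then snd else fst ≫ pr' g
    have hprh : pr h0 = snd := if_pos rfl
    have hprs : ∀ g ∈ s, pr g = fst ≫ pr' g := fun g hg => by
      have : g ≠ h0 := fun e => hh0 (e ▸ hg)
      exact if_neg this
    have hcommon : ∀ g ∈ Finset.cons h0 s hh0,
        (yon S).map (pr g) ≫ a g = (yon S).map fst ≫ (yon S).map (pr' g0) ≫ a g0 := by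
      intro g hg
      rw [Finset.mem_cons] at hg
      rcases hg with rfl | hg
      · rw [hprh]; exact sq.w.symm
      · rw [hprs g hg, Functor.map_comp, Category.assoc, hW'.compat g hg g0 hg0]
    refine ⟨W, pr, ?_, ?_, ?_, ?_⟩
    · intro g hg h hh
      rw [hcommon g hg, hcommon h hh]
    · intro T b hb
      have hb' : ∀ g ∈ s, ∀ h ∈ s, (yon S).map (b g) ≫ a g = (yon S).map (b h) ≫ a h :=
        fun g hg h hh => hb g (Finset.mem_cons.2 (Or.inr hg)) h (Finset.mem_cons.2 (Or.inr hh))
      obtain ⟨l', hl'⟩ := hW'.lift T b hb'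
      obtain ⟨l, hl⟩ := (yon S).map_surjective
        (sq.lift ((yon S).map l') ((yon S).map (b h0)) (by
          rw [← Category.assoc, ← Functor.map_comp, hl' g0 hg0]
          exact hb g0 (Finset.mem_cons.2 (Or.inr hg0)) h0 (Finset.mem_cons_self _ _)))
      have h1 : l ≫ fst = l' := (yon S).map_injective (by
        rw [Functor.map_comp, hl, sq.lift_fst])
      have h2 : l ≫ snd = b h0 := (yon S).map_injective (by
        rw [Functor.map_comp, hl, sq.lift_snd])
      refine ⟨l, fun g hg => ?_⟩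
      rw [Finset.mem_cons] at hg
      rcases hg with rfl | hg
      · rw [hprh, h2]
      · rw [hprs g hg, ← Category.assoc, h1, hl' g hg]
    · intro T l l' h
      apply (yon S).map_injective
      apply sq.hom_ext
      · rw [← Functor.map_comp, ← Functor.map_comp]
        congr 1
        apply hW'.ext
        intro g hg
        have := h g (Finset.mem_cons.2 (Or.inr hg))
        rw [hprs g hg] at this
        simpa only [Category.assoc] using this
      · rw [← Functor.map_comp, ← Functor.map_comp]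
        congr 1
        have := h h0 (Finset.mem_cons_self _ _)
        rw [hprh] at this
        exact this
    · intro ha g hg
      have hα : RepWith @Etale ((yon S).map (pr' g0) ≫ a g0) :=
        repWith_comp @Etale ((repWith_yon_map_iff @Etale _).mpr (hW'.etale ha g0 hg0)) (ha g0)
      have hsnd : Etale snd.left := hα.property (a h0) _ _ sq
      have hfst : Etale fst.left := (ha h0).property _ _ _ sq.flip
      rw [Finset.mem_cons] at hg
      rcases hg with rfl | hg
      · rw [hprh]; exact hsnd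
      · rw [hprs g hg, Over.comp_left]
        haveI := hW'.etale ha g hg
        infer_instance


section Twisted

variable {F : Sp S} {U : Over S} {H : Type u} [Group H] [Fintype H]
  (R : H → (F ⟶ F)) (hRmul : ∀ g h, R (g * h) = R h ≫ R g) (hRone : R 1 = 𝟙 F)
  (c₀ : (yon S).obj U ⟶ F)
  {W : Over S} {pr : H → (W ⟶ U)}
  (hW : IsFibProd (fun g => c₀ ≫ R g) (Finset.univ : Finset H) W pr)

include hRmul in
theorem twist_eq (h g : H) : c₀ ≫ R g = (c₀ ≫ R (h⁻¹ * g)) ≫ R h := by
  rw [Category.assoc, ← hRmul, mul_inv_cancel_left]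

include hW hRmul in
theorem twist_key (h g : H) : (yon S).map (pr (h⁻¹ * g)) ≫ c₀ ≫ R g =
    ((yon S).map (pr 1) ≫ c₀ ≫ R 1) ≫ R h := by
  have h1 : (yon S).map (pr (h⁻¹ * g)) ≫ c₀ ≫ R (h⁻¹ * g) = (yon S).map (pr 1) ≫ c₀ ≫ R 1 :=
    hW.compat _ (Finset.mem_univ _) _ (Finset.mem_univ _)
  rw [← h1, twist_eq R hRmul c₀ h g, Category.assoc, Category.assoc, Category.assoc]

include hW hRmul in
theorem exists_act (h : H) : ∃ l : W ⟶ W, ∀ g, l ≫ pr g = pr (h⁻¹ * g) := by
  obtain ⟨l, hl⟩ := hW.lift W (fun g => pr (h⁻¹ * g)) (fun g _ g' _ => by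
    show (yon S).map (pr (h⁻¹ * g)) ≫ c₀ ≫ R g = (yon S).map (pr (h⁻¹ * g')) ≫ c₀ ≫ R g'
    rw [twist_key R hRmul c₀ hW h g, twist_key R hRmul c₀ hW h g'])
  exact ⟨l, fun g => hl g (Finset.mem_univ _)⟩

include hW in
theorem hom_ext_pr {T : Over S} (l l' : T ⟶ W) (h : ∀ g, l ≫ pr g = l' ≫ pr g) : l = l' :=
  hW.ext T l l' (fun g _ => h g)

include hW hRmul in
/-- The permutation action of `H` on the twisted `H`-indexed fibre product. -/
theorem exists_action : ∃ ρ : H →* Aut W, ∀ h g, (ρ h).hom ≫ pr g = pr (h⁻¹ * g) := by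
  choose act hact using exists_act R hRmul c₀ hW
  have act_one : act 1 = 𝟙 W := by
    apply hom_ext_pr R c₀ hW
    intro g
    rw [hact, inv_one, one_mul, Category.id_comp]
  have act_mul : ∀ h' h : H, act (h' * h) = act h ≫ act h' := by
    intro h' h
    apply hom_ext_pr R c₀ hW
    intro g
    rw [hact, Category.assoc, hact, hact, mul_inv_rev, mul_assoc]
  refine ⟨{ toFun := fun h => ⟨act h, act h⁻¹, by rw [← act_mul, inv_mul_cancel, act_one],
              by rw [← act_mul, mul_inv_cancel, act_one]⟩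
            map_one' := by
              apply Iso.ext
              exact act_one
            map_mul' := fun h' h => by
              apply Iso.ext
              show act (h' * h) = act h ≫ act h'
              exact act_mul h' h }, fun h g => hact h g⟩

include hW hRmul in
/-- The structure map of the twisted fibre product is equivariant. -/
theorem omega_equivariant (ρ : H →* Aut W) (hρ : ∀ h g, (ρ h).hom ≫ pr g = pr (h⁻¹ * g)) (h : H) :
    (yon S).map (ρ h).hom ≫ (yon S).map (pr 1) ≫ c₀ ≫ R 1 =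
      ((yon S).map (pr 1) ≫ c₀ ≫ R 1) ≫ R h := by
  rw [← Category.assoc, ← Functor.map_comp, hρ]
  exact twist_key R hRmul c₀ hW h 1

include hW hRmul hRone in
/-- An equivariant point of the twisted fibre product from an equivariant point of the sheaf
which lifts to the chart. -/
theorem exists_point (ρ : H →* Aut W) (hρ : ∀ h g, (ρ h).hom ≫ pr g = pr (h⁻¹ * g))
    {T : Over S} (φ : H → (T ⟶ T)) (hφ : ∀ g h, φ (g * h) = φ g ≫ φ h) (hφ1 : φ 1 = 𝟙 T)
    (u : T ⟶ U)
    (hu : ∀ δ, (yon S).map (φ δ⁻¹) ≫ (yon S).map u ≫ c₀ = ((yon S).map u ≫ c₀) ≫ R δ) :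
    ∃ w : T ⟶ W, (∀ g, w ≫ pr g = φ g ≫ u) ∧ (∀ h, φ h ≫ w = w ≫ (ρ h⁻¹).hom) ∧
      (yon S).map w ≫ (yon S).map (pr 1) ≫ c₀ ≫ R 1 = (yon S).map u ≫ c₀ := by
  have hc : ∀ g, (yon S).map (φ g ≫ u) ≫ c₀ ≫ R g = (yon S).map u ≫ c₀ := by
    intro g
    rw [Functor.map_comp, Category.assoc, ← Category.assoc ((yon S).map u), ← hu g,
      ← Category.assoc, ← Functor.map_comp, ← hφ, mul_inv_cancel, hφ1,
      CategoryTheory.Functor.map_id, Category.id_comp]
  obtain ⟨w, hw⟩ := hW.lift T (fun g => φ g ≫ u) (fun g _ g' _ => by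
    show (yon S).map (φ g ≫ u) ≫ c₀ ≫ R g = (yon S).map (φ g' ≫ u) ≫ c₀ ≫ R g'
    rw [hc g, hc g'])
  have hw' : ∀ g, w ≫ pr g = φ g ≫ u := fun g => hw g (Finset.mem_univ _)
  refine ⟨w, hw', fun h => ?_, ?_⟩
  · apply hom_ext_pr R c₀ hW
    intro g
    rw [Category.assoc, Category.assoc, hw', hρ, inv_inv, hw', hφ, Category.assoc]
  · rw [← Category.assoc, ← Functor.map_comp, hw' 1]
    exact hc 1

end Twisted

end Groth.Agent.Lead.ET
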