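import Mathlib
import Groth.Prelude.Def_AlgSp
import Groth.Agent.Lib.Helper2.AlgSp.FreeAct
import Groth.Agent.Lib.Helper2.AlgSp.EtEqvQuot
import Groth.Agent.Lib.Helper2.AlgSp.QuotEff
import Groth.Agent.Lib.Helper2.AlgSp.FinLocFreeQuot2
import Groth.Agent.Lib.Helper2.AlgSp.FinLocFree
import Groth.Agent.Lib.Helper2.AlgSp.LocP
import Groth.Agent.Lib.Helper9.FE.SigmaFinite

/-!
# The quotient of an affine scheme by a free action of a finite group, with effectivity (lead)
-/

set_option backward.isDefEq.respectTransparency.types false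
set_option autoImplicit false
set_option synthInstance.maxHeartbeats 400000
set_option maxHeartbeats 1000000
set_option linter.style.haveILetI false
set_option linter.unusedSectionVars false
set_option linter.unusedSimpArgs false

open CategoryTheory CategoryTheory.Limits AlgebraicGeometry Opposite AlgSp
open Groth.Agent.Helper2.AlgSpBasic Groth.Agent.Helper2.Coprod

namespace Groth.Agent.Lead.ET
universe u
variable {S : Scheme.{u}}

/-- A morphism to a disjoint union decomposes its source into open pieces mapping to the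
summands. -/
theorem exists_pieces_sigmaOver {ι : Type u} (V : ι → Over S) {T : Over S}
    (r : T ⟶ sigmaOver V) :
    ∃ (W : ι → Over S) (j : ∀ i, W i ⟶ T) (x : ∀ i, W i ⟶ V i),
      (∀ i, IsOpenImmersion (j i).left) ∧ (∀ y : T.left, ∃ i, y ∈ Set.range (j i).left) ∧
        ∀ i, x i ≫ sigmaOverι V i = j i ≫ r := by
  let O : ι → T.left.Opens := fun i => r.left ⁻¹ᵁ (Sigma.ι (fun i => (V i).left) i).opensRange
  let W : ι → Over S := fun i => Over.mk ((O i).ι ≫ T.hom)
  let j : ∀ i, W i ⟶ T := fun i => Over.homMk (O i).ι rfl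
  have hrange : ∀ i, Set.range ((O i).ι ≫ r.left) ⊆
      Set.range (Sigma.ι (fun i => (V i).left) i) := by
    rintro i _ ⟨z, rfl⟩
    have hz : (O i).ι z ∈ O i := by
      have := (O i).range_ι
      rw [← SetLike.mem_coe, ← this]
      exact ⟨z, rfl⟩
    exact hz
  let l : ∀ i, (W i).left ⟶ (V i).left := fun i =>
    IsOpenImmersion.lift (Sigma.ι (fun i => (V i).left) i) ((O i).ι ≫ r.left) (hrange i)
  have hl : ∀ i, l i ≫ Sigma.ι (fun i => (V i).left) i = (O i).ι ≫ r.left := fun i =>
    IsOpenImmersion.lift_fac _ _ _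
  refine ⟨W, j, fun i => Over.homMk (l i) ?_, fun i => ?_, fun y => ?_, fun i => ?_⟩
  · have h1 : Sigma.ι (fun i => (V i).left) i ≫ (sigmaOver V).hom = (V i).hom := by
      simp [sigmaOver]
    have h2 : r.left ≫ (sigmaOver V).hom = T.hom := Over.w r
    calc l i ≫ (V i).hom = l i ≫ Sigma.ι (fun i => (V i).left) i ≫ (sigmaOver V).hom := by rw [h1]
      _ = (l i ≫ Sigma.ι (fun i => (V i).left) i) ≫ (sigmaOver V).hom := (Category.assoc _ _ _).symm
      _ = ((O i).ι ≫ r.left) ≫ (sigmaOver V).hom :=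
        congrArg (fun m => m ≫ (sigmaOver V).hom) (hl i)
      _ = (O i).ι ≫ r.left ≫ (sigmaOver V).hom := Category.assoc _ _ _
      _ = (O i).ι ≫ T.hom := by rw [h2]
  · exact inferInstanceAs (IsOpenImmersion (O i).ι)
  · obtain ⟨⟨i, z⟩, hz⟩ := (sigmaMk (fun i => (V i).left)).surjective (r.left y)
    rw [sigmaMk_mk] at hz
    refine ⟨i, ?_⟩
    have hy : y ∈ O i := ⟨z, hz⟩
    have := (O i).range_ι
    show y ∈ Set.range (O i).ι
    rw [this]
    exact hy
  · ext
    exact hl i

open Groth.Agent.Helper2 in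
/-- The quotient of an affine scheme by a free action of a finite group: an affine scheme, an
etale surjective invariant morphism, and effectivity in the form of open pieces. -/
theorem exists_quotient {V : Over S} [IsAffine V.left]
    {H : Type u} [Group H] [Finite H] (ρ : H →* Aut V)
    (hfree : ∀ (g : H) (x : V.left), g ≠ 1 →
      V.left.fromSpecResidueField x ≫ (ρ g).hom.left ≠ V.left.fromSpecResidueField x) :
    ∃ (M : Over S) (q : V ⟶ M), IsAffine M.left ∧ Etale q.left ∧ Surjective q.left ∧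
      (∀ h, (ρ h).hom ≫ q = q) ∧
      (∀ {T : Over S} (l l' : T ⟶ V), l ≫ q = l' ≫ q →
        ∃ (W : H → Over S) (j : ∀ γ, W γ ⟶ T), (∀ γ, IsOpenImmersion (j γ).left) ∧
          (∀ x : T.left, ∃ γ, x ∈ Set.range (j γ).left) ∧
          ∀ γ, j γ ≫ l' = (j γ ≫ l) ≫ (ρ γ).hom) ∧
      ∀ (Z : Over S) (f : V ⟶ Z), (∀ h, (ρ h).hom ≫ f = f) → ∃ f' : M ⟶ Z, q ≫ f' = f := by
  let c : Cofan (fun _ : H => V) :=
    Cofan.mk (sigmaOver (fun _ : H => V)) (sigmaOverι (fun _ : H => V))
  let hc : IsColimit c := FreeAct.isColimitSigmaOver (fun _ : H => V)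
  let s : c.pt ⟶ V := hc.desc (Cofan.mk V (fun _ => 𝟙 V))
  let t : c.pt ⟶ V := hc.desc (Cofan.mk V (fun g => (ρ g).hom))
  have hs : ∀ g, c.inj g ≫ s = 𝟙 V := fun g => hc.fac (Cofan.mk V (fun _ => 𝟙 V)) ⟨g⟩
  have ht : ∀ g, c.inj g ≫ t = (ρ g).hom :=
    fun g => hc.fac (Cofan.mk V (fun g => (ρ g).hom)) ⟨g⟩
  have hrel : IsEtaleEqvRel s t := FreeAct.isEtaleEqvRel_of_free ρ hfree c hc s t hs ht
  have hY : IsAlgSpace (QuotSh.quot Scheme.fppfPrecoverage s t) := AlgSpDesc.isAlgSpace_quot s t hrel
  have pres := QuotEff.isPresentation_qπ s t hrel hY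
  have hsleft : s.left = Sigma.desc (fun _ : H => 𝟙 V.left) := rfl
  have hfin : finLocFree s.left := by
    rw [hsleft]
    refine ⟨?_, ?_, ?_⟩
    · exact H9FE.isFinite_sigmaDesc (fun _ : H => V.left) (fun _ => 𝟙 V.left)
        (fun _ => inferInstance)
    · exact IsZariskiLocalAtSource.sigmaDesc (P := @Flat) (fun _ => inferInstance)
    · exact IsZariskiLocalAtSource.sigmaDesc (P := @LocallyOfFinitePresentation)
        (fun _ => inferInstance)
  have hflf : RepWith finLocFree (QuotEff.qπ s t) :=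
    FinLocFree.repWith_of_etale_cover finLocFree FinLocFree.finLocFree_le_isAffineHom
      (QuotEff.qπ s t) V (QuotEff.qπ s t) pres.etale pres.surjective ((yon S).map t)
      ((yon S).map s) pres.isPullback ((repWith_yon_map_iff finLocFree s).mpr hfin)
  obtain ⟨M, q, e, hM, hqe⟩ :=
    FinLocFreeQuot.exists_iso_yon_of_finLocFree_affine (QuotEff.qπ s t) hflf pres.surjective
  have hqet : Etale q.left := by
    have h1 : RepWith @Etale ((yon S).map q ≫ e.hom) := by rw [hqe]; exact pres.etale
    have h2 : RepWith @Etale (((yon S).map q ≫ e.hom) ≫ e.inv) :=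
      MorphismProperty.RespectsIso.postcomp _ e.inv _ h1
    rw [Category.assoc, Iso.hom_inv_id, Category.comp_id] at h2
    exact (repWith_yon_map_iff @Etale q).1 h2
  have hqsurj : Surjective q.left := by
    have h1 : RepWith @Surjective ((yon S).map q ≫ e.hom) := by rw [hqe]; exact pres.surjective
    have h2 : RepWith @Surjective (((yon S).map q ≫ e.hom) ≫ e.inv) :=
      MorphismProperty.RespectsIso.postcomp _ e.inv _ h1
    rw [Category.assoc, Iso.hom_inv_id, Category.comp_id] at h2
    exact (repWith_yon_map_iff @Surjective q).1 h2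
  refine ⟨M, q, hM, hqet, hqsurj, ?_, ?_, ?_⟩
  · intro h
    apply (yon S).map_injective
    rw [← cancel_mono e.hom, Functor.map_comp, Category.assoc, hqe]
    have h1 := QuotEff.qπ_condition s t
    have h2 := congrArg (fun φ => (yon S).map (c.inj h) ≫ φ) h1
    simp only [← Category.assoc, ← Functor.map_comp, hs, ht] at h2
    rw [CategoryTheory.Functor.map_id, Category.id_comp] at h2
    exact h2.symm
  · intro T l l' hll
    have hab : (yon S).map l' ≫ QuotEff.qπ s t = (yon S).map l ≫ QuotEff.qπ s t := by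
      rw [← hqe, ← Category.assoc, ← Category.assoc, ← Functor.map_comp, ← Functor.map_comp, hll]
    obtain ⟨r, hr1, hr2⟩ := QuotEff.rel_of_qπ_eq s t hrel.toIsEqvRel l' l hab
    obtain ⟨W, j, x, hj1, hj2, hj3⟩ := exists_pieces_sigmaOver (fun _ : H => V) r
    refine ⟨W, j, hj1, hj2, fun γ => ?_⟩
    have e1 : j γ ≫ l = x γ := by
      rw [← hr2, ← Category.assoc, ← hj3, Category.assoc]
      have := hs γ
      rw [show c.inj γ = sigmaOverι (fun _ : H => V) γ from rfl] at this
      rw [this, Category.comp_id]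
    rw [e1, ← hr1, ← Category.assoc, ← hj3, Category.assoc]
    have := ht γ
    rw [show c.inj γ = sigmaOverι (fun _ : H => V) γ from rfl] at this
    rw [this]
  · intro Z f hinv
    obtain ⟨aV, haV⟩ : ∃ aV : (yon S).obj V ⟶ (yon S).obj Z, aV = (yon S).map f := ⟨_, rfl⟩
    have hinv' : ∀ h, (yon S).map (ρ h).hom ≫ aV = aV := by
      intro h
      rw [haV, ← Functor.map_comp, hinv]
    have hst : (yon S).map s ≫ aV = (yon S).map t ≫ aV := by
      apply (FreeAct.isColimitYonCofan c hc).hom_ext
      rintro ⟨g⟩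
      show (yon S).map (c.inj g) ≫ (yon S).map s ≫ aV =
        (yon S).map (c.inj g) ≫ (yon S).map t ≫ aV
      rw [← Category.assoc, ← Category.assoc, ← Functor.map_comp, ← Functor.map_comp, hs, ht,
        CategoryTheory.Functor.map_id, Category.id_comp, hinv']
    let m : QuotSh.quot Scheme.fppfPrecoverage s t ⟶ (yon S).obj Z :=
      coequalizer.desc ((QuotSh.repIsoUliftYoneda Scheme.fppfPrecoverage V).hom ≫ aV) (by
        rw [← Category.assoc, ← Category.assoc, QuotEff.repMap_repIso, QuotEff.repMap_repIso,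
          Category.assoc, Category.assoc, hst])
    have hm : QuotEff.qπ s t ≫ m = aV := by
      show ((QuotSh.repIsoUliftYoneda Scheme.fppfPrecoverage V).inv ≫
        QuotSh.quotπ Scheme.fppfPrecoverage s t) ≫ m = aV
      rw [Category.assoc]
      show (QuotSh.repIsoUliftYoneda Scheme.fppfPrecoverage V).inv ≫
        coequalizer.π _ _ ≫ coequalizer.desc _ _ = aV
      rw [coequalizer.π_desc, Iso.inv_hom_id_assoc]
    obtain ⟨f', hf'⟩ := (yon S).map_surjective (e.hom ≫ m)
    refine ⟨f', ?_⟩
    apply (yon S).map_injective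
    rw [Functor.map_comp, hf', ← Category.assoc, hqe, hm, haV]

end Groth.Agent.Lead.ET
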