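import Mathlib
import Groth.Prelude.Def_AlgSt3
import Groth.Agent.Lib.Lead.ETa
import Groth.Agent.Lib.Lead.ETb
import Groth.Agent.Lib.Lead.ETc
import Groth.Agent.Lib.Lead.ETd
import Groth.Agent.Lib.Helper2.AlgSt.SmoothLocally
import Groth.Agent.Lib.Helper2.AlgSt.CompCover
import Groth.Agent.Lib.Helper2.AlgSt.LocQ.Tower

/-!
# Auxiliary lemmas for the chart theorem (lead)
-/

set_option backward.isDefEq.respectTransparency.types false
set_option autoImplicit false
set_option synthInstance.maxHeartbeats 400000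
set_option maxHeartbeats 1000000
set_option linter.style.haveILetI false
set_option linter.unusedSectionVars false
set_option linter.unusedSimpArgs false

open CategoryTheory CategoryTheory.Limits AlgebraicGeometry Opposite
open Groth.Agent.Helper2 Groth.Agent.Helper2.FibCatLib Groth.Agent.Helper2.StkLib
open Groth.Agent.Helper2.AlgStLib Groth.Agent.Lead.HFib

namespace Groth.Agent.Lead.ET
universe u
variable {S : Scheme.{u}}

section Thin2

variable {C : Type*} [Category C] {𝒳 : BasedCategory C}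

/-- In a category fibred in setoids, morphisms over an identity with equal sources and the same
target agree up to the transport. -/
theorem thin_eq (h : FibCat.IsFibSetoid 𝒳.p) {a a' b : 𝒳.obj} (e : a = a') (T : C)
    (φ : a ⟶ b) (ψ : a' ⟶ b) (hφ : 𝒳.p.IsHomLift (𝟙 T) φ) (hψ : 𝒳.p.IsHomLift (𝟙 T) ψ) :
    φ = eqToHom e ≫ ψ := by
  subst e
  rw [eqToHom_refl, Category.id_comp]
  exact eq_of_isFibSetoid h (𝟙 T) φ ψ

theorem isHomLift_id_comp {T : C} {a b c : 𝒳.obj} (φ : a ⟶ b) (ψ : b ⟶ c)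
    (hφ : 𝒳.p.IsHomLift (𝟙 T) φ) (hψ : 𝒳.p.IsHomLift (𝟙 T) ψ) :
    𝒳.p.IsHomLift (𝟙 T) (φ ≫ ψ) := by
  have : 𝒳.p.IsHomLift (𝟙 T ≫ 𝟙 T) (φ ≫ ψ) := inferInstance
  rwa [Category.comp_id] at this

end Thin2

section PtMap

variable {𝒲 : AlgSt.Cat S} (P : Pres 𝒲) {V : Over S}

/-- Points of the space followed by the map of sheaves of a functor to a slice. -/
theorem pt_spMapOfOver {T : Over S} (Φ : FibCat.overCat T ⥤ᵇ 𝒲) (Ψ : 𝒲 ⥤ᵇ FibCat.overCat V) :
    P.pt Φ ≫ AlgSt.spMapOfOver (BasedFunctor.comp P.e Ψ) =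
      AlgSt.spMapOfOver (BasedFunctor.comp (AlgSt.toOverCat T) (BasedFunctor.comp Φ Ψ)) := by
  have h1 := spMapOfOver_comp
    (BasedFunctor.comp (AlgSt.toOverCat T) (BasedFunctor.comp Φ P.G)) (BasedFunctor.comp P.e Ψ)
  have γ : BasedFunctor.comp (BasedFunctor.comp (AlgSt.toOverCat T) Φ)
      (BasedFunctor.comp (BasedFunctor.comp P.G P.e) Ψ) ⟶
      BasedFunctor.comp (BasedFunctor.comp (AlgSt.toOverCat T) Φ)
        (BasedFunctor.comp (BasedFunctor.id 𝒲) Ψ) :=
    BasedCategory.whiskerLeft (BasedFunctor.comp (AlgSt.toOverCat T) Φ)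
      (BasedCategory.whiskerRight P.η₂.hom Ψ)
  have h2 := spMapOfOver_congr γ
  exact h1.symm.trans h2

theorem spMapOfOver_two_overMap {T T₁ : Over S} (f : T ⟶ T₁) (g : T₁ ⟶ V) :
    AlgSt.spMapOfOver (BasedFunctor.comp (AlgSt.toOverCat T)
      (BasedFunctor.comp (AlgSt.overMap f) (AlgSt.overMap g))) = (AlgSp.yon S).map (f ≫ g) := by
  rw [← spMapOfOver_toOverCat_overMap (f ≫ g)]
  exact spMapOfOver_congr (BasedCategory.whiskerLeft (AlgSt.toOverCat T) (ovTri f g _ rfl).hom)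

end PtMap

end Groth.Agent.Lead.ET
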