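import Mathlib
import Groth.Prelude.Def_AlgSt3
import Groth.Agent.Lib.Lead.ETa
import Groth.Agent.Lib.Lead.ETb
import Groth.Agent.Lib.Lead.ETc
import Groth.Agent.Lib.Lead.ETd
import Groth.Agent.Lib.Lead.ETe
import Groth.Agent.Lib.Lead.ETf
import Groth.Agent.Lib.Lead.ETg
import Groth.Agent.Lib.Lead.HFibF
import Groth.Agent.Lib.Helper8.TorsDesc
import Groth.Agent.S12765

/-!
# Smooth affine charts of an algebraic stack through a field valued point (lead)
-/

set_option backward.isDefEq.respectTransparency.types false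
set_option autoImplicit false
set_option synthInstance.maxHeartbeats 400000
set_option maxHeartbeats 1000000
set_option linter.style.haveILetI false
set_option linter.unusedSectionVars false
set_option linter.unusedSimpArgs false

open CategoryTheory CategoryTheory.Limits AlgebraicGeometry Opposite
open Groth.Agent.Helper2 Groth.Agent.Helper2.FibCatLib Groth.Agent.Helper2.StkLib
open Groth.Agent.Helper2.AlgStLib Groth.Agent.Helper2.AlgSpBasic Groth.Agent.Lead.HFib
open Groth.Agent.TorsDescSpec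

namespace Groth.Agent.Lead.ET
universe u
variable {S : Scheme.{u}}

section Core

variable (K₀ : Precoverage Scheme.{u}) {𝒵 : AlgSt.Cat S}
  (h𝒵 : Stk.IsStack (QuotSh.J K₀ S) 𝒵)
  (hdiag : AlgSt.RepByAlgSp1 (FibCat.diag (FibCat.toSelf 𝒵)))
  (hZ : ZarLE K₀ S)
  (hcov : ∀ {E Y : Over S} (q : E ⟶ Y), Etale q.left → Surjective q.left →
    Sieve.generate (Presieve.singleton q) ∈ QuotSh.J K₀ S Y)
  {V : Over S} (a : FibCat.overCat V ⥤ᵇ 𝒵) (ha : AlgSt.RepByAlgSpWith (AlgSp.LocP @Smooth) a)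
  {k : Type u} [Field k] (sk : Spec (CommRingCat.of k) ⟶ S)
  (x : FibCat.overCat (Over.mk sk) ⥤ᵇ 𝒵)
  (K : Type u) [Field K] [Algebra k K] [FiniteDimensional k K] [IsGalois k K]
  (v' : spK sk K ⟶ V)
  (θ₀ : BasedFunctor.comp (AlgSt.overMap v') a ≅ BasedFunctor.comp (AlgSt.overMap (piK sk K)) x)
  (hfaith : ∀ h : K ≃ₐ[k] K, phi sk h ≫ v' = v' → h = 1)

include h𝒵 ha hfaith in
/-- First half: the equivariant affine free chart of the fibre power. -/
theorem exists_equivariant_chart :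
    ∃ (P : Pres (W a (K ≃ₐ[k] K))) (E : Over S) (_ : IsAffine E.left)
      (ρ : (K ≃ₐ[k] K) →* Aut E) (ω : (AlgSp.yon S).obj E ⟶ P.F.obj) (e : spK sk K ⟶ E),
      AlgSp.RepWith @Etale ω ∧
      (∀ h, (AlgSp.yon S).map (ρ h).hom ≫ ω = ω ≫ Rr a P h) ∧
      (AlgSp.yon S).map e ≫ ω = P.pt (wF sk a x v' θ₀) ∧
      (∀ h, phi sk h ≫ e = e ≫ (ρ h⁻¹).hom) ∧
      ∀ (g : K ≃ₐ[k] K) (y : E.left), g ≠ 1 →
        E.left.fromSpecResidueField y ≫ (ρ g).hom.left ≠ E.left.fromSpecResidueField y := by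
  classical
  let Γ := K ≃ₐ[k] K
  haveI : Fintype Γ := inferInstanceAs (Fintype (K ≃ₐ[k] K))
  have hfib : FibCat.IsFibGrpd 𝒵.p := h𝒵.1
  obtain ⟨hWfib, hprz, hWrep⟩ := main a hfib ha Γ
  have hrep := hWrep ⟨1⟩
  obtain ⟨P⟩ := nonempty_pres hrep
  let R := Rr a P
  let wbar := P.pt (wF sk a x v' θ₀)
  have hwbar : ∀ δ : Γ, (AlgSp.yon S).map (phi sk δ⁻¹) ≫ wbar = wbar ≫ R δ := by
    intro δ
    show _ = P.pt _ ≫ P.edo _
    rw [← P.pt_overMap, ← P.pt_edo]
    exact P.pt_congr (wFEquiv sk a x v' θ₀ δ).hom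
  obtain ⟨U₀, c₀, u₀, hU₀aff, hc₀, hu₀⟩ :=
    exists_affine_chart_of_field P.F.property
      (Spec.map (CommRingCat.ofHom (algebraMap k K)) ≫ sk) wbar
  obtain ⟨E', pr, hE'⟩ := exists_isFibProd P.F.property.diag (fun g : Γ => c₀ ≫ R g)
    (Finset.univ : Finset Γ) ⟨1, Finset.mem_univ _⟩
  have hRmul : ∀ g h : Γ, R (g * h) = R h ≫ R g := Rr_mul a P
  have hRone : R 1 = 𝟙 _ := Rr_one a P
  obtain ⟨ρ', hρ'⟩ := exists_action R hRmul c₀ hE'
  have hu : ∀ δ : Γ, (AlgSp.yon S).map (phi sk δ⁻¹) ≫ (AlgSp.yon S).map u₀ ≫ c₀ =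
      ((AlgSp.yon S).map u₀ ≫ c₀) ≫ R δ := by
    intro δ
    exact (congrArg (fun m => (AlgSp.yon S).map (phi sk δ⁻¹) ≫ m) hu₀).trans
      ((hwbar δ).trans (congrArg (fun m => m ≫ R δ) hu₀.symm))
  obtain ⟨e', he'pr, he'eq, he'ω⟩ := exists_point R hRmul hRone c₀ hE' ρ' hρ' (phi sk)
    (phi_mul sk) (phi_one sk) u₀ hu
  haveI : Subsingleton (Spec (CommRingCat.of K)) :=
    inferInstanceAs (Subsingleton (PrimeSpectrum K))
  haveI : Nonempty (Spec (CommRingCat.of K)) := inferInstanceAs (Nonempty (PrimeSpectrum K))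
  let pt : Spec (CommRingCat.of K) := Classical.arbitrary _
  let wl : Spec (CommRingCat.of K) ⟶ E'.left := e'.left
  let w0 : E'.left := wl pt
  have hweq' : ∀ h : Γ, e' ≫ (ρ' h).hom = phi sk h⁻¹ ≫ e' := by
    intro h
    have := he'eq h⁻¹
    rw [inv_inv] at this
    exact this.symm
  have hfix : ∀ h : Γ, (ρ' h).hom.left w0 = w0 := by
    intro h
    let φl : Spec (CommRingCat.of K) ⟶ Spec (CommRingCat.of K) := (phi sk h⁻¹).left
    have e1 : wl ≫ (ρ' h).hom.left = φl ≫ wl :=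
      congrArg (fun m => m.left) (hweq' h)
    show (ρ' h).hom.left (wl pt) = wl pt
    rw [← Scheme.Hom.comp_apply, e1, Scheme.Hom.comp_apply]
    congr 1
    exact Subsingleton.elim _ _
  have e7 : wbar ≫ AlgSt.spMapOfOver (BasedFunctor.comp P.e (Groth.Agent.Lead.ET.pr a Γ 1)) =
      (AlgSp.yon S).map v' := by
    have h1 := (pt_spMapOfOver P (wF sk a x v' θ₀) (Groth.Agent.Lead.ET.pr a Γ 1)).trans
      (spMapOfOver_two_overMap (phi sk 1) v')
    rw [phi_one, Category.id_comp] at h1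
    exact h1
  have hfree0 : ∀ h : Γ, h ≠ 1 →
      E'.left.fromSpecResidueField w0 ≫ (ρ' h).hom.left ≠ E'.left.fromSpecResidueField w0 := by
    intro h hh e
    apply hh
    have hfac := Scheme.Hom.SpecMap_residueFieldMap_fromSpecResidueField wl pt
    have hepi : Epi ((Spec (CommRingCat.of K)).fromSpecResidueField pt) := by
      rw [← Spec.map_preimage ((Spec (CommRingCat.of K)).fromSpecResidueField pt)]
      exact Groth.Agent.Helper2.FreeAct.epi_spec_map_field (Field.toIsField K)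
        (Field.toIsField _) _
    have e2 : wl ≫ (ρ' h).hom.left = wl := by
      rw [← cancel_epi ((Spec (CommRingCat.of K)).fromSpecResidueField pt), ← Category.assoc,
        ← hfac, Category.assoc, e]
    have e3 : e' ≫ (ρ' h).hom = e' := by
      ext
      exact e2
    have e4 : phi sk h⁻¹ ≫ e' = e' := by rw [← hweq' h, e3]
    have e5 : phi sk h⁻¹ ≫ u₀ = u₀ := by
      have h1 := congrArg (fun m => m ≫ pr 1) e4
      simp only [Category.assoc, he'pr, phi_one, Category.id_comp] at h1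
      exact h1
    have e6' : (AlgSp.yon S).map (phi sk h⁻¹) ≫ ((AlgSp.yon S).map u₀ ≫ c₀) =
        (AlgSp.yon S).map u₀ ≫ c₀ :=
      (Category.assoc _ _ _).symm.trans (congrArg (fun m => m ≫ c₀)
        (((AlgSp.yon S).map_comp _ _).symm.trans (congrArg (fun m => (AlgSp.yon S).map m) e5)))
    have e6 : (AlgSp.yon S).map (phi sk h⁻¹) ≫ wbar = wbar :=
      (congrArg (fun m => (AlgSp.yon S).map (phi sk h⁻¹) ≫ m) hu₀.symm).trans (e6'.trans hu₀)
    have e8 : phi sk h⁻¹ ≫ v' = v' := by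
      apply (AlgSp.yon S).map_injective
      rw [Functor.map_comp, ← e7, ← Category.assoc, e6]
    exact inv_eq_one.1 (hfaith _ e8)
  obtain ⟨E, j, ρ, hEaff, hjo, hje, hw0j, hfreeE⟩ := exists_free_affine ρ' w0 hfix hfree0
  haveI := hEaff
  haveI := hjo
  have hRiso : ∀ g : Γ, IsIso (R g) := fun g =>
    ⟨R g⁻¹, by rw [← hRmul, inv_mul_cancel, hRone], by rw [← hRmul, mul_inv_cancel, hRone]⟩
  have hae : ∀ g : Γ, AlgSp.RepWith @Etale (c₀ ≫ R g) := fun g => by
    haveI := hRiso g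
    exact MorphismProperty.RespectsIso.postcomp _ (R g) _ hc₀
  let X : (AlgSp.yon S).obj E' ⟶ P.F.obj := (AlgSp.yon S).map (pr 1) ≫ c₀ ≫ R 1
  let aE : (AlgSp.yon S).obj E ⟶ P.F.obj := (AlgSp.yon S).map j ≫ X
  have haE : AlgSp.RepWith @Etale aE := by
    have h1 : Etale j.left := inferInstance
    have h2 : Etale (pr 1).left := hE'.etale hae 1 (Finset.mem_univ _)
    exact repWith_comp @Etale ((AlgSp.repWith_yon_map_iff @Etale _).mpr h1)
      (repWith_comp @Etale ((AlgSp.repWith_yon_map_iff @Etale _).mpr h2) (hae 1))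
  have haEeq : ∀ h, (AlgSp.yon S).map (ρ h).hom ≫ aE = aE ≫ R h := by
    intro h
    show (AlgSp.yon S).map (ρ h).hom ≫ (AlgSp.yon S).map j ≫ X = ((AlgSp.yon S).map j ≫ X) ≫ R h
    rw [← Category.assoc, ← Functor.map_comp, hje, Functor.map_comp, Category.assoc,
      Category.assoc]
    congr 1
    exact omega_equivariant R hRmul c₀ hE' ρ' hρ' h
  have hrange : Set.range wl ⊆ Set.range j.left := by
    rintro _ ⟨y, rfl⟩
    rw [Subsingleton.elim y pt]
    exact hw0j
  let eE : spK sk K ⟶ E := Over.homMk (IsOpenImmersion.lift j.left wl hrange) (by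
    have h1 : j.left ≫ E'.hom = E.hom := Over.w j
    rw [← h1, ← Category.assoc, IsOpenImmersion.lift_fac]
    exact Over.w e')
  have heE : eE ≫ j = e' := by
    ext
    exact IsOpenImmersion.lift_fac _ _ _
  have hjmono : ∀ {T : Over S} (l l' : T ⟶ E), l ≫ j = l' ≫ j → l = l' := by
    intro T l l' e
    ext
    have e' := congrArg (fun m => m.left) e
    simp only [Over.comp_left] at e'
    exact (cancel_mono j.left).1 e'
  have heEeq : ∀ h : Γ, phi sk h ≫ eE = eE ≫ (ρ h⁻¹).hom := by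
    intro h
    apply hjmono
    rw [Category.assoc, heE, Category.assoc, hje, ← Category.assoc, heE, he'eq h]
  refine ⟨P, E, hEaff, ρ, aE, eE, haE, haEeq, ?_, heEeq, hfreeE⟩
  show (AlgSp.yon S).map eE ≫ (AlgSp.yon S).map j ≫ X = wbar
  rw [← Category.assoc, ← Functor.map_comp, heE]
  exact he'ω.trans hu₀

end Core

end Groth.Agent.Lead.ET
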