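import Mathlib
import Groth.Prelude.Def_AlgSt3
import Groth.Agent.Lib.Lead.ETh
import Groth.Agent.Lib.Helper2.AlgSt.CompCover
import Groth.Agent.Lib.Helper2.AlgSt.LocQ.Props
import Groth.Agent.Lib.Helper2.AlgSp.Source
import Groth.Agent.Lib.Helper2.AlgSt.SmoothLocally

/-!
# Smooth affine charts of an algebraic stack through a field valued point, II (lead)
-/

set_option backward.isDefEq.respectTransparency.types false
set_option autoImplicit false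
set_option synthInstance.maxHeartbeats 400000
set_option maxHeartbeats 1000000
set_option linter.style.haveILetI false
set_option linter.unusedSectionVars false
set_option linter.unusedSimpArgs false

open CategoryTheory CategoryTheory.Limits AlgebraicGeometry Opposite
open Groth.Agent.Helper2 Groth.Agent.Helper2.FibCatLib Groth.Agent.Helper2.StkLib
open Groth.Agent.Helper2.AlgStLib Groth.Agent.Helper2.AlgSpBasic Groth.Agent.Lead.HFib
open Groth.Agent.TorsDescSpec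

namespace Groth.Agent.Lead.ET
universe u
variable {S : Scheme.{u}}

section SmDesc

variable {𝒵 : AlgSt.Cat S}

/-- Smoothness of a chart may be tested after an etale surjective change of the chart. -/
theorem sm_of_overMap_etale_surjective (hfib : FibCat.IsFibGrpd 𝒵.p) {E Y : Over S} (q : E ⟶ Y)
    (hqet : Etale q.left) (hqs : Surjective q.left) (p : FibCat.overCat Y ⥤ᵇ 𝒵)
    (hp1 : AlgSt.RepByAlgSp1 p)
    (h : AlgSt.RepByAlgSpWith (AlgSp.LocP @Smooth) (BasedFunctor.comp (AlgSt.overMap q) p)) :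
    AlgSt.RepByAlgSpWith (AlgSp.LocP @Smooth) p := by
  have hx : AlgSt.RepByAlgSpWith (AlgSp.LocP @Etale ⊓ AlgSp.IsSurjectiveMor) (AlgSt.overMap q) :=
    (repByAlgSpWith_inf_iff _ _ (respectsIsoSp_of_stableBC stableBC_isSurjectiveMor) _).2
      ⟨LocQ.repByAlgSpWith_overMap_of_prop (AlgSp.LocP @Etale) (stableBC_locP @Etale) q
        ((LocQ.locP_yon_map_iff @Etale q).2 hqet), LocQ.sj_overMap q⟩
  refine repByAlgSpWith_of_comp_cover (isFibGrpd_overCat E) (isFibGrpd_overCat Y)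
    (AlgSp.LocP @Smooth) (stableBC_locP @Smooth)
    (AlgSp.LocP @Etale ⊓ AlgSp.IsSurjectiveMor)
    (stableBC_inf (stableBC_locP @Etale) stableBC_isSurjectiveMor)
    (atlasLocal_inf (atlasLocal_of_fppf (LocQ.isLocalOnBase_fppf_locP @Etale))
      (atlasLocal_of_fppf isLocalOnBase_fppf_isSurjectiveMor))
    ?_ (AlgSt.overMap q) p hp1 hx h
  intro X Y' Z hX hY hZ a b ha hab
  exact ((isLocalOnSource_et_locP @Smooth) (fun _ : PUnit.{u + 1} => X) (fun _ => a) hY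
    (fun _ => hX)
    ⟨fun _ => (isEtaleMor_iff_locP_etale hX hY a).2 ha.1, fun p => ⟨PUnit.unit, ha.2 p⟩⟩ b hZ).2
    (fun _ => hab)

end SmDesc

section Gal

variable {k : Type u} [Field k] (sk : Spec (CommRingCat.of k) ⟶ S)
  (K : Type u) [Field K] [Algebra k K] [FiniteDimensional k K] [IsGalois k K]

/-- A Galois invariant point descends to the ground field. -/
theorem exists_descend_top {U : Over S} (w : spK sk K ⟶ U)
    (hw : ∀ h : K ≃ₐ[k] K, phi sk h ≫ w = w) : ∃ u : Over.mk sk ⟶ U, piK sk K ≫ u = w := by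
  obtain ⟨u', hu'⟩ := exists_descend sk (⊤ : Subgroup (K ≃ₐ[k] K)) w (fun h _ => hw h)
  let K' := IntermediateField.fixedField (⊤ : Subgroup (K ≃ₐ[k] K))
  have hK' : K' = ⊥ := IsGalois.fixedField_top
  let b : K' →ₐ[k] k := (IntermediateField.botEquiv k K).toAlgHom.comp
    (IntermediateField.inclusion (le_of_eq hK'))
  have hb : ∀ x : K', algebraMap k K' (b x) = x := by
    intro x
    apply b.toRingHom.injective
    show b (algebraMap k K' (b x)) = b x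
    rw [b.commutes]
    rfl
  let ek : Over.mk sk ⟶ spK sk K' := Over.homMk (Spec.map (CommRingCat.ofHom b.toRingHom)) (by
    show Spec.map (CommRingCat.ofHom b.toRingHom) ≫
      Spec.map (CommRingCat.ofHom (algebraMap k K')) ≫ sk = sk
    rw [← Category.assoc, ← Spec.map_comp]
    have : CommRingCat.ofHom (algebraMap k K') ≫ CommRingCat.ofHom b.toRingHom =
        𝟙 (CommRingCat.of k) := by
      apply CommRingCat.hom_ext
      apply RingHom.ext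
      intro x
      exact b.commutes x
    rw [this, Spec.map_id, Category.id_comp])
  have hek : piK sk K ≫ ek = spMap sk (K'.val : K' →ₐ[k] K) := by
    ext
    show Spec.map (CommRingCat.ofHom (algebraMap k K)) ≫
      Spec.map (CommRingCat.ofHom b.toRingHom) =
        Spec.map (CommRingCat.ofHom (K'.val : K' →ₐ[k] K).toRingHom)
    rw [← Spec.map_comp]
    congr 1
    apply CommRingCat.hom_ext
    apply RingHom.ext
    intro x
    show algebraMap k K (b x) = (x : K)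
    conv_rhs => rw [← hb x]
    rfl
  refine ⟨ek ≫ u', ?_⟩
  rw [← Category.assoc, hek, hu']

/-- The action of the Galois group on `Spec K`. -/
noncomputable def rhoK : (K ≃ₐ[k] K) →* Aut (spK sk K) where
  toFun γ := ⟨phi sk γ⁻¹, phi sk γ, by rw [← phi_mul, inv_mul_cancel, phi_one],
    by rw [← phi_mul, mul_inv_cancel, phi_one]⟩
  map_one' := by
    apply Iso.ext
    show phi sk (1 : K ≃ₐ[k] K)⁻¹ = 𝟙 _
    rw [inv_one, phi_one]
  map_mul' γ δ := by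
    apply Iso.ext
    show phi sk (γ * δ)⁻¹ = phi sk δ⁻¹ ≫ phi sk γ⁻¹
    rw [mul_inv_rev, phi_mul]

theorem rhoK_hom (γ : K ≃ₐ[k] K) : (rhoK sk K γ).hom = phi sk γ⁻¹ := rfl

instance : IsAffine (spK sk K).left := inferInstanceAs (IsAffine (Spec (CommRingCat.of K)))

theorem rhoK_free (g : K ≃ₐ[k] K) (y : (spK sk K).left) (hg : g ≠ 1) :
    (spK sk K).left.fromSpecResidueField y ≫ (rhoK sk K g).hom.left ≠
      (spK sk K).left.fromSpecResidueField y := by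
  intro e
  apply hg
  have hepi : Epi ((Spec (CommRingCat.of K)).fromSpecResidueField y) := by
    rw [← Spec.map_preimage ((Spec (CommRingCat.of K)).fromSpecResidueField y)]
    exact Groth.Agent.Helper2.FreeAct.epi_spec_map_field (Field.toIsField K)
      (Field.toIsField _) _
  let φl : Spec (CommRingCat.of K) ⟶ Spec (CommRingCat.of K) := (phi sk g⁻¹).left
  have e0 : (Spec (CommRingCat.of K)).fromSpecResidueField y ≫ φl =
      (Spec (CommRingCat.of K)).fromSpecResidueField y ≫ 𝟙 _ := e.trans (Category.comp_id _).symm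
  have e1 : φl = 𝟙 (Spec (CommRingCat.of K)) := (cancel_epi _).1 e0
  have e2 : Spec.map (CommRingCat.ofHom ((g⁻¹ : K ≃ₐ[k] K) : K →ₐ[k] K).toRingHom) =
      Spec.map (𝟙 (CommRingCat.of K)) := by
    rw [Spec.map_id]
    exact e1
  have e3 := Spec.map_injective e2
  have e4 : g⁻¹ = 1 := by
    ext z
    exact congrArg (fun φ => φ.hom z) e3
  exact inv_eq_one.1 e4

/-- Effectivity of the Galois action on `Spec K` over `Spec k`. -/
theorem galois_heff {T : Over S} (l l' : T ⟶ spK sk K) (hll : l ≫ piK sk K = l' ≫ piK sk K) :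
    ∃ (W : (K ≃ₐ[k] K) → Over S) (j : ∀ γ, W γ ⟶ T), (∀ γ, IsOpenImmersion (j γ).left) ∧
      (∀ x : T.left, ∃ γ, x ∈ Set.range (j γ).left) ∧
      ∀ γ, j γ ≫ l' = (j γ ≫ l) ≫ (rhoK sk K γ).hom := by
  obtain ⟨M, qK, -, -, -, hqKinv, heffK, -⟩ := exists_quotient (rhoK sk K) (rhoK_free sk K)
  obtain ⟨s, hs⟩ := exists_descend_top sk K qK (fun h => by
    have := hqKinv h⁻¹
    rw [rhoK_hom, inv_inv] at this
    exact this)
  apply heffK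
  rw [← hs, ← Category.assoc, hll, Category.assoc]

end Gal

section Lam

variable {𝒵 : AlgSt.Cat S} {V : Over S} (a : FibCat.overCat V ⥤ᵇ 𝒵) {Γ : Type u} [Group Γ]
  {E : Over S} (ρ : Γ →* Aut E) (Ξ : FibCat.overCat E ⥤ᵇ W a Γ)
  (ν : ∀ γ : Γ, BasedFunctor.comp (AlgSt.overMap (ρ γ).hom) Ξ ≅ BasedFunctor.comp Ξ (act a γ))

theorem isHomLift_map_eqToHom {𝒳 : AlgSt.Cat S} {B : Over S} (H : FibCat.overCat B ⥤ᵇ 𝒳)
    {T : Over S} {l₁ l₂ : T ⟶ B} (h : l₁ = l₂) (h' : Over.mk l₁ = Over.mk l₂) :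
    𝒳.p.IsHomLift (𝟙 T) (H.map (eqToHom h')) := by
  subst h
  have h1 := isHomLift_map_over B H (𝟙 (Over.mk l₁))
  rw [eqToHom_refl]
  exact h1

theorem eqToHom_φ {I : Type u} {X Y : WObj a I} (e : X = Y) :
    WHom.φ (eqToHom e) = eqToHom (congrArg WObj.z e) := by
  subst e
  rfl

/-- The descent datum induced on the composite with the projection to the stack. -/
noncomputable def Lam {T : Over S} (l : T ⟶ E) (γ : Γ) :
    (BasedFunctor.comp Ξ (prz a Γ)).obj (Over.mk l) ⟶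
      (BasedFunctor.comp Ξ (prz a Γ)).obj (Over.mk (l ≫ (ρ γ).hom)) :=
  show (prz a Γ).obj ((BasedFunctor.comp Ξ (act a γ)).obj (Over.mk l)) ⟶
    (prz a Γ).obj ((BasedFunctor.comp (AlgSt.overMap (ρ γ).hom) Ξ).obj (Over.mk l)) from
    (prz a Γ).map ((ν γ).inv.toNatTrans.app (Over.mk l))

theorem Lam_lift {T : Over S} (l : T ⟶ E) (γ : Γ) :
    𝒵.p.IsHomLift (𝟙 T) (Lam a ρ Ξ ν l γ) := by
  have h1 : (W a Γ).p.IsHomLift (𝟙 T) ((ν γ).inv.toNatTrans.app (Over.mk l)) :=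
    (ν γ).inv.isHomLift' (Over.mk l)
  exact (BasedFunctor.isHomLift_iff (prz a Γ) _ _).2 h1

theorem Lam_nat {T' T : Over S} (g : T' ⟶ T) (l : T ⟶ E) (γ : Γ) :
    (BasedFunctor.comp Ξ (prz a Γ)).map (Over.homMk g rfl : Over.mk (g ≫ l) ⟶ Over.mk l) ≫
        Lam a ρ Ξ ν l γ =
      Lam a ρ Ξ ν (g ≫ l) γ ≫
        (BasedFunctor.comp Ξ (prz a Γ)).map (Over.homMk g (Category.assoc _ _ _).symm :
          Over.mk ((g ≫ l) ≫ (ρ γ).hom) ⟶ Over.mk (l ≫ (ρ γ).hom)) := by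
  have hn := (ν γ).inv.toNatTrans.naturality (Over.homMk g rfl : Over.mk (g ≫ l) ⟶ Over.mk l)
  have h1 := congrArg WHom.φ hn
  have h2 : (AlgSt.overMap (ρ γ).hom).map (Over.homMk g rfl : Over.mk (g ≫ l) ⟶ Over.mk l) =
      (Over.homMk g (Category.assoc _ _ _).symm :
        Over.mk ((g ≫ l) ≫ (ρ γ).hom) ⟶ Over.mk (l ≫ (ρ γ).hom)) := by
    apply Over.OverMorphism.ext
    rfl
  rw [← h2]
  exact h1

theorem Lam_mul (hthin : FibCat.IsFibSetoid (W a Γ).p) {T : Over S} (l : T ⟶ E) (γ δ : Γ) :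
    Lam a ρ Ξ ν l δ ≫ Lam a ρ Ξ ν (l ≫ (ρ δ).hom) γ =
      Lam a ρ Ξ ν l (γ * δ) ≫ (BasedFunctor.comp Ξ (prz a Γ)).map (eqToHom (by
          rw [Groth.Agent.Helper2.FreeAct.act_mul, Category.assoc]) :
          Over.mk (l ≫ (ρ (γ * δ)).hom) ⟶ Over.mk ((l ≫ (ρ δ).hom) ≫ (ρ γ).hom)) := by
  let A := (ν δ).inv.toNatTrans.app (Over.mk l)
  let B := (ν γ).inv.toNatTrans.app (Over.mk (l ≫ (ρ δ).hom))
  let C := (ν (γ * δ)).inv.toNatTrans.app (Over.mk l)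
  have hA : (W a Γ).p.IsHomLift (𝟙 T) A := (ν δ).inv.isHomLift' (Over.mk l)
  have hB : (W a Γ).p.IsHomLift (𝟙 T) B := (ν γ).inv.isHomLift' (Over.mk (l ≫ (ρ δ).hom))
  have hC : (W a Γ).p.IsHomLift (𝟙 T) C := (ν (γ * δ)).inv.isHomLift' (Over.mk l)
  have hA' : (W a Γ).p.IsHomLift (𝟙 T) ((act a γ).map A) :=
    (BasedFunctor.isHomLift_iff (act a γ) _ _).2 hA
  have hl : l ≫ (ρ (γ * δ)).hom = (l ≫ (ρ δ).hom) ≫ (ρ γ).hom := by
    rw [Groth.Agent.Helper2.FreeAct.act_mul, Category.assoc]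
  have hmk : Over.mk (l ≫ (ρ (γ * δ)).hom) = Over.mk ((l ≫ (ρ δ).hom) ≫ (ρ γ).hom) := by rw [hl]
  have hD : (W a Γ).p.IsHomLift (𝟙 T) (Ξ.map (eqToHom hmk)) :=
    isHomLift_map_eqToHom Ξ hl hmk
  have e : (act a (γ * δ)).obj (Ξ.obj (Over.mk l)) =
      (act a γ).obj ((act a δ).obj (Ξ.obj (Over.mk l))) := by
    rw [act_mul]
    rfl
  have key := thin_eq hthin e T (C ≫ Ξ.map (eqToHom hmk)) ((act a γ).map A ≫ B)
    (isHomLift_id_comp _ _ hC hD) (isHomLift_id_comp _ _ hA' hB)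
  have h1 := congrArg WHom.φ key
  have h2 : WHom.φ (eqToHom e) = 𝟙 (Ξ.obj (Over.mk l)).z :=
    (eqToHom_φ a e).trans (eqToHom_refl _ _)
  have h3 : WHom.φ (eqToHom e ≫ ((act a γ).map A ≫ B)) =
      WHom.φ (eqToHom e) ≫ (Lam a ρ Ξ ν l δ ≫ Lam a ρ Ξ ν (l ≫ (ρ δ).hom) γ) := rfl
  have h4 : WHom.φ (C ≫ Ξ.map (eqToHom hmk)) = Lam a ρ Ξ ν l (γ * δ) ≫
      (BasedFunctor.comp Ξ (prz a Γ)).map (eqToHom hmk) := rfl
  have h5 := h4.symm.trans (h1.trans (h3.trans (congrArg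
    (fun m => m ≫ (Lam a ρ Ξ ν l δ ≫ Lam a ρ Ξ ν (l ≫ (ρ δ).hom) γ)) h2)))
  exact ((Category.id_comp _).symm.trans h5.symm)

end Lam

section Kappa

variable {𝒵 : AlgSt.Cat S} {V : Over S} (a : FibCat.overCat V ⥤ᵇ 𝒵)
  {k : Type u} [Field k] (sk : Spec (CommRingCat.of k) ⟶ S)
  (x : FibCat.overCat (Over.mk sk) ⥤ᵇ 𝒵)
  (K : Type u) [Field K] [Algebra k K] [FiniteDimensional k K] [IsGalois k K]
  (v' : spK sk K ⟶ V)
  (θ₀ : BasedFunctor.comp (AlgSt.overMap v') a ≅ BasedFunctor.comp (AlgSt.overMap (piK sk K)) x)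
  {E Y : Over S} (ρ : (K ≃ₐ[k] K) →* Aut E) (q : E ⟶ Y) (e : spK sk K ⟶ E)
  (u : Over.mk sk ⟶ Y) (hu : piK sk K ≫ u = e ≫ q)
  (Ξ : FibCat.overCat E ⥤ᵇ W a (K ≃ₐ[k] K))
  (ν : ∀ γ : K ≃ₐ[k] K, BasedFunctor.comp (AlgSt.overMap (ρ γ).hom) Ξ ≅
    BasedFunctor.comp Ξ (act a γ))
  (p : FibCat.overCat Y ⥤ᵇ 𝒵)
  (ι : BasedFunctor.comp (AlgSt.overMap q) p ≅ BasedFunctor.comp Ξ (prz a (K ≃ₐ[k] K)))
  (iW : BasedFunctor.comp (AlgSt.overMap e) Ξ ≅ wF sk a x v' θ₀)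

/-- The canonical comparison of the two composite restrictions. -/
noncomputable def c1Iso : BasedFunctor.comp (AlgSt.overMap (piK sk K)) (AlgSt.overMap u) ≅
    BasedFunctor.comp (AlgSt.overMap e) (AlgSt.overMap q) :=
  ovTri (piK sk K) u (e ≫ q) hu ≪≫ (ovTri e q (e ≫ q) rfl).symm

theorem c1Iso_hom_left (t : (FibCat.overCat (spK sk K)).obj) :
    ((c1Iso sk K q e u hu).hom.toNatTrans.app t).left = 𝟙 (t : Over (spK sk K)).left :=
  Category.comp_id _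

/-- The isomorphism between the restrictions to `Spec K` of the descended chart at the descended
point and of the given point. -/
noncomputable def kapK :
    BasedFunctor.comp (AlgSt.overMap (piK sk K)) (BasedFunctor.comp (AlgSt.overMap u) p) ≅
      BasedFunctor.comp (AlgSt.overMap (piK sk K)) x :=
  (postF _ p).mapIso (c1Iso sk K q e u hu) ≪≫ whiskerLeftIso (AlgSt.overMap e) ι ≪≫
    (postF _ (prz a (K ≃ₐ[k] K))).mapIso iW

theorem kapK_app (t : (FibCat.overCat (spK sk K)).obj) :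
    (kapK a sk x K v' θ₀ q e u hu Ξ p ι iW).hom.toNatTrans.app t =
      p.map ((c1Iso sk K q e u hu).hom.toNatTrans.app t) ≫
        ι.hom.toNatTrans.app ((AlgSt.overMap e).obj t) ≫
          (prz a (K ≃ₐ[k] K)).map (iW.hom.toNatTrans.app t) := rfl

theorem kappa_chase {D : Type*} [Category D] {X0 X1 X2 X3 X4 X5 X6 X7 X8 X9 : D}
    (F1 : X0 ⟶ X1) (I1 : X1 ⟶ X2) (W1 : X2 ⟶ X3) (E1 : X3 ⟶ X4)
    (L : X2 ⟶ X5) (C2 : X5 ⟶ X6) (Wγ : X6 ⟶ X4) (Cc : X4 ⟶ X3)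
    (E3 : X1 ⟶ X7) (I2 : X7 ⟶ X5) (Q2 : X7 ⟶ X8) (I3 : X8 ⟶ X6)
    (XE : X0 ⟶ X9) (Fγ : X9 ⟶ X8)
    (hT1 : L ≫ C2 ≫ Wγ ≫ Cc = W1) (hι : I1 ≫ L = E3 ≫ I2) (hnat : Q2 ≫ I3 = I2 ≫ C2)
    (hfin : F1 ≫ E3 ≫ Q2 = XE ≫ Fγ) (hCE : Cc ≫ E1 = 𝟙 _) :
    (F1 ≫ I1 ≫ W1) ≫ E1 = XE ≫ (Fγ ≫ I3 ≫ Wγ) := by
  subst hT1
  calc (F1 ≫ I1 ≫ L ≫ C2 ≫ Wγ ≫ Cc) ≫ E1
      = F1 ≫ (I1 ≫ L) ≫ C2 ≫ Wγ ≫ (Cc ≫ E1) := by simp only [Category.assoc]
    _ = F1 ≫ (E3 ≫ I2) ≫ C2 ≫ Wγ := by rw [hι, hCE, Category.comp_id]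
    _ = F1 ≫ E3 ≫ (I2 ≫ C2) ≫ Wγ := by simp only [Category.assoc]
    _ = F1 ≫ E3 ≫ (Q2 ≫ I3) ≫ Wγ := by rw [hnat]
    _ = (F1 ≫ E3 ≫ Q2) ≫ I3 ≫ Wγ := by simp only [Category.assoc]
    _ = (XE ≫ Fγ) ≫ I3 ≫ Wγ := by rw [hfin]
    _ = XE ≫ (Fγ ≫ I3 ≫ Wγ) := by simp only [Category.assoc]

theorem map_chain_of_left {𝒳 : AlgSt.Cat S} {B : Over S} (F : FibCat.overCat B ⥤ᵇ 𝒳)
    {A₁ A₂ A₃ A₄ A₅ : Over B} (f : A₁ ⟶ A₂) (g : A₂ ⟶ A₃) (h : A₃ ⟶ A₄) (f' : A₁ ⟶ A₅)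
    (g' : A₅ ⟶ A₄) (hl : f.left ≫ g.left ≫ h.left = f'.left ≫ g'.left) :
    F.map f ≫ F.map g ≫ F.map h = F.map f' ≫ F.map g' := by
  have e : f ≫ g ≫ h = f' ≫ g' := Over.OverMorphism.ext hl
  rw [← CategoryTheory.Functor.map_comp, ← CategoryTheory.Functor.map_comp,
    ← CategoryTheory.Functor.map_comp]
  exact congrArg F.toFunctor.map e

theorem overMap_map_left {B B' : Over S} (u : B ⟶ B') {A A' : Over B} (f : A ⟶ A') :
    ((AlgSt.overMap u).map f).left = f.left := rfl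

theorem eqToHom_mk_left {D : Type*} [Category D] {B T : D} {l₁ l₂ : T ⟶ B} (h : l₁ = l₂)
    (h' : Over.mk l₁ = Over.mk l₂) : (eqToHom h').left = 𝟙 T := by
  rw [eqToHom_eq_mkHom h h']
  rfl

set_option maxHeartbeats 400000 in
include hu in
theorem kapK_inv (hthin : FibCat.IsFibSetoid (W a (K ≃ₐ[k] K)).p)
    (hqinv : ∀ γ, (ρ γ).hom ≫ q = q)
    (heeq : ∀ h, phi sk h ≫ e = e ≫ (ρ h⁻¹).hom)
    (hιΛ : ∀ {T : Over S} (l : T ⟶ E) (γ : K ≃ₐ[k] K),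
        ι.hom.toNatTrans.app (Over.mk l) ≫ Lam a ρ Ξ ν l γ =
          p.map (eqToHom (by rw [Category.assoc, hqinv γ]) :
            Over.mk (l ≫ q) ⟶ Over.mk ((l ≫ (ρ γ).hom) ≫ q)) ≫
            ι.hom.toNatTrans.app (Over.mk (l ≫ (ρ γ).hom)))
    {T : Over S} (l : T ⟶ spK sk K) (γ : K ≃ₐ[k] K)
    (hE : Over.mk (l ≫ piK sk K) = Over.mk ((l ≫ phi sk γ⁻¹) ≫ piK sk K)) :
    (kapK a sk x K v' θ₀ q e u hu Ξ p ι iW).hom.toNatTrans.app (Over.mk l) ≫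
        x.map (eqToHom hE) =
      (BasedFunctor.comp (AlgSt.overMap u) p).map (eqToHom hE) ≫
        (kapK a sk x K v' θ₀ q e u hu Ξ p ι iW).hom.toNatTrans.app
          (Over.mk (l ≫ phi sk γ⁻¹)) := by
  have hlγe : (l ≫ phi sk γ⁻¹) ≫ e = (l ≫ e) ≫ (ρ γ).hom := by
    rw [Category.assoc, heeq γ⁻¹, inv_inv, Category.assoc]
  have hlpi : l ≫ piK sk K = (l ≫ phi sk γ⁻¹) ≫ piK sk K := by
    rw [Category.assoc, phi_piK]
  let c₂ : (Over.mk ((l ≫ e) ≫ (ρ γ).hom) : Over E) ⟶ Over.mk ((l ≫ phi sk γ⁻¹) ≫ e) :=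
    mkHom (𝟙 T) (by rw [Category.id_comp, hlγe])
  let f₁ : (Over.mk ((l ≫ piK sk K) ≫ u) : Over Y) ⟶ Over.mk ((l ≫ e) ≫ q) :=
    (c1Iso sk K q e u hu).hom.toNatTrans.app (Over.mk l)
  let f₁γ : (Over.mk (((l ≫ phi sk γ⁻¹) ≫ piK sk K) ≫ u) : Over Y) ⟶
      Over.mk (((l ≫ phi sk γ⁻¹) ≫ e) ≫ q) :=
    (c1Iso sk K q e u hu).hom.toNatTrans.app (Over.mk (l ≫ phi sk γ⁻¹))
  let iWl : Ξ.obj (Over.mk (l ≫ e)) ⟶ (wF sk a x v' θ₀).obj (Over.mk l) :=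
    iW.hom.toNatTrans.app (Over.mk l)
  let iWγ : Ξ.obj (Over.mk ((l ≫ phi sk γ⁻¹) ≫ e)) ⟶
      (wF sk a x v' θ₀).obj (Over.mk (l ≫ phi sk γ⁻¹)) :=
    iW.hom.toNatTrans.app (Over.mk (l ≫ phi sk γ⁻¹))
  let C : (Over.mk ((l ≫ phi sk γ⁻¹) ≫ piK sk K) : Over (Over.mk sk)) ⟶
      Over.mk (l ≫ piK sk K) := (cIso sk γ⁻¹).hom.toNatTrans.app (Over.mk l)
  let A : (act a γ).obj (Ξ.obj (Over.mk (l ≫ e))) ⟶ Ξ.obj (Over.mk ((l ≫ e) ≫ (ρ γ).hom)) :=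
    (ν γ).inv.toNatTrans.app (Over.mk (l ≫ e))
  let D : (wF sk a x v' θ₀).obj (Over.mk (l ≫ phi sk γ⁻¹)) ⟶
      (act a γ).obj ((wF sk a x v' θ₀).obj (Over.mk l)) :=
    (wFEquiv sk a x v' θ₀ γ).hom.toNatTrans.app (Over.mk l)
  let Bm : Ξ.obj (Over.mk ((l ≫ e) ≫ (ρ γ).hom)) ⟶ Ξ.obj (Over.mk ((l ≫ phi sk γ⁻¹) ≫ e)) :=
    Ξ.map c₂
  have hν1 : (W a (K ≃ₐ[k] K)).p.IsHomLift (𝟙 T) A :=
    (ν γ).inv.isHomLift' (Over.mk (l ≫ e))
  have hc₂ : (W a (K ≃ₐ[k] K)).p.IsHomLift (𝟙 T) Bm := isHomLift_map' Ξ c₂ rfl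
  have hiWγ : (W a (K ≃ₐ[k] K)).p.IsHomLift (𝟙 T) iWγ :=
    iW.hom.isHomLift' (Over.mk (l ≫ phi sk γ⁻¹))
  have hwFE : (W a (K ≃ₐ[k] K)).p.IsHomLift (𝟙 T) D :=
    (wFEquiv sk a x v' θ₀ γ).hom.isHomLift' (Over.mk l)
  have hiWl : (W a (K ≃ₐ[k] K)).p.IsHomLift (𝟙 T) iWl := iW.hom.isHomLift' (Over.mk l)
  have hact : (W a (K ≃ₐ[k] K)).p.IsHomLift (𝟙 T) ((act a γ).map iWl) :=
    (BasedFunctor.isHomLift_iff (act a γ) _ _).2 hiWl
  have hT : A ≫ Bm ≫ iWγ ≫ D = (act a γ).map iWl := by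
    have h1 := thin_eq hthin rfl T _ ((act a γ).map iWl) (isHomLift_id_comp _ _ hν1
      (isHomLift_id_comp _ _ hc₂ (isHomLift_id_comp _ _ hiWγ hwFE))) hact
    rw [eqToHom_refl, Category.id_comp] at h1
    exact h1
  have hT1 : Lam a ρ Ξ ν (l ≫ e) γ ≫ (BasedFunctor.comp Ξ (prz a (K ≃ₐ[k] K))).map c₂ ≫
      (prz a (K ≃ₐ[k] K)).map iWγ ≫ x.map C = (prz a (K ≃ₐ[k] K)).map iWl :=
    congrArg WHom.φ hT
  have hE3 : (Over.mk ((l ≫ e) ≫ q) : Over Y) = Over.mk (((l ≫ e) ≫ (ρ γ).hom) ≫ q) := by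
    rw [Category.assoc (l ≫ e), hqinv γ]
  have hnat := ι.hom.toNatTrans.naturality c₂
  have hfin : p.map f₁ ≫ p.map (eqToHom hE3) ≫ p.map ((AlgSt.overMap q).map c₂) =
      p.map ((AlgSt.overMap u).map (eqToHom hE)) ≫ p.map f₁γ := by
    apply map_chain_of_left
    have h1 : f₁.left = 𝟙 T := c1Iso_hom_left sk K q e u hu (Over.mk l)
    have h2 : (eqToHom hE3).left = 𝟙 T :=
      eqToHom_mk_left (by rw [Category.assoc (l ≫ e), hqinv γ]) hE3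
    have h3 : ((AlgSt.overMap q).map c₂).left = 𝟙 T := overMap_map_left q c₂
    have h4 : ((AlgSt.overMap u).map (eqToHom hE)).left = 𝟙 T :=
      (overMap_map_left u (eqToHom hE)).trans (eqToHom_mk_left hlpi hE)
    have h5 : f₁γ.left = 𝟙 T :=
      c1Iso_hom_left sk K q e u hu (Over.mk (l ≫ phi sk γ⁻¹))
    exact (congrArg₂ (fun m n => m ≫ n) h1 (congrArg₂ (fun m n => m ≫ n) h2 h3)).trans
      ((Category.id_comp _).trans (congrArg₂ (fun m n => m ≫ n) h4 h5).symm)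
  have hCE : x.map C ≫ x.map (eqToHom hE) = 𝟙 _ := by
    have h1 : C.left = 𝟙 T := cIso_hom_left sk γ⁻¹ (Over.mk l)
    have h2 : (eqToHom hE).left = 𝟙 T := eqToHom_mk_left hlpi hE
    exact (map_comp_of_left x C (eqToHom hE) (𝟙 _)
      ((congrArg₂ (fun m n => m ≫ n) h1 h2).trans (Category.id_comp _))).trans
      (x.toFunctor.map_id _)
  exact kappa_chase (p.map f₁) (ι.hom.toNatTrans.app (Over.mk (l ≫ e)))
    ((prz a (K ≃ₐ[k] K)).map iWl) (x.map (eqToHom hE)) (Lam a ρ Ξ ν (l ≫ e) γ)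
    ((BasedFunctor.comp Ξ (prz a (K ≃ₐ[k] K))).map c₂) ((prz a (K ≃ₐ[k] K)).map iWγ) (x.map C)
    (p.map (eqToHom hE3)) (ι.hom.toNatTrans.app (Over.mk ((l ≫ e) ≫ (ρ γ).hom)))
    (p.map ((AlgSt.overMap q).map c₂))
    (ι.hom.toNatTrans.app (Over.mk ((l ≫ phi sk γ⁻¹) ≫ e)))
    (p.map ((AlgSt.overMap u).map (eqToHom hE))) (p.map f₁γ) hT1 (hιΛ (l ≫ e) γ) hnat hfin hCE

end Kappa

section Core2

variable (K₀ : Precoverage Scheme.{u}) {𝒵 : AlgSt.Cat S}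
  (h𝒵 : Stk.IsStack (QuotSh.J K₀ S) 𝒵)
  (hdiag : AlgSt.RepByAlgSp1 (FibCat.diag (FibCat.toSelf 𝒵)))
  (hZ : ZarLE K₀ S)
  (hcov : ∀ {E Y : Over S} (q : E ⟶ Y), Etale q.left → Surjective q.left →
    Sieve.generate (Presieve.singleton q) ∈ QuotSh.J K₀ S Y)
  {V : Over S} (a : FibCat.overCat V ⥤ᵇ 𝒵) (ha : AlgSt.RepByAlgSpWith (AlgSp.LocP @Smooth) a)
  {k : Type u} [Field k] (sk : Spec (CommRingCat.of k) ⟶ S)
  (x : FibCat.overCat (Over.mk sk) ⥤ᵇ 𝒵)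
  (K : Type u) [Field K] [Algebra k K] [FiniteDimensional k K] [IsGalois k K]
  (v' : spK sk K ⟶ V)
  (θ₀ : BasedFunctor.comp (AlgSt.overMap v') a ≅ BasedFunctor.comp (AlgSt.overMap (piK sk K)) x)
  (hfaith : ∀ h : K ≃ₐ[k] K, phi sk h ≫ v' = v' → h = 1)

include h𝒵 hdiag hZ hcov ha hfaith in
/-- Second half, part A: the descended chart and its descent datum. -/
theorem exists_descended_chart :
    ∃ (P : Pres (W a (K ≃ₐ[k] K))) (E Y : Over S) (_ : IsAffine Y.left)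
      (ρ : (K ≃ₐ[k] K) →* Aut E) (q : E ⟶ Y) (e : spK sk K ⟶ E)
      (Ξ : FibCat.overCat E ⥤ᵇ W a (K ≃ₐ[k] K))
      (ν : ∀ γ : K ≃ₐ[k] K, BasedFunctor.comp (AlgSt.overMap (ρ γ).hom) Ξ ≅
        BasedFunctor.comp Ξ (act a γ))
      (p : FibCat.overCat Y ⥤ᵇ 𝒵)
      (ι : BasedFunctor.comp (AlgSt.overMap q) p ≅ BasedFunctor.comp Ξ (prz a (K ≃ₐ[k] K)))
      (hqinv : ∀ γ, (ρ γ).hom ≫ q = q),
      AlgSt.RepByAlgSpWith (AlgSp.LocP @Smooth) p ∧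
      (∀ h, phi sk h ≫ e = e ≫ (ρ h⁻¹).hom) ∧
      Nonempty (BasedFunctor.comp (AlgSt.overMap e) Ξ ≅ wF sk a x v' θ₀) ∧
      ∀ {T : Over S} (l : T ⟶ E) (γ : K ≃ₐ[k] K),
        ι.hom.toNatTrans.app (Over.mk l) ≫ Lam a ρ Ξ ν l γ =
          p.map (eqToHom (by rw [Category.assoc, hqinv γ]) :
            Over.mk (l ≫ q) ⟶ Over.mk ((l ≫ (ρ γ).hom) ≫ q)) ≫
            ι.hom.toNatTrans.app (Over.mk (l ≫ (ρ γ).hom)) := by
  classical
  obtain ⟨P, E, hEaff, ρ, ω, e, hω, hωeq, heω, heeq, hfree⟩ :=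
    exists_equivariant_chart K₀ h𝒵 a ha sk x K v' θ₀ hfaith
  haveI := hEaff
  have hfib : FibCat.IsFibGrpd 𝒵.p := h𝒵.1
  obtain ⟨hWfib, hprz, hWrep⟩ := main a hfib ha (K ≃ₐ[k] K)
  have hthin : FibCat.IsFibSetoid (W a (K ≃ₐ[k] K)).p := isFibSetoid_of_repByAlgSp (hWrep ⟨1⟩)
  obtain ⟨Y, q, hYaff, hqet, hqsurj, hqinv, heff, -⟩ := exists_quotient ρ hfree
  let Ξ : FibCat.overCat E ⥤ᵇ W a (K ≃ₐ[k] K) := BasedFunctor.comp (ofSecMap ω.hom) P.e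
  have hΞpt : P.pt Ξ = ω := P.pt_ofSecMap ω
  have hν : ∀ γ : K ≃ₐ[k] K, Nonempty (BasedFunctor.comp (AlgSt.overMap (ρ γ).hom) Ξ ≅
      BasedFunctor.comp Ξ (act a γ)) := by
    intro γ
    apply P.iso_of_pt_eq
    rw [P.pt_overMap, P.pt_edo, hΞpt]
    exact hωeq γ
  let ν := fun γ => (hν γ).some
  obtain ⟨p, ι, hιΛ⟩ := exists_descent K₀ q ρ h𝒵 hZ (hcov q hqet hqsurj) hqinv hfree heff
    (BasedFunctor.comp Ξ (prz a (K ≃ₐ[k] K))) (fun {T} l γ => Lam a ρ Ξ ν l γ)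
    (fun {T} l γ => Lam_lift a ρ Ξ ν l γ) (fun {T' T} g l γ => Lam_nat a ρ Ξ ν g l γ)
    (fun {T} l γ δ => Lam_mul a ρ Ξ ν hthin l γ δ)
  have hiW : Nonempty (BasedFunctor.comp (AlgSt.overMap e) Ξ ≅ wF sk a x v' θ₀) := by
    apply P.iso_of_pt_eq
    rw [P.pt_overMap, hΞpt]
    exact heω
  have he : FibCat.IsEquivOver P.e := ⟨P.G, ⟨P.η₁⟩, ⟨P.η₂⟩⟩
  have hsmξ : AlgSt.RepByAlgSpWith (AlgSp.LocP @Smooth)
      (BasedFunctor.comp Ξ (prz a (K ≃ₐ[k] K))) := by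
    have h1 : LocQ.Sm (ofSecMap ω.hom) := SmLoc.sm_ofSecMap_of_etale ω hω
    have h2 : LocQ.Sm (BasedFunctor.comp P.e (prz a (K ≃ₐ[k] K))) :=
      (LocQ.repByAlgSpWith_equiv_comp _ P.e he _).2 hprz
    exact LocQ.sm_comp (isFibGrpd_overCat E) (Stk.isFibGrpd_ofPsh _) (ofSecMap ω.hom)
      (BasedFunctor.comp P.e (prz a (K ≃ₐ[k] K))) h1 h2
  have hsmp : AlgSt.RepByAlgSpWith (AlgSp.LocP @Smooth) p := by
    apply sm_of_overMap_etale_surjective hfib q hqet hqsurj p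
      ((Groth.Agent.S12765.result hfib).1 hdiag Y p)
    exact (repByAlgSpWith_congr _ ι).1 hsmξ
  exact ⟨P, E, Y, hYaff, ρ, q, e, Ξ, ν, p, ι, hqinv, hsmp, heeq, hiW, fun {T} l γ => hιΛ l γ⟩

theorem piK_etale : Etale (piK sk K).left := by
  haveI : Algebra.FormallyEtale k K := Algebra.FormallyEtale.of_isSeparable k K
  haveI : Algebra.FinitePresentation k K :=
    Algebra.FinitePresentation.of_finiteType.1 inferInstance
  haveI : Algebra.Etale k K := ⟨inferInstance, inferInstance⟩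
  show Etale (Spec.map (CommRingCat.ofHom (algebraMap k K)))
  rw [HasRingHomProperty.Spec_iff (P := @Etale)]
  exact RingHom.etale_algebraMap.2 inferInstance

include h𝒵 hdiag hZ hcov ha hfaith θ₀ in
/-- **The chart through a field valued point** (core form): given a smooth chart of the stack, a
finite Galois point of it over the given point on which the Galois group acts faithfully, there is
a smooth affine chart through a rational point over the given point. -/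
theorem exists_chart_core :
    ∃ (U : Over S) (_ : IsAffine U.left) (p : FibCat.overCat U ⥤ᵇ 𝒵) (u : Over.mk sk ⟶ U),
      AlgSt.RepByAlgSpWith (AlgSp.LocP @Smooth) p ∧
      Nonempty (BasedFunctor.comp (AlgSt.overMap u) p ≅ x) := by
  classical
  obtain ⟨P, E, Y, hYaff, ρ, q, e, Ξ, ν, p, ι, hqinv, hsmp, heeq, ⟨iW⟩, hιΛ⟩ :=
    exists_descended_chart K₀ h𝒵 hdiag hZ hcov a ha sk x K v' θ₀ hfaith
  have hfib : FibCat.IsFibGrpd 𝒵.p := h𝒵.1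
  obtain ⟨hWfib, hprz, hWrep⟩ := main a hfib ha (K ≃ₐ[k] K)
  have hthin : FibCat.IsFibSetoid (W a (K ≃ₐ[k] K)).p := isFibSetoid_of_repByAlgSp (hWrep ⟨1⟩)
  obtain ⟨u, hu⟩ := exists_descend_top sk K (e ≫ q) (fun h => by
    rw [← Category.assoc, heeq, Category.assoc, hqinv])
  refine ⟨Y, hYaff, p, u, hsmp, ?_⟩
  let κK := kapK a sk x K v' θ₀ q e u hu Ξ p ι iW
  have hpisurj : Surjective (piK sk K).left := ⟨(piK_fppf sk K).2⟩
  obtain ⟨κ₀, -⟩ := exists_nat_of_invariant K₀ (piK sk K) (rhoK sk K) h𝒵 hZ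
    (hcov (piK sk K) (piK_etale sk K) hpisurj) (fun γ => phi_piK sk γ⁻¹)
    (fun {T} l l' hll => galois_heff sk K l l' hll)
    (BasedFunctor.comp (AlgSt.overMap u) p) x
    (fun {T} l => κK.hom.toNatTrans.app (Over.mk l))
    (fun {T} l => κK.hom.isHomLift' (Over.mk l))
    (fun {T' T} g l => by
      have hn := κK.hom.toNatTrans.naturality (Over.homMk g rfl : Over.mk (g ≫ l) ⟶ Over.mk l)
      have h2 : (AlgSt.overMap (piK sk K)).map (Over.homMk g rfl : Over.mk (g ≫ l) ⟶ Over.mk l) =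
          (Over.homMk g (Category.assoc _ _ _).symm :
            Over.mk ((g ≫ l) ≫ piK sk K) ⟶ Over.mk (l ≫ piK sk K)) := by
        apply Over.OverMorphism.ext
        rfl
      rw [← h2]
      exact hn)
    (fun {T} l γ => kapK_inv a sk x K v' θ₀ ρ q e u hu Ξ ν p ι iW hthin hqinv heeq
      (fun {T} l γ => hιΛ l γ) l γ _)
  haveI := isIso_of_isFibGrpd hfib κ₀
  exact ⟨asIso κ₀⟩

end Core2

end Groth.Agent.Lead.ET
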