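import Mathlib
import Groth.Prelude.Def_AlgSt3
import Groth.Agent.Lib.Lead.ETi
import Groth.Agent.Lib.Lead.HFibM
import Groth.Agent.Lib.Helper8.ETPts

/-!
# Smooth affine charts of an algebraic stack through field valued and henselian points (lead)
-/

set_option backward.isDefEq.respectTransparency.types false
set_option autoImplicit false
set_option synthInstance.maxHeartbeats 400000
set_option maxHeartbeats 1000000
set_option linter.style.haveILetI false
set_option linter.unusedSectionVars false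
set_option linter.unusedSimpArgs false

open CategoryTheory CategoryTheory.Limits AlgebraicGeometry Opposite
open Groth.Agent.Helper2 Groth.Agent.Helper2.FibCatLib Groth.Agent.Helper2.StkLib
open Groth.Agent.Helper2.AlgStLib Groth.Agent.Helper2.AlgSpBasic Groth.Agent.Lead.HFib
open Groth.Agent.TorsDescSpec

namespace Groth.Agent.Lead.ET
universe u
variable {S : Scheme.{u}}

/-- **A smooth affine chart through a field valued point** of an algebraic stack (for a topology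
in which Zariski coverings and etale surjections are coverings). -/
theorem exists_chart_of_field (K₀ : Precoverage Scheme.{u}) {𝒵 : AlgSt.Cat S}
    (h𝒵 : AlgSt.IsAlgStack K₀ 𝒵) (hZ : ZarLE K₀ S)
    (hcov : ∀ {E Y : Over S} (q : E ⟶ Y), Etale q.left → Surjective q.left →
      Sieve.generate (Presieve.singleton q) ∈ QuotSh.J K₀ S Y)
    {k : Type u} [Field k] (sk : Spec (CommRingCat.of k) ⟶ S)
    (x : FibCat.overCat (Over.mk sk) ⥤ᵇ 𝒵) :
    ∃ (U : Over S) (_ : IsAffine U.left) (p : FibCat.overCat U ⥤ᵇ 𝒵) (u : Over.mk sk ⟶ U),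
      AlgSt.RepByAlgSpWith (AlgSp.LocP @Smooth) p ∧
      Nonempty (BasedFunctor.comp (AlgSt.overMap u) p ≅ x) := by
  obtain ⟨V, a, ha, has⟩ := h𝒵.atlas
  have hfib : FibCat.IsFibGrpd 𝒵.p := h𝒵.isStack.1
  obtain ⟨K, _, _, _, _, v', ⟨θ₀⟩⟩ := Groth.Agent.ETSpec2.exists_sep_point hfib a ha has sk x
  obtain ⟨V₁, a₁, v₁, ha₁, ⟨θ₁⟩, hfaith⟩ :=
    Groth.Agent.ETSpec2.exists_faithful_point hfib a ha sk x K v' θ₀
  exact exists_chart_core K₀ h𝒵.isStack h𝒵.diag hZ hcov a₁ ha₁ sk x K v₁ θ₁ hfaith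

/-- **A smooth affine chart through a point with values in a henselian local ring.** -/
theorem exists_chart_of_henselian {𝒵 : AlgSt.Cat S}
    (h𝒵 : AlgSt.IsAlgStack Scheme.fppfPrecoverage 𝒵)
    (R : Type u) [CommRing R] [HenselianLocalRing R] (str : Spec (CommRingCat.of R) ⟶ S)
    (z : FibCat.overCat (Over.mk str) ⥤ᵇ 𝒵) :
    ∃ (Z : Over S) (_ : IsAffine Z.left) (p : FibCat.overCat Z ⥤ᵇ 𝒵) (g : Over.mk str ⟶ Z),
      AlgSt.RepByAlgSpWith (AlgSp.LocP @Smooth) p ∧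
        Nonempty (BasedFunctor.comp (AlgSt.overMap g) p ≅ z) := by
  let sk : Spec (CommRingCat.of (IsLocalRing.ResidueField R)) ⟶ S :=
    Spec.map (CommRingCat.ofHom (IsLocalRing.residue R)) ≫ str
  let x : FibCat.overCat (Over.mk sk) ⥤ᵇ 𝒵 := BasedFunctor.comp (AlgSt.overMap (resMap R str)) z
  obtain ⟨U, hU, p, u, hp, ⟨θ⟩⟩ := exists_chart_of_field Scheme.fppfPrecoverage h𝒵 zarLE_fppf
    (fun q h1 h2 => Groth.Agent.ETSpec2.cov_fppf q h1 h2) sk x
  let Zs : AlgSp.Space S := ⟨(AlgSp.yon S).obj U, AlgSp.IsAlgSpace.yon_obj U⟩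
  let f : AlgSt.ofSp Zs.obj ⥤ᵇ 𝒵 := BasedFunctor.comp (AlgSt.toOverCat U) p
  have hf : AlgSt.RepByAlgSpWith (AlgSp.LocP @Smooth) f :=
    (LocQ.repByAlgSpWith_equiv_comp _ (AlgSt.toOverCat U) (toOverCat_isEquivOver U) p).2 hp
  have w : BasedFunctor.comp (BasedFunctor.comp (AlgSt.ofOverCat (Over.mk sk))
      (AlgSt.ofSpMap ((AlgSp.yon S).map u))) f ≅
      BasedFunctor.comp (AlgSt.overMap (resMap R str)) z :=
    (postF _ p).mapIso (ofSecMapYonIso u) ≪≫ θ
  obtain ⟨z', -, ⟨κ⟩⟩ := exists_space_lift Zs f hf R str z ((AlgSp.yon S).map u) w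
  obtain ⟨g, rfl⟩ := (AlgSp.yon S).map_surjective z'
  exact ⟨U, hU, p, g, hp, ⟨((postF _ p).mapIso (ofSecMapYonIso g)).symm ≪≫ κ⟩⟩

end Groth.Agent.Lead.ET
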