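import Mathlib
import Groth.Agent.Lib.Helper7.SmoothSection
import Groth.Agent.Lib.Helper7.Hensel.Local

/-!
# Lifting sections of smooth algebras from quotients of a henselian local ring (lead)
-/

set_option backward.isDefEq.respectTransparency.types false
set_option autoImplicit false
set_option synthInstance.maxHeartbeats 400000
set_option maxHeartbeats 1000000
set_option linter.style.haveILetI false
set_option linter.unusedSectionVars false
set_option linter.unusedSimpArgs false
set_option linter.unusedVariables false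

open CategoryTheory AlgebraicGeometry IsLocalRing TensorProduct

namespace Groth.Agent.Lead.HFib
universe u

/-- Etale algebras over a henselian local ring: points with values in a quotient lift. -/
theorem exists_lift_of_etale_quot (A : Type u) [CommRing A] [HenselianLocalRing A] (a : Ideal A)
    (ha : a ≠ ⊤) (E : Type u) [CommRing E] [Algebra A E] [Algebra.Etale A E]
    (s : E →ₐ[A] A ⧸ a) : ∃ τ : E →ₐ[A] A, ∀ c, Ideal.Quotient.mk a (τ c) = s c := by
  have hle : a ≤ maximalIdeal A := IsLocalRing.le_maximalIdeal ha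
  haveI : Nontrivial (A ⧸ a) := Ideal.Quotient.nontrivial_iff.2 ha
  haveI : IsLocalRing (A ⧸ a) :=
    IsLocalRing.of_surjective' (Ideal.Quotient.mk a) Ideal.Quotient.mk_surjective
  let fac : A ⧸ a →ₐ[A] ResidueField A := Ideal.Quotient.factorₐ A hle
  let σ₀ : E →ₐ[A] ResidueField A := fac.comp s
  obtain ⟨τ, hτ⟩ := Groth.Agent.Helper7.SmoothSection.exists_lift_of_etale A E σ₀
  let J₀ : Ideal (A ⧸ a) := RingHom.ker fac.toRingHom
  have hJ₀ne : J₀ ≠ ⊤ := by
    intro h
    have h1 : (1 : A ⧸ a) ∈ J₀ := by rw [h]; trivial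
    have h2 : fac 1 = 0 := h1
    rw [map_one] at h2
    exact one_ne_zero h2
  have hJ : J₀ ≤ Ideal.jacobson ⊥ := by
    rw [IsLocalRing.jacobson_eq_maximalIdeal ⊥ bot_ne_top]
    exact IsLocalRing.le_maximalIdeal hJ₀ne
  have key : (Ideal.Quotient.mkₐ A a).comp τ = s := by
    apply Groth.Agent.Helper7.Hensel.algHom_eq_of_formallyUnramified J₀ hJ
    intro x
    show fac ((Ideal.Quotient.mkₐ A a).comp τ x - s x) = 0
    rw [map_sub, sub_eq_zero]
    have h1 : fac ((Ideal.Quotient.mkₐ A a).comp τ x) = residue A (τ x) := rfl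
    rw [h1, hτ]
    rfl
  exact ⟨τ, fun c => AlgHom.congr_fun key c⟩

/-- Standard smooth algebras: points with values in a quotient lift. -/
theorem exists_lift_of_isStandardSmooth_quot (A : Type u) [CommRing A] [HenselianLocalRing A]
    (a : Ideal A) (ha : a ≠ ⊤)
    (C : Type u) [CommRing C] [Algebra A C] [Algebra.IsStandardSmooth A C]
    (σ₀ : C →ₐ[A] A ⧸ a) :
    ∃ τ : C →ₐ[A] A, ∀ c, Ideal.Quotient.mk a (τ c) = σ₀ c := by
  obtain ⟨n, g, hgC, hg⟩ := RingHom.IsStandardSmooth.exists_etale_mvPolynomial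
    (f := algebraMap A C) (by rwa [RingHom.isStandardSmooth_algebraMap])
  have hch : ∀ i : Fin n, ∃ r : A, Ideal.Quotient.mk a r = σ₀ (g (MvPolynomial.X i)) :=
    fun i => Ideal.Quotient.mk_surjective _
  choose r hr using hch
  let P := MvPolynomial (Fin n) A
  let ev : P →ₐ[A] A := MvPolynomial.aeval r
  letI algPC : Algebra P C := g.toAlgebra
  letI algPA : Algebra P A := ev.toRingHom.toAlgebra
  haveI : IsScalarTower A P C := IsScalarTower.of_algebraMap_eq' hgC.symm
  haveI : IsScalarTower A P A := IsScalarTower.of_algebraMap_eq' (by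
    ext x
    show x = ev (algebraMap A P x)
    rw [AlgHom.commutes]; rfl)
  haveI : Algebra.Etale P C := RingHom.etale_algebraMap.mp hg
  let E := A ⊗[P] C
  haveI : Algebra.Etale A E := inferInstance
  have hcompat : ∀ p : P, σ₀ (g p) = Ideal.Quotient.mk a (ev p) := by
    intro p
    induction p using MvPolynomial.induction_on with
    | C x =>
      have h1 : g (MvPolynomial.C x) = algebraMap A C x := by
        rw [← hgC]; rfl
      rw [h1, AlgHom.commutes]
      have h2 : ev (MvPolynomial.C x) = x := by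
        show MvPolynomial.aeval r (MvPolynomial.C x) = x
        rw [MvPolynomial.aeval_C]; rfl
      rw [h2]; rfl
    | add p q hp hq => rw [map_add, map_add, map_add, map_add, hp, hq]
    | mul_X p i hp =>
      rw [map_mul, map_mul, map_mul, map_mul, hp]
      congr 1
      rw [← hr i]
      show _ = Ideal.Quotient.mk a (MvPolynomial.aeval r (MvPolynomial.X i))
      rw [MvPolynomial.aeval_X]
  let σP : C →ₐ[P] A ⧸ a :=
    { σ₀.toRingHom with
      commutes' := fun p => hcompat p }
  let s : E →ₐ[A] A ⧸ a :=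
    Algebra.TensorProduct.lift (Algebra.ofId A (A ⧸ a)) σP (fun _ _ => Commute.all _ _)
  obtain ⟨τ, hτ⟩ := exists_lift_of_etale_quot A a ha E s
  let incl : C →ₐ[A] E :=
    { (Algebra.TensorProduct.includeRight : C →ₐ[P] E).toRingHom with
      commutes' := fun x => by
        show (1 : A) ⊗ₜ[P] (algebraMap A C x) = algebraMap A E x
        have h1 : algebraMap A C x = (MvPolynomial.C x : P) • (1 : C) := by
          rw [Algebra.smul_def, mul_one]
          show _ = g (MvPolynomial.C x)
          rw [← hgC]; rfl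
        rw [h1, ← TensorProduct.smul_tmul]
        rw [Algebra.TensorProduct.algebraMap_apply]
        congr 1
        rw [Algebra.smul_def, mul_one]
        show ev (MvPolynomial.C x) = _
        show MvPolynomial.aeval r (MvPolynomial.C x) = _
        rw [MvPolynomial.aeval_C] }
  refine ⟨τ.comp incl, fun c => ?_⟩
  show Ideal.Quotient.mk a (τ ((1 : A) ⊗ₜ[P] c)) = σ₀ c
  rw [hτ]
  show Algebra.TensorProduct.lift (Algebra.ofId A (A ⧸ a)) σP _ ((1 : A) ⊗ₜ[P] c) = _
  rw [Algebra.TensorProduct.lift_tmul, map_one, one_mul]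
  rfl

/-- Smooth algebras: points with values in a quotient lift. -/
theorem exists_lift_of_smooth_quot (A : Type u) [CommRing A] [HenselianLocalRing A]
    (a : Ideal A) (ha : a ≠ ⊤)
    (C : Type u) [CommRing C] [Algebra A C] [Algebra.Smooth A C]
    (σ₀ : C →ₐ[A] A ⧸ a) :
    ∃ τ : C →ₐ[A] A, ∀ c, Ideal.Quotient.mk a (τ c) = σ₀ c := by
  haveI : Nontrivial (A ⧸ a) := Ideal.Quotient.nontrivial_iff.2 ha
  haveI : IsLocalRing (A ⧸ a) :=
    IsLocalRing.of_surjective' (Ideal.Quotient.mk a) Ideal.Quotient.mk_surjective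
  let q : Ideal C := (maximalIdeal (A ⧸ a)).comap σ₀.toRingHom
  haveI : q.IsPrime := Ideal.comap_isPrime _ _
  haveI : Algebra.FinitePresentation A C := Algebra.Smooth.finitePresentation
  haveI : Algebra.IsSmoothAt A q := inferInstance
  obtain ⟨f, hf, hstd⟩ := Algebra.IsSmoothAt.exists_notMem_isStandardSmooth A q
  have hunit : IsUnit (σ₀ f) := by
    by_contra h
    exact hf ((IsLocalRing.mem_maximalIdeal _).2 h)
  let σ' : Localization.Away f →ₐ[A] A ⧸ a :=
    IsLocalization.liftAlgHom (M := Submonoid.powers f) (f := σ₀) (by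
      rintro ⟨_, n, rfl⟩
      show IsUnit (σ₀ (f ^ n))
      rw [map_pow]
      exact hunit.pow n)
  obtain ⟨τ', hτ'⟩ := exists_lift_of_isStandardSmooth_quot A a ha (Localization.Away f) σ'
  refine ⟨τ'.comp (IsScalarTower.toAlgHom A C (Localization.Away f)), fun c => ?_⟩
  show Ideal.Quotient.mk a (τ' (algebraMap C (Localization.Away f) c)) = σ₀ c
  rw [hτ']
  exact IsLocalization.lift_eq _ c

set_option backward.isDefEq.respectTransparency false in
/-- Sections of a smooth affine scheme over a henselian local ring lift from quotients. -/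
theorem exists_section_of_smooth_quot (R : Type u) [CommRing R] [HenselianLocalRing R]
    (a : Ideal R) (ha : a ≠ ⊤) {Z : Scheme.{u}} [IsAffine Z]
    (f : Z ⟶ Spec (CommRingCat.of R)) [Smooth f]
    (g₀ : Spec (CommRingCat.of (R ⧸ a)) ⟶ Z)
    (h₀ : g₀ ≫ f = Spec.map (CommRingCat.ofHom (Ideal.Quotient.mk a))) :
    ∃ σ : Spec (CommRingCat.of R) ⟶ Z, σ ≫ f = 𝟙 _ ∧
      Spec.map (CommRingCat.ofHom (Ideal.Quotient.mk a)) ≫ σ = g₀ := by
  let ψ : CommRingCat.of R ⟶ Γ(Z, ⊤) := Spec.preimage (Z.isoSpec.inv ≫ f)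
  have hψ : Spec.map ψ = Z.isoSpec.inv ≫ f := Spec.map_preimage _
  let σc : Γ(Z, ⊤) ⟶ CommRingCat.of (R ⧸ a) := Spec.preimage (g₀ ≫ Z.isoSpec.hom)
  have hσc : Spec.map σc = g₀ ≫ Z.isoSpec.hom := Spec.map_preimage _
  have hsm : Smooth (Spec.map ψ) := by rw [hψ]; infer_instance
  have hψsm : ψ.hom.Smooth := (HasRingHomProperty.Spec_iff (P := @Smooth)).mp hsm
  have hcomp : ψ ≫ σc = CommRingCat.ofHom (Ideal.Quotient.mk a) := by
    apply Spec.map_injective
    rw [Spec.map_comp, hσc, hψ, Category.assoc, Iso.hom_inv_id_assoc, h₀]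
  algebraize [ψ.hom]
  let σ₀ : Γ(Z, ⊤) →ₐ[R] R ⧸ a :=
    { σc.hom with
      commutes' := fun r => by
        have := congrArg (fun φ => φ.hom r) hcomp
        exact this }
  obtain ⟨τ, hτ⟩ := exists_lift_of_smooth_quot R a ha Γ(Z, ⊤) σ₀
  refine ⟨Spec.map (CommRingCat.ofHom τ.toRingHom) ≫ Z.isoSpec.inv, ?_, ?_⟩
  · rw [Category.assoc, ← hψ, ← Spec.map_comp]
    have : ψ ≫ CommRingCat.ofHom τ.toRingHom = 𝟙 _ := by
      ext r
      exact τ.commutes r
    rw [this, Spec.map_id]
  · rw [← Category.assoc, ← Spec.map_comp]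
    have : CommRingCat.ofHom τ.toRingHom ≫ CommRingCat.ofHom (Ideal.Quotient.mk a) = σc := by
      ext c
      exact hτ c
    rw [this, hσc, Category.assoc, Iso.hom_inv_id, Category.comp_id]

end Groth.Agent.Lead.HFib
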