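import Mathlib
import Groth.Prelude.Def_AlgSp3
import Groth.Agent.Lib.Lead.HFibH
import Groth.Agent.Lib.Lead.HFibJ
import Groth.Agent.Lib.Helper7.Hensel.FiniteLocal

/-!
# Points of smooth algebraic spaces over a henselian local ring lift from quotients (lead)
-/

set_option backward.isDefEq.respectTransparency.types false
set_option autoImplicit false
set_option synthInstance.maxHeartbeats 400000
set_option maxHeartbeats 1000000
set_option linter.style.haveILetI false
set_option linter.unusedSectionVars false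
set_option linter.unusedSimpArgs false

open CategoryTheory CategoryTheory.Limits AlgebraicGeometry Opposite AlgSp
open Groth.Agent.Helper2.AlgSpBasic

namespace Groth.Agent.Lead.HFib
universe u

theorem quotient_points_lift (R : Type u) [CommRing R] [HenselianLocalRing R]
    (X : Sp (Spec (CommRingCat.of R))) (hX : IsAlgSpace X)
    (hsm : ∃ (U : Over (Spec (CommRingCat.of R)))
      (c : (yon (Spec (CommRingCat.of R))).obj U ⟶ X),
      Smooth U.hom ∧ RepWith @Etale c ∧ RepWith @Surjective c)
    (a : Ideal R) (ha : a ≠ ⊤)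
    (x₀ : (yon (Spec (CommRingCat.of R))).obj
      (Over.mk (Spec.map (CommRingCat.ofHom (Ideal.Quotient.mk a)))) ⟶ X) :
    ∃ x : (yon (Spec (CommRingCat.of R))).obj (Over.mk (𝟙 (Spec (CommRingCat.of R)))) ⟶ X,
      (yon (Spec (CommRingCat.of R))).map
        (Over.homMk (Spec.map (CommRingCat.ofHom (Ideal.Quotient.mk a))) (Category.comp_id _) :
          Over.mk (Spec.map (CommRingCat.ofHom (Ideal.Quotient.mk a))) ⟶ Over.mk (𝟙 _)) ≫ x =
        x₀ := by
  let A := R ⧸ a
  haveI : Nontrivial A := Ideal.Quotient.nontrivial_iff.2 ha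
  haveI : IsLocalRing A :=
    IsLocalRing.of_surjective' (Ideal.Quotient.mk a) Ideal.Quotient.mk_surjective
  haveI : HenselianLocalRing A := Groth.Agent.Helper7.Hensel.henselianLocalRing_of_finite R A
  obtain ⟨Z, p, g₀, hZ, hp, hg₀⟩ := exists_affine_chart_of_henselian hX A
    (Spec.map (CommRingCat.ofHom (Ideal.Quotient.mk a))) x₀
  haveI := hZ
  obtain ⟨U, c, hU, hce, hcs⟩ := hsm
  obtain ⟨T, t1, t2, sq⟩ := exists_isPullback_yon hX.diag p c
  have het1 : Etale t1.left := hce.property p _ _ sq.flip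
  have hst1 : Surjective t1.left := hcs.property p _ _ sq.flip
  have het2 : Etale t2.left := hp.property c _ _ sq
  have hcomp : Smooth (t1.left ≫ Z.hom) := by
    have h1 : t1.left ≫ Z.hom = t2.left ≫ U.hom := by rw [Over.w t1, Over.w t2]
    rw [h1]
    haveI := het2
    haveI := hU
    infer_instance
  haveI hZsm : Smooth Z.hom :=
    Groth.Agent.Helper2.EtaleLocal.IsEtaleLocalST.of_comp_etale_surjective (P := @Smooth)
      t1.left Z.hom het1 hst1 hcomp
  let g₀l : Spec (CommRingCat.of (R ⧸ a)) ⟶ Z.left := g₀.left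
  have h₀ : g₀l ≫ Z.hom = Spec.map (CommRingCat.ofHom (Ideal.Quotient.mk a)) := Over.w g₀
  obtain ⟨σ, hσ1, hσ2⟩ := exists_section_of_smooth_quot R a ha Z.hom g₀l h₀
  let v : Over.mk (𝟙 (Spec (CommRingCat.of R))) ⟶ Z := Over.homMk σ hσ1
  refine ⟨(yon (Spec (CommRingCat.of R))).map v ≫ p, ?_⟩
  rw [← Category.assoc, ← Functor.map_comp]
  have : (Over.homMk (Spec.map (CommRingCat.ofHom (Ideal.Quotient.mk a))) (Category.comp_id _) :
      Over.mk (Spec.map (CommRingCat.ofHom (Ideal.Quotient.mk a))) ⟶ Over.mk (𝟙 _)) ≫ v = g₀ := by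
    ext
    exact hσ2
  rw [this, hg₀]

end Groth.Agent.Lead.HFib
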