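import Mathlib
import Groth.Prelude.Def_AlgSt3
import Groth.Agent.Lib.Lead.ETj
import Groth.Agent.Lib.Lead.HFibK
import Groth.Agent.Lib.Helper2.AlgSt.FpAlg
import Groth.Agent.Lib.Helper2.AlgSt.QC2
import Groth.Agent.Lib.Helper2.AlgSt.LocQ.Charts
import Groth.Agent.Lib.Helper2.AlgSp.SmoothLocalSmooth

/-!
# Lifting points of a smooth algebraic stack over a henselian local ring from quotients (lead)
-/

set_option backward.isDefEq.respectTransparency.types false
set_option autoImplicit false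
set_option synthInstance.maxHeartbeats 400000
set_option maxHeartbeats 1000000
set_option linter.style.haveILetI false
set_option linter.unusedSectionVars false
set_option linter.unusedSimpArgs false

open CategoryTheory CategoryTheory.Limits AlgebraicGeometry Opposite
open Groth.Agent.Helper2 Groth.Agent.Helper2.FibCatLib Groth.Agent.Helper2.StkLib
open Groth.Agent.Helper2.AlgStLib Groth.Agent.Helper2.AlgSpBasic Groth.Agent.Lead.HFib
open Groth.Agent.TorsDescSpec

namespace Groth.Agent.Lead.ET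
universe u
variable {S : Scheme.{u}}

/-- A scheme whose slice is smooth over the base category is smooth over the base. -/
theorem smooth_hom_of_sm_toSelf {V₁ : Over S}
    (y : FibCat.overCat V₁ ⥤ᵇ FibCat.selfOver (Over S))
    (hy : AlgSt.RepByAlgSpWith (AlgSp.LocP @Smooth) y) : Smooth V₁.hom := by
  let T : Over S := Over.mk (𝟙 S)
  let hT : V₁ ⟶ T := Over.homMk V₁.hom (Category.comp_id _)
  have e : y = BasedFunctor.comp (AlgSt.overMap hT) (FibCat.toSelf (FibCat.overCat T)) :=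
    (eq_toSelf y).trans (eq_toSelf _).symm
  rw [e] at hy
  have h1 := (repByAlgSpWith_comp_equiv _ (AlgSt.overMap hT) _
    isEquivOver_toSelf_overCat_terminal).1 hy
  exact LocQ.smooth_of_overMap hT h1

/-- Smooth charts of an algebraic stack smooth over the base are smooth over the base. -/
theorem smooth_of_locQ_toSelf {𝒵 : AlgSt.Cat S}
    (h𝒵 : AlgSt.IsAlgStack Scheme.fppfPrecoverage 𝒵)
    (hsm : AlgSt.LocQ (AlgSp.LocP @Smooth) (FibCat.toSelf 𝒵)) {Z : Over S}
    (p : FibCat.overCat Z ⥤ᵇ 𝒵) (hp : AlgSt.RepByAlgSpWith (AlgSp.LocP @Smooth) p) :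
    Smooth Z.hom := by
  obtain ⟨U₁, V₁, x₁, y₁, h₁, α₁, hx₁, hx₁', hy₁, hh₁⟩ := hsm
  haveI hV₁ : Smooth V₁.hom := smooth_hom_of_sm_toSelf y₁ hy₁
  haveI hh : Smooth h₁.left := (LocQ.locP_yon_map_iff @Smooth h₁).1 hh₁
  obtain ⟨W, a₁, a₂, -, h1, -, h3, h4⟩ := LocQ.exists_common_chart h𝒵 x₁ p
  haveI : Smooth a₁.left := h1 hp
  haveI : Smooth a₂.left := h3 hx₁
  haveI : Surjective a₂.left := h4 hx₁'
  let T : Over S := Over.mk (𝟙 S)
  let hZ : Z ⟶ T := Over.homMk Z.hom (Category.comp_id _)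
  have hcomp : Smooth (a₂ ≫ hZ).left := by
    have e1 : (a₂ ≫ hZ).left = a₁.left ≫ h₁.left ≫ V₁.hom := by
      show a₂.left ≫ Z.hom = _
      rw [Over.w a₂, Over.w h₁, Over.w a₁]
    rw [e1]
    infer_instance
  have h5 := LocQ.prop_of_cover_scheme isSmoothLocalST_locP_smooth a₂ hZ
    ((LocQ.locP_yon_map_iff @Smooth (a₂ ≫ hZ)).2 hcomp)
  exact (LocQ.locP_yon_map_iff @Smooth hZ).1 h5

/-- **Points of a smooth algebraic stack over a henselian local ring lift from quotients.** -/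
theorem exists_lift_quot (R : Type u) [CommRing R] [HenselianLocalRing R]
    (𝒵 : AlgSt.Cat (Spec (CommRingCat.of R)))
    (h𝒵 : AlgSt.IsAlgStack Scheme.fppfPrecoverage 𝒵)
    (hsm : AlgSt.LocQ (AlgSp.LocP @Smooth) (FibCat.toSelf 𝒵))
    (a : Ideal R) (ha : a ≠ ⊤)
    (z₀ : FibCat.overCat (Over.mk (Spec.map (CommRingCat.ofHom (Ideal.Quotient.mk a)))) ⥤ᵇ 𝒵) :
    ∃ z : FibCat.overCat (Over.mk (𝟙 (Spec (CommRingCat.of R)))) ⥤ᵇ 𝒵,
      Nonempty (BasedFunctor.comp (AlgSt.overMap (Over.homMk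
        (Spec.map (CommRingCat.ofHom (Ideal.Quotient.mk a)))
        (Category.comp_id _) : Over.mk (Spec.map (CommRingCat.ofHom (Ideal.Quotient.mk a))) ⟶
          Over.mk (𝟙 _))) z ≅ z₀) := by
  let A := R ⧸ a
  haveI : Nontrivial A := Ideal.Quotient.nontrivial_iff.2 ha
  haveI : IsLocalRing A :=
    IsLocalRing.of_surjective' (Ideal.Quotient.mk a) Ideal.Quotient.mk_surjective
  haveI : HenselianLocalRing A := Groth.Agent.Helper7.Hensel.henselianLocalRing_of_finite R A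
  obtain ⟨Z, hZ, p, g₀, hp, ⟨θ⟩⟩ := exists_chart_of_henselian h𝒵 A
    (Spec.map (CommRingCat.ofHom (Ideal.Quotient.mk a))) z₀
  haveI := hZ
  haveI hZsm : Smooth Z.hom := smooth_of_locQ_toSelf h𝒵 hsm p hp
  let g₀l : Spec (CommRingCat.of (R ⧸ a)) ⟶ Z.left := g₀.left
  have h₀ : g₀l ≫ Z.hom = Spec.map (CommRingCat.ofHom (Ideal.Quotient.mk a)) := Over.w g₀
  obtain ⟨σ, hσ1, hσ2⟩ := exists_section_of_smooth_quot R a ha Z.hom g₀l h₀
  let v : Over.mk (𝟙 (Spec (CommRingCat.of R))) ⟶ Z := Over.homMk σ hσ1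
  have hv : (Over.homMk (Spec.map (CommRingCat.ofHom (Ideal.Quotient.mk a))) (Category.comp_id _) :
      Over.mk (Spec.map (CommRingCat.ofHom (Ideal.Quotient.mk a))) ⟶ Over.mk (𝟙 _)) ≫ v = g₀ := by
    ext
    exact hσ2
  refine ⟨BasedFunctor.comp (AlgSt.overMap v) p, ⟨?_⟩⟩
  exact (postF _ p).mapIso (ovTri _ v g₀ hv) ≪≫ θ

end Groth.Agent.Lead.ET
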