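import Mathlib
import Groth.Prelude.Def_AlgSp3
import Groth.Agent.Lib.Lead.HFibH
import Groth.Agent.Lib.Helper2.AlgSp.Coprod
import Groth.Agent.Lib.Helper7.Hensel.FiniteLocal

/-!
# Etale charts of algebraic spaces lifting all points of quotients of a henselian local ring (lead)
-/

set_option backward.isDefEq.respectTransparency.types false
set_option autoImplicit false
set_option synthInstance.maxHeartbeats 400000
set_option maxHeartbeats 1000000
set_option linter.style.haveILetI false
set_option linter.unusedSectionVars false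
set_option linter.unusedSimpArgs false

open CategoryTheory CategoryTheory.Limits AlgebraicGeometry Opposite AlgSp
open Groth.Agent.Helper2.AlgSpBasic Groth.Agent.Helper2.Coprod

namespace Groth.Agent.Lead.HFib
universe u
variable {S : Scheme.{u}}

/-- A map from a disjoint union of schemes to an algebraic space whose restrictions to the summands
are etale is etale. -/
theorem repWith_etale_sigmaOver {X : Sp S} (hX : IsAlgSpace X) {ι : Type u} (Zi : ι → Over S)
    (p : (yon S).obj (sigmaOver Zi) ⟶ X)
    (hp : ∀ i, RepWith @Etale ((yon S).map (sigmaOverι Zi i) ≫ p)) : RepWith @Etale p := by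
  have hrep : Representable p := hX.representable_from_yon p
  refine ⟨hrep, ?_⟩
  intro T W g fst snd sq
  obtain ⟨fst', rfl⟩ := (yon S).map_surjective fst
  -- the pieces of `W`
  have sqi : ∀ i, IsPullback ((yon S).map (pullback.snd fst' (sigmaOverι Zi i)))
      ((yon S).map (pullback.fst fst' (sigmaOverι Zi i) ≫ snd))
      ((yon S).map (sigmaOverι Zi i) ≫ p) g := by
    intro i
    have h1 : IsPullback ((yon S).map (pullback.snd fst' (sigmaOverι Zi i)))
        ((yon S).map (pullback.fst fst' (sigmaOverι Zi i)))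
        ((yon S).map (sigmaOverι Zi i)) ((yon S).map fst') :=
      (IsPullback.of_hasPullback fst' (sigmaOverι Zi i)).flip.map (yon S)
    have h2 := h1.paste_vert sq
    rw [← Functor.map_comp] at h2
    exact h2
  have hEi : ∀ i, Etale (pullback.fst fst' (sigmaOverι Zi i) ≫ snd).left :=
    fun i => (hp i).property g _ _ (sqi i)
  have hoi : ∀ i, IsOpenImmersion (pullback.fst fst' (sigmaOverι Zi i)).left := by
    intro i
    exact (MorphismProperty.inverseImage (@IsOpenImmersion) (Over.forget S)).of_isPullback
      (IsPullback.of_hasPullback fst' (sigmaOverι Zi i)).flip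
      (inferInstanceAs (IsOpenImmersion (sigmaOverι Zi i).left))
  let D : (∐ fun i => (pullback fst' (sigmaOverι Zi i)).left) ⟶ W.left :=
    Sigma.desc fun i => (pullback.fst fst' (sigmaOverι Zi i)).left
  have hDe : Etale D := IsZariskiLocalAtSource.sigmaDesc (P := @Etale) (fun i => by
    haveI := hoi i
    infer_instance)
  have hDs : Surjective D := by
    refine ⟨fun w => ?_⟩
    obtain ⟨i, zi, hzi⟩ := sigmaOverι_covers Zi (fst'.left w)
    have hpb : IsPullback (pullback.fst fst' (sigmaOverι Zi i)).left
        (pullback.snd fst' (sigmaOverι Zi i)).left fst'.left (sigmaOverι Zi i).left :=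
      (IsPullback.of_hasPullback fst' (sigmaOverι Zi i)).map (Over.forget S)
    obtain ⟨y, hy1, -⟩ := exists_point_of_isPullback_scheme hpb w zi hzi.symm
    refine ⟨Sigma.ι (fun i => (pullback fst' (sigmaOverι Zi i)).left) i y, ?_⟩
    rw [← Scheme.Hom.comp_apply, Sigma.ι_desc]
    exact hy1
  have hcomp : Etale (D ≫ snd.left) := by
    have : D ≫ snd.left =
        Sigma.desc fun i => (pullback.fst fst' (sigmaOverι Zi i) ≫ snd).left := by
      apply Sigma.hom_ext
      intro i
      rw [Sigma.ι_desc_assoc, Sigma.ι_desc]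
      rfl
    rw [this]
    exact IsZariskiLocalAtSource.sigmaDesc (P := @Etale) hEi
  exact Groth.Agent.Helper2.EtaleLocal.IsEtaleLocalST.of_comp_etale_surjective D snd.left hDe hDs hcomp

/-- If an etale chart lifts every point with values in the residue field of a henselian local ring
`R`, then it lifts every point with values in a quotient of `R`. -/
theorem exists_lift_quotient_point {X : Sp S} (hX : IsAlgSpace X) (R : Type u) [CommRing R]
    [HenselianLocalRing R] (str : Spec (CommRingCat.of R) ⟶ S) {Z : Over S}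
    (p : (yon S).obj Z ⟶ X) (hp : RepWith @Etale p)
    (hlift : ∀ y : (yon S).obj
        (Over.mk (Spec.map (CommRingCat.ofHom (IsLocalRing.residue R)) ≫ str)) ⟶ X,
      ∃ g : Over.mk (Spec.map (CommRingCat.ofHom (IsLocalRing.residue R)) ≫ str) ⟶ Z,
        (yon S).map g ≫ p = y)
    (a : Ideal R)
    (x : (yon S).obj (Over.mk (Spec.map (CommRingCat.ofHom (Ideal.Quotient.mk a)) ≫ str)) ⟶ X) :
    ∃ g : Over.mk (Spec.map (CommRingCat.ofHom (Ideal.Quotient.mk a)) ≫ str) ⟶ Z,
      (yon S).map g ≫ p = x := by
  by_cases ha : a = ⊤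
  · subst ha
    haveI : Subsingleton (R ⧸ (⊤ : Ideal R)) := Ideal.Quotient.subsingleton_iff.2 rfl
    haveI hE : IsEmpty (Spec (CommRingCat.of (R ⧸ (⊤ : Ideal R)))) :=
      inferInstanceAs (IsEmpty (PrimeSpectrum (R ⧸ (⊤ : Ideal R))))
    have hinit : IsInitial (Spec (CommRingCat.of (R ⧸ (⊤ : Ideal R)))) := isInitialOfIsEmpty
    refine ⟨Over.homMk (hinit.to Z.left) (hinit.hom_ext _ _), ?_⟩
    exact hom_ext_of_isEmpty (Q := Over.mk (Spec.map (CommRingCat.ofHom
      (Ideal.Quotient.mk (⊤ : Ideal R))) ≫ str)) hE _ _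
  · let A := R ⧸ a
    haveI : Nontrivial A := Ideal.Quotient.nontrivial_iff.2 ha
    haveI : IsLocalRing A :=
      IsLocalRing.of_surjective' (Ideal.Quotient.mk a) Ideal.Quotient.mk_surjective
    haveI : HenselianLocalRing A := Groth.Agent.Helper7.Hensel.henselianLocalRing_of_finite R A
    let strA : Spec (CommRingCat.of A) ⟶ S :=
      Spec.map (CommRingCat.ofHom (Ideal.Quotient.mk a)) ≫ str
    haveI : IsLocalHom (Ideal.Quotient.mk a) :=
      IsLocalHom.of_surjective _ Ideal.Quotient.mk_surjective
    let e0 : IsLocalRing.ResidueField R →+* IsLocalRing.ResidueField A :=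
      IsLocalRing.ResidueField.map (Ideal.Quotient.mk a)
    have he0 : Function.Bijective e0 := by
      refine ⟨e0.injective, fun y => ?_⟩
      obtain ⟨y', rfl⟩ := IsLocalRing.residue_surjective y
      obtain ⟨r, rfl⟩ := Ideal.Quotient.mk_surjective y'
      exact ⟨IsLocalRing.residue R r, IsLocalRing.ResidueField.map_residue _ r⟩
    let e : IsLocalRing.ResidueField R ≃+* IsLocalRing.ResidueField A :=
      RingEquiv.ofBijective e0 he0
    have hring1 : CommRingCat.ofHom (Ideal.Quotient.mk a) ≫
        CommRingCat.ofHom (IsLocalRing.residue A) ≫ CommRingCat.ofHom e.symm.toRingHom =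
          CommRingCat.ofHom (IsLocalRing.residue R) := by
      apply CommRingCat.hom_ext
      apply RingHom.ext
      intro r
      show e.symm (IsLocalRing.residue A (Ideal.Quotient.mk a r)) = IsLocalRing.residue R r
      rw [RingEquiv.symm_apply_eq]
      exact (IsLocalRing.ResidueField.map_residue _ r).symm
    have hring2 : CommRingCat.ofHom (IsLocalRing.residue R) ≫ CommRingCat.ofHom e.toRingHom =
        CommRingCat.ofHom (Ideal.Quotient.mk a) ≫ CommRingCat.ofHom (IsLocalRing.residue A) := by
      apply CommRingCat.hom_ext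
      apply RingHom.ext
      intro r
      exact IsLocalRing.ResidueField.map_residue _ r
    let ε : Over.mk (Spec.map (CommRingCat.ofHom (IsLocalRing.residue R)) ≫ str) ⟶
        Over.mk (Spec.map (CommRingCat.ofHom (IsLocalRing.residue A)) ≫ strA) :=
      Over.homMk (Spec.map (CommRingCat.ofHom e.symm.toRingHom)) (by
        show Spec.map (CommRingCat.ofHom e.symm.toRingHom) ≫
          Spec.map (CommRingCat.ofHom (IsLocalRing.residue A)) ≫
            Spec.map (CommRingCat.ofHom (Ideal.Quotient.mk a)) ≫ str =
              Spec.map (CommRingCat.ofHom (IsLocalRing.residue R)) ≫ str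
        rw [← hring1]
        simp only [Spec.map_comp, Category.assoc])
    let ε' : Over.mk (Spec.map (CommRingCat.ofHom (IsLocalRing.residue A)) ≫ strA) ⟶
        Over.mk (Spec.map (CommRingCat.ofHom (IsLocalRing.residue R)) ≫ str) :=
      Over.homMk (Spec.map (CommRingCat.ofHom e.toRingHom)) (by
        show Spec.map (CommRingCat.ofHom e.toRingHom) ≫
          Spec.map (CommRingCat.ofHom (IsLocalRing.residue R)) ≫ str =
            Spec.map (CommRingCat.ofHom (IsLocalRing.residue A)) ≫
              Spec.map (CommRingCat.ofHom (Ideal.Quotient.mk a)) ≫ str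
        rw [← Category.assoc, ← Spec.map_comp, hring2]
        simp only [Spec.map_comp, Category.assoc])
    have hεε : ε' ≫ ε = 𝟙 _ := by
      ext
      show Spec.map (CommRingCat.ofHom e.toRingHom) ≫
        Spec.map (CommRingCat.ofHom e.symm.toRingHom) = 𝟙 _
      rw [← Spec.map_comp]
      have : CommRingCat.ofHom e.symm.toRingHom ≫ CommRingCat.ofHom e.toRingHom = 𝟙 _ := by
        apply CommRingCat.hom_ext
        apply RingHom.ext
        intro r
        exact e.apply_symm_apply r
      rw [this, Spec.map_id]
    obtain ⟨g, hg⟩ := hlift ((yon S).map ε ≫ (yon S).map (resMap A strA) ≫ x)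
    have hv₀ : (yon S).map (ε' ≫ g) ≫ p = (yon S).map (resMap A strA) ≫ x := by
      rw [Functor.map_comp, Category.assoc, hg]
      have h3 : (yon S).map ε' ≫ (yon S).map ε = 𝟙 _ := by
        rw [← Functor.map_comp, hεε, CategoryTheory.Functor.map_id]
      rw [← Category.assoc ((yon S).map ε'), h3, Category.id_comp]
    obtain ⟨v, hv, -⟩ := exists_lift_of_smooth_chart hX A strA p (repWith_smooth_of_etale hp) x
      (ε' ≫ g) hv₀
    exact ⟨v, hv⟩

/-- Finitely many residue field points: an affine etale chart lifting all points with values in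
quotients. -/
theorem exists_affine_chart_all_quotients {X : Sp S} (hX : IsAlgSpace X) (R : Type u) [CommRing R]
    [HenselianLocalRing R] (str : Spec (CommRingCat.of R) ⟶ S)
    (hfin : Finite ((yon S).obj
      (Over.mk (Spec.map (CommRingCat.ofHom (IsLocalRing.residue R)) ≫ str)) ⟶ X)) :
    ∃ (Z : Over S) (p : (yon S).obj Z ⟶ X), IsAffine Z.left ∧ RepWith @Etale p ∧
      ∀ (a : Ideal R)
        (x : (yon S).obj (Over.mk (Spec.map (CommRingCat.ofHom (Ideal.Quotient.mk a)) ≫ str)) ⟶ X),
        ∃ g : Over.mk (Spec.map (CommRingCat.ofHom (Ideal.Quotient.mk a)) ≫ str) ⟶ Z,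
          (yon S).map g ≫ p = x := by
  classical
  let I := (yon S).obj (Over.mk (Spec.map (CommRingCat.ofHom (IsLocalRing.residue R)) ≫ str)) ⟶ X
  choose Zf pf gf hZf hpf hgf using fun y : I => exists_affine_chart_of_field hX
    (k := IsLocalRing.ResidueField R)
    (Spec.map (CommRingCat.ofHom (IsLocalRing.residue R)) ≫ str) y
  let n := Nat.card I
  let e : I ≃ Fin n := Finite.equivFin I
  let ι := ULift.{u} (Fin n)
  let Zi : ι → Over S := fun i => Zf (e.symm i.down)
  obtain ⟨p, hp⟩ := exists_desc_sigmaOver Zi (fun i => pf (e.symm i.down))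
  have hpe : RepWith @Etale p := repWith_etale_sigmaOver hX Zi p (fun i => by
    rw [hp i]; exact hpf _)
  haveI : ∀ i, IsAffine (Zi i).left := fun i => hZf _
  have haff : IsAffine (sigmaOver Zi).left :=
    (inferInstance : IsAffine (∐ fun i => (Zi i).left))
  refine ⟨sigmaOver Zi, p, haff, hpe, ?_⟩
  apply exists_lift_quotient_point hX R str p hpe
  intro y
  have key : ∀ i : ι, ∃ g : Over.mk (Spec.map (CommRingCat.ofHom (IsLocalRing.residue R)) ≫ str) ⟶
      sigmaOver Zi, (yon S).map g ≫ p = e.symm i.down := by
    intro i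
    refine ⟨gf (e.symm i.down) ≫ sigmaOverι Zi i, ?_⟩
    rw [Functor.map_comp, Category.assoc, hp i, hgf]
  obtain ⟨g, hg⟩ := key ⟨e y⟩
  refine ⟨g, ?_⟩
  rw [hg]
  exact e.symm_apply_apply y

end Groth.Agent.Lead.HFib
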