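import Mathlib
import Groth.Prelude.Def_AlgSp3
import Groth.Agent.Lib.Lead.HFibI

/-!
# A separated etale chart lifting all points with values in quotients of a henselian local ring
(lead)
-/

set_option backward.isDefEq.respectTransparency.types false
set_option autoImplicit false
set_option synthInstance.maxHeartbeats 400000
set_option maxHeartbeats 1000000
set_option linter.style.haveILetI false
set_option linter.unusedSectionVars false
set_option linter.unusedSimpArgs false

open CategoryTheory CategoryTheory.Limits AlgebraicGeometry Opposite AlgSp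
open Groth.Agent.Helper2.AlgSpBasic Groth.Agent.Helper2.Coprod

namespace Groth.Agent.Lead.HFib
universe u

/-- A disjoint union of schemes separated over `X` is separated over `X`. -/
theorem isSeparated_sigmaDesc {ι : Type u} (Y : ι → Scheme.{u}) {X : Scheme.{u}}
    (f : ∀ i, Y i ⟶ X) (hf : ∀ i, IsSeparated (f i)) : IsSeparated (Sigma.desc f) := by
  let F : (∐ Y) ⟶ X := Sigma.desc f
  have hmem : ∀ z : (∐ Y : Scheme.{u}), ∃ i y, Sigma.ι Y i y = z := fun z =>
    (sigmaOpenCover Y).exists_eq z
  have hdisj : ∀ i j (y : Y i) (y' : Y j), Sigma.ι Y i y = Sigma.ι Y j y' → i = j := by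
    intro i j y y' e
    have := (sigmaι_eq_iff Y i j y y').1 e
    exact (Sigma.mk.inj_iff.1 this).1
  constructor
  apply IsClosedImmersion.of_isPreimmersion
  rw [← isOpen_compl_iff, isOpen_iff_forall_mem_open]
  intro x hx
  obtain ⟨i, yi, hyi⟩ := hmem (pullback.fst F F x)
  obtain ⟨j, yj, hyj⟩ := hmem (pullback.snd F F x)
  by_cases hij : i = j
  · subst hij
    have e₁ : f i ≫ 𝟙 X = Sigma.ι Y i ≫ F := by rw [Category.comp_id, Sigma.ι_desc]
    let m : pullback (f i) (f i) ⟶ pullback F F :=
      pullback.map (f i) (f i) F F (Sigma.ι Y i) (Sigma.ι Y i) (𝟙 X) e₁ e₁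
    haveI : IsOpenImmersion m := inferInstance
    have hrm : Set.range m = pullback.fst F F ⁻¹' Set.range (Sigma.ι Y i) ∩
        pullback.snd F F ⁻¹' Set.range (Sigma.ι Y i) :=
      Scheme.Pullback.range_map (f i) (f i) F F (Sigma.ι Y i) (Sigma.ι Y i) (𝟙 X) e₁ e₁
    have hm1 : m ≫ pullback.fst F F = pullback.fst (f i) (f i) ≫ Sigma.ι Y i :=
      pullback.lift_fst _ _ _
    have hm2 : m ≫ pullback.snd F F = pullback.snd (f i) (f i) ≫ Sigma.ι Y i :=
      pullback.lift_snd _ _ _
    have hkey : Sigma.ι Y i ≫ pullback.diagonal F = pullback.diagonal (f i) ≫ m := by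
      apply pullback.hom_ext
      · rw [Category.assoc, pullback.diagonal_fst, Category.comp_id, Category.assoc, hm1,
          ← Category.assoc, pullback.diagonal_fst, Category.id_comp]
      · rw [Category.assoc, pullback.diagonal_snd, Category.comp_id, Category.assoc, hm2,
          ← Category.assoc, pullback.diagonal_snd, Category.id_comp]
    haveI := hf i
    have hcl : IsClosed (Set.range (pullback.diagonal (f i))) :=
      (pullback.diagonal (f i)).isClosedEmbedding.isClosed_range
    have hminj : Function.Injective m := m.isOpenEmbedding.injective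
    obtain ⟨x', hx'⟩ : x ∈ Set.range m := by
      rw [hrm]
      exact ⟨⟨yi, hyi⟩, ⟨yj, hyj⟩⟩
    refine ⟨m '' (Set.range (pullback.diagonal (f i)))ᶜ, ?_,
      m.isOpenEmbedding.isOpenMap _ hcl.isOpen_compl, ?_⟩
    · rintro _ ⟨x'', hx'', rfl⟩ ⟨z, hz⟩
      apply hx''
      have h1 : pullback.fst F F (m x'') = Sigma.ι Y i (pullback.fst (f i) (f i) x'') := by
        rw [← Scheme.Hom.comp_apply, ← Scheme.Hom.comp_apply, hm1]
      have h2 : pullback.fst F F (pullback.diagonal F z) = z := by
        rw [← Scheme.Hom.comp_apply, pullback.diagonal_fst]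
        rfl
      have h3 : z = Sigma.ι Y i (pullback.fst (f i) (f i) x'') := by
        rw [← h2, hz, h1]
      refine ⟨pullback.fst (f i) (f i) x'', hminj ?_⟩
      rw [← Scheme.Hom.comp_apply, ← hkey, Scheme.Hom.comp_apply, ← h3, hz]
    · refine ⟨x', ?_, hx'⟩
      rintro ⟨z, hz⟩
      apply hx
      refine ⟨Sigma.ι Y i z, ?_⟩
      rw [← Scheme.Hom.comp_apply, hkey, Scheme.Hom.comp_apply, hz, hx']
  · refine ⟨pullback.fst F F ⁻¹' Set.range (Sigma.ι Y i) ∩
      pullback.snd F F ⁻¹' Set.range (Sigma.ι Y j), ?_, ?_, ⟨⟨yi, hyi⟩, ⟨yj, hyj⟩⟩⟩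
    · rintro _ ⟨⟨y, hy⟩, ⟨y', hy'⟩⟩ ⟨z, rfl⟩
      have h2 : pullback.fst F F (pullback.diagonal F z) = z := by
        rw [← Scheme.Hom.comp_apply, pullback.diagonal_fst]
        rfl
      have h3 : pullback.snd F F (pullback.diagonal F z) = z := by
        rw [← Scheme.Hom.comp_apply, pullback.diagonal_snd]
        rfl
      rw [h2] at hy
      rw [h3] at hy'
      exact hij (hdisj i j y y' (hy.trans hy'.symm))
    · exact ((Sigma.ι Y i).isOpenEmbedding.isOpen_range.preimage
        (pullback.fst F F).continuous).inter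
        ((Sigma.ι Y j).isOpenEmbedding.isOpen_range.preimage (pullback.snd F F).continuous)

variable {S : Scheme.{u}}

/-- The points of an algebraic space with values in a field form a small set. -/
theorem small_field_points {X : Sp S} (hX : IsAlgSpace X) {k : Type u} [Field k]
    (str : Spec (CommRingCat.of k) ⟶ S) :
    Small.{u} ((yon S).obj (Over.mk str) ⟶ X) := by
  obtain ⟨U, c, hce, hcs⟩ := hX.atlas
  let Ω := SeparableClosure k
  let Φ : ((yon S).obj (Over.mk str) ⟶ X) →
      ((L : IntermediateField k Ω) → Set (spK str L ⟶ U)) :=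
    fun y L => {u | FiniteDimensional k L ∧ (yon S).map u ≫ c = (yon S).map (piK str L) ≫ y}
  refine small_of_injective (f := Φ) ?_
  intro y y' hyy'
  obtain ⟨P⟩ := nonempty_galPt str hX y c hce hcs
  let σ : P.K →ₐ[k] Ω := IsSepClosed.lift
  let L : IntermediateField k Ω := σ.fieldRange
  let e : P.K ≃ₐ[k] L := AlgEquiv.ofInjectiveField σ
  haveI : FiniteDimensional k L := LinearEquiv.finiteDimensional e.toLinearEquiv
  let uL : spK str L ⟶ U := spMap str (e : P.K →ₐ[k] L) ≫ P.u
  have h1 : uL ∈ Φ y L := by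
    refine ⟨inferInstance, ?_⟩
    show (yon S).map (spMap str (e : P.K →ₐ[k] L) ≫ P.u) ≫ c = _
    rw [Functor.map_comp, Category.assoc, P.compat, ← Category.assoc, ← Functor.map_comp,
      spMap_piK]
  have h2 : uL ∈ Φ y' L := by
    rw [← hyy']
    exact h1
  have hfp := piK_fppf str L
  apply yon_cancel_fppf (piK str L) hfp.1 hfp.2
  rw [← h1.2, ← h2.2]

/-- A separated etale chart through which all points with values in quotients of a henselian local
ring lift. -/
theorem exists_separated_chart_all_quotients {X : Sp S} (hX : IsAlgSpace X) (R : Type u)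
    [CommRing R] [HenselianLocalRing R] (str : Spec (CommRingCat.of R) ⟶ S) :
    ∃ (Z : Over S) (p : (yon S).obj Z ⟶ X), IsSeparated Z.hom ∧ RepWith @Etale p ∧
      ∀ (a : Ideal R)
        (x : (yon S).obj (Over.mk (Spec.map (CommRingCat.ofHom (Ideal.Quotient.mk a)) ≫ str)) ⟶ X),
        ∃ g : Over.mk (Spec.map (CommRingCat.ofHom (Ideal.Quotient.mk a)) ≫ str) ⟶ Z,
          (yon S).map g ≫ p = x := by
  classical
  let I := (yon S).obj (Over.mk (Spec.map (CommRingCat.ofHom (IsLocalRing.residue R)) ≫ str)) ⟶ X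
  haveI : Small.{u} I := small_field_points hX (k := IsLocalRing.ResidueField R)
    (Spec.map (CommRingCat.ofHom (IsLocalRing.residue R)) ≫ str)
  choose Zf pf gf hZf hpf hgf using fun y : I => exists_affine_chart_of_field hX
    (k := IsLocalRing.ResidueField R)
    (Spec.map (CommRingCat.ofHom (IsLocalRing.residue R)) ≫ str) y
  let ι := Shrink.{u} I
  let e : I ≃ ι := equivShrink I
  let Zi : ι → Over S := fun i => Zf (e.symm i)
  obtain ⟨p, hp⟩ := exists_desc_sigmaOver Zi (fun i => pf (e.symm i))
  have hpe : RepWith @Etale p := repWith_etale_sigmaOver hX Zi p (fun i => by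
    rw [hp i]; exact hpf _)
  have hsep : IsSeparated (sigmaOver Zi).hom := by
    show IsSeparated (Sigma.desc fun i => (Zi i).hom)
    apply isSeparated_sigmaDesc
    intro i
    haveI : IsAffine (Zi i).left := hZf _
    infer_instance
  refine ⟨sigmaOver Zi, p, hsep, hpe, ?_⟩
  apply exists_lift_quotient_point hX R str p hpe
  intro y
  have key : ∀ i : ι, ∃ g : Over.mk (Spec.map (CommRingCat.ofHom (IsLocalRing.residue R)) ≫ str) ⟶
      sigmaOver Zi, (yon S).map g ≫ p = e.symm i := by
    intro i
    refine ⟨gf (e.symm i) ≫ sigmaOverι Zi i, ?_⟩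
    rw [Functor.map_comp, Category.assoc, hp i, hgf]
  obtain ⟨g, hg⟩ := key (e y)
  refine ⟨g, ?_⟩
  rw [hg]
  exact e.symm_apply_apply y

end Groth.Agent.Lead.HFib
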