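import Mathlib
import Groth.Prelude.Def_AlgSt3
import Groth.Agent.Lib.Lead.ETj
import Groth.Agent.Lib.Lead.HFibL

/-!
# Field valued points of an algebraic stack form an essentially small groupoid (lead)
-/

set_option backward.isDefEq.respectTransparency.types false
set_option autoImplicit false
set_option synthInstance.maxHeartbeats 400000
set_option maxHeartbeats 1000000
set_option linter.style.haveILetI false
set_option linter.unusedSectionVars false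
set_option linter.unusedSimpArgs false

open CategoryTheory CategoryTheory.Limits AlgebraicGeometry Opposite
open Groth.Agent.Helper2 Groth.Agent.Helper2.FibCatLib Groth.Agent.Helper2.StkLib
open Groth.Agent.Helper2.AlgStLib Groth.Agent.Helper2.AlgSpBasic Groth.Agent.Lead.HFib
open Groth.Agent.TorsDescSpec

namespace Groth.Agent.Lead.ET
universe u
variable {S : Scheme.{u}}

section PtEq

variable {𝒵 : AlgSt.Cat S} {V : Over S} (a : FibCat.overCat V ⥤ᵇ 𝒵)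
  {k : Type u} [Field k] (sk : Spec (CommRingCat.of k) ⟶ S)
  (x x' : FibCat.overCat (Over.mk sk) ⥤ᵇ 𝒵)
  (K : Type u) [Field K] [Algebra k K] [FiniteDimensional k K] [IsGalois k K]
  (v' : spK sk K ⟶ V)
  (θ₀ : BasedFunctor.comp (AlgSt.overMap v') a ≅ BasedFunctor.comp (AlgSt.overMap (piK sk K)) x)
  (θ₀' : BasedFunctor.comp (AlgSt.overMap v') a ≅ BasedFunctor.comp (AlgSt.overMap (piK sk K)) x')
  (iW : wF sk a x v' θ₀ ≅ wF sk a x' v' θ₀')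

theorem four_chase {D : Type*} [Category D] {X1 X2 Y1 Y2 : D} (κ : X1 ⟶ Y1) (κγ : X2 ⟶ Y2)
    (C : X2 ⟶ X1) (C' : Y2 ⟶ Y1) (E : X1 ⟶ X2) (E' : Y1 ⟶ Y2)
    (h : κγ ≫ C' = C ≫ κ) (hEC : E ≫ C = 𝟙 _) (hCE' : C' ≫ E' = 𝟙 _) :
    κ ≫ E' = E ≫ κγ := by
  calc κ ≫ E' = (E ≫ C) ≫ κ ≫ E' := by rw [hEC, Category.id_comp]
    _ = E ≫ (C ≫ κ) ≫ E' := by simp only [Category.assoc]
    _ = E ≫ (κγ ≫ C') ≫ E' := by rw [h]
    _ = E ≫ κγ ≫ (C' ≫ E') := by simp only [Category.assoc]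
    _ = E ≫ κγ := by rw [hCE', Category.comp_id]

set_option maxHeartbeats 400000 in
/-- An isomorphism between the Galois points of the fibre power attached to two points induces a
Galois invariant isomorphism between the pullbacks of the two points. -/
theorem przIso_inv (hthin : FibCat.IsFibSetoid (W a (K ≃ₐ[k] K)).p)
    {T : Over S} (l : T ⟶ spK sk K) (γ : K ≃ₐ[k] K)
    (hE : Over.mk (l ≫ piK sk K) = Over.mk ((l ≫ phi sk γ⁻¹) ≫ piK sk K)) :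
    ((postF _ (prz a (K ≃ₐ[k] K))).mapIso iW).hom.toNatTrans.app (Over.mk l) ≫
        x'.map (eqToHom hE) =
      x.map (eqToHom hE) ≫
        ((postF _ (prz a (K ≃ₐ[k] K))).mapIso iW).hom.toNatTrans.app (Over.mk (l ≫ phi sk γ⁻¹)) := by
  have hlpi : l ≫ piK sk K = (l ≫ phi sk γ⁻¹) ≫ piK sk K := by
    rw [Category.assoc, phi_piK]
  let iWl : (wF sk a x v' θ₀).obj (Over.mk l) ⟶ (wF sk a x' v' θ₀').obj (Over.mk l) :=
    iW.hom.toNatTrans.app (Over.mk l)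
  let iWγ : (wF sk a x v' θ₀).obj (Over.mk (l ≫ phi sk γ⁻¹)) ⟶
      (wF sk a x' v' θ₀').obj (Over.mk (l ≫ phi sk γ⁻¹)) :=
    iW.hom.toNatTrans.app (Over.mk (l ≫ phi sk γ⁻¹))
  let C : (Over.mk ((l ≫ phi sk γ⁻¹) ≫ piK sk K) : Over (Over.mk sk)) ⟶
      Over.mk (l ≫ piK sk K) := (cIso sk γ⁻¹).hom.toNatTrans.app (Over.mk l)
  let D : (wF sk a x v' θ₀).obj (Over.mk (l ≫ phi sk γ⁻¹)) ⟶
      (act a γ).obj ((wF sk a x v' θ₀).obj (Over.mk l)) :=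
    (wFEquiv sk a x v' θ₀ γ).hom.toNatTrans.app (Over.mk l)
  let D' : (wF sk a x' v' θ₀').obj (Over.mk (l ≫ phi sk γ⁻¹)) ⟶
      (act a γ).obj ((wF sk a x' v' θ₀').obj (Over.mk l)) :=
    (wFEquiv sk a x' v' θ₀' γ).hom.toNatTrans.app (Over.mk l)
  have hiWl : (W a (K ≃ₐ[k] K)).p.IsHomLift (𝟙 T) iWl := iW.hom.isHomLift' (Over.mk l)
  have hiWγ : (W a (K ≃ₐ[k] K)).p.IsHomLift (𝟙 T) iWγ :=
    iW.hom.isHomLift' (Over.mk (l ≫ phi sk γ⁻¹))
  have hD : (W a (K ≃ₐ[k] K)).p.IsHomLift (𝟙 T) D :=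
    (wFEquiv sk a x v' θ₀ γ).hom.isHomLift' (Over.mk l)
  have hD' : (W a (K ≃ₐ[k] K)).p.IsHomLift (𝟙 T) D' :=
    (wFEquiv sk a x' v' θ₀' γ).hom.isHomLift' (Over.mk l)
  have hact : (W a (K ≃ₐ[k] K)).p.IsHomLift (𝟙 T) ((act a γ).map iWl) :=
    (BasedFunctor.isHomLift_iff (act a γ) _ _).2 hiWl
  have hT : iWγ ≫ D' = D ≫ (act a γ).map iWl := by
    have h1 := thin_eq hthin rfl T (iWγ ≫ D') (D ≫ (act a γ).map iWl)
      (isHomLift_id_comp _ _ hiWγ hD') (isHomLift_id_comp _ _ hD hact)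
    rw [eqToHom_refl, Category.id_comp] at h1
    exact h1
  have hT1 : (prz a (K ≃ₐ[k] K)).map iWγ ≫ x'.map C = x.map C ≫ (prz a (K ≃ₐ[k] K)).map iWl :=
    congrArg WHom.φ hT
  have hC1 : C.left = 𝟙 T := cIso_hom_left sk γ⁻¹ (Over.mk l)
  have hE1 : (eqToHom hE).left = 𝟙 T := eqToHom_mk_left hlpi hE
  have hEC : x.map (eqToHom hE) ≫ x.map C = 𝟙 _ :=
    (map_comp_of_left x (eqToHom hE) C (𝟙 _)
      ((congrArg₂ (fun m n => m ≫ n) hE1 hC1).trans (Category.id_comp _))).trans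
      (x.toFunctor.map_id _)
  have hCE' : x'.map C ≫ x'.map (eqToHom hE) = 𝟙 _ :=
    (map_comp_of_left x' C (eqToHom hE) (𝟙 _)
      ((congrArg₂ (fun m n => m ≫ n) hC1 hE1).trans (Category.id_comp _))).trans
      (x'.toFunctor.map_id _)
  exact four_chase ((prz a (K ≃ₐ[k] K)).map iWl) ((prz a (K ≃ₐ[k] K)).map iWγ) (x.map C)
    (x'.map C) (x.map (eqToHom hE)) (x'.map (eqToHom hE)) hT1 hEC hCE'

include iW in
/-- Two points whose Galois points of the fibre power are isomorphic are isomorphic. -/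
theorem nonempty_iso_of_wF_iso (K₀ : Precoverage Scheme.{u})
    (h𝒵 : Stk.IsStack (QuotSh.J K₀ S) 𝒵) (hZ : ZarLE K₀ S)
    (hcov : ∀ {E Y : Over S} (q : E ⟶ Y), Etale q.left → Surjective q.left →
      Sieve.generate (Presieve.singleton q) ∈ QuotSh.J K₀ S Y)
    (hthin : FibCat.IsFibSetoid (W a (K ≃ₐ[k] K)).p) : Nonempty (x ≅ x') := by
  let κK : BasedFunctor.comp (AlgSt.overMap (piK sk K)) x ≅
      BasedFunctor.comp (AlgSt.overMap (piK sk K)) x' :=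
    (postF _ (prz a (K ≃ₐ[k] K))).mapIso iW
  have hpisurj : Surjective (piK sk K).left := ⟨(piK_fppf sk K).2⟩
  obtain ⟨κ₀, -⟩ := exists_nat_of_invariant K₀ (piK sk K) (rhoK sk K) h𝒵 hZ
    (hcov (piK sk K) (piK_etale sk K) hpisurj) (fun γ => phi_piK sk γ⁻¹)
    (fun {T} l l' hll => galois_heff sk K l l' hll) x x'
    (fun {T} l => κK.hom.toNatTrans.app (Over.mk l))
    (fun {T} l => κK.hom.isHomLift' (Over.mk l))
    (fun {T' T} g l => by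
      have hn := κK.hom.toNatTrans.naturality (Over.homMk g rfl : Over.mk (g ≫ l) ⟶ Over.mk l)
      have h2 : (AlgSt.overMap (piK sk K)).map (Over.homMk g rfl : Over.mk (g ≫ l) ⟶ Over.mk l) =
          (Over.homMk g (Category.assoc _ _ _).symm :
            Over.mk ((g ≫ l) ≫ piK sk K) ⟶ Over.mk (l ≫ piK sk K)) := by
        apply Over.OverMorphism.ext
        rfl
      rw [← h2]
      exact hn)
    (fun {T} l γ => przIso_inv a sk x x' K v' θ₀ θ₀' iW hthin l γ _)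
  haveI := isIso_of_isFibGrpd h𝒵.1 κ₀
  exact ⟨asIso κ₀⟩

end PtEq

section Small

/-- **The field valued points of an algebraic stack form an essentially small groupoid.** -/
theorem exists_small_family_of_points (K₀ : Precoverage Scheme.{u}) {𝒵 : AlgSt.Cat S}
    (h𝒵 : AlgSt.IsAlgStack K₀ 𝒵) (hZ : ZarLE K₀ S)
    (hcov : ∀ {E Y : Over S} (q : E ⟶ Y), Etale q.left → Surjective q.left →
      Sieve.generate (Presieve.singleton q) ∈ QuotSh.J K₀ S Y)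
    {k : Type u} [Field k] (sk : Spec (CommRingCat.of k) ⟶ S) :
    ∃ (ι : Type u) (f : ι → (FibCat.overCat (Over.mk sk) ⥤ᵇ 𝒵)),
      ∀ x : FibCat.overCat (Over.mk sk) ⥤ᵇ 𝒵, ∃ i, Nonempty (f i ≅ x) := by
  classical
  obtain ⟨V, a, ha, has⟩ := h𝒵.atlas
  have hfib : FibCat.IsFibGrpd 𝒵.p := h𝒵.isStack.1
  let Ω := SeparableClosure k
  let Lfin := {L : IntermediateField k Ω // FiniteDimensional k L ∧ IsGalois k L}
  have hmain : ∀ ℓ : Lfin, FibCat.IsFibSetoid (W a (ℓ.1 ≃ₐ[k] ℓ.1)).p ∧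
      Nonempty (Pres (W a (ℓ.1 ≃ₐ[k] ℓ.1))) := by
    intro ℓ
    haveI := ℓ.2.1
    haveI := ℓ.2.2
    haveI : Fintype (ℓ.1 ≃ₐ[k] ℓ.1) := inferInstanceAs (Fintype (ℓ.1 ≃ₐ[k] ℓ.1))
    obtain ⟨-, -, hWrep⟩ := main a hfib ha (ℓ.1 ≃ₐ[k] ℓ.1)
    exact ⟨isFibSetoid_of_repByAlgSp (hWrep ⟨1⟩), nonempty_pres (hWrep ⟨1⟩)⟩
  let PL : ∀ ℓ : Lfin, Pres (W a (ℓ.1 ≃ₐ[k] ℓ.1)) := fun ℓ => (hmain ℓ).2.some
  let I₀ := Σ ℓ : Lfin, (spK sk ℓ.1 ⟶ V) × ((AlgSp.yon S).obj (spK sk ℓ.1) ⟶ (PL ℓ).F.obj)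
  let Rel : I₀ → (FibCat.overCat (Over.mk sk) ⥤ᵇ 𝒵) → Prop := fun i x =>
    ∃ θ₀ : BasedFunctor.comp (AlgSt.overMap i.2.1) a ≅
      BasedFunctor.comp (AlgSt.overMap (piK sk i.1.1)) x,
      (PL i.1).pt (wF sk a x i.2.1 θ₀) = i.2.2
  let I := {i : I₀ // ∃ x, Rel i x}
  haveI : ∀ ℓ : Lfin, Small.{u} ((AlgSp.yon S).obj (spK sk ℓ.1) ⟶ (PL ℓ).F.obj) := fun ℓ =>
    small_field_points (PL ℓ).F.property (k := ℓ.1)
      (Spec.map (CommRingCat.ofHom (algebraMap k ℓ.1)) ≫ sk)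
  haveI : Small.{u} I₀ := inferInstance
  haveI : Small.{u} I := inferInstance
  let g : I → (FibCat.overCat (Over.mk sk) ⥤ᵇ 𝒵) := fun i => i.2.choose
  have hg : ∀ i : I, Rel i.1 (g i) := fun i => i.2.choose_spec
  refine ⟨Shrink.{u} I, fun j => g ((equivShrink I).symm j), ?_⟩
  intro x
  obtain ⟨K, _, _, _, _, v', ⟨θ₀⟩⟩ := Groth.Agent.ETSpec2.exists_sep_point hfib a ha has sk x
  let σ : K →ₐ[k] Ω := IsSepClosed.lift
  let L : IntermediateField k Ω := σ.fieldRange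
  let eKL : K ≃ₐ[k] L := AlgEquiv.ofInjectiveField σ
  haveI hLfd : FiniteDimensional k L := LinearEquiv.finiteDimensional eKL.toLinearEquiv
  haveI hLgal : IsGalois k L := IsGalois.of_algEquiv eKL
  let ℓ : Lfin := ⟨L, hLfd, hLgal⟩
  let vL : spK sk L ⟶ V := spMap sk (eKL : K →ₐ[k] L) ≫ v'
  let θL : BasedFunctor.comp (AlgSt.overMap vL) a ≅
      BasedFunctor.comp (AlgSt.overMap (piK sk L)) x :=
    (postF _ a).mapIso (ovTri (spMap sk (eKL : K →ₐ[k] L)) v' vL rfl).symm ≪≫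
      whiskerLeftIso (AlgSt.overMap (spMap sk (eKL : K →ₐ[k] L))) θ₀ ≪≫
      (postF _ x).mapIso (ovTri (spMap sk (eKL : K →ₐ[k] L)) (piK sk K) (piK sk L)
        (spMap_piK sk _))
  let i₀ : I₀ := ⟨ℓ, vL, (PL ℓ).pt (wF sk a x vL θL)⟩
  have hrel : Rel i₀ x := ⟨θL, rfl⟩
  let i : I := ⟨i₀, x, hrel⟩
  refine ⟨equivShrink I i, ?_⟩
  show Nonempty (g ((equivShrink I).symm (equivShrink I i)) ≅ x)
  rw [Equiv.symm_apply_apply]
  obtain ⟨θi, hθi⟩ := hg i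
  obtain ⟨iW⟩ := (PL ℓ).iso_of_pt_eq (hθi.trans rfl : (PL ℓ).pt (wF sk a (g i) vL θi) =
    (PL ℓ).pt (wF sk a x vL θL))
  exact nonempty_iso_of_wF_iso a sk (g i) x L vL θi θL iW K₀ h𝒵.isStack hZ hcov (hmain ℓ).1

end Small

end Groth.Agent.Lead.ET
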