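import Mathlib
import Groth.Prelude.Def_AlgSt3
import Groth.Agent.Lib.Lead.ETl
import Groth.Agent.Lib.Lead.HFibI
import Groth.Agent.Lib.Helper8.ETGlue

/-!
# A separated smooth chart of an algebraic stack through all points with values in the quotients
of a henselian local ring (lead)
-/

set_option backward.isDefEq.respectTransparency.types false
set_option autoImplicit false
set_option synthInstance.maxHeartbeats 400000
set_option maxHeartbeats 1000000
set_option linter.style.haveILetI false
set_option linter.unusedSectionVars false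
set_option linter.unusedSimpArgs false

open CategoryTheory CategoryTheory.Limits AlgebraicGeometry Opposite
open Groth.Agent.Helper2 Groth.Agent.Helper2.FibCatLib Groth.Agent.Helper2.StkLib
open Groth.Agent.Helper2.AlgStLib Groth.Agent.Helper2.AlgSpBasic Groth.Agent.Lead.HFib
open Groth.Agent.Helper2.Coprod
open Groth.Agent.TorsDescSpec

namespace Groth.Agent.Lead.ET
universe u
variable {S : Scheme.{u}}

/-- Henselian lifting along a smooth chart of a stack, starting from a lift of the closed point. -/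
theorem exists_lift_of_chart {𝒵 : AlgSt.Cat S} (R : Type u) [CommRing R] [HenselianLocalRing R]
    (str : Spec (CommRingCat.of R) ⟶ S) (z : FibCat.overCat (Over.mk str) ⥤ᵇ 𝒵) {U : Over S}
    (p : FibCat.overCat U ⥤ᵇ 𝒵) (hp : AlgSt.RepByAlgSpWith (AlgSp.LocP @Smooth) p)
    (u : Over.mk (Spec.map (CommRingCat.ofHom (IsLocalRing.residue R)) ≫ str) ⟶ U)
    (θ : BasedFunctor.comp (AlgSt.overMap u) p ≅
      BasedFunctor.comp (AlgSt.overMap (resMap R str)) z) :
    ∃ g : Over.mk str ⟶ U, Nonempty (BasedFunctor.comp (AlgSt.overMap g) p ≅ z) := by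
  let Zs : AlgSp.Space S := ⟨(AlgSp.yon S).obj U, AlgSp.IsAlgSpace.yon_obj U⟩
  let f : AlgSt.ofSp Zs.obj ⥤ᵇ 𝒵 := BasedFunctor.comp (AlgSt.toOverCat U) p
  have hf : AlgSt.RepByAlgSpWith (AlgSp.LocP @Smooth) f :=
    (LocQ.repByAlgSpWith_equiv_comp _ (AlgSt.toOverCat U) (toOverCat_isEquivOver U) p).2 hp
  have w : BasedFunctor.comp (BasedFunctor.comp (AlgSt.ofOverCat
      (Over.mk (Spec.map (CommRingCat.ofHom (IsLocalRing.residue R)) ≫ str)))
      (AlgSt.ofSpMap ((AlgSp.yon S).map u))) f ≅
      BasedFunctor.comp (AlgSt.overMap (resMap R str)) z :=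
    (postF _ p).mapIso (ofSecMapYonIso u) ≪≫ θ
  obtain ⟨z', -, ⟨κ⟩⟩ := exists_space_lift Zs f hf R str z ((AlgSp.yon S).map u) w
  obtain ⟨g, rfl⟩ := (AlgSp.yon S).map_surjective z'
  exact ⟨g, ⟨((postF _ p).mapIso (ofSecMapYonIso g)).symm ≪≫ κ⟩⟩

/-- If a smooth chart lifts every point with values in the residue field of a henselian local ring
`R`, then it lifts every point with values in a quotient of `R`. -/
theorem exists_lift_quotient_point_stack {𝒵 : AlgSt.Cat S}
    (h𝒵 : AlgSt.IsAlgStack Scheme.fppfPrecoverage 𝒵) (R : Type u) [CommRing R]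
    [HenselianLocalRing R] (str : Spec (CommRingCat.of R) ⟶ S) {Z : Over S}
    (p : FibCat.overCat Z ⥤ᵇ 𝒵) (hp : AlgSt.RepByAlgSpWith (AlgSp.LocP @Smooth) p)
    (hlift : ∀ y : FibCat.overCat
        (Over.mk (Spec.map (CommRingCat.ofHom (IsLocalRing.residue R)) ≫ str)) ⥤ᵇ 𝒵,
      ∃ g : Over.mk (Spec.map (CommRingCat.ofHom (IsLocalRing.residue R)) ≫ str) ⟶ Z,
        Nonempty (BasedFunctor.comp (AlgSt.overMap g) p ≅ y))
    (a : Ideal R)
    (x : FibCat.overCat (Over.mk (Spec.map (CommRingCat.ofHom (Ideal.Quotient.mk a)) ≫ str)) ⥤ᵇ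
      𝒵) :
    ∃ g : Over.mk (Spec.map (CommRingCat.ofHom (Ideal.Quotient.mk a)) ≫ str) ⟶ Z,
      Nonempty (BasedFunctor.comp (AlgSt.overMap g) p ≅ x) := by
  by_cases ha : a = ⊤
  · subst ha
    haveI : Subsingleton (R ⧸ (⊤ : Ideal R)) := Ideal.Quotient.subsingleton_iff.2 rfl
    haveI hE : IsEmpty (Spec (CommRingCat.of (R ⧸ (⊤ : Ideal R)))) :=
      inferInstanceAs (IsEmpty (PrimeSpectrum (R ⧸ (⊤ : Ideal R))))
    have hinit : IsInitial (Spec (CommRingCat.of (R ⧸ (⊤ : Ideal R)))) := isInitialOfIsEmpty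
    haveI : IsEmpty (Over.mk (Spec.map (CommRingCat.ofHom
      (Ideal.Quotient.mk (⊤ : Ideal R))) ≫ str)).left := hE
    refine ⟨Over.homMk (hinit.to Z.left) (hinit.hom_ext _ _), ?_⟩
    exact Groth.Agent.ETSpec3.nonempty_iso_of_isEmpty Scheme.fppfPrecoverage h𝒵.isStack
      zarLE_fppf _ _
  · let A := R ⧸ a
    haveI : Nontrivial A := Ideal.Quotient.nontrivial_iff.2 ha
    haveI : IsLocalRing A :=
      IsLocalRing.of_surjective' (Ideal.Quotient.mk a) Ideal.Quotient.mk_surjective
    haveI : HenselianLocalRing A := Groth.Agent.Helper7.Hensel.henselianLocalRing_of_finite R A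
    let strA : Spec (CommRingCat.of A) ⟶ S :=
      Spec.map (CommRingCat.ofHom (Ideal.Quotient.mk a)) ≫ str
    haveI : IsLocalHom (Ideal.Quotient.mk a) :=
      IsLocalHom.of_surjective _ Ideal.Quotient.mk_surjective
    let e0 : IsLocalRing.ResidueField R →+* IsLocalRing.ResidueField A :=
      IsLocalRing.ResidueField.map (Ideal.Quotient.mk a)
    have he0 : Function.Bijective e0 := by
      refine ⟨e0.injective, fun y => ?_⟩
      obtain ⟨y', rfl⟩ := IsLocalRing.residue_surjective y
      obtain ⟨r, rfl⟩ := Ideal.Quotient.mk_surjective y'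
      exact ⟨IsLocalRing.residue R r, IsLocalRing.ResidueField.map_residue _ r⟩
    let e : IsLocalRing.ResidueField R ≃+* IsLocalRing.ResidueField A :=
      RingEquiv.ofBijective e0 he0
    have hring1 : CommRingCat.ofHom (Ideal.Quotient.mk a) ≫
        CommRingCat.ofHom (IsLocalRing.residue A) ≫ CommRingCat.ofHom e.symm.toRingHom =
          CommRingCat.ofHom (IsLocalRing.residue R) := by
      apply CommRingCat.hom_ext
      apply RingHom.ext
      intro r
      show e.symm (IsLocalRing.residue A (Ideal.Quotient.mk a r)) = IsLocalRing.residue R r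
      rw [RingEquiv.symm_apply_eq]
      exact (IsLocalRing.ResidueField.map_residue _ r).symm
    have hring2 : CommRingCat.ofHom (IsLocalRing.residue R) ≫ CommRingCat.ofHom e.toRingHom =
        CommRingCat.ofHom (Ideal.Quotient.mk a) ≫ CommRingCat.ofHom (IsLocalRing.residue A) := by
      apply CommRingCat.hom_ext
      apply RingHom.ext
      intro r
      exact IsLocalRing.ResidueField.map_residue _ r
    let ε : Over.mk (Spec.map (CommRingCat.ofHom (IsLocalRing.residue R)) ≫ str) ⟶
        Over.mk (Spec.map (CommRingCat.ofHom (IsLocalRing.residue A)) ≫ strA) :=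
      Over.homMk (Spec.map (CommRingCat.ofHom e.symm.toRingHom)) (by
        show Spec.map (CommRingCat.ofHom e.symm.toRingHom) ≫
          Spec.map (CommRingCat.ofHom (IsLocalRing.residue A)) ≫
            Spec.map (CommRingCat.ofHom (Ideal.Quotient.mk a)) ≫ str =
              Spec.map (CommRingCat.ofHom (IsLocalRing.residue R)) ≫ str
        rw [← hring1]
        simp only [Spec.map_comp, Category.assoc])
    let ε' : Over.mk (Spec.map (CommRingCat.ofHom (IsLocalRing.residue A)) ≫ strA) ⟶
        Over.mk (Spec.map (CommRingCat.ofHom (IsLocalRing.residue R)) ≫ str) :=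
      Over.homMk (Spec.map (CommRingCat.ofHom e.toRingHom)) (by
        show Spec.map (CommRingCat.ofHom e.toRingHom) ≫
          Spec.map (CommRingCat.ofHom (IsLocalRing.residue R)) ≫ str =
            Spec.map (CommRingCat.ofHom (IsLocalRing.residue A)) ≫
              Spec.map (CommRingCat.ofHom (Ideal.Quotient.mk a)) ≫ str
        rw [← Category.assoc, ← Spec.map_comp, hring2]
        simp only [Spec.map_comp, Category.assoc])
    have hεε : ε' ≫ ε = 𝟙 _ := by
      ext
      show Spec.map (CommRingCat.ofHom e.toRingHom) ≫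
        Spec.map (CommRingCat.ofHom e.symm.toRingHom) = 𝟙 _
      rw [← Spec.map_comp]
      have : CommRingCat.ofHom e.symm.toRingHom ≫ CommRingCat.ofHom e.toRingHom = 𝟙 _ := by
        apply CommRingCat.hom_ext
        apply RingHom.ext
        intro r
        exact e.apply_symm_apply r
      rw [this, Spec.map_id]
    obtain ⟨g, ⟨φ⟩⟩ := hlift (BasedFunctor.comp (AlgSt.overMap (ε ≫ resMap A strA)) x)
    have h3 : ε' ≫ (ε ≫ resMap A strA) = resMap A strA :=
      (Category.assoc _ _ _).symm.trans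
        ((congrArg (fun m => m ≫ resMap A strA) hεε).trans (Category.id_comp _))
    have θ : BasedFunctor.comp (AlgSt.overMap (ε' ≫ g)) p ≅
        BasedFunctor.comp (AlgSt.overMap (resMap A strA)) x :=
      (postF _ p).mapIso (ovTri ε' g (ε' ≫ g) rfl).symm ≪≫
        whiskerLeftIso (AlgSt.overMap ε') φ ≪≫
        (postF _ x).mapIso (ovTri ε' (ε ≫ resMap A strA) (resMap A strA) h3)
    exact exists_lift_of_chart A strA x p hp (ε' ≫ g) θ

/-- **A separated smooth chart through all points with values in quotients of a henselian local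
ring.** -/
theorem exists_separated_chart_all_quotients_stack {𝒵 : AlgSt.Cat S}
    (h𝒵 : AlgSt.IsAlgStack Scheme.fppfPrecoverage 𝒵)
    (R : Type u) [CommRing R] [HenselianLocalRing R] (str : Spec (CommRingCat.of R) ⟶ S) :
    ∃ (Z : Over S) (p : FibCat.overCat Z ⥤ᵇ 𝒵), IsSeparated Z.hom ∧
      AlgSt.RepByAlgSpWith (AlgSp.LocP @Smooth) p ∧
      ∀ (a : Ideal R) (x : FibCat.overCat
        (Over.mk (Spec.map (CommRingCat.ofHom (Ideal.Quotient.mk a)) ≫ str)) ⥤ᵇ 𝒵),
        ∃ g : Over.mk (Spec.map (CommRingCat.ofHom (Ideal.Quotient.mk a)) ≫ str) ⟶ Z,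
          Nonempty (BasedFunctor.comp (AlgSt.overMap g) p ≅ x) := by
  classical
  let sk : Spec (CommRingCat.of (IsLocalRing.ResidueField R)) ⟶ S :=
    Spec.map (CommRingCat.ofHom (IsLocalRing.residue R)) ≫ str
  have hcov : ∀ {E Y : Over S} (q : E ⟶ Y), Etale q.left → Surjective q.left →
      Sieve.generate (Presieve.singleton q) ∈ QuotSh.J Scheme.fppfPrecoverage S Y :=
    fun q h1 h2 => Groth.Agent.ETSpec2.cov_fppf q h1 h2
  obtain ⟨ι, f, hf⟩ := exists_small_family_of_points Scheme.fppfPrecoverage h𝒵 zarLE_fppf hcov sk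
  choose U hU p u hp hθ using fun i : ι =>
    exists_chart_of_field Scheme.fppfPrecoverage h𝒵 zarLE_fppf hcov sk (f i)
  obtain ⟨P, hP, hPi⟩ := Groth.Agent.ETSpec3.exists_sigma_chart Scheme.fppfPrecoverage h𝒵.isStack
    h𝒵.diag zarLE_fppf U p hp
  have hsep : IsSeparated (sigmaOver U).hom := by
    show IsSeparated (Sigma.desc fun i => (U i).hom)
    apply isSeparated_sigmaDesc
    intro i
    haveI : IsAffine (U i).left := hU i
    infer_instance
  refine ⟨sigmaOver U, P, hsep, hP, ?_⟩
  apply exists_lift_quotient_point_stack h𝒵 R str P hP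
  intro y
  obtain ⟨i, ⟨φ⟩⟩ := hf y
  obtain ⟨ψ⟩ := hPi i
  obtain ⟨θ⟩ := hθ i
  refine ⟨u i ≫ sigmaOverι U i, ⟨?_⟩⟩
  exact (postF _ P).mapIso (ovTri (u i) (sigmaOverι U i) _ rfl).symm ≪≫
    whiskerLeftIso (AlgSt.overMap (u i)) ψ ≪≫ θ ≪≫ φ

end Groth.Agent.Lead.ET
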