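import Mathlib
import Groth.Prelude.Def_EssDim

set_option autoImplicit false
universe w u

open CategoryTheory AlgebraicGeometry Opposite Cardinal

namespace Groth.Agent.Lead.EdBC

theorem trdeg_adjoin_le {k K L : Type u} [Field k] [Field K] [Field L] [Algebra k K] [Algebra K L]
    [Algebra k L] [IsScalarTower k K L] (E : IntermediateField k L) :
    Algebra.trdeg K (IntermediateField.adjoin K (E : Set L)) ≤ Algebra.trdeg k E := by
  obtain ⟨s, hs⟩ := exists_isTranscendenceBasis k E
  rw [← hs.cardinalMk_eq_trdeg]
  have hEF : ∀ e : E, (e : L) ∈ IntermediateField.adjoin K (E : Set L) :=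
    fun e => IntermediateField.subset_adjoin K _ e.2
  let g : E →+* IntermediateField.adjoin K (E : Set L) :=
    { toFun := fun e => ⟨e, hEF e⟩
      map_one' := rfl
      map_mul' := fun _ _ => rfl
      map_zero' := rfl
      map_add' := fun _ _ => rfl }
  let t : Set (IntermediateField.adjoin K (E : Set L)) := Set.range (fun i : s => g i)
  have ht : #t ≤ #s := Cardinal.mk_range_le
  have hmem : ∀ r : Algebra.adjoin k (Set.range ((↑) : s → E)), g r ∈ Algebra.adjoin K t := by
    rintro ⟨r, hr⟩
    induction hr using Algebra.adjoin_induction with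
    | mem x hx =>
      obtain ⟨i, rfl⟩ := hx
      exact Algebra.subset_adjoin ⟨i, rfl⟩
    | algebraMap c =>
      have : g (algebraMap k E c) = algebraMap K (IntermediateField.adjoin K (E : Set L)) (algebraMap k K c) := by
        apply Subtype.ext
        change (algebraMap k L c) = algebraMap K L (algebraMap k K c)
        exact IsScalarTower.algebraMap_apply k K L c
      change g (algebraMap k E c) ∈ _
      rw [this]
      exact Subalgebra.algebraMap_mem _ _
    | add x y _ _ hx hy =>
      change g (x + y) ∈ _
      rw [map_add]; exact add_mem hx hy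
    | mul x y _ _ hx hy =>
      change g (x * y) ∈ _
      rw [map_mul]; exact mul_mem hx hy
  let f : Algebra.adjoin k (Set.range ((↑) : s → E)) →+* Algebra.adjoin K t :=
    (g.comp (Subalgebra.val _).toRingHom).codRestrict (Algebra.adjoin K t) hmem
  have hf : Function.Injective f := by
    intro a b hab
    have h1 : g a = g b := congrArg Subtype.val hab
    exact Subtype.ext (g.injective h1)
  have hcomp : (algebraMap (Algebra.adjoin K t) (IntermediateField.adjoin K (E : Set L))).comp f =
      g.comp (algebraMap (Algebra.adjoin k (Set.range ((↑) : s → E))) E) := by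
    ext r; rfl
  have halg : Algebra.IsAlgebraic (Algebra.adjoin K t) (IntermediateField.adjoin K (E : Set L)) := by
    constructor
    rintro ⟨y, hy⟩
    induction hy using IntermediateField.adjoin_induction with
    | mem z hz =>
      have h1 : IsAlgebraic (Algebra.adjoin k (Set.range ((↑) : s → E))) (⟨z, hz⟩ : E) :=
        hs.isAlgebraic.isAlgebraic _
      exact h1.ringHom_of_comp_eq f g hf hcomp
    | algebraMap c =>
      have : (⟨algebraMap K L c, IntermediateField.algebraMap_mem _ c⟩ : IntermediateField.adjoin K (E : Set L)) =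
          algebraMap (Algebra.adjoin K t) _ (algebraMap K (Algebra.adjoin K t) c) := rfl
      rw [this]
      exact isAlgebraic_algebraMap _
    | add x y hx hy h1 h2 => exact h1.add h2
    | inv x hx h1 => exact h1.inv
    | mul x y hx hy h1 h2 => exact h1.mul h2
  exact (Algebra.IsAlgebraic.trdeg_le_cardinalMk K t).trans ht

end Groth.Agent.Lead.EdBC

namespace Groth.Agent.Lead.EdBC

open EssDim

variable {k K : Type u} [Field k] [Field K] [Algebra k K]

/-- `Spec M` over `Spec K` pushed to `Spec k` is `Spec M` over `Spec k`. -/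
noncomputable def ptIso (M : Type u) [Field M] [Algebra K M] [Algebra k M] [IsScalarTower k K M] :
    (Over.map (Spec.map (CommRingCat.ofHom (algebraMap k K)))).obj (SGA7.pt (K := K) M) ≅
      SGA7.pt (K := k) M :=
  Over.isoMk (Iso.refl _) (by
    simp only [Iso.refl_hom, Category.id_comp, Over.map_obj_hom, Over.mk_hom]
    rw [← Spec.map_comp, ← CommRingCat.ofHom_comp, IsScalarTower.algebraMap_eq k K M])

theorem main (P : (Over (Spec (CommRingCat.of k)))ᵒᵖ ⥤ Type w) :
    EssDim.ed (k := K) ((Over.map (Spec.map (CommRingCat.ofHom (algebraMap k K)))).op ⋙ P) ≤ EssDim.ed P := by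
  unfold EssDim.ed
  refine iSup_le fun L => iSup_le fun instF => iSup_le fun instA => iSup_le fun ξ => ?_
  letI : Algebra k L := ((algebraMap K L).comp (algebraMap k K)).toAlgebra
  haveI : IsScalarTower k K L := IsScalarTower.of_algebraMap_eq (fun _ => rfl)
  let ξ' : FPt P L := P.map (ptIso (k := k) (K := K) L).inv.op ξ
  have hξ : ξ = P.map (ptIso (k := k) (K := K) L).hom.op ξ' := by
    simp only [ξ', ← FunctorToTypes.map_comp_apply, ← op_comp, Iso.hom_inv_id, op_id,
      FunctorToTypes.map_id_apply]
  refine le_trans ?_ (edAt_le_ed ξ')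
  rw [WithBot.coe_le_coe]
  unfold EssDim.edAt
  refine le_iInf fun ⟨E, hE⟩ => ?_
  obtain ⟨ξ₀, hξ₀⟩ := hE
  let F : IntermediateField K L := IntermediateField.adjoin K (E : Set L)
  have hEF : ∀ e : E, (e : L) ∈ F := fun e => IntermediateField.subset_adjoin K _ e.2
  let j : E →ₐ[k] F :=
    { toFun := fun e => ⟨e, hEF e⟩
      map_one' := rfl
      map_mul' := fun _ _ => rfl
      map_zero' := rfl
      map_add' := fun _ _ => rfl
      commutes' := fun c => by
        apply Subtype.ext
        rfl }
  have hF : Descends ((Over.map (Spec.map (CommRingCat.ofHom (algebraMap k K)))).op ⋙ P) ξ F := by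
    refine ⟨P.map ((ptIso (k := k) (K := K) F).hom ≫ resPt j).op ξ₀, ?_⟩
    rw [hξ, ← hξ₀]
    change P.map _ (P.map _ ξ₀) = P.map _ (P.map _ ξ₀)
    rw [← FunctorToTypes.map_comp_apply, ← FunctorToTypes.map_comp_apply]
    have key : ((ptIso (k := k) (K := K) F).hom ≫ resPt j).op ≫
        ((Over.map (Spec.map (CommRingCat.ofHom (algebraMap k K)))).map (resPt F.val)).op =
        (resPt E.val).op ≫ (ptIso (k := k) (K := K) L).hom.op := by
      rw [← op_comp, ← op_comp]
      congr 1
      ext : 1
      simp only [ptIso, Over.comp_left, Over.map_map_left, resPt_left, Over.isoMk_hom_left, Iso.refl_hom,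
        Category.id_comp]
      rw [← Spec.map_comp, ← CommRingCat.ofHom_comp]
      rfl
    exact congrArg (fun φ => P.map φ ξ₀) key
  refine le_trans (iInf_le (fun K' : {K' : IntermediateField K L //
    Descends ((Over.map (Spec.map (CommRingCat.ofHom (algebraMap k K)))).op ⋙ P) ξ K'} =>
      Cardinal.toENat (Algebra.trdeg K K'.1)) ⟨F, hF⟩) ?_
  exact OrderHomClass.mono Cardinal.toENat (trdeg_adjoin_le E)

end Groth.Agent.Lead.EdBC
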