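import Mathlib
import Groth.Agent.Lib.Helper1.PFrame3
import Groth.Agent.Lib.Helper1.HypPnB
import Groth.Agent.Lib.Helper1.TwistSec

set_option autoImplicit false
universe u
open CategoryTheory CategoryTheory.Limits AlgebraicGeometry TopologicalSpace Opposite

namespace Groth.Agent.Lead.EndNH

open Groth.Agent.Helper1.QcCech Groth.Agent.Helper1.LGen Groth.Agent.Helper1.PFrame
open Groth.Agent.Helper1.TwistSec Groth.Agent.Helper1

variable {X : Scheme.{u}}

theorem exists_basis {E : X.Modules} {r : ℕ} (hE : FlatMod.IsFinLocFreeOfRank r E) (x : X) :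
    ∃ (W : X.Opens) (b : Fin r → Γ(E, W)), x ∈ W ∧ IsBasisOn E W b := by
  obtain ⟨U, hxU, ⟨e⟩⟩ := hE x
  obtain ⟨b, hb⟩ := exists_isFrame_of_iso E U e
  exact ⟨U, b, hxU, hb.isBasisOn⟩

theorem rank_le_one {E : X.Modules} {r : ℕ} {W : X.Opens} [Nonempty W] (b : Fin r → Γ(E, W))
    (hb : IsBasisOn E W b) (t : E ⟶ Coh.structureModule X)
    (ht : Function.Injective (t.app W)) : r ≤ 1 := by
  let c : Fin r → Γ(X, W) := fun i => t.app W (b i)
  let g : (Fin r → Γ(X, W)) →ₗ[Γ(X, W)] Γ(X, W) := Fintype.linearCombination Γ(X, W) c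
  have hg : Function.Injective g := by
    rw [injective_iff_map_eq_zero]
    intro ρ hρ
    have h1 : t.app W (∑ i, ρ i • b i) = g ρ := by
      rw [map_sum]
      change _ = ∑ i, ρ i • c i
      refine Finset.sum_congr rfl fun i _ => ?_
      exact Scheme.Modules.Hom.app_smul t (ρ i) (b i)
    have h2 : (∑ i, ρ i • b i) = 0 := by
      apply ht
      rw [h1, hρ, map_zero]
      rfl
    have h3 := hb.bijective_self.1 (a₁ := ρ) (a₂ := 0)
    apply h3
    simp only [Pi.zero_apply, zero_smul, Finset.sum_const_zero]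
    exact h2
  have := LinearMap.finrank_le_finrank_of_injective hg
  simpa [Module.finrank_fin_fun, Module.finrank_self] using this


theorem app_of_eq {E : X.Modules} (φ : E ⟶ E) (a : Γ(X, ⊤))
    (h : (SheafOfModules.toSheaf X.ringCatSheaf).map φ = Coh.smulAb E a) (U : X.Opens) (m : Γ(E, U)) :
    φ.app U m = resR (le_top : U ≤ ⊤) a • m := by
  have := congrArg (fun ψ => ψ.hom.app (op U) m) h
  exact this

theorem hom_ne_zero_iff {M N : X.Modules} (t : M ⟶ N) (ht : t ≠ 0) :
    ∃ (U : X.Opens) (m : Γ(M, U)), t.app U m ≠ 0 := by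
  by_contra hcon
  apply ht
  apply Scheme.Modules.hom_ext
  intro V
  ext m
  by_contra hm
  exact hcon ⟨V, m, hm⟩

theorem main [IsIntegral X] {E : X.Modules} {r : ℕ} (hr : 1 < r) (hE : FlatMod.IsFinLocFreeOfRank r E)
    (s : Coh.structureModule X ⟶ E) (hs : s ≠ 0) (t : E ⟶ Coh.structureModule X) (ht : t ≠ 0)
    (a : Γ(X, ⊤)) (ha : a = 0 ∨ IsUnit a) :
    (SheafOfModules.toSheaf X.ringCatSheaf).map (t ≫ s) ≠ Coh.smulAb E a := by
  intro h
  have happ : ∀ (U : X.Opens) (m : Γ(E, U)), s.app U (t.app U m) = resR (le_top : U ≤ ⊤) a • m :=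
    fun U m => app_of_eq (t ≫ s) a h U m
  rcases ha with rfl | hu
  · -- `t ≫ s = 0`
    obtain ⟨U, m, hm⟩ := hom_ne_zero_iff t ht
    set f : Γ(X, U) := t.app U m with hf
    have hm' : f ≠ (0 : Γ(X, U)) := hm
    have hfs : f • secVal s U = 0 := by
      rw [← LGen.app_eq_smul s U f, happ U m, map_zero, zero_smul]
    have hUne : Nonempty U := by
      by_contra hne
      rw [not_nonempty_iff] at hne
      apply hm
      have : U = ⊥ := by
        ext x
        simp only [Opens.coe_bot, Set.mem_empty_iff_false, iff_false]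
        intro hx
        exact hne.false ⟨x, hx⟩
      subst this
      exact Subsingleton.elim (α := Γ(X, (⊥ : X.Opens))) _ _
    obtain ⟨x₀, hx₀⟩ := hUne
    -- `s(1) = 0`
    have hσ : secVal s ⊤ = 0 := by
      apply eq_of_locally E
      intro y _
      obtain ⟨W, b, hyW, hb⟩ := exists_basis hE y
      refine ⟨W, le_top, hyW, ?_⟩
      rw [res_secVal, map_zero]
      obtain ⟨ρ, hρ⟩ := hb.bijective_self.2 (secVal s W)
      -- nonempty intersection
      have hne : Nonempty (W ⊓ U : X.Opens) := by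
        have h1 : (W : Set X).Nonempty := ⟨y, hyW⟩
        have h2 : (U : Set X).Nonempty := ⟨x₀, hx₀⟩
        obtain ⟨z, hz⟩ := (PreirreducibleSpace.isPreirreducible_univ (X := X))
          W U W.2 U.2 (by simpa using h1) (by simpa using h2)
        exact ⟨⟨z, hz.2⟩⟩
      haveI : Nonempty W := ⟨⟨y, hyW⟩⟩
      haveI : Nonempty U := ⟨⟨x₀, hx₀⟩⟩
      have hinjU : Function.Injective (resR (inf_le_right : W ⊓ U ≤ U)) :=
        map_injective_of_isIntegral X (homOfLE (inf_le_right : W ⊓ U ≤ U))
      have hinjW : Function.Injective (resR (inf_le_left : W ⊓ U ≤ W)) :=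
        map_injective_of_isIntegral X (homOfLE (inf_le_left : W ⊓ U ≤ W))
      have hf' : resR (inf_le_right : W ⊓ U ≤ U) f ≠ 0 := by
        intro h0
        apply hm'
        apply hinjU
        rw [h0, map_zero]
      -- restrict the relation
      have h1 : resR (inf_le_right : W ⊓ U ≤ U) f • secVal s (W ⊓ U) = 0 := by
        rw [← res_secVal s (inf_le_right : W ⊓ U ≤ U), ← res_smul, hfs, map_zero]
      have h2 : secVal s (W ⊓ U) =
          ∑ i, resR (inf_le_left : W ⊓ U ≤ W) (ρ i) • res E (inf_le_left : W ⊓ U ≤ W) (b i) := by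
        rw [← res_secVal s (inf_le_left : W ⊓ U ≤ W), ← hρ, map_sum]
        refine Finset.sum_congr rfl fun i _ => ?_
        exact res_smul E _ _ _
      have h3 : (fun ρ' : Fin r → Γ(X, W ⊓ U) =>
          ∑ i, ρ' i • res E (inf_le_left : W ⊓ U ≤ W) (b i))
          (fun i => resR (inf_le_right : W ⊓ U ≤ U) f * resR (inf_le_left : W ⊓ U ≤ W) (ρ i)) =
          (fun ρ' : Fin r → Γ(X, W ⊓ U) =>
          ∑ i, ρ' i • res E (inf_le_left : W ⊓ U ≤ W) (b i)) 0 := by
        simp only [Pi.zero_apply, zero_smul, Finset.sum_const_zero]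
        rw [← h1, h2, Finset.smul_sum]
        refine Finset.sum_congr rfl fun i _ => ?_
        rw [mul_smul]
      have h4 := (hb (W ⊓ U) inf_le_left).1 h3
      have hρ0 : ρ = 0 := by
        funext i
        have h5 := congrFun h4 i
        simp only [Pi.zero_apply] at h5
        rcases mul_eq_zero.1 h5 with h6 | h6
        · exact absurd h6 hf'
        · apply hinjW
          show resR _ (ρ i) = resR _ 0
          rw [h6, map_zero]
      rw [← hρ, hρ0]
      simp
    apply hs
    apply Scheme.Modules.hom_ext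
    intro V
    ext ρ
    have h1 := LGen.app_eq_smul s V ρ
    have h2 : secVal s V = 0 := by
      rw [← res_secVal s (le_top : V ≤ ⊤), hσ]
      exact map_zero _
    exact h1.trans (by rw [h2]; exact smul_zero _)
  · -- `a` a unit: `t` is injective on sections
    obtain ⟨x⟩ : Nonempty X := inferInstance
    obtain ⟨W, b, hxW, hb⟩ := exists_basis hE x
    haveI : Nonempty W := ⟨⟨x, hxW⟩⟩
    have hinj : Function.Injective (t.app W) := by
      rw [injective_iff_map_eq_zero]
      intro m hm
      have h1 := happ W m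
      rw [hm, map_zero] at h1
      have hu' : IsUnit (resR (le_top : W ≤ ⊤) a) := hu.map _
      obtain ⟨v, hv⟩ := hu'.exists_left_inv
      have : m = v • (resR (le_top : W ≤ ⊤) a • m) := by
        rw [← mul_smul, hv, one_smul]
      rw [this, ← h1, smul_zero]
    have := rank_le_one b hb t hinj
    omega

end Groth.Agent.Lead.EndNH
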