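import Mathlib
import Groth.Prelude
import Groth.Agent.Lib.Lead.EssEt3

set_option autoImplicit false
set_option backward.isDefEq.respectTransparency.types false
set_option synthInstance.maxHeartbeats 400000
set_option linter.style.haveILetI false
set_option linter.unusedSectionVars false

universe u

open IsLocalRing TensorProduct

namespace Groth.Agent.Lead.EssEt

/-- Over an Artinian ring, a subring of a finite algebra containing the scalars is closed under
inverses. -/
theorem inv_mem_of_artinian {K F : Type*} [CommRing K] [IsArtinianRing K] [CommRing F]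
    [Algebra K F] [Module.Finite K F]
    (L : Subring F) (hK : ∀ k : K, algebraMap K F k ∈ L) (X w : F) (hX : X ∈ L)
    (hXw : X * w = 1) : w ∈ L := by
  let B := Algebra.adjoin K {X}
  let b : B := ⟨X, Algebra.self_mem_adjoin_singleton K X⟩
  have hinj : Function.Injective B.val := Subtype.val_injective
  have hXint : IsIntegral K X := Algebra.IsIntegral.isIntegral X
  have hbint : IsIntegral K b := (isIntegral_algHom_iff B.val hinj).mp hXint
  have hbnzd : b ∈ nonZeroDivisors B := by
    rw [mem_nonZeroDivisors_iff_right]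
    intro c hc
    have h1 : (c : F) * X = 0 := congrArg Subtype.val hc
    have h2 : (c : F) = 0 := by
      calc (c : F) = (c : F) * (X * w) := by rw [hXw, mul_one]
        _ = ((c : F) * X) * w := by ring
        _ = 0 := by rw [h1, zero_mul]
    exact Subtype.ext h2
  obtain ⟨u, hu⟩ := IsArtinianRing.isUnit_of_isIntegral_of_nonZeroDivisor hbint hbnzd
  have h3 : X * ((u⁻¹ : Bˣ) : B) = 1 := by
    have h4 : b * ((u⁻¹ : Bˣ) : B) = 1 := by rw [← hu]; exact u.mul_inv
    exact congrArg Subtype.val h4
  have hw : w = (((u⁻¹ : Bˣ) : B) : F) := by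
    calc w = (X * ((u⁻¹ : Bˣ) : B)) * w := by rw [h3, one_mul]
      _ = (X * w) * ((u⁻¹ : Bˣ) : B) := by ring
      _ = _ := by rw [hXw, one_mul]
  rw [hw]
  have hmem : ∀ z ∈ Algebra.adjoin K {X}, z ∈ L := by
    intro z hz
    induction hz using Algebra.adjoin_induction with
    | mem x hx => rw [Set.mem_singleton_iff.mp hx]; exact hX
    | algebraMap k => exact hK k
    | add x y _ _ hx hy => exact L.add_mem hx hy
    | mul x y _ _ hx hy => exact L.mul_mem hx hy
  exact hmem _ ((u⁻¹ : Bˣ) : B).2

end Groth.Agent.Lead.EssEt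

namespace Groth.Agent.Lead.EssEt

set_option maxHeartbeats 1000000 in
/-- A subalgebra of the total fraction ring containing the inverses of the non-zero-divisors of
the base is closed under inverses. -/
theorem inv_mem_subalgebra {A : Type u} [CommRing A] [IsReduced A]
    (hmin : (minimalPrimes A).Finite)
    (E : Type u) [CommRing E] [Algebra A E] [Module.Flat A E] [Algebra.EssFiniteType A E]
    [Algebra.FormallyUnramified A E] (L : Subalgebra A (FractionRing E))
    (hL : ∀ s ∈ nonZeroDivisors A, ∃ y ∈ L, algebraMap A (FractionRing E) s * y = 1)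
    (X w : FractionRing E) (hX : X ∈ L) (hXw : X * w = 1) : w ∈ L := by
  classical
  set T := (nonZeroDivisors A).map (algebraMap A E) with hT
  let K := FractionRing A
  let F := FractionRing E
  haveI hlocF : IsLocalization T F := isLocalization_fractionRing hmin E
  have hle : nonZeroDivisors A ≤ T.comap (algebraMap A E) := fun a ha => ⟨a, ha, rfl⟩
  let ψ : K →+* F := IsLocalization.map F (algebraMap A E) hle
  have hψ : ∀ a : A, ψ (algebraMap A K a) = algebraMap E F (algebraMap A E a) :=
    fun a => IsLocalization.map_eq hle a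
  letI algKF : Algebra K F := ψ.toAlgebra
  haveI towAKF : IsScalarTower A K F := IsScalarTower.of_algebraMap_eq (fun a => by
    rw [IsScalarTower.algebraMap_apply A E F]
    exact (hψ a).symm)
  haveI : Algebra.FormallyUnramified K F :=
    Algebra.FormallyUnramified.localization_map (R := A) (S := E) (Rₘ := K) (Sₘ := F)
      (nonZeroDivisors A)
  haveI : Algebra.EssFiniteType E F := Algebra.EssFiniteType.of_isLocalization F T
  haveI : Algebra.EssFiniteType A F := Algebra.EssFiniteType.comp A E F
  haveI : Algebra.EssFiniteType K F := Algebra.EssFiniteType.of_comp A K F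
  haveI : IsArtinianRing K := isArtinianRing_of_isFractionRing hmin K
  haveI : Module.Finite K F := Module.Finite.of_quasiFinite
  have hK : ∀ k : K, algebraMap K F k ∈ L.toSubring := by
    intro k
    obtain ⟨b, s, rfl⟩ := IsLocalization.exists_mk'_eq (nonZeroDivisors A) k
    obtain ⟨y, hyL, hy⟩ := hL s.1 s.2
    have h1 : algebraMap K F (IsLocalization.mk' K b s) = algebraMap A F b * y := by
      have h2 : algebraMap A F s.1 * algebraMap K F (IsLocalization.mk' K b s) =
          algebraMap A F b := by
        rw [IsScalarTower.algebraMap_apply A K F, ← map_mul, mul_comm,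
          IsLocalization.mk'_spec, ← IsScalarTower.algebraMap_apply]
      calc algebraMap K F (IsLocalization.mk' K b s)
          = (algebraMap A F s.1 * y) * algebraMap K F (IsLocalization.mk' K b s) := by
            rw [hy, one_mul]
        _ = (algebraMap A F s.1 * algebraMap K F (IsLocalization.mk' K b s)) * y := by ring
        _ = _ := by rw [h2]
    rw [h1]
    exact L.mul_mem (L.algebraMap_mem b) hyL
  exact inv_mem_of_artinian (K := K) (F := F) L.toSubring hK X w hX hXw

theorem S16443_main
    (A E : Type u) [CommRing A] [IsLocalRing A] [IsReduced A] (hmin : (minimalPrimes A).Finite)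
    [CommRing E] [IsLocalRing E] [Algebra A E] [IsLocalHom (algebraMap A E)]
    (hE : EGA4loc.IsEssentiallyEtale A E) (L : Subalgebra A (FractionRing E))
    (hL : ∀ s ∈ nonZeroDivisors A, ∃ y ∈ L, algebraMap A (FractionRing E) s * y = 1) :
    ∃ D : Subalgebra A E, (D : Set E) = (algebraMap E (FractionRing E)) ⁻¹' (L : Set (FractionRing E)) ∧
      ∃ _ : IsLocalRing D, IsLocalHom (algebraMap D E) ∧
        ∀ l ∈ L, ∃ d ∈ D, ∃ s ∈ nonZeroDivisors A, ∃ y ∈ L,
          algebraMap A (FractionRing E) s * y = 1 ∧ l = algebraMap E (FractionRing E) d * y := by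
  classical
  obtain ⟨C, _, _, q, _, hCet, hq, ⟨e⟩⟩ := hE
  haveI : Module.Flat A (Localization.AtPrime q) := Module.Flat.trans A C (Localization.AtPrime q)
  haveI : Module.Flat A E := Module.Flat.of_linearEquiv e.toLinearEquiv
  haveI : Algebra.EssFiniteType C (Localization.AtPrime q) :=
    Algebra.EssFiniteType.of_isLocalization _ q.primeCompl
  haveI : Algebra.EssFiniteType A (Localization.AtPrime q) :=
    Algebra.EssFiniteType.comp A C (Localization.AtPrime q)
  haveI : Algebra.EssFiniteType A E := (Algebra.EssFiniteType.iff_of_algEquiv e).mpr inferInstance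
  haveI : Algebra.FormallyUnramified A E := Algebra.FormallyUnramified.of_equiv e.symm
  set T := (nonZeroDivisors A).map (algebraMap A E) with hT
  let F := FractionRing E
  haveI hlocF : IsLocalization T F := isLocalization_fractionRing hmin E
  let D : Subalgebra A E := L.comap (IsScalarTower.toAlgHom A E F)
  have hDmem : ∀ x : E, x ∈ D ↔ algebraMap E F x ∈ L := fun x => Iff.rfl
  have hlochom : IsLocalHom (algebraMap D E) := by
    constructor
    intro x hx
    obtain ⟨u, hu⟩ := hx
    have hu' : (u : E) = (x : E) := hu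
    have h1 : algebraMap E F (x : E) * algebraMap E F ((u⁻¹ : Eˣ) : E) = 1 := by
      rw [← map_mul, ← hu', Units.mul_inv, map_one]
    have h2 : algebraMap E F ((u⁻¹ : Eˣ) : E) ∈ L :=
      inv_mem_subalgebra hmin E L hL _ _ ((hDmem _).mp x.2) h1
    have h3 : ((u⁻¹ : Eˣ) : E) ∈ D := (hDmem _).mpr h2
    refine IsUnit.of_mul_eq_one (⟨_, h3⟩ : D) ?_
    apply Subtype.ext
    show (x : E) * ((u⁻¹ : Eˣ) : E) = 1
    rw [← hu', Units.mul_inv]
  haveI := hlochom
  have hDlocal : IsLocalRing D := RingHom.domain_isLocalRing (algebraMap D E)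
  refine ⟨D, rfl, hDlocal, hlochom, ?_⟩
  intro l hl
  obtain ⟨⟨x, t⟩, hxt⟩ := IsLocalization.surj T l
  obtain ⟨s, hs, hst⟩ := t.2
  obtain ⟨y, hyL, hy⟩ := hL s hs
  have h1 : algebraMap E F x = l * algebraMap A F s := by
    rw [← hxt, IsScalarTower.algebraMap_apply A E F]
    congr 2
    exact hst.symm
  have hxD : x ∈ D := by
    rw [hDmem, h1]
    exact L.mul_mem hl (L.algebraMap_mem s)
  refine ⟨x, hxD, s, hs, y, hyL, hy, ?_⟩
  rw [h1, mul_assoc, hy, mul_one]

end Groth.Agent.Lead.EssEt
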