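import Mathlib
import Groth.Prelude
import Groth.Agent.Lib.Lead.EssEt4

set_option autoImplicit false
set_option backward.isDefEq.respectTransparency.types false
set_option synthInstance.maxHeartbeats 400000
set_option linter.style.haveILetI false
set_option linter.unusedSectionVars false

universe u

open IsLocalRing TensorProduct

namespace Groth.Agent.Lead.EssEt

open Groth.Agent.Helper7.SHens

set_option maxHeartbeats 1000000 in
/-- Enhanced version of `exists_subalgebra_of_etale`: the subalgebra is moreover saturated for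
division by non-zero-divisors. -/
theorem exists_subalgebra_of_etale' (A : Type u) [CommRing A] [IsLocalRing A]
    (S : Type u) [CommRing S] [IsLocalRing S] [Algebra A S]
    [IsLocalHom (algebraMap A S)] [Hensel.IsStrictHenselization A S]
    (C : Type u) [CommRing C] [Algebra A C] [Algebra.Etale A C] (φ : C →ₐ[A] S) :
    ∃ E : Subalgebra A S, (∀ c : C, φ c ∈ E) ∧
      (∀ u ∈ E, ∀ y ∈ E, ∀ x : S, u ∈ nonZeroDivisors S → u * x = y → x ∈ E) ∧
      ∃ _ : IsLocalRing E, EGA4loc.IsEssentiallyEtale A E := by
  classical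
  let q : Ideal C := (maximalIdeal S).comap φ
  haveI hq : q.IsPrime := Ideal.IsPrime.comap _
  have hunits : ∀ y : q.primeCompl, IsUnit (φ.toRingHom y) := by
    intro y
    by_contra hnu
    exact y.2 hnu
  let Φ₀ : Localization.AtPrime q →+* S := IsLocalization.lift hunits
  have hΦ₀ : ∀ c : C, Φ₀ (algebraMap C (Localization.AtPrime q) c) = φ c :=
    fun c => IsLocalization.lift_eq hunits c
  let Φ : Localization.AtPrime q →ₐ[A] S :=
    { Φ₀ with
      commutes' := fun a => by
        show Φ₀ (algebraMap A (Localization.AtPrime q) a) = algebraMap A S a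
        rw [IsScalarTower.algebraMap_apply A C (Localization.AtPrime q), hΦ₀, φ.commutes] }
  have hΦ : ∀ c : C, Φ (algebraMap C (Localization.AtPrime q) c) = φ c := hΦ₀
  -- flatness
  letI algCS : Algebra C S := φ.toRingHom.toAlgebra
  letI algLS : Algebra (Localization.AtPrime q) S := Φ₀.toAlgebra
  haveI : IsScalarTower C (Localization.AtPrime q) S :=
    IsScalarTower.of_algebraMap_eq (fun c => (hΦ₀ c).symm)
  haveI hflC : Module.Flat C S := flat_of_etale_strictHenselization A S C φ
  haveI hflL : Module.Flat (Localization.AtPrime q) S :=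
    (Module.flat_iff_of_isLocalization (Localization.AtPrime q) q.primeCompl S).mpr hflC
  haveI hlocΦ : IsLocalHom (algebraMap (Localization.AtPrime q) S) := by
    constructor
    intro z hz
    obtain ⟨c, t, rfl⟩ := IsLocalization.exists_mk'_eq q.primeCompl z
    have h1 : Φ₀ (IsLocalization.mk' (Localization.AtPrime q) c t) * φ t.1 = φ c := by
      rw [← hΦ₀ t.1, ← map_mul, ← hΦ₀ c]
      congr 1
      exact IsLocalization.mk'_spec (Localization.AtPrime q) c t
    have hcu : IsUnit (φ c) := by
      rw [← h1]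
      exact IsUnit.mul hz (hunits t)
    have hcq : c ∈ q.primeCompl := by
      intro hmem
      have h2 : φ c ∈ maximalIdeal S := hmem
      exact h2 hcu
    have := IsLocalization.map_units (Localization.AtPrime q) (⟨c, hcq⟩ : q.primeCompl)
    rw [← IsLocalization.mk'_spec (Localization.AtPrime q) c t] at this
    exact isUnit_of_mul_isUnit_left this
  haveI hff : Module.FaithfullyFlat (Localization.AtPrime q) S :=
    Module.FaithfullyFlat.of_flat_of_isLocalHom
  have hinj : Function.Injective Φ :=
    FaithfulSMul.algebraMap_injective (Localization.AtPrime q) S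
  let E : Subalgebra A S := Φ.range
  let eE : Localization.AtPrime q ≃ₐ[A] E := AlgEquiv.ofInjective Φ hinj
  haveI hElocal : IsLocalRing E :=
    IsLocalRing.of_surjective' eE.toRingEquiv.toRingHom eE.surjective
  refine ⟨E, fun c => ⟨algebraMap C _ c, hΦ c⟩, ?_, hElocal, ?_⟩
  · rintro _ ⟨u', rfl⟩ _ ⟨y', rfl⟩ x hu hux
    have h1 : y' ∈ (Ideal.map (algebraMap (Localization.AtPrime q) S) (Ideal.span {u'})).comap
        (algebraMap (Localization.AtPrime q) S) := by
      rw [Ideal.mem_comap, Ideal.map_span, Set.image_singleton, Ideal.mem_span_singleton]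
      exact ⟨x, hux.symm⟩
    rw [Ideal.comap_map_eq_self_of_faithfullyFlat, Ideal.mem_span_singleton] at h1
    obtain ⟨x', rfl⟩ := h1
    refine ⟨x', ?_⟩
    have hux' : Φ u' * x = Φ (u' * x') := hux
    have h2 : Φ u' * (Φ x' - x) = 0 := by
      rw [mul_sub, hux', map_mul, sub_self]
    have h3 := (mem_nonZeroDivisors_iff.mp hu).1 _ h2
    exact sub_eq_zero.mp h3
  · refine ⟨C, inferInstance, inferInstance, q, hq, inferInstance, ?_, ⟨eE.symm⟩⟩
    ext a
    have h1 : a ∈ q.comap (algebraMap A C) ↔ algebraMap A S a ∈ maximalIdeal S := by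
      show φ (algebraMap A C a) ∈ maximalIdeal S ↔ _
      rw [φ.commutes]
    rw [h1, IsLocalRing.mem_maximalIdeal, IsLocalRing.mem_maximalIdeal, mem_nonunits_iff,
      mem_nonunits_iff, isUnit_map_iff]

end Groth.Agent.Lead.EssEt

namespace Groth.Agent.Lead.EssEt

section FracD

variable {A : Type u} [CommRing A] [IsReduced A]

set_option maxHeartbeats 2000000 in
/-- If the total fraction ring of `D` is finitely generated over `A` up to denominators, then
every non-zero-divisor of `D` divides the image of a non-zero-divisor of `A`. -/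
theorem exists_mul_eq_algebraMap (hmin : (minimalPrimes A).Finite)
    (D : Type u) [CommRing D] [IsReduced D] [Algebra A D]
    (hreg : ∀ a ∈ nonZeroDivisors A, algebraMap A D a ∈ nonZeroDivisors D)
    (t : Finset (FractionRing D))
    (ht : ∀ x : FractionRing D, ∃ a ∈ nonZeroDivisors A,
      algebraMap A (FractionRing D) a * x ∈ Algebra.adjoin A (t : Set (FractionRing D)))
    (e : D) (he : e ∈ nonZeroDivisors D) :
    ∃ d : D, ∃ s ∈ nonZeroDivisors A, e * d = algebraMap A D s := by
  classical
  let K := FractionRing A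
  let F := FractionRing D
  have hunitA : ∀ y : nonZeroDivisors A, IsUnit (algebraMap A F y) := by
    intro y
    rw [IsScalarTower.algebraMap_apply A D F]
    exact IsLocalization.map_units F (⟨algebraMap A D y, hreg y y.2⟩ : nonZeroDivisors D)
  let ψ : K →+* F := IsLocalization.lift hunitA
  have hψ : ∀ a, ψ (algebraMap A K a) = algebraMap A F a := IsLocalization.lift_eq hunitA
  letI algKF : Algebra K F := ψ.toAlgebra
  haveI : IsScalarTower A K F := IsScalarTower.of_algebraMap_eq (fun a => (hψ a).symm)
  haveI : IsArtinianRing K := isArtinianRing_of_isFractionRing hmin K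
  have hinv : ∀ (a : A) (ha : a ∈ nonZeroDivisors A),
      algebraMap K F (IsLocalization.mk' K 1 ⟨a, ha⟩) * algebraMap A F a = 1 := by
    intro a ha
    rw [IsScalarTower.algebraMap_apply A K F, ← map_mul]
    have : IsLocalization.mk' K (1 : A) ⟨a, ha⟩ * algebraMap A K a = 1 := by
      have := IsLocalization.mk'_spec K (1 : A) ⟨a, ha⟩
      rw [map_one] at this
      exact this
    rw [this, map_one]
  -- finite type
  have hadj : Algebra.adjoin K (t : Set F) = ⊤ := by
    rw [eq_top_iff]
    intro x _
    obtain ⟨a, ha, hax⟩ := ht x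
    have h1 : Algebra.adjoin A (t : Set F) ≤ (Algebra.adjoin K (t : Set F)).restrictScalars A :=
      Algebra.adjoin_le (fun y hy => Algebra.subset_adjoin hy)
    have h2 : algebraMap A F a * x ∈ Algebra.adjoin K (t : Set F) := h1 hax
    have h3 : x = algebraMap K F (IsLocalization.mk' K 1 ⟨a, ha⟩) * (algebraMap A F a * x) := by
      rw [← mul_assoc, hinv a ha, one_mul]
    rw [h3]
    exact mul_mem (Subalgebra.algebraMap_mem _ _) h2
  haveI : Algebra.FiniteType K F := ⟨⟨t, hadj⟩⟩
  haveI : IsNoetherianRing F := Algebra.FiniteType.isNoetherianRing K F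
  -- every nzd of F is a unit
  have hnzdF : ∀ x ∈ nonZeroDivisors F, IsUnit x := by
    intro x hx
    obtain ⟨d, s, rfl⟩ := IsLocalization.exists_mk'_eq (nonZeroDivisors D) x
    have hd : d ∈ nonZeroDivisors D := by
      rw [mem_nonZeroDivisors_iff_right]
      intro d' hd'
      have h1 : algebraMap D F d' * IsLocalization.mk' F d s = 0 := by
        have h5 : IsLocalization.mk' F d s * algebraMap D F s = algebraMap D F d :=
          IsLocalization.mk'_spec F d s
        have hsu : IsUnit (algebraMap D F s) := IsLocalization.map_units F s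
        have h6 : (algebraMap D F d' * IsLocalization.mk' F d s) * algebraMap D F s = 0 := by
          rw [mul_assoc, h5, ← map_mul, hd', map_zero]
        exact hsu.mul_left_eq_zero.mp h6
      have h4 := (mem_nonZeroDivisors_iff_right.mp hx) _ h1
      exact (IsFractionRing.injective D F) (by rw [h4, map_zero])
    have hdu : IsUnit (algebraMap D F d) := IsLocalization.map_units F ⟨d, hd⟩
    have h5 : IsLocalization.mk' F d s * algebraMap D F s = algebraMap D F d :=
      IsLocalization.mk'_spec F d s
    rw [← h5] at hdu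
    exact isUnit_of_mul_isUnit_left hdu
  -- every prime of F is a minimal prime
  have hminF : (minimalPrimes F).Finite := minimalPrimes.finite_of_isNoetherianRing F
  have hprime : ∀ P : Ideal F, P.IsPrime → P ∈ minimalPrimes F := by
    intro P hP
    apply mem_minimalPrimes_of_disjoint_nonZeroDivisors hminF P
    rw [Set.disjoint_left]
    intro x hxP hx
    exact hP.ne_top (Ideal.eq_top_of_isUnit_mem P hxP (hnzdF x hx))
  haveI hfinspec : Finite (PrimeSpectrum F) := by
    haveI : Finite (minimalPrimes F) := hminF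
    let g : PrimeSpectrum F → minimalPrimes F := fun P => ⟨P.asIdeal, hprime P.asIdeal P.2⟩
    apply Finite.of_injective g
    intro P Q hPQ
    apply PrimeSpectrum.ext
    exact congrArg (fun z : minimalPrimes F => (z : Ideal F)) hPQ
  haveI : Algebra.QuasiFinite K F :=
    Algebra.QuasiFinite.iff_finite_comap_preimage_singleton.mpr (fun x => Set.toFinite _)
  haveI : Module.Finite K F := Module.Finite.of_quasiFinite
  -- Step 2
  have he'u : IsUnit (algebraMap D F e) := IsLocalization.map_units F (⟨e, he⟩ : nonZeroDivisors D)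
  obtain ⟨w, hw⟩ := he'u.exists_right_inv
  have hwmem : w ∈ (Algebra.adjoin K {algebraMap D F e}).toSubring :=
    inv_mem_of_artinian (K := K) (F := F) _ (fun k => Subalgebra.algebraMap_mem _ k)
      (algebraMap D F e) w (Algebra.self_mem_adjoin_singleton K _) hw
  have hclear : ∀ z ∈ Algebra.adjoin K {algebraMap D F e}, ∃ s ∈ nonZeroDivisors A, ∃ d : D,
      algebraMap A F s * z = algebraMap D F d := by
    intro z hz
    induction hz using Algebra.adjoin_induction with
    | mem x hx =>
      refine ⟨1, one_mem _, e, ?_⟩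
      rw [Set.mem_singleton_iff.mp hx, map_one, one_mul]
    | algebraMap k =>
      obtain ⟨b, s, rfl⟩ := IsLocalization.exists_mk'_eq (nonZeroDivisors A) k
      refine ⟨s.1, s.2, algebraMap A D b, ?_⟩
      rw [IsScalarTower.algebraMap_apply A K F, ← map_mul, mul_comm,
        IsLocalization.mk'_spec, ← IsScalarTower.algebraMap_apply,
        IsScalarTower.algebraMap_apply A D F]
    | add x y _ _ hx hy =>
      obtain ⟨s₁, hs₁, d₁, h₁⟩ := hx
      obtain ⟨s₂, hs₂, d₂, h₂⟩ := hy
      refine ⟨s₁ * s₂, mul_mem hs₁ hs₂, algebraMap A D s₂ * d₁ + algebraMap A D s₁ * d₂, ?_⟩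
      have e1 : algebraMap D F (algebraMap A D s₂) = algebraMap A F s₂ :=
        (IsScalarTower.algebraMap_apply A D F s₂).symm
      have e2 : algebraMap D F (algebraMap A D s₁) = algebraMap A F s₁ :=
        (IsScalarTower.algebraMap_apply A D F s₁).symm
      rw [map_add (algebraMap D F), map_mul (algebraMap D F), map_mul (algebraMap D F), e1, e2,
        ← h₁, ← h₂, map_mul (algebraMap A F)]
      ring
    | mul x y _ _ hx hy =>
      obtain ⟨s₁, hs₁, d₁, h₁⟩ := hx
      obtain ⟨s₂, hs₂, d₂, h₂⟩ := hy
      refine ⟨s₁ * s₂, mul_mem hs₁ hs₂, d₁ * d₂, ?_⟩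
      rw [map_mul (algebraMap D F), ← h₁, ← h₂, map_mul (algebraMap A F)]
      ring
  obtain ⟨s, hs, d, hd⟩ := hclear w hwmem
  refine ⟨d, s, hs, ?_⟩
  apply IsFractionRing.injective D F
  rw [map_mul, ← hd, ← IsScalarTower.algebraMap_apply A D F]
  calc algebraMap D F e * (algebraMap A F s * w)
      = algebraMap A F s * (algebraMap D F e * w) := by ring
    _ = algebraMap A F s := by rw [hw, mul_one]

end FracD

end Groth.Agent.Lead.EssEt

namespace Groth.Agent.Lead.EssEt

open Groth.Agent.Helper7.SHens

set_option maxHeartbeats 2000000 in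
theorem S16441_forward (A S : Type u) [CommRing A] [IsLocalRing A] [IsReduced A]
    (hmin : (minimalPrimes A).Finite)
    [CommRing S] [IsLocalRing S] [Algebra A S] [IsLocalHom (algebraMap A S)]
    [Hensel.IsStrictHenselization A S] (D : Subalgebra A S)
    (t : Finset (FractionRing D))
    (ht : ∀ x : FractionRing D, ∃ a ∈ nonZeroDivisors A,
      algebraMap A (FractionRing D) a * x ∈ Algebra.adjoin A (t : Set (FractionRing D))) :
    ∃ E : Subalgebra A S, D ≤ E ∧ ∃ _ : IsLocalRing E, EGA4loc.IsEssentiallyEtale A E := by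
  classical
  let F := FractionRing D
  haveI : Module.Flat A S := flat_of_isStrictHenselization A S
  haveI : IsReduced S := (isReduced_iff_of_isStrictHenselization A S).mpr inferInstance
  haveI : IsReduced D := isReduced_of_injective D.val Subtype.val_injective
  have hregS : ∀ a ∈ nonZeroDivisors A, algebraMap A S a ∈ nonZeroDivisors S :=
    fun a ha => map_nonZeroDivisors_le_of_flat S ⟨a, ha, rfl⟩
  have hreg : ∀ a ∈ nonZeroDivisors A, algebraMap A D a ∈ nonZeroDivisors D := by
    intro a ha
    rw [mem_nonZeroDivisors_iff_right]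
    intro d hd
    have h1 : (d : S) * algebraMap A S a = 0 := congrArg Subtype.val hd
    exact Subtype.ext ((mem_nonZeroDivisors_iff_right.mp (hregS a ha)) _ h1)
  -- non-zero-divisors of D are non-zero-divisors of S
  have hnzdS : ∀ u ∈ nonZeroDivisors D, (u : S) ∈ nonZeroDivisors S := by
    intro u hu
    obtain ⟨d, s, hs, hud⟩ := exists_mul_eq_algebraMap hmin D hreg t ht u hu
    have h1 : (u : S) * (d : S) = algebraMap A S s := congrArg Subtype.val hud
    rw [mem_nonZeroDivisors_iff_right]
    intro x hx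
    have h2 : x * algebraMap A S s = 0 := by rw [← h1, ← mul_assoc, hx, zero_mul]
    exact (mem_nonZeroDivisors_iff_right.mp (hregS s hs)) _ h2
  -- numerators and denominators of the generators
  have hrep : ∀ τ : F, ∃ (d : D) (e : nonZeroDivisors D), IsLocalization.mk' F d e = τ :=
    fun τ => IsLocalization.exists_mk'_eq (nonZeroDivisors D) τ
  choose dn en hdnen using hrep
  let σ : Finset S := t.image (fun τ => ((dn τ : D) : S)) ∪ t.image (fun τ => (((en τ : D)) : S))
  obtain ⟨C, _, _, _, φ, hφ⟩ := exists_etale_range A S σ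
  obtain ⟨E, hE1, hE2, hEloc, hEet⟩ := exists_subalgebra_of_etale' A S C φ
  let D₁ : Subalgebra A D := E.comap D.val
  have hD₁ : ∀ d : D, d ∈ D₁ ↔ (d : S) ∈ E := fun d => Iff.rfl
  have hσE : ∀ x ∈ σ, x ∈ E := by
    intro x hx
    obtain ⟨c, rfl⟩ := hφ hx
    exact hE1 c
  have hdnmem : ∀ τ ∈ t, dn τ ∈ D₁ := by
    intro τ hτ
    rw [hD₁]
    apply hσE
    exact Finset.mem_union_left _ (Finset.mem_image_of_mem _ hτ)
  have henmem : ∀ τ ∈ t, (en τ : D) ∈ D₁ := by
    intro τ hτ
    rw [hD₁]
    apply hσE
    exact Finset.mem_union_right _ (Finset.mem_image_of_mem _ hτ)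
  have hkey : ∀ z ∈ Algebra.adjoin A (t : Set F), ∃ u ∈ D₁, u ∈ nonZeroDivisors D ∧ ∃ y ∈ D₁,
      algebraMap D F u * z = algebraMap D F y := by
    intro z hz
    induction hz using Algebra.adjoin_induction with
    | mem τ hτ =>
      refine ⟨en τ, henmem τ hτ, (en τ).2, dn τ, hdnmem τ hτ, ?_⟩
      rw [mul_comm]
      have := IsLocalization.mk'_spec F (dn τ) (en τ)
      rw [hdnen τ] at this
      exact this
    | algebraMap a =>
      refine ⟨1, D₁.one_mem, one_mem _, algebraMap A D a, D₁.algebraMap_mem a, ?_⟩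
      rw [map_one, one_mul, ← IsScalarTower.algebraMap_apply A D F]
    | add x y _ _ hx hy =>
      obtain ⟨u₁, hu₁, hu₁', y₁, hy₁, h₁⟩ := hx
      obtain ⟨u₂, hu₂, hu₂', y₂, hy₂, h₂⟩ := hy
      refine ⟨u₁ * u₂, D₁.mul_mem hu₁ hu₂, mul_mem hu₁' hu₂', u₂ * y₁ + u₁ * y₂,
        D₁.add_mem (D₁.mul_mem hu₂ hy₁) (D₁.mul_mem hu₁ hy₂), ?_⟩
      rw [map_add (algebraMap D F), map_mul (algebraMap D F), map_mul (algebraMap D F),
        map_mul (algebraMap D F), ← h₁, ← h₂]
      ring
    | mul x y _ _ hx hy =>
      obtain ⟨u₁, hu₁, hu₁', y₁, hy₁, h₁⟩ := hx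
      obtain ⟨u₂, hu₂, hu₂', y₂, hy₂, h₂⟩ := hy
      refine ⟨u₁ * u₂, D₁.mul_mem hu₁ hu₂, mul_mem hu₁' hu₂', y₁ * y₂, D₁.mul_mem hy₁ hy₂, ?_⟩
      rw [map_mul (algebraMap D F), map_mul (algebraMap D F), ← h₁, ← h₂]
      ring
  refine ⟨E, ?_, hEloc, hEet⟩
  intro x hx
  obtain ⟨a, ha, hax⟩ := ht (algebraMap D F ⟨x, hx⟩)
  obtain ⟨u, hu, hu', y, hy, huy⟩ := hkey _ hax
  have h1 : u * algebraMap A D a * ⟨x, hx⟩ = y := by
    apply IsFractionRing.injective D F
    rw [map_mul, map_mul, ← IsScalarTower.algebraMap_apply A D F, ← huy]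
    ring
  have h2 : ((u : S) * algebraMap A S a) * x = (y : S) := congrArg Subtype.val h1
  exact hE2 _ (E.mul_mem ((hD₁ u).mp hu) (E.algebraMap_mem a)) _ ((hD₁ y).mp hy) x
    (mul_mem (hnzdS u hu') (hregS a ha)) h2

end Groth.Agent.Lead.EssEt

namespace Groth.Agent.Lead.EssEt

/-- A finite module over the total fraction ring is spanned over the base, up to denominators, by
a finite set. -/
theorem exists_finset_span_of_finite {A : Type u} [CommRing A] (K F : Type u) [CommRing K]
    [Algebra A K] [IsLocalization (nonZeroDivisors A) K] [CommRing F] [Algebra A F] [Algebra K F]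
    [IsScalarTower A K F] [Module.Finite K F] :
    ∃ t : Finset F, ∀ x : F, ∃ a ∈ nonZeroDivisors A,
      algebraMap A F a * x ∈ Submodule.span A (t : Set F) := by
  classical
  obtain ⟨t, ht⟩ := (Module.Finite.fg_top (R := K) (M := F))
  refine ⟨t, fun x => ?_⟩
  have hx : x ∈ Submodule.span K (t : Set F) := by rw [ht]; trivial
  induction hx using Submodule.span_induction with
  | mem y hy =>
    refine ⟨1, one_mem _, ?_⟩
    rw [map_one, one_mul]
    exact Submodule.subset_span hy
  | zero =>
    refine ⟨1, one_mem _, ?_⟩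
    rw [mul_zero]
    exact Submodule.zero_mem _
  | add y z _ _ hy hz =>
    obtain ⟨a, ha, hay⟩ := hy
    obtain ⟨b, hb, hbz⟩ := hz
    refine ⟨a * b, mul_mem ha hb, ?_⟩
    have h1 : algebraMap A F (a * b) * (y + z) =
        b • (algebraMap A F a * y) + a • (algebraMap A F b * z) := by
      rw [Algebra.smul_def, Algebra.smul_def, map_mul]
      ring
    rw [h1]
    exact Submodule.add_mem _ (Submodule.smul_mem _ _ hay) (Submodule.smul_mem _ _ hbz)
  | smul k y _ hy =>
    obtain ⟨a, ha, hay⟩ := hy
    obtain ⟨b, s, rfl⟩ := IsLocalization.exists_mk'_eq (nonZeroDivisors A) k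
    refine ⟨s.1 * a, mul_mem s.2 ha, ?_⟩
    have h2 : algebraMap A F s.1 * algebraMap K F (IsLocalization.mk' K b s) = algebraMap A F b := by
      rw [IsScalarTower.algebraMap_apply A K F, ← map_mul, mul_comm,
        IsLocalization.mk'_spec, ← IsScalarTower.algebraMap_apply]
    have h1 : algebraMap A F (s.1 * a) * (IsLocalization.mk' K b s • y) =
        b • (algebraMap A F a * y) := by
      rw [Algebra.smul_def (IsLocalization.mk' K b s) y, Algebra.smul_def b, ← h2, map_mul]
      ring
    rw [h1]
    exact Submodule.smul_mem _ _ hay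

end Groth.Agent.Lead.EssEt
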