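import Mathlib
import Groth.Prelude
import Groth.Agent.Lib.Lead.EssEt5

set_option autoImplicit false
set_option backward.isDefEq.respectTransparency.types false
set_option synthInstance.maxHeartbeats 400000
set_option linter.style.haveILetI false
set_option linter.unusedSectionVars false

universe u

open IsLocalRing TensorProduct

namespace Groth.Agent.Lead.EssEt

set_option maxHeartbeats 2000000 in
/-- A subring `D` of a flat, essentially finite type, unramified algebra `E` over a reduced ring
with finitely many minimal primes has total fraction ring finite over the total fraction ring of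
the base. -/
theorem exists_finset_span_of_le {A : Type u} [CommRing A] [IsReduced A]
    (hmin : (minimalPrimes A).Finite)
    (E : Type u) [CommRing E] [Algebra A E] [Module.Flat A E] [Algebra.EssFiniteType A E]
    [Algebra.FormallyUnramified A E]
    (D : Type u) [CommRing D] [Algebra A D] (ι : D →ₐ[A] E) (hι : Function.Injective ι) :
    ∃ t : Finset (FractionRing D), ∀ x : FractionRing D, ∃ a ∈ nonZeroDivisors A,
      algebraMap A (FractionRing D) a * x ∈ Submodule.span A (t : Set (FractionRing D)) := by
  classical
  set T := (nonZeroDivisors A).map (algebraMap A E) with hT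
  let K := FractionRing A
  let F := FractionRing E
  let FD := FractionRing D
  haveI hlocF : IsLocalization T F := isLocalization_fractionRing hmin E
  have hle : nonZeroDivisors A ≤ T.comap (algebraMap A E) := fun a ha => ⟨a, ha, rfl⟩
  let ψ : K →+* F := IsLocalization.map F (algebraMap A E) hle
  have hψ : ∀ a : A, ψ (algebraMap A K a) = algebraMap E F (algebraMap A E a) :=
    fun a => IsLocalization.map_eq hle a
  letI algKF : Algebra K F := ψ.toAlgebra
  haveI towAKF : IsScalarTower A K F := IsScalarTower.of_algebraMap_eq (fun a => by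
    rw [IsScalarTower.algebraMap_apply A E F]
    exact (hψ a).symm)
  haveI : Algebra.FormallyUnramified K F :=
    Algebra.FormallyUnramified.localization_map (R := A) (S := E) (Rₘ := K) (Sₘ := F)
      (nonZeroDivisors A)
  haveI : Algebra.EssFiniteType E F := Algebra.EssFiniteType.of_isLocalization F T
  haveI : Algebra.EssFiniteType A F := Algebra.EssFiniteType.comp A E F
  haveI : Algebra.EssFiniteType K F := Algebra.EssFiniteType.of_comp A K F
  haveI : IsArtinianRing K := isArtinianRing_of_isFractionRing hmin K
  haveI : Module.Finite K F := Module.Finite.of_quasiFinite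
  -- the map from D
  let j : D →+* F := (algebraMap E F).comp ι.toRingHom
  have hj : ∀ d, j d = algebraMap E F (ι d) := fun d => rfl
  have hjinj : Function.Injective j :=
    (IsFractionRing.injective E F).comp hι
  have hjA : ∀ a : A, j (algebraMap A D a) = algebraMap A F a := by
    intro a
    rw [hj, ι.commutes, ← IsScalarTower.algebraMap_apply]
  have hunitA : ∀ s ∈ nonZeroDivisors A, IsUnit (algebraMap A F s) := by
    intro s hs
    rw [IsScalarTower.algebraMap_apply A E F]
    exact IsLocalization.map_units F (⟨algebraMap A E s, ⟨s, hs, rfl⟩⟩ : T)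
  -- clearing denominators
  have hclear : ∀ z ∈ Algebra.adjoin K (Set.range j), ∃ s ∈ nonZeroDivisors A, ∃ d : D,
      algebraMap A F s * z = j d := by
    intro z hz
    induction hz using Algebra.adjoin_induction with
    | mem x hx =>
      obtain ⟨d, rfl⟩ := hx
      exact ⟨1, one_mem _, d, by rw [map_one, one_mul]⟩
    | algebraMap k =>
      obtain ⟨b, s, rfl⟩ := IsLocalization.exists_mk'_eq (nonZeroDivisors A) k
      refine ⟨s.1, s.2, algebraMap A D b, ?_⟩
      rw [IsScalarTower.algebraMap_apply A K F, ← map_mul, mul_comm,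
        IsLocalization.mk'_spec, ← IsScalarTower.algebraMap_apply, hjA]
    | add x y _ _ hx hy =>
      obtain ⟨s₁, hs₁, d₁, h₁⟩ := hx
      obtain ⟨s₂, hs₂, d₂, h₂⟩ := hy
      refine ⟨s₁ * s₂, mul_mem hs₁ hs₂, algebraMap A D s₂ * d₁ + algebraMap A D s₁ * d₂, ?_⟩
      rw [map_add j, map_mul j, map_mul j, hjA, hjA, ← h₁, ← h₂, map_mul (algebraMap A F)]
      ring
    | mul x y _ _ hx hy =>
      obtain ⟨s₁, hs₁, d₁, h₁⟩ := hx
      obtain ⟨s₂, hs₂, d₂, h₂⟩ := hy
      refine ⟨s₁ * s₂, mul_mem hs₁ hs₂, d₁ * d₂, ?_⟩
      rw [map_mul j, ← h₁, ← h₂, map_mul (algebraMap A F)]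
      ring
  -- non-zero-divisors of D become units
  have hunitD : ∀ e : nonZeroDivisors D, IsUnit (j e) := by
    intro e
    let R' : Subalgebra K F := Algebra.adjoin K (Set.range j)
    let b : R' := ⟨j e, Algebra.subset_adjoin ⟨e, rfl⟩⟩
    have hinj' : Function.Injective R'.val := Subtype.val_injective
    have hbint : IsIntegral K b :=
      (isIntegral_algHom_iff R'.val hinj').mp (Algebra.IsIntegral.isIntegral (j e))
    have hbnzd : b ∈ nonZeroDivisors R' := by
      rw [mem_nonZeroDivisors_iff_right]
      intro r hr
      have h1 : (r : F) * j e = 0 := congrArg Subtype.val hr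
      obtain ⟨s, hs, d, hd⟩ := hclear r r.2
      have h2 : j (d * e) = 0 := by
        rw [map_mul, ← hd, mul_assoc, h1, mul_zero]
      have h3 : d * (e : D) = 0 := hjinj (by rw [h2, map_zero])
      have h4 : d = 0 := (mem_nonZeroDivisors_iff_right.mp e.2) _ h3
      rw [h4, map_zero] at hd
      have h5 : (r : F) = 0 := (hunitA s hs).mul_right_eq_zero.mp hd
      exact Subtype.ext h5
    have := IsArtinianRing.isUnit_of_isIntegral_of_nonZeroDivisor hbint hbnzd
    exact this.map R'.val
  let Ψ : FD →+* F := IsLocalization.lift hunitD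
  have hΨ : ∀ d : D, Ψ (algebraMap D FD d) = j d := IsLocalization.lift_eq hunitD
  have hΨinj : Function.Injective Ψ := by
    rw [IsLocalization.lift_injective_iff]
    intro x y
    rw [(IsFractionRing.injective D FD).eq_iff, hjinj.eq_iff]
  -- the K-algebra structure on FD
  have hregD : ∀ a ∈ nonZeroDivisors A, algebraMap A D a ∈ nonZeroDivisors D := by
    intro a ha
    rw [mem_nonZeroDivisors_iff_right]
    intro d hd
    have h1 : j d * algebraMap A F a = 0 := by rw [← hjA, ← map_mul, hd, map_zero]
    have h2 : j d = 0 := (hunitA a ha).mul_left_eq_zero.mp h1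
    exact hjinj (by rw [h2, map_zero])
  have hunitAD : ∀ y : nonZeroDivisors A, IsUnit (algebraMap A FD y) := by
    intro y
    rw [IsScalarTower.algebraMap_apply A D FD]
    exact IsLocalization.map_units FD (⟨algebraMap A D y, hregD y y.2⟩ : nonZeroDivisors D)
  let ψD : K →+* FD := IsLocalization.lift hunitAD
  have hψD : ∀ a, ψD (algebraMap A K a) = algebraMap A FD a := IsLocalization.lift_eq hunitAD
  letI algKFD : Algebra K FD := ψD.toAlgebra
  haveI : IsScalarTower A K FD := IsScalarTower.of_algebraMap_eq (fun a => (hψD a).symm)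
  have hΨK : ∀ k : K, Ψ (algebraMap K FD k) = algebraMap K F k := by
    have : Ψ.comp (algebraMap K FD) = algebraMap K F := by
      apply IsLocalization.ringHom_ext (nonZeroDivisors A)
      ext a
      simp only [RingHom.comp_apply]
      rw [← IsScalarTower.algebraMap_apply A K FD, ← IsScalarTower.algebraMap_apply A K F,
        IsScalarTower.algebraMap_apply A D FD, hΨ, hjA]
    intro k
    exact RingHom.congr_fun this k
  let Ψl : FD →ₗ[K] F :=
    { toFun := Ψ
      map_add' := map_add Ψ
      map_smul' := fun k x => by
        simp only [RingHom.id_apply]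
        rw [Algebra.smul_def, Algebra.smul_def, map_mul, hΨK] }
  haveI : Module.Finite K FD := Module.Finite.of_injective Ψl hΨinj
  exact exists_finset_span_of_finite K FD

end Groth.Agent.Lead.EssEt

namespace Groth.Agent.Lead.EssEt

theorem S16441_main
    (A S : Type u) [CommRing A] [IsLocalRing A] [IsReduced A] (hmin : (minimalPrimes A).Finite)
    [CommRing S] [IsLocalRing S] [Algebra A S] [IsLocalHom (algebraMap A S)]
    [Hensel.IsStrictHenselization A S] (D : Subalgebra A S) [IsLocalRing D]
    [IsLocalHom (algebraMap D S)] :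
    (∃ t : Finset (FractionRing D), ∀ x : FractionRing D, ∃ a ∈ nonZeroDivisors A,
        algebraMap A (FractionRing D) a * x ∈ Algebra.adjoin A (t : Set (FractionRing D))) ↔
      ∃ E : Subalgebra A S, D ≤ E ∧ ∃ _ : IsLocalRing E, EGA4loc.IsEssentiallyEtale A E := by
  constructor
  · rintro ⟨t, ht⟩
    exact S16441_forward A S hmin D t ht
  · rintro ⟨E, hDE, hEloc, hE⟩
    obtain ⟨C, _, _, q, _, hCet, hq, ⟨e⟩⟩ := hE
    haveI : Module.Flat A (Localization.AtPrime q) :=
      Module.Flat.trans A C (Localization.AtPrime q)
    haveI : Module.Flat A E := Module.Flat.of_linearEquiv e.toLinearEquiv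
    haveI : Algebra.EssFiniteType C (Localization.AtPrime q) :=
      Algebra.EssFiniteType.of_isLocalization _ q.primeCompl
    haveI : Algebra.EssFiniteType A (Localization.AtPrime q) :=
      Algebra.EssFiniteType.comp A C (Localization.AtPrime q)
    haveI : Algebra.EssFiniteType A E :=
      (Algebra.EssFiniteType.iff_of_algEquiv e).mpr inferInstance
    haveI : Algebra.FormallyUnramified A E := Algebra.FormallyUnramified.of_equiv e.symm
    obtain ⟨t, ht⟩ := exists_finset_span_of_le hmin E D (Subalgebra.inclusion hDE)
      (Subalgebra.inclusion_injective hDE)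
    refine ⟨t, fun x => ?_⟩
    obtain ⟨a, ha, hax⟩ := ht x
    exact ⟨a, ha, Algebra.span_le_adjoin A _ hax⟩

end Groth.Agent.Lead.EssEt
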