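import Mathlib
import Groth.Agent.Lib.Helper5.FlatDesc.Basic
import Groth.Agent.Lib.Lead.SmLoc2
import Groth.Agent.Lib.Helper6.Normal.Smooth

set_option autoImplicit false
set_option linter.style.haveILetI false
set_option linter.unusedSectionVars false

universe u

open TensorProduct

namespace Groth.Agent.Lead.EtDesc1

/-- An element of the kernel of a retraction `E → F` of a domain `E` onto a subring `F`, integral
over `F`, vanishes. -/
theorem eq_zero_of_retract {F E : Type*} [CommRing F] [CommRing E] [Algebra F E] [IsDomain E]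
    (ρ : E →ₐ[F] F) (a : E) (ha : ρ a = 0) (hint : IsIntegral F a) : a = 0 := by
  obtain ⟨P, hP, hPa⟩ := hint
  haveI : Nontrivial F := (algebraMap F E).domain_nontrivial
  have key : ∀ n : ℕ, ∀ P : Polynomial F, P.Monic → P.natDegree ≤ n →
      Polynomial.eval₂ (algebraMap F E) a P = 0 → a = 0 := by
    intro n
    induction n with
    | zero =>
      intro P hP hdeg h0
      have h1 : P = 1 := by
        have := Polynomial.eq_C_of_natDegree_le_zero hdeg
        rw [this]
        have hc : P.coeff 0 = 1 := by
          have := hP.coeff_natDegree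
          rwa [Nat.le_zero.mp hdeg] at this
        rw [hc, Polynomial.C_1]
      rw [h1, Polynomial.eval₂_one] at h0
      exact absurd h0 one_ne_zero
    | succ n ih =>
      intro P hP hdeg h0
      have hc : P.coeff 0 = 0 := by
        have h1 : ρ (Polynomial.eval₂ (algebraMap F E) a P) = 0 := by rw [h0, map_zero]
        rw [← Polynomial.aeval_def, ← Polynomial.aeval_algHom_apply, ha,
          Polynomial.aeval_def, Polynomial.eval₂_at_zero] at h1
        simpa using h1
      obtain ⟨Q, rfl⟩ := Polynomial.X_dvd_iff.mpr hc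
      have hQ : Q.Monic := Polynomial.Monic.of_mul_monic_left Polynomial.monic_X hP
      rw [Polynomial.eval₂_mul, Polynomial.eval₂_X] at h0
      rcases mul_eq_zero.mp h0 with h | h
      · exact h
      · apply ih Q hQ _ h
        have := Polynomial.Monic.natDegree_mul Polynomial.monic_X hQ
        rw [Polynomial.natDegree_X] at this
        omega
  exact key _ P hP le_rfl hPa

section Retract

variable {C D : Type u} [CommRing C] [CommRing D] [Algebra C D]
  (μ : D →ₐ[C] C) (r : Ideal C) [r.IsPrime]

lemma comap_comap_retract : (r.comap μ).comap (algebraMap C D) = r := by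
  ext c
  simp [Ideal.mem_comap]

/-- the localization of the retraction at the prime `μ ⁻¹ r` -/
noncomputable def muLoc : Localization.AtPrime (r.comap μ) →+* Localization.AtPrime r :=
  Localization.localRingHom (r.comap μ) r μ.toRingHom rfl

/-- the localization of the structure map -/
noncomputable def iotaLoc : Localization.AtPrime r →+* Localization.AtPrime (r.comap μ) :=
  Localization.localRingHom r (r.comap μ) (algebraMap C D) (comap_comap_retract μ r).symm

lemma muLoc_algebraMap (d : D) :
    muLoc μ r (algebraMap D (Localization.AtPrime (r.comap μ)) d) =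
      algebraMap C (Localization.AtPrime r) (μ d) :=
  Localization.localRingHom_to_map _ _ _ _ _

lemma iotaLoc_algebraMap (c : C) :
    iotaLoc μ r (algebraMap C (Localization.AtPrime r) c) =
      algebraMap D (Localization.AtPrime (r.comap μ)) (algebraMap C D c) :=
  Localization.localRingHom_to_map _ _ _ _ _

lemma muLoc_iotaLoc (x : Localization.AtPrime r) : muLoc μ r (iotaLoc μ r x) = x := by
  have : (muLoc μ r).comp (iotaLoc μ r) = RingHom.id _ := by
    apply IsLocalization.ringHom_ext r.primeCompl
    ext c
    simp [iotaLoc_algebraMap, muLoc_algebraMap]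
  exact congr($this x)

theorem muLoc_injective [Algebra.IsIntegral C D] [IsDomain (Localization.AtPrime (r.comap μ))] :
    Function.Injective (muLoc μ r) := by
  rw [injective_iff_map_eq_zero]
  intro a ha
  obtain ⟨d, s, rfl⟩ := IsLocalization.exists_mk'_eq (r.comap μ).primeCompl a
  have h1 : muLoc μ r (algebraMap D _ d) = 0 := by
    have : algebraMap D (Localization.AtPrime (r.comap μ)) d =
        IsLocalization.mk' (Localization.AtPrime (r.comap μ)) d s * algebraMap D _ (s : D) := by
      rw [IsLocalization.mk'_spec]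
    rw [this, map_mul, ha, zero_mul]
  rw [muLoc_algebraMap] at h1
  obtain ⟨c, hc⟩ := (IsLocalization.map_eq_zero_iff r.primeCompl _ _).mp h1
  -- the element `c • d` is in the kernel of `μ` and is integral over `C`
  letI : Algebra (Localization.AtPrime r) (Localization.AtPrime (r.comap μ)) :=
    (iotaLoc μ r).toAlgebra
  haveI : IsScalarTower C (Localization.AtPrime r) (Localization.AtPrime (r.comap μ)) :=
    .of_algebraMap_eq fun c => by
      rw [RingHom.algebraMap_toAlgebra, iotaLoc_algebraMap, ← IsScalarTower.algebraMap_apply]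
  let ρ : Localization.AtPrime (r.comap μ) →ₐ[Localization.AtPrime r] Localization.AtPrime r :=
    { muLoc μ r with
      commutes' := fun x => by
        simp only [RingHom.algebraMap_toAlgebra]
        exact muLoc_iotaLoc μ r x }
  have hz : algebraMap D (Localization.AtPrime (r.comap μ)) (algebraMap C D c * d) = 0 := by
    apply eq_zero_of_retract ρ
    · change muLoc μ r _ = 0
      rw [muLoc_algebraMap, map_mul, AlgHom.commutes, Algebra.algebraMap_self, RingHom.id_apply,
        hc, map_zero]
    · have h2 : IsIntegral C (algebraMap C D c * d) := Algebra.IsIntegral.isIntegral _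
      have h3 : IsIntegral C (algebraMap D (Localization.AtPrime (r.comap μ))
          (algebraMap C D c * d)) := h2.algebraMap
      exact h3.tower_top
  have hu : IsUnit (algebraMap D (Localization.AtPrime (r.comap μ)) (algebraMap C D c)) := by
    apply IsLocalization.map_units (Localization.AtPrime (r.comap μ))
      (⟨algebraMap C D c, ?_⟩ : (r.comap μ).primeCompl)
    change algebraMap C D c ∉ r.comap μ
    rw [Ideal.mem_comap, AlgHom.commutes]
    exact c.2
  rw [map_mul] at hz
  have hd : algebraMap D (Localization.AtPrime (r.comap μ)) d = 0 :=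
    (hu.mul_right_eq_zero).mp hz
  obtain ⟨m, hm⟩ := (IsLocalization.map_eq_zero_iff (r.comap μ).primeCompl _ _).mp hd
  exact (IsLocalization.mk'_eq_zero_iff _ _).mpr ⟨m, hm⟩

/-- the localizations are isomorphic -/
noncomputable def locEquiv [Algebra.IsIntegral C D] [IsDomain (Localization.AtPrime (r.comap μ))] :
    Localization.AtPrime r ≃ₐ[C] Localization.AtPrime (r.comap μ) :=
  AlgEquiv.ofBijective
    { iotaLoc μ r with
      commutes' := fun c => by
        change iotaLoc μ r (algebraMap C _ c) = _
        rw [iotaLoc_algebraMap, ← IsScalarTower.algebraMap_apply] }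
    ⟨Function.LeftInverse.injective (g := muLoc μ r) (muLoc_iotaLoc μ r), fun e => by
      refine ⟨muLoc μ r e, ?_⟩
      apply muLoc_injective μ r
      exact muLoc_iotaLoc μ r _⟩

end Retract

section Descent

open IsLocalRing

/-- **Etale descent at a point**: `B` finitely presented over `A`, `q` a prime of `B`, `E` a
faithfully flat `B_q`-algebra which is flat over `A` and such that `E ⊗_B Ω_{B/A} = 0`. Then
`B` is smooth (indeed etale) over `A` at `q`. -/
theorem isSmoothAt_of_faithfullyFlat {A B : Type u} [CommRing A] [CommRing B] [Algebra A B]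
    [Algebra.FinitePresentation A B] (q : Ideal B) [q.IsPrime]
    (E : Type u) [CommRing E] [Algebra A E] [Algebra B E] [Algebra (Localization.AtPrime q) E]
    [IsScalarTower A B E] [IsScalarTower B (Localization.AtPrime q) E]
    [Module.Flat A E] [Module.FaithfullyFlat (Localization.AtPrime q) E]
    (hΩ : Subsingleton (E ⊗[B] Ω[B⁄A])) : Algebra.IsSmoothAt A q := by
  let p : Ideal A := q.under A
  let Rp := Localization.AtPrime p
  let Sp := Localization (Algebra.algebraMapSubmonoid B p.primeCompl)
  let Sq := Localization.AtPrime q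
  haveI : IsScalarTower A Sq E := .to₁₃₄ A B Sq E
  haveI hflat : Module.Flat A Sq := Helper5.FlatDesc.flat_of_faithfullyFlat_of_flat A Sq E
  -- `Ω[Sq⁄A] = 0`
  haveI : Algebra.FormallyEtale B Sq := .of_isLocalization q.primeCompl
  have e1 : Sq ⊗[B] Ω[B⁄A] ≃ₗ[Sq] Ω[Sq⁄A] :=
    KaehlerDifferential.tensorKaehlerEquivOfFormallyEtale A B Sq
  have e2 : E ⊗[Sq] (Sq ⊗[B] Ω[B⁄A]) ≃ₗ[E] E ⊗[B] Ω[B⁄A] :=
    AlgebraTensorModule.cancelBaseChange B Sq E E Ω[B⁄A]
  haveI : Subsingleton (E ⊗[Sq] (Sq ⊗[B] Ω[B⁄A])) := e2.toEquiv.subsingleton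
  haveI : Subsingleton (Sq ⊗[B] Ω[B⁄A]) :=
    Module.FaithfullyFlat.lTensor_reflects_triviality Sq E _
  haveI : Subsingleton Ω[Sq⁄A] := e1.symm.toEquiv.subsingleton
  haveI hunr : Algebra.FormallyUnramified A Sq := ⟨inferInstance⟩
  let := Localization.AtPrime.algebraOfLiesOver p q
  let f : Sp →ₐ[B] Sq := IsLocalization.liftAlgHom
        (M := Algebra.algebraMapSubmonoid B p.primeCompl)
        (f := Algebra.ofId _ _) (by
      rintro ⟨_, x, hx, rfl⟩
      simpa using! IsLocalization.map_units (M := q.primeCompl) Sq ⟨algebraMap _ _ x,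
        by simp_all [q.over_def p]⟩)
  algebraize [f.toRingHom]
  have : IsScalarTower A Sp Sq := .to₁₃₄ _ B _ _
  have : IsScalarTower Rp Sp Sq := .of_algebraMap_eq' <| by
    apply IsLocalization.ringHom_ext p.primeCompl
    simp only [RingHom.comp_assoc, ← IsScalarTower.algebraMap_eq]
  have : IsLocalization (Algebra.algebraMapSubmonoid Sp q.primeCompl) Sq :=
    .isLocalization_of_submonoid_le _ _ (Algebra.algebraMapSubmonoid B p.primeCompl) _
    (by rintro _ ⟨x, hx, rfl⟩; simp_all [q.over_def p])
  have : Algebra.FinitePresentation Rp Sp := by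
    have : Algebra.IsPushout A Rp B Sp :=
      .symm <| Algebra.isPushout_of_isLocalization p.primeCompl _ _ _
    exact .equiv (Algebra.IsPushout.equiv A Rp B Sp)
  have : Module.Flat Rp Sq := (Module.flat_iff_of_isLocalization Rp p.primeCompl Sq).mpr hflat
  have : Algebra.FormallyUnramified Rp Sq := .of_restrictScalars A Rp Sq
  have : Algebra.EssFiniteType B Sq := .of_isLocalization _ q.primeCompl
  have : Algebra.EssFiniteType A Sq := .comp A B Sq
  have : Algebra.EssFiniteType Rp Sq := .of_comp A Rp Sq
  have : Algebra.FormallySmooth (ResidueField Rp) ((ResidueField Rp) ⊗[Rp] Sq) := by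
    haveI : Algebra.FormallyEtale (ResidueField Rp) ((ResidueField Rp) ⊗[Rp] Sq) :=
      Algebra.FormallyEtale.of_formallyUnramified_of_field _ _
    infer_instance
  have := Algebra.FormallySmooth.of_formallySmooth_residueField_tensor
    (R := Rp) (S := Sq) (P := Sp) (Algebra.algebraMapSubmonoid _ q.primeCompl)
  exact .comp A Rp Sq

end Descent

section Main

theorem isSmoothAt_congr {A B : Type u} [CommRing A] [CommRing B] [Algebra A B]
    (p p' : Ideal B) [p.IsPrime] [p'.IsPrime] (h : p' = p) (hr : Algebra.IsSmoothAt A p) :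
    Algebra.IsSmoothAt A p' := by
  subst h
  exact hr

attribute [local instance] Algebra.TensorProduct.rightAlgebra in
/-- `B` a normal ring, finitely presented and integral over `A`; `C` a smooth `A`-algebra and
`φ : B → C` an `A`-algebra map. Then `B` is smooth over `A` at all primes in the image of
`Spec C → Spec B`. -/
theorem isSmoothAt_comap_of_section {A B C : Type u} [CommRing A] [CommRing B] [CommRing C]
    [Algebra A B] [Algebra A C] [Algebra.FinitePresentation A B] [Algebra.IsIntegral A B]
    [Algebra.Smooth A C] (hB : EGA4.IsNormalRing B) (φ : B →ₐ[A] C) (r : Ideal C) [r.IsPrime] :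
    Algebra.IsSmoothAt A (r.comap φ) := by
  let D := C ⊗[A] B
  let μ : D →ₐ[C] C := Algebra.TensorProduct.lift (AlgHom.id C C) φ (fun _ _ => .all _ _)
  let w : Ideal D := r.comap μ
  have hq : r.comap φ = w.comap (algebraMap B D) := by
    ext b
    have h1 : μ ((1 : C) ⊗ₜ[A] b) = φ b := by
      change Algebra.TensorProduct.lift (AlgHom.id C C) φ _ ((1 : C) ⊗ₜ[A] b) = φ b
      rw [Algebra.TensorProduct.lift_tmul, map_one, one_mul]
    change φ b ∈ r ↔ μ ((1 : C) ⊗ₜ[A] b) ∈ r
    rw [h1]
  refine isSmoothAt_congr _ _ hq ?_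
  haveI : Algebra.IsPushout A C B D := TensorProduct.isPushout
  haveI : Algebra.IsPushout A B C D := .symm inferInstance
  haveI : Algebra.Smooth B D := .of_equiv (Algebra.IsPushout.equiv A B C D)
  have hD : EGA4.IsNormalRing D := Groth.Agent.Lib.Helper6.Normal.isNormalRing_of_smooth B D hB
  haveI : IsDomain (Localization.AtPrime w) := (hD w).1
  haveI : Algebra.IsIntegral C D := Algebra.IsPushout.isIntegral (R := A) (S := B) (A := C) (SA := D)
  let E := Localization.AtPrime w
  let e : Localization.AtPrime r ≃ₐ[C] E := locEquiv μ r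
  haveI : Module.Flat C E := Module.Flat.of_linearEquiv e.symm.toLinearEquiv
  haveI : Module.Flat A E := Module.Flat.trans A C E
  letI : Algebra (Localization.AtPrime (w.comap (algebraMap B D))) E :=
    (Localization.localRingHom (w.comap (algebraMap B D)) w (algebraMap B D) rfl).toAlgebra
  haveI : Module.Flat B D := inferInstance
  haveI : Module.FaithfullyFlat (Localization.AtPrime (w.comap (algebraMap B D))) E :=
    Groth.Agent.Lead.SmLoc.faithfullyFlat_localRingHom B D w
  haveI : IsScalarTower B (Localization.AtPrime (w.comap (algebraMap B D))) E :=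
    .of_algebraMap_eq fun b => by
      have h1 := Localization.localRingHom_to_map (w.comap (algebraMap B D)) w
        (algebraMap B D) rfl b
      rw [IsScalarTower.algebraMap_apply B D E]
      exact h1.symm
  haveI : Algebra.FormallyUnramified C E := .of_equiv e
  haveI : Algebra.FormallyEtale D E := .of_isLocalization w.primeCompl
  have t1 : D ⊗[B] Ω[B⁄A] ≃ₗ[D] Ω[D⁄C] := KaehlerDifferential.tensorKaehlerEquiv A C B D
  have t2 : E ⊗[D] Ω[D⁄C] ≃ₗ[E] Ω[E⁄C] :=
    KaehlerDifferential.tensorKaehlerEquivOfFormallyEtale C D E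
  have t3 : E ⊗[D] (D ⊗[B] Ω[B⁄A]) ≃ₗ[E] E ⊗[B] Ω[B⁄A] :=
    AlgebraTensorModule.cancelBaseChange B D E E Ω[B⁄A]
  have t4 : E ⊗[D] (D ⊗[B] Ω[B⁄A]) ≃ₗ[D] E ⊗[D] Ω[D⁄C] :=
    TensorProduct.congr (LinearEquiv.refl D E) t1
  haveI : Subsingleton Ω[E⁄C] := Algebra.FormallyUnramified.subsingleton_kaehlerDifferential
  haveI : Subsingleton (E ⊗[D] Ω[D⁄C]) := t2.toEquiv.subsingleton
  haveI : Subsingleton (E ⊗[D] (D ⊗[B] Ω[B⁄A])) := t4.toEquiv.subsingleton
  have hΩ : Subsingleton (E ⊗[B] Ω[B⁄A]) := t3.symm.toEquiv.subsingleton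
  exact isSmoothAt_of_faithfullyFlat (w.comap (algebraMap B D)) E hΩ

end Main

end Groth.Agent.Lead.EtDesc1
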