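import Mathlib

set_option autoImplicit false
set_option linter.style.haveILetI false
set_option linter.unusedSectionVars false

open Polynomial

namespace Groth.Agent.Lib.Lead.ExpRat1

/-! ## Part A: rationality of `exp (∑ a_v t^v / v)` gives a linear recurrence -/

theorem recurrence_of_rational (a : ℕ → ℚ) (P Q : ℚ[X]) (hQ : Q ≠ 0)
    (h : (PowerSeries.exp ℚ).subst
          (PowerSeries.mk fun v : ℕ => if v = 0 then (0 : ℚ) else a v / (v : ℚ))
        * (Q : PowerSeries ℚ) = (P : PowerSeries ℚ)) :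
    ∃ (C : ℚ[X]) (n₀ : ℕ), C ≠ 0 ∧ ∀ n, n₀ ≤ n →
      ∑ p ∈ Finset.HasAntidiagonal.antidiagonal n, C.coeff p.1 * a (p.2 + 1) = 0 := by
  set L : PowerSeries ℚ :=
    PowerSeries.mk fun v : ℕ => if v = 0 then (0 : ℚ) else a v / (v : ℚ) with hLdef
  have hL0 : PowerSeries.constantCoeff L = 0 := by
    rw [← PowerSeries.coeff_zero_eq_constantCoeff_apply, hLdef, PowerSeries.coeff_mk]
    simp
  have hL : PowerSeries.HasSubst L := PowerSeries.HasSubst.of_constantCoeff_zero' hL0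
  set Z : PowerSeries ℚ := (PowerSeries.exp ℚ).subst L with hZ
  have hZunit : IsUnit Z := by
    rw [hZ, ← PowerSeries.coe_substAlgHom hL]
    exact (PowerSeries.isUnit_exp ℚ).map (PowerSeries.substAlgHom hL)
  have hdZ : PowerSeries.derivative ℚ Z = Z * PowerSeries.derivative ℚ L := by
    rw [hZ, PowerSeries.derivative_subst hL, PowerSeries.derivative_exp]
  have hdL : ∀ n, PowerSeries.coeff n (PowerSeries.derivative ℚ L) = a (n + 1) := by
    intro n
    rw [PowerSeries.coeff_derivative, hLdef, PowerSeries.coeff_mk]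
    have h1 : ((n : ℚ) + 1) ≠ 0 := by positivity
    simp only [Nat.add_eq_zero_iff, one_ne_zero, and_false, if_false, Nat.cast_add, Nat.cast_one]
    field_simp
  have h1 : PowerSeries.derivative ℚ (Z * (Q : PowerSeries ℚ)) =
      PowerSeries.derivative ℚ (P : PowerSeries ℚ) := by rw [h]
  rw [Derivation.leibniz, PowerSeries.derivative_coe, PowerSeries.derivative_coe, hdZ] at h1
  simp only [smul_eq_mul] at h1
  -- h1 : Z * ↑Q' + ↑Q * (Z * dL) = ↑P'
  have h2 : ((P * Q : ℚ[X]) : PowerSeries ℚ) * PowerSeries.derivative ℚ L =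
      ((Q * derivative P - P * derivative Q : ℚ[X]) : PowerSeries ℚ) := by
    have h3 : (Q : PowerSeries ℚ) * (Z * ((derivative Q : ℚ[X]) : PowerSeries ℚ) +
        (Q : PowerSeries ℚ) * (Z * PowerSeries.derivative ℚ L)) =
        (Q : PowerSeries ℚ) * ((derivative P : ℚ[X]) : PowerSeries ℚ) := by rw [h1]
    rw [Polynomial.coe_sub, Polynomial.coe_mul, Polynomial.coe_mul, Polynomial.coe_mul, ← h3, ← h]
    ring
  have hP : P ≠ 0 := by
    rintro rfl
    rw [Polynomial.coe_zero] at h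
    have := (hZunit.mul_right_eq_zero).mp h
    exact hQ (Polynomial.coe_injective ℚ (by simpa using this))
  refine ⟨P * Q, (Q * derivative P - P * derivative Q).natDegree + 1, mul_ne_zero hP hQ, ?_⟩
  intro n hn
  have h4 := congrArg (PowerSeries.coeff n) h2
  rw [PowerSeries.coeff_mul, Polynomial.coeff_coe,
    Polynomial.coeff_eq_zero_of_natDegree_lt (by omega)] at h4
  rw [← h4]
  refine Finset.sum_congr rfl fun p _ => ?_
  rw [Polynomial.coeff_coe, hdL]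

/-! ## Part B: the scaling endomorphisms of `ℚ[X]` -/

/-- The substitution `X ↦ c X`. -/
noncomputable def sc (c : ℚ) : ℚ[X] →+* ℚ[X] := Polynomial.compRingHom (C c * X)

lemma sc_apply (c : ℚ) (p : ℚ[X]) : sc c p = p.comp (C c * X) := rfl

lemma eval_sc (c y : ℚ) (p : ℚ[X]) : (sc c p).eval y = p.eval (c * y) := by
  simp [sc_apply, eval_comp]

lemma sc_one (p : ℚ[X]) : sc 1 p = p := by simp [sc_apply]

lemma sc_X (c : ℚ) : sc c X = C c * X := by simp [sc_apply]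

lemma no_common (c : ℚ) (hc : 1 < c) (l : ℕ) (hl : 1 ≤ l) (π : ℚ[X]) (hπ : Irreducible π)
    (n n' : ℕ) (h1 : π ∣ X ^ (n' + 1) - 1) (h2 : π ∣ (C (c ^ l) * X) ^ (n + 1) - 1) : False := by
  have hA : π ∣ (X ^ (n' + 1)) ^ (n + 1) - 1 := by
    have := sub_dvd_pow_sub_pow ((X : ℚ[X]) ^ (n' + 1)) 1 (n + 1)
    rw [one_pow] at this
    exact h1.trans this
  have hB : π ∣ ((C (c ^ l) * X) ^ (n + 1)) ^ (n' + 1) - 1 := by
    have := sub_dvd_pow_sub_pow ((C (c ^ l) * X : ℚ[X]) ^ (n + 1)) 1 (n' + 1)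
    rw [one_pow] at this
    exact h2.trans this
  set N := (n + 1) * (n' + 1) with hN
  set γ : ℚ := (c ^ l) ^ N with hγ
  have hγ1 : 1 < γ := by
    have : 1 < c ^ l := one_lt_pow₀ hc (by omega)
    exact one_lt_pow₀ this (by positivity)
  have hA' : (X ^ (n' + 1)) ^ (n + 1) - 1 = (X : ℚ[X]) ^ N - 1 := by
    rw [← pow_mul, hN, mul_comm]
  have hB' : ((C (c ^ l) * X) ^ (n + 1)) ^ (n' + 1) - 1 = C γ * (X : ℚ[X]) ^ N - 1 := by
    rw [← pow_mul, mul_pow, ← C_pow, hN, hγ]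
  rw [hA'] at hA
  rw [hB'] at hB
  have h3 : π ∣ C γ * ((X : ℚ[X]) ^ N - 1) - (C γ * (X : ℚ[X]) ^ N - 1) :=
    dvd_sub (Dvd.dvd.mul_left hA _) hB
  have h4 : C γ * ((X : ℚ[X]) ^ N - 1) - (C γ * (X : ℚ[X]) ^ N - 1) = C (1 - γ) := by
    rw [C_sub, C_1]; ring
  rw [h4] at h3
  have hu : IsUnit (C (1 - γ) : ℚ[X]) :=
    Polynomial.isUnit_C.mpr (IsUnit.mk0 _ (by linarith [hγ1] : (1 : ℚ) - γ ≠ 0) |> fun h => h)
  exact hπ.not_isUnit (isUnit_of_dvd_unit h3 hu)


/-! ## The integral denominators -/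

/-- `X^a * ∏ (X^(n+1) - 1)` over `ℤ`. -/
noncomputable def Dz (a : ℕ) (ns : List ℕ) : ℤ[X] :=
  X ^ a * (ns.map fun n => (X : ℤ[X]) ^ (n + 1) - 1).prod

lemma Dz_mul (a₁ a₂ : ℕ) (ns₁ ns₂ : List ℕ) :
    Dz a₁ ns₁ * Dz a₂ ns₂ = Dz (a₁ + a₂) (ns₁ ++ ns₂) := by
  simp only [Dz, pow_add, List.map_append, List.prod_append]
  ring

lemma Dz_monic (a : ℕ) (ns : List ℕ) : (Dz a ns).Monic := by
  unfold Dz
  refine (monic_X_pow a).mul ?_
  induction ns with
  | nil => simp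
  | cons n ns ih =>
    rw [List.map_cons, List.prod_cons]
    refine Monic.mul ?_ ih
    have := monic_X_pow_sub_C (1 : ℤ) (Nat.succ_ne_zero n)
    simpa using this

/-- The same over `ℚ`. -/
noncomputable def DQ (a : ℕ) (ns : List ℕ) : ℚ[X] :=
  X ^ a * (ns.map fun n => (X : ℚ[X]) ^ (n + 1) - 1).prod

lemma map_Dz (a : ℕ) (ns : List ℕ) : (Dz a ns).map (Int.castRingHom ℚ) = DQ a ns := by
  unfold Dz DQ
  rw [Polynomial.map_mul, Polynomial.map_pow, Polynomial.map_X]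
  congr 1
  induction ns with
  | nil => simp
  | cons n ns ih =>
    rw [List.map_cons, List.prod_cons, Polynomial.map_mul, ih, List.map_cons, List.prod_cons]
    simp

lemma DQ_ne_zero (a : ℕ) (ns : List ℕ) : DQ a ns ≠ 0 := by
  rw [← map_Dz]
  exact ((Dz_monic a ns).map _).ne_zero

lemma sc_DQ (c : ℚ) (a : ℕ) (ns : List ℕ) :
    sc c (DQ a ns) = (C c * X) ^ a * (ns.map fun n => (C c * X : ℚ[X]) ^ (n + 1) - 1).prod := by
  unfold DQ
  rw [map_mul, map_pow, sc_X]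
  congr 1
  induction ns with
  | nil => simp
  | cons n ns ih =>
    rw [List.map_cons, List.prod_cons, map_mul, ih, List.map_cons, List.prod_cons]
    simp [sc_X]

lemma eval_DQ_ne_zero (a : ℕ) (ns : List ℕ) (x : ℚ) (hx : 1 < x) : (DQ a ns).eval x ≠ 0 := by
  unfold DQ
  rw [eval_mul, eval_pow, eval_X]
  refine mul_ne_zero (pow_ne_zero _ (by linarith)) ?_
  induction ns with
  | nil => simp
  | cons n ns ih =>
    rw [List.map_cons, List.prod_cons, eval_mul]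
    refine mul_ne_zero ?_ ih
    simp only [eval_sub, eval_pow, eval_X, eval_one]
    have : 1 < x ^ (n + 1) := one_lt_pow₀ hx (by omega)
    linarith

/-- The ring hom `ℤ[X] → ℚ(X)`. -/
noncomputable def ι : ℤ[X] →+* RatFunc ℚ :=
  (algebraMap ℚ[X] (RatFunc ℚ)).comp (Polynomial.mapRingHom (Int.castRingHom ℚ))

lemma ι_apply (p : ℤ[X]) : ι p = algebraMap ℚ[X] (RatFunc ℚ) (p.map (Int.castRingHom ℚ)) := rfl

lemma ι_injective : Function.Injective ι := by
  unfold ι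
  rw [RingHom.coe_comp]
  refine (RatFunc.algebraMap_injective ℚ).comp ?_
  exact Polynomial.map_injective _ Int.cast_injective

lemma ι_X : ι X = RatFunc.X := by
  rw [ι_apply, Polynomial.map_X, RatFunc.algebraMap_X]

/-- The elements with a denominator of the special shape. -/
def IsGood (F : RatFunc ℚ) : Prop :=
  ∃ (H : ℤ[X]) (a : ℕ) (ns : List ℕ), F * ι (Dz a ns) = ι H

lemma isGood_of_mem (F : RatFunc ℚ)
    (hF : F ∈ Subring.closure
      (({RatFunc.X, (RatFunc.X : RatFunc ℚ)⁻¹} : Set (RatFunc ℚ)) ∪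
        Set.range fun n : ℕ => ((RatFunc.X : RatFunc ℚ) ^ (n + 1) - 1)⁻¹)) : IsGood F := by
  induction hF using Subring.closure_induction with
  | mem x hx =>
    rcases hx with hx | ⟨n, rfl⟩
    · rcases hx with rfl | hx
      · exact ⟨X, 0, [], by simp [Dz, ι_X]⟩
      · rw [Set.mem_singleton_iff] at hx
        subst hx
        refine ⟨1, 1, [], ?_⟩
        simp only [Dz, pow_one, List.map_nil, List.prod_nil, mul_one, ι_X, map_one]
        exact inv_mul_cancel₀ RatFunc.X_ne_zero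
    · refine ⟨1, 0, [n], ?_⟩
      have h1 : ι (Dz 0 [n]) = (RatFunc.X : RatFunc ℚ) ^ (n + 1) - 1 := by
        simp [Dz, ι_X]
      have h2 : ι (Dz 0 [n]) ≠ 0 := by
        intro h
        have := ι_injective (h.trans (map_zero ι).symm)
        exact (Dz_monic 0 [n]).ne_zero this
      rw [map_one]
      rw [h1] at h2 ⊢
      exact inv_mul_cancel₀ h2
  | zero => exact ⟨0, 0, [], by simp⟩
  | one => exact ⟨1, 0, [], by simp [Dz]⟩
  | add x y _ _ hx hy =>
    obtain ⟨H₁, a₁, ns₁, h₁⟩ := hx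
    obtain ⟨H₂, a₂, ns₂, h₂⟩ := hy
    refine ⟨H₁ * Dz a₂ ns₂ + H₂ * Dz a₁ ns₁, a₁ + a₂, ns₁ ++ ns₂, ?_⟩
    rw [← Dz_mul, map_mul, map_add, map_mul, map_mul, ← h₁, ← h₂]
    ring
  | neg x _ hx =>
    obtain ⟨H₁, a₁, ns₁, h₁⟩ := hx
    exact ⟨-H₁, a₁, ns₁, by rw [map_neg, ← h₁]; ring⟩
  | mul x y _ _ hx hy =>
    obtain ⟨H₁, a₁, ns₁, h₁⟩ := hx
    obtain ⟨H₂, a₂, ns₂, h₂⟩ := hy
    refine ⟨H₁ * H₂, a₁ + a₂, ns₁ ++ ns₂, ?_⟩
    rw [← Dz_mul, map_mul, map_mul, ← h₁, ← h₂]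
    ring

lemma denom_dvd_of_isGood {F : RatFunc ℚ} {H : ℤ[X]} {a : ℕ} {ns : List ℕ}
    (h : F * ι (Dz a ns) = ι H) : F.denom ∣ DQ a ns := by
  rw [RatFunc.denom_dvd (DQ_ne_zero a ns)]
  refine ⟨H.map (Int.castRingHom ℚ), ?_⟩
  rw [ι_apply, ι_apply, map_Dz] at h
  rw [← h, mul_div_assoc, div_self, mul_one]
  exact (map_ne_zero_iff _ (RatFunc.algebraMap_injective ℚ)).mpr (DQ_ne_zero a ns)


/-! ## The divisibility argument -/

lemma dvd_X_of_dvd_C_mul_X_pow (π : ℚ[X]) (hπ : Prime π) (c : ℚ) (hc : c ≠ 0) (a : ℕ)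
    (h : π ∣ (C c * X) ^ a) : π ∣ X := by
  have h1 := hπ.dvd_of_dvd_pow h
  rcases hπ.dvd_or_dvd h1 with h2 | h2
  · exact absurd (isUnit_of_dvd_unit h2 (Polynomial.isUnit_C.mpr (IsUnit.mk0 _ hc))) hπ.not_isUnit
  · exact h2

lemma irreducible_dvd_denom_assoc_X (c : ℚ) (hc : 1 < c) (N D' : ℚ[X]) (hcop : IsCoprime N D')
    (a : ℕ) (ns : List ℕ) (hD : D' ∣ DQ a ns)
    (d : ℕ) (cf : ℕ → ℚ) (h0 : cf 0 ≠ 0)
    (hW : ∑ i ∈ Finset.range (d + 1), C (cf i) *
      (sc (c ^ i) N * ∏ l ∈ (Finset.range (d + 1)).erase i, sc (c ^ l) D') = 0)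
    (π : ℚ[X]) (hπ : Irreducible π) (hπD : π ∣ D') : Associated π X := by
  by_contra hX
  have hprime : Prime π := hπ.prime
  have hnX : ¬ π ∣ X := fun h => hX (hπ.associated_of_dvd Polynomial.irreducible_X h)
  set f : ℕ → ℚ[X] := fun i => C (cf i) *
      (sc (c ^ i) N * ∏ l ∈ (Finset.range (d + 1)).erase i, sc (c ^ l) D') with hf
  have h0mem : 0 ∈ Finset.range (d + 1) := Finset.mem_range.mpr (Nat.succ_pos d)
  have hterm : ∀ i ∈ (Finset.range (d + 1)).erase 0, π ∣ f i := by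
    intro i hi
    have hi0 : i ≠ 0 := (Finset.mem_erase.mp hi).1
    have hmem : 0 ∈ (Finset.range (d + 1)).erase i :=
      Finset.mem_erase.mpr ⟨fun h => hi0 h.symm, h0mem⟩
    have h1 : sc (c ^ 0) D' ∣ ∏ l ∈ (Finset.range (d + 1)).erase i, sc (c ^ l) D' :=
      Finset.dvd_prod_of_mem (fun l => sc (c ^ l) D') hmem
    rw [pow_zero, sc_one] at h1
    exact Dvd.dvd.mul_left (Dvd.dvd.mul_left (hπD.trans h1) _) _
  have hsum : f 0 + ∑ i ∈ (Finset.range (d + 1)).erase 0, f i = 0 := by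
    rw [Finset.add_sum_erase _ f h0mem]; exact hW
  have hf0 : π ∣ f 0 := by
    have : f 0 = - ∑ i ∈ (Finset.range (d + 1)).erase 0, f i := eq_neg_of_add_eq_zero_left hsum
    rw [this]
    exact (Finset.dvd_sum hterm).neg_right
  simp only [hf, pow_zero, sc_one] at hf0
  have h2 : π ∣ N * ∏ l ∈ (Finset.range (d + 1)).erase 0, sc (c ^ l) D' := by
    rcases hprime.dvd_or_dvd hf0 with h | h
    · exact absurd (isUnit_of_dvd_unit h (Polynomial.isUnit_C.mpr (IsUnit.mk0 _ h0))) hprime.not_isUnit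
    · exact h
  rcases hprime.dvd_or_dvd h2 with h | h
  · exact hprime.not_isUnit (hcop.isUnit_of_dvd' h hπD)
  · obtain ⟨l, hl, hdl⟩ := (Prime.dvd_finsetProd_iff hprime _).mp h
    have hl1 : 1 ≤ l := Nat.one_le_iff_ne_zero.mpr (Finset.mem_erase.mp hl).1
    -- π ∣ DQ
    have hA : π ∣ DQ a ns := hπD.trans hD
    have hB : π ∣ sc (c ^ l) (DQ a ns) := hdl.trans (map_dvd (sc (c ^ l)) hD)
    have hcl : c ^ l ≠ 0 := pow_ne_zero _ (by linarith)
    -- first: some n' with π ∣ X^(n'+1) - 1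
    have hA' : ∃ n' : ℕ, π ∣ (X : ℚ[X]) ^ (n' + 1) - 1 := by
      unfold DQ at hA
      rcases hprime.dvd_or_dvd hA with h | h
      · exact absurd (hprime.dvd_of_dvd_pow h) hnX
      · obtain ⟨y, hy, hdy⟩ := (Prime.dvd_prod_iff hprime).mp h
        obtain ⟨n', _, rfl⟩ := List.mem_map.mp hy
        exact ⟨n', hdy⟩
    have hB' : ∃ n : ℕ, π ∣ (C (c ^ l) * X : ℚ[X]) ^ (n + 1) - 1 := by
      rw [sc_DQ] at hB
      rcases hprime.dvd_or_dvd hB with h | h
      · exact absurd (dvd_X_of_dvd_C_mul_X_pow π hprime _ hcl a h) hnX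
      · obtain ⟨y, hy, hdy⟩ := (Prime.dvd_prod_iff hprime).mp h
        obtain ⟨n, _, rfl⟩ := List.mem_map.mp hy
        exact ⟨n, hdy⟩
    obtain ⟨n', h1⟩ := hA'
    obtain ⟨n, h2'⟩ := hB'
    exact no_common c hc l hl1 π hπ n n' h1 h2'

lemma eq_C_mul_X_pow (D' : ℚ[X]) (hD0 : D' ≠ 0)
    (h : ∀ π, Irreducible π → π ∣ D' → Associated π X) :
    ∃ (u : ℚ) (b : ℕ), u ≠ 0 ∧ D' = C u * X ^ b := by
  obtain ⟨D'', hD'', hnd⟩ := Polynomial.exists_eq_pow_rootMultiplicity_mul_and_not_dvd D' hD0 0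
  rw [C_0, sub_zero] at hD'' hnd
  have hD''0 : D'' ≠ 0 := by
    rintro rfl
    rw [mul_zero] at hD''
    exact hD0 hD''
  have hu : IsUnit D'' := by
    by_contra hnu
    obtain ⟨π, hπ, hπd⟩ := WfDvdMonoid.exists_irreducible_factor hnu hD''0
    have h1 : π ∣ D' := by rw [hD'']; exact Dvd.dvd.mul_left hπd _
    exact hnd ((h π hπ h1).symm.dvd.trans hπd)
  obtain ⟨u, hu1, hu2⟩ := Polynomial.isUnit_iff.mp hu
  obtain ⟨b, hb⟩ : ∃ b : ℕ, D' = X ^ b * D'' := ⟨_, hD''⟩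
  refine ⟨u, b, hu1.ne_zero, ?_⟩
  rw [hb, ← hu2, mul_comm]

/-! ## Integrality -/

lemma integral_of_mul_monic (G : ℚ[X]) (Dm H : ℤ[X]) (hDm : Dm.Monic)
    (h : G * Dm.map (Int.castRingHom ℚ) = H.map (Int.castRingHom ℚ)) :
    ∃ P : ℤ[X], G = P.map (Int.castRingHom ℚ) := by
  have hdvd : Dm.map (Int.castRingHom ℚ) ∣ H.map (Int.castRingHom ℚ) := ⟨G, by rw [← h, mul_comm]⟩
  have h1 : H.map (Int.castRingHom ℚ) %ₘ Dm.map (Int.castRingHom ℚ) = 0 :=
    (Polynomial.modByMonic_eq_zero_iff_dvd (hDm.map _)).mpr hdvd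
  rw [← Polynomial.map_modByMonic _ hDm] at h1
  have h2 : H %ₘ Dm = 0 := by
    apply Polynomial.map_injective (Int.castRingHom ℚ) Int.cast_injective
    rw [h1, Polynomial.map_zero]
  obtain ⟨P, hP⟩ := (Polynomial.modByMonic_eq_zero_iff_dvd hDm).mp h2
  refine ⟨P, ?_⟩
  have h3 : G * Dm.map (Int.castRingHom ℚ) =
      P.map (Int.castRingHom ℚ) * Dm.map (Int.castRingHom ℚ) := by
    rw [h, hP, Polynomial.map_mul, mul_comm]
  exact mul_right_cancel₀ (hDm.map _).ne_zero h3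


/-! ## Assembly -/

theorem main (q : ℤ) (hq : 1 < q) (F : RatFunc ℚ) (hF : IsGood F)
    (hrat : ∃ P Q : ℚ[X], Q ≠ 0 ∧
      (PowerSeries.exp ℚ).subst
          (PowerSeries.mk fun v : ℕ => if v = 0 then (0 : ℚ)
            else F.eval (RingHom.id ℚ) ((q : ℚ) ^ v) / (v : ℚ))
        * (Q : PowerSeries ℚ) = (P : PowerSeries ℚ)) :
    ∃ (P : ℤ[X]) (a : ℕ),
      F * RatFunc.X ^ a = algebraMap ℚ[X] (RatFunc ℚ) (P.map (Int.castRingHom ℚ)) := by
  obtain ⟨H, a, ns, hH⟩ := hF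
  obtain ⟨P, Q, hQ, hPQ⟩ := hrat
  set c : ℚ := (q : ℚ) with hc
  have hc1 : 1 < c := by rw [hc]; exact_mod_cast hq
  have hc0 : 0 < c := by linarith
  set av : ℕ → ℚ := fun v => F.eval (RingHom.id ℚ) (c ^ v) with hav
  obtain ⟨Cp, n₀, hCp, hrec⟩ := recurrence_of_rational av P Q hQ hPQ
  set N := F.num with hNdef
  set D' := F.denom with hD'def
  have hD'dvd : D' ∣ DQ a ns := denom_dvd_of_isGood hH
  have hD'ev : ∀ x : ℚ, 1 < x → D'.eval x ≠ 0 := by
    intro x hx h0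
    obtain ⟨E, hE⟩ := hD'dvd
    have := eval_DQ_ne_zero a ns x hx
    rw [hE, eval_mul, h0, zero_mul] at this
    exact this rfl
  have hav' : ∀ v, av v = N.eval (c ^ v) / D'.eval (c ^ v) := by
    intro v
    simp only [hav, RatFunc.eval, Polynomial.eval₂_id, hNdef, hD'def]
  set d := Cp.natDegree with hd
  set cf : ℕ → ℚ := fun i => Cp.coeff (d - i) with hcf
  have hcf0 : cf 0 ≠ 0 := by
    simp only [hcf, Nat.sub_zero, hd]
    exact Polynomial.leadingCoeff_ne_zero.mpr hCp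
  have hrec' : ∀ m, n₀ ≤ m → ∑ i ∈ Finset.range (d + 1), cf i * av (m + 1 + i) = 0 := by
    intro m hm
    have h1 := hrec (m + d) (by omega)
    rw [Finset.Nat.sum_antidiagonal_eq_sum_range_succ_mk] at h1
    have h2 : ∑ k ∈ Finset.range (d + 1), Cp.coeff k * av (m + d - k + 1) =
        ∑ k ∈ Finset.range (m + d).succ, Cp.coeff k * av (m + d - k + 1) := by
      refine Finset.sum_subset (Finset.range_subset_range.mpr (by omega)) ?_
      intro k _ hk
      rw [Finset.mem_range, not_lt] at hk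
      rw [Polynomial.coeff_eq_zero_of_natDegree_lt (by omega), zero_mul]
    rw [← h2, ← Finset.sum_range_reflect] at h1
    rw [← h1]
    refine Finset.sum_congr rfl fun j hj => ?_
    rw [Finset.mem_range] at hj
    simp only [hcf]
    have e1 : d + 1 - 1 - j = d - j := by omega
    have e2 : m + d - (d - j) + 1 = m + 1 + j := by omega
    rw [e1, e2]
  set W : ℚ[X] := ∑ i ∈ Finset.range (d + 1), C (cf i) *
      (sc (c ^ i) N * ∏ l ∈ (Finset.range (d + 1)).erase i, sc (c ^ l) D') with hWdef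
  have hWroot : ∀ m, n₀ ≤ m → W.eval (c ^ (m + 1)) = 0 := by
    intro m hm
    set y : ℚ := c ^ (m + 1) with hy
    have hDv : ∀ l : ℕ, D'.eval (c ^ l * y) ≠ 0 := by
      intro l
      apply hD'ev
      rw [hy, ← pow_add]
      exact one_lt_pow₀ hc1 (by omega)
    have hWe : W.eval y = ∑ i ∈ Finset.range (d + 1), cf i *
        (N.eval (c ^ i * y) * ∏ l ∈ (Finset.range (d + 1)).erase i, D'.eval (c ^ l * y)) := by
      simp only [hWdef, eval_finsetSum, eval_mul, eval_C, eval_prod, eval_sc]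
    have hterm : ∀ i ∈ Finset.range (d + 1), cf i *
        (N.eval (c ^ i * y) * ∏ l ∈ (Finset.range (d + 1)).erase i, D'.eval (c ^ l * y)) =
        (∏ l ∈ Finset.range (d + 1), D'.eval (c ^ l * y)) * (cf i * av (m + 1 + i)) := by
      intro i hi
      rw [← Finset.mul_prod_erase _ _ hi, hav']
      have e : c ^ (m + 1 + i) = c ^ i * y := by rw [hy, ← pow_add, add_comm]
      rw [e]
      have := hDv i
      field_simp
    rw [hWe, Finset.sum_congr rfl hterm, ← Finset.mul_sum, hrec' m hm, mul_zero]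
  have hW0 : W = 0 := by
    apply Polynomial.eq_zero_of_infinite_isRoot
    refine Set.infinite_of_injective_forall_mem (f := fun m : ℕ => c ^ (n₀ + m + 1)) ?_ ?_
    · intro m m' h
      have := pow_right_injective₀ hc0 (ne_of_gt hc1) h
      omega
    · intro m
      exact hWroot (n₀ + m) (by omega)
  have hassoc := irreducible_dvd_denom_assoc_X c hc1 N D' (RatFunc.isCoprime_num_denom F) a ns
    hD'dvd d cf hcf0 hW0
  obtain ⟨u, b, hu, hDb⟩ := eq_C_mul_X_pow D' (RatFunc.denom_ne_zero F) hassoc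
  have hFD : F * algebraMap ℚ[X] (RatFunc ℚ) D' = algebraMap ℚ[X] (RatFunc ℚ) N := by
    have h1 := RatFunc.num_div_denom F
    have h2 : algebraMap ℚ[X] (RatFunc ℚ) D' ≠ 0 :=
      (map_ne_zero_iff _ (RatFunc.algebraMap_injective ℚ)).mpr (RatFunc.denom_ne_zero F)
    conv_lhs => rw [← h1]
    rw [div_mul_cancel₀ _ h2]
  set G : ℚ[X] := C u⁻¹ * N with hG
  have hFG : F * RatFunc.X ^ b = algebraMap ℚ[X] (RatFunc ℚ) G := by
    rw [hG, map_mul, ← hFD, hDb, map_mul, map_pow, RatFunc.algebraMap_X]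
    have h3 : algebraMap ℚ[X] (RatFunc ℚ) (C u⁻¹) * algebraMap ℚ[X] (RatFunc ℚ) (C u) = 1 := by
      rw [← map_mul, ← C_mul, inv_mul_cancel₀ hu, C_1, map_one]
    calc F * RatFunc.X ^ b = F * RatFunc.X ^ b * 1 := (mul_one _).symm
      _ = F * RatFunc.X ^ b * (algebraMap ℚ[X] (RatFunc ℚ) (C u⁻¹) *
            algebraMap ℚ[X] (RatFunc ℚ) (C u)) := by rw [h3]
      _ = _ := by ring
  have hGD : G * (Dz a ns).map (Int.castRingHom ℚ) = (H * X ^ b).map (Int.castRingHom ℚ) := by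
    apply RatFunc.algebraMap_injective ℚ
    rw [map_mul, ← hFG, ← ι_apply, ← ι_apply, map_mul, map_pow, ι_X, ← hH]
    ring
  obtain ⟨Pz, hPz⟩ := integral_of_mul_monic G (Dz a ns) (H * X ^ b) (Dz_monic a ns) hGD
  exact ⟨Pz, b, by rw [hFG, hPz]⟩

end Groth.Agent.Lib.Lead.ExpRat1
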