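import Mathlib
import Groth.Agent.Lib.Helper4.CartierUFD2

set_option autoImplicit false
set_option backward.isDefEq.respectTransparency.types false
set_option synthInstance.maxHeartbeats 400000
set_option linter.style.haveILetI false
set_option linter.unusedSectionVars false
universe u
open CategoryTheory CategoryTheory.Limits AlgebraicGeometry TopologicalSpace Opposite

namespace Groth.Agent.Lead.ExtCart

section Alg

/-- in a local factorial domain, if the maximal ideal kills a nonzero class modulo a principal
ideal, then the maximal ideal is generated by a prime element -/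
theorem exists_prime_span_of_colon {T : Type*} [CommRing T] [IsDomain T] [IsLocalRing T]
    [UniqueFactorizationMonoid T] (f : T) :
    ∀ a : T, f ≠ 0 → a ∉ Ideal.span {f} →
      (∀ m ∈ IsLocalRing.maximalIdeal T, m * a ∈ Ideal.span {f}) →
      ∃ π : T, Prime π ∧ IsLocalRing.maximalIdeal T = Ideal.span {π} := by
  induction f using UniqueFactorizationMonoid.induction_on_prime with
  | h₁ => intro a h; exact absurd rfl h
  | h₂ x hx =>
    intro a _ ha
    exfalso
    apply ha
    rw [Ideal.span_singleton_eq_top.2 hx]
    trivial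
  | h₃ f' p hf' hp ih =>
    intro a _ ha hm
    by_cases hpa : p ∣ a
    · obtain ⟨a', rfl⟩ := hpa
      apply ih a' hf'
      · intro h
        apply ha
        obtain ⟨c, hc⟩ := Ideal.mem_span_singleton'.1 h
        rw [Ideal.mem_span_singleton']
        exact ⟨c, by rw [← hc]; ring⟩
      · intro m hmm
        obtain ⟨c, hc⟩ := Ideal.mem_span_singleton'.1 (hm m hmm)
        rw [Ideal.mem_span_singleton']
        refine ⟨c, ?_⟩
        apply mul_left_cancel₀ hp.ne_zero
        rw [← mul_assoc, mul_comm p c, mul_assoc, hc]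
        ring
    · refine ⟨p, hp, le_antisymm ?_ ?_⟩
      · intro m hmm
        obtain ⟨c, hc⟩ := Ideal.mem_span_singleton'.1 (hm m hmm)
        have hdvd : p ∣ m * a := ⟨c * f', by rw [← hc]; ring⟩
        rcases hp.dvd_or_dvd hdvd with h | h
        · exact Ideal.mem_span_singleton.2 h
        · exact absurd h hpa
      · rw [Ideal.span_singleton_le_iff_mem, IsLocalRing.mem_maximalIdeal]
        exact hp.not_unit

/-- in a noetherian factorial domain, an associated prime of `R/J` at which `J` is locally principal
has height one -/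
theorem height_eq_one_of_ass {R : Type u} [CommRing R] [IsDomain R] [IsNoetherianRing R]
    [UniqueFactorizationMonoid R] (J : Ideal R) (P : Ideal R) [hPp : P.IsPrime]
    (hP : P ∈ associatedPrimes R (R ⧸ J))
    (hprin : ∃ f : Localization.AtPrime P, f ≠ 0 ∧
      J.map (algebraMap R (Localization.AtPrime P)) = Ideal.span {f}) : P.height = 1 := by
  obtain ⟨f, hf0, hJf⟩ := hprin
  obtain ⟨-, x, hx⟩ := (isAssociatedPrime_iff).1 hP
  obtain ⟨a, rfl⟩ := Ideal.Quotient.mk_surjective x
  have hcolon : ∀ r : R, r ∈ P ↔ r * a ∈ J := by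
    intro r
    rw [hx, Submodule.mem_colon_singleton, Submodule.mem_bot]
    have : r • (Ideal.Quotient.mk J a) = Ideal.Quotient.mk J (r * a) := by
      rw [map_mul]; rfl
    rw [this, Ideal.Quotient.eq_zero_iff_mem]
  let T := Localization.AtPrime P
  have ha' : algebraMap R T a ∉ Ideal.span {f} := by
    rw [← hJf]
    intro h
    obtain ⟨⟨⟨j, hj⟩, s⟩, hs⟩ := (IsLocalization.mem_map_algebraMap_iff P.primeCompl T).1 h
    simp only at hs
    rw [← map_mul] at hs
    obtain ⟨c, hc⟩ := (IsLocalization.eq_iff_exists P.primeCompl T).1 hs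
    have h1 : ((c : R) * (s : R)) * a ∈ J := by
      have : (c : R) * (s : R) * a = c * j := by
        rw [← hc]; ring
      rw [this]
      exact J.mul_mem_left _ hj
    have h2 : (c : R) * (s : R) ∈ P := (hcolon _).2 h1
    rcases hPp.mem_or_mem h2 with h3 | h3
    · exact c.2 h3
    · exact s.2 h3
  have hm : ∀ m ∈ IsLocalRing.maximalIdeal T, m * algebraMap R T a ∈ Ideal.span {f} := by
    intro m hmm
    rw [← Localization.AtPrime.map_eq_maximalIdeal] at hmm
    obtain ⟨⟨⟨p, hp⟩, s⟩, hs⟩ := (IsLocalization.mem_map_algebraMap_iff P.primeCompl T).1 hmm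
    simp only at hs
    have hpa : p * a ∈ J := (hcolon p).1 hp
    have h1 : algebraMap R T (p * a) ∈ J.map (algebraMap R T) := Ideal.mem_map_of_mem _ hpa
    rw [hJf] at h1
    have hu : IsUnit (algebraMap R T (s : R)) := IsLocalization.map_units T s
    have h2 : m * algebraMap R T a * algebraMap R T (s : R) ∈ Ideal.span {f} := by
      have : m * algebraMap R T a * algebraMap R T (s : R) = algebraMap R T (p * a) := by
        rw [map_mul, ← hs]; ring
      rw [this]; exact h1
    obtain ⟨u, hu'⟩ := hu
    have h3 := (Ideal.span {f}).mul_mem_right (↑u⁻¹ : T) h2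
    rw [← hu', mul_assoc, Units.mul_inv, mul_one] at h3
    exact h3
  obtain ⟨π, hπ, hmπ⟩ := exists_prime_span_of_colon f (algebraMap R T a) hf0 ha' hm
  have hnf : ¬ IsField T := by
    rw [IsLocalRing.isField_iff_maximalIdeal_eq, hmπ]
    intro h
    exact hπ.ne_zero (Ideal.span_singleton_eq_bot.1 h)
  have h1 : (IsLocalRing.maximalIdeal T).IsPrincipal := ⟨⟨π, hmπ⟩⟩
  haveI : IsDiscreteValuationRing T := ((IsDiscreteValuationRing.TFAE T hnf).out 4 0).1 h1
  have hdim : ringKrullDim T = 1 := IsDiscreteValuationRing.ringKrullDim_eq_one T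
  have := IsLocalization.AtPrime.ringKrullDim_eq_height P T
  rw [hdim] at this
  exact_mod_cast this.symm

end Alg

end Groth.Agent.Lead.ExtCart
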