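import Mathlib
import Groth.Agent.Lib.Lead.ExtCart1
import Groth.Agent.Lib.Helper4.EffCartier
import Groth.Agent.Lib.Lead.SD1

set_option autoImplicit false
set_option backward.isDefEq.respectTransparency.types false
set_option synthInstance.maxHeartbeats 400000
set_option linter.style.haveILetI false
set_option linter.unusedSectionVars false
universe u
open CategoryTheory CategoryTheory.Limits AlgebraicGeometry TopologicalSpace Opposite

namespace Groth.Agent.Lead.ExtCart

variable {X : Scheme.{u}} [IsLocallyNoetherian X] (U : X.Opens)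
  (D : (U : Scheme.{u}).IdealSheafData)

/-- the scheme-theoretic closure of a closed subscheme of an open restricts to it -/
theorem comap_map_ι : (D.map U.ι).comap U.ι = D := by
  apply le_antisymm (Scheme.IdealSheafData.comap_map_le _ _)
  intro V
  have H : IsAffineOpen (U.ι ⁻¹ᵁ (U.ι ''ᵁ V.1)) := by
    rw [Scheme.Hom.preimage_image_eq]; exact V.2
  rw [Scheme.IdealSheafData.ideal_comap_of_isOpenImmersion,
    Scheme.IdealSheafData.ideal_map D U.ι ⟨U.ι ''ᵁ V.1, V.2.image_of_isOpenImmersion U.ι⟩ H]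
  intro x hx
  rw [Ideal.mem_comap, Ideal.mem_comap]
  have h1 := ConcreteCategory.congr_hom (U.ι.appIso_inv_app V.1) x
  change (U.ι.app (U.ι ''ᵁ V.1)).hom ((U.ι.appIso V.1).inv.hom x) = _ at h1
  rw [h1]
  rw [← D.map_ideal' (U := ⟨_, H⟩) (V := V) (eqToHom (U.ι.preimage_image_eq V.1)).op]
  exact Ideal.mem_map_of_mem _ hx

open Groth.Agent.Lead.SD Groth.Agent.Lib.Helper4.CartierUFD1 in
/-- the associated points of the scheme-theoretic closure lie in the open -/
theorem mem_of_ass (V : X.affineOpens) (x : X) (hxV : x ∈ V.1)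
    (P : Ideal (X.presheaf.stalk x)) [hPp : P.IsPrime]
    (hP : IsAssociatedPrime P (X.presheaf.stalk x ⧸
      ((D.map U.ι).ideal V).map (X.presheaf.germ V.1 x hxV).hom))
    (z : V.1) (hz : (V.2.primeIdealOf z).asIdeal = P.comap (X.presheaf.germ V.1 x hxV).hom) :
    z.1 ∈ U := by
  by_contra hzU
  let f : D.subscheme ⟶ X := D.subschemeι ≫ U.ι
  have hker : (D.map U.ι).ideal V = RingHom.ker (f.app V.1).hom := Scheme.Hom.ker_apply f V
  set I' := (D.map U.ι).ideal V with hI'
  let _ := TopCat.Presheaf.algebra_section_stalk X.presheaf (⟨x, hxV⟩ : V.1)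
  haveI hloc : IsLocalization.AtPrime (X.presheaf.stalk x) (V.2.primeIdealOf ⟨x, hxV⟩).asIdeal :=
    V.2.isLocalization_stalk ⟨x, hxV⟩
  haveI : IsNoetherianRing Γ(X, V.1) := IsLocallyNoetherian.component_noetherian V
  set 𝔭 := (V.2.primeIdealOf ⟨x, hxV⟩).asIdeal with h𝔭
  have hgermalg : ∀ r : Γ(X, V.1), algebraMap Γ(X, V.1) (X.presheaf.stalk x) r =
      (X.presheaf.germ V.1 x hxV).hom r := fun r => rfl
  obtain ⟨-, abar, habar⟩ := (isAssociatedPrime_iff).1 hP
  obtain ⟨a, rfl⟩ := Ideal.Quotient.mk_surjective abar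
  set J := I'.map (X.presheaf.germ V.1 x hxV).hom with hJ
  have hcolon : ∀ r : X.presheaf.stalk x, r ∈ P ↔ r * a ∈ J := by
    intro r
    rw [habar, Submodule.mem_colon_singleton, Submodule.mem_bot]
    have : r • (Ideal.Quotient.mk J a) = Ideal.Quotient.mk J (r * a) := by
      rw [map_mul]; rfl
    rw [this, Ideal.Quotient.eq_zero_iff_mem]
  obtain ⟨⟨α, s⟩, hαs⟩ := IsLocalization.surj 𝔭.primeCompl a
  simp only at hαs
  -- the prime of `z`
  set Q := (V.2.primeIdealOf z).asIdeal with hQ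
  have hQfg : Q.FG := IsNoetherian.noetherian Q
  let K : Ideal Γ(X, V.1) := Submodule.colon I' {α}
  have hK : ∀ b : Γ(X, V.1), b ∈ K ↔ b * α ∈ I' := fun b => Submodule.mem_colon_singleton
  have hJmem : ∀ r : Γ(X, V.1), (X.presheaf.germ V.1 x hxV).hom r ∈ J →
      ∃ g ∈ 𝔭.primeCompl, g * r ∈ I' := by
    intro r hr
    obtain ⟨⟨⟨i, hi⟩, m⟩, hm⟩ := (IsLocalization.mem_map_algebraMap_iff 𝔭.primeCompl
      (X.presheaf.stalk x)).1 hr
    simp only at hm
    rw [hgermalg, ← map_mul] at hm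
    obtain ⟨c, hc⟩ := (IsLocalization.eq_iff_exists 𝔭.primeCompl (X.presheaf.stalk x)).1 hm
    refine ⟨c * m, Submonoid.mul_mem _ c.2 m.2, ?_⟩
    have : (c : Γ(X, V.1)) * (m : Γ(X, V.1)) * r = c * i := by rw [← hc]; ring
    rw [this]
    exact I'.mul_mem_left _ hi
  have h1 : ∀ b ∈ Q, ∃ g ∈ 𝔭.primeCompl, g * b ∈ K := by
    intro b hb
    have hbP : (X.presheaf.germ V.1 x hxV).hom b ∈ P := by
      rw [hz] at hb
      exact hb
    have h2 : (X.presheaf.germ V.1 x hxV).hom b * a ∈ J := (hcolon _).1 hbP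
    have h3 : (X.presheaf.germ V.1 x hxV).hom (b * α) ∈ J := by
      rw [map_mul, ← hgermalg α, ← hαs, ← mul_assoc]
      exact J.mul_mem_right _ h2
    obtain ⟨g, hg, hgb⟩ := hJmem _ h3
    refine ⟨g, hg, ?_⟩
    rw [hK, mul_assoc]
    exact hgb
  obtain ⟨g, hg, hgQ⟩ := exists_primeCompl_mul_mem 𝔭 K Q hQfg h1
  -- the key vanishing
  have hkey : g * α ∈ I' := by
    rw [hker, RingHom.mem_ker]
    refine TopCat.Presheaf.section_ext D.subscheme.sheaf (f ⁻¹ᵁ V.1) _ _ fun y hy => ?_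
    refine Eq.trans ?_ (map_zero (D.subscheme.presheaf.germ (f ⁻¹ᵁ V.1) y hy).hom).symm
    change (D.subscheme.presheaf.germ (f ⁻¹ᵁ V.1) y hy).hom ((f.app V.1).hom (g * α)) = 0
    have hyU : f y ∈ U := by
      change U.ι (D.subschemeι y) ∈ U
      exact (D.subschemeι y).2
    have hyV : f y ∈ V.1 := hy
    obtain ⟨q, hqQ, hqy⟩ : ∃ q ∈ Q, q ∉ (V.2.primeIdealOf ⟨f y, hyV⟩).asIdeal := by
      by_contra hcon
      simp only [not_exists, not_and, not_not] at hcon
      have hle : V.2.primeIdealOf z ≤ V.2.primeIdealOf ⟨f y, hyV⟩ := fun q hq => hcon q hq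
      have hsp : V.2.primeIdealOf z ⤳ V.2.primeIdealOf ⟨f y, hyV⟩ :=
        (PrimeSpectrum.le_iff_specializes _ _).1 hle
      have hsp2 := hsp.map V.2.fromSpec.continuous
      rw [V.2.fromSpec_primeIdealOf, V.2.fromSpec_primeIdealOf] at hsp2
      exact hzU (hsp2.mem_open U.2 hyU)
    have hunit : IsUnit ((X.presheaf.germ V.1 (f y) hyV).hom q) :=
      (isUnit_germ_iff V.2 ⟨f y, hyV⟩ q).2 hqy
    have h4 : g * q ∈ K := hgQ q hqQ
    rw [hK, hker, RingHom.mem_ker] at h4
    have h5 : (f.app V.1).hom q * (f.app V.1).hom (g * α) = 0 := by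
      rw [← map_mul, ← h4]
      congr 1
      ring
    have h6 := congrArg (D.subscheme.presheaf.germ (f ⁻¹ᵁ V.1) y hy).hom h5
    rw [map_mul, map_zero, ← Scheme.Hom.germ_stalkMap_apply f V.1 y hyV q] at h6
    have hunit2 : IsUnit ((f.stalkMap y).hom ((X.presheaf.germ V.1 (f y) hyV).hom q)) :=
      hunit.map _
    exact (hunit2.mul_right_eq_zero).1 h6
  -- conclusion
  have h7 : (X.presheaf.germ V.1 x hxV).hom (g * α) ∈ J := Ideal.mem_map_of_mem _ hkey
  have h7' : ((X.presheaf.germ V.1 x hxV).hom g * algebraMap Γ(X, V.1) (X.presheaf.stalk x) s) * a =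
      (X.presheaf.germ V.1 x hxV).hom (g * α) := by
    rw [map_mul, ← hgermalg α, ← hαs]; ring
  have h8 : (X.presheaf.germ V.1 x hxV).hom g * algebraMap Γ(X, V.1) (X.presheaf.stalk x) s ∈ P :=
    (hcolon _).2 (by rw [h7']; exact h7)
  have hu1 : IsUnit ((X.presheaf.germ V.1 x hxV).hom g) :=
    (isUnit_germ_iff V.2 ⟨x, hxV⟩ g).2 hg
  have hu2 : IsUnit (algebraMap Γ(X, V.1) (X.presheaf.stalk x) s) :=
    IsLocalization.map_units _ s
  exact hPp.ne_top (Ideal.eq_top_of_isUnit_mem _ h8 (hu1.mul hu2))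

open Groth.Agent.Lead.SD Groth.Agent.Helper4 in
/-- at an associated point lying in the open, the closure ideal is locally principal -/
theorem exists_principal_localization (hD : BlowUp.IsEffCartierIdeal D) (V : X.affineOpens) (x : X)
    (hxV : x ∈ V.1) (P : Ideal (X.presheaf.stalk x)) [hPp : P.IsPrime]
    (z : V.1) (hz : (V.2.primeIdealOf z).asIdeal = P.comap (X.presheaf.germ V.1 x hxV).hom)
    (hzU : z.1 ∈ U) :
    ∃ f : Localization.AtPrime P, f ≠ 0 ∧
      (((D.map U.ι).ideal V).map (X.presheaf.germ V.1 x hxV).hom).map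
        (algebraMap (X.presheaf.stalk x) (Localization.AtPrime P)) = Ideal.span {f} := by
  letI algx := TopCat.Presheaf.algebra_section_stalk X.presheaf (⟨x, hxV⟩ : V.1)
  haveI hlocx : IsLocalization.AtPrime (X.presheaf.stalk x) (V.2.primeIdealOf ⟨x, hxV⟩).asIdeal :=
    V.2.isLocalization_stalk ⟨x, hxV⟩
  let T := Localization.AtPrime P
  letI algT : Algebra Γ(X, V.1) T := inferInstance
  haveI : IsScalarTower Γ(X, V.1) (X.presheaf.stalk x) T := inferInstance
  set Q := (V.2.primeIdealOf z).asIdeal with hQ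
  have hQ' : Q = P.comap (algebraMap Γ(X, V.1) (X.presheaf.stalk x)) := hz
  haveI hlocT : IsLocalization.AtPrime T Q := by
    have h := IsLocalization.isLocalization_isLocalization_atPrime_isLocalization
      (V.2.primeIdealOf ⟨x, hxV⟩).asIdeal.primeCompl T P
    convert h using 2
  letI algz := TopCat.Presheaf.algebra_section_stalk X.presheaf z
  haveI hlocz : IsLocalization.AtPrime (X.presheaf.stalk z.1) Q := V.2.isLocalization_stalk z
  let e : X.presheaf.stalk z.1 ≃ₐ[Γ(X, V.1)] T :=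
    IsLocalization.algEquiv Q.primeCompl (X.presheaf.stalk z.1) T
  have hcart : BlowUp.IsEffCartierIdeal ((D.map U.ι).comap U.ι) := by
    rw [comap_map_ι]; exact hD
  obtain ⟨O, hzO, hOV, c, hc, hIc⟩ := EffCartier.isEffCartierAt_of_comap_ι U hcart z.1 hzU V.1 z.2
  have hstalk : ((D.map U.ι).ideal V).map (algebraMap Γ(X, V.1) (X.presheaf.stalk z.1)) =
      Ideal.span {(X.presheaf.germ O.1 z.1 hzO).hom c} := by
    have h1 : algebraMap Γ(X, V.1) (X.presheaf.stalk z.1) =
        (X.presheaf.germ O.1 z.1 hzO).hom.comp (X.presheaf.map (homOfLE hOV).op).hom := by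
      change (X.presheaf.germ V.1 z.1 z.2).hom = _
      rw [← CommRingCat.hom_comp, X.presheaf.germ_res]
    have h2 : ((D.map U.ι).ideal V).map (X.presheaf.map (homOfLE hOV).op).hom =
        (D.map U.ι).ideal O := (D.map U.ι).map_ideal (U := O) (V := V) hOV
    rw [h1, ← Ideal.map_map, h2, hIc, Ideal.map_span, Set.image_singleton]
  refine ⟨e ((X.presheaf.germ O.1 z.1 hzO).hom c), ?_, ?_⟩
  · intro h0
    have h1 : (X.presheaf.germ O.1 z.1 hzO).hom c = 0 := by
      apply e.injective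
      rw [h0, map_zero]
    letI algO := TopCat.Presheaf.algebra_section_stalk X.presheaf (⟨z.1, hzO⟩ : O.1)
    haveI hlocO : IsLocalization.AtPrime (X.presheaf.stalk z.1) (O.2.primeIdealOf ⟨z.1, hzO⟩).asIdeal :=
      O.2.isLocalization_stalk ⟨z.1, hzO⟩
    have h2 : algebraMap Γ(X, O.1) (X.presheaf.stalk z.1) c ∈ nonZeroDivisors (X.presheaf.stalk z.1) :=
      IsLocalization.map_nonZeroDivisors_le (O.2.primeIdealOf ⟨z.1, hzO⟩).asIdeal.primeCompl
        (X.presheaf.stalk z.1) (Submonoid.mem_map_of_mem _ hc)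
    exact nonZeroDivisors.ne_zero h2 h1
  · rw [Ideal.map_map]
    have h2 : (algebraMap (X.presheaf.stalk x) T).comp (X.presheaf.germ V.1 x hxV).hom =
        (e : X.presheaf.stalk z.1 →+* T).comp (algebraMap Γ(X, V.1) (X.presheaf.stalk z.1)) := by
      ext r
      exact (e.commutes r).symm
    rw [h2, ← Ideal.map_map, hstalk, Ideal.map_span, Set.image_singleton]
    rfl

open Groth.Agent.Lead.SD Groth.Agent.Helper4 Groth.Agent.Lib.Helper4.CartierUFD1
  Groth.Agent.Lib.Helper4.CartierUFD2 in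
theorem S1660_main (X : Scheme.{u}) [IsLocallyNoetherian X] (U : X.Opens)
    (D : (U : Scheme.{u}).IdealSheafData) (hD : BlowUp.IsEffCartierIdeal D)
    (hufd : ∀ x : X, x ∉ U → IsDomain (X.presheaf.stalk x) ∧
      UniqueFactorizationMonoid (X.presheaf.stalk x)) :
    ∃ D' : X.IdealSheafData, BlowUp.IsEffCartierIdeal D' ∧ D'.comap U.ι = D := by
  refine ⟨D.map U.ι, ?_, comap_map_ι U D⟩
  have hcart : BlowUp.IsEffCartierIdeal ((D.map U.ι).comap U.ι) := by
    rw [comap_map_ι]; exact hD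
  intro x
  by_cases hxU : x ∈ U
  · obtain ⟨O, hxO, -, c, hc, hIc⟩ :=
      EffCartier.isEffCartierAt_of_comap_ι U hcart x hxU ⊤ trivial
    exact ⟨O, hxO, c, hc, hIc⟩
  · obtain ⟨hdom, hUFD⟩ := hufd x hxU
    obtain ⟨V, hV, hxV, -⟩ := Opens.isBasis_iff_nbhd.mp (X.isBasis_affineOpens)
      (show x ∈ (⊤ : X.Opens) from trivial)
    have key : ∀ P ∈ associatedPrimes (X.presheaf.stalk x) (X.presheaf.stalk x ⧸
        ((D.map U.ι).ideal ⟨V, hV⟩).map (X.presheaf.germ V x hxV).hom), P.height = 1 := by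
      intro P hP
      haveI hPp : P.IsPrime := hP.isPrime
      let Q : PrimeSpectrum Γ(X, V) := ⟨P.comap (X.presheaf.germ V x hxV).hom, inferInstance⟩
      let z : V := ⟨hV.fromSpec Q, fromSpec_mem hV Q⟩
      have hz : (hV.primeIdealOf z).asIdeal = P.comap (X.presheaf.germ V x hxV).hom := by
        rw [primeIdealOf_fromSpec hV Q]
      have hzU : z.1 ∈ U := mem_of_ass U D ⟨V, hV⟩ x hxV P hP z hz
      exact height_eq_one_of_ass _ P hP
        (exists_principal_localization U D hD ⟨V, hV⟩ x hxV P z hz hzU)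
    obtain ⟨g, hg0, hg⟩ := principal_of_ass_height_one _ key
    have hgnzd : g ∈ nonZeroDivisors (X.presheaf.stalk x) := mem_nonZeroDivisors_of_ne_zero hg0
    obtain ⟨O, hxO, c, hc, hO⟩ := isEffCartier_near (D.map U.ι) x ⟨V, hV⟩ hxV g hgnzd hg
    exact ⟨O, hxO, c, hc, hO⟩

end Groth.Agent.Lead.ExtCart
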