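import Mathlib
import Groth.Agent.Lib.Helper6.ExtBaseChange

/-!
# Exterior powers and base change: the comparison isomorphism and its compatibility (lead)
-/

set_option backward.isDefEq.respectTransparency.types false
set_option synthInstance.maxHeartbeats 400000
set_option autoImplicit false
set_option linter.unusedSectionVars false
set_option linter.style.haveILetI false

universe u
open TensorProduct exteriorPower
open Groth.Agent.Lib.Helper6.ExtBaseChange Groth.Agent.Lib.Helper6.DeRhamGen

namespace Groth.Agent.Lead.ExtPowBC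

section One
variable {A B : Type u} [CommRing A] [CommRing B] [Algebra A B]
  {M : Type u} [AddCommGroup M] [Module A M]
  {N : Type u} [AddCommGroup N] [Module B N] [Module A N] [IsScalarTower A B N]
  {P : Type u} [AddCommGroup P] [Module B P] [Module A P] [IsScalarTower A B P]

theorem liftBaseChange_bijective (t : M →ₗ[A] N) (h : IsBaseChange B t) :
    Function.Bijective (t.liftBaseChange B) := by
  have : ⇑(t.liftBaseChange B) = ⇑h.equiv := by
    funext z
    induction z using TensorProduct.induction_on with
    | zero => simp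
    | tmul b m => rw [LinearMap.liftBaseChange_tmul, IsBaseChange.equiv_tmul]
    | add x y hx hy => rw [map_add, map_add, hx, hy]
  rw [this]
  exact h.equiv.bijective

theorem span_range_eq_top (t : M →ₗ[A] N) (h : IsBaseChange B t) :
    Submodule.span B (Set.range t) = ⊤ := by
  rw [eq_top_iff]
  intro y _
  obtain ⟨z, rfl⟩ := (liftBaseChange_bijective t h).2 y
  induction z using TensorProduct.induction_on with
  | zero => simp
  | add x y hx hy =>
    rw [map_add]
    exact add_mem (hx trivial) (hy trivial)
  | tmul b m =>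
    rw [LinearMap.liftBaseChange_tmul]
    exact Submodule.smul_mem _ _ (Submodule.subset_span ⟨m, rfl⟩)

/-- the identification `P ≃ ⋀^n N` for base changes `N` of `M` and `P` of `⋀^n M` -/
noncomputable def phi (n : ℕ) (tN : M →ₗ[A] N) (tP : ↥(⋀[A]^n M) →ₗ[A] P)
    (hN : IsBaseChange B tN) (hP : IsBaseChange B tP) : P ≃ₗ[B] ↥(⋀[B]^n N) :=
  hP.equiv.symm ≪≫ₗ LinearEquiv.ofBijective (Fp (B := B) tN n)
    (Fp_bijective tN (liftBaseChange_bijective tN hN) n)

theorem phi_symm_gen (n : ℕ) (tN : M →ₗ[A] N) (tP : ↥(⋀[A]^n M) →ₗ[A] P)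
    (hN : IsBaseChange B tN) (hP : IsBaseChange B tP) (m : Fin n → M) :
    (phi n tN tP hN hP).symm (ιMulti B n (fun i => tN (m i))) = tP (ιMulti A n m) := by
  rw [LinearEquiv.symm_apply_eq]
  unfold phi
  rw [LinearEquiv.trans_apply]
  have h1 : hP.equiv.symm (tP (ιMulti A n m)) = (1 : B) ⊗ₜ[A] ιMulti A n m := by
    rw [LinearEquiv.symm_apply_eq, IsBaseChange.equiv_tmul, one_smul]
  rw [h1, LinearEquiv.ofBijective_apply, Fp_tmul, one_smul, extMap_ιMulti]

end One

section Two
variable {A B B' : Type u} [CommRing A] [CommRing B] [CommRing B'] [Algebra A B] [Algebra A B']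
  [Algebra B B'] [IsScalarTower A B B']
  {M : Type u} [AddCommGroup M] [Module A M]
  {N : Type u} [AddCommGroup N] [Module B N] [Module A N] [IsScalarTower A B N]
  {P : Type u} [AddCommGroup P] [Module B P] [Module A P] [IsScalarTower A B P]
  {N' : Type u} [AddCommGroup N'] [Module B' N'] [Module B N'] [Module A N']
  [IsScalarTower A B' N'] [IsScalarTower B B' N']
  {P' : Type u} [AddCommGroup P'] [Module B' P'] [Module B P'] [Module A P']
  [IsScalarTower A B' P'] [IsScalarTower B B' P']

theorem compat (n : ℕ) (tN : M →ₗ[A] N) (tP : ↥(⋀[A]^n M) →ₗ[A] P)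
    (hN : IsBaseChange B tN) (hP : IsBaseChange B tP)
    (tN' : M →ₗ[A] N') (tP' : ↥(⋀[A]^n M) →ₗ[A] P')
    (hN' : IsBaseChange B' tN') (hP' : IsBaseChange B' tP')
    (rN : N →ₗ[B] N') (rP : P →ₗ[B] P') (hrN : ∀ m, rN (tN m) = tN' m)
    (hrP : ∀ x, rP (tP x) = tP' x) (e : Fin n → N) :
    rP ((phi n tN tP hN hP).symm (ιMulti B n e)) =
      (phi n tN' tP' hN' hP').symm (ιMulti B' n (fun i => rN (e i))) := by
  have key : ∀ x : ↥(⋀[B]^n N), rP ((phi n tN tP hN hP).symm x) =
      (phi n tN' tP' hN' hP').symm (extMap (B := B') rN n x) := by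
    intro x
    have hx : x ∈ Submodule.span B (ιMulti B n '' {a : Fin n → N | Set.range a ⊆ Set.range tN}) := by
      rw [ιMulti_span_of_span B n N (span_range_eq_top tN hN)]
      trivial
    induction hx using Submodule.span_induction with
    | mem x hx =>
      obtain ⟨a, ha, rfl⟩ := hx
      have : ∀ i, ∃ m, tN m = a i := fun i => ha ⟨i, rfl⟩
      choose m hm using this
      obtain rfl : a = fun i => tN (m i) := funext fun i => (hm i).symm
      rw [phi_symm_gen, hrP, extMap_ιMulti]
      simp only [hrN]
      rw [phi_symm_gen]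
    | zero => simp
    | add x y _ _ hx hy => simp only [map_add, hx, hy]
    | smul b x _ hx =>
      rw [map_smul, map_smul, hx, map_smul]
      rw [← algebraMap_smul B' b (extMap (B := B') rN n x), map_smul, algebraMap_smul]
  rw [key, extMap_ιMulti]

end Two

end Groth.Agent.Lead.ExtPowBC
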