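import Mathlib
import Groth.Agent.Lib.Helper1.SymAlg
import Groth.Agent.Lib.Lead.TilT3

/-!
# Sections of `M~` over an affine open of `Spec R` are the base change of `M` (lead)
-/

set_option backward.isDefEq.respectTransparency.types false
set_option synthInstance.maxHeartbeats 400000
set_option autoImplicit false
set_option linter.unusedSectionVars false
set_option linter.style.haveILetI false

universe u
open CategoryTheory CategoryTheory.Limits AlgebraicGeometry TopologicalSpace Opposite TensorProduct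

namespace Groth.Agent.Lead.TildeBC

open Groth.Agent.Lead.TilT Groth.Agent.Helper1.QcCech Groth.Agent.Helper1
open Scheme.Modules

section Alg

theorem ideal_eq_top {B : Type*} [CommRing B] (I : Ideal B) (s : Set B) (hs : Ideal.span s = ⊤)
    (h : ∀ g ∈ s, ∃ k : ℕ, g ^ k ∈ I) : I = ⊤ := by
  by_contra hI
  obtain ⟨𝔪, hm, hIm⟩ := Ideal.exists_le_maximal I hI
  have h1 : Ideal.span s ≤ 𝔪 := Ideal.span_le.2 (fun g hg => by
    obtain ⟨k, hk⟩ := h g hg
    exact hm.isPrime.mem_of_pow_mem k (hIm hk))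
  rw [hs] at h1
  exact hm.ne_top (top_le_iff.1 h1)

end Alg

variable {R : CommRingCat.{u}} (M : ModuleCat.{u} R) {U : (Spec R).Opens}

theorem basicOpen_algebraMap (f : R) (hf : PrimeSpectrum.basicOpen f ≤ U) :
    (Spec R).basicOpen (algebraMap R Γ(Spec R, U) f) = PrimeSpectrum.basicOpen f := by
  have h1 : algebraMap R Γ(Spec R, U) f =
      (Spec R).presheaf.map (homOfLE (le_top : U ≤ ⊤)).op ((Scheme.ΓSpecIso R).inv f) := rfl
  rw [h1, Scheme.basicOpen_res, basicOpen_eq_of_affine]
  exact inf_eq_right.2 hf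

/-- the set of restrictions of the `f` with `D(f) ≤ U` -/
def gens (U : (Spec R).Opens) : Set Γ(Spec R, U) :=
  {g | ∃ f : R, PrimeSpectrum.basicOpen f ≤ U ∧ algebraMap R Γ(Spec R, U) f = g}

theorem span_gens (hU : IsAffineOpen U) : Ideal.span (gens U) = ⊤ := by
  rw [← hU.self_le_iSup_basicOpen_iff]
  intro x hx
  obtain ⟨f, hxf, hfU⟩ := exists_basicOpen hx
  refine Opens.mem_iSup.2 ⟨⟨algebraMap R Γ(Spec R, U) f, f, hfU, rfl⟩, ?_⟩
  change x ∈ (Spec R).basicOpen (algebraMap R Γ(Spec R, U) f)
  rw [basicOpen_algebraMap f hfU]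
  exact hxf

/-- the comparison map -/
noncomputable def theta (U : (Spec R).Opens) :
    (Γ(Spec R, U) ⊗[R] M) →ₗ[Γ(Spec R, U)] Γ(tilde M, U) :=
  (toOpenₗ M U).liftBaseChange Γ(Spec R, U)

theorem theta_tmul (b : Γ(Spec R, U)) (m : M) : theta M U (b ⊗ₜ m) = b • toOpenₗ M U m :=
  LinearMap.liftBaseChange_tmul _ _ _ _

theorem smul_eq_algebraMap_smul (F : (Spec R).Modules) (r : R) (t : Γ(F, U)) :
    r • t = algebraMap R Γ(Spec R, U) r • t := (algebraMap_smul _ r t).symm

theorem surj_step (hU : IsAffineOpen U) (y : Γ(tilde M, U)) (f : R)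
    (hf : PrimeSpectrum.basicOpen f ≤ U) :
    ∃ k : ℕ, (algebraMap R Γ(Spec R, U) f) ^ k • y ∈ LinearMap.range (theta M U) := by
  obtain ⟨⟨m, ⟨_, k, rfl⟩⟩, hm⟩ := IsLocalizedModule.surj (Submonoid.powers f)
    (toOpenₗ M (PrimeSpectrum.basicOpen f)) (res (tilde M) hf y)
  have hm' : f ^ k • res (tilde M) hf y = toOpenₗ M (PrimeSpectrum.basicOpen f) m := hm
  have h1 : res (tilde M) hf (f ^ k • y - toOpenₗ M U m) = 0 := by
    rw [map_sub, res_smul_R, hm', res_toOpenₗ, sub_self]
  have hO : PrimeSpectrum.basicOpen f = (Spec R).basicOpen (algebraMap R Γ(Spec R, U) f) :=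
    (basicOpen_algebraMap f hf).symm
  obtain ⟨j, hj⟩ := QcAbel.killP_of_isQuasicoherent (tilde M) U hU (algebraMap R Γ(Spec R, U) f)
    (PrimeSpectrum.basicOpen f) hO (f ^ k • y - toOpenₗ M U m) h1
  refine ⟨j + k, ⟨((algebraMap R Γ(Spec R, U) f) ^ j) ⊗ₜ m, ?_⟩⟩
  rw [theta_tmul]
  rw [smul_sub, sub_eq_zero] at hj
  rw [← hj, pow_add, mul_smul, smul_eq_algebraMap_smul, map_pow]

theorem surjective_theta (hU : IsAffineOpen U) : Function.Surjective (theta M U) := by
  intro y
  let I : Ideal Γ(Spec R, U) :=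
    { carrier := {b | b • y ∈ LinearMap.range (theta M U)}
      add_mem' := fun {a b} ha hb => by
        change (a + b) • y ∈ LinearMap.range (theta M U)
        rw [add_smul]
        exact add_mem ha hb
      zero_mem' := by
        change (0 : Γ(Spec R, U)) • y ∈ LinearMap.range (theta M U)
        rw [zero_smul]
        exact zero_mem _
      smul_mem' := fun c b hb => by
        change (c • b) • y ∈ LinearMap.range (theta M U)
        rw [smul_eq_mul, mul_smul]
        exact Submodule.smul_mem _ c hb }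
  have hI : I = ⊤ := ideal_eq_top I (gens U) (span_gens hU) (by
    rintro _ ⟨f, hf, rfl⟩
    exact surj_step M hU y f hf)
  have h1 : (1 : Γ(Spec R, U)) ∈ I := by rw [hI]; trivial
  have h2 : (1 : Γ(Spec R, U)) • y ∈ LinearMap.range (theta M U) := h1
  rw [one_smul] at h2
  exact h2

theorem inj_step (hU : IsAffineOpen U) (p : Γ(Spec R, U) ⊗[R] M) (hp : theta M U p = 0) (f : R)
    (hf : PrimeSpectrum.basicOpen f ≤ U) :
    ∃ k : ℕ, (algebraMap R Γ(Spec R, U) f) ^ k • p = 0 := by
  set g := algebraMap R Γ(Spec R, U) f with hg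
  letI alg : Algebra Γ(Spec R, U) Γ(Spec R, PrimeSpectrum.basicOpen f) :=
    ((Spec R).presheaf.map (homOfLE hf).op).hom.toAlgebra
  haveI loc : IsLocalization.Away g Γ(Spec R, PrimeSpectrum.basicOpen f) :=
    hU.isLocalization_of_eq_basicOpen g (homOfLE hf) (basicOpen_algebraMap f hf).symm
  haveI tower : IsScalarTower R Γ(Spec R, U) Γ(Spec R, PrimeSpectrum.basicOpen f) :=
    IsScalarTower.of_algebraMap_eq (fun r =>
      (resR_resR (X := Spec R) (le_top : U ≤ ⊤) hf ((Scheme.ΓSpecIso R).inv r)).symm)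
  haveI l1 : IsLocalizedModule (Submonoid.powers g)
      (Algebra.linearMap Γ(Spec R, U) Γ(Spec R, PrimeSpectrum.basicOpen f)) := inferInstance
  let ρ := AlgebraTensorModule.rTensor R M
    (Algebra.linearMap Γ(Spec R, U) Γ(Spec R, PrimeSpectrum.basicOpen f))
  haveI l2 : IsLocalizedModule (Submonoid.powers g) ρ := inferInstance
  have hbc : IsBaseChange Γ(Spec R, PrimeSpectrum.basicOpen f)
      (toOpenₗ M (PrimeSpectrum.basicOpen f)) :=
    (isLocalizedModule_iff_isBaseChange (Submonoid.powers f)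
      Γ(Spec R, PrimeSpectrum.basicOpen f) _).1 inferInstance
  have comm : ∀ q, hbc.equiv (ρ q) = res (tilde M) hf (theta M U q) := by
    intro q
    induction q using TensorProduct.induction_on with
    | zero => simp
    | tmul b m =>
      rw [theta_tmul, res_smul, res_toOpenₗ]
      change hbc.equiv ((algebraMap Γ(Spec R, U) Γ(Spec R, PrimeSpectrum.basicOpen f) b) ⊗ₜ m) = _
      rw [IsBaseChange.equiv_tmul]
      rfl
    | add x y hx hy => rw [map_add, map_add, map_add, map_add, hx, hy]
  have h0 : ρ p = 0 := hbc.equiv.injective (by rw [comm, hp, map_zero, map_zero])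
  obtain ⟨⟨_, k, rfl⟩, hk⟩ := (IsLocalizedModule.eq_zero_iff (Submonoid.powers g) ρ).1 h0
  exact ⟨k, hk⟩

theorem injective_theta (hU : IsAffineOpen U) : Function.Injective (theta M U) := by
  rw [injective_iff_map_eq_zero]
  intro p hp
  let I : Ideal Γ(Spec R, U) :=
    { carrier := {b | b • p = 0}
      add_mem' := fun {a b} ha hb => by
        change (a + b) • p = 0
        rw [add_smul, (ha : a • p = 0), (hb : b • p = 0), add_zero]
      zero_mem' := by
        change (0 : Γ(Spec R, U)) • p = 0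
        rw [zero_smul]
      smul_mem' := fun c b hb => by
        change (c • b) • p = 0
        rw [smul_eq_mul, mul_smul, (hb : b • p = 0), smul_zero] }
  have hI : I = ⊤ := ideal_eq_top I (gens U) (span_gens hU) (by
    rintro _ ⟨f, hf, rfl⟩
    exact inj_step M hU p hp f hf)
  have h1 : (1 : Γ(Spec R, U)) ∈ I := by rw [hI]; trivial
  have h2 : (1 : Γ(Spec R, U)) • p = 0 := h1
  rw [one_smul] at h2
  exact h2

/-- sections of `M~` over an affine open are the base change of `M` -/
theorem isBaseChange_toOpenₗ (hU : IsAffineOpen U) :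
    IsBaseChange Γ(Spec R, U) (toOpenₗ M U) := by
  refine IsBaseChange.of_equiv
    (LinearEquiv.ofBijective (theta M U) ⟨injective_theta M hU, surjective_theta M hU⟩) ?_
  intro m
  rw [LinearEquiv.ofBijective_apply, theta_tmul, one_smul]

end Groth.Agent.Lead.TildeBC
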