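import Mathlib
import Groth.Prelude.Def_ExtPow2
import Groth.Agent.Lib.Lead.ExtPowBC1
import Groth.Agent.Lib.Lead.TildeBC1

/-!
# `(⋀^n M)~` is an `n`-th exterior power of `M~` (lead)
-/

set_option backward.isDefEq.respectTransparency.types false
set_option synthInstance.maxHeartbeats 400000
set_option autoImplicit false
set_option linter.unusedSectionVars false
set_option linter.style.haveILetI false

universe u
open CategoryTheory CategoryTheory.Limits AlgebraicGeometry TopologicalSpace Opposite TensorProduct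

namespace Groth.Agent.Lead.ExtPowTilde

open Groth.Agent.Lead.TilT Groth.Agent.Helper1.QcCech Groth.Agent.Helper1
open Groth.Agent.Lead.TildeBC Groth.Agent.Lead.ExtPowBC
open Scheme.Modules

variable {R : CommRingCat.{u}} (M : ModuleCat.{u} R) (n : ℕ)

/-- the module of exterior powers -/
noncomputable abbrev Lam : ModuleCat.{u} R := ModuleCat.of R ↥(⋀[R]^n M)

/-- the local identification -/
noncomputable def phiU (U : (Spec R).Opens) (hU : IsAffineOpen U) :
    Γ(tilde (Lam M n), U) ≃ₗ[Γ(Spec R, U)] ↥(⋀[Γ(Spec R, U)]^n Γ(tilde M, U)) :=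
  phi n (toOpenₗ M U) (toOpenₗ (Lam M n) U) (isBaseChange_toOpenₗ M hU)
    (isBaseChange_toOpenₗ (Lam M n) hU)

theorem phiU_compat {U V : (Spec R).Opens} (hU : IsAffineOpen U) (hV : IsAffineOpen V)
    (h : V ≤ U) (e : Fin n → Γ(tilde M, U)) :
    res (tilde (Lam M n)) h ((phiU M n U hU).symm (exteriorPower.ιMulti _ n e)) =
      (phiU M n V hV).symm (exteriorPower.ιMulti _ n (fun j => res (tilde M) h (e j))) := by
  letI alg : Algebra Γ(Spec R, U) Γ(Spec R, V) := (resR h).toAlgebra
  haveI tower : IsScalarTower R Γ(Spec R, U) Γ(Spec R, V) :=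
    IsScalarTower.of_algebraMap_eq (fun r =>
      (resR_resR (X := Spec R) (le_top : U ≤ ⊤) h ((Scheme.ΓSpecIso R).inv r)).symm)
  letI m1 : Module Γ(Spec R, U) Γ(tilde M, V) := Module.compHom _ (resR h)
  letI m2 : Module Γ(Spec R, U) Γ(tilde (Lam M n), V) := Module.compHom _ (resR h)
  haveI t1 : IsScalarTower Γ(Spec R, U) Γ(Spec R, V) Γ(tilde M, V) :=
    IsScalarTower.of_algebraMap_smul (fun _ _ => rfl)
  haveI t2 : IsScalarTower Γ(Spec R, U) Γ(Spec R, V) Γ(tilde (Lam M n), V) :=
    IsScalarTower.of_algebraMap_smul (fun _ _ => rfl)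
  let rN : Γ(tilde M, U) →ₗ[Γ(Spec R, U)] Γ(tilde M, V) :=
    { toFun := res (tilde M) h
      map_add' := map_add _
      map_smul' := fun r m => res_smul (tilde M) h r m }
  let rP : Γ(tilde (Lam M n), U) →ₗ[Γ(Spec R, U)] Γ(tilde (Lam M n), V) :=
    { toFun := res (tilde (Lam M n)) h
      map_add' := map_add _
      map_smul' := fun r m => res_smul (tilde (Lam M n)) h r m }
  exact compat n (toOpenₗ M U) (toOpenₗ (Lam M n) U) (isBaseChange_toOpenₗ M hU)
    (isBaseChange_toOpenₗ (Lam M n) hU) (toOpenₗ M V) (toOpenₗ (Lam M n) V)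
    (isBaseChange_toOpenₗ M hV) (isBaseChange_toOpenₗ (Lam M n) hV) rN rP
    (fun m => res_toOpenₗ M h m) (fun x => res_toOpenₗ (Lam M n) h x) e

/-- **`(⋀^n M)~` is an `n`-th exterior power of `M~`** -/
theorem isExtPow_tilde : ExtPow.IsExtPow n (tilde M) (tilde (Lam M n)) := by
  refine ⟨fun U => phiU M n U.1 U.2, ?_⟩
  intro U V h e
  exact phiU_compat M n U.2 V.2 h e

theorem isExtPow_tilde' (A : Type u) [CommRing A] (M : Type u) [AddCommGroup M] [Module A M]
    (n : ℕ) :
    ExtPow.IsExtPow n (tilde (R := CommRingCat.of A) (ModuleCat.of A M))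
      (tilde (R := CommRingCat.of A) (ModuleCat.of A ↥(⋀[A]^n M))) :=
  isExtPow_tilde (R := CommRingCat.of A) (ModuleCat.of A M) n

end Groth.Agent.Lead.ExtPowTilde
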