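import Mathlib
import Groth.Prelude.Def_ExtPow2
import Groth.Prelude.Def_CohB1
import Groth.Prelude.Def_FlatMod2
import Groth.Prelude.Def_Pic
import Groth.Agent.Lib.Helper1.AmpleLib2
import Groth.Agent.Lib.Helper1.Dv16
import Groth.Agent.Lib.Lead.OmU13a
import Groth.Agent.Lib.Lead.BasisIso

/-!
# Exterior powers of a twist by an invertible module (lead)
-/

set_option backward.isDefEq.respectTransparency.types false
set_option autoImplicit false
set_option synthInstance.maxHeartbeats 400000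
set_option linter.style.haveILetI false
set_option linter.unusedSectionVars false
universe u
open CategoryTheory CategoryTheory.Limits AlgebraicGeometry TopologicalSpace Opposite

namespace Groth.Agent.Lead.ExtTw

open Groth.Agent.Helper1 Groth.Agent.Helper1.QcCech Groth.Agent.Helper1.LGen
  Groth.Agent.Helper1.TmulLib Groth.Agent.Helper1.TensGen Groth.Agent.Helper1.TwistSec
  Groth.Agent.Helper1.TwForm Groth.Agent.Helper1.AmpleLib

section Alg

variable {R A B : Type*} [CommRing R] [AddCommGroup A] [Module R A] [AddCommGroup B] [Module R B]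

/-- the exterior power of a linear equivalence -/
noncomputable def extEquiv (k : ℕ) (f : A ≃ₗ[R] B) : (⋀[R]^k A) ≃ₗ[R] (⋀[R]^k B) :=
  LinearEquiv.ofLinear (exteriorPower.map k f.toLinearMap) (exteriorPower.map k f.symm.toLinearMap)
    (by rw [← exteriorPower.map_comp, LinearEquiv.comp_symm, exteriorPower.map_id])
    (by rw [← exteriorPower.map_comp, LinearEquiv.symm_comp, exteriorPower.map_id])

theorem extEquiv_ιMulti (k : ℕ) (f : A ≃ₗ[R] B) (a : Fin k → A) :
    extEquiv k f (exteriorPower.ιMulti R k a) = exteriorPower.ιMulti R k (fun i => f (a i)) :=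
  exteriorPower.map_apply_ιMulti _ _

theorem extEquiv_symm_ιMulti (k : ℕ) (f : A ≃ₗ[R] B) (a : Fin k → A) :
    (extEquiv k f).symm (exteriorPower.ιMulti R k (fun i => f (a i))) =
      exteriorPower.ιMulti R k a := by
  rw [LinearEquiv.symm_apply_eq, extEquiv_ιMulti]

end Alg

variable {X : Scheme.{u}}

section Tmk

variable {L : X.Modules}

/-- iterated tensor of sections -/
noncomputable def tmk {W : X.Opens} : (j : ℕ) → (Fin j → Γ(L, W)) → Γ(CohB1.tensorPow L j, W)
  | 0, _ => one' W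
  | j + 1, l => tm (CohB1.tensorPow L j) L W (tmk j (fun i => l i.castSucc)) (l (Fin.last j))

theorem tmk_succ {W : X.Opens} (j : ℕ) (l : Fin (j + 1) → Γ(L, W)) :
    tmk (j + 1) l =
      tm (CohB1.tensorPow L j) L W (tmk j (fun i => l i.castSucc)) (l (Fin.last j)) := rfl

theorem res_tmk {W V : X.Opens} (h : V ≤ W) (j : ℕ) (l : Fin j → Γ(L, W)) :
    res (CohB1.tensorPow L j) h (tmk j l) = tmk j (fun i => res L h (l i)) := by
  induction j with
  | zero => exact res_one' h
  | succ j ih =>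
    rw [tmk_succ, tmk_succ, ← ih]
    exact res_tm (CohB1.tensorPow L j) L h _ _

theorem tmk_smul {W : X.Opens} (a : Γ(L, W)) (j : ℕ) (c : Fin j → Γ(X, W)) :
    tmk j (fun i => c i • a) = (∏ i, c i) • gpow a j := by
  induction j with
  | zero =>
    rw [Finset.univ_eq_empty, Finset.prod_empty]
    exact (one_smul _ _).symm
  | succ j ih =>
    rw [tmk_succ, ih (fun i => c i.castSucc), gpow_succ, Fin.prod_univ_castSucc, mul_smul]
    rw [tm_smul_left, tm_smul_right, ← mul_smul, ← mul_smul, mul_comm]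
    rfl

end Tmk

section Main

variable (E L M N : X.Modules) (k : ℕ)

/-- `e ↦ e ⊗ l₀` -/
noncomputable def tauL (U : X.Opens) (l₀ : Γ(L, U)) :
    (E.val.obj (op U)) →ₗ[Γ(X, U)] ((CohB1.tensorMod E L).val.obj (op U)) where
  toFun e := tm E L U e l₀
  map_add' e e' := tm_add_left E L U e e' l₀
  map_smul' r e := tm_smul_left E L U r e l₀

/-- `e ↦ e ⊗ l₀` for a generator `l₀` -/
noncomputable def tau (U : X.Opens) (l₀ : Γ(L, U)) (h : IsGen L U l₀) :
    (E.val.obj (op U)) ≃ₗ[Γ(X, U)] ((CohB1.tensorMod E L).val.obj (op U)) :=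
  LinearEquiv.ofBijective (tauL E L U l₀) (bijective_tm_of_isGen E h)

theorem tau_apply (U : X.Opens) (l₀ : Γ(L, U)) (h : IsGen L U l₀) (e : E.val.obj (op U)) :
    tau E L U l₀ h e = tm E L U e l₀ := rfl

variable {E L M N k}
variable (φM : ∀ U : X.affineOpens, (M.val.obj (op U.1)) ≃ₗ[Γ(X, U.1)]
      ↥(⋀[Γ(X, U.1)]^k ((CohB1.tensorMod E L).val.obj (op U.1))))
  (φN : ∀ U : X.affineOpens, (N.val.obj (op U.1)) ≃ₗ[Γ(X, U.1)]
      ↥(⋀[Γ(X, U.1)]^k (E.val.obj (op U.1))))

/-- the local isomorphism attached to a generator of `L` -/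
noncomputable def psi (U : X.affineOpens) (l₀ : Γ(L, U.1)) (h : IsGen L U.1 l₀) :
    (M.val.obj (op U.1)) ≃ₗ[Γ(X, U.1)]
      ((CohB1.tensorMod N (CohB1.tensorPow L k)).val.obj (op U.1)) :=
  (φM U).trans ((extEquiv k (tau E L U.1 l₀ h)).symm.trans ((φN U).symm.trans
    (tau N (CohB1.tensorPow L k) U.1 (gpow l₀ k) (isGen_gpow h k))))

/-- decomposable sections of `M` -/
noncomputable def gM (U : X.affineOpens) (q : Fin k → Γ(CohB1.tensorMod E L, U.1)) : Γ(M, U.1) :=
  (φM U).symm (exteriorPower.ιMulti Γ(X, U.1) k q)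

/-- decomposable sections of `N` -/
noncomputable def gN (U : X.affineOpens) (e : Fin k → Γ(E, U.1)) : Γ(N, U.1) :=
  (φN U).symm (exteriorPower.ιMulti Γ(X, U.1) k e)

theorem psi_gen (U : X.affineOpens) (l₀ : Γ(L, U.1)) (h : IsGen L U.1 l₀)
    (e : Fin k → Γ(E, U.1)) (l : Fin k → Γ(L, U.1)) :
    psi φM φN U l₀ h (gM φM U (fun i => tm E L U.1 (e i) (l i))) =
      tm N (CohB1.tensorPow L k) U.1 (gN φN U e) (tmk k l) := by
  have hc : ∀ i, ∃ c : Γ(X, U.1), c • l₀ = l i := fun i => h.exists_coeff (l i)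
  choose c hc using hc
  have h0 : ∀ i, tm E L U.1 (e i) (l i) = tau E L U.1 l₀ h (c i • e i) := by
    intro i
    rw [tau_apply, ← hc i]
    exact (tm_smul_right E L U.1 (c i) (e i) l₀).trans (tm_smul_left E L U.1 (c i) (e i) l₀).symm
  have h1 : (fun i => tm E L U.1 (e i) (l i)) = fun i => tau E L U.1 l₀ h (c i • e i) :=
    funext h0
  have h2 : l = fun i => c i • l₀ := funext fun i => (hc i).symm
  have h3 : exteriorPower.ιMulti Γ(X, U.1) k (fun i => c i • e i) =
      (∏ i, c i) • exteriorPower.ιMulti Γ(X, U.1) k e :=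
    MultilinearMap.map_smul_univ _ c e
  have h4 : psi φM φN U l₀ h (gM φM U (fun i => tau E L U.1 l₀ h (c i • e i))) =
      tau N (CohB1.tensorPow L k) U.1 (gpow l₀ k) (isGen_gpow h k)
        ((φN U).symm (exteriorPower.ιMulti Γ(X, U.1) k (fun i => c i • e i))) := by
    unfold psi gM
    simp only [LinearEquiv.trans_apply, LinearEquiv.apply_symm_apply]
    rw [extEquiv_symm_ιMulti]
  have h5 : tau N (CohB1.tensorPow L k) U.1 (gpow l₀ k) (isGen_gpow h k)
        ((φN U).symm (exteriorPower.ιMulti Γ(X, U.1) k (fun i => c i • e i))) =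
      (∏ i, c i) • tau N (CohB1.tensorPow L k) U.1 (gpow l₀ k) (isGen_gpow h k)
        ((φN U).symm (exteriorPower.ιMulti Γ(X, U.1) k e)) := by
    refine (congrArg (fun z => (tau N (CohB1.tensorPow L k) U.1 (gpow l₀ k) (isGen_gpow h k))
      ((φN U).symm z)) h3).trans ?_
    exact (congrArg (tau N (CohB1.tensorPow L k) U.1 (gpow l₀ k) (isGen_gpow h k))
      ((φN U).symm.map_smul (∏ i, c i) (exteriorPower.ιMulti Γ(X, U.1) k e))).trans
      ((tau N (CohB1.tensorPow L k) U.1 (gpow l₀ k) (isGen_gpow h k)).map_smul _ _)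
  rw [h1, h4, h5, tau_apply, h2, tmk_smul]
  exact (tm_smul_right N (CohB1.tensorPow L k) U.1 _ _ _).symm

theorem span_gM (U : X.affineOpens) (l₀ : Γ(L, U.1)) (h : IsGen L U.1 l₀) :
    Submodule.span Γ(X, U.1) (Set.range (fun e : Fin k → Γ(E, U.1) =>
      (show M.val.obj (op U.1) from gM φM U (fun i => tm E L U.1 (e i) l₀)))) = ⊤ := by
  have h1 : Set.range (fun e : Fin k → Γ(E, U.1) =>
      (show M.val.obj (op U.1) from gM φM U (fun i => tm E L U.1 (e i) l₀))) =
      (φM U).symm.toLinearMap '' Set.range (exteriorPower.ιMulti Γ(X, U.1) k) := by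
    ext m
    constructor
    · rintro ⟨e, rfl⟩
      exact ⟨_, ⟨_, rfl⟩, rfl⟩
    · rintro ⟨_, ⟨q, rfl⟩, rfl⟩
      refine ⟨fun i => (tau E L U.1 l₀ h).symm (q i), ?_⟩
      have : (fun i => tm E L U.1 ((tau E L U.1 l₀ h).symm (q i)) l₀) = q := by
        funext i
        exact (tau E L U.1 l₀ h).apply_symm_apply (q i)
      change gM φM U (fun i => tm E L U.1 ((tau E L U.1 l₀ h).symm (q i)) l₀) = _
      rw [this]
      rfl
  rw [h1, Submodule.span_image, exteriorPower.ιMulti_span, Submodule.map_top,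
    LinearMap.range_eq_top]
  exact (φM U).symm.surjective

variable (hφM : ∀ (U V : X.affineOpens) (h : V.1 ≤ U.1)
      (e : Fin k → (CohB1.tensorMod E L).val.obj (op U.1)),
      M.val.map (homOfLE h).op ((φM U).symm (exteriorPower.ιMulti _ k e)) =
        (φM V).symm (exteriorPower.ιMulti _ k
          (fun j => (CohB1.tensorMod E L).val.map (homOfLE h).op (e j))))
  (hφN : ∀ (U V : X.affineOpens) (h : V.1 ≤ U.1) (e : Fin k → E.val.obj (op U.1)),
      N.val.map (homOfLE h).op ((φN U).symm (exteriorPower.ιMulti _ k e)) =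
        (φN V).symm (exteriorPower.ιMulti _ k (fun j => E.val.map (homOfLE h).op (e j))))

include hφM in
theorem res_gM (U V : X.affineOpens) (h : V.1 ≤ U.1) (q : Fin k → Γ(CohB1.tensorMod E L, U.1)) :
    res M h (gM φM U q) = gM φM V (fun j => res (CohB1.tensorMod E L) h (q j)) :=
  hφM U V h q

include hφN in
theorem res_gN (U V : X.affineOpens) (h : V.1 ≤ U.1) (e : Fin k → Γ(E, U.1)) :
    res N h (gN φN U e) = gN φN V (fun j => res E h (e j)) :=
  hφN U V h e

include hφM hφN in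
theorem psi_res (U V : X.affineOpens) (hVU : V.1 ≤ U.1) (l₀ : Γ(L, U.1)) (h₀ : IsGen L U.1 l₀)
    (l₁ : Γ(L, V.1)) (h₁ : IsGen L V.1 l₁) (m : Γ(M, U.1)) :
    psi φM φN V l₁ h₁ (res M hVU m) =
      res (CohB1.tensorMod N (CohB1.tensorPow L k)) hVU (psi φM φN U l₀ h₀ m) := by
  have key : ∀ m : M.val.obj (op U.1), m ∈ Submodule.span Γ(X, U.1)
      (Set.range (fun e : Fin k → Γ(E, U.1) =>
        (show M.val.obj (op U.1) from gM φM U (fun i => tm E L U.1 (e i) l₀)))) →
      psi φM φN V l₁ h₁ (res M hVU m) =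
        res (CohB1.tensorMod N (CohB1.tensorPow L k)) hVU (psi φM φN U l₀ h₀ m) := by
    intro m hm
    induction hm using Submodule.span_induction with
    | mem m hm =>
      obtain ⟨e, rfl⟩ := hm
      have e1 := psi_gen φM φN U l₀ h₀ e (fun _ => l₀)
      have e2 := psi_gen φM φN V l₁ h₁ (fun i => res E hVU (e i)) (fun _ => res L hVU l₀)
      have e3 : res M hVU (gM φM U (fun i => tm E L U.1 (e i) l₀)) =
          gM φM V (fun i => tm E L V.1 (res E hVU (e i)) (res L hVU l₀)) := by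
        rw [res_gM φM hφM]
        congr 1
        funext j
        exact res_tm E L hVU (e j) l₀
      change psi φM φN V l₁ h₁ (res M hVU (gM φM U (fun i => tm E L U.1 (e i) l₀))) =
        res (CohB1.tensorMod N (CohB1.tensorPow L k)) hVU
          (psi φM φN U l₀ h₀ (gM φM U (fun i => tm E L U.1 (e i) l₀)))
      rw [e3, e2, e1, res_tm, res_gN φN hφN, res_tmk]
    | zero =>
      exact (congrArg (psi φM φN V l₁ h₁) (map_zero (res M hVU))).trans
        (((psi φM φN V l₁ h₁).map_zero).trans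
          (((map_zero (res (CohB1.tensorMod N (CohB1.tensorPow L k)) hVU)).symm).trans
            (congrArg (res (CohB1.tensorMod N (CohB1.tensorPow L k)) hVU)
              ((psi φM φN U l₀ h₀).map_zero).symm)))
    | add a b _ _ iha ihb =>
      exact (congrArg (psi φM φN V l₁ h₁) (map_add (res M hVU) a b)).trans
        (((psi φM φN V l₁ h₁).map_add _ _).trans
          ((congrArg₂ (· + ·) iha ihb).trans
            (((map_add (res (CohB1.tensorMod N (CohB1.tensorPow L k)) hVU) _ _).symm).trans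
              (congrArg (res (CohB1.tensorMod N (CohB1.tensorPow L k)) hVU)
                ((psi φM φN U l₀ h₀).map_add a b).symm))))
    | smul r a _ iha =>
      exact (congrArg (psi φM φN V l₁ h₁) (res_smul M hVU r a)).trans
        (((psi φM φN V l₁ h₁).map_smul _ _).trans
          ((congrArg (fun z => resR hVU r • z) iha).trans
            (((res_smul (CohB1.tensorMod N (CohB1.tensorPow L k)) hVU r _).symm).trans
              (congrArg (res (CohB1.tensorMod N (CohB1.tensorPow L k)) hVU)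
                ((psi φM φN U l₀ h₀).map_smul r a).symm))))
  apply key
  rw [span_gM φM U l₀ h₀]
  trivial

end Main

section Glue

variable {E L M N : X.Modules} {k : ℕ}

/-- the index type: affine opens with a generator of `L` -/
def Idx (L : X.Modules) : Type u := Σ U : X.affineOpens, {l : Γ(L, U.1) // IsGen L U.1 l}

/-- the open of an index -/
def Idx.open (i : Idx L) : X.Opens := i.1.1

theorem isBasis_idx (hL : PicF.IsInvertible L) :
    Opens.IsBasis (Set.range (Idx.open : Idx L → X.Opens)) := by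
  rw [Opens.isBasis_iff_nbhd]
  intro O x hx
  obtain ⟨W, a, hxW, ha⟩ := exists_isGen hL x
  obtain ⟨_, ⟨V, hV, rfl⟩, hxV, hVO⟩ :=
    X.isBasis_affineOpens.exists_subset_of_mem_open (show x ∈ W ⊓ O from ⟨hxW, hx⟩) (W ⊓ O).2
  have hVW : V ≤ W := fun y hy => (hVO hy).1
  exact ⟨V, ⟨⟨⟨V, hV⟩, ⟨res L hVW a, ha.res hVW⟩⟩, rfl⟩, hxV, fun y hy => (hVO hy).2⟩

variable (φM : ∀ U : X.affineOpens, (M.val.obj (op U.1)) ≃ₗ[Γ(X, U.1)]
      ↥(⋀[Γ(X, U.1)]^k ((CohB1.tensorMod E L).val.obj (op U.1))))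
  (φN : ∀ U : X.affineOpens, (N.val.obj (op U.1)) ≃ₗ[Γ(X, U.1)]
      ↥(⋀[Γ(X, U.1)]^k (E.val.obj (op U.1))))
  (hφM : ∀ (U V : X.affineOpens) (h : V.1 ≤ U.1)
      (e : Fin k → (CohB1.tensorMod E L).val.obj (op U.1)),
      M.val.map (homOfLE h).op ((φM U).symm (exteriorPower.ιMulti _ k e)) =
        (φM V).symm (exteriorPower.ιMulti _ k
          (fun j => (CohB1.tensorMod E L).val.map (homOfLE h).op (e j))))
  (hφN : ∀ (U V : X.affineOpens) (h : V.1 ≤ U.1) (e : Fin k → E.val.obj (op U.1)),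
      N.val.map (homOfLE h).op ((φN U).symm (exteriorPower.ιMulti _ k e)) =
        (φN V).symm (exteriorPower.ιMulti _ k (fun j => E.val.map (homOfLE h).op (e j))))

/-- the local maps as additive maps -/
noncomputable def aMap (i : Idx L) :
    Γ(M, i.open) →+ Γ(CohB1.tensorMod N (CohB1.tensorPow L k), i.open) :=
  AddMonoidHom.mk' (fun m => psi φM φN i.1 i.2.1 i.2.2 m)
    (fun a b => (psi φM φN i.1 i.2.1 i.2.2).map_add a b)

include hφM hφN in
theorem aMap_nat (i j : Idx L) (h : j.open ≤ i.open) (m : Γ(M, i.open)) :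
    aMap φM φN j (M.presheaf.map (homOfLE h).op m) =
      (CohB1.tensorMod N (CohB1.tensorPow L k)).presheaf.map (homOfLE h).op (aMap φM φN i m) :=
  psi_res φM φN hφM hφN i.1 j.1 h i.2.1 i.2.2 j.2.1 j.2.2 m

theorem aMap_lin (i : Idx L) (r : Γ(X, i.open)) (m : Γ(M, i.open)) :
    aMap φM φN i (r • m) = r • aMap φM φN i m :=
  (psi φM φN i.1 i.2.1 i.2.2).map_smul r m

include hφM hφN in
/-- **the twist isomorphism** -/
theorem nonempty_iso (hL : PicF.IsInvertible L) :
    Nonempty (M ≅ CohB1.tensorMod N (CohB1.tensorPow L k)) := by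
  let ψ : M ⟶ CohB1.tensorMod N (CohB1.tensorPow L k) :=
    Groth.Agent.Lead.OmU.glueHom (Idx.open : Idx L → X.Opens) (isBasis_idx hL) (aMap φM φN)
      (aMap_nat φM φN hφM hφN) (aMap_lin φM φN)
  haveI : IsIso ψ := by
    apply Groth.Agent.Lead.BasisIso.isIso_of_bijective_basis ψ (isBasis_idx hL)
    rintro _ ⟨i, rfl⟩
    have : (fun t => ψ.app i.open t) = fun t => aMap φM φN i t := by
      funext t
      exact Groth.Agent.Lead.OmU.glueHom_basis _ _ _ _ _ i t
    show Function.Bijective (fun t => ψ.app i.open t)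
    rw [this]
    exact (psi φM φN i.1 i.2.1 i.2.2).bijective
  exact ⟨asIso ψ⟩

end Glue

theorem isInvertible_of_rank_one {K : X.Modules} (hK : FlatMod.IsFinLocFreeOfRank 1 K) :
    PicF.IsInvertible K := fun x => by
  obtain ⟨U, hxU, ⟨e⟩⟩ := hK x
  exact ⟨U, hxU, ⟨e ≪≫ Dv.coprodOneIso (Coh.structureModule (↑U : Scheme.{u}))⟩⟩

/-- **`Λ^k (E ⊗ L) ≅ Λ^k E ⊗ L^{⊗ k}` for an invertible module `L`** -/
theorem main (E L : X.Modules) (hL : FlatMod.IsFinLocFreeOfRank 1 L) (k : ℕ) (M N : X.Modules)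
    (hM : ExtPow.IsExtPow k (CohB1.tensorMod E L) M) (hN : ExtPow.IsExtPow k E N) :
    Nonempty (M ≅ CohB1.tensorMod N (CohB1.tensorPow L k)) := by
  obtain ⟨φM, hφM⟩ := hM
  obtain ⟨φN, hφN⟩ := hN
  exact nonempty_iso φM φN hφM hφN (isInvertible_of_rank_one hL)

end Groth.Agent.Lead.ExtTw
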