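import Mathlib
import Groth.Agent.Lib.Helper1.QcCech

/-!
# Sections over the whole scheme from a two-level cover (lead)
-/

set_option backward.isDefEq.respectTransparency.types false
set_option autoImplicit false
set_option linter.style.haveILetI false
universe u
open CategoryTheory CategoryTheory.Limits AlgebraicGeometry TopologicalSpace Opposite

namespace Groth.Agent.Lead.FBC0

open Groth.Agent.Helper1.QcCech

variable {Z : Scheme.{u}} (G : Z.Modules) {I K : Type u} (W : I → Z.Opens) (T : K → Z.Opens)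
  (π₁ π₂ : K → I) (hT₁ : ∀ k, T k ≤ W (π₁ k)) (hT₂ : ∀ k, T k ≤ W (π₂ k))
  (hcov : ∀ z : Z, ∃ i, z ∈ W i)
  (hcov2 : ∀ (i j : I) (z : Z), z ∈ W i → z ∈ W j → ∃ k, π₁ k = i ∧ π₂ k = j ∧ z ∈ T k)

include hcov in
theorem top_inj (s t : Γ(G, ⊤))
    (h : ∀ i, res G (le_top : W i ≤ ⊤) s = res G (le_top : W i ≤ ⊤) t) : s = t := by
  apply TopCat.Sheaf.eq_of_locally_eq' (⟨G.presheaf, G.isSheaf⟩ : TopCat.Sheaf Ab Z) W ⊤
    (fun i => homOfLE le_top)
  · intro z _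
    obtain ⟨i, hi⟩ := hcov z
    exact Opens.mem_iSup.2 ⟨i, hi⟩
  · intro i
    exact h i

include hcov hcov2 in
theorem top_glue (c : ∀ i, Γ(G, W i))
    (hc : ∀ k, res G (hT₁ k) (c (π₁ k)) = res G (hT₂ k) (c (π₂ k))) :
    ∃ s : Γ(G, ⊤), ∀ i, res G (le_top : W i ≤ ⊤) s = c i := by
  have hcomp : TopCat.Presheaf.IsCompatible G.presheaf W c := by
    intro i j
    change res G (inf_le_left : W i ⊓ W j ≤ W i) (c i) = res G (inf_le_right : W i ⊓ W j ≤ W j) (c j)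
    apply TopCat.Sheaf.eq_of_locally_eq' (⟨G.presheaf, G.isSheaf⟩ : TopCat.Sheaf Ab Z)
      (fun k : {k : K // π₁ k = i ∧ π₂ k = j} => T k.1) (W i ⊓ W j)
      (fun k => homOfLE (le_inf (by have := hT₁ k.1; rwa [k.2.1] at this) (by have := hT₂ k.1; rwa [k.2.2] at this)))
    · intro z hz
      obtain ⟨k, hk1, hk2, hzk⟩ := hcov2 i j z hz.1 hz.2
      exact Opens.mem_iSup.2 ⟨⟨k, hk1, hk2⟩, hzk⟩
    · rintro ⟨k, rfl, rfl⟩
      change res G _ (res G _ (c (π₁ k))) = res G _ (res G _ (c (π₂ k)))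
      rw [res_res, res_res]
      exact hc k
  obtain ⟨s, hs, -⟩ := TopCat.Sheaf.existsUnique_gluing'
    (⟨G.presheaf, G.isSheaf⟩ : TopCat.Sheaf Ab Z) W ⊤ (fun i => homOfLE le_top)
    (fun z _ => by
      obtain ⟨i, hi⟩ := hcov z
      exact Opens.mem_iSup.2 ⟨i, hi⟩) c hcomp
  exact ⟨s, hs⟩

end Groth.Agent.Lead.FBC0
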