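import Mathlib

set_option backward.isDefEq.respectTransparency.types false
set_option synthInstance.maxHeartbeats 400000
set_option linter.style.haveILetI false
set_option linter.unusedSectionVars false

open Polynomial TensorProduct

universe u

namespace Groth.Agent.Lead.Krasner4

section

variable (K : Type u) (K' : Type u) [Field K] [Field K'] [Algebra K K']

/-- `K` is separably closed in `K'`. -/
def SepClosedIn : Prop :=
  ∀ (x : K') (p : K[X]), p.Separable → aeval x p = 0 → ∃ k : K, algebraMap K K' k = x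

variable {K K'}

theorem factor_lifts (H : SepClosedIn K K') (f : K[X]) (hf : f.Separable) (g : K'[X])
    (hg : g.Monic) (hdvd : g ∣ f.map (algebraMap K K')) :
    g ∈ Polynomial.lifts (algebraMap K K') := by
  rw [Polynomial.lifts_iff_coeff_lifts]
  intro n
  let Ω := AlgebraicClosure K'
  let E : IntermediateField K Ω := IntermediateField.adjoin K (f.rootSet Ω)
  haveI : Algebra.IsSeparable K E := by
    rw [IntermediateField.isSeparable_adjoin_iff_isSeparable]
    intro x hx
    have hx0 : aeval x f = 0 := (Polynomial.mem_rootSet.1 hx).2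
    exact hf.of_dvd (minpoly.dvd K x hx0)
  obtain ⟨gΩ, hgΩ⟩ : ∃ gΩ, gΩ = g.map (algebraMap K' Ω) := ⟨_, rfl⟩
  have hgΩm : gΩ.Monic := by rw [hgΩ]; exact hg.map _
  have hsplit : gΩ.Splits := IsAlgClosed.splits gΩ
  have hroots : ∀ a ∈ gΩ.roots, a ∈ (algebraMap E Ω).range := by
    intro a ha
    have ha0 : gΩ.eval a = 0 := (Polynomial.mem_roots hgΩm.ne_zero).1 ha
    have hmem : a ∈ f.rootSet Ω := by
      rw [Polynomial.mem_rootSet]
      refine ⟨hf.ne_zero, ?_⟩
      obtain ⟨q, hq⟩ := hdvd
      rw [aeval_def, eval₂_eq_eval_map, IsScalarTower.algebraMap_eq K K' Ω, ← Polynomial.map_map,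
        hq, Polynomial.map_mul, eval_mul, ← hgΩ, ha0, zero_mul]
    exact ⟨⟨a, IntermediateField.subset_adjoin K _ hmem⟩, rfl⟩
  have hlift := hsplit.mem_lift_of_roots_mem_range hgΩm (algebraMap E Ω) hroots
  rw [Polynomial.lifts_iff_coeff_lifts] at hlift
  obtain ⟨c, hc⟩ := hlift n
  have hsepc : IsSeparable K c := Algebra.IsSeparable.isSeparable K c
  have hsep' : IsSeparable K (g.coeff n) := by
    unfold IsSeparable
    rw [← minpoly.algebraMap_eq (algebraMap K' Ω).injective (g.coeff n)]
    have h1 : algebraMap K' Ω (g.coeff n) = algebraMap E Ω c := by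
      rw [hc, hgΩ, Polynomial.coeff_map]
    rw [h1, minpoly.algebraMap_eq (algebraMap E Ω).injective c]
    exact hsepc
  exact H (g.coeff n) (minpoly K (g.coeff n)) hsep' (minpoly.aeval K _)

theorem irreducible_map (H : SepClosedIn K K') (f : K[X]) (hfm : f.Monic) (hfi : Irreducible f)
    (hfs : f.Separable) : Irreducible (f.map (algebraMap K K')) := by
  have hf1 : f ≠ 1 := hfi.ne_one
  have hm' : (f.map (algebraMap K K')).Monic := hfm.map _
  have h1' : f.map (algebraMap K K') ≠ 1 := by
    intro h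
    apply hf1
    apply Polynomial.map_injective _ (algebraMap K K').injective
    rw [h, Polynomial.map_one]
  rw [Polynomial.Monic.irreducible_iff_lt_natDegree_lt hm' h1']
  intro q hq hdeg hqdvd
  obtain ⟨q₀, hq₀⟩ := (Polynomial.mem_lifts _).1 (factor_lifts H f hfs q hq hqdvd)
  have hq₀m : q₀.Monic :=
    Polynomial.monic_of_injective (algebraMap K K').injective (by rw [hq₀]; exact hq)
  have hq₀dvd : q₀ ∣ f := by
    rw [← Polynomial.map_dvd_map' (algebraMap K K'), hq₀]; exact hqdvd
  have hdeg₀ : q₀.natDegree ∈ Finset.Ioc 0 (f.natDegree / 2) := by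
    rw [← hq₀, hq₀m.natDegree_map, hfm.natDegree_map] at hdeg
    exact hdeg
  exact (Polynomial.Monic.irreducible_iff_lt_natDegree_lt hfm hf1).1 hfi q₀ hq₀m hdeg₀ hq₀dvd

open IntermediateField in
/-- If `K` is separably closed in `K'`, then `K' ⊗[K] L` is a field for `L/K` finite separable. -/
theorem isField_tensor (H : SepClosedIn K K') (L : Type u) [Field L] [Algebra K L]
    [FiniteDimensional K L] [Algebra.IsSeparable K L] : IsField (K' ⊗[K] L) := by
  obtain ⟨α, hα⟩ := Field.exists_primitive_element K L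
  have hint : IsIntegral K α := Algebra.IsIntegral.isIntegral α
  obtain ⟨f, hf⟩ : ∃ f, f = minpoly K α := ⟨_, rfl⟩
  have hfm : f.Monic := by rw [hf]; exact minpoly.monic hint
  have hfi : Irreducible f := by rw [hf]; exact minpoly.irreducible hint
  have hfs : f.Separable := by rw [hf]; exact Algebra.IsSeparable.isSeparable K α
  have hirr := irreducible_map H f hfm hfi hfs
  obtain ⟨αh, hαh⟩ : ∃ αh : K' ⊗[K] L, αh = 1 ⊗ₜ α := ⟨_, rfl⟩
  obtain ⟨φ, hφ⟩ : ∃ φ : K'[X] →ₐ[K'] K' ⊗[K] L, φ = aeval αh := ⟨_, rfl⟩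
  have hincl : ∀ q : K[X], aeval αh (q.map (algebraMap K K')) = (1 : K') ⊗ₜ[K] (aeval α q) := by
    intro q
    rw [Polynomial.aeval_map_algebraMap, hαh]
    have := Polynomial.aeval_algHom_apply
      (Algebra.TensorProduct.includeRight : L →ₐ[K] K' ⊗[K] L) α q
    simpa using this
  have hadj : Algebra.adjoin K {α} = ⊤ := by
    rw [← IntermediateField.adjoin_simple_toSubalgebra_of_isAlgebraic hint.isAlgebraic, hα,
      IntermediateField.top_toSubalgebra]
  have hsurj : Function.Surjective φ := by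
    intro t
    induction t using TensorProduct.induction_on with
    | zero => exact ⟨0, map_zero _⟩
    | tmul c l =>
      have hl : l ∈ Algebra.adjoin K {α} := by rw [hadj]; trivial
      rw [Algebra.adjoin_singleton_eq_range_aeval] at hl
      obtain ⟨q, hq⟩ := hl
      refine ⟨Polynomial.C c * q.map (algebraMap K K'), ?_⟩
      rw [hφ, map_mul, Polynomial.aeval_C, hincl q]
      have hq' : aeval α q = l := hq
      rw [hq', Algebra.TensorProduct.algebraMap_apply, Algebra.TensorProduct.tmul_mul_tmul,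
        mul_one, one_mul]
      rfl
    | add x y hx hy =>
      obtain ⟨a, ha⟩ := hx
      obtain ⟨b, hb⟩ := hy
      exact ⟨a + b, by rw [map_add, ha, hb]⟩
  have hker : Ideal.span {f.map (algebraMap K K')} ≤ RingHom.ker φ.toRingHom := by
    rw [Ideal.span_singleton_le_iff_mem, RingHom.mem_ker]
    change φ (f.map (algebraMap K K')) = 0
    rw [hφ, hincl f, hf, minpoly.aeval, TensorProduct.tmul_zero]
  have hmax : (Ideal.span {f.map (algebraMap K K')}).IsMaximal :=
    PrincipalIdealRing.isMaximal_of_irreducible hirr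
  haveI : Nontrivial (K' ⊗[K] L) :=
    (Algebra.TensorProduct.includeLeft_injective (R := K) (S := K) (A := K') (B := L)
      (algebraMap K L).injective).nontrivial
  have hne : RingHom.ker φ.toRingHom ≠ ⊤ := RingHom.ker_ne_top _
  have hkereq : RingHom.ker φ.toRingHom = Ideal.span {f.map (algebraMap K K')} :=
    (hmax.eq_of_le hne hker).symm
  have hfield : IsField (K'[X] ⧸ RingHom.ker φ.toRingHom) := by
    rw [hkereq]
    exact (Ideal.Quotient.maximal_ideal_iff_isField_quotient _).1 hmax
  exact MulEquiv.isField hfield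
    (RingHom.quotientKerEquivOfSurjective (f := φ.toRingHom) hsurj).symm.toMulEquiv

/-- Idempotents of `K' ⊗[K] B` come from `B` for a finite étale `K`-algebra `B`. -/
theorem idem_lifts (H : SepClosedIn K K') (B : Type u) [CommRing B] [Algebra K B]
    [Algebra.Etale K B] (ε : K' ⊗[K] B) (hε : IsIdempotentElem ε) :
    ∃ b : B, IsIdempotentElem b ∧ (1 : K') ⊗ₜ[K] b = ε := by
  classical
  obtain ⟨I, hI, Ai, hAf, hAa, e, hsep⟩ :=
    (Algebra.Etale.iff_exists_algEquiv_prod K B).1 inferInstance
  haveI := hI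
  letI := hAf
  letI := hAa
  letI : Fintype I := Fintype.ofFinite I
  have hfld : ∀ i, IsField (K' ⊗[K] Ai i) := by
    intro i
    haveI : FiniteDimensional K (Ai i) := (hsep i).1
    haveI : Algebra.IsSeparable K (Ai i) := (hsep i).2
    exact isField_tensor H (Ai i)
  let Ψ : K' ⊗[K] B ≃ₐ[K'] Π i, K' ⊗[K] Ai i :=
    (Algebra.TensorProduct.congr (AlgEquiv.refl : K' ≃ₐ[K'] K') e).trans
      (Algebra.TensorProduct.piRight K K' K' Ai)
  have hΨ : ∀ b : B, Ψ ((1 : K') ⊗ₜ[K] b) = fun i => (1 : K') ⊗ₜ[K] (e b i) := by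
    intro b
    rfl
  have h01 : ∀ i, Ψ ε i = 0 ∨ Ψ ε i = 1 := by
    intro i
    haveI : IsDomain (K' ⊗[K] Ai i) := (hfld i).isDomain
    have hid : IsIdempotentElem (Ψ ε i) := by
      have h1 : IsIdempotentElem (Ψ ε) := hε.map Ψ
      have h2 := congrFun h1.eq i
      exact h2
    exact IsIdempotentElem.iff_eq_zero_or_one.1 hid
  let e₀ : Π i, Ai i := fun i => if Ψ ε i = 1 then 1 else 0
  have he₀ : IsIdempotentElem e₀ := by
    funext i
    change e₀ i * e₀ i = e₀ i
    by_cases h : Ψ ε i = 1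
    · simp [e₀, h]
    · simp [e₀, h]
  refine ⟨e.symm e₀, he₀.map e.symm, ?_⟩
  apply Ψ.injective
  rw [hΨ]
  funext i
  rw [AlgEquiv.apply_symm_apply]
  by_cases h : Ψ ε i = 1
  · have h1 : e₀ i = 1 := if_pos h
    rw [h1, h]
    rfl
  · have h0 : Ψ ε i = 0 := (h01 i).resolve_right h
    have h1 : e₀ i = 0 := if_neg h
    rw [h1, TensorProduct.tmul_zero, h0]

/-- Essential surjectivity at the level of algebras. -/
theorem exists_etale_descent
    (H2 : ∀ (M : Type u) [Field M] [Algebra K' M] [FiniteDimensional K' M]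
      [Algebra.IsSeparable K' M], ∃ (L : Type u) (_ : Field L) (_ : Algebra K L),
        FiniteDimensional K L ∧ Algebra.IsSeparable K L ∧ Nonempty ((K' ⊗[K] L) ≃ₐ[K'] M))
    (C : Type u) [CommRing C] [Algebra K' C] [Algebra.Etale K' C] :
    ∃ (B : Type u) (_ : CommRing B) (_ : Algebra K B), Module.Finite K B ∧ Algebra.Etale K B ∧
      Nonempty ((K' ⊗[K] B) ≃ₐ[K'] C) := by
  classical
  obtain ⟨I, hI, Mi, hMf, hMa, e, hsep⟩ :=
    (Algebra.Etale.iff_exists_algEquiv_prod K' C).1 inferInstance
  haveI := hI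
  letI := hMf
  letI := hMa
  letI : Fintype I := Fintype.ofFinite I
  have hex : ∀ i, ∃ (L : Type u) (_ : Field L) (_ : Algebra K L),
        FiniteDimensional K L ∧ Algebra.IsSeparable K L ∧ Nonempty ((K' ⊗[K] L) ≃ₐ[K'] Mi i) := by
    intro i
    haveI : FiniteDimensional K' (Mi i) := (hsep i).1
    haveI : Algebra.IsSeparable K' (Mi i) := (hsep i).2
    exact H2 (Mi i)
  choose L hLf hLa hLfin hLsep hLe using hex
  letI := hLf
  letI := hLa
  have hfinB : Module.Finite K (Π i, L i) := by
    haveI : ∀ i, Module.Finite K (L i) := hLfin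
    infer_instance
  have hetB : Algebra.Etale K (Π i, L i) :=
    (Algebra.Etale.iff_exists_algEquiv_prod K (Π i, L i)).2
      ⟨I, hI, L, hLf, hLa, AlgEquiv.refl, fun i => ⟨hLfin i, hLsep i⟩⟩
  refine ⟨Π i, L i, inferInstance, inferInstance, hfinB, hetB, ⟨?_⟩⟩
  exact ((Algebra.TensorProduct.piRight K K' K' L).trans
    (AlgEquiv.piCongrRight fun i => (hLe i).some)).trans e.symm

end

end Groth.Agent.Lead.Krasner4
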