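import Mathlib
import Groth.Prelude.Def_FEt
import Groth.Agent.Lib.Helper7.FEtAff.Dict
import Groth.Agent.Lib.Helper9.FE.ClopenCrit
import Groth.Agent.Lib.Lead.Krasner4

set_option autoImplicit false
set_option linter.style.haveILetI false
set_option linter.unusedVariables false
set_option linter.unusedSectionVars false
set_option synthInstance.maxHeartbeats 400000
set_option backward.isDefEq.respectTransparency.types false

open CategoryTheory CategoryTheory.Limits AlgebraicGeometry TensorProduct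

namespace Groth.Agent.Lead.FEtField

open Groth.Agent.Helper7.FEtAff

universe u

theorem restrict_map_left_fst {X Y : Scheme.{u}} (f : X ⟶ Y) {Y₁ Y₂ : FEt.Cat Y} (Φ : Y₁ ⟶ Y₂) :
    ((FEt.restrict f).map Φ).left ≫ pullback.fst Y₂.hom f = pullback.fst Y₁.hom f ≫ Φ.left :=
  pullback.lift_fst _ _ _

/-- clopen lifting transports along isomorphisms of covers. -/
theorem clopen_lift_of_iso {X X' : Scheme.{u}} (g : X' ⟶ X) {W W' : FEt.Cat X} (e : W ≅ W')
    (h : ∀ T' : Set ↥(pullback W'.hom g), IsClopen T' →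
      ∃ T : Set W'.left, IsClopen T ∧ (pullback.fst W'.hom g) ⁻¹' T = T') :
    ∀ T' : Set ↥(pullback W.hom g), IsClopen T' →
      ∃ T : Set W.left, IsClopen T ∧ (pullback.fst W.hom g) ⁻¹' T = T' := by
  intro T' hT'
  let eh : pullback W.hom g ⟶ pullback W'.hom g := ((FEt.restrict g).map e.hom).left
  let ei : pullback W'.hom g ⟶ pullback W.hom g := ((FEt.restrict g).map e.inv).left
  have hei : eh ≫ ei = 𝟙 _ := by
    have h1 : (FEt.restrict g).map e.hom ≫ (FEt.restrict g).map e.inv = 𝟙 _ := by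
      rw [← CategoryTheory.Functor.map_comp, e.hom_inv_id, CategoryTheory.Functor.map_id]
    exact congrArg (fun t => t.left) h1
  have hfst : eh ≫ pullback.fst W'.hom g = pullback.fst W.hom g ≫ e.hom.left :=
    restrict_map_left_fst g e.hom
  obtain ⟨T₀, hT₀, hT₀'⟩ := h (ei ⁻¹' T') (hT'.preimage ei.continuous)
  refine ⟨e.hom.left ⁻¹' T₀, hT₀.preimage e.hom.left.continuous, ?_⟩
  ext x
  have h1 : e.hom.left (pullback.fst W.hom g x) = pullback.fst W'.hom g (eh x) := by
    rw [← Scheme.Hom.comp_apply, ← Scheme.Hom.comp_apply, hfst]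
  have h2 : ei (eh x) = x := by
    rw [← Scheme.Hom.comp_apply, hei]
    rfl
  constructor
  · intro hx
    have hx1 : pullback.fst W'.hom g (eh x) ∈ T₀ := by rw [← h1]; exact hx
    have hx2 : eh x ∈ (pullback.fst W'.hom g) ⁻¹' T₀ := hx1
    rw [hT₀'] at hx2
    have hx3 : ei (eh x) ∈ T' := hx2
    rwa [h2] at hx3
  · intro hx
    have hx3 : ei (eh x) ∈ T' := by rw [h2]; exact hx
    have hx2 : eh x ∈ (pullback.fst W'.hom g) ⁻¹' T₀ := by rw [hT₀']; exact hx3
    have hx1 : pullback.fst W'.hom g (eh x) ∈ T₀ := hx2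
    show e.hom.left (pullback.fst W.hom g x) ∈ T₀
    rw [h1]; exact hx1

section

variable (A A' : Type u) [CommRing A] [CommRing A'] [Algebra A A']

/-- the base change morphism `Spec A' ⟶ Spec A`. -/
noncomputable abbrev bcMap : Spec (CommRingCat.of A') ⟶ Spec (CommRingCat.of A) :=
  Spec.map (CommRingCat.ofHom (algebraMap A A'))

theorem clopen_lift_ofAlg (B : Type u) [CommRing B] [Algebra A B] [Module.Finite A B]
    [Algebra.Etale A B]
    (hidem : ∀ ε : B ⊗[A] A', IsIdempotentElem ε →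
      ∃ b : B, IsIdempotentElem b ∧ b ⊗ₜ[A] (1 : A') = ε) :
    ∀ T' : Set ↥(pullback (Spec.map (CommRingCat.ofHom (algebraMap A B))) (bcMap A A')),
      IsClopen T' → ∃ T : Set (Spec (CommRingCat.of B)), IsClopen T ∧
        (pullback.fst (Spec.map (CommRingCat.ofHom (algebraMap A B))) (bcMap A A')) ⁻¹' T = T' := by
  intro T' hT'
  let α : Spec (CommRingCat.of B) ⟶ Spec (CommRingCat.of A) :=
    Spec.map (CommRingCat.ofHom (algebraMap A B))
  change Set ↥(pullback α (bcMap A A')) at T'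
  let ι : pullback α (bcMap A A') ≅ Spec (CommRingCat.of (B ⊗[A] A')) :=
    pullbackSpecIso A B A'
  let iL : B →ₐ[A] B ⊗[A] A' := Algebra.TensorProduct.includeLeft
  have hι1 : ι.inv ≫ pullback.fst α (bcMap A A') = Spec.map (CommRingCat.ofHom iL.toRingHom) :=
    pullbackSpecIso_inv_fst A B A'
  have hfst : pullback.fst α (bcMap A A') = ι.hom ≫ Spec.map (CommRingCat.ofHom iL.toRingHom) := by
    rw [← hι1, Iso.hom_inv_id_assoc]
  have hT'' : IsClopen (ι.inv ⁻¹' T') := hT'.preimage ι.inv.continuous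
  obtain ⟨ε, hε, hεT⟩ := PrimeSpectrum.isClopen_iff.1 hT''
  obtain ⟨b, hb, hbε⟩ := hidem ε hε
  refine ⟨(PrimeSpectrum.basicOpen b : Set (PrimeSpectrum B)),
    PrimeSpectrum.isClopen_iff.2 ⟨b, hb, rfl⟩, ?_⟩
  ext x
  have hx1 : pullback.fst α (bcMap A A') x =
      PrimeSpectrum.comap iL.toRingHom (ι.hom x) := by
    rw [hfst, Scheme.Hom.comp_apply]
    rfl
  have hx2 : ι.inv (ι.hom x) = x := by
    rw [← Scheme.Hom.comp_apply, ι.hom_inv_id]
    rfl
  have hmem : (ι.hom x ∈ ι.inv ⁻¹' T') ↔ x ∈ T' := by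
    show ι.inv (ι.hom x) ∈ T' ↔ _
    rw [hx2]
  rw [← hmem, hεT, ← hbε]
  show pullback.fst α (bcMap A A') x ∈ (PrimeSpectrum.basicOpen b : Set (PrimeSpectrum B)) ↔ _
  rw [hx1]
  rfl

theorem restrict_ofAlg_iso (B : Type u) [CommRing B] [Algebra A B] [Module.Finite A B]
    [Algebra.Etale A B] (C : Type u) [CommRing C] [Algebra A' C] [Module.Finite A' C]
    [Algebra.Etale A' C] (θ : A' ⊗[A] B ≃ₐ[A'] C) :
    Nonempty ((FEt.restrict (bcMap A A')).obj (ofAlg A B) ≅ ofAlg A' C) := by
  let α : Spec (CommRingCat.of B) ⟶ Spec (CommRingCat.of A) :=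
    Spec.map (CommRingCat.ofHom (algebraMap A B))
  let ι : pullback α (bcMap A A') ≅ Spec (CommRingCat.of (B ⊗[A] A')) :=
    pullbackSpecIso A B A'
  have hι2 : ι.inv ≫ pullback.snd α (bcMap A A') =
      Spec.map (CommRingCat.ofHom (RingHomClass.toRingHom
        (Algebra.TensorProduct.includeRight : A' →ₐ[A] B ⊗[A] A'))) :=
    pullbackSpecIso_inv_snd A B A'
  let ε : B ⊗[A] A' ≃+* C :=
    (Algebra.TensorProduct.comm A B A').toRingEquiv.trans θ.toRingEquiv
  let k : Spec (CommRingCat.of (B ⊗[A] A')) ≅ Spec (CommRingCat.of C) :=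
    { hom := Spec.map (CommRingCat.ofHom ε.symm.toRingHom)
      inv := Spec.map (CommRingCat.ofHom ε.toRingHom)
      hom_inv_id := by
        rw [← Spec.map_comp, ← CommRingCat.ofHom_comp, RingEquiv.symm_toRingHom_comp_toRingHom]
        exact Spec.map_id _
      inv_hom_id := by
        rw [← Spec.map_comp, ← CommRingCat.ofHom_comp, RingEquiv.toRingHom_comp_symm_toRingHom]
        exact Spec.map_id _ }
  have hk : k.hom ≫ Spec.map (CommRingCat.ofHom (algebraMap A' C)) =
      Spec.map (CommRingCat.ofHom (RingHomClass.toRingHom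
        (Algebra.TensorProduct.includeRight : A' →ₐ[A] B ⊗[A] A'))) := by
    show Spec.map (CommRingCat.ofHom ε.symm.toRingHom) ≫ _ = _
    rw [← Spec.map_comp, ← CommRingCat.ofHom_comp]
    congr 2
    refine RingHom.ext (fun x => ?_)
    show ε.symm (algebraMap A' C x) = (1 : B) ⊗ₜ[A] x
    rw [RingEquiv.symm_apply_eq]
    symm
    show θ (Algebra.TensorProduct.comm A B A' ((1 : B) ⊗ₜ[A] x)) = _
    rw [Algebra.TensorProduct.comm_tmul]
    have h1 : (x ⊗ₜ[A] (1 : B) : A' ⊗[A] B) = algebraMap A' (A' ⊗[A] B) x := by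
      rw [Algebra.TensorProduct.algebraMap_apply]
      rfl
    rw [h1, θ.commutes]
  refine ⟨MorphismProperty.Over.isoMk (ι ≪≫ k) ?_⟩
  show (ι.hom ≫ k.hom) ≫ Spec.map (CommRingCat.ofHom (algebraMap A' C)) =
    pullback.snd α (bcMap A A')
  rw [Category.assoc, hk, ← hι2, Iso.hom_inv_id_assoc]

end

open Groth.Agent.Lead.Krasner4 in
/-- Base change of finite étale covers along a field extension `K'/K` in which `K` is
separably closed and along which finite separable extensions descend is an equivalence. -/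
theorem isEquivalence_of (K K' : Type u) [Field K] [Field K'] [Algebra K K']
    (H : SepClosedIn K K')
    (H2 : ∀ (M : Type u) [Field M] [Algebra K' M] [FiniteDimensional K' M]
      [Algebra.IsSeparable K' M], ∃ (L : Type u) (_ : Field L) (_ : Algebra K L),
        FiniteDimensional K L ∧ Algebra.IsSeparable K L ∧ Nonempty ((K' ⊗[K] L) ≃ₐ[K'] M)) :
    (FEt.restrict (Spec.map (CommRingCat.ofHom (algebraMap K K')))).IsEquivalence := by
  haveI hsurjg : Surjective (bcMap K K') := by
    constructor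
    intro x
    refine ⟨(⊥ : PrimeSpectrum K'), Subsingleton.elim _ _⟩
  have hff : (FEt.restrict (bcMap K K')).Full ∧ (FEt.restrict (bcMap K K')).Faithful := by
    apply H9FE.restrict_full_faithful_of_clopen
    · intro Y T hT hpre
      haveI : Surjective (pullback.fst Y.hom (bcMap K K')) := inferInstance
      ext y
      simp only [Set.mem_univ, iff_true]
      obtain ⟨x, rfl⟩ := (pullback.fst Y.hom (bcMap K K')).surjective y
      have : x ∈ (pullback.fst Y.hom (bcMap K K')) ⁻¹' T := by rw [hpre]; trivial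
      exact this
    · intro W
      obtain ⟨B, _, _, _, _, ⟨e⟩⟩ := exists_iso_ofAlg K W
      apply clopen_lift_of_iso (bcMap K K') e
      refine clopen_lift_ofAlg K K' B ?_
      intro ε hε
      obtain ⟨b, hb, hbε⟩ := idem_lifts H B (Algebra.TensorProduct.comm K B K' ε)
        (hε.map (Algebra.TensorProduct.comm K B K'))
      refine ⟨b, hb, ?_⟩
      apply (Algebra.TensorProduct.comm K B K').injective
      rw [← hbε, Algebra.TensorProduct.comm_tmul]
  refine { faithful := hff.2, full := hff.1, essSurj := ⟨?_⟩ }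
  intro Z
  obtain ⟨C, _, _, _, _, ⟨eZ⟩⟩ := exists_iso_ofAlg K' Z
  obtain ⟨B, hBr, hBa, hBfin, hBet, ⟨θ⟩⟩ := exists_etale_descent H2 C
  letI := hBr
  letI := hBa
  haveI := hBfin
  haveI := hBet
  obtain ⟨e⟩ := restrict_ofAlg_iso K K' B C θ
  exact ⟨ofAlg K B, ⟨e ≪≫ eZ.symm⟩⟩

end Groth.Agent.Lead.FEtField
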