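import Mathlib
import Groth.Prelude.Def_Omega4
import Groth.Prelude.Def_MoreMor
import Groth.Agent.Lib.Helper2.Formal.EtaleHom
import Groth.Agent.Lib.Helper7.UnivThick

set_option autoImplicit false
universe u
open CategoryTheory CategoryTheory.Limits AlgebraicGeometry TopologicalSpace Opposite

set_option backward.isDefEq.respectTransparency.types false

namespace Groth.Agent.Lead.UT5

open Groth.Agent.Helper2.FormalLib

/-- a formally smooth morphism lifts against first order thickenings of AFFINE schemes. -/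
theorem el_of_affine {X Y T T' : Scheme.{u}} (p : X ⟶ Y) (hp : MoreMor.IsFormallySmoothHom p)
    (t : T ⟶ T') [IsAffine T'] (ht : MoreMor.IsFirstOrderThickening t) : EL t p := by
  obtain ⟨⟨hcl, -⟩, hk⟩ := ht
  haveI := hcl
  obtain ⟨haff, surj⟩ := IsClosedImmersion.isAffine_surjective_of_isAffine t
  haveI := haff
  obtain ⟨e, he⟩ := exists_iso_spec_quot t surj
  have hI : RingHom.ker t.appTop.hom ^ 2 = ⊥ := by
    rw [pow_two, ← le_bot_iff, Ideal.mul_le]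
    intro x hx y hy
    have h1 : x ∈ t.ker.ideal ⟨⊤, isAffineOpen_top T'⟩ := by
      rw [Scheme.Hom.ker_apply]; exact hx
    have h2 : y ∈ t.ker.ideal ⟨⊤, isAffineOpen_top T'⟩ := by
      rw [Scheme.Hom.ker_apply]; exact hy
    have h3 : x * y ∈ (t.ker * t.ker).ideal ⟨⊤, isAffineOpen_top T'⟩ := by
      rw [Scheme.IdealSheafData.ideal_mul]
      exact Ideal.mul_mem_mul h1 h2
    rw [hk, Scheme.IdealSheafData.ideal_bot] at h3
    exact h3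
  intro a b w
  obtain ⟨l', h1, h2⟩ := hp Γ(T', ⊤) (RingHom.ker t.appTop.hom) hI (e.inv ≫ a)
    (T'.isoSpec.inv ≫ b) (by
      have h3 : e.inv ≫ t = Spec.map (CommRingCat.ofHom (Ideal.Quotient.mk
          (RingHom.ker t.appTop.hom))) ≫ T'.isoSpec.inv := by
        rw [e.inv_comp_eq]
        exact he
      rw [Category.assoc, ← w, ← Category.assoc, ← Category.assoc, h3])
  refine ⟨T'.isoSpec.hom ≫ l', ?_, ?_⟩
  · rw [he]
    simp only [Category.assoc, Iso.inv_hom_id_assoc]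
    rw [h1, Iso.hom_inv_id_assoc]
  · rw [Category.assoc, h2, Iso.hom_inv_id_assoc]

section LocalSection

open Groth.Agent.Helper7.UnivThick

variable {Z X Y Z' Z'' : Scheme.{u}} (i : Z ⟶ X) (p : X ⟶ Y)
    (hp : MoreMor.IsFormallySmoothHom p)
    (i' : Z ⟶ Z') (a : Z' ⟶ X) (hZ' : OmegaSh.IsUnivThickening i i' a)
    (i'' : Z ⟶ Z'') (b : Z'' ⟶ Y) (hZ'' : OmegaSh.IsUnivThickening (i ≫ p) i'' b)
    (k : Z' ⟶ Z'') (hk₁ : i' ≫ k = i'') (hk₂ : k ≫ b = a ≫ p)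

include hZ'' in
theorem isFirstOrderThickening_restrict (V : Z''.Opens) :
    MoreMor.IsFirstOrderThickening (i'' ∣_ V) :=
  isFirstOrderThickening_left hZ''.1 (isPullback_morphismRestrict i'' V)

include hp hZ' hZ'' hk₁ hk₂ in
/-- over an affine open of `Z''` the map `k : Z' ⟶ Z''` of universal thickenings has a section
compatible with the thickenings. -/
theorem exists_local_section (V : Z''.Opens) (hV : IsAffineOpen V) :
    ∃ s : (V : Scheme.{u}) ⟶ Z', (i'' ∣_ V) ≫ s = (i'' ⁻¹ᵁ V).ι ≫ i' ∧ s ≫ k = V.ι := by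
  haveI : IsAffine (V : Scheme.{u}) := hV
  have ht := isFirstOrderThickening_restrict i p i'' b hZ'' V
  have w : (i'' ∣_ V) ≫ (V.ι ≫ b) = ((i'' ⁻¹ᵁ V).ι ≫ i) ≫ p := by
    rw [← Category.assoc, morphismRestrict_ι, Category.assoc, hZ''.2.1, Category.assoc]
  obtain ⟨l, hl1, hl2⟩ := el_of_affine p hp (i'' ∣_ V) ht ((i'' ⁻¹ᵁ V).ι ≫ i) (V.ι ≫ b) w
  obtain ⟨s, ⟨hs1, hs2⟩, -⟩ := hZ'.2.2 _ _ (i'' ∣_ V) l (i'' ⁻¹ᵁ V).ι ht hl1
  refine ⟨s, hs1, ?_⟩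
  have w' : (i'' ∣_ V) ≫ (V.ι ≫ b) = (i'' ⁻¹ᵁ V).ι ≫ (i ≫ p) := by
    rw [w, Category.assoc]
  obtain ⟨c, -, hcu⟩ := hZ''.2.2 _ _ (i'' ∣_ V) (V.ι ≫ b) (i'' ⁻¹ᵁ V).ι ht w'
  have e1 : s ≫ k = c := by
    apply hcu
    constructor
    · rw [← Category.assoc, hs1, Category.assoc, hk₁]
    · rw [Category.assoc, hk₂, ← Category.assoc, hs2, hl2]
  have e2 : V.ι = c := by
    apply hcu
    exact ⟨morphismRestrict_ι i'' V, rfl⟩
  rw [e1, e2]

include hZ' hZ'' hk₁ hk₂ in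
/-- the same with the lift given. -/
theorem exists_local_section' (V : Z''.Opens)
    (hl : ∃ l : (V : Scheme.{u}) ⟶ X, (i'' ∣_ V) ≫ l = (i'' ⁻¹ᵁ V).ι ≫ i ∧ l ≫ p = V.ι ≫ b) :
    ∃ s : (V : Scheme.{u}) ⟶ Z', (i'' ∣_ V) ≫ s = (i'' ⁻¹ᵁ V).ι ≫ i' ∧ s ≫ k = V.ι := by
  have ht := isFirstOrderThickening_restrict i p i'' b hZ'' V
  have w : (i'' ∣_ V) ≫ (V.ι ≫ b) = ((i'' ⁻¹ᵁ V).ι ≫ i) ≫ p := by
    rw [← Category.assoc, morphismRestrict_ι, Category.assoc, hZ''.2.1, Category.assoc]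
  obtain ⟨l, hl1, hl2⟩ := hl
  obtain ⟨s, ⟨hs1, hs2⟩, -⟩ := hZ'.2.2 _ _ (i'' ∣_ V) l (i'' ⁻¹ᵁ V).ι ht hl1
  refine ⟨s, hs1, ?_⟩
  have w' : (i'' ∣_ V) ≫ (V.ι ≫ b) = (i'' ⁻¹ᵁ V).ι ≫ (i ≫ p) := by
    rw [w, Category.assoc]
  obtain ⟨c, -, hcu⟩ := hZ''.2.2 _ _ (i'' ∣_ V) (V.ι ≫ b) (i'' ⁻¹ᵁ V).ι ht w'
  have e1 : s ≫ k = c := by
    apply hcu
    constructor
    · rw [← Category.assoc, hs1, Category.assoc, hk₁]
    · rw [Category.assoc, hk₂, ← Category.assoc, hs2, hl2]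
  have e2 : V.ι = c := by
    apply hcu
    exact ⟨morphismRestrict_ι i'' V, rfl⟩
  rw [e1, e2]

end LocalSection

/-- local lifting against first order thickenings of the source of `j` over `π`. -/
def LocLift {Z P Y : Scheme.{u}} (j : Z ⟶ P) (π : P ⟶ Y) : Prop :=
  ∀ (Z'' : Scheme.{u}) (i'' : Z ⟶ Z'') (b : Z'' ⟶ Y), MoreMor.IsFirstOrderThickening i'' →
    i'' ≫ b = j ≫ π → ∀ z : Z, ∃ V : Z''.Opens, i'' z ∈ V ∧
      ∃ l : (V : Scheme.{u}) ⟶ P, (i'' ∣_ V) ≫ l = (i'' ⁻¹ᵁ V).ι ≫ j ∧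
        l ≫ π = Scheme.Opens.ι V ≫ b

theorem locLift_of_isFormallySmoothHom {Z P Y : Scheme.{u}} (j : Z ⟶ P) (π : P ⟶ Y)
    (hπ : MoreMor.IsFormallySmoothHom π) : LocLift j π := by
  intro Z'' i'' b hi'' hw z
  obtain ⟨_, ⟨V, hV, rfl⟩, hzV, -⟩ := Z''.isBasis_affineOpens.exists_subset_of_mem_open
    (Set.mem_univ (i'' z)) isOpen_univ
  haveI : IsAffine (V : Scheme.{u}) := hV
  have ht : MoreMor.IsFirstOrderThickening (i'' ∣_ V) :=
    Groth.Agent.Helper7.UnivThick.isFirstOrderThickening_left hi''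
      (isPullback_morphismRestrict i'' V)
  have w : (i'' ∣_ V) ≫ (Scheme.Opens.ι V ≫ b) = ((i'' ⁻¹ᵁ V).ι ≫ j) ≫ π := by
    rw [← Category.assoc, morphismRestrict_ι, Category.assoc, hw, Category.assoc]
  exact ⟨V, hzV, el_of_affine π hπ (i'' ∣_ V) ht ((i'' ⁻¹ᵁ V).ι ≫ j) (Scheme.Opens.ι V ≫ b) w⟩

end Groth.Agent.Lead.UT5
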