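import Mathlib
import Groth.Prelude.Def_MoreMor
import Groth.Agent.Lib.Helper2.Formal.EtaleHom
import Groth.Agent.Lib.Lead.FSm1
import Groth.Agent.Lib.Lead.UT5

set_option autoImplicit false
universe u
open AlgebraicGeometry CategoryTheory

namespace Groth.Agent.Lead.FSm

open Groth.Agent.Helper2.FormalLib Groth.Agent.Lead.UT5

/-- Spec form of lifting for formally smooth ring maps. -/
theorem el_spec {R B A : Type u} [CommRing R] [CommRing B] [CommRing A] (φ : R →+* B)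
    (hφ : φ.FormallySmooth) (I : Ideal A) (hI : I ^ 2 = ⊥) :
    EL (Spec.map (CommRingCat.ofHom (Ideal.Quotient.mk I))) (Spec.map (CommRingCat.ofHom φ)) := by
  intro a b w
  obtain ⟨α, rfl⟩ := Spec.map_surjective a
  obtain ⟨β, rfl⟩ := Spec.map_surjective b
  have w' : β ≫ CommRingCat.ofHom (Ideal.Quotient.mk I) = CommRingCat.ofHom φ ≫ α :=
    Spec.map_injective (by simpa [Spec.map_comp] using w)
  letI : Algebra R B := φ.toAlgebra
  letI : Algebra R A := β.hom.toAlgebra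
  haveI : Algebra.FormallySmooth R B := hφ
  let α' : B →ₐ[R] A ⧸ I :=
    { α.hom with
      commutes' := fun r => by
        have := congr($(w').hom r)
        exact this.symm }
  obtain ⟨l, hl⟩ := Algebra.FormallySmooth.comp_surjective R B I hI α'
  refine ⟨Spec.map (CommRingCat.ofHom l.toRingHom), ?_, ?_⟩
  · rw [← Spec.map_comp]
    congr 1
    ext x
    exact congr($hl x)
  · rw [← Spec.map_comp]
    congr 1
    ext r
    exact l.commutes r

theorem el_of_iso_left {T T' T₁ T₁' X Y : Scheme.{u}} {t : T ⟶ T'} {f : X ⟶ Y} (h : EL t f)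
    (e : T₁ ≅ T) (e' : T' ≅ T₁') : EL (e.hom ≫ t ≫ e'.hom) f := by
  intro a b w
  obtain ⟨l, h1, h2⟩ := h (e.inv ≫ a) (e'.hom ≫ b) (by
    rw [Category.assoc, ← w]; simp)
  refine ⟨e'.inv ≫ l, ?_, ?_⟩
  · simp only [Category.assoc, Iso.hom_inv_id_assoc]
    rw [h1]; simp
  · rw [Category.assoc, h2]; simp

/-- lifting for morphisms of affine schemes with formally smooth global sections against a
square-zero surjection of affine schemes. -/
theorem el_of_isAffine {Z Z' X Y : Scheme.{u}} [IsAffine Z] [IsAffine Z'] [IsAffine X] [IsAffine Y]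
    (t : Z ⟶ Z') (f : X ⟶ Y) (surj : Function.Surjective t.appTop.hom)
    (sq : ∀ x y, t.appTop.hom x = 0 → t.appTop.hom y = 0 → x * y = 0)
    (hf : f.appTop.hom.FormallySmooth) : EL t f := by
  obtain ⟨e, he⟩ := exists_iso_spec_quot t surj
  have hI : RingHom.ker t.appTop.hom ^ 2 = ⊥ := by
    rw [pow_two, ← le_bot_iff, Ideal.mul_le]
    intro x hx y hy
    exact sq x y hx hy
  have h0 := el_spec f.appTop.hom hf _ hI
  have hf' : f = X.isoSpec.hom ≫ Spec.map (CommRingCat.ofHom f.appTop.hom) ≫ Y.isoSpec.inv := by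
    rw [CommRingCat.ofHom_hom, Scheme.isoSpec_hom_naturality_assoc]; simp
  rw [he, hf']
  exact el_of_iso_right (el_of_iso_left h0 e Z'.isoSpec.symm) X.isoSpec Y.isoSpec.symm

theorem formallySmooth_resLE_appTop {X Y : Scheme.{u}} (f : X ⟶ Y) (U : X.Opens) (V : Y.Opens)
    (hUV : U ≤ f ⁻¹ᵁ V) (hf : (f.appLE V U hUV).hom.FormallySmooth) :
    (f.resLE V U hUV).appTop.hom.FormallySmooth := by
  have h0 : (f.resLE V U hUV).appTop = V.topIso.hom ≫ f.appLE V U hUV ≫ U.topIso.inv :=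
    Scheme.Hom.resLE_app_top f hUV
  rw [h0, CommRingCat.hom_comp, CommRingCat.hom_comp]
  exact ((formallySmooth_of_ringEquiv V.topIso.commRingCatIsoToRingEquiv).comp hf).comp
    (formallySmooth_of_ringEquiv U.topIso.symm.commRingCatIsoToRingEquiv)

/-- an affine-locally formally smooth morphism has the local lifting property. -/
theorem locLift_of_locFSm {Z P Y : Scheme.{u}} (j : Z ⟶ P) (π : P ⟶ Y) (hπ : LocFSm π) :
    LocLift j π := by
  intro Z'' i'' b hi'' hw z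
  obtain ⟨⟨hcl, hsurj⟩, hk⟩ := hi''
  haveI := hcl
  have hhomeo : IsHomeomorph i''.base :=
    isHomeomorph_iff_isEmbedding_surjective.mpr ⟨i''.isEmbedding, hsurj.surj⟩
  have hpt : π (j z) = b (i'' z) := by
    have := congrArg (fun g => g.base z) hw
    exact this.symm
  obtain ⟨_, ⟨Ya, hYa, rfl⟩, hzYa, -⟩ := Y.isBasis_affineOpens.exists_subset_of_mem_open
    (Set.mem_univ (b (i'' z))) isOpen_univ
  obtain ⟨_, ⟨Pa, hPa, rfl⟩, hzPa, hPaY⟩ := P.isBasis_affineOpens.exists_subset_of_mem_open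
    (show j z ∈ ((π ⁻¹ᵁ Ya : P.Opens) : Set P) by
      change π (j z) ∈ Ya
      rw [hpt]; exact hzYa) (π ⁻¹ᵁ Ya).2
  have hO : IsOpen (i''.base '' ((j ⁻¹ᵁ Pa : Z.Opens) : Set Z)) :=
    hhomeo.isOpenMap _ (j ⁻¹ᵁ Pa).2
  obtain ⟨_, ⟨V, hV, rfl⟩, hzV, hVle⟩ := Z''.isBasis_affineOpens.exists_subset_of_mem_open
    (show i'' z ∈ ((b ⁻¹ᵁ Ya ⊓ ⟨_, hO⟩ : Z''.Opens) : Set Z'') from
      ⟨hzYa, ⟨z, hzPa, rfl⟩⟩) (b ⁻¹ᵁ Ya ⊓ ⟨_, hO⟩ : Z''.Opens).2
  haveI : IsAffine (V : Scheme.{u}) := hV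
  haveI : IsAffine (Pa : Scheme.{u}) := hPa
  haveI : IsAffine (Ya : Scheme.{u}) := hYa
  haveI : IsAffine ((i'' ⁻¹ᵁ V : Z.Opens) : Scheme.{u}) :=
    (IsClosedImmersion.isAffine_surjective_of_isAffine (i'' ∣_ V)).1
  have hra : Set.range ((i'' ⁻¹ᵁ V).ι ≫ j).base ⊆ Set.range (Scheme.Opens.ι Pa).base := by
    rw [Scheme.Opens.range_ι]
    rintro _ ⟨y, rfl⟩
    have hy : i'' y.1 ∈ V := y.2
    obtain ⟨y', hy', hyy'⟩ := (hVle hy).2
    have : y' = y.1 := hhomeo.injective hyy'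
    rw [this] at hy'
    exact hy'
  have hrb : Set.range (Scheme.Opens.ι V ≫ b).base ⊆ Set.range (Scheme.Opens.ι Ya).base := by
    rw [Scheme.Opens.range_ι]
    rintro _ ⟨y, rfl⟩
    exact (hVle y.2).1
  have e : Pa ≤ π ⁻¹ᵁ Ya := hPaY
  obtain ⟨hs1, hs2⟩ := sqZero_restrict i'' hk V hV
  have hEL := el_of_isAffine (i'' ∣_ V) (π.resLE Ya Pa e) hs1 hs2
    (formallySmooth_resLE_appTop π Pa Ya e (hπ Pa Ya hPa hYa e))
  obtain ⟨l₁, h1, h2⟩ := hEL (IsOpenImmersion.lift (Scheme.Opens.ι Pa) ((i'' ⁻¹ᵁ V).ι ≫ j) hra)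
    (IsOpenImmersion.lift (Scheme.Opens.ι Ya) (Scheme.Opens.ι V ≫ b) hrb) (by
      rw [← cancel_mono (Scheme.Opens.ι Ya), Category.assoc, IsOpenImmersion.lift_fac,
        Category.assoc, Scheme.Hom.resLE_comp_ι, ← Category.assoc (IsOpenImmersion.lift _ _ _),
        IsOpenImmersion.lift_fac, ← Category.assoc, morphismRestrict_ι, Category.assoc, hw,
        Category.assoc])
  refine ⟨V, hzV, l₁ ≫ Scheme.Opens.ι Pa, ?_, ?_⟩
  · rw [← Category.assoc, h1, IsOpenImmersion.lift_fac]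
  · rw [Category.assoc, ← Scheme.Hom.resLE_comp_ι π e, ← Category.assoc, h2,
      IsOpenImmersion.lift_fac]

theorem locFSm_of_smooth {P Y : Scheme.{u}} (π : P ⟶ Y) [Smooth π] : LocFSm π := by
  intro U V hU hV e
  have hsm : RingHom.Smooth (π.appLE V U e).hom :=
    HasRingHomProperty.appLE (P := @Smooth) π inferInstance ⟨V, hV⟩ ⟨U, hU⟩ e
  exact hsm.1

theorem locLift_of_smooth {Z P Y : Scheme.{u}} (j : Z ⟶ P) (π : P ⟶ Y) [Smooth π] :
    LocLift j π :=
  locLift_of_locFSm j π (locFSm_of_smooth π)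

end Groth.Agent.Lead.FSm
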