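import Mathlib
import Groth.Prelude
import Groth.Agent.Lib.Lead.GUnib16b
import Groth.Agent.Lib.Lead.GUnib17
import Groth.Agent.Lib.Helper5.Misc.StdEtLift

/-!
# Branches of a fibre: lifting a stage along a surjection of local rings
-/

set_option autoImplicit false
set_option backward.isDefEq.respectTransparency.types false
set_option synthInstance.maxHeartbeats 400000
set_option linter.style.haveILetI false
set_option linter.unusedSectionVars false

universe u

open AlgebraicGeometry CategoryTheory Limits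

namespace Groth.Agent.Lead.FibBr

open Groth.Agent.Helper7.SHens IsLocalRing TensorProduct Groth.Agent.Lead.GUnib

theorem encard_minimalPrimes_atPrime_le_of_flat {R T : Type u} [CommRing R] [CommRing T]
    [IsLocalRing T] (φ : R →+* T) (hφ : φ.Flat) (𝔮 : Ideal R) [𝔮.IsPrime]
    (h𝔮 : (maximalIdeal T).comap φ = 𝔮) :
    (minimalPrimes (Localization.AtPrime 𝔮)).encard ≤ (minimalPrimes T).encard := by
  letI : Algebra R T := φ.toAlgebra
  have hunit : ∀ y : 𝔮.primeCompl, IsUnit (algebraMap R T y) := by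
    intro y
    by_contra h
    have h1 : (y : R) ∈ (maximalIdeal T).comap φ := Ideal.mem_comap.mpr ((mem_maximalIdeal _).mpr h)
    rw [h𝔮] at h1
    exact y.2 h1
  let ψ : Localization.AtPrime 𝔮 →+* T := IsLocalization.lift hunit
  letI : Algebra (Localization.AtPrime 𝔮) T := ψ.toAlgebra
  haveI : IsScalarTower R (Localization.AtPrime 𝔮) T :=
    IsScalarTower.of_algebraMap_eq (fun x => (IsLocalization.lift_eq hunit x).symm)
  have hflat : Module.Flat R T := hφ
  have hflat' : Module.Flat (Localization.AtPrime 𝔮) T :=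
    (Module.flat_iff_of_isLocalization (Localization.AtPrime 𝔮) 𝔮.primeCompl T).mpr hflat
  haveI : IsLocalHom (algebraMap (Localization.AtPrime 𝔮) T) := by
    constructor
    intro a ha
    obtain ⟨r, s, rfl⟩ := IsLocalization.exists_mk'_eq 𝔮.primeCompl a
    have h1 : algebraMap (Localization.AtPrime 𝔮) T (IsLocalization.mk' _ r s) *
        algebraMap R T s = algebraMap R T r := by
      rw [IsScalarTower.algebraMap_apply R (Localization.AtPrime 𝔮) T (s : R), ← map_mul,
        IsLocalization.mk'_spec, ← IsScalarTower.algebraMap_apply]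
    have h2 : IsUnit (algebraMap R T r) := by
      rw [← h1]
      exact ha.mul (hunit s)
    have h3 : r ∉ 𝔮 := by
      intro hr
      rw [← h𝔮] at hr
      exact ((mem_maximalIdeal _).mp (Ideal.mem_comap.mp hr)) h2
    have h4 : IsUnit (algebraMap R (Localization.AtPrime 𝔮) r) :=
      IsLocalization.map_units (Localization.AtPrime 𝔮) (⟨r, h3⟩ : 𝔮.primeCompl)
    have h5 : IsLocalization.mk' (Localization.AtPrime 𝔮) r s *
        algebraMap R (Localization.AtPrime 𝔮) s = algebraMap R (Localization.AtPrime 𝔮) r :=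
      IsLocalization.mk'_spec _ r s
    exact isUnit_of_mul_isUnit_left (h5 ▸ h4)
  haveI := Module.FaithfullyFlat.of_flat_of_isLocalHom (A := Localization.AtPrime 𝔮) (B := T)
  exact encard_minimalPrimes_le_of_faithfullyFlat

section Lift

variable {B B' K : Type u} [CommRing B] [CommRing B'] [Field K]
  [Algebra B B'] [Algebra B' K] [Algebra B K] [IsScalarTower B B' K]

/-- The residue section of the local ring of a stage. -/
noncomputable def locSec (N : Nbhd B K) : N.Loc →ₐ[B] K :=
  IsLocalization.liftAlgHom (M := N.q.primeCompl) (f := N.sec) (fun y => by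
    rw [isUnit_iff_ne_zero]
    exact fun h0 => y.2 (Nbhd.mem_q.mpr h0))

theorem locSec_algebraMap (N : Nbhd B K) (a : N.Ring) :
    locSec N (algebraMap N.Ring N.Loc a) = N.sec a :=
  IsLocalization.lift_eq _ a

theorem locSec_eq_zero_iff (N : Nbhd B K) (n : N.Loc) :
    locSec N n = 0 ↔ n ∈ maximalIdeal N.Loc := by
  obtain ⟨a, s, rfl⟩ := IsLocalization.exists_mk'_eq N.q.primeCompl n
  rw [IsLocalization.AtPrime.mk'_mem_maximal_iff N.Loc N.q]
  have h1 : locSec N (IsLocalization.mk' N.Loc a s) * N.sec (s : N.Ring) = N.sec a := by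
    rw [← locSec_algebraMap N (s : N.Ring), ← map_mul, IsLocalization.mk'_spec,
      locSec_algebraMap]
  have hs : N.sec (s : N.Ring) ≠ 0 := fun h0 => s.2 (Nbhd.mem_q.mpr h0)
  rw [Nbhd.mem_q, ← h1]
  constructor
  · intro h; rw [h, zero_mul]
  · intro h
    rcases mul_eq_zero.mp h with h | h
    · exact h
    · exact absurd h hs

theorem exists_nbhd_lift (hsurj : Function.Surjective (algebraMap B B')) (N' : Nbhd B' K) :
    ∃ N : Nbhd B K, (minimalPrimes N'.Loc).encard ≤
      (minimalPrimes (N.Loc ⧸ (RingHom.ker (algebraMap B B')).map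
        (algebraMap B N.Loc))).encard := by
  classical
  obtain ⟨f', hf', hstd⟩ := Algebra.IsEtaleAt.exists_isStandardEtale (R := B') N'.q
  let Ef := Localization.Away f'
  obtain ⟨P, ⟨eq⟩⟩ := Groth.Agent.Lib.Helper5.StdEtLift.exists_lift (A := B) (A' := B')
    (B' := Ef) hsurj
  have hunit : ∀ y : Submonoid.powers f', IsUnit (N'.sec (y : N'.Ring)) := by
    rintro ⟨_, n, rfl⟩
    rw [map_pow]
    exact (isUnit_iff_ne_zero.mpr (fun h0 => hf' (Nbhd.mem_q.mpr h0))).pow n
  let sf : Ef →ₐ[B'] K :=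
    IsLocalization.liftAlgHom (M := Submonoid.powers f') (f := N'.sec) hunit
  have hsf : ∀ x : N'.Ring, sf (algebraMap N'.Ring Ef x) = N'.sec x :=
    fun x => IsLocalization.lift_eq _ x
  let ι : P.Ring →ₐ[B] B' ⊗[B] P.Ring := Algebra.TensorProduct.includeRight
  let s : P.Ring →ₐ[B] K :=
    { toRingHom := (sf : Ef →+* K).comp
        ((eq : B' ⊗[B] P.Ring →+* Ef).comp (ι : P.Ring →+* B' ⊗[B] P.Ring))
      commutes' := by
        intro b
        show sf (eq (ι (algebraMap B P.Ring b))) = algebraMap B K b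
        rw [ι.commutes, IsScalarTower.algebraMap_apply B B' (B' ⊗[B] P.Ring), eq.commutes,
          sf.commutes, ← IsScalarTower.algebraMap_apply] }
  have hs : ∀ p : P.Ring, s p = sf (eq ((1 : B') ⊗ₜ[B] p)) := fun p => rfl
  let N := Nbhd.of P.Ring s
  let eN : N.Ring ≃ₐ[B] P.Ring := Nbhd.ofEquiv P.Ring s
  have hNsec : ∀ x, N.sec x = s (eN x) := Nbhd.of_sec_apply P.Ring s
  refine ⟨N, ?_⟩
  let T' := B' ⊗[B] N.Loc
  let ψ₁ : N'.Ring →+* Ef := algebraMap N'.Ring Ef
  let ψ₂ : Ef →+* B' ⊗[B] P.Ring := (eq.symm : Ef →+* B' ⊗[B] P.Ring)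
  let ψ₃ : B' ⊗[B] P.Ring →+* B' ⊗[B] N.Ring :=
    (Algebra.TensorProduct.map (AlgHom.id B B') eN.symm.toAlgHom).toRingHom
  let m₄ : B' ⊗[B] N.Ring →ₐ[B] T' :=
    Algebra.TensorProduct.map (AlgHom.id B B') (IsScalarTower.toAlgHom B N.Ring N.Loc)
  let ψ₄ : B' ⊗[B] N.Ring →+* T' := m₄.toRingHom
  have hψ₁ : ψ₁.Flat := by
    rw [RingHom.flat_algebraMap_iff]
    exact IsLocalization.flat Ef (Submonoid.powers f')
  have hψ₂ : ψ₂.Flat := RingHom.Flat.of_bijective eq.symm.bijective
  have hψ₃ : ψ₃.Flat := by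
    apply RingHom.Flat.of_bijective
    exact (Algebra.TensorProduct.congr (AlgEquiv.refl (R := B) (A₁ := B')) eN.symm).bijective
  have hψ₄ : ψ₄.Flat := by
    letI : Algebra (B' ⊗[B] N.Ring) T' := ψ₄.toAlgebra
    haveI : IsScalarTower B' (B' ⊗[B] N.Ring) T' := by
      apply IsScalarTower.of_algebraMap_eq
      intro b
      show algebraMap B' T' b = m₄ (algebraMap B' (B' ⊗[B] N.Ring) b)
      rw [Algebra.TensorProduct.algebraMap_apply, Algebra.TensorProduct.algebraMap_apply]
      show _ = Algebra.TensorProduct.map (AlgHom.id B B')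
        (IsScalarTower.toAlgHom B N.Ring N.Loc) _
      rw [Algebra.TensorProduct.map_tmul, map_one]
      rfl
    haveI := IsLocalization.tensorProduct_tensorProduct_right B B' N.q.primeCompl N.Loc
      (by
        ext x
        show Algebra.TensorProduct.map (AlgHom.id B B')
          (IsScalarTower.toAlgHom B N.Ring N.Loc) ((1 : B') ⊗ₜ[B] x) = _
        rw [Algebra.TensorProduct.map_tmul, map_one]
        rfl)
    show Module.Flat (B' ⊗[B] N.Ring) T'
    exact IsLocalization.flat T'
      (N.q.primeCompl.map (Algebra.TensorProduct.includeRight (R := B) (A := B')))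
  let ψ : N'.Ring →+* T' := ψ₄.comp (ψ₃.comp (ψ₂.comp ψ₁))
  have hψ : ψ.Flat := ((hψ₁.comp hψ₂).comp hψ₃).comp hψ₄
  let χ : T' →ₐ[B] K :=
    Algebra.TensorProduct.productMap ((Algebra.ofId B' K).restrictScalars B) (locSec N)
  have hχ : ∀ (b : B') (n : N.Loc), χ (b ⊗ₜ[B] n) = algebraMap B' K b * locSec N n :=
    fun b n => Algebra.TensorProduct.productMap_apply_tmul _ _ b n
  have hkey : ∀ t : B' ⊗[B] P.Ring, χ (ψ₄ (ψ₃ t)) = sf (eq t) := by
    intro t
    induction t using TensorProduct.induction_on with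
    | zero => simp
    | tmul b p =>
      have h1 : ψ₄ (ψ₃ (b ⊗ₜ[B] p)) = b ⊗ₜ[B] (algebraMap N.Ring N.Loc (eN.symm p)) := rfl
      rw [h1, hχ, locSec_algebraMap, hNsec, AlgEquiv.apply_symm_apply, hs]
      have h2 : b ⊗ₜ[B] p = b • ((1 : B') ⊗ₜ[B] p) := by
        rw [TensorProduct.smul_tmul', smul_eq_mul, mul_one]
      rw [h2, map_smul, map_smul, Algebra.smul_def]
    | add x y hx hy => rw [map_add, map_add, map_add, map_add, map_add, hx, hy]
  have hχψ : ∀ x : N'.Ring, χ (ψ x) = N'.sec x := by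
    intro x
    show χ (ψ₄ (ψ₃ (eq.symm (algebraMap N'.Ring Ef x)))) = _
    rw [hkey, AlgEquiv.apply_symm_apply, hsf]
  let incl : N.Loc →ₐ[B] T' := Algebra.TensorProduct.includeRight
  have hincl : Function.Surjective incl := by
    intro t
    induction t using TensorProduct.induction_on with
    | zero => exact ⟨0, map_zero _⟩
    | tmul b n =>
      obtain ⟨b₀, rfl⟩ := hsurj b
      refine ⟨b₀ • n, ?_⟩
      show (1 : B') ⊗ₜ[B] (b₀ • n) = (algebraMap B B' b₀) ⊗ₜ[B] n
      rw [TensorProduct.tmul_smul, TensorProduct.smul_tmul', Algebra.smul_def, mul_one]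
    | add x y hx hy =>
      obtain ⟨a, rfl⟩ := hx
      obtain ⟨b, rfl⟩ := hy
      exact ⟨a + b, map_add _ _ _⟩
  haveI : Nontrivial T' := RingHom.domain_nontrivial (χ : T' →+* K)
  haveI : IsLocalRing T' := IsLocalRing.of_surjective' (incl : N.Loc →+* T') hincl
  have hmax : ∀ t : T', t ∈ maximalIdeal T' ↔ χ t = 0 := by
    intro t
    rw [mem_maximalIdeal, mem_nonunits_iff]
    constructor
    · intro ht
      by_contra h0
      apply ht
      obtain ⟨n, rfl⟩ := hincl t
      have h1 : χ (incl n) = locSec N n := by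
        show χ ((1 : B') ⊗ₜ[B] n) = _
        rw [hχ, map_one, one_mul]
      rw [h1] at h0
      have h2 : IsUnit n := by
        by_contra hn
        exact h0 ((locSec_eq_zero_iff N n).mpr ((mem_maximalIdeal n).mpr hn))
      exact h2.map incl
    · intro h0 ht
      have := ht.map χ
      rw [h0] at this
      exact not_isUnit_zero this
  have hcomap : (maximalIdeal T').comap ψ = N'.q := by
    ext x
    rw [Ideal.mem_comap, hmax, hχψ, Nbhd.mem_q]
  have hle := encard_minimalPrimes_atPrime_le_of_flat ψ hψ N'.q hcomap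
  refine hle.trans (le_of_eq ?_)
  let J : Ideal B := RingHom.ker (algebraMap B B')
  let e₁ : (B ⧸ J) ≃ₐ[B] B' :=
    Ideal.quotientKerAlgEquivOfSurjective (f := Algebra.ofId B B') hsurj
  let e₂ : (B ⧸ J) ⊗[B] N.Loc ≃ₐ[B] T' :=
    Algebra.TensorProduct.congr e₁ (AlgEquiv.refl (R := B) (A₁ := N.Loc))
  let e₃ : (N.Loc ⧸ J.map (algebraMap B N.Loc)) ≃ₐ[B ⧸ J] (B ⧸ J) ⊗[B] N.Loc :=
    Algebra.TensorProduct.quotIdealMapEquivQuotTensor N.Loc J
  exact (encard_minimalPrimes_of_ringEquiv (e₃.toRingEquiv.trans e₂.toRingEquiv)).symm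

end Lift

end Groth.Agent.Lead.FibBr
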