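import Mathlib
import Groth.Prelude
import Groth.Agent.Lib.Lead.FibBr1
import Groth.Agent.Lib.Lead.CritFib19
import Groth.Agent.Lib.Helper3.FibStalk2

/-!
# Geometric branches of a fibre via étale neighbourhoods of the total space
-/

set_option autoImplicit false
set_option backward.isDefEq.respectTransparency.types false
set_option synthInstance.maxHeartbeats 400000
set_option linter.style.haveILetI false
set_option linter.unusedSectionVars false

universe u

open AlgebraicGeometry CategoryTheory Limits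

namespace Groth.Agent.Lead.FibBr

open Groth.Agent.Helper7.SHens IsLocalRing TensorProduct Groth.Agent.Lead.GUnib
  Groth.Agent.Lead.CritFib

variable {X S : Scheme.{u}}

theorem encard_fibre_components {U : Scheme.{u}} (h : U ⟶ S) (s : S) (ū : h.fiber s) (u : U)
    (hū : h.fiberι s ū = u) :
    {Z : Set ↑(h.fiber s) | Z ∈ irreducibleComponents ↑(h.fiber s) ∧
      ∃ u' ∈ Z, h.fiberι s u' = u}.encard =
      (minimalPrimes ((h.fiber s).presheaf.stalk ū)).encard := by
  subst hū
  rw [← encard_components_eq]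
  congr 1
  ext Z
  constructor
  · rintro ⟨hZ, u', hu', he⟩
    have : u' = ū := (h.fiberι s).isEmbedding.injective he
    exact ⟨hZ, this ▸ hu'⟩
  · rintro ⟨hZ, hu⟩
    exact ⟨hZ, ū, hu, rfl⟩

theorem exists_fibre_point {U : Scheme.{u}} (h : U ⟶ S) (s : S) (u : U) (hu : h u = s) :
    ∃ ū : h.fiber s, h.fiberι s ū = u := by
  have : u ∈ Set.range (h.fiberι s) := by
    rw [Scheme.Hom.range_fiberι]
    exact hu
  exact this

theorem part1 (f : X ⟶ S) {U : Scheme.{u}} (g : U ⟶ X) [Etale g] (u : U) :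
    {Z : Set ↑((g ≫ f).fiber (f (g u))) | Z ∈ irreducibleComponents ↑((g ≫ f).fiber (f (g u))) ∧
      ∃ u' ∈ Z, (g ≫ f).fiberι (f (g u)) u' = u}.encard ≤
      Brnch.numGeomBranchesAt (f.fiber (f (g u))) (f.asFiber (g u)) := by
  obtain ⟨ū, hū⟩ := exists_fibre_point (g ≫ f) (f (g u)) u rfl
  rw [encard_fibre_components (g ≫ f) (f (g u)) ū u hū, ← encard_components_eq,
    S9753_main (f.fiber (f (g u))) (f.asFiber (g u))]
  let g' := MoreMor.fiberMap g f (f (g u))
  have hg' : Etale g' :=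
    MorphismProperty.of_isPullback (isPullback_fiberMap g f (f (g u))) ‹Etale g›
  have hg'u : g' ū = f.asFiber (g u) := by
    apply (f.fiberι (f (g u))).isEmbedding.injective
    rw [f.fiberι_asFiber, ← Scheme.Hom.comp_apply, fiberMap_comp_fiberι, Scheme.Hom.comp_apply, hū]
  exact le_iSup₂_of_le _ g' (le_iSup₂_of_le ū ⟨hg', hg'u⟩ le_rfl)

theorem encard_term_eq (f : X ⟶ S) {U : Scheme.{u}} (g : U ⟶ X) (u : U) (x : X) (hgu : g u = x)
    {T : Type u} [CommRing T] (J : Ideal (X.presheaf.stalk x))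
    (hJ : J = (maximalIdeal (S.presheaf.stalk (f x))).map (f.stalkMap x).hom)
    (ψ : X.presheaf.stalk x →+* T) (e : U.presheaf.stalk u ≃+* T)
    (hcompat : ∀ (W : X.Opens) (hx : x ∈ W) (hgu : g u ∈ W) (a : Γ(X, W)),
      e (g.stalkMap u (X.presheaf.germ W (g u) hgu a)) = ψ (X.presheaf.germ W x hx a)) :
    {Z : Set ↑((g ≫ f).fiber (f x)) | Z ∈ irreducibleComponents ↑((g ≫ f).fiber (f x)) ∧
      ∃ u' ∈ Z, (g ≫ f).fiberι (f x) u' = u}.encard = (minimalPrimes (T ⧸ J.map ψ)).encard := by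
  subst hgu
  have hψ : ψ = (e : _ →+* T).comp (g.stalkMap u).hom := by
    ext b
    obtain ⟨W, hW, a, rfl⟩ := X.presheaf.germ_exist b
    exact (hcompat W hW hW a).symm
  obtain ⟨ū, hū⟩ := exists_fibre_point (g ≫ f) (f (g u)) u rfl
  rw [encard_fibre_components (g ≫ f) (f (g u)) ū u hū]
  obtain ⟨γu, hγu, hku⟩ :=
    Groth.Agent.Helper3.FibStalk.exists_fibre_presentation_aux (g ≫ f) (f (g u)) ū u hū
  let e₁ : (U.presheaf.stalk u ⧸ RingHom.ker γu) ≃+* ((g ≫ f).fiber (f (g u))).presheaf.stalk ū :=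
    RingHom.quotientKerEquivOfSurjective hγu
  have hmap : J.map ψ = (RingHom.ker γu).map (e : U.presheaf.stalk u →+* T) := by
    rw [hku, hJ, hψ, ← Ideal.map_map, Ideal.map_map (f.stalkMap (g u)).hom]
    congr 2
    rw [Scheme.Hom.stalkMap_comp]
    rfl
  let e₂ : (U.presheaf.stalk u ⧸ RingHom.ker γu) ≃+* T ⧸ J.map ψ :=
    Ideal.quotientEquiv _ _ e hmap
  exact encard_minimalPrimes_of_ringEquiv (e₁.symm.trans e₂)

theorem part2 (f : X ⟶ S) (x : X) :
    Brnch.numGeomBranchesAt (f.fiber (f x)) (f.asFiber x) ≤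
      ⨆ (U : Scheme.{u}) (g : U ⟶ X) (u : U) (_ : Etale g ∧ g u = x),
      {Z : Set ↑((g ≫ f).fiber (f x)) | Z ∈ irreducibleComponents ↑((g ≫ f).fiber (f x)) ∧
        ∃ u' ∈ Z, (g ≫ f).fiberι (f x) u' = u}.encard := by
  obtain ⟨γ, hγ, hk⟩ := Groth.Agent.Helper3.FibStalk.exists_fibre_presentation f x
  let B := X.presheaf.stalk x
  let B' := (f.fiber (f x)).presheaf.stalk (f.asFiber x)
  let K := SeparableClosure (ResidueField B')
  letI : Algebra B B' := γ.toAlgebra
  letI : Algebra B K := ((algebraMap B' K).comp γ).toAlgebra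
  haveI : IsScalarTower B B' K := IsScalarTower.of_algebraMap_eq' rfl
  haveI hSH : Hensel.IsStrictHenselization B' (G B' K) := isStrictHenselization_G B' K
  have h1 : Brnch.numGeomBranchesAt (f.fiber (f x)) (f.asFiber x) =
      (minimalPrimes (G B' K)).encard :=
    (Groth.Agent.Helper8.HensGU.card_minimalPrimes_strictHenselization B' (G B' K)).symm
  rw [h1, encard_minimalPrimes_G_eq_iSup]
  apply iSup_le
  intro N'
  obtain ⟨N, hN⟩ := exists_nbhd_lift (B := B) (B' := B') (K := K) hγ N'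
  have hK' : RingHom.ker (algebraMap B' K) = maximalIdeal B' := by
    rw [IsScalarTower.algebraMap_eq B' (ResidueField B') K, ← RingHom.comap_ker,
      (RingHom.injective_iff_ker_eq_bot _).mp (algebraMap (ResidueField B') K).injective,
      ← RingHom.ker_eq_comap_bot]
    exact IsLocalRing.ker_residue
  haveI : IsLocalHom γ := IsLocalHom.of_surjective γ hγ
  have hK : RingHom.ker (algebraMap B K) = maximalIdeal B := by
    show RingHom.ker ((algebraMap B' K).comp γ) = _
    rw [← RingHom.comap_ker, hK']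
    exact IsLocalRing.maximalIdeal_comap γ
  obtain ⟨U, g, u, hg, hgu, e, hcompat⟩ := exists_etale_of_stage' X x hK N
  refine le_trans ?_ (le_iSup₂_of_le U g (le_iSup₂_of_le u ⟨hg, hgu⟩ le_rfl))
  refine hN.trans (le_of_eq ?_)
  exact (encard_term_eq f g u x hgu (RingHom.ker (algebraMap B B')) hk
    (algebraMap B N.Loc) e hcompat).symm

theorem S9754_main (f : X ⟶ S) (x : X) :
    Brnch.numGeomBranchesAt (f.fiber (f x)) (f.asFiber x) =
      ⨆ (U : Scheme.{u}) (g : U ⟶ X) (u : U) (_ : Etale g ∧ g u = x),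
      {Z : Set ↑((g ≫ f).fiber (f x)) | Z ∈ irreducibleComponents ↑((g ≫ f).fiber (f x)) ∧
        ∃ u' ∈ Z, (g ≫ f).fiberι (f x) u' = u}.encard := by
  apply le_antisymm (part2 f x)
  apply iSup_le
  intro U
  apply iSup_le
  intro g
  apply iSup_le
  intro u
  apply iSup_le
  rintro ⟨hg, rfl⟩
  haveI := hg
  exact part1 f g u

end Groth.Agent.Lead.FibBr
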