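import Mathlib
import Groth.Prelude
import Groth.Agent.Lib.Lead.GUnib18
import Groth.Agent.Lib.Lead.GUnib16b

/-!
# Elementary étale neighbourhoods from stages, with compatibility
-/

set_option autoImplicit false
set_option backward.isDefEq.respectTransparency.types false
set_option synthInstance.maxHeartbeats 400000
set_option linter.style.haveILetI false
set_option linter.unusedSectionVars false

universe u

open AlgebraicGeometry CategoryTheory Limits

namespace Groth.Agent.Lead.GUnib

open Groth.Agent.Helper7.SHens IsLocalRing TensorProduct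

section Spread

variable {R₀ : Type u} [CommRing R₀] (p₀ : Ideal R₀) [p₀.IsPrime]
  (A : Type u) [CommRing A] [IsLocalRing A] [Algebra R₀ A] [IsLocalization.AtPrime A p₀]
  (E : Type u) [CommRing E] [Algebra A E] [Algebra.Etale A E]
  (Q : Ideal E) [Q.IsPrime]

set_option backward.isDefEq.respectTransparency false in
theorem exists_etale_model_sec'' (hQ : Q.comap (algebraMap A E) = maximalIdeal A)
    (E₀ : Type u) [CommRing E₀] [Algebra R₀ E₀] [Algebra.FinitePresentation R₀ E₀]
    (eT : A ⊗[R₀] E₀ ≃ₐ[A] E)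
    {K : Type u} [Field K] [Algebra A K] (hAK : Function.Surjective (algebraMap A K))
    (sec : E →ₐ[A] K) (hker : ∀ x : E, sec x = 0 ↔ x ∈ Q) :
    ∃ (B : Type u) (_ : CommRing B) (_ : Algebra R₀ B) (_ : Algebra.Etale R₀ B) (u₁ : Ideal B)
      (_ : u₁.IsPrime) (_ : u₁.comap (algebraMap R₀ B) = p₀),
        (∃ e : Localization.AtPrime u₁ ≃+* Localization.AtPrime Q,
          ∀ r : R₀, e (algebraMap B (Localization.AtPrime u₁) (algebraMap R₀ B r)) =
            algebraMap E (Localization.AtPrime Q) (algebraMap A E (algebraMap R₀ A r))) ∧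
        ResSurj (Localization.localRingHom (u₁.comap (algebraMap R₀ B)) u₁
          (algebraMap R₀ B) rfl) := by
  letI : Algebra R₀ E := ((algebraMap A E).comp (algebraMap R₀ A)).toAlgebra
  haveI : IsScalarTower R₀ A E := IsScalarTower.of_algebraMap_eq' rfl
  let φ : E₀ →+* E := eT.toRingEquiv.toRingHom.comp
    (Algebra.TensorProduct.includeRight (R := R₀) (A := A) (B := E₀)).toRingHom
  letI algE : Algebra E₀ E := φ.toAlgebra
  haveI : IsScalarTower R₀ E₀ E := by
    apply IsScalarTower.of_algebraMap_eq (R := R₀) (S := E₀) (A := E)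
    intro r
    show algebraMap R₀ E r = eT ((1 : A) ⊗ₜ[R₀] (algebraMap R₀ E₀ r))
    have h1 : ((1 : A) ⊗ₜ[R₀] (algebraMap R₀ E₀ r)) =
        algebraMap A (A ⊗[R₀] E₀) (algebraMap R₀ A r) := by
      calc ((1 : A) ⊗ₜ[R₀] (algebraMap R₀ E₀ r))
          = (1 : A) ⊗ₜ[R₀] (r • (1 : E₀)) := by
            rw [Algebra.algebraMap_eq_smul_one (R := R₀) (A := E₀) r]
        _ = (r • (1 : A)) ⊗ₜ[R₀] (1 : E₀) := (TensorProduct.smul_tmul r 1 1).symm
        _ = (algebraMap R₀ A r) ⊗ₜ[R₀] (1 : E₀) := by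
            rw [← Algebra.algebraMap_eq_smul_one (R := R₀) (A := A) r]
        _ = algebraMap A (A ⊗[R₀] E₀) (algebraMap R₀ A r) := by
            rw [Algebra.TensorProduct.algebraMap_apply]; rfl
    rw [h1, eT.commutes, ← IsScalarTower.algebraMap_apply]
  letI : Algebra E₀ (A ⊗[R₀] E₀) := Algebra.TensorProduct.rightAlgebra
  haveI hloc : IsLocalization (Algebra.algebraMapSubmonoid E₀ p₀.primeCompl) (A ⊗[R₀] E₀) :=
    IsLocalization.tensorRight A p₀.primeCompl
  let eT' : (A ⊗[R₀] E₀) ≃ₐ[E₀] E := AlgEquiv.ofRingEquiv (f := eT.toRingEquiv) (fun x => rfl)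
  haveI hlocE : IsLocalization (Algebra.algebraMapSubmonoid E₀ p₀.primeCompl) E :=
    IsLocalization.isLocalization_of_algEquiv (S := A ⊗[R₀] E₀) _ eT'
  let u₀ : Ideal E₀ := Q.comap (algebraMap E₀ E)
  haveI hu₀ : u₀.IsPrime := Ideal.IsPrime.comap _
  let T := Localization.AtPrime Q
  haveI : IsScalarTower E₀ E T := inferInstance
  haveI hT : IsLocalization.AtPrime T u₀ :=
    IsLocalization.isLocalization_isLocalization_atPrime_isLocalization
      (Algebra.algebraMapSubmonoid E₀ p₀.primeCompl) T Q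
  let e₀ : Localization.AtPrime u₀ ≃ₐ[E₀] T := IsLocalization.algEquiv u₀.primeCompl _ _
  haveI : IsScalarTower R₀ E T := inferInstance
  haveI : IsScalarTower A E T := inferInstance
  haveI : IsScalarTower R₀ A T := by
    apply IsScalarTower.of_algebraMap_eq (R := R₀) (S := A) (A := T)
    intro r
    rw [IsScalarTower.algebraMap_apply R₀ E T, IsScalarTower.algebraMap_apply A E T,
      ← IsScalarTower.algebraMap_apply R₀ A E]
  haveI : IsScalarTower R₀ E₀ T := by
    apply IsScalarTower.of_algebraMap_eq (R := R₀) (S := E₀) (A := T)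
    intro r
    rw [IsScalarTower.algebraMap_apply R₀ E T, IsScalarTower.algebraMap_apply E₀ E T,
      ← IsScalarTower.algebraMap_apply R₀ E₀ E]
  haveI : Algebra.FormallyEtale R₀ A := Algebra.FormallyEtale.of_isLocalization p₀.primeCompl
  haveI : Algebra.FormallyEtale E T := Algebra.FormallyEtale.of_isLocalization Q.primeCompl
  haveI : Algebra.FormallyEtale A T := Algebra.FormallyEtale.comp A E T
  haveI : Algebra.FormallyEtale R₀ T := Algebra.FormallyEtale.comp R₀ A T
  haveI : Algebra.IsEtaleAt R₀ u₀ :=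
    Algebra.FormallyEtale.of_equiv (e₀.symm.restrictScalars R₀)
  obtain ⟨g₀, hg₀, hEt⟩ := Algebra.exists_etale_of_isEtaleAt (R := R₀) u₀
  let B := Localization.Away g₀
  have hdisj : Disjoint (Submonoid.powers g₀ : Set E₀) (u₀ : Set E₀) :=
    (Ideal.disjoint_powers_iff_notMem_of_isPrime _).mpr hg₀
  let u₁ : Ideal B := u₀.map (algebraMap E₀ B)
  haveI hu₁ : u₁.IsPrime := IsLocalization.isPrime_of_isPrime_disjoint (.powers g₀) _ _ hu₀ hdisj
  have hu₁c : u₁.comap (algebraMap E₀ B) = u₀ :=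
    IsLocalization.comap_map_of_isPrime_disjoint (.powers g₀) B hu₀ hdisj
  have hcomap : u₁.comap (algebraMap R₀ B) = p₀ := by
    rw [IsScalarTower.algebraMap_eq R₀ E₀ B, ← Ideal.comap_comap, hu₁c]
    show (Q.comap (algebraMap E₀ E)).comap (algebraMap R₀ E₀) = p₀
    rw [Ideal.comap_comap, ← IsScalarTower.algebraMap_eq R₀ E₀ E,
      IsScalarTower.algebraMap_eq R₀ A E, ← Ideal.comap_comap, hQ]
    exact IsLocalization.AtPrime.comap_maximalIdeal A p₀
  refine ⟨B, inferInstance, inferInstance, hEt, u₁, hu₁, hcomap, ?_, ?_⟩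
  · let T' := Localization.AtPrime u₁
    haveI h1 : IsLocalization.AtPrime T' (u₁.comap (algebraMap E₀ B)) :=
      IsLocalization.isLocalization_isLocalization_atPrime_isLocalization (Submonoid.powers g₀) T' u₁
    have key : ∀ (q : Ideal E₀) [q.IsPrime], q = u₀ → IsLocalization.AtPrime T' q →
        IsLocalization.AtPrime T' u₀ := by
      rintro q _ rfl h
      exact h
    haveI : IsLocalization.AtPrime T' u₀ := key _ hu₁c h1
    let e₁ : T' ≃ₐ[E₀] Localization.AtPrime u₀ := IsLocalization.algEquiv u₀.primeCompl _ _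
    refine ⟨e₁.toRingEquiv.trans e₀.toRingEquiv, fun r => ?_⟩
    show e₀ (e₁ (algebraMap B T' (algebraMap R₀ B r))) = _
    rw [IsScalarTower.algebraMap_apply R₀ E₀ B, ← IsScalarTower.algebraMap_apply E₀ B T',
      e₁.commutes, e₀.commutes, IsScalarTower.algebraMap_apply E₀ E T,
      ← IsScalarTower.algebraMap_apply R₀ E₀ E]
    rfl

  · -- the residue condition
    have hunit : IsUnit (algebraMap E₀ T g₀) :=
      IsLocalization.map_units T (⟨g₀, hg₀⟩ : u₀.primeCompl)
    let ψ : B →+* T := IsLocalization.Away.lift g₀ hunit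
    have hψ : ∀ z : E₀, ψ (algebraMap E₀ B z) = algebraMap E₀ T z :=
      fun z => IsLocalization.Away.lift_eq g₀ hunit z
    have hsecunit : ∀ y : Q.primeCompl, IsUnit (sec.toRingHom y) := by
      intro y
      rw [isUnit_iff_ne_zero]
      intro h0
      exact y.2 ((hker y).mp h0)
    let sec' : T →+* K := IsLocalization.lift (M := Q.primeCompl) (g := sec.toRingHom) hsecunit
    have hsec' : ∀ z : E, sec' (algebraMap E T z) = sec z := fun z => IsLocalization.lift_eq _ z
    let χ : B →+* K := sec'.comp ψ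
    have hχE₀ : ∀ z : E₀, χ (algebraMap E₀ B z) = sec (algebraMap E₀ E z) := by
      intro z
      show sec' (ψ (algebraMap E₀ B z)) = _
      rw [hψ, IsScalarTower.algebraMap_apply E₀ E T, hsec']
    have hχR₀ : ∀ r : R₀, χ (algebraMap R₀ B r) = algebraMap A K (algebraMap R₀ A r) := by
      intro r
      rw [IsScalarTower.algebraMap_apply R₀ E₀ B, hχE₀, ← IsScalarTower.algebraMap_apply R₀ E₀ E,
        IsScalarTower.algebraMap_apply R₀ A E, AlgHom.commutes]
    have hχker : RingHom.ker χ = u₁ := by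
      haveI : (RingHom.ker χ).IsPrime := RingHom.ker_isPrime χ
      have h1 : (RingHom.ker χ).comap (algebraMap E₀ B) = u₀ := by
        ext z
        rw [Ideal.mem_comap, RingHom.mem_ker, hχE₀, hker]
        rfl
      calc RingHom.ker χ
          = ((RingHom.ker χ).comap (algebraMap E₀ B)).map (algebraMap E₀ B) :=
            (IsLocalization.map_comap (Submonoid.powers g₀) B _).symm
        _ = u₁ := by rw [h1]
    refine resSurj_localRingHom_of_section u₁ (u₁.comap (algebraMap R₀ B)) rfl χ hχker ?_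
    intro c
    obtain ⟨a, rfl⟩ := hAK c
    obtain ⟨r, s, rfl⟩ := IsLocalization.exists_mk'_eq p₀.primeCompl a
    refine ⟨r, s.1, by rw [hcomap]; exact s.2, ?_⟩
    rw [hχR₀, hχR₀, ← map_mul, IsLocalization.mk'_spec']

end Spread

section SchRes

variable {U X : Scheme.{u}}

theorem exists_etaleNbhd_of_stage' (X : Scheme.{u}) (x : X)
    {K : Type u} [Field K] [Algebra (X.presheaf.stalk x) K]
    (hK : RingHom.ker (algebraMap (X.presheaf.stalk x) K) = maximalIdeal (X.presheaf.stalk x))
    (hAK : Function.Surjective (algebraMap (X.presheaf.stalk x) K))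
    (N : Nbhd (X.presheaf.stalk x) K) :
    ∃ (U : Scheme.{u}) (g : U ⟶ X) (u : U), Hens2.IsEtaleNbhd g u x ∧
      ∃ e : U.presheaf.stalk u ≃+* N.Loc,
        ∀ (W : X.Opens) (hx : x ∈ W) (hgu : g u ∈ W) (a : Γ(X, W)),
          e (g.stalkMap u (X.presheaf.germ W (g u) hgu a)) =
            algebraMap (X.presheaf.stalk x) N.Loc (X.presheaf.germ W x hx a) := by
  let A := X.presheaf.stalk x
  let E := N.Ring
  have hQ : N.q.comap (algebraMap A E) = maximalIdeal A := by
    rw [← hK]
    ext a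
    rw [Ideal.mem_comap, Nbhd.mem_q, RingHom.mem_ker, AlgHom.commutes]
  let P := Algebra.Presentation.ofFinitePresentation A E
  obtain ⟨V, hV, hxV, hS⟩ := exists_affine_germ_range X x P.coeffs P.finite_coeffs
  let R₀ := Γ(X, V)
  letI := X.presheaf.algebra_section_stalk ⟨x, hxV⟩
  haveI := hV.isLocalization_stalk ⟨x, hxV⟩
  let p₀ := (hV.primeIdealOf ⟨x, hxV⟩).asIdeal
  letI : Algebra R₀ E := ((algebraMap A E).comp (algebraMap R₀ A)).toAlgebra
  haveI : IsScalarTower R₀ A E := IsScalarTower.of_algebraMap_eq' rfl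
  haveI : P.HasCoeffs R₀ := ⟨hS⟩
  let E₀ := P.ModelOfHasCoeffs R₀
  let eT : A ⊗[R₀] E₀ ≃ₐ[A] E := P.tensorModelOfHasCoeffsEquiv R₀
  obtain ⟨B, _, _, hEt, u₁, hu₁p, hu₁, ⟨e, he⟩, hres⟩ :=
    exists_etale_model_sec'' p₀ A E N.q hQ E₀ eT hAK N.sec
      (fun _ => Nbhd.mem_q.symm)
  let φ : CommRingCat.of R₀ ⟶ CommRingCat.of B := CommRingCat.ofHom (algebraMap R₀ B)
  let g : Spec (CommRingCat.of B) ⟶ X := Spec.map φ ≫ hV.fromSpec
  let u : Spec (CommRingCat.of B) := (⟨u₁, hu₁p⟩ : PrimeSpectrum B)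
  haveI : Etale (Spec.map φ) := by
    rw [HasRingHomProperty.Spec_iff (P := @Etale)]
    exact RingHom.etale_algebraMap.mpr hEt
  have hgu : g u = x := by
    have h1 : Spec.map φ u = hV.primeIdealOf ⟨x, hxV⟩ := PrimeSpectrum.ext hu₁
    show hV.fromSpec (Spec.map φ u) = x
    rw [h1, hV.fromSpec_primeIdealOf]
  refine ⟨Spec (CommRingCat.of B), g, u, ⟨inferInstance, hgu, ?_⟩, ?_⟩
  · rw [bijective_residueFieldMap_iff]
    rw [resSurj_stalkMap_comp_iff (Spec.map φ) hV.fromSpec u]
    exact resSurj_of_arrowIso (Scheme.arrowStalkMapSpecIso φ u).symm hres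
  · let k : Algebra B ((Spec (CommRingCat.of B)).presheaf.stalk u) :=
      StructureSheaf.stalkAlgebra B u
    haveI : IsLocalization.AtPrime ((Spec (CommRingCat.of B)).presheaf.stalk u) u₁ :=
      StructureSheaf.IsLocalization.to_stalk (CommRingCat.of B) u
    let e₂ : (Spec (CommRingCat.of B)).presheaf.stalk u ≃ₐ[B] Localization.AtPrime u₁ :=
      IsLocalization.algEquiv u₁.primeCompl ((Spec (CommRingCat.of B)).presheaf.stalk u)
        (Localization.AtPrime u₁)
    let e' : (Spec (CommRingCat.of B)).presheaf.stalk u ≃+* N.Loc := e₂.toRingEquiv.trans e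
    refine ⟨e', ?_⟩
    have hgV : g u ∈ V := hgu ▸ hxV
    refine germ_compat hgu ((e' : _ →+* N.Loc).comp (g.stalkMap u).hom)
      (algebraMap (X.presheaf.stalk x) N.Loc) V hV hxV hgV ?_
    intro r
    show e (e₂ (g.stalkMap u (X.presheaf.germ V (g u) hgV r))) = _
    have h2 : g.stalkMap u (X.presheaf.germ V (g u) hgV r) =
        algebraMap B ((Spec (CommRingCat.of B)).presheaf.stalk u) (algebraMap R₀ B r) :=
      stalkMap_germ_SpecMap_fromSpec hV φ u hgV r
    rw [h2, e₂.commutes, he r]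
    show algebraMap E N.Loc (algebraMap A E (algebraMap R₀ A r)) =
      algebraMap A N.Loc (algebraMap R₀ A r)
    rw [← IsScalarTower.algebraMap_apply A E N.Loc]

end SchRes

end Groth.Agent.Lead.GUnib
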