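import Mathlib
import Groth.Prelude
import Groth.Agent.Lib.Lead.FibBr2
import Groth.Agent.Lib.Lead.GUnib18b
import Groth.Agent.Lib.Lead.GUnib19

/-!
# Branches of a fibre via elementary étale neighbourhoods of the total space
-/

set_option autoImplicit false
set_option backward.isDefEq.respectTransparency.types false
set_option synthInstance.maxHeartbeats 400000
set_option linter.style.haveILetI false
set_option linter.unusedSectionVars false

universe u

open AlgebraicGeometry CategoryTheory Limits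

namespace Groth.Agent.Lead.FibBr

open Groth.Agent.Helper7.SHens IsLocalRing TensorProduct Groth.Agent.Lead.GUnib
  Groth.Agent.Lead.CritFib

variable {X S : Scheme.{u}}

theorem resSurj_stalkMap_comp {U Y X : Scheme.{u}} (a : U ⟶ Y) (j : Y ⟶ X) (u : U)
    (hj : ResSurj (j.stalkMap (a u)).hom) (ha : Function.Surjective (a.stalkMap u).hom) :
    ResSurj ((a ≫ j).stalkMap u).hom := by
  have h1 : (a ≫ j).stalkMap u = j.stalkMap (a u) ≫ a.stalkMap u := Scheme.Hom.stalkMap_comp a j u
  rw [h1]
  intro y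
  obtain ⟨y₀, rfl⟩ := ha y
  obtain ⟨c, hc⟩ := hj y₀
  refine ⟨c, ?_⟩
  show (a.stalkMap u).hom ((j.stalkMap (a u)).hom c) - (a.stalkMap u).hom y₀ ∈ _
  rw [← map_sub]
  exact IsLocalRing.map_maximalIdeal_le (a.stalkMap u).hom (Ideal.mem_map_of_mem _ hc)

theorem resSurj_of_stalkMap_comp {U Y X : Scheme.{u}} (a : U ⟶ Y) (j : Y ⟶ X) (u : U)
    (h : ResSurj ((a ≫ j).stalkMap u).hom) : ResSurj (a.stalkMap u).hom := by
  have h1 : (a ≫ j).stalkMap u = j.stalkMap (a u) ≫ a.stalkMap u := Scheme.Hom.stalkMap_comp a j u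
  rw [h1] at h
  exact ResSurj.of_comp (k := (j.stalkMap (a u)).hom) h

theorem part1' (f : X ⟶ S) {U : Scheme.{u}} (g : U ⟶ X) (u : U)
    (hg : Hens2.IsEtaleNbhd g u (g u)) :
    {Z : Set ↑((g ≫ f).fiber (f (g u))) | Z ∈ irreducibleComponents ↑((g ≫ f).fiber (f (g u))) ∧
      ∃ u' ∈ Z, (g ≫ f).fiberι (f (g u)) u' = u}.encard ≤
      Brnch.numBranchesAt (f.fiber (f (g u))) (f.asFiber (g u)) := by
  haveI := hg.etale
  obtain ⟨ū, hū⟩ := exists_fibre_point (g ≫ f) (f (g u)) u rfl
  rw [encard_fibre_components (g ≫ f) (f (g u)) ū u hū, ← encard_components_eq,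
    S9752_main (f.fiber (f (g u))) (f.asFiber (g u))]
  let g' := MoreMor.fiberMap g f (f (g u))
  have hg' : Etale g' :=
    MorphismProperty.of_isPullback (isPullback_fiberMap g f (f (g u))) ‹Etale g›
  have hg'u : g' ū = f.asFiber (g u) := by
    apply (f.fiberι (f (g u))).isEmbedding.injective
    rw [f.fiberι_asFiber, ← Scheme.Hom.comp_apply, fiberMap_comp_fiberι, Scheme.Hom.comp_apply, hū]
  have hres : Function.Bijective (g'.residueFieldMap ū) := by
    rw [bijective_residueFieldMap_iff]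
    have hRS : ResSurj (g.stalkMap u).hom :=
      (bijective_residueFieldMap_iff g u).mp hg.residue_bijective
    have h1 : ResSurj ((((g ≫ f).fiberι (f (g u))) ≫ g).stalkMap ū).hom := by
      apply resSurj_stalkMap_comp
      · have key : ∀ (u₀ : U), u₀ = u → ResSurj (g.stalkMap u₀).hom := by
          rintro u₀ rfl
          exact hRS
        exact key _ hū
      · exact ((g ≫ f).fiberι (f (g u))).stalkMap_surjective ū
    rw [← fiberMap_comp_fiberι] at h1
    exact resSurj_of_stalkMap_comp g' (f.fiberι (f (g u))) ū h1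
  exact le_iSup₂_of_le _ g' (le_iSup₂_of_le ū ⟨hg', hg'u, hres⟩ le_rfl)

theorem part2' (f : X ⟶ S) (x : X) :
    Brnch.numBranchesAt (f.fiber (f x)) (f.asFiber x) ≤
      ⨆ (U : Scheme.{u}) (g : U ⟶ X) (u : U) (_ : Hens2.IsEtaleNbhd g u x),
      {Z : Set ↑((g ≫ f).fiber (f x)) | Z ∈ irreducibleComponents ↑((g ≫ f).fiber (f x)) ∧
        ∃ u' ∈ Z, (g ≫ f).fiberι (f x) u' = u}.encard := by
  obtain ⟨γ, hγ, hk⟩ := Groth.Agent.Helper3.FibStalk.exists_fibre_presentation f x
  let B := X.presheaf.stalk x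
  let B' := (f.fiber (f x)).presheaf.stalk (f.asFiber x)
  let K := ResidueField B'
  letI : Algebra B B' := γ.toAlgebra
  letI : Algebra B K := ((algebraMap B' K).comp γ).toAlgebra
  haveI : IsScalarTower B B' K := IsScalarTower.of_algebraMap_eq' rfl
  haveI hH : Hensel.IsHenselization B' (G B' K) := isHenselization_HModel B'
  have h1 : Brnch.numBranchesAt (f.fiber (f x)) (f.asFiber x) =
      (minimalPrimes (G B' K)).encard :=
    (Groth.Agent.Helper8.HensGU.card_minimalPrimes_henselization B' (G B' K)).symm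
  rw [h1, encard_minimalPrimes_G_eq_iSup]
  apply iSup_le
  intro N'
  obtain ⟨N, hN⟩ := exists_nbhd_lift (B := B) (B' := B') (K := K) hγ N'
  have hK' : RingHom.ker (algebraMap B' K) = maximalIdeal B' := IsLocalRing.ker_residue
  haveI : IsLocalHom γ := IsLocalHom.of_surjective γ hγ
  have hK : RingHom.ker (algebraMap B K) = maximalIdeal B := by
    show RingHom.ker ((algebraMap B' K).comp γ) = _
    rw [← RingHom.comap_ker, hK']
    exact IsLocalRing.maximalIdeal_comap γ
  have hAK : Function.Surjective (algebraMap B K) := by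
    show Function.Surjective ((algebraMap B' K).comp γ)
    exact IsLocalRing.residue_surjective.comp hγ
  obtain ⟨U, g, u, hg, e, hcompat⟩ := exists_etaleNbhd_of_stage' X x hK hAK N
  refine le_trans ?_ (le_iSup₂_of_le U g (le_iSup₂_of_le u hg le_rfl))
  refine hN.trans (le_of_eq ?_)
  exact (encard_term_eq f g u x hg.base_eq (RingHom.ker (algebraMap B B')) hk
    (algebraMap B N.Loc) e hcompat).symm

theorem S9755_main (f : X ⟶ S) (x : X) :
    Brnch.numBranchesAt (f.fiber (f x)) (f.asFiber x) =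
      ⨆ (U : Scheme.{u}) (g : U ⟶ X) (u : U) (_ : Hens2.IsEtaleNbhd g u x),
      {Z : Set ↑((g ≫ f).fiber (f x)) | Z ∈ irreducibleComponents ↑((g ≫ f).fiber (f x)) ∧
        ∃ u' ∈ Z, (g ≫ f).fiberι (f x) u' = u}.encard := by
  apply le_antisymm (part2' f x)
  apply iSup_le
  intro U
  apply iSup_le
  intro g
  apply iSup_le
  intro u
  apply iSup_le
  intro hg
  obtain rfl : g u = x := hg.base_eq
  exact part1' f g u hg

end Groth.Agent.Lead.FibBr
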