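import Mathlib
import Groth.Prelude
import Groth.Agent.Lib.Lead.CMQF14
import Groth.Agent.Lib.Lead.CMAt2

/-!
# S9165, part 1: the fibre dimension of a flat finitely presented algebra with Cohen–Macaulay
fibres is locally constant on the spectrum (lead)
-/

set_option autoImplicit false
set_option backward.isDefEq.respectTransparency.types false
set_option synthInstance.maxHeartbeats 400000
set_option maxHeartbeats 1000000
set_option linter.style.haveILetI false
set_option linter.unusedSectionVars false
universe u

namespace Groth.Agent.Lead.FibDec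

open AlgebraicGeometry CategoryTheory

variable (R S : Type u) [CommRing R] [CommRing S] [Algebra R S]

/-- the morphism of spectra -/
noncomputable abbrev sp : Spec (CommRingCat.of S) ⟶ Spec (CommRingCat.of R) :=
  Spec.map (CommRingCat.ofHom (algebraMap R S))

instance flat_sp [Module.Flat R S] : Flat (sp R S) :=
  (HasRingHomProperty.Spec_iff (P := @Flat)).mpr (RingHom.flat_algebraMap_iff.mpr inferInstance)

instance lfp_sp [Algebra.FinitePresentation R S] : LocallyOfFinitePresentation (sp R S) := by
  rw [HasRingHomProperty.Spec_iff (P := @LocallyOfFinitePresentation)]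
  rw [CommRingCat.hom_ofHom, RingHom.finitePresentation_algebraMap]
  infer_instance

theorem isCMAt_sp [Module.Flat R S]
    (hCM : ∀ p : PrimeSpectrum R, LocCoh.IsCohenMacaulayRing (p.asIdeal.Fiber S))
    (x : Spec (CommRingCat.of S)) : MoreMor.IsCMAt (sp R S) x := by
  refine ⟨Flat.stalkMap (sp R S) x, ?_⟩
  let p : PrimeSpectrum R := (sp R S) x
  let e : (sp R S).fiber p ≅ Spec (CommRingCat.of (p.asIdeal.Fiber S)) :=
    Comma.leftIso (Spec.fiberToSpecResidueFieldIso R S p)
  exact Groth.Agent.Lead.CMAt.cm_stalk_of_iso_spec (p.asIdeal.Fiber S) (hCM p) e _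

theorem isLocallyConstant_fibreDimAt [Module.Flat R S] [Algebra.FinitePresentation R S]
    (hCM : ∀ p : PrimeSpectrum R, LocCoh.IsCohenMacaulayRing (p.asIdeal.Fiber S)) :
    IsLocallyConstant (fun x : Spec (CommRingCat.of S) => FlatMor.fibreDimAt (sp R S) x) :=
  Groth.Agent.Lead.CMQF.S9374_main (sp R S) (isCMAt_sp R S hCM)

end Groth.Agent.Lead.FibDec
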