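import Mathlib
import Groth.Prelude
import Groth.Agent.Lib.Lead.FibCons3
import Groth.Agent.Lib.Helper7.ConsMor.Cons

set_option autoImplicit false
set_option backward.isDefEq.respectTransparency.types false
set_option synthInstance.maxHeartbeats 400000
set_option linter.style.haveILetI false
set_option linter.unusedSectionVars false
universe u

open CategoryTheory CategoryTheory.Limits AlgebraicGeometry IsLocalRing TensorProduct Topology

namespace Groth.Agent.Lead.FibCons

open Groth.Agent.Lead.CMCons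

/-- A "fibrewise locus", constructible version: a subset `L f` of the source of every morphism,
compatible with base change and with open immersions into the source, and constructible for flat
morphisms of finite type between affine schemes with Noetherian integral target. -/
structure FibLocusC (L : ∀ {X S : Scheme.{u}} (_ : X ⟶ S), Set X) : Prop where
  baseChange : ∀ {X Y X' Y' : Scheme.{u}} (f : X ⟶ Y) [LocallyOfFinitePresentation f]
    (g : Y' ⟶ Y) (f' : X' ⟶ Y') (g' : X' ⟶ X), IsPullback g' f' f g → L f' = g' ⁻¹' L f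
  openImm : ∀ {P Z S : Scheme.{u}} (k : P ⟶ Z) [IsOpenImmersion k] (g : Z ⟶ S),
    L (k ≫ g) = k ⁻¹' L g
  isCons : ∀ (A B : Type u) [CommRing A] [CommRing B] [Algebra A B] [IsNoetherianRing A]
    [IsDomain A] [Algebra.FiniteType A B] [Module.Flat A B],
    IsConstructible (L (Spec.map (CommRingCat.ofHom (algebraMap A B))))

variable {L : ∀ {X S : Scheme.{u}} (_ : X ⟶ S), Set X}

theorem FibLocusC.comp_mono (hL : FibLocusC L) {U V S : Scheme.{u}} (a : U ⟶ V) (i : V ⟶ S)
    [Mono i] [LocallyOfFinitePresentation (a ≫ i)] : L a = L (a ≫ i) := by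
  have := hL.baseChange (a ≫ i) i a (𝟙 U) (isPullback_id_of_mono a i)
  rw [this]
  rfl

set_option maxHeartbeats 2000000 in
theorem FibLocusC.constructible_noeth (hL : FibLocusC L) (A B : Type u) [CommRing A] [CommRing B]
    [Algebra A B] [IsNoetherianRing A] [Algebra.FiniteType A B] :
    IsConstructible (L (Spec.map (CommRingCat.ofHom (algebraMap A B)))) := by
  haveI : IsNoetherianRing B := Algebra.FiniteType.isNoetherianRing A B
  set f := Spec.map (CommRingCat.ofHom (algebraMap A B)) with hf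
  haveI : Algebra.FinitePresentation A B := Algebra.FinitePresentation.of_finiteType.mp inferInstance
  haveI : LocallyOfFinitePresentation f := by
    rw [hf, HasRingHomProperty.Spec_iff (P := @LocallyOfFinitePresentation)]
    exact (RingHom.finitePresentation_algebraMap).mpr inferInstance
  apply Groth.Agent.Helper7.ConsPair.isConstructible_of_forall_prime B
  intro x
  let q : Ideal B := x.asIdeal
  haveI : q.IsPrime := x.isPrime
  let p : Ideal A := q.comap (algebraMap A B)
  haveI : p.IsPrime := Ideal.IsPrime.comap _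
  obtain ⟨a, ha, hflat⟩ := exists_flat_away (A ⧸ p) ((A ⧸ p) ⊗[A] B)
  let g : Spec (CommRingCat.of (A ⧸ p)) ⟶ Spec (CommRingCat.of A) :=
    Spec.map (CommRingCat.ofHom (algebraMap A (A ⧸ p)))
  let f' : Spec (CommRingCat.of ((A ⧸ p) ⊗[A] B)) ⟶ Spec (CommRingCat.of (A ⧸ p)) :=
    Spec.map (CommRingCat.ofHom (Algebra.TensorProduct.includeLeftRingHom))
  let g' : Spec (CommRingCat.of ((A ⧸ p) ⊗[A] B)) ⟶ Spec (CommRingCat.of B) :=
    Spec.map (CommRingCat.ofHom
      (Algebra.TensorProduct.includeRight : B →ₐ[A] (A ⧸ p) ⊗[A] B).toRingHom)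
  have hsq : IsPullback g' f' f g :=
    (isPullback_SpecMap_of_isPushout _ _ _ _ (CommRingCat.isPushout_tensorProduct A (A ⧸ p) B)).flip
  have hbc : L f' = g' ⁻¹' L f := hL.baseChange f g f' g' hsq
  set aT : (A ⧸ p) ⊗[A] B := algebraMap (A ⧸ p) ((A ⧸ p) ⊗[A] B) a with haT
  let j : Spec (CommRingCat.of (Localization.Away aT)) ⟶ Spec (CommRingCat.of ((A ⧸ p) ⊗[A] B)) :=
    Spec.map (CommRingCat.ofHom (algebraMap ((A ⧸ p) ⊗[A] B) (Localization.Away aT)))
  haveI : IsOpenImmersion j := IsOpenImmersion.of_isLocalization aT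
  have hjf' : j ≫ f' = Spec.map (CommRingCat.ofHom (algebraMap (A ⧸ p) (Localization.Away aT))) := by
    rw [← Spec.map_comp]
    rfl
  haveI : Flat (j ≫ f') := by
    rw [hjf', HasRingHomProperty.Spec_iff (P := @Flat)]
    exact (RingHom.flat_algebraMap_iff).mpr hflat
  haveI : Algebra.FinitePresentation (A ⧸ p) ((A ⧸ p) ⊗[A] B) :=
    Algebra.FinitePresentation.of_finiteType.mp inferInstance
  haveI : Algebra.FinitePresentation (A ⧸ p) (Localization.Away aT) :=
    Algebra.FinitePresentation.trans (A ⧸ p) ((A ⧸ p) ⊗[A] B) _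
  haveI : LocallyOfFinitePresentation (j ≫ f') := by
    rw [hjf', HasRingHomProperty.Spec_iff (P := @LocallyOfFinitePresentation)]
    exact (RingHom.finitePresentation_algebraMap).mpr inferInstance
  haveI : Algebra.FiniteType (A ⧸ p) (Localization.Away aT) := inferInstance
  haveI : Module.Flat (A ⧸ p) (Localization.Away aT) := hflat
  have hcons : IsConstructible (L (j ≫ f')) := by
    rw [hjf']
    exact hL.isCons (A ⧸ p) (Localization.Away aT)
  have hj : L (j ≫ f') = j ⁻¹' L f' := hL.openImm j f'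
  let φ : (A ⧸ p) ⊗[A] B →ₐ[A] B ⧸ q :=
    Algebra.TensorProduct.lift (Ideal.quotientMapₐ q (Algebra.ofId A B) le_rfl)
      (Ideal.Quotient.mkₐ A q) (fun _ _ => Commute.all _ _)
  let k : Spec (CommRingCat.of (B ⧸ q)) ⟶ Spec (CommRingCat.of ((A ⧸ p) ⊗[A] B)) :=
    Spec.map (CommRingCat.ofHom φ.toRingHom)
  have hk : k ≫ g' = Groth.Agent.Helper7.ConsPair.primeIncl B x := by
    rw [← Spec.map_comp]
    congr 1
    ext b
    show φ (1 ⊗ₜ b) = Ideal.Quotient.mk q b
    simp [φ]
  have hφa : φ aT ≠ 0 := by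
    have h1 : φ aT = Ideal.quotientMapₐ q (Algebra.ofId A B) le_rfl a := by
      simp [φ, haT, Algebra.TensorProduct.algebraMap_apply]
      rfl
    rw [h1]
    intro h0
    apply ha
    have hinj : Function.Injective (Ideal.quotientMap q (algebraMap A B) le_rfl) :=
      Ideal.quotientMap_injective
    exact hinj (by rw [map_zero]; exact h0)
  let ξ : Spec (CommRingCat.of (B ⧸ q)) := ⟨⊥, Ideal.isPrime_bot⟩
  have hrange : Set.range j = {y | aT ∉ y.asIdeal} := by
    have := PrimeSpectrum.localization_away_comap_range (Localization.Away aT) aT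
    ext y
    rw [show Set.range j = Set.range (PrimeSpectrum.comap
      (algebraMap ((A ⧸ p) ⊗[A] B) (Localization.Away aT))) from rfl, this]
    rfl
  have hξW : k ξ ∈ Set.range j := by
    rw [hrange]
    show aT ∉ (k ξ).asIdeal
    intro hmem
    apply hφa
    have : φ aT ∈ (⊥ : Ideal (B ⧸ q)) := hmem
    simpa using this
  have hcons1 : IsConstructible (k ⁻¹' (j '' L (j ≫ f'))) := by
    apply k.isConstructible_preimage
    apply hcons.image_of_isOpenEmbedding j.isOpenEmbedding
    haveI : IsNoetherianRing ((A ⧸ p) ⊗[A] B) :=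
      Algebra.FiniteType.isNoetherianRing (A ⧸ p) _
    haveI : TopologicalSpace.NoetherianSpace ↥(Spec (CommRingCat.of ((A ⧸ p) ⊗[A] B))) :=
      inferInstanceAs (TopologicalSpace.NoetherianSpace (PrimeSpectrum ((A ⧸ p) ⊗[A] B)))
    exact fun U hU hUc => TopologicalSpace.NoetherianSpace.isCompact _
  have hsub1 : k ⁻¹' (j '' L (j ≫ f')) ⊆
      (Groth.Agent.Helper7.ConsPair.primeIncl B x) ⁻¹' L f := by
    rintro z ⟨y, hy, hyz⟩
    rw [hj] at hy
    have h2 : k z ∈ L f' := hyz ▸ hy
    rw [hbc] at h2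
    show (Groth.Agent.Helper7.ConsPair.primeIncl B x) z ∈ L f
    rw [← hk]
    exact h2
  haveI : IsDomain (B ⧸ q) := Ideal.Quotient.isDomain q
  haveI : IsIntegral (Spec (CommRingCat.of (B ⧸ q))) := inferInstance
  haveI : IsNoetherian (Spec (CommRingCat.of (B ⧸ q))) := inferInstance
  rcases Groth.Agent.Helper7.ConsMor.interior_nonempty_or_of_isConstructible hcons1 with h1 | h2
  · left
    obtain ⟨z, hz⟩ := h1
    exact ⟨z, interior_mono hsub1 hz⟩
  · right
    have hopen2 : IsOpen (k ⁻¹' Set.range j) := j.isOpenEmbedding.isOpen_range.preimage k.continuous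
    obtain ⟨z, hz1, hz2⟩ := nonempty_preirreducible_inter (isOpen_interior
      (s := (k ⁻¹' (j '' L (j ≫ f')))ᶜ)) hopen2 h2 ⟨ξ, hξW⟩
    refine ⟨z, interior_maximal ?_ (isOpen_interior.inter hopen2) ⟨hz1, hz2⟩⟩
    rintro w ⟨hw1, ⟨y, hyw⟩⟩ hwE
    apply interior_subset hw1
    refine ⟨y, ?_, hyw⟩
    rw [hj]
    show j y ∈ L f'
    rw [hyw, hbc]
    show g' (k w) ∈ L f
    rw [← Scheme.Hom.comp_apply, hk]
    exact hwE

set_option maxHeartbeats 2000000 in
theorem FibLocusC.constructible_affine (hL : FibLocusC L) (A B : Type u) [CommRing A] [CommRing B]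
    [Algebra A B] [Algebra.FinitePresentation A B] :
    IsConstructible (L (Spec.map (CommRingCat.ofHom (algebraMap A B)))) := by
  classical
  let P := Algebra.Presentation.ofFinitePresentation A B
  let e : A ⊗[P.Core] P.ModelOfHasCoeffs P.Core ≃ₐ[A] B := P.tensorModelOfHasCoeffsEquiv P.Core
  haveI : IsNoetherianRing P.Core := Algebra.FiniteType.isNoetherianRing ℤ P.Core
  have h0 := hL.constructible_noeth P.Core (P.ModelOfHasCoeffs P.Core)
  set f₀ := Spec.map (CommRingCat.ofHom (algebraMap P.Core (P.ModelOfHasCoeffs P.Core))) with hf₀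
  haveI : LocallyOfFinitePresentation f₀ := by
    rw [hf₀, HasRingHomProperty.Spec_iff (P := @LocallyOfFinitePresentation)]
    exact (RingHom.finitePresentation_algebraMap).mpr inferInstance
  let g : Spec (CommRingCat.of A) ⟶ Spec (CommRingCat.of P.Core) :=
    Spec.map (CommRingCat.ofHom (algebraMap P.Core A))
  let f' : Spec (CommRingCat.of (A ⊗[P.Core] P.ModelOfHasCoeffs P.Core)) ⟶
      Spec (CommRingCat.of A) :=
    Spec.map (CommRingCat.ofHom (Algebra.TensorProduct.includeLeftRingHom))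
  let g' : Spec (CommRingCat.of (A ⊗[P.Core] P.ModelOfHasCoeffs P.Core)) ⟶
      Spec (CommRingCat.of (P.ModelOfHasCoeffs P.Core)) :=
    Spec.map (CommRingCat.ofHom
      (Algebra.TensorProduct.includeRight :
        P.ModelOfHasCoeffs P.Core →ₐ[P.Core] A ⊗[P.Core] P.ModelOfHasCoeffs P.Core).toRingHom)
  have hsq : IsPullback g' f' f₀ g :=
    (isPullback_SpecMap_of_isPushout _ _ _ _
      (CommRingCat.isPushout_tensorProduct P.Core A (P.ModelOfHasCoeffs P.Core))).flip
  have hbc : L f' = g' ⁻¹' L f₀ := hL.baseChange f₀ g f' g' hsq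
  let εr : CommRingCat.of (A ⊗[P.Core] P.ModelOfHasCoeffs P.Core) ⟶ CommRingCat.of B :=
    CommRingCat.ofHom e.toRingHom
  haveI : IsIso εr := (ConcreteCategory.isIso_iff_bijective εr).mpr e.bijective
  let ε : Spec (CommRingCat.of B) ⟶ Spec (CommRingCat.of (A ⊗[P.Core] P.ModelOfHasCoeffs P.Core)) :=
    Spec.map εr
  haveI : IsIso ε := inferInstance
  have hε : Spec.map (CommRingCat.ofHom (algebraMap A B)) = ε ≫ f' := by
    rw [← Spec.map_comp]
    congr 1
    ext a
    show algebraMap A B a = e (a ⊗ₜ 1)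
    exact (e.commutes a).symm
  rw [hε, hL.openImm ε f', hbc]
  exact ε.isConstructible_preimage (g'.isConstructible_preimage h0)

set_option maxHeartbeats 1000000 in
theorem FibLocusC.isLocallyConstructible (hL : FibLocusC L) {X S : Scheme.{u}} (f : X ⟶ S)
    [LocallyOfFinitePresentation f] : IsLocallyConstructible (L f) := by
  intro x
  obtain ⟨_, ⟨V, hV, rfl⟩, hxV, -⟩ := S.isBasis_affineOpens.exists_subset_of_mem_open
    (Set.mem_univ (f x)) isOpen_univ
  obtain ⟨_, ⟨U, hU, rfl⟩, hxU, hUV⟩ := X.isBasis_affineOpens.exists_subset_of_mem_open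
    (show x ∈ ((f ⁻¹ᵁ V : X.Opens) : Set X) from hxV) (f ⁻¹ᵁ V).isOpen
  refine ⟨U, U.isOpen.mem_nhds hxU, U.isOpen, ?_⟩
  have e : U ≤ f ⁻¹ᵁ V := hUV
  have hfp : (f.appLE V U e).hom.FinitePresentation :=
    HasRingHomProperty.appLE (P := @LocallyOfFinitePresentation) f inferInstance ⟨V, hV⟩ ⟨U, hU⟩ e
  letI : Algebra Γ(S, V) Γ(X, U) := (f.appLE V U e).hom.toAlgebra
  haveI : Algebra.FinitePresentation Γ(S, V) Γ(X, U) := hfp
  have h0 := hL.constructible_affine Γ(S, V) Γ(X, U)
  have hσ : Spec.map (CommRingCat.ofHom (algebraMap Γ(S, V) Γ(X, U))) = Spec.map (f.appLE V U e) := rfl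
  rw [hσ] at h0
  have hcomm : Spec.map (f.appLE V U e) ≫ hV.fromSpec = hU.fromSpec ≫ f :=
    IsAffineOpen.SpecMap_appLE_fromSpec f hV hU e
  haveI : LocallyOfFinitePresentation (Spec.map (f.appLE V U e) ≫ hV.fromSpec) := by
    rw [hcomm]; infer_instance
  rw [hL.comp_mono (Spec.map (f.appLE V U e)) hV.fromSpec, hcomm,
    hL.openImm hU.fromSpec f] at h0
  have h1 := hU.isoSpec.hom.isConstructible_preimage h0
  have h2 : hU.isoSpec.hom ⁻¹' (hU.fromSpec ⁻¹' L f) =
      (Scheme.Opens.ι U) ⁻¹' L f := by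
    ext y
    simp only [Set.mem_preimage]
    have : hU.fromSpec (hU.isoSpec.hom y) = (Scheme.Opens.ι U) y := by
      rw [← Scheme.Hom.comp_apply, hU.isoSpec_hom_fromSpec]
    rw [this]
  rw [h2] at h1
  exact h1

end Groth.Agent.Lead.FibCons
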