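import Mathlib
import Groth.Prelude
import Groth.Agent.Lib.Lead.RkCons1
import Groth.Agent.Lib.Lead.RkLoc1
import Groth.Agent.Lib.Helper7.FibTop.Generic
import Groth.Agent.Lib.Helper7.ConsPair.Top

set_option autoImplicit false
set_option backward.isDefEq.respectTransparency.types false
set_option synthInstance.maxHeartbeats 400000
set_option linter.style.haveILetI false
set_option linter.unusedSectionVars false
universe u

open CategoryTheory CategoryTheory.Limits AlgebraicGeometry IsLocalRing TensorProduct Topology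

namespace Groth.Agent.Lead.RkCons

open Groth.Agent.Lead.RkLoc Groth.Agent.Helper7.FibTop Groth.Agent.Helper7.ConsPair

/-- fibrewise closure of a subset of the source of a morphism -/
def fibClosure {X S : Scheme.{u}} (f : X ⟶ S) (Z : Set X) : Set X :=
  {x | f.asFiber x ∈ closure ((f.fiberι (f x)) ⁻¹' Z)}

theorem mem_fibClosure_iff {X S : Scheme.{u}} (f : X ⟶ S) (Z : Set X) (y : S) (w : f.fiber y) :
    f.fiberι y w ∈ fibClosure f Z ↔ w ∈ closure ((f.fiberι y) ⁻¹' Z) :=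
  fiber_congr f (fun y w => w ∈ closure ((f.fiberι y) ⁻¹' Z)) _ _ (f.fiberι_asFiber _)

theorem fibClosure_baseChange {X S X' S' : Scheme.{u}} {f : X ⟶ S} {f' : X' ⟶ S'} {pX : X' ⟶ X}
    {π : S' ⟶ S} (h : IsPullback pX f' f π) (Z : Set X) :
    fibClosure f' (pX ⁻¹' Z) = pX ⁻¹' fibClosure f Z := by
  ext x'
  obtain ⟨ψ, hψι, hψo, hψs⟩ := exists_fibre_map h (f' x')
  have key : (f'.fiberι (f' x')) ⁻¹' (pX ⁻¹' Z) = ψ ⁻¹' ((f.fiberι (π (f' x'))) ⁻¹' Z) := by
    ext t
    simp only [Set.mem_preimage]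
    rw [← Scheme.Hom.comp_apply, ← Scheme.Hom.comp_apply, hψι]
  show f'.asFiber x' ∈ closure ((f'.fiberι (f' x')) ⁻¹' (pX ⁻¹' Z)) ↔ pX x' ∈ fibClosure f Z
  rw [key, ← hψo.preimage_closure_eq_closure_preimage ψ.continuous, Set.mem_preimage,
    ← mem_fibClosure_iff]
  have e : f.fiberι (π (f' x')) (ψ (f'.asFiber x')) = pX x' := by
    rw [← Scheme.Hom.comp_apply, hψι, Scheme.Hom.comp_apply, f'.fiberι_asFiber]
  rw [e]

set_option maxHeartbeats 1000000 in
/-- **EGA IV 9.5.3 (variant)**: the fibrewise closure of a constructible subset is constructible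
(finite type over a Noetherian affine base) -/
theorem isConstructible_fibClosure (A : Type u) [CommRing A] [IsNoetherianRing A]
    {X : Scheme.{u}} (f : X ⟶ Spec (CommRingCat.of A)) [LocallyOfFiniteType f] [QuasiCompact f]
    (Z : Set X) (hZ : IsConstructible Z) : IsConstructible (fibClosure f Z) := by
  haveI : IsLocallyNoetherian X := LocallyOfFiniteType.isLocallyNoetherian f
  haveI : CompactSpace X := QuasiCompact.compactSpace_of_compactSpace f
  haveI : IsNoetherian X := {}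
  apply Groth.Agent.Helper7.GRLocus.isConstructible_of_forall_irreducible_or
  intro Y hYc hYirr
  obtain ⟨y, hy⟩ := QuasiSober.sober hYirr hYc
  have hYy : closure {y} = Y := hy.def
  set s₀ := f y with hs₀
  let π := primeIncl A s₀
  haveI : IsDomain (A ⧸ s₀.asIdeal) := Ideal.Quotient.isDomain s₀.asIdeal
  let f₀ := pullback.snd f π
  let p := pullback.fst f π
  have hsq : IsPullback p f₀ f π := IsPullback.of_hasPullback f π
  haveI : IsClosedImmersion π := IsClosedImmersion.spec_of_surjective _ Ideal.Quotient.mk_surjective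
  haveI : IsClosedImmersion p := MorphismProperty.pullback_fst (P := @IsClosedImmersion) f π inferInstance
  haveI : IsLocallyNoetherian (pullback f π) := LocallyOfFiniteType.isLocallyNoetherian p
  haveI : CompactSpace ↥(pullback f π) := QuasiCompact.compactSpace_of_compactSpace p
  have hZ₀ : IsConstructible (p ⁻¹' Z) := p.isConstructible_preimage hZ
  obtain ⟨V, hV, hVeq⟩ := closure_fibre_eq_near_generic f₀ (p ⁻¹' Z) hZ₀
  have key : ∀ x₀ : ↥(pullback f π), f₀ x₀ ∈ V →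
      (p x₀ ∈ fibClosure f Z ↔ x₀ ∈ closure (p ⁻¹' Z)) := by
    intro x₀ hx₀
    have h1 : p x₀ ∈ fibClosure f Z ↔ x₀ ∈ fibClosure f₀ (p ⁻¹' Z) := by
      rw [fibClosure_baseChange hsq]; rfl
    rw [h1]
    show f₀.asFiber x₀ ∈ closure ((f₀.fiberι (f₀ x₀)) ⁻¹' (p ⁻¹' Z)) ↔ _
    rw [hVeq (f₀ x₀) hx₀, Set.mem_preimage, f₀.fiberι_asFiber]
  have hpemb : IsClosedEmbedding p := p.isClosedEmbedding
  have hrange : Set.range p = f ⁻¹' Set.range π := Scheme.Pullback.range_fst f π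
  have hπrange : Set.range π = closure {s₀} := range_primeIncl A s₀
  have hyr : y ∈ Set.range p := by
    rw [hrange, hπrange]
    exact subset_closure rfl
  obtain ⟨y₀, hy₀⟩ := hyr
  have hπinj : Function.Injective π := π.isClosedEmbedding.injective
  have hfy₀ : f₀ y₀ = genericPoint ↥(Spec (CommRingCat.of (A ⧸ s₀.asIdeal))) := by
    apply hπinj
    rw [primeIncl_genericPoint]
    have : π (f₀ y₀) = f (p y₀) := by
      rw [← Scheme.Hom.comp_apply, ← Scheme.Hom.comp_apply, hsq.w]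
    rw [this, hy₀]
  have hYsub : Y ⊆ Set.range p := by
    rw [← hYy]
    exact closure_minimal (Set.singleton_subset_iff.mpr ⟨y₀, hy₀⟩) hpemb.isClosed_range
  have hclosed1 : IsClosed (p '' (f₀ ⁻¹' (V : Set _))ᶜ) :=
    hpemb.isClosedMap _ (V.isOpen.preimage f₀.continuous).isClosed_compl
  have hclosed2 : IsClosed (p '' closure (p ⁻¹' Z)) := hpemb.isClosedMap _ isClosed_closure
  have hyU₁ : y ∈ (p '' (f₀ ⁻¹' (V : Set _))ᶜ)ᶜ := by
    rintro ⟨x', hx', hx'y⟩
    have : x' = y₀ := hpemb.injective (hx'y.trans hy₀.symm)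
    apply hx'
    rw [this]
    show f₀ y₀ ∈ V
    rw [hfy₀]
    exact hV
  have hiff : ∀ x ∈ (p '' (f₀ ⁻¹' (V : Set _))ᶜ)ᶜ ∩ Y,
      (x ∈ fibClosure f Z ↔ x ∈ p '' closure (p ⁻¹' Z)) := by
    rintro x ⟨hx1, hx2⟩
    obtain ⟨x₀, rfl⟩ := hYsub hx2
    have hx₀V : f₀ x₀ ∈ V := by
      by_contra hne
      exact hx1 ⟨x₀, hne, rfl⟩
    rw [key x₀ hx₀V]
    constructor
    · intro h
      exact ⟨x₀, h, rfl⟩
    · rintro ⟨x₁, hx₁, hx₁x⟩
      rwa [← hpemb.injective hx₁x]
  by_cases hyC : y ∈ p '' closure (p ⁻¹' Z)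
  · refine ⟨(p '' (f₀ ⁻¹' (V : Set _))ᶜ)ᶜ, hclosed1.isOpen_compl, ⟨y, hyU₁, hy.mem⟩, Or.inl ?_⟩
    intro x hx
    rw [hiff x hx]
    have : x ∈ closure {y} := hYy ▸ hx.2
    exact closure_minimal (Set.singleton_subset_iff.mpr hyC) hclosed2 this
  · refine ⟨(p '' (f₀ ⁻¹' (V : Set _))ᶜ)ᶜ ∩ (p '' closure (p ⁻¹' Z))ᶜ,
      hclosed1.isOpen_compl.inter hclosed2.isOpen_compl, ⟨y, ⟨hyU₁, hyC⟩, hy.mem⟩, Or.inr ?_⟩
    rintro x ⟨⟨hx1, hx2⟩, hx3⟩ hxE
    exact hx2 ((hiff x ⟨hx1, hx3⟩).mp hxE)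

end Groth.Agent.Lead.RkCons
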