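import Mathlib
import Groth.Prelude
import Groth.Agent.Lib.Lead.RkCons2
import Groth.Agent.Lib.Lead.RkLoc7

set_option autoImplicit false
set_option backward.isDefEq.respectTransparency.types false
set_option synthInstance.maxHeartbeats 400000
set_option linter.style.haveILetI false
set_option linter.unusedSectionVars false
universe u

open CategoryTheory CategoryTheory.Limits AlgebraicGeometry IsLocalRing TensorProduct Topology

namespace Groth.Agent.Lead.RkCons

open Groth.Agent.Lead.RkLoc Groth.Agent.Lead.SkLoc Groth.Agent.Lead.FibCons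
open Groth.Agent.Lib.Helper4.FibDim1 Groth.Agent.Lib.Helper4.FibDim2
open Groth.Agent.Lib.Helper4.FibDimComp1

theorem exists_fibreDimAt_bound {T S : Scheme.{u}} (g : T ⟶ S) [LocallyOfFiniteType g]
    [CompactSpace T] : ∃ N : ℕ, ∀ z : T, FlatMor.fibreDimAt g z ≤ (N : WithBot ℕ∞) := by
  classical
  choose d hd O hO hOle using fun z : T => Groth.Agent.Lib.Helper4.Chev2.exists_open_fibreDimAt_le g z
  obtain ⟨t, ht⟩ := CompactSpace.elim_nhds_subcover (fun z => (O z : Set T))
    (fun z => (O z).isOpen.mem_nhds (hO z))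
  refine ⟨t.sup d, fun z => ?_⟩
  have hz : z ∈ ⋃ x ∈ t, (O x : Set T) := by rw [ht]; trivial
  simp only [Set.mem_iUnion] at hz
  obtain ⟨x, hxt, hzx⟩ := hz
  refine (hOle x z hzx).trans ?_
  exact_mod_cast Finset.le_sup hxt

section W

variable {X S T : Scheme.{u}} (h : X ⟶ S) [LocallyOfFiniteType h] (i : T ⟶ X)
  [IsClosedImmersion i]

/-- the points of the closed subscheme `T` at which the codimension of `T` in the fibre is at most
`k`, measured by local fibre dimensions -/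
def wLocus (k : ℕ) : Set X :=
  {z | ∃ z' : T, i z' = z ∧
    FlatMor.fibreDimAt h z ≤ FlatMor.fibreDimAt (i ≫ h) z' + (k : WithBot ℕ∞)}

theorem isConstructible_wLocus [IsLocallyNoetherian X] [CompactSpace X] (k : ℕ) :
    IsConstructible (wLocus h i k) := by
  classical
  haveI : IsNoetherian X := {}
  haveI : CompactSpace T := QuasiCompact.compactSpace_of_compactSpace i
  obtain ⟨N, hN⟩ := exists_fibreDimAt_bound (i ≫ h)
  have hrc : ∀ s : Set X, IsRetrocompact s :=
    fun s U _ _ => TopologicalSpace.NoetherianSpace.isCompact _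
  haveI : IsLocallyNoetherian T := LocallyOfFiniteType.isLocallyNoetherian i
  haveI : IsNoetherian T := {}
  have hrcT : ∀ s : Set T, IsRetrocompact s :=
    fun s U _ _ => TopologicalSpace.NoetherianSpace.isCompact _
  have hW : wLocus h i k = ⋃ b ∈ Finset.range (N + 1),
      ({z : X | FlatMor.fibreDimAt h z ≤ ((b + k : ℕ) : WithBot ℕ∞)} ∩
        i '' {z' : T | FlatMor.fibreDimAt (i ≫ h) z' = (b : WithBot ℕ∞)}) := by
    ext z
    simp only [Set.mem_iUnion, Finset.mem_range, Set.mem_inter_iff, Set.mem_setOf_eq,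
      Set.mem_image, exists_prop]
    constructor
    · rintro ⟨z', rfl, hle⟩
      obtain ⟨b, hb⟩ := exists_fibreDimAt_nat (i ≫ h) z'
      have hbN : b ≤ N := by
        have := hN z'
        rw [hb] at this
        exact_mod_cast this
      refine ⟨b, by omega, ?_, z', hb, rfl⟩
      rw [hb] at hle
      exact_mod_cast hle
    · rintro ⟨b, -, hle, z', hb, rfl⟩
      refine ⟨z', rfl, ?_⟩
      rw [hb]
      exact_mod_cast hle
  rw [hW]
  apply IsConstructible.biUnion (Finset.finite_toSet _)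
  intro b _
  apply IsConstructible.inter
  · have hop : IsOpen {z : X | FlatMor.fibreDimAt h z ≤ ((b + k : ℕ) : WithBot ℕ∞)} :=
      Groth.Agent.Lib.Helper4.Chev2.S0402_main h (b + k)
    exact (hrc _).isConstructible hop
  · apply IsConstructible.image_of_isClosedEmbedding i.isClosedEmbedding (hrc _)
    have hcl : IsClosed {z' : T | (b : WithBot ℕ∞) ≤ FlatMor.fibreDimAt (i ≫ h) z'} :=
      Groth.Agent.Lib.Helper4.Chev3.isClosed_setOf_le_fibreDimAt (i ≫ h) b
    have hop : IsOpen {z' : T | FlatMor.fibreDimAt (i ≫ h) z' ≤ ((b : ℕ) : WithBot ℕ∞)} :=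
      Groth.Agent.Lib.Helper4.Chev2.S0402_main (i ≫ h) b
    have : {z' : T | FlatMor.fibreDimAt (i ≫ h) z' = (b : WithBot ℕ∞)} =
        {z' : T | FlatMor.fibreDimAt (i ≫ h) z' ≤ ((b : ℕ) : WithBot ℕ∞)} ∩
          ({z' : T | (b : WithBot ℕ∞) ≤ FlatMor.fibreDimAt (i ≫ h) z'}ᶜ)ᶜ := by
      ext z'
      simp only [Set.mem_setOf_eq, Set.mem_inter_iff, Set.mem_compl_iff, not_not]
      exact ⟨fun e => ⟨e.le, e.ge⟩, fun ⟨h1, h2⟩ => le_antisymm h1 h2⟩
    rw [this]
    exact ((hrcT _).isConstructible hop).inter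
      ((hrcT _).isConstructible hcl.isOpen_compl).compl

set_option maxHeartbeats 1000000 in
theorem badSpec_eq_wSpec (k : ℕ) (hr : Set.range i = (smLocus h)ᶜ) :
    {x : X | ∃ z : X, z ⤳ x ∧ h z = h x ∧ BadPt k h z} =
      {x : X | ∃ z ∈ wLocus h i k, z ⤳ x ∧ h z = h x} := by
  ext x
  constructor
  · rintro ⟨z, hzx, hfz, hns, hdim⟩
    obtain ⟨z', rfl⟩ : z ∈ Set.range i := by rw [hr]; exact hns
    obtain ⟨ζ', hζ1, hζ2, -, hζ4⟩ := exists_fibreMax_tr_eq (i ≫ h) z'
    have hsp : i ζ' ⤳ i z' := hζ2.map i.continuous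
    have hfζ : h (i ζ') = h (i z') := hζ1
    refine ⟨i ζ', ⟨ζ', rfl, ?_⟩, hsp.trans hzx, hfζ.trans hfz⟩
    rw [Groth.Agent.Helper2.FibDim.fibreDimAt_eq_stalk_add_tr h (i ζ')]
    have h1 := fiber_stalk_dim_le_of_specializes h hsp hfζ
    have h2 : ((tr h (i ζ') : ℕ) : WithBot ℕ∞) ≤ FlatMor.fibreDimAt (i ≫ h) ζ' := by
      rw [← Groth.Agent.Lib.Helper4.Equi10.tr_comp_closedImmersion h i ζ']
      exact tr_le_fibreDimAt' (i ≫ h) ζ'
    calc _ ≤ (k : WithBot ℕ∞) + ((tr h (i ζ') : ℕ) : WithBot ℕ∞) :=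
          add_le_add_left (h1.trans hdim) _
      _ = ((tr h (i ζ') : ℕ) : WithBot ℕ∞) + (k : WithBot ℕ∞) := add_comm _ _
      _ ≤ _ := add_le_add_left h2 _
  · rintro ⟨z, ⟨z', rfl, hle⟩, hzx, hfz⟩
    obtain ⟨ζ', hζ1, hζ2, -, hζ4⟩ := exists_fibreMax_tr_eq (i ≫ h) z'
    have hsp : i ζ' ⤳ i z' := hζ2.map i.continuous
    have hfζ : h (i ζ') = h (i z') := hζ1
    refine ⟨i ζ', hsp.trans hzx, hfζ.trans hfz, ?_, ?_⟩
    · have : i ζ' ∈ Set.range i := ⟨ζ', rfl⟩
      rw [hr] at this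
      exact this
    · obtain ⟨d, r, -, hd, -, -⟩ := exists_nat_data h (i ζ')
      rw [hd]
      have h1 := fibreDimAt_mono_of_specializes h (i ζ') (i z') hsp
      rw [Groth.Agent.Helper2.FibDim.fibreDimAt_eq_stalk_add_tr h (i ζ'), hd] at h1
      have h2 := h1.trans hle
      rw [hζ4, Groth.Agent.Lib.Helper4.Equi10.tr_comp_closedImmersion h i ζ'] at h2
      have h3 : d + tr h (i ζ') ≤ tr h (i ζ') + k := by exact_mod_cast h2
      have : d ≤ k := by omega
      exact_mod_cast this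

end W

end Groth.Agent.Lead.RkCons
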