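import Mathlib
import Groth.Prelude
import Groth.Agent.Lib.Lead.RkCons3
import Groth.Agent.Lib.Helper7.ProConsLib4

set_option autoImplicit false
set_option backward.isDefEq.respectTransparency.types false
set_option synthInstance.maxHeartbeats 400000
set_option linter.style.haveILetI false
set_option linter.unusedSectionVars false
universe u

open CategoryTheory CategoryTheory.Limits AlgebraicGeometry IsLocalRing TensorProduct Topology
  TopologicalSpace

namespace Groth.Agent.Lead.RkCons

open Groth.Agent.Lead.RkLoc Groth.Agent.Lead.SkLoc Groth.Agent.Lead.FibCons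
open Groth.Agent.Helper3.FibStalk

/-- for a locally constructible set, the fibrewise closure is the set of fibrewise
specializations -/
theorem mem_fibClosure_iff_exists_specializes {X S : Scheme.{u}} (h : X ⟶ S) (W : Set X)
    (hW : IsLocallyConstructible W) (x : X) :
    x ∈ fibClosure h W ↔ ∃ z ∈ W, z ⤳ x ∧ h z = h x := by
  constructor
  · intro hx
    have hpro : ProCons.IsProConstructible ((h.fiberι (h x)) ⁻¹' W) :=
      Groth.Agent.Helper7.ProConsLib.isProConstructible_of_isLocallyConstructible
        (Groth.Agent.Helper7.ProConsLib.isLocallyConstructible_preimage (h.fiberι (h x)) hW)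
    obtain ⟨w, hwW, hw⟩ :=
      Groth.Agent.Helper7.ProConsLib.exists_specializes_of_mem_closure_of_isProConstructible
        (h.fiber (h x)) hpro hx
    refine ⟨h.fiberι (h x) w, hwW, ?_, apply_fiberι h (h x) w⟩
    have := hw.map (h.fiberι (h x)).continuous
    rwa [h.fiberι_asFiber] at this
  · rintro ⟨z, hzW, hzx, hfz⟩
    have hzr : z ∈ Set.range (h.fiberι (h x)) := by
      rw [Scheme.Hom.range_fiberι]; exact hfz
    obtain ⟨w, rfl⟩ := hzr
    have hw : w ⤳ h.asFiber x := by
      rw [← (h.fiberι (h x)).isEmbedding.isInducing.specializes_iff, h.fiberι_asFiber]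
      exact hzx
    show h.asFiber x ∈ closure ((h.fiberι (h x)) ⁻¹' W)
    have hsub : ({w} : Set ↥(h.fiber (h x))) ⊆ (h.fiberι (h x)) ⁻¹' W :=
      Set.singleton_subset_iff.mpr hzW
    exact closure_mono hsub (specializes_iff_mem_closure.mp hw)

set_option maxHeartbeats 1000000 in
theorem isConstructible_rkLocus_flat (A B : Type u) [CommRing A] [CommRing B] [Algebra A B]
    [IsNoetherianRing A] [Algebra.FiniteType A B] [Module.Flat A B] (k : ℕ) :
    IsConstructible (rkLocus k (Spec.map (CommRingCat.ofHom (algebraMap A B)))) := by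
  set h := Spec.map (CommRingCat.ofHom (algebraMap A B)) with hh
  haveI : Algebra.FinitePresentation A B := Algebra.FinitePresentation.of_finiteType.mp inferInstance
  haveI : LocallyOfFinitePresentation h := by
    rw [hh, HasRingHomProperty.Spec_iff (P := @LocallyOfFinitePresentation)]
    exact (RingHom.finitePresentation_algebraMap).mpr inferInstance
  haveI : Flat h := by
    rw [hh, HasRingHomProperty.Spec_iff (P := @Flat)]
    exact (RingHom.flat_algebraMap_iff).mpr inferInstance
  haveI : IsNoetherianRing B := Algebra.FiniteType.isNoetherianRing A B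
  haveI : IsLocallyNoetherian (Spec (CommRingCat.of B)) := inferInstance
  have hSig : IsClosed (smLocus h)ᶜ := by
    rw [smLocus_eq_of_flat, isClosed_compl_iff]
    exact h.smoothLocus.isOpen
  set 𝓘 := Scheme.IdealSheafData.vanishingIdeal (⟨(smLocus h)ᶜ, hSig⟩ : Closeds _) with h𝓘
  set i := 𝓘.subschemeι with hi
  have hrange : Set.range i = (smLocus h)ᶜ := by
    rw [hi, Scheme.IdealSheafData.range_subschemeι,
      Scheme.IdealSheafData.coe_support_vanishingIdeal]
    rfl
  have hWc : IsConstructible (wLocus h i k) := isConstructible_wLocus h i k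
  have h1 : (rkLocus k h)ᶜ = fibClosure h (wLocus h i k) := by
    ext x
    rw [Set.mem_compl_iff, not_mem_rkLocus_iff,
      mem_fibClosure_iff_exists_specializes h _ hWc.isLocallyConstructible]
    have := badSpec_eq_wSpec h i k hrange
    have h2 := Set.ext_iff.mp this x
    simp only [Set.mem_setOf_eq] at h2
    exact h2
  have h2 : IsConstructible (fibClosure h (wLocus h i k)) :=
    isConstructible_fibClosure A h _ hWc
  rw [← h1] at h2
  simpa using h2.compl

theorem fibLocusC_rkLocus (k : ℕ) :
    FibLocusC (fun {X S : Scheme.{u}} (f : X ⟶ S) => rkLocus k f) where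
  baseChange := fun f _ g f' g' hsq => rkLocus_baseChange k f g f' g' hsq
  openImm := fun j _ g => rkLocus_comp_openImmersion k j g
  isCons := fun A B _ _ _ _ _ _ _ => isConstructible_rkLocus_flat A B k

theorem isLocallyConstructible_rkLocus {X S : Scheme.{u}} (f : X ⟶ S)
    [LocallyOfFinitePresentation f] (k : ℕ) : IsLocallyConstructible (rkLocus k f) :=
  (fibLocusC_rkLocus k).isLocallyConstructible f

/-- S3454 -/
theorem S3454_main {X S : Scheme.{u}} (f : X ⟶ S)
    [LocallyOfFinitePresentation f] (k : ℕ) :
    Topology.IsLocallyConstructible {x : X |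
      ∀ (K : Type u) [Field K] [Algebra (IsLocalRing.ResidueField (S.presheaf.stalk (f.base x))) K]
        (x' : ↥(FBase.bc (f.fiberToSpecResidueField (f.base x)) K)),
        (FBase.bcπ (f.fiberToSpecResidueField (f.base x)) K).base x' = f.asFiber x →
          LocCoh.HasRk k ((FBase.bc (f.fiberToSpecResidueField (f.base x)) K).presheaf.stalk x')} := by
  have h1 := isLocallyConstructible_rkLocus f k
  convert h1 using 1
  ext x
  haveI := lfp_fiber f (f x)
  rw [Set.mem_setOf_eq, mem_rkLocus_iff_rkAt,
    ← forall_hasRk_iff_rkAt (κ := S.residueField (f x)) (f.fiberToSpecResidueField (f x))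
      (fun K _ _ => True) (fun _ _ _ _ => trivial) k (f.asFiber x)]
  constructor
  · intro H K i1 i2 _ x' hx'
    exact @H K i1 i2 x' hx'
  · intro H K i1 i2 x' hx'
    exact @H K i1 i2 trivial x' hx'

end Groth.Agent.Lead.RkCons
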