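import Mathlib
import Groth.Prelude
import Groth.Agent.Lib.Lead.RkCons4
import Groth.Agent.Lib.Helper4.FibDimBC2
import Groth.Agent.Lib.Helper4.Aff2

set_option autoImplicit false
set_option backward.isDefEq.respectTransparency.types false
set_option synthInstance.maxHeartbeats 400000
set_option linter.style.haveILetI false
set_option linter.unusedSectionVars false
universe u

open CategoryTheory CategoryTheory.Limits AlgebraicGeometry IsLocalRing TensorProduct Topology
  TopologicalSpace

namespace Groth.Agent.Lead.RkCons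

open Groth.Agent.Lead.RkLoc Groth.Agent.Lead.SkLoc Groth.Agent.Lead.FibCons
open Groth.Agent.Helper3.FibStalk
open Groth.Agent.Lib.Helper4.FibDim1 Groth.Agent.Lib.Helper4.FibDim2
open Groth.Agent.Lib.Helper4.FibDimComp1 Groth.Agent.Lib.Helper4.FibDimBC2
open Groth.Agent.Lib.Helper4.Chev2 Groth.Agent.Lib.Helper4.Chev9

/-- the locus where the fibre is (topologically) equidimensional at the point: all the
generizations of the point in its fibre have the same local fibre dimension -/
def eqLocus {X S : Scheme.{u}} (f : X ⟶ S) : Set X :=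
  {x | ∀ z : X, z ⤳ x → f z = f x → FlatMor.fibreDimAt f z = FlatMor.fibreDimAt f x}

theorem eqLocus_baseChange {X Y X' Y' : Scheme.{u}} (f : X ⟶ Y) [LocallyOfFiniteType f]
    (g : Y' ⟶ Y) (f' : X' ⟶ Y') (g' : X' ⟶ X) (hsq : IsPullback g' f' f g) :
    eqLocus f' = g' ⁻¹' eqLocus f := by
  ext x'
  constructor
  · intro h z hz hfz
    obtain ⟨z', hz', hfz', rfl⟩ := exists_generization_abs f g g' f' hsq x' z hz hfz
    rw [← fibreDimAt_abs f g g' f' hsq z', ← fibreDimAt_abs f g g' f' hsq x']
    exact h z' hz' hfz'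
  · intro h z' hz' hfz'
    rw [fibreDimAt_abs f g g' f' hsq z', fibreDimAt_abs f g g' f' hsq x']
    apply h (g' z') (hz'.map g'.continuous)
    rw [sq_apply f g g' f' hsq, sq_apply f g g' f' hsq, hfz']

theorem fibreDimAt_eq_localDim_preimage' {X Y : Scheme.{u}} (f : X ⟶ Y) (x : X) (y : Y)
    (hy : f x = y) :
    FlatMor.fibreDimAt f x = FlatMor.localDim ↥(f.base ⁻¹' {y}) ⟨x, hy⟩ := by
  subst hy
  unfold FlatMor.fibreDimAt
  rw [localDim_homeomorph (f.fiberHomeo (f x)) (f.asFiber x)]
  congr 1
  exact (f.fiberHomeo (f x)).apply_symm_apply _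

theorem fibreDimAt_comp_openImmersion {P Z S : Scheme.{u}} (k : P ⟶ Z) [IsOpenImmersion k]
    (g : Z ⟶ S) (z : P) :
    FlatMor.fibreDimAt (k ≫ g) z = FlatMor.fibreDimAt g (k z) := by
  rw [fibreDimAt_eq_localDim_preimage' (k ≫ g) z (g (k z)) rfl,
    fibreDimAt_eq_localDim_preimage' g (k z) _ rfl]
  have hΨ : Topology.IsOpenEmbedding ((g.base ⁻¹' {g (k z)}).restrictPreimage k) :=
    Topology.IsOpenEmbedding.restrictPreimage _ k.isOpenEmbedding
  exact localDim_openEmbedding _ hΨ ⟨z, rfl⟩

theorem eqLocus_comp_openImmersion {P Z S : Scheme.{u}} (k : P ⟶ Z) [IsOpenImmersion k]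
    (g : Z ⟶ S) : eqLocus (k ≫ g) = k ⁻¹' eqLocus g := by
  ext y
  constructor
  · intro h z hz hgz
    have hzr : z ∈ Set.range k := hz.mem_open k.isOpenEmbedding.isOpen_range ⟨y, rfl⟩
    obtain ⟨z', rfl⟩ := hzr
    have hz' : z' ⤳ y := (k.isOpenEmbedding.isInducing.specializes_iff).mp hz
    rw [← fibreDimAt_comp_openImmersion, ← fibreDimAt_comp_openImmersion]
    exact h z' hz' hgz
  · intro h z' hz' hgz'
    rw [fibreDimAt_comp_openImmersion, fibreDimAt_comp_openImmersion]
    exact h (k z') (hz'.map k.continuous) hgz'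

theorem isLocallyConstructible_of_isOpen {F : Scheme.{u}} [IsLocallyNoetherian F] (U : Set F)
    (hU : IsOpen U) : IsLocallyConstructible U := by
  intro x
  obtain ⟨_, ⟨V, hV, rfl⟩, hxV, -⟩ :=
    F.isBasis_affineOpens.exists_subset_of_mem_open (Set.mem_univ x) isOpen_univ
  refine ⟨V, V.isOpen.mem_nhds hxV, V.isOpen, ?_⟩
  haveI : IsNoetherianRing Γ(F, V) := IsLocallyNoetherian.component_noetherian ⟨V, hV⟩
  haveI : NoetherianSpace V := noetherianSpace_of_isAffineOpen V hV
  have hrc : IsRetrocompact (Subtype.val ⁻¹' U : Set V) :=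
    fun W _ _ => NoetherianSpace.isCompact _
  exact hrc.isConstructible (hU.preimage continuous_subtype_val)

/-- complement of the equidimensional locus in terms of fibrewise closures -/
theorem compl_eqLocus_eq {X S : Scheme.{u}} (f : X ⟶ S) [LocallyOfFiniteType f] :
    (eqLocus f)ᶜ = ⋃ a : ℕ, ({x : X | ((a + 1 : ℕ) : WithBot ℕ∞) ≤ FlatMor.fibreDimAt f x} ∩
      fibClosure f {z : X | FlatMor.fibreDimAt f z ≤ ((a : ℕ) : WithBot ℕ∞)}) := by
  have hfib : ∀ (a : ℕ) (x : X), x ∈ fibClosure f {z : X | FlatMor.fibreDimAt f z ≤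
      ((a : ℕ) : WithBot ℕ∞)} ↔ ∃ z : X, FlatMor.fibreDimAt f z ≤ ((a : ℕ) : WithBot ℕ∞) ∧
        z ⤳ x ∧ f z = f x := by
    intro a x
    constructor
    · intro hx
      haveI : LocallyOfFiniteType (f.fiberToSpecResidueField (f x)) :=
        MorphismProperty.pullback_snd _ _ inferInstance
      haveI : IsLocallyNoetherian (f.fiber (f x)) :=
        LocallyOfFiniteType.isLocallyNoetherian (f.fiberToSpecResidueField (f x))
      have hop : IsOpen ((f.fiberι (f x)) ⁻¹' {z : X | FlatMor.fibreDimAt f z ≤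
          ((a : ℕ) : WithBot ℕ∞)}) :=
        (S0402_main f a).preimage (f.fiberι (f x)).continuous
      have hpro : ProCons.IsProConstructible ((f.fiberι (f x)) ⁻¹' {z : X |
          FlatMor.fibreDimAt f z ≤ ((a : ℕ) : WithBot ℕ∞)}) :=
        Groth.Agent.Helper7.ProConsLib.isProConstructible_of_isLocallyConstructible
          (isLocallyConstructible_of_isOpen _ hop)
      obtain ⟨w, hwW, hw⟩ :=
        Groth.Agent.Helper7.ProConsLib.exists_specializes_of_mem_closure_of_isProConstructible
          (f.fiber (f x)) hpro hx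
      refine ⟨f.fiberι (f x) w, hwW, ?_, apply_fiberι f (f x) w⟩
      have := hw.map (f.fiberι (f x)).continuous
      rwa [f.fiberι_asFiber] at this
    · rintro ⟨z, hzW, hzx, hfz⟩
      have hzr : z ∈ Set.range (f.fiberι (f x)) := by
        rw [Scheme.Hom.range_fiberι]; exact hfz
      obtain ⟨w, rfl⟩ := hzr
      have hw : w ⤳ f.asFiber x := by
        rw [← (f.fiberι (f x)).isEmbedding.isInducing.specializes_iff, f.fiberι_asFiber]
        exact hzx
      show f.asFiber x ∈ closure ((f.fiberι (f x)) ⁻¹' _)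
      have hsub : ({w} : Set ↥(f.fiber (f x))) ⊆ (f.fiberι (f x)) ⁻¹' {z : X |
          FlatMor.fibreDimAt f z ≤ ((a : ℕ) : WithBot ℕ∞)} :=
        Set.singleton_subset_iff.mpr hzW
      exact closure_mono hsub (specializes_iff_mem_closure.mp hw)
  ext x
  simp only [Set.mem_compl_iff, Set.mem_iUnion, Set.mem_inter_iff, Set.mem_setOf_eq]
  constructor
  · intro hx
    unfold eqLocus at hx
    simp only [Set.mem_setOf_eq, not_forall] at hx
    obtain ⟨z, hz, hfz, hne⟩ := hx
    obtain ⟨a, ha⟩ := exists_fibreDimAt_nat f z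
    obtain ⟨b, hb⟩ := exists_fibreDimAt_nat f x
    have hle := fibreDimAt_mono_of_specializes f z x hz
    rw [ha, hb] at hle hne
    have hab : a ≤ b := by exact_mod_cast hle
    have hab' : a ≠ b := fun h => hne (by rw [h])
    refine ⟨a, ?_, (hfib a x).mpr ⟨z, ha.le, hz, hfz⟩⟩
    rw [hb]
    have : a + 1 ≤ b := by omega
    exact_mod_cast this
  · rintro ⟨a, hax, hcl⟩ hx
    obtain ⟨z, hza, hz, hfz⟩ := (hfib a x).mp hcl
    have := hx z hz hfz
    rw [← this] at hax
    have h2 := hax.trans hza
    have : a + 1 ≤ a := by exact_mod_cast h2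
    omega

set_option maxHeartbeats 1000000 in
theorem isConstructible_eqLocus_noeth (A : Type u) [CommRing A] [IsNoetherianRing A]
    {X : Scheme.{u}} (f : X ⟶ Spec (CommRingCat.of A)) [LocallyOfFiniteType f] [QuasiCompact f] :
    IsConstructible (eqLocus f) := by
  haveI : IsLocallyNoetherian X := LocallyOfFiniteType.isLocallyNoetherian f
  haveI : CompactSpace X := QuasiCompact.compactSpace_of_compactSpace f
  haveI : IsNoetherian X := {}
  have hrc : ∀ s : Set X, IsRetrocompact s :=
    fun s U _ _ => TopologicalSpace.NoetherianSpace.isCompact _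
  obtain ⟨N, hN⟩ := exists_fibreDimAt_bound f
  have h1 : (eqLocus f)ᶜ = ⋃ a ∈ Finset.range (N + 1),
      ({x : X | ((a + 1 : ℕ) : WithBot ℕ∞) ≤ FlatMor.fibreDimAt f x} ∩
        fibClosure f {z : X | FlatMor.fibreDimAt f z ≤ ((a : ℕ) : WithBot ℕ∞)}) := by
    rw [compl_eqLocus_eq]
    ext x
    simp only [Set.mem_iUnion, Finset.mem_range, exists_prop]
    constructor
    · rintro ⟨a, ha⟩
      refine ⟨a, ?_, ha⟩
      have h2 := ha.1.trans (hN x)
      have : a + 1 ≤ N := by exact_mod_cast h2
      omega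
    · rintro ⟨a, -, ha⟩
      exact ⟨a, ha⟩
  have h2 : IsConstructible (eqLocus f)ᶜ := by
    rw [h1]
    apply IsConstructible.biUnion (Finset.finite_toSet _)
    intro a _
    apply IsConstructible.inter
    · have hcl : IsClosed {x : X | ((a + 1 : ℕ) : WithBot ℕ∞) ≤ FlatMor.fibreDimAt f x} :=
        Groth.Agent.Lib.Helper4.Chev3.isClosed_setOf_le_fibreDimAt f _
      simpa using ((hrc _).isConstructible hcl.isOpen_compl).compl
    · apply isConstructible_fibClosure A f
      exact (hrc _).isConstructible (S0402_main f a)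
  simpa using h2.compl

theorem fibLocusC_eqLocus :
    FibLocusC (fun {X S : Scheme.{u}} (f : X ⟶ S) => eqLocus f) where
  baseChange := fun f _ g f' g' hsq => eqLocus_baseChange f g f' g' hsq
  openImm := fun k _ g => eqLocus_comp_openImmersion k g
  isCons := fun A B _ _ _ _ _ _ _ => by
    haveI : Algebra.FinitePresentation A B :=
      Algebra.FinitePresentation.of_finiteType.mp inferInstance
    haveI : LocallyOfFiniteType (Spec.map (CommRingCat.ofHom (algebraMap A B))) := by
      rw [HasRingHomProperty.Spec_iff (P := @LocallyOfFiniteType)]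
      exact (RingHom.finiteType_algebraMap).mpr inferInstance
    exact isConstructible_eqLocus_noeth A _

theorem isLocallyConstructible_eqLocus {X S : Scheme.{u}} (f : X ⟶ S)
    [LocallyOfFinitePresentation f] : IsLocallyConstructible (eqLocus f) :=
  fibLocusC_eqLocus.isLocallyConstructible f

end Groth.Agent.Lead.RkCons
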