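import Mathlib
import Groth.Prelude
import Groth.Agent.Lib.Lead.FibDec1
import Groth.Agent.Lib.Lead.RkCons6
import Groth.Agent.Lib.Helper2.FibDim.SpecLocus
import Groth.Agent.Lib.Helper4.DimFT2
import Groth.Agent.Lib.Helper8.EssFT1

/-!
# S9165, part 2: properties of the factor cut out by an idempotent (lead)
-/

set_option autoImplicit false
set_option backward.isDefEq.respectTransparency.types false
set_option synthInstance.maxHeartbeats 400000
set_option maxHeartbeats 1000000
set_option linter.style.haveILetI false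
set_option linter.unusedSectionVars false
universe u

namespace Groth.Agent.Lead.FibDec

open AlgebraicGeometry CategoryTheory TensorProduct

section LemmaB

/-- local dimension at the generic point of an irreducible component -/
theorem localDim_of_mem_minimalPrimes (k F : Type u) [Field k] [CommRing F] [Algebra k F]
    [Algebra.FiniteType k F] (P : Ideal F) (hP : P ∈ minimalPrimes F) [hp : P.IsPrime] :
    FlatMor.localDim (PrimeSpectrum F) ⟨P, hp⟩ = ringKrullDim (F ⧸ P) := by
  rw [Groth.Agent.Lib.Helper4.DimFT2.localDim_spec_eq (k := k) P, Ideal.height_eq_zero_iff.mpr hP]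
  simp

end LemmaB

section Transport

variable (R T : Type u) [CommRing R] [CommRing T] [Algebra R T] [Algebra.FiniteType R T]

theorem localDim_fiber_eq (p₀ : Ideal R) [p₀.IsPrime] (P : Ideal (p₀.Fiber T)) [hP : P.IsPrime]
    (q : PrimeSpectrum T)
    (hq : P.comap (Algebra.TensorProduct.includeRight.toRingHom : T →+* p₀.Fiber T) = q.asIdeal)
    (hp : q.asIdeal.under R = p₀) :
    FlatMor.localDim (PrimeSpectrum (p₀.Fiber T)) ⟨P, hP⟩ = FlatMor.fibreDimAt (sp R T) q := by
  subst hp
  exact Groth.Agent.Helper2.FibDim.localDim_fiber_eq_fibreDimAt R T q ⟨P, hP⟩ hq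

theorem under_comap_includeRight (p₀ : Ideal R) [p₀.IsPrime] (P : Ideal (p₀.Fiber T))
    [hP : P.IsPrime] :
    (P.comap (Algebra.TensorProduct.includeRight.toRingHom : T →+* p₀.Fiber T)).under R = p₀ := by
  have h1 : P.comap (algebraMap R (p₀.Fiber T)) = p₀ :=
    (Ideal.LiesOver.over (p := p₀) (P := P)).symm
  refine Eq.trans ?_ h1
  ext x
  simp only [Ideal.under, Ideal.mem_comap]
  have : (Algebra.TensorProduct.includeRight.toRingHom : T →+* p₀.Fiber T) (algebraMap R T x) =
      algebraMap R (p₀.Fiber T) x :=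
    AlgHom.commutes (Algebra.TensorProduct.includeRight : T →ₐ[R] p₀.Fiber T) x
  rw [this]

end Transport

section Factor

variable (R S : Type u) [CommRing R] [CommRing S] [Algebra R S] (e : S)

/-- the factor of `S` cut out by the idempotent `e` -/
abbrev Fac : Type u := S ⧸ Ideal.span {1 - e}

variable {S e} in
theorem isLocalization_fac (he : IsIdempotentElem e) : IsLocalization.Away e (Fac S e) :=
  IsLocalization.Away.quotient_of_isIdempotentElem he

variable {S e} in
theorem flat_fac (he : IsIdempotentElem e) [Module.Flat R S] : Module.Flat R (Fac S e) := by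
  haveI := isLocalization_fac he
  haveI : Module.Flat S (Fac S e) := IsLocalization.flat (Fac S e) (Submonoid.powers e)
  exact Module.Flat.trans R S (Fac S e)

instance fp_fac [Algebra.FinitePresentation R S] : Algebra.FinitePresentation R (Fac S e) :=
  Algebra.FinitePresentation.quotient ⟨{1 - e}, by simp⟩

theorem algebraMap_fac_self {e : S} : algebraMap S (Fac S e) e = 1 := by
  have h : (1 : S) - e ∈ Ideal.span {1 - e} := Ideal.subset_span rfl
  have h2 : Ideal.Quotient.mk (Ideal.span {1 - e}) (1 - e) = 0 :=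
    Ideal.Quotient.eq_zero_iff_mem.mpr h
  rw [map_sub, map_one, sub_eq_zero] at h2
  exact h2.symm

variable {S e} in
theorem cm_fiber_fac (he : IsIdempotentElem e) (p : Ideal R) [p.IsPrime]
    (hCM : LocCoh.IsCohenMacaulayRing (p.Fiber S)) :
    LocCoh.IsCohenMacaulayRing (p.Fiber (Fac S e)) := by
  let π : S →ₐ[R] Fac S e := Ideal.Quotient.mkₐ R _
  have hπ : Function.Surjective π := Ideal.Quotient.mkₐ_surjective R _
  let Φ : p.Fiber S →ₐ[R] p.Fiber (Fac S e) :=
    Algebra.TensorProduct.map (AlgHom.id R p.ResidueField) π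
  letI algF : Algebra (p.Fiber S) (p.Fiber (Fac S e)) := Φ.toRingHom.toAlgebra
  have hsurj : Function.Surjective (algebraMap (p.Fiber S) (p.Fiber (Fac S e))) :=
    Algebra.TensorProduct.map_surjective _ _ Function.surjective_id hπ
  have hker : RingHom.ker (algebraMap (p.Fiber S) (p.Fiber (Fac S e))) =
      Ideal.span {1 - ((1 : p.ResidueField) ⊗ₜ[R] e : p.Fiber S)} := by
    show RingHom.ker Φ = _
    rw [Algebra.TensorProduct.lTensor_ker _ hπ]
    have h1 : RingHom.ker π = Ideal.span {1 - e} := Ideal.Quotient.mkₐ_ker R _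
    rw [h1, Ideal.map_span, Set.image_singleton]
    congr 2
    show (1 : p.ResidueField) ⊗ₜ[R] (1 - e) = _
    rw [TensorProduct.tmul_sub]
    rfl
  have he' : IsIdempotentElem ((1 : p.ResidueField) ⊗ₜ[R] e : p.Fiber S) := by
    unfold IsIdempotentElem
    rw [Algebra.TensorProduct.tmul_mul_tmul, mul_one, he.eq]
  haveI : IsLocalization.Away ((1 : p.ResidueField) ⊗ₜ[R] e : p.Fiber S) (p.Fiber (Fac S e)) :=
    IsLocalization.away_of_isIdempotentElem he' hker hsurj
  exact Groth.Agent.Helper8.EssFT.isCohenMacaulayRing_of_isLocalization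
    (Submonoid.powers ((1 : p.ResidueField) ⊗ₜ[R] e : p.Fiber S)) hCM

variable {S e} in
theorem dim_fiber_fac [Algebra.FiniteType R S] (he : IsIdempotentElem e) (d : ℕ)
    (hd : ∀ q : PrimeSpectrum S, e ∉ q.asIdeal →
      FlatMor.fibreDimAt (sp R S) q = (d : WithBot ℕ∞))
    (p : Ideal R) [p.IsPrime] (P : Ideal (p.Fiber (Fac S e)))
    (hP : P ∈ minimalPrimes (p.Fiber (Fac S e))) :
    ringKrullDim (p.Fiber (Fac S e) ⧸ P) = (d : WithBot ℕ∞) := by
  haveI hPp : P.IsPrime := hP.1.1
  haveI : Algebra.FiniteType R (Fac S e) :=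
    Algebra.FiniteType.of_surjective (Ideal.Quotient.mkₐ R _) (Ideal.Quotient.mkₐ_surjective R _)
  rw [← localDim_of_mem_minimalPrimes p.ResidueField _ P hP]
  set qT : PrimeSpectrum (Fac S e) :=
    ⟨P.comap (Algebra.TensorProduct.includeRight.toRingHom : Fac S e →+* p.Fiber (Fac S e)),
      inferInstance⟩ with hqT
  rw [localDim_fiber_eq R (Fac S e) p P qT rfl (under_comap_includeRight R _ p P)]
  have hcomp : sp R (Fac S e) = sp S (Fac S e) ≫ sp R S := by
    unfold sp
    rw [← Spec.map_comp, ← CommRingCat.ofHom_comp, ← IsScalarTower.algebraMap_eq]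
  haveI := isLocalization_fac he
  haveI : IsOpenImmersion (sp S (Fac S e)) := IsOpenImmersion.of_isLocalization e
  rw [hcomp, Groth.Agent.Lead.RkCons.fibreDimAt_comp_openImmersion]
  apply hd
  show e ∉ qT.asIdeal.comap (algebraMap S (Fac S e))
  rw [Ideal.mem_comap, algebraMap_fac_self]
  exact (Ideal.ne_top_iff_one _).mp qT.2.ne_top

end Factor

end Groth.Agent.Lead.FibDec
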