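import Mathlib
import Groth.Prelude
import Groth.Agent.Lib.Lead.FibDec2
import Groth.Agent.Lib.Helper4.FibDimComp1

/-!
# S9165: decomposition of a flat finitely presented algebra with Cohen–Macaulay fibres
by fibre dimension (lead)
-/

set_option autoImplicit false
set_option backward.isDefEq.respectTransparency.types false
set_option synthInstance.maxHeartbeats 400000
set_option maxHeartbeats 1000000
set_option linter.style.haveILetI false
set_option linter.unusedSectionVars false
universe u

namespace Groth.Agent.Lead.FibDec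

open AlgebraicGeometry CategoryTheory TensorProduct

theorem main9165 (R S : Type u) [CommRing R]
    [CommRing S] [Algebra R S] [Module.Flat R S] [Algebra.FinitePresentation R S]
    (hCM : ∀ p : PrimeSpectrum R, LocCoh.IsCohenMacaulayRing (p.asIdeal.Fiber S)) :
    ∃ (N : ℕ) (T : Fin (N + 1) → Type u) (_ : ∀ d, CommRing (T d)) (_ : ∀ d, Algebra R (T d)),
      Nonempty (S ≃ₐ[R] ((d : Fin (N + 1)) → T d)) ∧
        ∀ d : Fin (N + 1), Module.Flat R (T d) ∧ Algebra.FinitePresentation R (T d) ∧
          (∀ p : PrimeSpectrum R, LocCoh.IsCohenMacaulayRing (p.asIdeal.Fiber (T d))) ∧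
          ∀ (p : PrimeSpectrum R), ∀ P ∈ minimalPrimes (p.asIdeal.Fiber (T d)),
            ringKrullDim (p.asIdeal.Fiber (T d) ⧸ P) = ((d : ℕ) : WithBot ℕ∞) := by
  classical
  obtain ⟨δ, hδdef⟩ : ∃ δ : PrimeSpectrum S → WithBot ℕ∞,
      δ = fun x => FlatMor.fibreDimAt (sp R S) x := ⟨_, rfl⟩
  have hlc : IsLocallyConstant δ := by
    rw [hδdef]
    exact isLocallyConstant_fibreDimAt R S hCM
  have hnat : ∀ x : PrimeSpectrum S, ∃ n : ℕ, δ x = (n : WithBot ℕ∞) := by
    intro x
    rw [hδdef]
    exact Groth.Agent.Lib.Helper4.FibDimComp1.exists_fibreDimAt_nat (sp R S) x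
  choose δn hδn using hnat
  have hlcn : IsLocallyConstant δn := by
    rw [IsLocallyConstant.iff_isOpen_fiber]
    intro m
    have h1 : δn ⁻¹' {m} = δ ⁻¹' {(m : WithBot ℕ∞)} := by
      ext x
      simp only [Set.mem_preimage, Set.mem_singleton_iff]
      rw [hδn x]
      constructor
      · intro h
        rw [h]
      · intro h
        exact_mod_cast h
    rw [h1]
    exact hlc.isOpen_fiber _
  obtain ⟨N, hN⟩ := hlcn.range_finite.bddAbove
  have hN' : ∀ q, δn q ≤ N := fun q => hN ⟨q, rfl⟩
  have hU : ∀ d : Fin (N + 1), IsClopen (δn ⁻¹' {d.val}) := fun d => hlcn.isClopen_fiber _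
  choose e he hUe using fun d => PrimeSpectrum.isClopen_iff.mp (hU d)
  have hmem : ∀ (d : Fin (N + 1)) (q : PrimeSpectrum S), e d ∉ q.asIdeal ↔ δn q = d.val := by
    intro d q
    have h := Set.ext_iff.mp (hUe d) q
    rw [Set.mem_preimage, Set.mem_singleton_iff] at h
    rw [h]
    rfl
  have horth : ∀ d d' : Fin (N + 1), d ≠ d' → e d * e d' = 0 := by
    intro d d' hdd'
    have h1 : IsIdempotentElem (e d * e d') := (he d).mul (he d')
    apply PrimeSpectrum.basicOpen_injOn_isIdempotentElem h1 IsIdempotentElem.zero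
    rw [PrimeSpectrum.basicOpen_zero]
    ext q
    simp only [TopologicalSpace.Opens.coe_bot, Set.mem_empty_iff_false, iff_false]
    intro hq
    have hq' : e d * e d' ∉ q.asIdeal := hq
    have h2 : e d ∉ q.asIdeal := fun h => hq' (q.asIdeal.mul_mem_right _ h)
    have h3 : e d' ∉ q.asIdeal := fun h => hq' (q.asIdeal.mul_mem_left _ h)
    have h4 := (hmem d q).mp h2
    have h5 := (hmem d' q).mp h3
    exact hdd' (Fin.ext (h4.symm.trans h5))
  have hoi : OrthogonalIdempotents e := ⟨he, fun d d' h => horth d d' h⟩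
  have hcomplete : ∑ d, e d = 1 := by
    have h1 : IsIdempotentElem (∑ d, e d) := hoi.isIdempotentElem_sum
    apply PrimeSpectrum.basicOpen_injOn_isIdempotentElem h1 IsIdempotentElem.one
    rw [PrimeSpectrum.basicOpen_one]
    ext q
    simp only [TopologicalSpace.Opens.coe_top, Set.mem_univ, iff_true]
    show ∑ d, e d ∉ q.asIdeal
    intro hsum
    let d₀ : Fin (N + 1) := ⟨δn q, Nat.lt_succ_of_le (hN' q)⟩
    have hd₀ : e d₀ ∉ q.asIdeal := (hmem d₀ q).mpr rfl
    have hother : ∀ d ∈ Finset.univ.erase d₀, e d ∈ q.asIdeal := by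
      intro d hd
      have hne : d ≠ d₀ := Finset.ne_of_mem_erase hd
      have h0 : e d * e d₀ ∈ q.asIdeal := by
        rw [horth d d₀ hne]
        exact q.asIdeal.zero_mem
      exact (q.2.mem_or_mem h0).resolve_right hd₀
    have hsplit : ∑ d, e d = e d₀ + ∑ d ∈ Finset.univ.erase d₀, e d :=
      (Finset.add_sum_erase Finset.univ e (Finset.mem_univ d₀)).symm
    rw [hsplit] at hsum
    have h6 : ∑ d ∈ Finset.univ.erase d₀, e d ∈ q.asIdeal := q.asIdeal.sum_mem hother
    exact hd₀ ((q.asIdeal.add_mem_iff_left h6).mp hsum)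
  have hcoi : CompleteOrthogonalIdempotents e := ⟨hoi, hcomplete⟩
  refine ⟨N, fun d => Fac S (e d), fun d => inferInstance, fun d => inferInstance,
    ⟨AlgEquiv.ofBijective (Pi.algHom R _ fun d => Ideal.Quotient.mkₐ R _) hcoi.bijective_pi⟩,
    fun d => ⟨flat_fac R (he d), inferInstance,
      fun p => cm_fiber_fac R (he d) p.asIdeal (hCM p),
      fun p P hP => dim_fiber_fac R (he d) d.val ?_ p.asIdeal P hP⟩⟩
  intro q hq
  have h7 : FlatMor.fibreDimAt (sp R S) q = δ q := by rw [hδdef]
  rw [h7, hδn q, (hmem d q).mp hq]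

end Groth.Agent.Lead.FibDec
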