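import Mathlib
import Groth.Agent.Lib.Helper9.SF.RankCount

set_option backward.isDefEq.respectTransparency.types false
set_option autoImplicit false
set_option synthInstance.maxHeartbeats 400000
set_option linter.style.haveILetI false
set_option linter.unusedSectionVars false

universe u

open TensorProduct

namespace Groth.Agent.Lead.FibDeg

/-- The rank at a prime of a finite module equals the dimension of the fibre. -/
theorem rankAtStalk_eq_finrank_fibre {A : Type u} [CommRing A] (M : Type u) [AddCommGroup M]
    [Module A M] [Module.Finite A M] [Module.Flat A M]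
    (m : PrimeSpectrum A) :
    Module.rankAtStalk M m = Module.finrank m.asIdeal.ResidueField (m.asIdeal.ResidueField ⊗[A] M) := by
  have h := Module.rankAtStalk_baseChange (R := A) (M := M) (S := m.asIdeal.ResidueField)
    (⟨⊥, Ideal.isPrime_bot⟩ : PrimeSpectrum m.asIdeal.ResidueField)
  rw [Module.rankAtStalk_eq_finrank_of_free] at h
  have h2 : (⟨⊥, Ideal.isPrime_bot⟩ : PrimeSpectrum m.asIdeal.ResidueField).comap
      (algebraMap A m.asIdeal.ResidueField) = m := by
    ext1
    simp only [PrimeSpectrum.comap_asIdeal]
    rw [← RingHom.ker_eq_comap_bot]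
    exact Ideal.ker_algebraMap_residueField _
  rw [h2] at h
  simpa using h.symm

/-- The generic rank of a finite algebra over a domain is the degree of the fraction field
extension. -/
theorem rankAtStalk_bot_eq_finrank {A B K L : Type u} [CommRing A] [CommRing B] [IsDomain A]
    [IsDomain B] [Algebra A B] [Module.Finite A B] [Module.Flat A B]
    [Field K] [Field L] [Algebra A K] [IsFractionRing A K] [Algebra B L] [IsFractionRing B L]
    [Algebra K L] [Algebra A L] [IsScalarTower A K L] [IsScalarTower A B L] :
    Module.rankAtStalk B (⟨⊥, Ideal.isPrime_bot⟩ : PrimeSpectrum A) = Module.finrank K L := by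
  haveI : FaithfulSMul A B := by
    rw [faithfulSMul_iff_algebraMap_injective]
    have h1 : Function.Injective (algebraMap A L) := by
      rw [IsScalarTower.algebraMap_eq A K L]
      exact (algebraMap K L).injective.comp (IsFractionRing.injective A K)
    rw [IsScalarTower.algebraMap_eq A B L] at h1
    exact Function.Injective.of_comp h1
  haveI : Algebra.IsAlgebraic A B := Algebra.IsIntegral.isAlgebraic
  have hbc := Algebra.IsAlgebraic.isBaseChange_of_isFractionRing A B K L
  have h := Module.rankAtStalk_isBaseChange hbc (⟨⊥, Ideal.isPrime_bot⟩ : PrimeSpectrum K)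
  rw [Module.rankAtStalk_eq_finrank_of_free] at h
  have h2 : (⟨⊥, Ideal.isPrime_bot⟩ : PrimeSpectrum K).comap (algebraMap A K) =
      ⟨⊥, Ideal.isPrime_bot⟩ := by
    ext1
    simp only [PrimeSpectrum.comap_asIdeal]
    rw [← RingHom.ker_eq_comap_bot]
    exact (RingHom.injective_iff_ker_eq_bot _).mp (IsFractionRing.injective A K)
  rw [h2] at h
  simpa using h.symm

/-- Fibre count for a finite flat unramified extension of domains at a prime with algebraically
closed residue field. -/
theorem card_fibre_eq_finrank {A B K L : Type u} [CommRing A] [CommRing B] [IsDomain A]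
    [IsDomain B] [Algebra A B] [Module.Finite A B] [Module.Flat A B]
    [Algebra.FormallyUnramified A B]
    [Field K] [Field L] [Algebra A K] [IsFractionRing A K] [Algebra B L] [IsFractionRing B L]
    [Algebra K L] [Algebra A L] [IsScalarTower A K L] [IsScalarTower A B L]
    (m : PrimeSpectrum A) [IsAlgClosed m.asIdeal.ResidueField] :
    Nat.card {q : PrimeSpectrum B // q.comap (algebraMap A B) = m} = Module.finrank K L := by
  have h1 : Nat.card {q : PrimeSpectrum B // q.comap (algebraMap A B) = m} =
      Nat.card (PrimeSpectrum (m.asIdeal.ResidueField ⊗[A] B)) :=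
    Nat.card_congr (PrimeSpectrum.preimageEquivFiber A B m)
  haveI : Algebra.FormallyUnramified m.asIdeal.ResidueField (m.asIdeal.ResidueField ⊗[A] B) :=
    inferInstance
  haveI : Algebra.FormallyEtale m.asIdeal.ResidueField (m.asIdeal.ResidueField ⊗[A] B) :=
    Algebra.FormallyEtale.of_formallyUnramified_of_field _ _
  haveI : Algebra.FinitePresentation m.asIdeal.ResidueField (m.asIdeal.ResidueField ⊗[A] B) :=
    Algebra.FinitePresentation.of_finiteType.mp inferInstance
  haveI : Algebra.Etale m.asIdeal.ResidueField (m.asIdeal.ResidueField ⊗[A] B) := { }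
  rw [h1, H9SF.card_primeSpectrum_eq_finrank m.asIdeal.ResidueField
    (m.asIdeal.ResidueField ⊗[A] B), ← rankAtStalk_eq_finrank_fibre B m,
    ← rankAtStalk_bot_eq_finrank (A := A) (B := B) (K := K) (L := L)]
  exact (Module.rankAtStalk_eq_of_le_of_finite_of_flat B
    (p := ⟨⊥, Ideal.isPrime_bot⟩) (q := m) (by
      change (⊥ : Ideal A) ≤ m.asIdeal
      exact bot_le)).symm

end Groth.Agent.Lead.FibDeg
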