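import Mathlib
import Groth.Prelude.Def_ModelsG
import Groth.Agent.Lib.Lead.FibDeg1
import Groth.Agent.Lib.Helper2.FinReg.Main

set_option backward.isDefEq.respectTransparency.types false
set_option autoImplicit false
set_option synthInstance.maxHeartbeats 400000
set_option linter.style.haveILetI false
set_option linter.unusedSectionVars false

universe u

open TensorProduct CategoryTheory CategoryTheory.Limits AlgebraicGeometry TopologicalSpace

namespace Groth.Agent.Lead.FibDeg

/-- Residue fields at maximal ideals of finite type algebras over an algebraically closed field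
are algebraically closed. -/
theorem isAlgClosed_residueField (k : Type u) [Field k] [IsAlgClosed k] (A : Type u) [CommRing A]
    [Algebra k A] [Algebra.FiniteType k A] (m : Ideal A) [m.IsMaximal] :
    IsAlgClosed m.ResidueField := by
  letI : Field (A ⧸ m) := Ideal.Quotient.field m
  haveI : Algebra.FiniteType k (A ⧸ m) :=
    Algebra.FiniteType.of_surjective (Ideal.Quotient.mkₐ k m) (Ideal.Quotient.mkₐ_surjective k m)
  haveI : Module.Finite k (A ⧸ m) := finite_of_finite_type_of_isJacobsonRing k (A ⧸ m)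
  have hb : Function.Bijective (algebraMap k (A ⧸ m)) :=
    IsAlgClosed.algebraMap_bijective_of_isIntegral
  have hb2 : Function.Bijective (algebraMap (A ⧸ m) m.ResidueField) :=
    Ideal.bijective_algebraMap_quotient_residueField m
  let e : k ≃+* m.ResidueField :=
    RingEquiv.ofBijective ((algebraMap (A ⧸ m) m.ResidueField).comp (algebraMap k (A ⧸ m)))
      (hb2.comp hb)
  exact IsAlgClosed.of_ringEquiv k _ e

section Chart

variable {X : Scheme.{u}} {U : X.Opens} (hU : IsAffineOpen U)

theorem fromSpec_mem (q : PrimeSpectrum Γ(X, U)) : hU.fromSpec q ∈ U := by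
  rw [← SetLike.mem_coe, ← hU.range_fromSpec]
  exact ⟨q, rfl⟩

theorem primeIdealOf_fromSpec (q : PrimeSpectrum Γ(X, U)) (hq : hU.fromSpec q ∈ U) :
    hU.primeIdealOf ⟨hU.fromSpec q, hq⟩ = q :=
  hU.fromSpec.isOpenEmbedding.injective (hU.fromSpec_primeIdealOf ⟨hU.fromSpec q, hq⟩)

theorem eq_of_primeIdealOf_eq (x y : X) (hx : x ∈ U) (hy : y ∈ U)
    (h : hU.primeIdealOf ⟨x, hx⟩ = hU.primeIdealOf ⟨y, hy⟩) : x = y := by
  have h2 := congrArg (fun q => hU.fromSpec q) h
  simp only [hU.fromSpec_primeIdealOf] at h2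
  exact h2

end Chart

/-- The fibre of a morphism over a point of an affine open `U` with affine preimage, in terms of
prime ideals. -/
theorem card_fibre_eq_card_primes {X Y : Scheme.{u}} (π : Y ⟶ X) {U : X.Opens}
    (hU : IsAffineOpen U) (hV : IsAffineOpen (π ⁻¹ᵁ U)) (p : X) (hpU : p ∈ U) :
    Nat.card {q : Y // π.base q = p} =
      Nat.card {q : PrimeSpectrum Γ(Y, π ⁻¹ᵁ U) //
        q.comap (π.app U).hom = hU.primeIdealOf ⟨p, hpU⟩} := by
  have hcomap : ∀ (q : Y) (hq : q ∈ π ⁻¹ᵁ U),
      (hV.primeIdealOf ⟨q, hq⟩).comap (π.app U).hom = hU.primeIdealOf ⟨π.base q, hq⟩ := by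
    intro q hq
    have := IsAffineOpen.comap_primeIdealOf_appLE (f := π) U hU (π ⁻¹ᵁ U) hV le_rfl hq
    rwa [Scheme.Hom.appLE_eq_app] at this
  refine Nat.card_congr (Equiv.ofBijective
    (fun q => ⟨hV.primeIdealOf ⟨q.1, by
        change π.base q.1 ∈ U
        rw [q.2]; exact hpU⟩, by
      rw [hcomap]
      congr 1
      exact Subtype.ext q.2⟩) ⟨?_, ?_⟩)
  · intro q q' h
    have h1 := congrArg Subtype.val h
    simp only at h1
    exact Subtype.ext (eq_of_primeIdealOf_eq hV _ _ _ _ h1)
  · intro q'
    have hmem : hV.fromSpec q'.1 ∈ π ⁻¹ᵁ U := fromSpec_mem hV q'.1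
    have hq : π.base (hV.fromSpec q'.1) = p := by
      apply eq_of_primeIdealOf_eq hU _ _ hmem hpU
      rw [← hcomap _ hmem, primeIdealOf_fromSpec hV]
      exact q'.2
    refine ⟨⟨hV.fromSpec q'.1, hq⟩, ?_⟩
    apply Subtype.ext
    exact primeIdealOf_fromSpec hV q'.1 hmem


/-- Flatness of a finite surjective morphism of integral regular schemes. -/
theorem flat_of_finite_surjective_regular {X Y : Scheme.{u}} [IsIntegral X] [IsIntegral Y]
    [IsLocallyNoetherian X] [IsLocallyNoetherian Y]
    (hregX : ∀ x : X, IsRegularLocalRing (X.presheaf.stalk x))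
    (hregY : ∀ y : Y, IsRegularLocalRing (Y.presheaf.stalk y))
    (π : Y ⟶ X) [IsFinite π] [Surjective π] : Flat π := by
  refine Groth.Agent.Lib.Helper2.FinReg.flat_of_finite_regular π hregY hregX ?_
  intro Z hZ
  rw [irreducibleComponents_eq_singleton, Set.mem_singleton_iff] at hZ
  rw [irreducibleComponents_eq_singleton, Set.mem_singleton_iff, hZ, Set.image_univ,
    π.surjective.range_eq, closure_univ]

end Groth.Agent.Lead.FibDeg
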