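import Mathlib
import Groth.Prelude.Def_ModelsG
import Groth.Agent.Lib.Lead.FibDeg2

set_option backward.isDefEq.respectTransparency.types false
set_option autoImplicit false
set_option synthInstance.maxHeartbeats 400000
set_option linter.style.haveILetI false
set_option linter.unusedSectionVars false

universe u

open TensorProduct CategoryTheory CategoryTheory.Limits AlgebraicGeometry TopologicalSpace

namespace Groth.Agent.Lead.FibDeg

theorem main15003 (k : Type u) [Field k] [IsAlgClosed k]
    (X Y : Scheme.{u}) [X.Over (Spec (CommRingCat.of k))] [Y.Over (Spec (CommRingCat.of k))]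
    [IsIntegral X] [IsIntegral Y]
    [LocallyOfFiniteType (X ↘ (Spec (CommRingCat.of k)))]
    [LocallyOfFiniteType (Y ↘ (Spec (CommRingCat.of k)))]
    (hregX : ∀ x : X, IsRegularLocalRing (X.presheaf.stalk x))
    (hregY : ∀ y : Y, IsRegularLocalRing (Y.presheaf.stalk y))
    (π : Y ⟶ X)
    [AlgebraicGeometry.IsFinite π] [AlgebraicGeometry.Surjective π]
    [AlgebraicGeometry.FormallyUnramified π]
    (e : π.base (genericPoint Y) = genericPoint X) (p : X) (hp : IsClosed ({p} : Set X)) :
    Nat.card {q : Y // π.base q = p} =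
      Models.homDegree (X.presheaf.stalkSpecializes (specializes_of_eq e) ≫
        π.stalkMap (genericPoint Y)).hom := by
  haveI : IsLocallyNoetherian (Spec (CommRingCat.of k)) := inferInstance
  haveI : IsLocallyNoetherian X :=
    LocallyOfFiniteType.isLocallyNoetherian (X ↘ (Spec (CommRingCat.of k)))
  haveI : IsLocallyNoetherian Y :=
    LocallyOfFiniteType.isLocallyNoetherian (Y ↘ (Spec (CommRingCat.of k)))
  haveI : Flat π := flat_of_finite_surjective_regular hregX hregY π
  obtain ⟨U, hU, hpU, -⟩ := exists_isAffineOpen_mem_and_subset (x := p) (U := ⊤) trivial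
  have hV : IsAffineOpen (π ⁻¹ᵁ U) := hU.preimage π
  haveI : Nonempty U := ⟨⟨p, hpU⟩⟩
  haveI : Nonempty (π ⁻¹ᵁ U) := by
    obtain ⟨q, hq⟩ := π.surjective p
    exact ⟨⟨q, by change π.base q ∈ U; rw [hq]; exact hpU⟩⟩
  rw [card_fibre_eq_card_primes π hU hV p hpU]
  set m := hU.primeIdealOf ⟨p, hpU⟩ with hm
  haveI hmax : m.asIdeal.IsMaximal := hU.primeIdealOf_isMaximal_of_isClosed ⟨p, hpU⟩ hp
  -- algebra structures
  letI : Algebra Γ(X, U) Γ(Y, π ⁻¹ᵁ U) := (π.app U).hom.toAlgebra
  haveI : Module.Finite Γ(X, U) Γ(Y, π ⁻¹ᵁ U) := π.finite_app U hU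
  haveI : Module.Flat Γ(X, U) Γ(Y, π ⁻¹ᵁ U) := by
    have := π.flat_appLE hU hV le_rfl
    rwa [Scheme.Hom.appLE_eq_app] at this
  haveI : Algebra.FormallyUnramified Γ(X, U) Γ(Y, π ⁻¹ᵁ U) := by
    have := π.formallyUnramified_appLE hU hV le_rfl
    rwa [Scheme.Hom.appLE_eq_app] at this
  haveI : IsDomain Γ(X, U) := inferInstance
  haveI : IsDomain Γ(Y, π ⁻¹ᵁ U) := inferInstance
  haveI : IsFractionRing Γ(X, U) X.functionField :=
    functionField_isFractionRing_of_isAffineOpen X U hU
  haveI : IsFractionRing Γ(Y, π ⁻¹ᵁ U) Y.functionField :=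
    functionField_isFractionRing_of_isAffineOpen Y (π ⁻¹ᵁ U) hV
  letI : Algebra X.functionField Y.functionField :=
    (X.presheaf.stalkSpecializes (specializes_of_eq e) ≫ π.stalkMap (genericPoint Y)).hom.toAlgebra
  letI : Algebra Γ(X, U) Y.functionField :=
    ((algebraMap Γ(Y, π ⁻¹ᵁ U) Y.functionField).comp (π.app U).hom).toAlgebra
  haveI : IsScalarTower Γ(X, U) Γ(Y, π ⁻¹ᵁ U) Y.functionField :=
    IsScalarTower.of_algebraMap_eq' rfl
  haveI : IsScalarTower Γ(X, U) X.functionField Y.functionField := by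
    apply IsScalarTower.of_algebraMap_eq'
    have hmemY : genericPoint Y ∈ π ⁻¹ᵁ U :=
      ((genericPoint_spec Y).mem_open_set_iff (π ⁻¹ᵁ U).isOpen).mpr (by simpa using ‹Nonempty (π ⁻¹ᵁ U)›)
    have h1 : X.germToFunctionField U ≫ X.presheaf.stalkSpecializes (specializes_of_eq e) ≫
        π.stalkMap (genericPoint Y) = π.app U ≫ Y.germToFunctionField (π ⁻¹ᵁ U) := by
      rw [← Category.assoc]
      unfold Scheme.germToFunctionField
      rw [X.presheaf.germ_stalkSpecializes, Scheme.Hom.germ_stalkMap]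
    exact congrArg CommRingCat.Hom.hom h1.symm
  -- residue field
  haveI : IsAlgClosed m.asIdeal.ResidueField := by
    let ρ : k →+* Γ(X, U) :=
      ((X ↘ (Spec (CommRingCat.of k))).appLE ⊤ U (by simp)).hom.comp
        (Scheme.ΓSpecIso (CommRingCat.of k)).inv.hom
    have hρ : ρ.FiniteType := by
      refine RingHom.FiniteType.comp
        ((X ↘ (Spec (CommRingCat.of k))).finiteType_appLE (isAffineOpen_top _) hU _) ?_
      apply RingHom.FiniteType.of_surjective
      exact ((Scheme.ΓSpecIso (CommRingCat.of k)).symm.commRingCatIsoToRingEquiv).surjective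
    letI : Algebra k Γ(X, U) := ρ.toAlgebra
    haveI : Algebra.FiniteType k Γ(X, U) := hρ
    exact isAlgClosed_residueField k Γ(X, U) m.asIdeal
  exact card_fibre_eq_finrank (A := Γ(X, U)) (B := Γ(Y, π ⁻¹ᵁ U)) (K := X.functionField)
    (L := Y.functionField) m

end Groth.Agent.Lead.FibDeg
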