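import Mathlib

/-!
# Maximal ideals of the stalk of `g_* O_Z` for an integral morphism `g` (lead)
-/

set_option backward.isDefEq.respectTransparency.types false
set_option synthInstance.maxHeartbeats 400000
set_option autoImplicit false
set_option linter.unusedSectionVars false
set_option linter.style.haveILetI false

universe u
open CategoryTheory CategoryTheory.Limits AlgebraicGeometry TopologicalSpace Opposite

namespace Groth.Agent.Lead.FibMax

variable {Z X : Scheme.{u}} (g : Z ⟶ X) (x : X)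

/-- the canonical map `(g_* O_Z)_x ⟶ O_{Z,z}` for `z` over `x` -/
noncomputable def psi (z : Z) (hz : g.base z = x) :
    (g.base _* Z.presheaf).stalk x ⟶ Z.presheaf.stalk z :=
  ((g.base _* Z.presheaf).stalkCongr (Inseparable.of_eq hz)).inv ≫
    TopCat.Presheaf.stalkPushforward CommRingCat g.base Z.presheaf z

theorem mem_preimage_of_eq {z : Z} (hz : g.base z = x) {V : X.Opens} (hx : x ∈ V) :
    z ∈ g ⁻¹ᵁ V := by
  change g.base z ∈ V
  rw [hz]
  exact hx

theorem germ_psi (z : Z) (hz : g.base z = x) (V : X.Opens) (hx : x ∈ V) :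
    (g.base _* Z.presheaf).germ V x hx ≫ psi g x z hz =
      Z.presheaf.germ (g ⁻¹ᵁ V) z (mem_preimage_of_eq g x hz hx) := by
  unfold psi
  rw [← Category.assoc]
  have h1 : (g.base _* Z.presheaf).germ V x hx ≫
      ((g.base _* Z.presheaf).stalkCongr (Inseparable.of_eq hz)).inv =
      (g.base _* Z.presheaf).germ V (g.base z) (by rw [hz]; exact hx) :=
    TopCat.Presheaf.germ_stalkSpecializes (g.base _* Z.presheaf) hx (Inseparable.of_eq hz).le
  rw [h1]
  exact TopCat.Presheaf.stalkPushforward_germ _ g.base Z.presheaf V z _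

theorem psi_germ (z : Z) (hz : g.base z = x) (V : X.Opens) (hx : x ∈ V)
    (s : Γ(Z, g ⁻¹ᵁ V)) :
    (psi g x z hz).hom ((g.base _* Z.presheaf).germ V x hx s) =
      Z.presheaf.germ (g ⁻¹ᵁ V) z (mem_preimage_of_eq g x hz hx) s := by
  have h := germ_psi g x z hz V hx
  exact congrArg (fun φ => φ.hom s) h

/-- the structure map `O_{X,x} ⟶ (g_* O_Z)_x` -/
noncomputable def alpha : X.presheaf.stalk x ⟶ (g.base _* Z.presheaf).stalk x :=
  (TopCat.Presheaf.stalkFunctor CommRingCat x).map g.c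

theorem alpha_germ (V : X.Opens) (hx : x ∈ V) (c : Γ(X, V)) :
    (alpha g x).hom (X.presheaf.germ V x hx c) =
      (g.base _* Z.presheaf).germ V x hx ((g.app V).hom c) := by
  have h := TopCat.Presheaf.stalkFunctor_map_germ V x hx g.c
  exact congrArg (fun φ => φ.hom c) h

/-- every element of the stalk is a germ over an affine open inside a given neighbourhood -/
theorem exists_germ_affine (V₀ : X.Opens) (hx₀ : x ∈ V₀) (σ : (g.base _* Z.presheaf).stalk x) :
    ∃ (V : X.Opens) (_ : IsAffineOpen V) (_ : V ≤ V₀) (hx : x ∈ V) (s : Γ(Z, g ⁻¹ᵁ V)),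
      (g.base _* Z.presheaf).germ V x hx s = σ := by
  obtain ⟨V₁, hx₁, s₁, rfl⟩ := TopCat.Presheaf.exists_germ_eq (g.base _* Z.presheaf) σ
  obtain ⟨_, ⟨V, hV, rfl⟩, hxV, hle⟩ := X.isBasis_affineOpens.exists_subset_of_mem_open
    (show x ∈ ((V₁ ⊓ V₀ : X.Opens) : Set X) from ⟨hx₁, hx₀⟩) (V₁ ⊓ V₀).2
  have hle1 : V ≤ V₁ := fun y hy => (hle hy).1
  have hle0 : V ≤ V₀ := fun y hy => (hle hy).2
  refine ⟨V, hV, hle0, hxV, (g.base _* Z.presheaf).map (homOfLE hle1).op s₁, ?_⟩
  exact TopCat.Presheaf.germ_res_apply (g.base _* Z.presheaf) (homOfLE hle1) x hxV s₁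

theorem isIntegral_alpha [IsIntegralHom g] : (alpha g x).hom.IsIntegral := by
  intro σ
  obtain ⟨V, hV, -, hx, s, rfl⟩ := exists_germ_affine g x ⊤ trivial σ
  obtain ⟨p, hp, hp0⟩ := g.isIntegral_app V hV s
  refine ⟨p.map (X.presheaf.germ V x hx).hom, hp.map _, ?_⟩
  rw [Polynomial.eval₂_map]
  have h1 : (alpha g x).hom.comp (X.presheaf.germ V x hx).hom =
      ((g.base _* Z.presheaf).germ V x hx).hom.comp (g.app V).hom := by
    ext c
    exact alpha_germ g x V hx c
  rw [h1, ← Polynomial.hom_eval₂, hp0, map_zero]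

theorem isUnit_of_isUnit_psi_alpha (z : Z) (hz : g.base z = x) (c : X.presheaf.stalk x)
    (h : IsUnit ((psi g x z hz).hom ((alpha g x).hom c))) : IsUnit c := by
  obtain ⟨V, hx, c', rfl⟩ := TopCat.Presheaf.exists_germ_eq X.presheaf c
  rw [alpha_germ, psi_germ] at h
  have h1 : z ∈ Z.basicOpen ((g.app V).hom c') :=
    (Z.mem_basicOpen _ z (mem_preimage_of_eq g x hz hx)).2 h
  rw [← Scheme.preimage_basicOpen] at h1
  have h2 : g.base z ∈ X.basicOpen c' := h1
  rw [hz] at h2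
  exact (X.mem_basicOpen _ x hx).1 h2

/-- the ideal attached to a point of the fibre -/
noncomputable def Phi (z : Z) (hz : g.base z = x) : Ideal ((g.base _* Z.presheaf).stalk x) :=
  Ideal.comap (psi g x z hz).hom (IsLocalRing.maximalIdeal (Z.presheaf.stalk z))

instance (z : Z) (hz : g.base z = x) : (Phi g x z hz).IsPrime := by
  unfold Phi
  infer_instance

theorem comap_alpha_Phi (z : Z) (hz : g.base z = x) :
    (Phi g x z hz).comap (alpha g x).hom = IsLocalRing.maximalIdeal (X.presheaf.stalk x) := by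
  ext c
  rw [Ideal.mem_comap, Phi, Ideal.mem_comap, IsLocalRing.mem_maximalIdeal,
    IsLocalRing.mem_maximalIdeal, mem_nonunits_iff, mem_nonunits_iff]
  constructor
  · intro h hc
    exact h ((hc.map (alpha g x).hom).map (psi g x z hz).hom)
  · intro h hc
    exact h (isUnit_of_isUnit_psi_alpha g x z hz c hc)

theorem isMaximal_Phi [IsIntegralHom g] (z : Z) (hz : g.base z = x) :
    (Phi g x z hz).IsMaximal := by
  apply Ideal.isMaximal_of_isIntegral_of_isMaximal_comap' (alpha g x).hom (isIntegral_alpha g x)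
  rw [comap_alpha_Phi]
  infer_instance

theorem comap_alpha_of_isMaximal [IsIntegralHom g] (P : Ideal ((g.base _* Z.presheaf).stalk x))
    [P.IsMaximal] : P.comap (alpha g x).hom = IsLocalRing.maximalIdeal (X.presheaf.stalk x) := by
  have h := Ideal.isMaximal_comap_of_isIntegral_of_isMaximal' (alpha g x).hom
    (isIntegral_alpha g x) P
  exact IsLocalRing.eq_maximalIdeal h

theorem germ_mem_Phi_iff (z : Z) (hz : g.base z = x) (V : X.Opens) (hx : x ∈ V)
    (s : Γ(Z, g ⁻¹ᵁ V)) :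
    (g.base _* Z.presheaf).germ V x hx s ∈ Phi g x z hz ↔ z ∉ Z.basicOpen s := by
  rw [Phi, Ideal.mem_comap, psi_germ, IsLocalRing.mem_maximalIdeal, mem_nonunits_iff,
    Z.mem_basicOpen _ z (mem_preimage_of_eq g x hz hx)]

theorem Phi_injective [IsAffineHom g] (z z' : Z) (hz : g.base z = x) (hz' : g.base z' = x)
    (h : Phi g x z hz = Phi g x z' hz') : z = z' := by
  obtain ⟨_, ⟨V₀, hV₀, rfl⟩, hx₀, -⟩ := X.isBasis_affineOpens.exists_subset_of_mem_open
    (Set.mem_univ x) isOpen_univ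
  have hW : IsAffineOpen (g ⁻¹ᵁ V₀) := hV₀.preimage g
  have key : ∀ (w w' : Z) (hw : g.base w = x) (hw' : g.base w' = x),
      Phi g x w hw = Phi g x w' hw' → ∀ O : Set Z, IsOpen O → w ∈ O → w' ∈ O := by
    intro w w' hw hw' hΦ O hO hwO
    obtain ⟨b, hbO, hwb⟩ := hW.exists_basicOpen_le (V := ⟨O, hO⟩) ⟨w, hwO⟩
      (mem_preimage_of_eq g x hw hx₀)
    have h1 : ¬ (g.base _* Z.presheaf).germ V₀ x hx₀ b ∈ Phi g x w hw := by
      rw [germ_mem_Phi_iff]
      exact fun hn => hn hwb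
    rw [hΦ, germ_mem_Phi_iff, not_not] at h1
    exact hbO h1
  have hins : Inseparable z z' := by
    rw [inseparable_iff_forall_isOpen]
    intro O hO
    exact ⟨key z z' hz hz' h O hO, key z' z hz' hz h.symm O hO⟩
  exact hins.eq

theorem exists_Phi_eq [IsIntegralHom g] (P : Ideal ((g.base _* Z.presheaf).stalk x))
    [hP : P.IsMaximal] : ∃ (z : Z) (hz : g.base z = x), Phi g x z hz = P := by
  obtain ⟨_, ⟨V₀, hV₀, rfl⟩, hx₀, -⟩ := X.isBasis_affineOpens.exists_subset_of_mem_open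
    (Set.mem_univ x) isOpen_univ
  have hW : IsAffineOpen (g ⁻¹ᵁ V₀) := hV₀.preimage g
  let γ : Γ(Z, g ⁻¹ᵁ V₀) →+* (g.base _* Z.presheaf).stalk x :=
    ((g.base _* Z.presheaf).germ V₀ x hx₀).hom
  let q : Ideal Γ(Z, g ⁻¹ᵁ V₀) := P.comap γ
  haveI hq : q.IsPrime := Ideal.comap_isPrime γ P
  let z : Z := hW.fromSpec (⟨q, hq⟩ : PrimeSpectrum Γ(Z, g ⁻¹ᵁ V₀))
  have hzW : z ∈ g ⁻¹ᵁ V₀ := by
    have h1 : z ∈ Set.range hW.fromSpec := ⟨_, rfl⟩
    rw [hW.range_fromSpec] at h1
    exact h1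
  have hzb : ∀ b : Γ(Z, g ⁻¹ᵁ V₀), z ∈ Z.basicOpen b ↔ b ∉ q := by
    intro b
    have h1 := hW.fromSpec_preimage_basicOpen b
    change (⟨q, hq⟩ : PrimeSpectrum Γ(Z, g ⁻¹ᵁ V₀)) ∈ hW.fromSpec ⁻¹ᵁ Z.basicOpen b ↔ _
    rw [h1]
    exact PrimeSpectrum.mem_basicOpen _ _
  have hP0 := comap_alpha_of_isMaximal g x P
  have chain : ∀ a : Γ(X, V₀), g.base z ∈ X.basicOpen a ↔ x ∈ X.basicOpen a := by
    intro a
    have e1 : g.base z ∈ X.basicOpen a ↔ z ∈ Z.basicOpen ((g.app V₀).hom a) := by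
      rw [← Scheme.preimage_basicOpen]
      rfl
    have e2 : (g.app V₀).hom a ∈ q ↔
        X.presheaf.germ V₀ x hx₀ a ∈ IsLocalRing.maximalIdeal (X.presheaf.stalk x) := by
      rw [← hP0]
      change γ ((g.app V₀).hom a) ∈ P ↔ (alpha g x).hom (X.presheaf.germ V₀ x hx₀ a) ∈ P
      rw [alpha_germ]
    rw [e1, hzb, X.mem_basicOpen _ x hx₀, e2, IsLocalRing.mem_maximalIdeal, mem_nonunits_iff,
      not_not]
  have hgz : g.base z = x := by
    have hins : Inseparable (g.base z) x := by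
      rw [inseparable_iff_forall_isOpen]
      intro O hO
      constructor
      · intro h
        obtain ⟨a, haO, hza⟩ := hV₀.exists_basicOpen_le (V := ⟨O, hO⟩) ⟨g.base z, h⟩ hzW
        exact haO ((chain a).1 hza)
      · intro h
        obtain ⟨a, haO, hxa⟩ := hV₀.exists_basicOpen_le (V := ⟨O, hO⟩) ⟨x, h⟩ hx₀
        exact haO ((chain a).2 hxa)
    exact hins.eq
  refine ⟨z, hgz, ?_⟩
  symm
  apply hP.eq_of_le (isMaximal_Phi g x z hgz).ne_top
  intro σ hσ
  obtain ⟨V₁, hx₁, s₁, rfl⟩ := TopCat.Presheaf.exists_germ_eq (g.base _* Z.presheaf) σ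
  obtain ⟨a, haV, hxa⟩ := hV₀.exists_basicOpen_le (V := V₁) ⟨x, hx₁⟩ hx₀
  have hD0 : X.basicOpen a ≤ V₀ := X.basicOpen_le a
  let s : Γ(Z, g ⁻¹ᵁ X.basicOpen a) := (g.base _* Z.presheaf).map (homOfLE haV).op s₁
  have hs : (g.base _* Z.presheaf).germ (X.basicOpen a) x hxa s =
      (g.base _* Z.presheaf).germ V₁ x hx₁ s₁ :=
    TopCat.Presheaf.germ_res_apply (g.base _* Z.presheaf) (homOfLE haV) x hxa s₁
  rw [← hs] at hσ ⊢
  let a' : Γ(Z, g ⁻¹ᵁ V₀) := (g.app V₀).hom a
  have e : g ⁻¹ᵁ X.basicOpen a = Z.basicOpen a' := Scheme.preimage_basicOpen g a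
  have hloc := hW.isLocalization_of_eq_basicOpen a'
    ((Opens.map g.base).map (homOfLE hD0)) e
  letI alg : Algebra Γ(Z, g ⁻¹ᵁ V₀) Γ(Z, g ⁻¹ᵁ X.basicOpen a) :=
    (Z.presheaf.map ((Opens.map g.base).map (homOfLE hD0)).op).hom.toAlgebra
  obtain ⟨⟨b, ⟨_, n, rfl⟩⟩, hb⟩ := IsLocalization.surj (Submonoid.powers a') s
  have hb' : s * (Z.presheaf.map ((Opens.map g.base).map (homOfLE hD0)).op).hom (a' ^ n) =
      (Z.presheaf.map ((Opens.map g.base).map (homOfLE hD0)).op).hom b := hb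
  have hres : ∀ t : Γ(Z, g ⁻¹ᵁ V₀), (g.base _* Z.presheaf).germ (X.basicOpen a) x hxa
      ((Z.presheaf.map ((Opens.map g.base).map (homOfLE hD0)).op).hom t) = γ t := fun t =>
    TopCat.Presheaf.germ_res_apply (g.base _* Z.presheaf) (homOfLE hD0) x hxa t
  have h1 : (g.base _* Z.presheaf).germ (X.basicOpen a) x hxa s * γ a' ^ n = γ b := by
    have h2 := congrArg ((g.base _* Z.presheaf).germ (X.basicOpen a) x hxa).hom hb'
    rw [map_mul] at h2
    change _ * (g.base _* Z.presheaf).germ (X.basicOpen a) x hxa _ =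
      (g.base _* Z.presheaf).germ (X.basicOpen a) x hxa _ at h2
    rw [hres, hres, map_pow] at h2
    exact h2
  have hbq : b ∈ q := by
    change γ b ∈ P
    rw [← h1]
    exact P.mul_mem_right _ hσ
  have hzb' : γ b ∈ Phi g x z hgz := by
    change (g.base _* Z.presheaf).germ V₀ x hx₀ b ∈ Phi g x z hgz
    rw [germ_mem_Phi_iff, hzb, not_not]
    exact hbq
  rw [← h1] at hzb'
  have hu : ¬ γ a' ∈ Phi g x z hgz := by
    change ¬ (g.base _* Z.presheaf).germ V₀ x hx₀ a' ∈ Phi g x z hgz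
    rw [germ_mem_Phi_iff, not_not, ← Scheme.preimage_basicOpen]
    change g.base z ∈ X.basicOpen a
    rw [hgz]
    exact hxa
  rcases (inferInstance : (Phi g x z hgz).IsPrime).mem_or_mem hzb' with h3 | h3
  · exact h3
  · exact absurd ((inferInstance : (Phi g x z hgz).IsPrime).mem_of_pow_mem n h3) hu

/-- **points of the fibre of an integral morphism correspond to the maximal ideals of the stalk
of the direct image of the structure sheaf** -/
theorem bijOn [IsIntegralHom g] :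
    Set.BijOn (fun z : {z : Z // g.base z = x} =>
        Ideal.comap (((g.base _* Z.presheaf).stalkCongr (Inseparable.of_eq z.2)).inv ≫
            TopCat.Presheaf.stalkPushforward CommRingCat g.base Z.presheaf z.1).hom
          (IsLocalRing.maximalIdeal (Z.presheaf.stalk z.1)))
      Set.univ {I : Ideal ((g.base _* Z.presheaf).stalk x) | I.IsMaximal} := by
  refine ⟨?_, ?_, ?_⟩
  · intro z _
    exact isMaximal_Phi g x z.1 z.2
  · intro z _ z' _ h
    exact Subtype.ext (Phi_injective g x z.1 z'.1 z.2 z'.2 h)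
  · intro P hP
    haveI : P.IsMaximal := hP
    obtain ⟨z, hz, h⟩ := exists_Phi_eq g x P
    exact ⟨⟨z, hz⟩, Set.mem_univ _, h⟩

end Groth.Agent.Lead.FibMax
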