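import Mathlib
import Groth.Prelude
import Groth.Agent.Lib.Helper5.SmFib.TrdegNat
import Groth.Agent.Lib.Helper5.SmFib.LocQuot
import Groth.Agent.Lib.Helper2.Synt.Core
import Groth.Agent.Lib.Helper8.CMF3
import Groth.Agent.Lib.Helper4.Chev3
import Groth.Agent.Lib.Helper4.FTDim1
import Groth.Agent.Lib.Helper4.Chev8
import Groth.Agent.Lib.Helper4.DimFT4
import Groth.Agent.Lib.Helper4.PropDim1

/-!
# Regular sequences in the fibre local rings of an algebra with Cohen–Macaulay fibres (lead)
-/

set_option autoImplicit false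
set_option backward.isDefEq.respectTransparency.types false
set_option synthInstance.maxHeartbeats 400000
set_option maxHeartbeats 1000000
set_option linter.style.haveILetI false
set_option linter.unusedSectionVars false
universe u

namespace Groth.Agent.Lead.FibReg

open AlgebraicGeometry CategoryTheory RingTheory.Sequence IsLocalRing
open Groth.Agent.Lib.Helper4.FibDim1 Groth.Agent.Lib.Helper4.PropDim1 Groth.Agent.Lib.Helper4.DimFT2
open Groth.Agent.Lib.Helper4.FTDim1 Groth.Agent.Lib.Helper4.Chev8 Groth.Agent.Lib.Helper4.RadBir3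
open Groth.Agent.Lib.Helper4.DimFT4

section Pure

variable (k : Type u) [Field k] {X : Scheme.{u}} (p : X ⟶ Spec (CommRingCat.of k))
  [LocallyOfFiniteType p] (n : ℕ)
  (hX : ∀ Z : Set ↥X, Z ∈ irreducibleComponents ↥X → topologicalKrullDim ↥Z = (n : WithBot ℕ∞))

include k hX in
theorem tr_le_of_pure (y : X) : ((tr p y : ℕ) : WithBot ℕ∞) ≤ n := by
  rw [← dim_closure_of_field k p y, ← hX _ (irreducibleComponent_mem_irreducibleComponents y)]
  apply topologicalKrullDim_mono
  exact isClosed_irreducibleComponent.closure_subset_iff.mpr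
    (Set.singleton_subset_iff.mpr mem_irreducibleComponent)

include k p hX in
theorem dim_opens_eq_of_pure (U : X.Opens) (x : X) (hx : x ∈ U) :
    topologicalKrullDim ↥(U : Set X) = n := by
  apply le_antisymm
  · exact (topologicalKrullDim_subspace_le X U).trans
      (dim_le_of_forall_tr k p n (tr_le_of_pure k p n hX))
  · obtain ⟨ξ, hξ⟩ := QuasiSober.sober (isIrreducible_irreducibleComponent (x := x))
      isClosed_irreducibleComponent
    have hsp : ξ ⤳ x := by
      rw [specializes_iff_mem_closure, hξ.def]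
      exact mem_irreducibleComponent
    have hξU : ξ ∈ U := hsp.mem_open U.2 hx
    have h1 := tr_le_dim k (U.ι ≫ p) (⟨ξ, hξU⟩ : ↥U)
    rw [tr_restrict p U ⟨ξ, hξU⟩] at h1
    have h2 : ((tr p ξ : ℕ) : WithBot ℕ∞) = n := by
      rw [← dim_closure_of_field k p ξ, hξ.def]
      exact hX _ (irreducibleComponent_mem_irreducibleComponents x)
    rw [← h2]
    exact h1

include k p hX in
theorem localDim_eq_of_pure (x : X) : FlatMor.localDim X x = n := by
  unfold FlatMor.localDim
  have h : ∀ U : {U : TopologicalSpace.Opens X // x ∈ U},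
      topologicalKrullDim (U.1 : Set X) = n := fun U => dim_opens_eq_of_pure k p n hX U.1 x U.2
  simp only [h]
  haveI : Nonempty {U : TopologicalSpace.Opens X // x ∈ U} := ⟨⟨⊤, trivial⟩⟩
  exact iInf_const

end Pure

/-- The dimension of a closed subset of a prime spectrum. -/
theorem topologicalKrullDim_zeroLocus {R : Type u} [CommRing R] (I : Ideal R) :
    topologicalKrullDim ↥(PrimeSpectrum.zeroLocus (I : Set R)) = ringKrullDim (R ⧸ I) := by
  have hce := PrimeSpectrum.isClosedEmbedding_comap_of_surjective (R ⧸ I) (Ideal.Quotient.mk I)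
    Ideal.Quotient.mk_surjective
  have hr : Set.range (PrimeSpectrum.comap (Ideal.Quotient.mk I)) =
      PrimeSpectrum.zeroLocus (I : Set R) := by
    rw [_root_.range_comap_of_surjective _ _ Ideal.Quotient.mk_surjective, Ideal.mk_ker]
  rw [← hr, ← IsHomeomorph.topologicalKrullDim_eq _ hce.isEmbedding.toHomeomorph.isHomeomorph]
  exact PrimeSpectrum.topologicalKrullDim_eq_ringKrullDim _

/-- local dimension of the spectrum of an equidimensional finite type algebra over a field -/
theorem localDim_spec_of_equidim (k : Type u) [Field k] (F : Type u) [CommRing F] [Algebra k F]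
    [Algebra.FiniteType k F] (d : ℕ)
    (heq : ∀ P ∈ minimalPrimes F, ringKrullDim (F ⧸ P) = (d : WithBot ℕ∞))
    (x : PrimeSpectrum F) : FlatMor.localDim (PrimeSpectrum F) x = d := by
  let p : Spec (CommRingCat.of F) ⟶ Spec (CommRingCat.of k) :=
    Spec.map (CommRingCat.ofHom (algebraMap k F))
  haveI : LocallyOfFiniteType p := by
    rw [HasRingHomProperty.Spec_iff (P := @LocallyOfFiniteType)]
    show (algebraMap k F).FiniteType
    rw [RingHom.finiteType_algebraMap]
    infer_instance
  have hX : ∀ Z : Set ↥(Spec (CommRingCat.of F)), Z ∈ irreducibleComponents ↥(Spec (CommRingCat.of F)) →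
      topologicalKrullDim ↥Z = (d : WithBot ℕ∞) := by
    intro Z hZ
    have hZ' : Z ∈ irreducibleComponents (PrimeSpectrum F) := hZ
    rw [← PrimeSpectrum.zeroLocus_minimalPrimes] at hZ'
    obtain ⟨P, hP, rfl⟩ := hZ'
    show topologicalKrullDim ↥(PrimeSpectrum.zeroLocus (P : Set F)) = _
    rw [topologicalKrullDim_zeroLocus]
    exact heq P hP
  exact localDim_eq_of_pure k p d hX x

theorem exists_nat_dim (A : Type u) [CommRing A] [IsNoetherianRing A] [IsLocalRing A] :
    ∃ n : ℕ, ringKrullDim A = (n : WithBot ℕ∞) := by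
  have h1 : ringKrullDim A < ⊤ := ringKrullDim_lt_top
  have h2 : 0 ≤ ringKrullDim A := ringKrullDim_nonneg_of_nontrivial
  generalize ringKrullDim A = D at h1 h2
  induction D using WithBot.recBotCoe with
  | bot => simp at h2
  | coe D =>
    induction D using ENat.recTopCoe with
    | top => exact absurd h1 (lt_irrefl _)
    | coe m => exact ⟨m, rfl⟩

/-- In a Cohen–Macaulay local ring a sequence in the maximal ideal is regular iff it cuts the
dimension down by its length. -/
theorem isRegular_iff_dim (B : Type u) [CommRing B] [LocCoh.IsCohenMacaulayLocalRing B]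
    (xs : List B) (hxs : ∀ x ∈ xs, x ∈ maximalIdeal B) :
    IsRegular B xs ↔
      ringKrullDim (B ⧸ Ideal.ofList xs) + (xs.length : WithBot ℕ∞) ≤ ringKrullDim B := by
  constructor
  · intro h
    exact (ringKrullDim_add_length_eq_ringKrullDim_of_isRegular xs h).le
  · intro h
    apply Groth.Agent.Helper2.Synt.isRegular_of_dim_add_length B xs hxs
    apply le_antisymm h
    classical
    have h1 := ringKrullDim_le_ringKrullDim_quotient_add_card (R := B) xs.toFinset
      (by
        rw [IsLocalRing.ringJacobson_eq_maximalIdeal]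
        intro x hx
        exact hxs x (by simpa using hx))
    have h2 : Ideal.span ((xs.toFinset : Finset B) : Set B) = Ideal.ofList xs := by
      congr 1
      ext x
      simp
    rw [h2] at h1
    refine h1.trans ?_
    gcongr
    exact_mod_cast List.toFinset_card_le xs

variable (R S : Type u) [CommRing R] [CommRing S] [Algebra R S]

/-- the fibre local rings of an algebra with Cohen–Macaulay fibre rings are Cohen–Macaulay -/
theorem cm_fibLocRing (q : Ideal S) [q.IsPrime]
    (hCM : LocCoh.IsCohenMacaulayRing ((q.comap (algebraMap R S)).Fiber S)) :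
    LocCoh.IsCohenMacaulayLocalRing (EGA4.FibLocRing R S q) := by
  obtain ⟨Q', hQ'prime, hQ'⟩ :=
    Groth.Agent.Helper8.Fib.exists_fiber_prime (q.comap (algebraMap R S)) q rfl
  obtain ⟨e⟩ := Groth.Agent.Helper8.Fib.nonempty_ringEquiv_fibLocRing
    (q.comap (algebraMap R S)) Q' q hQ'
  exact Groth.Agent.Helper8.CMF.isCohenMacaulayLocalRing_of_ringEquiv e
    (hCM.isCohenMacaulayLocalRing_localization Q')

open Groth.Agent.Lib.Helper5.SmFib in
/-- fibre dimension = dimension of the fibre local ring + transcendence degree -/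
theorem fibreDimAt_eq_dim_add [Algebra.FiniteType R S] (p : Ideal R) [p.IsPrime] (q : Ideal S)
    [q.IsPrime] (hq : q.comap (algebraMap R S) = p) (t : ℕ)
    (ht : @Algebra.trdeg p.ResidueField q.ResidueField _ _
      (Ideal.ResidueField.mapₐ p q (Algebra.ofId R S) hq.symm).toRingHom.toAlgebra =
        (t : Cardinal.{u})) :
    FlatMor.fibreDimAt (Spec.map (CommRingCat.ofHom (algebraMap R S)))
      (⟨q, inferInstance⟩ : PrimeSpectrum S) =
    ringKrullDim (EGA4.FibLocRing R S q) + (t : WithBot ℕ∞) := by
  haveI := (fibPt R S p q hq).isPrime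
  rw [fibreDimAt_eq_localDim_fibPt R S p q hq, localDim_fibPt_eq R S p q hq t ht]
  obtain ⟨e⟩ := Groth.Agent.Helper8.Fib.nonempty_ringEquiv_fibLocRing p
    (fibPt R S p q hq).asIdeal q (fibPt_comap R S p q hq)
  rw [ringKrullDim_eq_of_ringEquiv e]

theorem aux (D : WithBot ℕ∞) (r t n : ℕ) :
    D + (r : WithBot ℕ∞) ≤ (n : WithBot ℕ∞) ↔
      D + (t : WithBot ℕ∞) + (r : WithBot ℕ∞) ≤ ((n + t : ℕ) : WithBot ℕ∞) := by
  induction D using WithBot.recBotCoe with
  | bot => simp
  | coe D =>
    induction D using ENat.recTopCoe with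
    | top =>
      have h1 : ((⊤ : ℕ∞) : WithBot ℕ∞) + (r : WithBot ℕ∞) = ((⊤ : ℕ∞) : WithBot ℕ∞) := rfl
      have h2 : ((⊤ : ℕ∞) : WithBot ℕ∞) + (t : WithBot ℕ∞) = ((⊤ : ℕ∞) : WithBot ℕ∞) := rfl
      rw [h2, h1]
      constructor
      · intro h
        exact absurd (WithBot.coe_le_coe.mp (h : ((⊤ : ℕ∞) : WithBot ℕ∞) ≤ ((n : ℕ∞) : WithBot ℕ∞)))
          (by simp)
      · intro h
        exact absurd (WithBot.coe_le_coe.mp
          (h : ((⊤ : ℕ∞) : WithBot ℕ∞) ≤ (((n + t : ℕ) : ℕ∞) : WithBot ℕ∞))) (by simp)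
    | coe m =>
      constructor
      · intro h
        have h' : m + r ≤ n := by exact_mod_cast h
        have : m + t + r ≤ n + t := by omega
        exact_mod_cast this
      · intro h
        have h' : m + t + r ≤ n + t := by exact_mod_cast h
        have : m + r ≤ n := by omega
        exact_mod_cast this

open Groth.Agent.Lib.Helper5.SmFib in
/-- the local criterion: the images of `f` form a regular sequence in the fibre local ring iff
the fibre dimension of `S/(f)` drops by the length of `f` -/
theorem isRegular_fibLocRing_iff [Algebra.FiniteType R S] (f : List S) (I : Ideal S)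
    (hI : Ideal.ofList f = I)
    (qb : Ideal (S ⧸ I)) [qb.IsPrime]
    (hCM : LocCoh.IsCohenMacaulayRing
      (((qb.comap (Ideal.Quotient.mk I)).comap (algebraMap R S)).Fiber S))
    (d : ℕ)
    (hd : FlatMor.fibreDimAt (Spec.map (CommRingCat.ofHom (algebraMap R S)))
      (⟨qb.comap (Ideal.Quotient.mk I), inferInstance⟩ : PrimeSpectrum S) =
        (d : WithBot ℕ∞)) :
    IsRegular (EGA4.FibLocRing R S (qb.comap (Ideal.Quotient.mk I)))
      (f.map (algebraMap S
        (EGA4.FibLocRing R S (qb.comap (Ideal.Quotient.mk I))))) ↔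
    FlatMor.fibreDimAt (Spec.map (CommRingCat.ofHom (algebraMap R (S ⧸ I))))
      (⟨qb, inferInstance⟩ : PrimeSpectrum (S ⧸ I)) + (f.length : WithBot ℕ∞) ≤
        (d : WithBot ℕ∞) := by
  set q := qb.comap (Ideal.Quotient.mk I) with hq
  haveI hqprime : q.IsPrime := Ideal.comap_isPrime _ _
  set p := q.comap (algebraMap R S) with hp
  haveI hpprime : p.IsPrime := Ideal.comap_isPrime _ _
  have hqb : qb.comap (algebraMap R (S ⧸ I)) = p := rfl
  have hsurj : Function.Surjective (Ideal.Quotient.mkₐ R I) := Ideal.Quotient.mkₐ_surjective R I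
  obtain ⟨t, ht⟩ := exists_trdeg_nat R S p q rfl
  have ht' := trdeg_comap_of_surjective R S (S ⧸ I) (Ideal.Quotient.mkₐ R I) hsurj qb p hqb q rfl rfl
  have h1 := fibreDimAt_eq_dim_add R S p q rfl t ht
  have h2 := fibreDimAt_eq_dim_add R (S ⧸ I) p qb hqb t (ht' ▸ ht)
  haveI hCMloc := cm_fibLocRing R S q hCM
  obtain ⟨e⟩ := nonempty_fibLocRing_quotient_equiv R S (S ⧸ I) (Ideal.Quotient.mkₐ R I) hsurj qb q rfl
  have hideal : ((RingHom.ker (Ideal.Quotient.mkₐ R I).toRingHom).map
      (algebraMap S (Localization.AtPrime q))).map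
        (Ideal.Quotient.mk ((q.comap (algebraMap R S)).map
          (algebraMap R (Localization.AtPrime q)))) =
      Ideal.ofList (f.map (algebraMap S (EGA4.FibLocRing R S q))) := by
    rw [← Ideal.map_ofList, Ideal.map_map, hI]
    have hk : RingHom.ker (Ideal.Quotient.mkₐ R I).toRingHom = I := Ideal.mk_ker
    rw [hk]
    rfl
  have hmem : ∀ x ∈ f.map (algebraMap S (EGA4.FibLocRing R S q)),
      x ∈ maximalIdeal (EGA4.FibLocRing R S q) := by
    intro x hx
    obtain ⟨y, hy, rfl⟩ := List.mem_map.mp hx
    have hyq : y ∈ q := by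
      show Ideal.Quotient.mk I y ∈ qb
      have : Ideal.Quotient.mk I y = 0 :=
        Ideal.Quotient.eq_zero_iff_mem.mpr (hI ▸ Ideal.subset_span hy)
      rw [this]
      exact zero_mem _
    have hmax : maximalIdeal (EGA4.FibLocRing R S q) =
        q.map (algebraMap S (EGA4.FibLocRing R S q)) := by
      rw [IsScalarTower.algebraMap_eq S (Localization.AtPrime q) (EGA4.FibLocRing R S q),
        ← Ideal.map_map, Localization.AtPrime.map_eq_maximalIdeal]
      exact (IsLocalRing.map_maximalIdeal_of_surjective _ Ideal.Quotient.mk_surjective).symm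
    rw [hmax]
    exact Ideal.mem_map_of_mem _ hyq
  rw [isRegular_iff_dim _ _ hmem, List.length_map, ← hideal, ringKrullDim_eq_of_ringEquiv e, h2]
  obtain ⟨n, hn⟩ := exists_nat_dim (EGA4.FibLocRing R S q)
  rw [h1, hn] at hd
  have hdn : d = n + t := by exact_mod_cast hd.symm
  rw [hn, hdn]
  exact aux _ _ _ _

end Groth.Agent.Lead.FibReg
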