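import Mathlib
import Groth.Prelude
import Groth.Agent.Lib.Lead.FibReg1

/-!
# S9174: the locus where a sequence is regular on the fibre local rings is open (lead)
-/

set_option autoImplicit false
set_option backward.isDefEq.respectTransparency.types false
set_option synthInstance.maxHeartbeats 400000
set_option maxHeartbeats 1000000
set_option linter.style.haveILetI false
set_option linter.unusedSectionVars false
universe u

namespace Groth.Agent.Lead.FibReg

open AlgebraicGeometry CategoryTheory RingTheory.Sequence IsLocalRing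
open Groth.Agent.Lib.Helper5.SmFib

theorem aux2 (a : WithBot ℕ∞) (r d : ℕ) :
    ¬ (((d + 1 - r : ℕ) : WithBot ℕ∞) ≤ a) ↔ a + (r : WithBot ℕ∞) ≤ (d : WithBot ℕ∞) := by
  obtain ⟨c, hc⟩ : ∃ c, c = d + 1 - r := ⟨_, rfl⟩
  rw [← hc]
  induction a using WithBot.recBotCoe with
  | bot => simp
  | coe D =>
    induction D using ENat.recTopCoe with
    | top =>
      have h1 : ((⊤ : ℕ∞) : WithBot ℕ∞) + (r : WithBot ℕ∞) = ((⊤ : ℕ∞) : WithBot ℕ∞) := rfl
      rw [h1]
      constructor
      · intro h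
        exfalso
        apply h
        show ((c : ℕ∞) : WithBot ℕ∞) ≤ ((⊤ : ℕ∞) : WithBot ℕ∞)
        exact WithBot.coe_le_coe.mpr le_top
      · intro h
        exact absurd (WithBot.coe_le_coe.mp (h : ((⊤ : ℕ∞) : WithBot ℕ∞) ≤ ((d : ℕ∞) : WithBot ℕ∞)))
          (by simp)
    | coe m =>
      constructor
      · intro h
        have h' : ¬ (c ≤ m) := by
          intro h2
          apply h
          exact_mod_cast h2
        have : m + r ≤ d := by omega
        exact_mod_cast this
      · intro h h2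
        have h' : m + r ≤ d := by exact_mod_cast h
        have h2' : c ≤ m := by exact_mod_cast h2
        omega

variable (R S : Type u) [CommRing R] [CommRing S] [Algebra R S] [Algebra.FiniteType R S]

/-- the fibre dimension is constant when all fibre rings are equidimensional of dimension `d` -/
theorem fibreDimAt_eq_of_equidim (d : ℕ)
    (heq : ∀ p : PrimeSpectrum R, ∀ P ∈ minimalPrimes (p.asIdeal.Fiber S),
      ringKrullDim (p.asIdeal.Fiber S ⧸ P) = (d : WithBot ℕ∞))
    (q : Ideal S) [q.IsPrime] :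
    FlatMor.fibreDimAt (Spec.map (CommRingCat.ofHom (algebraMap R S)))
      (⟨q, inferInstance⟩ : PrimeSpectrum S) = (d : WithBot ℕ∞) := by
  rw [fibreDimAt_eq_localDim_fibPt R S (q.comap (algebraMap R S)) q rfl]
  exact localDim_spec_of_equidim (q.comap (algebraMap R S)).ResidueField
    ((q.comap (algebraMap R S)).Fiber S) d (heq ⟨q.comap (algebraMap R S), inferInstance⟩) _

theorem main9174 (d : ℕ)
    (hCM : ∀ p : PrimeSpectrum R, LocCoh.IsCohenMacaulayRing (p.asIdeal.Fiber S))
    (heq : ∀ p : PrimeSpectrum R, ∀ P ∈ minimalPrimes (p.asIdeal.Fiber S),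
      ringKrullDim (p.asIdeal.Fiber S ⧸ P) = (d : WithBot ℕ∞))
    (f : List S) :
    ∃ U : Set (PrimeSpectrum S), IsOpen U ∧ ∀ q : PrimeSpectrum S, Ideal.ofList f ≤ q.asIdeal →
      (q ∈ U ↔ RingTheory.Sequence.IsRegular (EGA4.FibLocRing R S q.asIdeal)
        (f.map (algebraMap S (EGA4.FibLocRing R S q.asIdeal)))) := by
  set I : Ideal S := Ideal.ofList f with hI
  let g : Spec (CommRingCat.of (S ⧸ I)) ⟶ Spec (CommRingCat.of R) :=
    Spec.map (CommRingCat.ofHom (algebraMap R (S ⧸ I)))
  haveI : Algebra.FiniteType R (S ⧸ I) :=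
    Algebra.FiniteType.of_surjective (Ideal.Quotient.mkₐ R I) (Ideal.Quotient.mkₐ_surjective R I)
  haveI : LocallyOfFiniteType g := by
    rw [HasRingHomProperty.Spec_iff (P := @LocallyOfFiniteType)]
    show (algebraMap R (S ⧸ I)).FiniteType
    rw [RingHom.finiteType_algebraMap]
    infer_instance
  let Z : Set (PrimeSpectrum (S ⧸ I)) :=
    {x | (((d + 1 - f.length : ℕ) : WithBot ℕ∞)) ≤ FlatMor.fibreDimAt g x}
  have hZ : IsClosed Z :=
    Groth.Agent.Lib.Helper4.Chev3.isClosed_setOf_le_fibreDimAt g _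
  have hce := PrimeSpectrum.isClosedEmbedding_comap_of_surjective (S ⧸ I) (Ideal.Quotient.mk I)
    Ideal.Quotient.mk_surjective
  refine ⟨(PrimeSpectrum.comap (Ideal.Quotient.mk I) '' Z)ᶜ,
    (hce.isClosedMap _ hZ).isOpen_compl, ?_⟩
  intro q hq
  have hqr : q ∈ Set.range (PrimeSpectrum.comap (Ideal.Quotient.mk I)) := by
    rw [_root_.range_comap_of_surjective _ _ Ideal.Quotient.mk_surjective, Ideal.mk_ker]
    exact hq
  obtain ⟨qb, rfl⟩ := hqr
  have hmem : (PrimeSpectrum.comap (Ideal.Quotient.mk I) qb ∈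
      (PrimeSpectrum.comap (Ideal.Quotient.mk I) '' Z)ᶜ) ↔ qb ∉ Z := by
    rw [Set.mem_compl_iff, hce.injective.mem_set_image]
  rw [hmem]
  have hloc := isRegular_fibLocRing_iff R S f I rfl qb.asIdeal
    (hCM ⟨(qb.asIdeal.comap (Ideal.Quotient.mk I)).comap (algebraMap R S), inferInstance⟩) d
    (fibreDimAt_eq_of_equidim R S d heq (qb.asIdeal.comap (Ideal.Quotient.mk I)))
  show ¬ (((d + 1 - f.length : ℕ) : WithBot ℕ∞)) ≤ FlatMor.fibreDimAt g qb ↔ _
  rw [aux2]
  exact hloc.symm

end Groth.Agent.Lead.FibReg
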