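import Mathlib

/-!
# Fibre rank bounded by generic rank under flatness at the fibre points (lead)
-/

set_option backward.isDefEq.respectTransparency.types false
set_option synthInstance.maxHeartbeats 400000
set_option autoImplicit false
set_option linter.unusedSectionVars false
set_option linter.style.haveILetI false
universe u w

open TensorProduct

namespace Groth.Agent.Lead.FibRk

/-- elements of a flat module over a domain whose images in the fibre over a prime are linearly
independent are linearly independent -/
theorem linearIndependent_of_flat_of_fiber {R : Type u} [CommRing R] [IsDomain R] (p : Ideal R)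
    [p.IsPrime] {N : Type u} [AddCommGroup N] [Module R N] [Module.Flat R N] {ι : Type w}
    (v : ι → N)
    (h : LinearIndependent p.ResidueField (fun i => (1 : p.ResidueField) ⊗ₜ[R] v i)) :
    LinearIndependent R v := by
  let A := Localization.AtPrime p
  have h1 : LinearIndependent (IsLocalRing.ResidueField A)
      (TensorProduct.mk A (IsLocalRing.ResidueField A) (A ⊗[R] N) 1 ∘
        (fun i => (1 : A) ⊗ₜ[R] v i)) := by
    let e := TensorProduct.AlgebraTensorModule.cancelBaseChange R A (IsLocalRing.ResidueField A)
      (IsLocalRing.ResidueField A) N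
    have h0 := h.map' e.symm.toLinearMap (LinearMap.ker_eq_bot.mpr e.symm.injective)
    have heq : (TensorProduct.mk A (IsLocalRing.ResidueField A) (A ⊗[R] N) 1 ∘
        (fun i => (1 : A) ⊗ₜ[R] v i)) =
        (e.symm.toLinearMap ∘ fun i => (1 : p.ResidueField) ⊗ₜ[R] v i) := by
      funext i
      simp [e]
    rw [heq]
    exact h0
  have h2 := Module.IsLocalRing.linearIndependent_of_flat (R := A) (M := A ⊗[R] N) _ h1
  rw [linearIndependent_iff'] at h2 ⊢
  intro s a ha i hi
  have h3 := h2 s (fun i => algebraMap R A (a i)) (by
    have : ∀ i, (algebraMap R A (a i)) • ((1 : A) ⊗ₜ[R] v i) = (1 : A) ⊗ₜ[R] (a i • v i) := by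
      intro i
      rw [algebraMap_smul, TensorProduct.tmul_smul]
    simp only [this]
    rw [← TensorProduct.tmul_sum, ha, TensorProduct.tmul_zero]) i hi
  exact (IsLocalization.injective A p.primeCompl_le_nonZeroDivisors) (h3.trans (map_zero _).symm)

/-- the localization of an algebra at the complement of finitely many primes is flat as soon as the
localizations at these primes are flat -/
theorem flat_of_flat_localization_primes {R M : Type u} [CommRing R] [CommRing M] [Algebra R M]
    (Ps : Finset (Ideal M)) (hPs : ∀ P ∈ Ps, P.IsPrime)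
    (hflat : ∀ P ∈ Ps, ∀ [P.IsPrime], Module.Flat R (Localization.AtPrime P))
    (T : Submonoid M) (hT : ∀ t, t ∈ T ↔ ∀ P ∈ Ps, t ∉ P)
    (N : Type u) [CommRing N] [Algebra M N] [IsLocalization T N] [Algebra R N]
    [IsScalarTower R M N] : Module.Flat R N := by
  apply Module.flat_of_isLocalized_maximal N N (fun J _ ↦ Localization.AtPrime J)
    (fun J _ ↦ Algebra.linearMap N _)
  intro J hJ
  have hJp : J.IsPrime := hJ.isPrime
  have hPprime : (J.comap (algebraMap M N)).IsPrime := Ideal.comap_isPrime _ _
  have hdisj : Disjoint (T : Set M) (J.comap (algebraMap M N) : Set M) :=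
    ((IsLocalization.isPrime_iff_isPrime_disjoint T N J).mp hJp).2
  have hsub : ((J.comap (algebraMap M N) : Ideal M) : Set M) ⊆
      ⋃ Q ∈ (Ps : Set (Ideal M)), ((id Q : Ideal M) : Set M) := by
    intro t ht
    by_contra hcon
    have : t ∈ T := (hT t).mpr (fun Q hQ htQ => hcon (Set.mem_biUnion (Finset.mem_coe.mpr hQ) htQ))
    exact Set.disjoint_left.mp hdisj this ht
  obtain ⟨Q, hQ, hPQ⟩ := (Ideal.subset_union_prime (s := Ps) (f := id) (J.comap (algebraMap M N))
    (J.comap (algebraMap M N)) (fun i hi _ _ => hPs i hi)).mp hsub
  have hQp : Q.IsPrime := hPs Q hQ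
  have hQdisj : Disjoint (T : Set M) (Q : Set M) := by
    rw [Set.disjoint_left]
    intro t ht htQ
    exact (hT t).mp ht Q hQ htQ
  have hmapQ : (Q.map (algebraMap M N)).IsPrime :=
    IsLocalization.isPrime_of_isPrime_disjoint T N Q hQp hQdisj
  have hJQ : J = Q.map (algebraMap M N) := by
    have h1 : J ≤ Q.map (algebraMap M N) := by
      rw [← IsLocalization.map_comap T N J]
      exact Ideal.map_mono hPQ
    exact hJ.eq_of_le hmapQ.ne_top h1
  have hPQ' : J.comap (algebraMap M N) = Q := by
    rw [hJQ]
    exact IsLocalization.comap_map_of_isPrime_disjoint T N hQp hQdisj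
  haveI : Module.Flat R (Localization.AtPrime (J.comap (algebraMap M N))) := by
    have key : ∀ (P' : Ideal M) [P'.IsPrime], P' = Q → Module.Flat R (Localization.AtPrime P') := by
      rintro P' _ rfl
      exact hflat P' hQ
    exact key _ hPQ'
  haveI : IsLocalization.AtPrime (Localization.AtPrime J) (J.comap (algebraMap M N)) :=
    IsLocalization.isLocalization_isLocalization_atPrime_isLocalization T
      (Localization.AtPrime J) J
  let e : Localization.AtPrime (J.comap (algebraMap M N)) ≃ₐ[M] Localization.AtPrime J :=
    IsLocalization.algEquiv (J.comap (algebraMap M N)).primeCompl _ _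
  haveI : IsScalarTower R M (Localization.AtPrime J) := IsScalarTower.of_algebraMap_eq fun x => by
    rw [IsScalarTower.algebraMap_apply R N (Localization.AtPrime J),
      IsScalarTower.algebraMap_apply R M N,
      ← IsScalarTower.algebraMap_apply M N (Localization.AtPrime J)]
  exact Module.Flat.of_linearEquiv (e.toLinearEquiv.restrictScalars R).symm

/-- the complement of the union of the primes over `p` -/
def fiberCompl {R : Type u} (M : Type u) [CommRing R] [CommRing M] [Algebra R M] (p : Ideal R)
    [p.IsPrime] : Submonoid M where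
  carrier := {t | ∀ P ∈ p.primesOver M, t ∉ P}
  one_mem' := fun P hP h => hP.1.ne_top ((Ideal.eq_top_iff_one P).mpr h)
  mul_mem' := fun ha hb P hP h => (hP.1.mem_or_mem h).elim (ha P hP) (hb P hP)

theorem isUnit_one_tmul_of_mem_fiberCompl {R M : Type u} [CommRing R] [CommRing M] [Algebra R M]
    (p : Ideal R) [p.IsPrime] (t : M) (ht : t ∈ fiberCompl M p) :
    IsUnit ((1 : p.ResidueField) ⊗ₜ[R] t : p.Fiber M) := by
  by_contra hcon
  obtain ⟨Q, hQ, htQ⟩ := exists_max_ideal_of_mem_nonunits hcon
  haveI : Q.IsPrime := hQ.isPrime
  have hmem := ((PrimeSpectrum.primesOverOrderIsoFiber R M p).symm ⟨Q, inferInstance⟩).2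
  rw [PrimeSpectrum.coe_primesOverOrderIsoFiber_symm_apply] at hmem
  refine ht _ hmem ?_
  rw [Ideal.mem_comap]
  exact htQ

/-- main algebraic lemma: lifts of independent elements of the fibre are independent, provided the
algebra is flat at all primes of the fibre -/
theorem linearIndependent_of_fiber {R M : Type u} [CommRing R] [IsDomain R] [CommRing M]
    [Algebra R M] (p : Ideal R) [p.IsPrime] [Module.Finite p.ResidueField (p.Fiber M)]
    (hflat : ∀ (P : Ideal M) [P.IsPrime], P.LiesOver p → Module.Flat R (Localization.AtPrime P))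
    {ι : Type w} (v : ι → M)
    (hv : LinearIndependent p.ResidueField (fun i => (1 : p.ResidueField) ⊗ₜ[R] v i)) :
    LinearIndependent R v := by
  classical
  haveI : IsArtinianRing (p.Fiber M) := IsArtinianRing.of_finite p.ResidueField _
  haveI : Finite (p.primesOver M) :=
    Finite.of_equiv _ (PrimeSpectrum.primesOverOrderIsoFiber R M p).symm.toEquiv
  have hfin : (p.primesOver M).Finite := Set.toFinite _
  let T := fiberCompl M p
  let N := Localization T
  haveI : Module.Flat R N := by
    refine flat_of_flat_localization_primes hfin.toFinset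
      (fun P hP => ((Set.Finite.mem_toFinset hfin).mp hP).1)
      (fun P hP _ => hflat P ((Set.Finite.mem_toFinset hfin).mp hP).2) T (fun t => ?_) N
    constructor
    · intro ht P hP
      exact ht P ((Set.Finite.mem_toFinset hfin).mp hP)
    · intro ht P hP
      exact ht P ((Set.Finite.mem_toFinset hfin).mpr hP)
  -- the retraction
  let g : N →ₐ[R] p.Fiber M := IsLocalization.liftAlgHom (M := T)
    (f := (Algebra.TensorProduct.includeRight : M →ₐ[R] p.Fiber M))
    (fun y => isUnit_one_tmul_of_mem_fiberCompl p y.1 y.2)
  let ψ : p.ResidueField ⊗[R] N →ₐ[p.ResidueField] p.Fiber M :=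
    Algebra.TensorProduct.lift (Algebra.ofId p.ResidueField (p.Fiber M)) g
      (fun _ _ => Commute.all _ _)
  let φ : p.Fiber M →ₐ[p.ResidueField] p.ResidueField ⊗[R] N :=
    Algebra.TensorProduct.map (AlgHom.id _ _) (IsScalarTower.toAlgHom R M N)
  have hψφ : ∀ d, ψ (φ d) = d := by
    have : ψ.comp φ = AlgHom.id _ _ := by
      apply Algebra.TensorProduct.ext'
      intro a m
      simp [ψ, φ, g, Algebra.ofId_apply, Algebra.TensorProduct.algebraMap_apply]
    intro d
    exact congrArg (fun h => h d) this
  have hinj : Function.Injective φ := Function.LeftInverse.injective hψφ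
  have h1 := hv.map' φ.toLinearMap (LinearMap.ker_eq_bot.mpr hinj)
  have h2 : LinearIndependent R (fun i => algebraMap M N (v i)) := by
    apply linearIndependent_of_flat_of_fiber p
    have heq : (fun i => (1 : p.ResidueField) ⊗ₜ[R] algebraMap M N (v i)) =
        (φ.toLinearMap ∘ fun i => (1 : p.ResidueField) ⊗ₜ[R] v i) := by
      funext i
      simp [φ]
    rw [heq]
    exact h1
  exact LinearIndependent.of_comp ((Algebra.linearMap M N).restrictScalars R) h2

/-- the dimension of the fibre is at most the generic degree -/
theorem finrank_fiber_le {R M : Type u} [CommRing R] [IsDomain R] [CommRing M]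
    [Algebra R M] (p : Ideal R) [p.IsPrime] [Module.Finite p.ResidueField (p.Fiber M)]
    (hflat : ∀ (P : Ideal M) [P.IsPrime], P.LiesOver p → Module.Flat R (Localization.AtPrime P))
    (K L : Type u) [Field K] [Field L] [Algebra R K] [IsFractionRing R K] [Algebra K L]
    [Algebra R L] [IsScalarTower R K L] [Algebra M L] [IsScalarTower R M L]
    (hinj : Function.Injective (algebraMap M L)) [Module.Finite K L] :
    Module.finrank p.ResidueField (p.Fiber M) ≤ Module.finrank K L := by
  classical
  let b := Module.finBasis p.ResidueField (p.Fiber M)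
  have hex : ∀ j, ∃ r : R, r ∉ p ∧ ∃ m : M, r • b j = (1 : p.ResidueField) ⊗ₜ[R] m := fun j => by
    obtain ⟨r, hr, m, e⟩ := Ideal.Fiber.exists_smul_eq_one_tmul p (b j)
    exact ⟨r, hr, m, e⟩
  choose r hr m hm using hex
  have hunit : ∀ j, IsUnit (algebraMap R p.ResidueField (r j)) := fun j => by
    rw [isUnit_iff_ne_zero, Ne, Ideal.algebraMap_residueField_eq_zero]
    exact hr j
  have h1 : LinearIndependent p.ResidueField (fun j => (1 : p.ResidueField) ⊗ₜ[R] m j) := by
    have h0 := b.linearIndependent.units_smul (fun j => (hunit j).unit)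
    have heq : (fun j => (1 : p.ResidueField) ⊗ₜ[R] m j) = ((fun j => (hunit j).unit) • ⇑b) := by
      funext j
      rw [← hm j, Pi.smul_apply', Units.smul_def, IsUnit.unit_spec, algebraMap_smul]
    rw [heq]
    exact h0
  have h2 : LinearIndependent R m := linearIndependent_of_fiber p hflat m h1
  have h3 : LinearIndependent R (fun j => algebraMap M L (m j)) :=
    h2.map' ((Algebra.linearMap M L).restrictScalars R) (LinearMap.ker_eq_bot.mpr hinj)
  have h4 : LinearIndependent K (fun j => algebraMap M L (m j)) :=
    LinearIndependent.localization K (nonZeroDivisors R) h3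
  have := h4.fintype_card_le_finrank
  simpa using this

end Groth.Agent.Lead.FibRk
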