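import Mathlib

/-!
# Generic finiteness and freeness for algebraic finite type extensions of domains (lead)
-/

set_option backward.isDefEq.respectTransparency.types false
set_option synthInstance.maxHeartbeats 400000
set_option autoImplicit false
set_option linter.unusedSectionVars false
set_option linter.style.haveILetI false
universe u v w

namespace Groth.Agent.Lead.GenFin

open Polynomial

/-- An algebraic finite type extension of domains becomes finite after inverting one nonzero
element of the base. -/
theorem exists_finite_away (A B : Type u) [CommRing A] [IsDomain A] [CommRing B] [IsDomain B]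
    [Algebra A B] [Algebra.FiniteType A B] [Algebra.IsAlgebraic A B] :
    ∃ a : A, a ≠ 0 ∧ ∀ (A' B' : Type u) [CommRing A'] [CommRing B'] [Algebra A A'] [Algebra B B']
      [Algebra A' B'] [Algebra A B'] [IsScalarTower A A' B'] [IsScalarTower A B B']
      [IsLocalization.Away a A'] [IsLocalization.Away (algebraMap A B a) B'],
      Module.Finite A' B' := by
  classical
  obtain ⟨s, hs⟩ := Algebra.FiniteType.out (R := A) (A := B)
  choose r hr0 hrint using fun b : B =>
    IsAlgebraic.exists_integral_multiple (Algebra.IsAlgebraic.isAlgebraic (R := A) b)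
  refine ⟨∏ b ∈ s, r b, Finset.prod_ne_zero_iff.mpr fun b _ => hr0 b, ?_⟩
  intro A' B' _ _ _ _ _ _ _ _ _ _
  set a := ∏ b ∈ s, r b with ha
  have hcomm : ∀ x : A, algebraMap B B' (algebraMap A B x) = algebraMap A' B' (algebraMap A A' x) :=
    fun x => by rw [← IsScalarTower.algebraMap_apply, ← IsScalarTower.algebraMap_apply]
  -- `a` is a unit in `A'`
  have hau : IsUnit (algebraMap A A' a) := IsLocalization.Away.algebraMap_isUnit a
  have hru : ∀ b ∈ s, IsUnit (algebraMap A A' (r b)) := by
    intro b hb
    have hdvd : r b ∣ a := Finset.dvd_prod_of_mem r hb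
    exact isUnit_of_dvd_unit (map_dvd (algebraMap A A') hdvd) hau
  let IC := integralClosure A' B'
  have h1 : ∀ b ∈ s, algebraMap B B' b ∈ IC := by
    intro b hb
    obtain ⟨u, hu⟩ := hru b hb
    have h2 : IsIntegral A' (algebraMap B B' (r b • b)) :=
      ((hrint b).map (IsScalarTower.toAlgHom A B B')).tower_top
    have h3 : algebraMap B B' b = algebraMap A' B' (↑u⁻¹) * algebraMap B B' (r b • b) := by
      rw [Algebra.smul_def, map_mul, hcomm, ← hu, ← mul_assoc, ← map_mul, Units.inv_mul, map_one,
        one_mul]
    rw [h3]
    exact IC.mul_mem (IC.algebraMap_mem _) h2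
  have h2 : ∀ b : B, algebraMap B B' b ∈ IC := by
    intro b
    have hb : b ∈ Algebra.adjoin A (s : Set B) := by rw [hs]; trivial
    induction hb using Algebra.adjoin_induction with
    | mem x hx => exact h1 x hx
    | algebraMap x => rw [hcomm]; exact IC.algebraMap_mem _
    | add x y _ _ hx hy => rw [map_add]; exact IC.add_mem hx hy
    | mul x y _ _ hx hy => rw [map_mul]; exact IC.mul_mem hx hy
  have h3 : ∀ x : B', x ∈ IC := by
    intro x
    obtain ⟨n, b, hb⟩ := IsLocalization.Away.surj (algebraMap A B a) x
    obtain ⟨u, hu⟩ := hau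
    have : x = algebraMap B B' b * algebraMap A' B' (↑(u⁻¹) ^ n) := by
      rw [← hb, hcomm, ← hu, mul_assoc, ← map_pow, ← map_mul, ← mul_pow, Units.mul_inv, one_pow,
        map_one, mul_one]
    rw [this]
    exact IC.mul_mem (h2 b) (IC.algebraMap_mem _)
  haveI : Algebra.IsIntegral A' B' := ⟨h3⟩
  haveI : Algebra.FiniteType B B' := IsLocalization.finiteType_of_monoid_fg (Submonoid.powers (algebraMap A B a)) B'
  haveI : Algebra.FiniteType A B' := Algebra.FiniteType.trans (S := B) inferInstance inferInstance
  haveI : Algebra.FiniteType A' B' := Algebra.FiniteType.of_restrictScalars_finiteType A A' B'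
  exact Algebra.IsIntegral.finite

section Frac

variable (A B K L : Type u) [CommRing A] [IsDomain A] [CommRing B] [IsDomain B] [Algebra A B]
  [Module.Finite A B] [Field K] [Field L] [Algebra A K] [IsFractionRing A K] [Algebra B L]
  [IsFractionRing B L] [Algebra K L] [Algebra A L] [IsScalarTower A B L] [IsScalarTower A K L]

/-- every element of the fraction field of a finite extension is a fraction with denominator in
the base -/
theorem exists_eq_div (l : L) : ∃ (c : B) (d : A), d ≠ 0 ∧
    algebraMap K L (algebraMap A K d) * l = algebraMap B L c := by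
  haveI : Algebra.IsIntegral A B := Algebra.IsIntegral.of_finite A B
  haveI : Algebra.IsAlgebraic A B := Algebra.IsIntegral.isAlgebraic
  obtain ⟨b, s, rfl⟩ := IsLocalization.exists_mk'_eq (nonZeroDivisors B) l
  have hs : (s : B) ≠ 0 := nonZeroDivisors.coe_ne_zero s
  obtain ⟨c, d, hd, hcd⟩ := Algebra.IsAlgebraic.exists_smul_eq_mul A b hs
  refine ⟨c, d, hd, ?_⟩
  have h1 : algebraMap K L (algebraMap A K d) = algebraMap B L (algebraMap A B d) := by
    rw [← IsScalarTower.algebraMap_apply, ← IsScalarTower.algebraMap_apply]
  have hsL : algebraMap B L (s : B) ≠ 0 := by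
    intro h
    exact hs ((IsFractionRing.injective B L) (by rw [h, map_zero]))
  apply mul_left_cancel₀ hsL
  rw [h1, ← mul_assoc, mul_comm (algebraMap B L (s : B)), mul_assoc, IsLocalization.mk'_spec',
    ← map_mul, ← map_mul, ← Algebra.smul_def, hcd]

include A B in
theorem finite_fractionField : Module.Finite K L := by
  classical
  obtain ⟨G, hG⟩ := (Module.Finite.fg_top (R := A) (M := B))
  refine ⟨⟨G.image (algebraMap B L), ?_⟩⟩
  rw [eq_top_iff]
  rintro l -
  have hall : ∀ c : B, algebraMap B L c ∈
      Submodule.span K ((G.image (algebraMap B L) : Finset L) : Set L) := by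
    intro c
    have hcG : c ∈ Submodule.span A (G : Set B) := by rw [hG]; trivial
    induction hcG using Submodule.span_induction with
    | mem x hx =>
      apply Submodule.subset_span
      simp only [Finset.coe_image, Set.mem_image, Finset.mem_coe]
      exact ⟨x, hx, rfl⟩
    | zero => rw [map_zero]; exact Submodule.zero_mem _
    | add x y _ _ hx hy => rw [map_add]; exact Submodule.add_mem _ hx hy
    | smul a x _ hx =>
      have : algebraMap B L (a • x) = (algebraMap A K a) • algebraMap B L x := by
        rw [Algebra.smul_def, map_mul, Algebra.smul_def, ← IsScalarTower.algebraMap_apply,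
          ← IsScalarTower.algebraMap_apply]
      rw [this]
      exact Submodule.smul_mem _ _ hx
  obtain ⟨c, d, hd, hcd⟩ := exists_eq_div A B K L l
  have hdK : algebraMap A K d ≠ 0 := by
    intro h
    exact hd ((IsFractionRing.injective A K) (by rw [h, map_zero]))
  have hc := hall c
  have : l = (algebraMap A K d)⁻¹ • algebraMap B L c := by
    rw [← hcd, Algebra.smul_def, ← mul_assoc, ← map_mul, inv_mul_cancel₀ hdK, map_one, one_mul]
  rw [this]
  exact Submodule.smul_mem _ _ hc

include K L in
theorem algebraMap_injective_of_tower : Function.Injective (algebraMap A B) := by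
  have h1 : Function.Injective (algebraMap A L) := by
    rw [IsScalarTower.algebraMap_eq A K L]
    exact (algebraMap K L).injective.comp (IsFractionRing.injective A K)
  rw [IsScalarTower.algebraMap_eq A B L] at h1
  exact Function.Injective.of_comp h1

/-- generic freeness of a finite extension of domains, with the rank of the fraction field
extension -/
theorem exists_basis_away :
    ∃ r : A, r ≠ 0 ∧ ∀ (A' B' : Type u) [CommRing A'] [CommRing B'] [Algebra A A'] [Algebra B B']
      [Algebra A' B'] [Algebra A B'] [IsScalarTower A A' B'] [IsScalarTower A B B']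
      [IsLocalization.Away r A'] [IsLocalization.Away (algebraMap A B r) B'],
      Module.Finite A' B' ∧ Module.Free A' B' ∧ Module.finrank A' B' = Module.finrank K L := by
  classical
  haveI : Module.Finite K L := finite_fractionField A B K L
  have hinjAB : Function.Injective (algebraMap A B) := algebraMap_injective_of_tower A B K L
  have hinjBL : Function.Injective (algebraMap B L) := IsFractionRing.injective B L
  have hinjAK : Function.Injective (algebraMap A K) := IsFractionRing.injective A K
  have hAL : ∀ (a : A) (x : B), algebraMap B L (a • x) = algebraMap A K a • algebraMap B L x := by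
    intro a x
    rw [Algebra.smul_def, map_mul, Algebra.smul_def, ← IsScalarTower.algebraMap_apply,
      ← IsScalarTower.algebraMap_apply]
  let d := Module.finrank K L
  let bK : Module.Basis (Fin d) K L := Module.finBasis K L
  have h0 : ∀ i, ∃ (c : B) (t : A), t ≠ 0 ∧
      algebraMap K L (algebraMap A K t) * bK i = algebraMap B L c := fun i =>
    exists_eq_div A B K L (bK i)
  choose e t ht he using h0
  have htK : ∀ i, algebraMap A K (t i) ≠ 0 := fun i h =>
    ht i (hinjAK (by rw [h, map_zero]))
  let bK' : Module.Basis (Fin d) K L := bK.unitsSMul (fun i => Units.mk0 _ (htK i))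
  have hbK' : ∀ i, bK' i = algebraMap B L (e i) := by
    intro i
    rw [Module.Basis.unitsSMul_apply, ← he, Units.smul_def, Units.val_mk0, Algebra.smul_def]
  -- every element of `B` has a nonzero multiple in the span of the `e i`
  have key : ∀ b : B, ∃ r : A, r ≠ 0 ∧ r • b ∈ Submodule.span A (Set.range e) := by
    intro b
    obtain ⟨⟨s, hs⟩, hs'⟩ := IsLocalization.exist_integer_multiples_of_finset (nonZeroDivisors A)
      (Finset.univ.image (fun i => bK'.repr (algebraMap B L b) i))
    have hs2 : ∀ i, ∃ y : A, algebraMap A K y = algebraMap A K s * bK'.repr (algebraMap B L b) i := by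
      intro i
      obtain ⟨y, hy⟩ := hs' (bK'.repr (algebraMap B L b) i)
        (Finset.mem_image_of_mem _ (Finset.mem_univ i))
      exact ⟨y, by rw [hy, Algebra.smul_def]⟩
    choose y hy using hs2
    refine ⟨s, nonZeroDivisors.ne_zero hs, ?_⟩
    rw [Submodule.mem_span_range_iff_exists_fun]
    refine ⟨y, ?_⟩
    apply hinjBL
    rw [hAL, map_sum]
    conv_rhs => rw [← bK'.sum_repr (algebraMap B L b)]
    rw [Finset.smul_sum]
    refine Finset.sum_congr rfl fun i _ => ?_
    rw [hAL, hy, ← hbK', smul_smul]
  choose rr hrr0 hrr using key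
  obtain ⟨G, hG⟩ := (Module.Finite.fg_top (R := A) (M := B))
  let r : A := ∏ g ∈ G, rr g
  have hr0 : r ≠ 0 := Finset.prod_ne_zero_iff.mpr fun g _ => hrr0 g
  have hrG : ∀ g ∈ G, r • g ∈ Submodule.span A (Set.range e) := by
    intro g hg
    obtain ⟨q, hq⟩ : rr g ∣ r := Finset.dvd_prod_of_mem rr hg
    rw [hq, mul_comm, mul_smul]
    exact Submodule.smul_mem _ _ (hrr g)
  have hrB : ∀ b : B, r • b ∈ Submodule.span A (Set.range e) := by
    intro b
    have hb : b ∈ Submodule.span A (G : Set B) := by rw [hG]; trivial
    induction hb using Submodule.span_induction with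
    | mem x hx => exact hrG x hx
    | zero => rw [smul_zero]; exact Submodule.zero_mem _
    | add x y _ _ hx hy => rw [smul_add]; exact Submodule.add_mem _ hx hy
    | smul a x _ hx => rw [smul_comm]; exact Submodule.smul_mem _ _ hx
  refine ⟨r, hr0, ?_⟩
  intro A' B' _ _ _ _ _ _ _ _ _ _
  have hcomm : ∀ x : A, algebraMap B B' (algebraMap A B x) = algebraMap A' B' (algebraMap A A' x) :=
    fun x => by rw [← IsScalarTower.algebraMap_apply, ← IsScalarTower.algebraMap_apply]
  have hBB' : ∀ (a : A) (x : B), algebraMap B B' (a • x) = algebraMap A A' a • algebraMap B B' x := by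
    intro a x
    rw [Algebra.smul_def, map_mul, hcomm, Algebra.smul_def]
  obtain ⟨u, hu⟩ : IsUnit (algebraMap A A' r) := IsLocalization.Away.algebraMap_isUnit r
  haveI : IsDomain A' := IsLocalization.isDomain_of_le_nonZeroDivisors A'
    (M := Submonoid.powers r) (powers_le_nonZeroDivisors_of_noZeroDivisors hr0)
  let e' : Fin d → B' := fun i => algebraMap B B' (e i)
  have hli : LinearIndependent A' e' := by
    rw [Fintype.linearIndependent_iff]
    intro c hc i
    obtain ⟨⟨s, hs⟩, hs'⟩ := IsLocalization.exist_integer_multiples_of_finset (Submonoid.powers r)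
      (Finset.univ.image c)
    have hs2 : ∀ i, ∃ y : A, algebraMap A A' y = algebraMap A A' s * c i := by
      intro i
      obtain ⟨y, hy⟩ := hs' (c i) (Finset.mem_image_of_mem _ (Finset.mem_univ i))
      exact ⟨y, by rw [hy, Algebra.smul_def]⟩
    choose y hy using hs2
    have hsu : IsUnit (algebraMap A A' s) := IsLocalization.map_units A' ⟨s, hs⟩
    have h1 : algebraMap B B' (∑ i, y i • e i) = 0 := by
      rw [map_sum]
      have : ∀ i, algebraMap B B' (y i • e i) = algebraMap A A' s • (c i • e' i) := by
        intro i
        rw [hBB', hy, mul_smul]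
      simp_rw [this]
      rw [← Finset.smul_sum, hc, smul_zero]
    obtain ⟨⟨m, hm⟩, hm'⟩ := (IsLocalization.map_eq_zero_iff
      (Submonoid.powers (algebraMap A B r)) B' _).mp h1
    have hm0 : m ≠ 0 := by
      obtain ⟨n, rfl⟩ := hm
      exact pow_ne_zero _ (fun h => hr0 (hinjAB (by rw [h, map_zero])))
    have h2 : ∑ i, y i • e i = 0 := by
      rcases mul_eq_zero.mp hm' with h | h
      · exact absurd h hm0
      · exact h
    have h3 : ∑ i, algebraMap A K (y i) • bK' i = 0 := by
      have := congrArg (algebraMap B L) h2
      rw [map_sum, map_zero] at this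
      rw [← this]
      refine Finset.sum_congr rfl fun i _ => ?_
      rw [hAL, hbK']
    have h4 := (Fintype.linearIndependent_iff.mp bK'.linearIndependent) _ h3 i
    have h5 : y i = 0 := hinjAK (by rw [h4, map_zero])
    have h6 := hy i
    rw [h5, map_zero] at h6
    exact (hsu.mul_right_eq_zero.mp h6.symm)
  have hsp : ⊤ ≤ Submodule.span A' (Set.range e') := by
    rintro x -
    obtain ⟨n, b, hb⟩ := IsLocalization.Away.surj (algebraMap A B r) x
    obtain ⟨y, hy⟩ := (Submodule.mem_span_range_iff_exists_fun A).mp (hrB b)
    have h1 : algebraMap A A' r • algebraMap B B' b = ∑ i, algebraMap A A' (y i) • e' i := by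
      rw [← hBB', ← hy, map_sum]
      refine Finset.sum_congr rfl fun i _ => ?_
      rw [hBB']
    have h2 : x = (↑(u⁻¹) ^ (n + 1) : A') • ∑ i, algebraMap A A' (y i) • e' i := by
      rw [← h1, ← hb, hcomm, ← hu, Algebra.smul_def, Algebra.smul_def, ← mul_assoc, ← map_mul,
        pow_succ, mul_assoc (↑u⁻¹ ^ n : A'), Units.inv_mul, mul_one, mul_comm x, ← mul_assoc,
        ← map_pow, ← map_mul, ← mul_pow, Units.inv_mul, one_pow, map_one, one_mul]
    rw [h2]
    refine Submodule.smul_mem _ _ (Submodule.sum_mem _ fun i _ => Submodule.smul_mem _ _ ?_)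
    exact Submodule.subset_span ⟨i, rfl⟩
  let bb : Module.Basis (Fin d) A' B' := Module.Basis.mk hli hsp
  refine ⟨Module.Finite.of_basis bb, Module.Free.of_basis bb, ?_⟩
  rw [Module.finrank_eq_card_basis bb, Fintype.card_fin]

end Frac

/-- equal finite transcendence degrees force algebraicity -/
theorem isAlgebraic_of_trdeg_eq (k A B : Type u) [Field k] [CommRing A] [IsDomain A] [CommRing B]
    [IsDomain B] [Algebra k A] [Algebra k B] [Algebra A B] [IsScalarTower k A B]
    (hinj : Function.Injective (algebraMap A B)) (n : ℕ) (hA : Algebra.trdeg k A = n)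
    (hB : Algebra.trdeg k B = n) : Algebra.IsAlgebraic A B := by
  haveI : FaithfulSMul k A := (faithfulSMul_iff_algebraMap_injective k A).2 (algebraMap k A).injective
  haveI : FaithfulSMul A B := (faithfulSMul_iff_algebraMap_injective A B).2 hinj
  have h := trdeg_add_eq k A (A := B)
  rw [hA, hB] at h
  have h0 : Algebra.trdeg A B = 0 := by
    have h' : (n : Cardinal) + Algebra.trdeg A B = (n : Cardinal) + 0 := by rw [h, add_zero]
    exact Cardinal.eq_of_add_eq_add_left h' Cardinal.natCast_lt_aleph0
  exact trdeg_eq_zero_iff.mp h0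

end Groth.Agent.Lead.GenFin
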