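import Mathlib
import Groth.Agent.Lib.Lead.GenFin1

/-!
# Shrinking an affine open with affine preimage (lead)
-/

set_option backward.isDefEq.respectTransparency.types false
set_option synthInstance.maxHeartbeats 400000
set_option autoImplicit false
set_option linter.unusedSectionVars false
set_option linter.style.haveILetI false
universe u v w

open CategoryTheory CategoryTheory.Limits AlgebraicGeometry TopologicalSpace

namespace Groth.Agent.Lead.GenFin

/-- The basic step: given an affine open `V` of `Y` whose preimage `W` is affine, and a section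
`a` over `V`, any property of pairs of localizations at `a` holds for the basic opens. -/
theorem step {X Y : Scheme.{u}} (f : X ⟶ Y) {V : Y.Opens} {W : X.Opens}
    (hV : IsAffineOpen V) (hW : IsAffineOpen W) (hWV : W = f ⁻¹ᵁ V) (a : Γ(Y, V))
    (Q : ∀ (A' B' : Type u) [CommRing A'] [CommRing B'] [Algebra A' B'], Prop)
    (hQ : letI := (f.appLE V W hWV.le).hom.toAlgebra
      ∀ (A' B' : Type u) [CommRing A'] [CommRing B'] [Algebra Γ(Y, V) A'] [Algebra Γ(X, W) B']
        [Algebra A' B'] [Algebra Γ(Y, V) B'] [IsScalarTower Γ(Y, V) A' B']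
        [IsScalarTower Γ(Y, V) Γ(X, W) B'] [IsLocalization.Away a A']
        [IsLocalization.Away (algebraMap Γ(Y, V) Γ(X, W) a) B'], Q A' B') :
    ∃ (hle : X.basicOpen (f.appLE V W hWV.le a) ≤ f ⁻¹ᵁ Y.basicOpen a),
      IsAffineOpen (Y.basicOpen a) ∧ IsAffineOpen (X.basicOpen (f.appLE V W hWV.le a)) ∧
      X.basicOpen (f.appLE V W hWV.le a) = f ⁻¹ᵁ Y.basicOpen a ∧
      (letI := (f.appLE (Y.basicOpen a) (X.basicOpen (f.appLE V W hWV.le a)) hle).hom.toAlgebra
       Q Γ(Y, Y.basicOpen a) Γ(X, X.basicOpen (f.appLE V W hWV.le a))) := by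
  have heq : X.basicOpen (f.appLE V W hWV.le a) = f ⁻¹ᵁ Y.basicOpen a := by
    rw [Scheme.basicOpen_appLE, hWV]
    apply inf_eq_right.mpr
    exact f.preimage_mono (Y.basicOpen_le a)
  refine ⟨heq.le, hV.basicOpen a, hW.basicOpen _, heq, ?_⟩
  letI algAB := (f.appLE V W hWV.le).hom.toAlgebra
  letI algA'B' :=
    (f.appLE (Y.basicOpen a) (X.basicOpen (f.appLE V W hWV.le a)) heq.le).hom.toAlgebra
  haveI locA := hV.isLocalization_basicOpen a
  haveI locB := hW.isLocalization_basicOpen (f.appLE V W hWV.le a)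
  letI algAB' : Algebra Γ(Y, V) Γ(X, X.basicOpen (f.appLE V W hWV.le a)) :=
    ((algebraMap Γ(Y, Y.basicOpen a) Γ(X, X.basicOpen (f.appLE V W hWV.le a))).comp
      (algebraMap Γ(Y, V) Γ(Y, Y.basicOpen a))).toAlgebra
  haveI : IsScalarTower Γ(Y, V) Γ(Y, Y.basicOpen a)
      Γ(X, X.basicOpen (f.appLE V W hWV.le a)) := IsScalarTower.of_algebraMap_eq fun _ => rfl
  haveI : IsScalarTower Γ(Y, V) Γ(X, W) Γ(X, X.basicOpen (f.appLE V W hWV.le a)) := by
    refine IsScalarTower.of_algebraMap_eq fun x => ?_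
    show (f.appLE (Y.basicOpen a) (X.basicOpen (f.appLE V W hWV.le a)) heq.le).hom
        ((Y.presheaf.map (homOfLE (Y.basicOpen_le a)).op).hom x) =
      (X.presheaf.map (homOfLE (X.basicOpen_le (f.appLE V W hWV.le a))).op).hom
        ((f.appLE V W hWV.le).hom x)
    rw [← CommRingCat.comp_apply, ← CommRingCat.comp_apply, Scheme.Hom.appLE_map,
      Scheme.Hom.map_appLE]
  exact hQ Γ(Y, Y.basicOpen a) Γ(X, X.basicOpen (f.appLE V W hWV.le a))

end Groth.Agent.Lead.GenFin
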