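import Mathlib
import Groth.Agent.Lib.Lead.GenFin2
import Groth.Agent.Lib.Helper4.DimFT4

/-!
# Fraction fields as residue fields at generic points; algebraicity from equal dimension (lead)
-/

set_option backward.isDefEq.respectTransparency.types false
set_option synthInstance.maxHeartbeats 400000
set_option autoImplicit false
set_option linter.unusedSectionVars false
set_option linter.style.haveILetI false
universe u v w

open CategoryTheory CategoryTheory.Limits AlgebraicGeometry TopologicalSpace
open Groth.Agent.Lib.Helper4.DimFT1 Groth.Agent.Lib.Helper4.DimFT3 Groth.Agent.Lib.Helper4.DimFT4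

namespace Groth.Agent.Lead.GenFin

theorem residue_bijective_of_isField {R : Type*} [CommRing R] [IsLocalRing R] (h : IsField R) :
    Function.Bijective (IsLocalRing.residue R) := by
  refine ⟨?_, IsLocalRing.residue_surjective⟩
  rw [injective_iff_map_eq_zero]
  intro x hx
  rw [IsLocalRing.residue_eq_zero_iff, IsLocalRing.isField_iff_maximalIdeal_eq.mp h] at hx
  exact hx

/-- the residue field at the generic point is the fraction field of the sections over an affine
open -/
theorem isFractionRing_residueField {Y : Scheme.{u}} [IsIntegral Y] {V : Y.Opens}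
    (hV : IsAffineOpen V) (y : Y) (hyV : y ∈ V) (hy : y = genericPoint Y) :
    letI := (Y.evaluation V y hyV).hom.toAlgebra
    IsFractionRing Γ(Y, V) (Y.residueField y) := by
  subst hy
  haveI : Nonempty V := ⟨⟨_, hyV⟩⟩
  letI := (Y.evaluation V (genericPoint Y) hyV).hom.toAlgebra
  haveI := functionField_isFractionRing_of_isAffineOpen Y V hV
  have hbij : Function.Bijective (Y.residue (genericPoint Y)).hom :=
    residue_bijective_of_isField (Field.toIsField Y.functionField)
  let e : Y.functionField ≃ₐ[Γ(Y, V)] Y.residueField (genericPoint Y) :=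
    AlgEquiv.ofBijective
      { (Y.residue (genericPoint Y)).hom with
        commutes' := fun r => rfl } hbij
  exact IsLocalization.isLocalization_of_algEquiv _ e

theorem injective_appLE {X Y : Scheme.{u}} [IsIntegral X] [IsIntegral Y] (f : X ⟶ Y)
    [QuasiCompact f] [IsDominant f] {V : Y.Opens} {U : X.Opens} (hUV : U ≤ f ⁻¹ᵁ V)
    (hne : (U : Set X).Nonempty) : Function.Injective (f.appLE V U hUV).hom := by
  haveI : Nonempty U := hne.to_subtype
  haveI := IsSchemeTheoreticallyDominant.of_isDominant f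
  have h1 := f.app_injective V
  have h2 := map_injective_of_isIntegral X (homOfLE hUV)
  rw [Scheme.Hom.appLE]
  exact h2.comp h1

section Dim

variable (k : Type u) [Field k] {X Y : Scheme.{u}}
  [X.Over (Spec (CommRingCat.of k))] [Y.Over (Spec (CommRingCat.of k))]
  [LocallyOfFiniteType (X ↘ Spec (CommRingCat.of k))]
  [LocallyOfFiniteType (Y ↘ Spec (CommRingCat.of k))]
  [IsIntegral X] [IsIntegral Y] (f : X ⟶ Y) [QuasiCompact f] [IsDominant f]
  (hf : f ≫ (Y ↘ Spec (CommRingCat.of k)) = X ↘ Spec (CommRingCat.of k))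
  (hdim : topologicalKrullDim ↥X = topologicalKrullDim ↥Y)

theorem appLE_congr' {X S : Scheme.{u}} {g g' : X ⟶ S} (h : g = g') (T : S.Opens) (U : X.Opens)
    (e : U ≤ g ⁻¹ᵁ T) (e' : U ≤ g' ⁻¹ᵁ T) : g.appLE T U e = g'.appLE T U e' := by
  subst h; rfl

include hf in
theorem secMap_comp {V : Y.Opens} {U : X.Opens} (hUV : U ≤ f ⁻¹ᵁ V) :
    secMap k X U = (f.appLE V U hUV).hom.comp (secMap k Y V) := by
  rw [secMap_eq, secMap_eq, ← RingHom.comp_assoc]
  congr 1
  rw [← CommRingCat.hom_comp, Scheme.Hom.appLE_comp_appLE]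
  congr 1
  exact appLE_congr' hf.symm _ _ _ _

include hf hdim in
theorem isAlgebraic_appLE {V : Y.Opens} (hV : IsAffineOpen V) {U : X.Opens} (hU : IsAffineOpen U)
    (hUV : U ≤ f ⁻¹ᵁ V) (hne : (U : Set X).Nonempty) :
    letI := (f.appLE V U hUV).hom.toAlgebra
    Algebra.IsAlgebraic Γ(Y, V) Γ(X, U) := by
  letI := (f.appLE V U hUV).hom.toAlgebra
  obtain ⟨x, hx⟩ := hne
  have hneV : (V : Set Y).Nonempty := ⟨f x, hUV hx⟩
  haveI : Nonempty U := ⟨⟨x, hx⟩⟩
  haveI : Nonempty V := ⟨⟨f x, hUV hx⟩⟩
  letI := secAlgebra k X U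
  letI := secAlgebra k Y V
  haveI := finiteType_sections k X hU
  haveI := finiteType_sections k Y hV
  haveI : IsScalarTower k Γ(Y, V) Γ(X, U) := by
    refine IsScalarTower.of_algebraMap_eq fun c => ?_
    show secMap k X U c = (f.appLE V U hUV).hom (secMap k Y V c)
    rw [secMap_comp k f hf hUV]
    rfl
  obtain ⟨nA, hA1, hA2⟩ := exists_dim_eq_trdeg k Γ(Y, V)
  obtain ⟨nB, hB1, hB2⟩ := exists_dim_eq_trdeg k Γ(X, U)
  have h1 : ringKrullDim Γ(X, U) = ringKrullDim Γ(Y, V) := by
    rw [← topologicalKrullDim_affineOpen hU, ← topologicalKrullDim_affineOpen hV]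
    have e1 := S1618_main k X U ⟨x, hx⟩
    have e2 := S1618_main k Y V hneV
    exact e1.trans (hdim.trans e2.symm)
  have h2 : nB = nA := by
    rw [hA2, hB2] at h1
    exact_mod_cast h1
  rw [h2] at hB1
  exact isAlgebraic_of_trdeg_eq k Γ(Y, V) Γ(X, U)
    (injective_appLE f hUV ⟨x, hx⟩) nA hA1 hB1

end Dim

end Groth.Agent.Lead.GenFin
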