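import Mathlib
import Groth.Agent.Lib.Lead.GenFin3
import Groth.Agent.Lib.Helper7.QFFlat.Main

/-!
# Flatness at quasi-finite points of a morphism between regular varieties of the same dimension
(lead)
-/

set_option backward.isDefEq.respectTransparency.types false
set_option synthInstance.maxHeartbeats 400000
set_option autoImplicit false
set_option linter.unusedSectionVars false
set_option linter.style.haveILetI false
universe u v w

open CategoryTheory CategoryTheory.Limits AlgebraicGeometry TopologicalSpace
open Groth.Agent.Lib.Helper4.DimFT1 Groth.Agent.Lib.Helper4.DimFT3 Groth.Agent.Lib.Helper4.DimFT4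

namespace Groth.Agent.Lead.FibRk

noncomputable section

attribute [local instance] Curv2.stalkAlgebra Curv2.resAlgebra

/-- the closed fibre of a quasi-finite local algebra is artinian -/
theorem isArtinianRing_closedFibre {A T : Type u} [CommRing A] [CommRing T] [IsLocalRing A]
    [Algebra A T] [Algebra.QuasiFinite A T] :
    IsArtinianRing (T ⧸ (IsLocalRing.maximalIdeal A).map (algebraMap A T)) := by
  letI : Field (A ⧸ IsLocalRing.maximalIdeal A) := Ideal.Quotient.field _
  haveI : Algebra.QuasiFinite A (T ⧸ (IsLocalRing.maximalIdeal A).map (algebraMap A T)) :=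
    inferInstance
  haveI : Algebra.QuasiFinite (A ⧸ IsLocalRing.maximalIdeal A)
      (T ⧸ (IsLocalRing.maximalIdeal A).map (algebraMap A T)) :=
    Algebra.QuasiFinite.of_restrictScalars A _ _
  haveI : Module.Finite (A ⧸ IsLocalRing.maximalIdeal A)
      (T ⧸ (IsLocalRing.maximalIdeal A).map (algebraMap A T)) := Module.Finite.of_quasiFinite
  exact IsArtinianRing.of_finite (A ⧸ IsLocalRing.maximalIdeal A) _

/-- residue field extensions of quasi-finite local algebras are finite -/
theorem finite_residueField_of_quasiFinite {A T : Type u} [CommRing A] [CommRing T]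
    [IsLocalRing A] [IsLocalRing T] [Algebra A T] [IsLocalHom (algebraMap A T)]
    [Algebra.QuasiFinite A T] :
    Module.Finite (IsLocalRing.ResidueField A) (IsLocalRing.ResidueField T) := by
  haveI : Algebra.QuasiFinite A (IsLocalRing.ResidueField T) :=
    inferInstanceAs (Algebra.QuasiFinite A (T ⧸ IsLocalRing.maximalIdeal T))
  haveI : Algebra.QuasiFinite (IsLocalRing.ResidueField A) (IsLocalRing.ResidueField T) :=
    Algebra.QuasiFinite.of_restrictScalars A _ _
  exact Module.Finite.of_quasiFinite

section Dim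

variable (k : Type u) [Field k] (X : Scheme.{u}) [X.Over (Spec (CommRingCat.of k))]
  [LocallyOfFiniteType (X ↘ Spec (CommRingCat.of k))] [IsIntegral X]

/-- the dimension formula at a point of an integral scheme of finite type over a field -/
theorem dim_formula (x : X) : ∃ a b : ℕ, Algebra.trdeg k (X.residueField x) = a ∧
    ringKrullDim (X.presheaf.stalk x) = b ∧
    topologicalKrullDim X = ((a + b : ℕ) : WithBot ℕ∞) := by
  obtain ⟨U, hU, hx, -⟩ := exists_isAffineOpen_mem_and_subset (U := (⊤ : X.Opens)) (x := x)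
    (by simp)
  haveI : Nonempty U := ⟨⟨x, hx⟩⟩
  letI := secAlgebra k X U
  haveI := finiteType_sections k X hU
  haveI : IsNoetherianRing Γ(X, U) := Algebra.FiniteType.isNoetherianRing k Γ(X, U)
  obtain ⟨n, h1, h2⟩ := exists_dim_quotient_eq_trdeg k X hU x hx
  have h3 := ringKrullDim_stalk_eq_height hU x hx
  have h4 := height_add_dim_quotient k Γ(X, U) (hU.primeIdealOf ⟨x, hx⟩).asIdeal
  have h5 := topologicalKrullDim_affineOpen hU
  have h6 := S1618_main k X U ⟨x, hx⟩
  have hfin : (hU.primeIdealOf ⟨x, hx⟩).asIdeal.height ≠ ⊤ := Ideal.height_ne_top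
    (hU.primeIdealOf ⟨x, hx⟩).2.ne_top
  obtain ⟨b, hb⟩ := ENat.ne_top_iff_exists.mp hfin
  refine ⟨n, b, h1, ?_, ?_⟩
  · rw [h3, ← hb]
    rfl
  · have h7 : topologicalKrullDim X = ringKrullDim Γ(X, U) := by
      rw [← h5]
      exact h6.symm
    rw [h7, ← h4, h2, ← hb]
    push_cast
    rw [add_comm]

end Dim

section Flat

variable (k : Type u) [Field k] {X Y : Scheme.{u}}
  [X.Over (Spec (CommRingCat.of k))] [Y.Over (Spec (CommRingCat.of k))]
  [LocallyOfFiniteType (X ↘ Spec (CommRingCat.of k))]
  [LocallyOfFiniteType (Y ↘ Spec (CommRingCat.of k))]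
  [IsIntegral X] [IsIntegral Y] (f : X ⟶ Y)
  (hf : f ≫ (Y ↘ Spec (CommRingCat.of k)) = X ↘ Spec (CommRingCat.of k))
  (hdim : topologicalKrullDim ↥X = topologicalKrullDim ↥Y)

include hf in
theorem resMap_comp (x : X) :
    Curv2.resMap k X x = (f.residueFieldMap x).hom.comp (Curv2.resMap k Y (f x)) := by
  ext c
  simp only [Curv2.resMap, Curv2.stalkMap, Coh.toGlobal, RingHom.comp_apply]
  have h1 := Scheme.residue_residueFieldMap f x
  have h1' := congrArg (fun φ => φ.hom
    ((Y.presheaf.germ ⊤ (f x) trivial).hom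
        ((Y ↘ Spec (CommRingCat.of k)).appTop.hom
          ((Scheme.ΓSpecIso (CommRingCat.of k)).inv.hom c)))) h1
  simp only [CommRingCat.hom_comp, RingHom.comp_apply] at h1'
  rw [h1']
  have h2 := Scheme.Hom.germ_stalkMap_apply f ⊤ x trivial
    ((Y ↘ Spec (CommRingCat.of k)).appTop.hom
          ((Scheme.ΓSpecIso (CommRingCat.of k)).inv.hom c))
  erw [h2]
  congr 2
  have h3 : (X ↘ Spec (CommRingCat.of k)).appTop =
      (Y ↘ Spec (CommRingCat.of k)).appTop ≫ f.appTop := by
    rw [← Scheme.Hom.comp_appTop, hf]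
  rw [h3]
  rfl

include hf hdim in
theorem ringKrullDim_stalk_eq (x : X) (hx : f.QuasiFiniteAt x) :
    ringKrullDim (X.presheaf.stalk x) = ringKrullDim (Y.presheaf.stalk (f x)) := by
  obtain ⟨a, b, ha, hb, hab⟩ := dim_formula k X x
  obtain ⟨a', b', ha', hb', hab'⟩ := dim_formula k Y (f x)
  -- the residue field extension is finite
  letI algS := (f.stalkMap x).hom.toAlgebra
  haveI : IsLocalHom (algebraMap (Y.presheaf.stalk (f x)) (X.presheaf.stalk x)) :=
    inferInstanceAs (IsLocalHom (f.stalkMap x).hom)
  haveI : Algebra.QuasiFinite (Y.presheaf.stalk (f x)) (X.presheaf.stalk x) := hx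
  have hfin : Module.Finite (IsLocalRing.ResidueField (Y.presheaf.stalk (f x)))
      (IsLocalRing.ResidueField (X.presheaf.stalk x)) := finite_residueField_of_quasiFinite
  letI algκ : Algebra (Y.residueField (f x)) (X.residueField x) :=
    inferInstanceAs (Algebra (IsLocalRing.ResidueField (Y.presheaf.stalk (f x)))
      (IsLocalRing.ResidueField (X.presheaf.stalk x)))
  haveI : Module.Finite (Y.residueField (f x)) (X.residueField x) := hfin
  haveI : Algebra.IsAlgebraic (Y.residueField (f x)) (X.residueField x) :=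
    Algebra.IsAlgebraic.of_finite _ _
  haveI : IsScalarTower k (Y.residueField (f x)) (X.residueField x) := by
    refine IsScalarTower.of_algebraMap_eq fun c => ?_
    exact congrArg (fun φ => φ c) (resMap_comp k f hf x)
  have htr : Algebra.trdeg k (X.residueField x) = Algebra.trdeg k (Y.residueField (f x)) := by
    have h0 := trdeg_add_eq k (Y.residueField (f x)) (A := X.residueField x)
    rw [trdeg_eq_zero (R := Y.residueField (f x)) (A := X.residueField x), add_zero] at h0
    exact h0.symm
  have haa : a = a' := by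
    rw [ha, ha'] at htr
    exact_mod_cast htr
  have hbb : b = b' := by
    rw [hab, hab', haa] at hdim
    have : a' + b = a' + b' := by exact_mod_cast hdim
    omega
  rw [hb, hb', hbb]

include hf hdim in
/-- miracle flatness at quasi-finite points -/
theorem flat_stalkMap (x : X) (hx : f.QuasiFiniteAt x)
    (hX : IsRegularLocalRing (X.presheaf.stalk x))
    (hY : IsRegularLocalRing (Y.presheaf.stalk (f x))) :
    (f.stalkMap x).hom.Flat := by
  letI algS := (f.stalkMap x).hom.toAlgebra
  haveI : IsLocalHom (algebraMap (Y.presheaf.stalk (f x)) (X.presheaf.stalk x)) :=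
    inferInstanceAs (IsLocalHom (f.stalkMap x).hom)
  haveI : Algebra.QuasiFinite (Y.presheaf.stalk (f x)) (X.presheaf.stalk x) := hx
  have hA := isArtinianRing_closedFibre (A := Y.presheaf.stalk (f x)) (T := X.presheaf.stalk x)
  rw [RingHom.Flat]
  refine (Groth.Agent.Helper7.QFFlat.flat_iff_cm_and_dim_eq _ _ hA).mpr ⟨?_, ?_⟩
  · exact Groth.Agent.Helper8.FlatReg.isCohenMacaulayLocalRing_of_isRegularLocalRing _
  · exact ringKrullDim_stalk_eq k f hf hdim x hx

end Flat

end

end Groth.Agent.Lead.FibRk
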