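import Mathlib

/-!
# An affine open neighbourhood of a finite fibre, from Zariski's main theorem (lead)
-/

set_option backward.isDefEq.respectTransparency.types false
set_option synthInstance.maxHeartbeats 400000
set_option autoImplicit false
set_option linter.unusedSectionVars false
set_option linter.style.haveILetI false
universe u v w

open CategoryTheory CategoryTheory.Limits AlgebraicGeometry TopologicalSpace

namespace Groth.Agent.Lead.FibRk

/-- finitely many points of an affine open lying in an open set are contained in a basic open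
inside that open set -/
theorem exists_basicOpen_le_of_finite {N : Scheme.{u}} {U : N.Opens} (hU : IsAffineOpen U)
    (W : N.Opens) (S : Finset N) (hSU : ∀ z ∈ S, z ∈ U) (hSW : ∀ z ∈ S, z ∈ W) :
    ∃ g : Γ(N, U), N.basicOpen g ≤ W ∧ ∀ z ∈ S, z ∈ N.basicOpen g := by
  classical
  rcases S.eq_empty_or_nonempty with hS | ⟨z0, hz0⟩
  · subst hS
    refine ⟨0, ?_, by simp⟩
    rw [Scheme.basicOpen_zero]
    exact bot_le
  have hex : ∀ z : N, ∃ g : Γ(N, U), z ∈ S → (N.basicOpen g ≤ W ∧ z ∈ N.basicOpen g) := by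
    intro z
    by_cases hz : z ∈ S
    · obtain ⟨g, h1, h2⟩ := hU.exists_basicOpen_le (V := W) ⟨z, hSW z hz⟩ (hSU z hz)
      exact ⟨g, fun _ => ⟨h1, h2⟩⟩
    · exact ⟨0, fun h => absurd h hz⟩
  choose gz hgz using hex
  let p : N → Ideal Γ(N, U) := fun z =>
    if h : z ∈ U then RingHom.ker (N.evaluation U z h).hom else ⊤
  have hp : ∀ z ∈ S, (p z).IsPrime := by
    intro z hz
    simp only [p, dif_pos (hSU z hz)]
    exact RingHom.ker_isPrime _
  have hmem : ∀ z (hz : z ∈ U) (g : Γ(N, U)), g ∈ p z ↔ z ∉ N.basicOpen g := by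
    intro z hz g
    simp only [p, dif_pos hz, RingHom.mem_ker]
    exact N.evaluation_eq_zero_iff_notMem_basicOpen z hz g
  let I : Ideal Γ(N, U) := Ideal.span (gz '' (S : Set N))
  have hnot : ¬ ((I : Set Γ(N, U)) ⊆ ⋃ z ∈ (S : Set N), (p z : Set Γ(N, U))) := by
    intro hsub
    obtain ⟨z, hz, hIz⟩ := (Ideal.subset_union_prime (s := S) (f := p) z0 z0 (fun i hi _ _ => hp i hi)).mp hsub
    have h1 : gz z ∈ p z := hIz (Ideal.subset_span ⟨z, Finset.mem_coe.mpr hz, rfl⟩)
    exact (hmem z (hSU z hz) (gz z)).mp h1 (hgz z hz).2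
  rw [Set.not_subset] at hnot
  obtain ⟨g, hgI, hg⟩ := hnot
  refine ⟨g, ?_, ?_⟩
  · intro w hw
    by_contra hwW
    have hwU : w ∈ U := N.basicOpen_le g hw
    have hI : I ≤ p w := by
      rw [Ideal.span_le]
      rintro _ ⟨z, hz, rfl⟩
      rw [SetLike.mem_coe, hmem w hwU]
      intro h
      exact hwW ((hgz z (Finset.mem_coe.mp hz)).1 h)
    exact (hmem w hwU g).mp (hI hgI) hw
  · intro z hz
    by_contra hcon
    apply hg
    refine Set.mem_biUnion (Finset.mem_coe.mpr hz) ?_
    exact (hmem z (hSU z hz) g).mpr hcon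

theorem isIso_morphismRestrict_of_le {X Y : Scheme.{u}} (f : X ⟶ Y) {W B : Y.Opens} (hBW : B ≤ W)
    [IsIso (f ∣_ W)] : IsIso (f ∣_ B) := by
  have h1 : IsIso (f ∣_ W ∣_ (W.ι ⁻¹ᵁ B)) := inferInstance
  have e : W.ι ''ᵁ (W.ι ⁻¹ᵁ B) = B := by
    rw [Scheme.Hom.image_preimage_eq_opensRange_inf, Scheme.Opens.opensRange_ι]
    exact inf_eq_right.mpr hBW
  have h2 := ((MorphismProperty.isomorphisms Scheme.{u}).arrow_mk_iso_iff
    (morphismRestrictRestrict f W (W.ι ⁻¹ᵁ B) ≪≫ morphismRestrictEq f e)).mp h1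
  exact h2

/-- a finite fibre consisting of quasi-finite points of a separated morphism of finite type has an
affine open neighbourhood (over any affine open neighbourhood of the base point) -/
theorem exists_affine_fibre_nbhd {X Y : Scheme.{u}} (f : X ⟶ Y) [LocallyOfFiniteType f]
    [IsSeparated f] [QuasiCompact f] (y : Y) (hfin : (f ⁻¹' {y}).Finite)
    (hqf : ∀ x, f x = y → f.QuasiFiniteAt x) {V : Y.Opens} (hV : IsAffineOpen V) (hy : y ∈ V) :
    ∃ U : X.Opens, IsAffineOpen U ∧ U ≤ f ⁻¹ᵁ V ∧ ∀ x, f x = y → x ∈ U := by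
  classical
  obtain ⟨W, hWiso, hWqf⟩ := f.exists_isIso_morphismRestrict_toNormalization
  have hfn : ∀ x, f.fromNormalization (f.toNormalization x) = f x := by
    intro x
    rw [← Scheme.Hom.comp_apply, f.toNormalization_fromNormalization]
  have hNV : IsAffineOpen (f.fromNormalization ⁻¹ᵁ V) := hV.preimage f.fromNormalization
  let S : Finset f.normalization := hfin.toFinset.image f.toNormalization
  have hS : ∀ z ∈ S, ∃ x, f x = y ∧ f.toNormalization x = z := by
    intro z hz
    obtain ⟨x, hx, rfl⟩ := Finset.mem_image.mp hz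
    exact ⟨x, by simpa using hx, rfl⟩
  have hSU : ∀ z ∈ S, z ∈ f.fromNormalization ⁻¹ᵁ V := by
    intro z hz
    obtain ⟨x, hx, rfl⟩ := hS z hz
    show f.fromNormalization (f.toNormalization x) ∈ V
    rw [hfn, hx]
    exact hy
  have hSW : ∀ z ∈ S, z ∈ W := by
    intro z hz
    obtain ⟨x, hx, rfl⟩ := hS z hz
    have : x ∈ (f.toNormalization ⁻¹ᵁ W).1 := by
      rw [hWqf]
      exact hqf x hx
    exact this
  obtain ⟨g, hgW, hgS⟩ := exists_basicOpen_le_of_finite hNV W S hSU hSW
  have hB : IsAffineOpen (f.normalization.basicOpen g) := hNV.basicOpen g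
  haveI := hWiso
  haveI : IsIso (f.toNormalization ∣_ f.normalization.basicOpen g) :=
    isIso_morphismRestrict_of_le f.toNormalization hgW
  refine ⟨f.toNormalization ⁻¹ᵁ f.normalization.basicOpen g, ?_, ?_, ?_⟩
  · haveI : IsAffine (f.normalization.basicOpen g).toScheme := hB
    exact IsAffine.of_isIso (f.toNormalization ∣_ f.normalization.basicOpen g)
  · intro x hx
    have h1 : f.toNormalization x ∈ f.fromNormalization ⁻¹ᵁ V :=
      f.normalization.basicOpen_le g hx
    have h2 : f.fromNormalization (f.toNormalization x) ∈ V := h1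
    rw [hfn] at h2
    exact h2
  · intro x hx
    apply hgS
    exact Finset.mem_image.mpr ⟨x, by simpa using hx, rfl⟩

end Groth.Agent.Lead.FibRk
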