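import Mathlib
import Groth.Agent.Lib.Lead.FibRk2

/-!
# The fibre over a point as a pushout of rings of sections of an affine neighbourhood (lead)
-/

set_option backward.isDefEq.respectTransparency.types false
set_option synthInstance.maxHeartbeats 400000
set_option autoImplicit false
set_option linter.unusedSectionVars false
set_option linter.style.haveILetI false
universe u v w

open CategoryTheory CategoryTheory.Limits AlgebraicGeometry TopologicalSpace
open Groth.Agent.Lib.Helper4.DimFT1 Groth.Agent.Lib.Helper4.DimFT3 Groth.Agent.Lib.Helper4.DimFT4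
open Groth.Agent.Lib.Helper4.RadBir3

namespace Groth.Agent.Lead.FibRk

/-- restricting a pullback square along monomorphisms through which it factors -/
theorem isPullback_of_mono {C : Type*} [Category C] {P X Y Z U V : C} {fst : P ⟶ X} {snd : P ⟶ Z}
    {f : X ⟶ Y} {g : Z ⟶ Y} (h : IsPullback fst snd f g) (i : U ⟶ X) (j : V ⟶ Y) [Mono i] [Mono j]
    (fst' : P ⟶ U) (g' : Z ⟶ V) (f₀ : U ⟶ V) (h1 : fst' ≫ i = fst) (h2 : g' ≫ j = g)
    (h3 : f₀ ≫ j = i ≫ f) : IsPullback fst' snd f₀ g' := by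
  have hw : fst' ≫ f₀ = snd ≫ g' := by
    rw [← cancel_mono j, Category.assoc, Category.assoc, h3, h2, ← Category.assoc, h1, h.w]
  refine ⟨⟨hw⟩, ⟨PullbackCone.IsLimit.mk _
    (fun s => h.lift (s.fst ≫ i) s.snd (by
      rw [Category.assoc, ← h3, ← Category.assoc, s.condition, Category.assoc, h2]))
    (fun s => by
      rw [← cancel_mono i, Category.assoc, h1, h.lift_fst])
    (fun s => h.lift_snd _ _ _)
    (fun s m hm1 hm2 => ?_)⟩⟩
  apply h.hom_ext
  · rw [h.lift_fst, ← h1, ← Category.assoc, hm1]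
  · rw [h.lift_snd, hm2]

theorem fromSpecResidueField_eq {Y : Scheme.{u}} {V : Y.Opens} (hV : IsAffineOpen V) (y : Y)
    (hy : y ∈ V) :
    Spec.map (Y.evaluation V y hy) ≫ hV.fromSpec = Y.fromSpecResidueField y := by
  rw [Scheme.fromSpecResidueField, ← hV.fromSpecStalk_eq_fromSpecStalk hy,
    IsAffineOpen.fromSpecStalk, ← Category.assoc, ← Spec.map_comp]
  rfl

/-- the ring of global sections of the fibre over `y` as a pushout, computed on an affine open
neighbourhood of the fibre -/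
theorem isPushout_fibre {X Y : Scheme.{u}} (f : X ⟶ Y) {V : Y.Opens} {U : X.Opens}
    (hV : IsAffineOpen V) (hU : IsAffineOpen U) (hUV : U ≤ f ⁻¹ᵁ V) (y : Y) (hy : y ∈ V)
    (hfib : ∀ x, f x = y → x ∈ U) :
    ∃ α : Γ(X, U) ⟶ Γ(pullback f (Y.fromSpecResidueField y), ⊤),
      IsPushout (f.appLE V U hUV) (Y.evaluation V y hy) α
        ((Scheme.ΓSpecIso (Y.residueField y)).inv ≫
          (pullback.snd f (Y.fromSpecResidueField y)).appTop) := by
  set g := Y.fromSpecResidueField y with hg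
  have hrange : Set.range (pullback.fst f g) ⊆ Set.range hU.fromSpec := by
    rw [hU.range_fromSpec]
    rintro _ ⟨z, rfl⟩
    apply hfib
    rw [← Scheme.Hom.comp_apply, pullback.condition, Scheme.Hom.comp_apply]
    exact Y.fromSpecResidueField_apply y _
  let fst' : pullback f g ⟶ Spec Γ(X, U) := IsOpenImmersion.lift hU.fromSpec (pullback.fst f g) hrange
  have h1 : fst' ≫ hU.fromSpec = pullback.fst f g := IsOpenImmersion.lift_fac _ _ _
  have h2 : Spec.map (Y.evaluation V y hy) ≫ hV.fromSpec = g := fromSpecResidueField_eq hV y hy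
  have h3 : Spec.map (f.appLE V U hUV) ≫ hV.fromSpec = hU.fromSpec ≫ f :=
    IsAffineOpen.SpecMap_appLE_fromSpec f hV hU hUV
  have hpb : IsPullback fst' (pullback.snd f g) (Spec.map (f.appLE V U hUV))
      (Spec.map (Y.evaluation V y hy)) :=
    isPullback_of_mono (IsPullback.of_hasPullback f g) hU.fromSpec hV.fromSpec fst' _ _ h1 h2 h3
  have hpo := isPushout_appTop_of_isPullback hpb
  refine ⟨(Scheme.ΓSpecIso Γ(X, U)).inv ≫ fst'.appTop, ?_⟩
  refine IsPushout.of_iso hpo (Scheme.ΓSpecIso _) (Scheme.ΓSpecIso _) (Scheme.ΓSpecIso _)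
    (Iso.refl _) ?_ ?_ ?_ ?_
  · exact Scheme.ΓSpecIso_naturality _
  · exact Scheme.ΓSpecIso_naturality _
  · simp
  · simp

/-- the residue field at a point of an affine open is the residue field of the corresponding
prime -/
theorem nonempty_residueField_algEquiv {Y : Scheme.{u}} {V : Y.Opens} (hV : IsAffineOpen V)
    (y : Y) (hy : y ∈ V) :
    letI := (Y.evaluation V y hy).hom.toAlgebra
    Nonempty (Y.residueField y ≃ₐ[Γ(Y, V)] (hV.primeIdealOf ⟨y, hy⟩).asIdeal.ResidueField) := by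
  letI algκ := (Y.evaluation V y hy).hom.toAlgebra
  letI algA := Y.presheaf.algebra_section_stalk (U := V) ⟨y, hy⟩
  haveI := hV.isLocalization_stalk ⟨y, hy⟩
  let e₀ : Localization.AtPrime (hV.primeIdealOf ⟨y, hy⟩).asIdeal ≃ₐ[Γ(Y, V)] Y.presheaf.stalk y :=
    IsLocalization.algEquiv (hV.primeIdealOf ⟨y, hy⟩).asIdeal.primeCompl _ _
  let e₁ : (hV.primeIdealOf ⟨y, hy⟩).asIdeal.ResidueField ≃+* Y.residueField y :=
    IsLocalRing.ResidueField.mapEquiv e₀.toRingEquiv
  refine ⟨(AlgEquiv.ofRingEquiv (f := e₁) (fun r => ?_)).symm⟩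
  have h1 : algebraMap Γ(Y, V) (hV.primeIdealOf ⟨y, hy⟩).asIdeal.ResidueField r =
      IsLocalRing.residue _ (algebraMap Γ(Y, V)
        (Localization.AtPrime (hV.primeIdealOf ⟨y, hy⟩).asIdeal) r) := rfl
  rw [h1]
  show IsLocalRing.residue _ (e₀ (algebraMap Γ(Y, V) _ r)) = _
  rw [e₀.commutes]
  rfl

/-- the prime of `f x` is the contraction of the prime of `x` -/
theorem primeIdealOf_apply {X Y : Scheme.{u}} (f : X ⟶ Y) {V : Y.Opens} {U : X.Opens}
    (hV : IsAffineOpen V) (hU : IsAffineOpen U) (hUV : U ≤ f ⁻¹ᵁ V) (x : X) (hx : x ∈ U) :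
    (hV.primeIdealOf ⟨f x, hUV hx⟩).asIdeal =
      (hU.primeIdealOf ⟨x, hx⟩).asIdeal.comap (f.appLE V U hUV).hom := by
  suffices hV.primeIdealOf ⟨f x, hUV hx⟩ = Spec.map (f.appLE V U hUV) (hU.primeIdealOf ⟨x, hx⟩) from
    congr(($this).1)
  apply hV.isoSpec.inv.homeomorph.injective
  apply Subtype.ext
  simp only [IsAffineOpen.primeIdealOf, Scheme.Hom.homeomorph_apply,
    ← Scheme.Hom.comp_apply, ← Scheme.Opens.ι_apply, IsAffineOpen.isoSpec_hom]
  simp

section Flat

variable (k : Type u) [Field k] {X Y : Scheme.{u}}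
  [X.Over (Spec (CommRingCat.of k))] [Y.Over (Spec (CommRingCat.of k))]
  [LocallyOfFiniteType (X ↘ Spec (CommRingCat.of k))]
  [LocallyOfFiniteType (Y ↘ Spec (CommRingCat.of k))]
  [IsIntegral X] [IsIntegral Y] (f : X ⟶ Y)
  (hf : f ≫ (Y ↘ Spec (CommRingCat.of k)) = X ↘ Spec (CommRingCat.of k))
  (hdim : topologicalKrullDim ↥X = topologicalKrullDim ↥Y)

include hf hdim in
/-- flatness of the localization at the prime of a quasi-finite point over the sections of an
affine open of the base -/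
theorem flat_localization_of_point {V : Y.Opens} {U : X.Opens}
    (hV : IsAffineOpen V) (hU : IsAffineOpen U) (hUV : U ≤ f ⁻¹ᵁ V) (x : X) (hxU : x ∈ U)
    (hx : f.QuasiFiniteAt x) (hX : IsRegularLocalRing (X.presheaf.stalk x))
    (hY : IsRegularLocalRing (Y.presheaf.stalk (f x))) :
    letI := (f.appLE V U hUV).hom.toAlgebra
    Module.Flat Γ(Y, V) (Localization.AtPrime (hU.primeIdealOf ⟨x, hxU⟩).asIdeal) := by
  letI algRM := (f.appLE V U hUV).hom.toAlgebra
  letI algMS := X.presheaf.algebra_section_stalk (U := U) ⟨x, hxU⟩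
  haveI := hU.isLocalization_stalk ⟨x, hxU⟩
  letI algRA := Y.presheaf.algebra_section_stalk (U := V) ⟨f x, hUV hxU⟩
  haveI := hV.isLocalization_stalk ⟨f x, hUV hxU⟩
  letI algAS := (f.stalkMap x).hom.toAlgebra
  letI algRS : Algebra Γ(Y, V) (X.presheaf.stalk x) :=
    ((algebraMap Γ(X, U) (X.presheaf.stalk x)).comp (algebraMap Γ(Y, V) Γ(X, U))).toAlgebra
  haveI : IsScalarTower Γ(Y, V) Γ(X, U) (X.presheaf.stalk x) :=
    IsScalarTower.of_algebraMap_eq fun _ => rfl
  haveI : IsScalarTower Γ(Y, V) (Y.presheaf.stalk (f x)) (X.presheaf.stalk x) := by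
    refine IsScalarTower.of_algebraMap_eq fun r => ?_
    show (X.presheaf.germ U x hxU).hom ((f.appLE V U hUV).hom r) =
      (f.stalkMap x).hom ((Y.presheaf.germ V (f x) (hUV hxU)).hom r)
    rw [Scheme.Hom.germ_stalkMap_apply f V x (hUV hxU) r]
    rw [Scheme.Hom.appLE, CommRingCat.comp_apply]
    exact TopCat.Presheaf.germ_res_apply X.presheaf (homOfLE hUV) x hxU _
  haveI : Module.Flat Γ(Y, V) (Y.presheaf.stalk (f x)) :=
    IsLocalization.flat _ (hV.primeIdealOf ⟨f x, hUV hxU⟩).asIdeal.primeCompl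
  haveI : Module.Flat (Y.presheaf.stalk (f x)) (X.presheaf.stalk x) :=
    flat_stalkMap k f hf hdim x hx hX hY
  haveI : Module.Flat Γ(Y, V) (X.presheaf.stalk x) :=
    Module.Flat.trans Γ(Y, V) (Y.presheaf.stalk (f x)) (X.presheaf.stalk x)
  let e : Localization.AtPrime (hU.primeIdealOf ⟨x, hxU⟩).asIdeal ≃ₐ[Γ(X, U)] X.presheaf.stalk x :=
    IsLocalization.algEquiv (hU.primeIdealOf ⟨x, hxU⟩).asIdeal.primeCompl _ _
  exact Module.Flat.of_linearEquiv (e.toLinearEquiv.restrictScalars Γ(Y, V))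

end Flat

end Groth.Agent.Lead.FibRk
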