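import Mathlib
import Groth.Agent.Lib.Lead.GenFin3

/-!
# A dominant morphism of integral varieties of the same dimension has an affine open in the target
with affine preimage (lead)
-/

set_option backward.isDefEq.respectTransparency.types false
set_option synthInstance.maxHeartbeats 400000
set_option autoImplicit false
set_option linter.unusedSectionVars false
set_option linter.style.haveILetI false
universe u v w

open CategoryTheory CategoryTheory.Limits AlgebraicGeometry TopologicalSpace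
open Groth.Agent.Lib.Helper4.DimFT1 Groth.Agent.Lib.Helper4.DimFT3 Groth.Agent.Lib.Helper4.DimFT4

namespace Groth.Agent.Lead.GenFin

section Dim

variable (k : Type u) [Field k] {X Y : Scheme.{u}}
  [X.Over (Spec (CommRingCat.of k))] [Y.Over (Spec (CommRingCat.of k))]
  [LocallyOfFiniteType (X ↘ Spec (CommRingCat.of k))]
  [LocallyOfFiniteType (Y ↘ Spec (CommRingCat.of k))]
  [IsIntegral X] [IsIntegral Y] (f : X ⟶ Y) [QuasiCompact f] [IsDominant f]
  (hf : f ≫ (Y ↘ Spec (CommRingCat.of k)) = X ↘ Spec (CommRingCat.of k))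
  (hdim : topologicalKrullDim ↥X = topologicalKrullDim ↥Y)

theorem basicOpen_le_of_dvd {X : Scheme.{u}} {U : X.Opens} {a b : Γ(X, U)} (h : a ∣ b) :
    X.basicOpen b ≤ X.basicOpen a := by
  obtain ⟨c, rfl⟩ := h
  rw [Scheme.basicOpen_mul]
  exact inf_le_left

include hf hdim in
/-- local step: around each point of the preimage of `V` there is an affine open `U'` and a
nonzero section `c` on `V` such that `U' ∩ f⁻¹ D(c) ⊆ U` -/
theorem exists_section_local {V : Y.Opens} (hV : IsAffineOpen V) {U : X.Opens}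
    (hU : IsAffineOpen U) (hUV : U ≤ f ⁻¹ᵁ V) (hne : (U : Set X).Nonempty) (x : X)
    (hx : x ∈ f ⁻¹ᵁ V) :
    ∃ (U' : X.Opens) (c : Γ(Y, V)), x ∈ U' ∧ c ≠ 0 ∧ U' ⊓ f ⁻¹ᵁ (Y.basicOpen c) ≤ U := by
  obtain ⟨_, ⟨U', hU', rfl⟩, hxU', hU'V0⟩ :=
    X.isBasis_affineOpens.exists_subset_of_mem_open hx (f ⁻¹ᵁ V).2
  have hU'V : U' ≤ f ⁻¹ᵁ V := hU'V0
  have hne' : (U' : Set X).Nonempty := ⟨x, hxU'⟩
  have hη : genericPoint X ∈ U ⊓ U' := by
    rw [← SetLike.mem_coe, (genericPoint_spec X).mem_open_set_iff (U ⊓ U').isOpen]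
    have h1 : genericPoint X ∈ (U : Set X) :=
      ((genericPoint_spec X).mem_open_set_iff U.isOpen).mpr (by simpa using hne)
    have h2 : genericPoint X ∈ (U' : Set X) :=
      ((genericPoint_spec X).mem_open_set_iff U'.isOpen).mpr (by simpa using hne')
    exact ⟨genericPoint X, trivial, h1, h2⟩
  obtain ⟨b, hb1, hb2⟩ := hU'.exists_basicOpen_le ⟨genericPoint X, hη⟩ hη.2
  letI := (f.appLE V U' hU'V).hom.toAlgebra
  haveI : Nonempty U' := hne'.to_subtype
  haveI : Algebra.IsAlgebraic Γ(Y, V) Γ(X, U') := isAlgebraic_appLE k f hf hdim hV hU' hU'V hne'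
  have hb0 : b ≠ 0 := by
    rintro rfl
    rw [Scheme.basicOpen_zero] at hb2
    exact hb2
  obtain ⟨c, hc0, hc⟩ := (Algebra.IsAlgebraic.isAlgebraic (R := Γ(Y, V)) b).exists_nonzero_dvd
    (mem_nonZeroDivisors_of_ne_zero hb0)
  refine ⟨U', c, hxU', hc0, ?_⟩
  have h1 : X.basicOpen (f.appLE V U' hU'V c) = U' ⊓ f ⁻¹ᵁ (Y.basicOpen c) :=
    Scheme.basicOpen_appLE f U' V hU'V c
  rw [← h1]
  exact (basicOpen_le_of_dvd hc).trans (hb1.trans inf_le_left)

include hf hdim in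
/-- there is a nonempty affine open of `Y` whose preimage is affine -/
theorem exists_affine_preimage :
    ∃ (V : Y.Opens) (W : X.Opens), IsAffineOpen V ∧ IsAffineOpen W ∧ W = f ⁻¹ᵁ V ∧
      (W : Set X).Nonempty := by
  classical
  obtain ⟨_, ⟨V, hV, rfl⟩, hηV, -⟩ :=
    Y.isBasis_affineOpens.exists_subset_of_mem_open (Set.mem_univ (f (genericPoint X))) isOpen_univ
  obtain ⟨_, ⟨U, hU, rfl⟩, hηU, hUV0⟩ :=
    X.isBasis_affineOpens.exists_subset_of_mem_open hηV (f ⁻¹ᵁ V).2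
  have hUV : U ≤ f ⁻¹ᵁ V := hUV0
  have hne : (U : Set X).Nonempty := ⟨_, hηU⟩
  haveI : Nonempty U := hne.to_subtype
  haveI : Nonempty V := ⟨⟨_, hηV⟩⟩
  have hloc := fun x : (f ⁻¹ᵁ V : X.Opens) =>
    exists_section_local k f hf hdim hV hU hUV hne x.1 x.2
  choose U' c hxU' hc0 hle using hloc
  have hcomp : IsCompact ((f ⁻¹ᵁ V : X.Opens) : Set X) := f.isCompact_preimage hV.isCompact
  obtain ⟨t, ht⟩ := hcomp.elim_finite_subcover (fun x => ((U' x : X.Opens) : Set X))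
    (fun x => (U' x).isOpen) (fun z hz => Set.mem_iUnion.mpr ⟨⟨z, hz⟩, hxU' ⟨z, hz⟩⟩)
  let cc : Γ(Y, V) := ∏ x ∈ t, c x
  have hcc0 : cc ≠ 0 := Finset.prod_ne_zero_iff.mpr fun x _ => hc0 x
  have hpre : f ⁻¹ᵁ (Y.basicOpen cc) ≤ U := by
    intro z hz
    have hzV : z ∈ f ⁻¹ᵁ V := f.preimage_mono (Y.basicOpen_le cc) hz
    obtain ⟨x, hxt, hzx⟩ : ∃ x ∈ t, z ∈ U' x := by
      have := ht hzV
      simpa using this
    apply hle x
    refine ⟨hzx, ?_⟩
    exact f.preimage_mono (basicOpen_le_of_dvd (Finset.dvd_prod_of_mem c hxt)) hz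
  have heq : X.basicOpen (f.appLE V U hUV cc) = f ⁻¹ᵁ Y.basicOpen cc := by
    rw [Scheme.basicOpen_appLE]
    exact inf_eq_right.mpr hpre
  refine ⟨Y.basicOpen cc, X.basicOpen (f.appLE V U hUV cc), hV.basicOpen cc, hU.basicOpen _, heq, ?_⟩
  rw [Set.nonempty_iff_ne_empty]
  intro h
  have h3 : X.basicOpen (f.appLE V U hUV cc) = ⊥ := by ext1; exact h
  have h4 := (basicOpen_eq_bot_iff _).mp h3
  exact hcc0 (injective_appLE f hUV hne (by rw [h4, map_zero]))

end Dim

end Groth.Agent.Lead.GenFin
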