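import Mathlib
import Groth.Agent.Lib.Lead.GenFin4

/-!
# Generic finite freeness of a dominant morphism of integral varieties of the same dimension (lead)
-/

set_option backward.isDefEq.respectTransparency.types false
set_option synthInstance.maxHeartbeats 400000
set_option autoImplicit false
set_option linter.unusedSectionVars false
set_option linter.style.haveILetI false
universe u v w

open CategoryTheory CategoryTheory.Limits AlgebraicGeometry TopologicalSpace
open Groth.Agent.Lib.Helper4.DimFT1 Groth.Agent.Lib.Helper4.DimFT3 Groth.Agent.Lib.Helper4.DimFT4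

namespace Groth.Agent.Lead.GenFin

theorem apply_genericPoint {X Y : Scheme.{u}} [IrreducibleSpace X]
    [IrreducibleSpace Y] (f : X ⟶ Y) [IsDominant f] :
    f (genericPoint X) = genericPoint Y := by
  have h1 : IsGenericPoint (f (genericPoint X)) (closure (f '' Set.univ)) :=
    (genericPoint_spec X).image f.continuous
  rw [Set.image_univ, f.denseRange.closure_range] at h1
  exact ((genericPoint_spec Y).eq h1).symm

theorem nonempty_basicOpen_of_ne_zero {Y : Scheme.{u}} [IsReduced Y] {V : Y.Opens} (a : Γ(Y, V))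
    (ha : a ≠ 0) : ((Y.basicOpen a : Y.Opens) : Set Y).Nonempty := by
  rw [Set.nonempty_iff_ne_empty]
  intro h
  have h3 : Y.basicOpen a = ⊥ := by ext1; exact h
  exact ha ((basicOpen_eq_bot_iff _).mp h3)

theorem evaluation_appLE {X Y : Scheme.{u}} (f : X ⟶ Y) {V : Y.Opens} {W : X.Opens}
    (hWV : W ≤ f ⁻¹ᵁ V) (x : X) (hx : x ∈ W) (a : Γ(Y, V)) :
    (f.residueFieldMap x).hom ((Y.evaluation V (f x) (hWV hx)).hom a) =
      (X.evaluation W x hx).hom ((f.appLE V W hWV).hom a) := by
  have h1 := Scheme.evaluation_naturality_apply f x (hWV hx) a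
  rw [h1]
  show _ = (X.evaluation W x hx).hom ((X.presheaf.map (homOfLE hWV).op).hom ((f.app V).hom a))
  unfold Scheme.evaluation
  rw [CommRingCat.comp_apply, CommRingCat.comp_apply]
  congr 1
  exact (TopCat.Presheaf.germ_res_apply X.presheaf (homOfLE hWV) x hx _).symm

section Dim

variable (k : Type u) [Field k] {X Y : Scheme.{u}}
  [X.Over (Spec (CommRingCat.of k))] [Y.Over (Spec (CommRingCat.of k))]
  [LocallyOfFiniteType (X ↘ Spec (CommRingCat.of k))]
  [LocallyOfFiniteType (Y ↘ Spec (CommRingCat.of k))]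
  [IsIntegral X] [IsIntegral Y] (f : X ⟶ Y) [QuasiCompact f] [IsDominant f]
  (hf : f ≫ (Y ↘ Spec (CommRingCat.of k)) = X ↘ Spec (CommRingCat.of k))
  (hdim : topologicalKrullDim ↥X = topologicalKrullDim ↥Y)

include hf hdim in
/-- there is a nonempty affine open of `Y` with affine preimage, finite over it -/
theorem exists_finite_preimage :
    ∃ (V : Y.Opens) (W : X.Opens) (_ : IsAffineOpen V) (_ : IsAffineOpen W) (hWV : W = f ⁻¹ᵁ V),
      (W : Set X).Nonempty ∧
      (letI := (f.appLE V W hWV.le).hom.toAlgebra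
       Module.Finite Γ(Y, V) Γ(X, W)) := by
  obtain ⟨V, W, hV, hW, hWV, hne⟩ := exists_affine_preimage k f hf hdim
  letI := (f.appLE V W hWV.le).hom.toAlgebra
  haveI : Nonempty W := hne.to_subtype
  obtain ⟨x, hx⟩ := hne
  haveI : Nonempty V := ⟨⟨f x, hWV.le hx⟩⟩
  haveI : Algebra.IsAlgebraic Γ(Y, V) Γ(X, W) :=
    isAlgebraic_appLE k f hf hdim hV hW hWV.le ⟨x, hx⟩
  haveI : LocallyOfFiniteType (f ≫ (Y ↘ Spec (CommRingCat.of k))) := by rw [hf]; infer_instance
  haveI : LocallyOfFiniteType f := locallyOfFiniteType_of_comp f (Y ↘ Spec (CommRingCat.of k))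
  haveI : Algebra.FiniteType Γ(Y, V) Γ(X, W) := f.finiteType_appLE hV hW hWV.le
  obtain ⟨a, ha0, ha⟩ := exists_finite_away Γ(Y, V) Γ(X, W)
  obtain ⟨hle, hV', hW', heq, hQ⟩ := step f hV hW hWV a
    (fun A' B' _ _ _ => Module.Finite A' B') (fun A' B' _ _ _ _ _ _ _ _ _ _ => ha A' B')
  refine ⟨_, _, hV', hW', heq, ?_, hQ⟩
  apply nonempty_basicOpen_of_ne_zero
  intro h
  exact ha0 (injective_appLE f hWV.le ⟨x, hx⟩ (by rw [h, map_zero]))

include hf hdim in
/-- generic finite freeness -/
theorem exists_finite_free_preimage :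
    (letI := (f.residueFieldMap (genericPoint X)).hom.toAlgebra
     Module.Finite (Y.residueField (f (genericPoint X))) (X.residueField (genericPoint X))) ∧
    ∃ (V : Y.Opens) (W : X.Opens) (_ : IsAffineOpen V) (_ : IsAffineOpen W) (hWV : W = f ⁻¹ᵁ V),
      (V : Set Y).Nonempty ∧
      (letI := (f.appLE V W hWV.le).hom.toAlgebra
       letI := (f.residueFieldMap (genericPoint X)).hom.toAlgebra
       Module.Finite Γ(Y, V) Γ(X, W) ∧ Module.Free Γ(Y, V) Γ(X, W) ∧
       Module.finrank Γ(Y, V) Γ(X, W) =
         Module.finrank (Y.residueField (f (genericPoint X))) (X.residueField (genericPoint X))) := by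
  obtain ⟨V, W, hV, hW, hWV, hne, hfin⟩ := exists_finite_preimage k f hf hdim
  letI algAB := (f.appLE V W hWV.le).hom.toAlgebra
  letI algKL := (f.residueFieldMap (genericPoint X)).hom.toAlgebra
  haveI := hfin
  haveI : Nonempty W := hne.to_subtype
  have hηW : genericPoint X ∈ W :=
    ((genericPoint_spec X).mem_open_set_iff W.isOpen).mpr (by simpa using hne)
  have hηV : f (genericPoint X) ∈ V := hWV.le hηW
  haveI : Nonempty V := ⟨⟨_, hηV⟩⟩
  letI algAK := (Y.evaluation V (f (genericPoint X)) hηV).hom.toAlgebra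
  letI algBL := (X.evaluation W (genericPoint X) hηW).hom.toAlgebra
  haveI : IsFractionRing Γ(Y, V) (Y.residueField (f (genericPoint X))) :=
    isFractionRing_residueField hV _ hηV (apply_genericPoint f)
  haveI : IsFractionRing Γ(X, W) (X.residueField (genericPoint X)) :=
    isFractionRing_residueField hW _ hηW rfl
  letI algAL : Algebra Γ(Y, V) (X.residueField (genericPoint X)) :=
    ((algebraMap Γ(X, W) (X.residueField (genericPoint X))).comp
      (algebraMap Γ(Y, V) Γ(X, W))).toAlgebra
  haveI : IsScalarTower Γ(Y, V) Γ(X, W) (X.residueField (genericPoint X)) :=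
    IsScalarTower.of_algebraMap_eq fun _ => rfl
  haveI : IsScalarTower Γ(Y, V) (Y.residueField (f (genericPoint X)))
      (X.residueField (genericPoint X)) := by
    refine IsScalarTower.of_algebraMap_eq fun a => ?_
    exact (evaluation_appLE f hWV.le (genericPoint X) hηW a).symm
  have h1 : Module.Finite (Y.residueField (f (genericPoint X)))
      (X.residueField (genericPoint X)) :=
    finite_fractionField Γ(Y, V) Γ(X, W) _ _
  refine ⟨h1, ?_⟩
  obtain ⟨r, hr0, hr⟩ := exists_basis_away Γ(Y, V) Γ(X, W)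
    (Y.residueField (f (genericPoint X))) (X.residueField (genericPoint X))
  obtain ⟨hle, hV', hW', heq, hQ⟩ := step f hV hW hWV r
    (fun A' B' _ _ _ => Module.Finite A' B' ∧ Module.Free A' B' ∧ Module.finrank A' B' =
      Module.finrank (Y.residueField (f (genericPoint X))) (X.residueField (genericPoint X)))
    (fun A' B' _ _ _ _ _ _ _ _ _ _ => hr A' B')
  exact ⟨_, _, hV', hW', heq, nonempty_basicOpen_of_ne_zero r hr0, hQ⟩

end Dim

end Groth.Agent.Lead.GenFin
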