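import Mathlib
import Groth.Agent.Lib.Lead.GenFin5

/-!
# Fibres of a finite free morphism over an affine open (lead)
-/

set_option backward.isDefEq.respectTransparency.types false
set_option synthInstance.maxHeartbeats 400000
set_option autoImplicit false
set_option linter.unusedSectionVars false
set_option linter.style.haveILetI false
universe u v w

open CategoryTheory CategoryTheory.Limits AlgebraicGeometry TopologicalSpace

namespace Groth.Agent.Lead.GenFin

/-- transport of finite freeness and rank along ring isomorphisms -/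
theorem free_finrank_of_ringEquiv {R₁ S₁ R₂ S₂ : Type*} [CommRing R₁] [CommRing S₁] [CommRing R₂]
    [CommRing S₂] [Algebra R₁ S₁] [Algebra R₂ S₂] (e₁ : R₁ ≃+* R₂) (e₂ : S₁ ≃+* S₂)
    (h : ∀ r, e₂ (algebraMap R₁ S₁ r) = algebraMap R₂ S₂ (e₁ r))
    [Module.Free R₁ S₁] [Module.Finite R₁ S₁] [Nontrivial R₁] :
    Module.Free R₂ S₂ ∧ Module.Finite R₂ S₂ ∧ Module.finrank R₂ S₂ = Module.finrank R₁ S₁ := by
  classical
  letI alg : Algebra R₁ S₂ := ((algebraMap R₂ S₂).comp e₁.toRingHom).toAlgebra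
  let e : S₁ ≃ₐ[R₁] S₂ := { e₂ with commutes' := fun r => h r }
  let I := Module.Free.ChooseBasisIndex R₁ S₁
  let b₁ : Module.Basis I R₁ S₁ := Module.Free.chooseBasis R₁ S₁
  haveI : Fintype I := Module.Free.ChooseBasisIndex.fintype R₁ S₁
  let b₂ : Module.Basis I R₁ S₂ := b₁.map e.toLinearEquiv
  let b₃ : Module.Basis I R₂ S₂ := b₂.mapCoeffs e₁ (fun c x => by
    rw [Algebra.smul_def, Algebra.smul_def]
    rfl)
  refine ⟨Module.Free.of_basis b₃, Module.Finite.of_basis b₃, ?_⟩
  haveI : Nontrivial R₂ := e₁.injective.nontrivial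
  rw [Module.finrank_eq_card_basis b₃, Module.finrank_eq_card_basis b₁]

open TensorProduct in
/-- finite freeness and rank are preserved by pushouts of commutative rings -/
theorem finrank_of_isPushout {R S R' S' : CommRingCat.{u}} (φ : R ⟶ S) (ψ : R ⟶ R') (φ' : S ⟶ S')
    (ψ' : R' ⟶ S') (h : IsPushout φ ψ φ' ψ') [Nontrivial R] [Nontrivial R']
    (hfree : letI := φ.hom.toAlgebra; Module.Free R S ∧ Module.Finite R S) :
    letI := φ.hom.toAlgebra
    letI := ψ'.hom.toAlgebra
    Module.Free R' S' ∧ Module.Finite R' S' ∧ Module.finrank R' S' = Module.finrank R S := by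
  letI a1 := φ.hom.toAlgebra
  letI a2 := ψ'.hom.toAlgebra
  letI a3 := ψ.hom.toAlgebra
  letI a4 := φ'.hom.toAlgebra
  letI a5 : Algebra R S' := (ψ'.hom.comp ψ.hom).toAlgebra
  haveI : IsScalarTower R R' S' := IsScalarTower.of_algebraMap_eq fun _ => rfl
  haveI : IsScalarTower R S S' := by
    refine IsScalarTower.of_algebraMap_eq fun x => ?_
    have := congrArg (fun t => t.hom x) h.w
    exact this.symm
  obtain ⟨h1, h2⟩ := hfree
  haveI := h1
  haveI := h2
  have hp : Algebra.IsPushout R R' S S' := by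
    rw [← CommRingCat.isPushout_iff_isPushout]
    exact h.flip
  let e : R' ⊗[R] S ≃ₐ[R'] S' := Algebra.IsPushout.equiv R R' S S'
  refine ⟨Module.Free.of_equiv e.toLinearEquiv, Module.Finite.equiv e.toLinearEquiv, ?_⟩
  rw [← e.toLinearEquiv.finrank_eq, Module.finrank_baseChange]

/-- fibres of a morphism which is finite free of rank `d` over an affine open with affine
preimage -/
theorem fibre_finite_free {X Y : Scheme.{u}} (f : X ⟶ Y) {V : Y.Opens} {W : X.Opens}
    (hV : IsAffineOpen V) (hW : IsAffineOpen W) (hWV : W = f ⁻¹ᵁ V) (d : ℕ)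
    [Nontrivial Γ(Y, V)]
    (hfin : letI := (f.appLE V W hWV.le).hom.toAlgebra
      Module.Finite Γ(Y, V) Γ(X, W) ∧ Module.Free Γ(Y, V) Γ(X, W) ∧
        Module.finrank Γ(Y, V) Γ(X, W) = d)
    (y : Y) (hy : y ∈ V) :
    IsFinite (pullback.snd f (Y.fromSpecResidueField y)) ∧
      (letI := ((Scheme.ΓSpecIso (CommRingCat.of (Y.residueField y))).inv ≫
          (pullback.snd f (Y.fromSpecResidueField y)).appTop).hom.toAlgebra
       Module.finrank (Y.residueField y) ↑(Γ(pullback f (Y.fromSpecResidueField y), ⊤))) = d := by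
  subst hWV
  letI algAB := (f.appLE V (f ⁻¹ᵁ V) le_rfl).hom.toAlgebra
  obtain ⟨h1, h2, h3⟩ := hfin
  haveI := h1
  haveI := h2
  -- affine schemes
  haveI : IsAffine V.toScheme := hV
  haveI : IsAffine (f ⁻¹ᵁ V).toScheme := hW
  -- the restricted morphism
  let g := Y.fromSpecResidueField y
  have hrange : Set.range g ⊆ Set.range V.ι := by
    rw [Scheme.range_fromSpecResidueField, Scheme.Opens.range_ι]
    simpa using hy
  let g' : Spec (Y.residueField y) ⟶ V.toScheme := IsOpenImmersion.lift V.ι g hrange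
  have hg' : g' ≫ V.ι = g := IsOpenImmersion.lift_fac _ _ _
  have t : IsPullback (f ⁻¹ᵁ V).ι (f ∣_ V) f V.ι := (isPullback_morphismRestrict f V).flip
  have s0 : IsPullback (pullback.fst f g) (pullback.snd f g) f (g' ≫ V.ι) := by
    rw [hg']; exact IsPullback.of_hasPullback f g
  have hsq := IsPullback.of_right' s0 t
  -- transport of the finite free structure to the restricted morphism
  have harrow : Arrow.mk ((f ∣_ V).appTop) ≅ Arrow.mk (f.appLE V (f ⁻¹ᵁ V) le_rfl) := by
    rw [← Scheme.Hom.resLE_eq_morphismRestrict]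
    exact arrowResLEAppIso f V (f ⁻¹ᵁ V) le_rfl
  letI algRS := (f ∣_ V).appTop.hom.toAlgebra
  let e₁ : Γ(Y, V) ≃+* Γ(V.toScheme, ⊤) :=
    (Arrow.leftFunc.mapIso harrow).symm.commRingCatIsoToRingEquiv
  let e₂ : Γ(X, f ⁻¹ᵁ V) ≃+* Γ((f ⁻¹ᵁ V).toScheme, ⊤) :=
    (Arrow.rightFunc.mapIso harrow).symm.commRingCatIsoToRingEquiv
  have key := free_finrank_of_ringEquiv (R₁ := Γ(Y, V)) (S₁ := Γ(X, f ⁻¹ᵁ V))
    (R₂ := Γ(V.toScheme, ⊤)) (S₂ := Γ((f ⁻¹ᵁ V).toScheme, ⊤)) e₁ e₂
    (fun r => by
      have := congrArg (fun φ => φ.hom r) harrow.inv.w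
      exact this.symm)
  obtain ⟨k1, k2, k3⟩ := key
  haveI : Nontrivial Γ(V.toScheme, ⊤) := e₁.injective.nontrivial
  let e₃ : Y.residueField y ≃+* Γ(Spec (Y.residueField y), ⊤) :=
    (Scheme.ΓSpecIso (Y.residueField y)).symm.commRingCatIsoToRingEquiv
  haveI : Nontrivial Γ(Spec (Y.residueField y), ⊤) := e₃.injective.nontrivial
  -- finiteness of the fibre
  have hfinite : IsFinite (f ∣_ V) := by
    rw [HasAffineProperty.iff_of_isAffine (P := @IsFinite)]
    refine ⟨inferInstance, ?_⟩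
    rw [RingHom.Finite]
    exact k2
  refine ⟨MorphismProperty.of_isPullback (P := @IsFinite) hsq hfinite, ?_⟩
  -- the pushout of global sections
  have hpo := isPushout_appTop_of_isPullback hsq
  obtain ⟨p1, p2, p3⟩ := finrank_of_isPushout _ _ _ _ hpo ⟨k1, k2⟩
  letI algR'S' := (pullback.snd f g).appTop.hom.toAlgebra
  letI algκS' := ((Scheme.ΓSpecIso (CommRingCat.of (Y.residueField y))).inv ≫
          (pullback.snd f (Y.fromSpecResidueField y)).appTop).hom.toAlgebra
  haveI := p1
  haveI := p2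
  have key2 := free_finrank_of_ringEquiv (R₁ := Γ(Spec (Y.residueField y), ⊤))
    (S₁ := Γ(pullback f g, ⊤)) (R₂ := Y.residueField y) (S₂ := Γ(pullback f g, ⊤))
    (Scheme.ΓSpecIso (Y.residueField y)).commRingCatIsoToRingEquiv (RingEquiv.refl _)
    (fun r => by
      show (pullback.snd f g).appTop.hom r = (pullback.snd f g).appTop.hom
        ((Scheme.ΓSpecIso (Y.residueField y)).inv.hom ((Scheme.ΓSpecIso (Y.residueField y)).hom.hom r))
      congr 1
      exact (congrArg (fun φ => φ.hom r) (Scheme.ΓSpecIso (Y.residueField y)).hom_inv_id).symm)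
  rw [key2.2.2, p3, k3, h3]

end Groth.Agent.Lead.GenFin
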