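import Mathlib
import Groth.Agent.Lib.Lead.FibRk1
import Groth.Agent.Lib.Lead.FibRk3
import Groth.Agent.Lib.Lead.FibRk4
import Groth.Agent.Lib.Lead.GenFin7

/-!
# The rank of a finite fibre is at most the generic degree, for regular varieties (lead)
-/

set_option backward.isDefEq.respectTransparency.types false
set_option synthInstance.maxHeartbeats 400000
set_option autoImplicit false
set_option linter.unusedSectionVars false
set_option linter.style.haveILetI false
universe u v w

open CategoryTheory CategoryTheory.Limits AlgebraicGeometry TopologicalSpace TensorProduct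
open Groth.Agent.Lib.Helper4.DimFT1 Groth.Agent.Lib.Helper4.DimFT3 Groth.Agent.Lib.Helper4.DimFT4
open Groth.Agent.Lib.Helper4.RadBir3

namespace Groth.Agent.Lead.FibRk

/-- abstract form of the bound, for a pushout of rings -/
theorem finrank_le_of_isPushout {R M κ D : Type u} [CommRing R] [IsDomain R] [CommRing M] [Field κ]
    [CommRing D] [Algebra R M] [Algebra R κ] [Algebra M D] [Algebra κ D] [Algebra R D]
    [IsScalarTower R M D] [IsScalarTower R κ D]
    (hpo : Algebra.IsPushout R κ M D) (p : Ideal R) [p.IsPrime] (e : κ ≃ₐ[R] p.ResidueField)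
    [Module.Finite κ D]
    (hflat : ∀ (P : Ideal M) [P.IsPrime], P.LiesOver p → Module.Flat R (Localization.AtPrime P))
    (K L : Type u) [Field K] [Field L] [Algebra R K] [IsFractionRing R K] [Algebra K L]
    [Algebra R L] [IsScalarTower R K L] [Algebra M L] [IsScalarTower R M L]
    (hinj : Function.Injective (algebraMap M L)) [Module.Finite K L] :
    Module.finrank κ D ≤ Module.finrank K L := by
  let e1 : κ ⊗[R] M ≃ₐ[κ] D := Algebra.IsPushout.equiv R κ M D
  have h1 : Module.finrank κ D = Module.finrank κ (κ ⊗[R] M) := (e1.toLinearEquiv.finrank_eq).symm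
  haveI : Module.Finite κ (κ ⊗[R] M) := Module.Finite.equiv e1.symm.toLinearEquiv
  let e2 : κ ⊗[R] M ≃ₐ[R] p.ResidueField ⊗[R] M := Algebra.TensorProduct.congr e AlgEquiv.refl
  obtain ⟨-, h3, h4⟩ := GenFin.free_finrank_of_ringEquiv (R₁ := κ) (S₁ := κ ⊗[R] M)
    (R₂ := p.ResidueField) (S₂ := p.Fiber M) e.toRingEquiv e2.toRingEquiv (fun c => by
      simp [e2, Algebra.TensorProduct.algebraMap_apply])
  haveI := h3
  rw [h1, ← h4]
  exact finrank_fiber_le p hflat K L hinj

/-- finite fibre: finitely many points, all quasi-finite -/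
theorem finite_fibre_of_isFinite {X Y : Scheme.{u}} (f : X ⟶ Y) [LocallyOfFiniteType f] (y : Y)
    (hy : IsFinite (pullback.snd f (Y.fromSpecResidueField y))) :
    (f ⁻¹' {y}).Finite ∧ ∀ x, f x = y → f.QuasiFiniteAt x := by
  have hfin : Finite (f.fiber y) := by
    haveI hsub : Subsingleton (Spec (Y.residueField y)) :=
      inferInstanceAs (Subsingleton (PrimeSpectrum (Y.residueField y)))
    let pt : Spec (Y.residueField y) := (⟨⊥, Ideal.isPrime_bot⟩ : PrimeSpectrum (Y.residueField y))
    have h1 := (pullback.snd f (Y.fromSpecResidueField y)).finite_preimage_singleton pt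
    have h2 : (pullback.snd f (Y.fromSpecResidueField y)) ⁻¹' {pt} = Set.univ := by
      ext z
      simp only [Set.mem_preimage, Set.mem_singleton_iff, Set.mem_univ, iff_true]
      exact Subsingleton.elim _ _
    rw [h2] at h1
    exact Set.finite_univ_iff.mp h1
  refine ⟨?_, ?_⟩
  · rw [← f.range_fiberι y]
    exact Set.finite_range _
  · rintro x rfl
    exact Scheme.Hom.quasiFiniteAt_iff_isOpen_singleton_asFiber.mpr (isOpen_discrete _)

theorem main (k : Type u) [Field k] {X Y : Scheme.{u}}
    [X.Over (Spec (CommRingCat.of k))] [Y.Over (Spec (CommRingCat.of k))]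
    [LocallyOfFiniteType (X ↘ Spec (CommRingCat.of k))] [QuasiCompact (X ↘ Spec (CommRingCat.of k))]
    [LocallyOfFiniteType (Y ↘ Spec (CommRingCat.of k))] [QuasiCompact (Y ↘ Spec (CommRingCat.of k))]
    [IsIntegral X] [IsIntegral Y] (f : X ⟶ Y) [IsDominant f]
    (hf : f ≫ (Y ↘ Spec (CommRingCat.of k)) = X ↘ Spec (CommRingCat.of k))
    (hdim : topologicalKrullDim ↥X = topologicalKrullDim ↥Y)
    [IsSeparated f] (hX : ∀ x : X, IsRegularLocalRing (X.presheaf.stalk x))
    (hY : ∀ y : Y, IsRegularLocalRing (Y.presheaf.stalk y)) (y : Y)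
    (hy : IsFinite (pullback.snd f (Y.fromSpecResidueField y))) :
    (letI := ((Scheme.ΓSpecIso (CommRingCat.of (Y.residueField y))).inv ≫
            (pullback.snd f (Y.fromSpecResidueField y)).appTop).hom.toAlgebra;
          Module.finrank (Y.residueField y) ↑(Γ(pullback f (Y.fromSpecResidueField y), ⊤))) ≤
      (letI := (f.residueFieldMap (genericPoint ↥X)).hom.toAlgebra;
          Module.finrank (Y.residueField (f.base (genericPoint ↥X)))
            (X.residueField (genericPoint ↥X))) := by
  haveI : IsLocallyNoetherian Y :=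
    LocallyOfFiniteType.isLocallyNoetherian (Y ↘ Spec (CommRingCat.of k))
  haveI : CompactSpace X := QuasiCompact.compactSpace_of_compactSpace (X ↘ Spec (CommRingCat.of k))
  haveI : QuasiCompact f := inferInstance
  haveI : LocallyOfFiniteType f := by
    haveI : LocallyOfFiniteType (f ≫ (Y ↘ Spec (CommRingCat.of k))) := by rw [hf]; infer_instance
    exact locallyOfFiniteType_of_comp f (Y ↘ Spec (CommRingCat.of k))
  obtain ⟨hfinfib, hqf⟩ := finite_fibre_of_isFinite f y hy
  -- the case of an empty fibre
  by_cases hne : (f ⁻¹' {y}).Nonempty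
  swap
  · haveI : IsEmpty ↥(pullback f (Y.fromSpecResidueField y)) := by
      refine ⟨fun z => hne ⟨(pullback.fst f (Y.fromSpecResidueField y)) z, ?_⟩⟩
      show f ((pullback.fst f (Y.fromSpecResidueField y)) z) = y
      rw [← Scheme.Hom.comp_apply, pullback.condition, Scheme.Hom.comp_apply]
      exact Y.fromSpecResidueField_apply y _
    letI := ((Scheme.ΓSpecIso (CommRingCat.of (Y.residueField y))).inv ≫
            (pullback.snd f (Y.fromSpecResidueField y)).appTop).hom.toAlgebra
    rw [Module.finrank_zero_of_subsingleton]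
    exact Nat.zero_le _
  obtain ⟨x₀, hx₀⟩ := hne
  obtain ⟨V, hV, hyV, -⟩ := exists_isAffineOpen_mem_and_subset (U := (⊤ : Y.Opens)) (x := y)
    (by simp)
  obtain ⟨U, hU, hUV, hfib⟩ := exists_affine_fibre_nbhd f y hfinfib hqf hV hyV
  obtain ⟨α, hpo⟩ := isPushout_fibre f hV hU hUV y hyV hfib
  have hx₀U : x₀ ∈ U := hfib x₀ hx₀
  have hηU : genericPoint X ∈ U := mem_of_nonempty_open X U U.2 ⟨x₀, hx₀U⟩
  have hηV : f (genericPoint X) ∈ V := hUV hηU
  haveI : Nonempty U := ⟨⟨x₀, hx₀U⟩⟩
  haveI : Nonempty V := ⟨⟨y, hyV⟩⟩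
  -- algebra structures
  letI algRM := (f.appLE V U hUV).hom.toAlgebra
  letI algRκ := (Y.evaluation V y hyV).hom.toAlgebra
  letI algMD := α.hom.toAlgebra
  letI algκD := ((Scheme.ΓSpecIso (CommRingCat.of (Y.residueField y))).inv ≫
            (pullback.snd f (Y.fromSpecResidueField y)).appTop).hom.toAlgebra
  letI algRD : Algebra Γ(Y, V) Γ(pullback f (Y.fromSpecResidueField y), ⊤) :=
    ((algebraMap (Y.residueField y) Γ(pullback f (Y.fromSpecResidueField y), ⊤)).comp
      (algebraMap Γ(Y, V) (Y.residueField y))).toAlgebra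
  haveI : IsScalarTower Γ(Y, V) (Y.residueField y) Γ(pullback f (Y.fromSpecResidueField y), ⊤) :=
    IsScalarTower.of_algebraMap_eq fun _ => rfl
  haveI : IsScalarTower Γ(Y, V) Γ(X, U) Γ(pullback f (Y.fromSpecResidueField y), ⊤) := by
    refine IsScalarTower.of_algebraMap_eq fun r => ?_
    have := congrArg (fun t => t.hom r) hpo.w
    exact this.symm
  have hpo' : Algebra.IsPushout Γ(Y, V) (Y.residueField y) Γ(X, U)
      Γ(pullback f (Y.fromSpecResidueField y), ⊤) := by
    rw [← CommRingCat.isPushout_iff_isPushout]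
    exact hpo.flip
  obtain ⟨e⟩ := nonempty_residueField_algEquiv hV y hyV
  -- finiteness of the fibre ring
  haveI : Module.Finite (Y.residueField y) Γ(pullback f (Y.fromSpecResidueField y), ⊤) := by
    have h1 := (HasAffineProperty.iff_of_isAffine (P := @IsFinite)
      (f := pullback.snd f (Y.fromSpecResidueField y))).mp hy
    have h2 : ((Scheme.ΓSpecIso (CommRingCat.of (Y.residueField y))).inv ≫
            (pullback.snd f (Y.fromSpecResidueField y)).appTop).hom.Finite := by
      rw [CommRingCat.hom_comp]
      refine RingHom.Finite.comp h1.2 ?_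
      apply RingHom.Finite.of_surjective
      exact (ConcreteCategory.bijective_of_isIso
        (Scheme.ΓSpecIso (CommRingCat.of (Y.residueField y))).inv).2
    exact h2
  -- function fields
  letI algRK := (Y.evaluation V (f (genericPoint X)) hηV).hom.toAlgebra
  haveI : IsFractionRing Γ(Y, V) (Y.residueField (f (genericPoint X))) :=
    GenFin.isFractionRing_residueField hV (f (genericPoint X)) hηV (GenFin.apply_genericPoint f)
  letI algKL := (f.residueFieldMap (genericPoint X)).hom.toAlgebra
  letI algML := (X.evaluation U (genericPoint X) hηU).hom.toAlgebra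
  letI algRL : Algebra Γ(Y, V) (X.residueField (genericPoint X)) :=
    ((algebraMap Γ(X, U) (X.residueField (genericPoint X))).comp
      (algebraMap Γ(Y, V) Γ(X, U))).toAlgebra
  haveI : IsScalarTower Γ(Y, V) Γ(X, U) (X.residueField (genericPoint X)) :=
    IsScalarTower.of_algebraMap_eq fun _ => rfl
  haveI : IsScalarTower Γ(Y, V) (Y.residueField (f (genericPoint X)))
      (X.residueField (genericPoint X)) := by
    refine IsScalarTower.of_algebraMap_eq fun r => ?_
    exact (GenFin.evaluation_appLE f hUV (genericPoint X) hηU r).symm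
  have hinj : Function.Injective (algebraMap Γ(X, U) (X.residueField (genericPoint X))) := by
    have h1 : Function.Injective (X.presheaf.germ U (genericPoint X) hηU).hom :=
      germ_injective_of_isIntegral X (genericPoint X) hηU
    have h2 : Function.Injective (X.residue (genericPoint X)).hom :=
      (GenFin.residue_bijective_of_isField (Field.toIsField X.functionField)).1
    exact h2.comp h1
  haveI : Module.Finite (Y.residueField (f (genericPoint X))) (X.residueField (genericPoint X)) :=
    (GenFin.main k f hf hdim).1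
  -- flatness at the points of the fibre
  have hflat : ∀ (P : Ideal Γ(X, U)) [P.IsPrime],
      P.LiesOver (hV.primeIdealOf ⟨y, hyV⟩).asIdeal →
        Module.Flat Γ(Y, V) (Localization.AtPrime P) := by
    intro P hP hlo
    have hxU := fromSpec_mem hU ⟨P, hP⟩
    have hprime := primeIdealOf_fromSpec hU ⟨P, hP⟩
    have hfx : f (hU.fromSpec ⟨P, hP⟩) = y := by
      have h1 := primeIdealOf_apply f hV hU hUV _ hxU
      rw [hprime] at h1
      have h2 : (hV.primeIdealOf ⟨f (hU.fromSpec ⟨P, hP⟩), hUV hxU⟩).asIdeal =
          (hV.primeIdealOf ⟨y, hyV⟩).asIdeal := by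
        rw [h1]
        exact hlo.over.symm
      have h3 := Groth.Agent.Lib.Helper4.NormFibre2.primeIdealOf_injective' hV
        (PrimeSpectrum.ext h2)
      exact congrArg Subtype.val h3
    have hfl := flat_localization_of_point k f hf hdim hV hU hUV _ hxU (hqf _ hfx) (hX _) (hY _)
    have key : ∀ (P' : PrimeSpectrum Γ(X, U)), P' = ⟨P, hP⟩ →
        Module.Flat Γ(Y, V) (Localization.AtPrime P'.asIdeal) →
        Module.Flat Γ(Y, V) (Localization.AtPrime P) := by
      rintro P' rfl h
      exact h
    exact key _ hprime hfl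
  exact finrank_le_of_isPushout hpo' (hV.primeIdealOf ⟨y, hyV⟩).asIdeal e hflat
    (Y.residueField (f (genericPoint X))) (X.residueField (genericPoint X)) hinj

end Groth.Agent.Lead.FibRk
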