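import Mathlib
import Groth.Agent.Lib.Lead.Blow4

/-!
# A finite birational morphism is a blow-up: affine part (lead)

`φ : A → B` injective, `τ ∈ A` with `φ τ` a nonzerodivisor, `J` an ideal of `A` with
`φ(J) = φ(τ) B`.  Then `Spec B → Spec A` is the blow-up of `J`.
-/

set_option autoImplicit false
set_option backward.isDefEq.respectTransparency.types false
set_option synthInstance.maxHeartbeats 400000
set_option linter.style.haveILetI false
set_option linter.unusedSectionVars false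
universe u
open CategoryTheory CategoryTheory.Limits AlgebraicGeometry TopologicalSpace Opposite

namespace Groth.Agent.Lead.FinBir

open Groth.Agent.Lead.Blow Scheme.IdealSheafData

section Alg

variable {A B : Type u} [CommRing A] [CommRing B] (φ : A →+* B) (J : Ideal A) (τ : A)
  (h1 : φ τ ∈ nonZeroDivisors B)
  (h2 : ∀ b : B, ∃ a ∈ J, φ a = φ τ * b)
  (h3 : ∀ a ∈ J, ∃ b : B, φ a = φ τ * b)
  (h4 : Function.Injective φ)

include h2 h4 in
theorem tau_mem : τ ∈ J := by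
  obtain ⟨a, ha, hφ⟩ := h2 1
  rw [mul_one] at hφ
  rw [← h4 hφ]
  exact ha

include h1 h2 h3 h4 in
theorem mul_mem (a a' : A) (ha : a ∈ J) (ha' : a' ∈ J) : ∃ a'' ∈ J, a * a' = τ * a'' := by
  obtain ⟨b, hb⟩ := h3 a ha
  obtain ⟨b', hb'⟩ := h3 a' ha'
  obtain ⟨a'', ha'', hφ⟩ := h2 (b * b')
  refine ⟨a'', ha'', h4 ?_⟩
  rw [map_mul, map_mul, hb, hb', hφ]
  ring

include h2 h3 in
theorem map_eq : J.map φ = Ideal.span {φ τ} := by
  apply le_antisymm
  · refine Ideal.map_le_iff_le_comap.2 (fun a ha => ?_)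
    obtain ⟨b, hb⟩ := h3 a ha
    rw [Ideal.mem_comap, hb]
    exact Ideal.mul_mem_right _ _ (Ideal.mem_span_singleton_self _)
  · rw [Ideal.span_singleton_le_iff_mem]
    obtain ⟨a, ha, hφ⟩ := h2 1
    rw [mul_one] at hφ
    rw [← hφ]
    exact Ideal.mem_map_of_mem _ ha

variable {C : Type u} [CommRing C] (γ : A →+* C) (t : C) (ht : t ∈ nonZeroDivisors C)
  (hmap : J.map γ = Ideal.span {t})

include h1 h2 h3 h4 ht hmap in
theorem gamma_tau : γ τ ∈ nonZeroDivisors C ∧ Ideal.span {γ τ} = Ideal.span {t} := by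
  have hJJ : J * J ≤ Ideal.span {τ} * J := by
    rw [Ideal.mul_le]
    intro a ha a' ha'
    obtain ⟨a'', ha'', e⟩ := mul_mem φ J τ h1 h2 h3 h4 a a' ha ha'
    rw [e]
    exact Ideal.mul_mem_mul (Ideal.mem_span_singleton_self τ) ha''
  have h5 := Ideal.map_mono (f := γ) hJJ
  rw [Ideal.map_mul, Ideal.map_mul, hmap, Ideal.map_span, Set.image_singleton,
    Ideal.span_singleton_mul_span_singleton, Ideal.span_singleton_mul_span_singleton,
    Ideal.span_singleton_le_span_singleton] at h5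
  obtain ⟨e, he⟩ := h5
  -- t * t = γ τ * t * e
  have hte : t = γ τ * e := by
    have h6 : t * t = t * (γ τ * e) := by rw [he]; ring
    exact (mul_cancel_left_mem_nonZeroDivisors ht).1 h6
  have hτt : γ τ ∈ Ideal.span {t} := by
    rw [← hmap]
    exact Ideal.mem_map_of_mem _ (tau_mem φ J τ h2 h4)
  obtain ⟨d, hd⟩ := Ideal.mem_span_singleton'.1 hτt
  -- d * t = γ τ
  have hde : d * e = 1 := by
    have h7 : t * (d * e) = t * 1 := by
      rw [mul_one]
      calc t * (d * e) = (d * t) * e := by ring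
        _ = γ τ * e := by rw [hd]
        _ = t := hte.symm
    exact (mul_cancel_left_mem_nonZeroDivisors ht).1 h7
  constructor
  · rw [← hd]
    have hdu : IsUnit d := IsUnit.of_mul_eq_one _ hde
    exact Submonoid.mul_mem _ hdu.mem_nonZeroDivisors ht
  · apply le_antisymm
    · rw [Ideal.span_singleton_le_span_singleton]
      exact ⟨d, by rw [← hd]; ring⟩
    · rw [Ideal.span_singleton_le_span_singleton]
      exact ⟨e, hte⟩

include h1 h2 h3 h4 ht hmap in
theorem lift_unique_spec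
    (k₁ k₂ : Spec (CommRingCat.of C) ⟶ Spec (CommRingCat.of B))
    (hk₁ : k₁ ≫ Spec.map (CommRingCat.ofHom φ) = Spec.map (CommRingCat.ofHom γ))
    (hk₂ : k₂ ≫ Spec.map (CommRingCat.ofHom φ) = Spec.map (CommRingCat.ofHom γ)) : k₁ = k₂ := by
  obtain ⟨hnz, -⟩ := gamma_tau φ J τ h1 h2 h3 h4 γ t ht hmap
  have key : ∀ (k : Spec (CommRingCat.of C) ⟶ Spec (CommRingCat.of B)),
      k ≫ Spec.map (CommRingCat.ofHom φ) = Spec.map (CommRingCat.ofHom γ) →
      ∃ ψ : B →+* C, Spec.map (CommRingCat.ofHom ψ) = k ∧ ψ.comp φ = γ := by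
    intro k hk
    refine ⟨(Spec.preimage k).hom, Spec.map_preimage k, ?_⟩
    have e : Spec.map (CommRingCat.ofHom ((Spec.preimage k).hom.comp φ)) =
        Spec.map (CommRingCat.ofHom γ) := by
      rw [CommRingCat.ofHom_comp, Spec.map_comp, ← hk]
      congr 1
      exact Spec.map_preimage k
    exact congrArg CommRingCat.Hom.hom (Spec.map_injective e)
  obtain ⟨ψ₁, e₁, c₁⟩ := key k₁ hk₁
  obtain ⟨ψ₂, e₂, c₂⟩ := key k₂ hk₂
  have hψ : ψ₁ = ψ₂ := by
    ext b
    obtain ⟨a, -, ha⟩ := h2 b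
    have f1 : γ τ * ψ₁ b = γ a := by
      rw [← c₁]
      show ψ₁ (φ τ) * ψ₁ b = ψ₁ (φ a)
      rw [ha, map_mul]
    have f2 : γ τ * ψ₂ b = γ a := by
      rw [← c₂]
      show ψ₂ (φ τ) * ψ₂ b = ψ₂ (φ a)
      rw [ha, map_mul]
    exact (mul_cancel_left_mem_nonZeroDivisors hnz).1 (f1.trans f2.symm)
  rw [← e₁, ← e₂, hψ]

include h1 h2 h3 h4 ht hmap in
theorem exists_lift_spec :
    ∃ k : Spec (CommRingCat.of C) ⟶ Spec (CommRingCat.of B),
      k ≫ Spec.map (CommRingCat.ofHom φ) = Spec.map (CommRingCat.ofHom γ) := by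
  obtain ⟨hnz, hspan⟩ := gamma_tau φ J τ h1 h2 h3 h4 γ t ht hmap
  have hτJ := tau_mem φ J τ h2 h4
  -- every `γ a`, `a ∈ J`, is uniquely divisible by `γ τ`
  have hdiv : ∀ a ∈ J, ∃ c : C, γ τ * c = γ a := by
    intro a ha
    have : γ a ∈ Ideal.span {γ τ} := by
      rw [hspan, ← hmap]
      exact Ideal.mem_map_of_mem _ ha
    obtain ⟨c, hc⟩ := Ideal.mem_span_singleton'.1 this
    exact ⟨c, by rw [← hc]; ring⟩
  have hex : ∀ b : B, ∃ c : C, ∃ a ∈ J, φ a = φ τ * b ∧ γ τ * c = γ a := by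
    intro b
    obtain ⟨a, ha, hφ⟩ := h2 b
    obtain ⟨c, hc⟩ := hdiv a ha
    exact ⟨c, a, ha, hφ, hc⟩
  choose ψ₀ hψ₀ using hex
  have K : ∀ (b : B) (a : A) (c : C), φ a = φ τ * b → γ τ * c = γ a → ψ₀ b = c := by
    intro b a c hφ hc
    obtain ⟨a', -, hφ', hc'⟩ := hψ₀ b
    have : a' = a := h4 (hφ'.trans hφ.symm)
    rw [this] at hc'
    exact (mul_cancel_left_mem_nonZeroDivisors hnz).1 (hc'.trans hc.symm)
  let ψ : B →+* C :=
    { toFun := ψ₀
      map_one' := K 1 τ 1 (by rw [mul_one]) (by rw [mul_one])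
      map_mul' := by
        intro b b'
        obtain ⟨a, ha, hφ, hc⟩ := hψ₀ b
        obtain ⟨a', ha', hφ', hc'⟩ := hψ₀ b'
        obtain ⟨a'', ha'', e⟩ := mul_mem φ J τ h1 h2 h3 h4 a a' ha ha'
        apply K (b * b') a'' (ψ₀ b * ψ₀ b')
        · apply (mul_cancel_left_mem_nonZeroDivisors h1).1
          rw [← map_mul, ← e, map_mul, hφ, hφ']
          ring
        · apply (mul_cancel_left_mem_nonZeroDivisors hnz).1
          rw [← map_mul, ← e, map_mul, ← hc, ← hc']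
          ring
      map_zero' := K 0 0 0 (by rw [map_zero, mul_zero]) (by rw [map_zero, mul_zero])
      map_add' := by
        intro b b'
        obtain ⟨a, ha, hφ, hc⟩ := hψ₀ b
        obtain ⟨a', ha', hφ', hc'⟩ := hψ₀ b'
        apply K (b + b') (a + a') (ψ₀ b + ψ₀ b')
        · rw [map_add, hφ, hφ']
          ring
        · rw [map_add, ← hc, ← hc']
          ring }
  have hψφ : ψ.comp φ = γ := by
    ext x
    show ψ₀ (φ x) = γ x
    apply K (φ x) (τ * x) (γ x)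
    · rw [map_mul]
    · rw [map_mul]
  refine ⟨Spec.map (CommRingCat.ofHom ψ), ?_⟩
  rw [← Spec.map_comp, ← CommRingCat.ofHom_comp, hψφ]

end Alg

section General

variable {A B : Type u} [CommRing A] [CommRing B] (φ : A →+* B) (J : Ideal A) (τ : A)
  (h1 : φ τ ∈ nonZeroDivisors B)
  (h2 : ∀ b : B, ∃ a ∈ J, φ a = φ τ * b)
  (h3 : ∀ a ∈ J, ∃ b : B, φ a = φ τ * b)
  (h4 : Function.Injective φ)
  {Y : Scheme.{u}} (g : Y ⟶ Spec (CommRingCat.of A))

include h1 h2 h3 h4 in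
theorem lift_unique (hg : BlowUp.IsEffCartierIdeal ((specIdeal J).comap g))
    (k₁ k₂ : Y ⟶ Spec (CommRingCat.of B))
    (hk₁ : k₁ ≫ Spec.map (CommRingCat.ofHom φ) = g)
    (hk₂ : k₂ ≫ Spec.map (CommRingCat.ofHom φ) = g) : k₁ = k₂ := by
  apply Scheme.hom_ext_of_forall
  intro y
  obtain ⟨V, hyV, t, ht, hmap⟩ := exists_local_gen J g hg y
  refine ⟨V.1, hyV, ?_⟩
  rw [← cancel_epi V.2.isoSpec.inv, ← Category.assoc, ← Category.assoc,
    IsAffineOpen.isoSpec_inv_ι]
  apply lift_unique_spec φ J τ h1 h2 h3 h4 (secMap g V.1) t ht hmap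
  · rw [Category.assoc, hk₁, fromSpec_comp]
  · rw [Category.assoc, hk₂, fromSpec_comp]

include h1 h2 h3 h4 in
theorem exists_lift (hg : BlowUp.IsEffCartierIdeal ((specIdeal J).comap g)) :
    ∃ k : Y ⟶ Spec (CommRingCat.of B), k ≫ Spec.map (CommRingCat.ofHom φ) = g := by
  choose V hyV t ht hmap using exists_local_gen J g hg
  have hloc : ∀ y, ∃ k : ((V y).1 : Scheme.{u}) ⟶ Spec (CommRingCat.of B),
      k ≫ Spec.map (CommRingCat.ofHom φ) = (V y).1.ι ≫ g := by
    intro y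
    obtain ⟨k, hk⟩ := exists_lift_spec φ J τ h1 h2 h3 h4 (secMap g (V y).1) (t y) (ht y) (hmap y)
    refine ⟨(V y).2.isoSpec.hom ≫ k, ?_⟩
    rw [Category.assoc, hk, ← fromSpec_comp, ← IsAffineOpen.isoSpec_inv_ι, Category.assoc,
      Iso.hom_inv_id_assoc]
  choose k hk using hloc
  let 𝒰 : Y.OpenCover := {
    I₀ := Y, X y := ((V y).1 : Scheme.{u}), f y := (V y).1.ι,
    mem₀ := by
      rw [Scheme.presieve₀_mem_precoverage_iff]
      refine ⟨fun x ↦ ⟨x, by simpa using hyV x⟩, inferInstance⟩ }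
  refine ⟨𝒰.glueMorphisms k ?_, ?_⟩
  · intro x y
    apply lift_unique φ J τ h1 h2 h3 h4 (pullback.fst (𝒰.f x) (𝒰.f y) ≫ (V x).1.ι ≫ g)
    · rw [← Category.assoc, comap_comp]
      exact isEffCartier_comap_of_flat _ _ hg
    · rw [Category.assoc, hk]
    · rw [Category.assoc, hk]
      exact (pullback.condition_assoc (f := 𝒰.f x) (g := 𝒰.f y) g).symm
  · apply 𝒰.hom_ext
    intro y
    rw [← Category.assoc, 𝒰.ι_glueMorphisms, hk]

include h1 h2 h3 h4 in
/-- the affine form: `Spec B → Spec A` is the blow-up of `J` -/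
theorem isBlowUp_SpecMap :
    BlowUp.IsBlowUp (Spec.map (CommRingCat.ofHom φ)) (specIdeal J) := by
  refine ⟨?_, fun Y g hg => ?_⟩
  · rw [comap_SpecMap]
    exact isEffCartier_specIdeal (J.map φ) (φ τ) h1 (map_eq φ J τ h2 h3)
  · obtain ⟨k, hk⟩ := exists_lift φ J τ h1 h2 h3 h4 g hg
    exact ⟨k, hk, fun k' hk' => lift_unique φ J τ h1 h2 h3 h4 g hg k' k hk' hk⟩

end General

end Groth.Agent.Lead.FinBir
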