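import Mathlib
import Groth.Agent.Lib.Lead.FinBir1

/-!
# A finite birational morphism is a blow-up: global part (lead)
-/

set_option autoImplicit false
set_option backward.isDefEq.respectTransparency.types false
set_option synthInstance.maxHeartbeats 400000
set_option linter.style.haveILetI false
set_option linter.unusedSectionVars false
universe u
open CategoryTheory CategoryTheory.Limits AlgebraicGeometry TopologicalSpace Opposite

namespace Groth.Agent.Lead.FinBir

open Groth.Agent.Lead.Blow Scheme.IdealSheafData Groth.Agent.Helper4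

section Ring

/-- uniform exponent from finiteness -/
theorem exists_uniform_pow {A B : Type u} [CommRing A] [CommRing B] (φ : A →+* B)
    (hfin : φ.Finite) (t : A)
    (h : ∀ b : B, ∃ k : ℕ, ∃ a : A, φ a = φ t ^ k * b) :
    ∃ n : ℕ, ∀ m : ℕ, n ≤ m → ∀ b : B, ∃ a : A, φ a = φ t ^ m * b := by
  letI := φ.toAlgebra
  haveI : Module.Finite A B := hfin
  obtain ⟨S, hS⟩ := Module.Finite.fg_top (R := A) (M := B)
  choose k a hka using h
  refine ⟨S.sup k, fun m hm => ?_⟩
  let N : Submodule A B :=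
    { carrier := {b | ∃ a : A, φ a = φ t ^ m * b}
      add_mem' := by
        rintro b b' ⟨a, ha⟩ ⟨a', ha'⟩
        exact ⟨a + a', by rw [map_add, ha, ha', mul_add]⟩
      zero_mem' := ⟨0, by rw [map_zero, mul_zero]⟩
      smul_mem' := by
        rintro c b ⟨a, ha⟩
        refine ⟨c * a, ?_⟩
        rw [map_mul, ha, Algebra.smul_def]
        show φ c * (φ t ^ m * b) = φ t ^ m * (φ c * b)
        ring }
  have hSN : (S : Set B) ⊆ N := by
    intro b hb
    have hk : k b ≤ m := le_trans (Finset.le_sup hb) hm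
    refine ⟨t ^ (m - k b) * a b, ?_⟩
    rw [map_mul, map_pow, hka b, ← mul_assoc, ← pow_add, Nat.sub_add_cancel hk]
  have hN : N = ⊤ := by
    rw [eq_top_iff, ← hS]
    exact Submodule.span_le.2 hSN
  intro b
  have : b ∈ N := by rw [hN]; trivial
  exact this

end Ring

section Sections

variable {X Y : Scheme.{u}} (f : X ⟶ Y)

theorem app_res {W V : Y.Opens} (h : W ≤ V) (a : Γ(Y, V)) :
    (f.app W).hom (Y.presheaf.map (homOfLE h).op a) =
      X.presheaf.map (homOfLE (f.preimage_mono h)).op ((f.app V).hom a) := by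
  have hnat := Scheme.Hom.naturality f (homOfLE h).op
  show (Y.presheaf.map (homOfLE h).op ≫ f.app W).hom a =
    ((f.app V) ≫ X.presheaf.map (homOfLE (f.preimage_mono h)).op).hom a
  rw [hnat]
  rfl

/-- if `f` is an isomorphism over `U`, it induces isomorphisms on sections over opens in `U` -/
theorem isIso_app_of_le (U : Y.Opens) (hiso : IsIso (f ∣_ U)) (W : Y.Opens) (hW : W ≤ U) :
    IsIso (f.app W) := by
  have key : ∀ W' : Y.Opens, W' = W → IsIso (f.app W') → IsIso (f.app W) := by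
    rintro _ rfl h
    exact h
  apply key (U.ι ''ᵁ (U.ι ⁻¹ᵁ W))
  · rw [Scheme.Hom.image_preimage_eq_opensRange_inf, Scheme.Opens.opensRange_ι]
    exact inf_eq_right.2 hW
  · have h1 := morphismRestrict_app f U (U.ι ⁻¹ᵁ W)
    have h2 : IsIso ((f ∣_ U).app (U.ι ⁻¹ᵁ W)) := inferInstance
    rw [h1] at h2
    have aux : ∀ {P Q R : CommRingCat.{u}} (a : P ⟶ Q) (b : Q ⟶ R), IsIso b → IsIso (a ≫ b) →
        IsIso a := by
      intro P Q R a b hb hab
      exact IsIso.of_isIso_comp_right a b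
    refine aux _ _ ?_ h2
    apply Functor.map_isIso

end Sections

section Local

variable {X Y : Scheme.{u}} (f : X ⟶ Y) (L : Y.IdealSheafData)
  (V : Y.affineOpens) (t : Γ(Y, V.1)) (hLt : L.ideal V = Ideal.span {t})

include hLt in
theorem mem_support_iff_notMem (y : Y) (hy : y ∈ V.1) :
    y ∈ L.support ↔ y ∉ Y.basicOpen t := by
  rw [Scheme.IdealSheafData.mem_support_iff_of_mem hy, hLt, Scheme.zeroLocus_span,
    Scheme.zeroLocus_singleton]
  rfl

include hLt in
theorem basicOpen_le_compl : Y.basicOpen t ≤ L.support.compl := by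
  intro y hy
  have hyV : y ∈ V.1 := Y.basicOpen_le t hy
  show y ∈ (L.support : Set Y)ᶜ
  intro hs
  exact ((mem_support_iff_notMem L V t hLt y hyV).1 hs) hy

include hLt in
theorem app_injective (ht : t ∈ nonZeroDivisors Γ(Y, V.1))
    (hiso : IsIso (f ∣_ L.support.compl)) :
    Function.Injective (f.app V.1).hom := by
  rw [injective_iff_map_eq_zero]
  intro a ha
  haveI := isIso_app_of_le f _ hiso (Y.basicOpen t) (basicOpen_le_compl L V t hLt)
  have h1 : (f.app (Y.basicOpen t)).hom (Y.presheaf.map (homOfLE (Y.basicOpen_le t)).op a) = 0 := by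
    rw [app_res, ha, map_zero]
  have hinj : Function.Injective (f.app (Y.basicOpen t)).hom :=
    ((ConcreteCategory.isIso_iff_bijective (f.app (Y.basicOpen t))).1 inferInstance).1
  have h2 : Y.presheaf.map (homOfLE (Y.basicOpen_le t)).op a = 0 := by
    apply hinj
    rw [h1, map_zero]
  obtain ⟨m, hm⟩ :=
    exists_pow_mul_eq_zero_of_res_basicOpen_eq_zero_of_isAffineOpen Y V.2 a t h2
  exact (mem_nonZeroDivisors_iff_left.1 (pow_mem ht m)) a hm

include hLt in
theorem app_mem_nonZeroDivisors [IsReduced X]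
    (hdense : Dense (f.base ⁻¹' ((L.support : Set Y)ᶜ))) :
    (f.app V.1).hom t ∈ nonZeroDivisors Γ(X, f ⁻¹ᵁ V.1) := by
  rw [mem_nonZeroDivisors_iff_right]
  intro b hb
  rw [← basicOpen_eq_bot_iff]
  by_contra hne
  have hne' : (X.basicOpen b : Set X).Nonempty := by
    by_contra h
    exact hne ((Opens.not_nonempty_iff_eq_bot _).1 h)
  obtain ⟨x, hxb, hxd⟩ := hdense.inter_open_nonempty _ (X.basicOpen b).isOpen hne'
  have hxV : f x ∈ V.1 := X.basicOpen_le b hxb
  have hxt : f x ∈ Y.basicOpen t := by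
    by_contra hcon
    exact hxd ((mem_support_iff_notMem L V t hLt (f x) hxV).2 hcon)
  have hxt' : x ∈ X.basicOpen ((f.app V.1).hom t) := by
    have := Scheme.preimage_basicOpen f t
    rw [← this]
    exact hxt
  have : x ∈ X.basicOpen (b * (f.app V.1).hom t) := by
    rw [Scheme.basicOpen_mul]
    exact ⟨hxb, hxt'⟩
  rw [hb, Scheme.basicOpen_zero] at this
  exact this

include hLt in
theorem exists_pow_mul_eq [IsReduced X] [IsAffineHom f]
    (hiso : IsIso (f ∣_ L.support.compl))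
    (hdense : Dense (f.base ⁻¹' ((L.support : Set Y)ᶜ))) (b : Γ(X, f ⁻¹ᵁ V.1)) :
    ∃ k : ℕ, ∃ a : Γ(Y, V.1), (f.app V.1).hom a = (f.app V.1).hom t ^ k * b := by
  haveI := isIso_app_of_le f _ hiso (Y.basicOpen t) (basicOpen_le_compl L V t hLt)
  have hsurj : Function.Surjective (f.app (Y.basicOpen t)).hom :=
    ((ConcreteCategory.isIso_iff_bijective (f.app (Y.basicOpen t))).1 inferInstance).2
  obtain ⟨s, hs⟩ := hsurj (X.presheaf.map (homOfLE (f.preimage_mono (Y.basicOpen_le t))).op b)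
  haveI := V.2.isLocalization_basicOpen t
  obtain ⟨k, a, hka⟩ := IsLocalization.Away.surj t s
  have hka' : s * (Y.presheaf.map (homOfLE (Y.basicOpen_le t)).op).hom t ^ k =
      (Y.presheaf.map (homOfLE (Y.basicOpen_le t)).op).hom a := hka
  refine ⟨k, a, ?_⟩
  have hφt := app_mem_nonZeroDivisors f L V t hLt hdense
  have hres : (X.presheaf.map (homOfLE (f.preimage_mono (Y.basicOpen_le t))).op).hom
      ((f.app V.1).hom a - (f.app V.1).hom t ^ k * b) = 0 := by
    rw [map_sub, map_mul, map_pow]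
    erw [← app_res f (Y.basicOpen_le t) a, ← app_res f (Y.basicOpen_le t) t]
    erw [← hs]
    rw [← map_pow, ← map_mul, ← map_sub]
    have h0 : (Y.presheaf.map (homOfLE (Y.basicOpen_le t)).op).hom a -
        (Y.presheaf.map (homOfLE (Y.basicOpen_le t)).op).hom t ^ k * s = 0 := by
      rw [sub_eq_zero, mul_comm]
      exact hka'.symm
    erw [h0, map_zero]
  have hWeq : f ⁻¹ᵁ (Y.basicOpen t) = X.basicOpen ((f.app V.1).hom t) :=
    Scheme.preimage_basicOpen f t
  have hres' : (X.presheaf.map (homOfLE (X.basicOpen_le ((f.app V.1).hom t))).op).hom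
      ((f.app V.1).hom a - (f.app V.1).hom t ^ k * b) = 0 := by
    have hle : X.basicOpen ((f.app V.1).hom t) ≤ f ⁻¹ᵁ (Y.basicOpen t) := hWeq.ge
    have h5 := congrArg (X.presheaf.map (homOfLE hle).op).hom hres
    rw [map_zero] at h5
    rw [← h5, ← CommRingCat.comp_apply, ← Functor.map_comp]
    rfl
  obtain ⟨m, hm⟩ :=
    exists_pow_mul_eq_zero_of_res_basicOpen_eq_zero_of_isAffineOpen X (V.2.preimage f) _ _ hres'
  have h6 := (mem_nonZeroDivisors_iff_left.1 (pow_mem hφt m)) _ hm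
  exact sub_eq_zero.1 h6

end Local

section Comap

/-- the pullback of an ideal sheaf to the spectrum of an affine open -/
theorem comap_fromSpec {Y : Scheme.{u}} (𝓘 : Y.IdealSheafData) (V : Y.affineOpens) :
    𝓘.comap V.2.fromSpec = specIdeal (A := Γ(Y, V.1)) (𝓘.ideal V) := by
  rw [IdealComap.eq_ofIdealTop (𝓘.comap V.2.fromSpec)]
  unfold specIdeal
  congr 1
  have hle : (⊤ : (Spec Γ(Y, V.1)).Opens) ≤ V.2.fromSpec ⁻¹ᵁ V.1 := by
    rw [V.2.fromSpec_preimage_self]
  rw [IdealComap.ideal_comap_eq_map V.2.fromSpec 𝓘 ⟨⊤, isAffineOpen_top _⟩ V hle]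
  congr 1
  rw [Scheme.Hom.appLE, V.2.fromSpec_app_self, Category.assoc, ← Functor.map_comp]
  have : ∀ (g : (op (⊤ : (Spec Γ(Y, V.1)).Opens)) ⟶ op ⊤),
      (Spec Γ(Y, V.1)).presheaf.map g = 𝟙 _ := by
    intro g
    have : g = 𝟙 _ := Subsingleton.elim _ _
    rw [this]
    exact (Spec Γ(Y, V.1)).presheaf.map_id _
  rw [this, Category.comp_id]
  rfl

end Comap

section Main

variable {X Y : Scheme.{u}} (f : X ⟶ Y) [IsFinite f] (L : Y.IdealSheafData)

/-- the centre of the blow-up -/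
noncomputable def centre (n : ℕ) : Y.IdealSheafData := ((L ^ n).comap f).map f

theorem centre_ideal (n : ℕ) (V : Y.affineOpens) (t : Γ(Y, V.1))
    (hLt : L.ideal V = Ideal.span {t}) :
    (centre f L n).ideal V =
      Ideal.comap (f.app V.1).hom (Ideal.span {(f.app V.1).hom (t ^ n)}) := by
  unfold centre
  rw [ideal_map_of_isAffineHom,
    IdealComap.ideal_comap_eq_map f (L ^ n) ⟨f ⁻¹ᵁ V.1, V.2.preimage f⟩ V le_rfl]
  congr 1
  rw [Scheme.IdealSheafData.ideal_pow, Pi.pow_apply, hLt, Ideal.span_singleton_pow,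
    Ideal.map_span, Set.image_singleton, ← Scheme.Hom.app_eq_appLE]

theorem localBlowUp [IsReduced X] (hiso : IsIso (f ∣_ L.support.compl))
    (hdense : Dense (f.base ⁻¹' ((L.support : Set Y)ᶜ))) (n : ℕ) (V : Y.affineOpens)
    (t : Γ(Y, V.1)) (ht : t ∈ nonZeroDivisors Γ(Y, V.1)) (hLt : L.ideal V = Ideal.span {t})
    (hn : ∀ b : Γ(X, f ⁻¹ᵁ V.1), ∃ a : Γ(Y, V.1),
      (f.app V.1).hom a = (f.app V.1).hom t ^ n * b)
    (y : Y) (hy : y ∈ V.1) : LocalBlowUp (centre f L n) f y := by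
  have hV' : IsAffineOpen (f ⁻¹ᵁ V.1) := V.2.preimage f
  have h4 : Function.Injective (f.app V.1).hom := app_injective f L V t hLt ht hiso
  have hφt := app_mem_nonZeroDivisors f L V t hLt hdense
  have h1 : (f.app V.1).hom (t ^ n) ∈ nonZeroDivisors Γ(X, f ⁻¹ᵁ V.1) := by
    rw [map_pow]
    exact pow_mem hφt n
  have hJe : (centre f L n).ideal V =
      Ideal.comap (f.app V.1).hom (Ideal.span {(f.app V.1).hom (t ^ n)}) :=
    centre_ideal f L n V t hLt
  have h2 : ∀ b : Γ(X, f ⁻¹ᵁ V.1), ∃ a ∈ (centre f L n).ideal V,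
      (f.app V.1).hom a = (f.app V.1).hom (t ^ n) * b := by
    intro b
    obtain ⟨a, ha⟩ := hn b
    refine ⟨a, ?_, by rw [map_pow]; exact ha⟩
    rw [hJe, Ideal.mem_comap, ha, ← map_pow]
    exact Ideal.mul_mem_right _ _ (Ideal.mem_span_singleton_self _)
  have h3 : ∀ a ∈ (centre f L n).ideal V, ∃ b : Γ(X, f ⁻¹ᵁ V.1),
      (f.app V.1).hom a = (f.app V.1).hom (t ^ n) * b := by
    intro a ha
    rw [hJe, Ideal.mem_comap] at ha
    obtain ⟨b, hb⟩ := Ideal.mem_span_singleton'.1 ha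
    exact ⟨b, by rw [← hb, mul_comm]⟩
  have hb := isBlowUp_SpecMap (f.app V.1).hom ((centre f L n).ideal V) (t ^ n) h1 h2 h3 h4
  refine ⟨Spec Γ(Y, V.1), Spec Γ(X, f ⁻¹ᵁ V.1), V.2.fromSpec, hV'.fromSpec,
    Spec.map (f.app V.1), inferInstance, ?_, ?_, ?_⟩
  · rw [V.2.range_fromSpec]
    exact hy
  · refine (IsOpenImmersion.isPullback (Spec.map (f.app V.1)) hV'.fromSpec V.2.fromSpec f
      ?_ ?_).flip
    · rw [Scheme.Hom.app_eq_appLE]
      exact (IsAffineOpen.SpecMap_appLE_fromSpec f V.2 hV' le_rfl).symm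
    · rw [V.2.opensRange_fromSpec, hV'.opensRange_fromSpec]
  · rw [comap_fromSpec]
    exact hb

theorem dense_compl [IsReduced Y] (hL : BlowUp.IsEffCartierIdeal L) :
    Dense ((L.support : Set Y)ᶜ) := by
  intro y₀
  rw [mem_closure_iff]
  intro O hO hyO
  obtain ⟨V, hyV, t, ht, hLt⟩ := hL y₀
  obtain ⟨a, haO, hya⟩ := V.2.exists_basicOpen_le (V := ⟨O, hO⟩) ⟨y₀, hyO⟩ hyV
  have hne : Y.basicOpen (a * t) ≠ ⊥ := by
    intro h
    rw [basicOpen_eq_bot_iff] at h
    have ha0 : a = 0 := (mem_nonZeroDivisors_iff_right.1 ht) a h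
    rw [ha0, Scheme.basicOpen_zero] at hya
    exact hya
  have hne' : (Y.basicOpen (a * t) : Set Y).Nonempty := by
    by_contra h
    exact hne ((Opens.not_nonempty_iff_eq_bot _).1 h)
  obtain ⟨z, hz⟩ := hne'
  have hz' : z ∈ Y.basicOpen (a * t) := hz
  rw [Scheme.basicOpen_mul] at hz'
  refine ⟨z, haO hz'.1, ?_⟩
  have hzV : z ∈ V.1 := Y.basicOpen_le t hz'.2
  intro hs
  exact (mem_support_iff_notMem L V t hLt z hzV).1 hs hz'.2

theorem surjective_of_iso [IsReduced Y] (hL : BlowUp.IsEffCartierIdeal L)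
    (hiso : IsIso (f ∣_ L.support.compl)) : Function.Surjective f.base := by
  have hcl : IsClosed (Set.range f.base) := f.isClosedMap.isClosed_range
  have hsub : (L.support : Set Y)ᶜ ⊆ Set.range f.base := by
    intro y hy
    have hsurj : Function.Surjective (f ∣_ L.support.compl).base :=
      (f ∣_ L.support.compl).surjective
    obtain ⟨x, hx⟩ := hsurj ⟨y, hy⟩
    refine ⟨x.1, ?_⟩
    rw [← morphismRestrict_base_coe, hx]
  have h1 := (dense_compl L hL).closure_eq
  have h2 : closure ((L.support : Set Y)ᶜ) ⊆ Set.range f.base :=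
    (IsClosed.closure_subset_iff hcl).2 hsub
  rw [h1] at h2
  exact Set.range_eq_univ.1 (Set.univ_subset_iff.1 h2)

theorem main [CompactSpace Y] [IsReduced X] [IsReduced Y]
    (hL : BlowUp.IsEffCartierIdeal L)
    (hiso : IsIso (f ∣_ L.support.compl))
    (hdense : Dense (f.base ⁻¹' ((L.support : Set Y)ᶜ))) :
    ∃ I : Y.IdealSheafData, I.support = L.support ∧ BlowUp.IsBlowUp f I := by
  have hsurj := surjective_of_iso f L hL hiso
  choose V hyV t ht hLt using hL
  have hex : ∀ y, ∃ n : ℕ, ∀ m : ℕ, n ≤ m → ∀ b : Γ(X, f ⁻¹ᵁ (V y).1), ∃ a : Γ(Y, (V y).1),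
      (f.app (V y).1).hom a = (f.app (V y).1).hom (t y) ^ m * b := fun y =>
    exists_uniform_pow _ (IsFinite.finite_app f _ (V y).2) (t y)
      (exists_pow_mul_eq f L (V y) (t y) (hLt y) hiso hdense)
  choose N hN using hex
  obtain ⟨s, hs⟩ := isCompact_univ.elim_finite_subcover (fun y => ((V y).1 : Set Y))
    (fun y => (V y).1.isOpen) (fun y _ => Set.mem_iUnion.2 ⟨y, hyV y⟩)
  refine ⟨centre f L (s.sup N + 1), ?_, ?_⟩
  · unfold centre
    rw [support_map, support_comap, support_pow _ _ (Nat.succ_ne_zero _)]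
    ext1
    rw [Closeds.coe_closure, Closeds.coe_preimage, Set.image_preimage_eq _ hsurj,
      L.support.isClosed.closure_eq]
  · apply isBlowUp_of_local
    intro y₀
    obtain ⟨y, hys, hy₀⟩ : ∃ y ∈ s, y₀ ∈ (V y).1 := by
      simpa using hs (Set.mem_univ y₀)
    exact localBlowUp f L hiso hdense _ (V y) (t y) (ht y) (hLt y)
      (hN y _ (le_trans (Finset.le_sup hys) (Nat.le_succ _))) y₀ hy₀

end Main

end Groth.Agent.Lead.FinBir
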