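import Mathlib
import Groth.Prelude.Def_StGerb2
import Groth.Prelude.Def_AlgSt4
import Groth.Agent.Lib.Helper2.FibCat.FpMap
import Groth.Agent.Lib.Helper2.FibCat.InertiaFp
import Groth.Agent.Lib.Helper2.AlgSt.Pts.Fp
import Groth.Agent.Lib.Helper2.AlgSt.Pts.Chart

/-!
# The map on inertia induced by a functor, its base change to a chart, and surjectivity on points
from surjectivity on automorphism groups of geometric points (lead)
-/

set_option backward.isDefEq.respectTransparency.types false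
set_option autoImplicit false
set_option synthInstance.maxHeartbeats 400000
set_option maxHeartbeats 1000000
set_option linter.style.haveILetI false
set_option linter.unusedSectionVars false
set_option linter.unusedSimpArgs false

open CategoryTheory CategoryTheory.Functor CategoryTheory.Limits AlgebraicGeometry Opposite

universe u

namespace Groth.Agent.Lead.FinIn

open Groth.Agent.Helper2 Groth.Agent.Helper2.FibCatLib Groth.Agent.Helper2.AlgStLib
open Groth.Agent.Helper2.AlgStLib.Pts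

variable {S : Scheme.{u}} {𝒰 𝒳 : BasedCategory.{u, u + 1} (Over S)} (h : 𝒰 ⥤ᵇ 𝒳)

theorem p_map_map_eq_id {a : 𝒰.obj} (α : a ⟶ a) (hα : 𝒰.p.map α = 𝟙 (𝒰.p.obj a)) :
    𝒳.p.map (h.map α) = 𝟙 (𝒳.p.obj (h.obj a)) := by
  have h1 := Functor.congr_hom h.w α
  simp only [Functor.comp_map] at h1
  rw [hα, Category.id_comp, eqToHom_trans, eqToHom_refl] at h1
  exact h1

/-- The functor on absolute inertia induced by a functor over the base. -/
def Ih : FibCat.inertia (FibCat.toSelf 𝒰) ⥤ᵇ FibCat.inertia (FibCat.toSelf 𝒳) where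
  toFunctor :=
    { obj := fun A => ⟨h.obj A.pt, h.toFunctor.mapIso A.aut, p_map_map_eq_id h A.aut.hom A.map_aut⟩
      map := fun {A B} φ => ⟨h.map φ.hom, by
        change h.map A.aut.hom ≫ h.map φ.hom = h.map φ.hom ≫ h.map B.aut.hom
        rw [← h.toFunctor.map_comp, ← h.toFunctor.map_comp, φ.comm]⟩
      map_id := fun A => by
        apply FibCat.InertiaObj.hom_ext
        exact h.toFunctor.map_id _
      map_comp := fun φ ψ => by
        apply FibCat.InertiaObj.hom_ext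
        exact h.toFunctor.map_comp _ _ }
  w := congrArg (fun k => FibCat.InertiaObj.forget ⋙ k) h.w

variable {V : Over S} (u : FibCat.overCat V ⥤ᵇ 𝒰)

/-- The comparison isomorphisms used to define `J` (identities). -/
def eF : u.toFunctor ⋙ h.toFunctor ≅
    (BasedFunctor.id (FibCat.overCat V)).toFunctor ⋙ (BasedFunctor.comp u h).toFunctor :=
  NatIso.ofComponents (fun _ => Iso.refl _) (fun f => by
    change h.map (u.map f) ≫ 𝟙 _ = 𝟙 _ ≫ h.map (u.map f)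
    rw [Category.comp_id, Category.id_comp])

def eG : (FibCat.inertiaToBase (FibCat.toSelf 𝒰)).toFunctor ⋙ h.toFunctor ≅
    (Ih h).toFunctor ⋙ (FibCat.inertiaToBase (FibCat.toSelf 𝒳)).toFunctor :=
  NatIso.ofComponents (fun _ => Iso.refl _) (fun {A B} f => by
    change h.map f.hom ≫ 𝟙 _ = 𝟙 _ ≫ h.map f.hom
    rw [Category.comp_id, Category.id_comp])

theorem heF (x : (FibCat.overCat V).obj) :
    𝒳.p.IsHomLift (𝟙 ((FibCat.overCat V).p.obj x)) ((eF h u).hom.app x) := by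
  change 𝒳.p.IsHomLift (𝟙 ((FibCat.overCat V).p.obj x)) (𝟙 (h.obj (u.obj x)))
  exact IsHomLift.id ((h.w_obj _).trans (u.w_obj x))

theorem heG (A : (FibCat.inertia (FibCat.toSelf 𝒰)).obj) :
    𝒳.p.IsHomLift (𝟙 ((FibCat.inertia (FibCat.toSelf 𝒰)).p.obj A)) ((eG h).hom.app A) := by
  change 𝒳.p.IsHomLift (𝟙 (𝒰.p.obj A.pt)) (𝟙 (h.obj A.pt))
  exact IsHomLift.id (h.w_obj _)

/-- The functor from the automorphisms of `u` to the automorphisms of `h ∘ u`, over the chart. -/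
def J : FibCat.fp u (FibCat.inertiaToBase (FibCat.toSelf 𝒰)) ⥤ᵇ
    FibCat.fp (BasedFunctor.comp u h) (FibCat.inertiaToBase (FibCat.toSelf 𝒳)) :=
  FpMap.fpMap u (FibCat.inertiaToBase (FibCat.toSelf 𝒰)) (BasedFunctor.comp u h)
    (FibCat.inertiaToBase (FibCat.toSelf 𝒳)) (BasedFunctor.id _) (Ih h) h (eF h u) (eG h)
    (heF h u) (heG h)

theorem J_fst : BasedFunctor.comp (J h u) (FibCat.fpFst _ _) = FibCat.fpFst _ _ := rfl

/-- An automorphism over the identity as an element of `AutO`. -/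
def autOfIso {x : 𝒳.obj} (β : x ≅ x) (hβ : 𝒳.p.IsHomLift (𝟙 (𝒳.p.obj x)) β.hom) : Gerb.AutO x where
  hom := ⟨β.hom, hβ⟩
  inv := ⟨β.inv, IsHomLift.lift_id_inv _ _ _⟩
  hom_inv_id := by
    apply Functor.Fiber.hom_ext
    exact β.hom_inv_id
  inv_hom_id := by
    apply Functor.Fiber.hom_ext
    exact β.inv_hom_id

theorem p_map_eq_id_of_isHomLift {x : 𝒰.obj} (α : x ⟶ x)
    (hα : 𝒰.p.IsHomLift (𝟙 (𝒰.p.obj x)) α) : 𝒰.p.map α = 𝟙 (𝒰.p.obj x) := by
  have h2 := IsHomLift.fac' 𝒰.p (𝟙 (𝒰.p.obj x)) α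
  simpa using h2

/-- If `h` is surjective on automorphism groups of geometric points, `J` is surjective on
points. -/
theorem J_isSurjective
    (h𝒫 : FibCat.IsFibGrpd
      (FibCat.fp (BasedFunctor.comp u h) (FibCat.inertiaToBase (FibCat.toSelf 𝒳))).p)
    (haut : ∀ (Ω : Type u) [Field Ω] [IsAlgClosed Ω] (t : Spec (CommRingCat.of Ω) ⟶ S)
      (v : 𝒰.p.Fiber (Over.mk t)), Function.Surjective (Gerb.autMap h v.1)) :
    AlgSt.IsSurjective (J h u) := by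
  intro w
  obtain ⟨W, rfl⟩ := AlgSt.Points.mk_surjective w
  let c : Spec (CommRingCat.of (AlgebraicClosure W.K)) ⟶ Spec (CommRingCat.of W.K) :=
    Spec.map (CommRingCat.ofHom (algebraMap W.K (AlgebraicClosure W.K)))
  let wΩ : Spec (CommRingCat.of (AlgebraicClosure W.K)) ⟶ S := c ≫ W.str
  let d : Over.mk wΩ ⟶ Over.mk W.str := Over.homMk c rfl
  obtain ⟨W', hW', φ, -⟩ := exists_fpt_over h𝒫 W wΩ d
  let a : (FibCat.overCat V).obj := W'.obj.fst
  let A : (FibCat.inertia (FibCat.toSelf 𝒳)).obj := W'.obj.snd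
  let ι : h.obj (u.obj a) ≅ A.pt := W'.obj.iso
  have hι : 𝒳.p.IsHomLift (𝟙 ((FibCat.overCat V).p.obj a)) ι.hom := W'.property
  have ha : (FibCat.overCat V).p.obj a = Over.mk wΩ := hW'
  have hx : (FibCat.overCat V).p.obj a = 𝒳.p.obj (h.obj (u.obj a)) :=
    ((h.w_obj _).trans (u.w_obj a)).symm
  have hι' : 𝒳.p.IsHomLift (𝟙 (𝒳.p.obj (h.obj (u.obj a)))) ι.hom :=
    isHomLift_id_cast 𝒳.p hx _ hι
  have hAx : 𝒳.p.obj A.pt = 𝒳.p.obj (h.obj (u.obj a)) :=
    IsHomLift.codomain_eq 𝒳.p (𝟙 (𝒳.p.obj (h.obj (u.obj a)))) ι.hom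
  have hA : 𝒳.p.IsHomLift (𝟙 (𝒳.p.obj (h.obj (u.obj a)))) A.aut.hom :=
    isHomLift_id_cast 𝒳.p hAx _ (InertiaFp.isHomLift_aut _ A)
  have hιinv : 𝒳.p.IsHomLift (𝟙 (𝒳.p.obj (h.obj (u.obj a)))) ι.inv :=
    IsHomLift.lift_id_inv _ _ _
  let β' : h.obj (u.obj a) ≅ h.obj (u.obj a) := ι ≪≫ A.aut ≪≫ ι.symm
  have hβ' : 𝒳.p.IsHomLift (𝟙 (𝒳.p.obj (h.obj (u.obj a)))) β'.hom := by
    change 𝒳.p.IsHomLift (𝟙 (𝒳.p.obj (h.obj (u.obj a)))) (ι.hom ≫ A.aut.hom ≫ ι.inv)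
    infer_instance
  obtain ⟨γ, hγ⟩ := haut (AlgebraicClosure W.K) wΩ ⟨u.obj a, (u.w_obj a).trans ha⟩
    (autOfIso β' hβ')
  have hγ' : h.map γ.hom.1 = β'.hom := congrArg (fun z => z.hom.1) hγ
  let γiso : u.obj a ≅ u.obj a :=
    ⟨γ.hom.1, γ.inv.1, congrArg Subtype.val γ.hom_inv_id, congrArg Subtype.val γ.inv_hom_id⟩
  let Z : (FibCat.fp u (FibCat.inertiaToBase (FibCat.toSelf 𝒰))).obj :=
    ⟨{ fst := a
       snd := ⟨u.obj a, γiso, p_map_eq_id_of_isHomLift γ.hom.1 γ.hom.2⟩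
       iso := Iso.refl (u.obj a) }, IsHomLift.id (u.w_obj a)⟩
  let Zpt : AlgSt.FPt (FibCat.fp u (FibCat.inertiaToBase (FibCat.toSelf 𝒰))) :=
    ⟨AlgebraicClosure W.K, wΩ, Z, ha⟩
  have comm : h.map γ.hom.1 ≫ ι.hom = ι.hom ≫ A.aut.hom := by
    rw [hγ']
    change (ι.hom ≫ A.aut.hom ≫ ι.inv) ≫ ι.hom = _
    simp
  let m : (J h u).obj Z ⟶ W' := ObjectProperty.homMk
    { fst := 𝟙 a
      snd := ⟨ι.hom, comm⟩
      w := by
        change h.map (u.map (𝟙 a)) ≫ ι.hom = (𝟙 _ ≫ h.map (𝟙 _) ≫ 𝟙 _) ≫ ι.hom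
        simp }
  refine ⟨AlgSt.Points.mk Zpt, ?_⟩
  rw [AlgSt.Points.map_mk]
  exact mk_eq_of_hom (p := Zpt.map (J h u)) (q := W) (m ≫ φ)

end Groth.Agent.Lead.FinIn
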