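import Mathlib
import Groth.Agent.Lib.Lead.FinInA
import Groth.Agent.Lib.Helper2.AlgSt.Inertia
import Groth.Agent.Lib.Helper2.AlgSt.RepDiagApps3
import Groth.Agent.Lib.Helper2.AlgSp.SepDescent
import Groth.Agent.Lib.Helper2.AlgSt.Pts.Space
import Groth.Agent.Lib.Helper2.EquivOver

/-!
# Universal closedness of the automorphism space of `h ∘ u` from properness of that of `u` (lead)
-/

set_option backward.isDefEq.respectTransparency.types false
set_option autoImplicit false
set_option synthInstance.maxHeartbeats 400000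
set_option maxHeartbeats 1000000
set_option linter.style.haveILetI false
set_option linter.unusedSectionVars false
set_option linter.unusedSimpArgs false

open CategoryTheory CategoryTheory.Functor CategoryTheory.Limits AlgebraicGeometry Opposite

universe u

namespace Groth.Agent.Lead.FinIn

open Groth.Agent.Helper2 Groth.Agent.Helper2.FibCatLib Groth.Agent.Helper2.StkLib
open Groth.Agent.Helper2.AlgSpBasic Groth.Agent.Helper2.EtaleLocal Groth.Agent.Helper2.AlgStLib
open Groth.Agent.Helper2.AlgStLib.Pts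
open AlgSp

variable {S : Scheme.{u}} {𝒰 𝒳 : BasedCategory.{u, u + 1} (Over S)} (h : 𝒰 ⥤ᵇ 𝒳)
  {V : Over S} (u : FibCat.overCat V ⥤ᵇ 𝒰)

theorem repOver_univClosed_comp
    (hsep : AlgSt.IsSeparatedOver 𝒰)
    (hrep : AlgSt.RepByAlgSp1 (FibCat.inertiaToBase (FibCat.toSelf 𝒳)))
    (haut : ∀ (Ω : Type u) [Field Ω] [IsAlgClosed Ω] (t : Spec (CommRingCat.of Ω) ⟶ S)
      (v : 𝒰.p.Fiber (Over.mk t)), Function.Surjective (Gerb.autMap h v.1)) :
    RepOver AlgSp.IsUnivClosedMor
      (FibCat.fp (BasedFunctor.comp u h) (FibCat.inertiaToBase (FibCat.toSelf 𝒳)))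
      (FibCat.fpFst (BasedFunctor.comp u h) (FibCat.inertiaToBase (FibCat.toSelf 𝒳))) := by
  have hpr : AlgSt.RepByAlgSpWith AlgSp.IsProperMor (FibCat.inertiaToBase (FibCat.toSelf 𝒰)) :=
    repByAlgSpWith_inertiaToBase_of_diag _ (FibCat.toSelf 𝒰) hsep
  obtain ⟨A, eA, heA, hA⟩ := hpr V u
  obtain ⟨B, eB, heB⟩ := hrep V (BasedFunctor.comp u h)
  obtain ⟨eB', heB', ⟨η⟩, ⟨ε⟩⟩ := IsEquivOver.exists_inverse eB heB
  have h𝒫 : FibCat.IsFibGrpd
      (FibCat.fp (BasedFunctor.comp u h) (FibCat.inertiaToBase (FibCat.toSelf 𝒳))).p :=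
    isFibGrpd_of_isEquivOver eB' heB' (Stk.isFibGrpd_ofPsh B.obj.obj)
  let Ψ : AlgSt.ofSp A.obj ⥤ᵇ AlgSt.ofSp B.obj :=
    BasedFunctor.comp (BasedFunctor.comp eA (J h u)) eB'
  let j : A.obj ⟶ B.obj := ObjectProperty.homMk (mapOfFunctor Ψ)
  let qB : B.obj ⟶ (AlgSp.yon S).obj V :=
    AlgSt.spMapOfOver (BasedFunctor.comp eB (FibCat.fpFst (BasedFunctor.comp u h)
      (FibCat.inertiaToBase (FibCat.toSelf 𝒳))))
  have key : AlgSt.spMapOfOver (BasedFunctor.comp eA (FibCat.fpFst u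
      (FibCat.inertiaToBase (FibCat.toSelf 𝒰)))) = j ≫ qB := by
    have h1 := spMapOfOver_comp Ψ (BasedFunctor.comp eB (FibCat.fpFst (BasedFunctor.comp u h)
      (FibCat.inertiaToBase (FibCat.toSelf 𝒳))))
    rw [← h1]
    have α : BasedFunctor.comp Ψ (BasedFunctor.comp eB (FibCat.fpFst (BasedFunctor.comp u h)
        (FibCat.inertiaToBase (FibCat.toSelf 𝒳)))) ⟶
        BasedFunctor.comp eA (FibCat.fpFst u (FibCat.inertiaToBase (FibCat.toSelf 𝒰))) :=
      BasedCategory.whiskerLeft (BasedFunctor.comp eA (J h u))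
        (BasedCategory.whiskerRight ε.hom (FibCat.fpFst (BasedFunctor.comp u h)
          (FibCat.inertiaToBase (FibCat.toSelf 𝒳))))
    exact (spMapOfOver_congr α).symm
  have hΨ : AlgSt.IsSurjective Ψ :=
    isSurjective_comp _ _ (isSurjective_comp _ _ (isSurjective_of_isEquivOver eA heA)
      (J_isSurjective h u h𝒫 haut)) (isSurjective_of_isEquivOver eB' heB')
  have hj : AlgSp.IsSurjectiveMor j := by
    rw [isSurjectiveMor_iff_ofSpMap]
    obtain ⟨θ⟩ := ofPshMap_mapOfFunctor_iso Ψ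
    exact isSurjective_congr θ.symm hΨ
  obtain ⟨-, -, huc⟩ := hA
  rw [key] at huc
  exact ⟨B, eB, heB, isUnivClosedMor_of_surjective_triangle j qB huc hj⟩

end Groth.Agent.Lead.FinIn
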