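import Mathlib
import Groth.Agent.Lib.Lead.FinInB
import Groth.Agent.Lib.Helper2.AlgSt.LocQ.Descent2
import Groth.Agent.Lib.Helper2.AlgSt.LocalBase
import Groth.Agent.Lib.Helper2.AlgSt.WNA
import Groth.Agent.Lib.Helper2.AlgSp.ProperQf
import Groth.Agent.Lib.Helper2.AlgSp.Fpqc

/-!
# Finite inertia from étale local charts with surjective maps on geometric automorphism groups
(lead)
-/

set_option backward.isDefEq.respectTransparency.types false
set_option autoImplicit false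
set_option synthInstance.maxHeartbeats 400000
set_option maxHeartbeats 1000000
set_option linter.style.haveILetI false
set_option linter.unusedSectionVars false
set_option linter.unusedSimpArgs false

open CategoryTheory CategoryTheory.Functor CategoryTheory.Limits AlgebraicGeometry Opposite

universe u

namespace Groth.Agent.Lead.FinIn

open Groth.Agent.Helper2 Groth.Agent.Helper2.FibCatLib Groth.Agent.Helper2.StkLib
open Groth.Agent.Helper2.AlgSpBasic Groth.Agent.Helper2.EtaleLocal Groth.Agent.Helper2.AlgStLib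
open Groth.Agent.Helper2.AlgStLib.Pts Groth.Agent.Helper2.AlgStLib.LocQ
open AlgSp

variable {S : Scheme.{u}} {𝒳 : BasedCategory.{u, u + 1} (Over S)}

/-- The local statement at a point of a chart. -/
theorem exists_local (h𝒳 : AlgSt.IsAlgStack Scheme.fppfPrecoverage 𝒳)
    (hrep : AlgSt.RepByAlgSp1 (FibCat.inertiaToBase (FibCat.toSelf 𝒳)))
    {T : Over S} (y : FibCat.overCat T ⥤ᵇ 𝒳) (t : ↥T.left)
    (hloc : ∃ (𝒰 : AlgSt.Cat S) (h : 𝒰 ⥤ᵇ 𝒳),
      AlgSt.IsAlgStack Scheme.fppfPrecoverage 𝒰 ∧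
      AlgSt.Points.ofChart y t ∈ Set.range (AlgSt.Points.map h) ∧
      AlgSt.RepByAlgSpWith (AlgSp.IsEtaleMor ⊓ AlgSp.IsQuasiCompactMor) h ∧
      AlgSt.IsSeparatedOver 𝒰 ∧
      ∀ (Ω : Type u) [Field Ω] [IsAlgClosed Ω] (t : Spec (CommRingCat.of Ω) ⟶ S)
        (u : 𝒰.p.Fiber (Over.mk t)), Function.Surjective (Gerb.autMap h u.1)) :
    ∃ (V : Over S) (v : V ⟶ T), Flat v.left ∧ LocallyOfFinitePresentation v.left ∧
      t ∈ Set.range v.left ∧
      RepOver AlgSp.IsUnivClosedMor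
        (FibCat.fp (AlgSt.overMap v)
          (FibCat.fpFst y (FibCat.inertiaToBase (FibCat.toSelf 𝒳))))
        (FibCat.fpFst (AlgSt.overMap v)
          (FibCat.fpFst y (FibCat.inertiaToBase (FibCat.toSelf 𝒳)))) := by
  obtain ⟨𝒰, h, h𝒰, ⟨p, hp⟩, hreph, hsep, haut⟩ := hloc
  have hEt : AlgSt.RepByAlgSpWith (AlgSp.LocP @Etale) h :=
    repByAlgSpWith_mono_space (fun X Y _ hY a ha => locP_etale_of_isEtaleMor hY.diag a ha.1) h hreph
  have hfl : AlgSt.RepByAlgSpWith (AlgSp.LocP @Flat) h :=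
    repByAlgSpWith_mono_space (fun X Y _ _ a ha =>
      locP_mono (fun _ _ g (hg : Etale g) => (inferInstance : Flat g)) ha) h hEt
  have hlfp : AlgSt.RepByAlgSpWith (AlgSp.LocP @LocallyOfFinitePresentation) h :=
    repByAlgSpWith_mono_space (fun X Y _ _ a ha =>
      locP_mono (fun _ _ g (hg : Etale g) =>
        (inferInstance : LocallyOfFinitePresentation g)) ha) h hEt
  obtain ⟨V₀, c, v, ⟨θ⟩, hc, hflat, hlfp', -⟩ := exists_chart_fp h𝒳.isStack.1 h hfl hlfp T y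
  refine ⟨V₀, v, hflat, hlfp', ?_, ?_⟩
  · -- the point `t` is in the image
    have hmap : AlgSt.Points.map y (ptEquiv T t) = AlgSt.Points.map h p := by
      rw [hp]
      rfl
    obtain ⟨w, hw, -⟩ := exists_points_fp_of_map_eq h𝒰.isStack.1 h𝒳.isStack.1
      (isFibGrpd_overCat T) h y (ptEquiv T t) p hmap
    obtain ⟨s', hs'⟩ := hc w
    have h1 : AlgSt.Points.map (AlgSt.overMap v) s' = ptEquiv T t := by
      rw [← map_congr θ, map_comp, hs', hw]
    obtain ⟨s, rfl⟩ := (ptEquiv V₀).surjective s'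
    rw [map_overMap_ptEquiv] at h1
    exact ⟨s, (ptEquiv T).injective h1⟩
  · let u : FibCat.overCat V₀ ⥤ᵇ 𝒰 := BasedFunctor.comp c (FibCat.fpSnd y h)
    have ω : BasedFunctor.comp (AlgSt.overMap v) y ≅ BasedFunctor.comp u h :=
      (postF _ y).mapIso θ.symm ≪≫ whiskerLeftIso c (FibCat.fpIso y h)
    have h2 := repOver_univClosed_comp h u hsep hrep haut
    obtain ⟨Φ, hΦ, hΦfst⟩ := exists_equiv_fp_congr_fst (BasedFunctor.comp (AlgSt.overMap v) y)
      (BasedFunctor.comp u h) (FibCat.inertiaToBase (FibCat.toSelf 𝒳)) ω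
    have h3 : RepOver AlgSp.IsUnivClosedMor
        (FibCat.fp (BasedFunctor.comp (AlgSt.overMap v) y)
          (FibCat.inertiaToBase (FibCat.toSelf 𝒳)))
        (FibCat.fpFst (BasedFunctor.comp (AlgSt.overMap v) y)
          (FibCat.inertiaToBase (FibCat.toSelf 𝒳))) :=
      (repOver_iff_of_equiv _ (FibCat.fpFst (BasedFunctor.comp (AlgSt.overMap v) y)
          (FibCat.inertiaToBase (FibCat.toSelf 𝒳)))
        (FibCat.fpFst (BasedFunctor.comp u h) (FibCat.inertiaToBase (FibCat.toSelf 𝒳))) Φ hΦ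
        (eqToIso hΦfst)).2 h2
    exact (repOver_iff_of_equiv _
      (FibCat.fpFst (AlgSt.overMap v) (FibCat.fpFst y (FibCat.inertiaToBase (FibCat.toSelf 𝒳))))
      (FibCat.fpFst (BasedFunctor.comp (AlgSt.overMap v) y)
        (FibCat.inertiaToBase (FibCat.toSelf 𝒳)))
      (Paste.pasteB (AlgSt.overMap v) y (FibCat.inertiaToBase (FibCat.toSelf 𝒳)))
      (Paste.pasteB_isEquivOver (AlgSt.overMap v) y _) (Iso.refl _)).2 h3

/-- Finite inertia from étale local charts with surjective maps on geometric automorphism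
groups. -/
theorem finite_inertia_of_local (h𝒳 : AlgSt.IsAlgStack Scheme.fppfPrecoverage 𝒳)
    (hΔ : AlgSt.RepByAlgSpWith (AlgSp.IsSeparatedMor ⊓ AlgSp.IsQuasiCompactMor)
      (FibCat.diag (FibCat.toSelf 𝒳)))
    (hqf : AlgSt.IsQuasiDMOver 𝒳)
    (hloc : ∀ x : AlgSt.Points 𝒳, ∃ (𝒰 : AlgSt.Cat S) (h : 𝒰 ⥤ᵇ 𝒳),
      AlgSt.IsAlgStack Scheme.fppfPrecoverage 𝒰 ∧ x ∈ Set.range (AlgSt.Points.map h) ∧
      AlgSt.RepByAlgSpWith (AlgSp.IsEtaleMor ⊓ AlgSp.IsQuasiCompactMor) h ∧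
      AlgSt.IsSeparatedOver 𝒰 ∧
      ∀ (Ω : Type u) [Field Ω] [IsAlgClosed Ω] (t : Spec (CommRingCat.of Ω) ⟶ S)
        (u : 𝒰.p.Fiber (Over.mk t)), Function.Surjective (Gerb.autMap h u.1)) :
    AlgSt.RepByAlgSpWith AlgSp.IsFiniteMor (FibCat.inertiaToBase (FibCat.toSelf 𝒳)) := by
  have h1 : AlgSt.RepByAlgSpWith AlgSp.IsSeparatedMor
      (FibCat.inertiaToBase (FibCat.toSelf 𝒳)) :=
    repByAlgSpWith_inertiaToBase_of_diag _ _
      (repByAlgSpWith_mono (fun _ _ m hm => hm.1) _ hΔ)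
  have h3 : AlgSt.RepByAlgSpWith (AlgSp.LocP (@LocallyQuasiFinite ⊓ @LocallyOfFiniteType))
      (FibCat.inertiaToBase (FibCat.toSelf 𝒳)) :=
    repByAlgSpWith_inertiaToBase_of_diag _ _ hqf
  have hrep : AlgSt.RepByAlgSp1 (FibCat.inertiaToBase (FibCat.toSelf 𝒳)) :=
    repByAlgSp1_of_repByAlgSpWith _ h3
  have huc : AlgSt.RepByAlgSpWith AlgSp.IsUnivClosedMor
      (FibCat.inertiaToBase (FibCat.toSelf 𝒳)) := by
    rw [repByAlgSpWith_iff]
    intro T y
    have hex : ∀ t : ↥T.left, ∃ (V : Over S) (v : V ⟶ T), Flat v.left ∧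
        LocallyOfFinitePresentation v.left ∧ t ∈ Set.range v.left ∧
        RepOver AlgSp.IsUnivClosedMor
          (FibCat.fp (AlgSt.overMap v)
            (FibCat.fpFst y (FibCat.inertiaToBase (FibCat.toSelf 𝒳))))
          (FibCat.fpFst (AlgSt.overMap v)
            (FibCat.fpFst y (FibCat.inertiaToBase (FibCat.toSelf 𝒳)))) := fun t => by
      obtain ⟨𝒰, h, h𝒰, hx, hreph, hsep, haut⟩ := hloc (AlgSt.Points.ofChart y t)
      exact exists_local h𝒳 hrep y t ⟨𝒰, h, h𝒰, hx, hreph, hsep, haut⟩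
    choose V v hfl hfp hmem hro using hex
    refine repOver_of_cover AlgSp.IsUnivClosedMor stableBC_isUnivClosedMor
      (isLocalOnBase_fppf_of_fpqc isLocalOnBase_fpqc_isUnivClosedMor)
      (FibCat.fpFst y (FibCat.inertiaToBase (FibCat.toSelf 𝒳))) (hrep T y) V v ?_ hro
    refine ⟨fun t => ⟨?_, ?_⟩, fun x => ?_⟩
    · exact locP_of_repWith @Flat (AlgSp.IsAlgSpace.yon_obj (V t)).diag _
        ((AlgSp.repWith_yon_map_iff @Flat (v t)).2 (hfl t))
    · exact locP_of_repWith @LocallyOfFinitePresentation (AlgSp.IsAlgSpace.yon_obj (V t)).diag _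
        ((AlgSp.repWith_yon_map_iff @LocallyOfFinitePresentation (v t)).2 (hfp t))
    · obtain ⟨t, rfl⟩ := (AlgSp.Points.schemeHomeo T).surjective x
      obtain ⟨s, hs⟩ := hmem t
      exact ⟨t, AlgSp.Points.schemeHomeo (V t) s, by rw [AlgSp.Points.map_yon_map_apply, hs]⟩
  rw [repByAlgSpWith_iff_forall _ (respectsIsoSp_of_stableBC stableBC_isSeparatedMor) _ hrep] at h1
  rw [repByAlgSpWith_iff_forall _ (respectsIsoSp_of_stableBC (stableBC_locP _)) _ hrep] at h3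
  rw [repByAlgSpWith_iff_forall _ (respectsIsoSp_of_stableBC stableBC_isUnivClosedMor) _ hrep]
    at huc
  intro T y
  obtain ⟨F, e, he⟩ := hrep T y
  exact ⟨F, e, he, Groth.Agent.Helper2.ProperQf.isFiniteMor_of_sep_lqf_univClosed F.property
    (AlgSp.IsAlgSpace.yon_obj T) _ (h1 T y F e he) (h3 T y F e he) (huc T y F e he)⟩

end Groth.Agent.Lead.FinIn
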