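import Mathlib
import Groth.Prelude
import Groth.Agent.Lib.Lead.Wt11

set_option autoImplicit false
set_option backward.isDefEq.respectTransparency.types false
set_option synthInstance.maxHeartbeats 400000
set_option linter.style.haveILetI false
set_option linter.unusedSectionVars false

universe u

open CategoryTheory CategoryTheory.Limits AlgebraicGeometry

namespace Groth.Agent.Lead.FinSep

open Groth.Agent.Lead.Wt

/-- The separable degree does not change when the base field is replaced along an isomorphism. -/
theorem finSepDegree_eq_of_ringEquiv_base {k F E : Type*} [Field k] [Field F] [Field E]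
    [Algebra k E] [Algebra F E] (e : k ≃+* F)
    (h : ∀ a : k, algebraMap k E a = algebraMap F E (e a)) :
    Field.finSepDegree k E = Field.finSepDegree F E := by
  unfold Field.finSepDegree Field.Emb
  refine Nat.card_congr ?_
  refine
    { toFun := fun σ => { σ.toRingHom with
        commutes' := fun r => by
          obtain ⟨a, rfl⟩ := e.surjective r
          have h1 := σ.commutes a
          rw [IsScalarTower.algebraMap_apply F E (AlgebraicClosure E), ← h]
          rw [IsScalarTower.algebraMap_apply k E (AlgebraicClosure E)] at h1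
          exact h1 }
      invFun := fun σ => { σ.toRingHom with
        commutes' := fun a => by
          have h1 := σ.commutes (e a)
          rw [IsScalarTower.algebraMap_apply k E (AlgebraicClosure E), h]
          rw [IsScalarTower.algebraMap_apply F E (AlgebraicClosure E)] at h1
          exact h1 }
      left_inv := fun σ => by ext; rfl
      right_inv := fun σ => by ext; rfl }

/-- The canonical isomorphism from a field to the residue field of a point of its spectrum. -/
noncomputable def eRes (k : Type u) [Field k] (s : ↥(Spec (CommRingCat.of k))) :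
    k ≃+* (Spec (CommRingCat.of k)).residueField s :=
  (Ideal.algEquivResidueFieldOfField (k := k) s.asIdeal).toRingEquiv.trans
    (Scheme.Spec.residueFieldIso (CommRingCat.of k) s).symm.commRingCatIsoToRingEquiv

theorem eRes_apply (k : Type u) [Field k] (s : ↥(Spec (CommRingCat.of k))) (a : k) :
    eRes k s a = ((Spec (CommRingCat.of k)).residue s).hom
      (((Spec (CommRingCat.of k)).presheaf.germ ⊤ s trivial).hom
        ((Scheme.ΓSpecIso (CommRingCat.of k)).inv.hom a)) := by
  have h := Scheme.Spec.algebraMap_residueFieldIso_inv (CommRingCat.of k) s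
  have h2 := congrArg (fun φ => φ.hom a) h
  simp only [CommRingCat.hom_comp, RingHom.comp_apply, CommRingCat.hom_ofHom] at h2
  rw [← h2]
  rfl

theorem resMap_eq_residueFieldMap (k : Type u) [Field k] (X : Scheme.{u})
    [X.Over (Spec (CommRingCat.of k))] (x : X) (a : k) :
    Curv2.resMap k X x a =
      ((X ↘ Spec (CommRingCat.of k)).residueFieldMap x).hom
        (eRes k ((X ↘ Spec (CommRingCat.of k)) x) a) := by
  set f := X ↘ Spec (CommRingCat.of k) with hf
  rw [eRes_apply]
  have h1 := Scheme.residue_residueFieldMap f x
  have h1' := congrArg (fun φ => φ.hom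
    (((Spec (CommRingCat.of k)).presheaf.germ ⊤ (f x) trivial).hom
        ((Scheme.ΓSpecIso (CommRingCat.of k)).inv.hom a))) h1
  simp only [CommRingCat.hom_comp, RingHom.comp_apply] at h1'
  rw [h1']
  have h2 := Scheme.Hom.germ_stalkMap_apply f ⊤ x trivial
    ((Scheme.ΓSpecIso (CommRingCat.of k)).inv.hom a)
  erw [h2]
  rfl

end Groth.Agent.Lead.FinSep

namespace Groth.Agent.Lead.FinSep

open Groth.Agent.Lead.Wt

theorem sdeg_eq_finSepDegree (k : Type u) [Field k] (X : Scheme.{u})
    [X.Over (Spec (CommRingCat.of k))] (x : X) :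
    sdeg (X ↘ Spec (CommRingCat.of k)) x =
      @Field.finSepDegree k (X.residueField x) _ _ (Curv2.resAlgebra k X x) := by
  unfold sdeg
  letI := ((X ↘ Spec (CommRingCat.of k)).residueFieldMap x).hom.toAlgebra
  letI := Curv2.resAlgebra k X x
  symm
  exact finSepDegree_eq_of_ringEquiv_base (eRes k ((X ↘ Spec (CommRingCat.of k)) x))
    (fun a => resMap_eq_residueFieldMap k X x a)

theorem S7855_main (k : Type u) [Field k] (S' : Scheme.{u}) [S'.Over (Spec (CommRingCat.of k))]
    [IsFinite (S' ↘ (Spec (CommRingCat.of k)))] (pt : ↥(Spec (CommRingCat.of k))) :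
    MoreMor.nGeomConnComp (S' ↘ (Spec (CommRingCat.of k))) pt =
      ((∑ᶠ s' : S', @Field.finSepDegree k (S'.residueField s') _ _ (Curv2.resAlgebra k S' s') : ℕ) : ℕ∞) := by
  classical
  set f := S' ↘ Spec (CommRingCat.of k) with hf
  have hfin : (f ⁻¹' {pt}).Finite := f.finite_preimage_singleton pt
  have huniv : (f ⁻¹' {pt}) = Set.univ := by
    ext t
    simp only [Set.mem_preimage, Set.mem_singleton_iff, Set.mem_univ, iff_true]
    exact Subsingleton.elim _ _
  haveI hS : Finite S' := by
    rw [huniv] at hfin
    exact Set.finite_univ_iff.mp hfin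
  obtain ⟨m, h1, h2⟩ := nGeomConnComp_eq_sInt f pt hfin
  rw [h1]
  congr 1
  have h3 : sInt f Set.univ (fun _ => 1) pt = ((∑ᶠ s' : S', sdeg f s' : ℕ) : ℤ) := by
    rw [sInt_eq_finsum_mem]
    have hset : (Set.univ ∩ f ⁻¹' {pt}) = Set.univ := by rw [huniv, Set.inter_self]
    rw [hset, finsum_mem_univ]
    haveI := Fintype.ofFinite S'
    rw [finsum_eq_sum_of_fintype, finsum_eq_sum_of_fintype]
    simp
  rw [h3] at h2
  have h4 : (∑ᶠ s' : S', sdeg f s') = m := by exact_mod_cast h2
  rw [← h4]
  exact finsum_congr (fun s' => sdeg_eq_finSepDegree k S' s')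

end Groth.Agent.Lead.FinSep
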