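import Mathlib
import Groth.Agent.S0009
import Groth.Agent.Lib.Helper1.DimOneAff2
import Groth.Agent.Lib.Lead.FinZMT1

/-!
# Separated quasi-finite schemes of finite type over a Noetherian ring of dimension ≤ 1 are affine (lead)
-/

set_option backward.isDefEq.respectTransparency.types false
set_option autoImplicit false
set_option synthInstance.maxHeartbeats 400000
set_option maxHeartbeats 1000000
set_option linter.style.haveILetI false
set_option linter.unusedSectionVars false
set_option linter.unusedSimpArgs false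
universe u
open CategoryTheory CategoryTheory.Limits AlgebraicGeometry


namespace Groth.Agent.Lead.FinZMT

/-- (S1607, helper1) restated from its library. -/
theorem isAffineOpen_of_dimOne (X : Scheme.{u}) [IsAffine X]
    (hX : ∀ x : X, IsNoetherianRing (X.presheaf.stalk x) ∧ ringKrullDim (X.presheaf.stalk x) ≤ 1)
    (U : X.Opens) (hU : IsCompact (U : Set X)) : IsAffineOpen U := by
  haveI : CompactSpace (↑U : Scheme.{u}) := isCompact_iff_compactSpace.mp hU
  change IsAffine (↑U : Scheme.{u})
  refine Groth.Agent.S0009.result (↑U : Scheme.{u}) ?_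
  intro I i hi hI
  haveI : I.IsQuasicoherent := hI
  exact Groth.Agent.Helper1.DimOneAff.subsingleton_HH_of_dimOne X hX U hU I 0

theorem stalk_dimOne_of_affine (Z : Scheme.{u}) [IsAffine Z] [IsNoetherianRing Γ(Z, ⊤)]
    (hZ : ringKrullDim Γ(Z, ⊤) ≤ 1) (x : Z) :
    IsNoetherianRing (Z.presheaf.stalk x) ∧ ringKrullDim (Z.presheaf.stalk x) ≤ 1 := by
  have hx : x ∈ (⊤ : Z.Opens) := trivial
  letI := Z.presheaf.algebra_section_stalk ⟨x, hx⟩
  haveI := (isAffineOpen_top Z).isLocalization_stalk ⟨x, hx⟩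
  refine ⟨IsLocalization.isNoetherianRing
    ((isAffineOpen_top Z).primeIdealOf ⟨x, hx⟩).asIdeal.primeCompl _ inferInstance, ?_⟩
  rw [IsLocalization.AtPrime.ringKrullDim_eq_height
    ((isAffineOpen_top Z).primeIdealOf ⟨x, hx⟩).asIdeal]
  exact le_trans (Ideal.height_le_ringKrullDim_of_ne_top (Ideal.IsPrime.ne_top inferInstance)) hZ

theorem isAffine_of_lqf_sep {R : Type u} [CommRing R] [IsNoetherianRing R]
    (hR : ringKrullDim R ≤ 1) {X : Scheme.{u}} (f : X ⟶ Spec (CommRingCat.of R)) [IsSeparated f]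
    [LocallyQuasiFinite f] [LocallyOfFiniteType f] [QuasiCompact f] : IsAffine X := by
  classical
  let Y := f.normalization
  let j : X ⟶ Y := f.toNormalization
  let p : Y ⟶ Spec (.of R) := f.fromNormalization
  have hjp : j ≫ p = f := f.toNormalization_fromNormalization
  haveI : IsOpenImmersion j := inferInstanceAs (IsOpenImmersion f.toNormalization)
  haveI : IsIntegralHom p := inferInstanceAs (IsIntegralHom f.fromNormalization)
  haveI : IsAffine Y := isAffine_of_isAffineHom p
  haveI : CompactSpace X := QuasiCompact.compactSpace_of_compactSpace f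
  let B : Type u := Γ(Y, ⊤)
  let ψ : R →+* B := p.appTop.hom.comp (Scheme.ΓSpecIso (.of R)).inv.hom
  letI : Algebra R B := ψ.toAlgebra
  have hψint : ψ.IsIntegral := by
    refine RingHom.IsIntegral.trans _ _ ?_ (IsIntegralHom.isIntegral_app p ⊤ (isAffineOpen_top _))
    exact RingHom.isIntegral_of_surjective _
      ((Scheme.ΓSpecIso (.of R)).symm.commRingCatIsoToRingEquiv.surjective)
  haveI hint : Algebra.IsIntegral R B := ⟨hψint⟩
  let j' : X ⟶ Spec (.of B) := j ≫ Y.isoSpec.hom
  haveI : IsOpenImmersion j' := inferInstanceAs (IsOpenImmersion (j ≫ Y.isoSpec.hom))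
  have hp : Y.isoSpec.hom ≫ Spec.map (CommRingCat.ofHom ψ) = p := by
    have h1 := Scheme.isoSpec_hom_naturality p
    have h2 : CommRingCat.ofHom ψ = (Scheme.ΓSpecIso (.of R)).inv ≫ p.appTop := rfl
    rw [h2, Spec.map_comp, reassoc_of% h1, Scheme.isoSpec_Spec_hom, ← Spec.map_comp,
      Iso.inv_hom_id, Spec.map_id, Category.comp_id]
  have hj'p : j' ≫ Spec.map (CommRingCat.ofHom ψ) = f := by
    rw [Category.assoc, hp, hjp]
  -- Step 1: a finite cover of the image of `X` by basic opens
  have hbasic : ∀ x : X, ∃ g : B, j' x ∈ PrimeSpectrum.basicOpen g ∧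
      (PrimeSpectrum.basicOpen g : Set (PrimeSpectrum B)) ⊆ Set.range j' := by
    intro x
    obtain ⟨_, ⟨_, ⟨g, rfl⟩, rfl⟩, hxg, hg⟩ := PrimeSpectrum.isBasis_basic_opens.exists_subset_of_mem_open
      (Set.mem_range_self x) j'.isOpenEmbedding.isOpen_range
    exact ⟨g, hxg, hg⟩
  choose G hG1 hG2 using hbasic
  obtain ⟨t, ht⟩ := isCompact_univ.elim_finite_subcover
    (fun x : X => (j' ⁻¹ᵁ (PrimeSpectrum.basicOpen (G x)) : Set X))
    (fun x => (j' ⁻¹ᵁ (PrimeSpectrum.basicOpen (G x))).2)
    (fun x _ => Set.mem_iUnion.mpr ⟨x, hG1 x⟩)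
  -- Step 2: each localisation is of finite type over `R`
  have hrange : ∀ x : X, Set.range (Spec.map (CommRingCat.ofHom
      (algebraMap B (Localization.Away (G x))))) =
      ((PrimeSpectrum.basicOpen (G x) : TopologicalSpace.Opens (PrimeSpectrum B)) :
        Set (PrimeSpectrum B)) :=
    fun x => PrimeSpectrum.localization_away_comap_range (Localization.Away (G x)) (G x)
  have hft : ∀ x : X, Algebra.FiniteType R (Localization.Away (G x)) := by
    intro x
    let a : B →+* Localization.Away (G x) := algebraMap B (Localization.Away (G x))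
    let m : Spec (.of (Localization.Away (G x))) ⟶ X :=
      IsOpenImmersion.lift j' (Spec.map (CommRingCat.ofHom a)) (by rw [hrange x]; exact hG2 x)
    have hm : m ≫ j' = Spec.map (CommRingCat.ofHom a) := IsOpenImmersion.lift_fac _ _ _
    haveI : IsOpenImmersion m := by
      haveI : IsOpenImmersion (m ≫ j') := by rw [hm]; infer_instance
      exact IsOpenImmersion.of_comp m j'
    have h1 : m ≫ f = Spec.map (CommRingCat.ofHom (a.comp ψ)) := by
      rw [← hj'p, reassoc_of% hm, ← Spec.map_comp]
      rfl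
    haveI : LocallyOfFiniteType (Spec.map (CommRingCat.ofHom (a.comp ψ))) := by
      rw [← h1]; infer_instance
    have h2 : (a.comp ψ).FiniteType :=
      (HasRingHomProperty.Spec_iff (P := @LocallyOfFiniteType)
        (φ := CommRingCat.ofHom (a.comp ψ))).mp inferInstance
    have h3 : a.comp ψ = algebraMap R (Localization.Away (G x)) :=
      (IsScalarTower.algebraMap_eq R B (Localization.Away (G x))).symm
    rw [h3] at h2
    exact (RingHom.finiteType_algebraMap).mp h2
  -- Step 3: a finite subalgebra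
  choose T hT using fun x : X =>
    @exists_finset_away R B (Localization.Away (G x)) _ _ _ _ _ _ _ (G x) _ (hft x)
  let S₀ : Finset B := t.image G ∪ t.biUnion T
  let B₀ : Subalgebra R B := Algebra.adjoin R (↑S₀ : Set B)
  have hGmem : ∀ x ∈ t, G x ∈ B₀ := by
    intro x hx
    apply Algebra.subset_adjoin
    simp only [S₀, Finset.coe_union, Finset.coe_image, Set.mem_union, Set.mem_image,
      Finset.mem_coe]
    exact Or.inl ⟨x, hx, rfl⟩
  have hTsub : ∀ x ∈ t, (↑(T x) : Set B) ⊆ B₀ := by
    intro x hx b hb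
    apply Algebra.subset_adjoin
    simp only [S₀, Finset.coe_union, Set.mem_union, Finset.mem_coe, Finset.mem_biUnion]
    exact Or.inr ⟨x, hx, hb⟩
  have hfg : (Subalgebra.toSubmodule B₀).FG :=
    fg_adjoin_of_finite S₀.finite_toSet (fun b _ => Algebra.IsIntegral.isIntegral b)
  haveI hfin : Module.Finite R B₀ := Module.Finite.iff_fg.mpr hfg
  haveI : IsNoetherianRing B₀ := Algebra.FiniteType.isNoetherianRing R B₀
  haveI : Algebra.IsIntegral R B₀ := Algebra.IsIntegral.of_finite R B₀
  have hdim : ringKrullDim B₀ ≤ 1 := (ringKrullDim_le_of_isIntegral R B₀).trans hR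
  -- Step 4/5: the map to `Spec B₀` is an open immersion
  let Z : Scheme.{u} := Spec (.of B₀)
  let π : Spec (.of B) ⟶ Z := Spec.map (CommRingCat.ofHom (algebraMap B₀ B))
  let h : X ⟶ Z := j' ≫ π
  have hpre : ∀ (g : B) (hg : g ∈ B₀),
      π ⁻¹ᵁ (PrimeSpectrum.basicOpen (⟨g, hg⟩ : B₀) : Z.Opens) =
        (PrimeSpectrum.basicOpen g : (Spec (.of B)).Opens) := by
    intro g hg
    ext q
    rfl
  haveI hopen : IsOpenImmersion h := by
    refine isOpenImmersion_of_cover h
      (fun k : {x // x ∈ t} => j' ⁻¹ᵁ (PrimeSpectrum.basicOpen (G k.1) : (Spec (.of B)).Opens))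
      (fun k : {x // x ∈ t} =>
        (PrimeSpectrum.basicOpen (⟨G k.1, hGmem k.1 k.2⟩ : B₀) : Z.Opens)) ?_ ?_ ?_
    · intro k
      exact (congrArg (fun W => j' ⁻¹ᵁ W) (hpre (G k.1) (hGmem k.1 k.2)).symm).trans
        (Scheme.Hom.comp_preimage j' π _).symm
    · intro x
      have hx := ht (Set.mem_univ x)
      simp only [Set.mem_iUnion] at hx
      obtain ⟨y, hy, hxy⟩ := hx
      exact ⟨⟨y, hy⟩, hxy⟩
    · intro k
      let U : X.Opens := j' ⁻¹ᵁ (PrimeSpectrum.basicOpen (G k.1) : (Spec (.of B)).Opens)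
      let a : B →+* Localization.Away (G k.1) := algebraMap B (Localization.Away (G k.1))
      let l : (U : Scheme.{u}) ⟶ Spec (.of (Localization.Away (G k.1))) :=
        IsOpenImmersion.lift (Spec.map (CommRingCat.ofHom a)) (U.ι ≫ j') (by
          rw [hrange k.1]
          rintro _ ⟨x, rfl⟩
          exact x.2)
      have hl : l ≫ Spec.map (CommRingCat.ofHom a) = U.ι ≫ j' := IsOpenImmersion.lift_fac _ _ _
      haveI : IsOpenImmersion l := by
        haveI : IsOpenImmersion (l ≫ Spec.map (CommRingCat.ofHom a)) := by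
          rw [hl]; infer_instance
        exact IsOpenImmersion.of_comp l (Spec.map (CommRingCat.ofHom a))
      haveI h2 : IsOpenImmersion (Spec.map (CommRingCat.ofHom a) ≫ π) :=
        isOpenImmersion_spec_subalgebra (G k.1) B₀ (hGmem k.1 k.2)
          (hT k.1 B₀ (hGmem k.1 k.2) (hTsub k.1 k.2))
      have h3 : U.ι ≫ h = l ≫ (Spec.map (CommRingCat.ofHom a) ≫ π) :=
        calc U.ι ≫ h = (U.ι ≫ j') ≫ π := (Category.assoc _ _ _).symm
          _ = (l ≫ Spec.map (CommRingCat.ofHom a)) ≫ π := by rw [hl]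
          _ = _ := Category.assoc _ _ _
      change IsOpenImmersion (U.ι ≫ h)
      rw [h3]
      infer_instance
  -- Step 6/7: apply the dimension-one affineness criterion
  let e : Γ(Z, ⊤) ≃+* B₀ := (Scheme.ΓSpecIso (.of B₀)).commRingCatIsoToRingEquiv
  haveI : IsNoetherianRing Γ(Z, ⊤) := isNoetherianRing_of_ringEquiv B₀ e.symm
  have hdimZ : ringKrullDim Γ(Z, ⊤) ≤ 1 := by
    rw [ringKrullDim_eq_of_ringEquiv e]; exact hdim
  have hcomp : IsCompact (h.opensRange : Set Z) := by
    change IsCompact (Set.range h)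
    exact isCompact_range h.continuous
  have haff : IsAffineOpen h.opensRange :=
    isAffineOpen_of_dimOne Z (stalk_dimOne_of_affine Z hdimZ) h.opensRange hcomp
  haveI : IsAffine (h.opensRange : Scheme.{u}) := haff
  exact IsAffine.of_isIso h.isoOpensRange.hom

end Groth.Agent.Lead.FinZMT
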