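import Mathlib

set_option autoImplicit false
set_option linter.style.haveILetI false
set_option linter.unusedSectionVars false

universe u

namespace Groth.Agent.Lead.FinrankEt

open TensorProduct

/-- kernel of `x ↦ 1 ⊗ x : B → k ⊗[A] B` is contained in `m • ⊤` where `m = ker (A → k)`. -/
theorem ker_mk_le {A B k : Type u} [CommRing A] [CommRing B] [Algebra A B] [Field k] [Algebra A k]
    (hs : Function.Surjective (algebraMap A k))
    (x : B) (hx : (1 : k) ⊗ₜ[A] x = 0) :
    x ∈ (RingHom.ker (algebraMap A k)) • (⊤ : Submodule A B) := by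
  set m : Ideal A := RingHom.ker (algebraMap A k) with hm
  have hex : Function.Exact (Submodule.subtype m : m →ₗ[A] A) (Algebra.linearMap A k) := by
    intro a
    constructor
    · intro ha
      exact ⟨⟨a, ha⟩, rfl⟩
    · rintro ⟨y, rfl⟩
      exact y.2
  have hsurj : Function.Surjective (Algebra.linearMap A k) := hs
  have hex2 := rTensor_exact B hex hsurj
  have h1 : (LinearMap.rTensor B (Algebra.linearMap A k)) ((1 : A) ⊗ₜ[A] x) = 0 := by
    rw [LinearMap.rTensor_tmul, Algebra.linearMap_apply, map_one, hx]
  obtain ⟨t, ht⟩ := (hex2 _).mp h1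
  have h2 : x ∈ (LinearMap.range (LinearMap.rTensor B (Submodule.subtype m))).map
      (TensorProduct.lid A B : A ⊗[A] B →ₗ[A] B) := by
    refine ⟨_, ⟨t, rfl⟩, ?_⟩
    rw [ht]
    simp
  rwa [Submodule.map_range_rTensor_subtype_lid] at h2

theorem finrank_fractionRing_le' {A B K L k : Type u} [CommRing A] [CommRing B] [IsDomain A]
    [IsDomain B] [Algebra A B] [Module.Finite A B]
    (hinj : Function.Injective (algebraMap A B)) [Field K] [Field L] [Algebra A K]
    [IsFractionRing A K] [Algebra B L] [IsFractionRing B L] [Algebra K L] [Algebra A L]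
    [IsScalarTower A K L] [IsScalarTower A B L] [Field k] [Algebra A k]
    (hs : Function.Surjective (algebraMap A k)) :
    Module.finrank K L ≤ Module.finrank k (k ⊗[A] B) := by
  classical
  set m : Ideal A := RingHom.ker (algebraMap A k) with hm
  haveI : Module.Finite k (k ⊗[A] B) := inferInstance
  set d := Module.finrank k (k ⊗[A] B) with hd
  let v : Module.Basis (Fin d) k (k ⊗[A] B) := Module.finBasis k (k ⊗[A] B)
  have hπ : Function.Surjective (TensorProduct.mk A k B 1) := TensorProduct.mk_surjective A B k hs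
  choose b hb using fun i => hπ (v i)
  set N₀ : Submodule A B := Submodule.span A (Set.range b) with hN₀
  -- step 1
  have h1 : ∀ x : B, ∃ y ∈ N₀, x - y ∈ m • (⊤ : Submodule A B) := by
    intro x
    have hx := v.sum_repr (TensorProduct.mk A k B 1 x)
    choose a ha using fun i => hs (v.repr (TensorProduct.mk A k B 1 x) i)
    refine ⟨∑ i, a i • b i, Submodule.sum_mem _ fun i _ =>
      Submodule.smul_mem _ _ (Submodule.subset_span ⟨i, rfl⟩), ?_⟩
    apply ker_mk_le hs
    have e1 : ∀ i, (1 : k) ⊗ₜ[A] (a i • b i) = v.repr (TensorProduct.mk A k B 1 x) i • v i := by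
      intro i
      rw [← hb i, ← ha i, TensorProduct.mk_apply, TensorProduct.smul_tmul', ← TensorProduct.smul_tmul,
        Algebra.smul_def, smul_eq_mul]
    rw [TensorProduct.tmul_sub, TensorProduct.tmul_sum, sub_eq_zero]
    simp_rw [e1]
    rw [hx, TensorProduct.mk_apply]
  -- step 2 : Nakayama
  have hfg : (⊤ : Submodule A (B ⧸ N₀)).FG := Module.Finite.fg_top
  have hle : (⊤ : Submodule A (B ⧸ N₀)) ≤ m • (⊤ : Submodule A (B ⧸ N₀)) := by
    intro q _
    obtain ⟨x, rfl⟩ := Submodule.Quotient.mk_surjective N₀ q
    obtain ⟨y, hy, hxy⟩ := h1 x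
    have e2 : (Submodule.Quotient.mk x : B ⧸ N₀) = Submodule.Quotient.mk (x - y) := by
      rw [Submodule.Quotient.mk_sub, (Submodule.Quotient.mk_eq_zero N₀).mpr hy, sub_zero]
    rw [e2]
    have : N₀.mkQ (x - y) ∈ (m • (⊤ : Submodule A B)).map N₀.mkQ := ⟨_, hxy, rfl⟩
    rw [Submodule.map_smul''] at this
    exact Submodule.smul_mono le_rfl le_top this
  obtain ⟨r, hr1, hr2⟩ :=
    Submodule.exists_sub_one_mem_and_smul_eq_zero_of_fg_of_le_smul m _ hfg hle
  have hr0 : r ≠ 0 := by
    rintro rfl
    have : algebraMap A k (0 - 1) = 0 := hr1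
    rw [map_sub, map_zero, map_one, zero_sub, neg_eq_zero] at this
    exact one_ne_zero this
  have hrB : ∀ x : B, r • x ∈ N₀ := by
    intro x
    have := hr2 (Submodule.Quotient.mk x) trivial
    rwa [← Submodule.Quotient.mk_smul, Submodule.Quotient.mk_eq_zero] at this
  -- step 3 : span
  let w : Fin d → L := fun i => algebraMap B L (b i)
  have hBL : Function.Injective (algebraMap B L) := IsFractionRing.injective B L
  have hAK : Function.Injective (algebraMap A K) := IsFractionRing.injective A K
  have hspan : Submodule.span K (Set.range w) = ⊤ := by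
    rw [eq_top_iff]
    intro ℓ _
    obtain ⟨p, q, hq, rfl⟩ := IsFractionRing.div_surjective (A := B) ℓ
    haveI : Algebra.IsAlgebraic A B := Algebra.IsIntegral.isAlgebraic
    obtain ⟨c, s, hs0, hcs⟩ := Algebra.IsAlgebraic.exists_smul_eq_mul A p
      (nonZeroDivisors.ne_zero hq)
    -- r • c ∈ N₀
    have hrc := hrB c
    rw [hN₀, Submodule.mem_span_range_iff_exists_fun] at hrc
    obtain ⟨g, hg⟩ := hrc
    have hq0 : algebraMap B L q ≠ 0 := by
      rw [Ne, map_eq_zero_iff _ hBL]; exact nonZeroDivisors.ne_zero hq
    have hrs : algebraMap A K (r * s) ≠ 0 := by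
      rw [Ne, map_eq_zero_iff _ hAK]; exact mul_ne_zero hr0 hs0
    have key : algebraMap B L p / algebraMap B L q
        = ∑ i, ((algebraMap A K (r * s))⁻¹ * algebraMap A K (g i)) • w i := by
      have h3 : algebraMap B L (r • c) = ∑ i, algebraMap A K (g i) • w i := by
        rw [← hg, map_sum]
        refine Finset.sum_congr rfl fun i _ => ?_
        rw [Algebra.smul_def, map_mul, ← IsScalarTower.algebraMap_apply A B L,
          IsScalarTower.algebraMap_apply A K L, ← Algebra.smul_def]
      have h4 : algebraMap A L s * algebraMap B L p = algebraMap B L q * algebraMap B L c := by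
        rw [IsScalarTower.algebraMap_apply A B L, ← map_mul, ← map_mul, ← Algebra.smul_def, hcs]
      have h5 : algebraMap A L r * algebraMap B L c = ∑ i, algebraMap A K (g i) • w i := by
        rw [← h3, Algebra.smul_def, map_mul, ← IsScalarTower.algebraMap_apply A B L]
      have hs1 : algebraMap A L s ≠ 0 := by
        rw [IsScalarTower.algebraMap_apply A K L, Ne, map_eq_zero_iff _ (algebraMap K L).injective,
          map_eq_zero_iff _ hAK]
        exact hs0
      have hr1' : algebraMap A L r ≠ 0 := by
        rw [IsScalarTower.algebraMap_apply A K L, Ne, map_eq_zero_iff _ (algebraMap K L).injective,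
          map_eq_zero_iff _ hAK]
        exact hr0
      simp_rw [mul_smul]
      rw [← Finset.smul_sum, ← h5, Algebra.smul_def, map_inv₀, ← IsScalarTower.algebraMap_apply A K L,
        map_mul]
      field_simp
      linear_combination h4
    rw [key]
    exact Submodule.sum_mem _ fun i _ => Submodule.smul_mem _ _ (Submodule.subset_span ⟨i, rfl⟩)
  calc Module.finrank K L = Module.finrank K (⊤ : Submodule K L) := (finrank_top K L).symm
    _ = Module.finrank K (Submodule.span K (Set.range w)) := by rw [hspan]
    _ ≤ Fintype.card (Fin d) := finrank_range_le_card w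
    _ = d := Fintype.card_fin d

theorem finrank_fractionRing_le {A B K L k : Type u} [CommRing A] [CommRing B] [IsDomain A]
    [IsDomain B] [Algebra A B] [Module.Finite A B]
    (hinj : Function.Injective (algebraMap A B)) [Field K] [Field L] [Algebra A K]
    [IsFractionRing A K] [Algebra B L] [IsFractionRing B L] [Algebra K L] [Algebra A L]
    [IsScalarTower A K L] [IsScalarTower A B L] [Field k] (eps : A →+* k)
    (heps : Function.Surjective eps) :
    letI := eps.toAlgebra
    Module.finrank K L ≤ Module.finrank k (TensorProduct A k B) := by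
  letI := eps.toAlgebra
  exact finrank_fractionRing_le' hinj heps

theorem finrank_le_card_ringHom' {A B k : Type u} [CommRing A] [CommRing B] [Field k]
    [IsAlgClosed k] [Algebra A B] [Module.Finite A B] [Algebra.Etale A B] [Algebra A k] :
    Module.finrank k (k ⊗[A] B) ≤
      Nat.card {β : B →+* k // β.comp (algebraMap A B) = algebraMap A k} := by
  classical
  haveI : Algebra.Etale k (k ⊗[A] B) := inferInstance
  obtain ⟨I, hI, Ai, hF, hAlg, e, hfin⟩ :=
    (Algebra.Etale.iff_exists_algEquiv_prod k (k ⊗[A] B)).mp inferInstance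
  haveI := Fintype.ofFinite I
  haveI : ∀ i, Module.Finite k (Ai i) := fun i => (hfin i).1
  have hbij : ∀ i, Function.Bijective (algebraMap k (Ai i)) := fun i =>
    IsAlgClosed.algebraMap_bijective_of_isIntegral
  let ei : ∀ i, Ai i ≃ₐ[k] k := fun i => (AlgEquiv.ofBijective (Algebra.ofId k (Ai i)) (hbij i)).symm
  have hrk : ∀ i, Module.finrank k (Ai i) = 1 := fun i => by
    rw [LinearEquiv.finrank_eq (ei i).toLinearEquiv, Module.finrank_self]
  have hfr : Module.finrank k (k ⊗[A] B) = Fintype.card I := by
    rw [LinearEquiv.finrank_eq e.toLinearEquiv, Module.finrank_pi_fintype]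
    simp [hrk]
  let χ : I → ((k ⊗[A] B) →ₐ[k] k) := fun i =>
    (ei i).toAlgHom.comp ((Pi.evalAlgHom k Ai i).comp e.toAlgHom)
  let incl : B →ₐ[A] k ⊗[A] B := Algebra.TensorProduct.includeRight
  have hχ : ∀ (χ₁ : (k ⊗[A] B) →ₐ[k] k) (a : A), χ₁ (incl (algebraMap A B a)) = algebraMap A k a := by
    intro χ₁ a
    rw [AlgHom.commutes, IsScalarTower.algebraMap_apply A k (k ⊗[A] B), AlgHom.commutes]
    rfl
  let β : I → {β : B →+* k // β.comp (algebraMap A B) = algebraMap A k} := fun i =>
    ⟨(χ i).toRingHom.comp incl.toRingHom, by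
      ext a
      exact hχ (χ i) a⟩
  have hdet : ∀ (χ₁ χ₂ : (k ⊗[A] B) →ₐ[k] k), (∀ x : B, χ₁ (incl x) = χ₂ (incl x)) → χ₁ = χ₂ := by
    intro χ₁ χ₂ h
    apply AlgHom.ext
    intro t
    induction t using TensorProduct.induction_on with
    | zero => simp
    | tmul c x =>
      have : c ⊗ₜ[A] x = c • incl x := by
        simp [incl, TensorProduct.smul_tmul']
      rw [this, map_smul, map_smul, h]
    | add t₁ t₂ h₁ h₂ => rw [map_add, map_add, h₁, h₂]
  have hβinj : Function.Injective β := by
    intro i j hij
    by_contra hne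
    have h1 : χ i = χ j := by
      apply hdet
      intro x
      have := congrArg (fun b => b.1 x) hij
      exact this
    have h3 : ∀ j', χ j' (e.symm (Pi.single i 1)) = ei j' ((Pi.single i (1 : Ai i) : ∀ i, Ai i) j') := by
      intro j'
      show ei j' (e (e.symm _) j') = _
      rw [AlgEquiv.apply_symm_apply]
    have h2 := congrArg (fun f => f (e.symm (Pi.single i 1))) h1
    simp only [h3, Pi.single_eq_same, Pi.single_eq_of_ne (Ne.symm hne), map_one, map_zero] at h2
    exact one_ne_zero h2
  -- finiteness of the target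
  haveI : Finite ((k ⊗[A] B) →ₐ[k] k) := Finite.algHom k (k ⊗[A] B) k
  let toAH : {β : B →+* k // β.comp (algebraMap A B) = algebraMap A k} → (B →ₐ[A] k) :=
    fun β => { β.1 with commutes' := fun a => RingHom.congr_fun β.2 a }
  let lift : {β : B →+* k // β.comp (algebraMap A B) = algebraMap A k} → ((k ⊗[A] B) →ₐ[k] k) :=
    fun β => Algebra.TensorProduct.lift (Algebra.ofId k k) (toAH β) (fun _ _ => Commute.all _ _)
  have hlift : Function.Injective lift := by
    intro β₁ β₂ h
    apply Subtype.ext
    ext x
    have := congrArg (fun f => f ((1 : k) ⊗ₜ[A] x)) h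
    simpa [lift, toAH] using this
  haveI : Finite {β : B →+* k // β.comp (algebraMap A B) = algebraMap A k} :=
    Finite.of_injective lift hlift
  rw [hfr, ← Nat.card_eq_fintype_card]
  exact Nat.card_le_card_of_injective β hβinj

theorem finrank_le_card_ringHom {A B k : Type u} [CommRing A] [CommRing B] [Field k]
    [IsAlgClosed k] [Algebra A B] [Module.Finite A B] [Algebra.Etale A B] (eps : A →+* k)
    (heps : Function.Surjective eps) :
    letI := eps.toAlgebra
    Module.finrank k (TensorProduct A k B) ≤
      Nat.card {β : B →+* k // β.comp (algebraMap A B) = eps} := by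
  letI := eps.toAlgebra
  exact finrank_le_card_ringHom' (A := A) (B := B) (k := k)


end Groth.Agent.Lead.FinrankEt
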