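import Mathlib
import Groth.Prelude.Def_Fitting
import Groth.Agent.Lib.Helper4.Fitting13
import Groth.Agent.Lib.Helper4.IdealComap

/-!
# Fitting ideals of finite morphisms: charts and base change (lead)
-/

set_option autoImplicit false
set_option backward.isDefEq.respectTransparency.types false
set_option synthInstance.maxHeartbeats 400000
set_option maxHeartbeats 1000000
set_option linter.style.haveILetI false
set_option linter.unusedSectionVars false

universe u
open CategoryTheory CategoryTheory.Limits AlgebraicGeometry TopologicalSpace TensorProduct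

namespace Groth.Agent.Lead.FitFin

open Groth.Agent.Helper4.Fitting

/-- ring-level base change of Fitting ideals along a pushout square of commutative rings -/
theorem fitt_of_isPushout {R S T P : CommRingCat.{u}} {f : R ⟶ S} {g : R ⟶ T}
    {inl : S ⟶ P} {inr : T ⟶ P} (h : IsPushout f g inl inr) (hfin : f.hom.Finite) (k : ℕ) :
    (letI := inr.hom.toAlgebra; Fitt.ideal T P k) =
      (letI := f.hom.toAlgebra; Fitt.ideal R S k).map g.hom := by
  algebraize [f.hom, g.hom, inl.hom, inr.hom, inl.hom.comp f.hom]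
  have : IsScalarTower R T P := .of_algebraMap_eq' <| congr($(h.1.1).hom)
  have h1 : Algebra.IsPushout R S T P := CommRingCat.isPushout_iff_isPushout.mp h
  have h2 : Algebra.IsPushout R T S P := h1.symm
  have hb := h2.out
  haveI : Module.Finite R S := hfin
  rw [← ideal_congr (R := T) hb.equiv k, ideal_baseChange]
  rfl

variable {X Y : Scheme.{u}} (f : X ⟶ Y)

/-- the `k`-th Fitting ideal of `Γ(X, f⁻¹V)` over `Γ(Y, V)` -/
noncomputable def fid (V : Y.Opens) (k : ℕ) : Ideal Γ(Y, V) :=
  letI := (f.app V).hom.toAlgebra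
  Fitt.ideal Γ(Y, V) Γ(X, f ⁻¹ᵁ V) k

theorem chart_bc {P T : Scheme.{u}} {fst : P ⟶ X} {snd : P ⟶ T} {h : T ⟶ Y}
    (H : IsPullback fst snd f h) [IsAffineHom f]
    {V : Y.Opens} (hV : IsAffineOpen V) {W : T.Opens} (hW : IsAffineOpen W) (e : W ≤ h ⁻¹ᵁ V)
    (hfin : (f.app V).hom.Finite) (k : ℕ) :
    fid snd W k = (fid f V k).map (h.appLE V W e).hom := by
  have hUY : snd ⁻¹ᵁ W = fst ⁻¹ᵁ (f ⁻¹ᵁ V) ⊓ snd ⁻¹ᵁ W := by
    refine le_antisymm (le_inf ?_ le_rfl) inf_le_right
    intro x hx
    have h1 : h (snd x) ∈ V := e hx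
    have h2 : f (fst x) = h (snd x) := by
      rw [← Scheme.Hom.comp_apply, ← Scheme.Hom.comp_apply, H.w]
    change f (fst x) ∈ V
    rw [h2]; exact h1
  have hX : IsAffineOpen (f ⁻¹ᵁ V) := hV.preimage f
  have hiso := isIso_pushoutSection_of_isAffineOpen H e (le_refl (f ⁻¹ᵁ V)) hUY hV hW hX
  have hpo := (isIso_pushoutSection_iff H e (le_refl (f ⁻¹ᵁ V)) hUY).1 hiso
  have e1 : f.appLE V (f ⁻¹ᵁ V) (le_refl _) = f.app V := (Scheme.Hom.app_eq_appLE f).symm
  have e2 : snd.appLE W (snd ⁻¹ᵁ W) (le_refl _) = snd.app W := (Scheme.Hom.app_eq_appLE snd).symm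
  rw [e1, e2] at hpo
  exact fitt_of_isPushout hpo hfin k

end Groth.Agent.Lead.FitFin
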