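import Mathlib
import Groth.Agent.Lib.Lead.FitFin1

/-!
# The Fitting ideal sheaves of a finite morphism; base change (lead)
-/

set_option autoImplicit false
set_option backward.isDefEq.respectTransparency.types false
set_option synthInstance.maxHeartbeats 400000
set_option maxHeartbeats 1000000
set_option linter.style.haveILetI false
set_option linter.unusedSectionVars false

universe u
open CategoryTheory CategoryTheory.Limits AlgebraicGeometry TopologicalSpace TensorProduct

namespace Groth.Agent.Lead.FitFin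

open Groth.Agent.Helper4.Fitting

variable {X Y : Scheme.{u}} (f : X ⟶ Y)

theorem finite_app [IsFinite f] {V : Y.Opens} (hV : IsAffineOpen V) : (f.app V).hom.Finite :=
  IsFinite.finite_app f V hV

/-- the Fitting ideal sheaves of a finite morphism -/
noncomputable def fitt [IsFinite f] (k : ℕ) : Y.IdealSheafData where
  ideal V := fid f V.1 k
  map_ideal_basicOpen V g := by
    have H : IsPullback (𝟙 X) f f (𝟙 Y) := IsPullback.of_horiz_isIso ⟨by simp⟩
    have e : Y.basicOpen g ≤ (𝟙 Y) ⁻¹ᵁ V.1 := Y.basicOpen_le g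
    have h1 := chart_bc f H V.2 (V.2.basicOpen g) e (finite_app f V.2) k
    change _ = fid f (Y.basicOpen g) k
    rw [h1]
    congr 2

theorem fitt_ideal [IsFinite f] (k : ℕ) (V : Y.affineOpens) : (fitt f k).ideal V = fid f V.1 k := rfl

theorem fitt_mono [IsFinite f] {k k' : ℕ} (h : k ≤ k') : fitt f k ≤ fitt f k' := by
  rw [Scheme.IdealSheafData.le_def]
  intro V
  letI := (f.app V.1).hom.toAlgebra
  exact ideal_mono h

/-- base change of the Fitting ideal sheaves of a finite morphism -/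
theorem comap_fitt {P T : Scheme.{u}} {fst : P ⟶ X} {snd : P ⟶ T} {h : T ⟶ Y}
    (H : IsPullback fst snd f h) [IsFinite f] [IsFinite snd] (k : ℕ) :
    (fitt f k).comap h = fitt snd k := by
  let ι := {t : T.affineOpens × Y.affineOpens // t.1.1 ≤ h ⁻¹ᵁ t.2.1}
  refine Scheme.IdealSheafData.ext_of_iSup_eq_top (ι := ι) (fun t => t.1.1) ?_ ?_
  · rw [eq_top_iff]
    intro y _
    obtain ⟨_, ⟨U, hU, rfl⟩, hyU, -⟩ := Y.isBasis_affineOpens.exists_subset_of_mem_open
      (Set.mem_univ (h y)) isOpen_univ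
    obtain ⟨_, ⟨U', hU', rfl⟩, hyU', hUU'⟩ :=
      T.isBasis_affineOpens.exists_subset_of_mem_open
        (show y ∈ ((h ⁻¹ᵁ U : T.Opens) : Set _) from hyU) (h ⁻¹ᵁ U).2
    exact Opens.mem_iSup.mpr ⟨⟨⟨⟨U', hU'⟩, ⟨U, hU⟩⟩, hUU'⟩, hyU'⟩
  · rintro ⟨⟨⟨U', hU'⟩, ⟨U, hU⟩⟩, e⟩
    change ((fitt f k).comap h).ideal ⟨U', hU'⟩ = (fitt snd k).ideal ⟨U', hU'⟩
    rw [Groth.Agent.Helper4.IdealComap.ideal_comap_eq_map h _ ⟨U', hU'⟩ ⟨U, hU⟩ e]
    exact (chart_bc f H hU hU' e (finite_app f hU) k).symm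

/-- the Fitting ideal sheaves only depend on the morphism up to isomorphism of the source -/
theorem fitt_congr {X' : Scheme.{u}} (f' : X' ⟶ Y) (a : X ⟶ X') [IsIso a] (ha : a ≫ f' = f)
    [IsFinite f] [IsFinite f'] (k : ℕ) : fitt f k = fitt f' k := by
  have H : IsPullback a f f' (𝟙 Y) := IsPullback.of_horiz_isIso ⟨by simp [ha]⟩
  rw [← comap_fitt f' H k, Scheme.IdealSheafData.comap_id]

end Groth.Agent.Lead.FitFin
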