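import Mathlib
import Groth.Agent.Lib.Lead.FitFin2
import Groth.Agent.Lib.Helper4.Fitting10
import Groth.Prelude.Def_Mor2

/-!
# Fitting conditions give finite locally free of given degree (ring level) (lead)
-/

set_option autoImplicit false
set_option backward.isDefEq.respectTransparency.types false
set_option synthInstance.maxHeartbeats 400000
set_option maxHeartbeats 1000000
set_option linter.style.haveILetI false
set_option linter.unusedSectionVars false

universe u
open TensorProduct

namespace Groth.Agent.Lead.FitFin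

open Groth.Agent.Helper4.Fitting

section Ring

variable {R : Type u} [CommRing R] {M : Type u} [AddCommGroup M] [Module R M] [Module.Finite R M]

theorem ring_flf (d : ℕ)
    (h1 : ∀ k, k < d → Fitt.ideal R M k = ⊥) (h2 : ∀ k, d ≤ k → Fitt.ideal R M k = ⊤) :
    Module.Flat R M ∧ Module.FinitePresentation R M ∧
      ∀ p : PrimeSpectrum R, Module.rankAtStalk M p = d := by
  let s : Set R := {f | Module.Free (Localization.Away f) (LocalizedModule (Submonoid.powers f) M) ∧
    Module.finrank (Localization.Away f) (LocalizedModule (Submonoid.powers f) M) = d}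
  have hloc : ∀ (p : Ideal R) [p.IsPrime], ∃ f ∈ s, f ∉ p := by
    intro p _
    obtain ⟨f, hf, h3, h4⟩ := free_of_ideal_conditions (M := M) d h1 h2 p
    exact ⟨f, ⟨h3, h4⟩, hf⟩
  have hs : Ideal.span s = ⊤ := by
    by_contra hne
    obtain ⟨m, hm, hle⟩ := Ideal.exists_le_maximal _ hne
    haveI := hm.isPrime
    obtain ⟨f, hfs, hfm⟩ := hloc m
    exact hfm (hle (Ideal.subset_span hfs))
  have hflat : Module.Flat R M := by
    refine Module.flat_of_localized_span R M s hs ?_
    rintro ⟨f, hf1, hf2⟩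
    haveI := hf1
    exact Module.Flat.trans R (Localization.Away f) _
  refine ⟨hflat, ?_, ?_⟩
  · refine Module.FinitePresentation.of_localizationSpan s hs ?_
    rintro ⟨f, hf1, hf2⟩
    haveI := hf1
    haveI : Module.Finite (Localization.Away f) (LocalizedModule (Submonoid.powers f) M) :=
      inferInstance
    exact Module.finitePresentation_of_projective _ _
  · intro p
    obtain ⟨f, ⟨hf1, hf2⟩, hfp⟩ := hloc p.asIdeal
    haveI := hf1
    -- the prime of the localization
    have hdisj : Disjoint (Submonoid.powers f : Set R) (p.asIdeal : Set R) := by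
      rw [Set.disjoint_left]
      rintro _ ⟨n, rfl⟩ hn
      exact hfp (p.2.mem_of_pow_mem n hn)
    let q : PrimeSpectrum (Localization.Away f) :=
      ⟨p.asIdeal.map (algebraMap R (Localization.Away f)),
        IsLocalization.isPrime_of_isPrime_disjoint (Submonoid.powers f) _ _ p.2 hdisj⟩
    have hq : q.comap (algebraMap R (Localization.Away f)) = p := by
      ext1
      exact IsLocalization.comap_map_of_isPrime_disjoint (Submonoid.powers f) _ p.2 hdisj
    have hbc := IsLocalizedModule.isBaseChange (Submonoid.powers f) (Localization.Away f)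
      (LocalizedModule.mkLinearMap (Submonoid.powers f) M)
    have h5 := Module.rankAtStalk_isBaseChange hbc q
    rw [hq] at h5
    rw [← h5, Module.rankAtStalk_eq_finrank_of_free]
    exact hf2

end Ring

end Groth.Agent.Lead.FitFin

namespace Groth.Agent.Lead.FitFin

open CategoryTheory CategoryTheory.Limits AlgebraicGeometry TopologicalSpace

section Sch

variable {P W : Scheme.{u}} (π : P ⟶ W) [IsFinite π]

theorem flf_of_fitt_affine [IsAffine W] (d : ℕ)
    (h1 : ∀ k, k < d → fitt π k = ⊥) (h2 : ∀ k, d ≤ k → fitt π k = ⊤) :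
    Mor2.IsFinLocFreeOfDeg d π := by
  haveI : IsAffine P := isAffine_of_isAffineHom π
  letI alg : Algebra Γ(W, ⊤) Γ(P, π ⁻¹ᵁ ⊤) := (π.app ⊤).hom.toAlgebra
  haveI : Module.Finite Γ(W, ⊤) Γ(P, π ⁻¹ᵁ ⊤) := finite_app π (isAffineOpen_top W)
  have k1 : ∀ k, k < d → Fitt.ideal Γ(W, ⊤) Γ(P, π ⁻¹ᵁ ⊤) k = ⊥ := by
    intro k hk
    have := congrArg (fun I => I.ideal ⟨⊤, isAffineOpen_top W⟩) (h1 k hk)
    simpa [fitt_ideal, fid] using this
  have k2 : ∀ k, d ≤ k → Fitt.ideal Γ(W, ⊤) Γ(P, π ⁻¹ᵁ ⊤) k = ⊤ := by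
    intro k hk
    have := congrArg (fun I => I.ideal ⟨⊤, isAffineOpen_top W⟩) (h2 k hk)
    simpa [fitt_ideal, fid] using this
  obtain ⟨hfl, hfp, hrk⟩ := ring_flf (R := Γ(W, ⊤)) (M := Γ(P, π ⁻¹ᵁ ⊤)) d k1 k2
  have hflat : π.appTop.hom.Flat := hfl
  have hfin : π.appTop.hom.Finite := finite_app π (isAffineOpen_top W)
  have hfpa : π.appTop.hom.FinitePresentation := by
    change Algebra.FinitePresentation Γ(W, ⊤) Γ(P, π ⁻¹ᵁ ⊤)
    infer_instance
  haveI hF : Flat π := (HasRingHomProperty.iff_of_isAffine (P := @Flat)).2 hflat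
  haveI hL : LocallyOfFinitePresentation π :=
    (HasRingHomProperty.iff_of_isAffine (P := @LocallyOfFinitePresentation)).2 hfpa
  refine ⟨⟨inferInstance, hF, hL⟩, fun w => ?_⟩
  haveI : Flat (Spec.map π.appTop) := (Flat.SpecMap_iff).2 hflat
  haveI : IsFinite (Spec.map π.appTop) := (IsFinite.SpecMap_iff _).2 hfin
  have H : IsPullback P.isoSpec.hom π (Spec.map π.appTop) W.isoSpec.hom :=
    IsPullback.of_horiz_isIso ⟨Scheme.isoSpec_hom_naturality π⟩
  rw [Scheme.Hom.finrank_of_isPullback _ _ _ _ H w,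
    Scheme.Hom.finrank_SpecMap_eq_finrank hfin hflat]
  exact hrk _

theorem flf_of_fitt (d : ℕ)
    (h1 : ∀ k, k < d → fitt π k = ⊥) (h2 : ∀ k, d ≤ k → fitt π k = ⊤) :
    Mor2.IsFinLocFreeOfDeg d π := by
  have hi : ∀ i, Mor2.IsFinLocFreeOfDeg d (pullback.snd π (W.affineCover.f i)) := by
    intro i
    refine flf_of_fitt_affine _ d (fun k hk => ?_) (fun k hk => ?_)
    · rw [← comap_fitt π (IsPullback.of_hasPullback π (W.affineCover.f i)) k, h1 k hk,
        Scheme.IdealSheafData.comap_bot]
    · rw [← comap_fitt π (IsPullback.of_hasPullback π (W.affineCover.f i)) k, h2 k hk,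
        Scheme.IdealSheafData.comap_top]
  haveI hF : Flat π := by
    rw [IsZariskiLocalAtTarget.iff_of_openCover (P := @Flat) W.affineCover]
    intro i
    exact (hi i).1.2.1
  haveI hL : LocallyOfFinitePresentation π := by
    rw [IsZariskiLocalAtTarget.iff_of_openCover (P := @LocallyOfFinitePresentation) W.affineCover]
    intro i
    exact (hi i).1.2.2
  refine ⟨⟨inferInstance, hF, hL⟩, fun w => ?_⟩
  obtain ⟨w', hw'⟩ := W.affineCover.covers w
  rw [← hw', ← Scheme.Hom.finrank_pullback_snd]
  exact (hi _).2 w'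

end Sch

end Groth.Agent.Lead.FitFin
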