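import Mathlib
import Groth.Prelude.Def_Grpd
import Groth.Agent.S7457
import Groth.Agent.Lib.Lead.FitFin3
import Groth.Agent.Lib.Lead.FittSh
import Groth.Agent.Lib.Helper7.FibRank.Main

/-!
# The Fitting stratification of a finite groupoid (lead)
-/

set_option autoImplicit false
set_option backward.isDefEq.respectTransparency.types false
set_option synthInstance.maxHeartbeats 400000
set_option maxHeartbeats 1000000
set_option linter.style.haveILetI false
set_option linter.unusedSectionVars false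

universe u
open CategoryTheory CategoryTheory.Limits AlgebraicGeometry TopologicalSpace

namespace Groth.Agent.Lead.FitFin

open Groth.Agent.Helper4.Fitting

section Gen

theorem exists_subscheme_iso_of_eq {X : Scheme.{u}} (J J' : X.IdealSheafData) (h : J = J') :
    ∃ e : J.subscheme ≅ J'.subscheme, e.hom ≫ J'.subschemeι = J.subschemeι := by
  subst h
  exact ⟨Iso.refl _, Category.id_comp _⟩

theorem exists_iso_of_comap_eq {X Y : Scheme.{u}} (I : Y.IdealSheafData) (f g : X ⟶ Y)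
    (h : I.comap f = I.comap g) :
    ∃ φ : pullback f I.subschemeι ≅ pullback g I.subschemeι,
      φ.hom ≫ pullback.fst g I.subschemeι = pullback.fst f I.subschemeι := by
  obtain ⟨e, he⟩ := exists_subscheme_iso_of_eq _ _ h
  refine ⟨(I.comapIso f).symm ≪≫ e ≪≫ I.comapIso g, ?_⟩
  simp only [Iso.trans_hom, Iso.symm_hom, Category.assoc,
    Scheme.IdealSheafData.comapIso_hom_fst, he, Scheme.IdealSheafData.comapIso_inv_subschemeι]

/-- the stratum `V(A) ∖ V(B)` kills `A` and avoids `B` -/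
theorem comap_stratum {X : Scheme.{u}} (A B : X.IdealSheafData) :
    A.comap ((A.subschemeι ⁻¹ᵁ B.support.compl).ι ≫ A.subschemeι) = ⊥ ∧
    B.comap ((A.subschemeι ⁻¹ᵁ B.support.compl).ι ≫ A.subschemeι) = ⊤ := by
  refine ⟨(Groth.Agent.Helper7.FibRank.exists_fac_subschemeι_iff A _).1 ⟨_, rfl⟩, ?_⟩
  rw [Groth.Agent.Helper7.FibRank.comap_eq_top_iff]
  intro t
  exact t.2

end Gen

variable {S : Scheme.{u}} (G : Grpd.GroupoidScheme S) [IsFinite G.s]

theorem comap_s_eq_comap_t (k : ℕ) : (fitt G.s k).comap G.s = (fitt G.s k).comap G.t := by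
  rw [comap_fitt G.s (Groth.Agent.S7457.Aux.isPullback_c G) k,
    comap_fitt G.s (IsPullback.of_hasPullback G.s G.t) k]

theorem app_s_injective (V : G.U.Opens) : Function.Injective (G.s.app V).hom := by
  have h3 : G.s.app V ≫ G.e.app (G.s ⁻¹ᵁ V) = (G.e ≫ G.s).app V :=
    (Scheme.Hom.comp_app G.e G.s V).symm
  have h4 := Scheme.Hom.congr_app G.e_s V
  haveI : IsIso ((G.e ≫ G.s).app V) := by rw [h4]; infer_instance
  have h5 : ∀ a, (G.e.app (G.s ⁻¹ᵁ V)).hom ((G.s.app V).hom a) = ((G.e ≫ G.s).app V).hom a :=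
    fun a => by rw [← h3]; rfl
  intro a b hab
  have h6 : ((G.e ≫ G.s).app V).hom a = ((G.e ≫ G.s).app V).hom b := by
    rw [← h5, ← h5, hab]
  exact (ConcreteCategory.bijective_of_isIso ((G.e ≫ G.s).app V)).1 h6

theorem fitt_zero_eq_bot : fitt G.s 0 = ⊥ := by
  refine le_antisymm ?_ bot_le
  rw [Scheme.IdealSheafData.le_def]
  intro V
  rw [Scheme.IdealSheafData.ideal_bot]
  letI := (G.s.app V.1).hom.toAlgebra
  haveI : Module.Finite Γ(G.U, V.1) Γ(G.R, G.s ⁻¹ᵁ V.1) := finite_app G.s V.2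
  intro a ha
  have h1 := ideal_zero_le_annihilator (R := Γ(G.U, V.1)) (M := Γ(G.R, G.s ⁻¹ᵁ V.1)) ha
  have h2 : (G.s.app V.1).hom a = 0 := by
    have := Module.mem_annihilator.1 h1 (1 : Γ(G.R, G.s ⁻¹ᵁ V.1))
    rwa [Algebra.smul_def, mul_one] at this
  have h3 : a = 0 := app_s_injective G V.1 (by rw [h2, map_zero])
  rw [h3]
  exact Submodule.zero_mem _

theorem iInter_support_fitt : (⋂ r, ((fitt G.s r).support : Set G.U)) = ∅ := by
  rw [Set.eq_empty_iff_forall_notMem]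
  intro x hx
  obtain ⟨_, ⟨V, hV, rfl⟩, hxV, -⟩ := G.U.isBasis_affineOpens.exists_subset_of_mem_open
    (Set.mem_univ x) isOpen_univ
  letI := (G.s.app V).hom.toAlgebra
  haveI : Module.Finite Γ(G.U, V) Γ(G.R, G.s ⁻¹ᵁ V) := finite_app G.s hV
  obtain ⟨n, g, hg⟩ := Module.Finite.exists_fin (R := Γ(G.U, V)) (M := Γ(G.R, G.s ⁻¹ᵁ V))
  have h1 : x ∈ (fitt G.s n).support := Set.mem_iInter.1 hx n
  rw [Groth.Agent.Lead.FittSh.mem_support_iff_le (fitt G.s n) hV ⟨x, hxV⟩] at h1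
  have h2 : (fitt G.s n).ideal ⟨V, hV⟩ = ⊤ := ideal_eq_top_of_span g hg n le_rfl
  rw [h2] at h1
  exact (hV.primeIdealOf ⟨x, hxV⟩).2.ne_top (top_le_iff.1 h1)

theorem flf_stratum (r : ℕ) :
    Mor2.IsFinLocFreeOfDeg (r + 1) (pullback.snd G.s
      (((fitt G.s r).subschemeι ⁻¹ᵁ (fitt G.s (r + 1)).support.compl).ι ≫
        (fitt G.s r).subschemeι)) := by
  obtain ⟨hA, hB⟩ := comap_stratum (fitt G.s r) (fitt G.s (r + 1))
  refine flf_of_fitt _ (r + 1) (fun k hk => ?_) (fun k hk => ?_)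
  · rw [← comap_fitt G.s (IsPullback.of_hasPullback G.s _) k, ← le_bot_iff, ← hA]
    exact Scheme.IdealSheafData.comap_mono _ (fitt_mono G.s (by omega))
  · rw [← comap_fitt G.s (IsPullback.of_hasPullback G.s _) k, ← top_le_iff, ← hB]
    exact Scheme.IdealSheafData.comap_mono _ (fitt_mono G.s hk)

theorem main7513 [IsFinite G.t] : ∃ Z : ℕ → G.U.IdealSheafData, Z 0 = ⊥ ∧ Monotone Z ∧
    (⋂ r, ((Z r).support : Set G.U)) = ∅ ∧
    (∀ r, ∃ φ : pullback G.s (Z r).subschemeι ≅ pullback G.t (Z r).subschemeι,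
      φ.hom ≫ pullback.fst G.t (Z r).subschemeι = pullback.fst G.s (Z r).subschemeι) ∧
    ∀ r, Mor2.IsFinLocFreeOfDeg (r + 1) (pullback.snd G.s
      (((Z r).subschemeι ⁻¹ᵁ (Z (r + 1)).support.compl).ι ≫ (Z r).subschemeι)) :=
  ⟨fun r => fitt G.s r, fitt_zero_eq_bot G, fun _ _ h => fitt_mono G.s h, iInter_support_fitt G,
    fun r => exists_iso_of_comap_eq _ _ _ (comap_s_eq_comap_t G r), fun r => flf_stratum G r⟩

end Groth.Agent.Lead.FitFin
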