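import Mathlib
import Groth.Agent.Lib.Lead.FitFin4
import Groth.Agent.Lib.Helper2.Grpd.InvOpen2

/-!
# The open strata of a finite groupoid (topological part) (lead)
-/

set_option autoImplicit false
set_option backward.isDefEq.respectTransparency.types false
set_option synthInstance.maxHeartbeats 400000
set_option maxHeartbeats 1000000
set_option linter.style.haveILetI false
set_option linter.unusedSectionVars false

universe u
open CategoryTheory CategoryTheory.Limits AlgebraicGeometry TopologicalSpace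

namespace Groth.Agent.Lead.FitFin

open Groth.Agent.Helper2.GrpdLib.InvOpen

variable {S : Scheme.{u}} (G : Grpd.GroupoidScheme S) [IsFinite G.s]

theorem support_inv (k : ℕ) (r : G.R) :
    G.s r ∈ (fitt G.s k).support ↔ G.t r ∈ (fitt G.s k).support := by
  have h := congrArg (fun I : G.R.IdealSheafData => (I.support : Set G.R)) (comap_s_eq_comap_t G k)
  simp only [Scheme.IdealSheafData.support_comap] at h
  exact Set.ext_iff.1 h r

/-- invariance of an open subset -/
def Inv (O : G.U.Opens) : Prop := ∀ r : G.R, G.s r ∈ O ↔ G.t r ∈ O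

theorem inv_top : Inv G ⊤ := fun _ => Iff.rfl

theorem inv_inf {O O' : G.U.Opens} (h : Inv G O) (h' : Inv G O') : Inv G (O ⊓ O') :=
  fun r => and_congr (h r) (h' r)

theorem inv_coreOpen (V : G.U.Opens) : Inv G (coreOpen G V) :=
  fun r => ⟨t_mem_core_of_s G _ r, s_mem_core_of_t G _ r⟩

theorem inv_support_compl (k : ℕ) : Inv G (fitt G.s k).support.compl :=
  fun r => not_congr (support_inv G k r)

theorem inv_iSup {ι : Type*} {O : ι → G.U.Opens} (h : ∀ i, Inv G (O i)) : Inv G (⨆ i, O i) := by
  intro r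
  simp only [Opens.mem_iSup]
  exact exists_congr fun i => h i r

theorem inv_preimage {O : G.U.Opens} (h : Inv G O) : G.s ⁻¹ᵁ O = G.t ⁻¹ᵁ O := by
  ext r
  exact h r

/-- the exterior of an open subset -/
def extOpen (O : G.U.Opens) : G.U.Opens := ⟨(closure (O : Set G.U))ᶜ, isClosed_closure.isOpen_compl⟩

/-- the decreasing sequence of invariant opens -/
noncomputable def A : ℕ → G.U.Opens
  | 0 => ⊤
  | (n + 1) => A n ⊓ coreOpen G (extOpen G (A n ⊓ (fitt G.s (n + 1)).support.compl))

/-- the open strata -/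
noncomputable def Wo (n : ℕ) : G.U.Opens := A G n ⊓ (fitt G.s (n + 1)).support.compl

theorem A_succ (n : ℕ) : A G (n + 1) = A G n ⊓ coreOpen G (extOpen G (Wo G n)) := rfl

theorem inv_A (n : ℕ) : Inv G (A G n) := by
  induction n with
  | zero => exact inv_top G
  | succ n ih => rw [A_succ]; exact inv_inf G ih (inv_coreOpen G _)

theorem inv_Wo (n : ℕ) : Inv G (Wo G n) := inv_inf G (inv_A G n) (inv_support_compl G _)

theorem A_succ_le (n : ℕ) : A G (n + 1) ≤ A G n := by rw [A_succ]; exact inf_le_left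

theorem A_antitone : Antitone (A G) := antitone_nat_of_succ_le (A_succ_le G)

theorem A_le_support (n : ℕ) (u : G.U) (hu : u ∈ A G n) : u ∈ (fitt G.s n).support := by
  induction n with
  | zero =>
    rw [fitt_zero_eq_bot, Scheme.IdealSheafData.support_bot]
    trivial
  | succ n ih =>
    by_contra hn
    rw [A_succ] at hu
    have h1 : u ∈ Wo G n := ⟨hu.1, hn⟩
    have h2 : u ∈ extOpen G (Wo G n) := coreOpen_le G _ hu.2
    exact h2 (subset_closure h1)

theorem Wo_le_support (n : ℕ) (u : G.U) (hu : u ∈ Wo G n) : u ∈ (fitt G.s n).support :=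
  A_le_support G n u hu.1

theorem Wo_notMem_support (n : ℕ) (u : G.U) (hu : u ∈ Wo G n) : u ∉ (fitt G.s (n + 1)).support :=
  hu.2

theorem Wo_disjoint {m n : ℕ} (h : m < n) : Disjoint (Wo G m) (Wo G n) := by
  rw [disjoint_iff_inf_le]
  intro u hu
  have h1 : u ∈ A G (m + 1) := A_antitone G h hu.2.1
  rw [A_succ] at h1
  have h2 : u ∈ extOpen G (Wo G m) := coreOpen_le G _ h1.2
  exact h2 (subset_closure hu.1)

theorem Wo_disjoint' {m n : ℕ} (h : m ≠ n) : Disjoint (Wo G m) (Wo G n) := by
  rcases lt_or_gt_of_ne h with h | h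
  · exact Wo_disjoint G h
  · exact (Wo_disjoint G h).symm

/-- the union of the open strata -/
noncomputable def Wtot : G.U.Opens := ⨆ n, Wo G n

theorem inv_Wtot : Inv G (Wtot G) := inv_iSup G (inv_Wo G)

theorem exists_orbit_closure_of_notMem_A (n : ℕ) (u : G.U) (hu : u ∉ A G n) :
    ∃ m, m < n ∧ ∃ r : G.R, G.t r = u ∧ G.s r ∈ closure (Wo G m : Set G.U) := by
  induction n with
  | zero => exact (hu trivial).elim
  | succ n ih =>
    by_cases h1 : u ∈ A G n
    · have h2 : u ∉ coreOpen G (extOpen G (Wo G n)) := fun h => hu (by rw [A_succ]; exact ⟨h1, h⟩)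
      have h3 : ¬ ∀ r : G.R, G.s r = u → G.t r ∈ extOpen G (Wo G n) := h2
      rw [not_forall] at h3
      obtain ⟨r, hr⟩ := h3
      rw [Classical.not_imp] at hr
      obtain ⟨hr1, hr2⟩ := hr
      refine ⟨n, Nat.lt_succ_self n, G.i r, ?_, ?_⟩
      · rw [← Scheme.Hom.comp_apply, G.i_t]; exact hr1
      · rw [← Scheme.Hom.comp_apply, G.i_s]
        by_contra h4
        exact hr2 h4
    · obtain ⟨m, hm, r, hr⟩ := ih h1
      exact ⟨m, Nat.lt_succ_of_lt hm, r, hr⟩

theorem exists_orbit_closure (u : G.U) :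
    ∃ r : G.R, G.t r = u ∧ G.s r ∈ closure (Wtot G : Set G.U) := by
  have h0 := iInter_support_fitt G
  have h1 : ∃ n, u ∉ (fitt G.s n).support := by
    by_contra hcon
    rw [not_exists] at hcon
    have : u ∈ (⋂ r, ((fitt G.s r).support : Set G.U)) :=
      Set.mem_iInter.2 fun n => not_not.1 (hcon n)
    rw [h0] at this
    exact this
  obtain ⟨n, hn⟩ := h1
  obtain ⟨m, -, r, hr1, hr2⟩ := exists_orbit_closure_of_notMem_A G n u
    (fun h => hn (A_le_support G n u h))
  refine ⟨r, hr1, closure_mono ?_ hr2⟩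
  intro x hx
  exact Opens.mem_iSup.2 ⟨m, hx⟩

end Groth.Agent.Lead.FitFin
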