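import Mathlib
import Groth.Agent.Lib.Helper7.FibRank.Main

/-!
# Gluing ideal sheaves along a pairwise disjoint open cover (lead)
-/

set_option autoImplicit false
set_option backward.isDefEq.respectTransparency.types false
set_option synthInstance.maxHeartbeats 400000
set_option maxHeartbeats 1000000
set_option linter.style.haveILetI false
set_option linter.unusedSectionVars false

universe u
open CategoryTheory CategoryTheory.Limits AlgebraicGeometry TopologicalSpace

namespace Groth.Agent.Lead.FitFin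

section Glue

theorem ker_comap_self {X Y : Scheme.{u}} (f : X ⟶ Y) : f.ker.comap f = ⊥ := by
  rw [← le_bot_iff]
  exact Scheme.IdealSheafData.le_map_iff_comap_le.1 (by rw [Scheme.IdealSheafData.map_bot])

theorem comap_inf_of_isOpenImmersion {X Y : Scheme.{u}} (j : X ⟶ Y) [IsOpenImmersion j]
    (I I' : Y.IdealSheafData) : (I ⊓ I').comap j = I.comap j ⊓ I'.comap j := by
  apply Scheme.IdealSheafData.ext
  funext V
  rw [Scheme.IdealSheafData.ideal_inf, Pi.inf_apply,
    Scheme.IdealSheafData.ideal_comap_of_isOpenImmersion,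
    Scheme.IdealSheafData.ideal_comap_of_isOpenImmersion,
    Scheme.IdealSheafData.ideal_comap_of_isOpenImmersion, Scheme.IdealSheafData.ideal_inf,
    Pi.inf_apply, Ideal.comap_inf]

theorem comap_iSup {X Y : Scheme.{u}} (f : X ⟶ Y) {ι : Type*} (J : ι → Y.IdealSheafData) :
    (⨆ i, J i).comap f = ⨆ i, (J i).comap f :=
  (Scheme.IdealSheafData.map_gc f).l_iSup

variable {X : Scheme.{u}} {ι : Type*} (O : ι → X.Opens) (I : ι → X.IdealSheafData)

/-- the union of the other opens -/
def others (n : ι) : X.Opens := ⨆ m : {m // m ≠ n}, O m.1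

/-- `⊤` on `O n`, `⊥` on the other opens -/
noncomputable def indic (n : ι) : X.IdealSheafData := (Scheme.Opens.ι (others O n)).ker

/-- the glued ideal sheaf -/
noncomputable def glueIdeal : X.IdealSheafData := ⨆ n, (I n ⊓ indic O n)

theorem indic_comap_ne {m n : ι} (h : m ≠ n) :
    (indic O n).comap (Scheme.Opens.ι (O m)) = ⊥ := by
  have hle : O m ≤ others O n := le_iSup (fun m : {m // m ≠ n} => O m.1) ⟨m, h⟩
  rw [← X.homOfLE_ι hle, Scheme.IdealSheafData.comap_comp, indic, ker_comap_self,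
    Scheme.IdealSheafData.comap_bot]

theorem others_eq_compl (hd : Pairwise (Function.onFun Disjoint O)) (hcov : ⨆ n, O n = ⊤) (n : ι) :
    (others O n : Set X) = (O n : Set X)ᶜ := by
  ext x
  simp only [others, Opens.coe_iSup, Set.mem_iUnion, Set.mem_compl_iff, SetLike.mem_coe]
  constructor
  · rintro ⟨⟨m, hm⟩, hx⟩ hxn
    exact (disjoint_iff_inf_le.1 (hd hm)) ⟨hx, hxn⟩
  · intro hxn
    have hx : x ∈ (⨆ n, O n) := by rw [hcov]; trivial
    obtain ⟨m, hm⟩ := Opens.mem_iSup.1 hx
    refine ⟨⟨m, ?_⟩, hm⟩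
    rintro rfl
    exact hxn hm

theorem indic_comap_self (hd : Pairwise (Function.onFun Disjoint O)) (hcov : ⨆ n, O n = ⊤) (n : ι) :
    (indic O n).comap (Scheme.Opens.ι (O n)) = ⊤ := by
  have hcl : IsClosed (others O n : Set X) := by
    rw [others_eq_compl O hd hcov n]
    exact (O n).isOpen.isClosed_compl
  haveI : IsClosedImmersion (Scheme.Opens.ι (others O n)) :=
    IsClosedImmersion.of_isPreimmersion _ (by rw [Scheme.Opens.range_ι]; exact hcl)
  rw [Groth.Agent.Helper7.FibRank.comap_eq_top_iff]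
  intro t ht
  have h1 : ((indic O n).support : Set X) = closure (Set.range (Scheme.Opens.ι (others O n))) :=
    Scheme.Hom.support_ker _
  rw [Scheme.Opens.range_ι, hcl.closure_eq, others_eq_compl O hd hcov n] at h1
  have h2 : (Scheme.Opens.ι (O n)) t ∈ ((indic O n).support : Set X) := ht
  rw [h1] at h2
  exact h2 t.2

theorem glueIdeal_comap (hd : Pairwise (Function.onFun Disjoint O)) (hcov : ⨆ n, O n = ⊤) (n : ι) :
    (glueIdeal O I).comap (Scheme.Opens.ι (O n)) = (I n).comap (Scheme.Opens.ι (O n)) := by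
  unfold glueIdeal
  rw [comap_iSup]
  apply le_antisymm
  · apply iSup_le
    intro m
    rw [comap_inf_of_isOpenImmersion]
    by_cases h : m = n
    · subst h; exact inf_le_left
    · rw [indic_comap_ne O (Ne.symm h), inf_bot_eq]
      exact bot_le
  · refine le_trans ?_ (le_iSup _ n)
    rw [comap_inf_of_isOpenImmersion, indic_comap_self O hd hcov n, inf_top_eq]

/-- an ideal sheaf vanishing on each member of an open cover vanishes -/
theorem eq_bot_of_comap_eq_bot {T : Scheme.{u}} {κ : Type*} (Q : κ → T.Opens) (hQ : ⨆ n, Q n = ⊤)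
    (K : T.IdealSheafData) (h : ∀ n, K.comap (Scheme.Opens.ι (Q n)) = ⊥) : K = ⊥ := by
  let κ' := {V : T.affineOpens // ∃ n, V.1 ≤ Q n}
  refine Scheme.IdealSheafData.ext_of_iSup_eq_top (ι := κ') (fun V => V.1) ?_ ?_
  · rw [eq_top_iff]
    intro y _
    have hy : y ∈ (⨆ n, Q n) := by rw [hQ]; trivial
    obtain ⟨n, hn⟩ := Opens.mem_iSup.1 hy
    obtain ⟨_, ⟨V, hV, rfl⟩, hyV, hVQ⟩ := T.isBasis_affineOpens.exists_subset_of_mem_open
      (show y ∈ ((Q n : T.Opens) : Set T) from hn) (Q n).2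
    exact Opens.mem_iSup.mpr ⟨⟨⟨V, hV⟩, n, hVQ⟩, hyV⟩
  · rintro ⟨⟨V, hV⟩, n, hVn⟩
    change K.ideal ⟨V, hV⟩ = (⊥ : T.IdealSheafData).ideal ⟨V, hV⟩
    rw [Scheme.IdealSheafData.ideal_bot]
    have h1 : K ≤ (Scheme.Opens.ι (Q n)).ker := by
      rw [← Scheme.IdealSheafData.map_bot]
      exact Scheme.IdealSheafData.le_map_iff_comap_le.2 (by rw [h n])
    have h2 : K.ideal ⟨V, hV⟩ ≤ RingHom.ker ((Scheme.Opens.ι (Q n)).app V).hom :=
      le_trans ((Scheme.IdealSheafData.le_def.1 h1) ⟨V, hV⟩)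
        (Scheme.Hom.ideal_ker_le _ ⟨V, hV⟩)
    haveI : IsIso ((Scheme.Opens.ι (Q n)).app V) :=
      Scheme.Hom.isIso_app _ V (by rw [Scheme.Opens.opensRange_ι]; exact hVn)
    change K.ideal ⟨V, hV⟩ = ⊥
    rw [eq_bot_iff]
    intro a ha
    have h3 := h2 ha
    rw [RingHom.mem_ker] at h3
    have h4 : a = 0 :=
      (ConcreteCategory.bijective_of_isIso ((Scheme.Opens.ι (Q n)).app V)).1
        (by rw [map_zero]; exact h3)
    rw [h4]
    exact Submodule.zero_mem _

end Glue

end Groth.Agent.Lead.FitFin
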