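import Mathlib
import Groth.Prelude
import Groth.Agent.Lib.Lead.GrpdOmega
import Groth.Agent.Lib.Lead.CMQF12
import Groth.Agent.Lib.Lead.CMAt2
import Groth.Agent.Lib.Helper4.FibDim2

set_option autoImplicit false
set_option backward.isDefEq.respectTransparency.types false
set_option synthInstance.maxHeartbeats 400000
set_option linter.style.haveILetI false
set_option linter.unusedSectionVars false
universe u

open CategoryTheory CategoryTheory.Limits AlgebraicGeometry IsLocalRing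

namespace Groth.Agent.Lead.GrpdCM

open Groth.Agent.Lead.GrpdOmega Groth.Agent.Lead.CMAt Groth.Agent.Lead.CMQF

/-- the two notions of "Cohen–Macaulay at a point" agree -/
theorem grpd_isCMAt_iff {X Y : Scheme.{u}} (f : X ⟶ Y) (x : X) :
    Grpd.IsCMAt f x ↔ MoreMor.IsCMAt f x := by
  obtain ⟨γ, hγ, hk⟩ := Groth.Agent.Helper3.FibStalk.exists_fibre_presentation f x
  let e : (X.presheaf.stalk x ⧸ (maximalIdeal (Y.presheaf.stalk (f x))).map (f.stalkMap x).hom) ≃+*
      (f.fiber (f x)).presheaf.stalk (f.asFiber x) :=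
    (Ideal.quotEquivOfEq hk.symm).trans (RingHom.quotientKerEquivOfSurjective hγ)
  constructor
  · rintro ⟨h1, h2⟩
    exact ⟨h1, cm_of_ringEquiv e h2⟩
  · rintro ⟨h1, h2⟩
    exact ⟨h1, cm_of_ringEquiv e.symm h2⟩

variable {S : Scheme.{u}} (G : Grpd.GroupoidScheme S)

/-- `(α⁻¹)⁻¹ = α` -/
theorem i_i : G.i ≫ G.i = 𝟙 G.R := by
  -- b = i, β = 𝟙
  have hb : G.i ≫ G.s = 𝟙 G.R ≫ G.t := by rw [G.i_s, Category.id_comp]
  have h1 : (G.i ≫ G.i) ≫ G.s = (pullback.lift G.i (𝟙 G.R) hb ≫ G.c) ≫ G.t := by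
    rw [G.comp_t, Category.assoc, G.i_s]
  have key := inv_comp_comp G G.i (𝟙 G.R) hb h1
  -- the inner composite is the identity at the source
  have h2 : pullback.lift G.i (𝟙 G.R) hb ≫ G.c = 𝟙 G.R ≫ G.s ≫ G.e := by
    have := G.i_comp (𝟙 G.R)
    rw [← this]
    congr 1
  have h3 : pullback.lift (G.i ≫ G.i) (pullback.lift G.i (𝟙 G.R) hb ≫ G.c) h1 =
      pullback.lift (G.i ≫ G.i) ((G.i ≫ G.i) ≫ G.s ≫ G.e)
        (by simp only [Category.assoc, G.e_t, Category.comp_id]) := by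
    apply lift_congr
    · rfl
    · rw [h2, Category.id_comp, Category.assoc G.i G.i, ← Category.assoc G.i G.s, G.i_s,
        ← Category.assoc G.i G.t, G.i_t]
  rw [h3, G.comp_e] at key
  exact key

instance : IsIso G.i := ⟨⟨G.i, i_i G, i_i G⟩⟩


section Main

variable [Flat G.s] [LocallyOfFinitePresentation G.s] [Flat G.t] [LocallyOfFinitePresentation G.t]

/-- the Cohen–Macaulay locus of `t` is invariant under left composition -/
theorem cm_t_snd_iff_c (p : ↑(pullback G.s G.t)) :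
    MoreMor.IsCMAt G.t (pullback.snd G.s G.t p) ↔ MoreMor.IsCMAt G.t (G.c p) := by
  have h1 := cmAt_baseChange_iff _ _ _ _ G.t G.s (pullback.fst G.s G.t) (pullback.snd G.s G.t)
    (IsPullback.of_hasPullback G.s G.t).flip p
  have h2 := cmAt_baseChange_iff _ _ _ _ G.t G.t (pullback.fst G.s G.t) G.c (isPullback_c_fst G) p
  exact h1.symm.trans h2

/-- `(a, b) ↦ (a ∘ b⁻¹, b)` on pairs with the same source -/
noncomputable def psi : pullback G.s G.s ⟶ pullback G.s G.t :=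
  pullback.lift
    (pullback.lift (pullback.fst G.s G.s) (pullback.snd G.s G.s ≫ G.i)
      (by rw [Category.assoc, G.i_t, pullback.condition]) ≫ G.c)
    (pullback.snd G.s G.s)
    (by rw [G.comp_s, Category.assoc, G.i_s])

theorem psi_snd : psi G ≫ pullback.snd G.s G.t = pullback.snd G.s G.s := by
  unfold psi
  rw [pullback.lift_snd]

theorem psi_c : psi G ≫ G.c = pullback.fst G.s G.s := by
  unfold psi
  have h₁ : pullback.fst G.s G.s ≫ G.s = (pullback.snd G.s G.s ≫ G.i) ≫ G.t := by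
    rw [Category.assoc, G.i_t, pullback.condition]
  have h₂ : (pullback.snd G.s G.s ≫ G.i) ≫ G.s = pullback.snd G.s G.s ≫ G.t := by
    rw [Category.assoc, G.i_s]
  have ha := G.assoc (pullback.fst G.s G.s) (pullback.snd G.s G.s ≫ G.i) (pullback.snd G.s G.s)
    h₁ h₂
  rw [ha]
  have h3 : pullback.lift (pullback.fst G.s G.s)
      (pullback.lift (pullback.snd G.s G.s ≫ G.i) (pullback.snd G.s G.s) h₂ ≫ G.c)
      (h₁.trans (G.comp_t _ _ h₂).symm) =
      pullback.lift (pullback.fst G.s G.s) (pullback.fst G.s G.s ≫ G.s ≫ G.e)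
        (by rw [Category.assoc, Category.assoc, G.e_t, Category.comp_id]) := by
    apply lift_congr
    · rfl
    · rw [G.i_comp, ← Category.assoc, ← pullback.condition, Category.assoc]
  rw [h3, G.comp_e]

theorem cm_t_iff_of_s_eq (r r' : G.R) (h : G.s r = G.s r') :
    MoreMor.IsCMAt G.t r ↔ MoreMor.IsCMAt G.t r' := by
  obtain ⟨q, hq1, hq2⟩ := Scheme.Pullback.exists_preimage_pullback (f := G.s) (g := G.s) r' r h.symm
  have h1 := cm_t_snd_iff_c G (psi G q)
  have e1 : pullback.snd G.s G.t (psi G q) = r := by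
    rw [← Scheme.Hom.comp_apply, psi_snd, hq2]
  have e2 : G.c (psi G q) = r' := by
    rw [← Scheme.Hom.comp_apply, psi_c, hq1]
  rw [e1, e2] at h1
  exact h1

theorem cm_s_iff_cm_t_i (r : G.R) : MoreMor.IsCMAt G.s r ↔ MoreMor.IsCMAt G.t (G.i r) := by
  have hsq : IsPullback G.i G.s G.t (𝟙 G.U) :=
    IsPullback.of_horiz_isIso ⟨by rw [G.i_t, Category.comp_id]⟩
  exact cmAt_baseChange_iff _ _ _ _ G.t (𝟙 G.U) G.s G.i hsq r

theorem S1936_main : ∃ U' : G.U.Opens, (G.t ⁻¹ᵁ U' : Set G.R) = {r | Grpd.IsCMAt G.s r} ∧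
    (G.s ⁻¹ᵁ U' : Set G.R) = {r | Grpd.IsCMAt G.t r} ∧
    ⇑G.t '' (G.s ⁻¹ᵁ U' : Set G.R) = Set.univ ∧ ⇑G.s '' (G.t ⁻¹ᵁ U' : Set G.R) = Set.univ := by
  have hWopen : IsOpen {r : G.R | MoreMor.IsCMAt G.t r} := S4961_main G.t
  have hsopen : IsOpenMap G.s := G.s.isOpenMap
  let U' : G.U.Opens := ⟨G.s '' {r : G.R | MoreMor.IsCMAt G.t r}, hsopen _ hWopen⟩
  have hU's : ∀ r : G.R, G.s r ∈ U' ↔ MoreMor.IsCMAt G.t r := by
    intro r
    constructor
    · rintro ⟨r', hr', hrr'⟩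
      exact (cm_t_iff_of_s_eq G r' r hrr').mp hr'
    · intro hr
      exact ⟨r, hr, rfl⟩
  have hU't : ∀ r : G.R, G.t r ∈ U' ↔ MoreMor.IsCMAt G.s r := by
    intro r
    rw [cm_s_iff_cm_t_i, ← hU's]
    have : G.s (G.i r) = G.t r := by
      rw [← Scheme.Hom.comp_apply, G.i_s]
    rw [this]
  have h3 : ∀ u : G.U, ∃ r : G.R, G.t r = u ∧ MoreMor.IsCMAt G.t r := by
    intro u
    have hd := dense_cm_fibre G.t u
    have heu : G.t (G.e u) = u := by
      rw [← Scheme.Hom.comp_apply, G.e_t]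
      rfl
    let w₀ : G.t.fiber u := (Groth.Agent.Lib.Helper4.FibDim2.fibOrderIso G.t u).symm ⟨G.e u, heu⟩
    haveI : Nonempty ↥(G.t.fiber u) := ⟨w₀⟩
    obtain ⟨w, hw⟩ := hd.nonempty
    exact ⟨G.t.fiberι u w, Groth.Agent.Lib.Helper4.FibDim1.fiberι_mem G.t u w, hw⟩
  refine ⟨U', ?_, ?_, ?_, ?_⟩
  · ext r
    exact (hU't r).trans (grpd_isCMAt_iff G.s r).symm
  · ext r
    exact (hU's r).trans (grpd_isCMAt_iff G.t r).symm
  · rw [Set.eq_univ_iff_forall]
    intro u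
    obtain ⟨r, hr, hcm⟩ := h3 u
    exact ⟨r, (hU's r).mpr hcm, hr⟩
  · rw [Set.eq_univ_iff_forall]
    intro u
    obtain ⟨r, hr, hcm⟩ := h3 u
    refine ⟨G.i r, ?_, ?_⟩
    · show G.t (G.i r) ∈ U'
      have : G.t (G.i r) = G.s r := by rw [← Scheme.Hom.comp_apply, G.i_t]
      rw [this]
      exact (hU's r).mpr hcm
    · rw [← Scheme.Hom.comp_apply, G.i_s]
      exact hr

end Main

end Groth.Agent.Lead.GrpdCM
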