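import Mathlib
import Groth.Agent.Lib.Lead.FitFin5
import Groth.Agent.Lib.Lead.FitFin6
import Groth.Agent.Lib.Lead.GrpdCM1

/-!
# The invariant thickening of the open strata of a finite groupoid (lead)
-/

set_option autoImplicit false
set_option backward.isDefEq.respectTransparency.types false
set_option synthInstance.maxHeartbeats 400000
set_option maxHeartbeats 1000000
set_option linter.style.haveILetI false
set_option linter.unusedSectionVars false

universe u
open CategoryTheory CategoryTheory.Limits AlgebraicGeometry TopologicalSpace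

namespace Groth.Agent.Lead.FitFin

section Gen

theorem isFinLocFree_of_openCover {P W : Scheme.{u}} (π : P ⟶ W) [IsFinite π] (𝒰 : W.OpenCover)
    (h : ∀ i, Mor2.IsFinLocFree (pullback.snd π (𝒰.f i))) : Mor2.IsFinLocFree π := by
  refine ⟨inferInstance, ?_, ?_⟩
  · rw [IsZariskiLocalAtTarget.iff_of_openCover (P := @Flat) 𝒰]
    intro i
    exact (h i).2.1
  · rw [IsZariskiLocalAtTarget.iff_of_openCover (P := @LocallyOfFinitePresentation) 𝒰]
    intro i
    exact (h i).2.2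

theorem comap_subschemeι_self {X : Scheme.{u}} (J : X.IdealSheafData) : J.comap J.subschemeι = ⊥ :=
  (Groth.Agent.Helper7.FibRank.exists_fac_subschemeι_iff J _).1 ⟨𝟙 _, Category.id_comp _⟩

end Gen

variable {S : Scheme.{u}} (G : Grpd.GroupoidScheme S) [IsFinite G.s]

theorem flf_snd_of_comap {T : Scheme.{u}} (h : T ⟶ G.U) (n : ℕ) (h1 : (fitt G.s n).comap h = ⊥)
    (h2 : (fitt G.s (n + 1)).comap h = ⊤) :
    Mor2.IsFinLocFreeOfDeg (n + 1) (pullback.snd G.s h) := by
  refine flf_of_fitt _ (n + 1) (fun k hk => ?_) (fun k hk => ?_)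
  · rw [← comap_fitt G.s (IsPullback.of_hasPullback G.s _) k, ← le_bot_iff, ← h1]
    exact Scheme.IdealSheafData.comap_mono _ (fitt_mono G.s (by omega))
  · rw [← comap_fitt G.s (IsPullback.of_hasPullback G.s _) k, ← top_le_iff, ← h2]
    exact Scheme.IdealSheafData.comap_mono _ (fitt_mono G.s hk)

/-- the opens of the scheme `Wtot` -/
noncomputable def On (n : ℕ) : (Wtot G : Scheme.{u}).Opens := (Wtot G).ι ⁻¹ᵁ (Wo G n)

theorem On_disjoint : Pairwise (Function.onFun Disjoint (On G)) := by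
  intro m n hmn
  rw [Function.onFun, disjoint_iff_inf_le]
  intro x hx
  exact (disjoint_iff_inf_le.1 (Wo_disjoint' G hmn)) ⟨hx.1, hx.2⟩

theorem On_cover : ⨆ n, On G n = ⊤ := by
  rw [eq_top_iff]
  intro x _
  have hx : ((Wtot G).ι x) ∈ Wtot G := x.2
  obtain ⟨n, hn⟩ := Opens.mem_iSup.1 hx
  exact Opens.mem_iSup.2 ⟨n, hn⟩

/-- the ideal sheaf of the thickening -/
noncomputable def Jd : (Wtot G : Scheme.{u}).IdealSheafData :=
  glueIdeal (On G) (fun n => (fitt G.s n).comap (Wtot G).ι)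

theorem Jd_comap (n : ℕ) :
    (Jd G).comap (Scheme.Opens.ι (On G n)) =
      (fitt G.s n).comap (Scheme.Opens.ι (On G n) ≫ (Wtot G).ι) := by
  rw [Jd, glueIdeal_comap _ _ (On_disjoint G) (On_cover G) n, Scheme.IdealSheafData.comap_comp]

/-- the inclusion of the thickening into `U` -/
noncomputable abbrev ιd : (Jd G).subscheme ⟶ G.U := (Jd G).subschemeι ≫ (Wtot G).ι

theorem ιd_mem (x : (Jd G).subscheme) : (ιd G) x ∈ Wtot G := by
  rw [Scheme.Hom.comp_apply]
  exact ((Jd G).subschemeι x).2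

theorem comap_eq_bot_of_fac {T' : Scheme.{u}} (y : T' ⟶ (Jd G).subscheme) (n : ℕ)
    (hr : ∀ t, (y ≫ ιd G) t ∈ Wo G n) : (fitt G.s n).comap (y ≫ ιd G) = ⊥ := by
  have hrange : Set.range (y ≫ (Jd G).subschemeι) ⊆ Set.range (Scheme.Opens.ι (On G n)) := by
    rw [Scheme.Opens.range_ι]
    rintro _ ⟨t, rfl⟩
    have := hr t
    rw [← Category.assoc, Scheme.Hom.comp_apply] at this
    exact this
  let z' := IsOpenImmersion.lift (Scheme.Opens.ι (On G n)) (y ≫ (Jd G).subschemeι) hrange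
  have hz' : z' ≫ Scheme.Opens.ι (On G n) = y ≫ (Jd G).subschemeι := IsOpenImmersion.lift_fac _ _ _
  have e1 : y ≫ ιd G = z' ≫ (Scheme.Opens.ι (On G n) ≫ (Wtot G).ι) := by
    rw [← Category.assoc z', hz', Category.assoc]
  rw [e1, Scheme.IdealSheafData.comap_comp, ← Jd_comap, ← Scheme.IdealSheafData.comap_comp, hz',
    Scheme.IdealSheafData.comap_comp, comap_subschemeι_self, Scheme.IdealSheafData.comap_bot]

theorem exists_fac_of_comap {T : Scheme.{u}} (h : T ⟶ G.U) (hW : ∀ t, h t ∈ Wtot G)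
    (hn : ∀ n, (fitt G.s n).comap (Scheme.Opens.ι (h ⁻¹ᵁ Wo G n) ≫ h) = ⊥) :
    ∃ x : T ⟶ (Jd G).subscheme, x ≫ ιd G = h := by
  have hrange : Set.range h ⊆ Set.range (Wtot G).ι := by
    rw [Scheme.Opens.range_ι]
    rintro _ ⟨t, rfl⟩
    exact hW t
  let h' := IsOpenImmersion.lift (Wtot G).ι h hrange
  have hh' : h' ≫ (Wtot G).ι = h := IsOpenImmersion.lift_fac _ _ _
  have hbot : (Jd G).comap h' = ⊥ := by
    refine eq_bot_of_comap_eq_bot (fun n => h ⁻¹ᵁ Wo G n) ?_ _ ?_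
    · rw [eq_top_iff]
      intro t _
      obtain ⟨n, hn'⟩ := Opens.mem_iSup.1 (hW t)
      exact Opens.mem_iSup.2 ⟨n, hn'⟩
    · intro n
      have hr2 : Set.range (Scheme.Opens.ι (h ⁻¹ᵁ Wo G n) ≫ h') ⊆
          Set.range (Scheme.Opens.ι (On G n)) := by
        rw [Scheme.Opens.range_ι]
        rintro _ ⟨t, rfl⟩
        change (Wtot G).ι ((Scheme.Opens.ι (h ⁻¹ᵁ Wo G n) ≫ h') t) ∈ Wo G n
        rw [← Scheme.Hom.comp_apply, Category.assoc, hh']
        exact t.2
      let w := IsOpenImmersion.lift (Scheme.Opens.ι (On G n))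
        (Scheme.Opens.ι (h ⁻¹ᵁ Wo G n) ≫ h') hr2
      have hw : w ≫ Scheme.Opens.ι (On G n) = Scheme.Opens.ι (h ⁻¹ᵁ Wo G n) ≫ h' :=
        IsOpenImmersion.lift_fac _ _ _
      rw [← Scheme.IdealSheafData.comap_comp, ← hw, Scheme.IdealSheafData.comap_comp, Jd_comap,
        ← Scheme.IdealSheafData.comap_comp, ← Category.assoc, hw, Category.assoc, hh']
      exact hn n
  obtain ⟨x, hx⟩ := (Groth.Agent.Helper7.FibRank.exists_fac_subschemeι_iff (Jd G) h').2 hbot
  exact ⟨x, by rw [← Category.assoc, hx, hh']⟩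

theorem Jd_support : (Jd G).support = ⊤ := by
  rw [eq_top_iff]
  intro x _
  have hx : x ∈ (⨆ n, On G n) := by rw [On_cover]; trivial
  obtain ⟨n, hn⟩ := Opens.mem_iSup.1 hx
  have h1 : (⟨x, hn⟩ : On G n) ∈ ((Jd G).comap (Scheme.Opens.ι (On G n))).support := by
    rw [Jd_comap, Scheme.IdealSheafData.support_comap]
    change (Scheme.Opens.ι (On G n) ≫ (Wtot G).ι) ⟨x, hn⟩ ∈ (fitt G.s n).support
    exact Wo_le_support G n _ hn
  rw [Scheme.IdealSheafData.support_comap] at h1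
  exact h1

end Groth.Agent.Lead.FitFin
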