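import Mathlib
import Groth.Agent.Lib.Lead.FitFin7

/-!
# S1908: the invariant thickening with finite locally free restriction (lead)
-/

set_option autoImplicit false
set_option backward.isDefEq.respectTransparency.types false
set_option synthInstance.maxHeartbeats 400000
set_option maxHeartbeats 1000000
set_option linter.style.haveILetI false
set_option linter.unusedSectionVars false

universe u
open CategoryTheory CategoryTheory.Limits AlgebraicGeometry TopologicalSpace

namespace Groth.Agent.Lead.FitFin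

variable {S : Scheme.{u}} (G : Grpd.GroupoidScheme S) [IsFinite G.s]

/-- generic transfer of the factorization through the thickening -/
theorem exists_fac_transfer (σ τ : G.R ⟶ G.U)
    (H1 : ∀ k, (fitt G.s k).comap σ = (fitt G.s k).comap τ)
    (H2 : ∀ n (r : G.R), σ r ∈ Wo G n ↔ τ r ∈ Wo G n)
    (H3 : ∀ r : G.R, σ r ∈ Wtot G ↔ τ r ∈ Wtot G) :
    ∃ x : pullback σ (ιd G) ⟶ (Jd G).subscheme, x ≫ ιd G = pullback.fst σ (ιd G) ≫ τ := by
  apply exists_fac_of_comap
  · intro p
    rw [Scheme.Hom.comp_apply, ← H3, ← Scheme.Hom.comp_apply, pullback.condition,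
      Scheme.Hom.comp_apply]
    exact ιd_mem G _
  · intro n
    have e1 : Scheme.Opens.ι ((pullback.fst σ (ιd G) ≫ τ) ⁻¹ᵁ Wo G n) ≫ pullback.fst σ (ιd G) ≫ τ =
        (Scheme.Opens.ι ((pullback.fst σ (ιd G) ≫ τ) ⁻¹ᵁ Wo G n) ≫ pullback.fst σ (ιd G)) ≫ τ :=
      (Category.assoc _ _ _).symm
    rw [e1, Scheme.IdealSheafData.comap_comp, ← H1, ← Scheme.IdealSheafData.comap_comp,
      Category.assoc, pullback.condition, ← Category.assoc]
    apply comap_eq_bot_of_fac
    intro t
    rw [Category.assoc, ← pullback.condition, ← Category.assoc, Scheme.Hom.comp_apply, H2,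
      ← Scheme.Hom.comp_apply, Category.assoc]
    exact t.2

theorem exists_inv_iso : ∃ φ : pullback G.s (ιd G) ≅ pullback G.t (ιd G),
    φ.hom ≫ pullback.fst G.t (ιd G) = pullback.fst G.s (ιd G) := by
  obtain ⟨x, hx⟩ := exists_fac_transfer G G.s G.t (comap_s_eq_comap_t G)
    (fun n r => inv_Wo G n r) (inv_Wtot G)
  obtain ⟨y, hy⟩ := exists_fac_transfer G G.t G.s (fun k => (comap_s_eq_comap_t G k).symm)
    (fun n r => (inv_Wo G n r).symm) (fun r => (inv_Wtot G r).symm)
  haveI : Mono (ιd G) := inferInstance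
  refine ⟨⟨pullback.lift (pullback.fst _ _) x hx.symm, pullback.lift (pullback.fst _ _) y hy.symm,
    ?_, ?_⟩, pullback.lift_fst _ _ _⟩
  · rw [← cancel_mono (pullback.fst G.s (ιd G)), Category.assoc, pullback.lift_fst,
      pullback.lift_fst, Category.id_comp]
  · rw [← cancel_mono (pullback.fst G.t (ιd G)), Category.assoc, pullback.lift_fst,
      pullback.lift_fst, Category.id_comp]

theorem flf_s : Mor2.IsFinLocFree (pullback.snd G.s (ιd G)) := by
  let Q : ℕ → (Jd G).subscheme.Opens := fun n => (ιd G) ⁻¹ᵁ (Wo G n)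
  have hQ : IsOpenCover Q := by
    rw [IsOpenCover, eq_top_iff]
    intro x _
    obtain ⟨n, hn⟩ := Opens.mem_iSup.1 (ιd_mem G x)
    exact Opens.mem_iSup.2 ⟨n, hn⟩
  refine isFinLocFree_of_openCover _ ((Jd G).subscheme.openCoverOfIsOpenCover Q hQ) ?_
  intro (n : ℕ)
  change Mor2.IsFinLocFree (pullback.snd (pullback.snd G.s (ιd G)) (Scheme.Opens.ι (Q n)))
  have hA : (fitt G.s n).comap (Scheme.Opens.ι (Q n) ≫ ιd G) = ⊥ :=
    comap_eq_bot_of_fac G _ n (fun t => t.2)
  have hB : (fitt G.s (n + 1)).comap (Scheme.Opens.ι (Q n) ≫ ιd G) = ⊤ := by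
    rw [Groth.Agent.Helper7.FibRank.comap_eq_top_iff]
    intro t
    exact Wo_notMem_support G n _ t.2
  have key : Mor2.IsFinLocFreeOfDeg (n + 1)
      (pullback.snd (pullback.snd G.s (ιd G)) (Scheme.Opens.ι (Q n))) := by
    refine flf_of_fitt _ (n + 1) (fun k hk => ?_) (fun k hk => ?_)
    · rw [← comap_fitt (pullback.snd G.s (ιd G)) (IsPullback.of_hasPullback _ _) k,
        ← comap_fitt G.s (IsPullback.of_hasPullback G.s (ιd G)) k,
        ← Scheme.IdealSheafData.comap_comp, ← le_bot_iff, ← hA]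
      exact Scheme.IdealSheafData.comap_mono _ (fitt_mono G.s (by omega))
    · rw [← comap_fitt (pullback.snd G.s (ιd G)) (IsPullback.of_hasPullback _ _) k,
        ← comap_fitt G.s (IsPullback.of_hasPullback G.s (ιd G)) k,
        ← Scheme.IdealSheafData.comap_comp, ← top_le_iff, ← hB]
      exact Scheme.IdealSheafData.comap_mono _ (fitt_mono G.s hk)
  exact key.1

theorem flf_t : Mor2.IsFinLocFree (pullback.snd G.t (ιd G)) := by
  obtain ⟨h1, h2, h3⟩ := flf_s G
  have hc : (pullback.fst G.t (ιd G) ≫ G.i) ≫ G.s = pullback.snd G.t (ιd G) ≫ ιd G := by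
    rw [Category.assoc, G.i_s, pullback.condition]
  have hc' : (pullback.fst G.s (ιd G) ≫ G.i) ≫ G.t = pullback.snd G.s (ιd G) ≫ ιd G := by
    rw [Category.assoc, G.i_t, pullback.condition]
  let θ : pullback G.t (ιd G) ≅ pullback G.s (ιd G) :=
    ⟨pullback.lift (pullback.fst G.t (ιd G) ≫ G.i) (pullback.snd G.t (ιd G)) hc,
     pullback.lift (pullback.fst G.s (ιd G) ≫ G.i) (pullback.snd G.s (ιd G)) hc', by
      apply pullback.hom_ext
      · rw [Category.assoc, pullback.lift_fst, ← Category.assoc, pullback.lift_fst, Category.assoc,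
          Groth.Agent.Lead.GrpdCM.i_i, Category.comp_id, Category.id_comp]
      · rw [Category.assoc, pullback.lift_snd, pullback.lift_snd, Category.id_comp], by
      apply pullback.hom_ext
      · rw [Category.assoc, pullback.lift_fst, ← Category.assoc, pullback.lift_fst, Category.assoc,
          Groth.Agent.Lead.GrpdCM.i_i, Category.comp_id, Category.id_comp]
      · rw [Category.assoc, pullback.lift_snd, pullback.lift_snd, Category.id_comp]⟩
  have e : pullback.snd G.t (ιd G) = θ.hom ≫ pullback.snd G.s (ιd G) :=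
    (pullback.lift_snd _ _ _).symm
  rw [e]
  haveI := h1
  haveI := h2
  haveI := h3
  haveI : IsIso θ.hom := Iso.isIso_hom θ
  exact ⟨inferInstance, inferInstance, inferInstance⟩

theorem main1908 [IsFinite G.t] : ∃ (W : G.U.Opens) (W' : (↑W : Scheme.{u}).IdealSheafData),
    G.s ⁻¹ᵁ W = G.t ⁻¹ᵁ W ∧ W'.support = ⊤ ∧
    (∃ φ : pullback G.s (W'.subschemeι ≫ W.ι) ≅ pullback G.t (W'.subschemeι ≫ W.ι),
      φ.hom ≫ pullback.fst G.t (W'.subschemeι ≫ W.ι) = pullback.fst G.s (W'.subschemeι ≫ W.ι)) ∧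
    (∀ u : G.U, ∃ r : G.R, G.t r = u ∧ G.s r ∈ closure (W : Set G.U)) ∧
    Mor2.IsFinLocFree (pullback.snd G.s (W'.subschemeι ≫ W.ι)) ∧
    Mor2.IsFinLocFree (pullback.snd G.t (W'.subschemeι ≫ W.ι)) :=
  ⟨Wtot G, Jd G, inv_preimage G (inv_Wtot G), Jd_support G, exists_inv_iso G,
    exists_orbit_closure G, flf_s G, flf_t G⟩

end Groth.Agent.Lead.FitFin
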