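import Mathlib
import Groth.Agent.Lib.Lead.FitFin8
import Groth.Agent.Lib.Helper7.LimIdeal
import Groth.Agent.Lib.Helper3.FlatFLF2

/-!
# S1909: finite presentation and generic points (lead)
-/

set_option autoImplicit false
set_option backward.isDefEq.respectTransparency.types false
set_option synthInstance.maxHeartbeats 400000
set_option maxHeartbeats 1000000
set_option linter.style.haveILetI false
set_option linter.unusedSectionVars false

universe u
open CategoryTheory CategoryTheory.Limits AlgebraicGeometry TopologicalSpace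

namespace Groth.Agent.Lead.FitFin

section K

/-- a point of the closure of a basic open has a generization in it -/
theorem exists_le_of_mem_closure_basicOpen {A : Type u} [CommRing A] (f : A) (p : PrimeSpectrum A)
    (hp : p ∈ closure (PrimeSpectrum.basicOpen f : Set (PrimeSpectrum A))) :
    ∃ q : PrimeSpectrum A, q ≤ p ∧ f ∉ q.asIdeal := by
  by_contra hcon
  have hall : ∀ q : PrimeSpectrum A, q ≤ p → f ∈ q.asIdeal := by
    intro q hq
    by_contra hf
    exact hcon ⟨q, hq, hf⟩
  haveI := p.2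
  -- `f` is nilpotent in the localization at `p`
  have hnil : IsNilpotent (algebraMap A (Localization.AtPrime p.asIdeal) f) := by
    rw [nilpotent_iff_mem_prime]
    intro J hJ
    have hq : (J.comap (algebraMap A (Localization.AtPrime p.asIdeal))).IsPrime := Ideal.comap_isPrime _ J
    have hle : J.comap (algebraMap A (Localization.AtPrime p.asIdeal)) ≤ p.asIdeal := by
      intro a ha
      by_contra hap
      have hu : IsUnit (algebraMap A (Localization.AtPrime p.asIdeal) a) :=
        IsLocalization.map_units (Localization.AtPrime p.asIdeal) (⟨a, hap⟩ : p.asIdeal.primeCompl)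
      exact hJ.ne_top (Ideal.eq_top_of_isUnit_mem _ ha hu)
    exact hall ⟨_, hq⟩ hle
  obtain ⟨n, hn⟩ := hnil
  rw [← map_pow] at hn
  obtain ⟨⟨s, hs⟩, hs0⟩ := (IsLocalization.map_eq_zero_iff p.asIdeal.primeCompl
    (Localization.AtPrime p.asIdeal) (f ^ n)).1 hn
  -- `D(s)` is a neighbourhood of `p` disjoint from `D(f)`
  have hps : p ∈ (PrimeSpectrum.basicOpen s : Set (PrimeSpectrum A)) := hs
  obtain ⟨q, hq1, hq2⟩ := mem_closure_iff.1 hp _ (PrimeSpectrum.basicOpen s).2 hps
  have h1 : s ∉ q.asIdeal := hq1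
  have h2 : f ∉ q.asIdeal := hq2
  have h3 : s * f ^ n ∈ q.asIdeal := by
    simp only at hs0
    rw [hs0]
    exact Submodule.zero_mem _
  rcases q.2.mem_or_mem h3 with h | h
  · exact h1 h
  · exact h2 (q.2.mem_of_pow_mem n h)

theorem exists_le_of_mem_closure_compl_zeroLocus {A : Type u} [CommRing A] (a : Ideal A) (ha : a.FG)
    (p : PrimeSpectrum A) (hp : p ∈ closure ((PrimeSpectrum.zeroLocus (a : Set A))ᶜ)) :
    ∃ q : PrimeSpectrum A, q ≤ p ∧ q ∉ PrimeSpectrum.zeroLocus (a : Set A) := by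
  obtain ⟨s, rfl⟩ := ha
  have h1 : (PrimeSpectrum.zeroLocus ((Ideal.span (s : Set A) : Ideal A) : Set A))ᶜ =
      ⋃ f ∈ s, (PrimeSpectrum.basicOpen f : Set (PrimeSpectrum A)) := by
    ext q
    simp only [Set.mem_compl_iff, PrimeSpectrum.mem_zeroLocus, SetLike.coe_subset_coe,
      Ideal.span_le, Set.mem_iUnion, SetLike.mem_coe, PrimeSpectrum.mem_basicOpen, exists_prop]
    constructor
    · intro h
      by_contra hcon
      apply h
      intro f hf
      by_contra hfq
      exact hcon ⟨f, hf, hfq⟩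
    · rintro ⟨f, hf, hfq⟩ h
      exact hfq (h hf)
  rw [h1, Finset.closure_biUnion] at hp
  obtain ⟨f, hf, hpf⟩ := Set.mem_iUnion₂.1 hp
  obtain ⟨q, hq1, hq2⟩ := exists_le_of_mem_closure_basicOpen f p hpf
  refine ⟨q, hq1, fun h => hq2 ?_⟩
  exact h (Ideal.subset_span hf)

/-- points of the closure of the complement of a closed subset cut out by an ideal sheaf of
finite type have generizations in the complement -/
theorem exists_specializes_of_mem_closure_compl_support {X : Scheme.{u}} (I : X.IdealSheafData)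
    (hI : ∀ V : X.affineOpens, (I.ideal V).FG) (η : X)
    (hη : η ∈ closure ((I.support : Set X)ᶜ)) : ∃ x : X, x ∉ I.support ∧ x ⤳ η := by
  obtain ⟨_, ⟨V, hV, rfl⟩, hηV, -⟩ := X.isBasis_affineOpens.exists_subset_of_mem_open
    (Set.mem_univ η) isOpen_univ
  set φ := hV.fromSpec with hφ
  set p := hV.primeIdealOf ⟨η, hηV⟩ with hp
  have hφp : φ p = η := hV.fromSpec_primeIdealOf ⟨η, hηV⟩
  have hpre : ∀ q : PrimeSpectrum Γ(X, V), φ q ∈ I.support ↔
      q ∈ PrimeSpectrum.zeroLocus ((I.ideal ⟨V, hV⟩ : Ideal Γ(X, V)) : Set Γ(X, V)) := by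
    intro q
    have hq := Groth.Agent.Helper3.FlatFLF.fromSpec_mem hV q
    rw [Groth.Agent.Lead.FittSh.mem_support_iff_le I hV ⟨φ q, hq⟩,
      Groth.Agent.Helper3.FlatFLF.primeIdealOf_fromSpec hV q hq]
    rfl
  have h1 : p ∈ closure (φ ⁻¹' ((I.support : Set X)ᶜ)) := by
    apply φ.isOpenEmbedding.isOpenMap.preimage_closure_subset_closure_preimage
    show φ p ∈ closure ((I.support : Set X)ᶜ)
    rw [hφp]
    exact hη
  have h2 : φ ⁻¹' ((I.support : Set X)ᶜ) =
      (PrimeSpectrum.zeroLocus ((I.ideal ⟨V, hV⟩ : Ideal Γ(X, V)) : Set Γ(X, V)))ᶜ := by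
    ext q
    simp only [Set.mem_preimage, Set.mem_compl_iff, SetLike.mem_coe]
    exact not_congr (hpre q)
  rw [h2] at h1
  obtain ⟨q, hq1, hq2⟩ := exists_le_of_mem_closure_compl_zeroLocus _ (hI ⟨V, hV⟩) p h1
  refine ⟨φ q, fun h => hq2 ((hpre q).1 h), ?_⟩
  rw [← hφp]
  exact ((PrimeSpectrum.le_iff_specializes q p).1 hq1).map φ.continuous

end K

end Groth.Agent.Lead.FitFin

namespace Groth.Agent.Lead.FitFin

open Groth.Agent.Helper4.Fitting

variable {S : Scheme.{u}} (G : Grpd.GroupoidScheme S) [IsFinite G.s]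

theorem fitt_fg [LocallyOfFinitePresentation G.s] (k : ℕ) (V : G.U.affineOpens) :
    ((fitt G.s k).ideal V).FG := by
  letI := (G.s.app V.1).hom.toAlgebra
  haveI : Module.Finite Γ(G.U, V.1) Γ(G.R, G.s ⁻¹ᵁ V.1) := finite_app G.s V.2
  have h1 : (G.s.appLE V.1 (G.s ⁻¹ᵁ V.1) le_rfl).hom.FinitePresentation :=
    HasRingHomProperty.appLE (P := @LocallyOfFinitePresentation) G.s inferInstance V
      ⟨G.s ⁻¹ᵁ V.1, V.2.preimage G.s⟩ le_rfl
  rw [← Scheme.Hom.app_eq_appLE] at h1
  haveI : Algebra.FinitePresentation Γ(G.U, V.1) Γ(G.R, G.s ⁻¹ᵁ V.1) := h1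
  haveI : Module.FinitePresentation Γ(G.U, V.1) Γ(G.R, G.s ⁻¹ᵁ V.1) :=
    Module.FinitePresentation.of_finite_of_finitePresentation _ _
  exact ideal_fg_of_finitePresentation k

theorem lfp_subschemeι_congr {X : Scheme.{u}} {K K' : X.IdealSheafData} (h : K = K')
    (hK : LocallyOfFinitePresentation K.subschemeι) :
    LocallyOfFinitePresentation K'.subschemeι := by
  subst h; exact hK

theorem lfp_comap_subschemeι {X Y : Scheme.{u}} (g : X ⟶ Y) (K : Y.IdealSheafData)
    [LocallyOfFinitePresentation K.subschemeι] :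
    LocallyOfFinitePresentation (K.comap g).subschemeι := by
  rw [← Scheme.IdealSheafData.comapIso_hom_fst]
  infer_instance

theorem lfp_Jd [LocallyOfFinitePresentation G.s] :
    LocallyOfFinitePresentation (Jd G).subschemeι := by
  rw [IsZariskiLocalAtTarget.iff_of_openCover (P := @LocallyOfFinitePresentation)
    ((Wtot G : Scheme.{u}).openCoverOfIsOpenCover (On G) (On_cover G))]
  intro (n : ℕ)
  change LocallyOfFinitePresentation (pullback.snd (Jd G).subschemeι (Scheme.Opens.ι (On G n)))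
  haveI : LocallyOfFinitePresentation (fitt G.s n).subschemeι :=
    Groth.Agent.Helper7.LimIdeal.lfp_subschemeι_of_fg _ (fitt_fg G n)
  haveI h1 : LocallyOfFinitePresentation ((Jd G).comap (Scheme.Opens.ι (On G n))).subschemeι :=
    lfp_subschemeι_congr (Jd_comap G n).symm (lfp_comap_subschemeι _ _)
  rw [← pullbackSymmetry_hom_comp_fst, ← Scheme.IdealSheafData.comapIso_inv_subschemeι]
  infer_instance

theorem mem_Wtot_of_generic [LocallyOfFinitePresentation G.s] (u : G.U)
    (hu : ∀ r : G.R, G.s r = u → ∀ x : G.U, x ⤳ G.t r → x = G.t r) : u ∈ Wtot G := by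
  have h0 := iInter_support_fitt G
  have h1 : ∃ N, u ∉ (fitt G.s N).support := by
    by_contra hcon
    rw [not_exists] at hcon
    have : u ∈ (⋂ r, ((fitt G.s r).support : Set G.U)) :=
      Set.mem_iInter.2 fun n => not_not.1 (hcon n)
    rw [h0] at this
    exact this
  classical
  have hN0 : Nat.find h1 ≠ 0 := by
    intro h
    have := Nat.find_spec h1
    rw [h, fitt_zero_eq_bot, Scheme.IdealSheafData.support_bot] at this
    exact this trivial
  obtain ⟨n, hn⟩ := Nat.exists_eq_succ_of_ne_zero hN0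
  have hin : u ∈ (fitt G.s n).support := by
    have := Nat.find_min h1 (m := n) (by omega)
    exact not_not.1 this
  have hnot : u ∉ (fitt G.s (n + 1)).support := by
    have := Nat.find_spec h1
    rwa [hn] at this
  by_contra hW
  have hA : u ∉ A G n := fun h => hW (Opens.mem_iSup.2 ⟨n, ⟨h, hnot⟩⟩)
  obtain ⟨m, hm, r, hr1, hr2⟩ := exists_orbit_closure_of_notMem_A G n u hA
  have hgen : ∀ x : G.U, x ⤳ G.s r → x = G.s r := by
    have h2 := hu (G.i r) (by rw [← Scheme.Hom.comp_apply, G.i_s]; exact hr1)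
    rwa [← Scheme.Hom.comp_apply, G.i_t] at h2
  have hcl : G.s r ∈ closure (((fitt G.s (m + 1)).support : Set G.U)ᶜ) :=
    closure_mono (fun x hx => hx.2) hr2
  obtain ⟨x, hx1, hx2⟩ := exists_specializes_of_mem_closure_compl_support (fitt G.s (m + 1))
    (fitt_fg G (m + 1)) _ hcl
  rw [hgen x hx2] at hx1
  have h5 : G.t r ∈ (fitt G.s (m + 1)).support := by
    rw [hr1]
    exact Scheme.IdealSheafData.support_antitone (fitt_mono G.s (by omega : m + 1 ≤ n)) hin
  exact hx1 ((support_inv G (m + 1) r).2 h5)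

theorem main1909 [IsFinite G.t] [LocallyOfFinitePresentation G.s] [LocallyOfFinitePresentation G.t] :
    ∃ (W : G.U.Opens) (W' : (↑W : Scheme.{u}).IdealSheafData),
    G.s ⁻¹ᵁ W = G.t ⁻¹ᵁ W ∧ W'.support = ⊤ ∧
    (∃ φ : pullback G.s (W'.subschemeι ≫ W.ι) ≅ pullback G.t (W'.subschemeι ≫ W.ι),
      φ.hom ≫ pullback.fst G.t (W'.subschemeι ≫ W.ι) = pullback.fst G.s (W'.subschemeι ≫ W.ι)) ∧
    (∀ u : G.U, ∃ r : G.R, G.t r = u ∧ G.s r ∈ closure (W : Set G.U)) ∧
    Mor2.IsFinLocFree (pullback.snd G.s (W'.subschemeι ≫ W.ι)) ∧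
    Mor2.IsFinLocFree (pullback.snd G.t (W'.subschemeι ≫ W.ι)) ∧
    LocallyOfFinitePresentation W'.subschemeι ∧
    ∀ u : G.U, (∀ r : G.R, G.s r = u → ∀ x : G.U, x ⤳ G.t r → x = G.t r) → u ∈ W :=
  ⟨Wtot G, Jd G, inv_preimage G (inv_Wtot G), Jd_support G, exists_inv_iso G,
    exists_orbit_closure G, flf_s G, flf_t G, lfp_Jd G, mem_Wtot_of_generic G⟩

end Groth.Agent.Lead.FitFin
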