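import Mathlib
import Groth.Agent.Lib.Lead.FitFin9
import Groth.Agent.Lib.Helper4.GrpdSub1

/-!
# The induced groupoid on the thickening (lead)
-/

set_option autoImplicit false
set_option backward.isDefEq.respectTransparency.types false
set_option synthInstance.maxHeartbeats 400000
set_option maxHeartbeats 1000000
set_option linter.style.haveILetI false
set_option linter.unusedSectionVars false

universe u
open CategoryTheory CategoryTheory.Limits AlgebraicGeometry TopologicalSpace

namespace Groth.Agent.Lead.FitFin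

open Groth.Agent.Lib.Helper4.GrpdSub1

variable {S : Scheme.{u}} (G : Grpd.GroupoidScheme S) [IsFinite G.s]

/-- the generic point criterion, with an abstract finiteness hypothesis -/
theorem mem_Wtot_of_generic' (hfg : ∀ (k : ℕ) (V : G.U.affineOpens), ((fitt G.s k).ideal V).FG)
    (u : G.U) (hu : ∀ r : G.R, G.s r = u → ∀ x : G.U, x ⤳ G.t r → x = G.t r) : u ∈ Wtot G := by
  have h0 := iInter_support_fitt G
  have h1 : ∃ N, u ∉ (fitt G.s N).support := by
    by_contra hcon
    rw [not_exists] at hcon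
    have : u ∈ (⋂ r, ((fitt G.s r).support : Set G.U)) :=
      Set.mem_iInter.2 fun n => not_not.1 (hcon n)
    rw [h0] at this
    exact this
  classical
  have hN0 : Nat.find h1 ≠ 0 := by
    intro h
    have := Nat.find_spec h1
    rw [h, fitt_zero_eq_bot, Scheme.IdealSheafData.support_bot] at this
    exact this trivial
  obtain ⟨n, hn⟩ := Nat.exists_eq_succ_of_ne_zero hN0
  have hin : u ∈ (fitt G.s n).support := by
    have := Nat.find_min h1 (m := n) (by omega)
    exact not_not.1 this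
  have hnot : u ∉ (fitt G.s (n + 1)).support := by
    have := Nat.find_spec h1
    rwa [hn] at this
  by_contra hW
  have hA : u ∉ A G n := fun h => hW (Opens.mem_iSup.2 ⟨n, ⟨h, hnot⟩⟩)
  obtain ⟨m, hm, r, hr1, hr2⟩ := exists_orbit_closure_of_notMem_A G n u hA
  have hgen : ∀ x : G.U, x ⤳ G.s r → x = G.s r := by
    have h2 := hu (G.i r) (by rw [← Scheme.Hom.comp_apply, G.i_s]; exact hr1)
    rwa [← Scheme.Hom.comp_apply, G.i_t] at h2
  have hcl : G.s r ∈ closure (((fitt G.s (m + 1)).support : Set G.U)ᶜ) :=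
    closure_mono (fun x hx => hx.2) hr2
  obtain ⟨x, hx1, hx2⟩ := exists_specializes_of_mem_closure_compl_support (fitt G.s (m + 1))
    (hfg (m + 1)) _ hcl
  rw [hgen x hx2] at hx1
  have h5 : G.t r ∈ (fitt G.s (m + 1)).support := by
    rw [hr1]
    exact Scheme.IdealSheafData.support_antitone (fitt_mono G.s (by omega : m + 1 ≤ n)) hin
  exact hx1 ((support_inv G (m + 1) r).2 h5)

/-- the induced groupoid on the thickening -/
noncomputable abbrev Gd : Grpd.GroupoidScheme S := pb G (ιd G)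

theorem exists_iso_RR : ∃ κ : RR G (ιd G) ≅ pullback G.s (ιd G),
    κ.hom ≫ pullback.snd G.s (ιd G) = sRR G (ιd G) := by
  obtain ⟨x, hx⟩ := exists_fac_transfer G G.s G.t (comap_s_eq_comap_t G)
    (fun n r => inv_Wo G n r) (inv_Wtot G)
  refine ⟨⟨pullback.lift (ιRR G (ιd G)) (sRR G (ιd G)) (sRR_u G (ιd G)).symm,
    mkRR G (ιd G) (pullback.fst G.s (ιd G)) x (pullback.snd G.s (ιd G)) hx.symm
      pullback.condition, ?_, ?_⟩, pullback.lift_snd _ _ _⟩
  · apply RR_ext
    rw [Category.assoc, mkRR_ι, pullback.lift_fst, Category.id_comp]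
  · apply pullback.hom_ext
    · rw [Category.assoc, pullback.lift_fst, mkRR_ι, Category.id_comp]
    · rw [Category.assoc, pullback.lift_snd, mkRR_s, Category.id_comp]

theorem Gd_s_props : IsFinite (Gd G).s ∧ Flat (Gd G).s ∧ LocallyOfFinitePresentation (Gd G).s := by
  obtain ⟨κ, hκ⟩ := exists_iso_RR G
  obtain ⟨h1, h2, h3⟩ := flf_s G
  haveI := h1
  haveI := h2
  haveI := h3
  haveI : IsIso κ.hom := Iso.isIso_hom κ
  change IsFinite (sRR G (ιd G)) ∧ Flat (sRR G (ιd G)) ∧ LocallyOfFinitePresentation (sRR G (ιd G))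
  rw [← hκ]
  exact ⟨inferInstance, inferInstance, inferInstance⟩

/-- `ιd` is surjective onto `Wtot` -/
theorem exists_ιd_eq (w : G.U) (hw : w ∈ Wtot G) : ∃ a : (Jd G).subscheme, (ιd G) a = w := by
  have h1 : (⟨w, hw⟩ : (Wtot G : Scheme.{u})) ∈ Set.range (Jd G).subschemeι := by
    rw [Scheme.IdealSheafData.range_subschemeι, Jd_support]
    trivial
  obtain ⟨a, ha⟩ := h1
  refine ⟨a, ?_⟩
  rw [Scheme.Hom.comp_apply, ha]
  rfl

theorem ιd_injective : Function.Injective (ιd G) := by
  intro a b hab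
  rw [Scheme.Hom.comp_apply, Scheme.Hom.comp_apply] at hab
  exact (Jd G).subschemeι.isEmbedding.injective ((Wtot G).ι.isEmbedding.injective hab)

/-- arrows with source in `Wtot` lift to the induced groupoid -/
theorem exists_RR_of_mem (r : G.R) (hr : G.s r ∈ Wtot G) :
    ∃ r' : RR G (ιd G), (ιRR G (ιd G)) r' = r := by
  have ht : G.t r ∈ Wtot G := (inv_Wtot G r).1 hr
  obtain ⟨a, ha⟩ := exists_ιd_eq G _ ht
  obtain ⟨b, hb⟩ := exists_ιd_eq G _ hr
  obtain ⟨v, hv1, hv2⟩ := Scheme.Pullback.exists_preimage_pullback (f := G.t) (g := ιd G) r a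
    ha.symm
  have hvv : (vv G (ιd G)) v = (ιd G) b := by
    rw [vv, Scheme.Hom.comp_apply, hv1, hb]
  obtain ⟨r', hr1, hr2⟩ := Scheme.Pullback.exists_preimage_pullback (f := vv G (ιd G))
    (g := ιd G) v b hvv
  refine ⟨r', ?_⟩
  rw [ιRR, Scheme.Hom.comp_apply, hr1, hv1]

theorem ιd_s (r' : RR G (ιd G)) :
    (ιd G) ((sRR G (ιd G)) r') = G.s ((ιRR G (ιd G)) r') := by
  rw [← Scheme.Hom.comp_apply, ← Scheme.Hom.comp_apply, sRR_u]

theorem ιd_t (r' : RR G (ιd G)) :
    (ιd G) ((tRR G (ιd G)) r') = G.t ((ιRR G (ιd G)) r') := by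
  rw [← Scheme.Hom.comp_apply, ← Scheme.Hom.comp_apply, tRR_u]

end Groth.Agent.Lead.FitFin
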