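import Mathlib
import Groth.Agent.Lib.Lead.FitFin10
import Groth.Agent.Lib.Helper2.Grpd.InvOpen4
import Groth.Agent.Lib.Helper6.GenPt2
import Groth.Agent.Lib.Helper1.ThickLift3
import Groth.Agent.Lib.Helper2.Sch.FieldBCDim

/-!
# Invariant affine opens containing finitely many generic orbits (lead)
-/

set_option autoImplicit false
set_option backward.isDefEq.respectTransparency.types false
set_option synthInstance.maxHeartbeats 400000
set_option maxHeartbeats 1000000
set_option linter.style.haveILetI false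
set_option linter.unusedSectionVars false

universe u
open CategoryTheory CategoryTheory.Limits AlgebraicGeometry TopologicalSpace

namespace Groth.Agent.Lead.FitFin

open Groth.Agent.Lib.Helper4.GrpdSub1 Groth.Agent.Helper2.GrpdLib.InvOpen

variable {S : Scheme.{u}} (G : Grpd.GroupoidScheme S) [IsFinite G.s] {m : ℕ} (u : Fin m → G.U)

/-- the union of the orbits -/
def orb : Set G.U := {w | ∃ i, ∃ r : G.R, G.s r = u i ∧ G.t r = w}

theorem orb_finite : (orb G u).Finite := by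
  have h : orb G u = ⋃ i, G.t '' (G.s ⁻¹' {u i}) := by
    ext w
    simp only [orb, Set.mem_setOf_eq, Set.mem_iUnion, Set.mem_image, Set.mem_preimage,
      Set.mem_singleton_iff]
  rw [h]
  exact Set.finite_iUnion fun i => (G.s.finite_preimage_singleton (u i)).image _

theorem mem_orb_self (i : Fin m) : u i ∈ orb G u := by
  refine ⟨i, G.e (u i), ?_, ?_⟩
  · rw [← Scheme.Hom.comp_apply, G.e_s]; rfl
  · rw [← Scheme.Hom.comp_apply, G.e_t]; rfl

theorem orb_inv (r : G.R) (h : G.s r ∈ orb G u) : G.t r ∈ orb G u := by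
  obtain ⟨i, r₁, h1, h2⟩ := h
  obtain ⟨r'', h3, h4⟩ := exists_comp G r r₁ h2.symm
  exact ⟨i, r'', h3.trans h1, h4⟩

theorem orb_generic (hu : ∀ i (r : G.R), G.s r = u i → ∀ x : G.U, x ⤳ G.t r → x = G.t r)
    (w : G.U) (hw : w ∈ orb G u) (r : G.R) (hr : G.s r = w) (x : G.U) (hx : x ⤳ G.t r) :
    x = G.t r := by
  obtain ⟨i, r₁, h1, h2⟩ := hw
  obtain ⟨r'', h3, h4⟩ := exists_comp G r r₁ (hr.trans h2.symm)
  have := hu i r'' (h3.trans h1) x (by rw [h4]; exact hx)
  rw [this, h4]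

theorem orb_generic_self (hu : ∀ i (r : G.R), G.s r = u i → ∀ x : G.U, x ⤳ G.t r → x = G.t r)
    (w : G.U) (hw : w ∈ orb G u) (x : G.U) (hx : x ⤳ w) : x = w := by
  have h1 : G.s (G.e w) = w := by rw [← Scheme.Hom.comp_apply, G.e_s]; rfl
  have h2 : G.t (G.e w) = w := by rw [← Scheme.Hom.comp_apply, G.e_t]; rfl
  have := orb_generic G u hu w hw (G.e w) h1 x (by rw [h2]; exact hx)
  rw [this, h2]

theorem orb_le_Wtot (hfg : ∀ (k : ℕ) (V : G.U.affineOpens), ((fitt G.s k).ideal V).FG)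
    (hu : ∀ i (r : G.R), G.s r = u i → ∀ x : G.U, x ⤳ G.t r → x = G.t r)
    (w : G.U) (hw : w ∈ orb G u) : w ∈ Wtot G :=
  mem_Wtot_of_generic' G hfg w (orb_generic G u hu w hw)

section Gen

/-- opens of the source of a surjective closed immersion come from the target -/
theorem exists_open_of_thickening {X Y : Scheme.{u}} (i : X ⟶ Y) [IsClosedImmersion i]
    (hs : Function.Surjective i) (V : X.Opens) : ∃ V₁ : Y.Opens, i ⁻¹ᵁ V₁ = V := by
  have hinj : Function.Injective i := i.isClosedEmbedding.injective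
  have hopen : IsOpen (i '' (V : Set X)) := by
    have h1 : i '' (V : Set X) = (i '' (V : Set X)ᶜ)ᶜ := by
      rw [Set.image_compl_eq ⟨hinj, hs⟩, compl_compl]
    rw [h1]
    exact (i.isClosedEmbedding.isClosedMap _ V.isOpen.isClosed_compl).isOpen_compl
  refine ⟨⟨i '' (V : Set X), hopen⟩, ?_⟩
  ext x
  change i x ∈ i '' (V : Set X) ↔ x ∈ V
  exact hinj.mem_set_image

end Gen

/-- invariant affine opens in finite locally free groupoids, for finite invariant sets of
generic points -/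
theorem exists_invariant_affine_of_flf (G' : Grpd.GroupoidScheme S) [IsFinite G'.s] [Flat G'.s]
    [LocallyOfFinitePresentation G'.s] [QuasiSeparatedSpace G'.U] (E' : Set G'.U)
    (hE'fin : E'.Finite) (hE'inv : ∀ r' : G'.R, G'.s r' ∈ E' → G'.t r' ∈ E')
    (hE'max : ∀ a ∈ E', closure ({a} : Set G'.U) ∈ irreducibleComponents (G'.U : Type u)) :
    ∃ V'' : G'.U.Opens, IsAffineOpen V'' ∧ E' ⊆ (V'' : Set G'.U) ∧
      ∀ r' : G'.R, G'.s r' ∈ V'' → G'.t r' ∈ V'' := by
  have hV₀ : ∃ V₀ : G'.U.Opens, IsAffineOpen V₀ ∧ E' ⊆ V₀ := by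
    by_cases hne : Nonempty G'.U
    · obtain ⟨x⟩ := hne
      obtain ⟨n, η, hη⟩ := hE'fin.fin_embedding
      obtain ⟨V, hV, -, hηV⟩ := Groth.Agent.Helper6.GenPt.affine_contains G'.U η
        (fun i => hE'max _ (by rw [← hη]; exact ⟨i, rfl⟩)) x
      refine ⟨V, hV, ?_⟩
      intro e he
      rw [← hη] at he
      obtain ⟨i, rfl⟩ := he
      exact hηV i
    · refine ⟨⊥, isAffineOpen_bot _, ?_⟩
      intro e _
      exact (hne ⟨e⟩).elim
  obtain ⟨V₀, hV₀a, hE'V₀⟩ := hV₀
  have hE'core : E' ⊆ coreOpen G' V₀ := by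
    intro a ha r' hr'
    apply hE'V₀
    exact hE'inv r' (by rw [hr']; exact ha)
  obtain ⟨f, hEf, hfW⟩ := exists_basicOpen_of_finite_subset hV₀a (coreOpen G' V₀) E' hE'fin
    hE'core hE'V₀
  have hle : G'.s ⁻¹ᵁ G'.U.basicOpen f ≤ G'.t ⁻¹ᵁ V₀ := by
    intro r' hr'
    have h1 : G'.s r' ∈ coreOpen G' V₀ := hfW hr'
    exact coreOpen_le G' V₀ (t_mem_core_of_s G' _ r' h1)
  refine ⟨coreOpen G' (G'.U.basicOpen f), isAffineOpen_core_basicOpen G' V₀ hV₀a f hle, ?_,
    fun r' hr' => t_mem_core_of_s G' _ r' hr'⟩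
  intro a ha r' hr'
  apply hEf
  exact hE'inv r' (by rw [hr']; exact ha)

/-- **the invariant affine open** -/
theorem exists_invariant_affine [QuasiSeparatedSpace G.U]
    (hfg : ∀ (k : ℕ) (V : G.U.affineOpens), ((fitt G.s k).ideal V).FG)
    (hu : ∀ i (r : G.R), G.s r = u i → ∀ x : G.U, x ⤳ G.t r → x = G.t r) :
    ∃ V : G.U.Opens, IsAffineOpen V ∧ (∀ i, u i ∈ V) ∧ V ≤ Wtot G ∧ Inv G V := by
  obtain ⟨hGf, hGfl, hGp⟩ := Gd_s_props G
  haveI := hGf
  haveI := hGfl
  haveI := hGp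
  -- the finite invariant set of generic points
  set E' : Set (Jd G).subscheme := (ιd G) ⁻¹' (orb G u) with hE'def
  have hE'fin : E'.Finite := (orb_finite G u).preimage (ιd_injective G).injOn
  have hE'inv : ∀ r' : RR G (ιd G), (sRR G (ιd G)) r' ∈ E' → (tRR G (ιd G)) r' ∈ E' := by
    intro r' h
    change (ιd G) ((tRR G (ιd G)) r') ∈ orb G u
    rw [ιd_t]
    apply orb_inv
    rw [← ιd_s]
    exact h
  have hE'max : ∀ a ∈ E', closure ({a} : Set (Jd G).subscheme) ∈
      irreducibleComponents ((Jd G).subscheme : Type u) := by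
    intro a ha
    apply Groth.Agent.Helper2.FieldBCDim.closure_mem_irreducibleComponents_of_max
    intro b hb
    have h1 : (ιd G) b ⤳ (ιd G) a := hb.map (ιd G).continuous
    have h2 := orb_generic_self G u hu _ ha _ h1
    rw [ιd_injective G h2]
  haveI : QuasiSeparatedSpace (Jd G).subscheme :=
    quasiSeparatedSpace_of_quasiSeparated (ιd G)
  haveI : QuasiSeparatedSpace (Gd G).U := ‹QuasiSeparatedSpace (Jd G).subscheme›
  obtain ⟨V'', hV''a, hE'V'', hV''inv⟩ := exists_invariant_affine_of_flf (Gd G) E' hE'fin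
    (fun r' h => hE'inv r' h) hE'max
  -- transport to `U`
  have hsurj : Function.Surjective (Jd G).subschemeι := by
    rw [← Set.range_eq_univ, Scheme.IdealSheafData.range_subschemeι, Jd_support]
    rfl
  obtain ⟨V₁, hV₁⟩ := exists_open_of_thickening (Jd G).subschemeι hsurj V''
  have hV₁a : IsAffineOpen V₁ :=
    Groth.Agent.Helper1.ThickLift.isAffineOpen_of_preimage (Jd G).subschemeι hsurj V₁
      (by rw [hV₁]; exact hV''a)
  have hmemV : ∀ a : (Jd G).subscheme, (ιd G) a ∈ (Wtot G).ι ''ᵁ V₁ ↔ a ∈ V'' := by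
    intro a
    rw [← hV₁]
    change (Wtot G).ι ((Jd G).subschemeι a) ∈ (Wtot G).ι '' (V₁ : Set _) ↔ _
    rw [(Wtot G).ι.isOpenEmbedding.injective.mem_set_image]
    rfl
  have hVle : (Wtot G).ι ''ᵁ V₁ ≤ Wtot G := by
    rintro _ ⟨x, -, rfl⟩
    exact x.2
  refine ⟨(Wtot G).ι ''ᵁ V₁, hV₁a.image_of_isOpenImmersion _, ?_, hVle, ?_⟩
  · intro i
    obtain ⟨a, ha⟩ := exists_ιd_eq G (u i) (orb_le_Wtot G u hfg hu _ (mem_orb_self G u i))
    rw [← ha, hmemV]
    apply hE'V''
    change (ιd G) a ∈ orb G u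
    rw [ha]
    exact mem_orb_self G u i
  · -- invariance
    have key : ∀ r : G.R, G.s r ∈ (Wtot G).ι ''ᵁ V₁ → G.t r ∈ (Wtot G).ι ''ᵁ V₁ := by
      intro r hr
      obtain ⟨r', rfl⟩ := exists_RR_of_mem G r (hVle hr)
      rw [← ιd_s, hmemV] at hr
      rw [← ιd_t, hmemV]
      exact hV''inv r' hr
    intro r
    refine ⟨key r, fun h => ?_⟩
    have h1 : G.s (G.i r) ∈ (Wtot G).ι ''ᵁ V₁ := by
      rw [← Scheme.Hom.comp_apply, G.i_s]; exact h
    have h2 := key (G.i r) h1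
    rwa [← Scheme.Hom.comp_apply, G.i_t] at h2

end Groth.Agent.Lead.FitFin
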