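import Mathlib
import Groth.Agent.Lib.Lead.FitFin11

/-!
# S7465, S7466: invariant affine thickenings near generic orbits (lead)
-/

set_option autoImplicit false
set_option backward.isDefEq.respectTransparency.types false
set_option synthInstance.maxHeartbeats 400000
set_option maxHeartbeats 1000000
set_option linter.style.haveILetI false
set_option linter.unusedSectionVars false

universe u
open CategoryTheory CategoryTheory.Limits AlgebraicGeometry TopologicalSpace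

namespace Groth.Agent.Lead.FitFin

variable {S : Scheme.{u}} (G : Grpd.GroupoidScheme S) [IsFinite G.s]

section Gen

theorem isFinLocFree_snd_comp {X Y U' T : Scheme.{u}} (f : X ⟶ Y) (g : U' ⟶ Y) (g' : T ⟶ U')
    (h : Mor2.IsFinLocFree (pullback.snd f g)) : Mor2.IsFinLocFree (pullback.snd f (g' ≫ g)) := by
  obtain ⟨h1, h2, h3⟩ := h
  haveI := h1
  haveI := h2
  haveI := h3
  rw [← pullbackLeftPullbackSndIso_inv_snd_snd]
  exact ⟨inferInstance, inferInstance, inferInstance⟩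

end Gen

variable (V : G.U.Opens) (hVW : V ≤ Wtot G)

/-- the restricted ideal sheaf -/
noncomputable abbrev Jv : (V : Scheme.{u}).IdealSheafData := (Jd G).comap (G.U.homOfLE hVW)

/-- the comparison open immersion of thickenings -/
noncomputable def βv : (Jv G V hVW).subscheme ⟶ (Jd G).subscheme :=
  ((Jd G).comapIso (G.U.homOfLE hVW)).hom ≫ pullback.snd (G.U.homOfLE hVW) (Jd G).subschemeι

instance : IsOpenImmersion (βv G V hVW) := by
  unfold βv
  infer_instance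

theorem βv_ιd : βv G V hVW ≫ ιd G = (Jv G V hVW).subschemeι ≫ V.ι := by
  unfold βv Jv
  rw [Category.assoc, ← Category.assoc (pullback.snd _ _), ← pullback.condition, Category.assoc,
    G.U.homOfLE_ι hVW, ← Category.assoc, Scheme.IdealSheafData.comapIso_hom_fst]

theorem range_βv : Set.range (βv G V hVW) = (ιd G) ⁻¹' (V : Set G.U) := by
  ext x
  constructor
  · rintro ⟨y, rfl⟩
    change (ιd G) ((βv G V hVW) y) ∈ V
    rw [← Scheme.Hom.comp_apply, βv_ιd, Scheme.Hom.comp_apply]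
    exact ((Jv G V hVW).subschemeι y).2
  · intro hx
    have hx' : (ιd G) x ∈ V := hx
    let v : (V : Scheme.{u}) := ⟨(ιd G) x, hx'⟩
    have hv : (G.U.homOfLE hVW) v = (Jd G).subschemeι x := by
      apply (Wtot G).ι.isOpenEmbedding.injective
      rw [← Scheme.Hom.comp_apply, G.U.homOfLE_ι hVW]
      rfl
    obtain ⟨p, hp1, hp2⟩ := Scheme.Pullback.exists_preimage_pullback
      (f := G.U.homOfLE hVW) (g := (Jd G).subschemeι) v x hv
    have h1 : ((Jd G).comapIso (G.U.homOfLE hVW)).inv ≫ βv G V hVW = pullback.snd _ _ := by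
      unfold βv
      exact Iso.inv_hom_id_assoc _ _
    refine ⟨((Jd G).comapIso (G.U.homOfLE hVW)).inv p, ?_⟩
    have h2 := congrArg (fun f => f p) h1
    simp only [Scheme.Hom.comp_apply] at h2
    rw [← hp2]
    exact h2

theorem exists_fac_v {T : Scheme.{u}} (h : T ⟶ G.U) (x : T ⟶ (Jd G).subscheme) (hx : x ≫ ιd G = h)
    (hV : ∀ t, h t ∈ V) :
    ∃ y : T ⟶ (Jv G V hVW).subscheme, y ≫ ((Jv G V hVW).subschemeι ≫ V.ι) = h := by
  have hr : Set.range x ⊆ Set.range (βv G V hVW) := by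
    rw [range_βv]
    rintro _ ⟨t, rfl⟩
    change (ιd G) (x t) ∈ V
    rw [← Scheme.Hom.comp_apply, hx]
    exact hV t
  refine ⟨IsOpenImmersion.lift (βv G V hVW) x hr, ?_⟩
  rw [← βv_ιd, ← Category.assoc, IsOpenImmersion.lift_fac, hx]

theorem exists_fac_transfer_v (hInv : Inv G V) (σ τ : G.R ⟶ G.U)
    (H1 : ∀ k, (fitt G.s k).comap σ = (fitt G.s k).comap τ)
    (H2 : ∀ n (r : G.R), σ r ∈ Wo G n ↔ τ r ∈ Wo G n)
    (H3 : ∀ r : G.R, σ r ∈ Wtot G ↔ τ r ∈ Wtot G)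
    (H4 : ∀ r : G.R, σ r ∈ V ↔ τ r ∈ V) :
    ∃ z : pullback σ ((Jv G V hVW).subschemeι ≫ V.ι) ⟶ (Jv G V hVW).subscheme,
      z ≫ ((Jv G V hVW).subschemeι ≫ V.ι) =
        pullback.fst σ ((Jv G V hVW).subschemeι ≫ V.ι) ≫ τ := by
  obtain ⟨x₀, hx₀⟩ := exists_fac_transfer G σ τ H1 H2 H3
  have hc : pullback.fst σ ((Jv G V hVW).subschemeι ≫ V.ι) ≫ σ =
      (pullback.snd σ ((Jv G V hVW).subschemeι ≫ V.ι) ≫ βv G V hVW) ≫ ιd G := by
    rw [Category.assoc, βv_ιd, pullback.condition]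
  refine exists_fac_v G V hVW _ (pullback.lift _ _ hc ≫ x₀) ?_ ?_
  · rw [Category.assoc, hx₀, pullback.lift_fst_assoc]
  · intro p
    rw [Scheme.Hom.comp_apply, ← H4, ← Scheme.Hom.comp_apply, pullback.condition,
      Scheme.Hom.comp_apply, Scheme.Hom.comp_apply]
    exact ((Jv G V hVW).subschemeι _).2

theorem exists_inv_iso_v (hInv : Inv G V) :
    ∃ φ : pullback G.s ((Jv G V hVW).subschemeι ≫ V.ι) ≅
        pullback G.t ((Jv G V hVW).subschemeι ≫ V.ι),
      φ.hom ≫ pullback.fst G.t ((Jv G V hVW).subschemeι ≫ V.ι) =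
        pullback.fst G.s ((Jv G V hVW).subschemeι ≫ V.ι) := by
  obtain ⟨x, hx⟩ := exists_fac_transfer_v G V hVW hInv G.s G.t (comap_s_eq_comap_t G)
    (fun n r => inv_Wo G n r) (inv_Wtot G) hInv
  obtain ⟨y, hy⟩ := exists_fac_transfer_v G V hVW hInv G.t G.s
    (fun k => (comap_s_eq_comap_t G k).symm)
    (fun n r => (inv_Wo G n r).symm) (fun r => (inv_Wtot G r).symm) (fun r => (hInv r).symm)
  haveI : Mono ((Jv G V hVW).subschemeι ≫ V.ι) := inferInstance
  refine ⟨⟨pullback.lift (pullback.fst _ _) x hx.symm, pullback.lift (pullback.fst _ _) y hy.symm,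
    ?_, ?_⟩, pullback.lift_fst _ _ _⟩
  · rw [← cancel_mono (pullback.fst G.s ((Jv G V hVW).subschemeι ≫ V.ι)), Category.assoc,
      pullback.lift_fst, pullback.lift_fst, Category.id_comp]
  · rw [← cancel_mono (pullback.fst G.t ((Jv G V hVW).subschemeι ≫ V.ι)), Category.assoc,
      pullback.lift_fst, pullback.lift_fst, Category.id_comp]

theorem flf_s_v : Mor2.IsFinLocFree (pullback.snd G.s ((Jv G V hVW).subschemeι ≫ V.ι)) := by
  rw [← βv_ιd]
  exact isFinLocFree_snd_comp _ _ _ (flf_s G)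

theorem flf_t_v : Mor2.IsFinLocFree (pullback.snd G.t ((Jv G V hVW).subschemeι ≫ V.ι)) := by
  rw [← βv_ιd]
  exact isFinLocFree_snd_comp _ _ _ (flf_t G)

theorem Jv_support : (Jv G V hVW).support = ⊤ := by
  unfold Jv
  rw [Scheme.IdealSheafData.support_comap, Jd_support]
  rfl

theorem lfp_Jv (h : LocallyOfFinitePresentation (Jd G).subschemeι) :
    LocallyOfFinitePresentation (Jv G V hVW).subschemeι := by
  haveI := h
  exact lfp_comap_subschemeι _ _

/-- the common part of S7465 and S7466 -/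
theorem exists_affine_thickening [QuasiSeparatedSpace G.U]
    (hfg : ∀ (k : ℕ) (V : G.U.affineOpens), ((fitt G.s k).ideal V).FG)
    {m : ℕ} (u : Fin m → G.U)
    (hu : ∀ i (r : G.R), G.s r = u i → ∀ x : G.U, x ⤳ G.t r → x = G.t r) :
    ∃ (V : G.U.Opens) (V' : (↑V : Scheme.{u}).IdealSheafData), IsAffineOpen V ∧ (∀ i, u i ∈ V) ∧
      G.s ⁻¹ᵁ V = G.t ⁻¹ᵁ V ∧ V'.support = ⊤ ∧
      (LocallyOfFinitePresentation (Jd G).subschemeι → LocallyOfFinitePresentation V'.subschemeι) ∧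
      (∃ φ : pullback G.s (V'.subschemeι ≫ V.ι) ≅ pullback G.t (V'.subschemeι ≫ V.ι),
        φ.hom ≫ pullback.fst G.t (V'.subschemeι ≫ V.ι) = pullback.fst G.s (V'.subschemeι ≫ V.ι)) ∧
      Mor2.IsFinLocFree (pullback.snd G.s (V'.subschemeι ≫ V.ι)) ∧
      Mor2.IsFinLocFree (pullback.snd G.t (V'.subschemeι ≫ V.ι)) := by
  obtain ⟨V, hVa, huV, hVW, hInv⟩ := exists_invariant_affine G u hfg hu
  exact ⟨V, Jv G V hVW, hVa, huV, inv_preimage G hInv, Jv_support G V hVW, lfp_Jv G V hVW,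
    exists_inv_iso_v G V hVW hInv, flf_s_v G V hVW, flf_t_v G V hVW⟩

theorem main7466 [LocallyOfFinitePresentation G.s] [IsFinite G.t]
    [LocallyOfFinitePresentation G.t] [QuasiSeparatedSpace G.U] (m : ℕ) (u : Fin m → G.U)
    (hu : ∀ i (r : G.R), G.s r = u i → ∀ x : G.U, x ⤳ G.t r → x = G.t r) :
    ∃ (V : G.U.Opens) (V' : (↑V : Scheme.{u}).IdealSheafData), IsAffineOpen V ∧ (∀ i, u i ∈ V) ∧
      G.s ⁻¹ᵁ V = G.t ⁻¹ᵁ V ∧ V'.support = ⊤ ∧ LocallyOfFinitePresentation V'.subschemeι ∧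
      (∃ φ : pullback G.s (V'.subschemeι ≫ V.ι) ≅ pullback G.t (V'.subschemeι ≫ V.ι),
        φ.hom ≫ pullback.fst G.t (V'.subschemeι ≫ V.ι) = pullback.fst G.s (V'.subschemeι ≫ V.ι)) ∧
      Mor2.IsFinLocFree (pullback.snd G.s (V'.subschemeι ≫ V.ι)) ∧
      Mor2.IsFinLocFree (pullback.snd G.t (V'.subschemeι ≫ V.ι)) := by
  obtain ⟨V, V', h1, h2, h3, h4, h5, h6, h7, h8⟩ :=
    exists_affine_thickening G (fitt_fg G) u hu
  exact ⟨V, V', h1, h2, h3, h4, h5 (lfp_Jd G), h6, h7, h8⟩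

theorem main7465 [IsFinite G.t] [IsLocallyNoetherian G.U] (m : ℕ) (u : Fin m → G.U)
    (hu : ∀ i (r : G.R), G.s r = u i → ∀ x : G.U, x ⤳ G.t r → x = G.t r) :
    ∃ (V : G.U.Opens) (V' : (↑V : Scheme.{u}).IdealSheafData), IsAffineOpen V ∧ (∀ i, u i ∈ V) ∧
      G.s ⁻¹ᵁ V = G.t ⁻¹ᵁ V ∧ V'.support = ⊤ ∧
      (∃ φ : pullback G.s (V'.subschemeι ≫ V.ι) ≅ pullback G.t (V'.subschemeι ≫ V.ι),
        φ.hom ≫ pullback.fst G.t (V'.subschemeι ≫ V.ι) = pullback.fst G.s (V'.subschemeι ≫ V.ι)) ∧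
      Mor2.IsFinLocFree (pullback.snd G.s (V'.subschemeι ≫ V.ι)) ∧
      Mor2.IsFinLocFree (pullback.snd G.t (V'.subschemeι ≫ V.ι)) := by
  have hfg : ∀ (k : ℕ) (V : G.U.affineOpens), ((fitt G.s k).ideal V).FG := by
    intro k V
    haveI : IsNoetherianRing Γ(G.U, V.1) := IsLocallyNoetherian.component_noetherian V
    exact (isNoetherianRing_iff_ideal_fg _).1 inferInstance _
  obtain ⟨V, V', h1, h2, h3, h4, -, h6, h7, h8⟩ := exists_affine_thickening G hfg u hu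
  exact ⟨V, V', h1, h2, h3, h4, h6, h7, h8⟩

end Groth.Agent.Lead.FitFin
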