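import Mathlib
import Groth.Agent.Lib.Lead.FitFin12

/-!
# Generic lemmas for S1885 (lead): prime avoidance, exposed norm, closed immersions into `D(h)`
-/

set_option autoImplicit false
set_option backward.isDefEq.respectTransparency.types false
set_option synthInstance.maxHeartbeats 400000
set_option maxHeartbeats 1000000
set_option linter.style.haveILetI false
set_option linter.unusedSectionVars false

universe u
open CategoryTheory CategoryTheory.Limits AlgebraicGeometry TopologicalSpace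

namespace Groth.Agent.Lead.FitFin

open Groth.Agent.Helper2.GrpdLib.InvOpen

/-- prime avoidance in the form needed -/
theorem exists_mem_avoid {A : Type u} [CommRing A] (I : Ideal A) (Z : Set (PrimeSpectrum A))
    (hZ : IsClosed Z) (hIZ : PrimeSpectrum.zeroLocus (I : Set A) ⊆ Z)
    (P : Set (PrimeSpectrum A)) (hP : P.Finite) (hPZ : ∀ p ∈ P, p ∉ Z) :
    ∃ h ∈ I, (∀ z ∈ Z, z ∉ PrimeSpectrum.basicOpen h) ∧ ∀ p ∈ P, p ∈ PrimeSpectrum.basicOpen h := by
  classical
  set J : Ideal A := I ⊓ PrimeSpectrum.vanishingIdeal Z with hJ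
  have hnot : ∀ p ∈ P, ¬ (J ≤ p.asIdeal) := by
    intro p hp hle
    rcases (Ideal.IsPrime.inf_le p.isPrime).1 hle with h1 | h1
    · exact hPZ p hp (hIZ ((PrimeSpectrum.mem_zeroLocus _ _).2 h1))
    · have : p ∈ PrimeSpectrum.zeroLocus (PrimeSpectrum.vanishingIdeal Z : Set A) :=
        (PrimeSpectrum.mem_zeroLocus _ _).2 h1
      rw [PrimeSpectrum.zeroLocus_vanishingIdeal_eq_closure, hZ.closure_eq] at this
      exact hPZ p hp this
  by_cases hne : P.Nonempty
  · obtain ⟨p₀, hp₀⟩ := hne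
    have h1 : ¬ ((J : Set A) ⊆ ⋃ p ∈ ((hP.toFinset : Finset (PrimeSpectrum A)) : Set _),
        ((fun p : PrimeSpectrum A => p.asIdeal) p : Set A)) := by
      intro hsub
      obtain ⟨p, hp, hle⟩ := (Ideal.subset_union_prime (s := hP.toFinset)
        (f := fun p : PrimeSpectrum A => p.asIdeal) p₀ p₀
        (fun p _ _ _ => p.isPrime)).1 hsub
      exact hnot p (hP.mem_toFinset.1 hp) hle
    rw [Set.not_subset] at h1
    obtain ⟨h, hhJ, hh⟩ := h1
    have hhJ' : h ∈ I ∧ h ∈ PrimeSpectrum.vanishingIdeal Z := Ideal.mem_inf.1 hhJ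
    refine ⟨h, hhJ'.1, ?_, ?_⟩
    · intro z hz hzh
      exact hzh ((PrimeSpectrum.mem_vanishingIdeal _ _).1 hhJ'.2 z hz)
    · intro p hp hph
      apply hh
      simp only [Set.mem_iUnion]
      exact ⟨p, by simpa using hp, hph⟩
  · refine ⟨0, I.zero_mem, ?_, ?_⟩
    · intro z _ hz
      exact hz (z.asIdeal.zero_mem)
    · intro p hp
      exact (hne ⟨p, hp⟩).elim

/-- the exposed form of the norm construction: the core of a basic open is a basic open -/
theorem exists_core_basicOpen {S : Scheme.{u}} (G : Grpd.GroupoidScheme S)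
    [IsFinite G.s] [Flat G.s] [LocallyOfFinitePresentation G.s]
    (V : G.U.Opens) (hV : IsAffineOpen V) (f : Γ(G.U, V))
    (hle : G.s ⁻¹ᵁ G.U.basicOpen f ≤ G.t ⁻¹ᵁ V) :
    ∃ g : Γ((G.U.basicOpen f).toScheme, ⊤),
      (G.U.basicOpen f).ι ''ᵁ (G.U.basicOpen f).toScheme.basicOpen g =
        coreOpen G (G.U.basicOpen f) := by
  set Vf : G.U.Opens := G.U.basicOpen f with hVf
  have hVfa : IsAffineOpen Vf := hV.basicOpen f
  haveI : IsAffine Vf.toScheme := hVfa
  let π : (G.s ⁻¹ᵁ Vf).toScheme ⟶ Vf.toScheme := G.s ∣_ Vf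
  haveI : IsFinite π := MorphismProperty.of_isPullback (P := @IsFinite)
    (isPullback_morphismRestrict G.s Vf).flip inferInstance
  haveI : Flat π := MorphismProperty.of_isPullback (P := @Flat)
    (isPullback_morphismRestrict G.s Vf).flip inferInstance
  haveI : LocallyOfFinitePresentation π := MorphismProperty.of_isPullback
    (P := @LocallyOfFinitePresentation) (isPullback_morphismRestrict G.s Vf).flip inferInstance
  -- the function
  let b₀ : Γ(G.R, G.t ⁻¹ᵁ V) := G.t.app V f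
  let b₁ : Γ(G.R, G.s ⁻¹ᵁ Vf) := G.R.presheaf.map (homOfLE hle).op b₀
  let b : Γ((G.s ⁻¹ᵁ Vf).toScheme, ⊤) := (G.s ⁻¹ᵁ Vf).topIso.inv b₁
  have hb : ∀ y : (G.s ⁻¹ᵁ Vf).toScheme, y ∈ (G.s ⁻¹ᵁ Vf).toScheme.basicOpen b ↔ G.t y.1 ∈ Vf := by
    intro y
    have h1 : (G.s ⁻¹ᵁ Vf).ι ''ᵁ (G.s ⁻¹ᵁ Vf).toScheme.basicOpen b = G.R.basicOpen b₁ :=
      Scheme.Opens.ι_image_basicOpen_topIso_inv _ b₁
    have h2 : G.R.basicOpen b₁ = G.s ⁻¹ᵁ Vf ⊓ G.R.basicOpen b₀ := Scheme.basicOpen_res _ _ _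
    have h3 : G.R.basicOpen b₀ = G.t ⁻¹ᵁ Vf := (Scheme.preimage_basicOpen G.t f).symm
    constructor
    · intro hy
      have : y.1 ∈ (G.s ⁻¹ᵁ Vf).ι ''ᵁ (G.s ⁻¹ᵁ Vf).toScheme.basicOpen b := ⟨y, hy, rfl⟩
      rw [h1, h2, h3] at this
      exact this.2
    · intro hy
      have : y.1 ∈ (G.s ⁻¹ᵁ Vf).ι ''ᵁ (G.s ⁻¹ᵁ Vf).toScheme.basicOpen b := by
        rw [h1, h2, h3]
        exact ⟨y.2, hy⟩
      obtain ⟨y', hy', hyy⟩ := this
      have : y' = y := Subtype.ext hyy
      rwa [this] at hy'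
  obtain ⟨g, hg⟩ := exists_basicOpen_of_affine π b
  refine ⟨g, ?_⟩
  ext w
  constructor
  · rintro ⟨x, hx, rfl⟩
    intro r hr
    have hr' : r ∈ G.s ⁻¹ᵁ Vf := by
      show G.s r ∈ Vf
      rw [hr]; exact x.2
    have := (hg x).1 hx ⟨r, hr'⟩ (Subtype.ext (by
      rw [morphismRestrict_base_coe]; exact hr))
    exact (hb _).1 this
  · intro hw
    have hwV : w ∈ Vf := core_subset G _ hw
    refine ⟨⟨w, hwV⟩, ?_, rfl⟩
    refine (hg (⟨w, hwV⟩ : Vf.toScheme)).2 ?_
    intro y hy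
    rw [hb]
    refine hw y.1 ?_
    have := congrArg Subtype.val hy
    rw [morphismRestrict_base_coe] at this
    exact this

/-- functions on a scheme closed in `D(h)` come from fractions -/
theorem exists_basicOpen_eq_preimage {X : Scheme.{u}} {A : Type u} [CommRing A]
    (ψ : X ⟶ Spec (CommRingCat.of A)) [IsPreimmersion ψ] (h : A)
    (T : Set (PrimeSpectrum A)) (hT : IsClosed T)
    (hrT : Set.range ψ = T ∩ (PrimeSpectrum.basicOpen h : Set (PrimeSpectrum A)))
    (g : Γ(X, ⊤)) :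
    ∃ a : A, ∀ x : X, x ∈ X.basicOpen g ↔ ψ x ∈ PrimeSpectrum.basicOpen a := by
  let B := Localization.Away h
  let ι : Spec (CommRingCat.of B) ⟶ Spec (CommRingCat.of A) :=
    Spec.map (CommRingCat.ofHom (algebraMap A B))
  haveI : IsOpenImmersion ι := inferInstance
  have hrι : Set.range ι = (PrimeSpectrum.basicOpen h : Set (PrimeSpectrum A)) :=
    PrimeSpectrum.localization_away_comap_range B h
  have hr : Set.range ψ ⊆ Set.range ι := by
    rw [hrι, hrT]
    exact Set.inter_subset_right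
  let φ : X ⟶ Spec (CommRingCat.of B) := IsOpenImmersion.lift ι ψ hr
  have hφ : φ ≫ ι = ψ := IsOpenImmersion.lift_fac ι ψ hr
  haveI : IsPreimmersion (φ ≫ ι) := by rw [hφ]; infer_instance
  haveI : IsPreimmersion φ := IsPreimmersion.of_comp φ ι
  have hcl : IsClosed (Set.range φ) := by
    have h1 : Set.range φ = ι ⁻¹' T := by
      ext p
      constructor
      · rintro ⟨x, rfl⟩
        have : ψ x ∈ T ∩ (PrimeSpectrum.basicOpen h : Set (PrimeSpectrum A)) := by
          rw [← hrT]; exact ⟨x, rfl⟩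
        change ι (φ x) ∈ T
        rw [← Scheme.Hom.comp_apply, hφ]
        exact this.1
      · intro hp
        have hp' : ι p ∈ T := hp
        have h2 : ι p ∈ Set.range ψ := by
          rw [hrT]
          refine ⟨hp', ?_⟩
          rw [← hrι]
          exact ⟨p, rfl⟩
        obtain ⟨x, hx⟩ := h2
        refine ⟨x, ?_⟩
        apply ι.isOpenEmbedding.injective
        rw [← Scheme.Hom.comp_apply, hφ, hx]
    rw [h1]
    exact hT.preimage ι.continuous
  haveI : IsClosedImmersion φ := IsClosedImmersion.of_isPreimmersion φ hcl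
  obtain ⟨-, hsurj⟩ := IsClosedImmersion.isAffine_surjective_of_isAffine φ
  obtain ⟨x, hx⟩ := hsurj g
  obtain ⟨b, hb⟩ : ∃ b : B, (Scheme.ΓSpecIso (CommRingCat.of B)).inv b = x :=
    ⟨(Scheme.ΓSpecIso (CommRingCat.of B)).hom x, by simp⟩
  obtain ⟨n, a, hab⟩ := IsLocalization.Away.surj h b
  refine ⟨a, fun y => ?_⟩
  have h1 : X.basicOpen g = φ ⁻¹ᵁ (Spec (CommRingCat.of B)).basicOpen x := by
    rw [Scheme.preimage_basicOpen, ← hx]
    rfl
  have h2 : (Spec (CommRingCat.of B)).basicOpen x = PrimeSpectrum.basicOpen b := by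
    rw [← hb]
    exact basicOpen_eq_of_affine (R := CommRingCat.of B) b
  have h3 : ∀ p : PrimeSpectrum B, p ∈ PrimeSpectrum.basicOpen b ↔
      ι p ∈ PrimeSpectrum.basicOpen a := by
    intro p
    have hu : IsUnit ((algebraMap A B) h ^ n) := (IsLocalization.Away.algebraMap_isUnit h).pow n
    change b ∉ p.asIdeal ↔ (algebraMap A B) a ∉ p.asIdeal
    rw [← hab]
    constructor
    · intro hbp hmul
      rcases p.isPrime.mem_or_mem hmul with h4 | h4
      · exact hbp h4
      · exact p.isPrime.ne_top (Ideal.eq_top_of_isUnit_mem _ h4 hu)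
    · intro hmul hbp
      exact hmul (Ideal.mul_mem_right _ _ hbp)
  rw [h1, ← hφ, Scheme.Hom.comp_apply, ← h3]
  change φ y ∈ (Spec (CommRingCat.of B)).basicOpen x ↔ _
  rw [h2]
  exact Iff.rfl


end Groth.Agent.Lead.FitFin
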