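import Mathlib
import Groth.Agent.Lib.Lead.FitFin13

/-!
# S1885: invariant affine basic opens (lead)
-/

set_option autoImplicit false
set_option backward.isDefEq.respectTransparency.types false
set_option synthInstance.maxHeartbeats 400000
set_option maxHeartbeats 1000000
set_option linter.style.haveILetI false
set_option linter.unusedSectionVars false

universe u
open CategoryTheory CategoryTheory.Limits AlgebraicGeometry TopologicalSpace

namespace Groth.Agent.Lead.FitFin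

open Groth.Agent.Lib.Helper4.GrpdSub1 Groth.Agent.Helper2.GrpdLib.InvOpen

variable {S : Scheme.{u}} (G : Grpd.GroupoidScheme S) [IsFinite G.s]

/-- the core of a preimage along `ιd` -/
theorem core_ιd (O : Set G.U) (y : (Jd G).subscheme) :
    y ∈ core (Gd G) ((ιd G) ⁻¹' O) ↔ (ιd G) y ∈ core G O := by
  constructor
  · intro hy r hr
    have hrW : G.s r ∈ Wtot G := by rw [hr]; exact ιd_mem G y
    obtain ⟨r', rfl⟩ := exists_RR_of_mem G r hrW
    have h1 : (sRR G (ιd G)) r' = y := by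
      apply ιd_injective G
      rw [ιd_s, hr]
    have h2 := hy r' h1
    change (ιd G) ((tRR G (ιd G)) r') ∈ O at h2
    rwa [ιd_t] at h2
  · intro hy r' hr'
    change (ιd G) ((tRR G (ιd G)) r') ∈ O
    rw [ιd_t]
    apply hy
    rw [← ιd_s]
    exact congrArg _ hr'

section Gen

/-- basic opens inside an affine open are affine -/
theorem isAffineOpen_basicOpen_of_le {X : Scheme.{u}} (V : X.Opens) (hV : IsAffineOpen V)
    (F : Γ(X, ⊤)) (hle : X.basicOpen F ≤ V) : IsAffineOpen (X.basicOpen F) := by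
  have h1 : X.basicOpen (X.presheaf.map (homOfLE (le_top : V ≤ ⊤)).op F) = X.basicOpen F := by
    rw [Scheme.basicOpen_res]
    exact inf_eq_right.2 hle
  rw [← h1]
  exact hV.basicOpen _

/-- preimages of basic opens of `Spec A` -/
theorem preimage_basicOpen_Spec {X : Scheme.{u}} {A : Type u} [CommRing A]
    (ψ : X ⟶ Spec (CommRingCat.of A)) (h : A) :
    ψ ⁻¹ᵁ (PrimeSpectrum.basicOpen h) =
      X.basicOpen (ψ.appTop ((Scheme.ΓSpecIso (CommRingCat.of A)).inv h)) := by
  rw [← basicOpen_eq_of_affine (R := CommRingCat.of A) h, Scheme.preimage_basicOpen]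
  rfl

end Gen

theorem main1885 [LocallyOfFinitePresentation G.s] [IsFinite G.t]
    [LocallyOfFinitePresentation G.t] (m : ℕ) (u : Fin m → G.U)
    (hu : ∀ i (r : G.R), G.s r = u i → ∀ x : G.U, x ⤳ G.t r → x = G.t r)
    (A : Type u) [CommRing A] (j : G.U ⟶ Spec (CommRingCat.of A)) [IsImmersion j] (I : Ideal A)
    (hI : ∀ x : G.U, j x ∉ PrimeSpectrum.zeroLocus (I : Set A))
    (hcl : IsClosed (PrimeSpectrum.zeroLocus (I : Set A) ∪ Set.range j)) :
    ∃ h ∈ I, IsAffineOpen (j ⁻¹ᵁ PrimeSpectrum.basicOpen h) ∧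
      (∀ i, u i ∈ j ⁻¹ᵁ PrimeSpectrum.basicOpen h) ∧
      G.s ⁻¹ᵁ (j ⁻¹ᵁ PrimeSpectrum.basicOpen h) = G.t ⁻¹ᵁ (j ⁻¹ᵁ PrimeSpectrum.basicOpen h) := by
  haveI : QuasiSeparatedSpace G.U := quasiSeparatedSpace_of_quasiSeparated j
  obtain ⟨V, hVa, huV, hVW, hInv⟩ := exists_invariant_affine G u (fitt_fg G) hu
  have horbV : orb G u ⊆ (V : Set G.U) := by
    rintro w ⟨i, r, h1, h2⟩
    rw [← h2]
    exact (hInv r).1 (by rw [h1]; exact huV i)
  have hjinj : Function.Injective j := j.isEmbedding.injective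
  -- the closed set to avoid
  set Z : Set (PrimeSpectrum A) := PrimeSpectrum.zeroLocus (I : Set A) ∪ j '' ((V : Set G.U)ᶜ)
    with hZdef
  have hZcl : IsClosed Z := by
    obtain ⟨K, hK, hKV⟩ := j.isEmbedding.isInducing.isClosed_iff.1 V.isOpen.isClosed_compl
    have h1 : Z = (PrimeSpectrum.zeroLocus (I : Set A) ∪ Set.range j) ∩
        (PrimeSpectrum.zeroLocus (I : Set A) ∪ K) := by
      ext p
      constructor
      · rintro (hp | ⟨w, hw, rfl⟩)
        · exact ⟨Or.inl hp, Or.inl hp⟩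
        · refine ⟨Or.inr ⟨w, rfl⟩, Or.inr ?_⟩
          have : w ∈ j ⁻¹' K := by rw [hKV]; exact hw
          exact this
      · rintro ⟨h1 | ⟨w, rfl⟩, h2 | h2⟩
        · exact Or.inl h1
        · exact Or.inl h1
        · exact Or.inl h2
        · refine Or.inr ⟨w, ?_, rfl⟩
          have : w ∈ j ⁻¹' K := h2
          rw [hKV] at this
          exact this
    rw [h1]
    exact hcl.inter ((PrimeSpectrum.isClosed_zeroLocus _).union hK)
  have hPZ : ∀ p ∈ j '' (orb G u), p ∉ Z := by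
    rintro _ ⟨w, hw, rfl⟩ hZ
    rcases hZ with h1 | ⟨w', hw', h2⟩
    · exact hI w h1
    · rw [hjinj h2] at hw'
      exact hw' (horbV hw)
  obtain ⟨h, hhI, hhZ, hhP⟩ := exists_mem_avoid I Z hZcl Set.subset_union_left _
    ((orb_finite G u).image j) hPZ
  set O : G.U.Opens := j ⁻¹ᵁ PrimeSpectrum.basicOpen h with hOdef
  have hOV : O ≤ V := by
    intro w hw
    by_contra hwV
    exact hhZ (j w) (Or.inr ⟨w, hwV, rfl⟩) hw
  have horbO : orb G u ⊆ (O : Set G.U) := fun w hw => hhP _ ⟨w, hw, rfl⟩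
  -- the thickening
  obtain ⟨hGf, hGfl, hGp⟩ := Gd_s_props G
  haveI := hGf
  haveI := hGfl
  haveI := hGp
  set V'' : (Jd G).subscheme.Opens := (ιd G) ⁻¹ᵁ V with hV''def
  have hV''a : IsAffineOpen V'' := by
    have h1 : IsAffineOpen ((Wtot G).ι ⁻¹ᵁ V) := by
      rw [← Scheme.Hom.isAffineOpen_iff_of_isOpenImmersion (Wtot G).ι,
        Scheme.Hom.image_preimage_eq_opensRange_inf, Scheme.Opens.opensRange_ι,
        inf_eq_right.2 hVW]
      exact hVa
    exact h1.preimage (Jd G).subschemeι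
  let hA : Γ(Spec (CommRingCat.of A), ⊤) := (Scheme.ΓSpecIso (CommRingCat.of A)).inv h
  let F' : Γ((Jd G).subscheme, ⊤) := (ιd G ≫ j).appTop hA
  let f' : Γ((Jd G).subscheme, V'') :=
    (Jd G).subscheme.presheaf.map (homOfLE (le_top : V'' ≤ ⊤)).op F'
  have hO' : ∀ y : (Jd G).subscheme, y ∈ (Jd G).subscheme.basicOpen f' ↔ (ιd G) y ∈ O := by
    intro y
    rw [Scheme.basicOpen_res, ← preimage_basicOpen_Spec]
    constructor
    · rintro ⟨-, h2⟩
      exact h2
    · intro h2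
      exact ⟨hOV h2, h2⟩
  have hle : (Gd G).s ⁻¹ᵁ (Gd G).U.basicOpen f' ≤ (Gd G).t ⁻¹ᵁ V'' := by
    intro r' hr'
    have h1 : (ιd G) ((sRR G (ιd G)) r') ∈ O := (hO' _).1 hr'
    change (ιd G) ((tRR G (ιd G)) r') ∈ V
    rw [ιd_t]
    rw [ιd_s] at h1
    exact (hInv _).1 (hOV h1)
  obtain ⟨g, hg⟩ := exists_core_basicOpen (Gd G) V'' hV''a f' hle
  set O' : (Jd G).subscheme.Opens := (Jd G).subscheme.basicOpen f' with hO'def
  let ψ : O'.toScheme ⟶ Spec (CommRingCat.of A) := O'.ι ≫ ιd G ≫ j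
  haveI : IsPreimmersion ψ := inferInstance
  have hψ : ∀ x : O'.toScheme, ψ x = j ((ιd G) x.1) := fun x => rfl
  have hrT : Set.range ψ = (PrimeSpectrum.zeroLocus (I : Set A) ∪ Set.range j) ∩
      (PrimeSpectrum.basicOpen h : Set (PrimeSpectrum A)) := by
    ext p
    constructor
    · rintro ⟨x, rfl⟩
      rw [hψ]
      exact ⟨Or.inr ⟨_, rfl⟩, (hO' x.1).1 x.2⟩
    · rintro ⟨hp | ⟨w, rfl⟩, hph⟩
      · exact (hph (hp hhI)).elim
      · have hwO : w ∈ O := hph
        obtain ⟨y, hy⟩ := exists_ιd_eq G w (hVW (hOV hwO))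
        have hyO' : y ∈ O' := (hO' y).2 (by rw [hy]; exact hwO)
        refine ⟨⟨y, hyO'⟩, ?_⟩
        rw [hψ, hy]
  obtain ⟨a, ha⟩ := exists_basicOpen_eq_preimage ψ h _ hcl hrT g
  have hcore : coreOpen G O = j ⁻¹ᵁ PrimeSpectrum.basicOpen (h * a) := by
    ext w
    constructor
    · intro hw
      have hwO : w ∈ O := coreOpen_le G O hw
      obtain ⟨y, hy⟩ := exists_ιd_eq G w (hVW (hOV hwO))
      have hyc : y ∈ coreOpen (Gd G) O' := by
        have h1 : y ∈ core (Gd G) ((ιd G) ⁻¹' (O : Set G.U)) := by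
          rw [core_ιd, hy]
          exact hw
        intro r' hr'
        exact (hO' _).2 (h1 r' hr')
      obtain ⟨x, hx, hxy⟩ := hg.ge hyc
      have h2 := (ha x).1 hx
      rw [hψ] at h2
      have hxy' : x.1 = y := hxy
      rw [hxy', hy] at h2
      change j w ∈ PrimeSpectrum.basicOpen (h * a)
      rw [PrimeSpectrum.basicOpen_mul]
      exact ⟨hwO, h2⟩
    · intro hw
      have hw' : j w ∈ PrimeSpectrum.basicOpen (h * a) := hw
      rw [PrimeSpectrum.basicOpen_mul] at hw'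
      have hwO : w ∈ O := hw'.1
      obtain ⟨y, hy⟩ := exists_ιd_eq G w (hVW (hOV hwO))
      have hyO' : y ∈ O' := (hO' y).2 (by rw [hy]; exact hwO)
      have hx : (⟨y, hyO'⟩ : O'.toScheme) ∈ O'.toScheme.basicOpen g := by
        refine (ha (⟨y, hyO'⟩ : O'.toScheme)).2 ?_
        rw [hψ]
        change j ((ιd G) y) ∈ _
        rw [hy]
        exact hw'.2
      have hyc : y ∈ coreOpen (Gd G) O' := hg.le ⟨⟨y, hyO'⟩, hx, rfl⟩
      have h1 : y ∈ core (Gd G) ((ιd G) ⁻¹' (O : Set G.U)) := by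
        intro r' hr'
        exact (hO' _).1 (hyc r' hr')
      rw [core_ιd, hy] at h1
      exact h1
  refine ⟨h * a, I.mul_mem_right _ hhI, ?_, ?_, ?_⟩
  · rw [preimage_basicOpen_Spec]
    apply isAffineOpen_basicOpen_of_le V hVa
    rw [← preimage_basicOpen_Spec, ← hcore]
    exact (coreOpen_le G O).trans hOV
  · intro i
    rw [← hcore]
    intro r hr
    exact horbO ⟨i, r, hr, rfl⟩
  · rw [← hcore]
    exact coreOpen_invariant G O

end Groth.Agent.Lead.FitFin
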