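import Mathlib
import Groth.Prelude.Def_Fitting
import Groth.Prelude.Def_Omega4
import Groth.Agent.Lib.Lead.FittSh
import Groth.Agent.Lib.Lead.OmU9c
import Groth.Agent.Lib.Lead.OmU13d
import Groth.Agent.Lib.Helper4.IdealComap

set_option autoImplicit false
universe u
open CategoryTheory CategoryTheory.Limits AlgebraicGeometry TopologicalSpace Opposite TensorProduct

set_option backward.isDefEq.respectTransparency.types false

namespace Groth.Agent.Lead.FittBC

open OmegaSh Groth.Agent.Lead.DerU Groth.Agent.Lead.OmU Groth.Agent.Lead.BCU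
  Groth.Agent.Helper4.Fitting

section Gen

variable {X : Scheme.{u}}

/-- an isomorphism of modules gives linear equivalences on sections -/
noncomputable def sectionsEquiv {H H' : X.Modules} (e : H ≅ H') (U : X.Opens) :
    Γ(H, U) ≃ₗ[Γ(X, U)] Γ(H', U) where
  toFun t := e.hom.app U t
  invFun t := e.inv.app U t
  map_add' x y := map_add _ x y
  map_smul' r x := Scheme.Modules.Hom.app_smul e.hom r x
  left_inv t := by
    change (e.hom.app U ≫ e.inv.app U) t = t
    rw [← Scheme.Modules.Hom.comp_app, e.hom_inv_id]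
    rfl
  right_inv t := by
    change (e.inv.app U ≫ e.hom.app U) t = t
    rw [← Scheme.Modules.Hom.comp_app, e.inv_hom_id]
    rfl

/-- Fitting ideals of sections commute with pullback on affine charts. -/
theorem fitt_pullback_chart {Y : Scheme.{u}} (h : Y ⟶ X) (M : X.Modules) [M.IsQuasicoherent]
    (hft : CohB1.IsFT M) {U : X.Opens} (hU : IsAffineOpen U) {U' : Y.Opens} (hU' : IsAffineOpen U')
    (e : U' ≤ h ⁻¹ᵁ U) (k : ℕ) :
    Fitt.ideal Γ(Y, U') Γ((Scheme.Modules.pullback h).obj M, U') k =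
      (Fitt.ideal Γ(X, U) Γ(M, U) k).map (h.appLE U U' e).hom := by
  haveI := Groth.Agent.Lead.FLF.ft_sections M hft hU
  have hbc := isBC_unitRes h M hU hU' e
  letI := (h.appLE U U' e).hom.toAlgebra
  letI : Module Γ(X, U) Γ((Scheme.Modules.pullback h).obj M, U') :=
    Module.compHom _ (h.appLE U U' e).hom
  haveI : IsScalarTower Γ(X, U) Γ(Y, U') Γ((Scheme.Modules.pullback h).obj M, U') :=
    ⟨fun a a' n => by
      change ((h.appLE U U' e).hom a * a') • n = (h.appLE U U' e).hom a • a' • n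
      exact mul_smul _ _ _⟩
  obtain ⟨l', -, hb⟩ := hbc
  rw [ideal_congr (R := Γ(Y, U')) hb.equiv.symm k, ideal_baseChange]
  rfl

end Gen

section Main

variable {X S S' : Scheme.{u}} (f : X ⟶ S) [LocallyOfFiniteType f] [QuasiSeparated f] (g : S' ⟶ S)

/-- **Fitting ideals of the sheaf of differentials commute with base change** -/
theorem fitting_omega_comap (i : ℕ) :
    (Fitt.sheafIdeal (Omega.sheaf f) i).comap (pullback.fst f g) =
      Fitt.sheafIdeal (Omega.sheaf (pullback.snd f g)) i := by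
  have hd := isUniversal_dOmega f
  have hd' := isUniversal_dOmega (pullback.snd f g)
  obtain ⟨c, hc, -⟩ := existsUnique_diffCompat (pullback.fst f g) (b := g) (f := f)
    (f' := pullback.snd f g) pullback.condition.symm (dOmega f) (dOmega (pullback.snd f g)) hd
  haveI : IsIso c := isIso_of_isPullback f g (pullback.fst f g) (pullback.snd f g)
    (IsPullback.of_hasPullback f g) (dOmega f) hd (dOmega (pullback.snd f g)) hd' c hc
  have hft := isFT_of_universal (dOmega f) hd
  have hft' := isFT_of_universal (dOmega (pullback.snd f g)) hd'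
  haveI : ((Scheme.Modules.pullback (pullback.fst f g)).obj (Omega.sheaf f)).IsQuasicoherent :=
    Groth.Agent.Lead.PB.isQuasicoherent_pullback _ _
  let ι := {t : (pullback f g).affineOpens × X.affineOpens // t.1.1 ≤ pullback.fst f g ⁻¹ᵁ t.2.1}
  refine Scheme.IdealSheafData.ext_of_iSup_eq_top (ι := ι) (fun t => t.1.1) ?_ ?_
  · rw [eq_top_iff]
    intro y _
    obtain ⟨_, ⟨U, hU, rfl⟩, hyU, -⟩ := X.isBasis_affineOpens.exists_subset_of_mem_open
      (Set.mem_univ (pullback.fst f g y)) isOpen_univ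
    obtain ⟨_, ⟨U', hU', rfl⟩, hyU', hUU'⟩ :=
      (pullback f g).isBasis_affineOpens.exists_subset_of_mem_open
        (show y ∈ ((pullback.fst f g ⁻¹ᵁ U : (pullback f g).Opens) : Set _) from hyU)
        (pullback.fst f g ⁻¹ᵁ U).2
    exact Opens.mem_iSup.mpr ⟨⟨⟨⟨U', hU'⟩, ⟨U, hU⟩⟩, hUU'⟩, hyU'⟩
  · rintro ⟨⟨⟨U', hU'⟩, ⟨U, hU⟩⟩, e⟩
    change ((Fitt.sheafIdeal (Omega.sheaf f) i).comap (pullback.fst f g)).ideal ⟨U', hU'⟩ =
      (Fitt.sheafIdeal (Omega.sheaf (pullback.snd f g)) i).ideal ⟨U', hU'⟩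
    rw [Groth.Agent.Helper4.IdealComap.ideal_comap_eq_map (pullback.fst f g) _ ⟨U', hU'⟩ ⟨U, hU⟩ e,
      Groth.Agent.Lead.FittSh.sheafIdeal_ideal _ hft, Groth.Agent.Lead.FittSh.sheafIdeal_ideal _ hft',
      ← fitt_pullback_chart (pullback.fst f g) (Omega.sheaf f) hft hU hU' e i]
    exact ideal_congr (sectionsEquiv (asIso c) U') i

end Main

end Groth.Agent.Lead.FittBC
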