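import Mathlib

set_option autoImplicit false
set_option backward.isDefEq.respectTransparency.types false
set_option synthInstance.maxHeartbeats 400000
set_option linter.style.haveILetI false
set_option linter.unusedSectionVars false

universe u

open TensorProduct CategoryTheory AlgebraicGeometry

namespace Groth.Agent.Lead.FittEt

section

variable (A C : Type u) [CommRing A] [CommRing C] [Algebra A C] (h : C)

/-- the multiplication map `C_h ⊗_A C → C_h` -/
noncomputable def mu : Localization.Away h ⊗[A] C →ₐ[Localization.Away h] Localization.Away h :=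
  Algebra.TensorProduct.lift (AlgHom.id _ _) (IsScalarTower.toAlgHom A C (Localization.Away h))
    (fun _ _ => Commute.all _ _)

@[simp]
theorem mu_tmul (d : Localization.Away h) (c : C) :
    mu A C h (d ⊗ₜ c) = d * algebraMap C (Localization.Away h) c := by
  simp [mu]

theorem mu_surjective : Function.Surjective (mu A C h) := fun d => ⟨d ⊗ₜ 1, by simp⟩

/-- the kernel of the diagonal of an unramified algebra is generated by an idempotent -/
theorem exists_idempotent_ker_lmul (D : Type u) [CommRing D] [Algebra A D]
    [Algebra.FormallyUnramified A D] [Algebra.EssFiniteType A D] :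
    ∃ e : D ⊗[A] D, IsIdempotentElem e ∧
      RingHom.ker (Algebra.TensorProduct.lmul' A : D ⊗[A] D →ₐ[A] D) = Ideal.span {e} := by
  have h1 : Algebra.FormallyUnramified A D := inferInstance
  rw [Algebra.formallyUnramified_iff, KaehlerDifferential,
    Ideal.cotangent_subsingleton_iff, Ideal.isIdempotentElem_iff_of_fg _
      (KaehlerDifferential.ideal_fg A D)] at h1
  exact h1

/-- **the graph idempotent**: the kernel of `C_h ⊗_A C → C_h` is generated by an idempotent when
`C_h` is étale over `A`. -/
theorem exists_idempotent_ker_mu [Algebra.Etale A (Localization.Away h)] :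
    ∃ e : Localization.Away h ⊗[A] C, IsIdempotentElem e ∧
      RingHom.ker (mu A C h) = Ideal.span {e} := by
  classical
  let D := Localization.Away h
  -- `ν : D ⊗ C → D ⊗ D`
  let ν : D ⊗[A] C →ₐ[A] D ⊗[A] D :=
    Algebra.TensorProduct.map (AlgHom.id A D) (IsScalarTower.toAlgHom A C D)
  letI algν : Algebra (D ⊗[A] C) (D ⊗[A] D) := ν.toRingHom.toAlgebra
  haveI : IsScalarTower D (D ⊗[A] C) (D ⊗[A] D) :=
    .of_algebraMap_eq <| by
      intro d
      show _ = ν (algebraMap D (D ⊗[A] C) d)
      rw [Algebra.TensorProduct.algebraMap_apply, Algebra.TensorProduct.algebraMap_apply]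
      simp [ν]
  haveI hloc := IsLocalization.tensorProduct_tensorProduct_right A D (Submonoid.powers h) D
    (by ext; simp [RingHom.algebraMap_toAlgebra, ν])
  have hpow : (Submonoid.powers h).map
      (Algebra.TensorProduct.includeRight (R := A) (A := D) (B := C)) =
      Submonoid.powers ((1 : D) ⊗ₜ[A] h) := by
    rw [Submonoid.map_powers]
    rfl
  haveI : IsLocalization.Away ((1 : D) ⊗ₜ[A] h) (D ⊗[A] D) := by
    rw [hpow] at hloc
    exact hloc
  haveI hoi1 : IsOpenImmersion (Spec.map (CommRingCat.ofHom (algebraMap (D ⊗[A] C) (D ⊗[A] D)))) :=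
    IsOpenImmersion.of_isLocalization ((1 : D) ⊗ₜ[A] h)
  -- the diagonal
  haveI : Algebra.FormallyUnramified A D := inferInstance
  obtain ⟨t, ht, hker⟩ := exists_idempotent_ker_lmul A D
  have hsurjl : Function.Surjective (Algebra.TensorProduct.lmul' A : D ⊗[A] D →ₐ[A] D) :=
    fun d => ⟨d ⊗ₜ 1, by simp⟩
  haveI hoi2 : IsOpenImmersion (Spec.map (CommRingCat.ofHom
      (Algebra.TensorProduct.lmul' A : D ⊗[A] D →ₐ[A] D).toRingHom)) :=
    (isOpenImmersion_SpecMap_iff_of_surjective _ hsurjl).2 ⟨t, ht, hker⟩
  -- composition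
  have hcomp : (mu A C h).toRingHom =
      ((Algebra.TensorProduct.lmul' A : D ⊗[A] D →ₐ[A] D).toRingHom).comp
        (algebraMap (D ⊗[A] C) (D ⊗[A] D)) := by
    have : (mu A C h).toRingHom = ((Algebra.TensorProduct.lmul' A : D ⊗[A] D →ₐ[A] D).comp ν).toRingHom := by
      have h2 : ((mu A C h).restrictScalars A) =
          (Algebra.TensorProduct.lmul' A : D ⊗[A] D →ₐ[A] D).comp ν := by
        ext
        · simp [ν]
        · simp [ν]
          rfl
      exact congrArg AlgHom.toRingHom h2
    rw [this]
    rfl
  have hoi : IsOpenImmersion (Spec.map (CommRingCat.ofHom (mu A C h).toRingHom)) := by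
    rw [hcomp, CommRingCat.ofHom_comp, Spec.map_comp]
    infer_instance
  exact (isOpenImmersion_SpecMap_iff_of_surjective _ (mu_surjective A C h)).1 hoi

end

end Groth.Agent.Lead.FittEt
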