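import Mathlib
import Groth.Prelude
import Groth.Agent.Lib.Helper4.Fitting18
import Groth.Agent.Lib.Helper4.Fitting6
import Groth.Agent.Lib.Helper4.Fitting8
import Groth.Agent.Lib.Lead.FittEt1

set_option autoImplicit false
set_option backward.isDefEq.respectTransparency.types false
set_option synthInstance.maxHeartbeats 400000
set_option linter.style.haveILetI false
set_option linter.unusedSectionVars false

universe u

open TensorProduct

namespace Groth.Agent.Lead.FittEt

open Groth.Agent.Helper4.Fitting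

/-- the two definitions of the zeroth Fitting ideal agree -/
theorem fittingZero_eq (R : Type u) [CommRing R] (M : Type u) [AddCommGroup M] [Module R M] :
    FlatCA.fittingZero R M = Fitt.ideal R M 0 := by
  unfold FlatCA.fittingZero Fitt.ideal
  congr 1
  ext d
  constructor
  · rintro ⟨n, x, a, hx, ha, rfl⟩
    exact ⟨n, x, a, hx, fun i _ => ha i, rfl⟩
  · rintro ⟨n, x, a, hx, ha, rfl⟩
    exact ⟨n, x, a, hx, fun i => ha i (by rw [Nat.sub_zero]; exact i.2), rfl⟩

section Split

variable {D R : Type u} [CommRing D] [CommRing R] [Algebra D R]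

theorem inf_le_of_idempotent (I : Ideal R) {e : R} (he : IsIdempotentElem e) :
    (I ⊔ Ideal.span {e}) ⊓ (I ⊔ Ideal.span {1 - e}) ≤ I := by
  rintro x ⟨h1, h2⟩
  obtain ⟨i, hi, y, hy, rfl⟩ := Submodule.mem_sup.1 h1
  obtain ⟨r, rfl⟩ := Ideal.mem_span_singleton'.1 hy
  obtain ⟨i', hi', y', hy', hxe⟩ := Submodule.mem_sup.1 h2
  obtain ⟨r', rfl⟩ := Ideal.mem_span_singleton'.1 hy'
  -- x = i + r e = i' + r' (1 - e)
  have h3 : (i + r * e) * (1 - e) = i * (1 - e) := by
    have : r * e * (1 - e) = 0 := by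
      rw [mul_assoc, mul_sub, mul_one, he.eq, sub_self, mul_zero]
    rw [add_mul, this, add_zero]
  have h4 : (i + r * e) * e = i' * e := by
    rw [← hxe, add_mul]
    have : r' * (1 - e) * e = 0 := by
      rw [mul_assoc, sub_mul, one_mul, he.eq, sub_self, mul_zero]
    rw [this, add_zero]
  have h5 : i + r * e = (i + r * e) * (1 - e) + (i + r * e) * e := by ring
  rw [h5, h3, h4]
  exact I.add_mem (I.mul_mem_right _ hi) (I.mul_mem_right _ hi')

/-- splitting a quotient along an idempotent -/
noncomputable def splitEquiv (I : Ideal R) {e : R} (he : IsIdempotentElem e) :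
    (R ⧸ I) ≃ₗ[D] (R ⧸ (I ⊔ Ideal.span {e})) × (R ⧸ (I ⊔ Ideal.span {1 - e})) :=
  LinearEquiv.ofBijective
    (LinearMap.prod (Ideal.Quotient.factorₐ D (le_sup_left : I ≤ I ⊔ Ideal.span {e})).toLinearMap
      (Ideal.Quotient.factorₐ D (le_sup_left : I ≤ I ⊔ Ideal.span {1 - e})).toLinearMap)
    (by
      constructor
      · rw [← LinearMap.ker_eq_bot, LinearMap.ker_eq_bot']
        intro x hx
        obtain ⟨x, rfl⟩ := Ideal.Quotient.mk_surjective x
        have h1 : Ideal.Quotient.mk (I ⊔ Ideal.span {e}) x = 0 := congrArg Prod.fst hx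
        have h2 : Ideal.Quotient.mk (I ⊔ Ideal.span {1 - e}) x = 0 := congrArg Prod.snd hx
        rw [Ideal.Quotient.eq_zero_iff_mem] at h1 h2 ⊢
        exact inf_le_of_idempotent I he ⟨h1, h2⟩
      · rintro ⟨a, b⟩
        obtain ⟨a, rfl⟩ := Ideal.Quotient.mk_surjective a
        obtain ⟨b, rfl⟩ := Ideal.Quotient.mk_surjective b
        refine ⟨Ideal.Quotient.mk I (a * (1 - e) + b * e), ?_⟩
        apply Prod.ext
        · show Ideal.Quotient.mk (I ⊔ Ideal.span {e}) (a * (1 - e) + b * e) =
            Ideal.Quotient.mk (I ⊔ Ideal.span {e}) a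
          rw [Ideal.Quotient.eq]
          have : a * (1 - e) + b * e - a = (b - a) * e := by ring
          rw [this]
          exact Ideal.mem_sup_right (Ideal.mul_mem_left _ _ (Ideal.mem_span_singleton_self e))
        · show Ideal.Quotient.mk (I ⊔ Ideal.span {1 - e}) (a * (1 - e) + b * e) =
            Ideal.Quotient.mk (I ⊔ Ideal.span {1 - e}) b
          rw [Ideal.Quotient.eq]
          have : a * (1 - e) + b * e - b = (a - b) * (1 - e) := by ring
          rw [this]
          exact Ideal.mem_sup_right (Ideal.mul_mem_left _ _ (Ideal.mem_span_singleton_self _)))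

/-- the quotient by an ideal and the idempotent generating the kernel of a surjection -/
noncomputable def quotEquivOfKer {D' : Type u} [CommRing D'] [Algebra D D'] (μ : R →ₐ[D] D')
    (hμ : Function.Surjective μ) (I : Ideal R) {e : R} (hker : RingHom.ker μ = Ideal.span {e}) :
    (R ⧸ (I ⊔ Ideal.span {e})) ≃ₗ[D] (D' ⧸ I.map μ) :=
  have hsurj : Function.Surjective ((Ideal.Quotient.mkₐ D (I.map μ)).comp μ) :=
    (Ideal.Quotient.mkₐ_surjective D (I.map μ)).comp hμ
  have hk : I ⊔ Ideal.span {e} = RingHom.ker ((Ideal.Quotient.mkₐ D (I.map μ)).comp μ) := by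
    ext x
    rw [RingHom.mem_ker]
    show _ ↔ Ideal.Quotient.mk (I.map μ) (μ x) = 0
    rw [Ideal.Quotient.eq_zero_iff_mem, ← Ideal.mem_comap,
      Ideal.comap_map_of_surjective μ hμ, ← RingHom.ker_eq_comap_bot, ← hker]
  ((Ideal.quotientEquivAlgOfEq D hk).trans
    (Ideal.quotientKerAlgEquivOfSurjective hsurj)).toLinearEquiv

end Split

end Groth.Agent.Lead.FittEt
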