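import Mathlib
import Groth.Prelude
import Groth.Agent.Lib.Helper4.Fitting4
import Groth.Agent.Lib.Lead.FittEt2

set_option autoImplicit false
set_option backward.isDefEq.respectTransparency.types false
set_option synthInstance.maxHeartbeats 400000
set_option linter.style.haveILetI false
set_option linter.unusedSectionVars false

universe u

open TensorProduct

namespace Groth.Agent.Lead.FittEt

open Groth.Agent.Helper4.Fitting

/-- a finitely generated ideal of a finite algebra is finitely generated as a module over the
base -/
theorem fg_restrictScalars_of_finite (D R : Type u) [CommRing D] [CommRing R] [Algebra D R]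
    [Module.Finite D R] (I : Ideal R) (hI : I.FG) : (I.restrictScalars D).FG := by
  haveI : Module.Finite R I := Module.Finite.iff_fg.2 hI
  haveI : Module.Finite D I := Module.Finite.trans R I
  have h1 : Module.Finite D (I.restrictScalars D) := ‹Module.Finite D I›
  exact Module.Finite.iff_fg.1 h1

/-- quotients of a finite projective algebra by finitely generated ideals are finitely presented
modules over the base -/
theorem finitePresentation_quotient (D R : Type u) [CommRing D] [CommRing R] [Algebra D R]
    [Module.Finite D R] [Module.Projective D R] (I : Ideal R) (hI : I.FG) :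
    Module.FinitePresentation D (R ⧸ I) := by
  haveI : Module.FinitePresentation D R := Module.finitePresentation_of_projective D R
  refine Module.finitePresentation_of_surjective (Ideal.Quotient.mkₐ D I).toLinearMap
    (Ideal.Quotient.mkₐ_surjective D I) ?_
  have : LinearMap.ker (Ideal.Quotient.mkₐ D I).toLinearMap = I.restrictScalars D := by
    ext x
    simp [Ideal.Quotient.eq_zero_iff_mem]
  rw [this]
  exact fg_restrictScalars_of_finite D R I hI

section Main

variable {A C : Type u} [CommRing A] [CommRing C] [Algebra A C] [Module.Finite A C]
  [Module.Projective A C] (h : C) [Algebra.Etale A (Localization.Away h)] (J : Ideal C)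

theorem main :
    ∃ J' : Ideal (Localization.Away h),
      (FlatCA.fittingZero A (C ⧸ J)).map (algebraMap A (Localization.Away h)) =
        J.map (algebraMap C (Localization.Away h)) * J' ∧
      (J.FG → (FlatCA.fittingZero A (C ⧸ J)).FG ∧ J'.FG) := by
  classical
  obtain ⟨e, he, hker⟩ := exists_idempotent_ker_mu A C h
  set D := Localization.Away h with hD
  set JC : Ideal (D ⊗[A] C) :=
    J.map (Algebra.TensorProduct.includeRight (R := A) (A := D) (B := C)) with hJC
  have hJmap : JC.map (mu A C h) = J.map (algebraMap C D) := by
    have h0 : JC.map (mu A C h) = (J.map (Algebra.TensorProduct.includeRight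
        (R := A) (A := D) (B := C)).toRingHom).map (mu A C h).toRingHom := rfl
    rw [h0, Ideal.map_map]
    congr 1
    ext c
    simp only [AlgHom.toRingHom_eq_coe, RingHom.coe_comp, RingHom.coe_coe, Function.comp_apply,
      Algebra.TensorProduct.includeRight_apply]
    rw [mu_tmul, one_mul]
  -- the chain of isomorphisms
  let e1 : D ⊗[A] (C ⧸ J) ≃ₗ[D] (D ⊗[A] C) ⧸ JC :=
    (Algebra.TensorProduct.tensorQuotientEquiv (R := A) D C D J).toLinearEquiv
  let e2 := splitEquiv (D := D) JC he
  let e3 := quotEquivOfKer (D := D) (mu A C h) (mu_surjective A C h) JC hker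
  refine ⟨Fitt.ideal D ((D ⊗[A] C) ⧸ (JC ⊔ Ideal.span {1 - e})) 0, ?_, ?_⟩
  · rw [fittingZero_eq, ← ideal_baseChange D (M := C ⧸ J) 0, ideal_congr e1 0, ideal_congr e2 0,
      ideal_prod_eq_sum_range 0, Finset.sum_range_one, Nat.sub_zero, ideal_congr e3 0,
      ideal_zero_quotient, hJmap]
  · intro hJ
    constructor
    · rw [fittingZero_eq]
      haveI := finitePresentation_quotient A C J hJ
      exact ideal_fg_of_finitePresentation 0
    · have hfg : (JC ⊔ Ideal.span {1 - e}).FG :=
        Submodule.FG.sup (Ideal.FG.map hJ _) ⟨{1 - e}, by simp⟩
      haveI := finitePresentation_quotient D (D ⊗[A] C) _ hfg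
      exact ideal_fg_of_finitePresentation 0

end Main

end Groth.Agent.Lead.FittEt
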