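import Mathlib
import Groth.Prelude
import Groth.Agent.Lib.Helper4.Fitting5
import Groth.Agent.Lib.Lead.FittEt3

set_option autoImplicit false
set_option backward.isDefEq.respectTransparency.types false
set_option synthInstance.maxHeartbeats 400000
set_option linter.style.haveILetI false
set_option linter.unusedSectionVars false

universe u

open TensorProduct Polynomial

namespace Groth.Agent.Lead.FittEt

open Groth.Agent.Helper4.Fitting

/-- a finitely generated ideal of a localization away from an element, containing the image of an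
element `b`, is the extension of a finitely generated ideal containing `b` -/
theorem exists_fg_map_eq {C : Type u} [CommRing C] (h : C) (JD : Ideal (Localization.Away h))
    (hJD : JD.FG) (b : C) (hb : algebraMap C (Localization.Away h) b ∈ JD) :
    ∃ J₀ : Ideal C, J₀.FG ∧ b ∈ J₀ ∧ J₀.map (algebraMap C (Localization.Away h)) = JD := by
  classical
  obtain ⟨s, hs⟩ := hJD
  have hsurj : ∀ x : Localization.Away h, ∃ c : C, ∃ k : ℕ,
      x * algebraMap C (Localization.Away h) (h ^ k) = algebraMap C (Localization.Away h) c := by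
    intro x
    obtain ⟨⟨c, ⟨_, k, rfl⟩⟩, hc⟩ := IsLocalization.surj (Submonoid.powers h) x
    exact ⟨c, k, hc⟩
  choose cc kk hck using hsurj
  refine ⟨Ideal.span (insert b (s.image cc : Finset C)), ⟨insert b (s.image cc), by simp⟩,
    Ideal.subset_span (by simp), ?_⟩
  rw [Ideal.map_span]
  apply le_antisymm
  · rw [Ideal.span_le]
    rintro _ ⟨c, hc, rfl⟩
    simp only [Finset.coe_insert, Finset.coe_image, Set.mem_insert_iff, Set.mem_image,
      Finset.mem_coe] at hc
    rcases hc with rfl | ⟨x, hx, rfl⟩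
    · exact hb
    · rw [← hck x]
      apply Ideal.mul_mem_right
      rw [← hs]
      exact Ideal.subset_span hx
  · rw [← hs, Ideal.span_le]
    intro x hx
    have hu : IsUnit (algebraMap C (Localization.Away h) (h ^ kk x)) :=
      IsLocalization.map_units _ (⟨h ^ kk x, kk x, rfl⟩ : Submonoid.powers h)
    have h1 : x * algebraMap C (Localization.Away h) (h ^ kk x) ∈
        Ideal.span (algebraMap C (Localization.Away h) '' (insert b (s.image cc : Finset C))) := by
      rw [hck x]
      apply Ideal.subset_span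
      refine ⟨cc x, ?_, rfl⟩
      simp only [Finset.coe_insert, Finset.coe_image, Set.mem_insert_iff, Set.mem_image,
        Finset.mem_coe]
      exact Or.inr ⟨x, hx, rfl⟩
    exact (Ideal.mul_unit_mem_iff_mem _ hu).1 h1

/-- **S1271**: étale-local domination of an ideal by an ideal of the base -/
theorem main2 {A B : Type u} [CommRing A] [CommRing B] [Algebra A B] [Algebra.Etale A B]
    (a : A) (J : Ideal B) (hJ : J.FG) (hJa : algebraMap A B a ∈ J.radical)
    (q : Ideal B) [q.IsPrime] :
    ∃ (I : Ideal A) (g : B) (J' : Ideal (Localization.Away g)), I.FG ∧ a ∈ I.radical ∧ g ∉ q ∧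
      J'.FG ∧ I.map (algebraMap A (Localization.Away g)) =
        J.map (algebraMap B (Localization.Away g)) * J' := by
  classical
  haveI : Algebra.IsEtaleAt A q := by
    have h1 : Algebra.FormallyEtale B (Localization.AtPrime q) :=
      Algebra.FormallyEtale.of_isLocalization q.primeCompl
    exact Algebra.FormallyEtale.comp A B (Localization.AtPrime q)
  obtain ⟨g, hgq, hstd⟩ := Algebra.IsEtaleAt.exists_isStandardEtale (R := A) q
  obtain ⟨P⟩ := hstd.nonempty_standardEtalePresentation
  -- the finite free algebra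
  obtain ⟨h, hh⟩ : ∃ h : AdjoinRoot P.f, h = AdjoinRoot.mk P.f P.g := ⟨_, rfl⟩
  have pb := AdjoinRoot.powerBasis' P.monic_f
  haveI : Module.Finite A (AdjoinRoot P.f) := pb.finite
  haveI : Module.Free A (AdjoinRoot P.f) := Module.Free.of_basis pb.basis
  obtain ⟨E⟩ : Nonempty (Localization.Away h ≃ₐ[A] Localization.Away g) := by
    subst hh
    exact ⟨P.equivAwayAdjoinRoot.symm.trans P.equivRing.symm⟩
  haveI : Algebra.Etale A (Localization.Away h) := Algebra.Etale.of_equiv E.symm
  -- transport the ideal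
  obtain ⟨φ, hφ⟩ : ∃ φ : Localization.Away h →+* Localization.Away g, ∀ x, φ x = E x :=
    ⟨E.toRingEquiv.toRingHom, fun _ => rfl⟩
  obtain ⟨φ', hφ'⟩ : ∃ φ' : Localization.Away g →+* Localization.Away h, ∀ x, φ' x = E.symm x :=
    ⟨E.symm.toRingEquiv.toRingHom, fun _ => rfl⟩
  have hφφ' : φ.comp φ' = RingHom.id _ := by
    ext x
    simp [hφ, hφ']
  have hφA : φ.comp (algebraMap A (Localization.Away h)) = algebraMap A (Localization.Away g) := by
    ext x
    simp [hφ]
  obtain ⟨JS, hJS⟩ : ∃ JS : Ideal (Localization.Away g),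
      JS = J.map (algebraMap B (Localization.Away g)) := ⟨_, rfl⟩
  obtain ⟨JD, hJD⟩ : ∃ JD : Ideal (Localization.Away h), JD = JS.map φ' := ⟨_, rfl⟩
  have hJDfg : JD.FG := by
    rw [hJD, hJS]
    exact Ideal.FG.map (Ideal.FG.map hJ _) _
  have hJDE : JD.map φ = JS := by
    rw [hJD, Ideal.map_map, hφφ', Ideal.map_id]
  -- a power of `a` lies in `JD`
  obtain ⟨n, hn⟩ := hJa
  have haJS : algebraMap A (Localization.Away g) (a ^ n) ∈ JS := by
    rw [hJS, IsScalarTower.algebraMap_apply A B (Localization.Away g), map_pow]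
    exact Ideal.mem_map_of_mem _ hn
  have haJD : algebraMap (AdjoinRoot P.f) (Localization.Away h)
      (algebraMap A (AdjoinRoot P.f) (a ^ n)) ∈ JD := by
    rw [hJD, ← IsScalarTower.algebraMap_apply]
    have h1 : algebraMap A (Localization.Away h) (a ^ n) =
        φ' (algebraMap A (Localization.Away g) (a ^ n)) := by
      rw [hφ']
      simp
    rw [h1]
    exact Ideal.mem_map_of_mem _ haJS
  obtain ⟨J₀, hJ₀fg, haJ₀, hJ₀map⟩ := exists_fg_map_eq h JD hJDfg _ haJD
  obtain ⟨J', hJ'eq, hJ'fg⟩ := main (A := A) h J₀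
  obtain ⟨hIfg, hJ'fg'⟩ := hJ'fg hJ₀fg
  refine ⟨FlatCA.fittingZero A (AdjoinRoot P.f ⧸ J₀), g, J'.map φ, hIfg, ?_, hgq,
    Ideal.FG.map hJ'fg' _, ?_⟩
  · -- `a` is in the radical
    rw [fittingZero_eq]
    obtain ⟨m, x, hx⟩ := Module.Finite.exists_fin (R := A) (M := AdjoinRoot P.f ⧸ J₀)
    have hann : a ^ n ∈ Module.annihilator A (AdjoinRoot P.f ⧸ J₀) := by
      rw [Module.mem_annihilator]
      intro y
      obtain ⟨y, rfl⟩ := Ideal.Quotient.mk_surjective y
      have h2 : (a ^ n) • (Ideal.Quotient.mk J₀ y) =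
          Ideal.Quotient.mk J₀ (algebraMap A (AdjoinRoot P.f) (a ^ n) * y) := by
        rw [Algebra.smul_def, map_mul]
        rfl
      rw [h2, Ideal.Quotient.eq_zero_iff_mem]
      exact Ideal.mul_mem_right _ _ haJ₀
    have h3 := pow_mem_ideal_zero_of_mem_annihilator x hx (a ^ n) hann
    exact ⟨n * m, by rw [pow_mul]; exact h3⟩
  · rw [← hφA, ← Ideal.map_map, hJ'eq, Ideal.map_mul, hJ₀map, hJDE, hJS]

end Groth.Agent.Lead.FittEt
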