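import Mathlib

/-!
# Global sections of a flat scheme over an Artinian local ring (lead)

If `X` is flat over a local Artinian ring `C` and the special fibre `X₀` has
`Γ(X₀, O) = k`, then `Γ(X, O) = C`.
-/

set_option autoImplicit false
universe u
open CategoryTheory CategoryTheory.Limits AlgebraicGeometry TopologicalSpace Opposite TensorProduct

namespace Groth.Agent.Lead.FlatArt

section Alg

/-- flatness and colon ideals, module form -/
theorem flat_colon {C B : Type*} [CommRing C] [CommRing B] [Algebra C B] [Module.Flat C B]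
    (I J : Ideal C) (x : C) (hI : ∀ c, c ∈ I ↔ x * c ∈ J) (b : B)
    (h : x • b ∈ (J • ⊤ : Submodule C B)) : b ∈ (I • ⊤ : Submodule C B) := by
  let μ : (C ⧸ I) →ₗ[C] (C ⧸ J) :=
    Submodule.mapQ I J (LinearMap.mulLeft C x) (fun c hc => (hI c).1 hc)
  have hμ : Function.Injective μ := by
    rw [injective_iff_map_eq_zero]
    intro q hq
    obtain ⟨c, rfl⟩ := Submodule.Quotient.mk_surjective _ q
    have e : μ (Submodule.Quotient.mk c) = Submodule.Quotient.mk (x * c) := rfl
    rw [e, Submodule.Quotient.mk_eq_zero] at hq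
    exact (Submodule.Quotient.mk_eq_zero _).2 ((hI c).2 hq)
  have hinj := Module.Flat.lTensor_preserves_injective_linearMap (M := B) μ hμ
  have h1 : (μ.lTensor B) (b ⊗ₜ[C] (Ideal.Quotient.mk I 1)) = 0 := by
    rw [LinearMap.lTensor_tmul]
    have e : μ (Ideal.Quotient.mk I 1) = Ideal.Quotient.mk J x := by
      show Submodule.Quotient.mk (x * 1) = _
      rw [mul_one]
      rfl
    rw [e]
    apply (tensorQuotEquivQuotSMul B J).injective
    rw [tensorQuotEquivQuotSMul_tmul_mk, map_zero, Submodule.Quotient.mk_eq_zero]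
    exact h
  have h2 := hinj (h1.trans (map_zero _).symm)
  have h3 := congrArg (tensorQuotEquivQuotSMul B I) h2
  rw [tensorQuotEquivQuotSMul_tmul_mk, map_zero, one_smul, Submodule.Quotient.mk_eq_zero] at h3
  exact h3

/-- flatness and colon ideals, ring hom form -/
theorem flat_colon_map {C B : Type*} [CommRing C] [CommRing B] (ρ : C →+* B) (hρ : ρ.Flat)
    (I J : Ideal C) (x : C) (hI : ∀ c, c ∈ I ↔ x * c ∈ J) (b : B)
    (h : ρ x * b ∈ J.map ρ) : b ∈ I.map ρ := by
  letI := ρ.toAlgebra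
  haveI : Module.Flat C B := hρ
  have h' : x • b ∈ (J • ⊤ : Submodule C B) := by
    rw [Ideal.smul_top_eq_map]
    exact h
  have := flat_colon I J x hI b h'
  rw [Ideal.smul_top_eq_map] at this
  exact this

variable {C : Type*} [CommRing C] [IsLocalRing C]

/-- a maximal proper sub-ideal of a nonzero ideal in a noetherian local ring -/
theorem exists_step [IsNoetherianRing C] (J : Ideal C) (hJ : J ≠ ⊥) :
    ∃ (J' : Ideal C) (x : C), J' < J ∧ x ∈ J ∧ J = J' ⊔ Ideal.span {x} ∧
      ∀ c, c ∈ IsLocalRing.maximalIdeal C ↔ x * c ∈ J' := by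
  obtain ⟨J', hJ'J, hmax⟩ := WellFounded.has_min
    (wellFounded_gt : WellFounded ((· > ·) : Ideal C → Ideal C → Prop))
    {K : Ideal C | K < J} ⟨⊥, bot_lt_iff_ne_bot.2 hJ⟩
  replace hJ'J : J' < J := hJ'J
  obtain ⟨x, hxJ, hxJ'⟩ := SetLike.exists_of_lt hJ'J
  have key : ∀ y ∈ J, y ∉ J' → J = J' ⊔ Ideal.span {y} := by
    intro y hyJ hyJ'
    have hle : J' ⊔ Ideal.span {y} ≤ J :=
      sup_le hJ'J.le ((Ideal.span_singleton_le_iff_mem _).2 hyJ)
    have hlt : J' < J' ⊔ Ideal.span {y} := by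
      refine lt_of_le_of_ne le_sup_left ?_
      intro e
      apply hyJ'
      rw [e]
      exact Ideal.mem_sup_right (Ideal.mem_span_singleton_self y)
    by_contra hne
    exact hmax _ (lt_of_le_of_ne hle (fun e => hne e.symm)) hlt
  refine ⟨J', x, hJ'J, hxJ, key x hxJ hxJ', ?_⟩
  intro c
  constructor
  · intro hc
    by_contra hxc
    have e := key (x * c) (J.mul_mem_right c hxJ) hxc
    have hx : x ∈ J' ⊔ Ideal.span {x * c} := e ▸ hxJ
    obtain ⟨j, hj, z, hz, hjz⟩ := Submodule.mem_sup.1 hx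
    obtain ⟨a, rfl⟩ := Ideal.mem_span_singleton'.1 hz
    have hu : IsUnit (1 - a * c) := by
      have hac : a * c ∈ IsLocalRing.maximalIdeal C := Ideal.mul_mem_left _ a hc
      by_contra hnu
      have h1 : (1 - a * c) ∈ IsLocalRing.maximalIdeal C := (IsLocalRing.mem_maximalIdeal _).2 hnu
      have : (1 : C) ∈ IsLocalRing.maximalIdeal C := by
        have := Ideal.add_mem _ h1 hac
        rwa [sub_add_cancel] at this
      exact (Ideal.ne_top_iff_one _).1 (IsLocalRing.maximalIdeal.isMaximal C).ne_top this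
    have hx' : x * (1 - a * c) = j := by
      have e1 : x * (1 - a * c) = x - a * (x * c) := by ring
      rw [e1, sub_eq_iff_eq_add]
      exact hjz.symm
    apply hxJ'
    obtain ⟨v, hv⟩ := hu
    have : x = j * (v⁻¹ : Cˣ) := by
      rw [← hx', ← hv, mul_assoc, Units.mul_inv, mul_one]
    rw [this]
    exact Ideal.mul_mem_right _ _ hj
  · intro hxc
    by_contra hc
    have hu : IsUnit c := by
      by_contra hnu
      exact hc ((IsLocalRing.mem_maximalIdeal _).2 hnu)
    obtain ⟨v, rfl⟩ := hu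
    apply hxJ'
    have : x = x * (v : C) * (v⁻¹ : Cˣ) := by
      rw [mul_assoc, Units.mul_inv, mul_one]
    rw [this]
    exact Ideal.mul_mem_right _ _ hxc

/-- induction on ideals of an artinian local ring, one simple step at a time -/
theorem ideal_induction [IsArtinianRing C] (P : Ideal C → Prop) (h0 : P ⊥)
    (hstep : ∀ (J' J : Ideal C) (x : C), J' < J → x ∈ J → J = J' ⊔ Ideal.span {x} →
      (∀ c, c ∈ IsLocalRing.maximalIdeal C ↔ x * c ∈ J') → P J' → P J) :
    ∀ J, P J := by
  intro J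
  induction J using WellFoundedLT.induction with
  | ind J ih =>
    by_cases hJ : J = ⊥
    · rw [hJ]; exact h0
    · obtain ⟨J', x, hlt, hx, e, hc⟩ := exists_step J hJ
      exact hstep J' J x hlt hx e hc (ih J' hlt)

end Alg

section Sch

variable {C : Type u} [CommRing C] {X : Scheme.{u}} (g : X ⟶ Spec (CommRingCat.of C))

theorem le_preimage_top {X Y : Scheme.{u}} (g : X ⟶ Y) (V : X.Opens) : V ≤ g ⁻¹ᵁ ⊤ :=
  fun _ _ => trivial

theorem res_res {Y : Scheme.{u}} {A A' A'' : Y.Opens} (h1 : A' ≤ A) (h2 : A'' ≤ A')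
    (r : Γ(Y, A)) :
    Y.presheaf.map (homOfLE h2).op (Y.presheaf.map (homOfLE h1).op r) =
      Y.presheaf.map (homOfLE (h2.trans h1)).op r := by
  rw [← ConcreteCategory.comp_apply, ← Functor.map_comp]
  rfl

/-- the ring map `C → Γ(X, V)` induced by `g` -/
noncomputable def secMap (V : X.Opens) : C →+* Γ(X, V) :=
  (g.appLE ⊤ V (le_preimage_top g V)).hom.comp (Scheme.ΓSpecIso (CommRingCat.of C)).inv.hom

theorem res_secMap {U V : X.Opens} (h : V ≤ U) (c : C) :
    X.presheaf.map (homOfLE h).op (secMap g U c) = secMap g V c := by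
  have := Scheme.Hom.appLE_map g (U := ⊤) (V := U) (le_preimage_top g U) (homOfLE h).op
  show (g.appLE ⊤ U _ ≫ X.presheaf.map (homOfLE h).op).hom _ = _
  rw [this]
  rfl

theorem secMap_top (c : C) :
    secMap g ⊤ c = ((Scheme.ΓSpecIso (CommRingCat.of C)).inv ≫ g.appTop).hom c := by
  have : g.appLE ⊤ ⊤ (le_preimage_top g ⊤) = g.appTop := by
    rw [Scheme.Hom.appTop, Scheme.Hom.app_eq_appLE]
    rfl
  show (g.appLE ⊤ ⊤ _).hom _ = _
  rw [this]
  rfl

theorem fromSpec_comp (V : X.affineOpens) :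
    V.2.fromSpec ≫ g = Spec.map (CommRingCat.ofHom (secMap g V.1)) := by
  rw [← IsAffineOpen.SpecMap_appLE_fromSpec g (isAffineOpen_top _) V.2 (le_preimage_top g V.1),
    IsAffineOpen.fromSpec_top, Scheme.isoSpec_Spec_inv, ← Spec.map_comp]
  rfl

theorem flat_secMap [Flat g] (V : X.affineOpens) : (secMap g V.1).Flat := by
  have h1 : (g.appLE ⊤ V.1 (le_preimage_top g V.1)).hom.Flat :=
    HasRingHomProperty.appLE (P := @Flat) g inferInstance ⟨⊤, isAffineOpen_top _⟩ V _
  have h2 : ((Scheme.ΓSpecIso (CommRingCat.of C)).inv.hom).Flat :=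
    RingHom.Flat.of_bijective
      (ConcreteCategory.bijective_of_isIso (Scheme.ΓSpecIso (CommRingCat.of C)).inv)
  exact RingHom.Flat.comp h2 h1

/-- `secMap` of a composite with a morphism of affine schemes -/
theorem secMap_comp_SpecMap {D : Type u} [CommRing D] (φ : D →+* C) (V : X.Opens) (d : D) :
    secMap (g ≫ Spec.map (CommRingCat.ofHom φ)) V d = secMap g V (φ d) := by
  have h1 : (g ≫ Spec.map (CommRingCat.ofHom φ)).appLE ⊤ V (le_preimage_top _ V) =
      (Spec.map (CommRingCat.ofHom φ)).appTop ≫ g.appLE ⊤ V (le_preimage_top g V) := by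
    rw [Scheme.Hom.comp_appLE]
    rfl
  have h2 := Scheme.ΓSpecIso_inv_naturality (CommRingCat.ofHom φ)
  show ((g ≫ Spec.map (CommRingCat.ofHom φ)).appLE ⊤ V _).hom
    ((Scheme.ΓSpecIso (CommRingCat.of D)).inv.hom d) = _
  rw [h1]
  show (g.appLE ⊤ V _).hom (((Scheme.ΓSpecIso (CommRingCat.of D)).inv ≫
    (Spec.map (CommRingCat.ofHom φ)).appTop).hom d) = _
  rw [← h2]
  rfl

/-- `secMap` of a composite -/
theorem secMap_comp {X₀ : Scheme.{u}} (i : X₀ ⟶ X) (U : X.Opens) (c : C) :
    secMap (i ≫ g) (i ⁻¹ᵁ U) c = (i.app U).hom (secMap g U c) := by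
  have h1 : (i ≫ g).appLE ⊤ (i ⁻¹ᵁ U) (le_preimage_top _ _) =
      g.appLE ⊤ U (le_preimage_top g U) ≫ i.app U := by
    rw [Scheme.Hom.app_eq_appLE, Scheme.Hom.appLE_comp_appLE]
  show ((i ≫ g).appLE ⊤ (i ⁻¹ᵁ U) _).hom _ = _
  rw [h1]
  rfl

/-- gluing sections along a family of opens which is closed under "small intersections" -/
theorem glue {Y : Scheme.{u}} {ι : Type u} (W : ι → Y.Opens) (hW : ∀ y : Y, ∃ a, y ∈ W a)
    (R : ι → ι → Prop) (hR : ∀ c a, R c a → W c ≤ W a)
    (hbase : ∀ a b (y : Y), y ∈ W a → y ∈ W b → ∃ c, y ∈ W c ∧ R c a ∧ R c b)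
    (t : ∀ a, Γ(Y, W a))
    (ht : ∀ a c (h : R c a), Y.presheaf.map (homOfLE (hR c a h)).op (t a) = t c) :
    ∃ s : Γ(Y, ⊤), ∀ a, Y.presheaf.map (homOfLE (le_top : W a ≤ ⊤)).op s = t a := by
  have hcov : (⊤ : Y.Opens) ≤ iSup W := by
    intro y _
    obtain ⟨a, ha⟩ := hW y
    exact Opens.mem_iSup.2 ⟨a, ha⟩
  have hcompat : TopCat.Presheaf.IsCompatible Y.sheaf.1 W t := by
    intro a b
    let K := {c : ι // R c a ∧ R c b}
    have hcovK : W a ⊓ W b ≤ iSup (fun k : K => W k.1) := by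
      intro y hy
      obtain ⟨c, hyc, hca, hcb⟩ := hbase a b y hy.1 hy.2
      exact Opens.mem_iSup.2 ⟨⟨c, hca, hcb⟩, hyc⟩
    apply Y.sheaf.eq_of_locally_eq' (fun k : K => W k.1) (W a ⊓ W b)
      (fun k => homOfLE (le_inf (hR _ _ k.2.1) (hR _ _ k.2.2))) hcovK
    intro k
    have e1 : Y.presheaf.map (homOfLE (le_inf (hR _ _ k.2.1) (hR _ _ k.2.2))).op
        (Y.presheaf.map (homOfLE (inf_le_left : W a ⊓ W b ≤ W a)).op (t a)) = t k.1 := by
      rw [res_res]
      exact ht a k.1 k.2.1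
    have e2 : Y.presheaf.map (homOfLE (le_inf (hR _ _ k.2.1) (hR _ _ k.2.2))).op
        (Y.presheaf.map (homOfLE (inf_le_right : W a ⊓ W b ≤ W b)).op (t b)) = t k.1 := by
      rw [res_res]
      exact ht b k.1 k.2.2
    exact e1.trans e2.symm
  obtain ⟨s, hs, -⟩ := Y.sheaf.existsUnique_gluing' W ⊤ (fun a => homOfLE le_top) hcov t hcompat
  exact ⟨s, hs⟩

/-- sections are determined by their restrictions to a cover -/
theorem eq_of_cover {Y : Scheme.{u}} {ι : Type u} (W : ι → Y.Opens) (hW : ∀ y : Y, ∃ a, y ∈ W a)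
    (s s' : Γ(Y, ⊤))
    (h : ∀ a, Y.presheaf.map (homOfLE (le_top : W a ≤ ⊤)).op s =
      Y.presheaf.map (homOfLE (le_top : W a ≤ ⊤)).op s') : s = s' := by
  have hcov : (⊤ : Y.Opens) ≤ iSup W := by
    intro y _
    obtain ⟨a, ha⟩ := hW y
    exact Opens.mem_iSup.2 ⟨a, ha⟩
  exact Y.sheaf.eq_of_locally_eq' W ⊤ (fun a => homOfLE le_top) hcov s s' h

theorem map_res_mem {U V : X.Opens} (h : V ≤ U) (J : Ideal C) (r : Γ(X, U))
    (hr : r ∈ J.map (secMap g U)) :
    X.presheaf.map (homOfLE h).op r ∈ J.map (secMap g V) := by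
  have e : (X.presheaf.map (homOfLE h).op).hom.comp (secMap g U) = secMap g V :=
    RingHom.ext (res_secMap g h)
  rw [← e, ← Ideal.map_map]
  exact Ideal.mem_map_of_mem _ hr

theorem mul_map_mem {B : Type*} [CommRing B] (ρ : C →+* B) (I J : Ideal C) (x : C)
    (hx : ∀ c ∈ I, x * c ∈ J) (y : B) (hy : y ∈ I.map ρ) : ρ x * y ∈ J.map ρ := by
  have h1 : Ideal.span {x} * I ≤ J := Ideal.span_singleton_mul_le_iff.2 hx
  have h2 : ρ x * y ∈ Ideal.span {ρ x} * I.map ρ :=
    Ideal.mul_mem_mul (Ideal.mem_span_singleton_self _) hy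
  have h3 : Ideal.span {ρ x} * I.map ρ = (Ideal.span {x} * I).map ρ := by
    rw [Ideal.map_mul, Ideal.map_span, Set.image_singleton]
  rw [h3] at h2
  exact Ideal.map_mono h1 h2

theorem affine_cover (y : X) : ∃ a : X.affineOpens, y ∈ a.1 := by
  obtain ⟨U, hU, hyU, -⟩ := (Opens.isBasis_iff_nbhd.1 X.isBasis_affineOpens)
    (show y ∈ (⊤ : X.Opens) from trivial)
  exact ⟨⟨U, hU⟩, hyU⟩

end Sch

section Main

variable {C : Type u} [CommRing C] [IsLocalRing C] {X X₀ : Scheme.{u}}
  (g : X ⟶ Spec (CommRingCat.of C)) (i : X₀ ⟶ X)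
  (f₀ : X₀ ⟶ Spec (CommRingCat.of (C ⧸ IsLocalRing.maximalIdeal C)))
  (hsq : IsPullback i f₀ g
    (Spec.map (CommRingCat.ofHom (Ideal.Quotient.mk (IsLocalRing.maximalIdeal C)))))

include hsq in
theorem app_secMap (U : X.Opens) (c : C) :
    (i.app U).hom (secMap g U c) =
      secMap f₀ (i ⁻¹ᵁ U) (Ideal.Quotient.mk (IsLocalRing.maximalIdeal C) c) := by
  rw [← secMap_comp, ← secMap_comp_SpecMap, hsq.w]

include hsq in
theorem map_le_ker (U : X.Opens) :
    (IsLocalRing.maximalIdeal C).map (secMap g U) ≤ RingHom.ker (i.app U).hom := by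
  refine Ideal.map_le_iff_le_comap.2 (fun c hc => ?_)
  rw [Ideal.mem_comap, RingHom.mem_ker, app_secMap g i f₀ hsq,
    Ideal.Quotient.eq_zero_iff_mem.2 hc, map_zero]

include hsq in
theorem ker_le_map (U : X.affineOpens) :
    RingHom.ker (i.app U.1).hom ≤ (IsLocalRing.maximalIdeal C).map (secMap g U.1) := by
  intro b hb
  let mB : Ideal Γ(X, U.1) := (IsLocalRing.maximalIdeal C).map (secMap g U.1)
  let φ : Γ(X, U.1) →+* Γ(X, U.1) ⧸ mB := Ideal.Quotient.mk mB
  let ψ : (C ⧸ IsLocalRing.maximalIdeal C) →+* Γ(X, U.1) ⧸ mB :=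
    Ideal.Quotient.lift (IsLocalRing.maximalIdeal C) (φ.comp (secMap g U.1)) (fun c hc => by
      show φ (secMap g U.1 c) = 0
      exact Ideal.Quotient.eq_zero_iff_mem.2 (Ideal.mem_map_of_mem _ hc))
  have hψ : ψ.comp (Ideal.Quotient.mk (IsLocalRing.maximalIdeal C)) = φ.comp (secMap g U.1) := by
    ext c
    rfl
  let z : Spec (CommRingCat.of (Γ(X, U.1) ⧸ mB)) ⟶ X :=
    Spec.map (CommRingCat.ofHom φ) ≫ U.2.fromSpec
  let w : Spec (CommRingCat.of (Γ(X, U.1) ⧸ mB)) ⟶
      Spec (CommRingCat.of (C ⧸ IsLocalRing.maximalIdeal C)) := Spec.map (CommRingCat.ofHom ψ)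
  have comm : z ≫ g =
      w ≫ Spec.map (CommRingCat.ofHom (Ideal.Quotient.mk (IsLocalRing.maximalIdeal C))) := by
    show (Spec.map _ ≫ U.2.fromSpec) ≫ g = Spec.map _ ≫ Spec.map _
    rw [Category.assoc, fromSpec_comp, ← Spec.map_comp, ← Spec.map_comp,
      ← CommRingCat.ofHom_comp, ← CommRingCat.ofHom_comp, hψ]
  let ℓ := hsq.lift z w comm
  have hℓ : ℓ ≫ i = z := hsq.lift_fst _ _ _
  haveI : IsClosedImmersion
      (Spec.map (CommRingCat.ofHom (Ideal.Quotient.mk (IsLocalRing.maximalIdeal C)))) :=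
    IsClosedImmersion.spec_of_surjective
      (CommRingCat.ofHom (Ideal.Quotient.mk (IsLocalRing.maximalIdeal C)))
      (Ideal.Quotient.mk_surjective (I := IsLocalRing.maximalIdeal C))
  haveI : IsClosedImmersion i := MorphismProperty.of_isPullback hsq.flip inferInstance
  have hU₀ : IsAffineOpen (i ⁻¹ᵁ U.1) := U.2.preimage i
  have hr : Set.range ℓ.base ⊆ Set.range hU₀.fromSpec.base := by
    rw [hU₀.range_fromSpec]
    rintro _ ⟨p, rfl⟩
    show i.base (ℓ.base p) ∈ U.1
    have e1 : i.base (ℓ.base p) = z.base p := by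
      rw [← hℓ]
      rfl
    rw [e1]
    have e2 : z.base p = U.2.fromSpec.base ((Spec.map (CommRingCat.ofHom φ)).base p) := rfl
    rw [e2]
    have := U.2.range_fromSpec
    have h3 : U.2.fromSpec.base ((Spec.map (CommRingCat.ofHom φ)).base p) ∈
        Set.range U.2.fromSpec.base := Set.mem_range_self _
    rw [this] at h3
    exact h3
  let lam : Γ(X₀, i ⁻¹ᵁ U.1) →+* Γ(X, U.1) ⧸ mB :=
    (Spec.preimage (IsOpenImmersion.lift hU₀.fromSpec ℓ hr)).hom
  have hlam : Spec.map (CommRingCat.ofHom lam) ≫ hU₀.fromSpec = ℓ := by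
    have h1 : Spec.map (CommRingCat.ofHom lam) = IsOpenImmersion.lift hU₀.fromSpec ℓ hr :=
      Spec.map_preimage _
    rw [h1, IsOpenImmersion.lift_fac]
  have h1 := IsAffineOpen.SpecMap_appLE_fromSpec i U.2 hU₀ le_rfl
  have h2 : Spec.map (CommRingCat.ofHom (lam.comp (i.app U.1).hom)) ≫ U.2.fromSpec =
      Spec.map (CommRingCat.ofHom φ) ≫ U.2.fromSpec := by
    have e1 : Spec.map (CommRingCat.ofHom (lam.comp (i.app U.1).hom)) =
        Spec.map (CommRingCat.ofHom lam) ≫ Spec.map (i.appLE U.1 (i ⁻¹ᵁ U.1) le_rfl) := by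
      rw [← Spec.map_comp, ← Scheme.Hom.app_eq_appLE]
      rfl
    rw [e1, Category.assoc, h1, ← Category.assoc, hlam]
    exact hℓ
  have hU : IsAffineOpen U.1 := U.2
  haveI : Mono hU.fromSpec := inferInstance
  have h3 : Spec.map (CommRingCat.ofHom (lam.comp (i.app U.1).hom)) =
      Spec.map (CommRingCat.ofHom φ) := (cancel_mono hU.fromSpec).1 h2
  have h4 : lam.comp (i.app U.1).hom = φ :=
    congrArg CommRingCat.Hom.hom (Spec.map_injective h3)
  have h5 : φ b = 0 := by
    rw [← h4]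
    show lam ((i.app U.1).hom b) = 0
    rw [RingHom.mem_ker.1 hb, map_zero]
  exact Ideal.Quotient.eq_zero_iff_mem.1 h5

theorem preimage_cover (y : X₀) : ∃ a : X.affineOpens, y ∈ i ⁻¹ᵁ a.1 :=
  affine_cover (i.base y)

include hsq in
theorem exists_const (h0s : Function.Surjective (secMap f₀ ⊤))
    (b : ∀ U : X.affineOpens, Γ(X, U.1))
    (hb : ∀ (U V : X.affineOpens) (h : V.1 ≤ U.1),
      b V - X.presheaf.map (homOfLE h).op (b U) ∈
        (IsLocalRing.maximalIdeal C).map (secMap g V.1)) :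
    ∃ c : C, ∀ U : X.affineOpens,
      b U - secMap g U.1 c ∈ (IsLocalRing.maximalIdeal C).map (secMap g U.1) := by
  let W : X.affineOpens → X₀.Opens := fun U => i ⁻¹ᵁ U.1
  let R : X.affineOpens → X.affineOpens → Prop := fun c a => c.1 ≤ a.1
  have hR : ∀ c a, R c a → W c ≤ W a := fun c a h p hp => h hp
  have hbase : ∀ a b' (y : X₀), y ∈ W a → y ∈ W b' → ∃ c, y ∈ W c ∧ R c a ∧ R c b' := by
    intro a b' y hya hyb
    obtain ⟨U, hU, hyU, hUab⟩ := (Opens.isBasis_iff_nbhd.1 X.isBasis_affineOpens)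
      (show i.base y ∈ a.1 ⊓ b'.1 from ⟨hya, hyb⟩)
    exact ⟨⟨U, hU⟩, hyU, fun p hp => (hUab hp).1, fun p hp => (hUab hp).2⟩
  let t : ∀ a, Γ(X₀, W a) := fun U => (i.app U.1).hom (b U)
  have ht : ∀ a c (h : R c a), X₀.presheaf.map (homOfLE (hR c a h)).op (t a) = t c := by
    intro a c h
    have hnat := Scheme.Hom.naturality i (homOfLE h).op
    have e1 : X₀.presheaf.map (homOfLE (hR c a h)).op (t a) =
        (i.app c.1).hom (X.presheaf.map (homOfLE h).op (b a)) := by
      show (i.app a.1 ≫ X₀.presheaf.map (homOfLE (hR c a h)).op).hom (b a) =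
        (X.presheaf.map (homOfLE h).op ≫ i.app c.1).hom (b a)
      rw [hnat]
      rfl
    rw [e1]
    have e2 := map_le_ker g i f₀ hsq c.1 (hb a c h)
    rw [RingHom.mem_ker, map_sub, sub_eq_zero] at e2
    exact e2.symm
  obtain ⟨s, hs⟩ := glue W (preimage_cover i) R hR hbase t ht
  obtain ⟨cbar, hcbar⟩ := h0s s
  obtain ⟨c, rfl⟩ := Ideal.Quotient.mk_surjective cbar
  refine ⟨c, fun U => ?_⟩
  apply ker_le_map g i f₀ hsq U
  rw [RingHom.mem_ker, map_sub, sub_eq_zero, app_secMap g i f₀ hsq]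
  have := hs U
  rw [← hcbar, res_secMap] at this
  exact this.symm

include hsq in
theorem mem_max_of_forall (h0i : Function.Injective (secMap f₀ ⊤)) (c : C)
    (hc : ∀ U : X.affineOpens,
      secMap g U.1 c ∈ (IsLocalRing.maximalIdeal C).map (secMap g U.1)) :
    c ∈ IsLocalRing.maximalIdeal C := by
  have h : secMap f₀ ⊤ (Ideal.Quotient.mk (IsLocalRing.maximalIdeal C) c) = secMap f₀ ⊤ 0 := by
    apply eq_of_cover (fun U : X.affineOpens => i ⁻¹ᵁ U.1) (preimage_cover i)
    intro a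
    rw [res_secMap, res_secMap, map_zero, ← app_secMap g i f₀ hsq]
    exact map_le_ker g i f₀ hsq a.1 (hc a)
  exact Ideal.Quotient.eq_zero_iff_mem.1 (h0i h)

include hsq in
theorem main [IsArtinianRing C] [Flat g] (h0 : Function.Bijective (secMap f₀ ⊤)) :
    Function.Bijective (secMap g ⊤) := by
  let P : Ideal C → Prop := fun J =>
    (∀ s : Γ(X, ⊤), (∀ U : X.affineOpens,
        X.presheaf.map (homOfLE (le_top : U.1 ≤ ⊤)).op s ∈ J.map (secMap g U.1)) →
      ∃ c ∈ J, s = secMap g ⊤ c) ∧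
    (∀ c ∈ J, (∀ U : X.affineOpens, secMap g U.1 c = 0) → c = 0)
  have hP : ∀ J, P J := by
    apply ideal_induction P
    · constructor
      · intro s hs
        refine ⟨0, Ideal.zero_mem _, ?_⟩
        rw [map_zero]
        apply eq_of_cover (fun U : X.affineOpens => U.1) affine_cover
        intro a
        have := hs a
        rw [Ideal.map_bot, Ideal.mem_bot] at this
        rw [this, map_zero]
      · intro c hc _
        exact Ideal.mem_bot.1 hc
    · rintro J' J x hlt hxJ hJ hcol ⟨ih1, ih2⟩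
      have hcol' : ∀ c ∈ IsLocalRing.maximalIdeal C, x * c ∈ J' := fun c hc => (hcol c).1 hc
      constructor
      · intro s hs
        have hex : ∀ U : X.affineOpens, ∃ bU : Γ(X, U.1),
            X.presheaf.map (homOfLE (le_top : U.1 ≤ ⊤)).op s - secMap g U.1 x * bU ∈
              J'.map (secMap g U.1) := by
          intro U
          have h := hs U
          rw [hJ, Ideal.map_sup, Ideal.map_span, Set.image_singleton] at h
          obtain ⟨j, hj, z, hz, hjz⟩ := Submodule.mem_sup.1 h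
          obtain ⟨a, rfl⟩ := Ideal.mem_span_singleton'.1 hz
          refine ⟨a, ?_⟩
          rw [← hjz]
          have e : j + a * secMap g U.1 x - secMap g U.1 x * a = j := by ring
          rw [e]
          exact hj
        choose b hb using hex
        have hcompat : ∀ (U V : X.affineOpens) (h : V.1 ≤ U.1),
            b V - X.presheaf.map (homOfLE h).op (b U) ∈
              (IsLocalRing.maximalIdeal C).map (secMap g V.1) := by
          intro U V h
          apply flat_colon_map (secMap g V.1) (flat_secMap g V) (IsLocalRing.maximalIdeal C)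
            J' x hcol
          have h1 := hb V
          have h2 := map_res_mem g h J' _ (hb U)
          rw [map_sub, map_mul, res_res, res_secMap] at h2
          have e : secMap g V.1 x * (b V - X.presheaf.map (homOfLE h).op (b U)) =
              (X.presheaf.map (homOfLE (le_top : V.1 ≤ ⊤)).op s -
                secMap g V.1 x * X.presheaf.map (homOfLE h).op (b U)) -
              (X.presheaf.map (homOfLE (le_top : V.1 ≤ ⊤)).op s - secMap g V.1 x * b V) := by
            ring
          rw [e]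
          exact Ideal.sub_mem _ h2 h1
        obtain ⟨c, hc⟩ := exists_const g i f₀ hsq h0.2 b hcompat
        obtain ⟨c', hc'J, hc'⟩ := ih1 (s - secMap g ⊤ (x * c)) (by
          intro U
          rw [map_sub, res_secMap, map_mul]
          have e : X.presheaf.map (homOfLE (le_top : U.1 ≤ ⊤)).op s -
              secMap g U.1 x * secMap g U.1 c =
              (X.presheaf.map (homOfLE (le_top : U.1 ≤ ⊤)).op s - secMap g U.1 x * b U) +
                secMap g U.1 x * (b U - secMap g U.1 c) := by ring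
          rw [e]
          exact Ideal.add_mem _ (hb U)
            (mul_map_mem (secMap g U.1) (IsLocalRing.maximalIdeal C) J' x hcol' _ (hc U)))
        refine ⟨x * c + c', ?_, ?_⟩
        · exact Ideal.add_mem _ (Ideal.mul_mem_right _ _ hxJ) (hlt.le hc'J)
        · rw [map_add, ← hc']
          ring
      · intro c hcJ hc0
        rw [hJ] at hcJ
        obtain ⟨j, hj, z, hz, hjz⟩ := Submodule.mem_sup.1 hcJ
        obtain ⟨a, rfl⟩ := Ideal.mem_span_singleton'.1 hz
        have ha : a ∈ IsLocalRing.maximalIdeal C := by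
          apply mem_max_of_forall g i f₀ hsq h0.1
          intro U
          apply flat_colon_map (secMap g U.1) (flat_secMap g U) (IsLocalRing.maximalIdeal C)
            J' x hcol
          have h1 := hc0 U
          rw [← hjz, map_add, map_mul] at h1
          have e : secMap g U.1 x * secMap g U.1 a = - secMap g U.1 j := by
            linear_combination h1
          rw [e]
          exact (Ideal.neg_mem_iff _).2 (Ideal.mem_map_of_mem _ hj)
        have hcJ' : c ∈ J' := by
          rw [← hjz]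
          refine Ideal.add_mem _ hj ?_
          rw [mul_comm]
          exact hcol' a ha
        exact ih2 c hcJ' hc0
  obtain ⟨h1, h2⟩ := hP ⊤
  constructor
  · rw [injective_iff_map_eq_zero]
    intro c hc
    apply h2 c trivial
    intro U
    rw [← res_secMap g (le_top : U.1 ≤ ⊤), hc, map_zero]
  · intro s
    obtain ⟨c, -, hc⟩ := h1 s (fun U => by rw [Ideal.map_top]; trivial)
    exact ⟨c, hc.symm⟩

end Main

end Groth.Agent.Lead.FlatArt
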