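import Mathlib
import Groth.Agent.Lib.Lead.FlatArt

/-!
# Relative version of `FlatArt` (lead)

`X` flat over a local Artinian ring `C`, `i : X₀ ⟶ X` an affine morphism behaving like the
special fibre on affine opens; `R` a `C`-algebra with `σ : R → Γ(X, O)`.  If `R → Γ(X₀, O)` is
surjective with kernel `𝔪R`, then `σ` is bijective.
-/

set_option autoImplicit false
universe u
open CategoryTheory CategoryTheory.Limits AlgebraicGeometry TopologicalSpace Opposite

namespace Groth.Agent.Lead.FlatArtRel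

open Groth.Agent.Lead.FlatArt

variable {C : Type u} [CommRing C] [IsLocalRing C] {X X₀ : Scheme.{u}}
  (g : X ⟶ Spec (CommRingCat.of C)) (i : X₀ ⟶ X)

/-- the lifting property of the special fibre, for affine test schemes -/
def HasLift : Prop :=
  ∀ (B : Type u) [CommRing B] (z : Spec (CommRingCat.of B) ⟶ X),
    (∀ c ∈ IsLocalRing.maximalIdeal C, secMap (z ≫ g) ⊤ c = 0) →
    ∃ ℓ : Spec (CommRingCat.of B) ⟶ X₀, ℓ ≫ i = z

theorem secMap_SpecMap {B : Type u} [CommRing B] (ρ : C →+* B) (c : C) :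
    secMap (Spec.map (CommRingCat.ofHom ρ)) ⊤ c =
      (Scheme.ΓSpecIso (CommRingCat.of B)).inv.hom (ρ c) := by
  have h1 := secMap_top (Spec.map (CommRingCat.ofHom ρ)) c
  rw [h1]
  have h2 := Scheme.ΓSpecIso_inv_naturality (CommRingCat.ofHom ρ)
  exact (congrArg (fun k => k.hom c) h2).symm

theorem ker_le_map [IsAffineHom i] (hl : HasLift g i) (U : X.affineOpens) :
    RingHom.ker (i.app U.1).hom ≤ (IsLocalRing.maximalIdeal C).map (secMap g U.1) := by
  intro b hb
  let mB : Ideal Γ(X, U.1) := (IsLocalRing.maximalIdeal C).map (secMap g U.1)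
  let φ : Γ(X, U.1) →+* Γ(X, U.1) ⧸ mB := Ideal.Quotient.mk mB
  let z : Spec (CommRingCat.of (Γ(X, U.1) ⧸ mB)) ⟶ X :=
    Spec.map (CommRingCat.ofHom φ) ≫ U.2.fromSpec
  have hz : z ≫ g = Spec.map (CommRingCat.ofHom (φ.comp (secMap g U.1))) := by
    show (Spec.map _ ≫ U.2.fromSpec) ≫ g = _
    rw [Category.assoc, fromSpec_comp, ← Spec.map_comp, ← CommRingCat.ofHom_comp]
  obtain ⟨ℓ, hℓ⟩ := hl _ z (by
    intro c hc
    rw [hz, secMap_SpecMap]
    have : (φ.comp (secMap g U.1)) c = 0 :=
      Ideal.Quotient.eq_zero_iff_mem.2 (Ideal.mem_map_of_mem _ hc)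
    rw [this, map_zero])
  have hU₀ : IsAffineOpen (i ⁻¹ᵁ U.1) := U.2.preimage i
  have hr : Set.range ℓ.base ⊆ Set.range hU₀.fromSpec.base := by
    rw [hU₀.range_fromSpec]
    rintro _ ⟨p, rfl⟩
    show i.base (ℓ.base p) ∈ U.1
    have e1 : i.base (ℓ.base p) = z.base p := by
      rw [← hℓ]
      rfl
    rw [e1]
    have e2 : z.base p = U.2.fromSpec.base ((Spec.map (CommRingCat.ofHom φ)).base p) := rfl
    rw [e2]
    have := U.2.range_fromSpec
    have h3 : U.2.fromSpec.base ((Spec.map (CommRingCat.ofHom φ)).base p) ∈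
        Set.range U.2.fromSpec.base := Set.mem_range_self _
    rw [this] at h3
    exact h3
  let lam : Γ(X₀, i ⁻¹ᵁ U.1) →+* Γ(X, U.1) ⧸ mB :=
    (Spec.preimage (IsOpenImmersion.lift hU₀.fromSpec ℓ hr)).hom
  have hlam : Spec.map (CommRingCat.ofHom lam) ≫ hU₀.fromSpec = ℓ := by
    have h1 : Spec.map (CommRingCat.ofHom lam) = IsOpenImmersion.lift hU₀.fromSpec ℓ hr :=
      Spec.map_preimage _
    rw [h1, IsOpenImmersion.lift_fac]
  have h1 := IsAffineOpen.SpecMap_appLE_fromSpec i U.2 hU₀ le_rfl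
  have h2 : Spec.map (CommRingCat.ofHom (lam.comp (i.app U.1).hom)) ≫ U.2.fromSpec =
      Spec.map (CommRingCat.ofHom φ) ≫ U.2.fromSpec := by
    have e1 : Spec.map (CommRingCat.ofHom (lam.comp (i.app U.1).hom)) =
        Spec.map (CommRingCat.ofHom lam) ≫ Spec.map (i.appLE U.1 (i ⁻¹ᵁ U.1) le_rfl) := by
      rw [← Spec.map_comp, ← Scheme.Hom.app_eq_appLE]
      rfl
    rw [e1, Category.assoc, h1, ← Category.assoc, hlam]
    exact hℓ
  have hU : IsAffineOpen U.1 := U.2
  haveI : Mono hU.fromSpec := inferInstance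
  have h3 : Spec.map (CommRingCat.ofHom (lam.comp (i.app U.1).hom)) =
      Spec.map (CommRingCat.ofHom φ) := (cancel_mono hU.fromSpec).1 h2
  have h4 : lam.comp (i.app U.1).hom = φ :=
    congrArg CommRingCat.Hom.hom (Spec.map_injective h3)
  have h5 : φ b = 0 := by
    rw [← h4]
    show lam ((i.app U.1).hom b) = 0
    rw [RingHom.mem_ker.1 hb, map_zero]
  exact Ideal.Quotient.eq_zero_iff_mem.1 h5

variable (hw : ∀ (U : X.Opens) (c : C), c ∈ IsLocalRing.maximalIdeal C →
  (i.app U).hom (secMap g U c) = 0)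

include hw in
theorem map_le_ker (U : X.Opens) :
    (IsLocalRing.maximalIdeal C).map (secMap g U) ≤ RingHom.ker (i.app U).hom := by
  refine Ideal.map_le_iff_le_comap.2 (fun c hc => ?_)
  rw [Ideal.mem_comap, RingHom.mem_ker]
  exact hw U c hc

theorem app_res {U : X.Opens} (s : Γ(X, ⊤)) :
    X₀.presheaf.map (homOfLE (le_top : i ⁻¹ᵁ U ≤ ⊤)).op (i.appTop.hom s) =
      (i.app U).hom (X.presheaf.map (homOfLE (le_top : U ≤ ⊤)).op s) := by
  have hnat := Scheme.Hom.naturality i (homOfLE (le_top : U ≤ ⊤)).op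
  show (i.app ⊤ ≫ X₀.presheaf.map (homOfLE (le_top : i ⁻¹ᵁ U ≤ ⊤)).op).hom s =
    (X.presheaf.map (homOfLE (le_top : U ≤ ⊤)).op ≫ i.app U).hom s
  rw [hnat]
  rfl

variable {R : Type u} [CommRing R] (κ : C →+* R) (σ : R →+* Γ(X, ⊤))
  (hσκ : ∀ c, σ (κ c) = secMap g ⊤ c)

include hw in
theorem exists_const [IsAffineHom i] (hl : HasLift g i)
    (h0s : Function.Surjective (fun r => i.appTop.hom (σ r)))
    (b : ∀ U : X.affineOpens, Γ(X, U.1))
    (hb : ∀ (U V : X.affineOpens) (h : V.1 ≤ U.1),
      b V - X.presheaf.map (homOfLE h).op (b U) ∈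
        (IsLocalRing.maximalIdeal C).map (secMap g V.1)) :
    ∃ r : R, ∀ U : X.affineOpens,
      b U - X.presheaf.map (homOfLE (le_top : U.1 ≤ ⊤)).op (σ r) ∈
        (IsLocalRing.maximalIdeal C).map (secMap g U.1) := by
  let W : X.affineOpens → X₀.Opens := fun U => i ⁻¹ᵁ U.1
  let Rel : X.affineOpens → X.affineOpens → Prop := fun c a => c.1 ≤ a.1
  have hR : ∀ c a, Rel c a → W c ≤ W a := fun c a h p hp => h hp
  have hbase : ∀ a b' (y : X₀), y ∈ W a → y ∈ W b' → ∃ c, y ∈ W c ∧ Rel c a ∧ Rel c b' := by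
    intro a b' y hya hyb
    obtain ⟨U, hU, hyU, hUab⟩ := (Opens.isBasis_iff_nbhd.1 X.isBasis_affineOpens)
      (show i.base y ∈ a.1 ⊓ b'.1 from ⟨hya, hyb⟩)
    exact ⟨⟨U, hU⟩, hyU, fun p hp => (hUab hp).1, fun p hp => (hUab hp).2⟩
  let t : ∀ a, Γ(X₀, W a) := fun U => (i.app U.1).hom (b U)
  have ht : ∀ a c (h : Rel c a), X₀.presheaf.map (homOfLE (hR c a h)).op (t a) = t c := by
    intro a c h
    have hnat := Scheme.Hom.naturality i (homOfLE h).op
    have e1 : X₀.presheaf.map (homOfLE (hR c a h)).op (t a) =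
        (i.app c.1).hom (X.presheaf.map (homOfLE h).op (b a)) := by
      show (i.app a.1 ≫ X₀.presheaf.map (homOfLE (hR c a h)).op).hom (b a) =
        (X.presheaf.map (homOfLE h).op ≫ i.app c.1).hom (b a)
      rw [hnat]
      rfl
    rw [e1]
    have e2 := map_le_ker g i hw c.1 (hb a c h)
    rw [RingHom.mem_ker, map_sub, sub_eq_zero] at e2
    exact e2.symm
  obtain ⟨s, hs⟩ := glue W (preimage_cover i) Rel hR hbase t ht
  obtain ⟨r, hr⟩ := h0s s
  refine ⟨r, fun U => ?_⟩
  apply ker_le_map g i hl U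
  rw [RingHom.mem_ker, map_sub, sub_eq_zero, ← app_res]
  have := hs U
  rw [← hr] at this
  exact this.symm

include hw in
theorem mem_of_forall (h0i : ∀ r, i.appTop.hom (σ r) = 0 →
      r ∈ (IsLocalRing.maximalIdeal C).map κ) (r : R)
    (hr : ∀ U : X.affineOpens, X.presheaf.map (homOfLE (le_top : U.1 ≤ ⊤)).op (σ r) ∈
      (IsLocalRing.maximalIdeal C).map (secMap g U.1)) :
    r ∈ (IsLocalRing.maximalIdeal C).map κ := by
  apply h0i
  apply eq_of_cover (fun U : X.affineOpens => i ⁻¹ᵁ U.1) (preimage_cover i)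
  intro a
  rw [app_res, map_zero]
  exact map_le_ker g i hw a.1 (hr a)

include hw hσκ in
theorem main [IsArtinianRing C] [Flat g] [IsAffineHom i] (hl : HasLift g i)
    (h0s : Function.Surjective (fun r => i.appTop.hom (σ r)))
    (h0i : ∀ r, i.appTop.hom (σ r) = 0 → r ∈ (IsLocalRing.maximalIdeal C).map κ) :
    Function.Bijective σ := by
  have hres : ∀ (U : X.Opens) (c : C),
      X.presheaf.map (homOfLE (le_top : U ≤ ⊤)).op (σ (κ c)) = secMap g U c := by
    intro U c
    rw [hσκ, res_secMap]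
  have hmapres : ∀ (U : X.Opens) (J : Ideal C) (r : R), r ∈ J.map κ →
      X.presheaf.map (homOfLE (le_top : U ≤ ⊤)).op (σ r) ∈ J.map (secMap g U) := by
    intro U J r hr
    have e : ((X.presheaf.map (homOfLE (le_top : U ≤ ⊤)).op).hom.comp σ).comp κ = secMap g U :=
      RingHom.ext (hres U)
    rw [← e, ← Ideal.map_map]
    exact Ideal.mem_map_of_mem _ hr
  let P : Ideal C → Prop := fun J =>
    (∀ s : Γ(X, ⊤), (∀ U : X.affineOpens,
        X.presheaf.map (homOfLE (le_top : U.1 ≤ ⊤)).op s ∈ J.map (secMap g U.1)) →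
      ∃ r ∈ J.map κ, s = σ r) ∧
    (∀ r ∈ J.map κ, (∀ U : X.affineOpens,
        X.presheaf.map (homOfLE (le_top : U.1 ≤ ⊤)).op (σ r) = 0) → r = 0)
  have hP : ∀ J, P J := by
    apply ideal_induction P
    · constructor
      · intro s hs
        refine ⟨0, Ideal.zero_mem _, ?_⟩
        rw [map_zero]
        apply eq_of_cover (fun U : X.affineOpens => U.1) affine_cover
        intro a
        have := hs a
        rw [Ideal.map_bot, Ideal.mem_bot] at this
        rw [this, map_zero]
      · intro r hr _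
        rw [Ideal.map_bot] at hr
        exact Ideal.mem_bot.1 hr
    · rintro J' J x hlt hxJ hJ hcol ⟨ih1, ih2⟩
      have hcol' : ∀ c ∈ IsLocalRing.maximalIdeal C, x * c ∈ J' := fun c hc => (hcol c).1 hc
      constructor
      · intro s hs
        have hex : ∀ U : X.affineOpens, ∃ bU : Γ(X, U.1),
            X.presheaf.map (homOfLE (le_top : U.1 ≤ ⊤)).op s - secMap g U.1 x * bU ∈
              J'.map (secMap g U.1) := by
          intro U
          have h := hs U
          rw [hJ, Ideal.map_sup, Ideal.map_span, Set.image_singleton] at h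
          obtain ⟨j, hj, z, hz, hjz⟩ := Submodule.mem_sup.1 h
          obtain ⟨a, rfl⟩ := Ideal.mem_span_singleton'.1 hz
          refine ⟨a, ?_⟩
          rw [← hjz]
          have e : j + a * secMap g U.1 x - secMap g U.1 x * a = j := by ring
          rw [e]
          exact hj
        choose b hb using hex
        have hcompat : ∀ (U V : X.affineOpens) (h : V.1 ≤ U.1),
            b V - X.presheaf.map (homOfLE h).op (b U) ∈
              (IsLocalRing.maximalIdeal C).map (secMap g V.1) := by
          intro U V h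
          apply flat_colon_map (secMap g V.1) (flat_secMap g V) (IsLocalRing.maximalIdeal C)
            J' x hcol
          have h1 := hb V
          have h2 := map_res_mem g h J' _ (hb U)
          rw [map_sub, map_mul, res_res, res_secMap] at h2
          have e : secMap g V.1 x * (b V - X.presheaf.map (homOfLE h).op (b U)) =
              (X.presheaf.map (homOfLE (le_top : V.1 ≤ ⊤)).op s -
                secMap g V.1 x * X.presheaf.map (homOfLE h).op (b U)) -
              (X.presheaf.map (homOfLE (le_top : V.1 ≤ ⊤)).op s - secMap g V.1 x * b V) := by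
            ring
          rw [e]
          exact Ideal.sub_mem _ h2 h1
        obtain ⟨r, hr⟩ := exists_const g i hw σ hl h0s b hcompat
        obtain ⟨r', hr'J, hr'⟩ := ih1 (s - σ (κ x * r)) (by
          intro U
          rw [map_sub, map_mul σ, map_mul, hres]
          have e : X.presheaf.map (homOfLE (le_top : U.1 ≤ ⊤)).op s -
              secMap g U.1 x * X.presheaf.map (homOfLE (le_top : U.1 ≤ ⊤)).op (σ r) =
              (X.presheaf.map (homOfLE (le_top : U.1 ≤ ⊤)).op s - secMap g U.1 x * b U) +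
                secMap g U.1 x * (b U - X.presheaf.map (homOfLE (le_top : U.1 ≤ ⊤)).op (σ r)) := by
            ring
          rw [e]
          exact Ideal.add_mem _ (hb U)
            (mul_map_mem (secMap g U.1) (IsLocalRing.maximalIdeal C) J' x hcol' _ (hr U)))
        refine ⟨κ x * r + r', ?_, ?_⟩
        · exact Ideal.add_mem _ (Ideal.mul_mem_right _ _ (Ideal.mem_map_of_mem _ hxJ))
            (Ideal.map_mono hlt.le hr'J)
        · rw [map_add, ← hr']
          ring
      · intro r hrJ hr0
        rw [hJ, Ideal.map_sup, Ideal.map_span, Set.image_singleton] at hrJ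
        obtain ⟨j, hj, z, hz, hjz⟩ := Submodule.mem_sup.1 hrJ
        obtain ⟨a, rfl⟩ := Ideal.mem_span_singleton'.1 hz
        have ha : a ∈ (IsLocalRing.maximalIdeal C).map κ := by
          apply mem_of_forall g i hw κ σ h0i
          intro U
          apply flat_colon_map (secMap g U.1) (flat_secMap g U) (IsLocalRing.maximalIdeal C)
            J' x hcol
          have h1 := hr0 U
          rw [← hjz, map_add, map_add, map_mul σ, map_mul, hres] at h1
          have e : secMap g U.1 x * X.presheaf.map (homOfLE (le_top : U.1 ≤ ⊤)).op (σ a) =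
              - X.presheaf.map (homOfLE (le_top : U.1 ≤ ⊤)).op (σ j) := by
            linear_combination h1
          rw [e]
          exact (Ideal.neg_mem_iff _).2 (hmapres U.1 J' j hj)
        have hrJ' : r ∈ J'.map κ := by
          rw [← hjz]
          refine Ideal.add_mem _ hj ?_
          rw [mul_comm]
          exact mul_map_mem κ (IsLocalRing.maximalIdeal C) J' x hcol' a ha
        exact ih2 r hrJ' hr0
  obtain ⟨h1, h2⟩ := hP ⊤
  constructor
  · rw [injective_iff_map_eq_zero]
    intro r hr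
    apply h2 r (by rw [Ideal.map_top]; trivial)
    intro U
    rw [hr, map_zero]
  · intro s
    obtain ⟨r, -, hr⟩ := h1 s (fun U => by rw [Ideal.map_top]; trivial)
    exact ⟨r, hr.symm⟩

end Groth.Agent.Lead.FlatArtRel
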