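import Mathlib

/-!
# S13044: a flat closed relation over a DVR which is an equivalence relation generically (lead)
-/

set_option backward.isDefEq.respectTransparency.types false
set_option synthInstance.maxHeartbeats 400000
set_option linter.style.haveILetI false
set_option linter.unusedSectionVars false
set_option autoImplicit false

universe u
open CategoryTheory CategoryTheory.Limits AlgebraicGeometry Opposite

namespace Groth.Agent.Lead.FlatEqv

/-- lifting through a closed immersion can be tested on a scheme-theoretically dominant map -/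
theorem exists_lift_of_schDominant {W' W V Z : Scheme.{u}} (i : W' ⟶ W)
    [IsSchemeTheoreticallyDominant i]
    (φ : W ⟶ V) (z : Z ⟶ V) [IsClosedImmersion z] (ψ : W' ⟶ Z) (h : i ≫ φ = ψ ≫ z) :
    ∃ χ : W ⟶ Z, χ ≫ z = φ := by
  have hcl : IsClosedImmersion (pullback.fst φ z) := inferInstance
  have hker : (pullback.fst φ z).ker = ⊥ := by
    have h0 : i = pullback.lift i ψ h ≫ pullback.fst φ z := (pullback.lift_fst _ _ _).symm
    have h1 : (pullback.fst φ z).ker ≤ i.ker := by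
      conv_rhs => rw [h0]
      exact Scheme.Hom.le_ker_comp _ _
    rw [i.ker_eq_bot] at h1
    exact le_bot_iff.mp h1
  have : IsIso (pullback.fst φ z) := IsClosedImmersion.isIso_iff_ker_eq_bot.mpr hker
  exact ⟨inv (pullback.fst φ z) ≫ pullback.snd φ z, by
    rw [Category.assoc, ← pullback.condition, IsIso.inv_hom_id_assoc]⟩

section DVR

variable (R K : Type u) [CommRing R] [IsDomain R] [Field K] [Algebra R K] [IsFractionRing R K]

/-- the generic point inclusion -/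
noncomputable abbrev η : Spec (CommRingCat.of K) ⟶ Spec (CommRingCat.of R) :=
  Spec.map (CommRingCat.ofHom (algebraMap R K))

instance : IsSchemeTheoreticallyDominant (η R K) := by
  rw [isSchemeTheoreticallyDominant_iff]
  refine Scheme.IdealSheafData.ext_of_isAffine ?_
  rw [(η R K).ker_apply ⟨⊤, isAffineOpen_top _⟩]
  simp only [Scheme.IdealSheafData.ideal_bot, Pi.bot_apply]
  rw [← RingHom.injective_iff_ker_eq_bot]
  have h := Scheme.ΓSpecIso_inv_naturality (CommRingCat.ofHom (algebraMap R K))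
  have h2 : (η R K).appTop = (Scheme.ΓSpecIso (CommRingCat.of R)).hom ≫
      CommRingCat.ofHom (algebraMap R K) ≫ (Scheme.ΓSpecIso (CommRingCat.of K)).inv := by
    rw [h, Iso.hom_inv_id_assoc]
  change Function.Injective (η R K).appTop.hom
  rw [h2]
  simp only [CommRingCat.hom_comp, RingHom.coe_comp]
  refine Function.Injective.comp (Function.Injective.comp ?_ ?_) ?_
  · exact (Scheme.ΓSpecIso (CommRingCat.of K)).symm.commRingCatIsoToRingEquiv.injective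
  · exact IsFractionRing.injective R K
  · exact (Scheme.ΓSpecIso (CommRingCat.of R)).commRingCatIsoToRingEquiv.injective


variable {R K}

/-- a pair of maps into `Y` lies in the closed relation `Γ` as soon as it does generically -/
theorem exists_lift_of_generic {Y Γ W : Scheme.{u}} (f : Y ⟶ Spec (CommRingCat.of R))
    (p₁ p₂ : Γ ⟶ Y) (h : p₁ ≫ f = p₂ ≫ f)
    (hΓ : IsClosedImmersion (pullback.lift p₁ p₂ h))
    (w : W ⟶ Spec (CommRingCat.of R)) [Flat w] (φ₁ φ₂ : W ⟶ Y) (h1 : φ₁ ≫ f = w)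
    (h2 : φ₂ ≫ f = w)
    (hgen : ∃ c' : pullback (η R K) w ⟶ Γ, c' ≫ p₁ = pullback.snd (η R K) w ≫ φ₁ ∧
      c' ≫ p₂ = pullback.snd (η R K) w ≫ φ₂) :
    ∃ χ : W ⟶ Γ, χ ≫ p₁ = φ₁ ∧ χ ≫ p₂ = φ₂ := by
  obtain ⟨c', hc1, hc2⟩ := hgen
  have hqc : QuasiCompact (η R K) := inferInstance
  have hdom : IsSchemeTheoreticallyDominant (pullback.snd (η R K) w) := inferInstance
  obtain ⟨χ, hχ⟩ := exists_lift_of_schDominant (pullback.snd (η R K) w)
    (pullback.lift φ₁ φ₂ (h1.trans h2.symm)) (pullback.lift p₁ p₂ h) c' (by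
      apply pullback.hom_ext
      · simp only [Category.assoc, pullback.lift_fst, hc1]
      · simp only [Category.assoc, pullback.lift_snd, hc2])
  refine ⟨χ, ?_, ?_⟩
  · have := congrArg (fun k => k ≫ pullback.fst f f) hχ
    simpa only [Category.assoc, pullback.lift_fst] using this
  · have := congrArg (fun k => k ≫ pullback.snd f f) hχ
    simpa only [Category.assoc, pullback.lift_snd] using this

theorem main (Y Γ : Scheme.{u}) (f : Y ⟶ Spec (CommRingCat.of R)) [Flat f]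
    (p₁ p₂ : Γ ⟶ Y) (h : p₁ ≫ f = p₂ ≫ f)
    (hΓ : IsClosedImmersion (pullback.lift p₁ p₂ h))
    [Flat (p₁ ≫ f)] [Flat p₁]
    (hK : ∀ (T : Scheme.{u}) (t : T ⟶ Spec (CommRingCat.of R)),
      (∃ s : T ⟶ Spec (CommRingCat.of K),
        t = s ≫ Spec.map (CommRingCat.ofHom (algebraMap R K))) →
      _root_.Equivalence fun a b : {a : T ⟶ Y // a ≫ f = t} =>
        ∃ c : T ⟶ Γ, c ≫ p₁ = a.1 ∧ c ≫ p₂ = b.1) :
    ∀ (T : Scheme.{u}) (t : T ⟶ Spec (CommRingCat.of R)),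
      _root_.Equivalence fun a b : {a : T ⟶ Y // a ≫ f = t} =>
        ∃ c : T ⟶ Γ, c ≫ p₁ = a.1 ∧ c ≫ p₂ = b.1 := by
  -- reflexivity
  obtain ⟨r, hr1, hr2⟩ : ∃ r : Y ⟶ Γ, r ≫ p₁ = 𝟙 Y ∧ r ≫ p₂ = 𝟙 Y := by
    refine exists_lift_of_generic (K := K) f p₁ p₂ h hΓ f (𝟙 Y) (𝟙 Y) (Category.id_comp _)
      (Category.id_comp _) ?_
    have E := hK (pullback (η R K) f) (pullback.snd (η R K) f ≫ f)
      ⟨pullback.fst (η R K) f, pullback.condition.symm⟩
    obtain ⟨c, hc1, hc2⟩ := E.refl ⟨pullback.snd (η R K) f, rfl⟩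
    exact ⟨c, by simpa using hc1, by simpa using hc2⟩
  -- symmetry
  obtain ⟨τ, hτ1, hτ2⟩ : ∃ τ : Γ ⟶ Γ, τ ≫ p₁ = p₂ ∧ τ ≫ p₂ = p₁ := by
    refine exists_lift_of_generic (K := K) f p₁ p₂ h hΓ (p₁ ≫ f) p₂ p₁ h.symm rfl ?_
    have E := hK (pullback (η R K) (p₁ ≫ f)) (pullback.snd (η R K) (p₁ ≫ f) ≫ p₁ ≫ f)
      ⟨pullback.fst (η R K) (p₁ ≫ f), pullback.condition.symm⟩
    exact E.symm (x := ⟨pullback.snd (η R K) (p₁ ≫ f) ≫ p₁, by simp⟩)
      (y := ⟨pullback.snd (η R K) (p₁ ≫ f) ≫ p₂, by simp [h]⟩)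
      ⟨pullback.snd (η R K) (p₁ ≫ f), rfl, rfl⟩
  -- transitivity
  have hπ : pullback.fst p₂ p₁ ≫ p₂ = pullback.snd p₂ p₁ ≫ p₁ := pullback.condition
  have hflat1 : Flat (pullback.fst p₂ p₁) := inferInstance
  have hflatW : Flat (pullback.fst p₂ p₁ ≫ p₁ ≫ f) := inferInstance
  obtain ⟨χ, hχ1, hχ2⟩ : ∃ χ : pullback p₂ p₁ ⟶ Γ, χ ≫ p₁ = pullback.fst p₂ p₁ ≫ p₁ ∧
      χ ≫ p₂ = pullback.snd p₂ p₁ ≫ p₂ := by
    have hw2 : (pullback.snd p₂ p₁ ≫ p₂) ≫ f = pullback.fst p₂ p₁ ≫ p₁ ≫ f := by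
      rw [Category.assoc, ← h, ← Category.assoc, ← hπ, Category.assoc, ← h]
    refine exists_lift_of_generic (K := K) f p₁ p₂ h hΓ (pullback.fst p₂ p₁ ≫ p₁ ≫ f)
      (pullback.fst p₂ p₁ ≫ p₁) (pullback.snd p₂ p₁ ≫ p₂) (Category.assoc _ _ _) hw2 ?_
    set w := pullback.fst p₂ p₁ ≫ p₁ ≫ f with hw
    set i := pullback.snd (η R K) w with hi
    have E := hK (pullback (η R K) w) (i ≫ w) ⟨pullback.fst (η R K) w, pullback.condition.symm⟩
    refine E.trans (x := ⟨i ≫ pullback.fst p₂ p₁ ≫ p₁, by simp [hw]⟩)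
      (y := ⟨i ≫ pullback.fst p₂ p₁ ≫ p₂, by simp [hw, h]⟩)
      (z := ⟨i ≫ pullback.snd p₂ p₁ ≫ p₂, by rw [Category.assoc, hw2]⟩)
      ⟨i ≫ pullback.fst p₂ p₁, by simp, by simp⟩
      ⟨i ≫ pullback.snd p₂ p₁, by simp [hπ], by simp⟩
  intro T t
  refine ⟨fun a => ⟨a.1 ≫ r, by simp [hr1], by simp [hr2]⟩, ?_, ?_⟩
  · rintro a b ⟨c, hc1, hc2⟩
    exact ⟨c ≫ τ, by simp [hτ1, hc2], by simp [hτ2, hc1]⟩
  · rintro a b d ⟨c₁, h11, h12⟩ ⟨c₂, h21, h22⟩
    refine ⟨pullback.lift c₁ c₂ (h12.trans h21.symm) ≫ χ, ?_, ?_⟩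
    · rw [Category.assoc, hχ1, pullback.lift_fst_assoc, h11]
    · rw [Category.assoc, hχ2, pullback.lift_snd_assoc, h22]

end DVR

end Groth.Agent.Lead.FlatEqv
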