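import Mathlib
import Groth.Agent.Lib.Helper6.DVRFib.Sch
import Groth.Agent.Lib.Helper6.DVRFib.Generic

set_option backward.isDefEq.respectTransparency.types false
set_option synthInstance.maxHeartbeats 400000
set_option linter.style.haveILetI false
set_option linter.unusedSectionVars false
set_option autoImplicit false

/-!
# S13746: `O_X → π_* O_Y` is an isomorphism
-/

open Polynomial CategoryTheory AlgebraicGeometry Opposite Limits

namespace Groth.Agent.Lead.SemiFact

universe u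

section Algebra

variable {A B : Type*} [CommRing A] [CommRing B]

/-- scaling an integral equation -/
theorem dvd_pow_of_isIntegralElem (φ : A →+* B) (hinj : Function.Injective φ) (s a : A) (b : B)
    (hb : φ.IsIntegralElem b) (hsb : φ s * b = φ a) : ∃ m : ℕ, s ∣ a ^ (m + 1) := by
  obtain ⟨p, hp, hpb⟩ := hb
  have h1 : (p.scaleRoots s).eval₂ φ (φ s * b) = 0 :=
    Polynomial.scaleRoots_eval₂_eq_zero φ hpb
  rw [hsb, Polynomial.eval₂_hom] at h1
  have h2 : (p.scaleRoots s).eval a = 0 := hinj (by rw [h1, map_zero])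
  rw [Polynomial.eval_eq_sum_range, Polynomial.natDegree_scaleRoots, Finset.sum_range_succ] at h2
  have h3 : (p.scaleRoots s).coeff p.natDegree * a ^ p.natDegree = a ^ p.natDegree := by
    rw [Polynomial.coeff_scaleRoots, Nat.sub_self, pow_zero, mul_one, hp.coeff_natDegree, one_mul]
  rw [h3] at h2
  have h4 : s ∣ ∑ i ∈ Finset.range p.natDegree, (p.scaleRoots s).coeff i * a ^ i := by
    apply Finset.dvd_sum
    intro i hi
    rw [Finset.mem_range] at hi
    rw [Polynomial.coeff_scaleRoots]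
    have : s ∣ s ^ (p.natDegree - i) := dvd_pow_self s (by omega)
    exact Dvd.dvd.mul_right (Dvd.dvd.mul_left this _) _
  have h5 : s ∣ a ^ p.natDegree := by
    have : a ^ p.natDegree = -(∑ i ∈ Finset.range p.natDegree, (p.scaleRoots s).coeff i * a ^ i) :=
      eq_neg_of_add_eq_zero_right h2
    rw [this]
    exact (dvd_neg).mpr h4
  exact ⟨p.natDegree, Dvd.dvd.mul_right h5 a |>.trans (by rw [pow_succ])⟩

/-- the key algebra statement -/
theorem surjective_of_integral (φ : A →+* B) (t : A)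
    (hB : ∀ b : B, φ t * b = 0 → b = 0)
    (hred : ∀ (a : A) (m : ℕ), t ∣ a ^ (m + 1) → t ∣ a)
    (hint : φ.IsIntegral) (hinj : Function.Injective φ)
    (hloc : ∀ b : B, ∃ (n : ℕ) (a : A), φ t ^ n * b = φ a) : Function.Surjective φ := by
  classical
  intro b
  have hex : ∃ n : ℕ, ∃ a : A, φ t ^ n * b = φ a := hloc b
  obtain ⟨a, ha⟩ := Nat.find_spec hex
  rcases hn : Nat.find hex with _ | n
  · rw [hn, pow_zero, one_mul] at ha
    exact ⟨a, ha.symm⟩
  · exfalso
    rw [hn] at ha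
    have h1 : φ (t ^ (n + 1)) * b = φ a := by rw [map_pow]; exact ha
    obtain ⟨m, hm⟩ := dvd_pow_of_isIntegralElem φ hinj (t ^ (n + 1)) a b (hint b) h1
    have h2 : t ∣ a := hred a m ((dvd_pow_self t (Nat.succ_ne_zero n)).trans hm)
    obtain ⟨a', rfl⟩ := h2
    have h3 : φ t * (φ t ^ n * b - φ a') = 0 := by
      rw [mul_sub, ← mul_assoc, ← pow_succ', ha, map_mul]
      ring
    have h4 := hB _ h3
    have h5 : Nat.find hex ≤ n := Nat.find_min' hex ⟨a', sub_eq_zero.mp h4⟩
    omega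

end Algebra

section Extra

theorem dvd_of_dvd_pow_of_sq {A : Type*} [CommRing A] (t : A) (h2 : ∀ a : A, t ∣ a ^ 2 → t ∣ a)
    (a : A) (m : ℕ) (h : t ∣ a ^ (m + 1)) : t ∣ a := by
  induction m using Nat.strong_induction_on with
  | _ m ih =>
    rcases m with _ | m
    · simpa using h
    · have hk : (m + 1 + 1) ≤ 2 * ((m + 3) / 2) := by omega
      have h3 : t ∣ (a ^ ((m + 3) / 2)) ^ 2 := by
        rw [← pow_mul, mul_comm]
        exact h.trans (pow_dvd_pow a hk)
      have h4 := h2 _ h3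
      obtain ⟨k, hk'⟩ : ∃ k, (m + 3) / 2 = k + 1 := ⟨(m + 3) / 2 - 1, by omega⟩
      rw [hk'] at h4
      exact ih k (by omega) h4

end Extra

section Rho

variable {R : Type u} [CommRing R]

/-- the structure ring map `R → Γ(Z, U)` of a scheme over `Spec R` -/
noncomputable def ρ {Z : Scheme.{u}} (h : Z ⟶ Spec (CommRingCat.of R)) (U : Z.Opens) :
    CommRingCat.of R ⟶ Γ(Z, U) :=
  (Scheme.ΓSpecIso (CommRingCat.of R)).inv ≫ h.appLE ⊤ U le_top

theorem ρ_map {Z : Scheme.{u}} (h : Z ⟶ Spec (CommRingCat.of R)) {U U' : Z.Opens}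
    (i : op U ⟶ op U') : ρ h U ≫ Z.presheaf.map i = ρ h U' := by
  rw [ρ, ρ, Category.assoc, Scheme.Hom.appLE_map]

theorem ρ_map_apply {Z : Scheme.{u}} (h : Z ⟶ Spec (CommRingCat.of R)) {U U' : Z.Opens}
    (i : op U ⟶ op U') (r : R) : (Z.presheaf.map i).hom ((ρ h U).hom r) = (ρ h U').hom r := by
  rw [← ρ_map h i]; rfl

theorem ρ_comp {Z Z' : Scheme.{u}} (g : Z' ⟶ Z) (h : Z ⟶ Spec (CommRingCat.of R))
    (U : Z.Opens) (U' : Z'.Opens) (e : U' ≤ g ⁻¹ᵁ U) :
    ρ h U ≫ g.appLE U U' e = ρ (g ≫ h) U' := by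
  rw [ρ, ρ, Category.assoc, Scheme.Hom.appLE_comp_appLE]

theorem ρ_app {Z Z' : Scheme.{u}} (g : Z' ⟶ Z) (h : Z ⟶ Spec (CommRingCat.of R))
    (h' : Z' ⟶ Spec (CommRingCat.of R)) (w : g ≫ h = h')
    (U : Z.Opens) : ρ h U ≫ g.app U = ρ h' (g ⁻¹ᵁ U) := by
  subst w
  rw [Scheme.Hom.app_eq_appLE, ρ_comp]

theorem ρ_app_apply {Z Z' : Scheme.{u}} (g : Z' ⟶ Z) (h : Z ⟶ Spec (CommRingCat.of R))
    (h' : Z' ⟶ Spec (CommRingCat.of R)) (w : g ≫ h = h')
    (U : Z.Opens) (r : R) : (g.app U).hom ((ρ h U).hom r) = (ρ h' (g ⁻¹ᵁ U)).hom r := by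
  rw [← ρ_app g h h' w U]; rfl

theorem basicOpen_ρ {Z : Scheme.{u}} (h : Z ⟶ Spec (CommRingCat.of R)) (U : Z.Opens) (r : R) :
    Z.basicOpen ((ρ h U).hom r) = U ⊓ h ⁻¹ᵁ (PrimeSpectrum.basicOpen r) := by
  have : (ρ h U).hom r = (h.appLE ⊤ U le_top).hom
      ((Scheme.ΓSpecIso (CommRingCat.of R)).inv.hom r) := rfl
  rw [this, Scheme.basicOpen_appLE]
  congr 2
  exact basicOpen_eq_of_affine (R := CommRingCat.of R) r

theorem SpecMap_ρ {Z : Scheme.{u}} (h : Z ⟶ Spec (CommRingCat.of R)) {U : Z.Opens}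
    (hU : IsAffineOpen U) : Spec.map (ρ h U) = hU.fromSpec ≫ h := by
  rw [ρ, Spec.map_comp, ← IsAffineOpen.SpecMap_appLE_fromSpec h (isAffineOpen_top _) hU le_top,
    IsAffineOpen.fromSpec_top, Scheme.isoSpec_Spec_inv]

variable [IsDomain R]

theorem ρ_regular_of_affine {Z : Scheme.{u}} (h : Z ⟶ Spec (CommRingCat.of R)) [Flat h]
    {U : Z.Opens} (hU : IsAffineOpen U) (r : R) (hr : r ≠ 0) (b : Γ(Z, U))
    (hb : (ρ h U).hom r * b = 0) : b = 0 := by
  have hoU : IsOpenImmersion hU.fromSpec := hU.isOpenImmersion_fromSpec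
  have h1 : Flat (Spec.map (ρ h U)) := by rw [SpecMap_ρ h hU]; infer_instance
  have h2 : (ρ h U).hom.Flat := (HasRingHomProperty.Spec_iff (P := @Flat)).mp h1
  let _ : Algebra R Γ(Z, U) := (ρ h U).hom.toAlgebra
  have h3 : Module.Flat R Γ(Z, U) := h2
  have h4 : IsSMulRegular Γ(Z, U) r :=
    Module.Flat.isSMulRegular_of_nonZeroDivisors (mem_nonZeroDivisors_of_ne_zero hr)
  apply h4
  show r • b = r • 0
  rw [smul_zero, Algebra.smul_def]
  exact hb

theorem ρ_regular {Z : Scheme.{u}} (h : Z ⟶ Spec (CommRingCat.of R)) [Flat h]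
    (U : Z.Opens) (r : R) (hr : r ≠ 0) (b : Γ(Z, U))
    (hb : (ρ h U).hom r * b = 0) : b = 0 := by
  have hbasis := Z.isBasis_affineOpens
  rw [TopologicalSpace.Opens.isBasis_iff_nbhd] at hbasis
  choose W hW hxW hWU using fun x : U => hbasis (U := U) (x := x.1) x.2
  refine Z.sheaf.eq_of_locally_eq' W U (fun x => homOfLE (hWU x)) ?_ b 0 ?_
  · intro x hx
    exact TopologicalSpace.Opens.mem_iSup.mpr ⟨⟨x, hx⟩, hxW ⟨x, hx⟩⟩
  · intro x
    have h0 : (Z.presheaf.map (homOfLE (hWU x)).op).hom (0 : Γ(Z, U)) = 0 := map_zero _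
    refine Eq.trans ?_ h0.symm
    apply ρ_regular_of_affine h (hW x) r hr
    have h1 : (ρ h (W x)).hom r * (Z.presheaf.map (homOfLE (hWU x)).op).hom b =
        (Z.presheaf.map (homOfLE (hWU x)).op).hom ((ρ h U).hom r * b) := by
      rw [map_mul, ρ_map_apply h (homOfLE (hWU x)).op r]
    rw [hb, map_zero] at h1
    exact h1

theorem ρ_pow_regular {Z : Scheme.{u}} (h : Z ⟶ Spec (CommRingCat.of R)) [Flat h]
    (U : Z.Opens) (r : R) (hr : r ≠ 0) (n : ℕ) (b : Γ(Z, U))
    (hb : (ρ h U).hom r ^ n * b = 0) : b = 0 := by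
  rw [← map_pow] at hb
  exact ρ_regular h U (r ^ n) (pow_ne_zero n hr) b hb

end Rho

theorem isIso_app_of_le {S T : Scheme.{u}} (g : T ⟶ S) [IsOpenImmersion g] {X Y : Over S}
    (π : Y ⟶ X) (hgen : IsIso ((Over.pullback g).map π)) (V : X.left.Opens)
    (hV : V ≤ X.hom ⁻¹ᵁ g.opensRange) : IsIso (π.left.app V) := by
  let πK : pullback Y.hom g ⟶ pullback X.hom g := ((Over.pullback g).map π).left
  have hπK : IsIso πK := (Over.forget T).map_isIso ((Over.pullback g).map π)
  have hcomm : πK ≫ pullback.fst X.hom g = pullback.fst Y.hom g ≫ π.left :=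
    pullback.lift_fst _ _ _
  have hVX : V ≤ (pullback.fst X.hom g).opensRange := by
    intro x hx
    show x ∈ Set.range (pullback.fst X.hom g)
    rw [Scheme.Pullback.range_fst]
    exact hV hx
  have hVY : π.left ⁻¹ᵁ V ≤ (pullback.fst Y.hom g).opensRange := by
    intro y hy
    show y ∈ Set.range (pullback.fst Y.hom g)
    rw [Scheme.Pullback.range_fst]
    have h1 : X.hom (π.left y) ∈ Set.range g := hV hy
    rw [← Scheme.Hom.comp_apply, Over.w π] at h1
    exact h1
  have i1 : IsIso ((pullback.fst X.hom g).app V) := Scheme.Hom.isIso_app _ V hVX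
  have i2 : IsIso ((pullback.fst Y.hom g).app (π.left ⁻¹ᵁ V)) := Scheme.Hom.isIso_app _ _ hVY
  have i3 : IsIso (πK.app ((pullback.fst X.hom g) ⁻¹ᵁ V)) := inferInstance
  have h2 := Scheme.Hom.congr_app hcomm V
  rw [Scheme.Hom.comp_app, Scheme.Hom.comp_app] at h2
  have i6 : IsIso ((pullback.fst X.hom g).app V ≫ πK.app ((pullback.fst X.hom g) ⁻¹ᵁ V)) :=
    inferInstance
  rw [h2] at i6
  have i4 : IsIso (π.left.app V ≫ (pullback.fst Y.hom g).app (π.left ⁻¹ᵁ V)) :=
    @IsIso.of_isIso_comp_right _ _ _ _ _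
      (π.left.app V ≫ (pullback.fst Y.hom g).app (π.left ⁻¹ᵁ V)) _ (by exact Functor.map_isIso _ _) i6
  exact IsIso.of_isIso_comp_right _ ((pullback.fst Y.hom g).app (π.left ⁻¹ᵁ V))


section Main

open Groth.Agent.Lib.Helper6.DVRFib

theorem affine_case (R : Type u) [CommRing R] [IsDomain R] [IsDiscreteValuationRing R]
    (X Y : Over (Spec (CommRingCat.of R))) [Flat X.hom] [Flat Y.hom]
    (π : Y ⟶ X) [IsProper π.left]
    (hgen : IsIso ((Over.pullback
      (Spec.map (CommRingCat.ofHom (algebraMap R (FractionRing R))))).map π))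
    (hred : IsReduced (X.hom.fiber (IsLocalRing.closedPoint R)))
    (V : X.left.Opens) (hV : IsAffineOpen V) : IsIso (π.left.app V) := by
  obtain ⟨ϖ, hϖ⟩ := IsDiscreteValuationRing.exists_irreducible R
  have hloc : IsLocalization.Away ϖ (FractionRing R) :=
    isLocalization_away_of_isFractionRing ϖ hϖ
  have hoi : IsOpenImmersion (Spec.map (CommRingCat.ofHom (algebraMap R (FractionRing R)))) :=
    IsOpenImmersion.of_isLocalization ϖ
  have hrange : (Spec.map (CommRingCat.ofHom (algebraMap R (FractionRing R)))).opensRange =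
      PrimeSpectrum.basicOpen ϖ := by
    ext1; exact PrimeSpectrum.localization_away_comap_range (FractionRing R) ϖ
  have hϖ0 : ϖ ≠ 0 := hϖ.ne_zero
  set t : Γ(X.left, V) := (ρ X.hom V).hom ϖ with ht
  set φ : Γ(X.left, V) →+* Γ(Y.left, π.left ⁻¹ᵁ V) := (π.left.app V).hom with hφ
  have hφt : φ t = (ρ Y.hom (π.left ⁻¹ᵁ V)).hom ϖ :=
    ρ_app_apply π.left X.hom Y.hom (Over.w π) V ϖ
  -- reducedness
  obtain ⟨ψ, hψ, -, hsq⟩ := chart_data X.hom hred ϖ hϖ V hV
  have hψρ : ψ = ρ X.hom V := Spec.map_injective (by rw [hψ, SpecMap_ρ X.hom hV])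
  rw [hψρ] at hsq
  have hredt : ∀ (a : Γ(X.left, V)) (m : ℕ), t ∣ a ^ (m + 1) → t ∣ a := by
    intro a m h
    refine dvd_of_dvd_pow_of_sq t ?_ a m h
    intro a' h'
    exact Ideal.mem_span_singleton.mp (hsq a' (Ideal.mem_span_singleton.mpr h'))
  -- the generic part
  set D : X.left.Opens := X.left.basicOpen t with hD
  have hDle : D ≤ V := X.left.basicOpen_le t
  have hD' : D = V ⊓ X.hom ⁻¹ᵁ (PrimeSpectrum.basicOpen ϖ) := basicOpen_ρ X.hom V ϖ
  have hDiso : IsIso (π.left.app D) := by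
    refine isIso_app_of_le _ π hgen D ?_
    rw [hrange, hD']
    exact inf_le_right
  have hDbij : Function.Bijective (π.left.app D).hom :=
    (ConcreteCategory.isIso_iff_bijective _).mp hDiso
  have hpreD : π.left ⁻¹ᵁ D = Y.left.basicOpen (φ t) := Scheme.preimage_basicOpen π.left t
  have hnat : ∀ a : Γ(X.left, V),
      (π.left.app D).hom ((X.left.presheaf.map (homOfLE hDle).op).hom a) =
      (Y.left.presheaf.map (homOfLE (show π.left ⁻¹ᵁ D ≤ π.left ⁻¹ᵁ V from
        fun _ hy => hDle hy)).op).hom (φ a) := by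
    intro a
    have := π.left.naturality (homOfLE hDle).op
    exact congr($(this).hom a)
  have hlocD : IsLocalization.Away t Γ(X.left, D) := hV.isLocalization_basicOpen t
  have hcpt : IsCompact (π.left ⁻¹ᵁ V).1 := by
    have : QuasiCompact π.left := inferInstance
    exact this.isCompact_preimage _ V.2 hV.isCompact
  -- integrality
  have hint : φ.IsIntegral := by
    have : IsAffine V := hV
    have h1 := isIntegral_appTop_of_universallyClosed (π.left ∣_ V)
    rw [morphismRestrict_appTop] at h1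
    have h2 : ∀ (U : X.left.Opens) (C : CommRingCat.{u})
        (c : Γ(Y.left, π.left ⁻¹ᵁ U) ⟶ C) [IsIso c],
        (π.left.app U ≫ c).hom.IsIntegral → (π.left.app U).hom.IsIntegral := by
      intro U C c hc h
      have h3 : (π.left.app U) = (π.left.app U ≫ c) ≫ inv c := by simp
      rw [h3, CommRingCat.hom_comp]
      refine RingHom.IsIntegral.trans _ _ h ?_
      apply RingHom.isIntegral_of_surjective
      exact ((ConcreteCategory.isIso_iff_bijective (inv c)).mp inferInstance).2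
    have h4 : ∀ (U U' : X.left.Opens) (e : U = U'),
        (π.left.app U).hom.IsIntegral → (π.left.app U').hom.IsIntegral := by
      intro U U' e h
      subst e
      exact h
    exact h4 _ _ (Scheme.Opens.ι_image_top V) (@h2 _ _ _ (by exact Functor.map_isIso _ _) h1)
  -- torsion-freeness
  have hB : ∀ (n : ℕ) (b : Γ(Y.left, π.left ⁻¹ᵁ V)), φ t ^ n * b = 0 → b = 0 := by
    intro n b hb
    rw [hφt] at hb
    exact ρ_pow_regular Y.hom _ ϖ hϖ0 n b hb
  have hA : ∀ (n : ℕ) (a : Γ(X.left, V)), t ^ n * a = 0 → a = 0 := by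
    intro n a ha
    exact ρ_pow_regular X.hom _ ϖ hϖ0 n a ha
  -- injectivity
  have hinj : Function.Injective φ := by
    rw [injective_iff_map_eq_zero]
    intro a ha
    have h1 : (X.left.presheaf.map (homOfLE hDle).op).hom a = 0 := by
      apply hDbij.1
      rw [hnat a, ha, map_zero, map_zero]
    have h2 : algebraMap Γ(X.left, V) Γ(X.left, D) a = algebraMap Γ(X.left, V) Γ(X.left, D) 0 := by
      rw [map_zero]; exact h1
    obtain ⟨n, hn⟩ := IsLocalization.Away.exists_of_eq t h2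
    rw [mul_zero] at hn
    exact hA n a hn
  have hlocφ : ∀ b : Γ(Y.left, π.left ⁻¹ᵁ V), ∃ (n : ℕ) (a : Γ(X.left, V)),
      φ t ^ n * b = φ a := by
    intro b
    obtain ⟨a', ha'⟩ := hDbij.2 ((Y.left.presheaf.map (homOfLE (show π.left ⁻¹ᵁ D ≤ π.left ⁻¹ᵁ V from
        fun _ hy => hDle hy)).op).hom b)
    obtain ⟨n, a, hna⟩ := IsLocalization.Away.surj t a'
    refine ⟨n, a, ?_⟩
    have hle : π.left ⁻¹ᵁ D ≤ π.left ⁻¹ᵁ V := fun _ hy => hDle hy
    have hna' : a' * (X.left.presheaf.map (homOfLE hDle).op).hom t ^ n =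
        (X.left.presheaf.map (homOfLE hDle).op).hom a := hna
    have h1 : (Y.left.presheaf.map (homOfLE hle).op).hom (φ a - φ t ^ n * b) = 0 := by
      rw [map_sub, map_mul, map_pow, ← hnat a, ← hnat t, ← ha', ← hna', map_mul, map_pow]
      ring
    have key : ∀ (U1 U2 : Y.left.Opens) (e : U1 = U2) (h1 : U1 ≤ π.left ⁻¹ᵁ V) (h2 : U2 ≤ π.left ⁻¹ᵁ V)
        (c : Γ(Y.left, π.left ⁻¹ᵁ V)), (Y.left.presheaf.map (homOfLE h1).op).hom c = 0 →
        (Y.left.presheaf.map (homOfLE h2).op).hom c = 0 := by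
      intro U1 U2 e h1 h2 c hc
      subst e
      exact hc
    have h2 := key _ _ hpreD hle (Y.left.basicOpen_le (φ t)) _ h1
    obtain ⟨m, hm⟩ := exists_pow_mul_eq_zero_of_res_basicOpen_eq_zero_of_isCompact Y.left hcpt
      (φ a - φ t ^ n * b) (φ t) h2
    have h3 := hB m _ hm
    exact (sub_eq_zero.mp h3).symm
  have hsurj := surjective_of_integral φ t (fun b hb => hB 1 b (by rw [pow_one]; exact hb))
    hredt hint hinj hlocφ
  exact (ConcreteCategory.isIso_iff_bijective _).mpr ⟨hinj, hsurj⟩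

theorem main (R : Type u) [CommRing R] [IsDomain R] [IsDiscreteValuationRing R]
    (X Y : Over (Spec (CommRingCat.of R))) [Flat X.hom] [Flat Y.hom]
    (π : Y ⟶ X) [IsProper π.left]
    (hgen : IsIso ((Over.pullback
      (Spec.map (CommRingCat.ofHom (algebraMap R (FractionRing R))))).map π))
    (hred : IsReduced (X.hom.fiber (IsLocalRing.closedPoint R))) :
    ∀ V : X.left.Opens, IsIso (π.left.app V) := by
  let F : TopCat.Sheaf CommRingCat X.left := X.left.sheaf
  let G : TopCat.Sheaf CommRingCat X.left :=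
    (TopCat.Sheaf.pushforward CommRingCat π.left.base).obj Y.left.sheaf
  let α : F ⟶ G := ⟨π.left.c⟩
  have hα : IsIso α := by
    refine TopCat.Sheaf.isIso_iff_isIso_basis (B := fun U : X.left.affineOpens => U.1) ?_ ?_
    · rw [Subtype.range_coe]
      exact X.left.isBasis_affineOpens
    · intro U
      exact affine_case R X Y π hgen hred U.1 U.2
  intro V
  have h1 : IsIso ((TopCat.Sheaf.forget CommRingCat X.left).map α) := inferInstance
  have h2 := (NatTrans.isIso_iff_isIso_app _).mp h1 (op V)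
  exact h2

end Main

end Groth.Agent.Lead.SemiFact
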