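import Mathlib
import Groth.Agent.Lib.Lead.SemiFact1

/-!
# Sections of fibre products over a Dedekind base: a torsion-free variant (lead)

A variant of Mathlib's `AlgebraicGeometry.mono_pushoutSection_of_iSup_eq` where flatness of
`Γ(T, Uₜ)` over `Γ(S, Uₛ)` is replaced by torsion-freeness of the sections of `X` over a Dedekind base.
-/

set_option autoImplicit false
set_option linter.style.haveILetI false
set_option linter.unusedSectionVars false

universe u
open CategoryTheory CategoryTheory.Limits AlgebraicGeometry TopologicalSpace Opposite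

namespace Groth.Agent.Lead.FlatFib

/-- gluing sections of the structure sheaf along a cover -/
lemma exists_glue {X : Scheme.{u}} {ι : Type*} (VX : ι → X.Opens) (UX : X.Opens)
    (hVU : iSup VX = UX) (c : Π i, Γ(X, VX i))
    (hc : ∀ i j, X.presheaf.map (homOfLE (inf_le_left : VX i ⊓ VX j ≤ VX i)).op (c i) =
      X.presheaf.map (homOfLE (inf_le_right : VX i ⊓ VX j ≤ VX j)).op (c j)) :
    ∃ t : Γ(X, UX), ∀ i, X.presheaf.map (homOfLE (hVU ▸ le_iSup VX i : VX i ≤ UX)).op t = c i := by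
  obtain ⟨t, ht, -⟩ := X.sheaf.existsUnique_gluing' VX UX
    (fun i => homOfLE (hVU ▸ le_iSup VX i)) hVU.ge c (fun i j => hc i j)
  exact ⟨t, ht⟩

variable {X Y S T : Scheme.{u}} {f : T ⟶ S} {g : Y ⟶ X} {iX : X ⟶ S} {iY : Y ⟶ T}
  (H : IsPullback g iY iX f)
  {US : S.Opens} {UT : T.Opens}
  {UX : X.Opens} (hUST : UT ≤ f ⁻¹ᵁ US) (hUSX : UX ≤ iX ⁻¹ᵁ US)
  {UY : Y.Opens} (hUY : UY = g ⁻¹ᵁ UX ⊓ iY ⁻¹ᵁ UT)

set_option backward.isDefEq.respectTransparency false in
set_option maxHeartbeats 1000000 in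
open TensorProduct in
lemma mono_pushoutSection_of_iSup_eq_of_torsionFree {ι : Type*} [Finite ι] (VX : ι → X.Opens)
    (hVU : iSup VX = UX)
    (hV : ∀ i, Mono (pushoutSection H hUST (show VX i ≤ _ by aesop) rfl))
    [IsDedekindDomain Γ(S, US)]
    (htf : ∀ (W : X.Opens) (hW : W ≤ iX ⁻¹ᵁ US) (a : Γ(S, US)) (y : Γ(X, W)), a ≠ 0 →
      (iX.appLE US W hW).hom a * y = 0 → y = 0) :
    Mono (pushoutSection H hUST hUSX hUY) := by
  have hVle (i : _) : VX i ≤ iX ⁻¹ᵁ US := by clear hV; aesop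
  classical
  algebraize [(iX.appLE US UX hUSX).hom, (f.appLE US UT hUST).hom]
  let (i : _) := (iX.appLE US (VX i) (by aesop)).hom.toAlgebra
  let ψY : Γ(Y, UY) →+* Π i, Γ(Y, g ⁻¹ᵁ VX i ⊓ iY ⁻¹ᵁ UT) := RingHom.pi fun i ↦
      (Y.presheaf.map (homOfLE (by subst hUY hVU; gcongr; exact le_iSup _ _)).op).hom
  let ψ : Γ(X, UX) →ₐ[Γ(S, US)] Π i, Γ(X, VX i) := AlgHom.pi fun i ↦
    ⟨(X.presheaf.map (homOfLE (hVU ▸ le_iSup VX i)).op).hom, fun r ↦ by
      dsimp [RingHom.algebraMap_toAlgebra]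
      simp only [← CommRingCat.comp_apply, Scheme.Hom.appLE_map]⟩
  have hψ : Function.Injective ψ := by
    intro s t est
    apply X.IsSheaf.section_ext fun x hx ↦ ?_
    simp only [← hVU, Opens.mem_iSup] at hx
    obtain ⟨i, hxi⟩ := hx
    exact ⟨_, _, hxi, congr($est i)⟩
  have hψ' : Function.Injective (Algebra.TensorProduct.map (AlgHom.id Γ(T, UT) Γ(T, UT)) ψ) := by
    let Q : Submodule Γ(S, US) (Π i, Γ(X, VX i)) := LinearMap.range ψ.toLinearMap
    have hflat : Module.Flat Γ(S, US) ((Π i, Γ(X, VX i)) ⧸ Q) := by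
      rw [IsDedekindDomain.flat_iff_torsion_eq_bot, eq_bot_iff]
      rintro m ⟨⟨a, ha⟩, h⟩
      obtain ⟨c, rfl⟩ := Submodule.mkQ_surjective Q m
      have ha0 : a ≠ 0 := nonZeroDivisors.ne_zero ha
      have hc : a • c ∈ Q := by
        have h' : Q.mkQ (a • c) = 0 := by simpa using h
        exact (Submodule.Quotient.mk_eq_zero Q).mp h'
      obtain ⟨s, hs⟩ := hc
      have hcompat : ∀ i j,
          X.presheaf.map (homOfLE (inf_le_left : VX i ⊓ VX j ≤ VX i)).op (c i) =
          X.presheaf.map (homOfLE (inf_le_right : VX i ⊓ VX j ≤ VX j)).op (c j) := by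
        intro i j
        have hW : VX i ⊓ VX j ≤ iX ⁻¹ᵁ US := inf_le_left.trans (hVle i)
        rw [← sub_eq_zero]
        apply htf (VX i ⊓ VX j) hW a _ ha0
        have key : ∀ k (hk : VX i ⊓ VX j ≤ VX k),
            (iX.appLE US (VX i ⊓ VX j) hW).hom a * X.presheaf.map (homOfLE hk).op (c k) =
            X.presheaf.map (homOfLE (hk.trans (hVU ▸ le_iSup VX k))).op s := by
          intro k hk
          have hk' := congr_arg (X.presheaf.map (homOfLE hk).op) (congr_fun hs k)
          have e1 : (X.presheaf.map (homOfLE hk).op) (ψ.toLinearMap s k) =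
              X.presheaf.map (homOfLE (hk.trans (hVU ▸ le_iSup VX k))).op s := by
            simp only [ψ, AlgHom.toLinearMap_apply, AlgHom.pi_apply, AlgHom.coe_mk,
              ← CommRingCat.comp_apply, ← Functor.map_comp]
            rfl
          have e2 : (X.presheaf.map (homOfLE hk).op) ((a • c) k) =
              (iX.appLE US (VX i ⊓ VX j) hW).hom a * X.presheaf.map (homOfLE hk).op (c k) := by
            rw [Pi.smul_apply, Algebra.smul_def, map_mul, RingHom.algebraMap_toAlgebra,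
              ← CommRingCat.comp_apply, Scheme.Hom.appLE_map]
          rw [← e2, ← hk', e1]
        rw [mul_sub, key i inf_le_left, key j inf_le_right, sub_self]
      obtain ⟨t, ht⟩ := exists_glue VX UX hVU c hcompat
      have : c ∈ Q := ⟨t, by ext i; exact ht i⟩
      exact (Submodule.mem_bot _).mpr ((Submodule.Quotient.mk_eq_zero Q).mpr this)
    have := LinearMap.lTensor_injective_of_exact_of_flat Q.mkQ (Submodule.mkQ_surjective _)
      ψ.toLinearMap hψ (LinearMap.exact_map_mkQ_range _) Γ(T, UT)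
    exact this
  simp_rw [@ConcreteCategory.mono_iff_injective_of_preservesPullback] at hV ⊢
  cases nonempty_fintype ι
  let φ : (Γ(T, UT) ⊗[Γ(S, US)] Π i, Γ(X, VX i)) →+* Π i, Γ(Y, g ⁻¹ᵁ VX i ⊓ iY ⁻¹ᵁ UT) :=
    (RingHom.pi fun i ↦ (pushoutSection H hUST (show VX i ≤ _ by aesop) rfl).hom.comp
      ((CommRingCat.isPushout_tensorProduct _ _ _).flip.isoPushout.hom.hom.comp
      (by exact Pi.evalRingHom _ _))).comp (Algebra.TensorProduct.piRight _ Γ(S, US) _ _).toRingHom
  have hφ : Function.Injective φ := by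
    dsimp [φ]
    refine .comp ?_ (Algebra.TensorProduct.piRight _ Γ(S, US) _ _).injective
    exact .piMap fun i ↦ (hV _).comp <| CommRingCat.isPushout_tensorProduct _ _ _
      |>.flip.isoPushout.commRingCatIsoToRingEquiv.injective
  let e : pushout (iX.appLE US UX hUSX) (f.appLE US UT hUST) ≅
      .of (Γ(T, UT) ⊗[Γ(S, US)] Γ(X, UX)) :=
    (CommRingCat.isPushout_tensorProduct _ _ _).flip.isoPushout.symm
  suffices (ψY.comp (pushoutSection H hUST hUSX hUY).hom).comp e.inv.hom = φ.comp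
      (Algebra.TensorProduct.map (AlgHom.id Γ(T, UT) Γ(T, UT)) ψ).toRingHom by
    refine .of_comp (f := ψY) ?_
    convert (hφ.comp hψ').comp e.commRingCatIsoToRingEquiv.injective
    ext1 x; simpa using! congr($this (e.hom x))
  ext1
  · have H₁ : e.inv.hom.comp Algebra.TensorProduct.includeLeftRingHom =
        (pushout.inr (C := CommRingCat) _ _).hom :=
      congr($((CommRingCat.isPushout_tensorProduct _ _ _).flip.inr_isoPushout_hom).hom)
    have H₂ (x j) : φ (x ⊗ₜ[↑Γ(S, US)] 1) j = pushoutSection H hUST (UX := VX j) (by simp_all) rfl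
        (pushout.inr (C := CommRingCat) _ _ x) := congr(pushoutSection H hUST (UX := VX j) _ rfl
        ($((CommRingCat.isPushout_tensorProduct ↑Γ(S, US)
          ↑Γ(T, UT) ↑Γ(X, VX j)).flip.inr_isoPushout_hom) x))
    simp only [RingHom.comp_assoc, H₁]
    ext x j
    simp [ψY, H₂, ← CategoryTheory.comp_apply, pushoutSection]
  · have H₁ : e.inv.hom.comp Algebra.TensorProduct.includeRight.toRingHom =
        (pushout.inl (C := CommRingCat) _ _).hom :=
      congr($((CommRingCat.isPushout_tensorProduct _ _ _).flip.inl_isoPushout_hom).hom)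
    have H₂ (x j) : φ (1 ⊗ₜ[↑Γ(S, US)] x) j = pushoutSection H hUST (UX := VX j) (by simp_all) rfl
        (pushout.inl (C := CommRingCat) _ _ (x j)) := congr(pushoutSection H hUST (UX := VX j) _ rfl
        ($((CommRingCat.isPushout_tensorProduct ↑Γ(S, US)
          ↑Γ(T, UT) ↑Γ(X, VX j)).flip.inl_isoPushout_hom) (x j)))
    simp only [RingHom.comp_assoc, H₁]
    ext x j
    simp [ψY, H₂, -CommRingCat.hom_comp, ← CategoryTheory.comp_apply, pushoutSection, ψ]


section Main

open Groth.Agent.Lead.SemiFact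

variable (A : Type u) [CommRing A] [IsDomain A] [IsDiscreteValuationRing A]

theorem isDedekind_top : IsDedekindDomain Γ(Spec (CommRingCat.of A), ⊤) := by
  let eA : Γ(Spec (CommRingCat.of A), ⊤) ≃+* A :=
    (Scheme.ΓSpecIso (CommRingCat.of A)).commRingCatIsoToRingEquiv
  have h1 : IsDomain Γ(Spec (CommRingCat.of A), ⊤) := MulEquiv.isDomain A eA.toMulEquiv
  have h2 : IsPrincipalIdealRing Γ(Spec (CommRingCat.of A), ⊤) :=
    IsPrincipalIdealRing.of_surjective eA.symm.toRingHom eA.symm.surjective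
  infer_instance

theorem main (X : Scheme.{u}) (f : X ⟶ Spec (CommRingCat.of A)) [Flat f] [QuasiCompact f]
    [QuasiSeparated f]
    (g : Spec Γ(X, ⊤) ⟶ Spec (CommRingCat.of A)) (hg : X.toSpecΓ ≫ g = f)
    (s : ↥(Spec (CommRingCat.of A))) :
    (pullback.map f ((Spec (CommRingCat.of A)).fromSpecResidueField s) g
        ((Spec (CommRingCat.of A)).fromSpecResidueField s)
        X.toSpecΓ (𝟙 _) (𝟙 _) ((Category.comp_id f).trans hg.symm)
        ((Category.comp_id _).trans (Category.id_comp _).symm)).ker = ⊥ := by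
  have hX : CompactSpace X := QuasiCompact.compactSpace_of_compactSpace f
  have hDed := isDedekind_top A
  set σ := (Spec (CommRingCat.of A)).fromSpecResidueField s with hσ
  have H := IsPullback.of_hasPullback f σ
  have hUST : (⊤ : (Spec ((Spec (CommRingCat.of A)).residueField s)).Opens) ≤ σ ⁻¹ᵁ ⊤ :=
    le_of_eq (by simp)
  have hUSX : (⊤ : X.Opens) ≤ f ⁻¹ᵁ ⊤ := le_of_eq (by simp)
  have hUY : (⊤ : (pullback f σ).Opens) =
      (pullback.fst f σ) ⁻¹ᵁ ⊤ ⊓ (pullback.snd f σ) ⁻¹ᵁ ⊤ := by simp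
  have htf : ∀ (W : X.Opens) (hW : W ≤ f ⁻¹ᵁ ⊤) (a : Γ(Spec (CommRingCat.of A), ⊤))
      (y : Γ(X, W)), a ≠ 0 → (f.appLE ⊤ W hW).hom a * y = 0 → y = 0 := by
    intro W hW a y ha hy
    refine ρ_regular f W ((Scheme.ΓSpecIso (CommRingCat.of A)).hom.hom a) ?_ y ?_
    · intro h0
      apply ha
      have := congr_arg (Scheme.ΓSpecIso (CommRingCat.of A)).inv.hom h0
      simpa using this
    · have : (ρ f W).hom ((Scheme.ΓSpecIso (CommRingCat.of A)).hom.hom a) =
          (f.appLE ⊤ W hW).hom a := by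
        simp [ρ]
      rw [this]; exact hy
  obtain ⟨I, hI, e⟩ := isCompact_iff_finite_and_eq_biUnion_affineOpens.mp
    (show IsCompact (X := X) (⊤ : X.Opens) from isCompact_univ)
  have := hI.to_subtype
  have hPSf : Mono (pushoutSection H hUST hUSX hUY) :=
    mono_pushoutSection_of_iSup_eq_of_torsionFree H hUST hUSX hUY (fun i : I ↦ (i : X.Opens))
      (by rwa [iSup_subtype, eq_comm])
      (fun i ↦ by
        have := isIso_pushoutSection_of_isAffineOpen H hUST (UX := (i : X.Opens))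
          (by simp) rfl (isAffineOpen_top _) (isAffineOpen_top _) i.1.2
        infer_instance) htf
  set F := pullback.map f σ g σ X.toSpecΓ (𝟙 _) (𝟙 _) ((Category.comp_id f).trans hg.symm)
    ((Category.comp_id _).trans (Category.id_comp _).symm) with hF
  have H' := IsPullback.of_hasPullback g σ
  have hUSX' : (⊤ : (Spec Γ(X, ⊤)).Opens) ≤ g ⁻¹ᵁ ⊤ := le_of_eq (by simp)
  have hUY' : (⊤ : (pullback g σ).Opens) =
      (pullback.fst g σ) ⁻¹ᵁ ⊤ ⊓ (pullback.snd g σ) ⁻¹ᵁ ⊤ := by simp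
  have hPSg : IsIso (pushoutSection H' hUST hUSX' hUY') :=
    isIso_pushoutSection_of_isAffineOpen H' hUST hUSX' hUY' (isAffineOpen_top _)
      (isAffineOpen_top _) (isAffineOpen_top _)
  have hle : (⊤ : X.Opens) ≤ X.toSpecΓ ⁻¹ᵁ ⊤ := le_of_eq (by simp)
  have hisoΓ : IsIso (X.toSpecΓ.appLE ⊤ ⊤ hle) := by
    have : X.toSpecΓ.appLE ⊤ ⊤ hle = X.toSpecΓ.appTop := by
      rw [Scheme.Hom.appLE]
      exact (congr_arg _ (X.presheaf.map_id _)).trans (Category.comp_id _)
    rw [this, Scheme.toSpecΓ_appTop]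
    infer_instance
  let Θ : pushout (g.appLE ⊤ ⊤ hUSX') (σ.appLE ⊤ ⊤ hUST) ⟶
      pushout (f.appLE ⊤ ⊤ hUSX) (σ.appLE ⊤ ⊤ hUST) :=
    pushout.map _ _ _ _ (X.toSpecΓ.appLE ⊤ ⊤ hle) (𝟙 _) (𝟙 _)
      (by simp [Scheme.Hom.appLE_comp_appLE, hg]) (by simp)
  have hΘ : IsIso Θ := by
    dsimp only [Θ]
    infer_instance
  have hleF : (⊤ : (pullback f σ).Opens) ≤ F ⁻¹ᵁ ⊤ := le_of_eq (by simp)
  have hcomm : pushoutSection H' hUST hUSX' hUY' ≫ F.appLE ⊤ ⊤ hleF =
      Θ ≫ pushoutSection H hUST hUSX hUY := by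
    have e1 : F ≫ pullback.fst g σ = pullback.fst f σ ≫ X.toSpecΓ :=
      pullback.lift_fst _ _ _
    have e2 : F ≫ pullback.snd g σ = pullback.snd f σ :=
      (pullback.lift_snd _ _ _).trans (Category.comp_id _)
    apply pushout.hom_ext
    · simp only [Θ, pushoutSection, Scheme.Hom.appLE_comp_appLE, pushout.inl_desc_assoc,
        pushout.inl_desc, Category.assoc, e1]
    · simp only [Θ, pushoutSection, Scheme.Hom.appLE_comp_appLE, pushout.inr_desc_assoc,
        pushout.inr_desc, e2, Category.id_comp]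
  have hmono : Mono (F.appLE ⊤ ⊤ hleF) := by
    have h1 : Mono (Θ ≫ pushoutSection H hUST hUSX hUY) := mono_comp _ _
    rw [← hcomm] at h1
    have h2 : F.appLE ⊤ ⊤ hleF = inv (pushoutSection H' hUST hUSX' hUY') ≫
        (pushoutSection H' hUST hUSX' hUY' ≫ F.appLE ⊤ ⊤ hleF) := by simp
    rw [h2]
    exact mono_comp _ _
  have hinj : Function.Injective F.appTop := by
    have : F.appLE ⊤ ⊤ hleF = F.appTop := by
      rw [Scheme.Hom.appLE]
      exact (congr_arg _ ((pullback f σ).presheaf.map_id _)).trans (Category.comp_id _)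
    rw [← this]
    exact (ConcreteCategory.mono_iff_injective_of_preservesPullback _).mp hmono
  have hXc : CompactSpace ↥(pullback f σ) :=
    QuasiCompact.compactSpace_of_compactSpace (pullback.snd f σ)
  have hFqc : QuasiCompact F := inferInstance
  refine Scheme.IdealSheafData.ext_of_isAffine ?_
  rw [F.ker_apply ⟨⊤, isAffineOpen_top _⟩]
  simp only [Scheme.IdealSheafData.ideal_bot, Pi.bot_apply]
  exact (RingHom.injective_iff_ker_eq_bot _).mp hinj

end Main

end Groth.Agent.Lead.FlatFib
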