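import Mathlib
import Groth.Agent.Lib.Lead.FpqcGen5
import Groth.Agent.Lib.Lead.ParaF2
import Groth.Agent.Lib.Helper4.RelHartogs1
import Groth.Agent.Lib.Helper4.Hartogs4
import Groth.Agent.Lib.Helper1.JacTFAE

/-!
# Injectivity of Pic under flat base change, general pullback squares; punctured spectra (lead)
-/

set_option autoImplicit false
set_option backward.isDefEq.respectTransparency.types false
set_option linter.style.haveILetI false
universe u

open CategoryTheory AlgebraicGeometry TopologicalSpace Opposite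

namespace Groth.Agent.Lead.FpqcGen

open Groth.Agent.Helper1 Groth.Agent.Helper1.LGen Groth.Agent.Helper1.PullSec
  Groth.Agent.Helper1.PullGen Groth.Agent.Helper1.QcCech

section Inj

variable {X S X' S' : Scheme.{u}} (f : X ⟶ S) (g : S' ⟶ S) (g' : X' ⟶ X) (f' : X' ⟶ S')
  (h : IsPullback g' f' f g)

include h in
theorem picPullbackInjective_of_isPullback [QuasiCompact f] [QuasiSeparated f]
    (hf : ∀ V : S.Opens, Function.Bijective (f.app V)) [Flat g] [Surjective g] [QuasiCompact g]
    (hg : Formal2.PicPullbackInjective g) :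
    Formal2.PicPullbackInjective g' := by
  intro L hL ⟨e⟩
  obtain ⟨hN, hcounit⟩ := pushforward_invertible_and_counit f g g' f' h L hf hL (fun y' => by
      obtain ⟨t, ht⟩ := hloc_of_iso _ e (f' ⁻¹ᵁ ⊤)
      exact ⟨⊤, trivial, t, ht⟩)
  haveI := hcounit
  set N := (Scheme.Modules.pushforward f).obj L with hNdef
  let ε : (Scheme.Modules.pullback f).obj N ≅ L :=
    asIso ((Scheme.Modules.pullbackPushforwardAdjunction f).counit.app L)
  have hM : PicF.IsInvertible ((Scheme.Modules.pullback g).obj N) := isInvertible_pullback g hN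
  let e1 : (Scheme.Modules.pullback f').obj ((Scheme.Modules.pullback g).obj N) ≅
      Coh.structureModule X' :=
    (Scheme.Modules.pullbackComp f' g).app N ≪≫
    (Scheme.Modules.pullbackCongr h.w.symm).app N ≪≫
    ((Scheme.Modules.pullbackComp g' f).app N).symm ≪≫
    (Scheme.Modules.pullback g').mapIso ε ≪≫ e
  obtain ⟨e2⟩ := trivial_of_pullback_trivial f'
    (isBasis_app_bijective f g g' f' h hf) _ hM e1
  obtain ⟨e3⟩ := hg N hN ⟨e2⟩
  exact ⟨ε.symm ≪≫ (Scheme.Modules.pullback f).mapIso e3 ≪≫ unitIso f⟩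

end Inj

section Punct

open IsLocalRing

variable (A : Type u) [CommRing A] [IsNoetherianRing A] [IsLocalRing A]

theorem bijective_ι_app_of_depth {Z : Scheme.{u}} [IsLocallyNoetherian Z] (U : Z.Opens)
    (hd : ∀ x : Z, x ∉ U → (2 : ℕ∞) ≤ LocCoh.depth (Z.presheaf.stalk x) (Z.presheaf.stalk x))
    (V : Z.Opens) : Function.Bijective (U.ι.app V) := by
  have key : ∀ (B : Z.Opens) (hB : B ≤ V), B = V ⊓ U →
      Function.Bijective (Z.presheaf.map (homOfLE hB).op) := by
    intro B hB e
    subst e
    exact Groth.Agent.Lib.Helper4.RelHartogs1.hbij_of_depth Z U hd V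
  rw [Scheme.Opens.ι_app]
  refine key _ _ ?_
  rw [Scheme.Hom.image_preimage_eq_opensRange_inf, Scheme.Opens.opensRange_ι, inf_comm]

theorem depth_stalk_punctured (hdepth : (2 : ℕ∞) ≤ LocCoh.depth A A)
    (x : Spec (CommRingCat.of A)) (hx : x ∉ FEt.puncturedSpec A) :
    (2 : ℕ∞) ≤ LocCoh.depth ((Spec (CommRingCat.of A)).presheaf.stalk x)
      ((Spec (CommRingCat.of A)).presheaf.stalk x) := by
  have hx' : x = closedPoint A := by
    by_contra hne
    exact hx hne
  subst hx'
  rw [Groth.Agent.Lib.Helper4.Hartogs4.depth_self_eq_of_ringEquiv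
    (stalkClosedPointIso (CommRingCat.of A)).commRingCatIsoToRingEquiv.symm]
  exact hdepth

/-- the statement of S0813 -/
theorem s0813 (hdepth : (2 : ℕ∞) ≤ LocCoh.depth A A) :
    Formal2.PicPullbackInjective
      (Spec.map (CommRingCat.ofHom (algebraMap A (AdicCompletion (IsLocalRing.maximalIdeal A) A))) ∣_
        FEt.puncturedSpec A) := by
  set φ := Spec.map (CommRingCat.ofHom
    (algebraMap A (AdicCompletion (IsLocalRing.maximalIdeal A) A))) with hφ
  set U := FEt.puncturedSpec A with hU
  have hpb : IsPullback (φ ∣_ U) (φ ⁻¹ᵁ U).ι U.ι φ := isPullback_morphismRestrict φ U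
  haveI hff : Module.FaithfullyFlat A (AdicCompletion (IsLocalRing.maximalIdeal A) A) :=
    Groth.Agent.Helper1.JacTFAE.faithfullyFlat_of_le A _ (IsLocalRing.maximalIdeal_le_jacobson _)
  haveI : Flat φ := by
    rw [hφ, HasRingHomProperty.Spec_iff (P := @Flat)]
    exact (RingHom.flat_algebraMap_iff).2 inferInstance
  haveI : Surjective φ := by
    constructor
    intro x
    obtain ⟨y, hy⟩ := PrimeSpectrum.comap_surjective_of_faithfullyFlat
      (A := A) (B := AdicCompletion (IsLocalRing.maximalIdeal A) A) x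
    exact ⟨y, hy⟩
  haveI : IsLocallyNoetherian (Spec (CommRingCat.of A)) := inferInstance
  refine picPullbackInjective_of_isPullback U.ι φ (φ ∣_ U) (φ ⁻¹ᵁ U).ι hpb
    (bijective_ι_app_of_depth U (depth_stalk_punctured A hdepth)) ?_
  intro N hN _
  exact Groth.Agent.Lead.ParaF.picTrivial_of_local A N hN

end Punct

end Groth.Agent.Lead.FpqcGen
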