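import Mathlib
import Groth.Prelude.Def_Frob

/-!
# Relatively perfect morphisms as Frobenius-cartesian squares (lead)
-/

set_option autoImplicit false
set_option linter.style.haveILetI false
universe u
open CategoryTheory CategoryTheory.Limits AlgebraicGeometry FrobSch

namespace Groth.Agent.Lead.FrobCart

variable (p : ℕ) [Fact p.Prime]

theorem isIso_relFrob_iff {X S : Scheme.{u}} [IsCharP S p] [IsCharP X p] (f : X ⟶ S) :
    IsIso (relFrob f p) ↔ IsPullback (frob X p) f f (frob S p) := by
  constructor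
  · intro h
    exact IsPullback.of_iso_pullback ⟨frob_comp p f⟩ (asIso (relFrob f p))
      (relFrob_fst f p) (relFrob_snd f p)
  · intro h
    have e : relFrob f p = h.isoPullback.hom := by
      apply pullback.hom_ext
      · rw [relFrob_fst, IsPullback.isoPullback_hom_fst]
      · rw [relFrob_snd, IsPullback.isoPullback_hom_snd]
    rw [e]; infer_instance

/-- composition of relatively perfect morphisms -/
theorem comp {X T S : Scheme.{u}} [IsCharP S p] [IsCharP T p] [IsCharP X p]
    (π : X ⟶ T) (f : T ⟶ S)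
    (hπ : IsPullback (frob X p) π π (frob T p)) (hf : IsPullback (frob T p) f f (frob S p)) :
    IsPullback (frob X p) (π ≫ f) (π ≫ f) (frob S p) :=
  hπ.paste_vert hf

/-- base change of a relatively perfect morphism -/
theorem baseChange {Y T S : Scheme.{u}} [IsCharP S p] [IsCharP T p] [IsCharP Y p]
    (r : Y ⟶ S) (f : T ⟶ S) [IsCharP (pullback r f) p]
    (hr : IsPullback (frob Y p) r r (frob S p)) :
    IsPullback (frob (pullback r f) p) (pullback.snd r f) (pullback.snd r f) (frob T p) := by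
  have R : IsPullback (pullback.fst r f) (pullback.snd r f) r f := IsPullback.of_hasPullback r f
  have O := R.paste_horiz hr
  rw [← frob_comp p (pullback.fst r f), ← frob_comp p f] at O
  exact IsPullback.of_right O (frob_comp p (pullback.snd r f)) R

theorem main {X X' T S : Scheme.{u}}
    [FrobSch.IsCharP S p] [FrobSch.IsCharP T p] (f : T ⟶ S) (hf : IsIso (FrobSch.relFrob f p))
    (g : X ⟶ T) (π : X' ⟶ T) (hπ : IsIso (FrobSch.relFrob π p)) (c : X ⟶ X') (hc : c ≫ π = g)
    (huniv : ∀ (Y : Scheme.{u}) (q : Y ⟶ T), IsIso (FrobSch.relFrob q p) →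
      ∀ k : X ⟶ Y, k ≫ q = g → ∃! h : X' ⟶ Y, h ≫ q = π ∧ c ≫ h = k) :
    IsIso (FrobSch.relFrob (π ≫ f) p) ∧
      ∀ (Y : Scheme.{u}) (r : Y ⟶ S), IsIso (FrobSch.relFrob r p) →
        ∀ k : X ⟶ Y, k ≫ r = g ≫ f → ∃! h : X' ⟶ Y, h ≫ r = π ≫ f ∧ c ≫ h = k := by
  haveI : IsCharP X' p := IsCharP.of_hom π p
  have hf' := (isIso_relFrob_iff p f).1 hf
  have hπ' := (isIso_relFrob_iff p π).1 hπ
  refine ⟨(isIso_relFrob_iff p (π ≫ f)).2 (comp p π f hπ' hf'), ?_⟩
  intro Y r hr k hk
  haveI : IsCharP Y p := IsCharP.of_hom r p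
  haveI : IsCharP (pullback r f) p := IsCharP.of_hom (pullback.snd r f) p
  have hr' := (isIso_relFrob_iff p r).1 hr
  have hq := (isIso_relFrob_iff p (pullback.snd r f)).2 (baseChange p r f hr')
  obtain ⟨h', ⟨h1, h2⟩, huniq⟩ := huniv (pullback r f) (pullback.snd r f) hq
    (pullback.lift k g hk) (pullback.lift_snd _ _ _)
  refine ⟨h' ≫ pullback.fst r f, ⟨?_, ?_⟩, ?_⟩
  · rw [Category.assoc, pullback.condition, ← Category.assoc, h1]
  · rw [← Category.assoc, h2, pullback.lift_fst]
  · rintro h₂ ⟨e1, e2⟩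
    have := huniq (pullback.lift h₂ π e1) ⟨pullback.lift_snd _ _ _, ?_⟩
    · rw [← this, pullback.lift_fst]
    · apply pullback.hom_ext
      · rw [Category.assoc, pullback.lift_fst, pullback.lift_fst, e2]
      · rw [Category.assoc, pullback.lift_snd, pullback.lift_snd, hc]

end Groth.Agent.Lead.FrobCart
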