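import Mathlib
import Groth.Prelude.Def_Frob
import Groth.Prelude.Def_Omega4
import Groth.Agent.Lib.Lead.OmU6
import Groth.Agent.Lib.Lead.OmU13b

set_option autoImplicit false
universe u
open CategoryTheory CategoryTheory.Limits AlgebraicGeometry TopologicalSpace Opposite TensorProduct

set_option backward.isDefEq.respectTransparency.types false

namespace Groth.Agent.Lead.FrobDer

open OmegaSh Groth.Agent.Lead.DerU Groth.Agent.Lead.OmU

section Pushout

/-- a pushout square of commutative rings is generated by the two images. -/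
theorem subring_eq_top_of_isPushout {A B A' B' : CommRingCat.{u}} {α : A ⟶ B} {β : A ⟶ A'}
    {ι₁ : B ⟶ B'} {ι₂ : A' ⟶ B'} (h : IsPushout α β ι₁ ι₂) (E : Subring B')
    (h₁ : ∀ b, ι₁.hom b ∈ E) (h₂ : ∀ a', ι₂.hom a' ∈ E) : E = ⊤ := by
  letI := α.hom.toAlgebra
  letI := β.hom.toAlgebra
  have tp := CommRingCat.isPushout_tensorProduct A B A'
  let iso := tp.isoIsPushout _ _ h
  have e1 : ∀ b : B, iso.hom (b ⊗ₜ[A] (1 : A')) = ι₁.hom b := fun b =>
    congr($(tp.inl_isoIsPushout_hom _ _ h) b)
  have e2 : ∀ a' : A', iso.hom ((1 : B) ⊗ₜ[A] a') = ι₂.hom a' := fun a' =>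
    congr($(tp.inr_isoIsPushout_hom _ _ h) a')
  rw [eq_top_iff]
  intro x _
  have hx : x = iso.hom (iso.inv x) := by
    change x = (iso.inv ≫ iso.hom) x
    rw [Iso.inv_hom_id]; rfl
  rw [hx]
  generalize iso.inv x = t
  induction t using TensorProduct.induction_on with
  | zero => rw [map_zero]; exact zero_mem _
  | tmul b a' =>
    have h3 : b ⊗ₜ[A] a' = (b ⊗ₜ[A] (1 : A')) * ((1 : B) ⊗ₜ[A] a') := by
      rw [Algebra.TensorProduct.tmul_mul_tmul, mul_one, one_mul]
    rw [h3, map_mul, e1, e2]
    exact mul_mem (h₁ b) (h₂ a')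
  | add x y hx hy => rw [map_add]; exact add_mem hx hy

end Pushout

section Kills

variable {X Y Z : Scheme.{u}} {g : X ⟶ Z} {Ω : X.Modules} (d : Der g Ω) (F : X ⟶ Y)

theorem der_one (U : X.Opens) : d.app U 1 = 0 := by
  have h := der_mul d U 1 1
  rw [mul_one, one_smul] at h
  have h2 : d.app U 1 + 0 = d.app U 1 + d.app U 1 := by rw [add_zero]; exact h
  exact (add_left_cancel h2).symm

theorem der_pow (U : X.Opens) (b : Γ(X, U)) (n : ℕ) :
    d.app U (b ^ (n + 1)) = (((n + 1 : ℕ) : Γ(X, U)) * b ^ n) • d.app U b := by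
  induction n with
  | zero => simp
  | succ n ih =>
    rw [pow_succ, der_mul, ih, smul_smul, ← add_smul]
    congr 1
    push_cast
    ring

/-- the sections of `O_Y` whose pullback is killed by the derivation. -/
def Kills (V' : Y.Opens) (c : Γ(Y, V')) : Prop := d.app (F ⁻¹ᵁ V') (F.app V' c) = 0

theorem app_res {V' V'' : Y.Opens} (h : V'' ≤ V') (c : Γ(Y, V')) :
    F.app V'' (Y.presheaf.map (homOfLE h).op c) =
      X.presheaf.map (homOfLE (F.preimage_mono h)).op (F.app V' c) := by
  have := F.naturality (homOfLE h).op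
  exact congr($this c)

theorem kills_res {V' V'' : Y.Opens} (h : V'' ≤ V') (c : Γ(Y, V')) (hc : Kills d F V' c) :
    Kills d F V'' (Y.presheaf.map (homOfLE h).op c) := by
  unfold Kills at hc ⊢
  rw [app_res, der_map, hc, map_zero]

theorem kills_of_locally (V' : Y.Opens) (c : Γ(Y, V'))
    (h : ∀ x : X, F x ∈ V' → ∃ (V'' : Y.Opens) (hV : V'' ≤ V'), F x ∈ V'' ∧
      Kills d F V'' (Y.presheaf.map (homOfLE hV).op c)) : Kills d F V' c := by
  unfold Kills
  apply section_ext Ω
  intro x hx
  obtain ⟨V'', hV, hxV, hk⟩ := h x hx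
  refine ⟨F ⁻¹ᵁ V'', F.preimage_mono hV, hxV, ?_⟩
  unfold Kills at hk
  rw [app_res, der_map] at hk
  rw [hk, map_zero]

/-- the killed sections form a subring. -/
def killsSubring (V' : Y.Opens) : Subring Γ(Y, V') where
  carrier := {c | Kills d F V' c}
  mul_mem' {a b} ha hb := by
    change d.app _ (F.app V' (a * b)) = 0
    rw [map_mul, der_mul]
    have ha' : d.app _ (F.app V' a) = 0 := ha
    have hb' : d.app _ (F.app V' b) = 0 := hb
    rw [ha', hb', smul_zero, smul_zero, add_zero]
  one_mem' := by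
    change d.app _ (F.app V' 1) = 0
    rw [map_one, der_one]
  add_mem' {a b} ha hb := by
    change d.app _ (F.app V' (a + b)) = 0
    have ha' : d.app _ (F.app V' a) = 0 := ha
    have hb' : d.app _ (F.app V' b) = 0 := hb
    rw [map_add, map_add, ha', hb', add_zero]
  zero_mem' := by
    change d.app _ (F.app V' 0) = 0
    rw [map_zero, map_zero]
  neg_mem' {a} ha := by
    change d.app _ (F.app V' (-a)) = 0
    have ha' : d.app _ (F.app V' a) = 0 := ha
    rw [map_neg, map_neg, ha', neg_zero]

theorem mem_killsSubring (V' : Y.Opens) (c : Γ(Y, V')) : c ∈ killsSubring d F V' ↔ Kills d F V' c :=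
  Iff.rfl

theorem kills_inv (V' : Y.Opens) (h v : Γ(Y, V')) (hv : h * v = 1) (hk : Kills d F V' h) :
    Kills d F V' v := by
  unfold Kills at hk ⊢
  have h1 : d.app _ (F.app V' (h * v)) = 0 := by rw [hv, map_one, der_one]
  rw [map_mul, der_mul, hk, smul_zero, add_zero] at h1
  have h2 : F.app V' v * F.app V' h = 1 := by rw [← map_mul, mul_comm, hv, map_one]
  have h3 := congrArg (fun m => F.app V' v • m) h1
  simp only [smul_smul, h2, one_smul, smul_zero] at h3
  exact h3

end Kills

section Frob

open FrobSch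

variable (p : ℕ) [Fact p.Prime] {X S : Scheme.{u}} [FrobSch.IsCharP S p] (f : X ⟶ S)
  {Ω : X.Modules} (d : Der f Ω)

/-- the pullback of a function under the absolute Frobenius is killed by derivations. -/
theorem der_pow_p [FrobSch.IsCharP X p] (O : X.Opens) (b : Γ(X, O)) : d.app O (b ^ p) = 0 := by
  obtain ⟨n, hn⟩ : ∃ n, p = n + 1 := ⟨p - 1, (Nat.succ_pred_eq_of_pos (Fact.out : p.Prime).pos).symm⟩
  have h0 : ((n + 1 : ℕ) : Γ(X, O)) = 0 := by
    rw [← hn]; exact natCast_eq_zero_app X p O
  rw [hn, der_pow, h0, zero_mul, zero_smul]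

theorem kills_chart {U : X.Opens} (hU : IsAffineOpen U) {V : S.Opens} (hV : IsAffineOpen V)
    (e : U ≤ f ⁻¹ᵁ V)
    (c₀ : Γ(frobTwist f p, pullback.fst f (frob S p) ⁻¹ᵁ U ⊓ pullback.snd f (frob S p) ⁻¹ᵁ V)) :
    Kills d (relFrob f p) _ c₀ := by
  haveI : FrobSch.IsCharP X p := FrobSch.IsCharP.of_hom f p
  have eV : V ≤ frob S p ⁻¹ᵁ V := le_rfl
  have hpo := (isIso_pushoutSection_iff (IsPullback.of_hasPullback f (frob S p)) eV e rfl).mp
    (isIso_pushoutSection_of_isAffineOpen (IsPullback.of_hasPullback f (frob S p)) eV e rfl hV hV hU)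
  have htop := subring_eq_top_of_isPushout hpo (killsSubring d (relFrob f p) _) ?_ ?_
  · have : c₀ ∈ killsSubring d (relFrob f p) _ := by rw [htop]; trivial
    exact this
  · intro b
    change d.app _ ((relFrob f p).app _ ((pullback.fst f (frob S p)).appLE U _ _ b)) = 0
    have h1 : (pullback.fst f (frob S p)).appLE U
        (pullback.fst f (frob S p) ⁻¹ᵁ U ⊓ pullback.snd f (frob S p) ⁻¹ᵁ V) inf_le_left ≫
        (relFrob f p).app _ = (frob X p).appLE U (relFrob f p ⁻¹ᵁ
          (pullback.fst f (frob S p) ⁻¹ᵁ U ⊓ pullback.snd f (frob S p) ⁻¹ᵁ V))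
          (fun y hy => by
            have := hy.1
            change pullback.fst f (frob S p) (relFrob f p y) ∈ U at this
            rwa [← Scheme.Hom.comp_apply, relFrob_fst] at this) := by
      rw [Scheme.Hom.app_eq_appLE, Scheme.Hom.appLE_comp_appLE]
      exact appLE_congr_hom (relFrob_fst f p) _ _
    have h2 := congr($h1 b)
    rw [ConcreteCategory.comp_apply] at h2
    rw [h2]
    have key : ∀ (O : X.Opens) (hle : O ≤ frob X p ⁻¹ᵁ U),
        ((frob X p).appLE U O hle).hom b = (X.presheaf.map (homOfLE hle).op).hom b ^ p := by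
      intro O hle
      change (X.presheaf.map (homOfLE hle).op).hom ((frob X p).app U b) = _
      rw [frob_app]
      exact map_pow _ _ _
    erw [key]
    exact der_pow_p p f d _ _
  · intro a
    change d.app _ ((relFrob f p).app _ ((pullback.snd f (frob S p)).appLE V _ _ a)) = 0
    have h1 : (pullback.snd f (frob S p)).appLE V
        (pullback.fst f (frob S p) ⁻¹ᵁ U ⊓ pullback.snd f (frob S p) ⁻¹ᵁ V) inf_le_right ≫
        (relFrob f p).app _ = f.appLE V (relFrob f p ⁻¹ᵁ
          (pullback.fst f (frob S p) ⁻¹ᵁ U ⊓ pullback.snd f (frob S p) ⁻¹ᵁ V))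
          (fun y hy => by
            have := hy.2
            change pullback.snd f (frob S p) (relFrob f p y) ∈ V at this
            rwa [← Scheme.Hom.comp_apply, relFrob_snd] at this) := by
      rw [Scheme.Hom.app_eq_appLE, Scheme.Hom.appLE_comp_appLE]
      exact appLE_congr_hom (relFrob_snd f p) _ _
    have h2 := congr($h1 a)
    rw [ConcreteCategory.comp_apply] at h2
    rw [h2]
    exact der_appLE d _ a

/-- **a derivation over `S` kills all the functions pulled back along the relative Frobenius** -/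
theorem kills_relFrob (V' : (frobTwist f p).Opens) (c : Γ(frobTwist f p, V')) :
    Kills d (relFrob f p) V' c := by
  haveI : FrobSch.IsCharP X p := FrobSch.IsCharP.of_hom f p
  apply kills_of_locally
  intro x hx
  obtain ⟨_, ⟨V, hV, rfl⟩, hxV, -⟩ := S.isBasis_affineOpens.exists_subset_of_mem_open
    (Set.mem_univ (f x)) isOpen_univ
  obtain ⟨_, ⟨U, hU, rfl⟩, hxU, hUV⟩ := X.isBasis_affineOpens.exists_subset_of_mem_open
    (show x ∈ ((f ⁻¹ᵁ V : X.Opens) : Set X) from hxV) (f ⁻¹ᵁ V).2
  have e : U ≤ f ⁻¹ᵁ V := hUV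
  set U' : (frobTwist f p).Opens :=
    pullback.fst f (frob S p) ⁻¹ᵁ U ⊓ pullback.snd f (frob S p) ⁻¹ᵁ V with hU'def
  have hU' : IsAffineOpen U' := by
    haveI : IsAffine (V : Scheme) := hV
    haveI : IsAffine (U : Scheme) := hU
    exact .of_isIso (Scheme.Hom.isPullback_resLE (IsPullback.of_hasPullback f (frob S p))
      (show V ≤ frob S p ⁻¹ᵁ V from le_rfl) e rfl).isoPullback.hom
  have hxU' : relFrob f p x ∈ U' := by
    constructor
    · change pullback.fst f (frob S p) (relFrob f p x) ∈ U
      rw [← Scheme.Hom.comp_apply, relFrob_fst]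
      exact hxU
    · change pullback.snd f (frob S p) (relFrob f p x) ∈ V
      rw [← Scheme.Hom.comp_apply, relFrob_snd]
      exact hxV
  obtain ⟨h, hhle, hxh⟩ := hU'.exists_basicOpen_le (V := V' ⊓ U') ⟨relFrob f p x, ⟨hx, hxU'⟩⟩ hxU'
  have hle1 : (frobTwist f p).basicOpen h ≤ V' := hhle.trans inf_le_left
  have hle2 : (frobTwist f p).basicOpen h ≤ U' := (frobTwist f p).basicOpen_le h
  refine ⟨(frobTwist f p).basicOpen h, hle1, hxh, ?_⟩
  haveI := hU'.isLocalization_basicOpen h
  obtain ⟨⟨c₀, ⟨_, n, rfl⟩⟩, hs⟩ := IsLocalization.surj (Submonoid.powers h)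
    ((frobTwist f p).presheaf.map (homOfLE hle1).op c)
  simp only at hs
  have hk0 : ∀ t : Γ(frobTwist f p, U'),
      (frobTwist f p).presheaf.map (homOfLE hle2).op t ∈
        killsSubring d (relFrob f p) ((frobTwist f p).basicOpen h) := fun t =>
    kills_res d (relFrob f p) hle2 t (kills_chart p f d hU hV e t)
  have hu : IsUnit ((frobTwist f p).presheaf.map (homOfLE hle2).op (h ^ n)) := by
    rw [map_pow]
    exact (IsLocalization.Away.algebraMap_isUnit (S := Γ(frobTwist f p,
      (frobTwist f p).basicOpen h)) h).pow n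
  obtain ⟨v, hv⟩ := hu.exists_right_inv
  have hkv : v ∈ killsSubring d (relFrob f p) ((frobTwist f p).basicOpen h) :=
    kills_inv d (relFrob f p) _ _ v hv (hk0 (h ^ n))
  have hc : (frobTwist f p).presheaf.map (homOfLE hle1).op c =
      (frobTwist f p).presheaf.map (homOfLE hle2).op c₀ * v := by
    have hs' : (frobTwist f p).presheaf.map (homOfLE hle1).op c *
        (frobTwist f p).presheaf.map (homOfLE hle2).op (h ^ n) =
        (frobTwist f p).presheaf.map (homOfLE hle2).op c₀ := hs
    rw [← hs', mul_assoc, hv, mul_one]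
  rw [← mem_killsSubring, hc]
  exact mul_mem (hk0 c₀) hkv

/-- the universal derivation over `S` is a universal derivation over the Frobenius twist. -/
theorem exists_universal_der_relFrob (hd : IsUniversal d) :
    ∃ d' : Der (relFrob f p) Ω,
      (∀ (U : X.Opens) (s : Γ(X, U)), d'.app U s = d.app U s) ∧ IsUniversal d' := by
  have hw : f = relFrob f p ≫ pullback.snd f (frob S p) := (relFrob_snd f p).symm
  have hk : ∀ (V : (frobTwist f p).Opens) (t : Γ(frobTwist f p, V)),
      (castDer hw d).app (relFrob f p ⁻¹ᵁ V) ((relFrob f p).app V t) = 0 := by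
    intro V t
    rw [castDer_app]
    exact kills_relFrob p f d V t
  refine ⟨derOfKills (castDer hw d) hk, fun U s => ?_, ?_⟩
  · rw [derOfKills_app, castDer_app]
  · intro G D
    obtain ⟨α, hα, hα'⟩ := hd G (castDer hw.symm (ofComp (pullback.snd f (frob S p)) D))
    refine ⟨α, ?_, ?_⟩
    · apply der_ext
      intro U s
      have := congrArg (fun D' : Der f G => D'.app U s) hα
      simp only [postcomp_app, castDer_app, ofComp_app] at this
      rw [postcomp_app, derOfKills_app, castDer_app]
      exact this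
    · intro β hβ
      apply hα'
      apply der_ext
      intro U s
      have := congrArg (fun D' : Der (relFrob f p) G => D'.app U s) hβ
      simp only [postcomp_app, derOfKills_app, castDer_app] at this
      rw [postcomp_app, castDer_app, ofComp_app]
      exact this

end Frob

end Groth.Agent.Lead.FrobDer
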