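import Mathlib
import Groth.Agent.Lib.Lead.G1c

/-!
# Uniqueness of the nonsplit self-extension of `O` on a curve of genus one (lead)
-/

set_option autoImplicit false
set_option backward.isDefEq.respectTransparency.types false
set_option synthInstance.maxHeartbeats 400000
set_option linter.style.haveILetI false
set_option linter.unusedSectionVars false
set_option linter.unusedVariables false
universe u
open CategoryTheory CategoryTheory.Limits AlgebraicGeometry TopologicalSpace Opposite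

namespace Groth.Agent.Lead.G1

open Groth.Agent.Helper1.QcCech Groth.Agent.Helper1.SubSh Groth.Agent.Helper1.LGen
open Groth.Agent.Helper1.TmulLib Groth.Agent.Helper1 Groth.Agent.Helper1.TwForm
open Groth.Agent.Helper1.TensGen Groth.Agent.Lib.Helper4.TwExact Groth.Agent.Helper1.Dv
open Groth.Agent.Lib.Helper4 Groth.Agent.Helper1.CurveAmp Groth.Agent.Helper1.FinSupp
open Groth.Agent.Helper1.Euler Groth.Agent.Helper1.Curve Groth.Agent.Helper1.CurveLin
open Groth.Agent.Helper1.CurveDual Groth.Agent.Lead.HN Groth.Agent.Lead.VBL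
open Groth.Agent.Helper1.CurvePt Groth.Agent.Helper1.PtInv Groth.Agent.Helper1.ProjF
open Groth.Agent.Helper1.VBQ Groth.Agent.Lead.CV Groth.Agent.Lead.GG
open Groth.Agent.Helper1.PullSec Groth.Agent.Helper1.PullGen Groth.Agent.Helper1.PFrame
open Groth.Agent.Lead.IdM

section SplitCrit

variable (k : Type u) [Field k] (X : Scheme.{u}) [X.Over (Spec (CommRingCat.of k))]

include k in
/-- a short exact sequence with quotient `≅ O` splits if the connecting map kills the generator -/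
theorem isSplitEpi_of_delta_eq_zero {S : ShortComplex X.Modules} (hS : S.ShortExact)
    (e₃ : S.X₃ ≅ Coh.structureModule X)
    (h : HHFin2.deltaLin k hS 0 ((HH0.equiv X S.X₃).symm
      (e₃.inv.app ⊤ (show Γ(Coh.structureModule X, ⊤) from (1 : Γ(X, ⊤))))) = 0) :
    IsSplitEpi S.g := by
  obtain ⟨y, hy⟩ := HHFin2.exact_g_delta k hS 0 _ h
  let τ : Coh.structureModule X ⟶ S.X₂ := TwistAmple.homOfSec _ (HH0.equiv X S.X₂ y)
  have hτ : τ ≫ S.g = e₃.inv := by
    apply PFrame.hom_ext_one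
    have a1 : (τ ≫ S.g).app ⊤ (show Γ(Coh.structureModule X, ⊤) from (1 : Γ(X, ⊤))) =
        S.g.app ⊤ (τ.app ⊤ (show Γ(Coh.structureModule X, ⊤) from (1 : Γ(X, ⊤)))) := rfl
    rw [a1, PFrame.homOfSec_app_one]
    have a2 := equiv_HHlin k S.g y
    rw [← a2, hy]
    exact (HH0.equiv X S.X₃).apply_symm_apply _
  exact ⟨⟨⟨e₃.hom ≫ τ, by rw [Category.assoc, hτ, Iso.hom_inv_id]⟩⟩⟩

end SplitCrit

section Unique

variable (k : Type u) [Field k] [IsAlgClosed k] (X : Scheme.{u}) [X.Over (Spec (CommRingCat.of k))]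
  [IsIntegral X] [IsProper (X ↘ (Spec (CommRingCat.of k)))]

/-- on a curve of genus one, the quotient of a nonsplit extension of a degree zero invertible module
by `O` is trivial (no smoothness assumed) -/
theorem nonempty_iso_O_of_nonsplit' (hdim : topologicalKrullDim X = 1) (hg : Curv2.genus k X = 1)
    {S : ShortComplex X.Modules} (hS : S.ShortExact) (e₁ : S.X₁ ≅ Coh.structureModule X)
    (hQ : PicF.IsInvertible S.X₃) (hd : Curv2.deg k X S.X₃ 1 = 0) (hns : ¬ IsSplitEpi S.g) :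
    Nonempty (S.X₃ ≅ Coh.structureModule X) := by
  haveI := isNoetherian_of_proper k X
  have hO : PicF.IsInvertible (Coh.structureModule X) := GenLoc.isInvertible_O
  obtain ⟨L', hL', ⟨e⟩⟩ := InvInv2.exists_inverse hQ
  have hdL' := GenusOne.deg_of_inverse k X hdim hL' hQ e
  rw [hd, neg_zero] at hdL'
  have hL'c : Coh.IsCoh L' := InvQc.isCoh_of_isInvertible _ hL'
  have h1 : ¬ Subsingleton (Coh.HH X (CohB1.tensorMod S.X₁ L') 1) := fun h =>
    hns (isSplitEpi_of_h1 k X hS hQ hL' e h)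
  rw [not_subsingleton_iff_nontrivial] at h1
  have eU : CohB1.tensorMod (Coh.structureModule X) L' ≅ L' := asIso (lunit L')
  obtain ⟨eU', -⟩ : ∃ c : (TL L').obj (Coh.structureModule X) ≅ L', c = eU := ⟨_, rfl⟩
  have e2 : CohB1.tensorMod S.X₁ L' ≅ L' := (TL L').mapIso e₁ ≪≫ eU'
  haveI := h1
  have h1' : Nontrivial (Coh.HH X L' 1) := (HHFin1.HHequiv k e2 1).symm.toEquiv.nontrivial
  haveI : FiniteDimensional k (Coh.HH X L' 1) := T2Main1.t2 k X _ hL'c 1
  haveI : FiniteDimensional k (Coh.HH X L' 0) := T2Main1.t2 k X _ hL'c 0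
  have hpos1 : 0 < Module.finrank k (Coh.HH X L' 1) := Module.finrank_pos
  have e3 := deg_eq_h0_sub_h1 k X hdim hL'
  have hO0 := finrank_HH_zero_eq_one_of_isAlgClosed k X
  rw [hdL', hO0, hg] at e3
  have hpos0 : 0 < Module.finrank k (Coh.HH X L' 0) := by
    push_cast at e3
    omega
  obtain ⟨x, hx⟩ := (Module.finrank_pos_iff_exists_ne_zero (R := k)).1 hpos0
  have hσ : HH0.equiv X _ x ≠ 0 := fun h0 =>
    hx ((HH0.equiv X _).injective (h0.trans (map_zero _).symm))
  have ht := homOfSec_ne_zero _ _ hσ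
  set τ := TwistAmple.homOfSec L' (HH0.equiv X L' x) with hτ
  have heu : Curv2.euler k X L' ≤ Curv2.euler k X (Coh.structureModule X) := by
    unfold Curv2.deg at hdL'
    push_cast at hdL'
    linarith
  haveI : IsIso τ := GenusOne.isIso_of_euler_le k X hdim hO hL' τ ht heu
  have eV : CohB1.tensorMod (Coh.structureModule X) S.X₃ ≅ S.X₃ := asIso (lunit S.X₃)
  obtain ⟨eV', -⟩ : ∃ c : (TL S.X₃).obj (Coh.structureModule X) ≅ S.X₃, c = eV := ⟨_, rfl⟩
  obtain ⟨e', -⟩ : ∃ c : (TL S.X₃).obj L' ≅ Coh.structureModule X, c = e := ⟨_, rfl⟩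
  exact ⟨eV'.symm ≪≫ (TL S.X₃).mapIso (asIso τ) ≪≫ e'⟩

/-- two nonsplit extensions of `O` by `O` on a curve of genus one have isomorphic middle terms -/
theorem nonempty_iso_of_nonsplit (hdim : topologicalKrullDim X = 1) (hg : Curv2.genus k X = 1)
    {E E' : X.Modules} (s : Coh.structureModule X ⟶ E) [Mono s]
    (s' : Coh.structureModule X ⟶ E') [Mono s']
    (eL : cokernel s ≅ Coh.structureModule X) (eL' : cokernel s' ≅ Coh.structureModule X)
    (hns : ¬ IsSplitEpi (cokerSC s).g) (hns' : ¬ IsSplitEpi (cokerSC s').g) :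
    Nonempty (E ≅ E') := by
  haveI := isNoetherian_of_proper k X
  have hO : PicF.IsInvertible (Coh.structureModule X) := GenLoc.isInvertible_O
  have hOc : Coh.IsCoh (Coh.structureModule X) := InvQc.isCoh_of_isInvertible _ hO
  have hS := cokerSC_shortExact s
  have hS' := cokerSC_shortExact s'
  haveI : FiniteDimensional k (Coh.HH X (Coh.structureModule X) 1) := T2Main1.t2 k X _ hOc 1
  have hg' : Module.finrank k (Coh.HH X (Coh.structureModule X) 1) = 1 := hg
  -- Step 2: `H¹(s')` vanishes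
  obtain ⟨d', hd'⟩ : ∃ d' : Coh.HH X (Coh.structureModule X) 1,
      d' = HHFin2.deltaLin k hS' 0 ((HH0.equiv X (cokerSC s').X₃).symm
        (eL'.inv.app ⊤ (show Γ(Coh.structureModule X, ⊤) from (1 : Γ(X, ⊤))))) := ⟨_, rfl⟩
  have hd'0 : d' ≠ 0 := fun h =>
    hns' (isSplitEpi_of_delta_eq_zero k X hS' eL' (hd'.symm.trans h))
  have hfd : Canon.HHlin k s' 1 d' = 0 := by
    rw [hd']
    exact HHFin3.f_delta k hS' 0 _
  have hzero : ∀ w : Coh.HH X (Coh.structureModule X) 1, Canon.HHlin k s' 1 w = 0 := by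
    intro w
    obtain ⟨c, hc⟩ := (finrank_eq_one_iff_of_nonzero' d' hd'0).1 hg' w
    rw [← hc, LinearMap.map_smul, hfd, smul_zero]
  -- Step 3: the pushout
  have hpo : IsPushout s s' (pushout.inl s s') (pushout.inr s s') := IsPushout.of_hasPushout s s'
  haveI : Mono (pushout.inr s s') := Abelian.mono_pushout_of_mono_f s s'
  have hS'' := cokerSC_shortExact (pushout.inr s s')
  haveI hτiso : IsIso (cokernel.map s (pushout.inr s s') s' (pushout.inl s s') hpo.w) :=
    isIso_cokernel_map_of_isPushout hpo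
  set τ₃ := cokernel.map s (pushout.inr s s') s' (pushout.inl s s') hpo.w with hτ₃
  let Φ : cokerSC s ⟶ cokerSC (pushout.inr s s') :=
    { τ₁ := s'
      τ₂ := pushout.inl s s'
      τ₃ := τ₃
      comm₁₂ := hpo.w.symm
      comm₂₃ := (cokernel.π_desc _ _ _).symm }
  let e₃'' : cokernel (pushout.inr s s') ≅ Coh.structureModule X := (asIso τ₃).symm ≪≫ eL
  have hsplit : IsSplitEpi (cokerSC (pushout.inr s s')).g := by
    apply isSplitEpi_of_delta_eq_zero k X hS'' e₃''
    have h1 : (HH0.equiv X (cokerSC (pushout.inr s s')).X₃).symm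
        (e₃''.inv.app ⊤ (show Γ(Coh.structureModule X, ⊤) from (1 : Γ(X, ⊤)))) =
        Canon.HHlin k Φ.τ₃ 0 ((HH0.equiv X (cokerSC s).X₃).symm
          (eL.inv.app ⊤ (show Γ(Coh.structureModule X, ⊤) from (1 : Γ(X, ⊤))))) := by
      apply (HH0.equiv X (cokerSC (pushout.inr s s')).X₃).injective
      rw [equiv_HHlin, AddEquiv.apply_symm_apply, AddEquiv.apply_symm_apply]
      rfl
    have h2 := congrArg (fun z => HHFin2.deltaLin k hS'' 0 z) h1
    exact h2.trans ((FFSheaf1.delta_nat k hS hS'' Φ 0 _).trans (hzero _))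
  -- Step 4: the retraction
  obtain ⟨⟨⟨sec, hsec⟩⟩⟩ := hsplit
  let sp := ShortComplex.Splitting.ofExactOfSection _ hS''.exact sec hsec hS''.mono_f
  obtain ⟨r, hr0⟩ : ∃ r : pushout s s' ⟶ E', r = sp.r := ⟨_, rfl⟩
  have hr : pushout.inr s s' ≫ r = 𝟙 E' := by
    rw [hr0]
    exact sp.f_r
  -- Step 5
  set φ : E ⟶ E' := pushout.inl s s' ≫ r with hφ
  have hsφ : s ≫ φ = s' := by
    rw [hφ, ← Category.assoc, hpo.w, Category.assoc, hr, Category.comp_id]
  -- Step 6
  have hw : s ≫ φ = 𝟙 (Coh.structureModule X) ≫ s' := by rw [hsφ, Category.id_comp]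
  set ψ := cokernel.map s s' (𝟙 (Coh.structureModule X)) φ hw with hψ
  have hπψ : cokernel.π s ≫ ψ = φ ≫ cokernel.π s' := cokernel.π_desc _ _ _
  by_cases hψ0 : ψ = 0
  · exfalso
    have h1 : φ ≫ (cokerSC s').g = 0 := by
      change φ ≫ cokernel.π s' = 0
      rw [← hπψ, hψ0, comp_zero]
    haveI : Mono (cokerSC s').f := hS'.mono_f
    set ρ := hS'.exact.lift φ h1 with hρ
    have hρf : ρ ≫ s' = φ := hS'.exact.lift_f φ h1
    have h2 : (s ≫ ρ) ≫ s' = 𝟙 _ ≫ s' := by
      rw [Category.assoc, hρf, hsφ, Category.id_comp]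
    have h3 : (cokerSC s).f ≫ ρ = 𝟙 _ := (cancel_mono s').1 h2
    let sp2 := ShortComplex.Splitting.ofExactOfRetraction _ hS.exact ρ h3 hS.epi_g
    exact hns ⟨⟨⟨sp2.s, sp2.s_g⟩⟩⟩
  · have hL : PicF.IsInvertible (cokernel s) := TwistAmpleOpen.isInvertible_of_iso eL.symm hO
    have hL' : PicF.IsInvertible (cokernel s') := TwistAmpleOpen.isInvertible_of_iso eL'.symm hO
    have heu : Curv2.euler k X (cokernel s') ≤ Curv2.euler k X (cokernel s) := by
      rw [euler_iso k X eL, euler_iso k X eL']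
    haveI : IsIso ψ := GenusOne.isIso_of_euler_le k X hdim hL hL' ψ hψ0 heu
    let Ψ : cokerSC s ⟶ cokerSC s' :=
      { τ₁ := 𝟙 _
        τ₂ := φ
        τ₃ := ψ
        comm₁₂ := hw.symm
        comm₂₃ := hπψ.symm }
    haveI : IsIso Ψ.τ₁ := inferInstanceAs (IsIso (𝟙 (Coh.structureModule X)))
    haveI : IsIso Ψ.τ₃ := inferInstanceAs (IsIso ψ)
    have hiso : IsIso Ψ.τ₂ := ShortComplex.isIso₂_of_shortExact_of_isIso₁₃ Ψ hS hS'
    haveI : IsIso φ := hiso
    exact ⟨asIso φ⟩

end Unique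

section S12431

variable (k : Type u) [Field k] [IsAlgClosed k] (X : Scheme.{u}) [X.Over (Spec (CommRingCat.of k))]
  [IsIntegral X] [IsProper (X ↘ (Spec (CommRingCat.of k)))]

/-- a normalized indecomposable rank two bundle of degree zero on a curve of genus one is a nonsplit
self-extension of `O` -/
theorem exists_nonsplit_of_normalized_deg_zero (hdim : topologicalKrullDim X = 1)
    (hreg : ∀ x : X, IsRegularLocalRing (X.presheaf.stalk x)) (hg : Curv2.genus k X = 1)
    (E : X.Modules) (hE : FlatMod.IsFinLocFreeOfRank 2 E) (hn0 : Nontrivial (Coh.HH X E 0))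
    (hneg : ∀ M : X.Modules, PicF.IsInvertible M → Curv2.deg k X M 1 < 0 →
      Subsingleton (Coh.HH X (CohB1.tensorMod E M) 0))
    (hind : ∀ L₁ L₂ : X.Modules, PicF.IsInvertible L₁ → PicF.IsInvertible L₂ →
      IsEmpty (E ≅ L₁ ⊞ L₂))
    (hdeg : Curv2.deg k X E 2 = 0) :
    ∃ (s : Coh.structureModule X ⟶ E), Mono s ∧ Nonempty (cokernel s ≅ Coh.structureModule X) ∧
      ¬ IsSplitEpi (cokerSC s).g := by
  have hO : PicF.IsInvertible (Coh.structureModule X) := GenLoc.isInvertible_O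
  obtain ⟨s, hs, hm, hQ, hd⟩ := exists_section_of_normalized k X hdim hreg E hE hn0 hneg
  haveI := hm
  have hS := cokerSC_shortExact s
  have hns : ¬ IsSplitEpi (cokerSC s).g := by
    intro hsp
    obtain ⟨e'⟩ := nonempty_iso_biprod_of_isSplitEpi X hS hsp
    exact (hind _ _ hO hQ).false e'
  have hd0 : Curv2.deg k X (cokernel s) 1 = 0 := by rw [← hd, hdeg]
  exact ⟨s, hm, nonempty_iso_O_of_nonsplit' k X hdim hg hS (Iso.refl _) hQ hd0 hns, hns⟩

/-- S12431: the normalized indecomposable rank two bundle of degree zero on a curve of genus one is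
unique -/
theorem normalized_indec_deg_zero_unique (hdim : topologicalKrullDim X = 1)
    (hreg : ∀ x : X, IsRegularLocalRing (X.presheaf.stalk x)) (hg : Curv2.genus k X = 1)
    (E : X.Modules) (hE : FlatMod.IsFinLocFreeOfRank 2 E) (hn0 : Nontrivial (Coh.HH X E 0))
    (hneg : ∀ M : X.Modules, PicF.IsInvertible M → Curv2.deg k X M 1 < 0 →
      Subsingleton (Coh.HH X (CohB1.tensorMod E M) 0))
    (hind : ∀ L₁ L₂ : X.Modules, PicF.IsInvertible L₁ → PicF.IsInvertible L₂ →
      IsEmpty (E ≅ L₁ ⊞ L₂))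
    (hdeg : Curv2.deg k X E 2 = 0)
    (E' : X.Modules) (hE' : FlatMod.IsFinLocFreeOfRank 2 E') (hn0' : Nontrivial (Coh.HH X E' 0))
    (hneg' : ∀ M : X.Modules, PicF.IsInvertible M → Curv2.deg k X M 1 < 0 →
      Subsingleton (Coh.HH X (CohB1.tensorMod E' M) 0))
    (hind' : ∀ L₁ L₂ : X.Modules, PicF.IsInvertible L₁ → PicF.IsInvertible L₂ →
      IsEmpty (E' ≅ L₁ ⊞ L₂))
    (hdeg' : Curv2.deg k X E' 2 = 0) : Nonempty (E ≅ E') := by
  obtain ⟨s, hm, ⟨eL⟩, hns⟩ :=
    exists_nonsplit_of_normalized_deg_zero k X hdim hreg hg E hE hn0 hneg hind hdeg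
  obtain ⟨s', hm', ⟨eL'⟩, hns'⟩ :=
    exists_nonsplit_of_normalized_deg_zero k X hdim hreg hg E' hE' hn0' hneg' hind' hdeg'
  haveI := hm
  haveI := hm'
  exact nonempty_iso_of_nonsplit k X hdim hg s s' eL eL' hns hns'

end S12431

end Groth.Agent.Lead.G1
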