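import Mathlib
import Groth.Prelude
import Groth.Agent.Lib.Lead.GBr5

/-!
# Geometric branches and extension of the ground field: schemes
-/

set_option autoImplicit false
set_option backward.isDefEq.respectTransparency.types false
set_option synthInstance.maxHeartbeats 400000
set_option linter.style.haveILetI false
set_option linter.unusedSectionVars false
set_option linter.unusedVariables false

universe u

open AlgebraicGeometry CategoryTheory Limits TensorProduct IsLocalRing

namespace Groth.Agent.Lead.GBr

open Groth.Agent.Lead.GUnib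

/-- The number of geometric branches is invariant under open immersions. -/
theorem numGeomBranchesAt_of_isOpenImmersion {U X : Scheme.{u}} (j : U ⟶ X) [IsOpenImmersion j]
    (u : U) : Brnch.numGeomBranchesAt U u = Brnch.numGeomBranchesAt X (j u) := by
  apply le_antisymm
  · rw [S9753_main U u]
    refine iSup_le fun V => iSup_le fun g => iSup_le fun v => iSup_le fun hv => ?_
    obtain ⟨het, hv⟩ := hv
    haveI := het
    rw [S9753_main X (j u)]
    refine le_iSup₂_of_le V (g ≫ j) (le_iSup₂_of_le v ⟨inferInstance, ?_⟩ le_rfl)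
    rw [Scheme.Hom.comp_apply, hv]
  · exact numGeomBranchesAt_le_of_flat j u

section Main

variable (k : Type u) [Field k] (X : Scheme.{u}) (s : X ⟶ Spec (CommRingCat.of k))
  (K : Type u) [Field K] [Algebra k K]

theorem numGeomBranchesAt_pullback_field
    (y : ↥(pullback s (Spec.map (CommRingCat.ofHom (algebraMap k K))))) :
    Brnch.numGeomBranchesAt X ((pullback.fst s (Spec.map (CommRingCat.ofHom (algebraMap k K)))) y) =
      Brnch.numGeomBranchesAt (pullback s (Spec.map (CommRingCat.ofHom (algebraMap k K)))) y := by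
  let g : Spec (CommRingCat.of K) ⟶ Spec (CommRingCat.of k) :=
    Spec.map (CommRingCat.ofHom (algebraMap k K))
  let x : X := (pullback.fst s g) y
  obtain ⟨_, ⟨W, hW, rfl⟩, hxW, -⟩ :=
    X.isBasis_affineOpens.exists_subset_of_mem_open (Set.mem_univ x) isOpen_univ
  let R := Γ(X, W)
  obtain ⟨ψ, hψ⟩ := Spec.map_surjective (hW.fromSpec ≫ s)
  letI : Algebra k R := ψ.hom.toAlgebra
  have hψ' : Spec.map (CommRingCat.ofHom (algebraMap k R)) = hW.fromSpec ≫ s := hψ
  -- the tensor square
  have hpush := CommRingCat.isPushout_tensorProduct k R K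
  have houter := (isPullback_SpecMap_of_isPushout _ _ _ _ hpush).flip
  rw [hψ'] at houter
  have hright : IsPullback (pullback.snd s g) (pullback.fst s g) g s :=
    (IsPullback.of_hasPullback s g).flip
  have hleft := IsPullback.of_right' houter hright
  set ι' := hright.lift (Spec.map (CommRingCat.ofHom (S := R ⊗[k] K)
    (Algebra.TensorProduct.includeRight.toRingHom)))
    (Spec.map (CommRingCat.ofHom (S := R ⊗[k] K) Algebra.TensorProduct.includeLeftRingHom) ≫
      hW.fromSpec) (by rw [houter.w, Category.assoc]) with hι'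
  haveI : IsOpenImmersion ι' :=
    MorphismProperty.of_isPullback (P := @IsOpenImmersion) hleft.flip inferInstance
  -- the point
  have hxa : hW.fromSpec (hW.primeIdealOf ⟨x, hxW⟩) = (pullback.fst s g) y :=
    hW.fromSpec_primeIdealOf ⟨x, hxW⟩
  obtain ⟨z, hz1, hz2⟩ := Scheme.Pullback.exists_preimage_pullback (f := pullback.fst s g)
    (g := hW.fromSpec) y (hW.primeIdealOf ⟨x, hxW⟩) hxa.symm
  let q : Spec (CommRingCat.of (R ⊗[k] K)) := hleft.isoPullback.inv z
  have hq : ι' q = y := by
    have h1 : hleft.isoPullback.inv ≫ ι' = pullback.fst _ _ := hleft.isoPullback_inv_fst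
    have h2 := congrArg (fun f => f z) h1
    simp only [Scheme.Hom.comp_apply] at h2
    rw [← hz1]
    exact h2
  let pt : Spec (CommRingCat.of R) :=
    (Spec.map (CommRingCat.ofHom (S := R ⊗[k] K) Algebra.TensorProduct.includeLeftRingHom)) q
  have hpt : hW.fromSpec pt = (pullback.fst s g) y := by
    have h1 := hleft.w
    have h2 := congrArg (fun f => f q) h1
    simp only [Scheme.Hom.comp_apply] at h2
    rw [hq] at h2
    exact h2.symm
  rw [← hq, ← numGeomBranchesAt_of_isOpenImmersion ι' q, hq, ← hpt,
    ← numGeomBranchesAt_of_isOpenImmersion hW.fromSpec pt]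
  -- ring level
  haveI hqp : q.asIdeal.IsPrime := q.isPrime
  haveI hptp : pt.asIdeal.IsPrime := pt.isPrime
  obtain ⟨Ash, _, _, _, _, hAsh⟩ :=
    Groth.Agent.Helper7.SHens.exists_isStrictHenselization (Localization.AtPrime pt.asIdeal)
  obtain ⟨Bsh, _, _, _, _, hBsh⟩ :=
    Groth.Agent.Helper7.SHens.exists_isStrictHenselization (Localization.AtPrime q.asIdeal)
  have key := encard_minimalPrimes_strictHenselization_tensor_field k K R pt.asIdeal q.asIdeal rfl
    Ash Bsh
  rw [encard_minimalPrimes_eq_numGeomBranchesAt_spec R pt.asIdeal Ash,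
    encard_minimalPrimes_eq_numGeomBranchesAt_spec (R ⊗[k] K) q.asIdeal Bsh] at key
  exact key

end Main

end Groth.Agent.Lead.GBr
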