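import Mathlib
import Groth.Prelude
import Groth.Agent.Lib.Lead.GUnib22
import Groth.Agent.Lib.Helper7.SHensTensor

/-!
# Étale-universally prime elements
-/

set_option autoImplicit false
set_option backward.isDefEq.respectTransparency.types false
set_option synthInstance.maxHeartbeats 400000
set_option linter.style.haveILetI false
set_option linter.unusedSectionVars false

universe u

open AlgebraicGeometry CategoryTheory Limits TensorProduct IsLocalRing

namespace Groth.Agent.Lead.GUnib

section Fwd

variable (R : Type u) [CommRing R] (Δ : R)
  (R' : Type u) [CommRing R'] [Algebra R R'] [Algebra.Smooth R R'] (q : Ideal R') [hq : q.IsPrime]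
  (T : Type u) [CommRing T] [IsLocalRing T] [Algebra (Localization.AtPrime q) T]
  [IsLocalHom (algebraMap (Localization.AtPrime q) T)]
  [hT : Hensel.IsStrictHenselization (Localization.AtPrime q) T]

include hT in
theorem prime_of_prime_base
    (hΔ : Δ ∈ q.comap (algebraMap R R'))
    (A' : Type u) [CommRing A'] [IsLocalRing A']
    [Algebra (Localization.AtPrime (q.comap (algebraMap R R'))) A']
    [IsLocalHom (algebraMap (Localization.AtPrime (q.comap (algebraMap R R'))) A')]
    [hA' : Hensel.IsStrictHenselization (Localization.AtPrime (q.comap (algebraMap R R'))) A']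
    (hprime : Prime (algebraMap (Localization.AtPrime (q.comap (algebraMap R R'))) A'
      (algebraMap R (Localization.AtPrime (q.comap (algebraMap R R'))) Δ))) :
    Prime (algebraMap (Localization.AtPrime q) T
      (algebraMap R' (Localization.AtPrime q) (algebraMap R R' Δ))) := by
  classical
  let p := q.comap (algebraMap R R')
  haveI : q.LiesOver p := ⟨rfl⟩
  haveI hhA' : HenselianLocalRing A' := hA'.henselian
  haveI hhT : HenselianLocalRing T := hT.henselian
  haveI : IsSepClosed (ResidueField A') := hA'.isSepClosure.sep_closed
  haveI : IsSepClosed (ResidueField T) := hT.isSepClosure.sep_closed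
  -- algebra structures
  letI : Algebra R A' := ((algebraMap (Localization.AtPrime p) A').comp
    (algebraMap R (Localization.AtPrime p))).toAlgebra
  haveI : IsScalarTower R (Localization.AtPrime p) A' := IsScalarTower.of_algebraMap_eq' rfl
  letI : Algebra R' T := ((algebraMap (Localization.AtPrime q) T).comp
    (algebraMap R' (Localization.AtPrime q))).toAlgebra
  haveI : IsScalarTower R' (Localization.AtPrime q) T := IsScalarTower.of_algebraMap_eq' rfl
  letI : Algebra R T := ((algebraMap R' T).comp (algebraMap R R')).toAlgebra
  haveI : IsScalarTower R R' T := IsScalarTower.of_algebraMap_eq' rfl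
  let f : Localization.AtPrime p →+* T := (algebraMap (Localization.AtPrime q) T).comp
    (Localization.localRingHom p q (algebraMap R R') rfl)
  haveI : IsLocalHom (Localization.localRingHom p q (algebraMap R R') rfl) :=
    Localization.isLocalHom_localRingHom p q (algebraMap R R') rfl
  letI : Algebra (Localization.AtPrime p) T := f.toAlgebra
  haveI : IsLocalHom (algebraMap (Localization.AtPrime p) T) :=
    RingHom.isLocalHom_comp (algebraMap (Localization.AtPrime q) T)
      (Localization.localRingHom p q (algebraMap R R') rfl)
  haveI : IsScalarTower R (Localization.AtPrime p) T := by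
    apply IsScalarTower.of_algebraMap_eq
    intro r
    show algebraMap (Localization.AtPrime q) T (algebraMap R' _ (algebraMap R R' r)) =
      algebraMap (Localization.AtPrime q) T
        (Localization.localRingHom p q (algebraMap R R') rfl (algebraMap R _ r))
    rw [Localization.localRingHom_to_map]
  haveI : Algebra.IsSeparable (ResidueField (Localization.AtPrime p)) (ResidueField A') :=
    hA'.isSepClosure.separable
  let τ : ResidueField A' →ₐ[ResidueField (Localization.AtPrime p)] ResidueField T :=
    IsSepClosed.lift
  have hτ : (τ : ResidueField A' →+* ResidueField T).comp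
      (ResidueField.map (algebraMap (Localization.AtPrime p) A')) =
      ResidueField.map (algebraMap (Localization.AtPrime p) T) := by
    rw [Groth.Agent.Helper7.SHens.residueField_map_algebraMap,
      Groth.Agent.Helper7.SHens.residueField_map_algebraMap]
    exact RingHom.ext (fun x => τ.commutes x)
  obtain ⟨h, ⟨hh1, -⟩, -⟩ := hA'.universal T (algebraMap (Localization.AtPrime p) T) _ hτ
  letI : Algebra A' T := h.toAlgebra
  haveI : IsScalarTower (Localization.AtPrime p) A' T :=
    IsScalarTower.of_algebraMap_eq (fun a => (RingHom.congr_fun hh1 a).symm)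
  haveI : IsScalarTower R A' T := by
    apply IsScalarTower.of_algebraMap_eq
    intro r
    rw [IsScalarTower.algebraMap_apply R (Localization.AtPrime p) T,
      IsScalarTower.algebraMap_apply (Localization.AtPrime p) A' T,
      ← IsScalarTower.algebraMap_apply R (Localization.AtPrime p) A']
  haveI hlocAT : IsLocalHom (algebraMap A' T) :=
    Groth.Agent.Helper7.SHensTensor.isLocalHom_algebraMap_Rh R R' p q A' T
  let Φ : A' ⊗[R] R' →ₐ[R] T := Algebra.TensorProduct.lift (IsScalarTower.toAlgHom R A' T)
    (IsScalarTower.toAlgHom R R' T) (fun _ _ => Commute.all _ _)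
  let q' : Ideal (A' ⊗[R] R') := Ideal.comap Φ (maximalIdeal T)
  haveI : q'.IsPrime := Ideal.IsPrime.comap _
  obtain ⟨E, _, _, _, _, hE⟩ :=
    Groth.Agent.Helper7.SHens.exists_isStrictHenselization (Localization.AtPrime q')
  haveI := hE
  obtain ⟨e, he⟩ := Groth.Agent.Helper7.SHensTensor.S9460_main R R' p q A' T E
  have hΦl : ∀ a : A', Φ (algebraMap A' (A' ⊗[R] R') a) = algebraMap A' T a := by
    intro a
    show Φ (a ⊗ₜ[R] (1 : R')) = _
    rw [Algebra.TensorProduct.lift_tmul]
    simp
  have hq' : (maximalIdeal A').map (algebraMap A' (A' ⊗[R] R')) ≤ q' := by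
    rw [Ideal.map_le_iff_le_comap]
    intro a ha
    show Φ (algebraMap A' (A' ⊗[R] R') a) ∈ maximalIdeal T
    rw [hΦl]
    exact (IsLocalRing.maximalIdeal_comap (algebraMap A' T)).ge ha
  have key := S17730_main A' (A' ⊗[R] R') E q' hq' _ hprime
  have key2 := (MulEquiv.prime_iff e.toMulEquiv).mpr key
  have h3 : e.toMulEquiv (algebraMap (Localization.AtPrime q') E
      (algebraMap (A' ⊗[R] R') (Localization.AtPrime q')
        (algebraMap A' (A' ⊗[R] R') (algebraMap (Localization.AtPrime p) A'
          (algebraMap R (Localization.AtPrime p) Δ))))) =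
      algebraMap (Localization.AtPrime q) T
        (algebraMap R' (Localization.AtPrime q) (algebraMap R R' Δ)) := by
    show e _ = _
    rw [he, hΦl, ← IsScalarTower.algebraMap_apply R (Localization.AtPrime p) A',
      ← IsScalarTower.algebraMap_apply R A' T]
    rfl
  rw [h3] at key2
  exact key2

end Fwd

theorem S13202_main (R : Type u) [CommRing R] (Δ : R) :
    (∀ (p : Ideal R) [p.IsPrime], Δ ∈ p →
        ∀ (T : Type u) [CommRing T] [IsLocalRing T] [Algebra (Localization.AtPrime p) T]
          [IsLocalHom (algebraMap (Localization.AtPrime p) T)]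
          [Hensel.IsStrictHenselization (Localization.AtPrime p) T],
          Prime (algebraMap (Localization.AtPrime p) T
            (algebraMap R (Localization.AtPrime p) Δ))) ↔
    (∀ (R' : Type u) [CommRing R'] [Algebra R R'] [Algebra.Smooth R R'] (q : Ideal R')
        [q.IsPrime] (T : Type u) [CommRing T] [IsLocalRing T] [Algebra (Localization.AtPrime q) T]
          [IsLocalHom (algebraMap (Localization.AtPrime q) T)]
          [Hensel.IsStrictHenselization (Localization.AtPrime q) T],
        IsUnit (algebraMap (Localization.AtPrime q) T
          (algebraMap R' (Localization.AtPrime q) (algebraMap R R' Δ))) ∨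
          Prime (algebraMap (Localization.AtPrime q) T
            (algebraMap R' (Localization.AtPrime q) (algebraMap R R' Δ)))) := by
  constructor
  · intro hA R' _ _ _ q _ T _ _ _ _ _
    by_cases hΔ : Δ ∈ q.comap (algebraMap R R')
    · right
      obtain ⟨A', _, _, _, _, hA'⟩ := Groth.Agent.Helper7.SHens.exists_isStrictHenselization
        (Localization.AtPrime (q.comap (algebraMap R R')))
      haveI := hA'
      exact prime_of_prime_base R Δ R' q T hΔ A' (hA (q.comap (algebraMap R R')) hΔ A')
    · left
      have h1 : algebraMap R R' Δ ∈ q.primeCompl := hΔ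
      exact (IsLocalization.map_units (Localization.AtPrime q) ⟨_, h1⟩).map _
  · intro hB p _ hΔ T _ _ _ _ _
    rcases hB R p T with h | h
    · exfalso
      have h1 : algebraMap R (Localization.AtPrime p) Δ ∈
          maximalIdeal (Localization.AtPrime p) := by
        have hu : (maximalIdeal (Localization.AtPrime p)).comap
            (algebraMap R (Localization.AtPrime p)) = p :=
          IsLocalization.AtPrime.under_maximalIdeal (Localization.AtPrime p) p
        rw [← Ideal.mem_comap, hu]
        exact hΔ
      have h2 : algebraMap (Localization.AtPrime p) T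
          (algebraMap R (Localization.AtPrime p) Δ) ∈ maximalIdeal T :=
        (IsLocalRing.maximalIdeal_comap (algebraMap (Localization.AtPrime p) T)).ge h1
      exact (IsLocalRing.mem_maximalIdeal _).mp h2 h
    · exact h

end Groth.Agent.Lead.GUnib
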