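import Mathlib
import Groth.Prelude.Def_AlgSp3
import Groth.Agent.Lib.Lead.HFibE
import Groth.Agent.Lib.Helper2.AlgSp.FreeAct
import Groth.Agent.Lib.Helper2.AlgSp.QuotEff
import Groth.Agent.Lib.Helper2.AlgSp.EtEqvQuot

/-!
# Field points of the quotient by a free group action (lead)
-/

set_option backward.isDefEq.respectTransparency.types false
set_option autoImplicit false
set_option synthInstance.maxHeartbeats 400000
set_option maxHeartbeats 1000000
set_option linter.style.haveILetI false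
set_option linter.unusedSectionVars false
set_option linter.unusedSimpArgs false

open CategoryTheory CategoryTheory.Limits AlgebraicGeometry Opposite AlgSp
open Groth.Agent.Helper2 Groth.Agent.Helper2.AlgSpBasic Groth.Agent.Helper2.Coprod

namespace Groth.Agent.Lead.GalQuot
universe u
variable {S : Scheme.{u}}

/-- A morphism from a one-point scheme to a disjoint union factors through a summand. -/
theorem exists_factor_sigmaOver {ι : Type u} (V : ι → Over S) {T : Over S}
    [Subsingleton T.left] [Nonempty T.left] (r : T ⟶ sigmaOver V) :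
    ∃ (i : ι) (x : T ⟶ V i), x ≫ sigmaOverι V i = r := by
  let pt : T.left := Classical.arbitrary _
  obtain ⟨⟨i, y⟩, hy⟩ := (sigmaMk (fun i => (V i).left)).surjective (r.left pt)
  rw [sigmaMk_mk] at hy
  have hrange : Set.range r.left ⊆ Set.range (Sigma.ι (fun i => (V i).left) i) := by
    rintro _ ⟨z, rfl⟩
    rw [Subsingleton.elim z pt, ← hy]
    exact ⟨y, rfl⟩
  let l : T.left ⟶ (V i).left := IsOpenImmersion.lift (Sigma.ι (fun i => (V i).left) i) r.left hrange
  have hl : l ≫ Sigma.ι (fun i => (V i).left) i = r.left := IsOpenImmersion.lift_fac _ _ _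
  refine ⟨i, Over.homMk l ?_, ?_⟩
  · have h1 : Sigma.ι (fun i => (V i).left) i ≫ (sigmaOver V).hom = (V i).hom := by
      simp [sigmaOver]
    rw [← h1, ← Category.assoc, hl]
    exact Over.w r
  · ext
    exact hl


section Main

variable {U : Over S} {G : Type u} [Group G] (ρ : G →* Aut U)
  (hfree : ∀ (g : G) (x : U.left), g ≠ 1 →
    U.left.fromSpecResidueField x ≫ (ρ g).hom.left ≠ U.left.fromSpecResidueField x)
  (c : Cofan (fun _ : G => U)) (hc : IsColimit c) (s t : c.pt ⟶ U)
  (hs : ∀ g, c.inj g ≫ s = 𝟙 U) (ht : ∀ g, c.inj g ≫ t = (ρ g).hom)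

include hc in
theorem exists_factor_inj {T : Over S} [Subsingleton T.left] [Nonempty T.left] (r : T ⟶ c.pt) :
    ∃ (g : G) (x : T ⟶ U), x ≫ c.inj g = r := by
  let e : sigmaOver (fun _ : G => U) ≅ c.pt :=
    (FreeAct.isColimitSigmaOver (fun _ : G => U)).coconePointUniqueUpToIso hc
  have he : ∀ i, sigmaOverι (fun _ : G => U) i ≫ e.hom = c.inj i := fun i =>
    (FreeAct.isColimitSigmaOver (fun _ : G => U)).comp_coconePointUniqueUpToIso_hom hc ⟨i⟩
  obtain ⟨g, x, hx⟩ := exists_factor_sigmaOver (fun _ : G => U) (r ≫ e.inv)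
  refine ⟨g, x, ?_⟩
  rw [← he, ← Category.assoc, hx, Category.assoc, Iso.inv_hom_id, Category.comp_id]

variable {k : Type u} [Field k] (str : Spec (CommRingCat.of k) ⟶ S)

instance (K : Type u) [Field K] [Algebra k K] : Subsingleton (HFib.spK str K).left :=
  inferInstanceAs (Subsingleton (PrimeSpectrum K))

instance (K : Type u) [Field K] [Algebra k K] : Nonempty (HFib.spK str K).left :=
  inferInstanceAs (Nonempty (PrimeSpectrum K))

include hfree hc hs ht in
theorem main (ξ : (yon S).obj (Over.mk str) ⟶ QuotSh.quot Scheme.fppfPrecoverage s t) :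
    ∃ (k' : Type u) (_ : Field k') (_ : Algebra k k') (_ : FiniteDimensional k k')
      (_ : IsGalois k k') (H : Subgroup G) (_ : Finite H) (e : H ≃* (k' ≃ₐ[k] k'))
      (x' : Over.mk (Spec.map (CommRingCat.ofHom (algebraMap k k')) ≫ str) ⟶ U),
      (∀ h : H, Spec.map (CommRingCat.ofHom (e h).symm.toRingEquiv.toRingHom) ≫ x'.left =
        x'.left ≫ (ρ (h : G)).hom.left) ∧
      (yon S).map x' ≫ (QuotSh.repIsoUliftYoneda Scheme.fppfPrecoverage U).inv ≫
          QuotSh.quotπ Scheme.fppfPrecoverage s t =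
        (yon S).map (Over.homMk (Spec.map (CommRingCat.ofHom (algebraMap k k'))) :
          Over.mk (Spec.map (CommRingCat.ofHom (algebraMap k k')) ≫ str) ⟶ Over.mk str) ≫ ξ := by
  classical
  have hrel : IsEtaleEqvRel s t := FreeAct.isEtaleEqvRel_of_free ρ hfree c hc s t hs ht
  have hY := AlgSpDesc.isAlgSpace_quot s t hrel
  have pres := QuotEff.isPresentation_qπ s t hrel hY
  obtain ⟨P, hfaith⟩ :=
    HFib.exists_faithful_galPt str hY ξ (QuotEff.qπ s t) pres.etale pres.surjective
  have key : ∀ σ : P.K ≃ₐ[k] P.K, ∃ g : G, HFib.phi str σ ≫ P.u = P.u ≫ (ρ g).hom := by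
    intro σ
    have h1 : (yon S).map (HFib.phi str σ ≫ P.u) ≫ QuotEff.qπ s t =
        (yon S).map P.u ≫ QuotEff.qπ s t := by
      rw [Functor.map_comp, Category.assoc, P.compat, ← Category.assoc, ← Functor.map_comp,
        HFib.phi_piK]
    obtain ⟨r, hr1, hr2⟩ := QuotEff.rel_of_qπ_eq s t hrel.toIsEqvRel _ _ h1
    obtain ⟨g, x, hx⟩ := exists_factor_inj c hc r
    refine ⟨g, ?_⟩
    have hxu : x = P.u := by rw [← hr2, ← hx, Category.assoc, hs, Category.comp_id]
    rw [← hr1, ← hx, Category.assoc, ht, hxu]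
  choose γ hγ using key
  let pt : (HFib.spK str P.K).left := Classical.arbitrary _
  have huniq : ∀ (σ : P.K ≃ₐ[k] P.K) (g : G), HFib.phi str σ ≫ P.u = P.u ≫ (ρ g).hom →
      γ σ = g := by
    intro σ g hg
    exact FreeAct.eq_of_act_eq ρ hfree _ _ pt P.u ((hγ σ).symm.trans hg)
  have hγmul : ∀ σ τ : P.K ≃ₐ[k] P.K, γ (σ * τ) = γ τ * γ σ := by
    intro σ τ
    apply huniq
    rw [HFib.phi_mul, Category.assoc, hγ τ, ← Category.assoc, hγ σ, Category.assoc,
      ← FreeAct.act_mul]
  have hγone : γ 1 = 1 := by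
    apply huniq
    rw [HFib.phi_one, Category.id_comp, FreeAct.act_one, Category.comp_id]
  have hcancel : ∀ a b : P.K ≃ₐ[k] P.K, HFib.phi str a ≫ P.u = HFib.phi str b ≫ P.u → a = b := by
    intro a b hab
    have h1 : HFib.phi str (b⁻¹ * a) ≫ P.u = P.u := by
      rw [HFib.phi_mul, Category.assoc, hab, ← Category.assoc, ← HFib.phi_mul, inv_mul_cancel,
        HFib.phi_one, Category.id_comp]
    have h2 : b⁻¹ * a = 1 := by
      apply hfaith
      intro g
      rw [HFib.phi_mul, Category.assoc, hγ g, ← Category.assoc, h1]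
    calc a = b * (b⁻¹ * a) := by group
      _ = b := by rw [h2, mul_one]
  let ψ : (P.K ≃ₐ[k] P.K) →* G :=
    { toFun := fun σ => γ σ⁻¹
      map_one' := by rw [inv_one, hγone]
      map_mul' := fun σ τ => by rw [mul_inv_rev, hγmul] }
  have hinj : Function.Injective ψ := by
    intro σ τ h
    have h1 : γ σ⁻¹ = γ τ⁻¹ := h
    have h2 : HFib.phi str σ⁻¹ ≫ P.u = HFib.phi str τ⁻¹ ≫ P.u := by
      rw [hγ, hγ, h1]
    exact inv_injective (hcancel _ _ h2)
  let e0 : (P.K ≃ₐ[k] P.K) ≃* ψ.range := MonoidHom.ofInjective hinj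
  haveI : Finite (P.K ≃ₐ[k] P.K) := inferInstance
  haveI : Finite ψ.range := Finite.of_equiv _ e0.toEquiv
  refine ⟨P.K, P.field, P.alg, P.fin, P.gal, ψ.range, inferInstance, e0.symm, P.u, ?_, P.compat⟩
  intro h
  have h1 : ((e0 (e0.symm h) : ψ.range) : G) = γ (e0.symm h)⁻¹ := rfl
  rw [MulEquiv.apply_symm_apply] at h1
  have h2 := congrArg (fun m => m.left) (hγ (e0.symm h)⁻¹)
  rw [← h1] at h2
  exact h2

end Main

end Groth.Agent.Lead.GalQuot
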