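import Mathlib
import Groth.Prelude
import Groth.Agent.Lib.Helper7.GeomConn.SteinField
import Groth.Agent.Lib.Lead.DOmZ1

set_option autoImplicit false
set_option backward.isDefEq.respectTransparency.types false
set_option synthInstance.maxHeartbeats 400000
set_option linter.style.haveILetI false
set_option linter.unusedSectionVars false

universe u

open CategoryTheory CategoryTheory.Limits AlgebraicGeometry TopologicalSpace Opposite TensorProduct

namespace Groth.Agent.Lead.GlobVar

open Groth.Agent.Helper7.GeomConn Groth.Agent.Lead.DOmZ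

theorem S7615_gen (k : Type u) [Field k] (X : Scheme.{u}) (f : X ⟶ Spec (CommRingCat.of k))
    [IsIntegral X] [IsProper f] :
    letI := (toΓ k X f).toAlgebra
    IsField ↑Γ(X, ⊤) ∧ Module.Finite k ↑Γ(X, ⊤) ∧
      (GeometricallyReduced f → Algebra.IsSeparable k ↑Γ(X, ⊤)) ∧
      (GeometricallyIrreducible f → IsPurelyInseparable k ↑Γ(X, ⊤)) := by
  letI a1 : Algebra k Γ(X, ⊤) := (toΓ k X f).toAlgebra
  haveI hfin : Module.Finite k Γ(X, ⊤) := finite_globalSections k X f
  have hfield : IsField Γ(X, ⊤) := isField_of_universallyClosed k f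
  let K := AlgebraicClosure k
  let i : Spec (CommRingCat.of K) ⟶ Spec (CommRingCat.of k) :=
    Spec.map (CommRingCat.ofHom (algebraMap k K))
  obtain ⟨e⟩ := exists_algEquiv_baseChange k X f K
  refine ⟨hfield, hfin, ?_, ?_⟩
  · intro hgr
    haveI hred : IsReduced (pullback f i) :=
      GeometricallyReduced.geometrically_isReduced (f := f) (K := K) i (pullback.fst f i)
        (pullback.snd f i) (IsPullback.of_hasPullback f i)
    have hredT : IsReduced (K ⊗[k] Γ(X, ⊤)) := isReduced_of_injective e.toRingHom e.injective
    refine ⟨fun s => ?_⟩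
    exact separable_minpoly_of_isReduced_tensor (K := K) hredT s (Algebra.IsIntegral.isIntegral s)
  · intro hgi
    letI : Field Γ(X, ⊤) := hfield.toField
    haveI hirr : IrreducibleSpace ↥(pullback f i) :=
      hgi.geometrically_irreducibleSpace (K := K) i (pullback.fst f i)
        (pullback.snd f i) (IsPullback.of_hasPullback f i)
    have hidemK : ∀ e' : K ⊗[k] Γ(X, ⊤), IsIdempotentElem e' → e' = 0 ∨ e' = 1 := by
      intro e' he'
      have he'' : IsIdempotentElem (e e') := by
        show e e' * e e' = e e'
        rw [← map_mul, he'.eq]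
      rcases idempotent_trivial_of_connected _ (e e') he'' with h | h
      · left; exact e.injective (by rw [h, map_zero])
      · right; exact e.injective (by rw [h, map_one])
    haveI h1 := isPurelyInseparable_residueField_of_idem k Γ(X, ⊤) K hidemK
    -- transfer along `Γ ≃ ResidueField Γ`
    have hbij : Function.Bijective (algebraMap Γ(X, ⊤) (IsLocalRing.ResidueField Γ(X, ⊤))) :=
      ⟨(algebraMap Γ(X, ⊤) (IsLocalRing.ResidueField Γ(X, ⊤))).injective,
        IsLocalRing.residue_surjective⟩
    let E : Γ(X, ⊤) ≃ₐ[k] IsLocalRing.ResidueField Γ(X, ⊤) :=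
      AlgEquiv.ofBijective (IsScalarTower.toAlgHom k Γ(X, ⊤) (IsLocalRing.ResidueField Γ(X, ⊤)))
        hbij
    exact E.symm.isPurelyInseparable

end Groth.Agent.Lead.GlobVar
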