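import Mathlib

set_option autoImplicit false

namespace Groth.Agent.Lead.LaurU

open AddMonoidAlgebra

variable {D G : Type*} [CommRing D] [IsDomain D] [AddCommGroup G] [TwoUniqueSums G]

theorem coeff_one_ne_zero (x : G) (hx : (1 : AddMonoidAlgebra D G).coeff x ≠ 0) : x = 0 := by
  classical
  rw [one_def, coeff_single] at hx
  by_contra hne
  exact hx (by rw [Finsupp.single_apply, if_neg (Ne.symm hne)])

theorem eq_single_of_card_eq_one (u : AddMonoidAlgebra D G) (h : u.coeff.support.card = 1) :
    ∃ g : G, u = single g (u.coeff g) := by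
  classical
  obtain ⟨g, hg⟩ := Finset.card_eq_one.mp h
  refine ⟨g, ?_⟩
  apply AddMonoidAlgebra.ext
  rw [coeff_single]
  exact Finsupp.support_subset_singleton.mp (by rw [hg])

/-- units of a group algebra of a "two unique sums" group over a domain are monomials. -/
theorem exists_single_of_mul_eq_one (u w : AddMonoidAlgebra D G) (h : u * w = 1) :
    ∃ (g : G) (d : Dˣ), u = single g (d : D) := by
  classical
  have h1 : (1 : AddMonoidAlgebra D G) ≠ 0 := one_ne_zero
  have hu : u ≠ 0 := by rintro rfl; rw [zero_mul] at h; exact h1 h.symm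
  have hw : w ≠ 0 := by rintro rfl; rw [mul_zero] at h; exact h1 h.symm
  have hA : u.coeff.support.Nonempty :=
    Finsupp.support_nonempty_iff.mpr (fun h0 => hu (coeff_eq_zero.mp h0))
  have hB : w.coeff.support.Nonempty :=
    Finsupp.support_nonempty_iff.mpr (fun h0 => hw (coeff_eq_zero.mp h0))
  have hcard : ¬ 1 < u.coeff.support.card * w.coeff.support.card := by
    intro hlt
    obtain ⟨p1, hp1, p2, hp2, hne, h1', h2'⟩ := TwoUniqueSums.uniqueAdd_of_one_lt_card hlt
    rw [Finset.mem_product] at hp1 hp2
    have e1 : p1.1 + p1.2 = 0 := by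
      apply coeff_one_ne_zero (D := D)
      rw [← h, coeff_mul_add_of_uniqueAdd h1']
      exact mul_ne_zero (Finsupp.mem_support_iff.mp hp1.1) (Finsupp.mem_support_iff.mp hp1.2)
    have e2 : p2.1 + p2.2 = 0 := by
      apply coeff_one_ne_zero (D := D)
      rw [← h, coeff_mul_add_of_uniqueAdd h2']
      exact mul_ne_zero (Finsupp.mem_support_iff.mp hp2.1) (Finsupp.mem_support_iff.mp hp2.2)
    have := h1' hp2.1 hp2.2 (e2.trans e1.symm)
    exact hne (Prod.ext this.1.symm this.2.symm)
  have hA0 := Finset.card_pos.mpr hA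
  have hB0 := Finset.card_pos.mpr hB
  have hA1 : u.coeff.support.card = 1 := by
    by_contra hne
    have h2 : 2 ≤ u.coeff.support.card := by omega
    exact hcard (by nlinarith)
  have hB1 : w.coeff.support.card = 1 := by
    by_contra hne
    have h2 : 2 ≤ w.coeff.support.card := by omega
    exact hcard (by nlinarith)
  obtain ⟨g, hg⟩ := eq_single_of_card_eq_one u hA1
  obtain ⟨g', hg'⟩ := eq_single_of_card_eq_one w hB1
  have ha : u.coeff g ≠ 0 := by
    intro h0; rw [h0, single_zero] at hg; exact hu hg
  have hb : w.coeff g' ≠ 0 := by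
    intro h0; rw [h0, single_zero] at hg'; exact hw hg'
  have hprod : single (g + g') (u.coeff g * w.coeff g') = (1 : AddMonoidAlgebra D G) := by
    rw [← single_mul_single, ← hg, ← hg', h]
  have hc : (1 : AddMonoidAlgebra D G).coeff (g + g') = u.coeff g * w.coeff g' := by
    rw [← hprod, coeff_single, Finsupp.single_eq_same]
  have hgg : g + g' = 0 := coeff_one_ne_zero (D := D) _ (by rw [hc]; exact mul_ne_zero ha hb)
  have hab : u.coeff g * w.coeff g' = 1 := by
    rw [← hc, hgg, one_def, coeff_single, Finsupp.single_eq_same]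
  exact ⟨g, Units.mkOfMulEqOne _ _ hab, hg⟩

theorem single_eq_single {g g' : G} {d d' : D} (hd : d ≠ 0)
    (h : (single g d : AddMonoidAlgebra D G) = single g' d') : g = g' ∧ d = d' := by
  classical
  have h' := congrArg AddMonoidAlgebra.coeff h
  rw [coeff_single, coeff_single, Finsupp.single_eq_single_iff] at h'
  rcases h' with h' | h'
  · exact h'
  · exact absurd h'.1 hd

end Groth.Agent.Lead.LaurU
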