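import Mathlib
import Groth.Agent.Lib.Lead.LaurU

/-!
# The group law on the punctured line (lead)
-/

set_option autoImplicit false
set_option linter.style.haveILetI false
universe u
open CategoryTheory CategoryTheory.Limits AlgebraicGeometry TensorProduct

namespace Groth.Agent.Lead.GmLaw

section Alg

variable (k : Type u) [Field k]

/-- units of `k[T^±] ⊗ k[T^±]` are monomials -/
theorem unit_tensor (w w' : LaurentPolynomial k ⊗[k] LaurentPolynomial k) (h : w * w' = 1) :
    ∃ (a b : ℤ) (c : kˣ), w = (AddMonoidAlgebra.single a (c : k) : LaurentPolynomial k) ⊗ₜ[k]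
      (AddMonoidAlgebra.single b (1 : k) : LaurentPolynomial k) := by
  let E := AddMonoidAlgebra.scalarTensorEquiv (M := ℤ) k (LaurentPolynomial k)
  have h1 : E w * E w' = 1 := by rw [← map_mul, h, map_one]
  obtain ⟨b, d, hd⟩ := Groth.Agent.Lead.LaurU.exists_single_of_mul_eq_one (E w) (E w') h1
  obtain ⟨a, c, hc⟩ := Groth.Agent.Lead.LaurU.exists_single_of_mul_eq_one
    (D := k) (G := ℤ) (d : LaurentPolynomial k) ((d⁻¹ : (LaurentPolynomial k)ˣ) : LaurentPolynomial k)
    (Units.mul_inv d)
  refine ⟨a, b, c, ?_⟩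
  apply E.injective
  rw [hd, hc]
  have := AddMonoidAlgebra.scalarTensorEquiv_symm_single (R := k) (A := LaurentPolynomial k) b
    (AddMonoidAlgebra.single a (c : k) : LaurentPolynomial k)
  rw [← this, AlgEquiv.apply_symm_apply]

theorem map_T_eq_one {B : Type*} [CommRing B] (ρ : LaurentPolynomial k →+* B)
    (h : ρ (LaurentPolynomial.T 1) = 1) (b : ℤ) : ρ (LaurentPolynomial.T b) = 1 := by
  have hn : ∀ n : ℕ, ρ (LaurentPolynomial.T (n : ℤ)) = 1 := by
    intro n
    have : (LaurentPolynomial.T (n : ℤ) : LaurentPolynomial k) = LaurentPolynomial.T 1 ^ n := by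
      rw [LaurentPolynomial.T_pow, mul_one]
    rw [this, map_pow, h, one_pow]
  obtain ⟨n, rfl | rfl⟩ := Int.eq_nat_or_neg b
  · exact hn n
  · have h2 : ρ (LaurentPolynomial.T (-(n : ℤ))) * ρ (LaurentPolynomial.T (n : ℤ)) = 1 := by
      rw [← map_mul, ← LaurentPolynomial.T_add, neg_add_cancel, LaurentPolynomial.T_zero, map_one]
    rwa [hn n, mul_one] at h2

end Alg

section Sch

open Algebra.TensorProduct

/-- the ring map `R → Γ(Y, ⊤)` attached to a morphism `Y ⟶ Spec R` -/
noncomputable def sh {R : Type u} [CommRing R] {Y : Scheme.{u}} (q : Y ⟶ Spec (CommRingCat.of R)) :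
    R →+* Γ(Y, ⊤) :=
  q.appTop.hom.comp (Scheme.ΓSpecIso (CommRingCat.of R)).inv.hom

theorem sh_comp {R : Type u} [CommRing R] {Y Y' : Scheme.{u}} (f : Y' ⟶ Y)
    (q : Y ⟶ Spec (CommRingCat.of R)) (r : R) : sh (f ≫ q) r = f.appTop.hom (sh q r) := by
  simp only [sh, Scheme.Hom.comp_appTop, CommRingCat.hom_comp, RingHom.comp_apply]

theorem sh_comp_SpecMap {A B : Type u} [CommRing A] [CommRing B] (φ : A →+* B) {Y : Scheme.{u}}
    (q : Y ⟶ Spec (CommRingCat.of B)) (r : A) :
    sh (q ≫ Spec.map (CommRingCat.ofHom φ)) r = sh q (φ r) := by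
  have h := Scheme.ΓSpecIso_inv_naturality (CommRingCat.ofHom φ)
  have h2 := congrArg (fun f => f.hom r) h
  simp only [CommRingCat.hom_comp, RingHom.comp_apply, CommRingCat.hom_ofHom] at h2
  simp only [sh, Scheme.Hom.comp_appTop, CommRingCat.hom_comp, RingHom.comp_apply]
  rw [← h2]

variable (k : Type u) [Field k] (G : Over (Spec (CommRingCat.of k)))
    (e : G.left ≅ Spec (CommRingCat.of (LaurentPolynomial k)))
    (he : e.hom ≫ Spec.map (CommRingCat.ofHom (algebraMap k (LaurentPolynomial k))) = G.hom)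

include he in
/-- units on `G ×ₖ G` -/
theorem unit_prod (u u' : Γ(pullback G.hom G.hom, ⊤)) (huu' : u * u' = 1) :
    ∃ (a b : ℤ) (c : kˣ),
      u = sh (pullback.fst G.hom G.hom ≫ e.hom)
            (AddMonoidAlgebra.single a (c : k) : LaurentPolynomial k) *
          sh (pullback.snd G.hom G.hom ≫ e.hom)
            (AddMonoidAlgebra.single b (1 : k) : LaurentPolynomial k) := by
  let σ := Spec.map (CommRingCat.ofHom (algebraMap k (LaurentPolynomial k)))
  let m : pullback G.hom G.hom ⟶ pullback σ σ :=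
    pullback.map G.hom G.hom σ σ e.hom e.hom (𝟙 _) (by rw [Category.comp_id, he])
      (by rw [Category.comp_id, he])
  haveI : IsIso m := by dsimp only [m]; infer_instance
  let Φ : pullback G.hom G.hom ≅
      Spec (CommRingCat.of (LaurentPolynomial k ⊗[k] LaurentPolynomial k)) :=
    asIso m ≪≫ pullbackSpecIso k (LaurentPolynomial k) (LaurentPolynomial k)
  have hΦ1 : Φ.hom ≫ Spec.map (CommRingCat.ofHom
      (includeLeftRingHom : LaurentPolynomial k →+* LaurentPolynomial k ⊗[k] LaurentPolynomial k)) =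
      pullback.fst G.hom G.hom ≫ e.hom := by
    simp only [Φ, Iso.trans_hom, asIso_hom, Category.assoc, pullbackSpecIso_hom_fst, m]
    exact pullback.lift_fst _ _ _
  have hΦ2 : Φ.hom ≫ Spec.map (CommRingCat.ofHom
      (RingHomClass.toRingHom (includeRight :
        LaurentPolynomial k →ₐ[k] LaurentPolynomial k ⊗[k] LaurentPolynomial k))) =
      pullback.snd G.hom G.hom ≫ e.hom := by
    simp only [Φ, Iso.trans_hom, asIso_hom, Category.assoc, pullbackSpecIso_hom_snd, m]
    exact pullback.lift_snd _ _ _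
  have hbij : Function.Bijective (sh Φ.hom) := by
    have h1 : Function.Bijective (Scheme.ΓSpecIso (CommRingCat.of
        (LaurentPolynomial k ⊗[k] LaurentPolynomial k))).inv.hom :=
      ConcreteCategory.bijective_of_isIso _
    have h2 : Function.Bijective Φ.hom.appTop.hom := by
      haveI : IsIso Φ.hom.appTop := by
        change IsIso (Scheme.Γ.map Φ.hom.op)
        infer_instance
      exact ConcreteCategory.bijective_of_isIso _
    exact h2.comp h1
  obtain ⟨w, hw⟩ := hbij.2 u
  obtain ⟨w', hw'⟩ := hbij.2 u'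
  have hww' : w * w' = 1 := by
    apply hbij.1
    rw [map_mul, hw, hw', huu', map_one]
  obtain ⟨a, b, c, hc⟩ := unit_tensor k w w' hww'
  refine ⟨a, b, c, ?_⟩
  rw [← hw, hc, ← hΦ1, ← hΦ2, sh_comp_SpecMap, sh_comp_SpecMap, ← map_mul]
  congr 1
  change _ = (AddMonoidAlgebra.single a (c : k) : LaurentPolynomial k) ⊗ₜ[k] (1 : LaurentPolynomial k) *
    (1 : LaurentPolynomial k) ⊗ₜ[k] (AddMonoidAlgebra.single b (1 : k) : LaurentPolynomial k)
  rw [Algebra.TensorProduct.tmul_mul_tmul, mul_one, one_mul]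

theorem sh_injective_of_iso {R : Type u} [CommRing R] {Y : Scheme.{u}}
    (q : Y ≅ Spec (CommRingCat.of R)) : Function.Injective (sh q.hom) := by
  have h1 : Function.Bijective (Scheme.ΓSpecIso (CommRingCat.of R)).inv.hom :=
    ConcreteCategory.bijective_of_isIso _
  have h2 : Function.Bijective q.hom.appTop.hom := by
    haveI : IsIso q.hom.appTop := by
      change IsIso (Scheme.Γ.map q.hom.op)
      infer_instance
    exact ConcreteCategory.bijective_of_isIso _
  exact (h2.comp h1).1

variable [GrpObj G]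

open MonObj CartesianMonoidalCategory

include he in
theorem main
    (hunit : sh ((η[G]).left ≫ e.hom) (LaurentPolynomial.T 1) = 1)
    (S : Over (Spec (CommRingCat.of k))) (g h : S ⟶ G) :
    sh ((g * h).left ≫ e.hom) (LaurentPolynomial.T 1) =
      sh (g.left ≫ e.hom) (LaurentPolynomial.T 1) * sh (h.left ≫ e.hom) (LaurentPolynomial.T 1) := by
  -- the universal character
  have hu : sh ((μ[G]).left ≫ e.hom) (LaurentPolynomial.T 1) *
      sh ((μ[G]).left ≫ e.hom) (LaurentPolynomial.T (-1)) = 1 := by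
    rw [← map_mul, ← LaurentPolynomial.T_add]
    simp
  obtain ⟨a, b, c, habc⟩ := unit_prod k G e he _ _ hu
  -- general formula
  have key : ∀ (S : Over (Spec (CommRingCat.of k))) (g h : S ⟶ G),
      sh ((g * h).left ≫ e.hom) (LaurentPolynomial.T 1) =
        sh (g.left ≫ e.hom) (AddMonoidAlgebra.single a (c : k) : LaurentPolynomial k) *
        sh (h.left ≫ e.hom) (AddMonoidAlgebra.single b (1 : k) : LaurentPolynomial k) := by
    intro S g h
    have h1 : (g * h).left ≫ e.hom = (lift g h).left ≫ ((μ[G]).left ≫ e.hom) := by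
      rw [Hom.mul_def, Over.comp_left, Category.assoc]
    rw [h1, sh_comp]
    have habc' : sh ((μ[G]).left ≫ e.hom) (LaurentPolynomial.T 1) = _ := habc
    rw [habc', map_mul, ← sh_comp, ← sh_comp]
    have e1 : (lift g h).left ≫ pullback.fst G.hom G.hom ≫ e.hom = g.left ≫ e.hom := by
      rw [Over.lift_left, pullback.lift_fst_assoc]
    have e2 : (lift g h).left ≫ pullback.snd G.hom G.hom ≫ e.hom = h.left ≫ e.hom := by
      rw [Over.lift_left, pullback.lift_snd_assoc]
    rw [e1, e2]
  -- the unit section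
  have hone : ∀ n : ℤ, sh ((1 : G ⟶ G).left ≫ e.hom)
      (AddMonoidAlgebra.single n (1 : k) : LaurentPolynomial k) = 1 := by
    intro n
    have h1 : (1 : G ⟶ G).left ≫ e.hom = (toUnit G).left ≫ ((η[G]).left ≫ e.hom) := by
      rw [Hom.one_def, Over.comp_left, Category.assoc]
    have h2 : sh ((1 : G ⟶ G).left ≫ e.hom) (LaurentPolynomial.T 1) = 1 := by
      rw [h1, sh_comp, hunit, map_one]
    exact map_T_eq_one k _ h2 n
  have hinj := sh_injective_of_iso e
  have hT : (LaurentPolynomial.T 1 : LaurentPolynomial k) = AddMonoidAlgebra.single (1 : ℤ) (1 : k) := rfl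
  -- a = 1, c = 1
  have k1 := key G (𝟙 G) 1
  rw [_root_.mul_one, hone b, _root_.mul_one] at k1
  have k1' : (LaurentPolynomial.T 1 : LaurentPolynomial k) =
      AddMonoidAlgebra.single a (c : k) := by
    apply hinj
    simpa using k1
  rw [hT] at k1'
  obtain ⟨ha, hc⟩ := Groth.Agent.Lead.LaurU.single_eq_single (one_ne_zero) k1'
  -- b = 1
  have k2 := key G 1 (𝟙 G)
  rw [_root_.one_mul, ← ha, ← hc, hone 1, _root_.one_mul] at k2
  have k2' : (LaurentPolynomial.T 1 : LaurentPolynomial k) =
      AddMonoidAlgebra.single b (1 : k) := by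
    apply hinj
    simpa using k2
  rw [hT] at k2'
  obtain ⟨hb, -⟩ := Groth.Agent.Lead.LaurU.single_eq_single (one_ne_zero) k2'
  rw [key S g h, ← ha, ← hc, ← hb]
  rfl

end Sch

end Groth.Agent.Lead.GmLaw
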