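import Mathlib
import Groth.Prelude
import Groth.Agent.Lib.Helper3.FibStalk5
import Groth.Agent.Lib.Helper3.FibStalk3
import Groth.Agent.Lib.Helper8.ABS21
import Groth.Agent.Lib.Helper8.GorFlat5

set_option autoImplicit false
set_option backward.isDefEq.respectTransparency.types false
set_option synthInstance.maxHeartbeats 400000
set_option linter.style.haveILetI false
set_option linter.unusedSectionVars false

universe u

open CategoryTheory CategoryTheory.Limits AlgebraicGeometry TopologicalSpace IsLocalRing Opposite

namespace Groth.Agent.Lead.GorSF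

open Groth.Agent.Helper3.FibStalk Groth.Agent.Helper8.GorFlat LocCoh

/-- A surjection `R → K` onto a field: the morphism `Spec K ⟶ Spec R` is, up to an isomorphism,
the inclusion of the residue field at its image point. -/
theorem exists_iso_fromSpecResidueField (R K : Type u) [CommRing R] [Field K] (φ : R →+* K)
    (hφ : Function.Surjective φ) :
    ∃ (y : Spec (CommRingCat.of R))
      (ψ : Spec (CommRingCat.of K) ⟶ Spec ((Spec (CommRingCat.of R)).residueField y)),
      IsIso ψ ∧ ψ ≫ (Spec (CommRingCat.of R)).fromSpecResidueField y =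
        Spec.map (CommRingCat.ofHom φ) := by
  set s : Spec (CommRingCat.of K) ⟶ Spec (CommRingCat.of R) := Spec.map (CommRingCat.ofHom φ)
  set y := s (closedPoint K)
  set θ : (Spec (CommRingCat.of R)).residueField y ⟶ CommRingCat.of K :=
    Scheme.descResidueField (Scheme.stalkClosedPointTo s)
  have h1 : Spec.map θ ≫ (Spec (CommRingCat.of R)).fromSpecResidueField y = s :=
    Scheme.descResidueField_stalkClosedPointTo_fromSpecResidueField K _ s
  refine ⟨y, Spec.map θ, ?_, h1⟩
  have h2 : CommRingCat.ofHom (algebraMap R y.asIdeal.ResidueField) ≫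
      (Scheme.Spec.residueFieldIso (CommRingCat.of R) y).inv ≫ θ = CommRingCat.ofHom φ := by
    apply Spec.map_injective
    rw [Spec.map_comp, Spec.map_comp, Category.assoc,
      Scheme.Spec.map_residueFieldIso_inv_eq_fromSpecResidueField]
    exact h1
  have hsurj : Function.Surjective θ.hom := by
    intro k
    obtain ⟨r, rfl⟩ := hφ k
    refine ⟨(Scheme.Spec.residueFieldIso (CommRingCat.of R) y).inv.hom
      (algebraMap R y.asIdeal.ResidueField r), ?_⟩
    exact congr($h2 r)
  have hinj : Function.Injective θ.hom := θ.hom.injective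
  haveI : IsIso θ := (ConcreteCategory.isIso_iff_bijective θ).mpr ⟨hinj, hsurj⟩
  infer_instance

theorem S2225_main (R : Type u) [CommRing R] [IsDomain R]
    [IsDiscreteValuationRing R] (C X : Scheme.{u})
    (f : C ⟶ Spec (CommRingCat.of (FractionRing R))) (p : X ⟶ Spec (CommRingCat.of R))
    (hX : Models.IsModel R X p C f)
    (hreg : Models.IsRegularScheme X) (x : ↥(Models.specialFibre R X p)) :
    LocCoh.IsGorensteinLocalRing ((Models.specialFibre R X p).presheaf.stalk x) := by
  haveI : Flat p := hX.1
  obtain ⟨y, ψ, hψ, hψs⟩ := exists_iso_fromSpecResidueField R (ResidueField R)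
    (algebraMap R (ResidueField R)) IsLocalRing.residue_surjective
  obtain ⟨u, hu, hui⟩ := exists_iso_fiber p y
    (Spec.map (CommRingCat.ofHom (algebraMap R (ResidueField R))))
    (pullback.fst p (Spec.map (CommRingCat.ofHom (algebraMap R (ResidueField R)))))
    (pullback.snd p (Spec.map (CommRingCat.ofHom (algebraMap R (ResidueField R)))))
    (IsPullback.of_hasPullback _ _) ψ hψs
  change LocCoh.IsGorensteinLocalRing
    ((pullback p (Spec.map (CommRingCat.ofHom (algebraMap R (ResidueField R))))).presheaf.stalk x)
  set x₀ : X := (pullback.fst p (Spec.map (CommRingCat.ofHom (algebraMap R (ResidueField R))))) x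
    with hx₀
  haveI := hreg x₀
  have h1 : IsGorensteinLocalRing (X.presheaf.stalk x₀) :=
    Groth.Agent.Helper8.ABS.isGorensteinLocalRing_of_isRegularLocalRing _
  have h2 := ((gor_stalk_iff p x₀ (Flat.stalkMap p x₀)).mp h1).2
  have h3 : IsGorensteinLocalRing ((p.fiber y).presheaf.stalk (u x)) := by
    refine (gor_fiber_congr p (u x) (p.asFiber x₀) ?_).mpr h2
    rw [p.fiberι_asFiber, ← Scheme.Hom.comp_apply, hui]
  haveI := hu
  have e : (p.fiber y).presheaf.stalk (u x) ≃+*
      (pullback p (Spec.map (CommRingCat.ofHom (algebraMap R (ResidueField R))))).presheaf.stalk x :=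
    (asIso (u.stalkMap x)).commRingCatIsoToRingEquiv
  exact isGorensteinLocalRing_of_ringEquiv e h3

end Groth.Agent.Lead.GorSF
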