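import Mathlib
namespace Groth.Agent.Lead.GraphLab
open SimpleGraph

variable {V : Type*} [Fintype V] [DecidableEq V] {A : Type*} [AddCommGroup A]

/-- the alternating labelling of a walk -/
def lab {H : SimpleGraph V} (t : A) : ∀ {u v : V}, H.Walk u v → (Sym2 V → A)
  | _, _, .nil => 0
  | _, _, @Walk.cons _ _ u w _ _ p => Pi.single s(u, w) t - lab t p

@[simp] theorem lab_nil {H : SimpleGraph V} (t : A) (u : V) :
    lab t (Walk.nil : H.Walk u u) = 0 := rfl

@[simp] theorem lab_cons {H : SimpleGraph V} (t : A) {u w v : V} (h : H.Adj u w) (p : H.Walk w v) :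
    lab t (Walk.cons h p) = Pi.single s(u, w) t - lab t p := rfl

theorem lab_add {H : SimpleGraph V} (s t : A) {u v : V} (p : H.Walk u v) :
    lab (s + t) p = lab s p + lab t p := by
  induction p with
  | nil => simp
  | @cons u' w' v' h p ih =>
    rw [lab_cons, lab_cons, lab_cons, ih]
    funext e
    simp only [Pi.sub_apply, Pi.add_apply]
    by_cases he : e = s(u', w')
    · subst he
      simp only [Pi.single_eq_same]
      abel
    · simp only [Pi.single_eq_of_ne he]
      abel

theorem lab_zero {H : SimpleGraph V} {u v : V} (p : H.Walk u v) : lab (0 : A) p = 0 := by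
  induction p with
  | nil => simp
  | cons h p ih =>
    rw [lab_cons, ih]
    funext e
    simp

theorem lab_apply_of_notMem {H : SimpleGraph V} (t : A) {u v : V} (p : H.Walk u v) (e : Sym2 V)
    (he : e ∉ p.edges) : lab t p e = 0 := by
  induction p with
  | nil => simp
  | cons h p ih =>
    rw [Walk.edges_cons, List.mem_cons, not_or] at he
    rw [lab_cons, Pi.sub_apply, ih he.2, sub_zero, Pi.single_eq_of_ne he.1]

theorem lab_apply_of_notMem_edgeSet {H : SimpleGraph V} (t : A) {u v : V} (p : H.Walk u v)
    (e : Sym2 V) (he : e ∉ H.edgeSet) : lab t p e = 0 :=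
  lab_apply_of_notMem t p e (fun h => he (Walk.edges_subset_edgeSet p h))

/-- divergence of a labelling -/
def dv (G : SimpleGraph V) [DecidableRel G.Adj] (x : Sym2 V → A) (z : V) : A :=
  ∑ e ∈ G.incidenceFinset z, x e

theorem dv_add (G : SimpleGraph V) [DecidableRel G.Adj] (x y : Sym2 V → A) (z : V) :
    dv G (x + y) z = dv G x z + dv G y z := by
  simp [dv, Finset.sum_add_distrib]

theorem dv_sub (G : SimpleGraph V) [DecidableRel G.Adj] (x y : Sym2 V → A) (z : V) :
    dv G (x - y) z = dv G x z - dv G y z := by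
  simp [dv, Finset.sum_sub_distrib]

theorem dv_zero (G : SimpleGraph V) [DecidableRel G.Adj] (z : V) :
    dv G (0 : Sym2 V → A) z = 0 := by
  simp [dv]

theorem dv_sum (G : SimpleGraph V) [DecidableRel G.Adj] {ι : Type*} (s : Finset ι)
    (x : ι → Sym2 V → A) (z : V) :
    dv G (∑ i ∈ s, x i) z = ∑ i ∈ s, dv G (x i) z := by
  simp only [dv, Finset.sum_apply]
  rw [Finset.sum_comm]

theorem dv_single (G : SimpleGraph V) [DecidableRel G.Adj] {u w : V} (h : G.Adj u w) (t : A)
    (z : V) : dv G (Pi.single s(u, w) t) z =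
      (if z = u then t else 0) + (if z = w then t else 0) := by
  rw [dv, Finset.sum_pi_single']
  have hne : u ≠ w := h.ne
  by_cases hzu : z = u
  · subst hzu
    have hzw : ¬ z = w := hne
    rw [if_pos, if_pos rfl, if_neg hzw, add_zero]
    rw [mem_incidenceFinset, mk'_mem_incidenceSet_iff]
    exact ⟨h, Or.inl rfl⟩
  · by_cases hzw : z = w
    · subst hzw
      rw [if_pos, if_neg hzu, if_pos rfl, zero_add]
      rw [mem_incidenceFinset, mk'_mem_incidenceSet_iff]
      exact ⟨h, Or.inr rfl⟩
    · rw [if_neg, if_neg hzu, if_neg hzw, add_zero]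
      rw [mem_incidenceFinset, mk'_mem_incidenceSet_iff]
      rintro ⟨_, h1 | h1⟩
      · exact hzu h1
      · exact hzw h1

theorem dv_lab (G : SimpleGraph V) [DecidableRel G.Adj] {H : SimpleGraph V} (hHG : H ≤ G) (t : A)
    {u v : V} (p : H.Walk u v) (z : V) :
    dv G (lab t p) z =
      (if z = u then t else 0) - ((-1 : ℤ) ^ p.length) • (if z = v then t else 0) := by
  induction p with
  | nil => simp [dv_zero]
  | cons h p ih =>
    rw [lab_cons, dv_sub, dv_single G (hHG h), ih, Walk.length_cons, pow_succ]
    simp only [mul_neg, mul_one, neg_smul]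
    abel

theorem even_length_iff {H : SimpleGraph V} (c : V → Bool)
    (hbip : ∀ v w : V, H.Adj v w → c v ≠ c w) {u v : V} (p : H.Walk u v) :
    Even p.length ↔ c u = c v := by
  induction p with
  | nil => simp
  | @cons u' w' v' h p ih =>
    rw [Walk.length_cons, Nat.even_add_one, ih]
    have := hbip _ _ h
    revert this
    cases c u' <;> cases c w' <;> cases c v' <;> simp

end Groth.Agent.Lead.GraphLab
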