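import Mathlib
import Groth.Prelude
import Groth.Agent.Lib.Helper2.Sch.GrpDim
import Groth.Agent.Lib.Helper4.DvrFlat1
import Groth.Agent.Lib.Helper8.Depth7
import Groth.Agent.Lib.Lead.CMAt2
import Groth.Agent.Lib.Lead.GrpdCM1

/-!
# Group schemes locally of finite type over a field are Cohen-Macaulay (lead)
-/

set_option autoImplicit false
set_option backward.isDefEq.respectTransparency.types false
set_option synthInstance.maxHeartbeats 400000
set_option maxHeartbeats 1000000
set_option linter.style.haveILetI false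
set_option linter.unusedSectionVars false
universe u

open CategoryTheory CategoryTheory.Limits AlgebraicGeometry TopologicalSpace IsLocalRing Opposite
open MonoidalCategory CartesianMonoidalCategory MonObj GrpObj
open Groth.Agent.Lib.Helper4.GrpShear1 Groth.Agent.Lib.Helper4.GrpIrr1
  Groth.Agent.Lib.Helper4.GrpIrr3

namespace Groth.Agent.Lead.GrpCM

/-- a Noetherian local ring of dimension zero is Cohen-Macaulay -/
theorem cm_of_dim_zero (R : Type u) [CommRing R] [IsLocalRing R] [IsNoetherianRing R]
    (h : ringKrullDim R = 0) : LocCoh.IsCohenMacaulayLocalRing R := by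
  refine ⟨?_⟩
  have h1 := Groth.Agent.Helper8.Depth.depth_le_supportDim (A := R) (M := R)
  rw [Module.supportDim_self_eq_ringKrullDim, h] at h1 ⊢
  have h2 : LocCoh.depth R R = 0 := by
    have : (LocCoh.depth R R : WithBot ℕ∞) ≤ ((0 : ℕ∞) : WithBot ℕ∞) := h1
    exact le_antisymm (by exact_mod_cast this) bot_le
  rw [h2]
  rfl

/-- for a morphism to the spectrum of a field, being Cohen-Macaulay at a point means that the local
ring is Cohen-Macaulay -/
theorem isCMAt_field_iff {K : Type u} [Field K] {X : Scheme.{u}}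
    (f : X ⟶ Spec (CommRingCat.of K)) (x : X) :
    MoreMor.IsCMAt f x ↔ LocCoh.IsCohenMacaulayLocalRing (X.presheaf.stalk x) := by
  rw [← Groth.Agent.Lead.GrpdCM.grpd_isCMAt_iff]
  have hbot : maximalIdeal ((Spec (CommRingCat.of K)).presheaf.stalk (f x)) = ⊥ := by
    rw [eq_bot_iff]
    intro t ht
    exact Groth.Agent.Lib.Helper4.DvrFlat1.stalk_field_nonunit_eq_zero
      (Field.toIsField K) (f x) t ht
  have hfield : IsField ((Spec (CommRingCat.of K)).presheaf.stalk (f x)) :=
    IsLocalRing.isField_iff_maximalIdeal_eq.mpr hbot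
  have hflat : (f.stalkMap x).hom.Flat := by
    letI := hfield.toField
    letI := (f.stalkMap x).hom.toAlgebra
    show Module.Flat ((Spec (CommRingCat.of K)).presheaf.stalk (f x)) (X.presheaf.stalk x)
    infer_instance
  have hmap : Ideal.map (f.stalkMap x).hom
      (maximalIdeal ((Spec (CommRingCat.of K)).presheaf.stalk (f x))) = ⊥ := by
    rw [hbot, Ideal.map_bot]
  unfold Grpd.IsCMAt
  constructor
  · rintro ⟨-, h⟩
    exact Groth.Agent.Lead.CMAt.cm_of_ringEquiv
      ((Ideal.quotEquivOfEq hmap).trans (RingEquiv.quotientBot _)) h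
  · intro h
    exact ⟨hflat, Groth.Agent.Lead.CMAt.cm_of_ringEquiv
      ((Ideal.quotEquivOfEq hmap).trans (RingEquiv.quotientBot _)).symm h⟩

/-- Cohen-Macaulayness of local rings is transported by isomorphisms of schemes -/
theorem cm_stalk_of_iso {X Y : Scheme.{u}} (φ : X ⟶ Y) [IsIso φ] (x : X) :
    LocCoh.IsCohenMacaulayLocalRing (X.presheaf.stalk x) ↔
      LocCoh.IsCohenMacaulayLocalRing (Y.presheaf.stalk (φ x)) := by
  have e : Y.presheaf.stalk (φ x) ≃+* X.presheaf.stalk x :=
    (asIso (φ.stalkMap x)).commRingCatIsoToRingEquiv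
  exact ⟨fun h => Groth.Agent.Lead.CMAt.cm_of_ringEquiv e.symm h,
    fun h => Groth.Agent.Lead.CMAt.cm_of_ringEquiv e h⟩

variable {K : Type u} [Field K] (G : Over (Spec (CommRingCat.of K))) [GrpObj G]
  [LocallyOfFiniteType G.hom]

/-- Cohen-Macaulayness of local rings is invariant under extension of the ground field. -/
theorem cm_bcπ (L : Type u) [Field L] [Algebra K L] (y : ((bcF L).obj G).left) :
    LocCoh.IsCohenMacaulayLocalRing (((bcF L).obj G).left.presheaf.stalk y) ↔
      LocCoh.IsCohenMacaulayLocalRing (G.left.presheaf.stalk (bcπ G L y)) := by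
  obtain ⟨g₀, hg₀⟩ : ∃ g₀, g₀ = Spec.map (CommRingCat.ofHom (algebraMap K L)) := ⟨_, rfl⟩
  have hsq : IsPullback (bcπ G L) ((bcF L).obj G).hom G.hom g₀ := by
    rw [hg₀]; exact IsPullback.of_hasPullback G.hom _
  haveI : Flat G.hom := inferInstance
  have h1 := Groth.Agent.Lead.CMAt.cmAt_baseChange_iff _ _ _ _ G.hom g₀ ((bcF L).obj G).hom
    (bcπ G L) hsq y
  rw [isCMAt_field_iff, isCMAt_field_iff] at h1
  exact h1

omit [LocallyOfFiniteType G.hom] in
/-- Translation by a rational point preserves Cohen-Macaulayness. -/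
theorem cm_point_iff (a : 𝟙_ (Over (Spec (CommRingCat.of K))) ⟶ G) :
    LocCoh.IsCohenMacaulayLocalRing
        (G.left.presheaf.stalk (a.left (IsLocalRing.closedPoint K))) ↔
      LocCoh.IsCohenMacaulayLocalRing (G.left.presheaf.stalk (ept G)) := by
  have hiso : IsIso (ltrans a).left := inferInstanceAs (IsIso ((Over.forget _).map (ltrans a)))
  have e : (ltrans a).left (ept G) = a.left (IsLocalRing.closedPoint K) := by
    rw [ept, ← Scheme.Hom.comp_apply, ← Over.comp_left, eta_ltrans]
  rw [← e]
  exact (cm_stalk_of_iso (ltrans a).left (ept G)).symm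

theorem cm_iff_ept (x : G.left) :
    LocCoh.IsCohenMacaulayLocalRing (G.left.presheaf.stalk x) ↔
      LocCoh.IsCohenMacaulayLocalRing (G.left.presheaf.stalk (ept G)) := by
  obtain ⟨φ, hφ⟩ : ∃ φ : CommRingCat.of K ⟶ G.left.residueField x,
      Spec.map φ = G.left.fromSpecResidueField x ≫ G.hom := ⟨Spec.preimage _, Spec.map_preimage _⟩
  letI alg : Algebra K (G.left.residueField x) := φ.hom.toAlgebra
  have hφ' : Spec.map (CommRingCat.ofHom (algebraMap K (G.left.residueField x))) =
      G.left.fromSpecResidueField x ≫ G.hom := by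
    rw [← hφ]; rfl
  obtain ⟨σl, hσl⟩ : ∃ σl : Spec (CommRingCat.of (G.left.residueField x)) ⟶
      ((bcF (G.left.residueField x)).obj G).left,
      σl = pullback.lift (G.left.fromSpecResidueField x) (𝟙 _) (by rw [Category.id_comp, hφ']) :=
    ⟨_, rfl⟩
  have h1 : σl ≫ bcπ G (G.left.residueField x) = G.left.fromSpecResidueField x := by
    rw [hσl, bcπ]; exact pullback.lift_fst _ _ _
  have h2 : σl ≫ ((bcF (G.left.residueField x)).obj G).hom = 𝟙 _ := by
    rw [hσl]; exact pullback.lift_snd _ _ _
  obtain ⟨σ, hσ⟩ : ∃ σ : 𝟙_ (Over (Spec (CommRingCat.of (G.left.residueField x)))) ⟶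
      (bcF (G.left.residueField x)).obj G, σ.left = σl := ⟨Over.homMk σl h2, rfl⟩
  have e : bcπ G (G.left.residueField x)
      (σ.left (IsLocalRing.closedPoint (G.left.residueField x))) = x := by
    rw [hσ, ← Scheme.Hom.comp_apply, h1]
    exact G.left.fromSpecResidueField_apply x _
  haveI : LocallyOfFiniteType ((bcF (G.left.residueField x)).obj G).hom :=
    MorphismProperty.pullback_snd _ _ inferInstance
  have k1 := cm_point_iff ((bcF (G.left.residueField x)).obj G) σ
  rw [cm_bcπ G (G.left.residueField x), cm_bcπ G (G.left.residueField x), e, bcπ_ept] at k1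
  exact k1

/-- there is a point with zero-dimensional local ring -/
theorem exists_dim_zero : ∃ ξ : G.left, ringKrullDim (G.left.presheaf.stalk ξ) = 0 := by
  obtain ⟨Z, hZ, -⟩ := exists_mem_irreducibleComponents_subset_of_isIrreducible
    ({ept G} : Set G.left) isIrreducible_singleton
  have hcl : IsClosed Z := isClosed_of_mem_irreducibleComponents _ hZ
  have hgen : IsGenericPoint hZ.1.genericPoint Z := hZ.1.isGenericPoint_genericPoint hcl
  obtain ⟨ξ, hξ⟩ : ∃ ξ, ξ = hZ.1.genericPoint := ⟨_, rfl⟩
  rw [← hξ] at hgen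
  refine ⟨ξ, ?_⟩
  rw [ringKrullDim_stalk_eq_coheight]
  have : Order.coheight ξ = 0 := by
    rw [Order.coheight_eq_zero]
    intro b hb
    have hbξ : b ⤳ ξ := hb
    have hsub : Z ⊆ closure ({b} : Set G.left) := by
      rw [← hgen.def]
      exact closure_minimal (Set.singleton_subset_iff.mpr hbξ.mem_closure) isClosed_closure
    have hle : closure ({b} : Set G.left) ⊆ Z := hZ.2 isIrreducible_singleton.closure hsub
    have hbZ : b ∈ closure ({ξ} : Set G.left) := by
      rw [hgen.def]; exact hle (subset_closure rfl)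
    exact (specializes_iff_mem_closure.mpr hbZ : ξ ⤳ b)
  rw [this]; rfl

theorem main3029 (x : G.left) : LocCoh.IsCohenMacaulayLocalRing (G.left.presheaf.stalk x) := by
  haveI : IsLocallyNoetherian G.left := LocallyOfFiniteType.isLocallyNoetherian G.hom
  obtain ⟨ξ, hξ⟩ := exists_dim_zero G
  have h1 : LocCoh.IsCohenMacaulayLocalRing (G.left.presheaf.stalk ξ) := cm_of_dim_zero _ hξ
  rw [cm_iff_ept G x, ← cm_iff_ept G ξ]
  exact h1

end Groth.Agent.Lead.GrpCM
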