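import Mathlib
import Groth.Agent.Lib.Lead.GrpCohAvg

set_option autoImplicit false

universe u
namespace Groth.Agent.Lead.GrpCohAvg

theorem subsingleton_of_bijective_nsmul (k G : Type u) [CommRing k] [Group G]
    [Finite G] (A : Rep.{u} k G) (hdiv : Function.Bijective fun a : A => Nat.card G • a)
    (i : ℕ) (hi : 0 < i) : Subsingleton (groupCohomology A i) := by
  classical
  have := Fintype.ofFinite G
  obtain ⟨n, rfl⟩ := Nat.exists_eq_succ_of_ne_zero hi.ne'
  let e : A ≃ₗ[k] A := LinearEquiv.ofBijective (Nat.card G • (LinearMap.id : A →ₗ[k] A)) (by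
    convert hdiv using 1
    funext a
    simp)
  have he : ∀ a : A, e a = Nat.card G • a := fun a => rfl
  have hcomm : ∀ (y : G) (a : A), e.symm (A.ρ y a) = A.ρ y (e.symm a) := by
    intro y a
    rw [LinearEquiv.symm_apply_eq, he, ← map_nsmul, ← he, LinearEquiv.apply_symm_apply]
  refine subsingleton_of A e.symm.toLinearMap (fun a => ?_) n
  have : ∀ y : G, A.ρ y⁻¹ (e.symm.toLinearMap (A.ρ y a)) = e.symm a := fun y => by
    rw [LinearEquiv.coe_coe, hcomm, ← Module.End.mul_apply, ← map_mul, inv_mul_cancel, map_one,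
      Module.End.one_apply]
  simp_rw [this]
  rw [Finset.sum_const, Finset.card_univ, ← Nat.card_eq_fintype_card, ← he,
    LinearEquiv.apply_symm_apply]

end Groth.Agent.Lead.GrpCohAvg
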