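import Mathlib
import Groth.Prelude
import Groth.Agent.S1891
import Groth.Agent.S1889
import Groth.Agent.Lib.Helper4.GrpdSub1
import Groth.Agent.Lib.Helper4.SchImg1
import Groth.Agent.Lib.Helper4.SchClosGrp1

/-!
# The scheme-theoretic image of a morphism of groupoids over a field point is a groupoid (lead)
-/

set_option autoImplicit false
set_option backward.isDefEq.respectTransparency.types false
set_option synthInstance.maxHeartbeats 400000
set_option maxHeartbeats 1000000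
set_option linter.style.haveILetI false
set_option linter.unusedSectionVars false
universe u

open AlgebraicGeometry CategoryTheory CategoryTheory.Limits

namespace Groth.Agent.Lead.GrpdImg

open Groth.Agent.Lib.Helper4.GrpdSub1 Groth.Agent.Lib.Helper4.SchClosGrp1

variable {S : Scheme.{u}} {G₁ G₂ : Grpd.GroupoidScheme S} (f : Grpd.GroupoidScheme.Hom G₁ G₂)

set_option maxHeartbeats 4000000 in
theorem main7492 [IsIso f.fU] [QuasiCompact f.fR] (k : Type u) [Field k]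
    (eU : G₂.U ≅ Spec (CommRingCat.of k)) :
    ∃ (G' : Grpd.GroupoidScheme S) (ψ : Grpd.GroupoidScheme.Hom G' G₂),
      IsIso ψ.fU ∧ IsClosedImmersion ψ.fR ∧ ψ.fR.ker = f.fR.ker := by
  obtain ⟨hint, hsubs⟩ := Groth.Agent.S1889.Aux.field_base G₂ k eU
  haveI := hint
  haveI := hsubs
  obtain ⟨j, hj⟩ : ∃ j : f.fR.image ⟶ G₂.R, j = f.fR.imageι := ⟨_, rfl⟩
  obtain ⟨π, hπ⟩ : ∃ π : G₁.R ⟶ f.fR.image, π = f.fR.toImage := ⟨_, rfl⟩
  have hπj : π ≫ j = f.fR := by rw [hπ, hj]; exact f.fR.toImage_imageι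
  haveI : IsClosedImmersion j := by rw [hj]; infer_instance
  haveI : IsSchemeTheoreticallyDominant π := by
    rw [hπ]; exact Groth.Agent.Lib.Helper4.SchImg1.isSchemeTheoreticallyDominant_toImage f.fR
  haveI : QuasiCompact π := by rw [hπ]; infer_instance
  obtain ⟨s', hs'⟩ : ∃ s' : f.fR.image ⟶ G₂.U, s' = j ≫ G₂.s := ⟨_, rfl⟩
  obtain ⟨t', ht'⟩ : ∃ t' : f.fR.image ⟶ G₂.U, t' = j ≫ G₂.t := ⟨_, rfl⟩
  have hs : s' ≫ 𝟙 G₂.U = j ≫ G₂.s := by rw [Category.comp_id, hs']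
  have ht : t' ≫ 𝟙 G₂.U = j ≫ G₂.t := by rw [Category.comp_id, ht']
  have hπs : π ≫ s' = G₁.s ≫ f.fU := by
    rw [hs', ← Category.assoc, hπj, f.comm_s]
  have hπt : π ≫ t' = G₁.t ≫ f.fU := by
    rw [ht', ← Category.assoc, hπj, f.comm_t]
  -- the unit
  obtain ⟨e', he'⟩ : ∃ e' : G₂.U ⟶ f.fR.image, e' = inv f.fU ≫ G₁.e ≫ π := ⟨_, rfl⟩
  have he : e' ≫ j = 𝟙 G₂.U ≫ G₂.e := by
    rw [he', Category.assoc, Category.assoc, hπj, Groth.Agent.S1891.Aux.hom_e,
      IsIso.inv_hom_id_assoc, Category.id_comp]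
  -- the inverse
  obtain ⟨i', hi⟩ : ∃ i' : f.fR.image ⟶ f.fR.image, i' ≫ j = j ≫ G₂.i := by
    refine exists_lift_of_schDominant j π (j ≫ G₂.i) (G₁.i ≫ π) ?_
    rw [← Category.assoc, hπj, Category.assoc, hπj, Groth.Agent.S1891.Aux.hom_i]
  -- the composition
  haveI : Flat s' := inferInstance
  haveI : Flat (π ≫ t') := inferInstance
  obtain ⟨m₁, hm₁⟩ : ∃ m₁ : pullback (π ≫ s') (π ≫ t') ⟶ pullback s' (π ≫ t'),
      m₁ = pullback.map (π ≫ s') (π ≫ t') s' (π ≫ t') π (𝟙 _) (𝟙 _) (by simp) (by simp) :=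
    ⟨_, rfl⟩
  obtain ⟨m₂, hm₂⟩ : ∃ m₂ : pullback s' (π ≫ t') ⟶ pullback s' t',
      m₂ = pullback.map s' (π ≫ t') s' t' (𝟙 _) π (𝟙 _) (by simp) (by simp) := ⟨_, rfl⟩
  haveI : IsSchemeTheoreticallyDominant m₁ := by
    rw [hm₁]; exact schDominant_map_left π s' (π ≫ t')
  haveI : IsSchemeTheoreticallyDominant m₂ := by
    rw [hm₂]; exact schDominant_map_right π t' s'
  have hm₁f : m₁ ≫ pullback.fst s' (π ≫ t') = pullback.fst (π ≫ s') (π ≫ t') ≫ π := by
    rw [hm₁]; exact pullback.lift_fst _ _ _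
  have hm₁s : m₁ ≫ pullback.snd s' (π ≫ t') = pullback.snd (π ≫ s') (π ≫ t') := by
    rw [hm₁]; exact (pullback.lift_snd _ _ _).trans (Category.comp_id _)
  have hm₂f : m₂ ≫ pullback.fst s' t' = pullback.fst s' (π ≫ t') := by
    rw [hm₂]; exact (pullback.lift_fst _ _ _).trans (Category.comp_id _)
  have hm₂s : m₂ ≫ pullback.snd s' t' = pullback.snd s' (π ≫ t') ≫ π := by
    rw [hm₂]; exact pullback.lift_snd _ _ _
  have hcond : pullback.fst (π ≫ s') (π ≫ t') ≫ G₁.s = pullback.snd (π ≫ s') (π ≫ t') ≫ G₁.t := by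
    rw [← cancel_mono f.fU, Category.assoc, Category.assoc, ← hπs, ← hπt]
    exact pullback.condition
  obtain ⟨c', hc⟩ : ∃ c' : pullback s' t' ⟶ f.fR.image,
      c' ≫ j = pullback.map s' t' G₂.s G₂.t j j (𝟙 G₂.U) hs ht ≫ G₂.c := by
    refine exists_lift_of_schDominant j (m₁ ≫ m₂)
      (pullback.map s' t' G₂.s G₂.t j j (𝟙 G₂.U) hs ht ≫ G₂.c)
      (pullback.lift (pullback.fst (π ≫ s') (π ≫ t')) (pullback.snd (π ≫ s') (π ≫ t')) hcond ≫
        G₁.c ≫ π) ?_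
    have h1 := f.comm_c (pullback.fst (π ≫ s') (π ≫ t')) (pullback.snd (π ≫ s') (π ≫ t')) hcond
    have hR : (pullback.lift (pullback.fst (π ≫ s') (π ≫ t')) (pullback.snd (π ≫ s') (π ≫ t'))
        hcond ≫ G₁.c ≫ π) ≫ j =
        (pullback.lift (pullback.fst (π ≫ s') (π ≫ t')) (pullback.snd (π ≫ s') (π ≫ t'))
          hcond ≫ G₁.c) ≫ f.fR := by
      simp only [Category.assoc, hπj]
    rw [hR, h1, ← Category.assoc]
    congr 1
    apply pullback.hom_ext
    · rw [Category.assoc, Category.assoc, pullback.lift_fst, pullback.lift_fst,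
        ← Category.assoc m₂, hm₂f, ← Category.assoc, hm₁f, Category.assoc, hπj]
    · rw [Category.assoc, Category.assoc, pullback.lift_snd, pullback.lift_snd,
        ← Category.assoc m₂, hm₂s, ← Category.assoc, ← Category.assoc, hm₁s, Category.assoc, hπj]
  refine ⟨sub G₂ (𝟙 G₂.U) j s' t' hs ht e' he i' hi c' hc,
    { fU := 𝟙 G₂.U
      fR := j
      fU_over := rfl
      comm_s := hs.symm
      comm_t := ht.symm
      comm_c := fun α β h => sub_comp_ι G₂ (𝟙 G₂.U) j s' t' hs ht c' hc α β h },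
    inferInstanceAs (IsIso (𝟙 G₂.U)), ‹IsClosedImmersion j›, ?_⟩
  show j.ker = f.fR.ker
  rw [hj]
  exact Scheme.IdealSheafData.ker_subschemeι _

end Groth.Agent.Lead.GrpdImg
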