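import Mathlib
import Groth.Prelude
import Groth.Agent.Lib.Lead.GrpdImg1

/-!
# The pair groupoid, and the groupoid on the scheme-theoretic image of `j` over a field (lead)
-/

set_option autoImplicit false
set_option backward.isDefEq.respectTransparency.types false
set_option synthInstance.maxHeartbeats 400000
set_option maxHeartbeats 1000000
set_option linter.style.haveILetI false
set_option linter.unusedSectionVars false
universe u

open AlgebraicGeometry CategoryTheory CategoryTheory.Limits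

namespace Groth.Agent.Lead.GrpdImg

open Groth.Agent.Lib.Helper4.GrpdSub1 Groth.Agent.Lib.Helper4.SchClosGrp1

section Pair

variable {S : Scheme.{u}} {U : Scheme.{u}} (pU : U ⟶ S)

/-- composition of the pair groupoid -/
noncomputable def pairC :
    pullback (pullback.snd pU pU) (pullback.fst pU pU) ⟶ pullback pU pU :=
  pullback.lift (pullback.fst _ _ ≫ pullback.fst pU pU) (pullback.snd _ _ ≫ pullback.snd pU pU)
    (by
      rw [Category.assoc, Category.assoc, pullback.condition, ← Category.assoc,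
        pullback.condition, Category.assoc, pullback.condition])

theorem pairC_fst : pairC pU ≫ pullback.fst pU pU =
    pullback.fst _ _ ≫ pullback.fst pU pU := pullback.lift_fst _ _ _

theorem pairC_snd : pairC pU ≫ pullback.snd pU pU =
    pullback.snd _ _ ≫ pullback.snd pU pU := pullback.lift_snd _ _ _

theorem lift_pairC_fst {T : Scheme.{u}} (α β : T ⟶ pullback pU pU)
    (h : α ≫ pullback.snd pU pU = β ≫ pullback.fst pU pU) :
    pullback.lift α β h ≫ pairC pU ≫ pullback.fst pU pU = α ≫ pullback.fst pU pU := by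
  rw [pairC_fst, ← Category.assoc, pullback.lift_fst]

theorem lift_pairC_snd {T : Scheme.{u}} (α β : T ⟶ pullback pU pU)
    (h : α ≫ pullback.snd pU pU = β ≫ pullback.fst pU pU) :
    pullback.lift α β h ≫ pairC pU ≫ pullback.snd pU pU = β ≫ pullback.snd pU pU := by
  rw [pairC_snd, ← Category.assoc, pullback.lift_snd]

/-- the pair groupoid `U ×_S U ⇉ U` -/
noncomputable def pairGrpd : Grpd.GroupoidScheme S where
  U := U
  R := pullback pU pU
  pU := pU
  pR := pullback.fst pU pU ≫ pU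
  s := pullback.snd pU pU
  t := pullback.fst pU pU
  e := pullback.lift (𝟙 U) (𝟙 U) rfl
  i := pullback.lift (pullback.snd pU pU) (pullback.fst pU pU) pullback.condition.symm
  c := pairC pU
  s_over := pullback.condition.symm
  t_over := rfl
  comp_s := fun α β h => by
    simp only [Category.assoc, lift_pairC_snd]
  comp_t := fun α β h => by
    simp only [Category.assoc, lift_pairC_fst]
  assoc := fun α β γ h₁ h₂ => by
    apply pullback.hom_ext
    · simp only [Category.assoc, lift_pairC_fst]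
    · simp only [Category.assoc, lift_pairC_snd]
  e_s := pullback.lift_snd _ _ _
  e_t := pullback.lift_fst _ _ _
  comp_e := fun α => by
    apply pullback.hom_ext
    · simp only [Category.assoc, lift_pairC_fst]
    · simp only [Category.assoc, lift_pairC_snd, pullback.lift_snd, Category.comp_id]
  e_comp := fun α => by
    apply pullback.hom_ext
    · simp only [Category.assoc, lift_pairC_fst, pullback.lift_fst, Category.comp_id]
    · simp only [Category.assoc, lift_pairC_snd]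
  i_s := pullback.lift_snd _ _ _
  i_t := pullback.lift_fst _ _ _
  comp_i := fun α => by
    apply pullback.hom_ext
    · simp only [Category.assoc, lift_pairC_fst, pullback.lift_fst, Category.comp_id]
    · simp only [Category.assoc, lift_pairC_snd, pullback.lift_snd, Category.comp_id]
  i_comp := fun α => by
    apply pullback.hom_ext
    · simp only [Category.assoc, lift_pairC_fst, pullback.lift_fst, Category.comp_id]
    · simp only [Category.assoc, lift_pairC_snd, pullback.lift_snd, Category.comp_id]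

end Pair

variable {S : Scheme.{u}}

theorem j_fst' (G : Grpd.GroupoidScheme S) : G.j ≫ pullback.fst G.pU G.pU = G.t := by
  unfold Grpd.GroupoidScheme.j
  exact pullback.lift_fst _ _ _

theorem j_snd' (G : Grpd.GroupoidScheme S) : G.j ≫ pullback.snd G.pU G.pU = G.s := by
  unfold Grpd.GroupoidScheme.j
  exact pullback.lift_snd _ _ _

/-- `j` as a morphism of groupoids to the pair groupoid -/
noncomputable def jHom (G : Grpd.GroupoidScheme S) :
    Grpd.GroupoidScheme.Hom G (pairGrpd G.pU) where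
  fU := 𝟙 G.U
  fR := G.j
  fU_over := Category.id_comp _
  comm_s := (j_snd' G).trans (Category.comp_id _).symm
  comm_t := (j_fst' G).trans (Category.comp_id _).symm
  comm_c := fun α β h => by
    have hcond : (α ≫ G.j) ≫ pullback.snd G.pU G.pU = (β ≫ G.j) ≫ pullback.fst G.pU G.pU := by
      rw [Category.assoc, Category.assoc, j_snd' G, j_fst' G]; exact h
    apply pullback.hom_ext
    · have h1 : (pullback.lift α β h ≫ G.c) ≫ G.t = α ≫ G.t := G.comp_t α β h
      have h2 := lift_pairC_fst G.pU (α ≫ G.j) (β ≫ G.j) hcond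
      have lhs : ((pullback.lift α β h ≫ G.c) ≫ G.j) ≫ pullback.fst G.pU G.pU = α ≫ G.t := by
        rw [Category.assoc, j_fst' G, h1]
      have rhs : (pullback.lift (α ≫ G.j) (β ≫ G.j) hcond ≫ pairC G.pU) ≫
          pullback.fst G.pU G.pU = α ≫ G.t := by
        rw [Category.assoc, h2, Category.assoc, j_fst' G]
      exact lhs.trans rhs.symm
    · have h1 : (pullback.lift α β h ≫ G.c) ≫ G.s = β ≫ G.s := G.comp_s α β h
      have h2 := lift_pairC_snd G.pU (α ≫ G.j) (β ≫ G.j) hcond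
      have lhs : ((pullback.lift α β h ≫ G.c) ≫ G.j) ≫ pullback.snd G.pU G.pU = β ≫ G.s := by
        rw [Category.assoc, j_snd' G, h1]
      have rhs : (pullback.lift (α ≫ G.j) (β ≫ G.j) hcond ≫ pairC G.pU) ≫
          pullback.snd G.pU G.pU = β ≫ G.s := by
        rw [Category.assoc, h2, Category.assoc, j_snd' G]
      exact lhs.trans rhs.symm


set_option maxHeartbeats 4000000 in
/-- the groupoid on the scheme-theoretic image, together with the factorization -/
theorem exists_image_groupoid {G₁ G₂ : Grpd.GroupoidScheme S}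
    (f : Grpd.GroupoidScheme.Hom G₁ G₂) [IsIso f.fU] [QuasiCompact f.fR] (k : Type u) [Field k]
    (eU : G₂.U ≅ Spec (CommRingCat.of k)) :
    ∃ (G' : Grpd.GroupoidScheme S) (ψ : Grpd.GroupoidScheme.Hom G' G₂)
      (φ : Grpd.GroupoidScheme.Hom G₁ G'),
      IsIso ψ.fU ∧ IsClosedImmersion ψ.fR ∧ ψ.fR.ker = f.fR.ker ∧ φ.fU ≫ ψ.fU = f.fU ∧
        φ.fR ≫ ψ.fR = f.fR ∧ IsSchemeTheoreticallyDominant φ.fR := by
  obtain ⟨hint, hsubs⟩ := Groth.Agent.S1889.Aux.field_base G₂ k eU
  haveI := hint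
  haveI := hsubs
  obtain ⟨j, hj⟩ : ∃ j : f.fR.image ⟶ G₂.R, j = f.fR.imageι := ⟨_, rfl⟩
  obtain ⟨π, hπ⟩ : ∃ π : G₁.R ⟶ f.fR.image, π = f.fR.toImage := ⟨_, rfl⟩
  have hπj : π ≫ j = f.fR := by rw [hπ, hj]; exact f.fR.toImage_imageι
  haveI : IsClosedImmersion j := by rw [hj]; infer_instance
  haveI : IsSchemeTheoreticallyDominant π := by
    rw [hπ]; exact Groth.Agent.Lib.Helper4.SchImg1.isSchemeTheoreticallyDominant_toImage f.fR
  haveI : QuasiCompact π := by rw [hπ]; infer_instance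
  obtain ⟨s', hs'⟩ : ∃ s' : f.fR.image ⟶ G₂.U, s' = j ≫ G₂.s := ⟨_, rfl⟩
  obtain ⟨t', ht'⟩ : ∃ t' : f.fR.image ⟶ G₂.U, t' = j ≫ G₂.t := ⟨_, rfl⟩
  have hs : s' ≫ 𝟙 G₂.U = j ≫ G₂.s := by rw [Category.comp_id, hs']
  have ht : t' ≫ 𝟙 G₂.U = j ≫ G₂.t := by rw [Category.comp_id, ht']
  have hπs : π ≫ s' = G₁.s ≫ f.fU := by
    rw [hs', ← Category.assoc, hπj, f.comm_s]
  have hπt : π ≫ t' = G₁.t ≫ f.fU := by
    rw [ht', ← Category.assoc, hπj, f.comm_t]
  -- the unit
  obtain ⟨e', he'⟩ : ∃ e' : G₂.U ⟶ f.fR.image, e' = inv f.fU ≫ G₁.e ≫ π := ⟨_, rfl⟩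
  have he : e' ≫ j = 𝟙 G₂.U ≫ G₂.e := by
    rw [he', Category.assoc, Category.assoc, hπj, Groth.Agent.S1891.Aux.hom_e,
      IsIso.inv_hom_id_assoc, Category.id_comp]
  -- the inverse
  obtain ⟨i', hi⟩ : ∃ i' : f.fR.image ⟶ f.fR.image, i' ≫ j = j ≫ G₂.i := by
    refine exists_lift_of_schDominant j π (j ≫ G₂.i) (G₁.i ≫ π) ?_
    rw [← Category.assoc, hπj, Category.assoc, hπj, Groth.Agent.S1891.Aux.hom_i]
  -- the composition
  haveI : Flat s' := inferInstance
  haveI : Flat (π ≫ t') := inferInstance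
  obtain ⟨m₁, hm₁⟩ : ∃ m₁ : pullback (π ≫ s') (π ≫ t') ⟶ pullback s' (π ≫ t'),
      m₁ = pullback.map (π ≫ s') (π ≫ t') s' (π ≫ t') π (𝟙 _) (𝟙 _) (by simp) (by simp) :=
    ⟨_, rfl⟩
  obtain ⟨m₂, hm₂⟩ : ∃ m₂ : pullback s' (π ≫ t') ⟶ pullback s' t',
      m₂ = pullback.map s' (π ≫ t') s' t' (𝟙 _) π (𝟙 _) (by simp) (by simp) := ⟨_, rfl⟩
  haveI : IsSchemeTheoreticallyDominant m₁ := by
    rw [hm₁]; exact schDominant_map_left π s' (π ≫ t')
  haveI : IsSchemeTheoreticallyDominant m₂ := by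
    rw [hm₂]; exact schDominant_map_right π t' s'
  have hm₁f : m₁ ≫ pullback.fst s' (π ≫ t') = pullback.fst (π ≫ s') (π ≫ t') ≫ π := by
    rw [hm₁]; exact pullback.lift_fst _ _ _
  have hm₁s : m₁ ≫ pullback.snd s' (π ≫ t') = pullback.snd (π ≫ s') (π ≫ t') := by
    rw [hm₁]; exact (pullback.lift_snd _ _ _).trans (Category.comp_id _)
  have hm₂f : m₂ ≫ pullback.fst s' t' = pullback.fst s' (π ≫ t') := by
    rw [hm₂]; exact (pullback.lift_fst _ _ _).trans (Category.comp_id _)
  have hm₂s : m₂ ≫ pullback.snd s' t' = pullback.snd s' (π ≫ t') ≫ π := by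
    rw [hm₂]; exact pullback.lift_snd _ _ _
  have hcond : pullback.fst (π ≫ s') (π ≫ t') ≫ G₁.s = pullback.snd (π ≫ s') (π ≫ t') ≫ G₁.t := by
    rw [← cancel_mono f.fU, Category.assoc, Category.assoc, ← hπs, ← hπt]
    exact pullback.condition
  obtain ⟨c', hc⟩ : ∃ c' : pullback s' t' ⟶ f.fR.image,
      c' ≫ j = pullback.map s' t' G₂.s G₂.t j j (𝟙 G₂.U) hs ht ≫ G₂.c := by
    refine exists_lift_of_schDominant j (m₁ ≫ m₂)
      (pullback.map s' t' G₂.s G₂.t j j (𝟙 G₂.U) hs ht ≫ G₂.c)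
      (pullback.lift (pullback.fst (π ≫ s') (π ≫ t')) (pullback.snd (π ≫ s') (π ≫ t')) hcond ≫
        G₁.c ≫ π) ?_
    have h1 := f.comm_c (pullback.fst (π ≫ s') (π ≫ t')) (pullback.snd (π ≫ s') (π ≫ t')) hcond
    have hR : (pullback.lift (pullback.fst (π ≫ s') (π ≫ t')) (pullback.snd (π ≫ s') (π ≫ t'))
        hcond ≫ G₁.c ≫ π) ≫ j =
        (pullback.lift (pullback.fst (π ≫ s') (π ≫ t')) (pullback.snd (π ≫ s') (π ≫ t'))
          hcond ≫ G₁.c) ≫ f.fR := by
      simp only [Category.assoc, hπj]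
    rw [hR, h1, ← Category.assoc]
    congr 1
    apply pullback.hom_ext
    · rw [Category.assoc, Category.assoc, pullback.lift_fst, pullback.lift_fst,
        ← Category.assoc m₂, hm₂f, ← Category.assoc, hm₁f, Category.assoc, hπj]
    · rw [Category.assoc, Category.assoc, pullback.lift_snd, pullback.lift_snd,
        ← Category.assoc m₂, hm₂s, ← Category.assoc, ← Category.assoc, hm₁s, Category.assoc, hπj]
  refine ⟨sub G₂ (𝟙 G₂.U) j s' t' hs ht e' he i' hi c' hc,
    { fU := 𝟙 G₂.U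
      fR := j
      fU_over := rfl
      comm_s := hs.symm
      comm_t := ht.symm
      comm_c := fun α β h => sub_comp_ι G₂ (𝟙 G₂.U) j s' t' hs ht c' hc α β h },
    { fU := f.fU
      fR := π
      fU_over := by
        show f.fU ≫ 𝟙 G₂.U ≫ G₂.pU = G₁.pU
        rw [Category.id_comp, f.fU_over]
      comm_s := hπs
      comm_t := hπt
      comm_c := fun α β h => by
        have hαβ : (α ≫ π) ≫ s' = (β ≫ π) ≫ t' := by
          rw [Category.assoc, Category.assoc, hπs, hπt, ← Category.assoc, ← Category.assoc, h]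
        have h1 := sub_comp_ι G₂ (𝟙 G₂.U) j s' t' hs ht c' hc (α ≫ π) (β ≫ π) hαβ
        have h2 := f.comm_c α β h
        have h3 : ((pullback.lift α β h ≫ G₁.c) ≫ π) ≫ j =
            (pullback.lift α β h ≫ G₁.c) ≫ f.fR := by
          rw [Category.assoc, hπj]
        have key : ((pullback.lift α β h ≫ G₁.c) ≫ π) ≫ j =
            (pullback.lift (α ≫ π) (β ≫ π) hαβ ≫ c') ≫ j := by
          refine h3.trans (h2.trans ?_)
          refine Eq.trans ?_ h1.symm
          show pullback.lift (α ≫ f.fR) (β ≫ f.fR) _ ≫ G₂.c =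
            pullback.lift ((α ≫ π) ≫ j) ((β ≫ π) ≫ j) _ ≫ G₂.c
          congr 1
          apply pullback.hom_ext
          · rw [pullback.lift_fst, pullback.lift_fst, Category.assoc, hπj]
          · rw [pullback.lift_snd, pullback.lift_snd, Category.assoc, hπj]
        exact (cancel_mono j).mp key },
    inferInstanceAs (IsIso (𝟙 G₂.U)), ‹IsClosedImmersion j›, ?_, Category.comp_id _, hπj,
    ‹IsSchemeTheoreticallyDominant π›⟩
  show j.ker = f.fR.ker
  rw [hj]
  exact Scheme.IdealSheafData.ker_subschemeι _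

set_option maxHeartbeats 4000000 in
theorem main7509 (G : Grpd.GroupoidScheme S) (k : Type u) [Field k]
    (eU : G.U ≅ Spec (CommRingCat.of k)) [CompactSpace G.R] :
    ∃ (G' : Grpd.GroupoidScheme S) (φ : Grpd.GroupoidScheme.Hom G G'), IsIso φ.fU ∧
      IsClosedImmersion G'.j ∧
      G'.j.ker = (G.j ≫ pullback.map G.pU G.pU G'.pU G'.pU φ.fU φ.fU (𝟙 S)
        ((Category.comp_id _).trans φ.fU_over.symm)
        ((Category.comp_id _).trans φ.fU_over.symm)).ker := by
  haveI : IsAffine G.U := IsAffine.of_isIso eU.hom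
  haveI : QuasiSeparatedSpace ↥(pullback G.pU G.pU) :=
    quasiSeparatedSpace_of_quasiSeparated (pullback.fst G.pU G.pU)
  haveI : QuasiCompact (jHom G).fR := inferInstanceAs (QuasiCompact G.j)
  haveI : IsIso (jHom G).fU := inferInstanceAs (IsIso (𝟙 G.U))
  obtain ⟨G', ψ, φ, hψU, hψR, -, hU, hR, hdom⟩ := exists_image_groupoid (jHom G) k eU
  haveI := hdom
  obtain ⟨ψU, hψUdef⟩ : ∃ ψU : G'.U ⟶ G.U, ψU = ψ.fU := ⟨_, rfl⟩
  obtain ⟨ψR, hψRdef⟩ : ∃ ψR : G'.R ⟶ pullback G.pU G.pU, ψR = ψ.fR := ⟨_, rfl⟩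
  haveI : IsIso ψU := by rw [hψUdef]; exact hψU
  haveI : IsClosedImmersion ψR := by rw [hψRdef]; exact hψR
  have hU1 : φ.fU ≫ ψU = 𝟙 G.U := by rw [hψUdef]; exact hU
  have hR' : φ.fR ≫ ψR = G.j := by rw [hψRdef]; exact hR
  have hψover : ψU ≫ G.pU = G'.pU := by rw [hψUdef]; exact ψ.fU_over
  have hψt : ψR ≫ pullback.fst G.pU G.pU = G'.t ≫ ψU := by
    rw [hψUdef, hψRdef]; exact ψ.comm_t
  have hψs : ψR ≫ pullback.snd G.pU G.pU = G'.s ≫ ψU := by
    rw [hψUdef, hψRdef]; exact ψ.comm_s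
  clear hψUdef hψRdef hU hR hψU hψR
  have hφinv : φ.fU = inv ψU := by
    rw [← cancel_mono ψU, hU1, IsIso.inv_hom_id]
  have hU2 : ψU ≫ φ.fU = 𝟙 G'.U := by rw [hφinv, IsIso.hom_inv_id]
  have hφiso : IsIso φ.fU := by rw [hφinv]; infer_instance
  obtain ⟨Θ, hΘ1, hΘ2⟩ : ∃ Θ : pullback G'.pU G'.pU ⟶ pullback G.pU G.pU,
      Θ ≫ pullback.fst G.pU G.pU = pullback.fst G'.pU G'.pU ≫ ψU ∧
      Θ ≫ pullback.snd G.pU G.pU = pullback.snd G'.pU G'.pU ≫ ψU :=
    ⟨pullback.map G'.pU G'.pU G.pU G.pU ψU ψU (𝟙 S)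
      ((Category.comp_id _).trans hψover.symm) ((Category.comp_id _).trans hψover.symm),
      pullback.lift_fst _ _ _, pullback.lift_snd _ _ _⟩
  obtain ⟨M, hM⟩ : ∃ M : pullback G.pU G.pU ⟶ pullback G'.pU G'.pU,
      M = pullback.map G.pU G.pU G'.pU G'.pU φ.fU φ.fU (𝟙 S)
        ((Category.comp_id _).trans φ.fU_over.symm)
        ((Category.comp_id _).trans φ.fU_over.symm) := ⟨_, rfl⟩
  have hM1 : M ≫ pullback.fst G'.pU G'.pU = pullback.fst G.pU G.pU ≫ φ.fU := by
    rw [hM]; exact pullback.lift_fst _ _ _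
  have hM2 : M ≫ pullback.snd G'.pU G'.pU = pullback.snd G.pU G.pU ≫ φ.fU := by
    rw [hM]; exact pullback.lift_snd _ _ _
  have hΘM : Θ ≫ M = 𝟙 _ := by
    apply pullback.hom_ext
    · rw [Category.assoc, hM1, ← Category.assoc, hΘ1, Category.assoc, hU2, Category.comp_id,
        Category.id_comp]
    · rw [Category.assoc, hM2, ← Category.assoc, hΘ2, Category.assoc, hU2, Category.comp_id,
        Category.id_comp]
  have hMΘ : M ≫ Θ = 𝟙 _ := by
    apply pullback.hom_ext
    · rw [Category.assoc, hΘ1, ← Category.assoc, hM1, Category.assoc, hU1, Category.comp_id,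
        Category.id_comp]
    · rw [Category.assoc, hΘ2, ← Category.assoc, hM2, Category.assoc, hU1, Category.comp_id,
        Category.id_comp]
  haveI : IsIso M := ⟨⟨Θ, hMΘ, hΘM⟩⟩
  have hψΘ : ψR = G'.j ≫ Θ := by
    apply pullback.hom_ext
    · rw [hψt, Category.assoc, hΘ1, ← Category.assoc, j_fst']
    · rw [hψs, Category.assoc, hΘ2, ← Category.assoc, j_snd']
  have hj' : G'.j = ψR ≫ M := by
    rw [hψΘ, Category.assoc, hΘM, Category.comp_id]
  refine ⟨G', φ, hφiso, ?_, ?_⟩
  · rw [hj']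
    infer_instance
  · rw [← hM]
    have h1 : G.j ≫ M = φ.fR ≫ G'.j := by
      rw [hj', ← Category.assoc, hR']
    rw [h1, Scheme.Hom.ker_comp, φ.fR.ker_eq_bot, Scheme.IdealSheafData.map_bot]

end Groth.Agent.Lead.GrpdImg
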