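import Mathlib
import Groth.Prelude
import Groth.Agent.S7462
import Groth.Agent.Lib.Lead.GrpdImg2
import Groth.Agent.Lib.Helper2.GeomRed.VanBC
import Groth.Agent.Lib.Helper3.GeomReducedProd
import Groth.Agent.Lib.Helper4.GRedSub1

/-!
# The reduced closed subgroupoid on the closure of the image, over a perfect field (lead)
-/

set_option autoImplicit false
set_option backward.isDefEq.respectTransparency.types false
set_option synthInstance.maxHeartbeats 400000
set_option maxHeartbeats 1000000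
set_option linter.style.haveILetI false
set_option linter.unusedSectionVars false
universe u

open AlgebraicGeometry CategoryTheory CategoryTheory.Limits

namespace Groth.Agent.Lead.GrpdImg

open Groth.Agent.Lib.Helper4.GrpdSub1 Groth.Agent.Lib.Helper4.SchClosGrp1

variable {S : Scheme.{u}}

set_option maxHeartbeats 4000000 in
/-- the reduced closed subgroupoid on the closure of the image, with the factorization when the
source is reduced -/
theorem exists_closure_groupoid {G₁ G₂ : Grpd.GroupoidScheme S}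
    (f : Grpd.GroupoidScheme.Hom G₁ G₂) [IsIso f.fU] (k : Type u) [Field k] [PerfectField k]
    (eU : G₂.U ≅ Spec (CommRingCat.of k)) :
    ∃ (G' : Grpd.GroupoidScheme S) (ψ : Grpd.GroupoidScheme.Hom G' G₂),
      IsIso ψ.fU ∧ IsClosedImmersion ψ.fR ∧ IsReduced G'.R ∧
        Set.range ⇑ψ.fR = closure (Set.range ⇑f.fR) := by
  obtain ⟨hint, hsubs⟩ := Groth.Agent.S1889.Aux.field_base G₂ k eU
  haveI := hint
  haveI := hsubs
  obtain ⟨C, hC⟩ : ∃ C : TopologicalSpace.Closeds G₂.R,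
    (C : Set G₂.R) = closure (Set.range ⇑f.fR) := ⟨⟨_, isClosed_closure⟩, rfl⟩
  obtain ⟨Z, j, hjcl, hZred, hjker, hjrange⟩ : ∃ (Z : Scheme.{u}) (j : Z ⟶ G₂.R),
      IsClosedImmersion j ∧ IsReduced Z ∧ j.ker = Scheme.IdealSheafData.vanishingIdeal C ∧
        Set.range ⇑j = closure (Set.range ⇑f.fR) := by
    refine ⟨(Scheme.IdealSheafData.vanishingIdeal C).subscheme,
      (Scheme.IdealSheafData.vanishingIdeal C).subschemeι, inferInstance,
      Groth.Agent.Helper2.GeomRed.isReduced_vanishingIdeal_subscheme C,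
      Scheme.IdealSheafData.ker_subschemeι _, ?_⟩
    rw [Scheme.IdealSheafData.range_subschemeι, Scheme.IdealSheafData.coe_support_vanishingIdeal,
      hC]
  haveI := hjcl
  haveI := hZred
  have hjmem : ∀ z, j z ∈ closure (Set.range ⇑f.fR) := fun z => hjrange ▸ ⟨z, rfl⟩
  -- lifting property
  have hlift : ∀ {T : Scheme.{u}} [IsReduced T] (g : T ⟶ G₂.R),
      (∀ x, g x ∈ closure (Set.range ⇑f.fR)) → ∃ l : T ⟶ Z, l ≫ j = g := by
    intro T _ g hg
    have hker : j.ker ≤ g.ker := by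
      rw [hjker]
      refine Groth.Agent.Helper2.GeomRed.vanishingIdeal_le_ker_of_isReduced g C ?_
      rintro _ ⟨x, rfl⟩
      rw [hC]
      exact hg x
    exact ⟨IsClosedImmersion.lift j g hker, IsClosedImmersion.lift_fac j g hker⟩
  obtain ⟨s', hs'⟩ : ∃ s' : Z ⟶ G₂.U, s' = j ≫ G₂.s := ⟨_, rfl⟩
  obtain ⟨t', ht'⟩ : ∃ t' : Z ⟶ G₂.U, t' = j ≫ G₂.t := ⟨_, rfl⟩
  have hs : s' ≫ 𝟙 G₂.U = j ≫ G₂.s := by rw [Category.comp_id, hs']
  have ht : t' ≫ 𝟙 G₂.U = j ≫ G₂.t := by rw [Category.comp_id, ht']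
  -- the unit
  have he2 : G₂.e = inv f.fU ≫ G₁.e ≫ f.fR := by
    rw [Groth.Agent.S1891.Aux.hom_e, IsIso.inv_hom_id_assoc]
  obtain ⟨e', he0⟩ := hlift G₂.e (by
    intro x
    apply subset_closure
    rw [he2]
    exact ⟨_, rfl⟩)
  have he : e' ≫ j = 𝟙 G₂.U ≫ G₂.e := by rw [he0, Category.id_comp]
  -- the inverse
  obtain ⟨i', hi⟩ := hlift (j ≫ G₂.i) (by
    intro z
    rw [Scheme.Hom.comp_apply]
    exact Groth.Agent.S1892.Aux.inv_mem f _ (hjmem z))
  -- the composition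
  haveI : IsReduced (pullback s' t') := by
    haveI : GeometricallyReduced (s' ≫ eU.hom) :=
      Groth.Agent.Lib.Helper4.GRedSub1.geometricallyReduced_of_perfect _
    haveI : IsReduced (pullback (s' ≫ eU.hom) (t' ≫ eU.hom)) :=
      Groth.Agent.Helper3.isReduced_pullback_of_geometricallyReduced _ _
    haveI : IsIso (pullback.mapDesc s' t' eU.hom) := isIso_mapDesc_of_mono s' t' eU.hom
    exact isReduced_of_isOpenImmersion (pullback.mapDesc s' t' eU.hom)
  obtain ⟨c', hc⟩ := hlift (pullback.map s' t' G₂.s G₂.t j j (𝟙 G₂.U) hs ht ≫ G₂.c) (by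
    intro p
    rw [Scheme.Hom.comp_apply]
    refine Groth.Agent.S7462.result S G₁ G₂ f k eU _ ?_ ?_
    · rw [← Scheme.Hom.comp_apply, pullback.lift_fst, Scheme.Hom.comp_apply]
      exact hjmem _
    · rw [← Scheme.Hom.comp_apply, pullback.lift_snd, Scheme.Hom.comp_apply]
      exact hjmem _)
  refine ⟨sub G₂ (𝟙 G₂.U) j s' t' hs ht e' he i' hi c' hc,
    { fU := 𝟙 G₂.U
      fR := j
      fU_over := rfl
      comm_s := hs.symm
      comm_t := ht.symm
      comm_c := fun α β h => sub_comp_ι G₂ (𝟙 G₂.U) j s' t' hs ht c' hc α β h },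
    inferInstanceAs (IsIso (𝟙 G₂.U)), hjcl, hZred, hjrange⟩

theorem main7491 {G₁ G₂ : Grpd.GroupoidScheme S}
    (f : Grpd.GroupoidScheme.Hom G₁ G₂) [IsIso f.fU] (k : Type u) [Field k] [PerfectField k]
    (eU : G₂.U ≅ Spec (CommRingCat.of k)) :
    ∃ (G' : Grpd.GroupoidScheme S) (ψ : Grpd.GroupoidScheme.Hom G' G₂),
      IsIso ψ.fU ∧ IsClosedImmersion ψ.fR ∧ IsReduced G'.R ∧
        Set.range ⇑ψ.fR = closure (Set.range ⇑f.fR) := by
  exact exists_closure_groupoid f k eU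

set_option maxHeartbeats 4000000 in
theorem main7503 (G : Grpd.GroupoidScheme S) (k : Type u) [Field k] [PerfectField k]
    (eU : G.U ≅ Spec (CommRingCat.of k)) :
    ∃ (G' : Grpd.GroupoidScheme S) (ψ : G'.U ≅ G.U) (hψ : ψ.hom ≫ G.pU = G'.pU),
      IsReduced G'.R ∧ IsClosedImmersion G'.j ∧
      Set.range ⇑(G'.j ≫ pullback.map G'.pU G'.pU G.pU G.pU ψ.hom ψ.hom (𝟙 S)
        ((Category.comp_id _).trans hψ.symm) ((Category.comp_id _).trans hψ.symm)) =
        closure (Set.range ⇑G.j) := by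
  haveI : IsIso (jHom G).fU := inferInstanceAs (IsIso (𝟙 G.U))
  obtain ⟨G', ψ', hψU, hψR, hred, hrange⟩ := exists_closure_groupoid (jHom G) k eU
  obtain ⟨ψU, hψUdef⟩ : ∃ ψU : G'.U ⟶ G.U, ψU = ψ'.fU := ⟨_, rfl⟩
  obtain ⟨ψR, hψRdef⟩ : ∃ ψR : G'.R ⟶ pullback G.pU G.pU, ψR = ψ'.fR := ⟨_, rfl⟩
  haveI : IsIso ψU := by rw [hψUdef]; exact hψU
  haveI : IsClosedImmersion ψR := by rw [hψRdef]; exact hψR
  have hrange' : Set.range ⇑ψR = closure (Set.range ⇑G.j) := by rw [hψRdef]; exact hrange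
  have hψover : ψU ≫ G.pU = G'.pU := by rw [hψUdef]; exact ψ'.fU_over
  have hψt : ψR ≫ pullback.fst G.pU G.pU = G'.t ≫ ψU := by
    rw [hψUdef, hψRdef]; exact ψ'.comm_t
  have hψs : ψR ≫ pullback.snd G.pU G.pU = G'.s ≫ ψU := by
    rw [hψUdef, hψRdef]; exact ψ'.comm_s
  clear hψUdef hψRdef hrange hψU hψR
  have hinvover : inv ψU ≫ G'.pU = G.pU := by
    rw [← hψover, IsIso.inv_hom_id_assoc]
  obtain ⟨Θ, hΘdef⟩ : ∃ Θ : pullback G'.pU G'.pU ⟶ pullback G.pU G.pU,
      Θ = pullback.map G'.pU G'.pU G.pU G.pU ψU ψU (𝟙 S)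
        ((Category.comp_id _).trans hψover.symm) ((Category.comp_id _).trans hψover.symm) :=
    ⟨_, rfl⟩
  have hΘ1 : Θ ≫ pullback.fst G.pU G.pU = pullback.fst G'.pU G'.pU ≫ ψU := by
    rw [hΘdef]; exact pullback.lift_fst _ _ _
  have hΘ2 : Θ ≫ pullback.snd G.pU G.pU = pullback.snd G'.pU G'.pU ≫ ψU := by
    rw [hΘdef]; exact pullback.lift_snd _ _ _
  obtain ⟨M, hM1, hM2⟩ : ∃ M : pullback G.pU G.pU ⟶ pullback G'.pU G'.pU,
      M ≫ pullback.fst G'.pU G'.pU = pullback.fst G.pU G.pU ≫ inv ψU ∧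
      M ≫ pullback.snd G'.pU G'.pU = pullback.snd G.pU G.pU ≫ inv ψU :=
    ⟨pullback.map G.pU G.pU G'.pU G'.pU (inv ψU) (inv ψU) (𝟙 S)
      ((Category.comp_id _).trans hinvover.symm) ((Category.comp_id _).trans hinvover.symm),
      pullback.lift_fst _ _ _, pullback.lift_snd _ _ _⟩
  have hΘM : Θ ≫ M = 𝟙 _ := by
    apply pullback.hom_ext
    · rw [Category.assoc, hM1, ← Category.assoc, hΘ1, Category.assoc, IsIso.hom_inv_id,
        Category.comp_id, Category.id_comp]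
    · rw [Category.assoc, hM2, ← Category.assoc, hΘ2, Category.assoc, IsIso.hom_inv_id,
        Category.comp_id, Category.id_comp]
  have hMΘ : M ≫ Θ = 𝟙 _ := by
    apply pullback.hom_ext
    · rw [Category.assoc, hΘ1, ← Category.assoc, hM1, Category.assoc, IsIso.inv_hom_id,
        Category.comp_id, Category.id_comp]
    · rw [Category.assoc, hΘ2, ← Category.assoc, hM2, Category.assoc, IsIso.inv_hom_id,
        Category.comp_id, Category.id_comp]
  haveI : IsIso M := ⟨⟨Θ, hMΘ, hΘM⟩⟩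
  have hψΘ : ψR = G'.j ≫ Θ := by
    apply pullback.hom_ext
    · rw [hψt, Category.assoc, hΘ1, ← Category.assoc, j_fst']
    · rw [hψs, Category.assoc, hΘ2, ← Category.assoc, j_snd']
  have hj' : G'.j = ψR ≫ M := by
    rw [hψΘ, Category.assoc, hΘM, Category.comp_id]
  refine ⟨G', asIso ψU, hψover, hred, ?_, ?_⟩
  · rw [hj']
    infer_instance
  · show Set.range ⇑(G'.j ≫ pullback.map G'.pU G'.pU G.pU G.pU ψU ψU (𝟙 S) _ _) = _
    rw [← hΘdef, ← hψΘ]
    exact hrange'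

end Groth.Agent.Lead.GrpdImg
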