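import Mathlib
import Groth.Prelude
import Groth.Agent.Lib.Helper8.Depth7
import Groth.Agent.Lib.Lead.RelReg5
import Groth.Agent.Lib.Helper5.SmFib.LocQuot
import Groth.Agent.Lib.Helper6.FiltBl.FBc
import Groth.Agent.Lib.Lead.CMAt1

/-!
# Slicing groupoids, ring-level part (lead)
-/

set_option autoImplicit false
set_option backward.isDefEq.respectTransparency.types false
set_option synthInstance.maxHeartbeats 400000
set_option maxHeartbeats 1000000
set_option linter.style.haveILetI false
set_option linter.unusedSectionVars false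
universe u

namespace Groth.Agent.Lead.GrpdSlice

open IsLocalRing

/-- prime avoidance in a Cohen–Macaulay local ring: if the quotient by the ideal generated by the
image of `P` has smaller dimension, some element of `P` maps to a nonzerodivisor -/
theorem exists_nzd_of_dim_lt (C : Type u) [CommRing C] [LocCoh.IsCohenMacaulayLocalRing C]
    {A : Type u} [CommRing A] (P : Ideal A) (τ : A →+* C)
    (hdim : ringKrullDim (C ⧸ P.map τ) < ringKrullDim C) :
    ∃ f ∈ P, τ f ∈ nonZeroDivisors C := by
  classical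
  by_contra hcon
  have hcon' : ∀ f ∈ P, τ f ∉ nonZeroDivisors C := fun f hf h => hcon ⟨f, hf, h⟩
  have hfin : (associatedPrimes C C).Finite := associatedPrimes.finite C C
  have hsub : (P : Set A) ⊆ ⋃ p ∈ (↑hfin.toFinset : Set (Ideal C)), (p.comap τ : Ideal A) := by
    intro f hf
    have h1 : τ f ∈ (⋃ p ∈ associatedPrimes C C, (p : Set C)) := by
      rw [biUnion_associatedPrimes_eq_compl_nonZeroDivisors]
      exact hcon' f hf
    simp only [Set.mem_iUnion] at h1
    obtain ⟨p, hp, hfp⟩ := h1
    simp only [Set.mem_iUnion]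
    exact ⟨p, by simpa using hp, hfp⟩
  have hprime : ∀ p ∈ hfin.toFinset, p ≠ (⊥ : Ideal C) → p ≠ (⊥ : Ideal C) →
      (p.comap τ).IsPrime := by
    intro p hp _ _
    have hp' : p ∈ associatedPrimes C C := by simpa using hp
    haveI : p.IsPrime := hp'.isPrime
    exact Ideal.comap_isPrime τ p
  obtain ⟨p, hp, hPp⟩ := (Ideal.subset_union_prime (f := fun p : Ideal C => p.comap τ)
    (⊥ : Ideal C) (⊥ : Ideal C) hprime).mp hsub
  have hp' : p ∈ associatedPrimes C C := by simpa using hp
  have hle : P.map τ ≤ p := Ideal.map_le_iff_le_comap.mpr hPp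
  have h1 := Groth.Agent.Helper8.Depth.depth_le_dim_quotient_associatedPrime (A := C) (M := C) p hp'
  rw [← LocCoh.IsCohenMacaulayLocalRing.supportDim_eq_depth,
    Module.supportDim_self_eq_ringKrullDim] at h1
  have h2 : ringKrullDim (C ⧸ p) ≤ ringKrullDim (C ⧸ P.map τ) :=
    ringKrullDim_le_of_surjective (Ideal.Quotient.factor hle) (Ideal.Quotient.factor_surjective hle)
  exact absurd (h1.trans h2) (not_le.mpr hdim)


section Core

variable (A B : Type u) [CommRing A] [CommRing B] [Algebra A B] [Algebra.FinitePresentation A B]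
  (τ : A →+* B) (Q : Ideal B) [Q.IsPrime]

/-- the ring-level core of the slicing lemma -/
theorem core (hτ : Q.comap τ = Q.comap (algebraMap A B))
    (hfl : Module.Flat A (LocalizedModule Q.primeCompl B))
    (hCM : LocCoh.IsCohenMacaulayLocalRing (EGA4.FibLocRing A B Q))
    (hdim : ringKrullDim (EGA4.FibLocRing A B Q ⧸
      (Q.comap (algebraMap A B)).map ((algebraMap B (EGA4.FibLocRing A B Q)).comp τ)) <
        ringKrullDim (EGA4.FibLocRing A B Q)) :
    ∃ f ∈ Q.comap (algebraMap A B),
      algebraMap B (EGA4.FibLocRing A B Q) (τ f) ∈ nonZeroDivisors (EGA4.FibLocRing A B Q) ∧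
      ∃ g : B, g ∉ Q ∧ ∀ T : Submonoid B, g ∈ T →
        (IsSMulRegular (LocalizedModule T B) (τ f) ∧
          Module.Flat A (QuotSMulTop (τ f) (LocalizedModule T B))) := by
  haveI : Q.LiesOver (Q.comap (algebraMap A B)) := ⟨rfl⟩
  haveI : (Q.comap (algebraMap A B)).IsPrime := Ideal.comap_isPrime _ _
  obtain ⟨f, hfP, hnzd⟩ := exists_nzd_of_dim_lt (EGA4.FibLocRing A B Q)
    (Q.comap (algebraMap A B)) ((algebraMap B (EGA4.FibLocRing A B Q)).comp τ) hdim
  refine ⟨f, hfP, hnzd, ?_⟩
  have hq : τ f ∈ Q := by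
    have : f ∈ Q.comap τ := hτ ▸ hfP
    exact this
  exact Groth.Agent.Lead.RelReg.exists_nhd A B B (Q.comap (algebraMap A B)) Q (τ f) hq hfl
    (fun n hn => Groth.Agent.Lead.RelReg.hreg_of_nonZeroDivisors A B (Q.comap (algebraMap A B)) Q
      (Localization.AtPrime Q) _ rfl (τ f) hnzd n hn)


/-- the local ring at `Q` of the locus `s = t = P` -/
abbrev DD : Type u := EGA4.FibLocRing A B Q ⧸
  (Q.comap (algebraMap A B)).map ((algebraMap B (EGA4.FibLocRing A B Q)).comp τ)

/-- the canonical map to `DD` -/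
noncomputable def toDD : B →+* DD A B τ Q :=
  ((Ideal.Quotient.mk ((Q.comap (algebraMap A B)).map
        ((algebraMap B (EGA4.FibLocRing A B Q)).comp τ))).comp
        (Ideal.Quotient.mk ((Q.comap (algebraMap A B)).map
          (algebraMap A (Localization.AtPrime Q))))).comp
        (algebraMap B (Localization.AtPrime Q))

theorem isEmbedding_comap_DD :
    Topology.IsEmbedding (PrimeSpectrum.comap (R := B) (S := DD A B τ Q) (toDD A B τ Q)) := by
  have e1 := (PrimeSpectrum.isClosedEmbedding_comap_of_surjective (DD A B τ Q) (Ideal.Quotient.mk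
      ((Q.comap (algebraMap A B)).map ((algebraMap B (EGA4.FibLocRing A B Q)).comp τ)))
      Ideal.Quotient.mk_surjective).isEmbedding
  have e2 := (PrimeSpectrum.isClosedEmbedding_comap_of_surjective (EGA4.FibLocRing A B Q)
      (Ideal.Quotient.mk
      ((Q.comap (algebraMap A B)).map (algebraMap A (Localization.AtPrime Q))))
      Ideal.Quotient.mk_surjective).isEmbedding
  have e3 := PrimeSpectrum.localization_comap_isEmbedding (Localization.AtPrime Q) Q.primeCompl
  exact e3.comp (e2.comp e1)

theorem toDD_sigma (a : A) (ha : a ∈ Q.comap (algebraMap A B)) :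
    toDD A B τ Q (algebraMap A B a) = 0 := by
  have h0 : Ideal.Quotient.mk ((Q.comap (algebraMap A B)).map
      (algebraMap A (Localization.AtPrime Q)))
        (algebraMap B (Localization.AtPrime Q) (algebraMap A B a)) = 0 := by
    rw [← IsScalarTower.algebraMap_apply A B (Localization.AtPrime Q)]
    exact Ideal.Quotient.eq_zero_iff_mem.mpr (Ideal.mem_map_of_mem _ ha)
  show Ideal.Quotient.mk _ (Ideal.Quotient.mk _ _) = 0
  rw [h0, map_zero]

theorem toDD_tau (a : A) (ha : a ∈ Q.comap (algebraMap A B)) :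
    toDD A B τ Q (τ a) = 0 := by
  show Ideal.Quotient.mk _ (((algebraMap B (EGA4.FibLocRing A B Q)).comp τ) a) = 0
  exact Ideal.Quotient.eq_zero_iff_mem.mpr (Ideal.mem_map_of_mem _ ha)

theorem isUnit_toDD (b : B) (hb : b ∉ Q) : IsUnit (toDD A B τ Q b) := by
  have h := (IsLocalization.map_units (Localization.AtPrime Q) (⟨b, hb⟩ : Q.primeCompl)).map
    ((Ideal.Quotient.mk ((Q.comap (algebraMap A B)).map
        ((algebraMap B (EGA4.FibLocRing A B Q)).comp τ))).comp
        (Ideal.Quotient.mk ((Q.comap (algebraMap A B)).map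
          (algebraMap A (Localization.AtPrime Q)))))
  exact h

/-- the primes of `DD` lie over `P` through both maps -/
theorem comap_DD_props (hτ : Q.comap τ = Q.comap (algebraMap A B)) (𝔮 : PrimeSpectrum (DD A B τ Q)) :
    (PrimeSpectrum.comap (R := B) (S := DD A B τ Q) (toDD A B τ Q) 𝔮).asIdeal.comap
        (algebraMap A B) = Q.comap (algebraMap A B) ∧
      (PrimeSpectrum.comap (R := B) (S := DD A B τ Q) (toDD A B τ Q) 𝔮).asIdeal.comap τ =
        Q.comap (algebraMap A B) := by
  have hunit : ∀ b : B, toDD A B τ Q b ∈ 𝔮.asIdeal → b ∈ Q := by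
    intro b hb
    by_contra hbQ
    exact 𝔮.isPrime.ne_top (Ideal.eq_top_of_isUnit_mem _ hb (isUnit_toDD A B τ Q b hbQ))
  constructor
  · apply le_antisymm
    · intro a ha
      exact hunit _ ha
    · intro a ha
      show toDD A B τ Q (algebraMap A B a) ∈ 𝔮.asIdeal
      rw [toDD_sigma A B τ Q a ha]
      exact zero_mem _
  · apply le_antisymm
    · intro a ha
      have : a ∈ Q.comap τ := hunit _ ha
      rwa [hτ] at this
    · intro a ha
      show toDD A B τ Q (τ a) ∈ 𝔮.asIdeal
      rw [toDD_tau A B τ Q a ha]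
      exact zero_mem _

end Core


section Top

/-- comparing dimensions through embeddings into a common space -/
theorem dim_le_of_embeddings {X Y Z : Type*} [TopologicalSpace X] [TopologicalSpace Y]
    [TopologicalSpace Z] (k : X → Z) (ι : Y → Z) (hk : Topology.IsEmbedding k)
    (hι : Topology.IsEmbedding ι) (hr : Set.range k ⊆ Set.range ι) :
    topologicalKrullDim X ≤ topologicalKrullDim Y := by
  choose k' hk' using fun x : X => hr ⟨x, rfl⟩
  have hcomp : ι ∘ k' = k := funext hk'
  have hind : Topology.IsInducing k' := by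
    rw [← hι.isInducing.of_comp_iff, hcomp]
    exact hk.isInducing
  exact hind.topologicalKrullDim_le

end Top

section Quot

variable (A B : Type u) [CommRing A] [CommRing B] [Algebra A B] (x : B)
  (Qb : Ideal (B ⧸ Ideal.span {x})) [Qb.IsPrime]

/-- slicing the fibre local ring by a regular element -/
theorem cm_dim_fibLocRing_quot
    (hCM : LocCoh.IsCohenMacaulayLocalRing
      (EGA4.FibLocRing A B (Qb.comap (Ideal.Quotient.mk (Ideal.span {x})))))
    (hreg : algebraMap B (EGA4.FibLocRing A B (Qb.comap (Ideal.Quotient.mk (Ideal.span {x})))) x ∈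
      nonZeroDivisors (EGA4.FibLocRing A B (Qb.comap (Ideal.Quotient.mk (Ideal.span {x}))))) :
    LocCoh.IsCohenMacaulayLocalRing (EGA4.FibLocRing A (B ⧸ Ideal.span {x}) Qb) ∧
      ringKrullDim (EGA4.FibLocRing A (B ⧸ Ideal.span {x}) Qb) + 1 =
        ringKrullDim (EGA4.FibLocRing A B (Qb.comap (Ideal.Quotient.mk (Ideal.span {x})))) := by
  set q := Qb.comap (Ideal.Quotient.mk (Ideal.span {x})) with hq
  haveI hqprime : q.IsPrime := Ideal.comap_isPrime _ _
  have hsurj : Function.Surjective (Ideal.Quotient.mkₐ A (Ideal.span {x})) := Ideal.Quotient.mkₐ_surjective A _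
  obtain ⟨e⟩ := Groth.Agent.Lib.Helper5.SmFib.nonempty_fibLocRing_quotient_equiv A B (B ⧸ Ideal.span {x})
    (Ideal.Quotient.mkₐ A (Ideal.span {x})) hsurj Qb q rfl
  set xb : EGA4.FibLocRing A B q := algebraMap B (EGA4.FibLocRing A B q) x with hxb
  have hideal : ((RingHom.ker (Ideal.Quotient.mkₐ A (Ideal.span {x})).toRingHom).map
      (algebraMap B (Localization.AtPrime q))).map
        (Ideal.Quotient.mk ((q.comap (algebraMap A B)).map
          (algebraMap A (Localization.AtPrime q)))) = Ideal.span {xb} := by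
    have hk : RingHom.ker (Ideal.Quotient.mkₐ A (Ideal.span {x})).toRingHom = Ideal.span {x} := Ideal.mk_ker
    rw [hk, Ideal.map_span, Ideal.map_span, Set.image_singleton, Set.image_singleton]
    rfl
  have hxq : x ∈ q := by
    show Ideal.Quotient.mk (Ideal.span {x}) x ∈ Qb
    have : Ideal.Quotient.mk (Ideal.span {x}) x = 0 :=
      Ideal.Quotient.eq_zero_iff_mem.mpr (Ideal.subset_span rfl)
    rw [this]
    exact zero_mem _
  haveI := hCM
  have hmem : xb ∈ maximalIdeal (EGA4.FibLocRing A B q) := by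
    have hmax : maximalIdeal (EGA4.FibLocRing A B q) =
        q.map (algebraMap B (EGA4.FibLocRing A B q)) := by
      rw [IsScalarTower.algebraMap_eq B (Localization.AtPrime q) (EGA4.FibLocRing A B q),
        ← Ideal.map_map, Localization.AtPrime.map_eq_maximalIdeal]
      exact (IsLocalRing.map_maximalIdeal_of_surjective _ Ideal.Quotient.mk_surjective).symm
    rw [hmax]
    exact Ideal.mem_map_of_mem _ hxq
  have hreg' : IsSMulRegular (EGA4.FibLocRing A B q) xb := by
    intro a b hab
    simp only [smul_eq_mul] at hab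
    have h0 : xb * (a - b) = 0 := by rw [mul_sub, hab, sub_self]
    have := (mem_nonZeroDivisors_iff.mp hreg).1 _ h0
    exact sub_eq_zero.mp this
  have hne : Ideal.span {xb} ≠ ⊤ := by
    intro htop
    have : maximalIdeal (EGA4.FibLocRing A B q) = ⊤ :=
      top_le_iff.mp (htop ▸ (Ideal.span_singleton_le_iff_mem _).mpr hmem)
    exact (IsLocalRing.maximalIdeal.isMaximal _).ne_top this
  haveI : Nontrivial (EGA4.FibLocRing A B q ⧸ Ideal.span {xb}) :=
    Ideal.Quotient.nontrivial_iff.mpr hne
  haveI : IsLocalRing (EGA4.FibLocRing A B q ⧸ Ideal.span {xb}) := inferInstance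
  have hcmq : LocCoh.IsCohenMacaulayLocalRing (EGA4.FibLocRing A B q ⧸ Ideal.span {xb}) :=
    (Groth.Agent.Lib.Helper6.FiltBl.cm_quotient_iff (EGA4.FibLocRing A B q) (Ideal.span {xb}) xb rfl
      hmem hreg').mp hCM
  have hdimq := Groth.Agent.Helper8.Sk.ringKrullDim_quotient_add_one' (EGA4.FibLocRing A B q)
    (Ideal.span {xb}) xb rfl hmem hreg'
  rw [hideal] at e
  have hdime := ringKrullDim_eq_of_ringEquiv (R := EGA4.FibLocRing A B q ⧸ Ideal.span {xb})
    (S := EGA4.FibLocRing A (B ⧸ Ideal.span {x}) Qb) e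
  exact ⟨Groth.Agent.Lead.CMAt.cm_of_ringEquiv e hcmq, by
    rw [← hdime]; exact hdimq⟩

end Quot

end Groth.Agent.Lead.GrpdSlice
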