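import Mathlib
import Groth.Prelude
import Groth.Agent.Lib.Lead.GrpdSlice1
import Groth.Agent.Lib.Lead.RelReg6
import Groth.Agent.Lib.Helper2.FibDim.StalkFibre
import Groth.Agent.Lib.Helper4.JacDim1
import Groth.Agent.Lib.Helper4.ConjDense1
import Groth.Agent.Lib.Helper3.FibStalk

/-!
# Slicing groupoids: chart dictionary (lead)
-/

set_option autoImplicit false
set_option backward.isDefEq.respectTransparency.types false
set_option synthInstance.maxHeartbeats 400000
set_option maxHeartbeats 1000000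
set_option linter.style.haveILetI false
set_option linter.unusedSectionVars false
universe u

open AlgebraicGeometry CategoryTheory CategoryTheory.Limits IsLocalRing

namespace Groth.Agent.Lead.GrpdSlice

open Groth.Agent.Lead.FO Groth.Agent.Lead.SD

/-- the fibre local ring in an affine chart is the quotient of the stalk by the maximal ideal of
the base, compatibly with germs -/
theorem exists_theta {X S : Scheme.{u}} (f : X ⟶ S) {V : S.Opens} {U : X.Opens}
    (hV : IsAffineOpen V) (hU : IsAffineOpen U) (hUV : U ≤ f ⁻¹ᵁ V) (x : X) (hx : x ∈ U) :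
    letI := (f.appLE V U hUV).hom.toAlgebra
    ∃ θ : EGA4.FibLocRing Γ(S, V) Γ(X, U) (hU.primeIdealOf ⟨x, hx⟩).asIdeal ≃+*
        (X.presheaf.stalk x ⧸ Ideal.map (f.stalkMap x).hom
          (maximalIdeal (S.presheaf.stalk (f x)))),
      ∀ b : Γ(X, U), θ (algebraMap Γ(X, U)
        (EGA4.FibLocRing Γ(S, V) Γ(X, U) (hU.primeIdealOf ⟨x, hx⟩).asIdeal) b) =
          Ideal.Quotient.mk _ (X.presheaf.germ U x hx b) := by
  let xU : U := ⟨x, hx⟩
  let sV : V := ⟨f x, hUV hx⟩
  letI algAB : Algebra Γ(S, V) Γ(X, U) := (f.appLE V U hUV).hom.toAlgebra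
  letI algBL := X.presheaf.algebra_section_stalk xU
  haveI locL := hU.isLocalization_stalk xU
  set q := (hU.primeIdealOf xU).asIdeal with hq
  have hcomap : q.comap (algebraMap Γ(S, V) Γ(X, U)) = (hV.primeIdealOf sV).asIdeal := by
    have := IsAffineOpen.comap_primeIdealOf_appLE (f := f) V hV U hU hUV hx
    exact congrArg PrimeSpectrum.asIdeal this
  letI algAS := S.presheaf.algebra_section_stalk sV
  haveI locS := hV.isLocalization_stalk sV
  letI algAL : Algebra Γ(S, V) (X.presheaf.stalk x) :=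
    ((algebraMap Γ(X, U) (X.presheaf.stalk x)).comp (algebraMap Γ(S, V) Γ(X, U))).toAlgebra
  haveI : IsScalarTower Γ(S, V) Γ(X, U) (X.presheaf.stalk x) :=
    IsScalarTower.of_algebraMap_eq fun _ => rfl
  have h𝔪 : Ideal.map (f.stalkMap x).hom (maximalIdeal ↑(S.presheaf.stalk (f x))) =
      ((hV.primeIdealOf sV).asIdeal).map (algebraMap Γ(S, V) (X.presheaf.stalk x)) := by
    rw [← IsLocalization.AtPrime.map_eq_maximalIdeal (hV.primeIdealOf sV).asIdeal
      (S.presheaf.stalk (f x)), Ideal.map_map]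
    congr 1
    ext r
    exact stalkMap_germ_eq f hUV xU r
  let ψ : Localization.AtPrime q ≃ₐ[Γ(X, U)] X.presheaf.stalk x :=
    IsLocalization.algEquiv q.primeCompl _ _
  have hJ : Ideal.map (f.stalkMap x).hom (maximalIdeal ↑(S.presheaf.stalk (f x))) =
      ((q.comap (algebraMap Γ(S, V) Γ(X, U))).map
        (algebraMap Γ(S, V) (Localization.AtPrime q))).map (ψ : Localization.AtPrime q →+* _) := by
    rw [h𝔪, hcomap, Ideal.map_map]
    congr 1
    ext a
    simp only [RingHom.comp_apply]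
    rw [IsScalarTower.algebraMap_apply Γ(S, V) Γ(X, U) (Localization.AtPrime q)]
    exact (ψ.commutes _).symm
  refine ⟨Ideal.quotientEquiv _ _ ψ.toRingEquiv hJ, fun b => ?_⟩
  have h1 : algebraMap Γ(X, U) (EGA4.FibLocRing Γ(S, V) Γ(X, U) q) b =
      Ideal.Quotient.mk _ (algebraMap Γ(X, U) (Localization.AtPrime q) b) := rfl
  rw [h1, Ideal.quotientEquiv_mk]
  congr 1
  exact ψ.commutes b


open Groth.Agent.Lib.Helper4.FibDim1 in
/-- the transcendence degree of the residue field extension at a point of a section vanishes -/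
theorem tr_section {X Y : Scheme.{u}} (f : X ⟶ Y) [LocallyOfFiniteType f] (g : Y ⟶ X)
    (hg : g ≫ f = 𝟙 Y) (y : Y) : tr f (g y) = 0 := by
  haveI : LocallyOfFiniteType (g ≫ f) := hg ▸ inferInstance
  haveI : LocallyOfFiniteType g := locallyOfFiniteType_of_comp g f
  have h1 := Groth.Agent.Lib.Helper4.JacDim1.tr_comp g f y
  have h2 : tr (g ≫ f) y = tr (𝟙 Y) y := Groth.Agent.Lib.Helper4.Aff2.tr_congr_hom _ _ hg y
  have h3 : tr (𝟙 Y) y = 0 := Groth.Agent.Lib.Helper4.ConjDense1.tr_eq_zero_of_mono (𝟙 Y) y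
  omega

/-- the ring of the fibre in the form used by `Grpd.IsCMAt` -/
theorem nonempty_fiberStalk_equiv {X Y : Scheme.{u}} (f : X ⟶ Y) (x : X) :
    Nonempty ((X.presheaf.stalk x ⧸ (maximalIdeal (Y.presheaf.stalk (f x))).map
      (f.stalkMap x).hom) ≃+* (f.fiber (f x)).presheaf.stalk (f.asFiber x)) := by
  obtain ⟨γ, hγ, hk⟩ := Groth.Agent.Helper3.FibStalk.exists_fibre_presentation f x
  exact ⟨(Ideal.quotEquivOfEq hk.symm).trans (RingHom.quotientKerEquivOfSurjective hγ)⟩

/-- the fibre dimension at a point of a section is the dimension of the local ring of the fibre -/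
theorem fibreDimAt_section {X Y : Scheme.{u}} (f : X ⟶ Y) [LocallyOfFiniteType f] (g : Y ⟶ X)
    (hg : g ≫ f = 𝟙 Y) (y : Y) :
    FlatMor.fibreDimAt f (g y) = ringKrullDim (X.presheaf.stalk (g y) ⧸
      (maximalIdeal (Y.presheaf.stalk (f (g y)))).map (f.stalkMap (g y)).hom) := by
  obtain ⟨e⟩ := nonempty_fiberStalk_equiv f (g y)
  rw [Groth.Agent.Helper2.FibDim.fibreDimAt_eq_stalk_add_tr f (g y), tr_section f g hg y,
    ringKrullDim_eq_of_ringEquiv e]
  simp

end Groth.Agent.Lead.GrpdSlice
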