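import Mathlib

/-!
# S1883, ring-level part: two sections of a retraction onto a field agree modulo a prime (lead)
-/

set_option autoImplicit false
set_option backward.isDefEq.respectTransparency.types false
set_option synthInstance.maxHeartbeats 400000
set_option maxHeartbeats 1000000
set_option linter.style.haveILetI false
set_option linter.unusedSectionVars false
universe u

namespace Groth.Agent.Lead.GrpdStab

open Polynomial Topology

section Chevalley

/-- a dominant finitely presented map from a domain: the image of the spectrum contains a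
nonempty basic open -/
theorem exists_basicOpen_subset_range {D A : Type u} [CommRing D] [IsDomain D] [CommRing A]
    [IsDomain A] (φ : D →+* A) (hφ : φ.FinitePresentation) (hinj : Function.Injective φ) :
    ∃ f : D, f ≠ 0 ∧ ∀ q : PrimeSpectrum D, f ∉ q.asIdeal →
      q ∈ Set.range (PrimeSpectrum.comap φ) := by
  have hc : IsConstructible (Set.range (PrimeSpectrum.comap φ)) :=
    PrimeSpectrum.isConstructible_range_comap hφ
  obtain ⟨S, hS⟩ := PrimeSpectrum.exists_constructibleSetData_iff.mpr hc
  have hbot : (⟨⊥, Ideal.isPrime_bot⟩ : PrimeSpectrum D) ∈ Set.range (PrimeSpectrum.comap φ) := by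
    refine ⟨⟨⊥, Ideal.isPrime_bot⟩, ?_⟩
    apply PrimeSpectrum.ext
    show Ideal.comap φ ⊥ = ⊥
    rw [← RingHom.ker_eq_comap_bot]
    exact (RingHom.injective_iff_ker_eq_bot φ).mp hinj
  rw [← hS, PrimeSpectrum.ConstructibleSetData.toSet] at hbot
  simp only [Set.mem_iUnion, exists_prop] at hbot
  obtain ⟨C, hCS, hC⟩ := hbot
  rw [PrimeSpectrum.BasicConstructibleSetData.toSet] at hC
  obtain ⟨hC1, hC2⟩ := hC
  have hg : ∀ i, C.g i = 0 := by
    intro i
    have := hC1 (Set.mem_range_self i)
    exact this
  have hf : C.f ≠ 0 := by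
    intro h0
    apply hC2
    rw [PrimeSpectrum.mem_zeroLocus]
    intro y hy
    rw [Set.mem_singleton_iff] at hy
    rw [hy, h0]
    exact Ideal.zero_mem _
  refine ⟨C.f, hf, fun q hq => ?_⟩
  rw [← hS, PrimeSpectrum.ConstructibleSetData.toSet]
  simp only [Set.mem_iUnion, exists_prop]
  refine ⟨C, hCS, ?_⟩
  rw [PrimeSpectrum.BasicConstructibleSetData.toSet]
  refine ⟨?_, ?_⟩
  · rw [PrimeSpectrum.mem_zeroLocus]
    rintro y ⟨i, rfl⟩
    rw [hg i]
    exact Ideal.zero_mem _
  · intro h
    rw [PrimeSpectrum.mem_zeroLocus] at h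
    exact hq (h (Set.mem_singleton _))

end Chevalley

section Euclid

/-- Euclid's sequence: pairs (product of the previous terms, current term) -/
noncomputable def eucPair : ℕ → ℤ[X] × ℤ[X]
  | 0 => (1, X)
  | n + 1 => ((eucPair n).1 * (eucPair n).2, (eucPair n).1 * (eucPair n).2 + 1)

/-- Euclid's sequence of pairwise coprime monic integer polynomials -/
noncomputable def euc (n : ℕ) : ℤ[X] := (eucPair n).2

theorem eucPair_monic_pos : ∀ n : ℕ, (eucPair n).1.Monic ∧ (eucPair n).2.Monic ∧
    0 < (eucPair n).2.natDegree := by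
  intro n
  induction n with
  | zero => exact ⟨monic_one, monic_X, by simp [eucPair]⟩
  | succ n ih =>
    obtain ⟨h1, h2, h3⟩ := ih
    have hm : ((eucPair n).1 * (eucPair n).2).Monic := h1.mul h2
    have hd : 0 < ((eucPair n).1 * (eucPair n).2).natDegree := by
      rw [h1.natDegree_mul h2]
      omega
    have hdeg : (1 : ℤ[X]).degree < ((eucPair n).1 * (eucPair n).2).degree := by
      rw [degree_one, degree_eq_natDegree hm.ne_zero]
      exact_mod_cast hd
    refine ⟨hm, hm.add_of_left hdeg, ?_⟩
    show 0 < ((eucPair n).1 * (eucPair n).2 + 1).natDegree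
    rw [natDegree_add_eq_left_of_degree_lt hdeg]
    exact hd

theorem euc_monic (n : ℕ) : (euc n).Monic := (eucPair_monic_pos n).2.1

theorem euc_natDegree_pos (n : ℕ) : 0 < (euc n).natDegree := (eucPair_monic_pos n).2.2

theorem euc_dvd_eucPair {m n : ℕ} (h : m < n) : euc m ∣ (eucPair n).1 := by
  induction n with
  | zero => omega
  | succ n ih =>
    show euc m ∣ (eucPair n).1 * (eucPair n).2
    rcases Nat.lt_succ_iff_lt_or_eq.mp h with h' | h'
    · exact Dvd.dvd.mul_right (ih h') _
    · subst h'
      exact Dvd.intro_left _ rfl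

theorem euc_coprime {m n : ℕ} (h : m < n) : IsCoprime (euc m) (euc n) := by
  obtain ⟨k, rfl⟩ : ∃ k, n = k + 1 := ⟨n - 1, by omega⟩
  have h1 : euc (k + 1) = (eucPair k).1 * (eucPair k).2 + 1 := rfl
  have h2 : euc m ∣ (eucPair k).1 * (eucPair k).2 := by
    rcases Nat.lt_succ_iff_lt_or_eq.mp h with h' | h'
    · exact Dvd.dvd.mul_right (euc_dvd_eucPair h') _
    · subst h'
      exact Dvd.intro_left _ rfl
  obtain ⟨c, hc⟩ := h2
  refine ⟨-c, 1, ?_⟩
  rw [h1, hc]
  ring

end Euclid

section Alg

variable (K A : Type u) [Field K] [CommRing A] [IsDomain A] [Algebra K A] [Algebra.FiniteType K A]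

/-- the images of Euclid's polynomials over `K` -/
noncomputable def eucK (n : ℕ) : K[X] := (euc n).map (Int.castRingHom K)

theorem eucK_monic (n : ℕ) : (eucK K n).Monic := (euc_monic n).map _

theorem eucK_natDegree_pos (n : ℕ) : 0 < (eucK K n).natDegree := by
  rw [eucK, (euc_monic n).natDegree_map]
  exact euc_natDegree_pos n

theorem eucK_coprime {m n : ℕ} (h : m < n) : IsCoprime (eucK K m) (eucK K n) :=
  (euc_coprime h).map (Polynomial.mapRingHom (Int.castRingHom K))

/-- a polynomial over a field is not divisible by an irreducible factor of each of Euclid's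
polynomials -/
theorem exists_irreducible_not_dvd (f : K[X]) (hf : f ≠ 0) :
    ∃ (n : ℕ) (q : K[X]), Irreducible q ∧ q ∣ eucK K n ∧ ¬ q ∣ f := by
  by_contra hcon
  have hall : ∀ n : ℕ, ∀ q : K[X], Irreducible q → q ∣ eucK K n → q ∣ f := by
    intro n q hq hqn
    by_contra h
    exact hcon ⟨n, q, hq, hqn, h⟩
  have hex : ∀ n : ℕ, ∃ q : K[X], Irreducible q ∧ q ∣ eucK K n := fun n =>
    Polynomial.exists_irreducible_of_natDegree_pos (eucK_natDegree_pos K n)
  choose q hq hqn using hex
  have hcop : ∀ m n : ℕ, m ≠ n → IsCoprime (q m) (q n) := by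
    intro m n hmn
    rcases Nat.lt_or_gt_of_ne hmn with h | h
    · exact IsCoprime.of_isCoprime_of_dvd_left
        (IsCoprime.of_isCoprime_of_dvd_right (eucK_coprime K h) (hqn n)) (hqn m)
    · exact (IsCoprime.of_isCoprime_of_dvd_left
        (IsCoprime.of_isCoprime_of_dvd_right (eucK_coprime K h) (hqn m)) (hqn n)).symm
  have hprod : ∀ N : ℕ, (∏ n ∈ Finset.range N, q n) ∣ f := by
    intro N
    apply Finset.prod_dvd_of_coprime
    · intro m _ n _ hmn
      exact hcop m n hmn
    · intro n _
      exact hall n (q n) (hq n) (hqn n)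
  have hdeg : ∀ N : ℕ, N ≤ (∏ n ∈ Finset.range N, q n).natDegree := by
    intro N
    rw [Polynomial.natDegree_prod _ _ (fun n _ => (hq n).ne_zero)]
    calc N = ∑ _n ∈ Finset.range N, 1 := by simp
      _ ≤ ∑ n ∈ Finset.range N, (q n).natDegree :=
        Finset.sum_le_sum (fun n _ => (hq n).natDegree_pos)
  have h1 := Polynomial.natDegree_le_of_dvd (hprod (f.natDegree + 1)) hf
  have h2 := hdeg (f.natDegree + 1)
  omega

/-- an element of a finite type domain over a field all of whose integral polynomial expressions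
are zero or units is algebraic over the field -/
theorem isAlgebraic_of_units (x : A)
    (H : ∀ p : ℤ[X], Polynomial.aeval x p ≠ 0 → IsUnit (Polynomial.aeval x p)) :
    IsAlgebraic K x := by
  by_contra htr
  have hinj : Function.Injective (Polynomial.aeval x : K[X] →ₐ[K] A) :=
    transcendental_iff_injective.mp htr
  let φ : K[X] →+* A := (Polynomial.aeval x : K[X] →ₐ[K] A).toRingHom
  have hφinj : Function.Injective φ := hinj
  have hft : φ.FiniteType := by
    have h1 : (algebraMap K A).FiniteType := RingHom.finiteType_algebraMap.mpr inferInstance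
    have h2 : algebraMap K A = φ.comp (Polynomial.C : K →+* K[X]) := by
      ext a
      show algebraMap K A a = Polynomial.aeval x (Polynomial.C a)
      rw [Polynomial.aeval_C]
    rw [h2] at h1
    exact RingHom.FiniteType.of_comp_finiteType h1
  have hfp : φ.FinitePresentation := RingHom.FinitePresentation.of_finiteType.mp hft
  obtain ⟨f, hf0, hf⟩ := exists_basicOpen_subset_range φ hfp hφinj
  obtain ⟨n, q, hq, hqn, hqf⟩ := exists_irreducible_not_dvd K f hf0
  have hqp : (Ideal.span {q}).IsPrime :=
    (Ideal.span_singleton_prime hq.ne_zero).mpr hq.prime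
  obtain ⟨Q, hQ⟩ := hf ⟨Ideal.span {q}, hqp⟩ (by
    show f ∉ Ideal.span {q}
    rw [Ideal.mem_span_singleton]
    exact hqf)
  have hmem : eucK K n ∈ (PrimeSpectrum.comap φ Q).asIdeal := by
    rw [hQ]
    show eucK K n ∈ Ideal.span {q}
    rw [Ideal.mem_span_singleton]
    exact hqn
  have hmem' : φ (eucK K n) ∈ Q.asIdeal := hmem
  have heq : φ (eucK K n) = Polynomial.aeval x (euc n) := by
    show Polynomial.aeval x ((euc n).map (Int.castRingHom K)) = _
    have : Int.castRingHom K = algebraMap ℤ K := rfl
    rw [this, Polynomial.aeval_map_algebraMap]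
  have hne : Polynomial.aeval x (euc n) ≠ 0 := by
    rw [← heq]
    intro h0
    have : eucK K n = 0 := hφinj (h0.trans (map_zero φ).symm)
    exact (eucK_monic K n).ne_zero this
  have hunit := H (euc n) hne
  rw [← heq] at hunit
  exact Q.2.ne_top (Ideal.eq_top_of_isUnit_mem _ hmem' hunit)

end Alg

section Main

/-- two sections `σ, τ` of a retraction `ε` onto a field, the first of finite type, agree modulo
every prime contained in the kernel of `ε` -/
theorem sub_mem_of_retraction (K B : Type u) [Field K] [CommRing B] (σ τ : K →+* B)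
    (hσ : σ.FiniteType) (ε : B →+* K) (hεσ : ∀ a, ε (σ a) = a) (hετ : ∀ a, ε (τ a) = a)
    (P : Ideal B) [P.IsPrime] (hP : P ≤ RingHom.ker ε) (a : K) : σ a - τ a ∈ P := by
  letI algKB : Algebra K B := σ.toAlgebra
  haveI : Algebra.FiniteType K B := RingHom.finiteType_algebraMap.mp hσ
  haveI : Algebra.FiniteType K (B ⧸ P) :=
    Algebra.FiniteType.of_surjective (Ideal.Quotient.mkₐ K P) (Ideal.Quotient.mkₐ_surjective K P)
  let ψ : K →+* B ⧸ P := (Ideal.Quotient.mk P).comp τ
  set x : B ⧸ P := ψ a with hx
  have hH : ∀ p : ℤ[X], Polynomial.aeval x p ≠ 0 → IsUnit (Polynomial.aeval x p) := by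
    intro p hp
    have h1 : Polynomial.aeval x p = ψ (Polynomial.aeval a p) :=
      (Polynomial.aeval_algHom_apply ψ.toIntAlgHom a p)
    rw [h1] at hp ⊢
    have h2 : Polynomial.aeval a p ≠ 0 := by
      intro h0
      exact hp (by rw [h0, map_zero])
    exact (Ne.isUnit h2).map ψ
  have halg : IsAlgebraic K x := isAlgebraic_of_units K (B ⧸ P) x hH
  have halg2 : IsAlgebraic K (x - algebraMap K (B ⧸ P) a) :=
    halg.sub (isAlgebraic_algebraMap a)
  let εb : B ⧸ P →+* K := Ideal.Quotient.lift P ε (fun b hb => hP hb)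
  have hε0 : εb (x - algebraMap K (B ⧸ P) a) = 0 := by
    rw [map_sub]
    have e1 : εb x = a := by
      show εb (Ideal.Quotient.mk P (τ a)) = a
      rw [Ideal.Quotient.lift_mk]
      exact hετ a
    have e2 : εb (algebraMap K (B ⧸ P) a) = a := by
      show εb (Ideal.Quotient.mk P (σ a)) = a
      rw [Ideal.Quotient.lift_mk]
      exact hεσ a
    rw [e1, e2, sub_self]
  have hzero : x - algebraMap K (B ⧸ P) a = 0 := by
    by_contra hne
    have hu : IsUnit (x - algebraMap K (B ⧸ P) a) := halg2.isIntegral.isUnit hne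
    have hu' := hu.map εb
    rw [hε0] at hu'
    exact not_isUnit_zero hu'
  have h3 : Ideal.Quotient.mk P (τ a - σ a) = 0 := by
    rw [map_sub]
    exact hzero
  have h4 : τ a - σ a ∈ P := Ideal.Quotient.eq_zero_iff_mem.mp h3
  have h5 : σ a - τ a = -(τ a - σ a) := by ring
  rw [h5]
  exact P.neg_mem h4

end Main

end Groth.Agent.Lead.GrpdStab
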