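import Mathlib
import Groth.Prelude
import Groth.Agent.Lib.Lead.GrpdStab1
import Groth.Agent.Lib.Helper2.Sch.GrpdDim
import Groth.Agent.Lib.Helper4.DimFT5

/-!
# S1883: for a groupoid scheme on the spectrum of a field, `dim R = dim` of the stabilizer (lead)
-/

set_option autoImplicit false
set_option backward.isDefEq.respectTransparency.types false
set_option synthInstance.maxHeartbeats 400000
set_option maxHeartbeats 1000000
set_option linter.style.haveILetI false
set_option linter.unusedSectionVars false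
universe u

namespace Groth.Agent.Lead.GrpdStab

open AlgebraicGeometry CategoryTheory CategoryTheory.Limits TopologicalSpace

section Ring

/-- ring-level summary -/
theorem exists_prime_dim (K B : Type u) [Field K] [CommRing B] (σ τ : K →+* B)
    (hσ : σ.FiniteType) (ε : B →+* K) (hεσ : ∀ a, ε (σ a) = a) (hετ : ∀ a, ε (τ a) = a) :
    ∃ (M : Ideal B) (_ : M.IsPrime) (P : Ideal B) (_ : P.IsPrime), (∀ a, σ a - τ a ∈ P) ∧
      FlatMor.localDim (PrimeSpectrum B) ⟨M, ‹_›⟩ = ringKrullDim (B ⧸ P) := by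
  letI algKB : Algebra K B := σ.toAlgebra
  haveI : Algebra.FiniteType K B := RingHom.finiteType_algebraMap.mp hσ
  have hsurj : Function.Surjective ε := fun a => ⟨σ a, hεσ a⟩
  haveI hM : (RingHom.ker ε).IsMaximal := RingHom.ker_isMaximal_of_surjective ε hsurj
  obtain ⟨P, -, hPM, hPp, hht⟩ :=
    Groth.Agent.Lib.Helper4.DimFT5.exists_minimalPrimes_height_eq_dim K B (RingHom.ker ε)
  refine ⟨RingHom.ker ε, hM.isPrime, P, hPp, ?_, ?_⟩
  · intro a
    exact sub_mem_of_retraction K B σ τ hσ ε hεσ hετ P hPM a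
  · rw [Groth.Agent.Lib.Helper4.DimFT2.localDim_spec_eq (k := K) (RingHom.ker ε), ← hht]
    have h0 : ringKrullDim (B ⧸ RingHom.ker ε) = 0 :=
      ringKrullDim_eq_zero_of_isField
        ((Ideal.Quotient.maximal_ideal_iff_isField_quotient _).mp hM)
    rw [h0, add_zero]

end Ring

section Main

variable {S : Scheme.{u}} (G : Grpd.GroupoidScheme S)

theorem dim_stabilizer_le : topologicalKrullDim G.stabilizer ≤ topologicalKrullDim G.R := by
  haveI : IsImmersion G.diag := inferInstanceAs (IsImmersion (pullback.diagonal G.pU))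
  haveI : IsImmersion (pullback.fst G.j G.diag) := MorphismProperty.pullback_fst _ _ inferInstance
  exact (pullback.fst G.j G.diag).isEmbedding.isInducing.topologicalKrullDim_le

theorem appLE_top_of_eq_id {U : Scheme.{u}} (f : U ⟶ U) (hf : f = 𝟙 U) (h : (⊤ : U.Opens) ≤ f ⁻¹ᵁ ⊤) :
    f.appLE ⊤ ⊤ h = 𝟙 _ := by
  subst hf
  simp [Scheme.Hom.appLE]

theorem isField_gamma_U (k : Type u) [Field k] (eU : G.U ≅ Spec (CommRingCat.of k)) :
    IsField Γ(G.U, ⊤) := by
  let e : Γ(G.U, ⊤) ≃+* k :=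
    ((Scheme.Γ.mapIso eU.op).symm ≪≫ Scheme.ΓSpecIso (CommRingCat.of k)).commRingCatIsoToRingEquiv
  exact MulEquiv.isField (Field.toIsField k) e.toMulEquiv

set_option maxHeartbeats 2000000 in
theorem dim_le_dim_stabilizer (k : Type u) [Field k] (eU : G.U ≅ Spec (CommRingCat.of k))
    [LocallyOfFiniteType G.s] [LocallyOfFiniteType G.t] :
    topologicalKrullDim G.R ≤ topologicalKrullDim G.stabilizer := by
  haveI hsub : Subsingleton ↥G.U := Groth.Agent.Helper2.GrpdDim.subsingleton_U G k eU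
  haveI : IsAffine G.U := IsAffine.of_isIso eU.hom
  letI : Field Γ(G.U, ⊤) := (isField_gamma_U G k eU).toField
  let u₀ : G.U := eU.inv (IsLocalRing.closedPoint k)
  obtain ⟨_, ⟨W, hW, rfl⟩, hr₀W, -⟩ :=
    G.R.isBasis_affineOpens.exists_subset_of_mem_open (Set.mem_univ (G.e u₀)) isOpen_univ
  have htop : IsAffineOpen (⊤ : G.U.Opens) := isAffineOpen_top G.U
  have hsW : W ≤ G.s ⁻¹ᵁ ⊤ := fun _ _ => trivial
  have htW : W ≤ G.t ⁻¹ᵁ ⊤ := fun _ _ => trivial
  have heW : (⊤ : G.U.Opens) ≤ G.e ⁻¹ᵁ W := by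
    intro u _
    have : u = u₀ := Subsingleton.elim _ _
    rw [this]
    exact hr₀W
  obtain ⟨σ, hσdef⟩ : ∃ σ : Γ(G.U, ⊤) →+* Γ(G.R, W), σ = (G.s.appLE ⊤ W hsW).hom := ⟨_, rfl⟩
  obtain ⟨τ, hτdef⟩ : ∃ τ : Γ(G.U, ⊤) →+* Γ(G.R, W), τ = (G.t.appLE ⊤ W htW).hom := ⟨_, rfl⟩
  obtain ⟨ε, hεdef⟩ : ∃ ε : Γ(G.R, W) →+* Γ(G.U, ⊤), ε = (G.e.appLE W ⊤ heW).hom := ⟨_, rfl⟩
  have hσft : σ.FiniteType := by
    rw [hσdef]
    exact HasRingHomProperty.appLE (P := @LocallyOfFiniteType) G.s inferInstance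
      ⟨⊤, htop⟩ ⟨W, hW⟩ hsW
  have hεσ : ∀ a, ε (σ a) = a := by
    intro a
    have h1 := Scheme.Hom.appLE_comp_appLE G.e G.s ⊤ W ⊤ hsW heW
    rw [appLE_top_of_eq_id (G.e ≫ G.s) G.e_s] at h1
    have h2 := congrArg (fun φ => φ.hom a) h1
    rw [hσdef, hεdef]
    exact h2
  have hετ : ∀ a, ε (τ a) = a := by
    intro a
    have h1 := Scheme.Hom.appLE_comp_appLE G.e G.t ⊤ W ⊤ htW heW
    rw [appLE_top_of_eq_id (G.e ≫ G.t) G.e_t] at h1
    have h2 := congrArg (fun φ => φ.hom a) h1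
    rw [hτdef, hεdef]
    exact h2
  obtain ⟨M, hM, P, hPp, hP, hdim⟩ := exists_prime_dim Γ(G.U, ⊤) Γ(G.R, W) σ τ hσft ε hεσ hετ
  -- the dimension of `R`
  have hdimR : topologicalKrullDim G.R = ringKrullDim (Γ(G.R, W) ⧸ P) := by
    have h1 : FlatMor.localDim (PrimeSpectrum Γ(G.R, W)) ⟨M, hM⟩ =
        FlatMor.localDim G.R (hW.fromSpec (⟨M, hM⟩ : PrimeSpectrum Γ(G.R, W))) :=
      Groth.Agent.Lib.Helper4.Chev2.localDim_openEmbedding _ hW.fromSpec.isOpenEmbedding _
    rw [← hdim, h1]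
    exact (Groth.Agent.Helper2.GrpdDim.localDim_eq_dim G _).symm
  -- the closed subscheme
  obtain ⟨ι, hιdef⟩ : ∃ ι : Spec (CommRingCat.of (Γ(G.R, W) ⧸ P)) ⟶ G.R,
    ι = Spec.map (CommRingCat.ofHom (Ideal.Quotient.mk P)) ≫ hW.fromSpec := ⟨_, rfl⟩
  have hring : G.s.appLE ⊤ W hsW ≫ CommRingCat.ofHom (Ideal.Quotient.mk P) =
      G.t.appLE ⊤ W htW ≫ CommRingCat.ofHom (Ideal.Quotient.mk P) := by
    ext a
    show Ideal.Quotient.mk P ((G.s.appLE ⊤ W hsW).hom a) =
      Ideal.Quotient.mk P ((G.t.appLE ⊤ W htW).hom a)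
    rw [← hσdef, ← hτdef, Ideal.Quotient.eq]
    exact hP a
  have hst : ι ≫ G.s = ι ≫ G.t := by
    rw [hιdef, Category.assoc, Category.assoc, ← IsAffineOpen.SpecMap_appLE_fromSpec G.s htop hW hsW,
      ← IsAffineOpen.SpecMap_appLE_fromSpec G.t htop hW htW, ← Category.assoc, ← Category.assoc,
      ← Spec.map_comp, ← Spec.map_comp, hring]
  have hlift : ι ≫ G.j = (ι ≫ G.s) ≫ G.diag := by
    apply pullback.hom_ext
    · rw [Category.assoc, Category.assoc, Grpd.GroupoidScheme.j, Grpd.GroupoidScheme.diag,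
        pullback.lift_fst, pullback.lift_fst, Category.comp_id, hst]
    · rw [Category.assoc, Category.assoc, Grpd.GroupoidScheme.j, Grpd.GroupoidScheme.diag,
        pullback.lift_snd, pullback.lift_snd, Category.comp_id]
  let ι' : Spec (CommRingCat.of (Γ(G.R, W) ⧸ P)) ⟶ G.stabilizer :=
    pullback.lift ι (ι ≫ G.s) hlift
  have hι' : ι' ≫ pullback.fst G.j G.diag = ι := pullback.lift_fst _ _ _
  haveI : IsClosedImmersion (Spec.map (CommRingCat.ofHom (Ideal.Quotient.mk P))) :=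
    IsClosedImmersion.spec_of_surjective _ Ideal.Quotient.mk_surjective
  have hιemb : Topology.IsEmbedding ι := by
    rw [hιdef]
    exact hW.fromSpec.isOpenEmbedding.isEmbedding.comp
      (Spec.map (CommRingCat.ofHom (Ideal.Quotient.mk P))).isClosedEmbedding.isEmbedding
  have hι'emb : Topology.IsEmbedding ι' := by
    have h2 : Topology.IsEmbedding (ι' ≫ pullback.fst G.j G.diag) := by
      rw [hι']
      exact hιemb
    exact Topology.IsEmbedding.of_comp ι'.continuous (pullback.fst G.j G.diag).continuous h2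
  rw [hdimR, ← PrimeSpectrum.topologicalKrullDim_eq_ringKrullDim]
  exact hι'emb.isInducing.topologicalKrullDim_le

theorem main1883 (k : Type u) [Field k] (eU : G.U ≅ Spec (CommRingCat.of k))
    [LocallyOfFiniteType G.s] [LocallyOfFiniteType G.t] :
    topologicalKrullDim G.R = topologicalKrullDim G.stabilizer :=
  le_antisymm (dim_le_dim_stabilizer G k eU) (dim_stabilizer_le G)

end Main

end Groth.Agent.Lead.GrpdStab
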