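import Mathlib
import Groth.Prelude
import Groth.Agent.Lib.Lead.GrpdSlice1
import Groth.Agent.Lib.Lead.GrpdStab2
import Groth.Agent.Lib.Helper4.GrpdSub1

/-!
# Slicing groupoids: the groupoid induced on a point and the dimension inequality (lead)
-/

set_option autoImplicit false
set_option backward.isDefEq.respectTransparency.types false
set_option synthInstance.maxHeartbeats 400000
set_option maxHeartbeats 1000000
set_option linter.style.haveILetI false
set_option linter.unusedSectionVars false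
universe u

open AlgebraicGeometry CategoryTheory CategoryTheory.Limits IsLocalRing

namespace Groth.Agent.Lead.GrpdSlice

open Groth.Agent.Lib.Helper4.GrpdSub1

variable {S : Scheme.{u}} (G : Grpd.GroupoidScheme S) (u : G.U)

/-- the inclusion of the point -/
noncomputable abbrev pt : Spec (G.U.residueField u) ⟶ G.U := G.U.fromSpecResidueField u

instance : IsPreimmersion (ιRR G (pt G u)) := by
  unfold ιRR
  infer_instance

theorem isEmbedding_ιRR : Topology.IsEmbedding (ιRR G (pt G u)) :=
  (ιRR G (pt G u)).isEmbedding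

theorem mem_range_ιRR (r : G.R) (hs : G.s r = u) (ht : G.t r = u) :
    r ∈ Set.range (ιRR G (pt G u)) := by
  obtain ⟨p0⟩ : Nonempty ↥(Spec (G.U.residueField u)) := inferInstance
  have hp0 : pt G u p0 = u := Scheme.fromSpecResidueField_apply _ _
  obtain ⟨v, hv1, hv2⟩ := Scheme.Pullback.exists_preimage_pullback (f := G.t) (g := pt G u) r p0
    (ht.trans hp0.symm)
  have hvv : vv G (pt G u) v = pt G u p0 := by
    have h1 : vv G (pt G u) v = G.s (pullback.fst G.t (pt G u) v) := rfl
    rw [h1, hv1, hs, hp0]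
  obtain ⟨w, hw1, hw2⟩ := Scheme.Pullback.exists_preimage_pullback (f := vv G (pt G u))
    (g := pt G u) v p0 hvv
  refine ⟨w, ?_⟩
  show (pullback.fst (vv G (pt G u)) (pt G u) ≫ pullback.fst G.t (pt G u)) w = r
  rw [Scheme.Hom.comp_apply, hw1, hv1]


/-- the groupoid induced on the point -/
noncomputable abbrev Gpt : Grpd.GroupoidScheme S := pb G (pt G u)

theorem j_fst : G.j ≫ pullback.fst G.pU G.pU = G.t := by
  unfold Grpd.GroupoidScheme.j
  exact pullback.lift_fst _ _ _

theorem j_snd : G.j ≫ pullback.snd G.pU G.pU = G.s := by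
  unfold Grpd.GroupoidScheme.j
  exact pullback.lift_snd _ _ _

theorem diag_fst : G.diag ≫ pullback.fst G.pU G.pU = 𝟙 _ := by
  unfold Grpd.GroupoidScheme.diag
  exact pullback.lift_fst _ _ _

theorem diag_snd : G.diag ≫ pullback.snd G.pU G.pU = 𝟙 _ := by
  unfold Grpd.GroupoidScheme.diag
  exact pullback.lift_snd _ _ _

theorem stab_fst_t : pullback.fst G.j G.diag ≫ G.t = pullback.snd G.j G.diag :=
  calc pullback.fst G.j G.diag ≫ G.t
      = pullback.fst G.j G.diag ≫ (G.j ≫ pullback.fst G.pU G.pU) := by rw [j_fst]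
    _ = (pullback.fst G.j G.diag ≫ G.j) ≫ pullback.fst G.pU G.pU := (Category.assoc _ _ _).symm
    _ = (pullback.snd G.j G.diag ≫ G.diag) ≫ pullback.fst G.pU G.pU := by rw [pullback.condition]
    _ = pullback.snd G.j G.diag ≫ (G.diag ≫ pullback.fst G.pU G.pU) := Category.assoc _ _ _
    _ = pullback.snd G.j G.diag := by rw [diag_fst, Category.comp_id]

theorem stab_fst_s : pullback.fst G.j G.diag ≫ G.s = pullback.snd G.j G.diag :=
  calc pullback.fst G.j G.diag ≫ G.s
      = pullback.fst G.j G.diag ≫ (G.j ≫ pullback.snd G.pU G.pU) := by rw [j_snd]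
    _ = (pullback.fst G.j G.diag ≫ G.j) ≫ pullback.snd G.pU G.pU := (Category.assoc _ _ _).symm
    _ = (pullback.snd G.j G.diag ≫ G.diag) ≫ pullback.snd G.pU G.pU := by rw [pullback.condition]
    _ = pullback.snd G.j G.diag ≫ (G.diag ≫ pullback.snd G.pU G.pU) := Category.assoc _ _ _
    _ = pullback.snd G.j G.diag := by rw [diag_snd, Category.comp_id]

theorem dim_stabilizer_pt_le :
    topologicalKrullDim (Gpt G u).stabilizer ≤ topologicalKrullDim ↥(G.stabilizerToU.fiber u) := by
  obtain ⟨fst', hfst'⟩ : ∃ a : (Gpt G u).stabilizer ⟶ RR G (pt G u),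
    a = pullback.fst (Gpt G u).j (Gpt G u).diag := ⟨_, rfl⟩
  obtain ⟨a₂, ha₂⟩ : ∃ a : (Gpt G u).stabilizer ⟶ Spec (G.U.residueField u),
    a = pullback.snd (Gpt G u).j (Gpt G u).diag := ⟨_, rfl⟩
  have ht : fst' ≫ tRR G (pt G u) = a₂ := by
    rw [hfst', ha₂]
    exact stab_fst_t (Gpt G u)
  have hs : fst' ≫ sRR G (pt G u) = a₂ := by
    rw [hfst', ha₂]
    exact stab_fst_s (Gpt G u)
  obtain ⟨a₁, ha₁⟩ : ∃ a : (Gpt G u).stabilizer ⟶ G.R, a = fst' ≫ ιRR G (pt G u) := ⟨_, rfl⟩
  have h1t : a₁ ≫ G.t = a₂ ≫ pt G u := by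
    rw [ha₁, Category.assoc, ← tRR_u, ← Category.assoc, ht]
  have h1s : a₁ ≫ G.s = a₂ ≫ pt G u := by
    rw [ha₁, Category.assoc, ← sRR_u, ← Category.assoc, hs]
  have hcond : a₁ ≫ G.j = (a₂ ≫ pt G u) ≫ G.diag := by
    apply pullback.hom_ext
    · rw [Category.assoc, Category.assoc, j_fst, diag_fst, Category.comp_id]
      exact h1t
    · rw [Category.assoc, Category.assoc, j_snd, diag_snd, Category.comp_id]
      exact h1s
  obtain ⟨ψ, hψ1, hψ2⟩ : ∃ ψ : (Gpt G u).stabilizer ⟶ pullback G.j G.diag,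
      ψ ≫ pullback.fst G.j G.diag = a₁ ∧ ψ ≫ pullback.snd G.j G.diag = a₂ ≫ pt G u :=
    ⟨pullback.lift a₁ (a₂ ≫ pt G u) hcond, pullback.lift_fst _ _ _, pullback.lift_snd _ _ _⟩
  obtain ⟨φ, hφ1⟩ : ∃ φ : (Gpt G u).stabilizer ⟶
      pullback (pullback.snd G.j G.diag) (G.U.fromSpecResidueField u),
      φ ≫ pullback.fst (pullback.snd G.j G.diag) (G.U.fromSpecResidueField u) = ψ :=
    ⟨pullback.lift ψ a₂ hψ2, pullback.lift_fst _ _ _⟩
  have hφ : φ ≫ (pullback.fst (pullback.snd G.j G.diag) (G.U.fromSpecResidueField u) ≫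
      pullback.fst G.j G.diag) = a₁ := by
    rw [← Category.assoc, hφ1, hψ1]
  haveI : IsImmersion (Gpt G u).diag :=
    inferInstanceAs (IsImmersion (pullback.diagonal (Gpt G u).pU))
  haveI : IsImmersion (pullback.fst (Gpt G u).j (Gpt G u).diag) :=
    MorphismProperty.pullback_fst _ _ inferInstance
  have hemb : Topology.IsEmbedding a₁ := by
    rw [ha₁, hfst']
    exact (isEmbedding_ιRR G u).comp (pullback.fst (Gpt G u).j (Gpt G u).diag).isEmbedding
  have hφemb : Topology.IsEmbedding φ := by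
    have h2 : Topology.IsEmbedding (φ ≫ (pullback.fst (pullback.snd G.j G.diag)
        (G.U.fromSpecResidueField u) ≫ pullback.fst G.j G.diag)) := by
      rw [hφ]
      exact hemb
    exact Topology.IsEmbedding.of_comp φ.continuous
      (pullback.fst (pullback.snd G.j G.diag) (G.U.fromSpecResidueField u) ≫
        pullback.fst G.j G.diag).continuous h2
  exact hφemb.isInducing.topologicalKrullDim_le


/-- anything embedded in the locus `s = t = u` of `R` has dimension at most that of the
stabilizer at `u` (this uses the equality `dim R = dim G` for a groupoid on a field) -/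
theorem dim_le_fiber [LocallyOfFiniteType G.s] [LocallyOfFiniteType G.t]
    (hu : LocallyOfFiniteType (G.U.fromSpecResidueField u))
    {X : Type u} [TopologicalSpace X] (k : X → G.R) (hk : Topology.IsEmbedding k)
    (hks : ∀ x, G.s (k x) = u) (hkt : ∀ x, G.t (k x) = u) :
    topologicalKrullDim X ≤ topologicalKrullDim ↥(G.stabilizerToU.fiber u) := by
  haveI := hu
  have h1 : topologicalKrullDim X ≤ topologicalKrullDim ↥(RR G (pt G u)) := by
    refine dim_le_of_embeddings k (ιRR G (pt G u)) hk (isEmbedding_ιRR G u) ?_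
    rintro _ ⟨x, rfl⟩
    exact mem_range_ιRR G u (k x) (hks x) (hkt x)
  haveI hvv : LocallyOfFiniteType (vv G (pt G u)) := by
    unfold vv
    infer_instance
  haveI hsl : LocallyOfFiniteType (Gpt G u).s := by
    show LocallyOfFiniteType (sRR G (pt G u))
    unfold sRR
    infer_instance
  haveI htl : LocallyOfFiniteType (Gpt G u).t := by
    show LocallyOfFiniteType (tRR G (pt G u))
    unfold tRR
    infer_instance
  have h2 := Groth.Agent.Lead.GrpdStab.main1883 (Gpt G u) (G.U.residueField u)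
    (Iso.refl _)
  exact h1.trans ((le_of_eq h2).trans (dim_stabilizer_pt_le G u))

end Groth.Agent.Lead.GrpdSlice
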