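import Mathlib
import Groth.Prelude
import Groth.Agent.Lib.Lead.GrpdSlice2
import Groth.Agent.Lib.Lead.GrpdSlice3

/-!
# Slicing groupoids: the dimension inequality in an affine chart (lead)
-/

set_option autoImplicit false
set_option backward.isDefEq.respectTransparency.types false
set_option synthInstance.maxHeartbeats 400000
set_option maxHeartbeats 1000000
set_option linter.style.haveILetI false
set_option linter.unusedSectionVars false
universe u

open AlgebraicGeometry CategoryTheory CategoryTheory.Limits IsLocalRing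

namespace Groth.Agent.Lead.GrpdSlice

variable {S : Scheme.{u}} (G : Grpd.GroupoidScheme S) (u : G.U)

theorem s_e_apply : G.s (G.e u) = u := by
  rw [← Scheme.Hom.comp_apply, G.e_s]
  rfl

theorem t_e_apply : G.t (G.e u) = u := by
  rw [← Scheme.Hom.comp_apply, G.e_t]
  rfl

section Chart

variable {W : G.U.Opens} (hW : IsAffineOpen W) (huW : u ∈ W) {V : G.R.Opens}
  (hV : IsAffineOpen V) (heV : G.e u ∈ V) (hVs : V ≤ G.s ⁻¹ᵁ W) (hVt : V ≤ G.t ⁻¹ᵁ W)

include huW in
theorem comap_s_chart :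
    (hV.primeIdealOf ⟨G.e u, heV⟩).asIdeal.comap (G.s.appLE W V hVs).hom =
      (hW.primeIdealOf ⟨u, huW⟩).asIdeal := by
  have h := IsAffineOpen.comap_primeIdealOf_appLE (f := G.s) W hW V hV hVs heV
  have h2 : (⟨G.s (G.e u), hVs heV⟩ : W) = ⟨u, huW⟩ := Subtype.ext (s_e_apply G u)
  rw [h2] at h
  exact congrArg PrimeSpectrum.asIdeal h

include huW in
theorem comap_t_chart :
    (hV.primeIdealOf ⟨G.e u, heV⟩).asIdeal.comap (G.t.appLE W V hVt).hom =
      (hW.primeIdealOf ⟨u, huW⟩).asIdeal := by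
  have h := IsAffineOpen.comap_primeIdealOf_appLE (f := G.t) W hW V hV hVt heV
  have h2 : (⟨G.t (G.e u), hVt heV⟩ : W) = ⟨u, huW⟩ := Subtype.ext (t_e_apply G u)
  rw [h2] at h
  exact congrArg PrimeSpectrum.asIdeal h


include hW huW in
theorem chart_dim_lt [LocallyOfFinitePresentation G.s] [LocallyOfFinitePresentation G.t]
    (hu : LocallyOfFiniteType (G.U.fromSpecResidueField u))
    (hd : topologicalKrullDim ↥(G.stabilizerToU.fiber u) < FlatMor.fibreDimAt G.s (G.e u)) :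
    letI := (G.s.appLE W V hVs).hom.toAlgebra
    ringKrullDim (DD Γ(G.U, W) Γ(G.R, V) (G.t.appLE W V hVt).hom
        (hV.primeIdealOf ⟨G.e u, heV⟩).asIdeal) <
      ringKrullDim (EGA4.FibLocRing Γ(G.U, W) Γ(G.R, V)
        (hV.primeIdealOf ⟨G.e u, heV⟩).asIdeal) := by
  letI alg : Algebra Γ(G.U, W) Γ(G.R, V) := (G.s.appLE W V hVs).hom.toAlgebra
  haveI fp : Algebra.FinitePresentation Γ(G.U, W) Γ(G.R, V) :=
    HasRingHomProperty.appLE (P := @LocallyOfFinitePresentation) G.s inferInstance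
      ⟨W, hW⟩ ⟨V, hV⟩ hVs
  set Q := (hV.primeIdealOf ⟨G.e u, heV⟩).asIdeal with hQ
  have hσ : Q.comap (algebraMap Γ(G.U, W) Γ(G.R, V)) = (hW.primeIdealOf ⟨u, huW⟩).asIdeal :=
    comap_s_chart G u hW huW hV heV hVs
  have hτ : Q.comap (G.t.appLE W V hVt).hom = Q.comap (algebraMap Γ(G.U, W) Γ(G.R, V)) :=
    (comap_t_chart G u hW huW hV heV hVt).trans hσ.symm
  obtain ⟨θ, -⟩ := exists_theta G.s hW hV hVs (G.e u) heV
  have hR : ringKrullDim (EGA4.FibLocRing Γ(G.U, W) Γ(G.R, V) Q) =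
      FlatMor.fibreDimAt G.s (G.e u) := by
    rw [fibreDimAt_section G.s G.e G.e_s u]
    exact ringKrullDim_eq_of_ringEquiv θ
  let k : PrimeSpectrum (DD Γ(G.U, W) Γ(G.R, V) (G.t.appLE W V hVt).hom Q) → G.R :=
    fun x => hV.fromSpec (PrimeSpectrum.comap (toDD Γ(G.U, W) Γ(G.R, V) (G.t.appLE W V hVt).hom Q) x)
  have hk : Topology.IsEmbedding k :=
    hV.fromSpec.isOpenEmbedding.isEmbedding.comp
      (isEmbedding_comap_DD Γ(G.U, W) Γ(G.R, V) (G.t.appLE W V hVt).hom Q)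
  have hpt : ∀ (φ : Γ(G.U, W) ⟶ Γ(G.R, V)) (y : Spec Γ(G.R, V)),
      y.asIdeal.comap φ.hom = (hW.primeIdealOf ⟨u, huW⟩).asIdeal →
      hW.fromSpec (Spec.map φ y) = u := by
    intro φ y hy
    have : Spec.map φ y = hW.primeIdealOf ⟨u, huW⟩ := PrimeSpectrum.ext hy
    rw [this]
    exact hW.fromSpec_primeIdealOf ⟨u, huW⟩
  have hks : ∀ x, G.s (k x) = u := by
    intro x
    have h1 := (comap_DD_props Γ(G.U, W) Γ(G.R, V) (G.t.appLE W V hVt).hom Q hτ x).1
    have h2 : G.s (k x) = hW.fromSpec (Spec.map (G.s.appLE W V hVs)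
        (PrimeSpectrum.comap (toDD Γ(G.U, W) Γ(G.R, V) (G.t.appLE W V hVt).hom Q) x)) := by
      rw [← Scheme.Hom.comp_apply, ← Scheme.Hom.comp_apply,
        IsAffineOpen.SpecMap_appLE_fromSpec G.s hW hV hVs]
    rw [h2]
    exact hpt _ _ (h1.trans hσ)
  have hkt : ∀ x, G.t (k x) = u := by
    intro x
    have h1 := (comap_DD_props Γ(G.U, W) Γ(G.R, V) (G.t.appLE W V hVt).hom Q hτ x).2
    have h2 : G.t (k x) = hW.fromSpec (Spec.map (G.t.appLE W V hVt)
        (PrimeSpectrum.comap (toDD Γ(G.U, W) Γ(G.R, V) (G.t.appLE W V hVt).hom Q) x)) := by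
      rw [← Scheme.Hom.comp_apply, ← Scheme.Hom.comp_apply,
        IsAffineOpen.SpecMap_appLE_fromSpec G.t hW hV hVt]
    rw [h2]
    exact hpt _ _ (h1.trans hσ)
  haveI : LocallyOfFiniteType G.s := inferInstance
  haveI : LocallyOfFiniteType G.t := inferInstance
  have hL := dim_le_fiber G u hu k hk hks hkt
  rw [hR, ← PrimeSpectrum.topologicalKrullDim_eq_ringKrullDim]
  exact lt_of_le_of_lt hL hd

end Chart

end Groth.Agent.Lead.GrpdSlice
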