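import Mathlib
import Groth.Prelude
import Groth.Agent.Lib.Lead.GrpdSlice4
import Groth.Agent.Lib.Helper4.Chev9
import Groth.Agent.Lib.Helper2.Sch.GrpdDim

/-!
# Slicing groupoids: dimension of the stabilizer versus the local dimension of the fibre (lead)
-/

set_option autoImplicit false
set_option backward.isDefEq.respectTransparency.types false
set_option synthInstance.maxHeartbeats 400000
set_option maxHeartbeats 1000000
set_option linter.style.haveILetI false
set_option linter.unusedSectionVars false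
universe u

open AlgebraicGeometry CategoryTheory CategoryTheory.Limits IsLocalRing

namespace Groth.Agent.Lead.GrpdSlice

open Groth.Agent.Lib.Helper4.GrpdSub1

variable {S : Scheme.{u}} (G : Grpd.GroupoidScheme S) (u : G.U)

theorem pt_apply (z : ↥(Spec (G.U.residueField u))) : pt G u z = u :=
  Scheme.fromSpecResidueField_apply _ _

theorem s_ιRR (x : ↥(RR G (pt G u))) : G.s (ιRR G (pt G u) x) = u := by
  rw [← Scheme.Hom.comp_apply, ← sRR_u, Scheme.Hom.comp_apply]
  exact pt_apply G u _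

theorem t_ιRR (x : ↥(RR G (pt G u))) : G.t (ιRR G (pt G u) x) = u := by
  rw [← Scheme.Hom.comp_apply, ← tRR_u, Scheme.Hom.comp_apply]
  exact pt_apply G u _

/-- the fibre of the stabilizer over `u` is nonempty -/
theorem nonempty_fiber : Nonempty ↥(G.stabilizerToU.fiber u) := by
  obtain ⟨p0⟩ : Nonempty ↥(Spec (G.U.residueField u)) := inferInstance
  have hp0 : pt G u p0 = u := pt_apply G u p0
  -- the point `(e u, u)` of the stabilizer
  have h1 : G.j (G.e u) = G.diag u := by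
    have hj : G.e ≫ G.j = G.diag := by
      apply pullback.hom_ext
      · rw [Category.assoc, j_fst, diag_fst, G.e_t]
      · rw [Category.assoc, j_snd, diag_snd, G.e_s]
    rw [← hj]
    rfl
  obtain ⟨w, hw1, hw2⟩ := Scheme.Pullback.exists_preimage_pullback (f := G.j) (g := G.diag)
    (G.e u) u h1
  have h2 : G.stabilizerToU w = pt G u p0 := by
    rw [hp0]
    exact hw2
  obtain ⟨z, -, -⟩ := Scheme.Pullback.exists_preimage_pullback (f := G.stabilizerToU)
    (g := pt G u) w p0 h2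
  exact ⟨z⟩

theorem dim_fiber_nonneg : (0 : WithBot ℕ∞) ≤ topologicalKrullDim ↥(G.stabilizerToU.fiber u) := by
  obtain ⟨x⟩ := nonempty_fiber G u
  have : Nonempty (TopologicalSpace.IrreducibleCloseds ↥(G.stabilizerToU.fiber u)) :=
    ⟨⟨closure {x}, isIrreducible_singleton.closure, isClosed_closure⟩⟩
  exact Order.krullDim_nonneg

/-- `dim G_u ≤ dim_{e(u)} s⁻¹(u)` -/
theorem dim_fiber_le [LocallyOfFiniteType G.s] [LocallyOfFiniteType G.t]
    (hu : LocallyOfFiniteType (G.U.fromSpecResidueField u)) :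
    topologicalKrullDim ↥(G.stabilizerToU.fiber u) ≤ FlatMor.fibreDimAt G.s (G.e u) := by
  haveI := hu
  obtain ⟨a, ha⟩ : ∃ a : G.stabilizerToU.fiber u ⟶ pullback G.j G.diag,
    a = pullback.fst (pullback.snd G.j G.diag) (G.U.fromSpecResidueField u) := ⟨_, rfl⟩
  obtain ⟨b, hb⟩ : ∃ b : G.stabilizerToU.fiber u ⟶ Spec (G.U.residueField u),
    b = pullback.snd (pullback.snd G.j G.diag) (G.U.fromSpecResidueField u) := ⟨_, rfl⟩
  have hab : a ≫ pullback.snd G.j G.diag = b ≫ pt G u := by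
    rw [ha, hb]
    exact pullback.condition
  obtain ⟨k, hk⟩ : ∃ k : G.stabilizerToU.fiber u ⟶ G.R, k = a ≫ pullback.fst G.j G.diag :=
    ⟨_, rfl⟩
  have hks : k ≫ G.s = b ≫ pt G u := by
    rw [hk, Category.assoc, stab_fst_s, hab]
  have hkt : k ≫ G.t = b ≫ pt G u := by
    rw [hk, Category.assoc, stab_fst_t, hab]
  haveI : IsImmersion G.diag := inferInstanceAs (IsImmersion (pullback.diagonal G.pU))
  haveI : IsImmersion (pullback.fst G.j G.diag) :=
    MorphismProperty.pullback_fst _ _ inferInstance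
  haveI : IsPreimmersion a := by
    rw [ha]
    exact MorphismProperty.pullback_fst (P := @IsPreimmersion) _ _ inferInstance
  have hkemb : Topology.IsEmbedding k := by
    rw [hk]
    exact (pullback.fst G.j G.diag).isEmbedding.comp a.isEmbedding
  have h1 : topologicalKrullDim ↥(G.stabilizerToU.fiber u) ≤
      topologicalKrullDim ↥(RR G (pt G u)) := by
    refine dim_le_of_embeddings k (ιRR G (pt G u)) hkemb (isEmbedding_ιRR G u) ?_
    rintro _ ⟨x, rfl⟩
    refine mem_range_ιRR G u (k x) ?_ ?_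
    · rw [← Scheme.Hom.comp_apply, hks, Scheme.Hom.comp_apply]
      exact pt_apply G u _
    · rw [← Scheme.Hom.comp_apply, hkt, Scheme.Hom.comp_apply]
      exact pt_apply G u _
  haveI hvv : LocallyOfFiniteType (vv G (pt G u)) := by
    unfold vv
    infer_instance
  haveI hsl : LocallyOfFiniteType (Gpt G u).s := by
    show LocallyOfFiniteType (sRR G (pt G u))
    unfold sRR
    infer_instance
  haveI htl : LocallyOfFiniteType (Gpt G u).t := by
    show LocallyOfFiniteType (tRR G (pt G u))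
    unfold tRR
    infer_instance
  haveI : Subsingleton ↥(Gpt G u).U :=
    inferInstanceAs (Subsingleton (PrimeSpectrum (G.U.residueField u)))
  obtain ⟨e'', he''⟩ := mem_range_ιRR G u (G.e u) (s_e_apply G u) (t_e_apply G u)
  have h2 : FlatMor.localDim ↥(RR G (pt G u)) e'' = topologicalKrullDim ↥(RR G (pt G u)) :=
    Groth.Agent.Helper2.GrpdDim.localDim_eq_dim (Gpt G u) e''
  let j : ↥(RR G (pt G u)) → ↥(G.s.base ⁻¹' {u}) :=
    Set.codRestrict (ιRR G (pt G u)) (G.s.base ⁻¹' {u}) (s_ιRR G u)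
  have hj : Topology.IsInducing j :=
    Topology.IsInducing.codRestrict (isEmbedding_ιRR G u).isInducing _
  have h3 := Groth.Agent.Lib.Helper4.Chev9.localDim_le_of_isInducing j hj e''
  have h4 := Groth.Agent.Lib.Helper4.Chev9.fibreDimAt_eq_localDim_preimage G.s (G.e u) u
    (s_e_apply G u)
  have h5 : j e'' = ⟨G.e u, s_e_apply G u⟩ := Subtype.ext he''
  rw [h4, ← h5]
  exact h1.trans (h2 ▸ h3)

section Chart

variable {W : G.U.Opens} (hW : IsAffineOpen W) (huW : u ∈ W) {V : G.R.Opens}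
  (hV : IsAffineOpen V) (heV : G.e u ∈ V) (hVs : V ≤ G.s ⁻¹ᵁ W) (hVt : V ≤ G.t ⁻¹ᵁ W)

include hW in
theorem chart_dim_R [LocallyOfFiniteType G.s] :
    letI := (G.s.appLE W V hVs).hom.toAlgebra
    ringKrullDim (EGA4.FibLocRing Γ(G.U, W) Γ(G.R, V)
        (hV.primeIdealOf ⟨G.e u, heV⟩).asIdeal) = FlatMor.fibreDimAt G.s (G.e u) := by
  letI alg : Algebra Γ(G.U, W) Γ(G.R, V) := (G.s.appLE W V hVs).hom.toAlgebra
  obtain ⟨θ, -⟩ := exists_theta G.s hW hV hVs (G.e u) heV
  rw [fibreDimAt_section G.s G.e G.e_s u]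
  exact ringKrullDim_eq_of_ringEquiv θ

include hW huW in
theorem chart_dim_le [LocallyOfFinitePresentation G.s] [LocallyOfFinitePresentation G.t]
    (hu : LocallyOfFiniteType (G.U.fromSpecResidueField u)) :
    letI := (G.s.appLE W V hVs).hom.toAlgebra
    ringKrullDim (DD Γ(G.U, W) Γ(G.R, V) (G.t.appLE W V hVt).hom
        (hV.primeIdealOf ⟨G.e u, heV⟩).asIdeal) ≤
      topologicalKrullDim ↥(G.stabilizerToU.fiber u) := by
  letI alg : Algebra Γ(G.U, W) Γ(G.R, V) := (G.s.appLE W V hVs).hom.toAlgebra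
  haveI fp : Algebra.FinitePresentation Γ(G.U, W) Γ(G.R, V) :=
    HasRingHomProperty.appLE (P := @LocallyOfFinitePresentation) G.s inferInstance
      ⟨W, hW⟩ ⟨V, hV⟩ hVs
  set Q := (hV.primeIdealOf ⟨G.e u, heV⟩).asIdeal with hQ
  have hσ : Q.comap (algebraMap Γ(G.U, W) Γ(G.R, V)) = (hW.primeIdealOf ⟨u, huW⟩).asIdeal :=
    comap_s_chart G u hW huW hV heV hVs
  have hτ : Q.comap (G.t.appLE W V hVt).hom = Q.comap (algebraMap Γ(G.U, W) Γ(G.R, V)) :=
    (comap_t_chart G u hW huW hV heV hVt).trans hσ.symm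
  let k : PrimeSpectrum (DD Γ(G.U, W) Γ(G.R, V) (G.t.appLE W V hVt).hom Q) → G.R :=
    fun x => hV.fromSpec (PrimeSpectrum.comap (toDD Γ(G.U, W) Γ(G.R, V) (G.t.appLE W V hVt).hom Q) x)
  have hk : Topology.IsEmbedding k :=
    hV.fromSpec.isOpenEmbedding.isEmbedding.comp
      (isEmbedding_comap_DD Γ(G.U, W) Γ(G.R, V) (G.t.appLE W V hVt).hom Q)
  have hpt : ∀ (φ : Γ(G.U, W) ⟶ Γ(G.R, V)) (y : Spec Γ(G.R, V)),
      y.asIdeal.comap φ.hom = (hW.primeIdealOf ⟨u, huW⟩).asIdeal →
      hW.fromSpec (Spec.map φ y) = u := by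
    intro φ y hy
    have : Spec.map φ y = hW.primeIdealOf ⟨u, huW⟩ := PrimeSpectrum.ext hy
    rw [this]
    exact hW.fromSpec_primeIdealOf ⟨u, huW⟩
  have hks : ∀ x, G.s (k x) = u := by
    intro x
    have h1 := (comap_DD_props Γ(G.U, W) Γ(G.R, V) (G.t.appLE W V hVt).hom Q hτ x).1
    have h2 : G.s (k x) = hW.fromSpec (Spec.map (G.s.appLE W V hVs)
        (PrimeSpectrum.comap (toDD Γ(G.U, W) Γ(G.R, V) (G.t.appLE W V hVt).hom Q) x)) := by
      rw [← Scheme.Hom.comp_apply, ← Scheme.Hom.comp_apply,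
        IsAffineOpen.SpecMap_appLE_fromSpec G.s hW hV hVs]
    rw [h2]
    exact hpt _ _ (h1.trans hσ)
  have hkt : ∀ x, G.t (k x) = u := by
    intro x
    have h1 := (comap_DD_props Γ(G.U, W) Γ(G.R, V) (G.t.appLE W V hVt).hom Q hτ x).2
    have h2 : G.t (k x) = hW.fromSpec (Spec.map (G.t.appLE W V hVt)
        (PrimeSpectrum.comap (toDD Γ(G.U, W) Γ(G.R, V) (G.t.appLE W V hVt).hom Q) x)) := by
      rw [← Scheme.Hom.comp_apply, ← Scheme.Hom.comp_apply,
        IsAffineOpen.SpecMap_appLE_fromSpec G.t hW hV hVt]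
    rw [h2]
    exact hpt _ _ (h1.trans hσ)
  haveI : LocallyOfFiniteType G.s := inferInstance
  haveI : LocallyOfFiniteType G.t := inferInstance
  have hL := dim_le_fiber G u hu k hk hks hkt
  rw [← PrimeSpectrum.topologicalKrullDim_eq_ringKrullDim]
  exact hL

end Chart

end Groth.Agent.Lead.GrpdSlice
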