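import Mathlib
import Groth.Prelude
import Groth.Agent.Lib.Lead.MFib3
import Groth.Agent.Lib.Lead.SD1
import Groth.Agent.Lib.Lead.FO1
import Groth.Agent.Lib.Lead.FP2
import Groth.Agent.Lib.Helper3.FibStalk2
import Groth.Agent.Lib.Lead.CMAt1
import Groth.Agent.Lib.Helper5.Stalk.Pull

/-!
# The stalk of the restriction of a module to a fibre, in an affine chart (lead)
-/

set_option autoImplicit false
set_option backward.isDefEq.respectTransparency.types false
set_option synthInstance.maxHeartbeats 400000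
set_option linter.style.haveILetI false
set_option linter.unusedSectionVars false
universe u

open AlgebraicGeometry CategoryTheory CategoryTheory.Limits TopologicalSpace TensorProduct IsLocalRing

namespace Groth.Agent.Lead.MFib

open Groth.Agent.Lead.SD Groth.Agent.Lead.FO Scheme.Modules EGA4

attribute [local instance] stalkModule

variable {X Y : Scheme.{u}} (f : X ⟶ Y) (F : X.Modules)

/-- the stalk of the pullback to the fibre is the base change of the stalk -/
theorem exists_stalk_fibre_equiv (y : Y) (x' : f.fiber y) :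
    letI := ((f.fiberι y).stalkMap x').hom.toAlgebra
    Nonempty ((((Scheme.Modules.pullback (f.fiberι y)).obj F).presheaf.stalk x') ≃ₗ[(f.fiber y).presheaf.stalk x']
      ((f.fiber y).presheaf.stalk x') ⊗[X.presheaf.stalk (f.fiberι y x')]
        (F.presheaf.stalk (f.fiberι y x'))) := by
  letI := ((f.fiberι y).stalkMap x').hom.toAlgebra
  exact ⟨((Groth.Agent.Lib.Helper5.StalkAdj.stalkPullbackIso (f.fiberι y) x').app F).toLinearEquiv⟩

/-- the kernel of the stalk map of the inclusion of the fibre, in an affine chart -/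
theorem ker_stalkMap_fiberι_chart (y : Y) (x' : f.fiber y) {U : X.Opens} (hU : IsAffineOpen U)
    (hxU : f.fiberι y x' ∈ U) {V : Y.Opens} (hV : IsAffineOpen V) (hUV : U ≤ f ⁻¹ᵁ V) :
    RingHom.ker ((f.fiberι y).stalkMap x').hom =
      ((hU.primeIdealOf ⟨f.fiberι y x', hxU⟩).asIdeal.comap (f.appLE V U hUV).hom).map
        ((X.presheaf.germ U (f.fiberι y x') hxU).hom.comp (f.appLE V U hUV).hom) := by
  set x := f.fiberι y x' with hx
  have hyV : f x ∈ V := hUV hxU
  rw [Groth.Agent.Helper3.FibStalk.ker_stalkMap_fiberι f y x']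
  letI algAOy : Algebra Γ(Y, V) (Y.presheaf.stalk (f x)) :=
    TopCat.Presheaf.algebra_section_stalk Y.presheaf ⟨f x, hyV⟩
  haveI : IsLocalization.AtPrime (Y.presheaf.stalk (f x)) (hV.primeIdealOf ⟨f x, hyV⟩).asIdeal :=
    hV.isLocalization_stalk ⟨f x, hyV⟩
  have hpV : (hV.primeIdealOf ⟨f x, hyV⟩).asIdeal =
      (hU.primeIdealOf ⟨x, hxU⟩).asIdeal.comap (f.appLE V U hUV).hom := by
    have := IsAffineOpen.comap_primeIdealOf_appLE V hV U hU hUV hxU
    exact (congrArg PrimeSpectrum.asIdeal this).symm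
  have hm : maximalIdeal (Y.presheaf.stalk (f x)) =
      (hV.primeIdealOf ⟨f x, hyV⟩).asIdeal.map (algebraMap Γ(Y, V) (Y.presheaf.stalk (f x))) :=
    (IsLocalization.AtPrime.map_eq_maximalIdeal _ _).symm
  rw [hm, Ideal.map_map, hpV]
  congr 1
  refine RingHom.ext fun a => ?_
  show (f.stalkMap x).hom ((Y.presheaf.germ V (f x) hyV).hom a) =
    (X.presheaf.germ U x hxU).hom ((f.appLE V U hUV).hom a)
  have h2 := Scheme.Hom.germ_stalkMap_apply f V x hyV a
  rw [Scheme.Hom.appLE]
  erw [h2]
  exact (X.presheaf.germ_res_apply (homOfLE hUV) x hxU _).symm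

set_option maxHeartbeats 2000000 in
/-- **the chart dictionary for the fibre of a module**: the local ring of the fibre and the stalk
of the restriction of a quasi-coherent module to the fibre are, semilinearly, the fibre local ring
and the fibre local module of the sections over an affine chart -/
theorem exists_fibre_module_equiv [F.IsQuasicoherent] (y : Y) (x' : f.fiber y) {U : X.Opens}
    (hU : IsAffineOpen U) (hxU : f.fiberι y x' ∈ U) {V : Y.Opens} (hV : IsAffineOpen V)
    (hUV : U ≤ f ⁻¹ᵁ V) :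
    letI := (f.appLE V U hUV).hom.toAlgebra
    ∃ (σ : FibLocRing Γ(Y, V) Γ(X, U) (hU.primeIdealOf ⟨f.fiberι y x', hxU⟩).asIdeal ≃+*
          (f.fiber y).presheaf.stalk x')
      (e : FibLocMod Γ(Y, V) Γ(X, U) (hU.primeIdealOf ⟨f.fiberι y x', hxU⟩).asIdeal Γ(F, U) ≃+
          ((Scheme.Modules.pullback (f.fiberι y)).obj F).presheaf.stalk x'),
      ∀ r m, e (r • m) = σ r • e m := by
  letI algAB : Algebra Γ(Y, V) Γ(X, U) := (f.appLE V U hUV).hom.toAlgebra
  set x := f.fiberι y x' with hx
  set q := (hU.primeIdealOf ⟨x, hxU⟩).asIdeal with hq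
  letI algBO : Algebra Γ(X, U) (X.presheaf.stalk x) :=
    TopCat.Presheaf.algebra_section_stalk X.presheaf ⟨x, hxU⟩
  haveI : IsLocalization.AtPrime (X.presheaf.stalk x) q := hU.isLocalization_stalk ⟨x, hxU⟩
  letI algAO : Algebra Γ(Y, V) (X.presheaf.stalk x) :=
    ((algebraMap Γ(X, U) (X.presheaf.stalk x)).comp (algebraMap Γ(Y, V) Γ(X, U))).toAlgebra
  haveI : IsScalarTower Γ(Y, V) Γ(X, U) (X.presheaf.stalk x) :=
    IsScalarTower.of_algebraMap_eq (fun _ => rfl)
  letI modBN : Module Γ(X, U) (F.presheaf.stalk x) := stalkModule F ⟨x, hxU⟩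
  haveI : IsScalarTower Γ(X, U) (X.presheaf.stalk x) (F.presheaf.stalk x) :=
    IsScalarTower.of_compHom Γ(X, U) (X.presheaf.stalk x) (F.presheaf.stalk x)
  haveI : IsLocalizedModule q.primeCompl (germₗ F ⟨x, hxU⟩) :=
    isLocalizedModule_germ F hU ⟨x, hxU⟩
  obtain ⟨e'⟩ := exists_stalk_fibre_equiv f F y x'
  have hker := ker_stalkMap_fiberι_chart f y x' hU hxU hV hUV
  exact exists_fibLoc_equiv Γ(Y, V) Γ(X, U) q Γ(F, U) (X.presheaf.stalk x) (F.presheaf.stalk x)
    (germₗ F ⟨x, hxU⟩) ((f.fiberι y).stalkMap x').hom ((f.fiberι y).stalkMap_surjective x') hker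
    _ e'

/-- variant of `exists_fibre_module_equiv` with the prime given in advance -/
theorem exists_fibre_module_equiv' [F.IsQuasicoherent] (y : Y) (x' : f.fiber y) {U : X.Opens}
    (hU : IsAffineOpen U) {V : Y.Opens} (hV : IsAffineOpen V) (hUV : U ≤ f ⁻¹ᵁ V)
    (Q : Spec Γ(X, U)) (hQ : hU.fromSpec Q = f.fiberι y x') :
    letI := (f.appLE V U hUV).hom.toAlgebra
    ∃ (σ : FibLocRing Γ(Y, V) Γ(X, U) Q.asIdeal ≃+* (f.fiber y).presheaf.stalk x')
      (e : FibLocMod Γ(Y, V) Γ(X, U) Q.asIdeal Γ(F, U) ≃+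
          ((Scheme.Modules.pullback (f.fiberι y)).obj F).presheaf.stalk x'),
      ∀ r m, e (r • m) = σ r • e m := by
  have hxU : f.fiberι y x' ∈ U := hQ ▸ fromSpec_mem hU Q
  have hq : hU.primeIdealOf ⟨f.fiberι y x', hxU⟩ = Q := by
    apply hU.fromSpec.isOpenEmbedding.injective
    rw [hU.fromSpec_primeIdealOf]
    exact hQ.symm
  have h := exists_fibre_module_equiv f F y x' hU hxU hV hUV
  rw [hq] at h
  exact h

section SpecForm

open AlgebraicGeometry.StructureSheaf

set_option maxHeartbeats 2000000 in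
/-- **the chart dictionary for the fibre local ring, `Spec` form** -/
theorem exists_fibLocRing_equiv_spec {A C : Type u} [CommRing A] [CommRing C] [Algebra A C]
    (i : Spec (CommRingCat.of A) ⟶ Y) [IsOpenImmersion i]
    (g : Spec (CommRingCat.of C) ⟶ Y)
    (hg : g = Spec.map (CommRingCat.ofHom (algebraMap A C)) ≫ i) (z : Spec (CommRingCat.of C)) :
    Nonempty (FibLocRing A C z.asIdeal ≃+* (g.fiber (g z)).presheaf.stalk (g.asFiber z)) := by
  subst hg
  obtain ⟨γ, hγ, hk⟩ := Groth.Agent.Helper3.FibStalk.exists_fibre_presentation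
    (Spec.map (CommRingCat.ofHom (algebraMap A C)) ≫ i) z
  letI algCO : Algebra C ((Spec (CommRingCat.of C)).presheaf.stalk z) :=
    StructureSheaf.stalkAlgebra C z
  haveI : IsLocalization.AtPrime ((Spec (CommRingCat.of C)).presheaf.stalk z) z.asIdeal :=
    StructureSheaf.IsLocalization.to_stalk C z
  letI algAO : Algebra A ((Spec (CommRingCat.of C)).presheaf.stalk z) :=
    ((algebraMap C ((Spec (CommRingCat.of C)).presheaf.stalk z)).comp (algebraMap A C)).toAlgebra
  haveI : IsScalarTower A C ((Spec (CommRingCat.of C)).presheaf.stalk z) :=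
    IsScalarTower.of_algebraMap_eq (fun _ => rfl)
  refine exists_fibLocRing_equiv A C z.asIdeal ((Spec (CommRingCat.of C)).presheaf.stalk z) γ hγ ?_
  rw [hk]
  set φ := CommRingCat.ofHom (algebraMap A C) with hφ
  set w : Spec (CommRingCat.of A) := Spec.map φ z with hw
  letI algAOw : Algebra A ((Spec (CommRingCat.of A)).presheaf.stalk w) :=
    StructureSheaf.stalkAlgebra A w
  haveI : IsLocalization.AtPrime ((Spec (CommRingCat.of A)).presheaf.stalk w) w.asIdeal :=
    StructureSheaf.IsLocalization.to_stalk A w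
  have hcomp := Groth.Agent.Lead.CMAt.stalkMap_comp_hom (Spec.map φ) i z
  have h1 : (maximalIdeal (Y.presheaf.stalk (i w))).map (i.stalkMap w).hom =
      maximalIdeal ((Spec (CommRingCat.of A)).presheaf.stalk w) := by
    have hb : Function.Bijective (i.stalkMap w).hom :=
      ConcreteCategory.bijective_of_isIso (i.stalkMap w)
    exact IsLocalRing.map_maximalIdeal_of_surjective _ hb.2
  have h2 : maximalIdeal ((Spec (CommRingCat.of A)).presheaf.stalk w) =
      w.asIdeal.map (algebraMap A ((Spec (CommRingCat.of A)).presheaf.stalk w)) :=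
    (IsLocalization.AtPrime.map_eq_maximalIdeal _ _).symm
  have key : (maximalIdeal (Y.presheaf.stalk (i w))).map
      (((Spec.map φ).stalkMap z).hom.comp (i.stalkMap w).hom) =
      ((maximalIdeal (Y.presheaf.stalk (i w))).map (i.stalkMap w).hom).map
        ((Spec.map φ).stalkMap z).hom := (Ideal.map_map _ _).symm
  rw [hcomp]
  change Ideal.map (((Spec.map φ).stalkMap z).hom.comp (i.stalkMap w).hom)
    (maximalIdeal (Y.presheaf.stalk (i w))) = _
  rw [key, h1, h2, Ideal.map_map]
  congr 1
  refine RingHom.ext fun a => ?_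
  show ((Spec.map φ).stalkMap z).hom (toStalk A w a) = toStalk C z (algebraMap A C a)
  exact stalkMap_toStalk_apply φ z a

end SpecForm

end Groth.Agent.Lead.MFib
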