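import Mathlib
import Groth.Prelude
import Groth.Agent.Lib.Lead.GrpdSlice5

/-!
# Slicing groupoids: the main statement (lead)
-/

set_option autoImplicit false
set_option backward.isDefEq.respectTransparency.types false
set_option synthInstance.maxHeartbeats 400000
set_option maxHeartbeats 1000000
set_option linter.style.haveILetI false
set_option linter.unusedSectionVars false
universe u

open AlgebraicGeometry CategoryTheory CategoryTheory.Limits IsLocalRing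

namespace Groth.Agent.Lead.GrpdSlice

open Groth.Agent.Lead.FO Groth.Agent.Lead.SD

set_option maxHeartbeats 4000000 in
theorem main7506 (S : Scheme.{u}) (G : Grpd.GroupoidScheme S)
    [LocallyOfFinitePresentation G.s] [LocallyOfFinitePresentation G.t]
    (hs : ∀ r : G.R, Grpd.IsCMAt G.s r) (u : G.U)
    (hu : LocallyOfFiniteType (G.U.fromSpecResidueField u))
    (hd : topologicalKrullDim ↥(G.stabilizerToU.fiber u) < FlatMor.fibreDimAt G.s (G.e u)) :
    ∃ (U' : Scheme.{u}) (_ : IsAffine U') (g : U' ⟶ G.U) (u' : U') (p : ↑(pullback g G.t)),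
      IsImmersion g ∧ LocallyOfFinitePresentation g ∧ g u' = u ∧ pullback.fst g G.t p = u' ∧
        pullback.snd g G.t p = G.e u ∧ Grpd.IsCMAt (pullback.snd g G.t ≫ G.s) p ∧
        FlatMor.fibreDimAt (pullback.snd g G.t ≫ G.s) p + 1 = FlatMor.fibreDimAt G.s (G.e u) := by
  obtain ⟨_, ⟨W, hW, rfl⟩, huW, -⟩ :=
    G.U.isBasis_affineOpens.exists_subset_of_mem_open (Set.mem_univ u) isOpen_univ
  have he1 : G.e u ∈ ((G.s ⁻¹ᵁ W ⊓ G.t ⁻¹ᵁ W : G.R.Opens) : Set G.R) :=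
    ⟨by show G.s (G.e u) ∈ W; rw [s_e_apply]; exact huW,
      by show G.t (G.e u) ∈ W; rw [t_e_apply]; exact huW⟩
  obtain ⟨_, ⟨V, hV, rfl⟩, heV, hVsub⟩ :=
    G.R.isBasis_affineOpens.exists_subset_of_mem_open he1 (G.s ⁻¹ᵁ W ⊓ G.t ⁻¹ᵁ W).isOpen
  have hVs : V ≤ G.s ⁻¹ᵁ W := fun y hy => (hVsub hy).1
  have hVt : V ≤ G.t ⁻¹ᵁ W := fun y hy => (hVsub hy).2
  letI alg : Algebra Γ(G.U, W) Γ(G.R, V) := (G.s.appLE W V hVs).hom.toAlgebra
  haveI fp : Algebra.FinitePresentation Γ(G.U, W) Γ(G.R, V) :=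
    HasRingHomProperty.appLE (P := @LocallyOfFinitePresentation) G.s inferInstance
      ⟨W, hW⟩ ⟨V, hV⟩ hVs
  set τ : Γ(G.U, W) →+* Γ(G.R, V) := (G.t.appLE W V hVt).hom with hτdef
  set Q := (hV.primeIdealOf ⟨G.e u, heV⟩).asIdeal with hQ
  have hσ : Q.comap (algebraMap Γ(G.U, W) Γ(G.R, V)) = (hW.primeIdealOf ⟨u, huW⟩).asIdeal :=
    comap_s_chart G u hW huW hV heV hVs
  have hτ : Q.comap τ = Q.comap (algebraMap Γ(G.U, W) Γ(G.R, V)) :=
    (comap_t_chart G u hW huW hV heV hVt).trans hσ.symm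
  have hfl : Module.Flat Γ(G.U, W) (LocalizedModule Q.primeCompl Γ(G.R, V)) := by
    have h1 := (Groth.Agent.Lib.Helper4.RelEffCartierFlat1.flat_stalkMap_iff G.s W hW V hV hVs
      heV).mp (hs (G.e u)).1
    exact (Groth.Agent.Lead.FlatLoc.flat_localRingHom_iff (G.s.appLE W V hVs).hom Q).mp h1
  obtain ⟨θ, hθ⟩ := exists_theta G.s hW hV hVs (G.e u) heV
  have hCM : LocCoh.IsCohenMacaulayLocalRing (EGA4.FibLocRing Γ(G.U, W) Γ(G.R, V) Q) :=
    Groth.Agent.Lead.CMAt.cm_of_ringEquiv θ.symm (hs (G.e u)).2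
  have hdim := chart_dim_lt G u hW huW hV heV hVs hVt hu hd
  obtain ⟨f, hfP, hnzd, g, hgQ, hT⟩ := core Γ(G.U, W) Γ(G.R, V) τ Q hτ hfl hCM hdim
  -- shrink the chart
  have hle : G.R.basicOpen g ≤ V := G.R.basicOpen_le g
  have hV' : IsAffineOpen (G.R.basicOpen g) := hV.basicOpen g
  have heV' : G.e u ∈ G.R.basicOpen g := (mem_basicOpen_iff hV ⟨G.e u, heV⟩ g).mpr hgQ
  have hV's : G.R.basicOpen g ≤ G.s ⁻¹ᵁ W := hle.trans hVs
  have hV't : G.R.basicOpen g ≤ G.t ⁻¹ᵁ W := hle.trans hVt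
  haveI locB' : IsLocalization.Away g Γ(G.R, G.R.basicOpen g) := hV.isLocalization_basicOpen g
  letI algAB' : Algebra Γ(G.U, W) Γ(G.R, G.R.basicOpen g) :=
    (G.s.appLE W (G.R.basicOpen g) hV's).hom.toAlgebra
  have hmapS : ∀ a : Γ(G.U, W), (G.s.appLE W (G.R.basicOpen g) hV's).hom a =
      algebraMap Γ(G.R, V) Γ(G.R, G.R.basicOpen g) ((G.s.appLE W V hVs).hom a) := by
    intro a
    have := Scheme.Hom.appLE_map G.s hVs (homOfLE hle).op
    rw [← this]
    rfl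
  have hmapT : ∀ a : Γ(G.U, W), (G.t.appLE W (G.R.basicOpen g) hV't).hom a =
      algebraMap Γ(G.R, V) Γ(G.R, G.R.basicOpen g) ((G.t.appLE W V hVt).hom a) := by
    intro a
    have := Scheme.Hom.appLE_map G.t hVt (homOfLE hle).op
    rw [← this]
    rfl
  haveI : IsScalarTower Γ(G.U, W) Γ(G.R, V) Γ(G.R, G.R.basicOpen g) :=
    IsScalarTower.of_algebraMap_eq hmapS
  obtain ⟨-, hflq⟩ := Groth.Agent.Lead.RelReg.away_of_localizedModule Γ(G.U, W) Γ(G.R, V) g (τ f)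
    Γ(G.R, G.R.basicOpen g) (hT (Submonoid.powers g) (Submonoid.mem_powers g)).1
    (hT (Submonoid.powers g) (Submonoid.mem_powers g)).2
  have hf : f ∈ (hW.primeIdealOf ⟨u, huW⟩).asIdeal := hσ ▸ hfP
  have hx' : (G.t.appLE W (G.R.basicOpen g) hV't).hom f =
      algebraMap Γ(G.R, V) Γ(G.R, G.R.basicOpen g) (τ f) := hmapT f
  refine slice_of_chart G u hW huW hV' heV' hV's hV't hs f hf ?_ ?_
  · rw [hx']
    exact hflq
  · rw [hx']
    have hgerm : G.R.presheaf.germ (G.R.basicOpen g) (G.e u) heV'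
        (algebraMap Γ(G.R, V) Γ(G.R, G.R.basicOpen g) (τ f)) =
        G.R.presheaf.germ V (G.e u) heV (τ f) :=
      G.R.presheaf.germ_res_apply (homOfLE hle) (G.e u) heV' (τ f)
    rw [hgerm, ← hθ (τ f)]
    apply mem_nonZeroDivisors_of_ringEquiv θ.symm
    rw [RingEquiv.symm_apply_apply]
    exact hnzd

end Groth.Agent.Lead.GrpdSlice
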