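import Mathlib
import Groth.Prelude
import Groth.Agent.Lib.Lead.GrpdSlice1
import Groth.Agent.Lib.Helper1.CMBlow1

/-!
# Slicing groupoids: regular sequences (ring level) (lead)
-/

set_option autoImplicit false
set_option backward.isDefEq.respectTransparency.types false
set_option synthInstance.maxHeartbeats 400000
set_option maxHeartbeats 1000000
set_option linter.style.haveILetI false
set_option linter.unusedSectionVars false
universe u

namespace Groth.Agent.Lead.GrpdSlice

open IsLocalRing RingTheory.Sequence Pointwise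

theorem smul_top_eq_span {C : Type*} [CommRing C] (x : C) :
    (x • (⊤ : Submodule C C)) = (Ideal.span {x} : Ideal C) := by
  ext y
  rw [Submodule.mem_smul_pointwise_iff_exists, Ideal.mem_span_singleton']
  simp only [Submodule.mem_top, true_and, smul_eq_mul, mul_comm]

/-- prepending a nonzerodivisor to a sequence that is weakly regular modulo it -/
theorem isWeaklyRegular_cons_of_quot {C : Type*} [CommRing C] (x : C) (rs : List C)
    (hx : IsSMulRegular C x)
    (h : IsWeaklyRegular (C ⧸ Ideal.span {x}) (rs.map (Ideal.Quotient.mk (Ideal.span {x})))) :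
    IsWeaklyRegular C (x :: rs) := by
  rw [isWeaklyRegular_cons_iff]
  refine ⟨hx, ?_⟩
  have h1 : IsWeaklyRegular (C ⧸ Ideal.span {x}) rs :=
    (isWeaklyRegular_map_algebraMap_iff (C ⧸ Ideal.span {x}) (C ⧸ Ideal.span {x}) rs).mp h
  let e : QuotSMulTop x C ≃ₗ[C] (C ⧸ Ideal.span {x}) :=
    Submodule.quotEquivOfEq _ _ (smul_top_eq_span x)
  exact (e.isWeaklyRegular_congr rs).mpr h1

/-- in a Cohen–Macaulay local ring one can find, inside the image of an ideal `P`, a regular
sequence of length `dim C - d` as soon as `dim C / P C ≤ d` -/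
theorem exists_regular_list (n : ℕ) : ∀ (C : Type u) [CommRing C]
    [LocCoh.IsCohenMacaulayLocalRing C] {A : Type u} [CommRing A] (P : Ideal A) (τ : A →+* C)
    (_ : P.map τ ≠ ⊤) (d : ℕ) (_ : ringKrullDim (C ⧸ P.map τ) ≤ (d : WithBot ℕ∞))
    (_ : ringKrullDim C = ((d + n : ℕ) : WithBot ℕ∞)),
    ∃ fs : List A, (∀ f ∈ fs, f ∈ P) ∧ IsWeaklyRegular C (fs.map τ) ∧ fs.length = n := by
  induction n with
  | zero =>
    intro C _ _ A _ P τ _ d _ _
    exact ⟨[], by simp, by simp, rfl⟩
  | succ n ih =>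
    intro C _ hCM A _ P τ hP d hd hC
    have hlt : ringKrullDim (C ⧸ P.map τ) < ringKrullDim C := by
      rw [hC]
      refine lt_of_le_of_lt hd ?_
      exact_mod_cast (by omega : d < d + (n + 1))
    obtain ⟨f, hfP, hnzd⟩ := exists_nzd_of_dim_lt C P τ hlt
    set x : C := τ f with hx
    have hxm : x ∈ maximalIdeal C := by
      have : P.map τ ≤ maximalIdeal C := IsLocalRing.le_maximalIdeal hP
      exact this (Ideal.mem_map_of_mem τ hfP)
    have hreg : IsSMulRegular C x := by
      intro a b hab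
      simp only [smul_eq_mul] at hab
      have h0 : x * (a - b) = 0 := by rw [mul_sub, hab, sub_self]
      exact sub_eq_zero.mp ((mem_nonZeroDivisors_iff.mp hnzd).1 _ h0)
    have hne : Ideal.span {x} ≠ ⊤ := by
      intro htop
      have : maximalIdeal C = ⊤ :=
        top_le_iff.mp (htop ▸ (Ideal.span_singleton_le_iff_mem _).mpr hxm)
      exact (IsLocalRing.maximalIdeal.isMaximal _).ne_top this
    haveI : Nontrivial (C ⧸ Ideal.span {x}) := Ideal.Quotient.nontrivial_iff.mpr hne
    haveI : IsLocalRing (C ⧸ Ideal.span {x}) := inferInstance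
    haveI hCM1 : LocCoh.IsCohenMacaulayLocalRing (C ⧸ Ideal.span {x}) :=
      (Groth.Agent.Lib.Helper6.FiltBl.cm_quotient_iff C (Ideal.span {x}) x rfl hxm hreg).mp hCM
    have hdim1 := Groth.Agent.Helper8.Sk.ringKrullDim_quotient_add_one' C (Ideal.span {x}) x rfl
      hxm hreg
    set τ₁ : A →+* (C ⧸ Ideal.span {x}) := (Ideal.Quotient.mk (Ideal.span {x})).comp τ with hτ₁
    have hmap : P.map τ₁ = (P.map τ).map (Ideal.Quotient.mk (Ideal.span {x})) := by
      rw [hτ₁, Ideal.map_map]
    have hP1 : P.map τ₁ ≠ ⊤ := by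
      rw [hmap]
      intro htop
      have h1 := congrArg (Ideal.comap (Ideal.Quotient.mk (Ideal.span {x}))) htop
      rw [Ideal.comap_map_of_surjective _ Ideal.Quotient.mk_surjective, Ideal.comap_top,
        ← RingHom.ker_eq_comap_bot, Ideal.mk_ker] at h1
      have h2 : Ideal.span {x} ≤ P.map τ :=
        (Ideal.span_singleton_le_iff_mem _).mpr (Ideal.mem_map_of_mem τ hfP)
      rw [sup_eq_left.mpr h2] at h1
      exact hP h1
    have hd1 : ringKrullDim ((C ⧸ Ideal.span {x}) ⧸ P.map τ₁) ≤ (d : WithBot ℕ∞) := by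
      refine le_trans ?_ hd
      have hle : P.map τ ≤ (P.map τ₁).comap (Ideal.Quotient.mk (Ideal.span {x})) := by
        rw [hmap]
        exact Ideal.le_comap_map
      exact ringKrullDim_le_of_surjective
        (Ideal.quotientMap (P.map τ₁) (Ideal.Quotient.mk (Ideal.span {x})) hle)
        (Ideal.quotientMap_surjective Ideal.Quotient.mk_surjective)
    have hC1 : ringKrullDim (C ⧸ Ideal.span {x}) = ((d + n : ℕ) : WithBot ℕ∞) := by
      rw [hC] at hdim1
      have h3 : ringKrullDim (C ⧸ Ideal.span {x}) + 1 = ((d + n : ℕ) : WithBot ℕ∞) + 1 := by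
        rw [hdim1]
        push_cast
        ring
      exact Groth.Agent.Lib.Helper6.FiltBl.withBot_add_one_cancel h3
    obtain ⟨fs₁, hfs₁, hw₁, hlen₁⟩ := ih (C ⧸ Ideal.span {x}) P τ₁ hP1 d hd1 hC1
    refine ⟨f :: fs₁, ?_, ?_, by simp [hlen₁]⟩
    · intro f' hf'
      rcases List.mem_cons.mp hf' with rfl | h
      · exact hfP
      · exact hfs₁ f' h
    · rw [List.map_cons]
      apply isWeaklyRegular_cons_of_quot (τ f) (fs₁.map τ) hreg
      rw [List.map_map]
      exact hw₁


section QuotList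

variable (A B : Type u) [CommRing A] [CommRing B] [Algebra A B] (xs : List B)
  (Qb : Ideal (B ⧸ Ideal.ofList xs)) [Qb.IsPrime] (q : Ideal B) [q.IsPrime]

/-- slicing the fibre local ring by a regular sequence -/
theorem cm_dim_fibLocRing_quot_list
    (hq : Qb.comap (Ideal.Quotient.mk (Ideal.ofList xs)) = q)
    (hCM : LocCoh.IsCohenMacaulayLocalRing (EGA4.FibLocRing A B q))
    (hreg : IsWeaklyRegular (EGA4.FibLocRing A B q)
      (xs.map (algebraMap B (EGA4.FibLocRing A B q)))) :
    LocCoh.IsCohenMacaulayLocalRing (EGA4.FibLocRing A (B ⧸ Ideal.ofList xs) Qb) ∧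
      ringKrullDim (EGA4.FibLocRing A (B ⧸ Ideal.ofList xs) Qb) + (xs.length : WithBot ℕ∞) =
        ringKrullDim (EGA4.FibLocRing A B q) := by
  subst hq
  set q := Qb.comap (Ideal.Quotient.mk (Ideal.ofList xs)) with hq
  have hsurj : Function.Surjective (Ideal.Quotient.mkₐ A (Ideal.ofList xs)) :=
    Ideal.Quotient.mkₐ_surjective A _
  obtain ⟨e⟩ := Groth.Agent.Lib.Helper5.SmFib.nonempty_fibLocRing_quotient_equiv A B
    (B ⧸ Ideal.ofList xs) (Ideal.Quotient.mkₐ A (Ideal.ofList xs)) hsurj Qb q rfl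
  set rs : List (EGA4.FibLocRing A B q) := xs.map (algebraMap B (EGA4.FibLocRing A B q)) with hrs
  have hideal : ((RingHom.ker (Ideal.Quotient.mkₐ A (Ideal.ofList xs)).toRingHom).map
      (algebraMap B (Localization.AtPrime q))).map
        (Ideal.Quotient.mk ((q.comap (algebraMap A B)).map
          (algebraMap A (Localization.AtPrime q)))) = Ideal.ofList rs := by
    have hk : RingHom.ker (Ideal.Quotient.mkₐ A (Ideal.ofList xs)).toRingHom = Ideal.ofList xs :=
      Ideal.mk_ker
    rw [hk, hrs, ← Ideal.map_ofList, Ideal.map_map]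
    rfl
  haveI := hCM
  have hmem : ∀ x ∈ rs, x ∈ maximalIdeal (EGA4.FibLocRing A B q) := by
    intro x hx
    obtain ⟨y, hy, rfl⟩ := List.mem_map.mp hx
    have hyq : y ∈ q := by
      show Ideal.Quotient.mk (Ideal.ofList xs) y ∈ Qb
      have : Ideal.Quotient.mk (Ideal.ofList xs) y = 0 :=
        Ideal.Quotient.eq_zero_iff_mem.mpr (Ideal.subset_span hy)
      rw [this]
      exact zero_mem _
    have hmax : maximalIdeal (EGA4.FibLocRing A B q) =
        q.map (algebraMap B (EGA4.FibLocRing A B q)) := by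
      rw [IsScalarTower.algebraMap_eq B (Localization.AtPrime q) (EGA4.FibLocRing A B q),
        ← Ideal.map_map, Localization.AtPrime.map_eq_maximalIdeal]
      exact (IsLocalRing.map_maximalIdeal_of_surjective _ Ideal.Quotient.mk_surjective).symm
    rw [hmax]
    exact Ideal.mem_map_of_mem _ hyq
  have hR : IsRegular (EGA4.FibLocRing A B q) rs :=
    IsRegular.of_isWeaklyRegular_of_mem_maximalIdeal (EGA4.FibLocRing A B q) hmem hreg
  have hne : Ideal.ofList rs ≠ ⊤ := by
    intro htop
    have : maximalIdeal (EGA4.FibLocRing A B q) = ⊤ :=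
      top_le_iff.mp (htop ▸ Ideal.span_le.mpr hmem)
    exact (IsLocalRing.maximalIdeal.isMaximal _).ne_top this
  haveI : Nontrivial (EGA4.FibLocRing A B q ⧸ Ideal.ofList rs) :=
    Ideal.Quotient.nontrivial_iff.mpr hne
  haveI : IsLocalRing (EGA4.FibLocRing A B q ⧸ Ideal.ofList rs) := inferInstance
  have hcmq : LocCoh.IsCohenMacaulayLocalRing (EGA4.FibLocRing A B q ⧸ Ideal.ofList rs) :=
    Groth.Agent.Helper1.CMBlow.cm_of_surjective_of_regular (Ideal.Quotient.mk (Ideal.ofList rs))
      Ideal.Quotient.mk_surjective rs hR Ideal.mk_ker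
  have hdimq := ringKrullDim_add_length_eq_ringKrullDim_of_isRegular rs hR
  rw [hideal] at e
  have hdime := ringKrullDim_eq_of_ringEquiv (R := EGA4.FibLocRing A B q ⧸ Ideal.ofList rs)
    (S := EGA4.FibLocRing A (B ⧸ Ideal.ofList xs) Qb) e
  refine ⟨Groth.Agent.Lead.CMAt.cm_of_ringEquiv e hcmq, ?_⟩
  rw [← hdime, ← hdimq, hrs, List.length_map]

end QuotList

end Groth.Agent.Lead.GrpdSlice
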