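import Mathlib
import Groth.Prelude
import Groth.Agent.Lib.Lead.GrpdSlice5
import Groth.Agent.Lib.Lead.GrpdSlice7

/-!
# Slicing groupoids: from a good chart to the slice, sequence version (lead)
-/

set_option autoImplicit false
set_option backward.isDefEq.respectTransparency.types false
set_option synthInstance.maxHeartbeats 400000
set_option maxHeartbeats 1000000
set_option linter.style.haveILetI false
set_option linter.unusedSectionVars false
universe u

open AlgebraicGeometry CategoryTheory CategoryTheory.Limits IsLocalRing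

namespace Groth.Agent.Lead.GrpdSlice

open RingTheory.Sequence

/-- the pullback square of spectra attached to a quotient by an ideal -/
theorem isPullback_quot_ideal {A B : Type u} [CommRing A] [CommRing B] (τ : A →+* B)
    (I : Ideal A) (J : Ideal B) (hJ : I.map τ = J) :
    ∃ τb : A ⧸ I →+* B ⧸ J,
      τb.comp (Ideal.Quotient.mk _) = (Ideal.Quotient.mk _).comp τ ∧
      IsPullback (Spec.map (CommRingCat.ofHom τb))
        (Spec.map (CommRingCat.ofHom (Ideal.Quotient.mk J)))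
        (Spec.map (CommRingCat.ofHom (Ideal.Quotient.mk I)))
        (Spec.map (CommRingCat.ofHom τ)) := by
  have hle : I ≤ J.comap τ := by
    rw [← Ideal.map_le_iff_le_comap, hJ]
  refine ⟨Ideal.quotientMap _ τ hle, ?_, ?_⟩
  · ext a
    simp
  · refine ((Groth.Agent.Helper9.SpfAdic.isPullback_Spec_iff τ (Ideal.Quotient.mk I)
      (Ideal.Quotient.mk J) (Ideal.quotientMap _ τ hle)
      Ideal.Quotient.mk_surjective Ideal.Quotient.mk_surjective ?_).mpr ?_).flip
    · ext a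
      simp
    · rw [Ideal.mk_ker, Ideal.mk_ker, hJ]

section Slice

variable {S : Scheme.{u}} (G : Grpd.GroupoidScheme S) (u : G.U)
  {W : G.U.Opens} (hW : IsAffineOpen W) (huW : u ∈ W) {V : G.R.Opens}
  (hV : IsAffineOpen V) (heV : G.e u ∈ V) (hVs : V ≤ G.s ⁻¹ᵁ W) (hVt : V ≤ G.t ⁻¹ᵁ W)

set_option maxHeartbeats 4000000 in
include hW huW hV heV in
theorem slice_of_chart_seq [LocallyOfFinitePresentation G.s] [LocallyOfFinitePresentation G.t]
    (hs : ∀ r : G.R, Grpd.IsCMAt G.s r) (fs : List Γ(G.U, W))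
    (hfs : ∀ f ∈ fs, f ∈ (hW.primeIdealOf ⟨u, huW⟩).asIdeal)
    (hflat : letI := (G.s.appLE W V hVs).hom.toAlgebra
      Module.Flat Γ(G.U, W) (Γ(G.R, V) ⧸ Ideal.ofList (fs.map (G.t.appLE W V hVt).hom)))
    (hreg : letI := (G.s.appLE W V hVs).hom.toAlgebra
      IsWeaklyRegular (EGA4.FibLocRing Γ(G.U, W) Γ(G.R, V) (hV.primeIdealOf ⟨G.e u, heV⟩).asIdeal)
        ((fs.map (G.t.appLE W V hVt).hom).map (algebraMap Γ(G.R, V)
          (EGA4.FibLocRing Γ(G.U, W) Γ(G.R, V) (hV.primeIdealOf ⟨G.e u, heV⟩).asIdeal)))) :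
    ∃ (U' : Scheme.{u}) (_ : IsAffine U') (g : U' ⟶ G.U) (u' : U') (p : ↑(pullback g G.t)),
      IsImmersion g ∧ LocallyOfFinitePresentation g ∧ g u' = u ∧ pullback.fst g G.t p = u' ∧
        pullback.snd g G.t p = G.e u ∧ Grpd.IsCMAt (pullback.snd g G.t ≫ G.s) p ∧
        FlatMor.fibreDimAt (pullback.snd g G.t ≫ G.s) p + (fs.length : WithBot ℕ∞) =
          FlatMor.fibreDimAt G.s (G.e u) := by
  letI alg : Algebra Γ(G.U, W) Γ(G.R, V) := (G.s.appLE W V hVs).hom.toAlgebra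
  haveI fp : Algebra.FinitePresentation Γ(G.U, W) Γ(G.R, V) :=
    HasRingHomProperty.appLE (P := @LocallyOfFinitePresentation) G.s inferInstance
      ⟨W, hW⟩ ⟨V, hV⟩ hVs
  set τ : Γ(G.U, W) →+* Γ(G.R, V) := (G.t.appLE W V hVt).hom with hτdef
  set xs : List Γ(G.R, V) := fs.map τ with hxs
  set Q := (hV.primeIdealOf ⟨G.e u, heV⟩).asIdeal with hQ
  have hσ : Q.comap (algebraMap Γ(G.U, W) Γ(G.R, V)) = (hW.primeIdealOf ⟨u, huW⟩).asIdeal :=
    comap_s_chart G u hW huW hV heV hVs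
  have hτc : Q.comap τ = (hW.primeIdealOf ⟨u, huW⟩).asIdeal :=
    comap_t_chart G u hW huW hV heV hVt
  have hxQ : ∀ x ∈ xs, x ∈ Q := by
    intro x hx
    obtain ⟨f, hf, rfl⟩ := List.mem_map.mp hx
    have : f ∈ Q.comap τ := hτc ▸ hfs f hf
    exact this
  -- the slice of the base
  obtain ⟨τb, hτb, hpb⟩ := isPullback_quot_ideal τ (Ideal.ofList fs) (Ideal.ofList xs)
    (Ideal.map_ofList τ fs)
  let Z : Scheme.{u} := Spec (CommRingCat.of (Γ(G.U, W) ⧸ Ideal.ofList fs))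
  let gZ : Z ⟶ G.U := Spec.map (CommRingCat.ofHom (Ideal.Quotient.mk (Ideal.ofList fs))) ≫ hW.fromSpec
  let Y : Scheme.{u} := Spec (CommRingCat.of (Γ(G.R, V) ⧸ Ideal.ofList xs))
  let mkB : Y ⟶ Spec Γ(G.R, V) := Spec.map (CommRingCat.ofHom (Ideal.Quotient.mk (Ideal.ofList xs)))
  let k₁ : Y ⟶ G.R := mkB ≫ hV.fromSpec
  have hsq_t : hV.fromSpec ≫ G.t = Spec.map (G.t.appLE W V hVt) ≫ hW.fromSpec :=
    (IsAffineOpen.SpecMap_appLE_fromSpec G.t hW hV hVt).symm
  have hsq_s : hV.fromSpec ≫ G.s = Spec.map (G.s.appLE W V hVs) ≫ hW.fromSpec :=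
    (IsAffineOpen.SpecMap_appLE_fromSpec G.s hW hV hVs).symm
  have hpb2 : IsPullback (Spec.map (CommRingCat.ofHom τb)) mkB gZ (hV.fromSpec ≫ G.t) := by
    rw [hsq_t]
    exact isPullback_comp_mono hpb hW.fromSpec
  have hcond : Spec.map (CommRingCat.ofHom τb) ≫ gZ = k₁ ≫ G.t := by
    rw [Category.assoc]
    exact hpb2.w
  let jY : Y ⟶ pullback gZ G.t := pullback.lift (Spec.map (CommRingCat.ofHom τb)) k₁ hcond
  have hjY1 : jY ≫ pullback.fst gZ G.t = Spec.map (CommRingCat.ofHom τb) := pullback.lift_fst _ _ _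
  have hjY2 : jY ≫ pullback.snd gZ G.t = k₁ := pullback.lift_snd _ _ _
  have hpb3 : IsPullback jY mkB (pullback.snd gZ G.t) hV.fromSpec := by
    refine IsPullback.of_right ?_ hjY2 (IsPullback.of_hasPullback gZ G.t)
    rw [hjY1]
    exact hpb2
  haveI : IsOpenImmersion jY :=
    MorphismProperty.of_isPullback (P := @IsOpenImmersion) hpb3.flip inferInstance
  -- the point
  obtain ⟨y₀, hy₀⟩ : ∃ y₀ : Y, mkB y₀ = hV.primeIdealOf ⟨G.e u, heV⟩ := by
    have hmem : (hV.primeIdealOf ⟨G.e u, heV⟩ : PrimeSpectrum Γ(G.R, V)) ∈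
        Set.range (PrimeSpectrum.comap (Ideal.Quotient.mk (Ideal.ofList xs))) := by
      rw [range_comap_of_surjective _ _ Ideal.Quotient.mk_surjective, Ideal.mk_ker,
        PrimeSpectrum.mem_zeroLocus]
      exact (Ideal.span_le).mpr (fun x hx => hxQ x hx)
    obtain ⟨y, hy⟩ := hmem
    exact ⟨y, hy⟩
  have hk₁y₀ : k₁ y₀ = G.e u := by
    show (mkB ≫ hV.fromSpec) y₀ = G.e u
    rw [Scheme.Hom.comp_apply, hy₀]
    exact hV.fromSpec_primeIdealOf ⟨G.e u, heV⟩
  have hp2 : pullback.snd gZ G.t (jY y₀) = G.e u := by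
    rw [← Scheme.Hom.comp_apply, hjY2]
    exact hk₁y₀
  have hgu' : gZ (pullback.fst gZ G.t (jY y₀)) = u := by
    rw [← Scheme.Hom.comp_apply, pullback.condition, Scheme.Hom.comp_apply, hp2]
    exact t_e_apply G u
  haveI : IsAffine Z := inferInstanceAs (IsAffine (Spec _))
  haveI hclosed : IsClosedImmersion
      (Spec.map (CommRingCat.ofHom (Ideal.Quotient.mk (Ideal.ofList fs)))) :=
    IsClosedImmersion.spec_of_surjective _ Ideal.Quotient.mk_surjective
  haveI himm : IsImmersion gZ := inferInstanceAs (IsImmersion (Spec.map _ ≫ hW.fromSpec))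
  haveI hlfpZ : LocallyOfFinitePresentation gZ := by
    haveI : LocallyOfFinitePresentation
        (Spec.map (CommRingCat.ofHom (Ideal.Quotient.mk (Ideal.ofList fs)))) := by
      rw [HasRingHomProperty.Spec_iff (P := @LocallyOfFinitePresentation)]
      exact RingHom.FinitePresentation.of_surjective _ Ideal.Quotient.mk_surjective
        (by
          rw [CommRingCat.hom_ofHom, Ideal.mk_ker]
          classical
          refine ⟨fs.toFinset, ?_⟩
          rw [Ideal.ofList]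
          congr 1
          ext a
          simp)
    exact inferInstanceAs (LocallyOfFinitePresentation (Spec.map _ ≫ hW.fromSpec))
  -- the chart of the composite
  let h : pullback gZ G.t ⟶ G.U := pullback.snd gZ G.t ≫ G.s
  let h' : Y ⟶ G.U := Spec.map (CommRingCat.ofHom (algebraMap Γ(G.U, W)
    (Γ(G.R, V) ⧸ Ideal.ofList xs))) ≫ hW.fromSpec
  have hk₁s : k₁ ≫ G.s = h' := by
    show (mkB ≫ hV.fromSpec) ≫ G.s = _
    rw [Category.assoc, hsq_s, ← Category.assoc, ← Spec.map_comp]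
    rfl
  have hjh : jY ≫ h = h' := by
    show jY ≫ pullback.snd gZ G.t ≫ G.s = h'
    rw [← Category.assoc, hjY2, hk₁s]
  -- ring-level facts
  obtain ⟨θ, -⟩ := exists_theta G.s hW hV hVs (G.e u) heV
  have hCMQ : LocCoh.IsCohenMacaulayLocalRing (EGA4.FibLocRing Γ(G.U, W) Γ(G.R, V) Q) :=
    Groth.Agent.Lead.CMAt.cm_of_ringEquiv θ.symm (hs (G.e u)).2
  have hQb : y₀.asIdeal.comap (Ideal.Quotient.mk (Ideal.ofList xs)) = Q :=
    congrArg PrimeSpectrum.asIdeal hy₀
  obtain ⟨hCMb, hdimb⟩ := cm_dim_fibLocRing_quot_list Γ(G.U, W) Γ(G.R, V) xs y₀.asIdeal Q hQb hCMQ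
    hreg
  have hdimQ : ringKrullDim (EGA4.FibLocRing Γ(G.U, W) Γ(G.R, V) Q) =
      FlatMor.fibreDimAt G.s (G.e u) := by
    rw [fibreDimAt_section G.s G.e G.e_s u]
    exact ringKrullDim_eq_of_ringEquiv θ
  obtain ⟨ε⟩ := Groth.Agent.Lead.MFib.exists_fibLocRing_equiv_spec (A := Γ(G.U, W))
    (C := Γ(G.R, V) ⧸ Ideal.ofList xs) hW.fromSpec h' rfl y₀
  -- properties of the morphisms
  haveI : LocallyOfFiniteType G.s := inferInstance
  haveI hlfth : LocallyOfFiniteType h :=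
    inferInstanceAs (LocallyOfFiniteType (pullback.snd gZ G.t ≫ G.s))
  haveI hlfth' : LocallyOfFiniteType h' := by
    rw [← hjh]
    infer_instance
  haveI hflh' : Flat h' := by
    haveI : Module.Flat Γ(G.U, W) (Γ(G.R, V) ⧸ Ideal.ofList xs) := hflat
    haveI : Flat (Spec.map (CommRingCat.ofHom (algebraMap Γ(G.U, W)
        (Γ(G.R, V) ⧸ Ideal.ofList xs)))) :=
      (HasRingHomProperty.Spec_iff (P := @Flat)).mpr
        (RingHom.flat_algebraMap_iff.mpr inferInstance)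
    exact inferInstanceAs (Flat (Spec.map _ ≫ hW.fromSpec))
  have hcmh' : MoreMor.IsCMAt h' y₀ :=
    ⟨Flat.stalkMap h' y₀, Groth.Agent.Lead.CMAt.cm_of_ringEquiv ε hCMb⟩
  have hcmh : MoreMor.IsCMAt h (jY y₀) := by
    have w : jY ≫ h = (jY ≫ h) ≫ 𝟙 G.U := (Category.comp_id _).symm
    have := (Groth.Agent.Lead.ChartCMGor.cm_chart jY (𝟙 G.U) (jY ≫ h) h w y₀).mp
    apply this
    rw [hjh]
    exact hcmh'
  refine ⟨Z, inferInstance, gZ, pullback.fst gZ G.t (jY y₀), jY y₀, himm, hlfpZ, hgu', rfl, hp2,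
    (Groth.Agent.Lead.GrpdCM.grpd_isCMAt_iff h (jY y₀)).mpr hcmh, ?_⟩
  have h1 : FlatMor.fibreDimAt h (jY y₀) = FlatMor.fibreDimAt (jY ≫ h) y₀ :=
    Groth.Agent.Helper2.FibDim.S7408_main h (jY ≫ h) jY (𝟙 G.U) (Category.comp_id _) y₀
  have h1' : FlatMor.fibreDimAt (jY ≫ h) y₀ = FlatMor.fibreDimAt h' y₀ := by rw [hjh]
  have h2 := Groth.Agent.Helper2.FibDim.fibreDimAt_eq_stalk_add_tr h' y₀
  haveI hk₁lft : LocallyOfFiniteType k₁ := by
    haveI : LocallyOfFiniteType mkB :=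
      inferInstanceAs (LocallyOfFiniteType (Spec.map (CommRingCat.ofHom
        (Ideal.Quotient.mk (Ideal.ofList xs)))))
    exact inferInstanceAs (LocallyOfFiniteType (mkB ≫ hV.fromSpec))
  haveI hk₁mono : Mono k₁ := by
    haveI : IsClosedImmersion mkB := IsClosedImmersion.spec_of_surjective _
      Ideal.Quotient.mk_surjective
    exact inferInstanceAs (Mono (mkB ≫ hV.fromSpec))
  have h3 : Groth.Agent.Lib.Helper4.FibDim1.tr h' y₀ = 0 := by
    have e1 : Groth.Agent.Lib.Helper4.FibDim1.tr h' y₀ =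
        Groth.Agent.Lib.Helper4.FibDim1.tr (k₁ ≫ G.s) y₀ :=
      Groth.Agent.Lib.Helper4.Aff2.tr_congr_hom _ _ hk₁s.symm y₀
    have e2 := Groth.Agent.Lib.Helper4.JacDim1.tr_comp k₁ G.s y₀
    have e3 : Groth.Agent.Lib.Helper4.FibDim1.tr k₁ y₀ = 0 :=
      Groth.Agent.Lib.Helper4.ConjDense1.tr_eq_zero_of_mono k₁ y₀
    have e4 : Groth.Agent.Lib.Helper4.FibDim1.tr G.s (k₁ y₀) = 0 := by
      rw [hk₁y₀]
      exact tr_section G.s G.e G.e_s u
    omega
  show FlatMor.fibreDimAt h (jY y₀) + (fs.length : WithBot ℕ∞) = FlatMor.fibreDimAt G.s (G.e u)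
  have hlen : xs.length = fs.length := by rw [hxs, List.length_map]
  rw [hlen] at hdimb
  rw [h1, h1', h2, h3, ← ringKrullDim_eq_of_ringEquiv ε, ← hdimQ, ← hdimb]
  simp

end Slice

end Groth.Agent.Lead.GrpdSlice
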