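import Mathlib
import Groth.Prelude
import Groth.Agent.Lib.Lead.GrpdSlice7
import Groth.Agent.Lib.Lead.RelReg12

/-!
# Slicing groupoids: the ring-level core for regular sequences (lead)
-/

set_option autoImplicit false
set_option backward.isDefEq.respectTransparency.types false
set_option synthInstance.maxHeartbeats 400000
set_option maxHeartbeats 1000000
set_option linter.style.haveILetI false
set_option linter.unusedSectionVars false
universe u

namespace Groth.Agent.Lead.GrpdSlice

open IsLocalRing RingTheory.Sequence Pointwise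

section CoreSeq

variable (A B : Type u) [CommRing A] [CommRing B] [Algebra A B] [Algebra.FinitePresentation A B]
  (τ : A →+* B) (Q : Ideal B) [Q.IsPrime]

set_option maxHeartbeats 2000000 in
/-- the ring-level core of the maximal slicing lemma -/
theorem core_seq (hτ : Q.comap τ = Q.comap (algebraMap A B))
    (hfl : Module.Flat A (LocalizedModule Q.primeCompl B))
    (hCM : LocCoh.IsCohenMacaulayLocalRing (EGA4.FibLocRing A B Q)) (d n : ℕ)
    (hD : ringKrullDim (DD A B τ Q) ≤ (d : WithBot ℕ∞))
    (hC : ringKrullDim (EGA4.FibLocRing A B Q) = ((d + n : ℕ) : WithBot ℕ∞)) :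
    ∃ fs : List A, (∀ f ∈ fs, f ∈ Q.comap (algebraMap A B)) ∧ fs.length = n ∧
      IsWeaklyRegular (EGA4.FibLocRing A B Q)
        ((fs.map τ).map (algebraMap B (EGA4.FibLocRing A B Q))) ∧
      ∃ g : B, g ∉ Q ∧ ∀ T : Submonoid B,
        (∀ r : Ideal B, r.IsPrime → Disjoint (r : Set B) (T : Set B) → g ∉ r) →
        (IsWeaklyRegular (LocalizedModule T B) (fs.map τ) ∧
          ∀ i ≤ (fs.map τ).length, Module.Flat A
            (LocalizedModule T B ⧸ (Ideal.ofList ((fs.map τ).take i) • ⊤ :
              Submodule B (LocalizedModule T B)))) := by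
  haveI : Q.LiesOver (Q.comap (algebraMap A B)) := ⟨rfl⟩
  haveI : (Q.comap (algebraMap A B)).IsPrime := Ideal.comap_isPrime _ _
  haveI := hCM
  set C := EGA4.FibLocRing A B Q with hCdef
  set τ' : A →+* C := (algebraMap B C).comp τ with hτ'
  have hmax : maximalIdeal C = Q.map (algebraMap B C) := by
    rw [IsScalarTower.algebraMap_eq B (Localization.AtPrime Q) C,
      ← Ideal.map_map, Localization.AtPrime.map_eq_maximalIdeal]
    exact (IsLocalRing.map_maximalIdeal_of_surjective _ Ideal.Quotient.mk_surjective).symm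
  have hPle : (Q.comap (algebraMap A B)).map τ' ≤ maximalIdeal C := by
    rw [Ideal.map_le_iff_le_comap]
    intro a ha
    rw [Ideal.mem_comap, hmax]
    apply Ideal.mem_map_of_mem
    have : a ∈ Q.comap τ := hτ ▸ ha
    exact this
  have hP : (Q.comap (algebraMap A B)).map τ' ≠ ⊤ := by
    intro htop
    exact (IsLocalRing.maximalIdeal.isMaximal C).ne_top (top_le_iff.mp (htop ▸ hPle))
  obtain ⟨fs, hfs, hw, hlen⟩ := exists_regular_list n C (Q.comap (algebraMap A B)) τ' hP d hD hC
  have hw' : IsWeaklyRegular C ((fs.map τ).map (algebraMap B C)) := by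
    rw [List.map_map]
    exact hw
  refine ⟨fs, hfs, hlen, hw', ?_⟩
  have hmem : ∀ b ∈ fs.map τ, b ∈ Q := by
    intro b hb
    obtain ⟨f, hf, rfl⟩ := List.mem_map.mp hb
    have : f ∈ Q.comap τ := hτ ▸ hfs f hf
    exact this
  have hJ : ((Q.comap (algebraMap A B)).map (algebraMap A (Localization.AtPrime Q))) =
      ((Q.comap (algebraMap A B)).map (algebraMap A B)).map
        (algebraMap B (Localization.AtPrime Q)) := by
    rw [Ideal.map_map, ← IsScalarTower.algebraMap_eq]
  have hw'' : IsWeaklyRegular (LocalizedModule Q.primeCompl B ⧸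
      (((Q.comap (algebraMap A B)).map (algebraMap A B)) • ⊤ :
        Submodule B (LocalizedModule Q.primeCompl B))) (fs.map τ) := by
    refine Groth.Agent.Lead.RelReg.weaklyRegular_translate A B (Q.comap (algebraMap A B)) Q
      (Localization.AtPrime Q) _ hJ (fs.map τ) ?_
    rw [List.map_map]
    exact hw'
  exact Groth.Agent.Lead.RelReg.seq_nhd A B (Q.comap (algebraMap A B)) Q (fs.map τ) B hmem hfl hw''

end CoreSeq

end Groth.Agent.Lead.GrpdSlice
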