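import Mathlib
import Groth.Prelude
import Groth.Agent.Lib.Lead.GrpdSlice6
import Groth.Agent.Lib.Lead.GrpdSlice8
import Groth.Agent.Lib.Lead.GrpdSlice9
import Groth.Agent.Lib.Lead.GrpdSlice10
import Groth.Agent.Lib.Lead.CMAt1
import Groth.Agent.Lib.Helper4.RegPres1

/-!
# Slicing groupoids: the maximal slice at a point (lead)
-/

set_option autoImplicit false
set_option backward.isDefEq.respectTransparency.types false
set_option synthInstance.maxHeartbeats 400000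
set_option maxHeartbeats 1000000
set_option linter.style.haveILetI false
set_option linter.unusedSectionVars false
universe u

open AlgebraicGeometry CategoryTheory CategoryTheory.Limits IsLocalRing RingTheory.Sequence

namespace Groth.Agent.Lead.GrpdSlice

open Groth.Agent.Lead.FO Groth.Agent.Lead.SD

theorem exists_nat_of_le (x : WithBot ℕ∞) (N : ℕ) (h0 : 0 ≤ x) (hN : x ≤ (N : WithBot ℕ∞)) :
    ∃ m : ℕ, x = (m : WithBot ℕ∞) ∧ m ≤ N := by
  induction x using WithBot.recBotCoe with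
  | bot => simp at h0
  | coe y =>
    have hy : y ≤ (N : ℕ∞) := by exact_mod_cast hN
    obtain ⟨m, rfl⟩ := ENat.ne_top_iff_exists.mp (ne_top_of_le_ne_top (ENat.coe_ne_top N) hy)
    refine ⟨m, rfl, ?_⟩
    exact_mod_cast hy

set_option maxHeartbeats 4000000 in
theorem slice_max_at (S : Scheme.{u}) (G : Grpd.GroupoidScheme S)
    [LocallyOfFinitePresentation G.s] [LocallyOfFinitePresentation G.t]
    (hs : ∀ r : G.R, Grpd.IsCMAt G.s r) (u : G.U)
    (hu : LocallyOfFiniteType (G.U.fromSpecResidueField u)) :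
    ∃ (U' : Scheme.{u}) (_ : IsAffine U') (g : U' ⟶ G.U) (u' : U') (p : ↑(pullback g G.t)),
      IsImmersion g ∧ LocallyOfFinitePresentation g ∧ g u' = u ∧ pullback.fst g G.t p = u' ∧
        pullback.snd g G.t p = G.e u ∧ Grpd.IsCMAt (pullback.snd g G.t ≫ G.s) p ∧
        FlatMor.fibreDimAt (pullback.snd g G.t ≫ G.s) p =
          topologicalKrullDim ↥(G.stabilizerToU.fiber u) := by
  obtain ⟨_, ⟨W, hW, rfl⟩, huW, -⟩ :=
    G.U.isBasis_affineOpens.exists_subset_of_mem_open (Set.mem_univ u) isOpen_univ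
  have he1 : G.e u ∈ ((G.s ⁻¹ᵁ W ⊓ G.t ⁻¹ᵁ W : G.R.Opens) : Set G.R) :=
    ⟨by show G.s (G.e u) ∈ W; rw [s_e_apply]; exact huW,
      by show G.t (G.e u) ∈ W; rw [t_e_apply]; exact huW⟩
  obtain ⟨_, ⟨V, hV, rfl⟩, heV, hVsub⟩ :=
    G.R.isBasis_affineOpens.exists_subset_of_mem_open he1 (G.s ⁻¹ᵁ W ⊓ G.t ⁻¹ᵁ W).isOpen
  have hVs : V ≤ G.s ⁻¹ᵁ W := fun y hy => (hVsub hy).1
  have hVt : V ≤ G.t ⁻¹ᵁ W := fun y hy => (hVsub hy).2
  letI alg : Algebra Γ(G.U, W) Γ(G.R, V) := (G.s.appLE W V hVs).hom.toAlgebra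
  haveI fp : Algebra.FinitePresentation Γ(G.U, W) Γ(G.R, V) :=
    HasRingHomProperty.appLE (P := @LocallyOfFinitePresentation) G.s inferInstance
      ⟨W, hW⟩ ⟨V, hV⟩ hVs
  set τ : Γ(G.U, W) →+* Γ(G.R, V) := (G.t.appLE W V hVt).hom with hτdef
  set Q := (hV.primeIdealOf ⟨G.e u, heV⟩).asIdeal with hQ
  have hσ : Q.comap (algebraMap Γ(G.U, W) Γ(G.R, V)) = (hW.primeIdealOf ⟨u, huW⟩).asIdeal :=
    comap_s_chart G u hW huW hV heV hVs
  have hτ : Q.comap τ = Q.comap (algebraMap Γ(G.U, W) Γ(G.R, V)) :=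
    (comap_t_chart G u hW huW hV heV hVt).trans hσ.symm
  have hfl : Module.Flat Γ(G.U, W) (LocalizedModule Q.primeCompl Γ(G.R, V)) := by
    have h1 := (Groth.Agent.Lib.Helper4.RelEffCartierFlat1.flat_stalkMap_iff G.s W hW V hV hVs
      heV).mp (hs (G.e u)).1
    exact (Groth.Agent.Lead.FlatLoc.flat_localRingHom_iff (G.s.appLE W V hVs).hom Q).mp h1
  obtain ⟨θ, hθ⟩ := exists_theta G.s hW hV hVs (G.e u) heV
  have hCM : LocCoh.IsCohenMacaulayLocalRing (EGA4.FibLocRing Γ(G.U, W) Γ(G.R, V) Q) :=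
    Groth.Agent.Lead.CMAt.cm_of_ringEquiv θ.symm (hs (G.e u)).2
  haveI : LocallyOfFiniteType G.s := inferInstance
  haveI : LocallyOfFiniteType G.t := inferInstance
  -- the two dimensions
  have hR := chart_dim_R G u hW hV heV hVs
  have hD := chart_dim_le G u hW huW hV heV hVs hVt hu
  have h12 := dim_fiber_le G u hu
  have h0 := dim_fiber_nonneg G u
  haveI := hCM
  obtain ⟨N, hN⟩ := Groth.Agent.Lead.CMAt.exists_nat_dim
    (EGA4.FibLocRing Γ(G.U, W) Γ(G.R, V) Q)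
  rw [← hR, hN] at h12
  obtain ⟨m, hm, hmN⟩ := exists_nat_of_le _ N h0 h12
  rw [hm] at hD
  have hC : ringKrullDim (EGA4.FibLocRing Γ(G.U, W) Γ(G.R, V) Q) =
      ((m + (N - m) : ℕ) : WithBot ℕ∞) := by
    rw [hN, Nat.add_sub_cancel' hmN]
  obtain ⟨fs, hfsP, hlen, hw, g, hgQ, hT⟩ :=
    core_seq Γ(G.U, W) Γ(G.R, V) τ Q hτ hfl hCM m (N - m) hD hC
  -- shrink the chart
  have hle : G.R.basicOpen g ≤ V := G.R.basicOpen_le g
  have hV' : IsAffineOpen (G.R.basicOpen g) := hV.basicOpen g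
  have heV' : G.e u ∈ G.R.basicOpen g := (mem_basicOpen_iff hV ⟨G.e u, heV⟩ g).mpr hgQ
  have hV's : G.R.basicOpen g ≤ G.s ⁻¹ᵁ W := hle.trans hVs
  have hV't : G.R.basicOpen g ≤ G.t ⁻¹ᵁ W := hle.trans hVt
  haveI locB' : IsLocalization.Away g Γ(G.R, G.R.basicOpen g) := hV.isLocalization_basicOpen g
  letI algAB' : Algebra Γ(G.U, W) Γ(G.R, G.R.basicOpen g) :=
    (G.s.appLE W (G.R.basicOpen g) hV's).hom.toAlgebra
  have hmapS : ∀ a : Γ(G.U, W), (G.s.appLE W (G.R.basicOpen g) hV's).hom a =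
      algebraMap Γ(G.R, V) Γ(G.R, G.R.basicOpen g) ((G.s.appLE W V hVs).hom a) := by
    intro a
    have := Scheme.Hom.appLE_map G.s hVs (homOfLE hle).op
    rw [← this]
    rfl
  have hmapT : ∀ a : Γ(G.U, W), (G.t.appLE W (G.R.basicOpen g) hV't).hom a =
      algebraMap Γ(G.R, V) Γ(G.R, G.R.basicOpen g) ((G.t.appLE W V hVt).hom a) := by
    intro a
    have := Scheme.Hom.appLE_map G.t hVt (homOfLE hle).op
    rw [← this]
    rfl
  haveI : IsScalarTower Γ(G.U, W) Γ(G.R, V) Γ(G.R, G.R.basicOpen g) :=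
    IsScalarTower.of_algebraMap_eq hmapS
  have hTg := hT (Submonoid.powers g) (fun r hr hdisj hgr =>
    Set.disjoint_left.mp hdisj hgr (Submonoid.mem_powers g))
  have htrans := Groth.Agent.Lead.RelReg.seq_away Γ(G.U, W) Γ(G.R, V) g (fs.map τ)
    Γ(G.R, G.R.basicOpen g) hTg.1 hTg.2
  have hlist : (fs.map τ).map (algebraMap Γ(G.R, V) Γ(G.R, G.R.basicOpen g)) =
      fs.map (G.t.appLE W (G.R.basicOpen g) hV't).hom := by
    rw [List.map_map]
    apply List.map_congr_left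
    intro a _
    exact (hmapT a).symm
  have hfs : ∀ f ∈ fs, f ∈ (hW.primeIdealOf ⟨u, huW⟩).asIdeal := fun f hf => hσ ▸ hfsP f hf
  have hflat : Module.Flat Γ(G.U, W) (Γ(G.R, G.R.basicOpen g) ⧸
      Ideal.ofList (fs.map (G.t.appLE W (G.R.basicOpen g) hV't).hom)) := by
    have h1 := htrans.2 _ le_rfl
    rw [List.take_length, hlist] at h1
    exact h1
  obtain ⟨θ', hθ'⟩ := exists_theta G.s hW hV' hV's (G.e u) heV'
  have hreg : IsWeaklyRegular (EGA4.FibLocRing Γ(G.U, W) Γ(G.R, G.R.basicOpen g)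
      (hV'.primeIdealOf ⟨G.e u, heV'⟩).asIdeal)
      ((fs.map (G.t.appLE W (G.R.basicOpen g) hV't).hom).map
        (algebraMap Γ(G.R, G.R.basicOpen g) (EGA4.FibLocRing Γ(G.U, W) Γ(G.R, G.R.basicOpen g)
          (hV'.primeIdealOf ⟨G.e u, heV'⟩).asIdeal))) := by
    have h1 := Groth.Agent.Lib.Helper4.RegPres1.isWeaklyRegular_map_ringEquiv
      (θ.trans θ'.symm) _ hw
    have hl : ((fs.map (G.t.appLE W (G.R.basicOpen g) hV't).hom).map
        (algebraMap Γ(G.R, G.R.basicOpen g) (EGA4.FibLocRing Γ(G.U, W) Γ(G.R, G.R.basicOpen g)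
          (hV'.primeIdealOf ⟨G.e u, heV'⟩).asIdeal))) =
        ((fs.map τ).map (algebraMap Γ(G.R, V) (EGA4.FibLocRing Γ(G.U, W) Γ(G.R, V) Q))).map
          (θ.trans θ'.symm) := by
      rw [List.map_map, List.map_map, List.map_map]
      apply List.map_congr_left
      intro a _
      simp only [Function.comp_apply, RingEquiv.trans_apply]
      rw [hθ (τ a), RingEquiv.eq_symm_apply, hθ', hmapT a]
      congr 1
      exact G.R.presheaf.germ_res_apply (homOfLE hle) (G.e u) heV' (τ a)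
    rw [hl]
    exact h1
  obtain ⟨U', hU', g', u', p, h1, h2, h3, h4, h5, h6, h7⟩ :=
    slice_of_chart_seq G u hW huW hV' heV' hV's hV't hs fs hfs hflat hreg
  refine ⟨U', hU', g', u', p, h1, h2, h3, h4, h5, h6, ?_⟩
  rw [hlen, ← hR, hN] at h7
  rw [hm]
  have h8 : ((N : ℕ) : WithBot ℕ∞) = (m : WithBot ℕ∞) + ((N - m : ℕ) : WithBot ℕ∞) := by
    rw [← Nat.cast_add, Nat.add_sub_cancel' hmN]
  rw [h8] at h7
  exact ENat.WithBot.add_natCast_cancel.mp h7

end Groth.Agent.Lead.GrpdSlice
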