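import Mathlib
import Groth.Prelude
import Groth.Agent.S7510
import Groth.Agent.Lib.Lead.CMQF11
import Groth.Agent.Lib.Lead.ChartCMGor2
import Groth.Agent.Lib.Lead.CMAt2
import Groth.Agent.Lib.Lead.GrpdCM1

/-!
# Slicing groupoids: invariance of the Cohen-Macaulay locus (lead)
-/

set_option autoImplicit false
set_option backward.isDefEq.respectTransparency.types false
set_option synthInstance.maxHeartbeats 400000
set_option maxHeartbeats 1000000
set_option linter.style.haveILetI false
set_option linter.unusedSectionVars false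
universe u

open AlgebraicGeometry CategoryTheory CategoryTheory.Limits IsLocalRing

namespace Groth.Agent.Lead.GrpdSlice

open Groth.Agent.Helper2 Groth.Agent.Helper2.GorSch Groth.Agent.Lead.ChartCMGor

/-- the property "locally of finite type and Cohen-Macaulay at every point" -/
def PCM : MorphismProperty Scheme.{u} :=
  fun _ _ f => LocallyOfFiniteType f ∧ ∀ x, MoreMor.IsCMAt f x

/-- the property "flat and locally of finite presentation" -/
def RFL : MorphismProperty Scheme.{u} :=
  fun _ _ f => Flat f ∧ LocallyOfFinitePresentation f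

instance : (PCM.{u}).RespectsIso := by
  apply MorphismProperty.RespectsIso.mk
  · intro X Y Z e f hf
    obtain ⟨h1, h2⟩ := hf
    haveI := h1
    refine ⟨inferInstance, fun x => ?_⟩
    rw [cm_precomp_etale_iff e.hom f (fun z => isLocallyNoetherian_fiber_of_lft f z)
      (fun z => isLocallyNoetherian_fiber_of_lft (e.hom ≫ f) z) x]
    exact h2 _
  · intro X Y Z e f hf
    obtain ⟨h1, h2⟩ := hf
    haveI := h1
    refine ⟨inferInstance, fun x => ?_⟩
    rw [cm_postcomp_etale_iff f e.hom (fun z => isLocallyNoetherian_fiber_of_lft f z)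
      (fun z => isLocallyNoetherian_fiber_of_lft (f ≫ e.hom) z) x]
    exact h2 _

/-- the Cohen-Macaulay locus of a morphism locally of finite presentation -/
def WCM {X Y : Scheme.{u}} (f : X ⟶ Y) (hf : LocallyOfFinitePresentation f) : X.Opens :=
  ⟨{x | MoreMor.IsCMAt f x}, @Groth.Agent.Lead.CMQF.S4961_main _ _ f hf⟩

theorem mem_WCM {X Y : Scheme.{u}} (f : X ⟶ Y) (hf : LocallyOfFinitePresentation f) (x : X) :
    x ∈ WCM f hf ↔ MoreMor.IsCMAt f x := Iff.rfl

theorem flat_of_cm {X Y : Scheme.{u}} (f : X ⟶ Y) (h : ∀ x, Grpd.IsCMAt f x) : Flat f := by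
  rw [Flat.iff_flat_stalkMap]
  exact fun x => (h x).1

theorem exists_open_cm {S : Scheme.{u}} (G : Grpd.GroupoidScheme S)
    [LocallyOfFinitePresentation G.s] [LocallyOfFinitePresentation G.t]
    (hs : ∀ r : G.R, Grpd.IsCMAt G.s r) (ht : ∀ r : G.R, Grpd.IsCMAt G.t r)
    {U' : Scheme.{u}} (g : U' ⟶ G.U) [LocallyOfFinitePresentation g] :
    ∃ V : U'.Opens, ∀ q : ↑(pullback g G.t), pullback.fst g G.t q ∈ V ↔
      Grpd.IsCMAt (pullback.snd g G.t ≫ G.s) q := by
  have hh : LocallyOfFinitePresentation (pullback.snd g G.t ≫ G.s) := inferInstance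
  obtain ⟨V, hV⟩ := Groth.Agent.S7510.result S G g PCM.{u} @LocallyOfFinitePresentation RFL.{u}
    (fun _ _ f hf => hf.2) (fun f hf => WCM f hf)
    (by
      intro X Y f hf
      haveI := hf
      refine ⟨inferInstance, fun x => ?_⟩
      rw [cm_precomp_etale_iff (WCM f hf).ι f (fun z => isLocallyNoetherian_fiber_of_lft f z)
        (fun z => isLocallyNoetherian_fiber_of_lft ((WCM f hf).ι ≫ f) z) x]
      exact x.2)
    (by
      intro X Y f hf V hP x hx
      haveI := hf
      obtain ⟨h1, h2⟩ := hP
      have h3 := h2 ⟨x, hx⟩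
      rw [cm_precomp_etale_iff V.ι f (fun z => isLocallyNoetherian_fiber_of_lft f z)
        (fun z => isLocallyNoetherian_fiber_of_lft (V.ι ≫ f) z) ⟨x, hx⟩] at h3
      exact h3)
    (by
      intro X Y Y' f hf b hb hf'
      haveI := hf
      haveI := hb.1
      haveI := hb.2
      ext x'
      have hbc := Groth.Agent.Lead.CMAt.cmAt_baseChange X Y (pullback f b) Y' f b
        (pullback.snd f b) (pullback.fst f b) (IsPullback.of_hasPullback f b)
        (fun y => isLocallyNoetherian_fiber_of_lft f y) x'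
      constructor
      · intro hx
        exact hbc.1 hx
      · intro hx
        exact hbc.2.2 (Flat.stalkMap b _) hx)
    ⟨flat_of_cm G.s hs, inferInstance⟩ ⟨flat_of_cm G.t ht, inferInstance⟩ inferInstance hh
  refine ⟨V, fun q => ?_⟩
  rw [Groth.Agent.Lead.GrpdCM.grpd_isCMAt_iff]
  have : q ∈ pullback.fst g G.t ⁻¹ᵁ V ↔ q ∈ WCM (pullback.snd g G.t ≫ G.s) hh := by rw [hV]
  exact this

end Groth.Agent.Lead.GrpdSlice
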