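import Mathlib
import Groth.Prelude
import Groth.Agent.Lib.Lead.GrpdSlice11
import Groth.Agent.Lib.Lead.GrpdSlice12
import Groth.Agent.Lib.Helper2.FibDim.EtaleLocal

/-!
# Slicing groupoids: the maximal slice (lead)
-/

set_option autoImplicit false
set_option backward.isDefEq.respectTransparency.types false
set_option synthInstance.maxHeartbeats 400000
set_option maxHeartbeats 1000000
set_option linter.style.haveILetI false
set_option linter.unusedSectionVars false
universe u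

open AlgebraicGeometry CategoryTheory CategoryTheory.Limits IsLocalRing

namespace Groth.Agent.Lead.GrpdSlice

open Groth.Agent.Helper2 Groth.Agent.Helper2.GorSch Groth.Agent.Lead.ChartCMGor

variable {S : Scheme.{u}} (G : Grpd.GroupoidScheme S)

/-- shrinking a slice so that `h` becomes Cohen-Macaulay everywhere -/
theorem shrink_slice [LocallyOfFinitePresentation G.s] [LocallyOfFinitePresentation G.t]
    (hs : ∀ r : G.R, Grpd.IsCMAt G.s r) (ht : ∀ r : G.R, Grpd.IsCMAt G.t r)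
    {U' : Scheme.{u}} (g : U' ⟶ G.U) [IsImmersion g] [LocallyOfFinitePresentation g]
    (p : ↑(pullback g G.t)) (hcm : Grpd.IsCMAt (pullback.snd g G.t ≫ G.s) p) :
    ∃ (U'' : Scheme.{u}) (_ : IsAffine U'') (ι : U'' ⟶ U') (_ : IsOpenImmersion ι) (u'' : U'')
      (p'' : ↑(pullback (ι ≫ g) G.t)), ι u'' = pullback.fst g G.t p ∧
        pullback.fst (ι ≫ g) G.t p'' = u'' ∧ pullback.snd (ι ≫ g) G.t p'' = pullback.snd g G.t p ∧
        (∀ q, Grpd.IsCMAt (pullback.snd (ι ≫ g) G.t ≫ G.s) q) ∧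
        FlatMor.fibreDimAt (pullback.snd (ι ≫ g) G.t ≫ G.s) p'' =
          FlatMor.fibreDimAt (pullback.snd g G.t ≫ G.s) p := by
  obtain ⟨V, hV⟩ := exists_open_cm G hs ht g
  have hu'V : pullback.fst g G.t p ∈ V := (hV p).mpr hcm
  obtain ⟨_, ⟨U₀, hU₀, rfl⟩, hu'U₀, hU₀V⟩ :=
    U'.isBasis_affineOpens.exists_subset_of_mem_open hu'V V.isOpen
  obtain ⟨h, hh⟩ : ∃ h : pullback g G.t ⟶ G.U, h = pullback.snd g G.t ≫ G.s := ⟨_, rfl⟩
  haveI hlfp : LocallyOfFinitePresentation h := by rw [hh]; infer_instance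
  rw [← hh] at hcm hV
  obtain ⟨ι, hι⟩ : ∃ ι : (U₀ : Scheme.{u}) ⟶ U', ι = Scheme.Opens.ι U₀ := ⟨_, rfl⟩
  haveI : IsOpenImmersion ι := by rw [hι]; infer_instance
  obtain ⟨κ, hκ1, hκ2⟩ : ∃ κ : pullback (ι ≫ g) G.t ⟶ pullback g G.t,
      κ ≫ pullback.fst g G.t = pullback.fst (ι ≫ g) G.t ≫ ι ∧
      κ ≫ pullback.snd g G.t = pullback.snd (ι ≫ g) G.t :=
    ⟨pullback.lift (pullback.fst (ι ≫ g) G.t ≫ ι) (pullback.snd (ι ≫ g) G.t)
      (by rw [Category.assoc, pullback.condition]), pullback.lift_fst _ _ _,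
      pullback.lift_snd _ _ _⟩
  have hsq : IsPullback κ (pullback.fst (ι ≫ g) G.t) (pullback.fst g G.t) ι := by
    refine IsPullback.of_right ?_ hκ1 (IsPullback.of_hasPullback g G.t).flip
    rw [hκ2]
    exact (IsPullback.of_hasPullback (ι ≫ g) G.t).flip
  haveI : IsOpenImmersion κ :=
    MorphismProperty.of_isPullback (P := @IsOpenImmersion) hsq.flip inferInstance
  have hcomp : pullback.snd (ι ≫ g) G.t ≫ G.s = κ ≫ h := by
    rw [hh, ← Category.assoc, hκ2]
  have hιmem : ∀ z : (U₀ : Scheme.{u}), ι z ∈ V := by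
    intro z
    rw [hι]
    exact hU₀V z.2
  have hcmall : ∀ q, Grpd.IsCMAt (pullback.snd (ι ≫ g) G.t ≫ G.s) q := by
    intro q
    rw [hcomp, Groth.Agent.Lead.GrpdCM.grpd_isCMAt_iff,
      cm_precomp_etale_iff κ h (fun z => isLocallyNoetherian_fiber_of_lft h z)
        (fun z => isLocallyNoetherian_fiber_of_lft (κ ≫ h) z) q,
      ← Groth.Agent.Lead.GrpdCM.grpd_isCMAt_iff, ← hV]
    rw [← Scheme.Hom.comp_apply, hκ1, Scheme.Hom.comp_apply]
    exact hιmem _
  obtain ⟨u'', hu''⟩ : ∃ u'' : (U₀ : Scheme.{u}), ι u'' = pullback.fst g G.t p := by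
    refine ⟨⟨pullback.fst g G.t p, hu'U₀⟩, ?_⟩
    rw [hι]
    rfl
  have hcond : (ι ≫ g) u'' = G.t (pullback.snd g G.t p) := by
    rw [Scheme.Hom.comp_apply, hu'', ← Scheme.Hom.comp_apply, pullback.condition,
      Scheme.Hom.comp_apply]
  obtain ⟨p'', hp''1, hp''2⟩ := Scheme.Pullback.exists_preimage_pullback (f := ι ≫ g)
    (g := G.t) u'' (pullback.snd g G.t p) hcond
  haveI : IsPreimmersion (pullback.snd g G.t) :=
    MorphismProperty.pullback_snd (P := @IsPreimmersion) _ _ inferInstance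
  have hκp : κ p'' = p := by
    apply (pullback.snd g G.t).isEmbedding.injective
    rw [← Scheme.Hom.comp_apply, hκ2, hp''2]
  refine ⟨U₀, hU₀, ι, inferInstance, u'', p'', hu'', hp''1, hp''2, hcmall, ?_⟩
  have h1 := Groth.Agent.Helper2.FibDim.S7408_main h (κ ≫ h) κ (𝟙 G.U)
    (Category.comp_id _) p''
  rw [hκp] at h1
  rw [hcomp, ← hh]
  exact h1.symm

/-- the involution of the restricted groupoid `R' = (U' ×_U R) ×_U U'` -/
theorem exists_inv {U' : Scheme.{u}} (g : U' ⟶ G.U) (h : pullback g G.t ⟶ G.U)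
    (hh : h = pullback.snd g G.t ≫ G.s) :
    ∃ ι' : pullback h g ⟶ pullback h g,
      IsIso ι' ∧ ι' ≫ pullback.snd h g = pullback.fst h g ≫ pullback.fst g G.t := by
  have hh2 : ∀ {T : Scheme.{u}} (x : T ⟶ pullback g G.t),
      x ≫ h = x ≫ pullback.snd g G.t ≫ G.s := by
    intro T x
    rw [hh]
  obtain ⟨a, ha⟩ : ∃ a : pullback h g ⟶ pullback g G.t, a = pullback.fst h g := ⟨_, rfl⟩
  obtain ⟨b, hb⟩ : ∃ b : pullback h g ⟶ U', b = pullback.snd h g := ⟨_, rfl⟩
  have hab : a ≫ h = b ≫ g := by rw [ha, hb]; exact pullback.condition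
  have hc1 : b ≫ g = (a ≫ pullback.snd g G.t ≫ G.i) ≫ G.t := by
    rw [Category.assoc, Category.assoc, G.i_t, ← hab, hh2]
  obtain ⟨a', ha'1, ha'2⟩ : ∃ a' : pullback h g ⟶ pullback g G.t,
      a' ≫ pullback.fst g G.t = b ∧ a' ≫ pullback.snd g G.t = a ≫ pullback.snd g G.t ≫ G.i :=
    ⟨pullback.lift b (a ≫ pullback.snd g G.t ≫ G.i) hc1, pullback.lift_fst _ _ _,
      pullback.lift_snd _ _ _⟩
  have hc2 : a' ≫ h = (a ≫ pullback.fst g G.t) ≫ g := by
    rw [hh2, ← Category.assoc, ha'2, Category.assoc, Category.assoc, G.i_s, Category.assoc,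
      pullback.condition]
  obtain ⟨ι', hι'1, hι'2⟩ : ∃ ι' : pullback h g ⟶ pullback h g,
      ι' ≫ pullback.fst h g = a' ∧ ι' ≫ pullback.snd h g = a ≫ pullback.fst g G.t :=
    ⟨pullback.lift a' (a ≫ pullback.fst g G.t) hc2, pullback.lift_fst _ _ _,
      pullback.lift_snd _ _ _⟩
  have hinv : ι' ≫ ι' = 𝟙 _ := by
    apply pullback.hom_ext
    · rw [Category.assoc, hι'1, Category.id_comp]
      apply pullback.hom_ext
      · rw [Category.assoc, ha'1, hb, hι'2, ha]
      · have ha'3 : a' ≫ pullback.snd g G.t ≫ G.i = a ≫ pullback.snd g G.t := by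
          rw [← Category.assoc, ha'2, Category.assoc, Category.assoc,
            Groth.Agent.Lead.GrpdCM.i_i, Category.comp_id]
        rw [Category.assoc, ha'2, ← ha, ← Category.assoc]
        have hι'3 : ι' ≫ a = a' := by rw [ha]; exact hι'1
        rw [hι'3, ha'3]
    · rw [Category.assoc, hι'2, ← Category.assoc, ha, hι'1, ha'1, Category.id_comp, hb]
  refine ⟨ι', ⟨ι', hinv, hinv⟩, ?_⟩
  rw [hι'2, ha]

theorem restr_cm [LocallyOfFinitePresentation G.s] [LocallyOfFinitePresentation G.t]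
    {U' : Scheme.{u}} (g : U' ⟶ G.U) [LocallyOfFinitePresentation g]
    (h : pullback g G.t ⟶ G.U) (hh' : h = pullback.snd g G.t ≫ G.s)
    (hh : ∀ q, Grpd.IsCMAt h q) :
    (∀ q, Grpd.IsCMAt (pullback.snd h g) q) ∧
      LocallyOfFinitePresentation (pullback.snd h g) ∧
      (∀ q, Grpd.IsCMAt (pullback.fst h g ≫ pullback.fst g G.t) q) ∧
      LocallyOfFinitePresentation (pullback.fst h g ≫ pullback.fst g G.t) := by
  obtain ⟨ι', hiso, hι'⟩ := exists_inv G g h hh'
  haveI hlfp : LocallyOfFinitePresentation h := by rw [hh']; infer_instance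
  haveI : LocallyOfFinitePresentation (pullback.snd h g) :=
    MorphismProperty.pullback_snd _ _ inferInstance
  have hs' : ∀ q, Grpd.IsCMAt (pullback.snd h g) q := by
    intro q
    rw [Groth.Agent.Lead.GrpdCM.grpd_isCMAt_iff]
    have hbc := Groth.Agent.Lead.CMAt.cmAt_baseChange (pullback g G.t) G.U (pullback h g) U' h g
      (pullback.snd h g) (pullback.fst h g) (IsPullback.of_hasPullback h g)
      (fun y => isLocallyNoetherian_fiber_of_lft h y) q
    exact hbc.1 ((Groth.Agent.Lead.GrpdCM.grpd_isCMAt_iff _ _).mp (hh _))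
  refine ⟨hs', inferInstance, ?_, ?_⟩
  · intro q
    rw [← hι', Groth.Agent.Lead.GrpdCM.grpd_isCMAt_iff,
      cm_precomp_etale_iff ι' (pullback.snd h g)
        (fun z => isLocallyNoetherian_fiber_of_lft (pullback.snd h g) z)
        (fun z => isLocallyNoetherian_fiber_of_lft (ι' ≫ pullback.snd h g) z) q,
      ← Groth.Agent.Lead.GrpdCM.grpd_isCMAt_iff]
    exact hs' _
  · rw [← hι']
    infer_instance

theorem main7507 (S : Scheme.{u}) (G : Grpd.GroupoidScheme S)
    [LocallyOfFinitePresentation G.s] [LocallyOfFinitePresentation G.t]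
    (hs : ∀ r : G.R, Grpd.IsCMAt G.s r) (ht : ∀ r : G.R, Grpd.IsCMAt G.t r) (u : G.U)
    (hu : LocallyOfFiniteType (G.U.fromSpecResidueField u)) :
    ∃ (U' : Scheme.{u}) (_ : IsAffine U') (g : U' ⟶ G.U) (u' : U') (p : ↑(pullback g G.t)),
      IsImmersion g ∧ LocallyOfFinitePresentation g ∧ g u' = u ∧ pullback.fst g G.t p = u' ∧
      pullback.snd g G.t p = G.e u ∧ (∀ q, Grpd.IsCMAt (pullback.snd g G.t ≫ G.s) q) ∧
      LocallyOfFinitePresentation (pullback.snd g G.t ≫ G.s) ∧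
      (∀ q, Grpd.IsCMAt (pullback.snd (pullback.snd g G.t ≫ G.s) g) q) ∧
      LocallyOfFinitePresentation (pullback.snd (pullback.snd g G.t ≫ G.s) g) ∧
      (∀ q, Grpd.IsCMAt (pullback.fst (pullback.snd g G.t ≫ G.s) g ≫ pullback.fst g G.t) q) ∧
      LocallyOfFinitePresentation
        (pullback.fst (pullback.snd g G.t ≫ G.s) g ≫ pullback.fst g G.t) ∧
      FlatMor.fibreDimAt (pullback.snd g G.t ≫ G.s) p =
        topologicalKrullDim ↥(G.stabilizerToU.fiber u) := by
  obtain ⟨U', hU', g, u', p, himm, hlfp, hgu, hp1, hp2, hcm, hdim⟩ := slice_max_at S G hs u hu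
  haveI := himm
  haveI := hlfp
  obtain ⟨U'', hU'', ι, hι, u'', p'', h1, h2, h3, h4, h5⟩ := shrink_slice G hs ht g p hcm
  haveI := hι
  haveI : LocallyOfFinitePresentation (ι ≫ g) := inferInstance
  obtain ⟨r1, r2, r3, r4⟩ := restr_cm G (ι ≫ g) _ rfl h4
  refine ⟨U'', hU'', ι ≫ g, u'', p'', inferInstance, inferInstance, ?_, h2, h3.trans hp2, h4,
    inferInstance, r1, r2, r3, r4, h5.trans hdim⟩
  rw [Scheme.Hom.comp_apply, h1, hp1, hgu]

end Groth.Agent.Lead.GrpdSlice
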