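import Mathlib
import Groth.Prelude
import Groth.Agent.Lib.Lead.GrpdSlice13
import Groth.Agent.Lib.Helper4.Chev2
import Groth.Agent.Lib.Helper4.Aff2
import Groth.Agent.Lib.Helper4.FibDimBC2
import Groth.Agent.Lib.Helper2.Sch.FibreDimZero

/-!
# Slicing groupoids: the quasi-finite slice (lead)
-/

set_option autoImplicit false
set_option backward.isDefEq.respectTransparency.types false
set_option synthInstance.maxHeartbeats 400000
set_option maxHeartbeats 1000000
set_option linter.style.haveILetI false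
set_option linter.unusedSectionVars false
universe u

open AlgebraicGeometry CategoryTheory CategoryTheory.Limits IsLocalRing

namespace Groth.Agent.Lead.GrpdSlice

open Groth.Agent.Helper2 Groth.Agent.Helper2.GorSch Groth.Agent.Lead.ChartCMGor

/-- the property "locally of finite type with all fibre dimensions `≤ 0`" -/
def PQF : MorphismProperty Scheme.{u} :=
  fun _ _ f => LocallyOfFiniteType f ∧ ∀ x, FlatMor.fibreDimAt f x ≤ ((0 : ℕ) : WithBot ℕ∞)

theorem fibreDimAt_precomp_etale {X Y Z : Scheme.{u}} (e : X ⟶ Y) [Etale e] (f : Y ⟶ Z) (x : X) :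
    FlatMor.fibreDimAt (e ≫ f) x = FlatMor.fibreDimAt f (e x) :=
  (Groth.Agent.Helper2.FibDim.S7408_main f (e ≫ f) e (𝟙 Z) (Category.comp_id _) x).symm

theorem fibreDimAt_postcomp_etale {X Y Z : Scheme.{u}} (f : X ⟶ Y) (e : Y ⟶ Z) [Etale e] (x : X) :
    FlatMor.fibreDimAt (f ≫ e) x = FlatMor.fibreDimAt f x := by
  have h := Groth.Agent.Helper2.FibDim.S7408_main (f ≫ e) f (𝟙 X) e (Category.id_comp _).symm x
  exact h

instance : (PQF.{u}).RespectsIso := by
  apply MorphismProperty.RespectsIso.mk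
  · intro X Y Z e f hf
    obtain ⟨h1, h2⟩ := hf
    haveI := h1
    refine ⟨inferInstance, fun x => ?_⟩
    rw [fibreDimAt_precomp_etale]
    exact h2 _
  · intro X Y Z e f hf
    obtain ⟨h1, h2⟩ := hf
    haveI := h1
    refine ⟨inferInstance, fun x => ?_⟩
    rw [fibreDimAt_postcomp_etale]
    exact h2 _

/-- the locus of fibre dimension `≤ 0` of a morphism locally of finite presentation -/
def WQF {X Y : Scheme.{u}} (f : X ⟶ Y) (hf : LocallyOfFinitePresentation f) : X.Opens :=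
  ⟨{x | FlatMor.fibreDimAt f x ≤ ((0 : ℕ) : WithBot ℕ∞)},
    haveI := hf
    Groth.Agent.Lib.Helper4.Chev2.S0402_main f 0⟩

theorem exists_open_qf {S : Scheme.{u}} (G : Grpd.GroupoidScheme S)
    [LocallyOfFinitePresentation G.s] [LocallyOfFinitePresentation G.t]
    {U' : Scheme.{u}} (g : U' ⟶ G.U) [LocallyOfFinitePresentation g] :
    ∃ V : U'.Opens, ∀ q : ↑(pullback g G.t), pullback.fst g G.t q ∈ V ↔
      FlatMor.fibreDimAt (pullback.snd g G.t ≫ G.s) q ≤ ((0 : ℕ) : WithBot ℕ∞) := by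
  have hh : LocallyOfFinitePresentation (pullback.snd g G.t ≫ G.s) := inferInstance
  obtain ⟨V, hV⟩ := Groth.Agent.S7510.result S G g PQF.{u} @LocallyOfFinitePresentation
    @LocallyOfFinitePresentation le_rfl (fun f hf => WQF f hf)
    (by
      intro X Y f hf
      haveI := hf
      refine ⟨inferInstance, fun x => ?_⟩
      rw [Groth.Agent.Lib.Helper4.Aff2.fibreDimAt_restrict f (WQF f hf) x]
      exact x.2)
    (by
      intro X Y f hf V hP x hx
      haveI := hf
      obtain ⟨h1, h2⟩ := hP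
      have h3 := h2 ⟨x, hx⟩
      rw [Groth.Agent.Lib.Helper4.Aff2.fibreDimAt_restrict f V ⟨x, hx⟩] at h3
      exact h3)
    (by
      intro X Y Y' f hf b hb hf'
      haveI := hf
      ext x'
      have hbc := Groth.Agent.Lib.Helper4.FibDimBC2.fibreDimAt_abs f b (pullback.fst f b)
        (pullback.snd f b) (IsPullback.of_hasPullback f b) x'
      show FlatMor.fibreDimAt f (pullback.fst f b x') ≤ _ ↔
        FlatMor.fibreDimAt (pullback.snd f b) x' ≤ _
      rw [hbc])
    inferInstance inferInstance inferInstance hh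
  refine ⟨V, fun q => ?_⟩
  have : q ∈ pullback.fst g G.t ⁻¹ᵁ V ↔ q ∈ WQF (pullback.snd g G.t ≫ G.s) hh := by rw [hV]
  exact this

/-- shrinking the slice to an affine open inside a given open -/
theorem shrink_general {S : Scheme.{u}} (G : Grpd.GroupoidScheme S) {U' : Scheme.{u}}
    (g : U' ⟶ G.U) (V : U'.Opens) (u' : U') (hu' : u' ∈ V) :
    ∃ (U'' : Scheme.{u}) (_ : IsAffine U'') (ι : U'' ⟶ U') (_ : IsOpenImmersion ι) (u'' : U'')
      (κ : pullback (ι ≫ g) G.t ⟶ pullback g G.t), IsOpenImmersion κ ∧ ι u'' = u' ∧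
        (∀ z, ι z ∈ V) ∧
        κ ≫ pullback.fst g G.t = pullback.fst (ι ≫ g) G.t ≫ ι ∧
        κ ≫ pullback.snd g G.t = pullback.snd (ι ≫ g) G.t := by
  obtain ⟨_, ⟨U₀, hU₀, rfl⟩, hu'U₀, hU₀V⟩ :=
    U'.isBasis_affineOpens.exists_subset_of_mem_open hu' V.isOpen
  obtain ⟨ι, hι⟩ : ∃ ι : (U₀ : Scheme.{u}) ⟶ U', ι = Scheme.Opens.ι U₀ := ⟨_, rfl⟩
  haveI : IsOpenImmersion ι := by rw [hι]; infer_instance
  obtain ⟨κ, hκ1, hκ2⟩ : ∃ κ : pullback (ι ≫ g) G.t ⟶ pullback g G.t,
      κ ≫ pullback.fst g G.t = pullback.fst (ι ≫ g) G.t ≫ ι ∧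
      κ ≫ pullback.snd g G.t = pullback.snd (ι ≫ g) G.t :=
    ⟨pullback.lift (pullback.fst (ι ≫ g) G.t ≫ ι) (pullback.snd (ι ≫ g) G.t)
      (by rw [Category.assoc, pullback.condition]), pullback.lift_fst _ _ _,
      pullback.lift_snd _ _ _⟩
  have hsq : IsPullback κ (pullback.fst (ι ≫ g) G.t) (pullback.fst g G.t) ι := by
    refine IsPullback.of_right ?_ hκ1 (IsPullback.of_hasPullback g G.t).flip
    rw [hκ2]
    exact (IsPullback.of_hasPullback (ι ≫ g) G.t).flip
  haveI : IsOpenImmersion κ :=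
    MorphismProperty.of_isPullback (P := @IsOpenImmersion) hsq.flip inferInstance
  refine ⟨U₀, hU₀, ι, inferInstance, ⟨u', hu'U₀⟩, κ, inferInstance, ?_, ?_, hκ1, hκ2⟩
  · rw [hι]
    rfl
  · intro z
    rw [hι]
    exact hU₀V z.2

theorem dim_fiber_le_zero {S : Scheme.{u}} (G : Grpd.GroupoidScheme S)
    [LocallyOfFiniteType G.stabilizerToU] [LocallyQuasiFinite G.stabilizerToU] (u : G.U) :
    topologicalKrullDim ↥(G.stabilizerToU.fiber u) ≤ 0 := by
  haveI : IsLocallyArtinian (G.stabilizerToU.fiber u) := inferInstance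
  exact topologicalKrullDim_zero_of_discreteTopology _

theorem lqf_of_fibreDimAt_le {X Y : Scheme.{u}} (f : X ⟶ Y) [LocallyOfFiniteType f]
    (h : ∀ x, FlatMor.fibreDimAt f x ≤ ((0 : ℕ) : WithBot ℕ∞)) : LocallyQuasiFinite f := by
  rw [← Scheme.Hom.quasiFiniteLocus_eq_top_iff]
  refine top_le_iff.mp fun x _ => ?_
  show f.QuasiFiniteAt x
  rw [← Groth.Agent.Helper2.FibreDimZero.fibreDimAt_eq_zero_iff]
  apply le_antisymm
  · exact_mod_cast h x
  · unfold FlatMor.fibreDimAt FlatMor.localDim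
    exact le_iInf fun W =>
      Groth.Agent.Helper2.FibreDimZero.topologicalKrullDim_nonneg_of_mem _ _ W.2

theorem main7508 (S : Scheme.{u}) (G : Grpd.GroupoidScheme S)
    [LocallyOfFinitePresentation G.s] [LocallyOfFinitePresentation G.t]
    (hs : ∀ r : G.R, Grpd.IsCMAt G.s r) (ht : ∀ r : G.R, Grpd.IsCMAt G.t r)
    [LocallyOfFiniteType G.stabilizerToU] [LocallyQuasiFinite G.stabilizerToU] (u : G.U)
    (hu : LocallyOfFiniteType (G.U.fromSpecResidueField u)) :
    ∃ (U' : Scheme.{u}) (_ : IsAffine U') (g : U' ⟶ G.U) (u' : U'), IsImmersion g ∧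
      LocallyOfFinitePresentation g ∧ g u' = u ∧
      (Flat (pullback.snd g G.t ≫ G.s) ∧ LocallyOfFinitePresentation (pullback.snd g G.t ≫ G.s) ∧
        LocallyOfFiniteType (pullback.snd g G.t ≫ G.s) ∧
        LocallyQuasiFinite (pullback.snd g G.t ≫ G.s)) ∧
      (Flat (pullback.snd (pullback.snd g G.t ≫ G.s) g) ∧
        LocallyOfFinitePresentation (pullback.snd (pullback.snd g G.t ≫ G.s) g) ∧
        LocallyQuasiFinite (pullback.snd (pullback.snd g G.t ≫ G.s) g)) ∧
      (Flat (pullback.fst (pullback.snd g G.t ≫ G.s) g ≫ pullback.fst g G.t) ∧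
        LocallyOfFinitePresentation
          (pullback.fst (pullback.snd g G.t ≫ G.s) g ≫ pullback.fst g G.t) ∧
        LocallyQuasiFinite
          (pullback.fst (pullback.snd g G.t ≫ G.s) g ≫ pullback.fst g G.t)) := by
  obtain ⟨U', hU', g, u', p, himm, hlfp, hgu, hp1, hp2, hcm, hdim⟩ := slice_max_at S G hs u hu
  haveI := himm
  haveI := hlfp
  obtain ⟨V1, hV1⟩ := exists_open_cm G hs ht g
  obtain ⟨V2, hV2⟩ := exists_open_qf G g
  have hu'V : u' ∈ V1 ⊓ V2 := by
    rw [← hp1]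
    refine ⟨(hV1 p).mpr hcm, (hV2 p).mpr ?_⟩
    rw [hdim]
    exact_mod_cast dim_fiber_le_zero G u
  obtain ⟨U'', hU'', ι, hι, u'', κ, hκ, hιu, hιV, hκ1, hκ2⟩ :=
    shrink_general G g (V1 ⊓ V2) u' hu'V
  haveI := hι
  haveI := hκ
  obtain ⟨h, hh⟩ : ∃ h : pullback g G.t ⟶ G.U, h = pullback.snd g G.t ≫ G.s := ⟨_, rfl⟩
  haveI hlfph : LocallyOfFinitePresentation h := by rw [hh]; infer_instance
  rw [← hh] at hV1 hV2
  obtain ⟨h'', hh''⟩ : ∃ h'' : pullback (ι ≫ g) G.t ⟶ G.U,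
    h'' = pullback.snd (ι ≫ g) G.t ≫ G.s := ⟨_, rfl⟩
  have hcomp : h'' = κ ≫ h := by
    rw [hh'', hh, ← Category.assoc, hκ2]
  haveI hlfph'' : LocallyOfFinitePresentation h'' := by rw [hcomp]; infer_instance
  have hmem : ∀ q, pullback.fst g G.t (κ q) ∈ V1 ⊓ V2 := by
    intro q
    rw [← Scheme.Hom.comp_apply, hκ1, Scheme.Hom.comp_apply]
    exact hιV _
  have hcmall : ∀ q, Grpd.IsCMAt h'' q := by
    intro q
    rw [hcomp, Groth.Agent.Lead.GrpdCM.grpd_isCMAt_iff,
      cm_precomp_etale_iff κ h (fun z => isLocallyNoetherian_fiber_of_lft h z)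
        (fun z => isLocallyNoetherian_fiber_of_lft (κ ≫ h) z) q,
      ← Groth.Agent.Lead.GrpdCM.grpd_isCMAt_iff, ← hV1]
    exact (hmem q).1
  have hqfall : ∀ q, FlatMor.fibreDimAt h'' q ≤ ((0 : ℕ) : WithBot ℕ∞) := by
    intro q
    rw [hcomp, fibreDimAt_precomp_etale, ← hV2]
    exact (hmem q).2
  haveI hflat : Flat h'' := flat_of_cm h'' hcmall
  haveI hlqf : LocallyQuasiFinite h'' := lqf_of_fibreDimAt_le h'' hqfall
  haveI : LocallyOfFinitePresentation (ι ≫ g) := inferInstance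
  obtain ⟨ι', hiso, hι'⟩ := exists_inv G (ι ≫ g) h'' hh''
  haveI := hiso
  haveI : Flat (pullback.snd h'' (ι ≫ g)) := MorphismProperty.pullback_snd _ _ inferInstance
  haveI : LocallyOfFinitePresentation (pullback.snd h'' (ι ≫ g)) :=
    MorphismProperty.pullback_snd _ _ inferInstance
  haveI : LocallyQuasiFinite (pullback.snd h'' (ι ≫ g)) :=
    MorphismProperty.pullback_snd _ _ inferInstance
  refine ⟨U'', hU'', ι ≫ g, u'', inferInstance, inferInstance, ?_, ?_, ?_, ?_⟩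
  · rw [Scheme.Hom.comp_apply, hιu, hgu]
  · rw [← hh'']
    exact ⟨hflat, hlfph'', inferInstance, hlqf⟩
  · rw [← hh'']
    exact ⟨inferInstance, inferInstance, inferInstance⟩
  · rw [← hh'', ← hι']
    exact ⟨inferInstance, inferInstance, inferInstance⟩

end Groth.Agent.Lead.GrpdSlice
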