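import Mathlib
import Groth.Prelude.Def_Coh
import Groth.Prelude.Def_CAlg
import Groth.Agent.Lib.Helper1.HH0
import Groth.Agent.Lib.Helper2.Sch.DimFormula
import Groth.Agent.Lib.Helper8.Depth7
import Groth.Agent.Lib.Helper8.ABS9

/-!
# A proper one-dimensional scheme over a field with `h⁰(O) = 1` is connected, Cohen–Macaulay and
equidimensional (lead)
-/

set_option autoImplicit false
set_option linter.style.haveILetI false
universe u
open CategoryTheory CategoryTheory.Limits AlgebraicGeometry TopologicalSpace Opposite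

namespace Groth.Agent.Lead.H0One

/-! ### algebra -/

theorem cm_of_dim_le_one (R : Type u) [CommRing R] [IsLocalRing R] [IsNoetherianRing R]
    (h1 : ringKrullDim R ≤ 1) (h2 : ringKrullDim R = 1 → LocCoh.depth R R ≠ 0) :
    LocCoh.IsCohenMacaulayLocalRing R := by
  refine { supportDim_eq_depth := ?_ }
  rw [Module.supportDim_self_eq_ringKrullDim]
  have hle : ((LocCoh.depth R R : ℕ∞) : WithBot ℕ∞) ≤ ringKrullDim R := by
    have h := Groth.Agent.Helper8.Depth.depth_le_supportDim (A := R) (M := R)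
    rwa [Module.supportDim_self_eq_ringKrullDim] at h
  have hnn : (0 : WithBot ℕ∞) ≤ ringKrullDim R := ringKrullDim_nonneg_of_nontrivial
  have hnb : ringKrullDim R ≠ ⊥ := by
    intro h
    rw [h] at hnn
    exact absurd hnn (by simp)
  obtain ⟨n, hn⟩ := WithBot.ne_bot_iff_exists.mp hnb
  rw [← hn] at hle h1 ⊢
  have hle' : LocCoh.depth R R ≤ n := WithBot.coe_le_coe.mp hle
  have h1' : n ≤ 1 := by exact_mod_cast h1
  suffices n = LocCoh.depth R R by rw [this]
  rcases lt_or_eq_of_le h1' with h | h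
  · have hn0 : n = 0 := Order.lt_one_iff.mp h
    subst hn0
    exact (nonpos_iff_eq_zero.mp hle').symm
  · subst h
    have hd := h2 (by rw [← hn]; rfl)
    exact le_antisymm hle' (Order.one_le_iff_ne_zero.mpr hd) |>.symm

theorem lemmaA {A : Type u} [CommRing A] [IsNoetherianRing A] (p : Ideal A) [p.IsPrime]
    (R : Type u) [CommRing R] [IsLocalRing R] [Algebra A R] [IsLocalization.AtPrime R p]
    (s : R) (hs : s ≠ 0) (hsoc : ∀ y ∈ IsLocalRing.maximalIdeal R, y * s = 0) :
    ∃ a : A, algebraMap A R a ≠ 0 ∧ ∀ b ∈ p, b * a = 0 := by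
  classical
  obtain ⟨⟨a₀, g⟩, hg⟩ := IsLocalization.mk'_surjective p.primeCompl s
  change IsLocalization.mk' R a₀ g = s at hg
  have hga : algebraMap A R a₀ = s * algebraMap A R g := by
    rw [← hg, IsLocalization.mk'_spec]
  have hgu : IsUnit (algebraMap A R (g : A)) := IsLocalization.map_units R g
  have ha₀ : algebraMap A R a₀ ≠ 0 := by
    rw [hga]
    intro h
    exact hs ((hgu.mul_left_eq_zero).mp h)
  have hex : ∀ b ∈ p, ∃ c : A, c ∉ p ∧ c * (b * a₀) = 0 := by
    intro b hb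
    have hbm : algebraMap A R b ∈ IsLocalRing.maximalIdeal R :=
      (IsLocalization.AtPrime.to_map_mem_maximal_iff R p b).mpr hb
    have h0 : algebraMap A R (b * a₀) = 0 := by
      rw [map_mul, hga, ← mul_assoc, hsoc _ hbm, zero_mul]
    obtain ⟨c, hc⟩ := (IsLocalization.map_eq_zero_iff p.primeCompl R (b * a₀)).mp h0
    exact ⟨c, c.2, hc⟩
  choose! c hc using hex
  obtain ⟨T, hT⟩ := (isNoetherianRing_iff_ideal_fg A).mp inferInstance p
  have hTp : ∀ b ∈ T, b ∈ p := fun b hb => hT ▸ Ideal.subset_span hb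
  have hu : (∏ b ∈ T, c b) ∉ p := by
    intro hup
    obtain ⟨b, hbT, hcb⟩ := (Ideal.IsPrime.prod_mem_iff).mp hup
    exact (hc b (hTp b hbT)).1 hcb
  have huT : ∀ b ∈ T, (∏ b ∈ T, c b) * (b * a₀) = 0 := by
    intro b hb
    have : (∏ x ∈ T, c x) = (∏ x ∈ T.erase b, c x) * c b := (Finset.prod_erase_mul T c hb).symm
    rw [this, mul_assoc, (hc b (hTp b hb)).2, mul_zero]
  refine ⟨(∏ b ∈ T, c b) * a₀, ?_, ?_⟩
  · rw [map_mul]
    intro h
    have huu : IsUnit (algebraMap A R (∏ b ∈ T, c b)) :=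
      IsLocalization.map_units R (⟨_, hu⟩ : p.primeCompl)
    exact ha₀ ((huu.mul_right_eq_zero).mp h)
  · intro b hb
    have hle : p ≤ LinearMap.ker (LinearMap.mulRight A ((∏ b ∈ T, c b) * a₀)) := by
      rw [← hT, Ideal.span_le]
      intro b hb
      rw [SetLike.mem_coe, LinearMap.mem_ker, LinearMap.mulRight_apply]
      rw [← huT b hb]
      ring
    have := hle hb
    rwa [LinearMap.mem_ker, LinearMap.mulRight_apply] at this

/-! ### topology -/

theorem coheight_le_top {Y : Scheme.{u}} (y : Y) :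
    (Order.coheight y : WithBot ℕ∞) ≤ topologicalKrullDim Y := by
  letI := specializationOrder Y
  have h1 := Order.coheight_orderIso (irreducibleSetEquivPoints (α := Y)).symm y
  have h2 := Order.coheight_le_krullDim ((irreducibleSetEquivPoints (α := Y)).symm y)
  rw [h1] at h2
  exact h2

theorem two_points (X : Scheme.{u}) (hdim : topologicalKrullDim X = 1) : ∃ a b : X, a ≠ b := by
  have h1 : (1 : WithBot ℕ∞) ≤ Order.krullDim (IrreducibleCloseds X) := by
    change 1 ≤ topologicalKrullDim X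
    rw [hdim]
  obtain ⟨A, B, hAB⟩ := Order.one_le_krullDim_iff.mp h1
  obtain ⟨a, ha⟩ := A.isIrreducible.nonempty
  obtain ⟨b, hbB, hbA⟩ : ∃ b, b ∈ (B : Set X) ∧ b ∉ (A : Set X) :=
    Set.not_subset.mp (fun h => (not_le_of_gt hAB) (SetLike.coe_subset_coe.mp h))
  exact ⟨a, b, fun h => hbA (h ▸ ha)⟩

theorem exists_ne (X : Scheme.{u}) (hdim : topologicalKrullDim X = 1) (x : X) : ∃ z : X, z ≠ x := by
  obtain ⟨a, b, hab⟩ := two_points X hdim
  by_cases hxa : a = x
  · exact ⟨b, fun hb => hab (hxa.trans hb.symm)⟩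
  · exact ⟨a, hxa⟩

/-! ### gluing -/

theorem glue_zero' (X : Scheme.{u}) (U V W : X.Opens) (hW : U ⊔ V = W) (hU : U ≤ W) (hV : V ≤ W)
    (a : Γ(X, U))
    (hres : X.presheaf.map (homOfLE (inf_le_left : U ⊓ V ≤ U)).op a = 0) :
    ∃ t : Γ(X, W), X.presheaf.map (homOfLE hU).op t = a ∧
      X.presheaf.map (homOfLE hV).op t = 0 := by
  subst hW
  have hmem : X.presheaf.map (homOfLE (inf_le_left : U ⊓ V ≤ U)).op a =
      X.presheaf.map (homOfLE (inf_le_right : U ⊓ V ≤ V)).op (0 : Γ(X, V)) := by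
    rw [map_zero]; exact hres
  have h1 := X.sheaf.objSupIsoProdEqLocus_inv_fst U V ⟨⟨a, 0⟩, hmem⟩
  have h2 := X.sheaf.objSupIsoProdEqLocus_inv_snd U V ⟨⟨a, 0⟩, hmem⟩
  exact ⟨(X.sheaf.objSupIsoProdEqLocus U V).inv ⟨⟨a, 0⟩, hmem⟩, h1, h2⟩

theorem glue_zero (X : Scheme.{u}) (U V : X.Opens) (hUV : U ⊔ V = ⊤) (a : Γ(X, U))
    (hres : X.presheaf.map (homOfLE (inf_le_left : U ⊓ V ≤ U)).op a = 0) :
    ∃ t : Γ(X, ⊤), X.presheaf.map (homOfLE (le_top : U ≤ ⊤)).op t = a ∧
      X.presheaf.map (homOfLE (le_top : V ≤ ⊤)).op t = 0 :=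
  glue_zero' X U V ⊤ hUV le_top le_top a hres

/-! ### sections supported at a closed point -/

theorem socle_section {X : Scheme.{u}} [IsLocallyNoetherian X] {U : X.Opens} (hU : IsAffineOpen U)
    (xU : U) (hcl : IsClosed ({(xU : X)} : Set X)) (s : X.presheaf.stalk (xU : X)) (hs0 : s ≠ 0)
    (hsoc : ∀ y ∈ IsLocalRing.maximalIdeal (X.presheaf.stalk (xU : X)), y * s = 0) :
    ∃ a : Γ(X, U), X.presheaf.germ U xU xU.2 a ≠ 0 ∧
      ∀ b ∈ (hU.primeIdealOf xU).asIdeal, b * a = 0 := by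
  haveI : IsNoetherianRing Γ(X, U) := IsLocallyNoetherian.component_noetherian ⟨U, hU⟩
  letI := X.presheaf.algebra_section_stalk xU
  haveI := hU.isLocalization_stalk xU
  exact lemmaA (hU.primeIdealOf xU).asIdeal (X.presheaf.stalk (xU : X)) s hs0 hsoc

theorem germ_eq_zero_of_ne {X : Scheme.{u}} {U : X.Opens} (hU : IsAffineOpen U) (xU yU : U)
    (hmax : (hU.primeIdealOf xU).asIdeal.IsMaximal) (hne : (yU : X) ≠ xU) (a : Γ(X, U))
    (hpa : ∀ b ∈ (hU.primeIdealOf xU).asIdeal, b * a = 0) :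
    X.presheaf.germ U yU yU.2 a = 0 := by
  have hx' := hU.fromSpec_primeIdealOf xU
  have hy' := hU.fromSpec_primeIdealOf yU
  have hnle : ¬ (hU.primeIdealOf xU).asIdeal ≤ (hU.primeIdealOf yU).asIdeal := by
    intro hle
    have h1 := hmax.eq_of_le (hU.primeIdealOf yU).isPrime.ne_top hle
    have h2 : hU.primeIdealOf xU = hU.primeIdealOf yU := PrimeSpectrum.ext h1
    exact hne (hy'.symm.trans ((congrArg (fun p => hU.fromSpec p) h2.symm).trans hx'))
  obtain ⟨b, hbx, hby⟩ := SetLike.not_le_iff_exists.mp hnle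
  have hba : b * a = 0 := hpa b hbx
  letI := X.presheaf.algebra_section_stalk yU
  haveI := hU.isLocalization_stalk yU
  have hunit : IsUnit (algebraMap Γ(X, U) (X.presheaf.stalk (yU : X)) b) :=
    IsLocalization.map_units (X.presheaf.stalk (yU : X))
      (⟨b, hby⟩ : (hU.primeIdealOf yU).asIdeal.primeCompl)
  have hprod : algebraMap Γ(X, U) (X.presheaf.stalk (yU : X)) b *
      algebraMap Γ(X, U) (X.presheaf.stalk (yU : X)) a = 0 := by
    rw [← map_mul, hba, map_zero]
  exact (hunit.mul_right_eq_zero).mp hprod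

section field

variable (k : Type u) [Field k] (X : Scheme.{u}) [X.Over (Spec (CommRingCat.of k))]

theorem isUnit_of_ne_zero (h0 : Module.finrank k (Coh.HH X (Coh.structureModule X) 0) = 1)
    (t : Γ(X, ⊤)) (ht : t ≠ 0) : IsUnit t := by
  obtain ⟨v, hv, hspan⟩ := finrank_eq_one_iff'.mp h0
  let tg : k →+* Γ(X, ⊤) := Coh.toGlobal (X ↘ Spec (CommRingCat.of k))
  obtain ⟨ev, hev⟩ : ∃ ev : Γ(X, ⊤),
      ev = Groth.Agent.Helper1.HH0.equiv X (Coh.structureModule X) v := ⟨_, rfl⟩
  have key : ∀ w : Γ(X, ⊤), ∃ c : k, w = tg c * ev := by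
    intro w
    obtain ⟨c, hc⟩ := hspan ((Groth.Agent.Helper1.HH0.equiv X (Coh.structureModule X)).symm w)
    refine ⟨c, ?_⟩
    have h1 := Groth.Agent.Helper1.HH0.equiv_smul_over X (Coh.structureModule X) c v
    have h2 : Groth.Agent.Helper1.HH0.equiv X (Coh.structureModule X) (c • v) = w := by
      rw [hc]
      exact AddEquiv.apply_symm_apply _ _
    rw [hev]
    exact h2.symm.trans h1
  obtain ⟨c₁, hc₁⟩ := key 1
  obtain ⟨c, hc⟩ := key t
  have hc0 : c ≠ 0 := by
    rintro rfl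
    apply ht
    rw [hc, map_zero, zero_mul]
  refine isUnit_iff_exists_inv.mpr ⟨tg c⁻¹ * tg c₁, ?_⟩
  calc t * (tg c⁻¹ * tg c₁) = (tg c * tg c⁻¹) * (tg c₁ * ev) := by rw [hc]; ring
    _ = 1 := by rw [← hc₁, ← map_mul, mul_inv_cancel₀ hc0, map_one, one_mul]

theorem false_of_glue (h0 : Module.finrank k (Coh.HH X (Coh.structureModule X) 0) = 1)
    (U V : X.Opens) (hUV : U ⊔ V = ⊤) (a : Γ(X, U)) (ha : a ≠ 0)
    (hres : X.presheaf.map (homOfLE (inf_le_left : U ⊓ V ≤ U)).op a = 0)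
    (z : X) (hz : z ∈ V) : False := by
  obtain ⟨t, htU, htV⟩ := glue_zero X U V hUV a hres
  have ht : t ≠ 0 := by
    rintro rfl
    apply ha
    rw [← htU, map_zero]
  have hu := isUnit_of_ne_zero k X h0 t ht
  have hz0 : X.presheaf.germ ⊤ z trivial t = 0 := by
    have := X.presheaf.germ_res_apply (homOfLE (le_top : V ≤ ⊤)) z hz t
    rw [← this, htV, map_zero]
  have hu' : IsUnit (X.presheaf.germ ⊤ z trivial t) :=
    hu.map (X.presheaf.germ ⊤ z trivial).hom
  rw [hz0] at hu'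
  exact not_isUnit_zero hu'

theorem connected (hdim : topologicalKrullDim X = 1)
    (h0 : Module.finrank k (Coh.HH X (Coh.structureModule X) 0) = 1) : ConnectedSpace X := by
  obtain ⟨a₀, -, -⟩ := two_points X hdim
  rw [connectedSpace_iff_clopen]
  refine ⟨⟨a₀⟩, fun s hs => ?_⟩
  by_contra hcon
  rw [not_or] at hcon
  obtain ⟨z₁, hz₁⟩ := Set.nonempty_iff_ne_empty.mpr hcon.1
  obtain ⟨z₂, hz₂⟩ : ∃ z, z ∉ s :=
    not_forall.mp (fun h => hcon.2 (Set.eq_univ_iff_forall.mpr h))
  let U : X.Opens := ⟨s, hs.2⟩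
  let V : X.Opens := ⟨sᶜ, hs.1.isOpen_compl⟩
  have hUV : U ⊔ V = ⊤ := by
    rw [eq_top_iff]
    intro z _
    by_cases hz : z ∈ s
    · exact Opens.mem_sup.mpr (Or.inl hz)
    · exact Opens.mem_sup.mpr (Or.inr hz)
  have hbot : U ⊓ V = ⊥ := by
    rw [eq_bot_iff]
    intro z hz
    exact hz.2 hz.1
  have ha : (1 : Γ(X, U)) ≠ 0 := by
    intro h
    have := congrArg (fun t => X.presheaf.germ U z₁ hz₁ t) h
    simp only [map_one, map_zero] at this
    exact one_ne_zero this
  have hres : X.presheaf.map (homOfLE (inf_le_left : U ⊓ V ≤ U)).op 1 = 0 := by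
    haveI : Subsingleton Γ(X, U ⊓ V) := by rw [hbot]; infer_instance
    exact Subsingleton.elim _ _
  exact false_of_glue k X h0 U V hUV 1 ha hres z₂ hz₂

variable [IsProper (X ↘ (Spec (CommRingCat.of k)))]

theorem cm_stalk (hdim : topologicalKrullDim X = 1)
    (h0 : Module.finrank k (Coh.HH X (Coh.structureModule X) 0) = 1) (x : X) :
    LocCoh.IsCohenMacaulayLocalRing (X.presheaf.stalk x) := by
  haveI : IsLocallyNoetherian X :=
    LocallyOfFiniteType.isLocallyNoetherian (X ↘ Spec (CommRingCat.of k))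
  have hdx : ringKrullDim (X.presheaf.stalk x) ≤ 1 := by
    rw [Groth.Agent.Helper2.DimFormula.ringKrullDim_stalk_eq_coheight]
    exact (coheight_le_top x).trans hdim.le
  refine cm_of_dim_le_one _ hdx (fun hd1 hdep => ?_)
  have hx1 : Order.coheight x = 1 := by
    rw [Groth.Agent.Helper2.DimFormula.ringKrullDim_stalk_eq_coheight] at hd1
    exact_mod_cast hd1
  have hcl : IsClosed ({x} : Set X) := by
    rw [← closure_subset_iff_isClosed]
    intro y hy
    have hxy : x ⤳ y := specializes_iff_mem_closure.mpr hy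
    by_contra hne
    have hne' : y ≠ x := hne
    have hlt : y < x := by
      refine lt_of_le_not_ge (Scheme.le_iff_specializes.mpr hxy) (fun hle => hne' ?_)
      have hyx : y ⤳ x := Scheme.le_iff_specializes.mp hle
      exact (hyx.antisymm hxy).eq
    have h1 := Order.coheight_add_one_le hlt
    have hy1 : Order.coheight y ≤ 1 := by
      have := (coheight_le_top y).trans hdim.le
      exact_mod_cast this
    rw [hx1] at h1
    exact absurd (h1.trans hy1) (by decide)
  obtain ⟨s, hs0, hsoc⟩ := Groth.Agent.Helper8.ABS.exists_socle hdep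
  obtain ⟨_, ⟨U, hU, rfl⟩, hxU, -⟩ :=
    X.isBasis_affineOpens.exists_subset_of_mem_open (Set.mem_univ x) isOpen_univ
  have hmax : (hU.primeIdealOf ⟨x, hxU⟩).asIdeal.IsMaximal :=
    hU.primeIdealOf_isMaximal_of_isClosed ⟨x, hxU⟩ hcl
  obtain ⟨a, ha0, hpa⟩ := socle_section hU ⟨x, hxU⟩ hcl s hs0 hsoc
  let V : X.Opens := ⟨{x}ᶜ, hcl.isOpen_compl⟩
  have hUV : U ⊔ V = ⊤ := by
    rw [eq_top_iff]
    intro z _
    by_cases hz : z = x
    · exact Opens.mem_sup.mpr (Or.inl (hz ▸ hxU))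
    · exact Opens.mem_sup.mpr (Or.inr hz)
  have hres : X.presheaf.map (homOfLE (inf_le_left : U ⊓ V ≤ U)).op a = 0 := by
    refine TopCat.Presheaf.section_ext X.sheaf (U ⊓ V) _ _ (fun y hy => ?_)
    change X.presheaf.germ (U ⊓ V) y hy (X.presheaf.map (homOfLE inf_le_left).op a) =
      X.presheaf.germ (U ⊓ V) y hy 0
    rw [map_zero, TopCat.Presheaf.germ_res_apply]
    exact germ_eq_zero_of_ne hU ⟨x, hxU⟩ ⟨y, hy.1⟩ hmax hy.2 a hpa
  have ha : a ≠ 0 := fun h => ha0 (by rw [h, map_zero])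
  obtain ⟨z, hz⟩ := exists_ne X hdim x
  exact false_of_glue k X h0 U V hUV a ha hres z hz

theorem equidim (hdim : topologicalKrullDim X = 1)
    (h0 : Module.finrank k (Coh.HH X (Coh.structureModule X) 0) = 1)
    (Z : Set X) (hZ : Z ∈ irreducibleComponents (X : Type u)) : topologicalKrullDim Z = 1 := by
  haveI : IsLocallyNoetherian X :=
    LocallyOfFiniteType.isLocallyNoetherian (X ↘ Spec (CommRingCat.of k))
  haveI : CompactSpace X :=
    QuasiCompact.compactSpace_of_compactSpace (X ↘ Spec (CommRingCat.of k))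
  haveI : IsNoetherian X := {}
  haveI := connected k X hdim h0
  refine le_antisymm ((topologicalKrullDim_subspace_le X Z).trans hdim.le) ?_
  have hZirr : IsIrreducible Z := hZ.1
  have hZcl : IsClosed Z := isClosed_of_mem_irreducibleComponents Z hZ
  obtain ⟨η, hgen⟩ : ∃ η, IsGenericPoint η Z := ⟨_, hZirr.isGenericPoint_genericPoint hZcl⟩
  have hηZ : η ∈ Z := hgen.mem
  have hex : ∃ y ∈ Z, y ≠ η := by
    by_contra hno
    have hZeq : Z = {η} := by
      ext y
      constructor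
      · intro hy
        by_contra hne
        exact hno ⟨y, hy, hne⟩
      · intro hy
        rw [Set.mem_singleton_iff.mp hy]
        exact hηZ
    have hfin := finite_irreducibleComponents_of_isNoetherian (X := X)
    have hWcl : IsClosed (⋃₀ (irreducibleComponents X \ {Z})) := by
      rw [Set.sUnion_eq_biUnion]
      exact (hfin.subset Set.sdiff_subset).isClosed_biUnion
        (fun T hT => isClosed_of_mem_irreducibleComponents T hT.1)
    have hW : ⋃₀ (irreducibleComponents X \ {Z}) = ({η} : Set X)ᶜ := by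
      ext z
      constructor
      · rintro ⟨T, ⟨hT, hTZ⟩, hzT⟩ hzη
        have hzη' : z = η := hzη
        rw [hzη'] at hzT
        have hsub : Z ⊆ T := by
          rw [← hgen.def]
          exact (isClosed_of_mem_irreducibleComponents T hT).closure_subset_iff.mpr
            (Set.singleton_subset_iff.mpr hzT)
        exact hTZ (Set.Subset.antisymm (hZ.2 hT.1 hsub) hsub)
      · intro hz
        have hzU : z ∈ ⋃₀ irreducibleComponents X := by
          rw [sUnion_irreducibleComponents]; trivial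
        obtain ⟨T, hT, hzT⟩ := hzU
        refine ⟨T, ⟨hT, fun hTZ => hz ?_⟩, hzT⟩
        have hTZ' : T = Z := hTZ
        rw [hTZ', hZeq] at hzT
        exact hzT
    have hopen : IsOpen ({η} : Set X) := by
      have := hWcl.isOpen_compl
      rwa [hW, compl_compl] at this
    have hclopen : IsClopen ({η} : Set X) := ⟨hZeq ▸ hZcl, hopen⟩
    rcases isClopen_iff.mp hclopen with h | h
    · exact Set.singleton_ne_empty η h
    · obtain ⟨z, hz⟩ := exists_ne X hdim η
      have : z ∈ ({η} : Set X) := h ▸ Set.mem_univ z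
      exact hz this
  obtain ⟨y, hyZ, hyη⟩ := hex
  change 1 ≤ Order.krullDim (IrreducibleCloseds ↥Z)
  rw [Order.one_le_krullDim_iff]
  haveI : IrreducibleSpace ↥Z := Subtype.irreducibleSpace hZirr
  refine ⟨⟨closure {(⟨y, hyZ⟩ : ↥Z)}, isIrreducible_singleton.closure, isClosed_closure⟩,
    ⟨Set.univ, IrreducibleSpace.isIrreducible_univ ↥Z, isClosed_univ⟩, ?_⟩
  refine lt_of_le_of_ne (SetLike.coe_subset_coe.mp (Set.subset_univ _)) (fun heq => hyη ?_)
  have h1 : (⟨η, hηZ⟩ : ↥Z) ∈ closure ({(⟨y, hyZ⟩ : ↥Z)} : Set ↥Z) := by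
    have := congrArg (fun S : IrreducibleCloseds ↥Z => (S : Set ↥Z)) heq
    change closure ({(⟨y, hyZ⟩ : ↥Z)} : Set ↥Z) = Set.univ at this
    rw [this]
    trivial
  have h2 : (⟨y, hyZ⟩ : ↥Z) ⤳ (⟨η, hηZ⟩ : ↥Z) := specializes_iff_mem_closure.mpr h1
  have h3 : y ⤳ η := (Topology.IsInducing.subtypeVal.specializes_iff).mpr h2
  have h4 : η ⤳ y := hgen.specializes hyZ
  exact (h3.antisymm h4).eq

theorem main (hdim : topologicalKrullDim X = 1)
    (h0 : Module.finrank k (Coh.HH X (Coh.structureModule X) 0) = 1) :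
    ConnectedSpace X ∧ (∀ x : X, LocCoh.IsCohenMacaulayLocalRing (X.presheaf.stalk x)) ∧
      ∀ Z ∈ irreducibleComponents (X : Type u), topologicalKrullDim Z = 1 :=
  ⟨connected k X hdim h0, cm_stalk k X hdim h0, equidim k X hdim h0⟩

end field

end Groth.Agent.Lead.H0One
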