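import Mathlib
import Groth.Agent.Lib.Lead.HN6
import Groth.Agent.Lib.Lead.HNw1
import Groth.Agent.Lib.Lead.HP11

set_option autoImplicit false
set_option backward.isDefEq.respectTransparency.types false
set_option synthInstance.maxHeartbeats 400000
set_option linter.style.haveILetI false
set_option linter.unusedSectionVars false
set_option linter.unusedVariables false

universe u

open CategoryTheory CategoryTheory.Limits AlgebraicGeometry TopologicalSpace Opposite Polynomial

namespace Groth.Agent.Lead.HNw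

open Groth.Agent.Lead.HP Groth.Agent.Helper1 Groth.Agent.Lead.HN

section Aux

variable {S : Type*} [Lattice S] {K : Type*} [Field K] [LinearOrder K] [IsStrictOrderedRing K]
  (𝔇 : HNw.Datum S K)

theorem Datum.ssf_of_relMax {A B : S} (h : 𝔇.RelMax A B) : 𝔇.SSf A B :=
  fun C hC hAC _ => (h.2.2 C hC hAC).1

theorem Datum.puf_of_pureAbove {A : S} (B : S) (h : 𝔇.PureAbove A) : 𝔇.PUf A B :=
  fun C hC hAC _ => h C hC hAC

end Aux

section Mu

variable (k : Type u) [Field k] (X : Scheme.{u}) [X.Over (Spec (CommRingCat.of k))]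
  [IsProper (X ↘ Spec (CommRingCat.of k))] (L : X.Modules) {F : X.Modules}
  (hL : CohB1.IsAmple L) {n : ℕ} (hn : 1 ≤ n) (hp : ShStab.IsPure X F n) (hF : Coh.IsCoh F)

/-- the slope datum on the lattice of subobjects of a pure coherent module -/
noncomputable def muDatum : HNw.Datum (Subobject F) ℚ where
  good := Good X
  v := fun A => StabCat.alpha (n - 1) (PP k X L A)
  α := αZ k X L n
  good_inf := fun hC hD => good_inf k X hF hC hD
  good_sup := fun hC hD => good_sup k X hF hC hD
  wf := wf_good k X hF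
  v_mod := fun hC hD => by
    rw [← alpha_add, ← alpha_add, pp_mod k X L hL hp hF hC hD]
  α_mod := fun {C D} hC hD => by
    have h := pp_mod k X L hL hp hF hC hD
    have h2 : StabCat.alpha n (PP k X L (C ⊔ D)) + StabCat.alpha n (PP k X L (C ⊓ D)) =
        StabCat.alpha n (PP k X L C) + StabCat.alpha n (PP k X L D) := by
      rw [← alpha_add, ← alpha_add, h]
    rw [alphaZ_spec k X L hL hp _ (good_sup k X hF hC hD),
      alphaZ_spec k X L hL hp _ (good_inf k X hF hC hD), alphaZ_spec k X L hL hp _ hC,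
      alphaZ_spec k X L hL hp _ hD] at h2
    exact_mod_cast h2
  v_le := fun {C D} hC hD hle hα => by
    have f := facts_le k X L hL hp hle hC hD
    have h0 : StabCat.alpha n (PP k X L D - PP k X L C) = 0 := by
      rw [alpha_sub, alphaZ_spec k X L hL hp D hD, alphaZ_spec k X L hL hp C hC, hα, sub_self]
    have := alpha_pred_nonneg f.2.1 hn f.1 h0
    rw [alpha_sub] at this
    linarith
  α_le := fun hC hD hle => by
    have := (facts_le k X L hL hp hle hC hD).2.2.1
    rw [alphaZ_spec k X L hL hp _ hC, alphaZ_spec k X L hL hp _ hD] at this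
    exact_mod_cast this

theorem a_muDatum {A B : Subobject F} (hA : Good X A) (hB : Good X B) :
    (muDatum k X L hL hn hp hF).a A B = StabCat.alpha n (PP k X L B - PP k X L A) := by
  change (((αZ k X L n B - αZ k X L n A : ℤ)) : ℚ) = _
  rw [alpha_sub, alphaZ_spec k X L hL hp B hB, alphaZ_spec k X L hL hp A hA]
  push_cast
  rfl

theorem w_muDatum (A B : Subobject F) :
    (muDatum k X L hL hn hp hF).w A B = StabCat.alpha (n - 1) (PP k X L B - PP k X L A) := by
  rw [alpha_sub]
  rfl

theorem pureAbove_bot_mu : (muDatum k X L hL hn hp hF).PureAbove ⊥ := by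
  intro D hD hlt
  change αZ k X L n ⊥ < αZ k X L n D
  rw [alphaZ_lt_iff k X L hL hp (good_bot X) hD, pp_bot, sub_zero]
  exact alpha_pos_of_bot_lt k X L hL hp D hD hlt

/-- a factor which is slope-semistable and pure at the level of the lattice -/
theorem isMuSemistable_factor {A B : Subobject F} (hA : Good X A) (hB : Good X B) (hlt : A < B)
    (hss : (muDatum k X L hL hn hp hF).SSf A B) (hpu : (muDatum k X L hL hn hp hF).PUf A B) :
    ShStab.IsPure X (cokernel (Subobject.ofLE A B hlt.le)) n ∧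
      ShStab.IsMuSemistable k X L (cokernel (Subobject.ofLE A B hlt.le)) n := by
  have hQc := isCoh_coker k X hlt.le hA hB
  have hQ0 : ¬ IsZero (cokernel (Subobject.ofLE A B hlt.le)) := fun h0 =>
    (not_le_of_gt hlt) (le_of_isZero_cokernel_ofLE hlt.le h0)
  have hQp : ShStab.IsPure X (cokernel (Subobject.ofLE A B hlt.le)) n :=
    isPure_coker_of_puf k X L hL hp hF hA hB hlt.le (fun C hC h1 h2 => hpu C hC h1 h2)
  refine ⟨hQp, hQc, hQ0, hQp _ (𝟙 _) inferInstance hQc hQ0, ?_, ?_⟩
  · intro T ι hι hT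
    by_cases hT0 : IsZero T
    · rw [Dv.support_isZero hT0]
      haveI : IsEmpty (∅ : Set X) := Set.isEmpty_coe_sort.mpr rfl
      rw [topologicalKrullDim_of_isEmpty]
      rw [WithBot.bot_add]
      intro h
      have h' : (⊥ : WithBot ℕ∞) = ((n : ℕ∞) : WithBot ℕ∞) := h
      exact WithBot.bot_ne_coe h'
    · rw [hQp T ι hι hT hT0]
      exact cast_add_one_ne n
  · intro T ι hι hT pT pQ hpT hpQ hα1 hα2
    haveI := hι
    have hT0 : ¬ IsZero T := by
      intro hz
      rw [isHilbPoly_zero_unique k X L hz hpT, alpha_zero] at hα1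
      exact lt_irrefl _ hα1
    obtain ⟨Cs, gCs, hACs, hCsB, -, hpT'⟩ := exists_preSub k X L hL hp hA hB hlt.le T ι hT hT0
    have e1 : pT = PP k X L Cs - PP k X L A := isHilbPoly_unique k X L hpT hpT'
    have e2 : pQ = PP k X L B - PP k X L A :=
      isHilbPoly_unique k X L hpQ (isHilbPoly_coker k X L hL hp hlt.le hA hB)
    have h1 := hss Cs gCs hACs hCsB
    rw [a_muDatum k X L hL hn hp hF hA hB, a_muDatum k X L hL hn hp hF hA gCs, w_muDatum,
      w_muDatum, ← e1, ← e2] at h1
    unfold StabCat.hatSlope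
    rw [div_le_div_iff₀ hα1 (lt_trans hα1 hα2)]
    linarith [mul_comm (StabCat.alpha n pQ) (StabCat.alpha (n - 1) pT),
      mul_comm (StabCat.alpha n pT) (StabCat.alpha (n - 1) pQ)]

/-- a slope-semistable pure factor is semistable and pure at the level of the lattice -/
theorem ssf_puf_of_isMuSemistable {A B : Subobject F} (hA : Good X A) (hB : Good X B)
    (hle : A ≤ B) (hQp : ShStab.IsPure X (cokernel (Subobject.ofLE A B hle)) n)
    (hQ : ShStab.IsMuSemistable k X L (cokernel (Subobject.ofLE A B hle)) n) :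
    (muDatum k X L hL hn hp hF).SSf A B ∧ (muDatum k X L hL hn hp hF).PUf A B := by
  have key : ∀ Cs : Subobject F, Good X Cs → A < Cs → Cs ≤ B →
      0 < StabCat.alpha n (PP k X L Cs - PP k X L A) ∧
        StabCat.hatSlope n (PP k X L Cs - PP k X L A) ≤
          StabCat.hatSlope n (PP k X L B - PP k X L A) := by
    intro Cs gCs hACs hCsB
    have hT := isCoh_coker k X hACs.le hA gCs
    have hT0 : ¬ IsZero (cokernel (Subobject.ofLE A Cs hACs.le)) := fun h0 =>
      not_le_of_gt hACs (le_of_isZero_cokernel_ofLE hACs.le h0)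
    exact hatSlope_sub_le k X L hL hn hQp hQ (quotMapSub hACs.le hCsB) hT hT0
      (isHilbPoly_coker k X L hL hp hACs.le hA gCs) (isHilbPoly_coker k X L hL hp hle hA hB)
  constructor
  · intro Cs gCs hACs hCsB
    obtain ⟨h1, h2⟩ := key Cs gCs hACs hCsB
    have hB' : 0 < StabCat.alpha n (PP k X L B - PP k X L A) := by
      have := (facts_le k X L hL hp hCsB gCs hB).2.2.1
      rw [alpha_sub] at h1 ⊢
      linarith
    rw [a_muDatum k X L hL hn hp hF hA hB, a_muDatum k X L hL hn hp hF hA gCs, w_muDatum,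
      w_muDatum]
    unfold StabCat.hatSlope at h2
    rw [div_le_div_iff₀ h1 hB'] at h2
    linarith [mul_comm (StabCat.alpha n (PP k X L B - PP k X L A))
        (StabCat.alpha (n - 1) (PP k X L Cs - PP k X L A)),
      mul_comm (StabCat.alpha n (PP k X L Cs - PP k X L A))
        (StabCat.alpha (n - 1) (PP k X L B - PP k X L A))]
  · intro Cs gCs hACs hCsB
    exact (alphaZ_lt_iff k X L hL hp hA gCs).2 (key Cs gCs hACs hCsB).1

theorem lt_iff_hatSlope_lt {A B D : Subobject F} (hA : Good X A) (hB : Good X B)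
    (hD : Good X D) (h1 : 0 < StabCat.alpha n (PP k X L B - PP k X L A))
    (h2 : 0 < StabCat.alpha n (PP k X L D - PP k X L B)) :
    (muDatum k X L hL hn hp hF).a A B * (muDatum k X L hL hn hp hF).w B D <
        (muDatum k X L hL hn hp hF).a B D * (muDatum k X L hL hn hp hF).w A B ↔
      StabCat.hatSlope n (PP k X L D - PP k X L B) <
        StabCat.hatSlope n (PP k X L B - PP k X L A) := by
  rw [a_muDatum k X L hL hn hp hF hA hB, a_muDatum k X L hL hn hp hF hB hD, w_muDatum,
    w_muDatum]
  unfold StabCat.hatSlope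
  rw [div_lt_div_iff₀ h2 h1]
  constructor <;> intro h <;>
    linarith [mul_comm (StabCat.alpha n (PP k X L B - PP k X L A))
        (StabCat.alpha (n - 1) (PP k X L D - PP k X L B)),
      mul_comm (StabCat.alpha n (PP k X L D - PP k X L B))
        (StabCat.alpha (n - 1) (PP k X L B - PP k X L A))]

/-- the slope Harder–Narasimhan property of a series -/
def IsMuHN (s : LTSeries (Subobject F)) : Prop :=
  s.head = ⊥ ∧ s.last = ⊤ ∧
    (∀ i : Fin s.length, ShStab.IsPure X (StabCat.factor s i) n ∧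
      ShStab.IsMuSemistable k X L (StabCat.factor s i) n) ∧
    ∀ (i j : Fin s.length), i.val + 1 = j.val →
      ∀ (p q : ℚ[X]), ShStab.IsHilbPoly k X L (StabCat.factor s i) p →
        ShStab.IsHilbPoly k X L (StabCat.factor s j) q →
        StabCat.hatSlope n q < StabCat.hatSlope n p

include hL hp in
theorem alpha_pos_of_lt {A B : Subobject F} (hA : Good X A) (hB : Good X B)
    (h : αZ k X L n A < αZ k X L n B) : 0 < StabCat.alpha n (PP k X L B - PP k X L A) :=
  (alphaZ_lt_iff k X L hL hp hA hB).1 h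

/-- a chain of maximal destabilising steps is a slope Harder–Narasimhan filtration -/
theorem isMuHN_mk (N : ℕ) (f : ℕ → Subobject F) (hf0 : f 0 = ⊥) (hfN : f N = ⊤)
    (hf : ∀ i, i < N → (muDatum k X L hL hn hp hF).RelMax (f i) (f (i + 1)) ∧
      (muDatum k X L hL hn hp hF).good (f i) ∧ (muDatum k X L hL hn hp hF).PureAbove (f i))
    (hmono : StrictMono (fun i : Fin (N + 1) => f i)) :
    IsMuHN k X L (n := n) (LTSeries.mk N (fun i : Fin (N + 1) => f i) hmono) := by
  refine ⟨hf0, hfN, ?_, ?_⟩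
  · intro i
    have h := hf i.val i.isLt
    exact isMuSemistable_factor k X L hL hn hp hF h.2.1 h.1.1 h.1.2.1
      ((muDatum k X L hL hn hp hF).ssf_of_relMax h.1)
      ((muDatum k X L hL hn hp hF).puf_of_pureAbove _ h.2.2)
  · intro i j hij p q hp' hq'
    have hi := hf i.val i.isLt
    have hj := hf j.val j.isLt
    have hj' : (muDatum k X L hL hn hp hF).RelMax (f (i.val + 1)) (f (i.val + 1 + 1)) := by
      rw [hij]
      exact hj.1
    have hjp : (muDatum k X L hL hn hp hF).PureAbove (f (i.val + 1)) := by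
      rw [hij]
      exact hj.2.2
    have hdec := (muDatum k X L hL hn hp hF).slope_decreasing hi.1 hj'
    have hgD : Good X (f (i.val + 1 + 1)) := hj'.1
    have hα1 := alpha_pos_of_lt k X L hL hp hi.2.1 hi.1.1 (hi.2.2 _ hi.1.1 hi.1.2.1)
    have hα2 := alpha_pos_of_lt k X L hL hp hi.1.1 hgD (hjp _ hgD hj'.2.1)
    rw [lt_iff_hatSlope_lt k X L hL hn hp hF hi.2.1 hi.1.1 hgD hα1 hα2] at hdec
    have e1 : p = PP k X L (f (i.val + 1)) - PP k X L (f i.val) :=
      isHilbPoly_unique k X L hp' (isHilbPoly_coker k X L hL hp hi.1.2.1.le hi.2.1 hi.1.1)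
    have e2 : q = PP k X L (f (i.val + 1 + 1)) - PP k X L (f (i.val + 1)) := by
      have hq'' : ShStab.IsHilbPoly k X L
          (cokernel (Subobject.ofLE (f j.val) (f (j.val + 1)) hj.1.2.1.le)) q := hq'
      have := isHilbPoly_unique k X L hq''
        (isHilbPoly_coker k X L hL hp hj.1.2.1.le hj.2.1 hj.1.1)
      rw [this, ← hij]
    rw [e1, e2]
    exact hdec

/-- the steps of a slope Harder–Narasimhan filtration are maximal destabilising -/
theorem relMax_of_isMuHN (t : LTSeries (Subobject F)) (ht : IsMuHN k X L (n := n) t) :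
    gOf t 0 = ⊥ ∧ gOf t t.length = ⊤ ∧
      ∀ i, i < t.length → (muDatum k X L hL hn hp hF).RelMax (gOf t i) (gOf t (i + 1)) := by
  obtain ⟨hhead, hlast, hss, hdec⟩ := ht
  have good_t : ∀ i : Fin (t.length + 1), Good X (t i) := by
    intro i
    induction i using Fin.induction with
    | zero =>
      have : t 0 = ⊥ := hhead
      rw [this]
      exact good_bot X
    | succ i ih =>
      have hF' : Coh.IsCoh (cokernel (Subobject.ofLE (t i.castSucc) (t i.succ)
          (le_of_lt (t.step i)))) := (hss i).2.1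
      exact isCoh_X₂ k X (cokerSC_shortExact (Subobject.ofLE (t i.castSucc) (t i.succ)
        (le_of_lt (t.step i)))) ih hF'
  have sp : ∀ i : Fin t.length, (muDatum k X L hL hn hp hF).SSf (t i.castSucc) (t i.succ) ∧
      (muDatum k X L hL hn hp hF).PUf (t i.castSucc) (t i.succ) := fun i =>
    ssf_puf_of_isMuSemistable k X L hL hn hp hF (good_t _) (good_t _) (le_of_lt (t.step i))
      (hss i).1 (hss i).2
  have dec : ∀ i j : Fin t.length, i.val + 1 = j.val →
      (muDatum k X L hL hn hp hF).a (t i.castSucc) (t i.succ) *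
          (muDatum k X L hL hn hp hF).w (t i.succ) (t j.succ) <
        (muDatum k X L hL hn hp hF).a (t i.succ) (t j.succ) *
          (muDatum k X L hL hn hp hF).w (t i.castSucc) (t i.succ) := by
    intro i j hij
    have e : j.castSucc = i.succ := Fin.ext (by simp [hij])
    have h := hdec i j hij _ _
      (isHilbPoly_coker k X L hL hp (le_of_lt (t.step i)) (good_t _) (good_t _))
      (isHilbPoly_coker k X L hL hp (le_of_lt (t.step j)) (good_t _) (good_t _))
    have hα1 := alpha_pos_of_lt k X L hL hp (good_t _) (good_t _)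
      ((sp i).2 (t i.succ) (good_t _) (t.step i) le_rfl)
    have hα2 := alpha_pos_of_lt k X L hL hp (good_t _) (good_t _)
      ((sp j).2 (t j.succ) (good_t _) (t.step j) le_rfl)
    rw [e] at h hα2
    exact (lt_iff_hatSlope_lt k X L hL hn hp hF (good_t _) (good_t _) (good_t _) hα1 hα2).2 h
  have hcs : ∀ (i : ℕ) (hi : i < t.length),
      gOf t i = t (⟨i, hi⟩ : Fin t.length).castSucc := fun i hi => gOf_castSucc t ⟨i, hi⟩
  have hsu : ∀ (i : ℕ) (hi : i < t.length),
      gOf t (i + 1) = t (⟨i, hi⟩ : Fin t.length).succ := fun i hi => gOf_succ t ⟨i, hi⟩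
  have h0 : gOf t 0 = ⊥ := by
    have e : gOf t 0 = t 0 := gOf_val t 0
    rw [e]
    exact hhead
  have hN : gOf t t.length = ⊤ := by
    have e : gOf t t.length = t (Fin.last t.length) := gOf_val t (Fin.last t.length)
    rw [e]
    exact hlast
  refine ⟨h0, hN, fun j hj => ?_⟩
  apply (muDatum k X L hL hn hp hF).relMax_of_chain t.length (gOf t)
  · intro i hi
    have e : gOf t i = t ⟨i, Nat.lt_succ_of_le hi⟩ := gOf_val t ⟨i, Nat.lt_succ_of_le hi⟩
    rw [e]
    exact good_t _
  · intro i hi
    rw [hcs i hi, hsu i hi]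
    exact t.step ⟨i, hi⟩
  · exact hN
  · intro i hi
    rw [hcs i hi, hsu i hi]
    exact (sp ⟨i, hi⟩).1
  · intro i hi
    rw [hcs i hi, hsu i hi]
    exact (sp ⟨i, hi⟩).2
  · intro i hi
    have hi' : i < t.length := by omega
    rw [hcs i hi', hsu i hi', hsu (i + 1) hi]
    exact dec ⟨i, hi'⟩ ⟨i + 1, hi⟩ rfl
  · exact hj

include hL hn hp hF in
theorem muHN_unique (t₁ t₂ : LTSeries (Subobject F)) (h₁ : IsMuHN k X L (n := n) t₁)
    (h₂ : IsMuHN k X L (n := n) t₂) : t₁ = t₂ := by
  obtain ⟨a0, aN, ar⟩ := relMax_of_isMuHN k X L hL hn hp hF t₁ h₁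
  obtain ⟨b0, bN, br⟩ := relMax_of_isMuHN k X L hL hn hp hF t₂ h₂
  obtain ⟨hlen, heq⟩ := (muDatum k X L hL hn hp hF).chain_unique t₁.length t₂.length
    (gOf t₁) (gOf t₂) (a0.trans b0.symm) aN bN ar br
  refine RelSeries.ext hlen (funext fun i => ?_)
  have h1 := heq i.val (Nat.le_of_lt_succ i.isLt)
  rw [gOf_val t₁ i] at h1
  change t₁ i = t₂ (Fin.cast (by rw [hlen]) i)
  rw [h1]
  exact gOf_val t₂ (Fin.cast (by rw [hlen]) i)

include hL in
/-- S18833 -/
theorem existsUnique_muHN (n : ℕ) (hn : 1 ≤ n) (F : X.Modules) (hF : Coh.IsCoh F)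
    (hp : ShStab.IsPure X F n) :
    ∃! s : LTSeries (Subobject F), IsMuHN k X L (n := n) s := by
  obtain ⟨N, f, hf0, hfN, hf⟩ := (muDatum k X L hL hn hp hF).exists_hnSeq (good_bot X)
    (good_top X hF) (pureAbove_bot_mu k X L hL hn hp hF)
  have hmono : StrictMono (fun i : Fin (N + 1) => f i) := by
    rw [Fin.strictMono_iff_lt_succ]
    intro i
    exact (hf i.val i.isLt).1.2.1
  have hs := isMuHN_mk k X L hL hn hp hF N f hf0 hfN hf hmono
  exact ⟨_, hs, fun t ht => muHN_unique k X L hL hn hp hF t _ ht hs⟩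

end Mu

end Groth.Agent.Lead.HNw
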