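import Mathlib
import Groth.Agent.Lib.Lead.HNw2

set_option autoImplicit false
set_option backward.isDefEq.respectTransparency.types false
set_option synthInstance.maxHeartbeats 400000
set_option linter.style.haveILetI false
set_option linter.unusedSectionVars false
set_option linter.unusedVariables false

universe u

open CategoryTheory CategoryTheory.Limits AlgebraicGeometry TopologicalSpace Opposite Polynomial

namespace Groth.Agent.Lead.HNw

open Groth.Agent.Lead.HP Groth.Agent.Helper1 Groth.Agent.Lead.HN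

section Ext

variable (k : Type u) [Field k] (X : Scheme.{u}) [X.Over (Spec (CommRingCat.of k))]
  [IsProper (X ↘ Spec (CommRingCat.of k))] (L : X.Modules)

include k in
/-- decomposition of a submodule of the middle term of a short exact sequence -/
theorem exists_decomp (T : ShortComplex X.Modules) (hT : T.ShortExact)
    (h1 : Coh.IsCoh T.X₁) (h3 : Coh.IsCoh T.X₃) {S : X.Modules} (ι : S ⟶ T.X₂) [Mono ι]
    (hS : Coh.IsCoh S) :
    ∃ (S' S'' : X.Modules) (j' : S' ⟶ T.X₁) (j'' : S'' ⟶ T.X₃) (a : S' ⟶ S) (b : S ⟶ S'')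
      (w : a ≫ b = 0), Mono j' ∧ Mono j'' ∧ Mono a ∧ Epi b ∧ Coh.IsCoh S' ∧ Coh.IsCoh S'' ∧
      (ShortComplex.mk a b w).ShortExact ∧ (IsZero S' → Mono (ι ≫ T.g)) := by
  haveI := hT.mono_f
  haveI := hT.epi_g
  have hE : Coh.IsCoh T.X₂ := isCoh_X₂ k X hT h1 h3
  let j' : kernel (ι ≫ T.g) ⟶ T.X₁ := hT.exact.lift (kernel.ι (ι ≫ T.g) ≫ ι)
    (by rw [Category.assoc, kernel.condition])
  have hj' : j' ≫ T.f = kernel.ι (ι ≫ T.g) ≫ ι := hT.exact.lift_f _ _
  have hm : Mono (j' ≫ T.f) := by rw [hj']; exact mono_comp _ _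
  have hmj' : Mono j' := mono_of_mono j' T.f
  have hse := kerIm_shortExact X (ι ≫ T.g)
  refine ⟨kernel (ι ≫ T.g), Abelian.image (ι ≫ T.g), j', Abelian.image.ι (ι ≫ T.g),
    kernel.ι (ι ≫ T.g), Abelian.factorThruImage (ι ≫ T.g), (kerIm X (ι ≫ T.g)).zero,
    hmj', inferInstance, inferInstance, inferInstance, isCoh_kernel k X hS h3 _,
    isCoh_image k X hS h3 _, hse, fun h0 => mono_of_isZero_kernel X _ h0⟩

include k in
/-- an extension of pure modules of full dimension is pure -/
theorem isPure_ext (n : ℕ) (hX : topologicalKrullDim X = (n : WithBot ℕ∞))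
    (T : ShortComplex X.Modules) (hT : T.ShortExact)
    (h1 : Coh.IsCoh T.X₁) (h3 : Coh.IsCoh T.X₃)
    (hFt : ShStab.IsPure X T.X₁ n) (hGt : ShStab.IsPure X T.X₃ n) :
    ShStab.IsPure X T.X₂ n := by
  intro S ι hι hS hS0
  haveI := hι
  obtain ⟨S', S'', j', j'', a, b, w, hj', hj'', ha, hb, hS'c, hS''c, hse, hz⟩ :=
    exists_decomp k X T hT h1 h3 ι hS
  by_cases h0 : IsZero S'
  · haveI := hz h0
    exact hGt S (ι ≫ T.g) inferInstance hS hS0
  · have hd := hFt S' j' hj' hS'c h0
    haveI := ha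
    have h2 : topologicalKrullDim (CohB1.support S') ≤ topologicalKrullDim (CohB1.support S) :=
      dim_le_of_subset (Dv.support_mono a)
    have h4 : topologicalKrullDim (CohB1.support S) ≤ topologicalKrullDim X :=
      (Topology.IsInducing.subtypeVal).topologicalKrullDim_le
    rw [hd] at h2
    rw [hX] at h4
    exact le_antisymm h4 h2

/-- S18967 -/
theorem isMuSemistable_ext (hL : CohB1.IsAmple L) (n : ℕ) (hn : 1 ≤ n)
    (hX : topologicalKrullDim X = (n : WithBot ℕ∞))
    (T : ShortComplex X.Modules) (hT : T.ShortExact)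
    (hFt : ShStab.IsPure X T.X₁ n) (hGt : ShStab.IsPure X T.X₃ n)
    (hF : ShStab.IsMuSemistable k X L T.X₁ n) (hG : ShStab.IsMuSemistable k X L T.X₃ n)
    (pF pG : ℚ[X]) (hpF : ShStab.IsHilbPoly k X L T.X₁ pF)
    (hpG : ShStab.IsHilbPoly k X L T.X₃ pG)
    (hμ : StabCat.hatSlope n pF = StabCat.hatSlope n pG) :
    ShStab.IsMuSemistable k X L T.X₂ n ∧
      ∀ pH : ℚ[X], ShStab.IsHilbPoly k X L T.X₂ pH →
        StabCat.hatSlope n pH = StabCat.hatSlope n pF := by
  haveI := hT.mono_f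
  haveI := hT.epi_g
  have h1 := hF.1
  have h3 := hG.1
  have hE : Coh.IsCoh T.X₂ := isCoh_X₂ k X hT h1 h3
  have hE0 : ¬ IsZero T.X₂ := fun h => hF.2.1 (IsZero.of_mono T.f h)
  have hEp := isPure_ext k X n hX T hT h1 h3 hFt hGt
  have hpE : ShStab.IsHilbPoly k X L T.X₂ (pF + pG) :=
    isHilbPoly_add k X L hL.1 T hT h1 hE h3 hpF hpG
  have haF : 0 < StabCat.alpha n pF :=
    alpha_pos_of_dim k X L hL _ h1 n (hFt _ (𝟙 _) inferInstance h1 hF.2.1) hpF
  have haG : 0 < StabCat.alpha n pG :=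
    alpha_pos_of_dim k X L hL _ h3 n (hGt _ (𝟙 _) inferInstance h3 hG.2.1) hpG
  -- the common slope
  have eF : StabCat.alpha (n - 1) pF = StabCat.hatSlope n pF * StabCat.alpha n pF := by
    unfold StabCat.hatSlope
    rw [div_mul_cancel₀ _ haF.ne']
  have eG : StabCat.alpha (n - 1) pG = StabCat.hatSlope n pF * StabCat.alpha n pG := by
    rw [hμ]
    unfold StabCat.hatSlope
    rw [div_mul_cancel₀ _ haG.ne']
  have eE : StabCat.hatSlope n (pF + pG) = StabCat.hatSlope n pF := by
    have : StabCat.alpha (n - 1) (pF + pG) =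
        StabCat.hatSlope n pF * StabCat.alpha n (pF + pG) := by
      rw [alpha_add, alpha_add, eF, eG]
      ring
    have hpos : 0 < StabCat.alpha n (pF + pG) := by rw [alpha_add]; linarith
    conv_lhs => unfold StabCat.hatSlope
    rw [this, mul_div_assoc, div_self hpos.ne', mul_one]
  have second : ∀ pH : ℚ[X], ShStab.IsHilbPoly k X L T.X₂ pH →
      StabCat.hatSlope n pH = StabCat.hatSlope n pF := by
    intro pH hpH
    rw [isHilbPoly_unique k X L hpH hpE, eE]
  refine ⟨⟨hE, hE0, hEp _ (𝟙 _) inferInstance hE hE0, ?_, ?_⟩, second⟩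
  · intro S ι hι hS
    by_cases hS0 : IsZero S
    · rw [Dv.support_isZero hS0]
      haveI : IsEmpty (∅ : Set X) := Set.isEmpty_coe_sort.mpr rfl
      rw [topologicalKrullDim_of_isEmpty]
      rw [WithBot.bot_add]
      intro h
      have h' : (⊥ : WithBot ℕ∞) = ((n : ℕ∞) : WithBot ℕ∞) := h
      exact WithBot.bot_ne_coe h'
    · rw [hEp S ι hι hS hS0]
      exact cast_add_one_ne n
  · intro S ι hι hS pS pE' hpS hpE' hα1 hα2
    haveI := hι
    obtain ⟨S', S'', j', j'', a, b, w, hj', hj'', ha, hb, hS'c, hS''c, hse, hz⟩ :=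
      exists_decomp k X T hT h1 h3 ι hS
    haveI := hj'
    haveI := hj''
    obtain ⟨pS', hpS'⟩ := exists_isHilbPoly_sub k X L hL hFt j' hS'c
    obtain ⟨pS'', hpS''⟩ := exists_isHilbPoly_sub k X L hL hGt j'' hS''c
    have hsum : pS = pS' + pS'' :=
      isHilbPoly_unique k X L hpS
        (isHilbPoly_add k X L hL.1 (ShortComplex.mk a b w) hse hS'c hS hS''c hpS' hpS'')
    have b1 : StabCat.alpha (n - 1) pS' ≤ StabCat.hatSlope n pF * StabCat.alpha n pS' := by
      by_cases h0 : IsZero S'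
      · rw [isHilbPoly_zero_unique k X L h0 hpS', alpha_zero, alpha_zero, mul_zero]
      · obtain ⟨hpos, hle⟩ := hatSlope_sub_le k X L hL hn hFt hF j' hS'c h0 hpS' hpF
        unfold StabCat.hatSlope at hle
        rw [div_le_iff₀ hpos] at hle
        exact hle
    have b2 : StabCat.alpha (n - 1) pS'' ≤ StabCat.hatSlope n pF * StabCat.alpha n pS'' := by
      by_cases h0 : IsZero S''
      · rw [isHilbPoly_zero_unique k X L h0 hpS'', alpha_zero, alpha_zero, mul_zero]
      · obtain ⟨hpos, hle⟩ := hatSlope_sub_le k X L hL hn hGt hG j'' hS''c h0 hpS'' hpG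
        rw [← hμ] at hle
        unfold StabCat.hatSlope at hle
        rw [div_le_iff₀ hpos] at hle
        exact hle
    rw [second pE' hpE']
    conv_lhs => unfold StabCat.hatSlope
    rw [div_le_iff₀ hα1, hsum, alpha_add, alpha_add]
    linarith

end Ext

end Groth.Agent.Lead.HNw
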