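import Mathlib
import Groth.Agent.Lib.Lead.HNw3
import Groth.Agent.Lib.Lead.HN11

set_option autoImplicit false
set_option backward.isDefEq.respectTransparency.types false
set_option synthInstance.maxHeartbeats 400000
set_option linter.style.haveILetI false
set_option linter.unusedSectionVars false
set_option linter.unusedVariables false

universe u

open CategoryTheory CategoryTheory.Limits AlgebraicGeometry TopologicalSpace Opposite Polynomial

namespace Groth.Agent.Lead.HNw

open Groth.Agent.Lead.HP Groth.Agent.Helper1 Groth.Agent.Lead.HN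

section Lat

variable {S : Type*} [Lattice S] [BoundedOrder S] {K : Type*} [Field K] [LinearOrder K]
  [IsStrictOrderedRing K] (𝔇 : HNw.Datum S K)

/-- all terms of a chain of maximal destabilising steps are good -/
theorem Datum.good_of_chain (N : ℕ) (f : ℕ → S) (hg0 : 𝔇.good (f 0))
    (hf : ∀ i, i < N → 𝔇.RelMax (f i) (f (i + 1))) : ∀ i, i ≤ N → 𝔇.good (f i) := by
  intro i
  cases i with
  | zero => intro _; exact hg0
  | succ n => intro h; exact (hf n (by omega)).1

/-- all terms of a chain of maximal destabilising steps have pure quotient -/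
theorem Datum.pureAbove_of_chain (N : ℕ) (f : ℕ → S) (hp0 : 𝔇.PureAbove (f 0))
    (hf : ∀ i, i < N → 𝔇.RelMax (f i) (f (i + 1))) : ∀ i, i ≤ N → 𝔇.PureAbove (f i) := by
  intro i
  induction i with
  | zero => intro _; exact hp0
  | succ n ih => intro h; exact 𝔇.pureAbove_of_relMax (ih (by omega)) (hf n (by omega))

/-- the basic estimates along a chain of maximal destabilising steps -/
theorem Datum.chain_facts (M : ℕ) (f : ℕ → S) (hg0 : 𝔇.good (f 0)) (hp0 : 𝔇.PureAbove (f 0))
    (hfN : f (M + 1) = ⊤) (hf : ∀ i, i < M + 1 → 𝔇.RelMax (f i) (f (i + 1))) :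
    (∀ i, i < M → 𝔇.r (f M) (f (M + 1)) < 𝔇.r (f i) (f (i + 1))) ∧
    (∀ i, i < M + 1 → ∀ D, 𝔇.good D → f i ≤ D → D ≤ f (i + 1) →
      𝔇.r (f i) (f (i + 1)) * 𝔇.a D (f (i + 1)) ≤ 𝔇.w D (f (i + 1)) ∧
        0 ≤ 𝔇.a D (f (i + 1))) ∧
    (∀ D, 𝔇.good D → f 0 ≤ D → 𝔇.r (f M) (f (M + 1)) * 𝔇.a D ⊤ ≤ 𝔇.w D ⊤) := by
  have hgood := 𝔇.good_of_chain (M + 1) f hg0 hf
  have hpure := 𝔇.pureAbove_of_chain (M + 1) f hp0 hf
  have apos : ∀ i, i < M + 1 → 0 < 𝔇.a (f i) (f (i + 1)) := fun i hi =>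
    𝔇.a_pos (hpure i hi.le) (hf i hi).1 (hf i hi).2.1
  let μ : ℕ → K := fun i => 𝔇.r (f i) (f (i + 1))
  have hμ : ∀ i, i + 1 < M + 1 → μ (i + 1) < μ i := by
    intro i hi
    change 𝔇.r (f (i + 1)) (f (i + 1 + 1)) < 𝔇.r (f i) (f (i + 1))
    unfold Datum.r
    rw [div_lt_div_iff₀ (apos (i + 1) hi) (apos i (by omega))]
    have := 𝔇.slope_decreasing (hf i (by omega)) (hf (i + 1) hi)
    linarith [mul_comm (𝔇.a (f i) (f (i + 1))) (𝔇.w (f (i + 1)) (f (i + 1 + 1))),
      mul_comm (𝔇.a (f (i + 1)) (f (i + 1 + 1))) (𝔇.w (f i) (f (i + 1)))]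
  have hanti : ∀ ℓ i, i < ℓ → ℓ < M + 1 → μ ℓ < μ i := by
    intro ℓ
    induction ℓ with
    | zero => intro i hi; omega
    | succ n ih =>
      intro i hi hn
      rcases Nat.lt_succ_iff_lt_or_eq.1 hi with h | h
      · exact (hμ n hn).trans (ih i h (by omega))
      · subst h
        exact hμ i hn
  have hmin : ∀ i, i ≤ M → μ M ≤ μ i := by
    intro i hi
    rcases Nat.eq_or_lt_of_le hi with h | h
    · subst h
      exact le_rfl
    · exact (hanti M i h (by omega)).le
  -- the step estimate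
  have step : ∀ i, i < M + 1 → ∀ D, 𝔇.good D → f i ≤ D → D ≤ f (i + 1) →
      μ i * 𝔇.a D (f (i + 1)) ≤ 𝔇.w D (f (i + 1)) ∧ 0 ≤ 𝔇.a D (f (i + 1)) := by
    intro i hi D hD h1 h2
    have hpi := apos i hi
    have hgi1 := (hf i hi).1
    have ha0 : 0 ≤ 𝔇.a D (f (i + 1)) := by
      have := 𝔇.a_mono D hD hgi1 h2
      rwa [𝔇.a_self] at this
    refine ⟨?_, ha0⟩
    have hμi : μ i * 𝔇.a (f i) (f (i + 1)) = 𝔇.w (f i) (f (i + 1)) := by
      change 𝔇.r (f i) (f (i + 1)) * _ = _
      unfold Datum.r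
      exact div_mul_cancel₀ _ hpi.ne'
    rcases eq_or_lt_of_le h1 with e | hlt
    · rw [← e]
      exact hμi.le
    · obtain ⟨h3, -⟩ := (hf i hi).2.2 D hD hlt
      have h4 : 𝔇.w (f i) D ≤ μ i * 𝔇.a (f i) D := by
        change _ ≤ 𝔇.r (f i) (f (i + 1)) * _
        unfold Datum.r
        rw [div_mul_eq_mul_div, le_div_iff₀ hpi]
        linarith [mul_comm (𝔇.a (f i) (f (i + 1))) (𝔇.w (f i) D),
          mul_comm (𝔇.a (f i) D) (𝔇.w (f i) (f (i + 1)))]
      have e1 := 𝔇.w_add (f i) D (f (i + 1))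
      have e2 := 𝔇.a_add (f i) D (f (i + 1))
      have e3 : μ i * 𝔇.a D (f (i + 1)) =
          μ i * 𝔇.a (f i) (f (i + 1)) - μ i * 𝔇.a (f i) D := by
        rw [e2]
        ring
      rw [e3, hμi]
      linarith
  -- the main claim, by descending induction
  have claim : ∀ n j, j + n = M + 1 → ∀ D, 𝔇.good D → f j ≤ D →
      μ M * 𝔇.a D ⊤ ≤ 𝔇.w D ⊤ := by
    intro n
    induction n with
    | zero =>
      intro j hj D hD hjD
      have hj' : j = M + 1 := by omega
      subst hj'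
      rw [hfN] at hjD
      have : D = ⊤ := top_le_iff.1 hjD
      rw [this, 𝔇.a_self, 𝔇.w_self, mul_zero]
    | succ n ih =>
      intro j hj D hD hjD
      have hjM : j < M + 1 := by omega
      have hgj1 := (hf j hjM).1
      have gU : 𝔇.good (D ⊔ f (j + 1)) := 𝔇.good_sup hD hgj1
      have gI : 𝔇.good (D ⊓ f (j + 1)) := 𝔇.good_inf hD hgj1
      have hIH := ih (j + 1) (by omega) (D ⊔ f (j + 1)) gU le_sup_right
      obtain ⟨hs1, hs2⟩ := step j hjM (D ⊓ f (j + 1)) gI
        (le_inf hjD (hf j hjM).2.1.le) inf_le_right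
      have ew : 𝔇.w D (D ⊔ f (j + 1)) = 𝔇.w (D ⊓ f (j + 1)) (f (j + 1)) := by
        unfold Datum.w
        have := 𝔇.v_mod hD hgj1
        linarith
      have ea : 𝔇.a D (D ⊔ f (j + 1)) = 𝔇.a (D ⊓ f (j + 1)) (f (j + 1)) := by
        unfold Datum.a
        have := 𝔇.α_mod hD hgj1
        rw [show 𝔇.α (D ⊔ f (j + 1)) - 𝔇.α D = 𝔇.α (f (j + 1)) - 𝔇.α (D ⊓ f (j + 1)) by
          linarith]
      have e1 := 𝔇.w_add D (D ⊔ f (j + 1)) ⊤
      have e2 := 𝔇.a_add D (D ⊔ f (j + 1)) ⊤
      have hm := hmin j (by omega)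
      have h5 : μ M * 𝔇.a (D ⊓ f (j + 1)) (f (j + 1)) ≤
          μ j * 𝔇.a (D ⊓ f (j + 1)) (f (j + 1)) := mul_le_mul_of_nonneg_right hm hs2
      rw [e1, e2, mul_add, ew, ea]
      linarith
  exact ⟨fun i hi => hanti M i hi (by omega), step,
    fun D hD h0D => claim (M + 1) 0 (by omega) D hD h0D⟩

end Lat

section Lat2

variable {S : Type*} [Lattice S] [BoundedOrder S] {K : Type*} [Field K] [LinearOrder K]
  [IsStrictOrderedRing K] (𝔇 : HNw.Datum S K)

/-- a pure quotient of the top with the multiplicity and the reduced value of the last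
Harder–Narasimhan factor is the last Harder–Narasimhan factor -/
theorem Datum.last_factor_unique (M : ℕ) (f : ℕ → S) (hg0 : 𝔇.good (f 0))
    (hp0 : 𝔇.PureAbove (f 0)) (hfN : f (M + 1) = ⊤)
    (hf : ∀ i, i < M + 1 → 𝔇.RelMax (f i) (f (i + 1)))
    (C : S) (hC : 𝔇.good C) (h0C : f 0 ≤ C) (hCp : 𝔇.PureAbove C)
    (ha : 𝔇.a C ⊤ = 𝔇.a (f M) ⊤)
    (hw : 𝔇.a (f M) ⊤ * 𝔇.w C ⊤ = 𝔇.a C ⊤ * 𝔇.w (f M) ⊤) : C = f M := by
  obtain ⟨hmu, hstep, hbound⟩ := 𝔇.chain_facts M f hg0 hp0 hfN hf
  have hgood := 𝔇.good_of_chain (M + 1) f hg0 hf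
  have hpure := 𝔇.pureAbove_of_chain (M + 1) f hp0 hf
  have hpM : 0 < 𝔇.a (f M) ⊤ := by
    have := 𝔇.a_pos (hpure M (by omega)) (hf M (by omega)).1 (hf M (by omega)).2.1
    rwa [hfN] at this
  -- the reduced value of `C`
  have hw' : 𝔇.w C ⊤ = 𝔇.r (f M) (f (M + 1)) * 𝔇.a C ⊤ := by
    rw [hfN]
    unfold Datum.r
    rw [div_mul_eq_mul_div, eq_div_iff hpM.ne']
    linear_combination hw
  have hle : ∀ j, j ≤ M → f j ≤ C := by
    intro j
    induction j with
    | zero => intro _; exact h0C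
    | succ j ih =>
      intro hj
      have hjC := ih (by omega)
      have hjM : j < M + 1 := by omega
      have hgj1 := (hf j hjM).1
      have gU : 𝔇.good (C ⊔ f (j + 1)) := 𝔇.good_sup hC hgj1
      have gI : 𝔇.good (C ⊓ f (j + 1)) := 𝔇.good_inf hC hgj1
      by_contra hnot
      have hlt : C < C ⊔ f (j + 1) :=
        lt_of_le_of_ne le_sup_left (fun h => hnot (le_sup_right.trans h.ge))
      have hapos : 0 < 𝔇.a C (C ⊔ f (j + 1)) := 𝔇.a_pos hCp gU hlt
      have hb := hbound (C ⊔ f (j + 1)) gU (h0C.trans le_sup_left)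
      have ew : 𝔇.w C (C ⊔ f (j + 1)) = 𝔇.w (C ⊓ f (j + 1)) (f (j + 1)) := by
        unfold Datum.w
        have := 𝔇.v_mod hC hgj1
        linarith
      have ea : 𝔇.a C (C ⊔ f (j + 1)) = 𝔇.a (C ⊓ f (j + 1)) (f (j + 1)) := by
        unfold Datum.a
        have := 𝔇.α_mod hC hgj1
        rw [show 𝔇.α (C ⊔ f (j + 1)) - 𝔇.α C = 𝔇.α (f (j + 1)) - 𝔇.α (C ⊓ f (j + 1)) by
          linarith]
      obtain ⟨hs1, -⟩ := hstep j hjM (C ⊓ f (j + 1)) gI
        (le_inf hjC (hf j hjM).2.1.le) inf_le_right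
      rw [← ew, ← ea] at hs1
      have hm := hmu j (by omega)
      have h5 : 𝔇.r (f M) (f (M + 1)) * 𝔇.a C (C ⊔ f (j + 1)) <
          𝔇.r (f j) (f (j + 1)) * 𝔇.a C (C ⊔ f (j + 1)) := mul_lt_mul_of_pos_right hm hapos
      have e1 := 𝔇.w_add C (C ⊔ f (j + 1)) ⊤
      have e2 := 𝔇.a_add C (C ⊔ f (j + 1)) ⊤
      rw [e1, e2, mul_add] at hw'
      linarith
  have hMC := hle M le_rfl
  by_contra hne
  have hlt : f M < C := lt_of_le_of_ne hMC (fun e => hne e.symm)
  have htop : 𝔇.good ⊤ := by rw [← hfN]; exact hgood (M + 1) le_rfl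
  have h1 := 𝔇.a_pos (hpure M (by omega)) hC hlt
  have e2 := 𝔇.a_add (f M) C ⊤
  rw [e2] at ha
  linarith

end Lat2

section Ell

variable (k : Type u) [Field k] (X : Scheme.{u}) [X.Over (Spec (CommRingCat.of k))]
  [IsProper (X ↘ Spec (CommRingCat.of k))] (L : X.Modules) {F : X.Modules}
  (hL : CohB1.IsAmple L) {d : ℕ} (ℓ : ℕ) (hp : ShStab.IsPure X F d) (hF : Coh.IsCoh F)

theorem topPart_add (ℓ d : ℕ) (P Q : ℚ[X]) :
    StabCat.topPart ℓ d (P + Q) = StabCat.topPart ℓ d P + StabCat.topPart ℓ d Q := by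
  ext j
  rw [coeff_add, coeff_topPart, coeff_topPart, coeff_topPart, coeff_add]
  split_ifs
  · rfl
  · rw [add_zero]

/-- the truncated datum on the lattice of subobjects of a pure coherent module -/
noncomputable def ellDatum : HNw.Datum (Subobject F) GK where
  good := Good X
  v := fun A => germ (StabCat.topPart ℓ d (PP k X L A))
  α := αZ k X L d
  good_inf := fun hC hD => good_inf k X hF hC hD
  good_sup := fun hC hD => good_sup k X hF hC hD
  wf := wf_good k X hF
  v_mod := fun hC hD => by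
    rw [← map_add, ← map_add, ← topPart_add, ← topPart_add, pp_mod k X L hL hp hF hC hD]
  α_mod := fun {C D} hC hD => by
    have h := pp_mod k X L hL hp hF hC hD
    have h2 : StabCat.alpha d (PP k X L (C ⊔ D)) + StabCat.alpha d (PP k X L (C ⊓ D)) =
        StabCat.alpha d (PP k X L C) + StabCat.alpha d (PP k X L D) := by
      rw [← alpha_add, ← alpha_add, h]
    rw [alphaZ_spec k X L hL hp _ (good_sup k X hF hC hD),
      alphaZ_spec k X L hL hp _ (good_inf k X hF hC hD), alphaZ_spec k X L hL hp _ hC,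
      alphaZ_spec k X L hL hp _ hD] at h2
    exact_mod_cast h2
  v_le := fun {C D} hC hD hle _ => by
    have f := facts_le k X L hL hp hle hC hD
    have := germ_nonneg_of_evNonneg (evNonneg_topPart f.2.1 f.1 ℓ)
    rw [topPart_sub, map_sub] at this
    linarith
  α_le := fun hC hD hle => by
    have := (facts_le k X L hL hp hle hC hD).2.2.1
    rw [alphaZ_spec k X L hL hp _ hC, alphaZ_spec k X L hL hp _ hD] at this
    exact_mod_cast this

theorem a_ell {A B : Subobject F} (hA : Good X A) (hB : Good X B) :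
    (ellDatum k X L hL ℓ hp hF).a A B =
      ((StabCat.alpha d (PP k X L B - PP k X L A) : ℚ) : GK) := by
  change (((αZ k X L d B - αZ k X L d A : ℤ)) : GK) = _
  rw [alpha_sub, alphaZ_spec k X L hL hp B hB, alphaZ_spec k X L hL hp A hA]
  push_cast
  rfl

theorem w_ell (A B : Subobject F) :
    (ellDatum k X L hL ℓ hp hF).w A B =
      germ (StabCat.topPart ℓ d (PP k X L B - PP k X L A)) := by
  rw [topPart_sub, map_sub]
  rfl

theorem le_iff_redLE_ell {A B C : Subobject F} (hA : Good X A) (hB : Good X B) (hC : Good X C) :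
    (ellDatum k X L hL ℓ hp hF).a A B * (ellDatum k X L hL ℓ hp hF).w A C ≤
        (ellDatum k X L hL ℓ hp hF).a A C * (ellDatum k X L hL ℓ hp hF).w A B ↔
      StabCat.RedLE d (StabCat.topPart ℓ d (PP k X L C - PP k X L A))
        (StabCat.topPart ℓ d (PP k X L B - PP k X L A)) := by
  rw [a_ell k X L hL ℓ hp hF hA hB, a_ell k X L hL ℓ hp hF hA hC, w_ell, w_ell, redLE_iff,
    alpha_topPart, alpha_topPart]

theorem eq_iff_redEq_ell {A B C : Subobject F} (hA : Good X A) (hB : Good X B) (hC : Good X C) :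
    (ellDatum k X L hL ℓ hp hF).a A B * (ellDatum k X L hL ℓ hp hF).w A C =
        (ellDatum k X L hL ℓ hp hF).a A C * (ellDatum k X L hL ℓ hp hF).w A B ↔
      StabCat.RedEq d (StabCat.topPart ℓ d (PP k X L C - PP k X L A))
        (StabCat.topPart ℓ d (PP k X L B - PP k X L A)) := by
  rw [a_ell k X L hL ℓ hp hF hA hB, a_ell k X L hL ℓ hp hF hA hC, w_ell, w_ell, redEq_iff,
    alpha_topPart, alpha_topPart]

theorem lt_iff_redLT_ell {A B D : Subobject F} (hA : Good X A) (hB : Good X B) (hD : Good X D) :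
    (ellDatum k X L hL ℓ hp hF).a A B * (ellDatum k X L hL ℓ hp hF).w B D <
        (ellDatum k X L hL ℓ hp hF).a B D * (ellDatum k X L hL ℓ hp hF).w A B ↔
      StabCat.RedLT d (StabCat.topPart ℓ d (PP k X L D - PP k X L B))
        (StabCat.topPart ℓ d (PP k X L B - PP k X L A)) := by
  rw [a_ell k X L hL ℓ hp hF hA hB, a_ell k X L hL ℓ hp hF hB hD, w_ell, w_ell, redLT_iff,
    alpha_topPart, alpha_topPart]

theorem pureAbove_bot_ell : (ellDatum k X L hL ℓ hp hF).PureAbove ⊥ := by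
  intro D hD hlt
  change αZ k X L d ⊥ < αZ k X L d D
  rw [alphaZ_lt_iff k X L hL hp (good_bot X) hD, pp_bot, sub_zero]
  exact alpha_pos_of_bot_lt k X L hL hp D hD hlt

/-- a truncated-semistable factor is semistable and pure at the level of the lattice -/
theorem ssf_puf_of_isEllSemistable {A B : Subobject F} (hA : Good X A) (hB : Good X B)
    (hle : A ≤ B)
    (hQ : ShStab.IsEllSemistable k X L (cokernel (Subobject.ofLE A B hle)) d ℓ) :
    (ellDatum k X L hL ℓ hp hF).SSf A B ∧ (ellDatum k X L hL ℓ hp hF).PUf A B := by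
  obtain ⟨hQc, hQ0, hQp, hQss⟩ := hQ
  have key : ∀ Cs : Subobject F, Good X Cs → A < Cs → Cs ≤ B →
      0 < StabCat.alpha d (PP k X L Cs - PP k X L A) := by
    intro Cs gCs hACs hCsB
    have hT := isCoh_coker k X hACs.le hA gCs
    have hT0 : ¬ IsZero (cokernel (Subobject.ofLE A Cs hACs.le)) := fun h0 =>
      not_le_of_gt hACs (le_of_isZero_cokernel_ofLE hACs.le h0)
    exact alpha_pos_of_dim k X L hL _ hT d
      (hQp _ (quotMapSub hACs.le hCsB) inferInstance hT hT0)
      (isHilbPoly_coker k X L hL hp hACs.le hA gCs)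
  constructor
  · intro Cs gCs hACs hCsB
    have h1 := key Cs gCs hACs hCsB
    have hle' := (facts_le k X L hL hp hCsB gCs hB).2.2.1
    have hT := isCoh_coker k X hACs.le hA gCs
    rcases lt_or_eq_of_le hle' with hlt | heq
    · rw [le_iff_redLE_ell k X L hL ℓ hp hF hA hB gCs]
      refine hQss _ (quotMapSub hACs.le hCsB) inferInstance hT _ _
        (isHilbPoly_coker k X L hL hp hACs.le hA gCs) (isHilbPoly_coker k X L hL hp hle hA hB)
        h1 ?_
      rw [alpha_sub, alpha_sub]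
      linarith
    · have hα : (ellDatum k X L hL ℓ hp hF).α Cs = (ellDatum k X L hL ℓ hp hF).α B := by
        change αZ k X L d Cs = αZ k X L d B
        rw [alphaZ_spec k X L hL hp Cs gCs, alphaZ_spec k X L hL hp B hB] at heq
        exact_mod_cast heq
      have hw := (ellDatum k X L hL ℓ hp hF).w_le A gCs hB hCsB hα
      have ha : (ellDatum k X L hL ℓ hp hF).a A B = (ellDatum k X L hL ℓ hp hF).a A Cs := by
        unfold HNw.Datum.a
        rw [hα]
      rw [ha]
      have h0 : 0 ≤ (ellDatum k X L hL ℓ hp hF).a A Cs := by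
        rw [a_ell k X L hL ℓ hp hF hA gCs]
        exact ratCast_nonneg_GK h1.le
      exact mul_le_mul_of_nonneg_left hw h0
  · intro Cs gCs hACs hCsB
    exact (alphaZ_lt_iff k X L hL hp hA gCs).2 (key Cs gCs hACs hCsB)

/-- the steps of a truncated Harder–Narasimhan filtration are maximal destabilising -/
theorem relMax_of_isEllHN (t : LTSeries (Subobject F))
    (ht : StabCat.IsHNWith (fun G => ShStab.IsEllSemistable k X L G d ℓ)
      (fun G P => ∃ Q : ℚ[X], ShStab.IsHilbPoly k X L G Q ∧ P = StabCat.topPart ℓ d Q) d F t) :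
    gOf t 0 = ⊥ ∧ gOf t t.length = ⊤ ∧
      ∀ i, i < t.length → (ellDatum k X L hL ℓ hp hF).RelMax (gOf t i) (gOf t (i + 1)) := by
  obtain ⟨hhead, hlast, hss, hdec⟩ := ht
  have good_t : ∀ i : Fin (t.length + 1), Good X (t i) := by
    intro i
    induction i using Fin.induction with
    | zero =>
      have : t 0 = ⊥ := hhead
      rw [this]
      exact good_bot X
    | succ i ih =>
      have hF' : Coh.IsCoh (cokernel (Subobject.ofLE (t i.castSucc) (t i.succ)
          (le_of_lt (t.step i)))) := (hss i).1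
      exact isCoh_X₂ k X (cokerSC_shortExact (Subobject.ofLE (t i.castSucc) (t i.succ)
        (le_of_lt (t.step i)))) ih hF'
  have sp : ∀ i : Fin t.length, (ellDatum k X L hL ℓ hp hF).SSf (t i.castSucc) (t i.succ) ∧
      (ellDatum k X L hL ℓ hp hF).PUf (t i.castSucc) (t i.succ) := fun i =>
    ssf_puf_of_isEllSemistable k X L hL ℓ hp hF (good_t _) (good_t _) (le_of_lt (t.step i))
      (hss i)
  have dec : ∀ i j : Fin t.length, i.val + 1 = j.val →
      (ellDatum k X L hL ℓ hp hF).a (t i.castSucc) (t i.succ) *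
          (ellDatum k X L hL ℓ hp hF).w (t i.succ) (t j.succ) <
        (ellDatum k X L hL ℓ hp hF).a (t i.succ) (t j.succ) *
          (ellDatum k X L hL ℓ hp hF).w (t i.castSucc) (t i.succ) := by
    intro i j hij
    have e : j.castSucc = i.succ := Fin.ext (by simp [hij])
    have h := hdec i j hij _ _
      ⟨_, isHilbPoly_coker k X L hL hp (le_of_lt (t.step i)) (good_t _) (good_t _), rfl⟩
      ⟨_, isHilbPoly_coker k X L hL hp (le_of_lt (t.step j)) (good_t _) (good_t _), rfl⟩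
    rw [e] at h
    exact (lt_iff_redLT_ell k X L hL ℓ hp hF (good_t _) (good_t _) (good_t _)).2 h
  have hcs : ∀ (i : ℕ) (hi : i < t.length),
      gOf t i = t (⟨i, hi⟩ : Fin t.length).castSucc := fun i hi => gOf_castSucc t ⟨i, hi⟩
  have hsu : ∀ (i : ℕ) (hi : i < t.length),
      gOf t (i + 1) = t (⟨i, hi⟩ : Fin t.length).succ := fun i hi => gOf_succ t ⟨i, hi⟩
  have h0 : gOf t 0 = ⊥ := by
    have e : gOf t 0 = t 0 := gOf_val t 0
    rw [e]
    exact hhead
  have hN : gOf t t.length = ⊤ := by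
    have e : gOf t t.length = t (Fin.last t.length) := gOf_val t (Fin.last t.length)
    rw [e]
    exact hlast
  refine ⟨h0, hN, fun j hj => ?_⟩
  apply (ellDatum k X L hL ℓ hp hF).relMax_of_chain t.length (gOf t)
  · intro i hi
    have e : gOf t i = t ⟨i, Nat.lt_succ_of_le hi⟩ := gOf_val t ⟨i, Nat.lt_succ_of_le hi⟩
    rw [e]
    exact good_t _
  · intro i hi
    rw [hcs i hi, hsu i hi]
    exact t.step ⟨i, hi⟩
  · exact hN
  · intro i hi
    rw [hcs i hi, hsu i hi]
    exact (sp ⟨i, hi⟩).1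
  · intro i hi
    rw [hcs i hi, hsu i hi]
    exact (sp ⟨i, hi⟩).2
  · intro i hi
    have hi' : i < t.length := by omega
    rw [hcs i hi', hsu i hi', hsu (i + 1) hi]
    exact dec ⟨i, hi'⟩ ⟨i + 1, hi⟩ rfl
  · exact hj

end Ell

section Ab

variable {C : Type*} [Category C] [Abelian C]

/-- an epimorphism is the cokernel of its kernel -/
noncomputable def cokerKerIso {E G : C} (q : E ⟶ G) [Epi q] : cokernel (kernel.ι q) ≅ G :=
  IsColimit.coconePointUniqueUpToIso (cokernelIsCokernel (kernel.ι q))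
    (Abelian.epiIsCokernelOfKernel (Fork.ofι (kernel.ι q) (by rw [kernel.condition, Limits.comp_zero]))
      (kernelIsKernel q))

theorem cokerKerIso_π {E G : C} (q : E ⟶ G) [Epi q] :
    cokernel.π (kernel.ι q) ≫ (cokerKerIso q).hom = q :=
  IsColimit.comp_coconePointUniqueUpToIso_hom (cokernelIsCokernel (kernel.ι q))
    (Abelian.epiIsCokernelOfKernel (Fork.ofι (kernel.ι q) (by rw [kernel.condition, Limits.comp_zero]))
      (kernelIsKernel q)) WalkingParallelPair.one

/-- the quotient by a subobject equal to the kernel of an epimorphism -/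
noncomputable def cokerSubIso {E G : C} (q : E ⟶ G) [Epi q] (A : Subobject E)
    (h : A = Subobject.mk (kernel.ι q)) : cokernel A.arrow ≅ G :=
  cokernel.mapIso A.arrow (kernel.ι q) (Subobject.isoOfEqMk A (kernel.ι q) h) (Iso.refl E)
    (by rw [Iso.refl_hom, Category.comp_id]; exact (Subobject.ofLEMk_comp _).symm) ≪≫
  cokerKerIso q

theorem cokerSubIso_π {E G : C} (q : E ⟶ G) [Epi q] (A : Subobject E)
    (h : A = Subobject.mk (kernel.ι q)) :
    cokernel.π A.arrow ≫ (cokerSubIso q A h).hom = q := by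
  unfold cokerSubIso
  rw [Iso.trans_hom, cokernel.mapIso_hom, ← Category.assoc, cokernel.π_desc, Iso.refl_hom,
    Category.assoc, Category.id_comp, cokerKerIso_π]

end Ab

section Last

variable (k : Type u) [Field k] (X : Scheme.{u}) [X.Over (Spec (CommRingCat.of k))]
  [IsProper (X ↘ Spec (CommRingCat.of k))] (L : X.Modules)

/-- S18973 -/
theorem last_ell_factor (hL : CohB1.IsAmple L) (d ℓ : ℕ)
    (E : X.Modules) (hE : Coh.IsCoh E) (h0 : ¬ IsZero E) (hp : ShStab.IsPure X E d)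
    (s : LTSeries (Subobject E))
    (hs : StabCat.IsHNWith (fun G => ShStab.IsEllSemistable k X L G d ℓ)
      (fun G P => ∃ Q : ℚ[X], ShStab.IsHilbPoly k X L G Q ∧ P = StabCat.topPart ℓ d Q) d E s)
    (G : X.Modules) (q : E ⟶ G) [Epi q] (hG : Coh.IsCoh G) (hG0 : ¬ IsZero G)
    (hGp : ShStab.IsPure X G d) (pF pG : ℚ[X])
    (hpF : ShStab.IsHilbPoly k X L (cokernel s.eraseLast.last.arrow) pF)
    (hpG : ShStab.IsHilbPoly k X L G pG)
    (hα : StabCat.alpha d pF = StabCat.alpha d pG)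
    (hred : StabCat.RedEq d (StabCat.topPart ℓ d pF) (StabCat.topPart ℓ d pG)) :
    ∃ φ : (cokernel s.eraseLast.last.arrow) ≅ G,
      cokernel.π s.eraseLast.last.arrow ≫ φ.hom = q := by
  obtain ⟨s0, sN, sr⟩ := relMax_of_isEllHN k X L hL ℓ hp hE s hs
  have hlen : 0 < s.length := by
    rcases Nat.eq_zero_or_pos s.length with h | h
    · exfalso
      rw [h] at sN
      rw [s0] at sN
      exact (bot_lt_top_of_not_isZero X h0).ne sN
    · exact h
  obtain ⟨M, hM⟩ : ∃ M, s.length = M + 1 := ⟨s.length - 1, by omega⟩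
  have hA : s.eraseLast.last = gOf s M := by
    have e1 : s.eraseLast.last = s ⟨s.length.pred, Nat.lt_succ_iff.2 (Nat.pred_le _)⟩ := rfl
    have e2 : gOf s M = s ⟨M, by omega⟩ := gOf_val s ⟨M, by omega⟩
    rw [e1, e2]
    congr 1
    apply Fin.ext
    simp only [Nat.pred_eq_sub_one]
    omega
  -- the kernel
  have hKc := isCoh_kernel k X hE hG q
  obtain ⟨pK, hpK⟩ := exists_isHilbPoly_sub k X L hL hp (kernel.ι q) hKc
  obtain ⟨gK, ppK⟩ := pp_mk k X L hL hp (kernel.ι q) hKc hpK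
  have gT : Good X (⊤ : Subobject E) := good_top X hE
  have hpE := pp_spec k X L hL hp ⊤ gT
  have hpE' : ShStab.IsHilbPoly k X L E (PP k X L (⊤ : Subobject E)) :=
    isHilbPoly_of_iso k X L (asIso (⊤ : Subobject E).arrow) hpE
  have hS : (ShortComplex.mk (kernel.ι q) q (kernel.condition q)).ShortExact :=
    { exact := ShortComplex.exact_of_f_is_kernel _ (kernelIsKernel q)
      mono_f := inferInstanceAs (Mono (kernel.ι q))
      epi_g := inferInstanceAs (Epi q) }
  have epG : pG = PP k X L (⊤ : Subobject E) - PP k X L (Subobject.mk (kernel.ι q)) := by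
    rw [ppK]
    exact isHilbPoly_unique k X L hpG (isHilbPoly_sub_left k X L hL.1 _ hS hKc hE hG hpK hpE')
  -- the last term of the filtration
  have hg0 : (ellDatum k X L hL ℓ hp hE).good (gOf s 0) := by rw [s0]; exact good_bot X
  have hp0 : (ellDatum k X L hL ℓ hp hE).PureAbove (gOf s 0) := by
    rw [s0]; exact pureAbove_bot_ell k X L hL ℓ hp hE
  have sr' : ∀ a, a < M + 1 →
      (ellDatum k X L hL ℓ hp hE).RelMax (gOf s a) (gOf s (a + 1)) := fun a ha => sr a (by omega)
  have hsN' : gOf s (M + 1) = ⊤ := by rw [← hM]; exact sN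
  have gA : Good X (gOf s M) :=
    (ellDatum k X L hL ℓ hp hE).good_of_chain (M + 1) (gOf s) hg0 sr' M (by omega)
  have epF : pF = PP k X L (⊤ : Subobject E) - PP k X L (gOf s M) := by
    have h1 : ShStab.IsHilbPoly k X L (cokernel (gOf s M).arrow) pF := by
      rw [← hA]; exact hpF
    have hQc : Coh.IsCoh (cokernel (gOf s M).arrow) := by
      haveI := Euler.isNoetherian_of_proper k X
      exact FtLocal.isCoh_cokernel gA hE _
    exact isHilbPoly_unique k X L h1
      (isHilbPoly_sub_left k X L hL.1 (cokerSC (gOf s M).arrow) (cokerSC_shortExact _) gA hE hQc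
        (pp_spec k X L hL hp _ gA) hpE')
  -- purity above the kernel
  have hKp : (ellDatum k X L hL ℓ hp hE).PureAbove (Subobject.mk (kernel.ι q)) := by
    intro D gD hKD
    change αZ k X L d _ < αZ k X L d D
    rw [alphaZ_lt_iff k X L hL hp gK gD]
    have hT := isCoh_coker k X hKD.le gK gD
    have hT0 : ¬ IsZero (cokernel (Subobject.ofLE (Subobject.mk (kernel.ι q)) D hKD.le)) :=
      fun h0 => not_le_of_gt hKD (le_of_isZero_cokernel_ofLE hKD.le h0)
    let j : cokernel (Subobject.ofLE (Subobject.mk (kernel.ι q)) D hKD.le) ⟶ G :=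
      quotMapSub hKD.le le_top ≫ (cokerTopIso X (Subobject.mk (kernel.ι q))).hom ≫
        (cokerSubIso q (Subobject.mk (kernel.ι q)) rfl).hom
    have hj : Mono j := mono_comp _ _
    exact alpha_pos_of_dim k X L hL _ hT d (hGp _ j hj hT hT0)
      (isHilbPoly_coker k X L hL hp hKD.le gK gD)
  -- numerical hypotheses
  have ha : (ellDatum k X L hL ℓ hp hE).a (Subobject.mk (kernel.ι q)) ⊤ =
      (ellDatum k X L hL ℓ hp hE).a (gOf s M) ⊤ := by
    rw [a_ell k X L hL ℓ hp hE gK gT, a_ell k X L hL ℓ hp hE gA gT, ← epG, ← epF, hα]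
  have hw : (ellDatum k X L hL ℓ hp hE).a (gOf s M) ⊤ *
      (ellDatum k X L hL ℓ hp hE).w (Subobject.mk (kernel.ι q)) ⊤ =
      (ellDatum k X L hL ℓ hp hE).a (Subobject.mk (kernel.ι q)) ⊤ *
        (ellDatum k X L hL ℓ hp hE).w (gOf s M) ⊤ := by
    rw [a_ell k X L hL ℓ hp hE gK gT, a_ell k X L hL ℓ hp hE gA gT, w_ell, w_ell, ← epG, ← epF]
    have := (redEq_iff d _ _).1 (redEq_symm hred)
    rw [alpha_topPart, alpha_topPart] at this
    exact this
  have hKA := (ellDatum k X L hL ℓ hp hE).last_factor_unique M (gOf s) hg0 hp0 hsN' sr'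
    (Subobject.mk (kernel.ι q)) gK (by rw [s0]; exact bot_le) hKp ha hw
  have hfin : s.eraseLast.last = Subobject.mk (kernel.ι q) := by rw [hA, hKA]
  exact ⟨cokerSubIso q _ hfin, cokerSubIso_π q _ hfin⟩

end Last

end Groth.Agent.Lead.HNw
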