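import Mathlib
import Groth.Agent.Lib.Lead.HZ1

set_option autoImplicit false
set_option backward.isDefEq.respectTransparency.types false
set_option synthInstance.maxHeartbeats 400000
set_option linter.style.haveILetI false
set_option linter.unusedSectionVars false
set_option linter.unusedVariables false

universe u

open CategoryTheory CategoryTheory.Limits AlgebraicGeometry TopologicalSpace Opposite Polynomial

namespace Groth.Agent.Lead.HZ

open Groth.Agent.Lead.HP Groth.Agent.Helper1 Groth.Agent.Lead.HN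

section Enum

variable {S : Type*} [PartialOrder S] [BoundedOrder S]

/-- the linear order on a finite chain -/
noncomputable def chainLO (C : Finset S) (h : IsChain (fun A B : S => A ≤ B) (C : Set S)) :
    LinearOrder {x // x ∈ C} :=
  { (inferInstance : PartialOrder {x // x ∈ C}) with
    le_total := fun a b => by
      rcases eq_or_ne a b with e | hne
      · subst e
        exact Or.inl le_rfl
      · exact h a.2 b.2 (fun e => hne (Subtype.ext e))
    toDecidableLE := Classical.decRel _ }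

/-- enumeration of a finite chain containing bottom and top -/
theorem exists_enum (C : Finset S) (h : IsChain (fun A B : S => A ≤ B) (C : Set S))
    (hbot : ⊥ ∈ C) (htop : ⊤ ∈ C) :
    ∃ (N : ℕ) (g : ℕ → S), g 0 = ⊥ ∧ g N = ⊤ ∧ (∀ i, i < N → g i < g (i + 1)) ∧
      (∀ i, i ≤ N → g i ∈ C) ∧ (∀ i, i < N → ∀ D ∈ C, ¬ (g i < D ∧ D < g (i + 1))) ∧
      ∀ D ∈ C, ∃ i, i ≤ N ∧ g i = D := by
  classical
  letI := chainLO C h
  let c := Fintype.card {x // x ∈ C}
  have hc : 0 < c := Fintype.card_pos_iff.2 ⟨⟨⊥, hbot⟩⟩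
  let e : Fin c ≃o {x // x ∈ C} := monoEquivOfFin _ rfl
  let g : ℕ → S := fun i => if hi : i < c then (e ⟨i, hi⟩).1 else ⊤
  have hg : ∀ i (hi : i < c), g i = (e ⟨i, hi⟩).1 := fun i hi => dif_pos hi
  have hmono : ∀ i j (hi : i < c) (hj : j < c), i < j → g i < g j := by
    intro i j hi hj hij
    rw [hg i hi, hg j hj]
    have : e ⟨i, hi⟩ < e ⟨j, hj⟩ := e.strictMono (by exact hij)
    exact this
  refine ⟨c - 1, g, ?_, ?_, ?_, ?_, ?_, ?_⟩
  · rw [hg 0 hc]
    have h1 : e ⟨0, hc⟩ ≤ ⟨⊥, hbot⟩ := by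
      rw [← e.apply_symm_apply ⟨⊥, hbot⟩]
      exact e.monotone (Fin.mk_le_of_le_val (Nat.zero_le _))
    exact le_bot_iff.1 h1
  · rw [hg (c - 1) (by omega)]
    have h1 : (⟨⊤, htop⟩ : {x // x ∈ C}) ≤ e ⟨c - 1, by omega⟩ := by
      rw [← e.apply_symm_apply ⟨⊤, htop⟩]
      apply e.monotone
      have := (e.symm ⟨⊤, htop⟩).isLt
      exact Fin.le_def.2 (by simp only; omega)
    exact top_le_iff.1 h1
  · intro i hi
    exact hmono i (i + 1) (by omega) (by omega) (Nat.lt_succ_self i)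
  · intro i hi
    rw [hg i (by omega)]
    exact (e ⟨i, by omega⟩).2
  · intro i hi D hD ⟨h1, h2⟩
    rw [hg i (by omega)] at h1
    rw [hg (i + 1) (by omega)] at h2
    have h1' : e ⟨i, by omega⟩ < ⟨D, hD⟩ := h1
    have h2' : (⟨D, hD⟩ : {x // x ∈ C}) < e ⟨i + 1, by omega⟩ := h2
    rw [← e.apply_symm_apply ⟨D, hD⟩] at h1' h2'
    have a1 := e.lt_iff_lt.1 h1'
    have a2 := e.lt_iff_lt.1 h2'
    have b1 : i < (e.symm ⟨D, hD⟩).val := a1
    have b2 : (e.symm ⟨D, hD⟩).val < i + 1 := a2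
    omega
  · intro D hD
    refine ⟨(e.symm ⟨D, hD⟩).val, ?_, ?_⟩
    · have := (e.symm ⟨D, hD⟩).isLt
      omega
    · rw [hg _ (e.symm ⟨D, hD⟩).isLt]
      have : e ⟨(e.symm ⟨D, hD⟩).val, (e.symm ⟨D, hD⟩).isLt⟩ = ⟨D, hD⟩ := e.apply_symm_apply _
      rw [this]

end Enum


section Arith

theorem redLE'_iff {d : ℕ} {ψ φ : ℚ[X]} (hψ : 0 < StabCat.alpha d ψ) (hφ : 0 < StabCat.alpha d φ) :
    W4c2simpsonmod1.RedLE d ψ φ ↔ StabCat.RedLE d ψ φ := by
  have key : ∀ x : ℚ, ψ.eval x / W4c2simpsonmod1.rankOf d ψ ≤ φ.eval x / W4c2simpsonmod1.rankOf d φ ↔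
      (StabCat.alpha d φ • ψ).eval x ≤ (StabCat.alpha d ψ • φ).eval x := by
    intro x
    change ψ.eval x / StabCat.alpha d ψ ≤ φ.eval x / StabCat.alpha d φ ↔ _
    rw [div_le_div_iff₀ hψ hφ, eval_smul, eval_smul, smul_eq_mul, smul_eq_mul]
    constructor <;> intro h <;> linarith
  constructor
  · rintro ⟨N, hN⟩
    refine ⟨N.toNat, fun m hm => ?_⟩
    have := (key (m : ℚ)).1 (by
      have h1 := hN (m : ℤ) (by omega)
      push_cast at h1
      exact h1)
    exact this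
  · rintro ⟨N, hN⟩
    refine ⟨(N : ℤ), fun m hm => ?_⟩
    have hm0 : 0 ≤ m := le_trans (Int.natCast_nonneg N) hm
    obtain ⟨m', rfl⟩ := Int.eq_ofNat_of_zero_le hm0
    have := (key (m' : ℚ)).2 (hN m' (by omega))
    push_cast
    exact this

theorem redLT'_iff {d : ℕ} {ψ φ : ℚ[X]} (hψ : 0 < StabCat.alpha d ψ) (hφ : 0 < StabCat.alpha d φ) :
    W4c2simpsonmod1.RedLT d ψ φ ↔ StabCat.RedLT d ψ φ := by
  have key : ∀ x : ℚ, ψ.eval x / W4c2simpsonmod1.rankOf d ψ < φ.eval x / W4c2simpsonmod1.rankOf d φ ↔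
      (StabCat.alpha d φ • ψ).eval x < (StabCat.alpha d ψ • φ).eval x := by
    intro x
    change ψ.eval x / StabCat.alpha d ψ < φ.eval x / StabCat.alpha d φ ↔ _
    rw [div_lt_div_iff₀ hψ hφ, eval_smul, eval_smul, smul_eq_mul, smul_eq_mul]
    constructor <;> intro h <;> linarith
  constructor
  · rintro ⟨N, hN⟩
    refine ⟨N.toNat, fun m hm => ?_⟩
    have := (key (m : ℚ)).1 (by
      have h1 := hN (m : ℤ) (by omega)
      push_cast at h1
      exact h1)
    exact this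
  · rintro ⟨N, hN⟩
    refine ⟨(N : ℤ), fun m hm => ?_⟩
    have hm0 : 0 ≤ m := le_trans (Int.natCast_nonneg N) hm
    obtain ⟨m', rfl⟩ := Int.eq_ofNat_of_zero_le hm0
    have := (key (m' : ℚ)).2 (hN m' (by omega))
    push_cast
    exact this

end Arith


section Main

variable (n : ℕ) (k : Type u) [Field k]

/-- the Hilbert polynomial with respect to all integral twists -/
abbrev HPZ (F : (CohB1.ProjSpace n k).Modules) (φ : ℚ[X]) : Prop :=
  ∀ m : ℤ, (Curv2.euler k (CohB1.ProjSpace n k)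
    (CohB1.tensorMod F (Twist.twistProjSpace n k m)) : ℚ) = φ.eval (m : ℚ)

/-- purity in the form used by the statement -/
abbrev Pure' (d : ℕ) (Q : (CohB1.ProjSpace n k).Modules) : Prop :=
  topologicalKrullDim ↥(CohB1.support Q) = (d : WithBot ℕ∞) ∧
    ∀ (G : (CohB1.ProjSpace n k).Modules) (ι : G ⟶ Q), Mono ι → Coh.IsCoh G → ¬ IsZero G →
      topologicalKrullDim ↥(CohB1.support G) = (d : WithBot ℕ∞)

/-- semistability in the form used by the statement -/
abbrev SS' (d : ℕ) (Q : (CohB1.ProjSpace n k).Modules) : Prop :=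
  ∀ (G : (CohB1.ProjSpace n k).Modules) (ι : G ⟶ Q), Mono ι → Coh.IsCoh G → ¬ IsZero G →
    ∀ φ ψ : Polynomial ℚ, HPZ n k Q φ → HPZ n k G ψ → W4c2simpsonmod1.RedLE d ψ φ

/-- the chains of the statement -/
abbrev GoodChain (d : ℕ) (E : (CohB1.ProjSpace n k).Modules) (C : Finset (Subobject E)) : Prop :=
  ⊥ ∈ C ∧ ⊤ ∈ C ∧ IsChain (fun A B : Subobject E => A ≤ B) (↑C : Set (Subobject E)) ∧
    (∀ A ∈ C, Coh.IsCoh (A : (CohB1.ProjSpace n k).Modules)) ∧
    (∀ A ∈ C, ∀ B ∈ C, ∀ hAB : A < B, (∀ D ∈ C, ¬ (A < D ∧ D < B)) →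
      Pure' n k d (cokernel (Subobject.ofLE A B hAB.le)) ∧
        SS' n k d (cokernel (Subobject.ofLE A B hAB.le))) ∧
    (∀ A ∈ C, ∀ B ∈ C, ∀ B' ∈ C, ∀ hAB : A < B, ∀ hBB : B < B',
      (∀ D ∈ C, ¬ (A < D ∧ D < B)) → (∀ D ∈ C, ¬ (B < D ∧ D < B')) →
      ∀ ψ ψ' : Polynomial ℚ, HPZ n k (cokernel (Subobject.ofLE A B hAB.le)) ψ →
        HPZ n k (cokernel (Subobject.ofLE B B' hBB.le)) ψ' → W4c2simpsonmod1.RedLT d ψ' ψ)

local notation "PN" => CohB1.ProjSpace n k
local notation "O1" => Twist.twistProjSpace n k 1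

theorem hL1 : CohB1.IsAmple (Twist.twistProjSpace n k 1) := VA5.isAmple_twistProjSpace n k

/-- a semistable module satisfies the conditions of the statement -/
theorem ss'_of_isSemistable (d : ℕ) (Q : (CohB1.ProjSpace n k).Modules)
    (h : ShStab.IsSemistable k (CohB1.ProjSpace n k) (Twist.twistProjSpace n k 1) Q d) :
    Pure' n k d Q ∧ SS' n k d Q := by
  obtain ⟨hQ, hQ0, hQp, hss⟩ := h
  have hdQ := hQp Q (𝟙 Q) inferInstance hQ hQ0
  refine ⟨⟨hdQ, hQp⟩, fun G ι hι hG hG0 φ ψ hφ hψ => ?_⟩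
  haveI := hι
  have hdG := hQp G ι hι hG hG0
  have hφ' := (pn_isHilbPoly_iff n k Q hQ d hdQ.le φ).2 hφ
  have hψ' := (pn_isHilbPoly_iff n k G hG d hdG.le ψ).2 hψ
  have h1 := redLE_of_sub k _ _ ⟨hQ, hQ0, hQp, hss⟩ ι hG hψ' hφ'
  have aφ := alpha_pos_of_dim k _ _ (hL1 n k) Q hQ d hdQ hφ'
  have aψ := alpha_pos_of_dim k _ _ (hL1 n k) G hG d hdG hψ'
  exact (redLE'_iff aψ aφ).2 h1

/-- the conditions of the statement give semistability -/
theorem isSemistable_of_ss' (d : ℕ) (Q : (CohB1.ProjSpace n k).Modules) (hQ : Coh.IsCoh Q)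
    (hp : Pure' n k d Q) (hs : SS' n k d Q) :
    ShStab.IsSemistable k (CohB1.ProjSpace n k) (Twist.twistProjSpace n k 1) Q d := by
  have hQ0 : ¬ IsZero Q := not_isZero_of_dim _ Q d hp.1
  refine ⟨hQ, hQ0, hp.2, fun F ι hι hF hF0 _ pF pE hpF hpE => ?_⟩
  have hdF := hp.2 F ι hι hF hF0
  have hφ := (pn_isHilbPoly_iff n k Q hQ d hp.1.le pE).1 hpE
  have hψ := (pn_isHilbPoly_iff n k F hF d hdF.le pF).1 hpF
  have h1 := hs F ι hι hF hF0 pE pF hφ hψ
  have aφ := alpha_pos_of_dim k _ _ (hL1 n k) Q hQ d hp.1 hpE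
  have aψ := alpha_pos_of_dim k _ _ (hL1 n k) F hF d hdF hpF
  exact (redLE'_iff aψ aφ).1 h1


variable {n k}

/-- monotonicity of a strictly increasing sequence -/
theorem lt_of_steps {S : Type*} [Preorder S] (N : ℕ) (f : ℕ → S)
    (h : ∀ i, i < N → f i < f (i + 1)) : ∀ j i, i < j → j ≤ N → f i < f j := by
  intro j
  induction j with
  | zero => intro i hi; omega
  | succ m ih =>
    intro i hi hm
    rcases Nat.lt_succ_iff_lt_or_eq.1 hi with h1 | h1
    · exact (ih i h1 (by omega)).trans (h m (by omega))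
    · subst h1
      exact h i (by omega)

theorem idx_lt_of_lt {S : Type*} [PartialOrder S] (N : ℕ) (f : ℕ → S)
    (h : ∀ i, i < N → f i < f (i + 1)) {i j : ℕ} (hi : i ≤ N) (hj : j ≤ N) (hlt : f i < f j) :
    i < j := by
  by_contra hc
  rcases Nat.eq_or_lt_of_le (Nat.le_of_not_lt hc) with e | e
  · subst e
    exact lt_irrefl _ hlt
  · exact lt_asymm hlt (lt_of_steps N f h i j e hi)

variable (n k)

/-- S14972 -/
theorem existsUnique_chain (d : ℕ) (E : (CohB1.ProjSpace n k).Modules) (hE : Coh.IsCoh E)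
    (hpure : Pure' n k d E) : ∃! C : Finset (Subobject E), GoodChain n k d E C := by
  classical
  have hL := hL1 n k
  have hp : ShStab.IsPure (CohB1.ProjSpace n k) E d := hpure.2
  let 𝔇 := datum k (CohB1.ProjSpace n k) (Twist.twistProjSpace n k 1) hL hp hE
  obtain ⟨N, f, hf0, hfN, hf⟩ := 𝔇.exists_hnSeq (good_bot _) (good_top _ hE)
    (pureAbove_bot k _ _ hL hp hE)
  have hstep : ∀ i, i < N → f i < f (i + 1) := fun i hi => (hf i hi).1.2.1
  have hgoodf : ∀ i, i ≤ N → Good (CohB1.ProjSpace n k) (f i) := by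
    intro i hi
    rcases Nat.eq_or_lt_of_le hi with e | e
    · rw [e, hfN]
      exact good_top _ hE
    · exact (hf i e).2.1
  -- factor data
  have hfac : ∀ i (hi : i < N),
      ShStab.IsSemistable k (CohB1.ProjSpace n k) (Twist.twistProjSpace n k 1)
        (cokernel (Subobject.ofLE (f i) (f (i + 1)) (hstep i hi).le)) d := fun i hi =>
    isSemistable_factor k _ _ hL hp hE (hf i hi).2.1 (hf i hi).1.1 (hstep i hi)
      (𝔇.ssf_of_relMax (hf i hi).1) (𝔇.puf_of_pureAbove _ (hf i hi).2.2)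
  have hmemC : ∀ D, D ∈ (Finset.range (N + 1)).image f ↔ ∃ i, i ≤ N ∧ f i = D := by
    intro D
    rw [Finset.mem_image]
    constructor
    · rintro ⟨i, hi, e⟩
      exact ⟨i, Nat.lt_succ_iff.1 (Finset.mem_range.1 hi), e⟩
    · rintro ⟨i, hi, e⟩
      exact ⟨i, Finset.mem_range.2 (Nat.lt_succ_iff.2 hi), e⟩
  -- consecutive elements of the chain
  have hcons : ∀ i j, i ≤ N → j ≤ N → f i < f j →
      (∀ D ∈ (Finset.range (N + 1)).image f, ¬ (f i < D ∧ D < f j)) → j = i + 1 := by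
    intro i j hi hj hlt hno
    have hij := idx_lt_of_lt N f hstep hi hj hlt
    by_contra hne
    have h1 : i + 1 < j := by omega
    exact hno (f (i + 1)) ((hmemC _).2 ⟨i + 1, by omega, rfl⟩)
      ⟨hstep i (by omega), lt_of_steps N f hstep j (i + 1) h1 hj⟩
  refine ⟨(Finset.range (N + 1)).image f, ⟨?_, ?_, ?_, ?_, ?_, ?_⟩, ?_⟩
  · exact (hmemC _).2 ⟨0, Nat.zero_le _, hf0⟩
  · exact (hmemC _).2 ⟨N, le_rfl, hfN⟩
  · intro A hA B hB hne
    obtain ⟨i, hi, rfl⟩ := (hmemC _).1 hA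
    obtain ⟨j, hj, rfl⟩ := (hmemC _).1 hB
    rcases lt_trichotomy i j with h | h | h
    · exact Or.inl (lt_of_steps N f hstep j i h hj).le
    · subst h
      exact Or.inl le_rfl
    · exact Or.inr (lt_of_steps N f hstep i j h hi).le
  · intro A hA
    obtain ⟨i, hi, rfl⟩ := (hmemC _).1 hA
    exact hgoodf i hi
  · intro A hA B hB hAB hno
    obtain ⟨i, hi, rfl⟩ := (hmemC _).1 hA
    obtain ⟨j, hj, rfl⟩ := (hmemC _).1 hB
    obtain rfl := hcons i j hi hj hAB hno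
    exact ss'_of_isSemistable n k d _ (hfac i (by omega))
  · intro A hA B hB B' hB' hAB hBB hno hno' ψ ψ' hψ hψ'
    obtain ⟨i, hi, rfl⟩ := (hmemC _).1 hA
    obtain ⟨j, hj, rfl⟩ := (hmemC _).1 hB
    obtain ⟨l, hl, rfl⟩ := (hmemC _).1 hB'
    obtain rfl := hcons i j hi hj hAB hno
    obtain rfl := hcons (i + 1) l hj hl hBB hno'
    have hi' : i < N := by omega
    have hj' : i + 1 < N := by omega
    have gA := hgoodf i hi
    have gB := hgoodf (i + 1) hj
    have gD := hgoodf (i + 1 + 1) hl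
    have hdec := 𝔇.slope_decreasing (hf i hi').1 (hf (i + 1) hj').1
    rw [lt_iff_redLT k _ _ hL hp hE gA gB gD] at hdec
    have s1 := hfac i hi'
    have s2 := hfac (i + 1) hj'
    have d1 := s1.2.2.1 _ (𝟙 _) inferInstance s1.1 s1.2.1
    have d2 := s2.2.2.1 _ (𝟙 _) inferInstance s2.1 s2.2.1
    have hψi := (pn_isHilbPoly_iff n k _ s1.1 d d1.le ψ).2 hψ
    have hψi' := (pn_isHilbPoly_iff n k _ s2.1 d d2.le ψ').2 hψ'
    have e1 : ψ = PP k _ _ (f (i + 1)) - PP k _ _ (f i) :=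
      isHilbPoly_unique k _ _ hψi (isHilbPoly_coker k _ _ hL hp hAB.le gA gB)
    have e2 : ψ' = PP k _ _ (f (i + 1 + 1)) - PP k _ _ (f (i + 1)) :=
      isHilbPoly_unique k _ _ hψi' (isHilbPoly_coker k _ _ hL hp hBB.le gB gD)
    have a1 := alpha_pos_of_dim k _ _ hL _ s1.1 d d1 hψi
    have a2 := alpha_pos_of_dim k _ _ hL _ s2.1 d d2 hψi'
    rw [redLT'_iff a2 a1, e1, e2]
    exact hdec
  · -- uniqueness
    intro C' hC'
    obtain ⟨hbot, htop, hchain, hcoh, hss, hdec⟩ := hC'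
    obtain ⟨N', g, hg0, hgN, hglt, hgmem, hgno, hgsurj⟩ := exists_enum C' hchain hbot htop
    have hgoodg : ∀ i, i ≤ N' → 𝔇.good (g i) := fun i hi => hcoh _ (hgmem i hi)
    have hfacg : ∀ i (hi : i < N'),
        ShStab.IsSemistable k (CohB1.ProjSpace n k) (Twist.twistProjSpace n k 1)
          (cokernel (Subobject.ofLE (g i) (g (i + 1)) (hglt i hi).le)) d := by
      intro i hi
      obtain ⟨h1, h2⟩ := hss (g i) (hgmem i hi.le) (g (i + 1)) (hgmem (i + 1) hi) (hglt i hi)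
        (hgno i hi)
      exact isSemistable_of_ss' n k d _
        (isCoh_coker k _ (hglt i hi).le (hgoodg i hi.le) (hgoodg (i + 1) hi)) h1 h2
    have hsp : ∀ i, i < N' → 𝔇.SSf (g i) (g (i + 1)) ∧ 𝔇.PUf (g i) (g (i + 1)) := fun i hi =>
      ssf_puf_of_isSemistable k _ _ hL hp hE (hgoodg i hi.le) (hgoodg (i + 1) hi)
        (hglt i hi).le (hfacg i hi)
    have hdecg : ∀ i, i + 1 < N' → 𝔇.a (g i) (g (i + 1)) * 𝔇.w (g (i + 1)) (g (i + 1 + 1)) <
        𝔇.a (g (i + 1)) (g (i + 1 + 1)) * 𝔇.w (g i) (g (i + 1)) := by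
      intro i hi
      have hi' : i < N' := by omega
      have gA := hgoodg i hi'.le
      have gB := hgoodg (i + 1) hi.le
      have gD := hgoodg (i + 1 + 1) hi
      rw [lt_iff_redLT k _ _ hL hp hE gA gB gD]
      have s1 := hfacg i hi'
      have s2 := hfacg (i + 1) hi
      have d1 := s1.2.2.1 _ (𝟙 _) inferInstance s1.1 s1.2.1
      have d2 := s2.2.2.1 _ (𝟙 _) inferInstance s2.1 s2.2.1
      have p1 := isHilbPoly_coker k _ _ hL hp (hglt i hi').le gA gB
      have p2 := isHilbPoly_coker k _ _ hL hp (hglt (i + 1) hi).le gB gD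
      have z1 := (pn_isHilbPoly_iff n k _ s1.1 d d1.le _).1 p1
      have z2 := (pn_isHilbPoly_iff n k _ s2.1 d d2.le _).1 p2
      have h3 := hdec (g i) (hgmem i hi'.le) (g (i + 1)) (hgmem (i + 1) hi.le)
        (g (i + 1 + 1)) (hgmem (i + 1 + 1) hi) (hglt i hi') (hglt (i + 1) hi) (hgno i hi')
        (hgno (i + 1) hi) _ _ z1 z2
      have a1 := alpha_pos_of_dim k _ _ hL _ s1.1 d d1 p1
      have a2 := alpha_pos_of_dim k _ _ hL _ s2.1 d d2 p2
      exact (redLT'_iff a2 a1).1 h3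
    have hrel : ∀ j, j < N' → 𝔇.RelMax (g j) (g (j + 1)) := fun j hj =>
      𝔇.relMax_of_chain N' g hgoodg hglt hgN (fun i hi => (hsp i hi).1)
        (fun i hi => (hsp i hi).2) hdecg j hj
    obtain ⟨hNN, heq⟩ := 𝔇.chain_unique N N' f g (hf0.trans hg0.symm) hfN hgN
      (fun i hi => (hf i hi).1) hrel
    subst hNN
    ext D
    rw [hmemC]
    constructor
    · intro hD
      obtain ⟨i, hi, e⟩ := hgsurj D hD
      exact ⟨i, hi, (heq i hi).trans e⟩
    · rintro ⟨i, hi, e⟩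
      rw [← e, heq i hi]
      exact hgmem i hi

end Main

end Groth.Agent.Lead.HZ
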