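import Mathlib

import Groth.Agent.Lib.Lead.HartogsNI
import Groth.Agent.Lib.Helper1.FinLen9
import Groth.Agent.Lib.Helper1.Curve1

set_option backward.isDefEq.respectTransparency.types false
set_option autoImplicit false
universe u
open AlgebraicGeometry CategoryTheory CategoryTheory.Limits Opposite


namespace Groth.Agent.Lead.HartogsPic
open Scheme.Modules

theorem bij_map_congr {T : Scheme.{u}} (L : T.Modules) {A A' B B' : T.Opens} (hA : A' = A)
    (hB : B' = B)
    (h' : B' ≤ A') (h : B ≤ A)
    (hb : Function.Bijective (L.presheaf.map (homOfLE h').op)) :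
    Function.Bijective (L.presheaf.map (homOfLE h).op) := by
  subst hA; subst hB; exact hb

theorem main (T : Scheme.{u}) [IsLocallyNoetherian T]
    (hT : ∀ x : T, IsDomain (T.presheaf.stalk x) ∧ IsIntegrallyClosed (T.presheaf.stalk x))
    (U : T.Opens) (hU : ∀ x : T, x ∉ (U : Set T) → 2 ≤ ringKrullDim (T.presheaf.stalk x))
    (L : T.Modules) (hL : PicF.IsInvertible L) :
    Function.Bijective (L.val.map (homOfLE (le_top (a := U))).op) ∧
      (Nonempty (L.restrict U.ι ≅ Coh.structureModule (U : Scheme.{u})) →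
        Nonempty (L ≅ Coh.structureModule T)) := by
  have hLff : FlatMod.IsFinLocFree L :=
    Groth.Agent.Helper1.FinLen.isFinLocFree_of_rank
      (Groth.Agent.Helper1.Curve.isFinLocFreeOfRank_one hL)
  have hOff : FlatMod.IsFinLocFree (Coh.structureModule T) :=
    Groth.Agent.Helper1.FinLen.isFinLocFree_of_rank
      (Groth.Agent.Helper1.Curve.isFinLocFreeOfRank_one Groth.Agent.Lead.ParaF.isInvertible_unit)
  have hN : Pi1.IsNormalScheme T := hT
  have h : ∀ V : T.Opens, Function.Bijective
      (T.presheaf.map (homOfLE (inf_le_left : V ⊓ U.ι.opensRange ≤ V)).op) := by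
    intro V
    refine Groth.Agent.Lead.HartogsNI.hartogs_bijective' hN inf_le_left ?_
    intro x hxV hx
    refine hU x (fun hxU => hx ⟨hxV, ?_⟩)
    rw [Scheme.Opens.opensRange_ι]
    exact hxU
  refine ⟨?_, ?_⟩
  · have := Groth.Agent.Lead.ParaF.unit_isIso U.ι h L hLff
    have h1 : Function.Bijective (((restrictAdjunction U.ι).unit.app L).app ⊤) :=
      ConcreteCategory.bijective_of_isIso _
    rw [restrictAdjunction_unit_app_app] at h1
    have hB : U.ι ''ᵁ (U.ι ⁻¹ᵁ ⊤) = U := by
      rw [Scheme.Hom.image_preimage_eq_opensRange_inf, Scheme.Opens.opensRange_ι, inf_top_eq]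
    exact bij_map_congr L rfl hB _ _ h1
  · rintro ⟨e⟩
    have hLO := Groth.Agent.Lead.ParaF.restrict_hom_bijective U.ι h L (Coh.structureModule T) hOff
    have hOL := Groth.Agent.Lead.ParaF.restrict_hom_bijective U.ι h (Coh.structureModule T) L hLff
    have hLL := Groth.Agent.Lead.ParaF.restrict_hom_bijective U.ι h L L hLff
    have hOO := Groth.Agent.Lead.ParaF.restrict_hom_bijective U.ι h (Coh.structureModule T)
      (Coh.structureModule T) hOff
    exact Groth.Agent.Lead.ParaF.nonempty_iso_of_bijective (restrictFunctor U.ι) hLO.2 hOL.2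
      hLL.1 hOO.1 (e ≪≫ (restrictUnitIso U.ι).symm)

end Groth.Agent.Lead.HartogsPic
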