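import Mathlib
import Groth.Prelude.Def_W4stk3formalspacesTaut

set_option autoImplicit false
universe u
open Polynomial Filter Topology

namespace Groth.Agent.Lead.Hens

variable {A : Type u} [CommRing A] [UniformSpace A] [IsUniformAddGroup A] [IsTopologicalRing A]

omit [IsUniformAddGroup A] in
theorem nonarch_of_linear [IsLinearTopology A A] : NonarchimedeanAddGroup A where
  is_nonarchimedean := by
    intro U hU
    obtain ⟨J, hJo, hJU⟩ :=
      (IsLinearTopology.hasBasis_open_ideal (R := A)).mem_iff.mp hU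
    exact ⟨⟨J.toAddSubgroup, hJo⟩, hJU⟩

theorem isUnit_one_add_of_topNilp [IsLinearTopology A A] [T2Space A] [CompleteSpace A]
    {x : A} (hx : IsTopologicallyNilpotent x) : IsUnit (1 + x) := by
  have : NonarchimedeanAddGroup A := nonarch_of_linear
  have hnil : IsTopologicallyNilpotent (-x) := by
    have := hx.mul_left (-1)
    rwa [neg_one_mul] at this
  have hsum : Summable ((-x) ^ ·) := by
    apply NonarchimedeanAddGroup.summable_of_tendsto_cofinite_zero
    rw [Nat.cofinite_eq_atTop]
    exact hnil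
  have h := hsum.one_sub_mul_tsum_pow
  rw [sub_neg_eq_add] at h
  exact IsUnit.of_mul_eq_one _ h

theorem le_jacobson_of_weak [IsLinearTopology A A] [T2Space A] [CompleteSpace A]
    {I : Ideal A} (hI : LinTop.IsWeakIdealOfDefinition A I) : I ≤ (⊥ : Ideal A).jacobson := by
  intro x hx
  rw [Ideal.mem_jacobson_bot]
  intro y
  have : x * y ∈ I := I.mul_mem_right y hx
  have h := isUnit_one_add_of_topNilp (hI.2 _ this)
  rwa [add_comm] at h

/-- The algebraic part of Newton's method, relative to the principal ideal generated by `f(a₀)`. -/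
theorem newton_seq {R : Type*} [CommRing R] (I : Ideal R) (hjac : I ≤ (⊥ : Ideal R).jacobson)
    (f : R[X]) (a₀ : R) (h₁ : f.eval a₀ ∈ I)
    (h₂ : IsUnit (Ideal.Quotient.mk I (f.derivative.eval a₀))) :
    ∃ c : ℕ → R, c 0 = a₀ ∧ (∀ n, c n - a₀ ∈ I) ∧
      (∀ n, f.eval (c n) ∈ Ideal.span {f.eval a₀} ^ (n + 1)) ∧
      (∀ n, c (n + 1) - c n ∈ Ideal.span {f.eval a₀} ^ (n + 1)) := by
  classical
  let f' := derivative f
  let J : Ideal R := Ideal.span {f.eval a₀}
  have hJI : J ≤ I := by
    rw [Ideal.span_le]; intro x hx; rw [Set.mem_singleton_iff] at hx; rw [hx]; exact h₁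
  let c : ℕ → R := fun n => Nat.recOn n a₀ fun _ b => b - f.eval b * Ring.inverse (f'.eval b)
  have hc : ∀ n, c (n + 1) = c n - f.eval (c n) * Ring.inverse (f'.eval (c n)) := by
    intro n
    simp only [c]
  have hc_mod : ∀ n, c n ≡ a₀ [SMOD I] := by
    intro n
    induction n with
    | zero => rfl
    | succ n ih => ?_
    rw [hc, sub_eq_add_neg, ← add_zero a₀]
    refine ih.add ?_
    rw [SModEq.zero, Ideal.neg_mem_iff]
    refine I.mul_mem_right _ ?_
    rw [← SModEq.zero] at h₁ ⊢
    exact (ih.eval f).trans h₁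
  have hf'c : ∀ n, IsUnit (f'.eval (c n)) := by
    intro n
    have := isLocalHom_of_le_jacobson_bot I hjac
    apply IsUnit.of_map (Ideal.Quotient.mk I)
    convert! h₂ using 1
    exact SModEq.def.mp ((hc_mod n).eval _)
  have hfcI : ∀ n, f.eval (c n) ∈ J ^ (n + 1) := by
    intro n
    induction n with
    | zero =>
      rw [zero_add, pow_one]
      exact Ideal.subset_span rfl
    | succ n ih => ?_
    rw [← taylor_eval_sub (c n), hc, sub_eq_add_neg, sub_eq_add_neg,
      add_neg_cancel_comm]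
    rw [eval_eq_sum, sum_over_range' _ _ _ (lt_add_of_pos_right _ zero_lt_two), ←
      Finset.sum_range_add_sum_Ico _ (Nat.le_add_left _ _)]
    swap
    · intro i
      rw [zero_mul]
    refine Ideal.add_mem _ ?_ ?_
    · rw [← one_add_one_eq_two, Finset.sum_range_succ, Finset.range_one, Finset.sum_singleton,
        taylor_coeff_zero, taylor_coeff_one, pow_zero, pow_one, mul_one, mul_neg,
        mul_left_comm, Ring.mul_inverse_cancel _ (hf'c n), mul_one, add_neg_cancel]
      exact Ideal.zero_mem _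
    · refine Submodule.sum_mem _ ?_
      simp only [Finset.mem_Ico]
      rintro i ⟨h2i, _⟩
      have aux : n + 2 ≤ i * (n + 1) := by trans 2 * (n + 1) <;> nlinarith only [h2i]
      refine Ideal.mul_mem_left _ _ (Ideal.pow_le_pow_right aux ?_)
      rw [pow_mul']
      exact Ideal.pow_mem_pow ((Ideal.neg_mem_iff _).2 <| Ideal.mul_mem_right _ _ ih) _
  refine ⟨c, rfl, ?_, hfcI, ?_⟩
  · intro n
    exact SModEq.sub_mem.mp (hc_mod n)
  · intro n
    rw [hc, sub_sub_cancel_left, Ideal.neg_mem_iff]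
    exact Ideal.mul_mem_right _ _ (hfcI n)

omit [UniformSpace A] [IsUniformAddGroup A] in
/-- sequences lying in growing powers of the ideal generated by a topologically nilpotent element
tend to zero -/
theorem tendsto_zero_of_mem_span_pow [TopologicalSpace A] [IsTopologicalRing A]
    [IsLinearTopology A A] {t : A}
    (ht : IsTopologicallyNilpotent t) (d : ℕ → A)
    (hd : ∀ n, d n ∈ Ideal.span {t} ^ (n + 1)) : Tendsto d atTop (𝓝 0) := by
  rw [(IsLinearTopology.hasBasis_open_ideal (R := A)).tendsto_right_iff]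
  intro U hU
  have hUn : (U : Set A) ∈ 𝓝 (0 : A) := hU.mem_nhds U.zero_mem
  have h1 : ∀ᶠ n in atTop, t ^ n ∈ (U : Set A) := ht hUn
  obtain ⟨N, hN⟩ := eventually_atTop.mp h1
  rw [eventually_atTop]
  refine ⟨N, fun n hn => ?_⟩
  have h2 : Ideal.span {t} ^ (n + 1) ≤ U := by
    rw [Ideal.span_singleton_pow, Ideal.span_le]
    intro x hx
    rw [Set.mem_singleton_iff] at hx
    rw [hx]
    exact hN (n + 1) (by omega)
  exact h2 (hd n)

theorem henselian_of_weak (hA : LinTop.IsWeaklyAdmissible A) (I : Ideal A)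
    (hI : LinTop.IsWeakIdealOfDefinition A I) : HenselianRing A I := by
  obtain ⟨⟨hlin, -⟩, hT2, hC⟩ := hA
  haveI := hlin
  haveI := hT2
  haveI := hC
  haveI : NonarchimedeanAddGroup A := nonarch_of_linear
  have hjac := le_jacobson_of_weak hI
  refine ⟨hjac, ?_⟩
  intro f _ a₀ h₁ h₂
  obtain ⟨c, hc0, hcI, hfc, hdc⟩ := newton_seq I hjac f a₀ h₁ h₂
  have ht : IsTopologicallyNilpotent (f.eval a₀) := hI.2 _ h₁
  have hd0 : Tendsto (fun n => c (n + 1) - c n) atTop (𝓝 0) :=
    tendsto_zero_of_mem_span_pow ht _ hdc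
  have hsum : Summable (fun n => c (n + 1) - c n) := by
    apply NonarchimedeanAddGroup.summable_of_tendsto_cofinite_zero
    rw [Nat.cofinite_eq_atTop]
    exact hd0
  have hlim : Tendsto c atTop (𝓝 (c 0 + ∑' n, (c (n + 1) - c n))) := by
    have h1 := hsum.hasSum.tendsto_sum_nat
    have h2 : (fun n => ∑ i ∈ Finset.range n, (c (i + 1) - c i)) = fun n => c n - c 0 := by
      funext n
      exact Finset.sum_range_sub c n
    rw [h2] at h1
    have h3 := (tendsto_const_nhds (x := c 0)).add h1
    simpa using h3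
  obtain ⟨a, ha⟩ : ∃ a, Tendsto c atTop (𝓝 a) := ⟨_, hlim⟩
  refine ⟨a, ?_, ?_⟩
  · show f.eval a = 0
    have h1 : Tendsto (fun n => f.eval (c n)) atTop (𝓝 (f.eval a)) :=
      (f.continuous.tendsto a).comp ha
    have h2 : Tendsto (fun n => f.eval (c n)) atTop (𝓝 0) :=
      tendsto_zero_of_mem_span_pow ht _ hfc
    exact tendsto_nhds_unique h1 h2
  · have hclosed : IsClosed (I : Set A) :=
      AddSubgroup.isClosed_of_isOpen I.toAddSubgroup hI.1
    have h1 : Tendsto (fun n => c n - a₀) atTop (𝓝 (a - a₀)) := ha.sub tendsto_const_nhds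
    exact hclosed.mem_of_tendsto h1 (Eventually.of_forall hcI)

end Groth.Agent.Lead.Hens
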