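import Mathlib
import Groth.Agent.Lib.Lead.Higgs1

/-!
# Stable Higgs-type pairs of rank two on a genus one curve (lead)
-/

set_option autoImplicit false
set_option backward.isDefEq.respectTransparency.types false
set_option synthInstance.maxHeartbeats 400000
set_option linter.style.haveILetI false
set_option linter.unusedSectionVars false
set_option linter.unusedVariables false
universe u
open CategoryTheory CategoryTheory.Limits AlgebraicGeometry TopologicalSpace Opposite

namespace Groth.Agent.Lead.Higgs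

open Groth.Agent.Helper1.QcCech Groth.Agent.Helper1.SubSh Groth.Agent.Helper1.LGen
open Groth.Agent.Helper1.TmulLib Groth.Agent.Helper1 Groth.Agent.Helper1.TwForm
open Groth.Agent.Helper1.TensGen Groth.Agent.Lib.Helper4.TwExact Groth.Agent.Helper1.Dv
open Groth.Agent.Lib.Helper4 Groth.Agent.Helper1.CurveAmp Groth.Agent.Helper1.FinSupp
open Groth.Agent.Helper1.Euler Groth.Agent.Helper1.Curve Groth.Agent.Helper1.CurveLin
open Groth.Agent.Helper1.CurveDual Groth.Agent.Lead.HN Groth.Agent.Lead.VBL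
open Groth.Agent.Helper1.CurvePt Groth.Agent.Helper1.PtInv Groth.Agent.Helper1.ProjF

section G1

variable (k : Type u) [Field k] [IsAlgClosed k] (X : Scheme.{u}) [X.Over (Spec (CommRingCat.of k))]
  [IsIntegral X] [IsProper (X ↘ Spec (CommRingCat.of k))]

/-- on a genus one curve, a nontrivial invertible module of degree zero has no cohomology -/
theorem h1_subsingleton_of_deg_zero_nontrivial (hdim : topologicalKrullDim X = 1)
    (hg : Curv2.genus k X = 1) {M : X.Modules} (hM : PicF.IsInvertible M)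
    (hd : Curv2.deg k X M 1 = 0) (hnt : ¬ Nonempty (M ≅ Coh.structureModule X)) :
    Subsingleton (Coh.HH X M 1) := by
  haveI := isNoetherian_of_proper k X
  have hMc : Coh.IsCoh M := InvQc.isCoh_of_isInvertible _ hM
  have h0 : Subsingleton (Coh.HH X M 0) := by
    by_contra hns
    rw [not_subsingleton_iff_nontrivial] at hns
    obtain ⟨x, hx⟩ := exists_ne (0 : Coh.HH X M 0)
    have hσ : HH0.equiv X M x ≠ 0 := fun h0 =>
      hx ((HH0.equiv X M).injective (h0.trans (map_zero _).symm))
    have hs := CV.homOfSec_ne_zero M _ hσ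
    exact hnt (iso_of_deg_nonpos_of_section k X hdim hM _ hs hd.le)
  have e := CV.deg_eq_h0_sub_h1 k X hdim hM
  rw [hd, finrank_HH_zero_eq_one_of_isAlgClosed k X, hg, Module.finrank_zero_of_subsingleton] at e
  haveI : Module.Finite k (Coh.HH X M 1) := T2Main1.t2 k X _ hMc 1
  have h1 : Module.finrank k (Coh.HH X M 1) = 0 := by
    push_cast at e
    omega
  exact Module.finrank_zero_iff.1 h1

/-- S16006: on a genus one curve, a stable rank two pair with `deg L = 0`, `L ⊗ L ≇ O` has stable
underlying bundle -/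
theorem stable_of_pair_genus_one (hdim : topologicalKrullDim X = 1)
    (hX : ∀ x : X, ValuationRing (X.presheaf.stalk x)) (hg : Curv2.genus k X = 1)
    {L : X.Modules} (hL : PicF.IsInvertible L) (hL0 : Curv2.deg k X L 1 = 0)
    (hL2 : ¬ Nonempty (CohB1.tensorMod L L ≅ Coh.structureModule X))
    (E : X.Modules) (hE : FlatMod.IsFinLocFreeOfRank 2 E) (φ : E ⟶ (tensR L).obj E)
    (hst : ∀ (G : X.Modules) (n : ℕ) (j : G ⟶ E) (χ : G ⟶ (tensR L).obj G), Mono j → 0 < n → n < 2 →
      FlatMod.IsFinLocFreeOfRank n G → χ ≫ (tensR L).map j = j ≫ φ →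
      Curv2.deg k X G n * (2 : ℤ) < Curv2.deg k X E 2 * (n : ℤ)) :
    ∀ (G : X.Modules) (n : ℕ) (j : G ⟶ E), Mono j → 0 < n → n < 2 → FlatMod.IsFinLocFreeOfRank n G →
      Curv2.deg k X G n * (2 : ℤ) < Curv2.deg k X E 2 * (n : ℤ) := by
  intro G n j hj hn hn2 hG
  obtain rfl : n = 1 := by omega
  haveI := hj
  by_contra hnot
  rw [not_lt] at hnot
  obtain ⟨B', m, hB', hle, hBf, hm, hrk, heu, hle_eu, -⟩ := exists_sat_quot k X hdim hX hE j hG
  obtain rfl : m = 1 := by omega
  have hNinv : PicF.IsInvertible (B' : X.Modules) := isInvertible_of_rank_one X hBf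
  have hQinv : PicF.IsInvertible (cokernel B'.arrow) := isInvertible_of_rank_one X hm
  have hdGN : Curv2.deg k X G 1 ≤ Curv2.deg k X (B' : X.Modules) 1 := by
    unfold Curv2.deg
    linarith
  let S : ShortComplex X.Modules :=
    ShortComplex.mk B'.arrow (cokernel.π B'.arrow) (cokernel.condition _)
  have hS : S.ShortExact :=
    { exact := ShortComplex.exact_cokernel B'.arrow
      mono_f := inferInstanceAs (Mono B'.arrow)
      epi_g := inferInstanceAs (Epi (cokernel.π B'.arrow)) }
  have hadd := deg_additive k X S hS 1 2 1 hBf hE hm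
  change Curv2.deg k X E 2 = Curv2.deg k X (B' : X.Modules) 1 +
    Curv2.deg k X (cokernel B'.arrow) 1 at hadd
  have hNQ : Curv2.deg k X (cokernel B'.arrow) 1 ≤ Curv2.deg k X (B' : X.Modules) 1 := by
    push_cast at hnot
    linarith
  have hSL := shortExact_map_tensR
    (hasBases_of_isFinLocFree (FinLen.isFinLocFree_of_rank (isFinLocFreeOfRank_one hL))) S hS
  haveI := hSL.mono_f
  obtain ⟨c, hcdef⟩ : ∃ c : (B' : X.Modules) ⟶ CohB1.tensorMod (cokernel B'.arrow) L,
      c = (B'.arrow ≫ φ) ≫ (tensR L).map (cokernel.π B'.arrow) := ⟨_, rfl⟩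
  have hQL : PicF.IsInvertible (CohB1.tensorMod (cokernel B'.arrow) L) :=
    isInvertible_tensorMod hQinv hL
  have hdQL : Curv2.deg k X (CohB1.tensorMod (cokernel B'.arrow) L) 1 =
      Curv2.deg k X (cokernel B'.arrow) 1 := by
    rw [CV.deg_twist k X hdim hm hL, hL0]
    simp
  by_cases hc : c = 0
  · have hc' : (B'.arrow ≫ φ) ≫ (tensR L).map (cokernel.π B'.arrow) = 0 := hcdef ▸ hc
    have hχf : hSL.exact.lift _ hc' ≫ (tensR L).map B'.arrow = B'.arrow ≫ φ :=
      hSL.exact.lift_f _ hc'
    have := hst _ 1 B'.arrow (hSL.exact.lift _ hc') inferInstance one_pos one_lt_two hBf hχf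
    push_cast at this hnot
    linarith
  · obtain ⟨hle1, hiso⟩ := deg_le_of_hom k X hdim hNinv hQL c hc
    rw [hdQL] at hle1 hiso
    have hNQeq : Curv2.deg k X (B' : X.Modules) 1 = Curv2.deg k X (cokernel B'.arrow) 1 :=
      le_antisymm hle1 hNQ
    haveI hcI : IsIso c := hiso hNQeq
    obtain ⟨Q', hQ', ⟨e⟩⟩ := InvInv2.exists_inverse hQinv
    let e' : CohB1.tensorMod (cokernel B'.arrow) Q' ≅ Coh.structureModule X :=
      TildeTens.tensorModComm (cokernel B'.arrow) Q' ≪≫ e
    -- `L ≇ O`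
    have hLnt : ¬ Nonempty (L ≅ Coh.structureModule X) := by
      rintro ⟨u⟩
      obtain ⟨w⟩ := TwistAmpleOpen.nonempty_tensorMod_unit_iso L
      exact hL2 ⟨(TL L).mapIso u ≪≫ w ≪≫ u⟩
    have h1L := h1_subsingleton_of_deg_zero_nontrivial k X hdim hg hL hL0 hLnt
    -- `N ⊗ Q' ≅ L`
    have iso1 : CohB1.tensorMod (B' : X.Modules) Q' ≅ L :=
      (TL Q').mapIso (asIso c) ≪≫
        (TL Q').mapIso (TildeTens.tensorModComm (cokernel B'.arrow) L) ≪≫
        TwNat.untw hQinv hQ' e' L
    have h1 : Subsingleton (Coh.HH X (CohB1.tensorMod S.X₁ Q') 1) :=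
      (HHFin1.HHequiv k iso1 1).toEquiv.subsingleton
    have hsplit := CV.isSplitEpi_of_h1 k X hS hQinv hQ' e h1
    haveI : IsSplitEpi (cokernel.π B'.arrow) := hsplit
    have hσ : section_ (cokernel.π B'.arrow) ≫ S.g = 𝟙 S.X₃ := IsSplitEpi.id (cokernel.π B'.arrow)
    let sp := ShortComplex.Splitting.ofExactOfSection S hS.exact (section_ (cokernel.π B'.arrow)) hσ
      hS.mono_f
    have hid : (tensR L).map sp.r ≫ (tensR L).map S.f + (tensR L).map S.g ≫ (tensR L).map sp.s =
        𝟙 _ := by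
      rw [← CategoryTheory.Functor.map_comp, ← CategoryTheory.Functor.map_comp,
        ← Functor.map_add, sp.id, CategoryTheory.Functor.map_id]
    haveI hσm : Mono sp.s := mono_of_mono_fac sp.s_g
    obtain ⟨c', hc'def⟩ : ∃ c' : cokernel B'.arrow ⟶ CohB1.tensorMod (B' : X.Modules) L,
        c' = (sp.s ≫ φ) ≫ (tensR L).map sp.r := ⟨_, rfl⟩
    by_cases hc' : c' = 0
    · have hχ : ((sp.s ≫ φ) ≫ (tensR L).map S.g) ≫ (tensR L).map sp.s = sp.s ≫ φ := by
        have h2 : (tensR L).map S.g ≫ (tensR L).map sp.s =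
            𝟙 _ - (tensR L).map sp.r ≫ (tensR L).map S.f := eq_sub_of_add_eq' hid
        rw [Category.assoc, h2, Preadditive.comp_sub, Category.comp_id, ← Category.assoc,
          ← hc'def, hc']
        have hz : (0 : S.X₃ ⟶ (tensR L).obj S.X₁) ≫ (tensR L).map S.f = 0 := zero_comp
        exact (congrArg (fun z => sp.s ≫ φ - z) hz).trans (sub_zero _)
      have := hst _ 1 sp.s ((sp.s ≫ φ) ≫ (tensR L).map S.g) hσm one_pos one_lt_two hm hχ
      change Curv2.deg k X (cokernel B'.arrow) 1 * (2 : ℤ) < _ at this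
      push_cast at this
      linarith
    · have hNL : PicF.IsInvertible (CohB1.tensorMod (B' : X.Modules) L) :=
        isInvertible_tensorMod hNinv hL
      have hdNL : Curv2.deg k X (CohB1.tensorMod (B' : X.Modules) L) 1 =
          Curv2.deg k X (B' : X.Modules) 1 := by
        rw [CV.deg_twist k X hdim hBf hL, hL0]
        simp
      obtain ⟨-, hiso'⟩ := deg_le_of_hom k X hdim hQinv hNL c' hc'
      rw [hdNL] at hiso'
      haveI : IsIso c' := hiso' hNQeq.symm
      apply hL2
      have w : (TL L).obj (B' : X.Modules) ≅ (TL L).obj (CohB1.tensorMod (cokernel B'.arrow) L) :=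
        (TL L).mapIso (asIso c)
      have v : cokernel B'.arrow ≅ (TL L).obj (CohB1.tensorMod (cokernel B'.arrow) L) :=
        Iso.trans (asIso c') w
      have a0 : (TL L).obj (CohB1.tensorMod (cokernel B'.arrow) L) ≅
          CohB1.tensorMod (cokernel B'.arrow) (CohB1.tensorMod L L) :=
        GenusOne.assocIso (cokernel B'.arrow) hL hL
      have a1 : CohB1.tensorMod (cokernel B'.arrow) (CohB1.tensorMod L L) ≅
          (TL (cokernel B'.arrow)).obj (CohB1.tensorMod L L) :=
        TildeTens.tensorModComm (cokernel B'.arrow) (CohB1.tensorMod L L)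
      have a2 : (TL Q').obj (cokernel B'.arrow) ≅
          (TL Q').obj ((TL (cokernel B'.arrow)).obj (CohB1.tensorMod L L)) :=
        (TL Q').mapIso (v ≪≫ a0 ≪≫ a1)
      have a3 : (TL Q').obj (cokernel B'.arrow) ≅ Coh.structureModule X := e'
      exact ⟨(TwNat.untw hQinv hQ' e' (CohB1.tensorMod L L)).symm ≪≫ a2.symm ≪≫ a3⟩

end G1

end Groth.Agent.Lead.Higgs
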