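import Mathlib
import Groth.Agent.Lib.Lead.Higgs1

/-!
# Quotients of semistable Higgs-type pairs by invariant subbundles of the same slope (lead)
-/

set_option autoImplicit false
set_option backward.isDefEq.respectTransparency.types false
set_option synthInstance.maxHeartbeats 400000
set_option linter.style.haveILetI false
set_option linter.unusedSectionVars false
set_option linter.unusedVariables false
universe u
open CategoryTheory CategoryTheory.Limits AlgebraicGeometry TopologicalSpace Opposite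

namespace Groth.Agent.Lead.Higgs

open Groth.Agent.Helper1.QcCech Groth.Agent.Helper1.SubSh Groth.Agent.Helper1.LGen
open Groth.Agent.Helper1.TmulLib Groth.Agent.Helper1 Groth.Agent.Helper1.TwForm
open Groth.Agent.Helper1.TensGen Groth.Agent.Lib.Helper4.TwExact Groth.Agent.Helper1.Dv
open Groth.Agent.Lib.Helper4 Groth.Agent.Helper1.CurveAmp Groth.Agent.Helper1.FinSupp
open Groth.Agent.Helper1.Euler Groth.Agent.Helper1.Curve Groth.Agent.Helper1.CurveLin
open Groth.Agent.Helper1.CurveDual Groth.Agent.Lead.HN Groth.Agent.Lead.VBL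
open Groth.Agent.Helper1.CurvePt Groth.Agent.Helper1.PtInv Groth.Agent.Helper1.ProjF

section Quot

variable (k : Type u) [Field k] (X : Scheme.{u}) [X.Over (Spec (CommRingCat.of k))]
  [IsIntegral X] [IsProper (X ↘ Spec (CommRingCat.of k))]

/-- an invariant subbundle of a semistable pair with the same slope has locally free cokernel -/
theorem coker_locFree_of_invariant_slope_eq (hdim : topologicalKrullDim X = 1)
    (hX : ∀ x : X, ValuationRing (X.presheaf.stalk x)) {L : X.Modules} (hL : PicF.IsInvertible L)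
    (r : ℕ) (hr : 0 < r) (E : X.Modules) (hE : FlatMod.IsFinLocFreeOfRank r E)
    (φ : E ⟶ (tensR L).obj E)
    (hss : ∀ (G : X.Modules) (s : ℕ) (j : G ⟶ E) (ψ : G ⟶ (tensR L).obj G), Mono j → 0 < s →
      FlatMod.IsFinLocFreeOfRank s G → ψ ≫ (tensR L).map j = j ≫ φ →
      Curv2.deg k X G s * (r : ℤ) ≤ Curv2.deg k X E r * (s : ℤ))
    (F : X.Modules) (r' : ℕ) (hr' : 0 < r') (hF : FlatMod.IsFinLocFreeOfRank r' F)
    (i : F ⟶ E) [Mono i] (ψF : F ⟶ (tensR L).obj F) (hψF : ψF ≫ (tensR L).map i = i ≫ φ)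
    (hslope : Curv2.deg k X F r' * (r : ℤ) = Curv2.deg k X E r * (r' : ℤ)) :
    ∃ n : ℕ, FlatMod.IsFinLocFreeOfRank n (cokernel i) ∧ r = r' + n := by
  have hB := hasBases_of_isFinLocFree (FinLen.isFinLocFree_of_rank (isFinLocFreeOfRank_one hL))
  obtain ⟨B', n, hB', hle, hBf, hn, hrk, heu, hle_eu, heq⟩ := exists_sat_quot k X hdim hX hE i hF
  have hS' : (ShortComplex.mk B'.arrow (cokernel.π B'.arrow) (cokernel.condition _)).ShortExact :=
    { exact := ShortComplex.exact_cokernel B'.arrow
      mono_f := inferInstanceAs (Mono B'.arrow)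
      epi_g := inferInstanceAs (Epi (cokernel.π B'.arrow)) }
  have hS'L := shortExact_map_tensR hB _ hS'
  haveI := hS'L.mono_f
  have hnL : FlatMod.IsFinLocFreeOfRank n (CohB1.tensorMod (cokernel B'.arrow) L) :=
    VBQ.isFinLocFreeOfRank_tensor_invertible hn hL
  have hι : Subobject.ofMkLE i B' hle ≫ B'.arrow = i := Subobject.ofMkLE_arrow hle
  have hiπ : i ≫ cokernel.π B'.arrow = 0 := by
    rw [← hι, Category.assoc, cokernel.condition, comp_zero]
  have hc : (B'.arrow ≫ φ) ≫ (tensR L).map (cokernel.π B'.arrow) = 0 := by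
    by_contra hne
    obtain ⟨c, hcdef⟩ : ∃ c : (B' : X.Modules) ⟶ CohB1.tensorMod (cokernel B'.arrow) L,
        c = (B'.arrow ≫ φ) ≫ (tensR L).map (cokernel.π B'.arrow) := ⟨_, rfl⟩
    rw [← hcdef] at hne
    obtain ⟨rK, rI, hK, hI, hrk', hIs, hdeg, hpos⟩ := VB.ker_im k X hX hBf hnL c
    have hrI := hpos hne
    have hz0 : Subobject.ofMkLE i B' hle ≫
        ((B'.arrow ≫ φ) ≫ (tensR L).map (cokernel.π B'.arrow)) = 0 := by
      rw [← Category.assoc, ← Category.assoc, hι, ← hψF, Category.assoc,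
        ← CategoryTheory.Functor.map_comp, hiπ, Functor.map_zero, comp_zero]
    have hzero : Subobject.ofMkLE i B' hle ≫ c = 0 := by
      rw [hcdef]
      exact hz0
    haveI : Mono (Subobject.ofMkLE i B' hle) := mono_of_mono_fac hι
    haveI : Mono (kernel.lift c _ hzero) := mono_of_mono_fac (kernel.lift_ι c _ hzero)
    have := Curve.rank_le_of_mono (genericPoint X) hF hK (kernel.lift c _ hzero)
    omega
  have hχf : hS'L.exact.lift _ hc ≫ (tensR L).map B'.arrow = B'.arrow ≫ φ := hS'L.exact.lift_f _ hc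
  have h1 := hss (B' : X.Modules) r' B'.arrow (hS'L.exact.lift _ hc) inferInstance hr' hBf hχf
  have hr0 : (0 : ℤ) < r := by exact_mod_cast hr
  have h2 : Curv2.deg k X (B' : X.Modules) r' ≤ Curv2.deg k X F r' := by
    rw [← hslope] at h1
    exact le_of_mul_le_mul_right h1 hr0
  have h3 : Curv2.euler k X (B' : X.Modules) ≤ Curv2.euler k X F := by
    unfold Curv2.deg at h2
    linarith
  have hB'eq := heq (le_antisymm hle_eu h3)
  subst hB'eq
  exact ⟨n, isFinLocFreeOfRank_of_iso (cokernel.mapIso _ _ (Subobject.underlyingIso i) (Iso.refl E)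
    (by simp)) hn, hrk⟩

/-- the quotient of a semistable pair by an invariant subbundle of the same slope is a semistable
pair -/
theorem semistable_quotient_pair (hdim : topologicalKrullDim X = 1)
    (hX : ∀ x : X, ValuationRing (X.presheaf.stalk x)) {L : X.Modules} (hL : PicF.IsInvertible L)
    (r : ℕ) (hr : 0 < r) (E : X.Modules) (hE : FlatMod.IsFinLocFreeOfRank r E)
    (φ : E ⟶ (tensR L).obj E)
    (hss : ∀ (G : X.Modules) (s : ℕ) (j : G ⟶ E) (ψ : G ⟶ (tensR L).obj G), Mono j → 0 < s →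
      FlatMod.IsFinLocFreeOfRank s G → ψ ≫ (tensR L).map j = j ≫ φ →
      Curv2.deg k X G s * (r : ℤ) ≤ Curv2.deg k X E r * (s : ℤ))
    (F : X.Modules) (r' : ℕ) (hr' : 0 < r') (hF : FlatMod.IsFinLocFreeOfRank r' F)
    (i : F ⟶ E) [Mono i]
    (hslope : Curv2.deg k X F r' * (r : ℤ) = Curv2.deg k X E r * (r' : ℤ))
    (n : ℕ) (hC : FlatMod.IsFinLocFreeOfRank n (cokernel i)) (hrn : r = r' + n)
    (φ' : cokernel i ⟶ (tensR L).obj (cokernel i))
    (hφ' : cokernel.π i ≫ φ' = φ ≫ (tensR L).map (cokernel.π i))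
    (G : X.Modules) (s : ℕ) (j : G ⟶ cokernel i) (ψ : G ⟶ (tensR L).obj G) (hj : Mono j) (hs : 0 < s)
    (hG : FlatMod.IsFinLocFreeOfRank s G) (hψ : ψ ≫ (tensR L).map j = j ≫ φ') :
    Curv2.deg k X G s * (n : ℤ) ≤ Curv2.deg k X (cokernel i) n * (s : ℤ) := by
  haveI := hj
  have hB := hasBases_of_isFinLocFree (FinLen.isFinLocFree_of_rank (isFinLocFreeOfRank_one hL))
  have hEc : Coh.IsCoh E := isCoh_of_rank X hE
  have hFc : Coh.IsCoh F := isCoh_of_rank X hF
  have hCc : Coh.IsCoh (cokernel i) := isCoh_of_rank X hC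
  have hGc : Coh.IsCoh G := isCoh_of_rank X hG
  haveI : E.IsQuasicoherent := hEc.1
  haveI : (cokernel i).IsQuasicoherent := hCc.1
  haveI : G.IsQuasicoherent := hGc.1
  haveI : (cokernel j).IsQuasicoherent := QcAbel.isQuasicoherent_cokernel j
  haveI hπje : Epi (cokernel.π j) := inferInstance
  have hQc : Coh.IsCoh (cokernel j) := LimTopInj.isCoh_of_epi (cokernel.π j) hCc
  -- the three short exact sequences
  have hS : (ShortComplex.mk i (cokernel.π i) (cokernel.condition i)).ShortExact :=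
    { exact := ShortComplex.exact_cokernel i
      mono_f := inferInstanceAs (Mono i)
      epi_g := inferInstanceAs (Epi (cokernel.π i)) }
  have hU : (ShortComplex.mk j (cokernel.π j) (cokernel.condition j)).ShortExact :=
    { exact := ShortComplex.exact_cokernel j
      mono_f := hj
      epi_g := inferInstanceAs (Epi (cokernel.π j)) }
  obtain ⟨ρ, hρdef⟩ : ∃ ρ : E ⟶ cokernel j, ρ = cokernel.π i ≫ cokernel.π j := ⟨_, rfl⟩
  haveI hρe : Epi ρ := by
    rw [hρdef]
    exact epi_comp _ _
  have hT : (ShortComplex.mk (kernel.ι ρ) ρ (kernel.condition ρ)).ShortExact :=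
    { exact := ShortComplex.exact_of_f_is_kernel _ (kernelIsKernel ρ)
      mono_f := inferInstanceAs (Mono (kernel.ι ρ))
      epi_g := hρe }
  have hTL := shortExact_map_tensR hB _ hT
  haveI := hTL.mono_f
  haveI : (kernel ρ).IsQuasicoherent := QcAbel.isQuasicoherent_kernel ρ
  obtain ⟨m, hm, -⟩ := VB.sub_locFree k X hX hE (kernel.ι ρ)
  have hKc : Coh.IsCoh (kernel ρ) := isCoh_of_rank X hm
  -- ranks
  have g1 := grk_add _ hT hKc hQc
  have g2 := grk_add _ hU hGc hQc
  change grk E = grk (kernel ρ) + grk (cokernel j) at g1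
  change grk (cokernel i) = grk G + grk (cokernel j) at g2
  rw [grk_of_rank hE, grk_of_rank hm] at g1
  rw [grk_of_rank hC, grk_of_rank hG] at g2
  have hms : m = r' + s := by omega
  -- Euler characteristics
  have e1 := euler_additive k X _ hT hKc hEc hQc
  have e2 := euler_additive k X _ hU hGc hCc hQc
  have e3 := euler_additive k X _ hS hFc hEc hCc
  change Curv2.euler k X E = Curv2.euler k X (kernel ρ) + Curv2.euler k X (cokernel j) at e1
  change Curv2.euler k X (cokernel i) = Curv2.euler k X G + Curv2.euler k X (cokernel j) at e2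
  change Curv2.euler k X E = Curv2.euler k X F + Curv2.euler k X (cokernel i) at e3
  have hb : Curv2.deg k X E r = Curv2.deg k X F r' + Curv2.deg k X (cokernel i) n := by
    unfold Curv2.deg
    rw [hrn]
    push_cast
    linarith
  have ht : Curv2.deg k X (kernel ρ) m = Curv2.deg k X F r' + Curv2.deg k X G s := by
    unfold Curv2.deg
    rw [hms]
    push_cast
    linarith
  -- invariance of the preimage
  haveI := hU.mono_f
  have hlift : (kernel.ι ρ ≫ cokernel.π i) ≫ cokernel.π j = 0 := by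
    rw [Category.assoc, ← hρdef]
    exact kernel.condition ρ
  have hg : hU.exact.lift _ hlift ≫ j = kernel.ι ρ ≫ cokernel.π i := hU.exact.lift_f _ hlift
  have hz : (kernel.ι ρ ≫ φ) ≫ (tensR L).map ρ = 0 := by
    have a1 : (kernel.ι ρ ≫ φ) ≫ (tensR L).map ρ =
        kernel.ι ρ ≫ (φ ≫ (tensR L).map (cokernel.π i)) ≫ (tensR L).map (cokernel.π j) := by
      rw [hρdef, CategoryTheory.Functor.map_comp]
      simp only [Category.assoc]
    have a2 : kernel.ι ρ ≫ (cokernel.π i ≫ φ') ≫ (tensR L).map (cokernel.π j) =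
        hU.exact.lift _ hlift ≫ (j ≫ φ') ≫ (tensR L).map (cokernel.π j) := by
      have := congrArg (fun z => z ≫ φ' ≫ (tensR L).map (cokernel.π j)) hg.symm
      simpa only [Category.assoc] using this
    rw [a1, ← hφ', a2, ← hψ, Category.assoc, ← CategoryTheory.Functor.map_comp, cokernel.condition,
      Functor.map_zero, comp_zero, comp_zero]
  have hχ : hTL.exact.lift _ hz ≫ (tensR L).map (kernel.ι ρ) = kernel.ι ρ ≫ φ :=
    hTL.exact.lift_f _ hz
  have h1 := hss (kernel ρ) m (kernel.ι ρ) (hTL.exact.lift _ hz) inferInstance (by omega) hm hχ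
  -- arithmetic
  rw [ht, hms] at h1
  push_cast at h1
  have hr0 : (0 : ℤ) < r := by exact_mod_cast hr
  have hn0 : (0 : ℤ) ≤ n := by positivity
  have hrn' : (r : ℤ) = r' + n := by exact_mod_cast hrn
  have h6 : Curv2.deg k X G s * (r : ℤ) ≤ Curv2.deg k X E r * (s : ℤ) := by
    have x1 : (Curv2.deg k X F r' + Curv2.deg k X G s) * (r : ℤ) =
        Curv2.deg k X F r' * (r : ℤ) + Curv2.deg k X G s * (r : ℤ) := by ring
    have x2 : Curv2.deg k X E r * ((r' : ℤ) + (s : ℤ)) =
        Curv2.deg k X E r * (r' : ℤ) + Curv2.deg k X E r * (s : ℤ) := by ring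
    rw [x1, x2] at h1
    linarith
  have h7 : Curv2.deg k X (cokernel i) n * (r : ℤ) = Curv2.deg k X E r * (n : ℤ) := by
    linear_combination (-(r : ℤ)) * hb - hslope + Curv2.deg k X E r * hrn'
  have h8 : (Curv2.deg k X G s * (n : ℤ)) * (r : ℤ) ≤ (Curv2.deg k X (cokernel i) n * (s : ℤ)) * (r : ℤ) := by
    have y1 := mul_le_mul_of_nonneg_right h6 hn0
    have y2 : (Curv2.deg k X (cokernel i) n * (s : ℤ)) * (r : ℤ) =
        (Curv2.deg k X (cokernel i) n * (r : ℤ)) * (s : ℤ) := by ring
    rw [y2, h7]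
    linarith
  exact le_of_mul_le_mul_right h8 hr0

end Quot

end Groth.Agent.Lead.Higgs
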