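import Mathlib
import Groth.Agent.Lib.Lead.Higgs3

/-!
# Maximal invariant subbundles of Higgs-type pairs and commuting endomorphisms (lead)
-/

set_option autoImplicit false
set_option backward.isDefEq.respectTransparency.types false
set_option synthInstance.maxHeartbeats 400000
set_option linter.style.haveILetI false
set_option linter.unusedSectionVars false
set_option linter.unusedVariables false
universe u
open CategoryTheory CategoryTheory.Limits AlgebraicGeometry TopologicalSpace Opposite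

namespace Groth.Agent.Lead.Higgs

open Groth.Agent.Helper1.QcCech Groth.Agent.Helper1.SubSh Groth.Agent.Helper1.LGen
open Groth.Agent.Helper1.TmulLib Groth.Agent.Helper1 Groth.Agent.Helper1.TwForm
open Groth.Agent.Helper1.TensGen Groth.Agent.Lib.Helper4.TwExact Groth.Agent.Helper1.Dv
open Groth.Agent.Lib.Helper4 Groth.Agent.Helper1.CurveAmp Groth.Agent.Helper1.FinSupp
open Groth.Agent.Helper1.Euler Groth.Agent.Helper1.Curve Groth.Agent.Helper1.CurveLin
open Groth.Agent.Helper1.CurveDual Groth.Agent.Lead.HN Groth.Agent.Lead.VBL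
open Groth.Agent.Helper1.CurvePt Groth.Agent.Helper1.PtInv Groth.Agent.Helper1.ProjF

section MaxInv

variable (k : Type u) [Field k] (X : Scheme.{u}) [X.Over (Spec (CommRingCat.of k))]
  [IsIntegral X] [IsProper (X ↘ Spec (CommRingCat.of k))]

/-- an invariant subbundle of maximal slope among invariant subbundles has locally free cokernel -/
theorem coker_locFree_of_invariant_max (hdim : topologicalKrullDim X = 1)
    (hX : ∀ x : X, ValuationRing (X.presheaf.stalk x)) {L : X.Modules} (hL : PicF.IsInvertible L)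
    (r : ℕ) (hr : 0 < r) (E : X.Modules) (hE : FlatMod.IsFinLocFreeOfRank r E)
    (φ : E ⟶ (tensR L).obj E)
    (F : X.Modules) (r' : ℕ) (hr' : 0 < r') (hF : FlatMod.IsFinLocFreeOfRank r' F)
    (i : F ⟶ E) [Mono i] (ψF : F ⟶ (tensR L).obj F) (hψF : ψF ≫ (tensR L).map i = i ≫ φ)
    (hmax : ∀ (G : X.Modules) (s : ℕ) (j : G ⟶ E) (ψ : G ⟶ (tensR L).obj G), Mono j → 0 < s →
      FlatMod.IsFinLocFreeOfRank s G → ψ ≫ (tensR L).map j = j ≫ φ →
      Curv2.deg k X G s * (r' : ℤ) ≤ Curv2.deg k X F r' * (s : ℤ)) :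
    ∃ n : ℕ, FlatMod.IsFinLocFreeOfRank n (cokernel i) ∧ r = r' + n := by
  have hB := hasBases_of_isFinLocFree (FinLen.isFinLocFree_of_rank (isFinLocFreeOfRank_one hL))
  obtain ⟨B', n, hB', hle, hBf, hn, hrk, heu, hle_eu, heq⟩ := exists_sat_quot k X hdim hX hE i hF
  have hS' : (ShortComplex.mk B'.arrow (cokernel.π B'.arrow) (cokernel.condition _)).ShortExact :=
    { exact := ShortComplex.exact_cokernel B'.arrow
      mono_f := inferInstanceAs (Mono B'.arrow)
      epi_g := inferInstanceAs (Epi (cokernel.π B'.arrow)) }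
  have hS'L := shortExact_map_tensR hB _ hS'
  haveI := hS'L.mono_f
  have hnL : FlatMod.IsFinLocFreeOfRank n (CohB1.tensorMod (cokernel B'.arrow) L) :=
    VBQ.isFinLocFreeOfRank_tensor_invertible hn hL
  have hι : Subobject.ofMkLE i B' hle ≫ B'.arrow = i := Subobject.ofMkLE_arrow hle
  have hiπ : i ≫ cokernel.π B'.arrow = 0 := by
    rw [← hι, Category.assoc, cokernel.condition, comp_zero]
  have hc : (B'.arrow ≫ φ) ≫ (tensR L).map (cokernel.π B'.arrow) = 0 := by
    by_contra hne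
    obtain ⟨c, hcdef⟩ : ∃ c : (B' : X.Modules) ⟶ CohB1.tensorMod (cokernel B'.arrow) L,
        c = (B'.arrow ≫ φ) ≫ (tensR L).map (cokernel.π B'.arrow) := ⟨_, rfl⟩
    rw [← hcdef] at hne
    obtain ⟨rK, rI, hK, hI, hrk', hIs, hdeg, hpos⟩ := VB.ker_im k X hX hBf hnL c
    have hrI := hpos hne
    have hz0 : Subobject.ofMkLE i B' hle ≫
        ((B'.arrow ≫ φ) ≫ (tensR L).map (cokernel.π B'.arrow)) = 0 := by
      rw [← Category.assoc, ← Category.assoc, hι, ← hψF, Category.assoc,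
        ← CategoryTheory.Functor.map_comp, hiπ, Functor.map_zero, comp_zero]
    have hzero : Subobject.ofMkLE i B' hle ≫ c = 0 := by
      rw [hcdef]
      exact hz0
    haveI : Mono (Subobject.ofMkLE i B' hle) := mono_of_mono_fac hι
    haveI : Mono (kernel.lift c _ hzero) := mono_of_mono_fac (kernel.lift_ι c _ hzero)
    have := Curve.rank_le_of_mono (genericPoint X) hF hK (kernel.lift c _ hzero)
    omega
  have hχf : hS'L.exact.lift _ hc ≫ (tensR L).map B'.arrow = B'.arrow ≫ φ := hS'L.exact.lift_f _ hc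
  have h1 := hmax (B' : X.Modules) r' B'.arrow (hS'L.exact.lift _ hc) inferInstance hr' hBf hχf
  have hr0 : (0 : ℤ) < r' := by exact_mod_cast hr'
  have h2 : Curv2.deg k X (B' : X.Modules) r' ≤ Curv2.deg k X F r' :=
    le_of_mul_le_mul_right h1 hr0
  have h3 : Curv2.euler k X (B' : X.Modules) ≤ Curv2.euler k X F := by
    unfold Curv2.deg at h2
    linarith
  have hB'eq := heq (le_antisymm hle_eu h3)
  subst hB'eq
  exact ⟨n, isFinLocFreeOfRank_of_iso (cokernel.mapIso _ _ (Subobject.underlyingIso i) (Iso.refl E)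
    (by simp)) hn, hrk⟩

/-- the preimage in `E` of an invariant subbundle of the quotient pair -/
theorem exists_preimage_invariant (hdim : topologicalKrullDim X = 1)
    (hX : ∀ x : X, ValuationRing (X.presheaf.stalk x)) {L : X.Modules} (hL : PicF.IsInvertible L)
    (r : ℕ) (hr : 0 < r) (E : X.Modules) (hE : FlatMod.IsFinLocFreeOfRank r E)
    (φ : E ⟶ (tensR L).obj E)
    (F : X.Modules) (r' : ℕ) (hr' : 0 < r') (hF : FlatMod.IsFinLocFreeOfRank r' F)
    (i : F ⟶ E) [Mono i]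
    (n : ℕ) (hC : FlatMod.IsFinLocFreeOfRank n (cokernel i)) (hrn : r = r' + n)
    (φ' : cokernel i ⟶ (tensR L).obj (cokernel i))
    (hφ' : cokernel.π i ≫ φ' = φ ≫ (tensR L).map (cokernel.π i))
    (G : X.Modules) (s : ℕ) (j : G ⟶ cokernel i) (ψ : G ⟶ (tensR L).obj G) (hj : Mono j) (hs : 0 < s)
    (hG : FlatMod.IsFinLocFreeOfRank s G) (hψ : ψ ≫ (tensR L).map j = j ≫ φ') :
    ∃ (P : X.Modules) (ι : P ⟶ E) (χ : P ⟶ (tensR L).obj P), Mono ι ∧
      FlatMod.IsFinLocFreeOfRank (r' + s) P ∧ χ ≫ (tensR L).map ι = ι ≫ φ ∧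
      Curv2.deg k X P (r' + s) = Curv2.deg k X F r' + Curv2.deg k X G s := by
  haveI := hj
  have hB := hasBases_of_isFinLocFree (FinLen.isFinLocFree_of_rank (isFinLocFreeOfRank_one hL))
  have hEc : Coh.IsCoh E := isCoh_of_rank X hE
  have hFc : Coh.IsCoh F := isCoh_of_rank X hF
  have hCc : Coh.IsCoh (cokernel i) := isCoh_of_rank X hC
  have hGc : Coh.IsCoh G := isCoh_of_rank X hG
  haveI : E.IsQuasicoherent := hEc.1
  haveI : (cokernel i).IsQuasicoherent := hCc.1
  haveI : G.IsQuasicoherent := hGc.1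
  haveI : (cokernel j).IsQuasicoherent := QcAbel.isQuasicoherent_cokernel j
  haveI hπje : Epi (cokernel.π j) := inferInstance
  have hQc : Coh.IsCoh (cokernel j) := LimTopInj.isCoh_of_epi (cokernel.π j) hCc
  -- the three short exact sequences
  have hS : (ShortComplex.mk i (cokernel.π i) (cokernel.condition i)).ShortExact :=
    { exact := ShortComplex.exact_cokernel i
      mono_f := inferInstanceAs (Mono i)
      epi_g := inferInstanceAs (Epi (cokernel.π i)) }
  have hU : (ShortComplex.mk j (cokernel.π j) (cokernel.condition j)).ShortExact :=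
    { exact := ShortComplex.exact_cokernel j
      mono_f := hj
      epi_g := inferInstanceAs (Epi (cokernel.π j)) }
  obtain ⟨ρ, hρdef⟩ : ∃ ρ : E ⟶ cokernel j, ρ = cokernel.π i ≫ cokernel.π j := ⟨_, rfl⟩
  haveI hρe : Epi ρ := by
    rw [hρdef]
    exact epi_comp _ _
  have hT : (ShortComplex.mk (kernel.ι ρ) ρ (kernel.condition ρ)).ShortExact :=
    { exact := ShortComplex.exact_of_f_is_kernel _ (kernelIsKernel ρ)
      mono_f := inferInstanceAs (Mono (kernel.ι ρ))
      epi_g := hρe }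
  have hTL := shortExact_map_tensR hB _ hT
  haveI := hTL.mono_f
  haveI : (kernel ρ).IsQuasicoherent := QcAbel.isQuasicoherent_kernel ρ
  obtain ⟨m, hm, -⟩ := VB.sub_locFree k X hX hE (kernel.ι ρ)
  have hKc : Coh.IsCoh (kernel ρ) := isCoh_of_rank X hm
  -- ranks
  have g1 := grk_add _ hT hKc hQc
  have g2 := grk_add _ hU hGc hQc
  change grk E = grk (kernel ρ) + grk (cokernel j) at g1
  change grk (cokernel i) = grk G + grk (cokernel j) at g2
  rw [grk_of_rank hE, grk_of_rank hm] at g1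
  rw [grk_of_rank hC, grk_of_rank hG] at g2
  have hms : m = r' + s := by omega
  -- Euler characteristics
  have e1 := euler_additive k X _ hT hKc hEc hQc
  have e2 := euler_additive k X _ hU hGc hCc hQc
  have e3 := euler_additive k X _ hS hFc hEc hCc
  change Curv2.euler k X E = Curv2.euler k X (kernel ρ) + Curv2.euler k X (cokernel j) at e1
  change Curv2.euler k X (cokernel i) = Curv2.euler k X G + Curv2.euler k X (cokernel j) at e2
  change Curv2.euler k X E = Curv2.euler k X F + Curv2.euler k X (cokernel i) at e3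
  have hb : Curv2.deg k X E r = Curv2.deg k X F r' + Curv2.deg k X (cokernel i) n := by
    unfold Curv2.deg
    rw [hrn]
    push_cast
    linarith
  have ht : Curv2.deg k X (kernel ρ) m = Curv2.deg k X F r' + Curv2.deg k X G s := by
    unfold Curv2.deg
    rw [hms]
    push_cast
    linarith
  -- invariance of the preimage
  haveI := hU.mono_f
  have hlift : (kernel.ι ρ ≫ cokernel.π i) ≫ cokernel.π j = 0 := by
    rw [Category.assoc, ← hρdef]
    exact kernel.condition ρ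
  have hg : hU.exact.lift _ hlift ≫ j = kernel.ι ρ ≫ cokernel.π i := hU.exact.lift_f _ hlift
  have hz : (kernel.ι ρ ≫ φ) ≫ (tensR L).map ρ = 0 := by
    have a1 : (kernel.ι ρ ≫ φ) ≫ (tensR L).map ρ =
        kernel.ι ρ ≫ (φ ≫ (tensR L).map (cokernel.π i)) ≫ (tensR L).map (cokernel.π j) := by
      rw [hρdef, CategoryTheory.Functor.map_comp]
      simp only [Category.assoc]
    have a2 : kernel.ι ρ ≫ (cokernel.π i ≫ φ') ≫ (tensR L).map (cokernel.π j) =
        hU.exact.lift _ hlift ≫ (j ≫ φ') ≫ (tensR L).map (cokernel.π j) := by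
      have := congrArg (fun z => z ≫ φ' ≫ (tensR L).map (cokernel.π j)) hg.symm
      simpa only [Category.assoc] using this
    rw [a1, ← hφ', a2, ← hψ, Category.assoc, ← CategoryTheory.Functor.map_comp, cokernel.condition,
      Functor.map_zero, comp_zero, comp_zero]
  have hχ : hTL.exact.lift _ hz ≫ (tensR L).map (kernel.ι ρ) = kernel.ι ρ ≫ φ :=
    hTL.exact.lift_f _ hz
  subst hms
  exact ⟨kernel ρ, kernel.ι ρ, hTL.exact.lift _ hz, inferInstance, hm, hχ, ht⟩

/-- the image of a nonzero morphism of pairs out of a semistable pair is an invariant subbundle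
of at least the slope of the source -/
theorem image_invariant_slope_ge (hdim : topologicalKrullDim X = 1)
    (hX : ∀ x : X, ValuationRing (X.presheaf.stalk x)) {L : X.Modules} (hL : PicF.IsInvertible L)
    (r s : ℕ) (E F : X.Modules) (hE : FlatMod.IsFinLocFreeOfRank r E)
    (hF : FlatMod.IsFinLocFreeOfRank s F)
    (φ : E ⟶ (tensR L).obj E) (ψ : F ⟶ (tensR L).obj F)
    (hEss : ∀ (G : X.Modules) (n : ℕ) (j : G ⟶ E) (χ : G ⟶ (tensR L).obj G), Mono j → 0 < n →
      FlatMod.IsFinLocFreeOfRank n G → χ ≫ (tensR L).map j = j ≫ φ →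
      Curv2.deg k X G n * (r : ℤ) ≤ Curv2.deg k X E r * (n : ℤ))
    (f : E ⟶ F) (hf : f ≫ ψ = φ ≫ (tensR L).map f) (hne : f ≠ 0) :
    ∃ (rI : ℕ) (χ : Abelian.image f ⟶ (tensR L).obj (Abelian.image f)), 0 < rI ∧
      FlatMod.IsFinLocFreeOfRank rI (Abelian.image f) ∧
      χ ≫ (tensR L).map (Abelian.image.ι f) = Abelian.image.ι f ≫ ψ ∧
      Curv2.deg k X E r * (rI : ℤ) ≤ Curv2.deg k X (Abelian.image f) rI * (r : ℤ) := by
  obtain ⟨rK, rI, hK, hI, hrk, hIs, hdeg, hpos⟩ := VB.ker_im k X hX hE hF f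
  have hrI := hpos hne
  have hrk' : (r : ℤ) = rK + rI := by exact_mod_cast hrk
  have hB : HasBases L :=
    hasBases_of_isFinLocFree (FinLen.isFinLocFree_of_rank (isFinLocFreeOfRank_one hL))
  have hTL := shortExact_map_tensR hB (H1Ext.kerIm f) (H1Ext.kerIm_shortExact f)
  have hmono : Mono ((tensR L).map (Abelian.image.ι f)) := by
    let S' : ShortComplex X.Modules := ShortComplex.mk (Abelian.image.ι f)
      (cokernel.π (Abelian.image.ι f)) (cokernel.condition _)
    have hS' : S'.ShortExact :=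
      { exact := ShortComplex.exact_cokernel _
        mono_f := inferInstanceAs (Mono (Abelian.image.ι f))
        epi_g := inferInstanceAs (Epi (cokernel.π (Abelian.image.ι f))) }
    exact (shortExact_map_tensR hB S' hS').mono_f
  have hfac : (tensR L).map (Abelian.factorThruImage f) ≫
      (tensR L).map (Abelian.image.ι f) = (tensR L).map f := by
    rw [← Functor.map_comp, Abelian.image.fac]
  haveI := hmono
  have sq : CommSq (φ ≫ (tensR L).map (Abelian.factorThruImage f))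
      (Abelian.factorThruImage f) ((tensR L).map (Abelian.image.ι f))
      (Abelian.image.ι f ≫ ψ) := ⟨by
    rw [Category.assoc, hfac, ← hf, ← Category.assoc, Abelian.image.fac]⟩
  haveI : StrongEpi (Abelian.factorThruImage f) := strongEpi_of_epi _
  refine ⟨rI, sq.lift, hrI, hI, sq.fac_right, ?_⟩
  rcases Nat.eq_zero_or_pos rK with h0 | hK0
  · subst h0
    rw [deg_zero_of_isZero k X (VB.isZero_of_rank_zero hK), zero_add] at hdeg
    have hrr : (r : ℤ) = rI := by simpa using hrk'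
    rw [hdeg, hrr]
  · haveI := hTL.mono_f
    have hz : (kernel.ι f ≫ φ) ≫ (tensR L).map (Abelian.factorThruImage f) = 0 := by
      rw [← cancel_mono ((tensR L).map (Abelian.image.ι f)), Category.assoc, Category.assoc,
        hfac, ← hf, ← Category.assoc, kernel.condition, zero_comp, zero_comp]
    have h1 := hEss _ rK (kernel.ι f) (hTL.exact.lift _ hz) inferInstance hK0 hK
      (hTL.exact.lift_f _ hz)
    have e1 : Curv2.deg k X (kernel f) rK =
        Curv2.deg k X E r - Curv2.deg k X (Abelian.image f) rI := by linarith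
    have e2 : (rK : ℤ) = r - rI := by linarith
    rw [e1, e2] at h1
    linarith

/-- existence of an invariant subbundle of maximal slope and, among those, of maximal rank -/
theorem exists_max_invariant (hdim : topologicalKrullDim X = 1)
    (hX : ∀ x : X, ValuationRing (X.presheaf.stalk x)) {L : X.Modules}
    (r : ℕ) (hr : 0 < r) (E : X.Modules) (hE : FlatMod.IsFinLocFreeOfRank r E)
    (φ : E ⟶ (tensR L).obj E) :
    ∃ (E₁ : X.Modules) (r₁ : ℕ) (i₁ : E₁ ⟶ E) (χ₁ : E₁ ⟶ (tensR L).obj E₁), Mono i₁ ∧ 0 < r₁ ∧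
      FlatMod.IsFinLocFreeOfRank r₁ E₁ ∧ χ₁ ≫ (tensR L).map i₁ = i₁ ≫ φ ∧
      (∀ (G : X.Modules) (n : ℕ) (j : G ⟶ E) (χ : G ⟶ (tensR L).obj G), Mono j → 0 < n →
        FlatMod.IsFinLocFreeOfRank n G → χ ≫ (tensR L).map j = j ≫ φ →
        Curv2.deg k X G n * (r₁ : ℤ) ≤ Curv2.deg k X E₁ r₁ * (n : ℤ)) ∧
      (∀ (G : X.Modules) (n : ℕ) (j : G ⟶ E) (χ : G ⟶ (tensR L).obj G), Mono j → 0 < n →
        FlatMod.IsFinLocFreeOfRank n G → χ ≫ (tensR L).map j = j ≫ φ →
        Curv2.deg k X G n * (r₁ : ℤ) = Curv2.deg k X E₁ r₁ * (n : ℤ) → n ≤ r₁) := by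
  classical
  obtain ⟨E₀, r₀, i₀, hi₀, hr₀, hE₀, P1, -⟩ := (existsUnique_maxDestab k X hdim hX r hr E hE).1
  obtain ⟨d₀, hd₀⟩ : ∃ d₀ : ℤ, d₀ = Curv2.deg k X E₀ r₀ := ⟨_, rfl⟩
  rw [← hd₀] at P1
  let key : X.Modules → ℕ → ℤ := fun G n =>
    Curv2.deg k X G n * ((r.factorial / n : ℕ) : ℤ) * ((r : ℤ) + 1) + (n : ℤ)
  let P : ℤ → Prop := fun z => ∃ (G : X.Modules) (n : ℕ) (j : G ⟶ E) (χ : G ⟶ (tensR L).obj G),
    Mono j ∧ 0 < n ∧ FlatMod.IsFinLocFreeOfRank n G ∧ χ ≫ (tensR L).map j = j ≫ φ ∧ z = key G n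
  have hrank : ∀ (G : X.Modules) (n : ℕ) (j : G ⟶ E), Mono j → FlatMod.IsFinLocFreeOfRank n G →
      n ≤ r := fun G n j hj hG => by
    haveI := hj
    exact Curve.rank_le_of_mono (genericPoint X) hG hE j
  have hdiv : ∀ n : ℕ, 0 < n → n ≤ r →
      ((r.factorial / n : ℕ) : ℤ) * (n : ℤ) = (r.factorial : ℤ) := by
    intro n hn hnr
    have := Nat.div_mul_cancel (Nat.dvd_factorial hn hnr)
    exact_mod_cast this
  have hfac0 : (0 : ℤ) < (r.factorial : ℤ) := by exact_mod_cast Nat.factorial_pos r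
  have hr₀' : (1 : ℤ) ≤ r₀ := by exact_mod_cast hr₀
  have hbdd : ∃ b, ∀ z, P z → z ≤ b := by
    refine ⟨|d₀| * (r.factorial : ℤ) * ((r : ℤ) + 1) + (r : ℤ), ?_⟩
    rintro z ⟨G, n, j, χ, hj, hn, hG, hχ, rfl⟩
    have hnr := hrank G n j hj hG
    have h1 := P1 G n j hj hn hG
    have hN := hdiv n hn hnr
    obtain ⟨N, hNdef⟩ : ∃ N : ℤ, N = ((r.factorial / n : ℕ) : ℤ) := ⟨_, rfl⟩
    obtain ⟨dG, hdG⟩ : ∃ dG : ℤ, dG = Curv2.deg k X G n := ⟨_, rfl⟩
    change dG = _ at hdG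
    show Curv2.deg k X G n * ((r.factorial / n : ℕ) : ℤ) * ((r : ℤ) + 1) + (n : ℤ) ≤ _
    rw [← hNdef, ← hdG]
    rw [← hNdef] at hN
    rw [← hdG] at h1
    have hN0 : (0 : ℤ) ≤ N := by rw [hNdef]; positivity
    have hnr' : (n : ℤ) ≤ r := by exact_mod_cast hnr
    have h2 : dG * N ≤ |d₀| * (r.factorial : ℤ) := by
      by_cases hneg : dG * N ≤ 0
      · exact hneg.trans (by positivity)
      · rw [not_le] at hneg
        have a1 : dG * N ≤ (dG * N) * r₀ := by nlinarith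
        have a2 : (dG * N) * r₀ = (dG * r₀) * N := by ring
        have a3 : (dG * r₀) * N ≤ (d₀ * n) * N := mul_le_mul_of_nonneg_right h1 hN0
        have a4 : (d₀ * n) * N = d₀ * (r.factorial : ℤ) := by linear_combination d₀ * hN
        have a5 : d₀ * (r.factorial : ℤ) ≤ |d₀| * (r.factorial : ℤ) :=
          mul_le_mul_of_nonneg_right (le_abs_self d₀) hfac0.le
        linarith
    have hr1 : (0 : ℤ) ≤ (r : ℤ) + 1 := by positivity
    have h3 := mul_le_mul_of_nonneg_right h2 hr1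
    linarith
  have hinh : ∃ z, P z := ⟨key E r, E, r, 𝟙 E, φ, inferInstance, hr, hE, by
    rw [CategoryTheory.Functor.map_id, Category.comp_id, Category.id_comp], rfl⟩
  obtain ⟨z₁, ⟨E₁, r₁, i₁, χ₁, hi₁, hr₁, hE₁, hχ₁, hz₁⟩, hmax⟩ :=
    Int.exists_greatest_of_bdd hbdd hinh
  have hr₁r := hrank E₁ r₁ i₁ hi₁ hE₁
  have hN₁ := hdiv r₁ hr₁ hr₁r
  -- comparison of keys
  have hcmp : ∀ (G : X.Modules) (n : ℕ) (j : G ⟶ E) (χ : G ⟶ (tensR L).obj G), Mono j → 0 < n →
      FlatMod.IsFinLocFreeOfRank n G → χ ≫ (tensR L).map j = j ≫ φ →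
      ∃ a a₁ : ℤ, a * ((n : ℤ) * (r₁ : ℤ)) = (Curv2.deg k X G n * (r₁ : ℤ)) * (r.factorial : ℤ) ∧
        a₁ * ((n : ℤ) * (r₁ : ℤ)) = (Curv2.deg k X E₁ r₁ * (n : ℤ)) * (r.factorial : ℤ) ∧
        a * ((r : ℤ) + 1) + (n : ℤ) ≤ a₁ * ((r : ℤ) + 1) + (r₁ : ℤ) := by
    intro G n j χ hj hn hG hχ
    have hnr := hrank G n j hj hG
    have hN := hdiv n hn hnr
    have hle := hmax (key G n) ⟨G, n, j, χ, hj, hn, hG, hχ, rfl⟩
    rw [hz₁] at hle
    refine ⟨Curv2.deg k X G n * ((r.factorial / n : ℕ) : ℤ),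
      Curv2.deg k X E₁ r₁ * ((r.factorial / r₁ : ℕ) : ℤ), ?_, ?_, hle⟩
    · linear_combination (Curv2.deg k X G n * (r₁ : ℤ)) * hN
    · linear_combination (Curv2.deg k X E₁ r₁ * (n : ℤ)) * hN₁
  have hr₁' : (0 : ℤ) < r₁ := by exact_mod_cast hr₁
  have hr₁r' : (r₁ : ℤ) ≤ r := by exact_mod_cast hr₁r
  refine ⟨E₁, r₁, i₁, χ₁, hi₁, hr₁, hE₁, hχ₁, ?_, ?_⟩
  · intro G n j χ hj hn hG hχ
    obtain ⟨a, a₁, e1, e2, hk⟩ := hcmp G n j χ hj hn hG hχ
    have hn' : (0 : ℤ) < n := by exact_mod_cast hn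
    have hnr' : (n : ℤ) ≤ r := by exact_mod_cast hrank G n j hj hG
    have ha : a ≤ a₁ := by
      by_contra hcon
      rw [not_le] at hcon
      have h1 : a₁ + 1 ≤ a := hcon
      have hr1 : (0 : ℤ) ≤ (r : ℤ) + 1 := by positivity
      have h2 := mul_le_mul_of_nonneg_right h1 hr1
      linarith
    have hnr₁ : (0 : ℤ) ≤ (n : ℤ) * (r₁ : ℤ) := by positivity
    have h3 := mul_le_mul_of_nonneg_right ha hnr₁
    rw [e1, e2] at h3
    exact le_of_mul_le_mul_right h3 hfac0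
  · intro G n j χ hj hn hG hχ heq
    obtain ⟨a, a₁, e1, e2, hk⟩ := hcmp G n j χ hj hn hG hχ
    have hn' : (0 : ℤ) < n := by exact_mod_cast hn
    have hnr₁ : (0 : ℤ) < (n : ℤ) * (r₁ : ℤ) := by positivity
    have h4 : a * ((n : ℤ) * (r₁ : ℤ)) = a₁ * ((n : ℤ) * (r₁ : ℤ)) := by rw [e1, e2, heq]
    have ha : a = a₁ := mul_right_cancel₀ hnr₁.ne' h4
    rw [ha] at hk
    have : (n : ℤ) ≤ r₁ := by linarith
    exact_mod_cast this

/-- S16005: semistability for subbundles invariant under the twisting map and a commuting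
endomorphism implies semistability for subbundles invariant under the twisting map alone -/
theorem semistable_pair_of_commuting (hdim : topologicalKrullDim X = 1)
    (hX : ∀ x : X, ValuationRing (X.presheaf.stalk x)) {L : X.Modules} (hL : PicF.IsInvertible L)
    (r : ℕ) (hr : 0 < r) (E : X.Modules) (hE : FlatMod.IsFinLocFreeOfRank r E)
    (φ : E ⟶ (tensR L).obj E) (ψ : E ⟶ E) (hcomm : ψ ≫ φ = φ ≫ (tensR L).map ψ)
    (hss : ∀ (G : X.Modules) (n : ℕ) (j : G ⟶ E) (χ : G ⟶ (tensR L).obj G) (ψ' : G ⟶ G), Mono j →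
      0 < n → FlatMod.IsFinLocFreeOfRank n G → χ ≫ (tensR L).map j = j ≫ φ → ψ' ≫ j = j ≫ ψ →
      Curv2.deg k X G n * (r : ℤ) ≤ Curv2.deg k X E r * (n : ℤ)) :
    ∀ (G : X.Modules) (n : ℕ) (j : G ⟶ E) (χ : G ⟶ (tensR L).obj G), Mono j → 0 < n →
      FlatMod.IsFinLocFreeOfRank n G → χ ≫ (tensR L).map j = j ≫ φ →
      Curv2.deg k X G n * (r : ℤ) ≤ Curv2.deg k X E r * (n : ℤ) := by
  obtain ⟨E₁, r₁, i₁, χ₁, hi₁, hr₁, hE₁, hχ₁, Pa, Pb⟩ :=
    exists_max_invariant k X hdim hX (L := L) r hr E hE φ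
  haveI := hi₁
  obtain ⟨n₁, hC, hrn⟩ := coker_locFree_of_invariant_max k X hdim hX hL r hr E hE φ E₁ r₁ hr₁ hE₁
    i₁ χ₁ hχ₁ Pa
  -- the induced map on the cokernel
  have hdesc : i₁ ≫ (φ ≫ (tensR L).map (cokernel.π i₁)) = 0 := by
    rw [← Category.assoc, ← hχ₁, Category.assoc, ← CategoryTheory.Functor.map_comp,
      cokernel.condition, Functor.map_zero, comp_zero]
  obtain ⟨φQ, hφQdef⟩ : ∃ φQ : cokernel i₁ ⟶ (tensR L).obj (cokernel i₁),
      φQ = cokernel.desc i₁ _ hdesc := ⟨_, rfl⟩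
  have hφQ : cokernel.π i₁ ≫ φQ = φ ≫ (tensR L).map (cokernel.π i₁) := by
    rw [hφQdef, cokernel.π_desc]
  obtain ⟨f, hfdef⟩ : ∃ f : E₁ ⟶ cokernel i₁, f = i₁ ≫ ψ ≫ cokernel.π i₁ := ⟨_, rfl⟩
  have hf : f ≫ φQ = χ₁ ≫ (tensR L).map f := by
    rw [hfdef, CategoryTheory.Functor.map_comp, CategoryTheory.Functor.map_comp, Category.assoc,
      Category.assoc, hφQ, ← Category.assoc ψ, hcomm, ← Category.assoc χ₁, hχ₁]
    simp only [Category.assoc]
  have hEss : ∀ (G : X.Modules) (n : ℕ) (j : G ⟶ E₁) (χ : G ⟶ (tensR L).obj G), Mono j → 0 < n →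
      FlatMod.IsFinLocFreeOfRank n G → χ ≫ (tensR L).map j = j ≫ χ₁ →
      Curv2.deg k X G n * (r₁ : ℤ) ≤ Curv2.deg k X E₁ r₁ * (n : ℤ) := by
    intro G n j χ hj hn hG hχ
    haveI := hj
    refine Pa G n (j ≫ i₁) χ (mono_comp _ _) hn hG ?_
    rw [CategoryTheory.Functor.map_comp, ← Category.assoc, hχ, Category.assoc, hχ₁, Category.assoc]
  have hf0 : f = 0 := by
    by_contra hne
    obtain ⟨rI, χI, hrI, hI, hχI, hslope⟩ := image_invariant_slope_ge k X hdim hX hL r₁ n₁ E₁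
      (cokernel i₁) hE₁ hC χ₁ φQ hEss f hf hne
    obtain ⟨P, ι, χP, hι, hP, hχP, hdegP⟩ := exists_preimage_invariant k X hdim hX hL r hr E hE φ
      E₁ r₁ hr₁ hE₁ i₁ n₁ hC hrn φQ hφQ (Abelian.image f) rI (Abelian.image.ι f) χI inferInstance
      hrI hI hχI
    have h1 := Pa P (r₁ + rI) ι χP hι (by omega) hP hχP
    rw [hdegP] at h1
    push_cast at h1
    have h3 : Curv2.deg k X P (r₁ + rI) * (r₁ : ℤ) =
        Curv2.deg k X E₁ r₁ * ((r₁ + rI : ℕ) : ℤ) := by
      rw [hdegP]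
      push_cast
      linarith
    have := Pb P (r₁ + rI) ι χP hι (by omega) hP hχP h3
    omega
  -- invariance under the endomorphism
  have hS : (ShortComplex.mk i₁ (cokernel.π i₁) (cokernel.condition i₁)).ShortExact :=
    { exact := ShortComplex.exact_cokernel i₁
      mono_f := inferInstanceAs (Mono i₁)
      epi_g := inferInstanceAs (Epi (cokernel.π i₁)) }
  have hlift : (i₁ ≫ ψ) ≫ cokernel.π i₁ = 0 := by
    rw [Category.assoc, ← hfdef, hf0]
  have hψ' : hS.exact.lift _ hlift ≫ i₁ = i₁ ≫ ψ := hS.exact.lift_f _ hlift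
  have h5 := hss E₁ r₁ i₁ χ₁ (hS.exact.lift _ hlift) hi₁ hr₁ hE₁ hχ₁ hψ'
  intro G n j χ hj hn hG hχ
  have h6 := Pa G n j χ hj hn hG hχ
  have hr₁' : (0 : ℤ) < r₁ := by exact_mod_cast hr₁
  have hr0 : (0 : ℤ) ≤ r := by positivity
  have hn0 : (0 : ℤ) ≤ n := by positivity
  have h7 := mul_le_mul_of_nonneg_right h6 hr0
  have h8 := mul_le_mul_of_nonneg_right h5 hn0
  have h9 : (Curv2.deg k X G n * (r : ℤ)) * (r₁ : ℤ) ≤ (Curv2.deg k X E r * (n : ℤ)) * (r₁ : ℤ) := by
    linarith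
  exact le_of_mul_le_mul_right h9 hr₁'

end MaxInv

end Groth.Agent.Lead.Higgs
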