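import Mathlib
import Groth.Agent.Lib.Lead.Higgs1
import Groth.Agent.Lib.Lead.OmSm10

/-!
# Very stable bundles: nilpotent twisted endomorphisms of a rank two bundle (lead)
-/

set_option autoImplicit false
set_option backward.isDefEq.respectTransparency.types false
set_option synthInstance.maxHeartbeats 400000
set_option linter.style.haveILetI false
set_option linter.unusedSectionVars false
set_option linter.unusedVariables false
universe u
open CategoryTheory CategoryTheory.Limits AlgebraicGeometry TopologicalSpace Opposite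

namespace Groth.Agent.Lead.VS

open Groth.Agent.Helper1.QcCech Groth.Agent.Helper1.SubSh Groth.Agent.Helper1.LGen
open Groth.Agent.Helper1.TmulLib Groth.Agent.Helper1 Groth.Agent.Helper1.TwForm
open Groth.Agent.Helper1.TensGen Groth.Agent.Lib.Helper4.TwExact Groth.Agent.Helper1.Dv
open Groth.Agent.Lib.Helper4 Groth.Agent.Helper1.CurveAmp Groth.Agent.Helper1.FinSupp
open Groth.Agent.Helper1.Euler Groth.Agent.Helper1.Curve Groth.Agent.Helper1.CurveLin
open Groth.Agent.Helper1.CurveDual Groth.Agent.Lead.HN Groth.Agent.Lead.VBL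
open Groth.Agent.Helper1.CurvePt Groth.Agent.Helper1.PtInv Groth.Agent.Helper1.ProjF

section Gen

variable {X : Scheme.{u}}

/-- twisting by an invertible module preserves monomorphisms -/
theorem mono_tensR_map {K : X.Modules} (hK : PicF.IsInvertible K) {A B : X.Modules} (s : A ⟶ B)
    [Mono s] : Mono ((tensR K).map s) := by
  let S' : ShortComplex X.Modules := ShortComplex.mk s (cokernel.π s) (cokernel.condition _)
  have hS' : S'.ShortExact :=
    { exact := ShortComplex.exact_cokernel _
      mono_f := inferInstanceAs (Mono s)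
      epi_g := inferInstanceAs (Epi (cokernel.π s)) }
  exact (shortExact_map_tensR
    (hasBases_of_isFinLocFree (FinLen.isFinLocFree_of_rank (isFinLocFreeOfRank_one hK))) S' hS').mono_f

/-- S15226 (core): a nonzero map to `L ⊗ K` composed with a monomorphism `L → E` is nonzero when
`E` has no nonzero nilpotent `K`-twisted endomorphism -/
theorem comp_ne_zero {K E L : X.Modules} (s : L ⟶ E) (t : E ⟶ (tensR K).obj L)
    (hm : Mono ((tensR K).map s))
    (hvs : ∀ α : E ⟶ (tensR K).obj E, α ≫ (tensR K).map α = 0 → α = 0) (ht : t ≠ 0) :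
    s ≫ t ≠ 0 := by
  intro h
  apply ht
  have hα := hvs (t ≫ (tensR K).map s) (by
    rw [CategoryTheory.Functor.map_comp, Category.assoc, ← Category.assoc ((tensR K).map s),
      ← CategoryTheory.Functor.map_comp, h, Functor.map_zero, zero_comp, comp_zero])
  rw [← cancel_mono ((tensR K).map s), hα, zero_comp]

end Gen

section Curve

variable (k : Type u) [Field k] (X : Scheme.{u}) [X.Over (Spec (CommRingCat.of k))]
  [IsIntegral X] [IsProper (X ↘ Spec (CommRingCat.of k))]

include k in
/-- S15225 (core): a rank two bundle has a nonzero nilpotent `K`-twisted endomorphism iff it has a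
line subbundle `L` with invertible quotient `Q` and a nonzero map `Q → L ⊗ K` -/
theorem not_veryStable_iff (hdim : topologicalKrullDim X = 1)
    (hX : ∀ x : X, ValuationRing (X.presheaf.stalk x)) {K : X.Modules} (hK : PicF.IsInvertible K)
    (E : X.Modules) (hE : FlatMod.IsFinLocFreeOfRank 2 E) :
    (¬ ∀ α : E ⟶ (tensR K).obj E, α ≫ (tensR K).map α = 0 → α = 0) ↔
      ∃ (L : X.Modules) (j : L ⟶ E), PicF.IsInvertible L ∧ Mono j ∧ PicF.IsInvertible (cokernel j) ∧
        ∃ β : cokernel j ⟶ (tensR K).obj L, β ≠ 0 := by
  have hB := hasBases_of_isFinLocFree (FinLen.isFinLocFree_of_rank (isFinLocFreeOfRank_one hK))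
  constructor
  · intro h
    rw [not_forall] at h
    obtain ⟨α, hα⟩ := h
    rw [Classical.not_imp] at hα
    obtain ⟨hnil, hne⟩ := hα
    have hEK : FlatMod.IsFinLocFreeOfRank 2 (CohB1.tensorMod E K) :=
      VBQ.isFinLocFreeOfRank_tensor_invertible hE hK
    obtain ⟨α', hα'⟩ : ∃ α' : E ⟶ CohB1.tensorMod E K, α = α' := ⟨α, rfl⟩
    obtain ⟨rK, rI, hKer, hI, hrk, hIs, hdeg, hpos⟩ := VB.ker_im k X hX hE hEK α'
    subst hα'
    have hrI := hpos hne
    have hrK : rK ≠ 0 := by
      intro h0
      subst h0
      haveI : Mono α :=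
        Preadditive.mono_of_kernel_zero ((VB.isZero_of_rank_zero hKer).eq_of_src _ _)
      haveI := mono_tensR_map hK α
      apply hne
      rw [← cancel_mono ((tensR K).map α), hnil, zero_comp]
    obtain rfl : rK = 1 := by omega
    obtain rfl : rI = 1 := by omega
    have hLinv : PicF.IsInvertible (kernel α) := isInvertible_of_rank_one X hKer
    have hCinv : PicF.IsInvertible (cokernel (kernel.ι α)) :=
      isInvertible_of_rank_one X (isFinLocFreeOfRank_of_iso (Abelian.coimageIsoImage α).symm hI)
    refine ⟨kernel α, kernel.ι α, hLinv, inferInstance, hCinv, ?_⟩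
    -- the induced map on the cokernel
    have hTL := shortExact_map_tensR hB (H1Ext.kerIm α) (H1Ext.kerIm_shortExact α)
    haveI := hTL.mono_f
    haveI := mono_tensR_map hK (Abelian.image.ι α)
    have hfac : (tensR K).map (Abelian.factorThruImage α) ≫ (tensR K).map (Abelian.image.ι α) =
        (tensR K).map α := by
      rw [← CategoryTheory.Functor.map_comp, Abelian.image.fac]
    have hd : cokernel.π (kernel.ι α) ≫ cokernel.desc (kernel.ι α) α (kernel.condition α) = α :=
      cokernel.π_desc _ _ _
    have hz : cokernel.desc (kernel.ι α) α (kernel.condition α) ≫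
        (tensR K).map (Abelian.factorThruImage α) = 0 := by
      rw [← cancel_mono ((tensR K).map (Abelian.image.ι α)), Category.assoc, hfac, zero_comp,
        ← cancel_epi (cokernel.π (kernel.ι α)), ← Category.assoc, hd, hnil, comp_zero]
    refine ⟨hTL.exact.lift _ hz, fun h0 => hne ?_⟩
    have h1 : hTL.exact.lift _ hz ≫ (tensR K).map (kernel.ι α) =
        cokernel.desc (kernel.ι α) α (kernel.condition α) := hTL.exact.lift_f _ hz
    rw [h0] at h1
    have h2 : (0 : cokernel (kernel.ι α) ⟶ ((H1Ext.kerIm α).map (tensR K)).X₁) ≫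
        (tensR K).map (kernel.ι α) = 0 := zero_comp
    rw [← hd, ← h1]
    exact (congrArg (fun z => cokernel.π (kernel.ι α) ≫ z) h2).trans comp_zero
  · rintro ⟨L, j, hL, hj, hC, β, hβ⟩ hall
    haveI := hj
    haveI := mono_tensR_map hK j
    apply hβ
    have h0 := hall (cokernel.π j ≫ β ≫ (tensR K).map j) (by
      rw [CategoryTheory.Functor.map_comp, CategoryTheory.Functor.map_comp, Category.assoc,
        Category.assoc, ← Category.assoc ((tensR K).map j), ← CategoryTheory.Functor.map_comp,
        cokernel.condition, Functor.map_zero, zero_comp, comp_zero, comp_zero])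
    rw [← cancel_epi (cokernel.π j), ← cancel_mono ((tensR K).map j), Category.assoc, h0, comp_zero,
      zero_comp]

end Curve

end Groth.Agent.Lead.VS
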