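import Mathlib
import Groth.Agent.Lib.Lead.Higgs3
import Groth.Agent.Lib.Lead.VS1

/-!
# Opposite filtrations of semistable Higgs-type pairs (lead)
-/

set_option autoImplicit false
set_option backward.isDefEq.respectTransparency.types false
set_option synthInstance.maxHeartbeats 400000
set_option linter.style.haveILetI false
set_option linter.unusedSectionVars false
set_option linter.unusedVariables false
universe u
open CategoryTheory CategoryTheory.Limits AlgebraicGeometry TopologicalSpace Opposite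

namespace Groth.Agent.Lead.Higgs

open Groth.Agent.Helper1.QcCech Groth.Agent.Helper1.SubSh Groth.Agent.Helper1.LGen
open Groth.Agent.Helper1.TmulLib Groth.Agent.Helper1 Groth.Agent.Helper1.TwForm
open Groth.Agent.Helper1.TensGen Groth.Agent.Lib.Helper4.TwExact Groth.Agent.Helper1.Dv
open Groth.Agent.Lib.Helper4 Groth.Agent.Helper1.CurveAmp Groth.Agent.Helper1.FinSupp
open Groth.Agent.Helper1.Euler Groth.Agent.Helper1.Curve Groth.Agent.Helper1.CurveLin
open Groth.Agent.Helper1.CurveDual Groth.Agent.Lead.HN Groth.Agent.Lead.VBL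
open Groth.Agent.Helper1.CurvePt Groth.Agent.Helper1.PtInv Groth.Agent.Helper1.ProjF

section Opp

variable (k : Type u) [Field k] (X : Scheme.{u}) [X.Over (Spec (CommRingCat.of k))]
  [IsIntegral X] [IsProper (X ↘ Spec (CommRingCat.of k))]

/-- semistability of a pair `(E, φ)` with respect to invariant subbundles -/
def IsSSPair (L : X.Modules) (r : ℕ) (E : X.Modules) (φ : E ⟶ (tensR L).obj E) : Prop :=
  ∀ (G : X.Modules) (s : ℕ) (j : G ⟶ E) (χ : G ⟶ (tensR L).obj G), Mono j → 0 < s →
    FlatMod.IsFinLocFreeOfRank s G → χ ≫ (tensR L).map j = j ≫ φ →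
    Curv2.deg k X G s * (r : ℤ) ≤ Curv2.deg k X E r * (s : ℤ)

omit [IsIntegral X] [IsProper (X ↘ Spec (CommRingCat.of k))] in
theorem isIso_cokernel_π_of_eq_zero {A B : X.Modules} (f : A ⟶ B) (h : f = 0) :
    IsIso (cokernel.π f) := by
  subst h
  exact cokernel.π_zero_isIso

/-- an invariant subbundle of the same slope of a semistable pair is a semistable pair -/
theorem isSSPair_sub {L : X.Modules} (r : ℕ) (hr : 0 < r) (E : X.Modules)
    (φ : E ⟶ (tensR L).obj E) (hss : IsSSPair k X L r E φ)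
    (F : X.Modules) (r' : ℕ) (i : F ⟶ E) [Mono i] (ψF : F ⟶ (tensR L).obj F)
    (hψF : ψF ≫ (tensR L).map i = i ≫ φ)
    (hslope : Curv2.deg k X F r' * (r : ℤ) = Curv2.deg k X E r * (r' : ℤ)) :
    IsSSPair k X L r' F ψF := by
  intro G s j χ hj hs hG hχ
  haveI := hj
  have h1 := hss G s (j ≫ i) χ (mono_comp _ _) hs hG (by
    rw [CategoryTheory.Functor.map_comp, ← Category.assoc, hχ, Category.assoc, hψF, Category.assoc])
  have hr0 : (0 : ℤ) < r := by exact_mod_cast hr
  have hr'0 : (0 : ℤ) ≤ r' := by positivity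
  have hs0 : (0 : ℤ) ≤ s := by positivity
  have h2 := mul_le_mul_of_nonneg_right h1 hr'0
  have h3 : (Curv2.deg k X G s * (r' : ℤ)) * (r : ℤ) ≤ (Curv2.deg k X F r' * (s : ℤ)) * (r : ℤ) := by
    have e1 : (Curv2.deg k X F r' * (s : ℤ)) * (r : ℤ) = (Curv2.deg k X E r * (r' : ℤ)) * (s : ℤ) := by
      rw [← hslope]; ring
    rw [e1]
    linarith
  exact le_of_mul_le_mul_right h3 hr0

/-- the graded piece of an invariant subbundle of the same slope -/
theorem graded_piece (hdim : topologicalKrullDim X = 1)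
    (hX : ∀ x : X, ValuationRing (X.presheaf.stalk x)) {L : X.Modules} (hL : PicF.IsInvertible L)
    (R : ℕ) (hR : 0 < R) (d : ℤ)
    (r : ℕ) (hr : 0 < r) (E : X.Modules) (hE : FlatMod.IsFinLocFreeOfRank r E)
    (φ : E ⟶ (tensR L).obj E) (hss : IsSSPair k X L r E φ)
    (hEd : Curv2.deg k X E r * (R : ℤ) = d * (r : ℤ))
    (F : X.Modules) (r' : ℕ) (hF : FlatMod.IsFinLocFreeOfRank r' F)
    (i : F ⟶ E) [Mono i] (ψF : F ⟶ (tensR L).obj F) (hψF : ψF ≫ (tensR L).map i = i ≫ φ)
    (hFd : Curv2.deg k X F r' * (R : ℤ) = d * (r' : ℤ)) (hlt : r' < r) :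
    FlatMod.IsFinLocFreeOfRank (r - r') (cokernel i) ∧
      Curv2.deg k X (cokernel i) (r - r') * (R : ℤ) = d * ((r - r' : ℕ) : ℤ) ∧
      ∀ (φ' : cokernel i ⟶ (tensR L).obj (cokernel i)),
        cokernel.π i ≫ φ' = φ ≫ (tensR L).map (cokernel.π i) →
        IsSSPair k X L (r - r') (cokernel i) φ' := by
  have hR0 : (0 : ℤ) < R := by exact_mod_cast hR
  have hS : (ShortComplex.mk i (cokernel.π i) (cokernel.condition i)).ShortExact :=
    { exact := ShortComplex.exact_cokernel i
      mono_f := inferInstanceAs (Mono i)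
      epi_g := inferInstanceAs (Epi (cokernel.π i)) }
  rcases Nat.eq_zero_or_pos r' with h0 | hr'
  · subst h0
    have hz : IsZero F := VB.isZero_of_rank_zero hF
    haveI : IsIso (cokernel.π i) := isIso_cokernel_π_of_eq_zero X i (hz.eq_of_src _ _)
    have hk : r - 0 = r := by omega
    rw [hk]
    have hC : FlatMod.IsFinLocFreeOfRank r (cokernel i) :=
      isFinLocFreeOfRank_of_iso (asIso (cokernel.π i)) hE
    refine ⟨hC, ?_, ?_⟩
    · rw [← GenusOne.deg_iso k X (asIso (cokernel.π i)) r]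
      exact hEd
    · intro φ' hφ' G s j χ hj hs hG hχ
      haveI := hj
      have hinv : φ' ≫ (tensR L).map (inv (cokernel.π i)) = inv (cokernel.π i) ≫ φ := by
        rw [← cancel_epi (cokernel.π i), ← Category.assoc, hφ', Category.assoc,
          ← CategoryTheory.Functor.map_comp, IsIso.hom_inv_id, CategoryTheory.Functor.map_id,
          Category.comp_id, IsIso.hom_inv_id_assoc]
      have h1 := hss G s (j ≫ inv (cokernel.π i)) χ (mono_comp _ _) hs hG (by
        rw [CategoryTheory.Functor.map_comp, ← Category.assoc, hχ, Category.assoc, hinv,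
          Category.assoc])
      rw [← GenusOne.deg_iso k X (asIso (cokernel.π i)) r]
      exact h1
  · have hslope : Curv2.deg k X F r' * (r : ℤ) = Curv2.deg k X E r * (r' : ℤ) := by
      have e1 : (Curv2.deg k X F r' * (r : ℤ)) * (R : ℤ) = (Curv2.deg k X E r * (r' : ℤ)) * (R : ℤ) := by
        linear_combination (r : ℤ) * hFd - (r' : ℤ) * hEd
      exact mul_right_cancel₀ hR0.ne' e1
    obtain ⟨n, hC, hrn⟩ := coker_locFree_of_invariant_slope_eq k X hdim hX hL r hr E hE φ hss F r'
      hr' hF i ψF hψF hslope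
    have hnr : r - r' = n := by omega
    rw [hnr]
    have hadd := deg_additive k X _ hS r' r n hF hE hC
    change Curv2.deg k X E r = Curv2.deg k X F r' + Curv2.deg k X (cokernel i) n at hadd
    refine ⟨hC, ?_, fun φ' hφ' G s j χ hj hs hG hχ =>
      semistable_quotient_pair k X hdim hX hL r hr E hE φ hss F r' hr' hF i hslope n hC hrn φ' hφ'
        G s j χ hj hs hG hχ⟩
    have hrn' : (r : ℤ) = r' + n := by exact_mod_cast hrn
    linear_combination hEd - hFd - (R : ℤ) * hadd + d * hrn'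

/-- S15330: opposite invariant filtrations of two semistable pairs of the same rank and degree -/
theorem opposite_filtrations (hdim : topologicalKrullDim X = 1)
    (hX : ∀ x : X, ValuationRing (X.presheaf.stalk x)) {L : X.Modules} (hL : PicF.IsInvertible L)
    (r : ℕ) (hr : 0 < r) (d : ℤ)
    (E : X.Modules) (hE : FlatMod.IsFinLocFreeOfRank r E) (φE : E ⟶ (tensR L).obj E)
    (hEd : Curv2.deg k X E r = d) (hEss : IsSSPair k X L r E φE)
    (F : X.Modules) (hF : FlatMod.IsFinLocFreeOfRank r F) (φF : F ⟶ (tensR L).obj F)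
    (hFd : Curv2.deg k X F r = d) (hFss : IsSSPair k X L r F φF)
    (n : ℕ)
    (Es : ℕ → X.Modules) (rE : ℕ → ℕ) (hEs : ∀ i, FlatMod.IsFinLocFreeOfRank (rE i) (Es i))
    (ιE : ∀ i, Es i ⟶ E) (hιE : ∀ i, Mono (ιE i))
    (ψE : ∀ i, Es i ⟶ (tensR L).obj (Es i))
    (hψE : ∀ i, ψE i ≫ (tensR L).map (ιE i) = ιE i ≫ φE)
    (a : ∀ i, Es i ⟶ Es (i + 1)) (ha : ∀ i, a i ≫ ιE (i + 1) = ιE i)
    (hE0 : IsZero (Es 0))
    (Fs : ℕ → X.Modules) (rF : ℕ → ℕ) (hFs : ∀ i, FlatMod.IsFinLocFreeOfRank (rF i) (Fs i))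
    (ιF : ∀ i, Fs i ⟶ F) (hιF : ∀ i, Mono (ιF i))
    (ψF : ∀ i, Fs i ⟶ (tensR L).obj (Fs i))
    (hψF : ∀ i, ψF i ≫ (tensR L).map (ιF i) = ιF i ≫ φF)
    (b : ∀ i, Fs (i + 1) ⟶ Fs i) (hb : ∀ i, b i ≫ ιF i = ιF (i + 1))
    (hF0 : IsIso (ιF 0))
    (hrk : ∀ i, i ≤ n → rE i + rF i = r)
    (hopp : ∀ i, i < n → Nonempty (cokernel (a i) ≅ cokernel (b i))) :
    (∀ i, i ≤ n → 0 < rE i →
      Curv2.deg k X (Es i) (rE i) * (r : ℤ) = d * (rE i : ℤ) ∧
      IsSSPair k X L (rE i) (Es i) (ψE i)) ∧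
    (∀ i, i ≤ n → 0 < rF i →
      Curv2.deg k X (Fs i) (rF i) * (r : ℤ) = d * (rF i : ℤ) ∧
      IsSSPair k X L (rF i) (Fs i) (ψF i)) ∧
    (∀ i, i < n → rE i < rE (i + 1) →
      FlatMod.IsFinLocFreeOfRank (rE (i + 1) - rE i) (cokernel (a i)) ∧
      Curv2.deg k X (cokernel (a i)) (rE (i + 1) - rE i) * (r : ℤ) =
        d * ((rE (i + 1) - rE i : ℕ) : ℤ) ∧
      ∀ (φ' : cokernel (a i) ⟶ (tensR L).obj (cokernel (a i))),
        cokernel.π (a i) ≫ φ' = ψE (i + 1) ≫ (tensR L).map (cokernel.π (a i)) →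
        IsSSPair k X L (rE (i + 1) - rE i) (cokernel (a i)) φ') := by
  have hamono : ∀ i, Mono (a i) := fun i => by
    haveI := hιE i
    have h := ha i
    exact mono_of_mono_fac h
  have hbmono : ∀ i, Mono (b i) := fun i => by
    haveI := hιF (i + 1)
    have h := hb i
    exact mono_of_mono_fac h
  have hEc : ∀ i, Coh.IsCoh (Es i) := fun i => isCoh_of_rank X (hEs i)
  have hFc : ∀ i, Coh.IsCoh (Fs i) := fun i => isCoh_of_rank X (hFs i)
  -- Euler characteristics
  have hsum : ∀ i, i ≤ n →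
      Curv2.euler k X (Es i) + Curv2.euler k X (Fs i) = Curv2.euler k X F := by
    intro i
    induction i with
    | zero =>
      intro _
      rw [VB.euler_of_isZero k X hE0, zero_add]
      haveI := hF0
      exact Euler.euler_iso k X (asIso (ιF 0))
    | succ i ih =>
      intro hi
      have hi' : i < n := hi
      have ih' := ih hi'.le
      obtain ⟨e⟩ := hopp i hi'
      haveI := hamono i
      haveI := hbmono i
      have hSa : (ShortComplex.mk (a i) (cokernel.π (a i)) (cokernel.condition _)).ShortExact :=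
        { exact := ShortComplex.exact_cokernel (a i)
          mono_f := inferInstanceAs (Mono (a i))
          epi_g := inferInstanceAs (Epi (cokernel.π (a i))) }
      have hSb : (ShortComplex.mk (b i) (cokernel.π (b i)) (cokernel.condition _)).ShortExact :=
        { exact := ShortComplex.exact_cokernel (b i)
          mono_f := inferInstanceAs (Mono (b i))
          epi_g := inferInstanceAs (Epi (cokernel.π (b i))) }
      haveI : (Es (i + 1)).IsQuasicoherent := (hEc (i + 1)).1
      haveI : (Es i).IsQuasicoherent := (hEc i).1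
      haveI : (Fs (i + 1)).IsQuasicoherent := (hFc (i + 1)).1
      haveI : (Fs i).IsQuasicoherent := (hFc i).1
      haveI : (cokernel (a i)).IsQuasicoherent := QcAbel.isQuasicoherent_cokernel (a i)
      haveI : (cokernel (b i)).IsQuasicoherent := QcAbel.isQuasicoherent_cokernel (b i)
      haveI : Epi (cokernel.π (a i)) := inferInstance
      haveI : Epi (cokernel.π (b i)) := inferInstance
      have hCa : Coh.IsCoh (cokernel (a i)) := LimTopInj.isCoh_of_epi (cokernel.π (a i)) (hEc (i + 1))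
      have hCb : Coh.IsCoh (cokernel (b i)) := LimTopInj.isCoh_of_epi (cokernel.π (b i)) (hFc i)
      have e1 := euler_additive k X _ hSa (hEc i) (hEc (i + 1)) hCa
      have e2 := euler_additive k X _ hSb (hFc (i + 1)) (hFc i) hCb
      change Curv2.euler k X (Es (i + 1)) = Curv2.euler k X (Es i) +
        Curv2.euler k X (cokernel (a i)) at e1
      change Curv2.euler k X (Fs i) = Curv2.euler k X (Fs (i + 1)) +
        Curv2.euler k X (cokernel (b i)) at e2
      have e3 := Euler.euler_iso k X e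
      linarith
  have hdegsum : ∀ i, i ≤ n →
      Curv2.deg k X (Es i) (rE i) + Curv2.deg k X (Fs i) (rF i) = d := by
    intro i hi
    have h1 := hsum i hi
    have h2 : (r : ℤ) = rE i + rF i := by exact_mod_cast (hrk i hi).symm
    rw [← hFd]
    unfold Curv2.deg
    rw [h2]
    linear_combination h1
  have hEle : ∀ i, Curv2.deg k X (Es i) (rE i) * (r : ℤ) ≤ d * (rE i : ℤ) := by
    intro i
    rcases Nat.eq_zero_or_pos (rE i) with h0 | hpos
    · have hEs0 : FlatMod.IsFinLocFreeOfRank 0 (Es i) := by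
        have := hEs i
        rwa [h0] at this
      rw [h0, deg_zero_of_isZero k X (VB.isZero_of_rank_zero hEs0)]
      simp
    · have := hEss (Es i) (rE i) (ιE i) (ψE i) (hιE i) hpos (hEs i) (hψE i)
      rw [hEd] at this
      exact this
  have hFle : ∀ i, Curv2.deg k X (Fs i) (rF i) * (r : ℤ) ≤ d * (rF i : ℤ) := by
    intro i
    rcases Nat.eq_zero_or_pos (rF i) with h0 | hpos
    · have hFs0 : FlatMod.IsFinLocFreeOfRank 0 (Fs i) := by
        have := hFs i
        rwa [h0] at this
      rw [h0, deg_zero_of_isZero k X (VB.isZero_of_rank_zero hFs0)]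
      simp
    · have := hFss (Fs i) (rF i) (ιF i) (ψF i) (hιF i) hpos (hFs i) (hψF i)
      rw [hFd] at this
      exact this
  have hboth : ∀ i, i ≤ n →
      Curv2.deg k X (Es i) (rE i) * (r : ℤ) = d * (rE i : ℤ) ∧
      Curv2.deg k X (Fs i) (rF i) * (r : ℤ) = d * (rF i : ℤ) := by
    intro i hi
    have h1 := hdegsum i hi
    have h2 : (r : ℤ) = rE i + rF i := by exact_mod_cast (hrk i hi).symm
    have h3 : Curv2.deg k X (Es i) (rE i) * (r : ℤ) + Curv2.deg k X (Fs i) (rF i) * (r : ℤ) =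
        d * (rE i : ℤ) + d * (rF i : ℤ) := by
      linear_combination (r : ℤ) * h1 + d * h2
    have := hEle i
    have := hFle i
    constructor <;> linarith
  have part1 : ∀ i, i ≤ n → 0 < rE i →
      Curv2.deg k X (Es i) (rE i) * (r : ℤ) = d * (rE i : ℤ) ∧
      IsSSPair k X L (rE i) (Es i) (ψE i) := by
    intro i hi hpos
    haveI := hιE i
    refine ⟨(hboth i hi).1, isSSPair_sub k X r hr E φE hEss (Es i) (rE i) (ιE i) (ψE i) (hψE i) ?_⟩
    rw [hEd]
    exact (hboth i hi).1
  refine ⟨part1, ?_, ?_⟩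
  · intro i hi hpos
    haveI := hιF i
    refine ⟨(hboth i hi).2, isSSPair_sub k X r hr F φF hFss (Fs i) (rF i) (ιF i) (ψF i) (hψF i) ?_⟩
    rw [hFd]
    exact (hboth i hi).2
  · intro i hi hlt
    haveI := hamono i
    have hpos : 0 < rE (i + 1) := by omega
    obtain ⟨hd1, hss1⟩ := part1 (i + 1) hi hpos
    have hinv : ψE i ≫ (tensR L).map (a i) = a i ≫ ψE (i + 1) := by
      haveI := hιE (i + 1)
      haveI : Mono ((tensR L).map (ιE (i + 1))) := VS.mono_tensR_map hL (ιE (i + 1))
      rw [← cancel_mono ((tensR L).map (ιE (i + 1))), Category.assoc, Category.assoc,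
        ← CategoryTheory.Functor.map_comp, ha i, hψE i, hψE (i + 1), ← Category.assoc, ha i]
    exact graded_piece k X hdim hX hL r hr d (rE (i + 1)) hpos (Es (i + 1)) (hEs (i + 1))
      (ψE (i + 1)) hss1 hd1 (Es i) (rE i) (hEs i) (a i) (ψE i) hinv (hboth i hi.le).1 hlt

end Opp

end Groth.Agent.Lead.Higgs
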