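import Mathlib
import Groth.Prelude.Def_HilbD
import Groth.Agent.Lib.Lead.HilbCI1

/-!
# Hilbert functor of a closed subscheme is a closed subfunctor (lead)
-/

set_option backward.isDefEq.respectTransparency.types false
set_option synthInstance.maxHeartbeats 400000
set_option autoImplicit false
set_option linter.unusedSectionVars false
set_option linter.style.haveILetI false

universe u
open CategoryTheory CategoryTheory.Limits AlgebraicGeometry

namespace Groth.Agent.Lead.HilbCI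

open Groth.Agent.Lead.HilbAPI Groth.Agent.Lead.LeLocus Groth.Agent.Lead.HilbSep

theorem XTmap_id {X S : Scheme.{u}} (f : X ⟶ S) (T : Over S) : PicF.XTmap f (𝟙 T) = 𝟙 _ := by
  apply pullback.hom_ext
  · rw [XTmap_fst, Category.id_comp]
  · rw [XTmap_snd, Category.id_comp]
    exact Category.comp_id _

theorem pull_id {X S : Scheme.{u}} (f : X ⟶ S) (T : Over S) (I : (PicF.XT f T).IdealSheafData) :
    HilbD.pull f (𝟙 T) I = I := by
  rw [pull_eq_comap, XTmap_id, Scheme.IdealSheafData.comap_id]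

theorem comap_iso_le_iff {A B : Scheme.{u}} (e : A ≅ B) (M N : B.IdealSheafData) :
    M.comap e.hom ≤ N.comap e.hom ↔ M ≤ N := by
  have h1 : ∀ K : B.IdealSheafData, (K.comap e.hom).comap e.inv = K := fun K => by
    rw [← Scheme.IdealSheafData.comap_comp, e.inv_hom_id, Scheme.IdealSheafData.comap_id]
  constructor
  · intro h
    have h2 : (M.comap e.hom).comap e.inv ≤ (N.comap e.hom).comap e.inv :=
      Scheme.IdealSheafData.comap_mono e.inv h
    rw [h1, h1] at h2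
    exact h2
  · intro h
    exact Scheme.IdealSheafData.comap_mono _ h

variable {X Y S : Scheme.{u}} (i : X ⟶ Y) [IsClosedImmersion i] (g : Y ⟶ S)

/-- the ideal of the locus of the base over which a closed subscheme of `Y_T` lies in `X_T` -/
noncomputable def locIdeal (T : Over S) (K : (PicF.XT g T).IdealSheafData)
    [IsFinite (K.subschemeι ≫ PicF.XTproj g T)] [Flat (K.subschemeι ≫ PicF.XTproj g T)]
    [LocallyOfFinitePresentation (K.subschemeι ≫ PicF.XTproj g T)] : T.left.IdealSheafData :=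
  zIdeal (K.subschemeι ≫ PicF.XTproj g T) ((iT i g T).ker.comap K.subschemeι)

theorem factors_locIdeal_iff (T : Over S) (K : (PicF.XT g T).IdealSheafData)
    [IsFinite (K.subschemeι ≫ PicF.XTproj g T)] [Flat (K.subschemeι ≫ PicF.XTproj g T)]
    [LocallyOfFinitePresentation (K.subschemeι ≫ PicF.XTproj g T)] {T' : Over S} (m : T' ⟶ T) :
    (∃ t : T'.left ⟶ (locIdeal i g T K).subscheme,
        t ≫ (locIdeal i g T K).subschemeι = m.left) ↔
      (iT i g T').ker ≤ HilbD.pull g m K := by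
  unfold locIdeal
  rw [LeLocus.main (PicF.XTproj g T) (iT i g T).ker K T'.left m.left, ← ker_iT_comap i g m,
    pull_eq_comap]
  have sq := isPullback_XTmap g m
  have h1 : PicF.XTmap g m = sq.isoPullback.hom ≫ pullback.fst (PicF.XTproj g T) m.left :=
    sq.isoPullback_hom_fst.symm
  rw [h1, Scheme.IdealSheafData.comap_comp, Scheme.IdealSheafData.comap_comp, comap_iso_le_iff]


/-- **the Hilbert functor of a closed subscheme is represented by a closed subscheme of the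
Hilbert scheme** -/
theorem main (d : ℕ) (H : Over S) (Z : HilbD.Obj g d H) (hZ : HilbD.IsUniversal g d H Z) :
    HilbD.Representable (i ≫ g) d ∧
    ∀ (H' : Over S) (Z' : HilbD.Obj (i ≫ g) d H') (_ : HilbD.IsUniversal (i ≫ g) d H' Z')
      (m : H' ⟶ H), HilbD.pull g m Z.1 = HilbD.push i g H' Z'.1 → IsClosedImmersion m.left := by
  haveI := Z.2.1.1
  haveI := Z.2.1.2.1
  haveI := Z.2.1.2.2
  let 𝓔 := locIdeal i g H Z.1
  let H₀ : Over S := Over.mk (𝓔.subschemeι ≫ H.hom)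
  let ιm : H₀ ⟶ H := Over.homMk 𝓔.subschemeι rfl
  have hιm : ∀ {T : Over S} (a b : T ⟶ H₀), a ≫ ιm = b ≫ ιm → a = b := by
    intro T a b hab
    apply Over.OverMorphism.ext
    have h1 : a.left ≫ 𝓔.subschemeι = b.left ≫ 𝓔.subschemeι := congrArg (fun m => m.left) hab
    exact (cancel_mono 𝓔.subschemeι).1 h1
  have key : ∀ {T : Over S} (m : T ⟶ H),
      (∃ t : T.left ⟶ 𝓔.subscheme, t ≫ 𝓔.subschemeι = m.left) ↔
        (iT i g T).ker ≤ HilbD.pull g m Z.1 := fun m => factors_locIdeal_iff i g H Z.1 m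
  -- morphisms to `H₀` pull `Z` back into `X_T`
  have hfac : ∀ {T : Over S} (t : T ⟶ H₀), (iT i g T).ker ≤ HilbD.pull g (t ≫ ιm) Z.1 :=
    fun t => (key (t ≫ ιm)).1 ⟨t.left, rfl⟩
  let J := HilbD.pull g ιm Z.1
  have hJ : (iT i g H₀).ker ≤ J := by
    have h1 := hfac (𝟙 H₀)
    rwa [Category.id_comp] at h1
  let Z₀ : HilbD.Obj (i ≫ g) d H₀ := ⟨J.comap (iT i g H₀),
    comap_isFinLocFreeOfDeg i g H₀ d J hJ (pull_isFinLocFreeOfDeg g ιm d Z.1 Z.2)⟩
  -- the pullback of `Z₀` along `t` is the restriction of the pullback of `Z`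
  have hpull : ∀ {T : Over S} (t : T ⟶ H₀),
      HilbD.pull (i ≫ g) t Z₀.1 = (HilbD.pull g (t ≫ ιm) Z.1).comap (iT i g T) := by
    intro T t
    change HilbD.pull (i ≫ g) t (J.comap (iT i g H₀)) = _
    rw [pull_comap_iT, pull_comp]
  -- and the pullback of `Z` is the push forward of the pullback of `Z₀`
  have hpush : ∀ {T : Over S} (t : T ⟶ H₀),
      HilbD.pull g (t ≫ ιm) Z.1 = (HilbD.pull (i ≫ g) t Z₀.1).map (iT i g T) := by
    intro T t
    rw [hpull, map_comap_of_le _ _ (hfac t)]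
  have huniv : HilbD.IsUniversal (i ≫ g) d H₀ Z₀ := by
    intro T W
    obtain ⟨t, ht, huniq⟩ := hZ T ⟨W.1.map (iT i g T), push_isFinLocFreeOfDeg i g T d W.1 W.2⟩
    have ht' : HilbD.pull g t Z.1 = W.1.map (iT i g T) := ht
    obtain ⟨t', ht'2⟩ := (key t).2 (by rw [ht']; exact ker_le_map _ _)
    let tm : T ⟶ H₀ := Over.homMk t' (by
      change t' ≫ 𝓔.subschemeι ≫ H.hom = T.hom
      rw [← Category.assoc, ht'2, Over.w t])
    have htm : tm ≫ ιm = t := Over.OverMorphism.ext ht'2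
    refine ⟨tm, ?_, ?_⟩
    · change HilbD.pull (i ≫ g) tm Z₀.1 = W.1
      rw [hpull, htm, ht', comap_map_of_isClosedImmersion]
    · intro t₁ ht₁
      have ht₁' : HilbD.pull (i ≫ g) t₁ Z₀.1 = W.1 := ht₁
      apply hιm
      rw [htm]
      apply huniq
      change HilbD.pull g (t₁ ≫ ιm) Z.1 = W.1.map (iT i g T)
      rw [hpush, ht₁']
  refine ⟨⟨H₀, Z₀, huniv⟩, ?_⟩
  intro H' Z' hZ' m hm
  obtain ⟨e, he, -⟩ := huniv H' Z'
  obtain ⟨e', he', -⟩ := hZ' H₀ Z₀
  have he1 : HilbD.pull (i ≫ g) e Z₀.1 = Z'.1 := he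
  have he'1 : HilbD.pull (i ≫ g) e' Z'.1 = Z₀.1 := he'
  have h1 : e ≫ e' = 𝟙 H' := by
    obtain ⟨u, -, hu⟩ := hZ' H' Z'
    rw [hu (e ≫ e') (by change HilbD.pull (i ≫ g) (e ≫ e') Z'.1 = Z'.1; rw [pull_comp, he'1, he1]),
      hu (𝟙 H') (pull_id _ _ _)]
  have h2 : e' ≫ e = 𝟙 H₀ := by
    obtain ⟨u, -, hu⟩ := huniv H₀ Z₀
    rw [hu (e' ≫ e) (by change HilbD.pull (i ≫ g) (e' ≫ e) Z₀.1 = Z₀.1; rw [pull_comp, he1, he'1]),
      hu (𝟙 H₀) (pull_id _ _ _)]
  have h3 : e ≫ ιm = m := by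
    obtain ⟨u, -, hu⟩ := hZ H' ⟨Z'.1.map (iT i g H'), push_isFinLocFreeOfDeg i g H' d Z'.1 Z'.2⟩
    rw [hu (e ≫ ιm) (by change HilbD.pull g (e ≫ ιm) Z.1 = Z'.1.map (iT i g H'); rw [hpush, he1]),
      hu m hm]
  haveI : IsIso e.left := ⟨e'.left, congrArg (fun m => m.left) h1, congrArg (fun m => m.left) h2⟩
  have h4 : m.left = e.left ≫ 𝓔.subschemeι := congrArg (fun m => m.left) h3.symm
  rw [h4]
  infer_instance

end Groth.Agent.Lead.HilbCI
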