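import Mathlib
import Groth.Agent.Lib.Lead.KerProd1

/-!
# fpqc descent of ideal sheaves along a single covering morphism (lead)
-/

set_option backward.isDefEq.respectTransparency.types false
set_option synthInstance.maxHeartbeats 400000
set_option autoImplicit false
set_option linter.unusedSectionVars false
set_option linter.style.haveILetI false

universe u
open CategoryTheory CategoryTheory.Limits AlgebraicGeometry

namespace Groth.Agent.Lead.IdealDesc

/-- a flat surjective morphism is injective on sections -/
theorem app_injective_of_flat_of_surjective {X Y : Scheme.{u}} (f : X ⟶ Y) [Flat f] [Surjective f]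
    (U : Y.Opens) : Function.Injective (f.app U).hom := by
  rw [injective_iff_map_eq_zero]
  intro a ha
  refine TopCat.Presheaf.section_ext Y.sheaf U _ _ fun y hy => ?_
  change Y.presheaf.germ U y hy a = Y.presheaf.germ U y hy 0
  rw [map_zero]
  obtain ⟨x, rfl⟩ := ‹Surjective f›.surj y
  have hinj : Function.Injective (f.stalkMap x).hom := by
    algebraize [(f.stalkMap x).hom]
    have : Module.FaithfullyFlat (Y.presheaf.stalk (f x)) (X.presheaf.stalk x) :=
      @Module.FaithfullyFlat.of_flat_of_isLocalHom _ _ _ _ _ _ _
        (Flat.stalkMap f x) (f.toLRSHom.prop x)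
    exact ‹RingHom.FaithfullyFlat _›.injective
  apply hinj
  rw [map_zero]
  have h1 := Scheme.Hom.germ_stalkMap_apply f U x hy a
  have ha' : (ConcreteCategory.hom (f.app U)) a = 0 := ha
  rw [ha', map_zero] at h1
  exact h1

/-- a flat surjective morphism is schematically dominant -/
theorem ker_eq_bot_of_flat_of_surjective {X Y : Scheme.{u}} (f : X ⟶ Y) [Flat f] [Surjective f] :
    f.ker = ⊥ := by
  rw [eq_bot_iff]
  intro U
  rw [Scheme.IdealSheafData.ideal_bot, Pi.bot_apply]
  exact (f.ideal_ker_le U).trans
    (le_of_eq ((RingHom.injective_iff_ker_eq_bot _).1 (app_injective_of_flat_of_surjective f U.1)))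

variable {Q P : Scheme.{u}} (g : Q ⟶ P)

/-- pulling back and pushing forward an ideal sheaf along a flat surjective morphism -/
theorem map_comap_of_flat_of_surjective [Flat g] [Surjective g] (J : P.IdealSheafData) :
    (J.comap g).map g = J := by
  -- `V(J) ×_P Q → V(J)` is flat and surjective
  have h1 : (J.comap g).subschemeι ≫ g =
      ((J.comapIso g).hom ≫ pullback.snd g J.subschemeι) ≫ J.subschemeι := by
    rw [Category.assoc, ← pullback.condition, ← Category.assoc,
      Scheme.IdealSheafData.comapIso_hom_fst]
  haveI : Flat ((J.comapIso g).hom ≫ pullback.snd g J.subschemeι) := inferInstance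
  haveI : Surjective ((J.comapIso g).hom ≫ pullback.snd g J.subschemeι) := inferInstance
  change ((J.comap g).subschemeι ≫ g).ker = J
  rw [h1, Scheme.Hom.ker_comp, ker_eq_bot_of_flat_of_surjective, Scheme.IdealSheafData.map_bot,
    Scheme.IdealSheafData.ker_subschemeι]

/-- **descent of an ideal sheaf along a flat quasi-compact morphism**: an ideal with equal
pullbacks to the fibre square is the pullback of its push forward -/
theorem comap_map_of_descent [Flat g] [QuasiCompact g] (I : Q.IdealSheafData)
    (h : I.comap (pullback.fst g g) = I.comap (pullback.snd g g)) :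
    (I.map g).comap g = I := by
  apply le_antisymm (Scheme.IdealSheafData.comap_map_le I g)
  -- base change of `V(I) → Q → P` along `g`
  have sq : IsPullback (pullback.snd (pullback.fst g g) I.subschemeι)
      (pullback.fst (pullback.fst g g) I.subschemeι ≫ pullback.snd g g)
      (I.subschemeι ≫ g) g :=
    (IsPullback.of_hasPullback (pullback.fst g g) I.subschemeι).flip.paste_vert
      (IsPullback.of_hasPullback g g)
  have key := Groth.Agent.Lead.KerProd.ker_of_isPullback_of_flat (I.subschemeι ≫ g) g _ _ sq
  have h2 : (I.map g).comap g = (I.comap (pullback.fst g g)).map (pullback.snd g g) := by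
    change ((I.subschemeι ≫ g).ker).comap g = _
    rw [← key, Scheme.Hom.ker_comp]
    rfl
  rw [h2, h]
  exact Scheme.IdealSheafData.le_map_comap I (pullback.snd g g)

theorem existsUnique_descent [Flat g] [Surjective g] [QuasiCompact g] (I : Q.IdealSheafData)
    (h : I.comap (pullback.fst g g) = I.comap (pullback.snd g g)) :
    ∃! J : P.IdealSheafData, J.comap g = I := by
  refine ⟨I.map g, comap_map_of_descent g I h, ?_⟩
  intro J hJ
  rw [← hJ, map_comap_of_flat_of_surjective]

end Groth.Agent.Lead.IdealDesc
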