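import Mathlib
import Groth.Prelude.Def_HilbD
import Groth.Agent.Lib.Lead.HilbAPI1
import Groth.Agent.Lib.Lead.HilbSep1
import Groth.Agent.Lib.Lead.IdealDesc1
import Groth.Agent.Lib.Lead.FpqcProp1

/-!
# The Hilbert functor of points is an fpqc sheaf (single covering) (lead)
-/

set_option backward.isDefEq.respectTransparency.types false
set_option synthInstance.maxHeartbeats 400000
set_option autoImplicit false
set_option linter.unusedSectionVars false
set_option linter.style.haveILetI false

universe u
open CategoryTheory CategoryTheory.Limits AlgebraicGeometry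

namespace Groth.Agent.Lead.HilbFpqc

open Groth.Agent.Lead.HilbAPI Groth.Agent.Lead.HilbSep Groth.Agent.Lead.IdealDesc

variable {X S : Scheme.{u}} (f : X ⟶ S) (T : Over S) {T' : Scheme.{u}} (g : T' ⟶ T.left)

/-- the fibre square of the base change of a covering -/
theorem isPullback_overlap :
    IsPullback (PicF.XTmap f (HilbD.overlapFst T g)) (PicF.XTmap f (HilbD.overlapSnd T g))
      (PicF.XTmap f (HilbD.coverHom T g)) (PicF.XTmap f (HilbD.coverHom T g)) := by
  have a := isPullback_XTmap f (HilbD.overlapFst T g)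
  have b := isPullback_XTmap f (HilbD.coverHom T g)
  have c : IsPullback (pullback.fst g g) (pullback.snd g g) g g := IsPullback.of_hasPullback g g
  have d := XTmap_snd f (HilbD.overlapSnd T g)
  have hc : HilbD.overlapFst T g ≫ HilbD.coverHom T g =
      HilbD.overlapSnd T g ≫ HilbD.coverHom T g := by
    apply Over.OverMorphism.ext
    exact pullback.condition
  have e : PicF.XTmap f (HilbD.overlapSnd T g) ≫ PicF.XTmap f (HilbD.coverHom T g) =
      PicF.XTmap f (HilbD.overlapFst T g) ≫ PicF.XTmap f (HilbD.coverHom T g) := by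
    rw [← XTmap_comp, ← XTmap_comp, hc]
  have outer : IsPullback
      (PicF.XTmap f (HilbD.overlapSnd T g) ≫ PicF.XTproj f (HilbD.coverOver T g))
      (PicF.XTmap f (HilbD.overlapFst T g)) g
      (PicF.XTmap f (HilbD.coverHom T g) ≫ PicF.XTproj f T) := by
    have h1 : PicF.XTmap f (HilbD.overlapSnd T g) ≫ PicF.XTproj f (HilbD.coverOver T g) =
        PicF.XTproj f (HilbD.overlapOver T g) ≫ pullback.snd g g := d
    have h2 : PicF.XTmap f (HilbD.coverHom T g) ≫ PicF.XTproj f T =
        PicF.XTproj f (HilbD.coverOver T g) ≫ g := b.w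
    rw [h1, h2]
    exact a.flip.paste_horiz c.flip
  exact (IsPullback.of_right outer e b.flip).flip

/-- **fpqc descent for the Hilbert functor of points along a single covering** -/
theorem main (d : ℕ) [QuasiCompact g] [Flat g] [Surjective g]
    (Z' : HilbD.Obj f d (HilbD.coverOver T g))
    (hZ' : HilbD.pull f (HilbD.overlapFst T g) Z'.1 = HilbD.pull f (HilbD.overlapSnd T g) Z'.1) :
    ∃! I : (PicF.XT f T).IdealSheafData,
      Mor2.IsFinLocFreeOfDeg d (I.subschemeι ≫ PicF.XTproj f T) ∧
        HilbD.pull f (HilbD.coverHom T g) I = Z'.1 := by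
  let G := PicF.XTmap f (HilbD.coverHom T g)
  have b : IsPullback G (PicF.XTproj f (HilbD.coverOver T g)) (PicF.XTproj f T) g :=
    isPullback_XTmap f (HilbD.coverHom T g)
  haveI : Flat G := MorphismProperty.of_isPullback (P := @Flat) b.flip inferInstance
  haveI : Surjective G := MorphismProperty.of_isPullback (P := @Surjective) b.flip inferInstance
  haveI : QuasiCompact G := MorphismProperty.of_isPullback (P := @QuasiCompact) b.flip inferInstance
  have sq := isPullback_overlap f T g
  -- the descent condition on the fibre square of `G`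
  have hdesc : Z'.1.comap (pullback.fst G G) = Z'.1.comap (pullback.snd G G) := by
    rw [pull_eq_comap, pull_eq_comap] at hZ'
    obtain ⟨e, h1, h2⟩ : ∃ e : PicF.XT f (HilbD.overlapOver T g) ≅ pullback G G,
        PicF.XTmap f (HilbD.overlapFst T g) = e.hom ≫ pullback.fst G G ∧
        PicF.XTmap f (HilbD.overlapSnd T g) = e.hom ≫ pullback.snd G G :=
      ⟨sq.isoPullback, sq.isoPullback_hom_fst.symm, sq.isoPullback_hom_snd.symm⟩
    rw [h1, h2, Scheme.IdealSheafData.comap_comp, Scheme.IdealSheafData.comap_comp] at hZ'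
    exact comap_iso_injective _ _ _ hZ'
  have hI : (Z'.1.map G).comap G = Z'.1 := comap_map_of_descent G Z'.1 hdesc
  refine ⟨Z'.1.map G, ⟨?_, by rw [pull_eq_comap]; exact hI⟩, ?_⟩
  · -- finite locally free of degree `d` descends
    set I := Z'.1.map G with hIdef
    have hZ2 := Z'.2
    rw [← hI] at hZ2
    obtain ⟨⟨h1, h2, h3⟩, h4⟩ := hZ2
    have sqI : IsPullback (pullback.snd G I.subschemeι)
        (pullback.fst G I.subschemeι ≫ PicF.XTproj f (HilbD.coverOver T g))
        (I.subschemeι ≫ PicF.XTproj f T) g :=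
      (IsPullback.of_hasPullback G I.subschemeι).flip.paste_vert b
    have e1 : (I.comap G).subschemeι ≫ PicF.XTproj f (HilbD.coverOver T g) =
        (I.comapIso G).hom ≫
          (pullback.fst G I.subschemeι ≫ PicF.XTproj f (HilbD.coverOver T g)) := by
      rw [← Category.assoc, Scheme.IdealSheafData.comapIso_hom_fst]
    rw [e1] at h1 h2 h3 h4
    have hQ : (@Surjective ⊓ @Flat ⊓ @QuasiCompact : MorphismProperty Scheme.{u}) g :=
      ⟨⟨inferInstance, inferInstance⟩, inferInstance⟩
    have k1 : IsFinite (pullback.fst G I.subschemeι ≫ PicF.XTproj f (HilbD.coverOver T g)) :=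
      (MorphismProperty.cancel_left_of_respectsIso @IsFinite _ _).1 h1
    have k2 : Flat (pullback.fst G I.subschemeι ≫ PicF.XTproj f (HilbD.coverOver T g)) :=
      (MorphismProperty.cancel_left_of_respectsIso @Flat _ _).1 h2
    have k3 : LocallyOfFinitePresentation
        (pullback.fst G I.subschemeι ≫ PicF.XTproj f (HilbD.coverOver T g)) :=
      (MorphismProperty.cancel_left_of_respectsIso @LocallyOfFinitePresentation _ _).1 h3
    haveI m1 : IsFinite (I.subschemeι ≫ PicF.XTproj f T) :=
      MorphismProperty.of_isPullback_of_descendsAlong (P := @IsFinite)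
        (Q := @Surjective ⊓ @Flat ⊓ @QuasiCompact) sqI.flip hQ k1
    haveI m2 : Flat (I.subschemeι ≫ PicF.XTproj f T) :=
      MorphismProperty.of_isPullback_of_descendsAlong (P := @Flat)
        (Q := @Surjective ⊓ @Flat ⊓ @QuasiCompact) sqI.flip hQ k2
    haveI m3 : LocallyOfFinitePresentation (I.subschemeι ≫ PicF.XTproj f T) :=
      MorphismProperty.of_isPullback_of_descendsAlong (P := @LocallyOfFinitePresentation)
        (Q := @Surjective ⊓ @Flat ⊓ @QuasiCompact) sqI.flip hQ k3
    refine ⟨⟨m1, m2, m3⟩, fun y => ?_⟩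
    obtain ⟨y', rfl⟩ := ‹Surjective g›.surj y
    haveI := k1
    haveI := k2
    haveI := k3
    have hfr := Scheme.Hom.finrank_of_isPullback _ _ _ _ sqI y'
    rw [← hfr]
    have h5 := h4 y'
    rw [Scheme.Hom.finrank_comp_left_of_isIso] at h5
    exact h5
  · rintro J ⟨-, hJ⟩
    rw [pull_eq_comap] at hJ
    rw [← hJ, map_comap_of_flat_of_surjective]

end Groth.Agent.Lead.HilbFpqc
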