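import Mathlib
import Groth.Prelude.Def_HilbD

set_option autoImplicit false

open CategoryTheory CategoryTheory.Limits AlgebraicGeometry

namespace Groth.Agent.Lead.HilbOne
universe u

section cat
variable {C : Type*} [Category C] [HasPullbacks C]

set_option backward.isDefEq.respectTransparency false in
lemma graph_isPullback {X S T : C} (f : X ⟶ S) (t : T ⟶ S) (g : T ⟶ X) (hg : g ≫ f = t) :
    IsPullback g (pullback.lift g (𝟙 T) (by simp [hg])) (pullback.diagonal f)
      (pullback.map f t f f (𝟙 X) g (𝟙 S) (by simp) (by simp [hg])) := by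
  have hcomm : g ≫ pullback.diagonal f = pullback.lift g (𝟙 T) (by simp [hg]) ≫
      pullback.map f t f f (𝟙 X) g (𝟙 S) (by simp) (by simp [hg]) := by
    apply pullback.hom_ext
    · simp
    · simp
      exact (Category.id_comp g).symm
  have key1 : ∀ s : PullbackCone (pullback.diagonal f)
      (pullback.map f t f f (𝟙 X) g (𝟙 S) (by simp) (by simp [hg])),
      s.fst = s.snd ≫ pullback.snd f t ≫ g := fun s => by
    have h := s.condition =≫ pullback.snd f f
    simpa using h
  have key2 : ∀ s : PullbackCone (pullback.diagonal f)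
      (pullback.map f t f f (𝟙 X) g (𝟙 S) (by simp) (by simp [hg])),
      s.fst = s.snd ≫ pullback.fst f t := fun s => by
    have h := s.condition =≫ pullback.fst f f
    simpa using h
  refine IsPullback.of_isLimit (PullbackCone.IsLimit.mk hcomm
    (fun s => s.snd ≫ pullback.snd f t) (fun s => ?_) (fun s => ?_) (fun s m h1 h2 => ?_))
  · rw [Category.assoc, ← key1 s]
  · apply pullback.hom_ext
    · simp only [Category.assoc, pullback.lift_fst]
      rw [← key1 s, key2 s]
    · simp
  · have h := h2 =≫ pullback.snd f t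
    simpa using h

end cat

variable {X S : Scheme.{u}} (f : X ⟶ S)

/-- the graph section -/
noncomputable def gr (T : Over S) (x : T.left ⟶ X) (hx : x ≫ f = T.hom) :
    T.left ⟶ PicF.XT f T :=
  pullback.lift x (𝟙 T.left) (by simpa using hx)

set_option backward.isDefEq.respectTransparency false in
@[reassoc (attr := simp)]
lemma gr_fst (T : Over S) (x : T.left ⟶ X) (hx : x ≫ f = T.hom) :
    gr f T x hx ≫ pullback.fst f T.hom = x := by simp [gr]

set_option backward.isDefEq.respectTransparency false in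
@[reassoc (attr := simp)]
lemma gr_snd (T : Over S) (x : T.left ⟶ X) (hx : x ≫ f = T.hom) :
    gr f T x hx ≫ pullback.snd f T.hom = 𝟙 _ := by simp [gr]

lemma gr_isPullback (T : Over S) (x : T.left ⟶ X) (hx : x ≫ f = T.hom) :
    IsPullback x (gr f T x hx) (pullback.diagonal f)
      (PicF.XTmap f (T := Over.mk f) (T' := T) (Over.homMk (U := T) (V := Over.mk f) x hx)) := by
  unfold PicF.XTmap gr
  exact graph_isPullback f T.hom x hx

instance gr_closed [IsSeparated f] (T : Over S) (x : T.left ⟶ X) (hx : x ≫ f = T.hom) :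
    IsClosedImmersion (gr f T x hx) :=
  MorphismProperty.of_isPullback (P := @IsClosedImmersion)
    (gr_isPullback f T x hx) inferInstance

lemma pull_diag_ker [IsSeparated f] (T : Over S) (x : T.left ⟶ X) (hx : x ≫ f = T.hom) :
    HilbD.pull f (T := Over.mk f) (T' := T) (Over.homMk (U := T) (V := Over.mk f) x hx)
      (pullback.diagonal f).ker =
      (gr f T x hx).ker := by
  unfold HilbD.pull
  have hpb := gr_isPullback f T x hx
  have hpb2 : IsPullback (x ≫ (pullback.diagonal f).toImage) (gr f T x hx)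
      (pullback.diagonal f).ker.subschemeι
      (PicF.XTmap f (T := Over.mk f) (T' := T) (Over.homMk (U := T) (V := Over.mk f) x hx)) := by
    refine IsPullback.of_iso hpb (Iso.refl _) (asIso (pullback.diagonal f).toImage) (Iso.refl _)
      (Iso.refl _) ?_ ?_ ?_ ?_ <;> simp
  have h1 : (gr f T x hx).ker =
      (hpb2.isoPullback.hom ≫ pullback.snd _ _).ker := by
    rw [hpb2.isoPullback_hom_snd]
  rw [h1, Scheme.Hom.ker_comp_of_isIso]

lemma univ_aux [IsSeparated f] (T : Over S) (I' : (PicF.XT f T).IdealSheafData)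
    (h : Mor2.IsFinLocFreeOfDeg 1 (I'.subschemeι ≫ PicF.XTproj f T)) :
    ∃! g : T ⟶ Over.mk f, HilbD.pull f g (pullback.diagonal f).ker = I' := by
  obtain ⟨⟨hfin, hflat, hfp⟩, hrank⟩ := h
  have hiso : IsIso (I'.subschemeι ≫ PicF.XTproj f T) :=
    (Scheme.Hom.isIso_iff_finrank_eq (f := I'.subschemeι ≫ PicF.XTproj f T)).mpr (funext hrank)
  obtain ⟨s, hs_snd, hsker⟩ : ∃ s : T.left ⟶ PicF.XT f T,
      s ≫ pullback.snd f T.hom = 𝟙 _ ∧ s.ker = I' := by
    refine ⟨inv (I'.subschemeι ≫ PicF.XTproj f T) ≫ I'.subschemeι, ?_, ?_⟩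
    · rw [Category.assoc]
      exact IsIso.inv_hom_id (I'.subschemeι ≫ PicF.XTproj f T)
    · rw [Scheme.Hom.ker_comp_of_isIso, Scheme.IdealSheafData.ker_subschemeι]
  have hg₀ : (s ≫ pullback.fst f T.hom) ≫ f = T.hom := by
    rw [Category.assoc, pullback.condition, ← Category.assoc, hs_snd, Category.id_comp]
  have hs_gr : gr f T (s ≫ pullback.fst f T.hom) hg₀ = s := by
    apply pullback.hom_ext
    · exact gr_fst f T _ hg₀
    · rw [gr_snd, hs_snd]
  have hex : HilbD.pull f (T := Over.mk f) (T' := T)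
      (Over.homMk (U := T) (V := Over.mk f) (s ≫ pullback.fst f T.hom) hg₀)
      (pullback.diagonal f).ker = I' := by
    rw [pull_diag_ker, hs_gr, hsker]
  refine ⟨_, hex, ?_⟩
  · intro g' hg'
    obtain ⟨x, hx, rfl⟩ : ∃ (x : T.left ⟶ X) (hx : x ≫ f = T.hom),
        g' = Over.homMk (U := T) (V := Over.mk f) x hx :=
      ⟨g'.left, Over.w g', (Over.homMk_eta g' (Over.w g')).symm⟩
    have hg'' : HilbD.pull f (T := Over.mk f) (T' := T)
        (Over.homMk (U := T) (V := Over.mk f) x hx)
        (pullback.diagonal f).ker = I' := hg'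
    rw [pull_diag_ker] at hg''
    have hle : (gr f T x hx).ker ≤ s.ker := by rw [hg'', hsker]
    have hfac := IsClosedImmersion.lift_fac (gr f T x hx) s hle
    have hφ : IsClosedImmersion.lift (gr f T x hx) s hle = 𝟙 _ := by
      have h2 := hfac =≫ pullback.snd f T.hom
      rw [Category.assoc, hs_snd, gr_snd] at h2
      simpa using h2
    rw [hφ, Category.id_comp] at hfac
    have h3 := hfac =≫ pullback.fst f T.hom
    rw [gr_fst] at h3
    subst h3
    rfl

theorem main [IsSeparated f] :
    ∃ Δ : HilbD.Obj f 1 (Over.mk f),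
      Δ.1 = HilbD.secGraph f (Over.mk f) (𝟙 X) (Category.id_comp f) ∧
      HilbD.IsUniversal f 1 (Over.mk f) Δ := by
  have hsec : HilbD.secGraph f (Over.mk f) (𝟙 X) (Category.id_comp f) =
      (pullback.diagonal f).ker := rfl
  have hdeg : Mor2.IsFinLocFreeOfDeg 1
      ((pullback.diagonal f).ker.subschemeι ≫ PicF.XTproj f (Over.mk f)) := by
    have e : (pullback.diagonal f).ker.subschemeι ≫ PicF.XTproj f (Over.mk f) =
        inv (pullback.diagonal f).toImage := by
      rw [← cancel_epi (pullback.diagonal f).toImage]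
      rw [IsIso.hom_inv_id, Scheme.Hom.toImage_imageι_assoc]
      exact pullback.diagonal_snd f
    rw [e]
    refine ⟨⟨inferInstance, inferInstance, inferInstance⟩, fun y => ?_⟩
    rw [Scheme.Hom.finrank_eq_one_of_isIso]; rfl
  refine ⟨⟨(pullback.diagonal f).ker, hdeg⟩, hsec.symm, ?_⟩
  intro T Z'
  exact univ_aux f T Z'.1 Z'.2

end Groth.Agent.Lead.HilbOne
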