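import Mathlib
import Groth.Prelude.Def_HilbD
import Groth.Agent.Lib.Lead.HilbAPI1
import Groth.Agent.Lib.Lead.HilbSep1

set_option backward.isDefEq.respectTransparency.types false
set_option synthInstance.maxHeartbeats 400000
set_option autoImplicit false
set_option linter.unusedSectionVars false
set_option linter.style.haveILetI false

universe u
open CategoryTheory CategoryTheory.Limits AlgebraicGeometry

namespace Groth.Agent.Lead.HilbSep

open Groth.Agent.Lead.HilbAPI Groth.Agent.Lead.LeLocus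

variable {X S : Scheme.{u}} (f : X ⟶ S)

/-- **a scheme representing the Hilbert functor of points is separated over the base** -/
theorem isSeparated_of_isUniversal (d : ℕ) (H : Over S) (Z : HilbD.Obj f d H)
    (hZ : HilbD.IsUniversal f d H Z) : IsSeparated H.hom := by
  let P : Over S := Over.mk (pullback.fst H.hom H.hom ≫ H.hom)
  let p₁ : P ⟶ H := Over.homMk (pullback.fst H.hom H.hom) rfl
  let p₂ : P ⟶ H := Over.homMk (pullback.snd H.hom H.hom) pullback.condition.symm
  have hI₁ := pull_isFinLocFreeOfDeg f p₁ d Z.1 Z.2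
  have hI₂ := pull_isFinLocFreeOfDeg f p₂ d Z.1 Z.2
  haveI := hI₁.1.1
  haveI := hI₁.1.2.1
  haveI := hI₁.1.2.2
  haveI := hI₂.1.1
  haveI := hI₂.1.2.1
  haveI := hI₂.1.2.2
  let 𝓔 := eqIdeal f P (HilbD.pull f p₁ Z.1) (HilbD.pull f p₂ Z.1)
  have key : ∀ {T' : Over S} (m : T' ⟶ P),
      (∃ t : T'.left ⟶ 𝓔.subscheme, t ≫ 𝓔.subschemeι = m.left) ↔ m ≫ p₁ = m ≫ p₂ := by
    intro T' m
    rw [factors_eqIdeal_iff, ← pull_comp, ← pull_comp]
    constructor
    · intro h
      obtain ⟨g, -, hg⟩ := hZ T' ⟨HilbD.pull f (m ≫ p₁) Z.1,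
        pull_isFinLocFreeOfDeg f (m ≫ p₁) d Z.1 Z.2⟩
      exact (hg _ rfl).trans (hg _ h.symm).symm
    · intro h
      rw [h]
  -- the diagonal factors through the equalizer locus
  let Δm : H ⟶ P := Over.homMk (pullback.diagonal H.hom) (by
    change pullback.diagonal H.hom ≫ pullback.fst H.hom H.hom ≫ H.hom = H.hom
    rw [pullback.diagonal_fst_assoc])
  obtain ⟨δ, hδ⟩ := (key Δm).2 (by
    apply Over.OverMorphism.ext
    change pullback.diagonal H.hom ≫ pullback.fst H.hom H.hom =
      pullback.diagonal H.hom ≫ pullback.snd H.hom H.hom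
    rw [pullback.diagonal_fst, pullback.diagonal_snd])
  -- the two projections agree on the equalizer locus
  let ιm : Over.mk (𝓔.subschemeι ≫ P.hom) ⟶ P := Over.homMk 𝓔.subschemeι rfl
  have hι : 𝓔.subschemeι ≫ pullback.fst H.hom H.hom = 𝓔.subschemeι ≫ pullback.snd H.hom H.hom :=
    congrArg (fun m => m.left) ((key ιm).1 ⟨𝟙 _, Category.id_comp _⟩)
  have hδ' : δ ≫ 𝓔.subschemeι = pullback.diagonal H.hom := hδ
  haveI : IsIso δ := by
    refine ⟨𝓔.subschemeι ≫ pullback.fst H.hom H.hom, ?_, ?_⟩
    · rw [← Category.assoc, hδ', pullback.diagonal_fst]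
    · rw [← cancel_mono 𝓔.subschemeι, Category.assoc, hδ', Category.id_comp]
      apply pullback.hom_ext
      · rw [Category.assoc, Category.assoc, pullback.diagonal_fst, Category.comp_id]
      · rw [Category.assoc, Category.assoc, pullback.diagonal_snd, Category.comp_id, hι]
  refine ⟨?_⟩
  rw [← hδ']
  infer_instance

end Groth.Agent.Lead.HilbSep
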