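import Mathlib
import Groth.Prelude.Def_LefMon
import Groth.Agent.Lib.Helper9.FE.HpullCompId

set_option backward.isDefEq.respectTransparency.types false
set_option autoImplicit false
set_option synthInstance.maxHeartbeats 400000
set_option linter.style.haveILetI false
set_option linter.unusedSectionVars false

universe u

open CategoryTheory CategoryTheory.Limits AlgebraicGeometry Opposite Abelian

namespace Groth.Agent.Lead.HmapComp

variable {X Y Z : Scheme.{u}}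

theorem HF_map_apply (n : ℕ) {G G' : EtCoh.Ab X} (g : G ⟶ G') (β : EtCoh.H X G n) :
    ((EtCoh.HF X n).map g).hom β = β.comp (Ext.mk₀ g) (add_zero n) := rfl

theorem Hpull_apply (a : X ⟶ Y) [PreservesFiniteLimits (EtCoh.pull a)] (G : EtCoh.Ab Y) (n : ℕ)
    (β : EtCoh.H Y G n) :
    EtCore.Hpull a G n β =
      (Ext.mk₀ (EtCore.pullConst a ℤ).inv).comp (β.mapExactFunctor (EtCoh.pull a)) (zero_add n) := rfl

theorem Hpull_natural (a : X ⟶ Y) [PreservesFiniteLimits (EtCoh.pull a)] {G G' : EtCoh.Ab Y}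
    (g : G ⟶ G') (n : ℕ) (β : EtCoh.H Y G n) :
    EtCore.Hpull a G' n (((EtCoh.HF Y n).map g).hom β) =
      ((EtCoh.HF X n).map ((EtCoh.pull a).map g)).hom (EtCore.Hpull a G n β) := by
  rw [HF_map_apply, HF_map_apply, Hpull_apply, Hpull_apply, Ext.mapExactFunctor_comp,
    Ext.mapExactFunctor_mk₀, Ext.comp_assoc_of_third_deg_zero]

theorem pullConst_comp (a : X ⟶ Y) (b : Y ⟶ Z) (M : Type) [AddCommGroup M] :
    (EtCore.pullConst (a ≫ b) M).hom =
      (EtCore.pullComp a b).hom.app (EtCoh.const Z M) ≫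
        (EtCoh.pull a).map (EtCore.pullConst b M).hom ≫ (EtCore.pullConst a M).hom :=
  H9FE.HpullCompId.pullConstIso_comp a b (AddCommGrpCat.of (ULift.{u+1} M))

theorem Hmap_comp' (ℓ : ℕ) (a : X ⟶ Y) (b : Y ⟶ Z)
    (ha : PreservesFiniteLimits (EtCoh.pull a)) (hb : PreservesFiniteLimits (EtCoh.pull b))
    (hab : PreservesFiniteLimits (EtCoh.pull (a ≫ b))) (i ν : ℕ) (x : EtAdic.Hmod Z ℓ i ν) :
    EtAdic.Hmap ℓ (a ≫ b) hab i ν x = EtAdic.Hmap ℓ a ha i ν (EtAdic.Hmap ℓ b hb i ν x) := by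
  haveI := ha
  haveI := hb
  haveI := hab
  change ((EtCoh.HF X i).map (EtCore.pullConst (a ≫ b) (ZMod (ℓ ^ ν))).hom).hom
      (EtCore.Hpull (a ≫ b) (EtCoh.const Z (ZMod (ℓ ^ ν))) i x) =
    ((EtCoh.HF X i).map (EtCore.pullConst a (ZMod (ℓ ^ ν))).hom).hom
      (EtCore.Hpull a (EtCoh.const Y (ZMod (ℓ ^ ν))) i
        (((EtCoh.HF Y i).map (EtCore.pullConst b (ZMod (ℓ ^ ν))).hom).hom
          (EtCore.Hpull b (EtCoh.const Z (ZMod (ℓ ^ ν))) i x)))
  rw [Hpull_natural, H9FE.HpullCompId.Hpull_comp a b, pullConst_comp]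
  set y := EtCore.Hpull a _ i (EtCore.Hpull b (EtCoh.const Z (ZMod (ℓ ^ ν))) i x)
  rw [HF_map_apply, HF_map_apply, HF_map_apply, HF_map_apply, Ext.comp_assoc_of_third_deg_zero,
    Ext.comp_assoc_of_third_deg_zero, Ext.mk₀_comp_mk₀, Ext.mk₀_comp_mk₀]
  congr 2
  rw [← Category.assoc, ← Category.assoc, ← NatTrans.comp_app, Iso.inv_hom_id]
  simp

theorem Hmap_comp (ℓ : ℕ) (a : X ⟶ Y) (b : Y ⟶ Z) (h : X ⟶ Z) (w : a ≫ b = h)
    (ha : PreservesFiniteLimits (EtCoh.pull a)) (hb : PreservesFiniteLimits (EtCoh.pull b))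
    (hh : PreservesFiniteLimits (EtCoh.pull h)) (i ν : ℕ) (x : EtAdic.Hmod Z ℓ i ν) :
    EtAdic.Hmap ℓ h hh i ν x = EtAdic.Hmap ℓ a ha i ν (EtAdic.Hmap ℓ b hb i ν x) := by
  subst w
  exact Hmap_comp' ℓ a b ha hb hh i ν x

end Groth.Agent.Lead.HmapComp
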