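import Mathlib
import Groth.Prelude.Def_LefMon
import Groth.Agent.Lib.Lead.HmapComp
import Groth.Agent.S0101

set_option backward.isDefEq.respectTransparency.types false
set_option autoImplicit false
set_option synthInstance.maxHeartbeats 400000
set_option linter.style.haveILetI false
set_option linter.unusedSectionVars false

universe u
open CategoryTheory CategoryTheory.Limits MonoidalCategory CartesianMonoidalCategory MonObj GrpObj AlgebraicGeometry
open EtAdic

namespace Groth.Agent.Lead.HmapComp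

theorem main14758 (k : Type u) [Field k] (ℓ ν r : ℕ)
    (G G' : Over (Spec (CommRingCat.of k))) [GrpObj G] [GrpObj G'] [IsCommMonObj G] [IsCommMonObj G']
    (φ ψ : G ⟶ G') [IsMonHom φ] [IsMonHom ψ]
    [hm : PreservesFiniteLimits (EtCoh.pull (μ[G']).left)]
    [h1 : PreservesFiniteLimits (EtCoh.pull (fst G' G').left)]
    [h2 : PreservesFiniteLimits (EtCoh.pull (snd G' G').left)]
    [hφ : PreservesFiniteLimits (EtCoh.pull φ.left)] [hψ : PreservesFiniteLimits (EtCoh.pull ψ.left)]
    [hs : PreservesFiniteLimits (EtCoh.pull (φ * ψ).left)]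
    (x : EtAdic.Hmod G'.left ℓ r ν)
    (hx : EtAdic.Hmap ℓ (μ[G']).left hm r ν x =
      EtAdic.Hmap ℓ (fst G' G').left h1 r ν x + EtAdic.Hmap ℓ (snd G' G').left h2 r ν x) :
    EtAdic.Hmap ℓ (φ * ψ).left hs r ν x = EtAdic.Hmap ℓ φ.left hφ r ν x + EtAdic.Hmap ℓ ψ.left hψ r ν x := by
  have hl : PreservesFiniteLimits (EtCoh.pull (lift φ ψ).left) := Groth.Agent.S0101.result _
  have e0 : (lift φ ψ).left ≫ (μ[G']).left = (φ * ψ).left := by
    rw [← Over.comp_left]; rfl
  have e1 : (lift φ ψ).left ≫ (fst G' G').left = φ.left := by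
    rw [← Over.comp_left, lift_fst]
  have e2 : (lift φ ψ).left ≫ (snd G' G').left = ψ.left := by
    rw [← Over.comp_left, lift_snd]
  rw [Hmap_comp ℓ _ _ _ e0 hl hm hs, hx, map_add, ← Hmap_comp ℓ _ _ _ e1 hl h1 hφ,
    ← Hmap_comp ℓ _ _ _ e2 hl h2 hψ]

end Groth.Agent.Lead.HmapComp
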