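import Mathlib
import Groth.Prelude
import Groth.Agent.Lib.Helper2.HomExt.HomOCoh
import Groth.Agent.Lib.Helper2.HomExt.Model
import Groth.Agent.Lib.Lead.RH3
import Groth.Agent.Lib.Lead.RH5
import Groth.Agent.Lib.Helper1.IdealModL
import Groth.Agent.S1178

/-!
# `i_* i^!` of a quasi-coherent module along a finitely presented closed immersion (lead)
-/

set_option backward.isDefEq.respectTransparency.types false
set_option autoImplicit false
set_option synthInstance.maxHeartbeats 400000
set_option maxHeartbeats 1000000
set_option linter.style.haveILetI false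
set_option linter.unusedSectionVars false
set_option linter.unusedVariables false
universe u

namespace Groth.Agent.Lead.HomOQc

open CategoryTheory CategoryTheory.Limits AlgebraicGeometry
open Groth.Agent.Helper2.HomExt Groth.Agent.Helper2.HomExt.ChangeRings

theorem S9836_main {Z X : Scheme.{u}} (i : Z ⟶ X)
    [IsClosedImmersion i] [LocallyOfFinitePresentation i] [Dual3.HasHomO i] (F : X.Modules)
    [Coh.IsQCoh F] :
    Coh.IsQCoh ((Scheme.Modules.pushforward i).obj ((Dual3.homO i).obj F)) := by
  haveI h1 : ModSite.HasSheafHom (O := Z.sheaf) (ModSite.unit Z.sheaf) :=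
    Groth.Agent.Helper3.SHomEx.hasSheafHom _
  haveI h2 : ModSite.HasSheafHom (O := X.sheaf) ((push i).obj (ModSite.unit Z.sheaf)) :=
    Groth.Agent.Helper3.SHomEx.hasSheafHom _
  have hE : CohB1.IsFP ((push i).obj (ModSite.unit Z.sheaf)) := by
    haveI : (Coh.structureModule Z).IsQuasicoherent :=
      Groth.Agent.Helper1.IdealModL.isQuasicoherent_structureModule
    exact (Groth.Agent.S1178.result i (Coh.structureModule Z)).mp
      (Groth.Agent.Lead.RH.isFP_structureModule Z)
  haveI : F.IsQuasicoherent := ‹Coh.IsQCoh F›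
  haveI hq : (RefHull.homSh ((push i).obj (ModSite.unit Z.sheaf)) F).IsQuasicoherent :=
    Groth.Agent.Lead.RH.isQuasicoherent_homSh hE
  have e1 := (ishPushIso i).app F
  have e2 := modelIso ((push i).obj (ModSite.unit Z.sheaf)) F
  exact Groth.Agent.Helper1.QcAbel.isQuasicoherent_of_iso (e2 ≪≫ e1.symm)

end Groth.Agent.Lead.HomOQc
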