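import Mathlib
import Groth.Prelude.Def_Coh
import Groth.Agent.Lib.Lead.HartogsNI
import Groth.Agent.Lib.Helper6.Normal.IntClosedIn
import Groth.Agent.Lib.Helper4.HomHartogs

/-!
# Restriction of `Hom(M~, O)` to an open of an affine scheme (lead)
-/

set_option backward.isDefEq.respectTransparency.types false
set_option autoImplicit false
set_option linter.style.haveILetI false
universe u
open CategoryTheory CategoryTheory.Limits AlgebraicGeometry TopologicalSpace Opposite

namespace Groth.Agent.Lead.HomTil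

theorem tilde_hom_ext {R : CommRingCat.{u}} (M : ModuleCat.{u} R) (E : (Spec R).Modules)
    (φ ψ : tilde M ⟶ E) (h : ∀ s : Γ(tilde M, ⊤), φ.app ⊤ s = ψ.app ⊤ s) : φ = ψ := by
  apply ((tilde.adjunction (R := R)).homEquiv M E).injective
  rw [Adjunction.homEquiv_unit, Adjunction.homEquiv_unit]
  congr 1
  ext s
  exact h s

theorem partA (R : Type u) [CommRing R] (M : ModuleCat.{u} (CommRingCat.of R))
    (U : (Spec (CommRingCat.of R)).Opens)
    (hinj : Function.Injective
      ((Spec (CommRingCat.of R)).presheaf.map (homOfLE (le_top : U ≤ ⊤)).op)) :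
    Function.Injective (fun φ : AlgebraicGeometry.tilde M ⟶
        Coh.structureModule (Spec (CommRingCat.of R)) =>
        (Scheme.Modules.restrictFunctor U.ι).map φ) := by
  intro φ ψ h
  apply tilde_hom_ext
  intro s
  have h1 : ((Scheme.Modules.restrictFunctor U.ι).map φ).app ⊤ =
      ((Scheme.Modules.restrictFunctor U.ι).map ψ).app ⊤ := by
    have h' : (Scheme.Modules.restrictFunctor U.ι).map φ =
        (Scheme.Modules.restrictFunctor U.ι).map ψ := h
    rw [h']
  have h2 : φ.app (U.ι ''ᵁ ⊤) = ψ.app (U.ι ''ᵁ ⊤) := h1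
  have key : ∀ (W : (Spec (CommRingCat.of R)).Opens) (hW : W = U)
      (a b : Γ(Coh.structureModule (Spec (CommRingCat.of R)), ⊤)),
      (Coh.structureModule (Spec (CommRingCat.of R))).presheaf.map
        (homOfLE (le_top : W ≤ ⊤)).op a =
      (Coh.structureModule (Spec (CommRingCat.of R))).presheaf.map
        (homOfLE (le_top : W ≤ ⊤)).op b → a = b := by
    intro W hW
    subst hW
    intro a b hab
    exact hinj hab
  apply key (U.ι ''ᵁ ⊤) (Scheme.Opens.ι_image_top U)
  have n1 := congrArg (fun f => f s) (φ.val.naturality (homOfLE (le_top : U.ι ''ᵁ ⊤ ≤ ⊤)).op)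
  have n2 := congrArg (fun f => f s) (ψ.val.naturality (homOfLE (le_top : U.ι ''ᵁ ⊤ ≤ ⊤)).op)
  have e1 : (Coh.structureModule (Spec (CommRingCat.of R))).presheaf.map
      (homOfLE (le_top : U.ι ''ᵁ ⊤ ≤ ⊤)).op (φ.app ⊤ s) =
      φ.app (U.ι ''ᵁ ⊤) ((AlgebraicGeometry.tilde M).presheaf.map
        (homOfLE (le_top : U.ι ''ᵁ ⊤ ≤ ⊤)).op s) := n1.symm
  have e2 : (Coh.structureModule (Spec (CommRingCat.of R))).presheaf.map
      (homOfLE (le_top : U.ι ''ᵁ ⊤ ≤ ⊤)).op (ψ.app ⊤ s) =
      ψ.app (U.ι ''ᵁ ⊤) ((AlgebraicGeometry.tilde M).presheaf.map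
        (homOfLE (le_top : U.ι ''ᵁ ⊤ ≤ ⊤)).op s) := n2.symm
  rw [e1, e2, h2]

theorem dim_stalk_Spec (R : Type u) [CommRing R] (x : PrimeSpectrum R) :
    ringKrullDim ((Spec (CommRingCat.of R)).presheaf.stalk x) = x.asIdeal.height := by
  exact IsLocalization.AtPrime.ringKrullDim_eq_height x.asIdeal
    ((Spec.structureSheaf R).presheaf.stalk x)

theorem partB (R : Type u) [CommRing R] [IsNoetherianRing R] [IsDomain R] [IsIntegrallyClosed R]
    (M : ModuleCat.{u} (CommRingCat.of R)) (U : (Spec (CommRingCat.of R)).Opens)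
    (hU : ∀ p : PrimeSpectrum R, p ∉ U → (2 : ℕ∞) ≤ p.asIdeal.height) :
    Function.Bijective (fun φ : AlgebraicGeometry.tilde M ⟶
        Coh.structureModule (Spec (CommRingCat.of R)) =>
        (Scheme.Modules.restrictFunctor U.ι).map φ) := by
  have hN : Pi1.IsNormalScheme (Spec (CommRingCat.of R)) :=
    (Groth.Agent.Lib.Helper6.Normal.isNormalScheme_Spec_iff _).mpr
      (Groth.Agent.Lib.Helper6.Normal.isNormalRing_of_isIntegrallyClosed R)
  have hb : ∀ V : (Spec (CommRingCat.of R)).Opens, Function.Bijective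
      ((Coh.structureModule (Spec (CommRingCat.of R))).presheaf.map
        (homOfLE (inf_le_left : V ⊓ U ≤ V)).op) := by
    intro V
    have hcod : ∀ x : (Spec (CommRingCat.of R)), x ∈ V → x ∉ V ⊓ U →
        (2 : WithBot ℕ∞) ≤ ringKrullDim ((Spec (CommRingCat.of R)).presheaf.stalk x) := by
      intro x hxV hxVU
      have hxU : x ∉ U := fun h => hxVU ⟨hxV, h⟩
      have h2 := hU x hxU
      rw [dim_stalk_Spec]
      have h3 : ((2 : ℕ∞) : WithBot ℕ∞) ≤ (x.asIdeal.height : WithBot ℕ∞) := WithBot.coe_le_coe.2 h2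
      exact h3
    exact Groth.Agent.Lead.HartogsNI.hartogs_bijective' hN (A := V) (B := V ⊓ U) inf_le_left hcod
  haveI := Groth.Agent.Lib.Helper4.HomHartogs.isIso_unit_of_bijective _ U hb
  exact Groth.Agent.Lib.Helper4.HomHartogs.map_bijective_of_isIso_unit
    (Scheme.Modules.restrictAdjunction U.ι) _ _

end Groth.Agent.Lead.HomTil
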