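import Mathlib
universe u v
namespace Groth.Agent.Lead.HopfDiag
open TensorProduct WithConv Algebra.TensorProduct

variable (R : Type u) [CommRing R] (A : Type v) [CommRing A] [HopfAlgebra R A]

/-- `a ↦ Σ a₁ ⊗ S a₂` via the convolution group -/
noncomputable def θc : WithConv (A →ₐ[R] A ⊗[R] A) :=
  toConv (includeLeft : A →ₐ[R] A ⊗[R] A) * (toConv (includeRight : A →ₐ[R] A ⊗[R] A))⁻¹

noncomputable def Φ : A ⊗[R] A →ₐ[R] A ⊗[R] A :=
  productMap (θc R A).ofConv (includeRight : A →ₐ[R] A ⊗[R] A)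

theorem Φ_comp_comul : (Φ R A).comp (Bialgebra.comulAlgHom R A) = includeLeft := by
  have h1 : θc R A * toConv (includeRight : A →ₐ[R] A ⊗[R] A) = toConv includeLeft :=
    inv_mul_cancel_right (toConv (includeLeft : A →ₐ[R] A ⊗[R] A)) (toConv includeRight)
  have h2 := congrArg WithConv.ofConv h1
  rw [AlgHom.convMul_def] at h2
  rw [Φ, productMap_eq_comp_map, AlgHom.comp_assoc]
  exact h2

noncomputable def E : A ⊗[R] A →ₐ[R] A :=
  productMap ((Algebra.ofId R A).comp (Bialgebra.counitAlgHom R A)) (AlgHom.id R A)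

theorem lmul_comp_θ : (lmul' R).comp (θc R A).ofConv
    = (Algebra.ofId R A).comp (Bialgebra.counitAlgHom R A) := by
  rw [θc, AlgHom.comp_convMul_distrib]
  have h1 : (lmul' R).comp (toConv (includeLeft : A →ₐ[R] A ⊗[R] A)).ofConv = AlgHom.id R A := by
    ext a; simp
  have h2 : (lmul' R).comp ((toConv (includeRight : A →ₐ[R] A ⊗[R] A))⁻¹).ofConv
      = ((toConv (AlgHom.id R A))⁻¹).ofConv := by
    ext a
    show (lmul' R) ((includeRight : A →ₐ[R] A ⊗[R] A) (HopfAlgebra.antipodeAlgHom R A a))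
      = (AlgHom.id R A) (HopfAlgebra.antipodeAlgHom R A a)
    simp
  rw [h1, h2]
  have h3 : toConv (AlgHom.id R A) * toConv ((toConv (AlgHom.id R A))⁻¹).ofConv
      = (1 : WithConv (A →ₐ[R] A)) := mul_inv_cancel (toConv (AlgHom.id R A))
  rw [h3]
  rfl

theorem lmul_comp_Φ : (lmul' R).comp (Φ R A) = E R A := by
  apply Algebra.TensorProduct.ext
  · rw [AlgHom.comp_assoc, Φ, productMap_left, lmul_comp_θ, E, productMap_left]
  · ext b
    simp [Φ, E]

theorem Φ_surj : Function.Surjective (Φ R A) := by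
  intro z
  induction z using TensorProduct.induction_on with
  | zero => exact ⟨0, map_zero _⟩
  | tmul a b =>
    refine ⟨Bialgebra.comulAlgHom R A a * (1 ⊗ₜ b), ?_⟩
    have h1 := AlgHom.congr_fun (Φ_comp_comul R A) a
    rw [AlgHom.comp_apply] at h1
    rw [map_mul, h1]
    simp [Φ]
  | add x y hx hy =>
    obtain ⟨x', rfl⟩ := hx
    obtain ⟨y', rfl⟩ := hy
    exact ⟨x' + y', map_add _ _ _⟩

theorem ker_E : RingHom.ker (E R A) = (RingHom.ker (Bialgebra.counitAlgHom R A)).map
    (includeLeft : A →ₐ[R] A ⊗[R] A) := by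
  apply le_antisymm
  · intro z hz
    have key : ∀ z : A ⊗[R] A, z - 1 ⊗ₜ (E R A z) ∈ (RingHom.ker (Bialgebra.counitAlgHom R A)).map
        (includeLeft : A →ₐ[R] A ⊗[R] A) := by
      intro z
      induction z using TensorProduct.induction_on with
      | zero => simp
      | tmul a b =>
        have h1 : a ⊗ₜ[R] b - 1 ⊗ₜ (E R A (a ⊗ₜ b))
            = (includeLeft : A →ₐ[R] A ⊗[R] A) (a - algebraMap R A (Bialgebra.counitAlgHom R A a))
              * (1 ⊗ₜ b) := by
          simp only [E, productMap_apply_tmul, AlgHom.comp_apply, includeLeft_apply,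
            Algebra.ofId_apply, AlgHom.id_apply, Algebra.TensorProduct.tmul_mul_tmul, mul_one, one_mul,
            TensorProduct.sub_tmul]
          rw [sub_mul, Algebra.TensorProduct.tmul_mul_tmul, Algebra.TensorProduct.tmul_mul_tmul,
            mul_one, one_mul]
          congr 1
          rw [Algebra.algebraMap_eq_smul_one, smul_mul_assoc, one_mul, smul_mul_assoc, one_mul,
            TensorProduct.tmul_smul, TensorProduct.smul_tmul']
        rw [h1]
        refine Ideal.mul_mem_right _ _ (Ideal.mem_map_of_mem _ ?_)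
        rw [RingHom.mem_ker, map_sub, AlgHom.commutes, sub_eq_zero]
        rfl
      | add x y hx hy =>
        have : x + y - 1 ⊗ₜ[R] (E R A (x + y)) = (x - 1 ⊗ₜ (E R A x)) + (y - 1 ⊗ₜ (E R A y)) := by
          rw [map_add, TensorProduct.tmul_add]; abel
        rw [this]
        exact Ideal.add_mem _ hx hy
    have := key z
    rw [RingHom.mem_ker.1 hz, TensorProduct.tmul_zero, sub_zero] at this
    exact this
  · rw [Ideal.map_le_iff_le_comap]
    intro a ha
    rw [Ideal.mem_comap, RingHom.mem_ker]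
    rw [RingHom.mem_ker] at ha
    simp [E, ha]

theorem kaehler_idem (hI : RingHom.ker (Bialgebra.counitAlgHom R A) ^ 2
      = RingHom.ker (Bialgebra.counitAlgHom R A)) :
    IsIdempotentElem (KaehlerDifferential.ideal R A) := by
  obtain ⟨I, hIdef⟩ : ∃ I, I = RingHom.ker (Bialgebra.counitAlgHom R A) := ⟨_, rfl⟩
  rw [← hIdef] at hI
  have hJ : KaehlerDifferential.ideal R A = RingHom.ker (lmul' R : A ⊗[R] A →ₐ[R] A) := rfl
  have hle : (I.map (includeLeft : A →ₐ[R] A ⊗[R] A)).map (Φ R A) ≤ KaehlerDifferential.ideal R A := by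
    rw [Ideal.map_le_iff_le_comap]
    intro u hu
    rw [Ideal.mem_comap, hJ, RingHom.mem_ker]
    have h1 := AlgHom.congr_fun (lmul_comp_Φ R A) u
    rw [AlgHom.comp_apply] at h1
    rw [h1]
    have : u ∈ RingHom.ker (E R A) := by rw [ker_E, ← hIdef]; exact hu
    exact this
  apply le_antisymm
  · exact Ideal.mul_le_right
  · intro z hz
    obtain ⟨w, rfl⟩ := Φ_surj R A z
    have hw : w ∈ RingHom.ker (E R A) := by
      rw [RingHom.mem_ker, ← AlgHom.congr_fun (lmul_comp_Φ R A) w]
      exact hz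
    rw [ker_E, ← hIdef, ← hI, pow_two, Ideal.map_mul] at hw
    have h2 := Ideal.mem_map_of_mem (Φ R A) hw
    rw [Ideal.map_mul] at h2
    exact Ideal.mul_mono hle hle h2


end Groth.Agent.Lead.HopfDiag
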