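import Mathlib
import Groth.Prelude.Def_W4c5stacksedinertiaGpd

namespace Groth.Agent.Lead.Inertia
open W4c5stacksedinertia

universe u v

/-- the presentation of `G` is isomorphic to `G` -/
noncomputable def ofEquiv (G : Type u) [Group G] [Finite G] : (FinGrp.of G).carrier ≃* G :=
  letI : Group (Fin (Nat.card G)) := (Nat.equivFinOfCardPos (α := G) Nat.card_pos.ne').symm.group
  (Nat.equivFinOfCardPos (α := G) Nat.card_pos.ne').symm.mulEquiv

theorem of_eq_of_mulEquiv {G : Type u} {H : Type v} [Group G] [Finite G] [Group H] [Finite H]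
    (e : G ≃* H) : Idx.of G = Idx.of H :=
  Quotient.sound (s := FinGrp.setoid) ⟨(ofEquiv G).trans (e.trans (ofEquiv H).symm)⟩

noncomputable def repEquiv (G : Type u) [Group G] [Finite G] : (Idx.of G).rep ≃* G :=
  (Classical.choice (Quotient.mk_out (s := FinGrp.setoid) (FinGrp.of G))).trans (ofEquiv G)

theorem of_rep (i : Idx) : Idx.of i.rep = i := by
  have h : Idx.of i.rep = Quotient.mk FinGrp.setoid (Quotient.out i) :=
    Quotient.sound (s := FinGrp.setoid) ⟨ofEquiv _⟩
  rw [h]; exact Quotient.out_eq i

theorem card_of (G : Type u) [Group G] [Finite G] : (Idx.of G).card = Nat.card G :=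
  Nat.card_congr (repEquiv G).toEquiv

theorem centerCard_of (G : Type u) [Group G] [Finite G] :
    (Idx.of G).centerCard = Nat.card (Subgroup.center G) :=
  Nat.card_congr (Subgroup.centerCongr (repEquiv G)).toEquiv

theorem cl_congr {G : Type u} {H : Type v} [Group G] [Finite G] [Group H] [Finite H]
    (e : G ≃* H) : cl G = cl H := by
  unfold cl; rw [of_eq_of_mulEquiv e]

end Groth.Agent.Lead.Inertia
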