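import Mathlib
import Groth.Agent.Lib.Lead.Inertia1

namespace Groth.Agent.Lead.Inertia
open W4c5stacksedinertia

universe u v

section Action
variable (G : Type u) [Group G] (r : ℕ)

/-- conjugation action on commuting tuples -/
instance conjAction : MulAction G (CommTuple G r) where
  smul g s := ⟨fun i => g * s.1 i * g⁻¹, by
    constructor
    · intro i j h
      exact s.2.1 (by simpa using h)
    · intro i j
      exact (s.2.2 i j).map (MulAut.conj g)⟩
  one_smul s := by
    apply Subtype.ext; funext i
    show 1 * s.1 i * 1⁻¹ = s.1 i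
    simp
  mul_smul g h s := by
    apply Subtype.ext; funext i
    show (g * h) * s.1 i * (g * h)⁻¹ = g * (h * s.1 i * h⁻¹) * g⁻¹
    simp [mul_assoc]

variable {G r}

theorem smul_val (g : G) (s : CommTuple G r) (i : Fin r) : (g • s).1 i = g * s.1 i * g⁻¹ := rfl

theorem stabilizer_eq (s : CommTuple G r) :
    MulAction.stabilizer G s = Subgroup.centralizer (Set.range s.1) := by
  ext g
  rw [MulAction.mem_stabilizer_iff, Subgroup.mem_centralizer_iff]
  constructor
  · rintro h _ ⟨i, rfl⟩
    have h1 : g * s.1 i * g⁻¹ = s.1 i := congrArg (fun t : CommTuple G r => t.1 i) h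
    calc s.1 i * g = (g * s.1 i * g⁻¹) * g := by rw [h1]
      _ = g * s.1 i := by simp
  · intro h
    apply Subtype.ext; funext i
    have := h (s.1 i) ⟨i, rfl⟩
    show g * s.1 i * g⁻¹ = s.1 i
    rw [← this, mul_inv_cancel_right]

theorem setoid_iff (s t : CommTuple G r) :
    (CommTuple.setoid G r).r s t ↔ t ∈ MulAction.orbit G s := by
  constructor
  · rintro ⟨g, hg⟩
    exact ⟨g, Subtype.ext (funext hg)⟩
  · rintro ⟨g, hg⟩
    exact ⟨g, fun i => congrArg (fun t : CommTuple G r => t.1 i) hg⟩

theorem range_smul (g : G) (s : CommTuple G r) :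
    Set.range (g • s).1 = (MulAut.conj g) '' Set.range s.1 := by
  ext x
  constructor
  · rintro ⟨i, rfl⟩
    exact ⟨s.1 i, ⟨i, rfl⟩, rfl⟩
  · rintro ⟨_, ⟨i, rfl⟩, rfl⟩
    exact ⟨i, rfl⟩

end Action

section Phi

/-- image of a centralizer under an isomorphism -/
theorem map_centralizer {G : Type u} {H : Type v} [Group G] [Group H] (e : G ≃* H) (S : Set G) :
    (Subgroup.centralizer S).map e.toMonoidHom = Subgroup.centralizer (e '' S) := by
  ext h
  rw [Subgroup.mem_map, Subgroup.mem_centralizer_iff]
  constructor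
  · rintro ⟨g, hg, rfl⟩ _ ⟨x, hx, rfl⟩
    rw [Subgroup.mem_centralizer_iff] at hg
    show e x * e g = e g * e x
    rw [← map_mul, ← map_mul, hg x hx]
  · intro hh
    refine ⟨e.symm h, ?_, by simp⟩
    rw [Subgroup.mem_centralizer_iff]
    intro x hx
    apply e.injective
    rw [map_mul, map_mul, e.apply_symm_apply]
    exact hh (e x) ⟨x, hx, rfl⟩

/-- centralizers correspond under isomorphism -/
noncomputable def centralizerEquiv {G : Type u} {H : Type v} [Group G] [Group H] (e : G ≃* H)
    (S : Set G) : Subgroup.centralizer S ≃* Subgroup.centralizer (e '' S) :=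
  ((Subgroup.centralizer S).equivMapOfInjective e.toMonoidHom e.injective).trans
    (MulEquiv.subgroupCongr (map_centralizer e S))

/-- weighted class of a centralizer -/
noncomputable def Phi (G : Type u) [Group G] [Finite G] (S : Set G) : K :=
  ((Nat.card (Subgroup.centralizer S) : ℚ) / (Nat.card G : ℚ)) • cl (Subgroup.centralizer S)

theorem Phi_congr {G : Type u} {H : Type v} [Group G] [Group H] [Finite G] [Finite H]
    (e : G ≃* H) (S : Set G) : Phi H (e '' S) = Phi G S := by
  unfold Phi
  rw [← cl_congr (centralizerEquiv e S), ← Nat.card_congr (centralizerEquiv e S).toEquiv,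
    Nat.card_congr e.toEquiv]

end Phi

end Groth.Agent.Lead.Inertia
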