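import Mathlib
import Groth.Agent.Lib.Lead.Inertia2

namespace Groth.Agent.Lead.Inertia
open W4c5stacksedinertia

universe u v

instance finite_commTuple (G : Type u) [Group G] [Finite G] (r : ℕ) : Finite (CommTuple G r) :=
  Subtype.finite

instance finite_orbit (G : Type u) [Group G] [Finite G] (r : ℕ) : Finite (CommTuple.Orbit G r) :=
  Quotient.finite _

theorem orbit_smul_Phi {G : Type u} [Group G] [Finite G] {r : ℕ} (s₀ : CommTuple G r) :
    (Nat.card (MulAction.orbit G s₀)) • Phi G (Set.range s₀.1) =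
      cl (Subgroup.centralizer (Set.range s₀.1)) := by
  have hcard : Nat.card (MulAction.orbit G s₀) *
      Nat.card (Subgroup.centralizer (Set.range s₀.1)) = Nat.card G := by
    rw [← stabilizer_eq, ← Nat.card_prod,
      Nat.card_congr (MulAction.orbitProdStabilizerEquivGroup G s₀)]
  unfold Phi
  rw [← Nat.cast_smul_eq_nsmul ℚ, smul_smul]
  have hG : (Nat.card G : ℚ) ≠ 0 := by
    exact_mod_cast Nat.card_pos.ne'
  have h2 : (Nat.card (MulAction.orbit G s₀) : ℚ) *
      ((Nat.card (Subgroup.centralizer (Set.range s₀.1)) : ℚ) / (Nat.card G : ℚ)) = 1 := by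
    rw [← mul_div_assoc, div_eq_one_iff_eq hG]
    exact_mod_cast hcard
  rw [h2, one_smul]

theorem sum_orbit {G : Type u} [Group G] [Finite G] {r : ℕ} (s₀ : CommTuple G r)
    (F : Finset (CommTuple G r)) (hF : ∀ s, s ∈ F ↔ s ∈ MulAction.orbit G s₀) :
    ∑ s ∈ F, Phi G (Set.range s.1) = cl (Subgroup.centralizer (Set.range s₀.1)) := by
  rw [← orbit_smul_Phi s₀]
  refine (Finset.sum_congr rfl (g := fun _ => Phi G (Set.range s₀.1)) ?_).trans ?_
  · intro s hs
    obtain ⟨g, hg⟩ := (hF s).mp hs
    rw [← hg]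
    show Phi G (Set.range (g • s₀).1) = _
    rw [range_smul, Phi_congr]
  · rw [Finset.sum_const]
    congr 1
    rw [← Nat.card_congr (Equiv.subtypeEquivRight hF), Nat.card_eq_fintype_card,
      Fintype.card_coe]

theorem inertiaROf_eq (G : Type u) [Group G] [Finite G] (r : ℕ) :
    inertiaROf r G = ∑ᶠ s : CommTuple G r, Phi G (Set.range s.1) := by
  classical
  let _ : Fintype (CommTuple G r) := Fintype.ofFinite _
  let _ : Fintype (CommTuple.Orbit G r) := Fintype.ofFinite _
  unfold inertiaROf
  rw [finsum_eq_sum_of_fintype, finsum_eq_sum_of_fintype]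
  rw [← Finset.sum_fiberwise (κ := CommTuple.Orbit G r) Finset.univ
    (fun s => (Quotient.mk (CommTuple.setoid G r) s : CommTuple.Orbit G r))
    (fun s => Phi G (Set.range s.1))]
  refine Finset.sum_congr rfl ?_
  intro O _
  refine (sum_orbit (Quotient.out (s := CommTuple.setoid G r) O) _ (fun s => ?_)).symm
  rw [Finset.mem_filter, ← setoid_iff]
  constructor
  · intro h
    exact Quotient.exact ((Quotient.out_eq O).trans h.2.symm)
  · intro h
    refine ⟨Finset.mem_univ _, ?_⟩
    exact ((Quotient.sound (s := CommTuple.setoid G r) h).symm).trans (Quotient.out_eq O)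

end Groth.Agent.Lead.Inertia
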