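import Mathlib
import Groth.Agent.Lib.Lead.Inertia3

namespace Groth.Agent.Lead.Inertia
open W4c5stacksedinertia
open Classical

universe u v

/-- pairwise distinct pairwise commuting tuple -/
def IsCT {G : Type u} [Group G] {r : ℕ} (s : Fin r → G) : Prop :=
  Function.Injective s ∧ ∀ i j, Commute (s i) (s j)

theorem isCT_cons {G : Type u} [Group G] {r : ℕ} (h : G) (s : Fin r → G) :
    IsCT (Fin.cons h s : Fin (r + 1) → G) ↔
      IsCT s ∧ h ∉ Set.range s ∧ h ∈ Subgroup.centralizer (Set.range s) := by
  unfold IsCT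
  rw [Fin.cons_injective_iff, Subgroup.mem_centralizer_iff]
  constructor
  · rintro ⟨⟨h1, h2⟩, h3⟩
    refine ⟨⟨h2, fun i j => ?_⟩, h1, ?_⟩
    · simpa using h3 i.succ j.succ
    · rintro _ ⟨i, rfl⟩
      have := h3 i.succ 0
      simpa using this.eq
  · rintro ⟨⟨h2, h4⟩, h1, h3⟩
    refine ⟨⟨h1, h2⟩, ?_⟩
    intro i j
    refine Fin.cases ?_ (fun i => ?_) i <;> refine Fin.cases ?_ (fun j => ?_) j
    · simp
    · simp only [Fin.cons_zero, Fin.cons_succ]
      exact (h3 (s j) ⟨j, rfl⟩).symm
    · simp only [Fin.cons_zero, Fin.cons_succ]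
      exact h3 (s i) ⟨i, rfl⟩
    · simpa using h4 i j

theorem inertiaROf_eq_sum (G : Type u) [Group G] [Fintype G] (r : ℕ) :
    inertiaROf r G = ∑ s : Fin r → G, if IsCT s then Phi G (Set.range s) else 0 := by
  rw [inertiaROf_eq]
  show (∑ᶠ s : {s : Fin r → G // IsCT s}, Phi G (Set.range s.1)) = _
  rw [finsum_subtype_eq_finsum_cond (f := fun s : Fin r → G => Phi G (Set.range s)) IsCT]
  rw [finsum_cond_eq_sum_of_cond_iff (fun s : Fin r → G => Phi G (Set.range s))
    (t := Finset.univ.filter (fun s : Fin r → G => IsCT s))]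
  · rw [Finset.sum_filter]
  · intro s _
    simp


theorem isCT_comp_equiv {G : Type u} {H : Type v} [Group G] [Group H] (e : G ≃* H) {r : ℕ}
    (s : Fin r → G) : IsCT (e ∘ s) ↔ IsCT s := by
  unfold IsCT
  rw [e.injective.of_comp_iff]
  constructor
  · rintro ⟨h1, h2⟩
    refine ⟨h1, fun i j => ?_⟩
    have := (h2 i j).map e.symm
    simpa using this
  · rintro ⟨h1, h2⟩
    exact ⟨h1, fun i j => (h2 i j).map e⟩

theorem inertiaROf_congr {G : Type u} {H : Type v} [Group G] [Group H] [Finite G] [Finite H]
    (e : G ≃* H) (r : ℕ) : inertiaROf r G = inertiaROf r H := by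
  let _ : Fintype G := Fintype.ofFinite G
  let _ : Fintype H := Fintype.ofFinite H
  rw [inertiaROf_eq_sum, inertiaROf_eq_sum]
  refine Fintype.sum_equiv (Equiv.arrowCongr (Equiv.refl _) e.toEquiv) _ _ (fun s => ?_)
  have h0 : (Equiv.arrowCongr (Equiv.refl (Fin r)) e.toEquiv) s = e ∘ s := by
    funext i; simp [Equiv.arrowCongr]
  rw [h0, Set.range_comp, Phi_congr]
  simp only [isCT_comp_equiv]

theorem inertiaROf_one (H : Type u) [Group H] [Fintype H] :
    inertiaROf 1 H = ∑ h : H, Phi H {h} := by
  rw [inertiaROf_eq_sum]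
  refine Fintype.sum_equiv (Equiv.funUnique (Fin 1) H) _ _ (fun s => ?_)
  have h1 : IsCT s :=
    ⟨fun i j _ => Subsingleton.elim i j, fun i j => by rw [Subsingleton.elim i j]⟩
  have h2 : Set.range s = {s 0} := by
    ext x
    constructor
    · rintro ⟨i, rfl⟩
      rw [Subsingleton.elim i 0]; rfl
    · rintro rfl
      exact ⟨0, rfl⟩
  rw [if_pos h1, h2]
  rfl

theorem map_centralizer_nested {G : Type u} [Group G] (S : Set G)
    (h : Subgroup.centralizer S) :
    (Subgroup.centralizer ({h} : Set (Subgroup.centralizer S))).map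
        (Subgroup.centralizer S).subtype = Subgroup.centralizer (insert (h : G) S) := by
  ext g
  rw [Subgroup.mem_map, Subgroup.mem_centralizer_iff]
  constructor
  · rintro ⟨y, hy, rfl⟩ x hx
    rw [Subgroup.mem_centralizer_iff] at hy
    rcases hx with rfl | hx
    · exact congrArg Subtype.val (hy h rfl)
    · exact (Subgroup.mem_centralizer_iff.mp y.2) x hx
  · intro hg
    have hgS : g ∈ Subgroup.centralizer S := by
      rw [Subgroup.mem_centralizer_iff]
      intro x hx
      exact hg x (Set.mem_insert_of_mem _ hx)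
    refine ⟨⟨g, hgS⟩, ?_, rfl⟩
    rw [Subgroup.mem_centralizer_iff]
    rintro x rfl
    apply Subtype.ext
    exact hg _ (Set.mem_insert _ _)

/-- centralizer inside a centralizer -/
noncomputable def nestedEquiv {G : Type u} [Group G] (S : Set G)
    (h : Subgroup.centralizer S) :
    Subgroup.centralizer ({h} : Set (Subgroup.centralizer S)) ≃*
      Subgroup.centralizer (insert (h : G) S) :=
  ((Subgroup.centralizer ({h} : Set (Subgroup.centralizer S))).equivMapOfInjective
    (Subgroup.centralizer S).subtype (Subgroup.subtype_injective _)).trans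
    (MulEquiv.subgroupCongr (map_centralizer_nested S h))

theorem Phi_nested {G : Type u} [Group G] [Finite G] (S : Set G)
    (h : Subgroup.centralizer S) :
    ((Nat.card (Subgroup.centralizer S) : ℚ) / (Nat.card G : ℚ)) •
      Phi (Subgroup.centralizer S) {h} = Phi G (insert (h : G) S) := by
  unfold Phi
  rw [smul_smul, cl_congr (nestedEquiv S h), Nat.card_congr (nestedEquiv S h).toEquiv]
  congr 1
  have hH : (Nat.card (Subgroup.centralizer S) : ℚ) ≠ 0 := by
    exact_mod_cast Nat.card_pos.ne'
  field_simp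

theorem inertiaR_cl (r : ℕ) (H : Type u) [Group H] [Finite H] :
    inertiaR r (cl H) = inertiaROf r H := by
  unfold inertiaR cl
  rw [Finsupp.linearCombination_single, one_smul]
  exact inertiaROf_congr (repEquiv H) r

theorem inertia_Phi {G : Type u} [Group G] [Fintype G] (S : Set G) :
    inertia (Phi G S) =
      ∑ h : G, if h ∈ Subgroup.centralizer S then Phi G (insert h S) else 0 := by
  have h1 : inertia (Phi G S) = ∑ h : Subgroup.centralizer S, Phi G (insert (h : G) S) := by
    conv_lhs => unfold Phi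
    rw [map_smul, inertiaR_cl, inertiaROf_one, Finset.smul_sum]
    exact Finset.sum_congr rfl (fun h _ => Phi_nested S h)
  rw [h1, ← Finset.sum_filter]
  exact (Finset.sum_subtype (Finset.univ.filter (fun h : G => h ∈ Subgroup.centralizer S))
    (by simp) (fun h : G => Phi G (insert h S))).symm

end Groth.Agent.Lead.Inertia
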