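import Mathlib
import Groth.Agent.Lib.Lead.Inertia4

namespace Groth.Agent.Lead.Inertia
open W4c5stacksedinertia
open Classical

universe u v

theorem inertia_inertiaROf (G : Type u) [Group G] [Finite G] (r : ℕ) :
    inertia (inertiaROf r G) = (r : ℚ) • inertiaROf r G + inertiaROf (r + 1) G := by
  let _ : Fintype G := Fintype.ofFinite G
  rw [inertiaROf_eq_sum G r, inertiaROf_eq_sum G (r + 1), map_sum]
  rw [← (Fin.consEquiv (fun _ : Fin (r + 1) => G)).sum_comp]
  rw [Fintype.sum_prod_type_right]
  rw [Finset.smul_sum, ← Finset.sum_add_distrib]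
  refine Finset.sum_congr rfl (fun s _ => ?_)
  by_cases hs : IsCT s
  · rw [if_pos hs, inertia_Phi]
    have key : ∀ h : G,
        (if h ∈ Subgroup.centralizer (Set.range s) then Phi G (insert h (Set.range s)) else 0) =
          (if h ∈ Set.range s then Phi G (Set.range s) else 0) +
          (if IsCT (Fin.cons h s : Fin (r + 1) → G) then
            Phi G (Set.range (Fin.cons h s : Fin (r + 1) → G)) else 0) := by
      intro h
      rw [isCT_cons, Fin.range_cons]
      by_cases h1 : h ∈ Set.range s
      · have h2 : h ∈ Subgroup.centralizer (Set.range s) := by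
          rw [Subgroup.mem_centralizer_iff]
          obtain ⟨i, rfl⟩ := h1
          rintro _ ⟨j, rfl⟩
          exact (hs.2 j i).eq
        rw [if_pos h1, if_pos h2, if_neg (by tauto), add_zero, Set.insert_eq_of_mem h1]
      · by_cases h2 : h ∈ Subgroup.centralizer (Set.range s)
        · rw [if_neg h1, if_pos h2, if_pos ⟨hs, h1, h2⟩, zero_add]
        · rw [if_neg h1, if_neg h2, if_neg (by tauto), zero_add]
    rw [Finset.sum_congr rfl (fun h _ => key h), Finset.sum_add_distrib]
    congr 1
    rw [← Finset.sum_filter, Finset.sum_const]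
    have hc : (Finset.univ.filter (fun h : G => h ∈ Set.range s)).card = r := by
      have : Finset.univ.filter (fun h : G => h ∈ Set.range s) = Finset.univ.image s := by
        ext x; simp
      rw [this, Finset.card_image_of_injective _ hs.1]
      simp
    rw [hc, Nat.cast_smul_eq_nsmul]
  · have hn : ∀ h : G, ¬ IsCT (Fin.cons h s : Fin (r + 1) → G) :=
      fun h hc => hs ((isCT_cons h s).mp hc).1
    rw [if_neg hs, map_zero, smul_zero, zero_add]
    symm
    apply Finset.sum_eq_zero
    intro h _
    exact if_neg (hn h)

end Groth.Agent.Lead.Inertia
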