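import Mathlib
import Groth.Agent.Lib.Lead.Inertia5

namespace Groth.Agent.Lead.Inertia
open W4c5stacksedinertia
open Classical Polynomial

universe u v

theorem inertiaR_single (r : ℕ) (i : Idx) :
    inertiaR r (Finsupp.single i 1) = inertiaROf r i.rep := by
  unfold inertiaR
  rw [Finsupp.linearCombination_single, one_smul]

theorem Phi_of_subset_center {G : Type u} [Group G] [Finite G] (S : Set G)
    (hS : S ⊆ Subgroup.center G) : Phi G S = cl G := by
  unfold Phi
  have h1 : Subgroup.centralizer S = ⊤ := Subgroup.centralizer_eq_top_iff_subset.mpr hS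
  have e : Subgroup.centralizer S ≃* G := (MulEquiv.subgroupCongr h1).trans Subgroup.topEquiv
  rw [cl_congr e, Nat.card_congr e.toEquiv]
  have hG : (Nat.card G : ℚ) ≠ 0 := by
    exact_mod_cast Nat.card_pos.ne'
  rw [div_self hG, one_smul]

theorem inertiaROf_zero (G : Type u) [Group G] [Finite G] : inertiaROf 0 G = cl G := by
  let _ : Fintype G := Fintype.ofFinite G
  rw [inertiaROf_eq_sum]
  rw [Fintype.sum_unique]
  have h1 : IsCT (default : Fin 0 → G) := ⟨fun i => i.elim0, fun i => i.elim0⟩
  rw [if_pos h1]
  apply Phi_of_subset_center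
  rintro _ ⟨i, _⟩
  exact i.elim0

theorem inertiaROf_eq_zero_of_lt (G : Type u) [Group G] [Finite G] (r : ℕ)
    (h : Nat.card G < r) : inertiaROf r G = 0 := by
  let _ : Fintype G := Fintype.ofFinite G
  rw [inertiaROf_eq_sum]
  apply Finset.sum_eq_zero
  intro s _
  rw [if_neg]
  rintro ⟨hinj, _⟩
  have := Fintype.card_le_of_injective s hinj
  rw [Fintype.card_fin, ← Nat.card_eq_fintype_card] at this
  omega

theorem cl_rep (i : Idx) : cl i.rep = Finsupp.single i 1 := by
  unfold cl; rw [of_rep]

theorem inertiaR_zero : inertiaR 0 = LinearMap.id := by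
  apply Finsupp.lhom_ext'
  intro i
  apply LinearMap.ext_ring
  simp only [LinearMap.comp_apply, Finsupp.lsingle_apply, LinearMap.id_apply]
  rw [inertiaR_single, inertiaROf_zero, cl_rep]

theorem inertia_comp_inertiaR (r : ℕ) :
    inertia ∘ₗ inertiaR r = (r : ℚ) • inertiaR r + inertiaR (r + 1) := by
  apply Finsupp.lhom_ext'
  intro i
  apply LinearMap.ext_ring
  simp only [LinearMap.comp_apply, Finsupp.lsingle_apply, LinearMap.add_apply,
    LinearMap.smul_apply]
  rw [inertiaR_single, inertiaR_single, inertia_inertiaROf]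

theorem inertiaR_eq_aeval (r : ℕ) :
    inertiaR r = aeval inertia (descPochhammer ℚ r) := by
  induction r with
  | zero =>
    rw [inertiaR_zero, descPochhammer_zero, map_one]; rfl
  | succ r ih =>
    have h := inertia_comp_inertiaR r
    have h2 : inertiaR (r + 1) = inertia ∘ₗ inertiaR r - (r : ℚ) • inertiaR r := by
      rw [h]; abel
    rw [h2, descPochhammer_succ_right, mul_comm, map_mul, ← ih]
    simp only [map_sub, aeval_X, map_natCast]
    rw [sub_mul]
    congr 1

end Groth.Agent.Lead.Inertia
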