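import Mathlib
import Groth.Agent.Lib.Lead.Inertia6

namespace Groth.Agent.Lead.Inertia
open W4c5stacksedinertia
open Classical Polynomial

universe u v

theorem map_mem_of_supported (T : K →ₗ[ℚ] K) (s : Set Idx) (N : Submodule ℚ K)
    (h : ∀ i ∈ s, T (Finsupp.single i 1) ∈ N) (v : K) (hv : v ∈ Finsupp.supported ℚ ℚ s) :
    T v ∈ N := by
  rw [Finsupp.supported_eq_span_single] at hv
  have h1 : Submodule.span ℚ ((fun i => Finsupp.single i (1 : ℚ)) '' s) ≤ N.comap T := by
    rw [Submodule.span_le]
    rintro _ ⟨i, hi, rfl⟩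
    exact h i hi
  exact h1 hv

theorem cl_mem_Kle {H : Type u} [Group H] [Finite H] (n : ℕ) (h : Nat.card H ≤ n) :
    cl H ∈ Kle n := by
  unfold cl Kle
  apply Finsupp.single_mem_supported
  show (Idx.of H).card ≤ n
  rw [card_of]; exact h

theorem cl_mem_Kge {H : Type u} [Group H] [Finite H] (k : ℕ)
    (h : k ≤ Nat.card (Subgroup.center H)) : cl H ∈ Kge k := by
  unfold cl Kge
  apply Finsupp.single_mem_supported
  show k ≤ (Idx.of H).centerCard
  rw [centerCard_of]; exact h

/-- the image in `G` of the centre of a centralizer -/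
theorem center_le_map {G : Type u} [Group G] (S : Set G) :
    Subgroup.center G ≤ (Subgroup.center (Subgroup.centralizer S)).map
      (Subgroup.centralizer S).subtype := by
  intro z hz
  rw [Subgroup.mem_center_iff] at hz
  have hzS : z ∈ Subgroup.centralizer S := by
    rw [Subgroup.mem_centralizer_iff]
    intro x _
    exact hz x
  refine ⟨⟨z, hzS⟩, ?_, rfl⟩
  show (⟨z, hzS⟩ : Subgroup.centralizer S) ∈ Subgroup.center (Subgroup.centralizer S)
  rw [Subgroup.mem_center_iff]
  intro g
  apply Subtype.ext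
  exact hz g

theorem mem_map_of_mem {G : Type u} [Group G] (S : Set G)
    (hcomm : S ⊆ Subgroup.centralizer S) {x : G} (hx : x ∈ S) :
    x ∈ (Subgroup.center (Subgroup.centralizer S)).map (Subgroup.centralizer S).subtype := by
  refine ⟨⟨x, hcomm hx⟩, ?_, rfl⟩
  show (⟨x, hcomm hx⟩ : Subgroup.centralizer S) ∈ Subgroup.center (Subgroup.centralizer S)
  rw [Subgroup.mem_center_iff]
  intro g
  apply Subtype.ext
  exact ((Subgroup.mem_centralizer_iff.mp g.2) x hx).symm

theorem card_center_le {G : Type u} [Group G] [Finite G] (S : Set G) :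
    Nat.card (Subgroup.center G) ≤ Nat.card (Subgroup.center (Subgroup.centralizer S)) := by
  rw [← Subgroup.card_map_of_injective (Subgroup.subtype_injective (Subgroup.centralizer S))]
  exact Subgroup.card_le_of_le (center_le_map S)

theorem card_center_lt {G : Type u} [Group G] [Finite G] (S : Set G)
    (hcomm : S ⊆ Subgroup.centralizer S) (hS : ¬ S ⊆ Subgroup.center G) :
    Nat.card (Subgroup.center G) < Nat.card (Subgroup.center (Subgroup.centralizer S)) := by
  rw [← Subgroup.card_map_of_injective (Subgroup.subtype_injective (Subgroup.centralizer S))]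
  obtain ⟨x, hxS, hxZ⟩ := Set.not_subset.mp hS
  have hss : (Subgroup.center G : Set G) ⊂
      ((Subgroup.center (Subgroup.centralizer S)).map (Subgroup.centralizer S).subtype : Set G) := by
    refine ⟨center_le_map S, fun hle => hxZ (hle (mem_map_of_mem S hcomm hxS))⟩
  have := Set.ncard_lt_ncard hss (Set.toFinite _)
  rwa [← Nat.card_coe_set_eq, ← Nat.card_coe_set_eq] at this

theorem Phi_mem_Kle {G : Type u} [Group G] [Finite G] (S : Set G) : Phi G S ∈ Kle (Nat.card G) := by
  unfold Phi
  apply Submodule.smul_mem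
  exact cl_mem_Kle _ (Subgroup.card_le_card_group _)

theorem Phi_mem_Kge {G : Type u} [Group G] [Finite G] (S : Set G) :
    Phi G S ∈ Kge (Nat.card (Subgroup.center G)) := by
  unfold Phi
  apply Submodule.smul_mem
  exact cl_mem_Kge _ (card_center_le S)

theorem Phi_mem_Kge_succ {G : Type u} [Group G] [Finite G] (S : Set G)
    (hcomm : S ⊆ Subgroup.centralizer S) (hS : ¬ S ⊆ Subgroup.center G) :
    Phi G S ∈ Kge (Nat.card (Subgroup.center G) + 1) := by
  unfold Phi
  apply Submodule.smul_mem
  exact cl_mem_Kge _ (card_center_lt S hcomm hS)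

theorem inertiaROf_mem_Kle (G : Type u) [Group G] [Finite G] (r : ℕ) :
    inertiaROf r G ∈ Kle (Nat.card G) := by
  let _ : Fintype G := Fintype.ofFinite G
  rw [inertiaROf_eq_sum]
  apply Submodule.sum_mem
  intro s _
  split_ifs
  · exact Phi_mem_Kle _
  · exact Submodule.zero_mem _

theorem inertiaROf_mem_Kge (G : Type u) [Group G] [Finite G] (r : ℕ) :
    inertiaROf r G ∈ Kge (Nat.card (Subgroup.center G)) := by
  let _ : Fintype G := Fintype.ofFinite G
  rw [inertiaROf_eq_sum]
  apply Submodule.sum_mem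
  intro s _
  split_ifs
  · exact Phi_mem_Kge _
  · exact Submodule.zero_mem _

theorem Kle_mono {m n : ℕ} (h : m ≤ n) : Kle m ≤ Kle n := by
  unfold Kle
  apply Finsupp.supported_mono
  intro i hi
  exact le_trans hi h

theorem Kge_anti {m n : ℕ} (h : m ≤ n) : Kge n ≤ Kge m := by
  unfold Kge
  apply Finsupp.supported_mono
  intro i hi
  exact le_trans h hi

theorem inertiaR_mem_Kle (r n : ℕ) (v : K) (hv : v ∈ Kle n) : inertiaR r v ∈ Kle n := by
  refine map_mem_of_supported (inertiaR r) _ (Kle n) ?_ v hv
  intro i hi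
  rw [inertiaR_single]
  exact Kle_mono hi (inertiaROf_mem_Kle i.rep r)

end Groth.Agent.Lead.Inertia
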