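import Mathlib
import Groth.Agent.Lib.Lead.Inertia7

namespace Groth.Agent.Lead.Inertia
open W4c5stacksedinertia
open Classical Polynomial

universe u v

/-- central injective tuples are embeddings into the centre -/
noncomputable def centralTupleEquiv (G : Type u) [Group G] (r : ℕ) :
    {s : Fin r → G // IsCT s ∧ Set.range s ⊆ Subgroup.center G} ≃ (Fin r ↪ Subgroup.center G) where
  toFun s := ⟨fun i => ⟨s.1 i, s.2.2 ⟨i, rfl⟩⟩, fun i j h => s.2.1.1 (congrArg Subtype.val h)⟩
  invFun f := ⟨fun i => (f i : G), ⟨fun i j h => f.injective (Subtype.ext h),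
      fun i j => by
        have := (Subgroup.mem_center_iff.mp (f j).2) (f i)
        exact this⟩,
    by rintro _ ⟨i, rfl⟩; exact (f i).2⟩
  left_inv s := by ext; rfl
  right_inv f := by ext; rfl

theorem card_central_tuples (G : Type u) [Group G] [Fintype G] (r : ℕ) :
    (Finset.univ.filter
      (fun s : Fin r → G => IsCT s ∧ Set.range s ⊆ Subgroup.center G)).card =
      (Nat.card (Subgroup.center G)).descFactorial r := by
  rw [← Fintype.card_subtype, Fintype.card_congr (centralTupleEquiv G r),
    Fintype.card_embedding_eq, Fintype.card_fin, Nat.card_eq_fintype_card]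

theorem inertiaROf_sub_mem (G : Type u) [Group G] [Finite G] (r : ℕ) :
    inertiaROf r G - (((Nat.card (Subgroup.center G)).descFactorial r : ℕ) : ℚ) • cl G ∈
      Kge (Nat.card (Subgroup.center G) + 1) := by
  let _ : Fintype G := Fintype.ofFinite G
  rw [inertiaROf_eq_sum]
  have key : ∀ s : Fin r → G, (if IsCT s then Phi G (Set.range s) else 0) =
      (if IsCT s ∧ Set.range s ⊆ Subgroup.center G then cl G else 0) +
      (if IsCT s ∧ ¬ Set.range s ⊆ Subgroup.center G then Phi G (Set.range s) else 0) := by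
    intro s
    by_cases h1 : IsCT s
    · by_cases h2 : Set.range s ⊆ Subgroup.center G
      · rw [if_pos h1, if_pos ⟨h1, h2⟩, if_neg (by tauto), add_zero, Phi_of_subset_center _ h2]
      · rw [if_pos h1, if_neg (by tauto), if_pos ⟨h1, h2⟩, zero_add]
    · rw [if_neg h1, if_neg (by tauto), if_neg (by tauto), add_zero]
  rw [Finset.sum_congr rfl (fun s _ => key s), Finset.sum_add_distrib, ← Finset.sum_filter,
    Finset.sum_const, card_central_tuples, ← Nat.cast_smul_eq_nsmul ℚ, add_sub_cancel_left]
  apply Submodule.sum_mem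
  intro s _
  split_ifs with h
  · apply Phi_mem_Kge_succ _ ?_ h.2
    rintro _ ⟨i, rfl⟩
    rw [SetLike.mem_coe, Subgroup.mem_centralizer_iff]
    rintro _ ⟨j, rfl⟩
    exact (h.1.2 j i).eq
  · exact zero_mem _

theorem single_mem_Kge (i : Idx) (k : ℕ) (h : k ≤ i.centerCard) :
    (Finsupp.single i 1 : K) ∈ Kge k := by
  unfold Kge
  apply Finsupp.single_mem_supported
  exact h

theorem triangular (r k : ℕ) (v : K) (hv : v ∈ Kge k) :
    inertiaR r v - ((Nat.factorial r * Nat.choose k r : ℕ) : ℚ) • v ∈ Kge (k + 1) := by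
  have h0 : inertiaR r v - ((Nat.factorial r * Nat.choose k r : ℕ) : ℚ) • v =
      (inertiaR r - ((Nat.factorial r * Nat.choose k r : ℕ) : ℚ) • (LinearMap.id : K →ₗ[ℚ] K)) v := by
    simp only [LinearMap.sub_apply, LinearMap.smul_apply, LinearMap.id_apply]
  rw [h0]
  refine map_mem_of_supported _ _ (Kge (k + 1)) ?_ v hv
  intro i hi
  simp only [LinearMap.sub_apply, LinearMap.smul_apply, LinearMap.id_apply]
  rw [inertiaR_single]
  have hi' : k ≤ i.centerCard := hi
  rcases hi'.eq_or_lt with heq | hlt
  · have := inertiaROf_sub_mem i.rep r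
    rw [cl_rep] at this
    have hk : Nat.card (Subgroup.center i.rep) = k := heq.symm
    rw [hk, Nat.descFactorial_eq_factorial_mul_choose] at this
    exact this
  · apply Submodule.sub_mem
    · exact Kge_anti hlt (inertiaROf_mem_Kge i.rep r)
    · apply Submodule.smul_mem
      exact single_mem_Kge i (k + 1) hlt

end Groth.Agent.Lead.Inertia
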