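import Mathlib
import Groth.Agent.Lib.Lead.Inertia8

namespace Groth.Agent.Lead.Inertia
open W4c5stacksedinertia
open Classical Polynomial

universe u v

theorem isCoprime_descPochhammer (r : ℕ) (a : ℚ) (ha : ∀ j < r, (j : ℚ) ≠ a) :
    IsCoprime (descPochhammer ℚ r) (X - C a) := by
  induction r with
  | zero => rw [descPochhammer_zero]; exact isCoprime_one_left
  | succ r ih =>
    rw [descPochhammer_succ_right]
    apply IsCoprime.mul_left
    · exact ih (fun j hj => ha j (Nat.lt_succ_of_lt hj))
    · have h1 : ((r : ℚ[X])) = C (r : ℚ) := (map_natCast C r).symm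
      rw [h1]
      apply isCoprime_X_sub_C_of_isUnit_sub
      have := ha r (Nat.lt_succ_self r)
      exact (sub_ne_zero.mpr this).isUnit

theorem ker_aeval_X_sub (f : Module.End ℚ K) (a : ℚ) :
    LinearMap.ker (aeval f (X - C a)) = Module.End.eigenspace f a := by
  rw [Module.End.eigenspace_def]
  congr 1
  simp [Algebra.algebraMap_eq_smul_one]

theorem ker_aeval_descPochhammer (f : Module.End ℚ K) (r : ℕ) :
    LinearMap.ker (aeval f (descPochhammer ℚ r)) =
      ⨆ k ∈ Finset.range r, Module.End.eigenspace f (k : ℚ) := by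
  induction r with
  | zero =>
    rw [descPochhammer_zero, map_one]
    simp only [Finset.range_zero, Finset.notMem_empty, not_false_eq_true, iSup_neg, iSup_bot]
    exact LinearMap.ker_id
  | succ r ih =>
    have hc := isCoprime_descPochhammer r (r : ℚ)
      (fun j hj => by exact_mod_cast (Nat.ne_of_lt hj))
    have h1 : ((r : ℚ[X])) = C (r : ℚ) := (map_natCast C r).symm
    rw [descPochhammer_succ_right, h1, ← sup_ker_aeval_eq_ker_aeval_mul_of_coprime f hc, ih,
      ker_aeval_X_sub, Finset.range_add_one, Finset.iSup_insert, sup_comm]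

theorem ker_inertiaR (r : ℕ) :
    LinearMap.ker (inertiaR r) =
      ⨆ k ∈ Finset.range r, Module.End.eigenspace inertia (k : ℚ) := by
  rw [inertiaR_eq_aeval]
  exact ker_aeval_descPochhammer inertia r

theorem inertiaR_eq_zero_of_mem_Kle (n : ℕ) (v : K) (hv : v ∈ Kle n) :
    inertiaR (n + 1) v = 0 := by
  have := map_mem_of_supported (inertiaR (n + 1)) _ ⊥ ?_ v hv
  · simpa using this
  · intro i hi
    rw [inertiaR_single, Submodule.mem_bot]
    apply inertiaROf_eq_zero_of_lt
    have : i.card ≤ n := hi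
    have h2 : Nat.card i.rep = i.card := rfl
    omega

theorem exists_mem_Kle (v : K) : ∃ n, v ∈ Kle n := by
  refine ⟨v.support.sup Idx.card, ?_⟩
  unfold Kle
  rw [Finsupp.mem_supported]
  intro i hi
  exact Finset.le_sup (f := Idx.card) hi

theorem iSup_eigenspace_eq_top :
    (⨆ n : ℕ, Module.End.eigenspace inertia (n : ℚ)) = ⊤ := by
  rw [eq_top_iff]
  intro v _
  obtain ⟨n, hn⟩ := exists_mem_Kle v
  have h1 : v ∈ LinearMap.ker (inertiaR (n + 1)) := inertiaR_eq_zero_of_mem_Kle n v hn
  rw [ker_inertiaR] at h1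
  refine (iSup₂_le (fun k _ => ?_) : (⨆ k ∈ Finset.range (n + 1),
    Module.End.eigenspace inertia (k : ℚ)) ≤ _) h1
  exact le_iSup (fun n : ℕ => Module.End.eigenspace inertia (n : ℚ)) k

end Groth.Agent.Lead.Inertia
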