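import Mathlib
import Groth.Agent.Lib.Lead.Inertia9

namespace Groth.Agent.Lead.Inertia
open W4c5stacksedinertia
open Classical Polynomial

universe u v

theorem inertiaR_apply_eigen (m r : ℕ) (v : K)
    (hv : v ∈ Module.End.eigenspace inertia (m : ℚ)) :
    inertiaR r v = (m.descFactorial r : ℚ) • v := by
  by_cases h0 : v = 0
  · subst h0; simp
  · have hev : Module.End.HasEigenvector inertia (m : ℚ) v := ⟨hv, h0⟩
    rw [inertiaR_eq_aeval, Module.End.aeval_apply_of_hasEigenvector hev,
      descPochhammer_eval_eq_descFactorial]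

theorem eigenspace_le (k r : ℕ) :
    Module.End.eigenspace inertia (k : ℚ) ≤
      Module.End.eigenspace (inertiaR r) ((Nat.factorial r * Nat.choose k r : ℕ) : ℚ) := by
  intro v hv
  rw [Module.End.mem_eigenspace_iff, inertiaR_apply_eigen k r v hv,
    Nat.descFactorial_eq_factorial_mul_choose]

theorem inertia_injective : Function.Injective inertia := by
  rw [← LinearMap.ker_eq_bot, LinearMap.ker_eq_bot']
  intro v hv
  by_contra hne
  have hsupp : v.support.Nonempty := Finsupp.support_nonempty_iff.mpr hne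
  obtain ⟨i₀, hi₀, hmin⟩ := Finset.exists_min_image v.support Idx.centerCard hsupp
  have hvk : v ∈ Kge i₀.centerCard := by
    unfold Kge
    rw [Finsupp.mem_supported]
    intro i hi
    exact hmin i hi
  have h1 := triangular 1 i₀.centerCard v hvk
  have hinert : inertiaR 1 v = 0 := hv
  rw [hinert, zero_sub, Submodule.neg_mem_iff] at h1
  have hk : 0 < i₀.centerCard := Nat.card_pos
  have hc : ((Nat.factorial 1 * Nat.choose i₀.centerCard 1 : ℕ) : ℚ) ≠ 0 := by
    simp only [Nat.factorial_one, Nat.choose_one_right, one_mul]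
    exact_mod_cast hk.ne'
  rw [Submodule.smul_mem_iff _ hc] at h1
  unfold Kge at h1
  rw [Finsupp.mem_supported] at h1
  have h5 : i₀.centerCard + 1 ≤ i₀.centerCard := h1 hi₀
  omega

theorem root_descPochhammer (r : ℕ) (μ : ℚ) (h : (descPochhammer ℚ r).eval μ = 0) :
    ∃ j < r, μ = j := by
  induction r with
  | zero => simp at h
  | succ r ih =>
    rw [descPochhammer_succ_right, eval_mul] at h
    rcases mul_eq_zero.mp h with h | h
    · obtain ⟨j, hj, e⟩ := ih h
      exact ⟨j, by omega, e⟩
    · refine ⟨r, by omega, ?_⟩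
      simp only [eval_sub, eval_X, eval_natCast] at h
      linarith

theorem eigenvalue_pos_nat (μ : ℚ) (h : Module.End.HasEigenvalue inertia μ) :
    ∃ n : ℕ, 0 < n ∧ μ = n := by
  obtain ⟨v, hv⟩ := h.exists_hasEigenvector
  obtain ⟨n, hn⟩ := exists_mem_Kle v
  have h1 := inertiaR_eq_zero_of_mem_Kle n v hn
  rw [inertiaR_eq_aeval, Module.End.aeval_apply_of_hasEigenvector hv] at h1
  have h2 : (descPochhammer ℚ (n + 1)).eval μ = 0 := by
    rcases smul_eq_zero.mp h1 with h | h
    · exact h
    · exact absurd h hv.2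
  obtain ⟨j, hj, rfl⟩ := root_descPochhammer (n + 1) μ h2
  refine ⟨j, ?_, rfl⟩
  by_contra h0
  have hj0 : j = 0 := by omega
  subst hj0
  have h3 := hv.apply_eq_smul
  simp only [Nat.cast_zero, zero_smul] at h3
  exact hv.2 (inertia_injective (by rw [h3, map_zero]))

theorem hasEigenvalue_of_pos (n : ℕ) (hn : 0 < n) :
    Module.End.HasEigenvalue inertia (n : ℚ) := by
  have : NeZero n := ⟨hn.ne'⟩
  have h1 : inertia (cl (Multiplicative (ZMod n))) = (n : ℚ) • cl (Multiplicative (ZMod n)) := by
    rw [inertiaR_cl, inertiaROf_one]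
    have hc : ∀ h : Multiplicative (ZMod n),
        Phi (Multiplicative (ZMod n)) {h} = cl (Multiplicative (ZMod n)) := by
      intro h
      apply Phi_of_subset_center
      rw [CommGroup.center_eq_top]
      exact Set.subset_univ _
    rw [Finset.sum_congr rfl (fun h _ => hc h), Finset.sum_const, Finset.card_univ,
      ← Nat.cast_smul_eq_nsmul ℚ]
    congr 2
    rw [Fintype.card_multiplicative, ZMod.card]
  apply Module.End.hasEigenvalue_of_hasEigenvector (x := cl (Multiplicative (ZMod n)))
  refine ⟨Module.End.mem_eigenspace_iff.mpr h1, ?_⟩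
  unfold cl
  simp

theorem binom_inv_int (m k : ℕ) :
    (∑ r ∈ Finset.range (m + 1), (-1 : ℤ) ^ (r + k) * ((m.choose r * r.choose k : ℕ) : ℤ)) =
      if m = k then 1 else 0 := by
  rcases lt_or_ge m k with h | h
  · rw [if_neg (by omega)]
    apply Finset.sum_eq_zero
    intro r hr
    rw [Finset.mem_range] at hr
    rw [Nat.choose_eq_zero_of_lt (by omega : r < k)]
    simp
  · rw [Finset.range_eq_Ico, ← Finset.sum_Ico_consecutive _ (Nat.zero_le k) (by omega : k ≤ m + 1)]
    have h0 : (∑ r ∈ Finset.Ico 0 k,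
        (-1 : ℤ) ^ (r + k) * ((m.choose r * r.choose k : ℕ) : ℤ)) = 0 := by
      apply Finset.sum_eq_zero
      intro r hr
      rw [Finset.mem_Ico] at hr
      rw [Nat.choose_eq_zero_of_lt hr.2]
      simp
    rw [h0, zero_add, Finset.sum_Ico_eq_sum_range]
    have hterm : ∀ j : ℕ,
        (-1 : ℤ) ^ (k + j + k) * ((m.choose (k + j) * (k + j).choose k : ℕ) : ℤ) =
        (m.choose k : ℤ) * ((-1) ^ j * ((m - k).choose j : ℤ)) := by
      intro j
      rw [Nat.choose_mul (Nat.le_add_right k j), Nat.add_sub_cancel_left]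
      have : (-1 : ℤ) ^ (k + j + k) = (-1) ^ j := by
        rw [show k + j + k = j + 2 * k by ring, pow_add, pow_mul]
        simp
      rw [this]
      push_cast
      ring
    rw [Finset.sum_congr rfl (fun j _ => hterm j), ← Finset.mul_sum]
    have hmk : m + 1 - k = (m - k) + 1 := by omega
    rw [hmk, Int.alternating_sum_range_choose]
    by_cases hmk' : m = k
    · subst hmk'
      simp
    · rw [if_neg (by omega), if_neg hmk', mul_zero]

theorem binom_inv (m k : ℕ) :
    (∑ r ∈ Finset.range (m + 1),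
      (((-1 : ℚ) ^ (r + k)) / (Nat.factorial r : ℚ) * (Nat.choose r k : ℚ)) *
      (m.descFactorial r : ℚ)) = if m = k then 1 else 0 := by
  have h := binom_inv_int m k
  have h2 : ((∑ r ∈ Finset.range (m + 1),
      (-1 : ℤ) ^ (r + k) * ((m.choose r * r.choose k : ℕ) : ℤ) : ℤ) : ℚ) =
      ((if m = k then 1 else 0 : ℤ) : ℚ) := by rw [h]
  push_cast at h2
  rw [← h2]
  apply Finset.sum_congr rfl
  intro r _
  rw [Nat.descFactorial_eq_factorial_mul_choose]
  have hr : (Nat.factorial r : ℚ) ≠ 0 := by exact_mod_cast (Nat.factorial_pos r).ne'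
  push_cast
  field_simp

end Groth.Agent.Lead.Inertia
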