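import Mathlib
import Groth.Agent.Lib.Lead.Inertia10

namespace Groth.Agent.Lead.Inertia
open W4c5stacksedinertia
open Classical Polynomial

universe u v

theorem proj_apply (f : ℕ →₀ K) (hf : ∀ m : ℕ, f m ∈ Module.End.eigenspace inertia (m : ℚ)) (k : ℕ) :
    (∑ᶠ r : ℕ, (((-1 : ℚ) ^ (r + k)) / (Nat.factorial r : ℚ) * (Nat.choose r k : ℚ)) •
        inertiaR r (f.sum fun _ x => x)) = f k := by
  have h1 : ∀ r : ℕ, (((-1 : ℚ) ^ (r + k)) / (Nat.factorial r : ℚ) * (Nat.choose r k : ℚ)) •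
      inertiaR r (f.sum fun _ x => x) =
      ∑ m ∈ f.support, ((((-1 : ℚ) ^ (r + k)) / (Nat.factorial r : ℚ) * (Nat.choose r k : ℚ)) *
        (m.descFactorial r : ℚ)) • f m := by
    intro r
    rw [Finsupp.sum, map_sum, Finset.smul_sum]
    refine Finset.sum_congr rfl (fun m _ => ?_)
    rw [inertiaR_apply_eigen m r (f m) (hf m), smul_smul]
  have hsupp : ∀ m : ℕ, (Function.support fun r : ℕ =>
      ((((-1 : ℚ) ^ (r + k)) / (Nat.factorial r : ℚ) * (Nat.choose r k : ℚ)) *
        (m.descFactorial r : ℚ)) • f m) ⊆ ↑(Finset.range (m + 1)) := by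
    intro m r hr
    rw [Finset.coe_range, Set.mem_Iio]
    by_contra hlt
    apply hr
    show _ • f m = 0
    rw [Nat.descFactorial_of_lt (by omega : m < r)]
    simp
  rw [finsum_congr h1, finsum_sum_comm]
  · have h2 : ∀ m ∈ f.support, (∑ᶠ r : ℕ,
        ((((-1 : ℚ) ^ (r + k)) / (Nat.factorial r : ℚ) * (Nat.choose r k : ℚ)) *
          (m.descFactorial r : ℚ)) • f m) = (if m = k then (1 : ℚ) else 0) • f m := by
      intro m _
      rw [finsum_eq_sum_of_support_subset _ (hsupp m), ← Finset.sum_smul, binom_inv]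
    rw [Finset.sum_congr rfl h2]
    simp only [ite_smul, one_smul, zero_smul]
    rw [Finset.sum_ite_eq' f.support k (fun m => f m)]
    split_ifs with hk
    · rfl
    · exact (Finsupp.notMem_support_iff.mp hk).symm
  · intro m _
    exact (Finset.finite_toSet _).subset (hsupp m)

theorem proj_mem_and_sum (v : K) :
    (∀ k : ℕ, (∑ᶠ r : ℕ, (((-1 : ℚ) ^ (r + k)) / (Nat.factorial r : ℚ) * (Nat.choose r k : ℚ)) •
        inertiaR r v) ∈ Module.End.eigenspace inertia (k : ℚ)) ∧
    (∑ᶠ k : ℕ, ∑ᶠ r : ℕ, (((-1 : ℚ) ^ (r + k)) / (Nat.factorial r : ℚ) * (Nat.choose r k : ℚ)) •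
        inertiaR r v) = v := by
  have hv : v ∈ (⨆ n : ℕ, Module.End.eigenspace inertia (n : ℚ)) := by
    rw [iSup_eigenspace_eq_top]; exact Submodule.mem_top
  obtain ⟨f, hf, rfl⟩ := (Submodule.mem_iSup_iff_exists_finsupp _ _).mp hv
  constructor
  · intro k
    rw [proj_apply f hf k]
    exact hf k
  · rw [finsum_congr (fun k => proj_apply f hf k)]
    rw [finsum_eq_sum_of_support_subset (s := f.support)]
    · rfl
    · intro k hk
      exact Finsupp.mem_support_iff.mpr hk

end Groth.Agent.Lead.Inertia
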