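import Mathlib
import Groth.Prelude.Def_StCoarse
import Groth.Agent.Lib.Helper2.AlgSt.Inertia
import Groth.Agent.Lib.Helper2.AlgSt.RepDiagApps3
import Groth.Agent.Lib.Helper2.AlgSp.ProperQf
import Groth.Agent.Lib.Helper2.FibCat.EquivCrit

/-!
# Inertia relative to a map to a sheaf is the absolute inertia; finite inertia from a separated
map to an algebraic space (lead)
-/

set_option backward.isDefEq.respectTransparency.types false
set_option autoImplicit false
set_option synthInstance.maxHeartbeats 400000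
set_option maxHeartbeats 1000000
set_option linter.style.haveILetI false
set_option linter.unusedSectionVars false
set_option linter.unusedSimpArgs false

open CategoryTheory CategoryTheory.Functor CategoryTheory.Limits AlgebraicGeometry Opposite

universe u

namespace Groth.Agent.Lead.InertiaCmp

open Groth.Agent.Helper2 Groth.Agent.Helper2.FibCatLib Groth.Agent.Helper2.StkLib
open Groth.Agent.Helper2.AlgSpBasic Groth.Agent.Helper2.EtaleLocal Groth.Agent.Helper2.AlgStLib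
open AlgSp

variable {S : Scheme.{u}} {𝒳 : BasedCategory.{u, u + 1} (Over S)}
  {M : (Over S)ᵒᵖ ⥤ Type (u + 1)}

/-- A morphism of `𝒳` lying over an identity is killed by any functor to a category fibred in
sets. -/
theorem map_eq_id_of_p_map_eq_id (π : 𝒳 ⥤ᵇ Stk.ofPsh M) {x : 𝒳.obj} (α : x ⟶ x)
    (h : 𝒳.p.map α = 𝟙 (𝒳.p.obj x)) : π.map α = 𝟙 (π.obj x) := by
  apply Stk.EltObj.hom_ext
  have h1 := Functor.congr_hom π.w α
  simp only [Functor.comp_map] at h1
  rw [h, Category.id_comp, eqToHom_trans, eqToHom_refl] at h1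
  exact h1

theorem p_map_eq_id_of_map_eq_id (π : 𝒳 ⥤ᵇ Stk.ofPsh M) {x : 𝒳.obj} (α : x ⟶ x)
    (h : π.map α = 𝟙 (π.obj x)) : 𝒳.p.map α = 𝟙 (𝒳.p.obj x) := by
  have h1 := Functor.congr_hom π.w.symm α
  simp only [Functor.comp_map] at h1
  rw [h1]
  have h2 : (Stk.ofPsh M).p.map (π.toFunctor.map α) = 𝟙 _ := by
    change (Stk.ofPsh M).p.map (π.map α) = 𝟙 _
    rw [h]
    exact (Stk.ofPsh M).p.map_id _
  rw [h2]
  simp

/-- The comparison from the absolute inertia to the inertia relative to a functor to a category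
fibred in sets. -/
def cmp (π : 𝒳 ⥤ᵇ Stk.ofPsh M) : FibCat.inertia (FibCat.toSelf 𝒳) ⥤ᵇ FibCat.inertia π where
  toFunctor :=
    { obj := fun a => ⟨a.pt, a.aut, map_eq_id_of_p_map_eq_id π a.aut.hom a.map_aut⟩
      map := fun f => ⟨f.hom, f.comm⟩ }
  w := rfl

theorem cmp_comp_inertiaToBase (π : 𝒳 ⥤ᵇ Stk.ofPsh M) :
    BasedFunctor.comp (cmp π) (FibCat.inertiaToBase π) = FibCat.inertiaToBase (FibCat.toSelf 𝒳) :=
  rfl

theorem cmp_isEquivOver (π : 𝒳 ⥤ᵇ Stk.ofPsh M) : FibCat.IsEquivOver (cmp π) := by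
  rw [isEquivOver_iff]
  refine ⟨⟨⟨fun {a b} f => ⟨⟨f.hom, f.comm⟩, rfl⟩⟩, ⟨fun {a b} f g h => ?_⟩⟩, fun η => ?_⟩
  · apply FibCat.InertiaObj.hom_ext
    have h' := congrArg (fun k => FibCat.InertiaObj.Hom.hom k) h
    exact h'
  · refine ⟨⟨η.pt, η.aut, p_map_eq_id_of_map_eq_id π η.aut.hom η.map_aut⟩, Iso.refl _, ?_⟩
    exact FpInv.isHomLift_id' _ _ rfl

/-- If `π : 𝒳 ⟶ M` to a sheaf is separated and `𝒳` is quasi-DM over `S`, the inertia of `𝒳`
is finite. -/
theorem finite_inertia {M : AlgSp.Sp S} (π : 𝒳 ⥤ᵇ AlgSt.ofSp M) (hsep : AlgSt.IsSeparatedMor π)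
    (hqf : AlgSt.IsQuasiDMOver 𝒳) :
    AlgSt.RepByAlgSpWith AlgSp.IsFiniteMor (FibCat.inertiaToBase (FibCat.toSelf 𝒳)) := by
  have h1 : AlgSt.RepByAlgSpWith AlgSp.IsProperMor (FibCat.inertiaToBase π) :=
    repByAlgSpWith_inertiaToBase_of_diag _ π hsep
  have h2 : AlgSt.RepByAlgSpWith AlgSp.IsProperMor (FibCat.inertiaToBase (FibCat.toSelf 𝒳)) :=
    (repByAlgSpWith_of_square AlgSp.IsProperMor (FibCat.inertiaToBase π)
      (FibCat.inertiaToBase (FibCat.toSelf 𝒳)) (cmp π) (BasedFunctor.id 𝒳) (cmp_isEquivOver π)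
      ReprInv.isEquivOver_id (Iso.refl _)).1 h1
  have h3 : AlgSt.RepByAlgSpWith (AlgSp.LocP (@LocallyQuasiFinite ⊓ @LocallyOfFiniteType))
      (FibCat.inertiaToBase (FibCat.toSelf 𝒳)) :=
    repByAlgSpWith_inertiaToBase_of_diag _ _ hqf
  have hrep : AlgSt.RepByAlgSp1 (FibCat.inertiaToBase (FibCat.toSelf 𝒳)) :=
    repByAlgSp1_of_repByAlgSpWith _ h3
  rw [repByAlgSpWith_iff_forall _ (respectsIsoSp_of_stableBC stableBC_isProperMor) _ hrep] at h2
  rw [repByAlgSpWith_iff_forall _ (respectsIsoSp_of_stableBC (stableBC_locP _)) _ hrep] at h3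
  intro T y
  obtain ⟨F, e, he⟩ := hrep T y
  refine ⟨F, e, he, ?_⟩
  obtain ⟨hs, -, huc⟩ := h2 T y F e he
  exact Groth.Agent.Helper2.ProperQf.isFiniteMor_of_sep_lqf_univClosed F.property
    (AlgSp.IsAlgSpace.yon_obj T) _ hs (h3 T y F e he) huc

end Groth.Agent.Lead.InertiaCmp
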