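import Mathlib
import Groth.Prelude.Def_IntMult
import Groth.Agent.Lib.Lead.IntCart2

set_option backward.isDefEq.respectTransparency.types false
set_option synthInstance.maxHeartbeats 400000
set_option autoImplicit false
set_option linter.unusedSectionVars false
set_option linter.style.haveILetI false
universe u
open CategoryTheory AlgebraicGeometry TopologicalSpace

namespace Groth.Agent.Lead.IntCart

variable {X : Scheme.{u}}

/-- the key non-membership: under proper intersection, the local equation of `V` does not lie in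
the ideal of `W` -/
theorem not_mem_stalkIdeal [IsIntegral X] (IV IW : X.IdealSheafData)
    [IsIntegral IV.subscheme] [IsIntegral IW.subscheme] (n r s : ℕ)
    (hn : topologicalKrullDim X = n) (hr : topologicalKrullDim IV.support = r)
    (hs : topologicalKrullDim IW.support = s)
    (hprop : IntMult.ProperInt (IV.support : Set X) (IW.support : Set X) n r s) (ξ : X)
    (hξV : ξ ∈ IV.support) (hξW : ξ ∈ IW.support)
    (hmax : ∀ ξ' : X, ξ' ∈ IV.support → ξ' ∈ IW.support → ξ' ⤳ ξ → ξ' = ξ)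
    (g : ↑(X.presheaf.stalk ξ)) (hg : IntMult.stalkIdeal IV ξ = Ideal.span {g})
    (hreg : IsSMulRegular (↑(X.presheaf.stalk ξ)) g) :
    (IntMult.stalkIdeal IW ξ).IsPrime ∧ g ∉ IntMult.stalkIdeal IW ξ := by
  obtain ⟨U, hU, hξU, -⟩ := exists_isAffineOpen_mem_and_subset (x := ξ) (U := ⊤) trivial
  let U' : X.affineOpens := ⟨U, hU⟩
  letI := X.presheaf.algebra_section_stalk ⟨ξ, hξU⟩
  haveI := hU.isLocalization_stalk ⟨ξ, hξU⟩
  set p := (hU.primeIdealOf ⟨ξ, hξU⟩).asIdeal with hp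
  set a := IV.ideal U' with ha
  set b := IW.ideal U' with hb
  have hbprime : b.IsPrime := ideal_isPrime IW U' ξ hξU hξW
  have hbp : b ≤ p := (mem_support_iff_le IW U' ξ hξU).1 hξW
  have hJ : IntMult.stalkIdeal IW ξ = b.map (algebraMap Γ(X, U) (X.presheaf.stalk ξ)) :=
    stalkIdeal_eq_map IW ξ U' hξU
  have hJV : IntMult.stalkIdeal IV ξ = a.map (algebraMap Γ(X, U) (X.presheaf.stalk ξ)) :=
    stalkIdeal_eq_map IV ξ U' hξU
  have hdisj : Disjoint (p.primeCompl : Set Γ(X, U)) (b : Set Γ(X, U)) := by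
    rw [Set.disjoint_left]
    intro x hx hxb
    exact hx (hbp hxb)
  have hJprime : (IntMult.stalkIdeal IW ξ).IsPrime := by
    rw [hJ]
    exact IsLocalization.isPrime_of_isPrime_disjoint p.primeCompl _ b hbprime hdisj
  refine ⟨hJprime, ?_⟩
  intro hgJ
  have h1 : a.map (algebraMap Γ(X, U) (X.presheaf.stalk ξ)) ≤
      b.map (algebraMap Γ(X, U) (X.presheaf.stalk ξ)) := by
    rw [← hJV, ← hJ, hg, Ideal.span_le]
    intro x hx
    rw [Set.mem_singleton_iff] at hx
    rw [hx]
    exact hgJ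
  have hab : a ≤ b := by
    have h2 := Ideal.comap_mono (f := algebraMap Γ(X, U) (X.presheaf.stalk ξ)) h1
    have h3 : Ideal.comap (algebraMap Γ(X, U) (X.presheaf.stalk ξ))
        (b.map (algebraMap Γ(X, U) (X.presheaf.stalk ξ))) = b :=
      IsLocalization.under_map_of_isPrime_disjoint p.primeCompl _ hbprime hdisj
    rw [h3] at h2
    exact Ideal.le_comap_map.trans h2
  -- points of `U` given by primes
  have hmemU : ∀ q : PrimeSpectrum Γ(X, U), hU.fromSpec q ∈ U := by
    intro q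
    rw [← SetLike.mem_coe, ← hU.range_fromSpec]
    exact ⟨q, rfl⟩
  have hprimeOf : ∀ q : PrimeSpectrum Γ(X, U), hU.primeIdealOf ⟨hU.fromSpec q, hmemU q⟩ = q := by
    intro q
    exact hU.fromSpec.isOpenEmbedding.injective (hU.fromSpec_primeIdealOf ⟨hU.fromSpec q, hmemU q⟩)
  have hspec : ∀ (x y : X) (hx : x ∈ U) (hy : y ∈ U),
      (hU.primeIdealOf ⟨x, hx⟩).asIdeal ≤ (hU.primeIdealOf ⟨y, hy⟩).asIdeal → x ⤳ y := by
    intro x y hx hy hle
    have h3 : hU.primeIdealOf ⟨x, hx⟩ ⤳ hU.primeIdealOf ⟨y, hy⟩ :=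
      (PrimeSpectrum.le_iff_specializes _ _).mp hle
    have h4 := h3.map hU.fromSpec.continuous
    rwa [hU.fromSpec_primeIdealOf ⟨x, hx⟩, hU.fromSpec_primeIdealOf ⟨y, hy⟩] at h4
  let q : PrimeSpectrum Γ(X, U) := ⟨b, hbprime⟩
  have hηW : hU.fromSpec q ∈ IW.support := by
    rw [mem_support_iff_le IW U' _ (hmemU q), hprimeOf q]
  have hηV : hU.fromSpec q ∈ IV.support := by
    rw [mem_support_iff_le IV U' _ (hmemU q), hprimeOf q]
    exact hab
  have hηξ : hU.fromSpec q ⤳ ξ := by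
    apply hspec _ _ (hmemU q) hξU
    rw [hprimeOf q]
    exact hbp
  have hη := hmax _ hηV hηW hηξ
  have hpb : p = b := by
    have h5 : hU.primeIdealOf ⟨hU.fromSpec q, hmemU q⟩ = hU.primeIdealOf ⟨ξ, hξU⟩ := by
      congr 1
      exact Subtype.ext hη
    rw [hprimeOf q] at h5
    rw [hp, ← h5]
  -- `W ⊆ closure {ξ} ⊆ V`
  have hWU : (IW.support : Set X) ∩ U ⊆ closure {ξ} := by
    rintro x ⟨hxW, hxU⟩
    rw [← specializes_iff_mem_closure]
    apply hspec ξ x hξU hxU
    have := (mem_support_iff_le IW U' x hxU).1 hxW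
    rw [← hp, hpb]
    exact this
  have hWcl : (IW.support : Set X) ⊆ closure {ξ} :=
    (subset_closure_inter_of_irreducible (isIrreducible_support IW) U.2 ⟨ξ, hξW, hξU⟩).trans
      (closure_minimal hWU isClosed_closure)
  have hWV : (IW.support : Set X) ⊆ (IV.support : Set X) :=
    hWcl.trans (closure_minimal (Set.singleton_subset_iff.2 hξV) IV.support.isClosed)
  obtain ⟨h6, h7⟩ := hprop ⟨ξ, hξV, hξW⟩
  rw [Set.inter_eq_right.mpr hWV] at h7
  have hs' : topologicalKrullDim ↥(IW.support : Set X) = s := hs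
  rw [hs'] at h7
  have h8 : s ≤ r + s - n := by exact_mod_cast h7
  have hnr : n ≤ r := by omega
  have hr' : topologicalKrullDim ↥(IV.support : Set X) = r := hr
  have hVuniv : (IV.support : Set X) = Set.univ :=
    eq_univ_of_le_dim n hn _ IV.support.isClosed (by rw [hr']; exact_mod_cast hnr)
  haveI : Nonempty U := ⟨⟨ξ, hξU⟩⟩
  haveI : IsDomain Γ(X, U) := IsIntegral.component_integral U
  let q0 : PrimeSpectrum Γ(X, U) := ⟨⊥, Ideal.isPrime_bot⟩
  have hζ : hU.fromSpec q0 ∈ IV.support := by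
    rw [← SetLike.mem_coe, hVuniv]
    exact Set.mem_univ _
  rw [mem_support_iff_le IV U' _ (hmemU q0), hprimeOf q0] at hζ
  have ha0 : a = ⊥ := le_bot_iff.mp hζ
  rw [hJV, ha0, Ideal.map_bot] at hg
  have hg0 : g = 0 := Ideal.span_singleton_eq_bot.mp hg.symm
  rw [hg0] at hreg
  have h9 : (1 : X.presheaf.stalk ξ) = 0 := hreg (by simp)
  exact one_ne_zero h9

theorem isSMulRegular_quot_of_not_mem {A : Type u} [CommRing A] (J : Ideal A) (hJ : J.IsPrime)
    (g : A) (hg : g ∉ J) : IsSMulRegular (A ⧸ J) g := by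
  haveI : IsDomain (A ⧸ J) := (Ideal.Quotient.isDomain_iff_prime J).mpr hJ
  have hne : Ideal.Quotient.mk J g ≠ 0 := by
    rw [Ne, Ideal.Quotient.eq_zero_iff_mem]
    exact hg
  intro x y hxy
  have h1 : Ideal.Quotient.mk J g * x = Ideal.Quotient.mk J g * y := by
    simpa [Algebra.smul_def] using hxy
  exact mul_left_cancel₀ hne h1

theorem main6453 [IsIntegral X] (IV IW : X.IdealSheafData)
    [IsIntegral IV.subscheme] [IsIntegral IW.subscheme] (n r s : ℕ)
    (hn : topologicalKrullDim X = n) (hr : topologicalKrullDim IV.support = r)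
    (hs : topologicalKrullDim IW.support = s)
    (hprop : IntMult.ProperInt (IV.support : Set X) (IW.support : Set X) n r s) (ξ : X)
    (hξV : ξ ∈ IV.support) (hξW : ξ ∈ IW.support)
    (hmax : ∀ ξ' : X, ξ' ∈ IV.support → ξ' ∈ IW.support → ξ' ⤳ ξ → ξ' = ξ)
    (g : ↑(X.presheaf.stalk ξ)) (hg : IntMult.stalkIdeal IV ξ = Ideal.span {g})
    (hreg : IsSMulRegular (↑(X.presheaf.stalk ξ)) g) :
    (IntMult.mult IV IW ξ : ℤ) = (Module.length (X.presheaf.stalk ξ)
      (↑(X.presheaf.stalk ξ) ⧸ (IntMult.stalkIdeal IW ξ ⊔ Ideal.span {g}))).toNat := by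
  obtain ⟨hprime, hgJ⟩ := not_mem_stalkIdeal IV IW n r s hn hr hs hprop ξ hξV hξW hmax g hg hreg
  unfold IntMult.mult
  rw [hg]
  exact chi_eq_length _ g hreg (isSMulRegular_quot_of_not_mem _ hprime g hgJ)

end Groth.Agent.Lead.IntCart
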