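import Mathlib

set_option autoImplicit false

namespace Groth.Agent.Lead.IntInd

open Polynomial

/-- In a reduced ring with only trivial idempotents, an element integral over a field is zero or
a unit. -/
theorem eq_zero_or_isUnit_of_isIntegralElem {k A : Type*} [Field k] [CommRing A] [IsReduced A]
    (hid : ∀ e : A, IsIdempotentElem e → e = 0 ∨ e = 1) (φ : k →+* A) (y : A)
    (hy : φ.IsIntegralElem y) : y = 0 ∨ IsUnit y := by
  obtain ⟨p, hp, hpy⟩ := hy
  obtain ⟨q, hq, hnd⟩ := Polynomial.exists_eq_pow_rootMultiplicity_mul_and_not_dvd p hp.ne_zero 0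
  simp only [C_0, sub_zero] at hq hnd
  obtain ⟨e, he⟩ : ∃ e, e = p.rootMultiplicity 0 := ⟨_, rfl⟩
  rw [← he] at hq
  have hc : q.coeff 0 ≠ 0 := fun h => hnd (Polynomial.X_dvd_iff.mpr h)
  obtain ⟨c, hcdef⟩ : ∃ c, c = q.coeff 0 := ⟨_, rfl⟩
  rw [← hcdef] at hc
  have hqd : q = divX q * X + C c := by rw [hcdef]; exact (Polynomial.divX_mul_X_add q).symm
  obtain ⟨r, hr⟩ : ∃ r, r = eval₂ φ y (divX q) := ⟨_, rfl⟩
  have hqy : eval₂ φ y q = r * y + φ c := by
    conv_lhs => rw [hqd]
    rw [eval₂_add, eval₂_mul, eval₂_X, eval₂_C, hr]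
  have h0 : y ^ e * eval₂ φ y q = 0 := by
    rw [hq] at hpy
    rw [eval₂_mul, eval₂_pow, eval₂_X] at hpy
    exact hpy
  obtain ⟨u, hu⟩ : ∃ u, u = φ c⁻¹ * r := ⟨_, rfl⟩
  obtain ⟨ε, hε⟩ : ∃ ε, ε = 1 + y * u := ⟨_, rfl⟩
  have hε' : φ c⁻¹ * eval₂ φ y q = ε := by
    rw [hqy, mul_add, ← map_mul, inv_mul_cancel₀ hc, map_one, hε, hu]; ring
  have h1 : y ^ e * ε = 0 := by
    rw [← hε', mul_left_comm, h0, mul_zero]
  have h2 : y * ε = 0 := by
    apply IsReduced.eq_zero
    refine ⟨e + 1, ?_⟩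
    calc (y * ε) ^ (e + 1) = (y ^ e * ε) * (y * ε ^ e) := by ring
      _ = 0 := by rw [h1, zero_mul]
  have h3 : IsIdempotentElem ε := by
    change ε * ε = ε
    have : ε * ε = ε + u * (y * ε) := by rw [hε]; ring
    rw [this, h2, mul_zero, add_zero]
  rcases hid ε h3 with h | h
  · right
    refine IsUnit.of_mul_eq_one (-u) ?_
    have h4 : 1 + y * u = 0 := by rw [← hε]; exact h
    linear_combination (-1 : A) * h4
  · left
    rw [h, mul_one] at h2; exact h2

/-- Auxiliary pair sequence for the Euclid sequence. -/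
noncomputable def euc : ℕ → ℤ[X] × ℤ[X]
  | 0 => (X, X)
  | n + 1 => ((euc n).2 + 1, (euc n).2 * ((euc n).2 + 1))

/-- Euclid sequence of pairwise coprime monic integer polynomials. -/
noncomputable def eucR (n : ℕ) : ℤ[X] := (euc n).1
/-- Partial products of the Euclid sequence. -/
noncomputable def eucP (n : ℕ) : ℤ[X] := (euc n).2

theorem eucR_zero : eucR 0 = X := rfl
theorem eucP_zero : eucP 0 = X := rfl
theorem eucR_succ (n : ℕ) : eucR (n + 1) = eucP n + 1 := rfl
theorem eucP_succ (n : ℕ) : eucP (n + 1) = eucP n * eucR (n + 1) := rfl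

theorem eucR_dvd_eucP {i n : ℕ} (h : i ≤ n) : eucR i ∣ eucP n := by
  induction n with
  | zero =>
    obtain rfl : i = 0 := by omega
    rw [eucR_zero, eucP_zero]
  | succ n ih =>
    rcases Nat.lt_or_ge i (n + 1) with h' | h'
    · rw [eucP_succ]; exact Dvd.dvd.mul_right (ih (by omega)) _
    · obtain rfl : i = n + 1 := by omega
      rw [eucP_succ]; exact dvd_mul_left _ _

theorem isCoprime_eucR {i j : ℕ} (h : i < j) : IsCoprime (eucR i) (eucR j) := by
  obtain ⟨m, rfl⟩ : ∃ m, j = m + 1 := ⟨j - 1, by omega⟩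
  obtain ⟨c, hc⟩ := eucR_dvd_eucP (show i ≤ m by omega)
  refine ⟨-c, 1, ?_⟩
  rw [eucR_succ, hc]; ring

theorem euc_monic (n : ℕ) : (eucP n).Monic ∧ 0 < (eucP n).natDegree ∧
    (eucR n).Monic ∧ 0 < (eucR n).natDegree := by
  induction n with
  | zero =>
    refine ⟨?_, ?_, ?_, ?_⟩
    · rw [eucP_zero]; exact monic_X
    · rw [eucP_zero, natDegree_X]; exact Nat.one_pos
    · rw [eucR_zero]; exact monic_X
    · rw [eucR_zero, natDegree_X]; exact Nat.one_pos
  | succ n ih =>
    obtain ⟨hPm, hPd, -, -⟩ := ih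
    have hRm : (eucR (n + 1)).Monic := by
      rw [eucR_succ]
      refine hPm.add_of_left ?_
      rw [degree_one]
      exact natDegree_pos_iff_degree_pos.mp hPd
    have hRd : (eucR (n + 1)).natDegree = (eucP n).natDegree := by
      rw [eucR_succ]
      exact natDegree_add_eq_left_of_natDegree_lt (by rw [natDegree_one]; exact hPd)
    refine ⟨?_, ?_, hRm, by rw [hRd]; exact hPd⟩
    · rw [eucP_succ]; exact hPm.mul hRm
    · rw [eucP_succ, hPm.natDegree_mul hRm]; omega

theorem isIntegralElem_eval₂_int {k A : Type*} [CommRing k] [CommRing A] (φ : k →+* A) (x : A)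
    (hx : φ.IsIntegralElem x) (R : ℤ[X]) :
    φ.IsIntegralElem (eval₂ (Int.castRingHom A) x R) := by
  let _ := φ.toAlgebra
  change IsIntegral k _
  have hx' : IsIntegral k x := hx
  rw [eval₂_eq_sum_range]
  refine IsIntegral.sum _ fun i _ => IsIntegral.mul ?_ (IsIntegral.pow hx' i)
  rw [eq_intCast, ← map_intCast (algebraMap k A)]
  exact isIntegral_algebraMap

/-- A finite type injective map from `k[X]` cannot make infinitely many pairwise coprime nonunits
into units. -/
theorem exists_not_isUnit_of_injective {k B : Type*} [Field k] [CommRing B] (f : k[X] →+* B)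
    (hft : f.FiniteType) (hinj : Function.Injective f)
    (P : ℕ → k[X]) (hcop : ∀ i j, i < j → IsCoprime (P i) (P j)) (hnu : ∀ i, ¬ IsUnit (P i)) :
    ∃ n, ¬ IsUnit (f (P n)) := by
  classical
  have hfp : f.FinitePresentation := RingHom.FinitePresentation.of_finiteType.mp hft
  obtain ⟨S, hS⟩ := PrimeSpectrum.exists_constructibleSetData_iff.mpr
    (PrimeSpectrum.isConstructible_range_comap hfp)
  have hbotmin : (⊥ : Ideal k[X]) ∈ minimalPrimes k[X] := by
    change (⊥ : Ideal k[X]) ∈ (⊥ : Ideal k[X]).minimalPrimes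
    rw [Ideal.minimalPrimes_eq_subsingleton_self]; exact Set.mem_singleton _
  obtain ⟨q0, hq0, hq0c⟩ := Ideal.exists_comap_eq_of_mem_minimalPrimes_of_injective hinj ⊥ hbotmin
  let η : PrimeSpectrum k[X] := ⟨⊥, Ideal.isPrime_bot⟩
  have hη : η ∈ S.toSet := by
    rw [hS]
    exact ⟨⟨q0, hq0⟩, PrimeSpectrum.ext hq0c⟩
  obtain ⟨C, hCS, hηC⟩ := Set.mem_iUnion₂.mp hη
  have hηC' : η ∈ PrimeSpectrum.zeroLocus (Set.range C.g) \ PrimeSpectrum.zeroLocus {C.f} := hηC
  have hg0 : ∀ i, C.g i = 0 := by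
    intro i
    have h1 := hηC'.1
    rw [PrimeSpectrum.mem_zeroLocus] at h1
    have h' : C.g i ∈ η.asIdeal := h1 ⟨i, rfl⟩
    exact (Submodule.mem_bot _).mp h'
  have hf0 : C.f ≠ 0 := by
    intro h
    apply hηC'.2
    rw [PrimeSpectrum.mem_zeroLocus, Set.singleton_subset_iff, h]; exact zero_mem _
  have hrange : ∀ p : PrimeSpectrum k[X], C.f ∉ p.asIdeal →
      p ∈ Set.range (PrimeSpectrum.comap f) := by
    intro p hp
    rw [← hS]
    refine Set.mem_iUnion₂.mpr ⟨C, hCS, ?_⟩
    change p ∈ PrimeSpectrum.zeroLocus (Set.range C.g) \ PrimeSpectrum.zeroLocus {C.f}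
    refine ⟨?_, ?_⟩
    · rw [PrimeSpectrum.mem_zeroLocus]; rintro _ ⟨i, rfl⟩; rw [hg0 i]; exact zero_mem _
    · rw [PrimeSpectrum.mem_zeroLocus, Set.singleton_subset_iff]; exact hp
  obtain ⟨g, hgdef⟩ : ∃ g, g = C.f := ⟨_, rfl⟩
  rw [← hgdef] at hf0 hrange
  obtain ⟨n, hn⟩ : ∃ n, IsCoprime (P n) g := by
    by_contra hcon
    simp only [not_exists] at hcon
    let d : ℕ → k[X] := fun n => EuclideanDomain.gcd (P n) g
    have hd1 : ∀ n, d n ∣ P n := fun n => EuclideanDomain.gcd_dvd_left _ _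
    have hd2 : ∀ n, d n ∣ g := fun n => EuclideanDomain.gcd_dvd_right _ _
    have hd3 : ∀ n, ¬ IsUnit (d n) := fun n h => hcon n (EuclideanDomain.gcd_isUnit_iff.mp h)
    have hd0 : ∀ n, d n ≠ 0 := fun n h => hf0 (by
      have := hd2 n; rw [h] at this; exact zero_dvd_iff.mp this)
    have hdeg : ∀ n, 1 ≤ (d n).natDegree := by
      intro n
      by_contra hlt
      have h0 : (d n).natDegree = 0 := by omega
      apply hd3 n
      rw [Polynomial.isUnit_iff_degree_eq_zero, Polynomial.degree_eq_natDegree (hd0 n), h0]; rfl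
    have hcop' : ∀ i j, i ≠ j → IsCoprime (d i) (d j) := by
      intro i j hij
      rcases lt_or_gt_of_ne hij with h | h
      · exact IsCoprime.of_isCoprime_of_dvd_left
          (IsCoprime.of_isCoprime_of_dvd_right (hcop i j h) (hd1 j)) (hd1 i)
      · exact (IsCoprime.of_isCoprime_of_dvd_left
          (IsCoprime.of_isCoprime_of_dvd_right (hcop j i h) (hd1 i)) (hd1 j)).symm
    have hprod : ∏ i ∈ Finset.range (g.natDegree + 1), d i ∣ g :=
      Finset.prod_dvd_of_coprime (fun i _ j _ hij => hcop' i j hij) (fun i _ => hd2 i)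
    have h1 := Polynomial.natDegree_le_of_dvd hprod hf0
    rw [Polynomial.natDegree_prod _ _ (fun i _ => hd0 i)] at h1
    have h2 : g.natDegree + 1 ≤ ∑ i ∈ Finset.range (g.natDegree + 1), (d i).natDegree := by
      calc g.natDegree + 1 = ∑ i ∈ Finset.range (g.natDegree + 1), 1 := by simp
        _ ≤ _ := Finset.sum_le_sum (fun i _ => hdeg i)
    omega
  refine ⟨n, ?_⟩
  have hPn : Ideal.span {P n} ≠ ⊤ := by
    rw [Ne, Ideal.span_singleton_eq_top]; exact hnu n
  obtain ⟨M, hM, hle⟩ := Ideal.exists_le_maximal _ hPn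
  have hPM : P n ∈ M := hle (Ideal.subset_span (Set.mem_singleton _))
  have hgM : g ∉ M := by
    intro hg
    obtain ⟨a, b, hab⟩ := hn
    apply hM.ne_top
    rw [Ideal.eq_top_iff_one, ← hab]
    exact M.add_mem (M.mul_mem_left a hPM) (M.mul_mem_left b hg)
  obtain ⟨⟨q, hq⟩, hqc⟩ := hrange ⟨M, hM.isPrime⟩ hgM
  have hqc' : q.comap f = M := congrArg PrimeSpectrum.asIdeal hqc
  intro hu
  apply hq.ne_top
  have hmem : P n ∈ q.comap f := by rw [hqc']; exact hPM
  exact Ideal.eq_top_of_isUnit_mem _ hmem hu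

/-- If all members of the Euclid sequence evaluate to units at `x` in a finite type algebra over a
field, then `x` is algebraic. -/
theorem exists_monic_eval₂_eq_zero {k B : Type*} [Field k] [CommRing B] (ψ : k →+* B)
    (hψ : ψ.FiniteType) (x : B)
    (hu : ∀ n, IsUnit (eval₂ (Int.castRingHom B) x (eucR n))) :
    ∃ Q : k[X], Q.Monic ∧ eval₂ ψ x Q = 0 := by
  by_contra hcon
  simp only [not_exists, not_and] at hcon
  let f : k[X] →+* B := eval₂RingHom ψ x
  have hfC : f.comp (C : k →+* k[X]) = ψ := by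
    ext c; simp [f]
  have hft : f.FiniteType := by
    apply RingHom.FiniteType.of_comp_finiteType (f := (C : k →+* k[X]))
    rw [hfC]; exact hψ
  have hinj : Function.Injective f := by
    rw [injective_iff_map_eq_zero]
    intro p hp
    by_contra hp0
    apply hcon _ (monic_mul_leadingCoeff_inv hp0)
    rw [eval₂_mul]
    have : eval₂ ψ x p = 0 := hp
    rw [this, zero_mul]
  obtain ⟨n, hn⟩ := exists_not_isUnit_of_injective f hft hinj
    (fun n => (eucR n).map (Int.castRingHom k))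
    (fun i j hij => by
      have := (isCoprime_eucR hij).map (mapRingHom (Int.castRingHom k))
      simpa using this)
    (fun n => by
      have hm := (euc_monic n).2.2.1
      have hd := (euc_monic n).2.2.2
      apply not_isUnit_of_natDegree_pos
      rw [hm.natDegree_map]; exact hd)
  apply hn
  have : f ((eucR n).map (Int.castRingHom k)) = eval₂ (Int.castRingHom B) x (eucR n) := by
    change eval₂ ψ x ((eucR n).map (Int.castRingHom k)) = _
    rw [eval₂_map]
    congr 1
    exact RingHom.ext_int _ _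
  rw [this]; exact hu n

/-- A nonzero element whose image is a nonunit has an irreducible factor whose image is a
nonunit. -/
theorem exists_irreducible_not_isUnit_map {R S : Type*} [CommRing R] [IsDomain R] [WfDvdMonoid R]
    [CommRing S] (θ : R →+* S) (P : R) (hP : P ≠ 0) (h : ¬ IsUnit (θ P)) :
    ∃ Q : R, Irreducible Q ∧ ¬ IsUnit (θ Q) := by
  induction P using WfDvdMonoid.induction_on_irreducible with
  | zero => exact absurd rfl hP
  | unit u hu => exact absurd (hu.map θ) h
  | mul a i ha hi ih =>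
    by_cases hθi : IsUnit (θ i)
    · apply ih ha
      intro hθa
      apply h
      rw [map_mul]; exact hθi.mul hθa
    · exact ⟨i, hi, hθi⟩

end Groth.Agent.Lead.IntInd
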