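import Mathlib
import Groth.Agent.Lib.Lead.IntInd1

set_option autoImplicit false
universe u
open CategoryTheory AlgebraicGeometry TopologicalSpace Opposite Polynomial

namespace Groth.Agent.Lead.IntInd

variable {X : Scheme.{u}}

/-- Global functions on a connected reduced scheme have only trivial idempotents. -/
theorem idem_trivial [IsReduced X] [ConnectedSpace X] (e : Γ(X, ⊤)) (he : IsIdempotentElem e) :
    e = 0 ∨ e = 1 := by
  have hmul : e * (1 - e) = 0 := by
    have : e * e = e := he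
    rw [mul_sub, mul_one, this, sub_self]
  have hinter : X.basicOpen e ⊓ X.basicOpen (1 - e) = ⊥ := by
    rw [← Scheme.basicOpen_mul, hmul, Scheme.basicOpen_zero]
  have hunion : ∀ p : X, p ∈ X.basicOpen e ∨ p ∈ X.basicOpen (1 - e) := by
    intro p
    rw [Scheme.mem_basicOpen_top, Scheme.mem_basicOpen_top]
    apply IsLocalRing.isUnit_or_isUnit_of_add_one
    rw [← map_add, add_sub_cancel, map_one]
  have hcompl : ((X.basicOpen e : Set X))ᶜ = (X.basicOpen (1 - e) : Set X) := by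
    ext p
    constructor
    · intro hp
      exact (hunion p).resolve_left hp
    · intro hp hp'
      have : p ∈ X.basicOpen e ⊓ X.basicOpen (1 - e) := ⟨hp', hp⟩
      rw [hinter] at this
      exact this
  have hclopen : IsClopen (X.basicOpen e : Set X) :=
    ⟨by rw [← isOpen_compl_iff, hcompl]; exact (X.basicOpen (1 - e)).isOpen,
      (X.basicOpen e).isOpen⟩
  rcases isClopen_iff.mp hclopen with h | h
  · left
    rw [← basicOpen_eq_bot_iff]
    exact Opens.ext (h.trans Opens.coe_bot.symm)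
  · right
    have h2 : X.basicOpen (1 - e) = ⊥ := by
      apply Opens.ext
      rw [← hcompl, h]; simp
    rw [basicOpen_eq_bot_iff] at h2
    exact (sub_eq_zero.mp h2).symm

/-- On a connected reduced scheme `X` locally of finite type over a field `k₂`, a global function
integral over some other field mapping to the global functions is integral over `k₂`. -/
theorem isIntegralElem_of_isIntegralElem [IsReduced X] [ConnectedSpace X]
    {k₁ k₂ : Type u} [Field k₁] [Field k₂] (φ₁ : k₁ →+* Γ(X, ⊤))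
    (b : X ⟶ Spec (CommRingCat.of k₂)) [LocallyOfFiniteType b] (x : Γ(X, ⊤))
    (h : φ₁.IsIntegralElem x) :
    ((b.appTop).hom.comp (Scheme.ΓSpecIso (CommRingCat.of k₂)).inv.hom).IsIntegralElem x := by
  obtain ⟨φ₂, hφ₂⟩ : ∃ φ₂ : k₂ →+* Γ(X, ⊤),
      φ₂ = (b.appTop).hom.comp (Scheme.ΓSpecIso (CommRingCat.of k₂)).inv.hom := ⟨_, rfl⟩
  rw [← hφ₂]
  have hB : ∀ y : Γ(X, ⊤), φ₁.IsIntegralElem y → y = 0 ∨ IsUnit y :=
    fun y hy => eq_zero_or_isUnit_of_isIntegralElem idem_trivial φ₁ y hy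
  have hyn : ∀ n, eval₂ (Int.castRingHom Γ(X, ⊤)) x (eucR n) = 0 ∨
      IsUnit (eval₂ (Int.castRingHom Γ(X, ⊤)) x (eucR n)) :=
    fun n => hB _ (isIntegralElem_eval₂_int φ₁ x h (eucR n))
  by_cases hz : ∃ n, eval₂ (Int.castRingHom Γ(X, ⊤)) x (eucR n) = 0
  · obtain ⟨n, hn⟩ := hz
    refine ⟨(eucR n).map (Int.castRingHom k₂), (euc_monic n).2.2.1.map _, ?_⟩
    rw [eval₂_map]
    rw [show φ₂.comp (Int.castRingHom k₂) = Int.castRingHom Γ(X, ⊤) from RingHom.ext_int _ _]
    exact hn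
  · have hun : ∀ n, IsUnit (eval₂ (Int.castRingHom Γ(X, ⊤)) x (eucR n)) := fun n =>
      (hyn n).resolve_left (fun h0 => hz ⟨n, h0⟩)
    let ev : k₂[X] →+* Γ(X, ⊤) := eval₂RingHom φ₂ x
    have hloc : ∀ U : X.Opens, IsAffineOpen U → ∃ Q : k₂[X], Q.Monic ∧
        (X.presheaf.map (homOfLE (le_top : U ≤ ⊤)).op).hom (ev Q) = 0 := by
      intro U hU
      let ρ : Γ(X, ⊤) →+* Γ(X, U) := (X.presheaf.map (homOfLE (le_top : U ≤ ⊤)).op).hom
      have hψ : (ρ.comp φ₂).FiniteType := by
        have h1 : (b.appLE ⊤ U (by simp)).hom.FiniteType :=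
          b.finiteType_appLE (isAffineOpen_top _) hU _
        have h2 : ((Scheme.ΓSpecIso (CommRingCat.of k₂)).inv.hom).FiniteType :=
          RingHom.FiniteType.of_surjective _ (fun y =>
            ⟨(Scheme.ΓSpecIso (CommRingCat.of k₂)).hom.hom y, by simp⟩)
        have h3 := h1.comp h2
        have h4 : ρ.comp φ₂ = (b.appLE ⊤ U (by simp)).hom.comp
            (Scheme.ΓSpecIso (CommRingCat.of k₂)).inv.hom := by
          rw [hφ₂, ← RingHom.comp_assoc]
          rfl
        rw [h4]; exact h3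
      obtain ⟨Q, hQm, hQ⟩ := exists_monic_eval₂_eq_zero (ρ.comp φ₂) hψ (ρ x) (fun n => by
        have := (hun n).map ρ
        rw [hom_eval₂] at this
        rwa [show ρ.comp (Int.castRingHom Γ(X, ⊤)) = Int.castRingHom Γ(X, U) from
          RingHom.ext_int _ _] at this)
      refine ⟨Q, hQm, ?_⟩
      change ρ (eval₂ φ₂ x Q) = 0
      rw [hom_eval₂]; exact hQ
    obtain ⟨u₀⟩ : Nonempty X := inferInstance
    obtain ⟨_, ⟨U₀, hU₀, rfl⟩, hu₀, -⟩ := X.isBasis_affineOpens.exists_subset_of_mem_open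
      (Set.mem_univ u₀) isOpen_univ
    obtain ⟨Q₀, hQ₀m, hQ₀⟩ := hloc U₀ hU₀
    let gm : ∀ u : X, Γ(X, ⊤) →+* X.presheaf.stalk u :=
      fun u => (X.presheaf.germ ⊤ u trivial).hom
    have hgerm_res : ∀ (U : X.Opens) (u : X) (hu : u ∈ U) (s : Γ(X, ⊤)),
        gm u s = (X.presheaf.germ U u hu).hom
          ((X.presheaf.map (homOfLE (le_top : U ≤ ⊤)).op).hom s) := by
      intro U u hu s
      exact (X.presheaf.germ_res_apply (homOfLE (le_top : U ≤ ⊤)) u hu s).symm
    have h0 : gm u₀ (ev Q₀) = 0 := by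
      rw [hgerm_res U₀ u₀ hu₀, hQ₀, map_zero]
    obtain ⟨Q, hQirr, hQnu⟩ := exists_irreducible_not_isUnit_map ((gm u₀).comp ev) Q₀
      hQ₀m.ne_zero (by rw [RingHom.comp_apply, h0]; exact not_isUnit_zero)
    let Z : Set X := ((X.basicOpen (ev Q) : Set X))ᶜ
    have hZmem : ∀ u, u ∈ Z ↔ ¬ IsUnit (gm u (ev Q)) := by
      intro u
      exact not_congr (X.mem_basicOpen_top (ev Q) u)
    have hZclosed : IsClosed Z := (X.basicOpen (ev Q)).isOpen.isClosed_compl
    have hZne : u₀ ∈ Z := (hZmem u₀).mpr hQnu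
    have hZopen : IsOpen Z := by
      rw [isOpen_iff_forall_mem_open]
      intro u hu
      obtain ⟨_, ⟨U, hU, rfl⟩, huU, -⟩ := X.isBasis_affineOpens.exists_subset_of_mem_open
        (Set.mem_univ u) isOpen_univ
      obtain ⟨QU, hQUm, hQU⟩ := hloc U hU
      obtain ⟨m, S, hS, hQUeq⟩ := WfDvdMonoid.max_power_factor hQUm.ne_zero hQirr
      obtain ⟨c, d, hcd⟩ := (hQirr.coprime_iff_not_dvd.mpr hS)
      have hcd' : ev c * ev Q + ev d * ev S = 1 := by
        rw [← map_mul, ← map_mul, ← map_add, hcd, map_one]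
      have hSu : ∀ v, v ∈ Z → IsUnit (gm v (ev S)) := by
        intro v hv
        have := IsLocalRing.isUnit_or_isUnit_of_add_one (a := gm v (ev c * ev Q))
          (b := gm v (ev d * ev S)) (by rw [← map_add, hcd', map_one])
        rcases this with h1 | h1
        · exfalso; apply (hZmem v).mp hv
          rw [map_mul] at h1; exact isUnit_of_mul_isUnit_right h1
        · rw [map_mul] at h1; exact isUnit_of_mul_isUnit_right h1
      refine ⟨(U ⊓ X.basicOpen (ev S) : X.Opens), ?_, (U ⊓ X.basicOpen (ev S)).isOpen,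
        ⟨huU, (X.mem_basicOpen_top _ _).mpr (hSu u hu)⟩⟩
      intro v hv
      obtain ⟨hvU, hvS⟩ := hv
      have hvS' : IsUnit (gm v (ev S)) := (X.mem_basicOpen_top _ _).mp hvS
      rw [hZmem]
      intro hunit
      have h1 : gm v (ev QU) = 0 := by rw [hgerm_res U v hvU, hQU, map_zero]
      rw [hQUeq, map_mul, map_mul, map_pow, map_pow] at h1
      have h2 : IsUnit (gm v (ev Q) ^ m * gm v (ev S)) := (hunit.pow m).mul hvS'
      rw [h1] at h2
      exact not_isUnit_zero h2
    have hZuniv : Z = Set.univ := IsClopen.eq_univ ⟨hZclosed, hZopen⟩ ⟨u₀, hZne⟩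
    have hbot : X.basicOpen (ev Q) = ⊥ := by
      apply Opens.ext
      rw [Opens.coe_bot, ← Set.compl_univ_iff]
      exact hZuniv
    have hev : ev Q = 0 := (basicOpen_eq_bot_iff _).mp hbot
    refine ⟨Q * C (Q.leadingCoeff)⁻¹, monic_mul_leadingCoeff_inv hQirr.ne_zero, ?_⟩
    rw [eval₂_mul]
    have : eval₂ φ₂ x Q = 0 := hev
    rw [this, zero_mul]

end Groth.Agent.Lead.IntInd
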