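import Mathlib
import Groth.Prelude.Def_IntMult
import Groth.Prelude.Def_CAlg
import Groth.Agent.Lib.Helper1.TorL
import Groth.Agent.Lib.Helper1.TorBal
import Groth.Agent.Lib.Lead.IntCart1

/-!
# Vanishing of Tor against quotients by regular sequences killing the other module (lead)
-/

set_option backward.isDefEq.respectTransparency.types false
set_option synthInstance.maxHeartbeats 400000
set_option autoImplicit false
set_option linter.unusedSectionVars false
set_option linter.style.haveILetI false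
universe u
open CategoryTheory CategoryTheory.Limits TensorProduct

namespace Groth.Agent.Lead.IntSerre

open Groth.Agent.Helper1.TorL RingTheory.Sequence

variable {A : Type u} [CommRing A]

/-- an element killing `M` acts as zero on `Tor_n(X, M)` -/
theorem smul_id_tor_eq_zero (X M : ModuleCat.{u} A) (x : A) (hkill : ∀ m : M, x • m = 0) (n : ℕ) :
    x • 𝟙 (T n X M) = 0 := by
  have h0 : x • 𝟙 M = (0 : A) • 𝟙 M := by
    rw [zero_smul]
    apply ModuleCat.hom_ext
    apply LinearMap.ext
    intro m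
    exact hkill m
  have h1 : x • 𝟙 (T n M X) = 0 := by
    rw [← tor_map_smul_id M X x n, h0, tor_map_smul_id, zero_smul]
  obtain ⟨e⟩ := Groth.Agent.Helper1.TorBal.torSymm n X M
  have h2 : x • 𝟙 (T n X M) = e.hom ≫ (x • 𝟙 (T n M X)) ≫ e.inv := by
    rw [Linear.smul_comp, Linear.comp_smul, Category.id_comp, e.hom_inv_id]
  rw [h2, h1, zero_comp, comp_zero]

/-- the inductive step -/
theorem isZero_tor_of_regular_of_kills (J : Ideal A) (x : A) (hx : IsSMulRegular (A ⧸ J) x)
    (M : ModuleCat.{u} A) (hkill : ∀ m : M, x • m = 0) (n : ℕ)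
    (h : IsZero (T (n + 1) (ModuleCat.of A (A ⧸ (J ⊔ Ideal.span {x}))) M)) :
    IsZero (T n (ModuleCat.of A (A ⧸ J)) M) := by
  have hS := quotSC_shortExact J (J ⊔ Ideal.span {x}) x rfl hx
  have hmono : Mono (((Tor (ModuleCat.{u} A) n).map (quotSC J (J ⊔ Ideal.span {x}) x rfl).f).app M) :=
    (tor_exact₁ (quotSC J (J ⊔ Ideal.span {x}) x rfl) hS M n).mono_g (h.eq_of_src _ _)
  have h0 : ((Tor (ModuleCat.{u} A) n).map (quotSC J (J ⊔ Ideal.span {x}) x rfl).f).app M = 0 := by
    rw [quotSC_f_eq, tor_map_smul_id]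
    exact smul_id_tor_eq_zero _ M x hkill n
  exact IsZero.of_mono_eq_zero _ h0

/-- `(A/J)/x(A/J) ≃ A/(J + (x))` -/
noncomputable def quotSMulTopEquiv (J : Ideal A) (x : A) :
    QuotSMulTop x (A ⧸ J) ≃ₗ[A] (A ⧸ (J ⊔ Ideal.span {x})) :=
  (Submodule.quotEquivOfEq _ _ (by
    rw [← Submodule.ideal_span_singleton_smul x ⊤]
    exact Groth.Agent.Lead.IntCart.smul_top_quot J (Ideal.span {x}))).trans
    (Submodule.quotientQuotientEquivQuotient J (J ⊔ Ideal.span {x}) le_sup_left)

theorem isZero_tor_of_weaklyRegular (M : ModuleCat.{u} A) (q : ℕ) (xs : List A) :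
    ∀ (J : Ideal A), IsWeaklyRegular (A ⧸ J) xs → (∀ x ∈ xs, ∀ m : M, x • m = 0) →
      (∀ i, q < i → IsZero (T i (ModuleCat.of A (A ⧸ (J ⊔ Ideal.ofList xs))) M)) →
      ∀ i, q < i + xs.length → IsZero (T i (ModuleCat.of A (A ⧸ J)) M) := by
  induction xs with
  | nil =>
    intro J _ _ h i hi
    have h1 := h i (by simpa using hi)
    rw [Ideal.ofList_nil, sup_bot_eq] at h1
    exact h1
  | cons x xs ih =>
    intro J hreg hkill h i hi
    rw [isWeaklyRegular_cons_iff] at hreg
    obtain ⟨hx, hreg'⟩ := hreg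
    have hreg'' : IsWeaklyRegular (A ⧸ (J ⊔ Ideal.span {x})) xs :=
      ((quotSMulTopEquiv J x).isWeaklyRegular_congr xs).mp hreg'
    have h' : ∀ i, q < i →
        IsZero (T i (ModuleCat.of A (A ⧸ ((J ⊔ Ideal.span {x}) ⊔ Ideal.ofList xs))) M) := by
      intro i hi
      have h1 := h i hi
      rw [Ideal.ofList_cons, ← sup_assoc] at h1
      exact h1
    have ih' := ih (J ⊔ Ideal.span {x}) hreg''
      (fun y hy => hkill y (List.mem_cons_of_mem _ hy)) h'
    apply isZero_tor_of_regular_of_kills J x hx M (hkill x List.mem_cons_self) i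
    apply ih'
    rw [List.length_cons] at hi
    omega

end Groth.Agent.Lead.IntSerre
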