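import Mathlib
import Groth.Prelude.Def_IntMult
import Groth.Prelude.Def_CAlg
import Groth.Agent.Lib.Lead.IntSerre1
import Groth.Agent.Lib.Helper7.RectDepth.Main
import Groth.Agent.Lib.Helper8.Depth17
import Groth.Agent.Lib.Helper4.StalkClosedPt1
import Groth.Agent.Lib.Helper2.HomExt.RegSeqHeight

/-!
# Serre's Tor-vanishing for Cohen–Macaulay quotients of complementary dimension (lead)
-/

set_option backward.isDefEq.respectTransparency.types false
set_option synthInstance.maxHeartbeats 400000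
set_option autoImplicit false
set_option linter.unusedSectionVars false
set_option linter.style.haveILetI false
universe u
open CategoryTheory CategoryTheory.Limits TensorProduct

namespace Groth.Agent.Lead.IntSerre

open Groth.Agent.Helper1.TorL RingTheory.Sequence IsLocalRing

theorem exists_lift_list {A : Type u} [CommRing A] (J K : Ideal A) (rs : List (A ⧸ J))
    (h : ∀ y ∈ rs, y ∈ K.map (Ideal.Quotient.mk J)) :
    ∃ xs : List A, xs.map (Ideal.Quotient.mk J) = rs ∧ ∀ x ∈ xs, x ∈ K := by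
  induction rs with
  | nil => exact ⟨[], rfl, by simp⟩
  | cons y rs ih =>
    obtain ⟨xs, hxs, hK⟩ := ih (fun z hz => h z (List.mem_cons_of_mem _ hz))
    obtain ⟨x, hxK, hxy⟩ := (Ideal.mem_map_iff_of_surjective _ Ideal.Quotient.mk_surjective).mp
      (h y List.mem_cons_self)
    refine ⟨x :: xs, by rw [List.map_cons, hxy, hxs], ?_⟩
    intro z hz
    rcases List.mem_cons.mp hz with rfl | hz
    · exact hxK
    · exact hK z hz

/-- projective dimension of a Cohen–Macaulay quotient of a regular local ring -/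
theorem pd_quot_of_cm (A : Type u) [CommRing A] [IsRegularLocalRing A] (J : Ideal A)
    [LocCoh.IsCohenMacaulayLocalRing (A ⧸ J)] (d d1 : ℕ) (hd : ringKrullDim A = d)
    (hd1 : ringKrullDim (A ⧸ J) = d1) :
    HasProjectiveDimensionLT (ModuleCat.of A (A ⧸ J)) (d - d1 + 1) := by
  haveI : IsLocalRing (A ⧸ J) := inferInstance
  haveI : Nontrivial (A ⧸ J) := inferInstance
  haveI : IsLocalHom (algebraMap A (A ⧸ J)) :=
    IsLocalHom.of_surjective _ Ideal.Quotient.mk_surjective
  have h1 := Groth.Agent.Helper7.RectDepth.depth_add_pd_eq_dim A (A ⧸ J)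
  have h2 : LocCoh.depth A (A ⧸ J) = LocCoh.depth (A ⧸ J) (A ⧸ J) :=
    Groth.Agent.Helper8.Depth.depth_eq_of_tower A (A ⧸ J) (A ⧸ J)
  have h3 : Module.supportDim (A ⧸ J) (A ⧸ J) =
      ((LocCoh.depth (A ⧸ J) (A ⧸ J) : ℕ∞) : WithBot ℕ∞) :=
    LocCoh.IsCohenMacaulayLocalRing.supportDim_eq_depth
  rw [Module.supportDim_self_eq_ringKrullDim, hd1] at h3
  rw [h2, ← h3, hd] at h1
  change HasProjectiveDimensionLE (ModuleCat.of A (A ⧸ J)) (d - d1)
  rw [← projectiveDimension_le_iff]
  cases hpd : projectiveDimension (ModuleCat.of A (A ⧸ J)) with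
  | bot => exact bot_le
  | coe e =>
    rw [hpd] at h1
    have h4 : (d1 : ℕ∞) + e = (d : ℕ∞) := by exact_mod_cast h1
    have he : e ≠ ⊤ := by
      intro h; rw [h] at h4; simp at h4
    lift e to ℕ using he
    have h5 : d1 + e = d := by exact_mod_cast h4
    have h6 : e = d - d1 := by omega
    rw [h6]
    rfl

/-- Serre: over a regular local ring, `Tor_i(A/JW, A/JV) = 0` for `i ≥ 1` when both quotients
are Cohen–Macaulay, their dimensions add up to at least `dim A`, and `JV + JW` is primary to the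
maximal ideal -/
theorem isZero_tor_of_cm (A : Type u) [CommRing A] [IsRegularLocalRing A] (JV JW : Ideal A)
    [LocCoh.IsCohenMacaulayLocalRing (A ⧸ JV)] [hW : LocCoh.IsCohenMacaulayLocalRing (A ⧸ JW)]
    (hdim : ringKrullDim A ≤ ringKrullDim (A ⧸ JV) + ringKrullDim (A ⧸ JW))
    (hmax : ∀ P : Ideal A, P.IsPrime → JV ≤ P → JW ≤ P → P = maximalIdeal A)
    (i : ℕ) (hi : 1 ≤ i) :
    IsZero (T i (ModuleCat.of A (A ⧸ JW)) (ModuleCat.of A (A ⧸ JV))) := by
  haveI : IsLocalRing (A ⧸ JV) := inferInstance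
  haveI : IsLocalRing (A ⧸ JW) := inferInstance
  -- dimensions as naturals
  obtain ⟨d, hd⟩ : ∃ d : ℕ, ringKrullDim A = d := by
    have h1 := ringKrullDim_lt_top (R := A)
    have h2 : (0 : WithBot ℕ∞) ≤ ringKrullDim A := ringKrullDim_nonneg_of_nontrivial
    cases h : ringKrullDim A with
    | bot => rw [h] at h2; exact absurd h2 (by simp)
    | coe e =>
      rw [h] at h1
      have : e ≠ ⊤ := by
        intro he; rw [he] at h1; exact lt_irrefl _ h1
      lift e to ℕ using this
      exact ⟨e, rfl⟩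
  obtain ⟨d1, hd1⟩ : ∃ d1 : ℕ, ringKrullDim (A ⧸ JV) = d1 := by
    have h1 := ringKrullDim_lt_top (R := A ⧸ JV)
    have h2 : (0 : WithBot ℕ∞) ≤ ringKrullDim (A ⧸ JV) := ringKrullDim_nonneg_of_nontrivial
    cases h : ringKrullDim (A ⧸ JV) with
    | bot => rw [h] at h2; exact absurd h2 (by simp)
    | coe e =>
      rw [h] at h1
      have : e ≠ ⊤ := by
        intro he; rw [he] at h1; exact lt_irrefl _ h1
      lift e to ℕ using this
      exact ⟨e, rfl⟩
  obtain ⟨d2, hd2⟩ : ∃ d2 : ℕ, ringKrullDim (A ⧸ JW) = d2 := by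
    have h1 := ringKrullDim_lt_top (R := A ⧸ JW)
    have h2 : (0 : WithBot ℕ∞) ≤ ringKrullDim (A ⧸ JW) := ringKrullDim_nonneg_of_nontrivial
    cases h : ringKrullDim (A ⧸ JW) with
    | bot => rw [h] at h2; exact absurd h2 (by simp)
    | coe e =>
      rw [h] at h1
      have : e ≠ ⊤ := by
        intro he; rw [he] at h1; exact lt_irrefl _ h1
      lift e to ℕ using this
      exact ⟨e, rfl⟩
  rw [hd, hd1, hd2] at hdim
  have hdim' : d ≤ d1 + d2 := by exact_mod_cast hdim
  haveI hpd := pd_quot_of_cm A JV d d1 hd hd1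
  -- the ideal `JV (A/JW)` has height `d2`
  have hJWtop : JW ≠ ⊤ := by
    intro h
    have : Subsingleton (A ⧸ JW) := by
      rw [h]; infer_instance
    exact not_subsingleton (A ⧸ JW) this
  have hJWm : JW ≤ maximalIdeal A := IsLocalRing.le_maximalIdeal hJWtop
  have hmB : (maximalIdeal A).map (Ideal.Quotient.mk JW) = maximalIdeal (A ⧸ JW) := by
    haveI : ((maximalIdeal A).map (Ideal.Quotient.mk JW)).IsMaximal :=
      Ideal.IsMaximal.map_of_surjective_of_ker_le Ideal.Quotient.mk_surjective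
        (by rw [Ideal.mk_ker]; exact hJWm)
    exact IsLocalRing.eq_maximalIdeal inferInstance
  have hht : (d2 : ℕ∞) ≤ (JV.map (Ideal.Quotient.mk JW)).height := by
    rw [Ideal.height_eq_inf_minimalPrimes]
    refine le_iInf₂ fun P hP => ?_
    haveI hPp : P.IsPrime := hP.1.1
    have hPle : JV.map (Ideal.Quotient.mk JW) ≤ P := hP.1.2
    have hP' : P.comap (Ideal.Quotient.mk JW) = maximalIdeal A := by
      apply hmax _ (Ideal.comap_isPrime _ _)
      · rw [← Ideal.map_le_iff_le_comap]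
        exact hPle
      · intro x hx
        rw [Ideal.mem_comap, Ideal.Quotient.eq_zero_iff_mem.mpr hx]
        exact P.zero_mem
    have hPm : P = maximalIdeal (A ⧸ JW) := by
      rw [← hmB, ← hP', Ideal.map_comap_of_surjective _ Ideal.Quotient.mk_surjective]
    rw [hPm]
    have h3 := IsLocalRing.maximalIdeal_height_eq_ringKrullDim (R := A ⧸ JW)
    rw [hd2] at h3
    exact_mod_cast h3.ge
  have hCM : LocCoh.IsCohenMacaulayRing (A ⧸ JW) :=
    { isCohenMacaulayLocalRing_localization := fun p _ =>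
        Groth.Agent.Lib.Helper4.StalkClosedPt1.cm_localization (A ⧸ JW) p }
  obtain ⟨rs, hlen, hreg, hmem⟩ :=
    Groth.Agent.Helper2.HomExt.RegSeqHeight.exists_weaklyRegular_of_le_height hCM
      (JV.map (Ideal.Quotient.mk JW)) d2 hht
  obtain ⟨xs, hxs, hxsV⟩ := exists_lift_list JW JV rs hmem
  have hregA : IsWeaklyRegular (A ⧸ JW) xs := by
    rw [← hxs] at hreg
    exact (isWeaklyRegular_map_algebraMap_iff (A ⧸ JW) (A ⧸ JW) xs).mp hreg
  have hxlen : xs.length = d2 := by
    rw [← hlen, ← hxs, List.length_map]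
  have hkill : ∀ x ∈ xs, ∀ m : (ModuleCat.of A (A ⧸ JV)), x • m = 0 := by
    intro x hx m
    obtain ⟨a, rfl⟩ := Ideal.Quotient.mk_surjective m
    change x • (Ideal.Quotient.mk JV a) = 0
    rw [Algebra.smul_def, Ideal.Quotient.algebraMap_eq, ← map_mul, Ideal.Quotient.eq_zero_iff_mem]
    exact JV.mul_mem_right _ (hxsV x hx)
  refine isZero_tor_of_weaklyRegular (ModuleCat.of A (A ⧸ JV)) (d - d1) xs JW hregA hkill ?_ i ?_
  · intro j hj
    exact isZero_tor_of_hasProjectiveDimensionLT (d - d1) (ModuleCat.of A (A ⧸ JV)) _ j hj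
  · rw [hxlen]
    omega

end Groth.Agent.Lead.IntSerre
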