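import Mathlib
import Groth.Prelude.Def_IntMult

/-!
# Transversal intersections in a regular local ring have regular factors (lead)
-/

set_option backward.isDefEq.respectTransparency.types false
set_option synthInstance.maxHeartbeats 400000
set_option autoImplicit false
set_option linter.unusedSectionVars false
set_option linter.style.haveILetI false
universe u
open IsLocalRing

namespace Groth.Agent.Lead.IntSerre

/-- in a Noetherian local ring, any generating set of the maximal ideal contains a generating
subset with at most `spanFinrank` elements -/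
theorem exists_subset_generators {A : Type u} [CommRing A] [IsLocalRing A] [IsNoetherianRing A]
    (G : Set A) (hG : Ideal.span G = maximalIdeal A) :
    ∃ T : Set A, T ⊆ G ∧ T.Finite ∧ T.ncard ≤ (maximalIdeal A).spanFinrank ∧
      Ideal.span T = maximalIdeal A := by
  classical
  have hGm : G ⊆ maximalIdeal A := by
    rw [← hG]; exact Ideal.subset_span
  let G' : Set (maximalIdeal A) := {x | (x : A) ∈ G}
  have himg : ∀ S : Set (maximalIdeal A), (Submodule.span A S).map (maximalIdeal A).subtype =
      Ideal.span ((fun x : maximalIdeal A => (x : A)) '' S) := by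
    intro S
    rw [Submodule.map_span]
    rfl
  have hG'img : (fun x : maximalIdeal A => (x : A)) '' G' = G := by
    ext x
    constructor
    · rintro ⟨y, hy, rfl⟩
      exact hy
    · intro hx
      exact ⟨⟨x, hGm hx⟩, hx, rfl⟩
  have hG' : Submodule.span A G' = ⊤ := by
    apply Submodule.map_injective_of_injective (maximalIdeal A).injective_subtype
    rw [himg, hG'img, Submodule.map_top, Submodule.range_subtype]
    exact hG
  have hspan : Submodule.span (ResidueField A) ((maximalIdeal A).toCotangent '' G') = ⊤ :=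
    CotangentSpace.span_image_eq_top_iff.mpr hG'
  obtain ⟨b, hbsub, hbspan, hbli⟩ :=
    exists_linearIndependent (ResidueField A) ((maximalIdeal A).toCotangent '' G')
  rw [hspan] at hbspan
  have hbfin : b.Finite := hbli.setFinite
  haveI : Fintype b := hbfin.fintype
  have hcard : Fintype.card b ≤ (maximalIdeal A).spanFinrank := by
    rw [spanFinrank_maximalIdeal_eq_finrank_cotangentSpace]
    exact hbli.fintype_card_le_finrank
  choose g hgG hg using fun c : b => hbsub c.2
  let T : Set A := Set.range (fun c : b => ((g c : maximalIdeal A) : A))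
  refine ⟨T, ?_, Set.finite_range _, ?_, ?_⟩
  · rintro _ ⟨c, rfl⟩
    exact hgG c
  · calc T.ncard ≤ Nat.card b := by
          have := Set.ncard_image_le (f := fun c : b => ((g c : maximalIdeal A) : A))
            (s := Set.univ) Set.finite_univ
          rw [Set.image_univ, Set.ncard_univ] at this
          exact this
      _ = Fintype.card b := Nat.card_eq_fintype_card
      _ ≤ _ := hcard
  · have hT' : Submodule.span A (Set.range g) = ⊤ := by
      rw [← CotangentSpace.span_image_eq_top_iff]
      have : (maximalIdeal A).toCotangent '' Set.range g = b := by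
        ext c
        constructor
        · rintro ⟨_, ⟨c', rfl⟩, rfl⟩
          rw [hg c']
          exact c'.2
        · intro hc
          exact ⟨g ⟨c, hc⟩, ⟨⟨c, hc⟩, rfl⟩, hg ⟨c, hc⟩⟩
      rw [this]
      exact hbspan
    have h2 := congrArg (Submodule.map (maximalIdeal A).subtype) hT'
    rw [himg, Submodule.map_top, Submodule.range_subtype] at h2
    have h3 : (fun x : maximalIdeal A => (x : A)) '' Set.range g = T := by
      ext x
      constructor
      · rintro ⟨_, ⟨c, rfl⟩, rfl⟩
        exact ⟨c, rfl⟩
      · rintro ⟨c, rfl⟩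
        exact ⟨g c, ⟨c, rfl⟩, rfl⟩
    rw [h3] at h2
    exact h2

/-- generators of the maximal ideal of a quotient: those generators not in the ideal -/
theorem spanFinrank_quot_le {A : Type u} [CommRing A] [IsLocalRing A] [IsNoetherianRing A]
    (J : Ideal A) [IsLocalRing (A ⧸ J)] (T : Set A) (hTfin : T.Finite)
    (hT : Ideal.span T = maximalIdeal A) :
    (maximalIdeal (A ⧸ J)).spanFinrank ≤ (T \ (J : Set A)).ncard := by
  have hJtop : J ≠ ⊤ := by
    intro h
    have : Subsingleton (A ⧸ J) := by
      rw [h]; infer_instance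
    exact not_subsingleton (A ⧸ J) this
  have hJm : J ≤ maximalIdeal A := IsLocalRing.le_maximalIdeal hJtop
  have hmB : (maximalIdeal A).map (Ideal.Quotient.mk J) = maximalIdeal (A ⧸ J) := by
    haveI : ((maximalIdeal A).map (Ideal.Quotient.mk J)).IsMaximal :=
      Ideal.IsMaximal.map_of_surjective_of_ker_le Ideal.Quotient.mk_surjective
        (by rw [Ideal.mk_ker]; exact hJm)
    exact IsLocalRing.eq_maximalIdeal inferInstance
  have hspan : maximalIdeal (A ⧸ J) =
      Ideal.span ((Ideal.Quotient.mk J) '' (T \ (J : Set A))) := by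
    rw [← hmB, ← hT, Ideal.map_span]
    apply le_antisymm
    · rw [Ideal.span_le]
      rintro _ ⟨x, hx, rfl⟩
      by_cases hxJ : x ∈ J
      · rw [Ideal.Quotient.eq_zero_iff_mem.mpr hxJ]
        exact Ideal.zero_mem _
      · exact Ideal.subset_span ⟨x, ⟨hx, hxJ⟩, rfl⟩
    · exact Ideal.span_mono (Set.image_mono Set.diff_subset)
  have hfin : (T \ (J : Set A)).Finite := hTfin.subset Set.diff_subset
  calc (maximalIdeal (A ⧸ J)).spanFinrank
      = (Ideal.span ((Ideal.Quotient.mk J) '' (T \ (J : Set A)))).spanFinrank := by rw [← hspan]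
    _ ≤ ((Ideal.Quotient.mk J) '' (T \ (J : Set A))).ncard :=
        Submodule.spanFinrank_span_le_ncard_of_finite (hfin.image _)
    _ ≤ (T \ (J : Set A)).ncard := Set.ncard_image_le hfin

/-- if `JV + JW` is the maximal ideal of a regular local ring and the dimensions of the
quotients add up to at least `dim A`, both quotients are regular -/
theorem isRegularLocalRing_quot_of_sup_eq (A : Type u) [CommRing A] [IsRegularLocalRing A]
    (JV JW : Ideal A) (hsup : JV ⊔ JW = maximalIdeal A) (d0 d1 d2 : ℕ)
    (h0 : ringKrullDim A = d0) (h1 : ringKrullDim (A ⧸ JV) = d1)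
    (h2 : ringKrullDim (A ⧸ JW) = d2) (hle : d0 ≤ d1 + d2) :
    IsRegularLocalRing (A ⧸ JV) ∧ IsRegularLocalRing (A ⧸ JW) := by
  have hVm : JV ≤ maximalIdeal A := hsup ▸ le_sup_left
  have hWm : JW ≤ maximalIdeal A := hsup ▸ le_sup_right
  have hVtop : JV ≠ ⊤ := fun h => (maximalIdeal.isMaximal A).ne_top (top_le_iff.mp (h ▸ hVm))
  have hWtop : JW ≠ ⊤ := fun h => (maximalIdeal.isMaximal A).ne_top (top_le_iff.mp (h ▸ hWm))
  haveI : Nontrivial (A ⧸ JV) := Ideal.Quotient.nontrivial_iff.mpr hVtop
  haveI : Nontrivial (A ⧸ JW) := Ideal.Quotient.nontrivial_iff.mpr hWtop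
  haveI : IsLocalRing (A ⧸ JV) :=
    IsLocalRing.of_surjective' (Ideal.Quotient.mk JV) Ideal.Quotient.mk_surjective
  haveI : IsLocalRing (A ⧸ JW) :=
    IsLocalRing.of_surjective' (Ideal.Quotient.mk JW) Ideal.Quotient.mk_surjective
  have hG : Ideal.span ((JV : Set A) ∪ (JW : Set A)) = maximalIdeal A := by
    rw [Ideal.span_union, Ideal.span_eq, Ideal.span_eq]
    exact hsup
  obtain ⟨T, hTG, hTfin, hTcard, hTspan⟩ := exists_subset_generators _ hG
  have hreg : ((maximalIdeal A).spanFinrank : WithBot ℕ∞) = ringKrullDim A :=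
    IsRegularLocalRing.spanFinrank_maximalIdeal
  rw [h0] at hreg
  have hreg' : (maximalIdeal A).spanFinrank = d0 := by exact_mod_cast hreg
  rw [hreg'] at hTcard
  have hV := spanFinrank_quot_le JV T hTfin hTspan
  have hW := spanFinrank_quot_le JW T hTfin hTspan
  have hdV : d1 ≤ (maximalIdeal (A ⧸ JV)).spanFinrank := by
    have := ringKrullDim_le_spanFinrank_maximalIdeal (A ⧸ JV)
    rw [h1] at this
    exact_mod_cast this
  have hdW : d2 ≤ (maximalIdeal (A ⧸ JW)).spanFinrank := by
    have := ringKrullDim_le_spanFinrank_maximalIdeal (A ⧸ JW)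
    rw [h2] at this
    exact_mod_cast this
  have hdisj : Disjoint (T \ (JV : Set A)) (T \ (JW : Set A)) := by
    rw [Set.disjoint_left]
    rintro x ⟨hxT, hxV⟩ ⟨-, hxW⟩
    rcases hTG hxT with h | h
    · exact hxV h
    · exact hxW h
  have hsum : (T \ (JV : Set A)).ncard + (T \ (JW : Set A)).ncard ≤ T.ncard := by
    rw [← Set.ncard_union_eq hdisj (hTfin.subset Set.diff_subset) (hTfin.subset Set.diff_subset)]
    exact Set.ncard_le_ncard (Set.union_subset Set.diff_subset Set.diff_subset) hTfin
  constructor
  · apply IsRegularLocalRing.of_spanFinrank_maximalIdeal_le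
    rw [h1]
    have : (maximalIdeal (A ⧸ JV)).spanFinrank ≤ d1 := by omega
    exact_mod_cast this
  · apply IsRegularLocalRing.of_spanFinrank_maximalIdeal_le
    rw [h2]
    have : (maximalIdeal (A ⧸ JW)).spanFinrank ≤ d2 := by omega
    exact_mod_cast this

end Groth.Agent.Lead.IntSerre
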