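import Mathlib
import Groth.Prelude.Def_IntMult
import Groth.Agent.Lib.Lead.IntSerre3
import Groth.Agent.Lib.Lead.IntSerre4
import Groth.Agent.Lib.Helper8.FlatReg5

/-!
# Multiplicity one implies transversality (lead)
-/

set_option backward.isDefEq.respectTransparency.types false
set_option synthInstance.maxHeartbeats 400000
set_option autoImplicit false
set_option linter.unusedSectionVars false
set_option linter.style.haveILetI false
universe u
open CategoryTheory AlgebraicGeometry TopologicalSpace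

namespace Groth.Agent.Lead.IntSerre

variable {X : Scheme.{u}}

theorem main1873 (K : Type u) [Field K] (f : X ⟶ Spec (CommRingCat.of K))
    [Smooth f] [IsIntegral X] (IV IW : X.IdealSheafData)
    [IsIntegral IV.subscheme] [IsIntegral IW.subscheme] (n r s : ℕ)
    (hn : topologicalKrullDim X = n) (hr : topologicalKrullDim IV.support = r)
    (hs : topologicalKrullDim IW.support = s)
    (hprop : IntMult.ProperInt (IV.support : Set X) (IW.support : Set X) n r s) (ξ : X)
    (hξV : ξ ∈ IV.support) (hξW : ξ ∈ IW.support)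
    (hmax : ∀ ξ' : X, ξ' ∈ IV.support → ξ' ∈ IW.support → ξ' ⤳ ξ → ξ' = ξ)
    (h1 : Module.length (X.presheaf.stalk ξ) (↑(X.presheaf.stalk ξ) ⧸
      (IntMult.stalkIdeal IV ξ ⊔ IntMult.stalkIdeal IW ξ)) = 1) :
    IntMult.mult IV IW ξ = 1 ∧
      IsRegularLocalRing (↑(X.presheaf.stalk ξ) ⧸ IntMult.stalkIdeal IV ξ) ∧
      IsRegularLocalRing (↑(X.presheaf.stalk ξ) ⧸ IntMult.stalkIdeal IW ξ) := by
  obtain ⟨d0, d1, d2, D, h0, hd1, hd2, e0, e1, e2, e3, hVp, hWp, hmax'⟩ :=
    local_data K f IV IW n r s hn hr hs hprop ξ hξV hξW hmax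
  haveI := isRegularLocalRing_stalk_of_smooth K f ξ
  have hsimple : IsSimpleModule (X.presheaf.stalk ξ) (↑(X.presheaf.stalk ξ) ⧸
      (IntMult.stalkIdeal IV ξ ⊔ IntMult.stalkIdeal IW ξ)) := Module.length_eq_one_iff.mp h1
  have hcoatom : IsCoatom (IntMult.stalkIdeal IV ξ ⊔ IntMult.stalkIdeal IW ξ) :=
    isSimpleModule_iff_isCoatom.mp hsimple
  have hmaxl : (IntMult.stalkIdeal IV ξ ⊔ IntMult.stalkIdeal IW ξ).IsMaximal :=
    Ideal.isMaximal_def.mpr hcoatom
  have hsup : IntMult.stalkIdeal IV ξ ⊔ IntMult.stalkIdeal IW ξ =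
      IsLocalRing.maximalIdeal (X.presheaf.stalk ξ) := IsLocalRing.eq_maximalIdeal hmaxl
  obtain ⟨hregV, hregW⟩ := isRegularLocalRing_quot_of_sup_eq (X.presheaf.stalk ξ)
    (IntMult.stalkIdeal IV ξ) (IntMult.stalkIdeal IW ξ) hsup d0 d1 d2 h0 hd1 hd2 (by omega)
  refine ⟨?_, hregV, hregW⟩
  have hV := Groth.Agent.Helper8.FlatReg.isCohenMacaulayLocalRing_of_isRegularLocalRing
    (↑(X.presheaf.stalk ξ) ⧸ IntMult.stalkIdeal IV ξ)
  have hW := Groth.Agent.Helper8.FlatReg.isCohenMacaulayLocalRing_of_isRegularLocalRing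
    (↑(X.presheaf.stalk ξ) ⧸ IntMult.stalkIdeal IW ξ)
  have h := main1872 K f IV IW n r s hn hr hs hprop ξ hξV hξW hmax hV hW
  rw [h, h1]
  rfl

end Groth.Agent.Lead.IntSerre
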