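import Mathlib
import Groth.Prelude.Def_IntMult
import Groth.Agent.Lib.Lead.IntSerre2
import Groth.Agent.Lib.Lead.IntSerre4
import Groth.Agent.Lib.Helper8.FlatReg5

/-!
# Transversal intersections in a regular local ring: algebra (lead)
-/

set_option backward.isDefEq.respectTransparency.types false
set_option synthInstance.maxHeartbeats 400000
set_option autoImplicit false
set_option linter.unusedSectionVars false
set_option linter.style.haveILetI false
universe u
open IsLocalRing CategoryTheory

namespace Groth.Agent.Lead.IntTrans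

open Groth.Agent.Lead.IntSerre Groth.Agent.Lead.IntCart

/-- if `JV + JW` is the maximal ideal of a regular local ring, the dimensions of the quotients add
up to at most `dim A` -/
theorem dim_add_dim_le_of_sup_eq (A : Type u) [CommRing A] [IsRegularLocalRing A]
    (JV JW : Ideal A) (hsup : JV ⊔ JW = maximalIdeal A) (d0 d1 d2 : ℕ)
    (h0 : ringKrullDim A = d0) (h1 : ringKrullDim (A ⧸ JV) = d1)
    (h2 : ringKrullDim (A ⧸ JW) = d2) : d1 + d2 ≤ d0 := by
  have hVm : JV ≤ maximalIdeal A := hsup ▸ le_sup_left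
  have hWm : JW ≤ maximalIdeal A := hsup ▸ le_sup_right
  have hVtop : JV ≠ ⊤ := fun h => (maximalIdeal.isMaximal A).ne_top (top_le_iff.mp (h ▸ hVm))
  have hWtop : JW ≠ ⊤ := fun h => (maximalIdeal.isMaximal A).ne_top (top_le_iff.mp (h ▸ hWm))
  haveI : Nontrivial (A ⧸ JV) := Ideal.Quotient.nontrivial_iff.mpr hVtop
  haveI : Nontrivial (A ⧸ JW) := Ideal.Quotient.nontrivial_iff.mpr hWtop
  haveI : IsLocalRing (A ⧸ JV) :=
    IsLocalRing.of_surjective' (Ideal.Quotient.mk JV) Ideal.Quotient.mk_surjective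
  haveI : IsLocalRing (A ⧸ JW) :=
    IsLocalRing.of_surjective' (Ideal.Quotient.mk JW) Ideal.Quotient.mk_surjective
  have hG : Ideal.span ((JV : Set A) ∪ (JW : Set A)) = maximalIdeal A := by
    rw [Ideal.span_union, Ideal.span_eq, Ideal.span_eq]
    exact hsup
  obtain ⟨T, hTG, hTfin, hTcard, hTspan⟩ := exists_subset_generators _ hG
  have hreg : ((maximalIdeal A).spanFinrank : WithBot ℕ∞) = ringKrullDim A :=
    IsRegularLocalRing.spanFinrank_maximalIdeal
  rw [h0] at hreg
  have hreg' : (maximalIdeal A).spanFinrank = d0 := by exact_mod_cast hreg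
  rw [hreg'] at hTcard
  have hV := spanFinrank_quot_le JV T hTfin hTspan
  have hW := spanFinrank_quot_le JW T hTfin hTspan
  have hdV : d1 ≤ (maximalIdeal (A ⧸ JV)).spanFinrank := by
    have := ringKrullDim_le_spanFinrank_maximalIdeal (A ⧸ JV)
    rw [h1] at this
    exact_mod_cast this
  have hdW : d2 ≤ (maximalIdeal (A ⧸ JW)).spanFinrank := by
    have := ringKrullDim_le_spanFinrank_maximalIdeal (A ⧸ JW)
    rw [h2] at this
    exact_mod_cast this
  have hdisj : Disjoint (T \ (JV : Set A)) (T \ (JW : Set A)) := by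
    rw [Set.disjoint_left]
    rintro x ⟨hxT, hxV⟩ ⟨-, hxW⟩
    rcases hTG hxT with h | h
    · exact hxV h
    · exact hxW h
  have hsum : (T \ (JV : Set A)).ncard + (T \ (JW : Set A)).ncard ≤ T.ncard := by
    rw [← Set.ncard_union_eq hdisj (hTfin.subset Set.diff_subset) (hTfin.subset Set.diff_subset)]
    exact Set.ncard_le_ncard (Set.union_subset Set.diff_subset Set.diff_subset) hTfin
  omega

/-- in a domain of finite dimension a prime with full-dimensional quotient is zero; relative
version -/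
theorem eq_of_le_of_dim_eq {A : Type u} [CommRing A] (J P : Ideal A) [hJ : J.IsPrime]
    (hJP : J ≤ P) (d : ℕ) (hdJ : ringKrullDim (A ⧸ J) = d) (hdP : ringKrullDim (A ⧸ P) = d) :
    P = J := by
  by_contra hne
  have hlt : ¬ P ≤ J := fun h => hne (le_antisymm h hJP)
  obtain ⟨x, hxP, hxJ⟩ := Set.not_subset.mp hlt
  haveI : IsDomain (A ⧸ J) := (Ideal.Quotient.isDomain_iff_prime J).mpr hJ
  have hx0 : Ideal.Quotient.mk J x ≠ 0 := by
    rw [Ne, Ideal.Quotient.eq_zero_iff_mem]
    exact hxJ
  have h := ringKrullDim_succ_le_of_surjective (Ideal.Quotient.factor hJP)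
    (Ideal.Quotient.factor_surjective hJP) (mem_nonZeroDivisors_of_ne_zero hx0) (by
      rw [Ideal.Quotient.factor_mk, Ideal.Quotient.eq_zero_iff_mem]
      exact hxP)
  rw [hdJ, hdP] at h
  have : d + 1 ≤ d := by exact_mod_cast h
  omega

/-- the Tor-formula multiplicity of a transversal intersection is one -/
theorem chi_eq_one_of_transversal (A : Type u) [CommRing A] [IsRegularLocalRing A]
    (JV JW : Ideal A) (hsup : JV ⊔ JW = maximalIdeal A)
    [IsRegularLocalRing (A ⧸ JV)] [IsRegularLocalRing (A ⧸ JW)]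
    (hdim : ringKrullDim A ≤ ringKrullDim (A ⧸ JV) + ringKrullDim (A ⧸ JW)) :
    IntMult.chi A (A ⧸ JW) (A ⧸ JV) = 1 := by
  haveI := Groth.Agent.Helper8.FlatReg.isCohenMacaulayLocalRing_of_isRegularLocalRing (A ⧸ JV)
  haveI := Groth.Agent.Helper8.FlatReg.isCohenMacaulayLocalRing_of_isRegularLocalRing (A ⧸ JW)
  have hmax : ∀ P : Ideal A, P.IsPrime → JV ≤ P → JW ≤ P → P = maximalIdeal A := by
    intro P hP hV hW
    have h1 : maximalIdeal A ≤ P := hsup ▸ sup_le hV hW
    exact ((maximalIdeal.isMaximal A).eq_of_le hP.ne_top h1).symm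
  unfold IntMult.chi
  rw [finsum_eq_single _ 0]
  · rw [pow_zero, one_mul, length_tor_zero, sup_comm, hsup]
    have : Module.length A (A ⧸ maximalIdeal A) = 1 := by
      haveI : IsSimpleModule A (A ⧸ maximalIdeal A) :=
        isSimpleModule_iff_isCoatom.mpr (Ideal.isMaximal_def.mp (maximalIdeal.isMaximal A))
      exact Module.length_eq_one _ _
    rw [this]
    rfl
  · intro i hi
    have hz := isZero_tor_of_cm A JV JW hdim hmax i (Nat.one_le_iff_ne_zero.2 hi)
    haveI : Subsingleton (DRing.Tor A i (A ⧸ JW) (A ⧸ JV)) :=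
      ModuleCat.subsingleton_of_isZero hz
    rw [Module.length_eq_zero]
    simp

end Groth.Agent.Lead.IntTrans
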