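import Mathlib
import Groth.Prelude.Def_IntMult
import Groth.Prelude.Def_Cyc
import Groth.Agent.Lib.Lead.IntReg2
import Groth.Agent.Lib.Lead.IntCart2
import Groth.Agent.Lib.Helper4.RegSpread1
import Groth.Agent.Lib.Helper4.CycJac1
import Groth.Agent.Lib.Helper5.AssMono.Ideal
import Groth.Agent.Lib.Helper7.ProjF.Ker

/-!
# Chart-level lemmas for closed immersions and closures of points (lead)
-/

set_option backward.isDefEq.respectTransparency.types false
set_option synthInstance.maxHeartbeats 400000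
set_option autoImplicit false
set_option linter.unusedSectionVars false
set_option linter.style.haveILetI false
universe u
open CategoryTheory AlgebraicGeometry TopologicalSpace IsLocalRing

namespace Groth.Agent.Lead.IntTrans

open Groth.Agent.Lead.IntCart Groth.Agent.Lead.IntReg

variable {X : Scheme.{u}}

section ClosedImm

variable {Y : Scheme.{u}} (ι : Y ⟶ X) [IsClosedImmersion ι]

theorem ker_stalkMap_eq_map (y : Y) (U : X.Opens) (hU : IsAffineOpen U) (hyU : ι y ∈ U) :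
    RingHom.ker (ι.stalkMap y).hom =
      (RingHom.ker (ι.app U).hom).map (X.presheaf.germ U (ι y) hyU).hom :=
  Groth.Agent.Lib.Helper4.RegSpread1.ker_stalkMap_of_app_surjective ι y U hU hyU (hU.preimage ι)
    (ι.app_surjective U hU)

theorem ker_app_le (y : Y) (U : X.Opens) (hU : IsAffineOpen U) (hyU : ι y ∈ U) :
    RingHom.ker (ι.app U).hom ≤ (hU.primeIdealOf ⟨ι y, hyU⟩).asIdeal :=
  Groth.Agent.Lib.Helper4.RegSpread1.ker_app_le_primeIdealOf ι y U hU hyU (hU.preimage ι)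

/-- the local ring of a closed subscheme is the quotient of the ambient local ring -/
noncomputable def stalkEquiv (y : Y) :
    (↑(X.presheaf.stalk (ι y)) ⧸ RingHom.ker (ι.stalkMap y).hom) ≃+* ↑(Y.presheaf.stalk y) :=
  RingHom.quotientKerEquivOfSurjective (ι.stalkMap_surjective y)

theorem length_self_of_ringEquiv {A B : Type u} [CommRing A] [CommRing B] (e : A ≃+* B) :
    Module.length A A = Module.length B B := by
  letI : Algebra A B := e.toRingHom.toAlgebra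
  let e' : A ≃ₗ[A] B :=
    { e with map_smul' := fun a x => by simp [Algebra.smul_def, RingHom.algebraMap_toAlgebra] }
  rw [e'.length_eq]
  exact Module.length_eq_of_surjective (S := A) (R := B) (M := B) e.surjective

theorem length_stalk_eq (y : Y) :
    Module.length (Y.presheaf.stalk y) (Y.presheaf.stalk y) =
      Module.length (X.presheaf.stalk (ι y))
        (↑(X.presheaf.stalk (ι y)) ⧸ RingHom.ker (ι.stalkMap y).hom) := by
  rw [← length_self_of_ringEquiv (stalkEquiv ι y)]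
  exact (Module.length_eq_of_surjective (S := X.presheaf.stalk (ι y))
    (R := ↑(X.presheaf.stalk (ι y)) ⧸ RingHom.ker (ι.stalkMap y).hom)
    (M := ↑(X.presheaf.stalk (ι y)) ⧸ RingHom.ker (ι.stalkMap y).hom)
    Ideal.Quotient.mk_surjective).symm

end ClosedImm

section Chart

variable {U : X.Opens} (hU : IsAffineOpen U)

theorem specializes_iff_le (x y : X) (hx : x ∈ U) (hy : y ∈ U) :
    x ⤳ y ↔ (hU.primeIdealOf ⟨x, hx⟩).asIdeal ≤ (hU.primeIdealOf ⟨y, hy⟩).asIdeal := by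
  have h := hU.fromSpec.isOpenEmbedding.isInducing.specializes_iff
    (x := hU.primeIdealOf ⟨x, hx⟩) (y := hU.primeIdealOf ⟨y, hy⟩)
  rw [hU.fromSpec_primeIdealOf, hU.fromSpec_primeIdealOf] at h
  rw [h]
  exact (PrimeSpectrum.le_iff_specializes _ _).symm

theorem eq_of_primeIdealOf_eq (x y : X) (hx : x ∈ U) (hy : y ∈ U)
    (h : (hU.primeIdealOf ⟨x, hx⟩).asIdeal = (hU.primeIdealOf ⟨y, hy⟩).asIdeal) : x = y := by
  have h1 : hU.primeIdealOf ⟨x, hx⟩ = hU.primeIdealOf ⟨y, hy⟩ := PrimeSpectrum.ext h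
  have h2 := congrArg (fun q => hU.fromSpec q) h1
  simp only [hU.fromSpec_primeIdealOf] at h2
  exact h2

/-- local dimension of the closure of `ξ` at `τ` through a dimension function -/
theorem ringKrullDim_quot_map_primeIdealOf [IsLocallyNoetherian X] (δ : X → ℤ)
    (hδ : Cyc.IsDimFun X δ) (τ ξ : X) (h : ξ ⤳ τ) (hτ : τ ∈ U) (hξ : ξ ∈ U) :
    ((hU.primeIdealOf ⟨ξ, hξ⟩).asIdeal.map (X.presheaf.germ U τ hτ).hom).IsPrime ∧
      ((hU.primeIdealOf ⟨ξ, hξ⟩).asIdeal.map (X.presheaf.germ U τ hτ).hom).comap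
        (X.presheaf.germ U τ hτ).hom = (hU.primeIdealOf ⟨ξ, hξ⟩).asIdeal ∧
      ∃ m : ℕ, ringKrullDim (↑(X.presheaf.stalk τ) ⧸
        (hU.primeIdealOf ⟨ξ, hξ⟩).asIdeal.map (X.presheaf.germ U τ hτ).hom) = m ∧
        δ ξ - δ τ = m := by
  letI := X.presheaf.algebra_section_stalk ⟨τ, hτ⟩
  haveI := hU.isLocalization_stalk ⟨τ, hτ⟩
  have hle : (hU.primeIdealOf ⟨ξ, hξ⟩).asIdeal ≤ (hU.primeIdealOf ⟨τ, hτ⟩).asIdeal :=
    (specializes_iff_le hU ξ τ hξ hτ).mp h
  haveI : (hU.primeIdealOf ⟨ξ, hξ⟩).asIdeal.IsPrime := (hU.primeIdealOf ⟨ξ, hξ⟩).isPrime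
  haveI : (hU.primeIdealOf ⟨τ, hτ⟩).asIdeal.IsPrime := (hU.primeIdealOf ⟨τ, hτ⟩).isPrime
  obtain ⟨hprime, hdim⟩ := ringKrullDim_quot_map_atPrime (A := X.presheaf.stalk τ)
    (hU.primeIdealOf ⟨τ, hτ⟩).asIdeal (hU.primeIdealOf ⟨ξ, hξ⟩).asIdeal hle
  have hdisj : Disjoint ((hU.primeIdealOf ⟨τ, hτ⟩).asIdeal.primeCompl : Set Γ(X, U))
      ((hU.primeIdealOf ⟨ξ, hξ⟩).asIdeal : Set Γ(X, U)) := by
    rw [Set.disjoint_left]
    intro x hx hxa
    exact hx (hle hxa)
  have hc := IsLocalization.under_map_of_isPrime_disjoint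
    (hU.primeIdealOf ⟨τ, hτ⟩).asIdeal.primeCompl (X.presheaf.stalk τ)
    (hU.primeIdealOf ⟨ξ, hξ⟩).isPrime hdisj
  obtain ⟨m, hm, hδm⟩ := Groth.Agent.Lib.Helper4.CycJac1.delta_sub_eq δ hδ hU τ ξ h hτ hξ
  refine ⟨hprime, hc, m, ?_, hδm⟩
  refine hdim.trans ?_
  rw [hm]
  rfl

theorem stalkIdeal_ptIdeal (τ ξ : X) (hτ : τ ∈ U) (hξ : ξ ∈ U) :
    IntMult.stalkIdeal (IntMult.ptIdeal ξ) τ =
      (hU.primeIdealOf ⟨ξ, hξ⟩).asIdeal.map (X.presheaf.germ U τ hτ).hom := by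
  rw [stalkIdeal_eq_map (IntMult.ptIdeal ξ) τ ⟨U, hU⟩ hτ]
  congr 1
  exact Groth.Agent.Lib.Helper5.AssMono.vanishingIdeal_ideal_eq ξ hU hξ

/-- if the ideal `a` and the prime of `ξ` generate the same ideal in the local ring at a
specialization `τ` of `ξ`, then `a` generates the maximal ideal of the local ring at `ξ` -/
theorem map_eq_maximalIdeal_of_map_eq (a : Ideal Γ(X, U)) (τ ξ : X) (h : ξ ⤳ τ) (hτ : τ ∈ U)
    (hξ : ξ ∈ U) (ha : a ≤ (hU.primeIdealOf ⟨ξ, hξ⟩).asIdeal)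
    (heq : a.map (X.presheaf.germ U τ hτ).hom =
      (hU.primeIdealOf ⟨ξ, hξ⟩).asIdeal.map (X.presheaf.germ U τ hτ).hom) :
    a.map (X.presheaf.germ U ξ hξ).hom = maximalIdeal (X.presheaf.stalk ξ) := by
  have hle : (hU.primeIdealOf ⟨ξ, hξ⟩).asIdeal ≤ (hU.primeIdealOf ⟨τ, hτ⟩).asIdeal :=
    (specializes_iff_le hU ξ τ hξ hτ).mp h
  haveI : (hU.primeIdealOf ⟨ξ, hξ⟩).asIdeal.IsPrime := (hU.primeIdealOf ⟨ξ, hξ⟩).isPrime
  haveI : (hU.primeIdealOf ⟨τ, hτ⟩).asIdeal.IsPrime := (hU.primeIdealOf ⟨τ, hτ⟩).isPrime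
  have key : (hU.primeIdealOf ⟨ξ, hξ⟩).asIdeal.map (X.presheaf.germ U ξ hξ).hom ≤
      a.map (X.presheaf.germ U ξ hξ).hom := by
    rw [Ideal.map_le_iff_le_comap]
    intro b hb
    rw [Ideal.mem_comap]
    letI := X.presheaf.algebra_section_stalk ⟨τ, hτ⟩
    haveI := hU.isLocalization_stalk ⟨τ, hτ⟩
    have h1 : algebraMap Γ(X, U) (X.presheaf.stalk τ) b ∈
        a.map (algebraMap Γ(X, U) (X.presheaf.stalk τ)) := by
      change (X.presheaf.germ U τ hτ).hom b ∈ a.map (X.presheaf.germ U τ hτ).hom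
      rw [heq]
      exact Ideal.mem_map_of_mem _ hb
    rw [IsLocalization.mem_map_algebraMap_iff (hU.primeIdealOf ⟨τ, hτ⟩).asIdeal.primeCompl] at h1
    obtain ⟨⟨c, s⟩, hcs⟩ := h1
    rw [← map_mul, IsLocalization.eq_iff_exists (hU.primeIdealOf ⟨τ, hτ⟩).asIdeal.primeCompl] at hcs
    obtain ⟨t, ht⟩ := hcs
    -- `t * s * b ∈ a` and `t * s` is a unit in the local ring at `ξ`
    have hmem : (t : Γ(X, U)) * (s : Γ(X, U)) * b ∈ a := by
      have : (t : Γ(X, U)) * (s : Γ(X, U)) * b = t * (b * s) := by ring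
      rw [this, ht]
      exact a.mul_mem_left _ c.2
    have hts : (t : Γ(X, U)) * (s : Γ(X, U)) ∉ (hU.primeIdealOf ⟨ξ, hξ⟩).asIdeal := by
      intro hmem'
      rcases Ideal.IsPrime.mem_or_mem inferInstance hmem' with h' | h'
      · exact t.2 (hle h')
      · exact s.2 (hle h')
    letI := X.presheaf.algebra_section_stalk ⟨ξ, hξ⟩
    haveI := hU.isLocalization_stalk ⟨ξ, hξ⟩
    have hunit : IsUnit (algebraMap Γ(X, U) (X.presheaf.stalk ξ) ((t : Γ(X, U)) * (s : Γ(X, U)))) :=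
      IsLocalization.map_units (X.presheaf.stalk ξ)
        (⟨(t : Γ(X, U)) * (s : Γ(X, U)), hts⟩ : (hU.primeIdealOf ⟨ξ, hξ⟩).asIdeal.primeCompl)
    have h2 : algebraMap Γ(X, U) (X.presheaf.stalk ξ) ((t : Γ(X, U)) * (s : Γ(X, U)) * b) ∈
        a.map (algebraMap Γ(X, U) (X.presheaf.stalk ξ)) := Ideal.mem_map_of_mem _ hmem
    rw [map_mul] at h2
    exact (Ideal.unit_mul_mem_iff_mem _ hunit).mp h2
  letI := X.presheaf.algebra_section_stalk ⟨ξ, hξ⟩
  haveI := hU.isLocalization_stalk ⟨ξ, hξ⟩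
  have hmax : (hU.primeIdealOf ⟨ξ, hξ⟩).asIdeal.map (X.presheaf.germ U ξ hξ).hom =
      maximalIdeal (X.presheaf.stalk ξ) :=
    IsLocalization.AtPrime.map_eq_maximalIdeal (hU.primeIdealOf ⟨ξ, hξ⟩).asIdeal
      (X.presheaf.stalk ξ)
  rw [← hmax]
  exact le_antisymm (Ideal.map_mono ha) key

end Chart

section ClosedImm2

variable {Y : Scheme.{u}} (ι : Y ⟶ X) [IsClosedImmersion ι]

theorem ker_app_le_of_eq (y : Y) (τ : X) (hy : ι y = τ) (U : X.Opens) (hU : IsAffineOpen U)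
    (hτU : τ ∈ U) : RingHom.ker (ι.app U).hom ≤ (hU.primeIdealOf ⟨τ, hτU⟩).asIdeal := by
  subst hy
  exact ker_app_le ι y U hU hτU

theorem isRegularLocalRing_stalk_of_quot (y : Y) (τ : X) (hy : ι y = τ) (U : X.Opens)
    (hU : IsAffineOpen U) (hτU : τ ∈ U)
    (hreg : IsRegularLocalRing (↑(X.presheaf.stalk τ) ⧸
      (RingHom.ker (ι.app U).hom).map (X.presheaf.germ U τ hτU).hom)) :
    IsRegularLocalRing (Y.presheaf.stalk y) := by
  subst hy
  rw [← ker_stalkMap_eq_map ι y U hU hτU] at hreg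
  exact IsRegularLocalRing.of_ringEquiv (stalkEquiv ι y)

theorem length_stalk_eq_of_eq (y : Y) (τ : X) (hy : ι y = τ) (U : X.Opens)
    (hU : IsAffineOpen U) (hτU : τ ∈ U) :
    Module.length (Y.presheaf.stalk y) (Y.presheaf.stalk y) =
      Module.length (X.presheaf.stalk τ) (↑(X.presheaf.stalk τ) ⧸
        (RingHom.ker (ι.app U).hom).map (X.presheaf.germ U τ hτU).hom) := by
  subst hy
  rw [← ker_stalkMap_eq_map ι y U hU hτU]
  exact length_stalk_eq ι y

theorem subschemeFun_eq_zero (δ : X → ℤ) (k : ℤ) (x : X)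
    (hx : x ∉ Set.range ⇑ι) : Cyc.subschemeFun δ k ι x = 0 := by
  unfold Cyc.subschemeFun
  split_ifs
  · have h0 : {z : Y | ι z = x} = ∅ :=
      Set.eq_empty_iff_forall_notMem.2 (fun z hz => hx ⟨z, hz⟩)
    rw [h0, finsum_mem_empty]
  · rfl

theorem subschemeFun_eq_of_eq (δ : X → ℤ) (k : ℤ) (y : Y) (x : X) (hy : ι y = x)
    (hk : δ x = k) :
    Cyc.subschemeFun δ k ι x =
      ((Module.length (Y.presheaf.stalk y) (Y.presheaf.stalk y)).toNat : ℤ) := by
  subst hy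
  unfold Cyc.subschemeFun
  rw [if_pos hk]
  have hi : Function.Injective ⇑ι := ι.isClosedEmbedding.injective
  have h0 : {z' : Y | ι z' = ι y} = {y} := by
    ext z'
    simp only [Set.mem_ofPred_eq, Set.mem_singleton_iff]
    exact ⟨fun h => hi h, fun h => by rw [h]⟩
  rw [h0, finsum_mem_singleton]

theorem exists_of_subschemeFun_ne_zero (δ : X → ℤ) (k : ℤ) (x : X)
    (hx : Cyc.subschemeFun δ k ι x ≠ 0) :
    δ x = k ∧ ∃ y : Y, ι y = x ∧ Cyc.subschemeFun δ k ι x =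
      ((Module.length (Y.presheaf.stalk y) (Y.presheaf.stalk y)).toNat : ℤ) := by
  have hk : δ x = k := by
    by_contra hne
    apply hx
    unfold Cyc.subschemeFun
    rw [if_neg hne]
  have hr : x ∈ Set.range ⇑ι := by
    by_contra hne
    exact hx (subschemeFun_eq_zero ι δ k x hne)
  obtain ⟨y, hy⟩ := hr
  exact ⟨hk, y, hy, subschemeFun_eq_of_eq ι δ k y x hy hk⟩

end ClosedImm2

section Alg

theorem exists_dim_quot {A : Type u} [CommRing A] [IsLocalRing A] [IsNoetherianRing A]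
    (J : Ideal A) (hJ : J ≠ ⊤) : ∃ e : ℕ, ringKrullDim (A ⧸ J) = e := by
  haveI : Nontrivial (A ⧸ J) := Ideal.Quotient.nontrivial_iff.mpr hJ
  haveI : IsLocalRing (A ⧸ J) :=
    IsLocalRing.of_surjective' (Ideal.Quotient.mk J) Ideal.Quotient.mk_surjective
  have h1 := ringKrullDim_lt_top (R := A ⧸ J)
  have h2 : (0 : WithBot ℕ∞) ≤ ringKrullDim (A ⧸ J) := ringKrullDim_nonneg_of_nontrivial
  cases h : ringKrullDim (A ⧸ J) with
  | bot => rw [h] at h2; exact absurd h2 (by simp)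
  | coe e =>
    rw [h] at h1
    have : e ≠ ⊤ := by
      intro he; rw [he] at h1; exact lt_irrefl _ h1
    lift e to ℕ using this
    exact ⟨e, rfl⟩

end Alg

section Pullback

open Limits

variable {Y Z : Scheme.{u}} (ιY : Y ⟶ X) (ιZ : Z ⟶ X) [IsClosedImmersion ιY]
  [IsClosedImmersion ιZ]

/-- the ideal of the scheme-theoretic intersection is contained in the sum of the ideals -/
theorem ker_stalkMap_pullback_le (w : ↑(pullback ιY ιZ)) (U : X.Opens) (hU : IsAffineOpen U)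
    (hwU : ιY (pullback.fst ιY ιZ w) ∈ U) :
    RingHom.ker ((pullback.fst ιY ιZ ≫ ιY).stalkMap w).hom ≤
      (RingHom.ker (ιY.app U).hom).map
          (X.presheaf.germ U (ιY (pullback.fst ιY ιZ w)) hwU).hom ⊔
        (RingHom.ker (ιZ.app U).hom).map
          (X.presheaf.germ U (ιY (pullback.fst ιY ιZ w)) hwU).hom := by
  have hpt : ιY (pullback.fst ιY ιZ w) = ιZ (pullback.snd ιY ιZ w) :=
    Groth.Agent.Helper7.ProjF.pullback_pt_eq ιY ιZ w
  have hzU : ιZ (pullback.snd ιY ιZ w) ∈ U := hpt ▸ hwU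
  set JZ := (RingHom.ker (ιZ.app U).hom).map
    (X.presheaf.germ U (ιY (pullback.fst ιY ιZ w)) hwU).hom with hJZ
  have hle := Groth.Agent.Helper7.ProjF.ker_stalkMap_fst_le ιY ιZ w
    (JZ.map (ιY.stalkMap (pullback.fst ιY ιZ w)).hom) (by
      intro a ha
      apply Ideal.mem_map_of_mem
      have ha' : a ∈ RingHom.ker (ιZ.stalkMap (pullback.snd ιY ιZ w)).hom := ha
      rw [ker_stalkMap_eq_map ιZ _ U hU hzU] at ha'
      have := Ideal.mem_map_of_mem
        (X.presheaf.stalkSpecializes (specializes_of_eq hpt)).hom ha'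
      rw [Ideal.map_map] at this
      have hcomp : (X.presheaf.stalkSpecializes (specializes_of_eq hpt)).hom.comp
          (X.presheaf.germ U (ιZ (pullback.snd ιY ιZ w)) hzU).hom =
          (X.presheaf.germ U (ιY (pullback.fst ιY ιZ w)) hwU).hom := by
        rw [← CommRingCat.hom_comp, TopCat.Presheaf.germ_stalkSpecializes]
      rw [hcomp] at this
      exact this)
  intro (a : ↑(X.presheaf.stalk (ιY (pullback.fst ιY ιZ w)))) ha
  have hcomp : ((pullback.fst ιY ιZ ≫ ιY).stalkMap w).hom =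
      ((pullback.fst ιY ιZ).stalkMap w).hom.comp (ιY.stalkMap (pullback.fst ιY ιZ w)).hom := by
    rw [Scheme.Hom.stalkMap_comp]
    rfl
  have ha1 : (ιY.stalkMap (pullback.fst ιY ιZ w)).hom a ∈
      RingHom.ker ((pullback.fst ιY ιZ).stalkMap w).hom := by
    rw [RingHom.mem_ker]
    have : ((pullback.fst ιY ιZ ≫ ιY).stalkMap w).hom a = 0 := ha
    rw [hcomp] at this
    exact this
  have ha2 := hle ha1
  rw [Ideal.mem_map_iff_of_surjective _ (ιY.stalkMap_surjective _)] at ha2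
  obtain ⟨b, hb, hab⟩ := ha2
  have hker : a - b ∈ RingHom.ker (ιY.stalkMap (pullback.fst ιY ιZ w)).hom := by
    rw [RingHom.mem_ker, map_sub, hab, sub_self]
  rw [ker_stalkMap_eq_map ιY _ U hU hwU] at hker
  have : a = (a - b) + b := by ring
  rw [this]
  exact Ideal.add_mem _ (Ideal.mem_sup_left hker) (Ideal.mem_sup_right hb)

end Pullback

end Groth.Agent.Lead.IntTrans
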