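import Mathlib
import Groth.Prelude.Def_IntMult
import Groth.Prelude.Def_Cyc
import Groth.Agent.Lib.Lead.IntTrans1
import Groth.Agent.Lib.Lead.IntTrans2
import Groth.Agent.Lib.Lead.IntSerre3
import Groth.Agent.Lib.Helper8.RegularLocal

/-!
# Multiplicity one for cycles of closed subschemes (lead)
-/

set_option backward.isDefEq.respectTransparency.types false
set_option synthInstance.maxHeartbeats 400000
set_option autoImplicit false
set_option linter.unusedSectionVars false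
set_option linter.style.haveILetI false
universe u
open CategoryTheory AlgebraicGeometry TopologicalSpace IsLocalRing

namespace Groth.Agent.Lead.IntTrans

open Groth.Agent.Lead.IntCart Groth.Agent.Lead.IntReg Groth.Agent.Lead.IntSerre

/-- algebraic core: a transversal pair of ideals whose quotients have at least the expected
dimensions -/
theorem transversal_of_sup_eq (A : Type u) [CommRing A] [IsRegularLocalRing A]
    (JY JZ P Q : Ideal A) (hsup : JY ⊔ JZ = maximalIdeal A) (hP : JY ≤ P) (hQ : JZ ≤ Q)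
    (d0 d1 d2 : ℕ) (h0 : ringKrullDim A = d0) (h1 : ringKrullDim (A ⧸ P) = d1)
    (h2 : ringKrullDim (A ⧸ Q) = d2) (hle : d0 ≤ d1 + d2) :
    IsRegularLocalRing (A ⧸ JY) ∧ IsRegularLocalRing (A ⧸ JZ) ∧
      ringKrullDim (A ⧸ JY) = d1 ∧ ringKrullDim (A ⧸ JZ) = d2 ∧ JY.IsPrime ∧ JZ.IsPrime := by
  have hVm : JY ≤ maximalIdeal A := hsup ▸ le_sup_left
  have hWm : JZ ≤ maximalIdeal A := hsup ▸ le_sup_right
  have hVtop : JY ≠ ⊤ := fun h => (maximalIdeal.isMaximal A).ne_top (top_le_iff.mp (h ▸ hVm))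
  have hWtop : JZ ≠ ⊤ := fun h => (maximalIdeal.isMaximal A).ne_top (top_le_iff.mp (h ▸ hWm))
  obtain ⟨e1, he1⟩ := exists_dim_quot JY hVtop
  obtain ⟨e2, he2⟩ := exists_dim_quot JZ hWtop
  have g1 : d1 ≤ e1 := by
    have := ringKrullDim_le_of_surjective (Ideal.Quotient.factor hP)
      (Ideal.Quotient.factor_surjective hP)
    rw [h1, he1] at this
    exact_mod_cast this
  have g2 : d2 ≤ e2 := by
    have := ringKrullDim_le_of_surjective (Ideal.Quotient.factor hQ)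
      (Ideal.Quotient.factor_surjective hQ)
    rw [h2, he2] at this
    exact_mod_cast this
  obtain ⟨hregY, hregZ⟩ := isRegularLocalRing_quot_of_sup_eq A JY JZ hsup d0 e1 e2 h0 he1 he2
    (by omega)
  have hsum := dim_add_dim_le_of_sup_eq A JY JZ hsup d0 e1 e2 h0 he1 he2
  have e1d : e1 = d1 := by omega
  have e2d : e2 = d2 := by omega
  haveI := Groth.Agent.Helper8.RLR.isDomain (A ⧸ JY)
  haveI := Groth.Agent.Helper8.RLR.isDomain (A ⧸ JZ)
  refine ⟨hregY, hregZ, e1d ▸ he1, e2d ▸ he2, ?_, ?_⟩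
  · exact (Ideal.Quotient.isDomain_iff_prime JY).mp inferInstance
  · exact (Ideal.Quotient.isDomain_iff_prime JZ).mp inferInstance

variable {X : Scheme.{u}}

theorem length_quot_maximalIdeal (A : Type u) [CommRing A] [IsLocalRing A] :
    Module.length A (A ⧸ maximalIdeal A) = 1 := by
  haveI : IsSimpleModule A (A ⧸ maximalIdeal A) :=
    isSimpleModule_iff_isCoatom.mpr (Ideal.isMaximal_def.mp (maximalIdeal.isMaximal A))
  exact Module.length_eq_one _ _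

theorem eq_maximalIdeal_of_length_eq_one (A : Type u) [CommRing A] [IsLocalRing A] (K : Ideal A)
    (h1 : Module.length A (A ⧸ K) = 1) : K = maximalIdeal A := by
  have hsimple : IsSimpleModule A (A ⧸ K) := Module.length_eq_one_iff.mp h1
  have hcoatom : IsCoatom K := isSimpleModule_iff_isCoatom.mp hsimple
  exact IsLocalRing.eq_maximalIdeal (Ideal.isMaximal_def.mpr hcoatom)

section ClosedImm3

variable {Y : Scheme.{u}} (ι : Y ⟶ X) [IsClosedImmersion ι]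

theorem exists_point_of_subschemeFun_eq_one (δ : X → ℤ) (k : ℤ) (x : X)
    (h : Cyc.subschemeFun δ k ι x = 1) :
    ∃ y : Y, ι y = x ∧ Module.length (Y.presheaf.stalk y) (Y.presheaf.stalk y) = 1 := by
  obtain ⟨-, y, hy, heq⟩ := exists_of_subschemeFun_ne_zero ι δ k x (by rw [h]; exact one_ne_zero)
  refine ⟨y, hy, ?_⟩
  rw [h] at heq
  have h1 : (Module.length (Y.presheaf.stalk y) (Y.presheaf.stalk y)).toNat = 1 := by
    exact_mod_cast heq.symm
  exact (ENat.toNat_eq_iff one_ne_zero).mp h1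

theorem map_germ_le_maximalIdeal {U : X.Opens} (hU : IsAffineOpen U) (a : Ideal Γ(X, U)) (τ : X)
    (hτU : τ ∈ U) (ha : a ≤ (hU.primeIdealOf ⟨τ, hτU⟩).asIdeal) :
    a.map (X.presheaf.germ U τ hτU).hom ≤ maximalIdeal (X.presheaf.stalk τ) := by
  letI := X.presheaf.algebra_section_stalk ⟨τ, hτU⟩
  haveI := hU.isLocalization_stalk ⟨τ, hτU⟩
  haveI : (hU.primeIdealOf ⟨τ, hτU⟩).asIdeal.IsPrime := (hU.primeIdealOf ⟨τ, hτU⟩).isPrime
  have hmax : (hU.primeIdealOf ⟨τ, hτU⟩).asIdeal.map (X.presheaf.germ U τ hτU).hom =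
      maximalIdeal (X.presheaf.stalk τ) :=
    IsLocalization.AtPrime.map_eq_maximalIdeal (hU.primeIdealOf ⟨τ, hτU⟩).asIdeal
      (X.presheaf.stalk τ)
  rw [← hmax]
  exact Ideal.map_mono ha

end ClosedImm3

section Main

open Limits

variable {Y Z : Scheme.{u}} (ιY : Y ⟶ X) (ιZ : Z ⟶ X) [IsClosedImmersion ιY]
  [IsClosedImmersion ιZ]

/-- the local dimension of an integral scheme through a dimension function -/
theorem ringKrullDim_stalk_eq [IsIntegral X] [IsLocallyNoetherian X] (δ : X → ℤ)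
    (hδ : Cyc.IsDimFun X δ) {U : X.Opens} (hU : IsAffineOpen U) (τ : X) (hτU : τ ∈ U) :
    ∃ m : ℕ, ringKrullDim (X.presheaf.stalk τ) = m ∧ δ (genericPoint X) - δ τ = m := by
  haveI : Nonempty U := ⟨⟨τ, hτU⟩⟩
  have hgU : genericPoint X ∈ U :=
    ((genericPoint_spec X).mem_open_set_iff U.isOpen).mpr (by simpa using ‹Nonempty U›)
  obtain ⟨-, -, m, hm, hδm⟩ := ringKrullDim_quot_map_primeIdealOf hU δ hδ τ (genericPoint X)
    (genericPoint_specializes τ) hτU hgU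
  refine ⟨m, ?_, hδm⟩
  have hbot : (hU.primeIdealOf ⟨genericPoint X, hgU⟩).asIdeal = ⊥ := by
    have h1 := hU.primeIdealOf_genericPoint
    have h2 : hU.primeIdealOf ⟨genericPoint X, hgU⟩ = genericPoint (Spec Γ(X, U)) := h1
    rw [h2, genericPoint_eq_bot_of_affine]
    rfl
  rw [hbot, Ideal.map_bot] at hm
  rw [← hm]
  exact (ringKrullDim_eq_of_ringEquiv (RingEquiv.quotientBot _)).symm

/-- the local structure of a transversal intersection of closed subschemes on a chart -/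
theorem chart_main (K : Type u) [Field K] (f : X ⟶ Spec (CommRingCat.of K)) [Smooth f]
    [IsIntegral X] (δ : X → ℤ) (hX : Cyc.IsSetup X δ) (n : ℤ) (hn : δ (genericPoint X) = n)
    (r s : ℤ) (τ : X) (hτ : δ τ = r + s - n) {U : X.Opens} (hU : IsAffineOpen U) (hτU : τ ∈ U)
    (hsup : (RingHom.ker (ιY.app U).hom).map (X.presheaf.germ U τ hτU).hom ⊔
      (RingHom.ker (ιZ.app U).hom).map (X.presheaf.germ U τ hτU).hom =
        maximalIdeal (X.presheaf.stalk τ))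
    (ξ η : X) (hξτ : ξ ⤳ τ) (hητ : η ⤳ τ) (hξU : ξ ∈ U) (hηU : η ∈ U) (hξr : δ ξ = r)
    (hηs : δ η = s) (hξY : ξ ∈ Set.range ⇑ιY) (hηZ : η ∈ Set.range ⇑ιZ) :
    IsRegularLocalRing (↑(X.presheaf.stalk τ) ⧸
        (RingHom.ker (ιY.app U).hom).map (X.presheaf.germ U τ hτU).hom) ∧
      IsRegularLocalRing (↑(X.presheaf.stalk τ) ⧸
        (RingHom.ker (ιZ.app U).hom).map (X.presheaf.germ U τ hτU).hom) ∧
      (RingHom.ker (ιY.app U).hom).map (X.presheaf.germ U τ hτU).hom =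
        (hU.primeIdealOf ⟨ξ, hξU⟩).asIdeal.map (X.presheaf.germ U τ hτU).hom ∧
      (RingHom.ker (ιZ.app U).hom).map (X.presheaf.germ U τ hτU).hom =
        (hU.primeIdealOf ⟨η, hηU⟩).asIdeal.map (X.presheaf.germ U τ hτU).hom ∧
      ringKrullDim (X.presheaf.stalk τ) ≤
        ringKrullDim (↑(X.presheaf.stalk τ) ⧸
          (RingHom.ker (ιY.app U).hom).map (X.presheaf.germ U τ hτU).hom) +
        ringKrullDim (↑(X.presheaf.stalk τ) ⧸
          (RingHom.ker (ιZ.app U).hom).map (X.presheaf.germ U τ hτU).hom) := by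
  haveI : IsLocallyNoetherian X := hX.1
  have hδ : Cyc.IsDimFun X δ := hX.2.2
  haveI := isRegularLocalRing_stalk_of_smooth K f τ
  obtain ⟨m0, hm0, hδ0⟩ := ringKrullDim_stalk_eq δ hδ hU τ hτU
  obtain ⟨hPprime, -, m1, hm1, hδ1⟩ :=
    ringKrullDim_quot_map_primeIdealOf hU δ hδ τ ξ hξτ hτU hξU
  obtain ⟨hQprime, -, m2, hm2, hδ2⟩ :=
    ringKrullDim_quot_map_primeIdealOf hU δ hδ τ η hητ hτU hηU
  obtain ⟨y', hy'⟩ := hξY
  obtain ⟨z', hz'⟩ := hηZ
  have haY : RingHom.ker (ιY.app U).hom ≤ (hU.primeIdealOf ⟨ξ, hξU⟩).asIdeal :=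
    ker_app_le_of_eq ιY y' ξ hy' U hU hξU
  have haZ : RingHom.ker (ιZ.app U).hom ≤ (hU.primeIdealOf ⟨η, hηU⟩).asIdeal :=
    ker_app_le_of_eq ιZ z' η hz' U hU hηU
  have hJYP := Ideal.map_mono (f := (X.presheaf.germ U τ hτU).hom) haY
  have hJZQ := Ideal.map_mono (f := (X.presheaf.germ U τ hτU).hom) haZ
  obtain ⟨hregY, hregZ, hdY, hdZ, hJYprime, hJZprime⟩ :=
    transversal_of_sup_eq (X.presheaf.stalk τ) _ _ _ _ hsup hJYP hJZQ m0 m1 m2 hm0 hm1 hm2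
      (by omega)
  refine ⟨hregY, hregZ, ?_, ?_, ?_⟩
  · exact (eq_of_le_of_dim_eq _ _ hJYP m1 hdY hm1).symm
  · exact (eq_of_le_of_dim_eq _ _ hJZQ m2 hdZ hm2).symm
  · rw [hm0, hdY, hdZ]
    have : m0 ≤ m1 + m2 := by omega
    exact_mod_cast this

end Main

section Final

open Limits

variable {Y Z : Scheme.{u}} (ιY : Y ⟶ X) (ιZ : Z ⟶ X) [IsClosedImmersion ιY]
  [IsClosedImmersion ιZ]

/-- the scheme-theoretic intersection has length one at `τ`: the two ideals generate the maximal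
ideal -/
theorem sup_eq_maximalIdeal (δ : X → ℤ) (k : ℤ) (τ : X)
    (hmult : Cyc.subschemeFun δ k (pullback.fst ιY ιZ ≫ ιY) τ = 1)
    {U : X.Opens} (hU : IsAffineOpen U) (hτU : τ ∈ U) :
    (RingHom.ker (ιY.app U).hom).map (X.presheaf.germ U τ hτU).hom ⊔
      (RingHom.ker (ιZ.app U).hom).map (X.presheaf.germ U τ hτU).hom =
        maximalIdeal (X.presheaf.stalk τ) := by
  obtain ⟨w, hw, hlen⟩ :=
    exists_point_of_subschemeFun_eq_one (pullback.fst ιY ιZ ≫ ιY) δ k τ hmult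
  have hwY : ιY (pullback.fst ιY ιZ w) = τ := hw
  have hwZ : ιZ (pullback.snd ιY ιZ w) = τ :=
    (Groth.Agent.Helper7.ProjF.pullback_pt_eq ιY ιZ w).symm.trans hwY
  have hY := map_germ_le_maximalIdeal hU _ τ hτU
    (ker_app_le_of_eq ιY (pullback.fst ιY ιZ w) τ hwY U hU hτU)
  have hZ := map_germ_le_maximalIdeal hU _ τ hτU
    (ker_app_le_of_eq ιZ (pullback.snd ιY ιZ w) τ hwZ U hU hτU)
  refine le_antisymm (sup_le hY hZ) ?_
  subst hwY
  have hle := ker_stalkMap_pullback_le ιY ιZ w U hU hτU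
  have hK := length_stalk_eq (pullback.fst ιY ιZ ≫ ιY) w
  rw [hlen] at hK
  have hKm := eq_maximalIdeal_of_length_eq_one _ _ hK.symm
  rw [hKm] at hle
  exact hle

theorem subschemeFun_eq_one_of_map_eq (δ : X → ℤ) (r : ℤ) (τ ξ : X) (hξτ : ξ ⤳ τ)
    {U : X.Opens} (hU : IsAffineOpen U) (hτU : τ ∈ U) (hξU : ξ ∈ U) (hξr : δ ξ = r)
    (hξY : ξ ∈ Set.range ⇑ιY)
    (heq : (RingHom.ker (ιY.app U).hom).map (X.presheaf.germ U τ hτU).hom =
        (hU.primeIdealOf ⟨ξ, hξU⟩).asIdeal.map (X.presheaf.germ U τ hτU).hom) :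
    Cyc.subschemeFun δ r ιY ξ = 1 := by
  obtain ⟨y', hy'⟩ := hξY
  rw [subschemeFun_eq_of_eq ιY δ r y' ξ hy' hξr, length_stalk_eq_of_eq ιY y' ξ hy' U hU hξU,
    map_eq_maximalIdeal_of_map_eq hU _ τ ξ hξτ hτU hξU (ker_app_le_of_eq ιY y' ξ hy' U hU hξU) heq,
    length_quot_maximalIdeal]
  rfl

theorem eq_of_map_primeIdealOf_eq [IsLocallyNoetherian X] (δ : X → ℤ) (hδ : Cyc.IsDimFun X δ)
    {U : X.Opens} (hU : IsAffineOpen U) (τ ξ ξ' : X) (hτU : τ ∈ U) (hξU : ξ ∈ U) (hξ'U : ξ' ∈ U)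
    (hξτ : ξ ⤳ τ) (hξ'τ : ξ' ⤳ τ)
    (heq : (hU.primeIdealOf ⟨ξ, hξU⟩).asIdeal.map (X.presheaf.germ U τ hτU).hom =
      (hU.primeIdealOf ⟨ξ', hξ'U⟩).asIdeal.map (X.presheaf.germ U τ hτU).hom) : ξ = ξ' := by
  obtain ⟨-, h1, -⟩ := ringKrullDim_quot_map_primeIdealOf hU δ hδ τ ξ hξτ hτU hξU
  obtain ⟨-, h2, -⟩ := ringKrullDim_quot_map_primeIdealOf hU δ hδ τ ξ' hξ'τ hτU hξ'U
  apply eq_of_primeIdealOf_eq hU ξ ξ' hξU hξ'U
  rw [← h1, ← h2, heq]

theorem main1954 (K : Type u) [Field K] (f : X ⟶ Spec (CommRingCat.of K)) [Smooth f]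
    [IsIntegral X] (δ : X → ℤ) (hX : Cyc.IsSetup X δ) (n : ℤ) (hn : δ (genericPoint X) = n)
    (r s : ℤ) (τ : X) (hτ : δ τ = r + s - n)
    (hξ : ∃ ξ η : X, Cyc.subschemeFun δ r ιY ξ ≠ 0 ∧ Cyc.subschemeFun δ s ιZ η ≠ 0 ∧
      ξ ⤳ τ ∧ η ⤳ τ)
    (hmult : Cyc.subschemeFun δ (r + s - n) (pullback.fst ιY ιZ ≫ ιY) τ = 1) :
    IntMult.interProd δ n (Cyc.subschemeFun δ r ιY) (Cyc.subschemeFun δ s ιZ) τ = 1 ∧
      (∀ y : Y, ιY y = τ → IsRegularLocalRing (Y.presheaf.stalk y)) ∧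
      (∀ z : Z, ιZ z = τ → IsRegularLocalRing (Z.presheaf.stalk z)) := by
  haveI : IsLocallyNoetherian X := hX.1
  have hδ : Cyc.IsDimFun X δ := hX.2.2
  obtain ⟨ξ, η, hαξ, hβη, hξτ, hητ⟩ := hξ
  obtain ⟨hξr, yξ, hyξ, -⟩ := exists_of_subschemeFun_ne_zero ιY δ r ξ hαξ
  obtain ⟨hηs, zη, hzη, -⟩ := exists_of_subschemeFun_ne_zero ιZ δ s η hβη
  obtain ⟨U, hU, hτU, -⟩ := exists_isAffineOpen_mem_and_subset (x := τ) (U := ⊤) trivial
  have hsup := sup_eq_maximalIdeal ιY ιZ δ _ τ hmult hU hτU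
  have hξU : ξ ∈ U := hξτ.mem_open U.isOpen hτU
  have hηU : η ∈ U := hητ.mem_open U.isOpen hτU
  obtain ⟨hregY, hregZ, hJY, hJZ, hdim⟩ := chart_main ιY ιZ K f δ hX n hn r s τ hτ hU hτU hsup
    ξ η hξτ hητ hξU hηU hξr hηs ⟨yξ, hyξ⟩ ⟨zη, hzη⟩
  haveI := isRegularLocalRing_stalk_of_smooth K f τ
  refine ⟨?_, ?_, ?_⟩
  · unfold IntMult.interProd
    rw [finsum_eq_single _ ⟨(ξ, η), hξτ, hητ, by rw [hξr, hηs, hτ]⟩]
    · rw [subschemeFun_eq_one_of_map_eq ιY δ r τ ξ hξτ hU hτU hξU hξr ⟨yξ, hyξ⟩ hJY,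
        subschemeFun_eq_one_of_map_eq ιZ δ s τ η hητ hU hτU hηU hηs ⟨zη, hzη⟩ hJZ]
      unfold IntMult.mult
      rw [stalkIdeal_ptIdeal hU τ ξ hτU hξU, stalkIdeal_ptIdeal hU τ η hτU hηU, ← hJY, ← hJZ,
        chi_eq_one_of_transversal _ _ _ hsup hdim]
      norm_num
    · rintro ⟨⟨ξ', η'⟩, h1, h2, h3⟩ hne
      by_cases hα : Cyc.subschemeFun δ r ιY ξ' = 0
      · simp [hα]
      by_cases hβ : Cyc.subschemeFun δ s ιZ η' = 0
      · simp [hβ]
      exfalso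
      apply hne
      obtain ⟨hξ'r, yξ', hyξ', -⟩ := exists_of_subschemeFun_ne_zero ιY δ r ξ' hα
      obtain ⟨hη's, zη', hzη', -⟩ := exists_of_subschemeFun_ne_zero ιZ δ s η' hβ
      have h1' : ξ' ⤳ τ := h1
      have h2' : η' ⤳ τ := h2
      have hξ'U : ξ' ∈ U := h1'.mem_open U.isOpen hτU
      have hη'U : η' ∈ U := h2'.mem_open U.isOpen hτU
      obtain ⟨-, -, hJY', hJZ', -⟩ := chart_main ιY ιZ K f δ hX n hn r s τ hτ hU hτU hsup
        ξ' η' h1' h2' hξ'U hη'U hξ'r hη's ⟨yξ', hyξ'⟩ ⟨zη', hzη'⟩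
      have e1 : ξ' = ξ := eq_of_map_primeIdealOf_eq δ hδ hU τ ξ' ξ hτU hξ'U hξU h1' hξτ
        (hJY'.symm.trans hJY)
      have e2 : η' = η := eq_of_map_primeIdealOf_eq δ hδ hU τ η' η hτU hη'U hηU h2' hητ
        (hJZ'.symm.trans hJZ)
      subst e1 e2
      rfl
  · intro y hy
    exact isRegularLocalRing_stalk_of_quot ιY y τ hy U hU hτU hregY
  · intro z hz
    exact isRegularLocalRing_stalk_of_quot ιZ z τ hz U hU hτU hregZ

end Final

end Groth.Agent.Lead.IntTrans
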