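import Mathlib
import Groth.Prelude.Def_Red
import Groth.Agent.Lib.Lead.GrpProp5
import Groth.Agent.Lib.Helper7.SmProp.Main

set_option backward.isDefEq.respectTransparency.types false
set_option autoImplicit false
set_option synthInstance.maxHeartbeats 400000
set_option maxHeartbeats 1000000
set_option linter.style.haveILetI false
set_option linter.unusedSectionVars false
set_option linter.unusedSimpArgs false

universe u

open CategoryTheory CategoryTheory.Limits AlgebraicGeometry
open MonoidalCategory CartesianMonoidalCategory MonObj GrpObj

namespace Groth.Agent.Lead.Isog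

/-- a flat locally quasi-finite quasi-compact homomorphism to a smooth connected group over a
field is finite and surjective -/
theorem finite_surjective_of_flat_lqf (k : Type u) [Field k]
    (G H : Over (Spec (CommRingCat.of k))) [GrpObj G] [GrpObj H]
    [LocallyOfFiniteType G.hom] [Smooth H.hom] [ConnectedSpace H.left]
    (u : G ⟶ H) [IsMonHom u] [QuasiCompact u.left] [Flat u.left] [LocallyQuasiFinite u.left] :
    IsFinite u.left ∧ Surjective u.left := by
  haveI : LocallyOfFiniteType H.hom := inferInstance
  haveI : IsIntegral H.left := Groth.Agent.Helper7.SmProp.isIntegral_of_smooth_of_connected k H.hom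
  haveI : LocallyOfFiniteType (u.left ≫ H.hom) := by rw [Over.w u]; infer_instance
  haveI : LocallyOfFiniteType u.left := locallyOfFiniteType_of_comp u.left H.hom
  haveI : IsLocallyNoetherian H.left := LocallyOfFiniteType.isLocallyNoetherian H.hom
  haveI : LocallyOfFinitePresentation u.left :=
    LocallyOfFinitePresentation.iff_locallyOfFiniteType.2 inferInstance
  haveI : UniversallyOpen u.left := inferInstance
  haveI : Subsingleton ↥(Spec (CommRingCat.of k)) :=
    inferInstanceAs (Subsingleton (PrimeSpectrum k))
  have hsurj : Surjective u.left := by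
    have hopen : IsOpen (Set.range u.left) := u.left.isOpenMap.isOpen_range
    have hne : (Set.range u.left).Nonempty :=
      ⟨_, ⟨(η[G]).left (IsLocalRing.closedPoint k), rfl⟩⟩
    have hdense : DenseRange u.left := hopen.dense hne
    exact Groth.Agent.Helper2.GrpHom.surjective_of_denseRange u hdense
  refine ⟨?_, hsurj⟩
  haveI : IsLocallyArtinian (Spec (CommRingCat.of k)) :=
    Scheme.isLocallyArtinianScheme_Spec.mpr (inferInstanceAs (IsArtinianRing k))
  haveI : IsLocallyArtinian (𝟙_ (Over (Spec (CommRingCat.of k)))).left :=
    (inferInstance : IsLocallyArtinian (Spec (CommRingCat.of k)))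
  refine (Groth.Agent.Lead.GrpProp.main3037 k G H u).mpr ?_
  haveI : LocallyQuasiFinite (pullback.snd u.left
      (η[H] : 𝟙_ (Over (Spec (CommRingCat.of k))) ⟶ H).left) :=
    MorphismProperty.pullback_snd _ _ inferInstance
  haveI : IsLocallyArtinian (pullback u.left
      (η[H] : 𝟙_ (Over (Spec (CommRingCat.of k))) ⟶ H).left) :=
    IsLocallyArtinian.of_locallyQuasiFinite (pullback.snd u.left
      (η[H] : 𝟙_ (Over (Spec (CommRingCat.of k))) ⟶ H).left)
  infer_instance

/-- a surjective homomorphism onto a smooth connected group over a field is flat -/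
theorem flat_of_surjective (k : Type u) [Field k]
    (G H : Over (Spec (CommRingCat.of k))) [GrpObj G] [GrpObj H]
    [LocallyOfFiniteType G.hom] [Smooth H.hom] [ConnectedSpace H.left]
    (u : G ⟶ H) [IsMonHom u] [Surjective u.left] : Flat u.left := by
  haveI : LocallyOfFiniteType H.hom := inferInstance
  haveI : IsIntegral H.left := Groth.Agent.Helper7.SmProp.isIntegral_of_smooth_of_connected k H.hom
  exact Groth.Agent.Helper2.GrpHom.flat_of_surjective_of_isReduced u

end Groth.Agent.Lead.Isog
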