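import Mathlib
import Groth.Prelude.Def_Red
import Groth.Agent.Lib.Lead.IsogF1
import Groth.Agent.Lib.Lead.CritFib20
import Groth.Agent.Lib.Helper3.FibCrit1

set_option backward.isDefEq.respectTransparency.types false
set_option autoImplicit false
set_option synthInstance.maxHeartbeats 400000
set_option maxHeartbeats 1000000
set_option linter.style.haveILetI false
set_option linter.unusedSectionVars false
set_option linter.unusedSimpArgs false

universe u

open CategoryTheory CategoryTheory.Limits AlgebraicGeometry
open MonoidalCategory CartesianMonoidalCategory MonObj GrpObj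

namespace Groth.Agent.Lead.Isog

section fibre

variable {S : Scheme.{u}} (G H : Over S) [GrpObj G] [GrpObj H] (f : G ⟶ H) [IsMonHom f] (s : S)

/-- the comparison of the fibre map with the base change of `f` to the residue field -/
theorem snd_eq (P : MorphismProperty Scheme.{u}) [P.RespectsIso] :
    P (pullback.snd f.left (H.hom.fiberι s)) ↔
      P ((Over.pullback (S.fromSpecResidueField s)).map f).left := by
  have sq := Groth.Agent.Lead.GrpMonoCl.isPullback_map_left (S.fromSpecResidueField s) f
  have e1 : sq.isoPullback.hom ≫ pullback.snd f.left (pullback.fst H.hom (S.fromSpecResidueField s)) =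
      ((Over.pullback (S.fromSpecResidueField s)).map f).left := sq.isoPullback_hom_snd
  rw [← e1]
  exact (P.cancel_left_of_respectsIso _ _).symm

end fibre

theorem main7815 {S : Scheme.{u}} (G H : Over S) [GrpObj G] [GrpObj H]
    [Smooth G.hom] [IsSeparated G.hom] [QuasiCompact G.hom] [GeometricallyConnected G.hom]
    [Smooth H.hom] [IsSeparated H.hom] [QuasiCompact H.hom] [GeometricallyConnected H.hom]
    (f : G ⟶ H) [IsMonHom f] :
    (Flat f.left ∧ LocallyQuasiFinite f.left ∧ LocallyOfFinitePresentation f.left) ↔
      ∀ s : S, IsFinite (pullback.snd f.left (H.hom.fiberι s)) ∧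
        Surjective (pullback.snd f.left (H.hom.fiberι s)) := by
  haveI : QuasiCompact (f.left ≫ H.hom) := by rw [Over.w f]; infer_instance
  haveI : QuasiCompact f.left := QuasiCompact.of_comp f.left H.hom
  haveI : LocallyOfFinitePresentation (f.left ≫ H.hom) := by rw [Over.w f]; infer_instance
  haveI : Flat (f.left ≫ H.hom) := by rw [Over.w f]; infer_instance
  haveI : LocallyOfFinitePresentation f.left :=
    Groth.Agent.Lead.CritFib.locallyOfFinitePresentation_of_comp f.left H.hom
  -- set-up on the fibre at `s`
  have setup : ∀ s : S,
      let q := S.fromSpecResidueField s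
      LocallyOfFiniteType (Red.bc q G).hom ∧ Smooth (Red.bc q H).hom ∧
        ConnectedSpace (Red.bc q H).left ∧ QuasiCompact ((Over.pullback q).map f).left := by
    intro s
    refine ⟨?_, ?_, ?_, ?_⟩
    · exact MorphismProperty.pullback_snd _ _ inferInstance
    · exact MorphismProperty.pullback_snd _ _ inferInstance
    · exact (inferInstance : ConnectedSpace (H.hom.fiber s))
    · exact MorphismProperty.of_isPullback (P := @QuasiCompact)
        (Groth.Agent.Lead.GrpMonoCl.isPullback_map_left (S.fromSpecResidueField s) f) inferInstance
  constructor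
  · rintro ⟨hfl, hqf, -⟩ s
    obtain ⟨h1, h2, h3, h4⟩ := setup s
    have sq := Groth.Agent.Lead.GrpMonoCl.isPullback_map_left (S.fromSpecResidueField s) f
    haveI : Flat ((Over.pullback (S.fromSpecResidueField s)).map f).left :=
      MorphismProperty.of_isPullback (P := @Flat) sq hfl
    haveI : LocallyQuasiFinite ((Over.pullback (S.fromSpecResidueField s)).map f).left :=
      MorphismProperty.of_isPullback (P := @LocallyQuasiFinite) sq hqf
    haveI : IsMonHom ((Over.pullback (S.fromSpecResidueField s)).map f) := inferInstance
    obtain ⟨hfin, hsurj⟩ := finite_surjective_of_flat_lqf (S.residueField s)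
      (Red.bc (S.fromSpecResidueField s) G) (Red.bc (S.fromSpecResidueField s) H)
      ((Over.pullback (S.fromSpecResidueField s)).map f)
    exact ⟨(snd_eq G H f s @IsFinite).mpr hfin, (snd_eq G H f s @Surjective).mpr hsurj⟩
  · intro hs
    -- flatness of the fibre maps
    have hflat : ∀ s : S, Flat (pullback.snd f.left (H.hom.fiberι s)) := by
      intro s
      obtain ⟨h1, h2, h3, h4⟩ := setup s
      haveI : Surjective ((Over.pullback (S.fromSpecResidueField s)).map f).left :=
        (snd_eq G H f s @Surjective).mp (hs s).2
      haveI : IsMonHom ((Over.pullback (S.fromSpecResidueField s)).map f) := inferInstance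
      have := flat_of_surjective (S.residueField s)
        (Red.bc (S.fromSpecResidueField s) G) (Red.bc (S.fromSpecResidueField s) H)
        ((Over.pullback (S.fromSpecResidueField s)).map f)
      exact (snd_eq G H f s @Flat).mpr this
    refine ⟨?_, ?_, inferInstance⟩
    · refine Flat.of_stalkMap f.left fun x => ?_
      have key := Groth.Agent.Lead.CritFib.critere_fibre f.left H.hom x
      have h1 : ((f.left ≫ H.hom).stalkMap x).hom.Flat := Flat.stalkMap (f.left ≫ H.hom) x
      have hF : Flat (MoreMor.fiberMap f.left H.hom (H.hom (f.left x))) := by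
        rw [← Groth.Agent.Lead.CritFib.fiberMapOver_eq]
        exact Groth.Agent.Helper3.FibCrit.fiberMapOver_of_snd @Flat H.hom f.left _ (hflat _)
      have h2 := Flat.stalkMap (MoreMor.fiberMap f.left H.hom (H.hom (f.left x)))
        ((f.left ≫ H.hom).asFiber x)
      exact (key.mp ⟨h1, h2⟩).2
    · haveI : LocallyOfFiniteType f.left := inferInstance
      rw [locallyQuasiFinite_iff_finite_preimage_singleton]
      intro h
      haveI := (hs (H.hom h)).1
      have hfin := (pullback.snd f.left (H.hom.fiberι (H.hom h))).finite_preimage_singleton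
        (H.hom.asFiber h)
      refine (hfin.image (pullback.fst f.left (H.hom.fiberι (H.hom h)))).subset ?_
      intro g hg
      have hg' : f.left g = H.hom.fiberι (H.hom h) (H.hom.asFiber h) := by
        rw [H.hom.fiberι_asFiber h]; exact hg
      obtain ⟨z, hz1, hz2⟩ := Scheme.Pullback.exists_preimage_pullback (f := f.left)
        (g := H.hom.fiberι (H.hom h)) g (H.hom.asFiber h) hg'
      exact ⟨z, hz2, hz1⟩

end Groth.Agent.Lead.Isog
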