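import Mathlib
import Groth.Prelude
import Groth.Agent.Lib.Lead.CMPt2

set_option autoImplicit false
set_option backward.isDefEq.respectTransparency.types false
set_option synthInstance.maxHeartbeats 400000
set_option linter.style.haveILetI false
set_option linter.unusedSectionVars false

universe u

open AlgebraicGeometry CategoryTheory CategoryTheory.Limits TopologicalSpace

namespace Groth.Agent.Lead.JacDesc

/-- G-ideal criterion for the Jacobson property. -/
theorem isJacobsonRing_of_gIdeal (A : Type u) [CommRing A]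
    (h : ∀ (P : Ideal A) (a : A), P.IsPrime → a ∉ P →
      (∀ Q : Ideal A, Q.IsPrime → P < Q → a ∈ Q) → P.IsMaximal) :
    IsJacobsonRing A := by
  rw [isJacobsonRing_iff_prime_eq]
  intro P hP
  refine le_antisymm ?_ Ideal.le_jacobson
  intro a ha
  by_contra haP
  let S := Localization.Away a
  have hdisj : Disjoint (Submonoid.powers a : Set A) (P : Set A) := by
    rw [Set.disjoint_left]
    rintro x ⟨n, rfl⟩ hx
    exact haP (hP.mem_of_pow_mem n hx)
  have hPS : (P.map (algebraMap A S)) ≠ ⊤ :=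
    (IsLocalization.isPrime_of_isPrime_disjoint (Submonoid.powers a) S P hP hdisj).ne_top
  obtain ⟨M, hM, hPM⟩ := Ideal.exists_le_maximal _ hPS
  have hQ : (M.comap (algebraMap A S)).IsPrime := Ideal.comap_isPrime _ _
  have hPQ : P ≤ M.comap (algebraMap A S) := Ideal.map_le_iff_le_comap.mp hPM
  have haQ : a ∉ M.comap (algebraMap A S) := by
    intro h'
    have hu : IsUnit (algebraMap A S a) := IsLocalization.Away.algebraMap_isUnit a
    exact hM.ne_top (Ideal.eq_top_of_isUnit_mem _ h' hu)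
  have hQmax : (M.comap (algebraMap A S)).IsMaximal := by
    refine h _ a hQ haQ ?_
    intro Q' hQ' hlt
    by_contra haQ'
    have hdisj' : Disjoint (Submonoid.powers a : Set A) (Q' : Set A) := by
      rw [Set.disjoint_left]
      rintro x ⟨n, rfl⟩ hx
      exact haQ' (hQ'.mem_of_pow_mem n hx)
    have hprime := IsLocalization.isPrime_of_isPrime_disjoint (Submonoid.powers a) S Q' hQ' hdisj'
    have hMle : M ≤ Q'.map (algebraMap A S) := by
      rw [← IsLocalization.map_comap (Submonoid.powers a) S M]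
      exact Ideal.map_mono hlt.le
    have h1 := hM.eq_of_le hprime.ne_top hMle
    have h2 : M.comap (algebraMap A S) = Q' := by
      rw [h1]
      exact IsLocalization.comap_map_of_isPrime_disjoint (Submonoid.powers a) S hQ' hdisj'
    exact hlt.ne h2
  have : a ∈ M.comap (algebraMap A S) := by
    rw [Ideal.jacobson, Ideal.mem_sInf] at ha
    exact ha ⟨hPQ, hQmax⟩
  exact haQ this

/-- core contradiction -/
theorem false_of_slice (A C : Type u) [CommRing A] [IsDomain A] [CommRing C] [Algebra A C]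
    [Module.Flat A C] [Algebra.QuasiFinite A C] [IsJacobsonRing C]
    (a : A) (ha : a ≠ 0) (hall : ∀ Q : Ideal A, Q.IsPrime → Q ≠ ⊥ → a ∈ Q)
    (n : Ideal C) [n.IsPrime] (hn : n.under A ≠ ⊥) : False := by
  haveI : (⊥ : Ideal A).IsPrime := Ideal.isPrime_bot
  haveI : n.LiesOver (n.under A) := ⟨rfl⟩
  obtain ⟨Q₀, hQ₀le, hQ₀p, hQ₀⟩ :=
    Ideal.exists_ideal_le_liesOver_of_le (p := (⊥ : Ideal A)) (q := n.under A) n bot_le
  have hQ₀u : Q₀.under A = ⊥ := (hQ₀.over).symm
  have haQ₀ : algebraMap A C a ∉ Q₀ := by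
    intro h'
    have : a ∈ Q₀.under A := h'
    rw [hQ₀u] at this
    exact ha ((Ideal.mem_bot).mp this)
  have hjac : Q₀.jacobson = Q₀ := (isJacobsonRing_iff_prime_eq.mp inferInstance) Q₀ hQ₀p
  apply haQ₀
  rw [← hjac, Ideal.jacobson, Ideal.mem_sInf]
  rintro M ⟨hQM, hM⟩
  haveI := hM.isPrime
  have hMu : M.under A ≠ ⊥ := by
    intro h0
    have h1 : Q₀ = M := Algebra.QuasiFinite.eq_of_le_of_under_eq (R := A) Q₀ M hQM (by rw [hQ₀u, h0])
    subst h1
    have h2 : Q₀ = n := hM.eq_of_le (Ideal.IsPrime.ne_top inferInstance) hQ₀le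
    subst h2
    exact hn hQ₀u
  exact hall (M.under A) inferInstance hMu

end Groth.Agent.Lead.JacDesc

namespace Groth.Agent.Lead.JacDesc

theorem exists_slice (A B : Type u) [CommRing A] [CommRing B] [Algebra A B]
    [Module.FaithfullyFlat A B] [Algebra.FinitePresentation A B] [IsJacobsonRing B]
    (m : Ideal A) [hm : m.IsPrime] :
    ∃ (C : Type u) (_ : CommRing C) (_ : Algebra A C), Module.Flat A C ∧ Algebra.QuasiFinite A C ∧
      IsJacobsonRing C ∧ ∃ n : Ideal C, n.IsPrime ∧ n.under A = m := by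
  let f : Spec (.of B) ⟶ Spec (.of A) := Spec.map (CommRingCat.ofHom (algebraMap A B))
  haveI : Flat f := by
    rw [HasRingHomProperty.Spec_iff (P := @Flat)]
    exact (RingHom.flat_algebraMap_iff).mpr inferInstance
  haveI : LocallyOfFinitePresentation f := by
    rw [HasRingHomProperty.Spec_iff (P := @LocallyOfFinitePresentation)]
    exact (RingHom.finitePresentation_algebraMap).mpr inferInstance
  let s : Spec (.of A) := ⟨m, hm⟩
  obtain ⟨x₀, hx₀⟩ : ∃ x₀ : Spec (.of B), f x₀ = s := by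
    obtain ⟨q, hq⟩ := PrimeSpectrum.comap_surjective_of_faithfullyFlat (A := A) (B := B) s
    exact ⟨q, hq⟩
  obtain ⟨Z, h, hZ, hfl, hfp, hqf, ⟨z, hz⟩⟩ := Groth.Agent.Lead.CMPt.exists_affine_slice f x₀
  haveI := hZ
  let ψ : CommRingCat.of A ⟶ Γ(Z, ⊤) := Spec.preimage (Z.isoSpec.inv ≫ h ≫ f)
  have hψ : Spec.map ψ = Z.isoSpec.inv ≫ h ≫ f := Spec.map_preimage _
  haveI : Flat (Spec.map ψ) := by
    rw [hψ]; haveI := hfl; infer_instance
  haveI : LocallyQuasiFinite (Spec.map ψ) := by
    rw [hψ]; haveI := hqf; infer_instance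
  have h1 : ψ.hom.Flat := (HasRingHomProperty.Spec_iff (P := @Flat)).mp inferInstance
  have h2 : ψ.hom.QuasiFinite :=
    (HasRingHomProperty.Spec_iff (P := @LocallyQuasiFinite)).mp inferInstance
  -- Jacobson
  haveI : LocallyOfFiniteType (h ≫ f) := by haveI := hfp; infer_instance
  haveI : LocallyOfFiniteType h := locallyOfFiniteType_of_comp h f
  haveI : JacobsonSpace (Spec (CommRingCat.of B)) := inferInstance
  haveI : JacobsonSpace Z := LocallyOfFiniteType.jacobsonSpace h
  haveI : JacobsonSpace (Spec Γ(Z, ⊤)) := LocallyOfFiniteType.jacobsonSpace Z.isoSpec.inv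
  have h3 : IsJacobsonRing Γ(Z, ⊤) := by
    rw [PrimeSpectrum.isJacobsonRing_iff_jacobsonSpace]
    exact ‹JacobsonSpace (Spec Γ(Z, ⊤))›
  letI : Algebra A Γ(Z, ⊤) := ψ.hom.toAlgebra
  refine ⟨Γ(Z, ⊤), inferInstance, inferInstance, h1, h2, h3, ?_⟩
  let z' : Spec Γ(Z, ⊤) := Z.isoSpec.hom z
  refine ⟨z'.asIdeal, z'.isPrime, ?_⟩
  have h4 : Spec.map ψ z' = s := by
    rw [hψ]
    show (Z.isoSpec.inv ≫ h ≫ f) (Z.isoSpec.hom z) = s
    rw [← Scheme.Hom.comp_apply, Iso.hom_inv_id_assoc, hz, hx₀]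
  have h5 := congrArg PrimeSpectrum.asIdeal h4
  exact h5

end Groth.Agent.Lead.JacDesc

namespace Groth.Agent.Lead.JacDesc

open TensorProduct in
theorem S1147_main (A B : Type u) [CommRing A] [CommRing B] [Algebra A B]
    [Module.FaithfullyFlat A B] [Algebra.FinitePresentation A B] [IsJacobsonRing B] :
    IsJacobsonRing A := by
  apply isJacobsonRing_of_gIdeal
  intro P a hP haP hall
  haveI : IsDomain (A ⧸ P) := Ideal.Quotient.isDomain P
  haveI : Module.FaithfullyFlat (A ⧸ P) ((A ⧸ P) ⊗[A] B) := inferInstance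
  haveI : Algebra.FinitePresentation (A ⧸ P) ((A ⧸ P) ⊗[A] B) := inferInstance
  haveI : IsJacobsonRing ((A ⧸ P) ⊗[A] B) := by
    have hs : Function.Surjective
        (Algebra.TensorProduct.includeRight : B →ₐ[A] (A ⧸ P) ⊗[A] B) :=
      Algebra.TensorProduct.includeRight_surjective B Ideal.Quotient.mk_surjective
    exact isJacobsonRing_of_surjective
      ⟨(Algebra.TensorProduct.includeRight : B →ₐ[A] (A ⧸ P) ⊗[A] B).toRingHom, hs⟩
  by_contra hmax
  obtain ⟨m', hm'⟩ := Ideal.exists_maximal (A ⧸ P)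
  have hm'ne : m' ≠ ⊥ := by
    intro h0
    subst h0
    exact hmax ((Ideal.bot_quotient_isMaximal_iff P).mp hm')
  haveI := hm'.isPrime
  obtain ⟨C, _, _, hfl, hqf, hjac, n, hn, hnm⟩ := exists_slice (A ⧸ P) ((A ⧸ P) ⊗[A] B) m'
  haveI := hn
  refine false_of_slice (A ⧸ P) C (Ideal.Quotient.mk P a) ?_ ?_ n (hnm ▸ hm'ne)
  · intro h0
    exact haP (Ideal.Quotient.eq_zero_iff_mem.mp h0)
  · intro Q hQ hQne
    have hprime : (Q.comap (Ideal.Quotient.mk P)).IsPrime := Ideal.comap_isPrime _ _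
    have hle : P ≤ Q.comap (Ideal.Quotient.mk P) := by
      intro x hx
      show Ideal.Quotient.mk P x ∈ Q
      rw [Ideal.Quotient.eq_zero_iff_mem.mpr hx]
      exact Q.zero_mem
    have hne : P ≠ Q.comap (Ideal.Quotient.mk P) := by
      intro he
      apply hQne
      rw [← Ideal.map_comap_of_surjective (Ideal.Quotient.mk P) Ideal.Quotient.mk_surjective Q, ← he]
      exact Ideal.map_quotient_self P
    exact hall _ hprime (lt_of_le_of_ne hle hne)

end Groth.Agent.Lead.JacDesc
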