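import Mathlib

/-!
# `d s` is a basis of the differentials of a one-dimensional essentially smooth local algebra with
separable residue field, for `s` irreducible (lead, for S6555)
-/

set_option autoImplicit false
set_option backward.isDefEq.respectTransparency.types false
set_option synthInstance.maxHeartbeats 400000
set_option linter.style.haveILetI false
set_option linter.unusedSectionVars false

universe u v w
open TensorProduct KaehlerDifferential IsLocalRing

namespace Groth.Agent.Lead.KDiffUnif
noncomputable section

variable {k A : Type u} [Field k] [CommRing A] [Algebra k A] [IsLocalRing A]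

/-- The cotangent map `m/m² → κ ⊗ Ω_{A/k}` is bijective when `A` is formally smooth over `k` and
the residue field is separable algebraic over `k`. -/
theorem kerCotangentToTensor_bijective [Algebra.FormallySmooth k A]
    [Algebra.IsSeparable k (ResidueField A)] :
    Function.Bijective (kerCotangentToTensor k A (ResidueField A)) := by
  have hsurj : Function.Surjective (algebraMap A (ResidueField A)) := residue_surjective
  haveI : Algebra.FormallyEtale k (ResidueField A) :=
    Algebra.FormallyEtale.of_isSeparable k (ResidueField A)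
  haveI : Algebra.FormallySmooth k (ResidueField A) := inferInstance
  obtain ⟨l, hl⟩ := (Algebra.FormallySmooth.iff_split_injection (R := k) (P := A)
    (A := ResidueField A) hsurj).mp inferInstance
  refine ⟨fun x y hxy => ?_, fun y => ?_⟩
  · have := congrArg l hxy
    have h1 : ∀ z, l (kerCotangentToTensor k A (ResidueField A) z) = z := fun z =>
      congrArg (fun f : _ →ₗ[A] _ => f z) hl
    rwa [h1, h1] at this
  · have hex := exact_kerCotangentToTensor_mapBaseChange k A (ResidueField A) hsurj
    haveI : Subsingleton Ω[ResidueField A⁄k] := inferInstance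
    exact (hex y).mp (Subsingleton.elim _ _)

/-- `ker (algebraMap A κ)` is the maximal ideal. -/
theorem ker_algebraMap_residueField :
    RingHom.ker (algebraMap A (ResidueField A)) = maximalIdeal A := by
  rw [ResidueField.algebraMap_eq]
  exact IsLocalRing.ker_residue

theorem bijective_smul_D_of_irreducible [IsNoetherianRing A] [Algebra.FormallySmooth k A]
    [Algebra.IsSeparable k (ResidueField A)] [Module.Finite A Ω[A⁄k]]
    (ω : Ω[A⁄k]) (hω : Function.Bijective (fun a : A => a • ω))
    (s : A) (hs : Irreducible s) :
    Function.Bijective (fun a : A => a • D k A s) := by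
  classical
  set I : Ideal A := RingHom.ker (algebraMap A (ResidueField A)) with hI
  have hIm : I = maximalIdeal A := ker_algebraMap_residueField
  have hΦ := kerCotangentToTensor_bijective (k := k) (A := A)
  set Φ := kerCotangentToTensor k A (ResidueField A) with hΦdef
  -- Step 1: `I` is principal
  obtain ⟨c, hc⟩ := hΦ.2 ((1 : ResidueField A) ⊗ₜ[A] ω)
  obtain ⟨t, rfl⟩ := Ideal.toCotangent_surjective I c
  have hspanω : ∀ y : ResidueField A ⊗[A] Ω[A⁄k], ∃ a : A, y = a • ((1 : ResidueField A) ⊗ₜ[A] ω) := by
    intro y
    induction y using TensorProduct.induction_on with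
    | zero => exact ⟨0, by simp⟩
    | tmul c η =>
      obtain ⟨c', rfl⟩ := residue_surjective c
      obtain ⟨b, rfl⟩ := hω.2 η
      refine ⟨c' * b, ?_⟩
      change (residue A c') ⊗ₜ[A] (b • ω) = _
      rw [TensorProduct.tmul_smul, TensorProduct.smul_tmul', TensorProduct.smul_tmul']
      congr 1
      simp only [Algebra.smul_def, mul_one, map_mul, ResidueField.algebraMap_eq]
      exact mul_comm _ _
    | add x y hx hy =>
      obtain ⟨a, ha⟩ := hx
      obtain ⟨b, hb⟩ := hy
      exact ⟨a + b, by rw [ha, hb, add_smul]⟩
  have hIt : I ≤ Ideal.span {(t : A)} := by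
    have h1 : I ≤ Ideal.span {(t : A)} ⊔ I • I := by
      intro x hx
      obtain ⟨a, ha⟩ := hspanω (Φ (Ideal.toCotangent I ⟨x, hx⟩))
      rw [← hc, ← map_smul] at ha
      have h2 := hΦ.1 ha
      rw [← map_smul, Ideal.toCotangent_eq] at h2
      have h3 : x - a * (t : A) ∈ I ^ 2 := by simpa using h2
      rw [pow_two] at h3
      have : x = a * (t : A) + (x - a * (t : A)) := by ring
      rw [this]
      exact Submodule.add_mem_sup (Ideal.mul_mem_left _ _ (Ideal.subset_span rfl)) h3
    refine Submodule.le_of_le_smul_of_le_jacobson_bot (IsNoetherian.noetherian I) ?_ h1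
    rw [hIm, IsLocalRing.jacobson_eq_maximalIdeal _ bot_ne_top]
  -- Step 2: `I = (s)`
  have hsI : s ∈ I := by
    rw [hIm, mem_maximalIdeal, mem_nonunits_iff]
    exact hs.not_isUnit
  have htnu : ¬ IsUnit (t : A) := by
    have : (t : A) ∈ maximalIdeal A := hIm ▸ t.2
    exact (mem_maximalIdeal _).mp this
  obtain ⟨a, ha⟩ := Ideal.mem_span_singleton'.mp (hIt hsI)
  have hau : IsUnit a := by
    rcases hs.isUnit_or_isUnit ha.symm with h | h
    · exact h
    · exact absurd h htnu
  have hIs : I ≤ Ideal.span {s} := by
    refine hIt.trans ?_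
    rw [Ideal.span_singleton_le_iff_mem, Ideal.mem_span_singleton']
    obtain ⟨u, rfl⟩ := hau
    exact ⟨((u⁻¹ : Aˣ) : A), by rw [← ha, ← mul_assoc, Units.inv_mul, one_mul]⟩
  -- Step 3: `d s` generates
  have hgen : Submodule.span A {D k A s} = ⊤ := by
    rw [← IsLocalRing.map_tensorProduct_mk_eq_top, eq_top_iff]
    intro y _
    obtain ⟨c, rfl⟩ := hΦ.2 y
    obtain ⟨x, rfl⟩ := Ideal.toCotangent_surjective I c
    obtain ⟨b, hb⟩ := Ideal.mem_span_singleton'.mp (hIs x.2)
    have h1 : Ideal.toCotangent I x = b • Ideal.toCotangent I ⟨s, hsI⟩ := by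
      rw [← map_smul]
      congr 1
      exact Subtype.ext hb.symm
    rw [h1, map_smul, hΦdef, kerCotangentToTensor_toCotangent]
    refine Submodule.smul_mem _ _ ?_
    exact Submodule.mem_map.mpr ⟨D k A s, Submodule.subset_span rfl, rfl⟩
  have hsurj : Function.Surjective (fun a : A => a • D k A s) := by
    intro η
    have : η ∈ Submodule.span A {D k A s} := hgen ▸ Submodule.mem_top
    obtain ⟨a, rfl⟩ := Submodule.mem_span_singleton.mp this
    exact ⟨a, rfl⟩
  -- a surjective endomorphism of `A` is injective
  let e : A ≃ₗ[A] Ω[A⁄k] := LinearEquiv.ofBijective (LinearMap.toSpanSingleton A _ ω) hω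
  let g : A →ₗ[A] A := e.symm.toLinearMap ∘ₗ LinearMap.toSpanSingleton A _ (D k A s)
  have hg : Function.Surjective g := e.symm.surjective.comp hsurj
  have hginj : Function.Injective g := OrzechProperty.injective_of_surjective_endomorphism g hg
  refine ⟨?_, hsurj⟩
  intro a b hab
  apply hginj
  change e.symm (a • D k A s) = e.symm (b • D k A s)
  exact congrArg e.symm hab

end
end Groth.Agent.Lead.KDiffUnif
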