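import Mathlib
import Groth.Prelude.Def_CurvBase
import Groth.Agent.Lib.Lead.KDiffUnif1

/-!
# S6555 glue: chart at a point with a smooth-of-relative-dimension-one neighbourhood (lead)
-/

set_option autoImplicit false
set_option backward.isDefEq.respectTransparency.types false
set_option synthInstance.maxHeartbeats 400000
set_option maxHeartbeats 1000000
set_option linter.style.haveILetI false
set_option linter.unusedSectionVars false

universe u
open CategoryTheory AlgebraicGeometry KaehlerDifferential IsLocalRing TopologicalSpace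

namespace Groth.Agent.Lead.KDiffUnif
noncomputable section

attribute [local instance] Curv2.stalkAlgebra Curv2.resAlgebra

/-- An affine chart of `X` around `x`, given a neighbourhood smooth of relative dimension `n`. -/
theorem exists_chart_of_nbhd (k : Type u) [Field k] (n : ℕ) (X : Scheme.{u})
    [X.Over (Spec (CommRingCat.of k))] (x : X) (U : X.Opens) (hxU : x ∈ U)
    [hsm : SmoothOfRelativeDimension n (U.ι ≫ (X ↘ Spec (CommRingCat.of k)))] :
    ∃ (V : X.Opens) (_ : IsAffineOpen V) (hxV : x ∈ V) (φ : k →+* Γ(X, V)),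
      φ.IsStandardSmoothOfRelativeDimension n ∧
      (X.presheaf.germ V x hxV).hom.comp φ = Curv2.stalkMap k X x := by
  obtain ⟨U₀, hU₀, V, hV, hz, e, hstd⟩ :=
    SmoothOfRelativeDimension.exists_isStandardSmoothOfRelativeDimension (n := n)
      (f := U.ι ≫ (X ↘ Spec (CommRingCat.of k))) (⟨x, hxU⟩ : U)
  have hUtop : U₀ = ⊤ := by
    ext w
    simp only [Opens.coe_top, Set.mem_univ, iff_true]
    have hgz : (U.ι ≫ (X ↘ Spec (CommRingCat.of k))) (⟨x, hxU⟩ : U) ∈ U₀ := e hz
    haveI : Subsingleton ↥(Spec (CommRingCat.of k)) :=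
      inferInstanceAs (Subsingleton (PrimeSpectrum k))
    rw [Subsingleton.elim w ((U.ι ≫ (X ↘ Spec (CommRingCat.of k))) (⟨x, hxU⟩ : U))]
    exact hgz
  subst hUtop
  let eK : k ≃+* Γ(Spec (CommRingCat.of k), ⊤) :=
    (Scheme.ΓSpecIso (CommRingCat.of k)).symm.commRingCatIsoToRingEquiv
  have hψ : (((U.ι ≫ (X ↘ Spec (CommRingCat.of k))).appLE ⊤ V e).hom.comp
      eK.toRingHom).IsStandardSmoothOfRelativeDimension n :=
    (RingHom.isStandardSmoothOfRelativeDimension_respectsIso (n := n)).2 _ eK hstd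
  have hVX : IsAffineOpen (U.ι ''ᵁ V) := hV.image_of_isOpenImmersion U.ι
  have hxVX : x ∈ U.ι ''ᵁ V := ⟨⟨x, hxU⟩, hz, rfl⟩
  refine ⟨U.ι ''ᵁ V, hVX, hxVX, ((U.ι ≫ (X ↘ Spec (CommRingCat.of k))).appLE ⊤ V e).hom.comp
      eK.toRingHom, hψ, ?_⟩
  have key : (U.ι ≫ (X ↘ Spec (CommRingCat.of k))).appLE ⊤ V e ≫
      X.presheaf.germ (U.ι ''ᵁ V) x hxVX =
      (X ↘ Spec (CommRingCat.of k)).appTop ≫ X.presheaf.germ ⊤ x trivial := by
    rw [Scheme.Hom.comp_appLE, Category.assoc, Scheme.Opens.ι_appLE]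
    have h2 := TopCat.Presheaf.germ_res X.presheaf
      (homOfLE (show U.ι ''ᵁ V ≤ (X ↘ Spec (CommRingCat.of k)) ⁻¹ᵁ ⊤ from fun _ _ => trivial))
      x hxVX
    exact congrArg (fun g => (X ↘ Spec (CommRingCat.of k)).app ⊤ ≫ g) h2
  ext a
  have h1 := congrArg (fun f => f.hom ((Scheme.ΓSpecIso (CommRingCat.of k)).inv.hom a)) key
  simp only [CommRingCat.hom_comp, RingHom.comp_apply] at h1
  simp only [Curv2.stalkMap, Coh.toGlobal, RingHom.comp_apply]
  exact h1

theorem main (k : Type u) [Field k] (X : Scheme.{u}) [X.Over (Spec (CommRingCat.of k))]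
    (x : X) (hx : IsClosed ({x} : Set X))
    (hsm : ∃ U : X.Opens, x ∈ U ∧
      SmoothOfRelativeDimension 1 (U.ι ≫ (X ↘ (Spec (CommRingCat.of k)))))
    (hsep : Algebra.IsSeparable k (X.residueField x))
    (s : X.presheaf.stalk x) (hs : Irreducible s) :
    Function.Bijective
      (fun a : X.presheaf.stalk x => a • KaehlerDifferential.D k (X.presheaf.stalk x) s) := by
  obtain ⟨U, hxU, hU⟩ := hsm
  haveI := hU
  obtain ⟨V, hV, hxV, φ, hφ, hgerm⟩ := exists_chart_of_nbhd k 1 X x U hxU
  letI algC : Algebra k Γ(X, V) := φ.toAlgebra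
  haveI hstd : Algebra.IsStandardSmoothOfRelativeDimension 1 k Γ(X, V) := hφ
  letI algCS : Algebra Γ(X, V) (X.presheaf.stalk x) := X.presheaf.algebra_section_stalk ⟨x, hxV⟩
  haveI : IsScalarTower k Γ(X, V) (X.presheaf.stalk x) :=
    IsScalarTower.of_algebraMap_eq (fun a => (RingHom.congr_fun hgerm a).symm)
  haveI hloc : IsLocalization.AtPrime (X.presheaf.stalk x) (hV.primeIdealOf ⟨x, hxV⟩).asIdeal :=
    hV.isLocalization_stalk ⟨x, hxV⟩
  haveI : Algebra.IsStandardSmooth k Γ(X, V) :=
    Algebra.IsStandardSmoothOfRelativeDimension.isStandardSmooth 1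
  haveI : Algebra.FiniteType k Γ(X, V) := inferInstance
  haveI : Algebra.EssFiniteType Γ(X, V) (X.presheaf.stalk x) :=
    Algebra.EssFiniteType.of_isLocalization _ (hV.primeIdealOf ⟨x, hxV⟩).asIdeal.primeCompl
  haveI : Algebra.EssFiniteType k (X.presheaf.stalk x) := Algebra.EssFiniteType.comp k Γ(X, V) _
  haveI : IsNoetherianRing Γ(X, V) := Algebra.FiniteType.isNoetherianRing k _
  haveI : IsNoetherianRing (X.presheaf.stalk x) :=
    IsLocalization.isNoetherianRing (hV.primeIdealOf ⟨x, hxV⟩).asIdeal.primeCompl _ inferInstance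
  haveI : Algebra.FormallySmooth Γ(X, V) (X.presheaf.stalk x) :=
    Algebra.FormallySmooth.of_isLocalization (hV.primeIdealOf ⟨x, hxV⟩).asIdeal.primeCompl
  haveI : Algebra.FormallySmooth k Γ(X, V) := inferInstance
  haveI : Algebra.FormallySmooth k (X.presheaf.stalk x) :=
    Algebra.FormallySmooth.comp k Γ(X, V) (X.presheaf.stalk x)
  haveI : Module.Finite (X.presheaf.stalk x) Ω[X.presheaf.stalk x⁄k] := inferInstance
  -- a basis of the differentials
  haveI : Nontrivial Γ(X, V) := ⟨⟨0, 1, fun h => (hV.primeIdealOf ⟨x, hxV⟩).isPrime.ne_top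
    ((Ideal.eq_top_iff_one _).2 (h ▸ Ideal.zero_mem _))⟩⟩
  have h1 : Module.rank Γ(X, V) Ω[Γ(X, V)⁄k] = 1 := by
    have := Algebra.IsStandardSmoothOfRelativeDimension.rank_kaehlerDifferential
      (R := k) (S := Γ(X, V)) 1
    simpa using this
  have h3 : Module.finrank Γ(X, V) Ω[Γ(X, V)⁄k] = 1 := by
    rw [Module.finrank, h1]; simp
  let b : Module.Basis Unit Γ(X, V) Ω[Γ(X, V)⁄k] := Module.basisUnique Unit h3
  let bS : Module.Basis Unit (X.presheaf.stalk x) Ω[X.presheaf.stalk x⁄k] :=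
    b.ofIsLocalizedModule (X.presheaf.stalk x) (hV.primeIdealOf ⟨x, hxV⟩).asIdeal.primeCompl
      (KaehlerDifferential.map k k Γ(X, V) (X.presheaf.stalk x))
  have hω : Function.Bijective (fun a : X.presheaf.stalk x => a • bS ()) := by
    have e1 : (fun a : X.presheaf.stalk x => a • bS ()) =
        fun a => bS.repr.symm (Finsupp.single () a) := by
      funext a
      rw [Module.Basis.repr_symm_single]
    rw [e1]
    refine bS.repr.symm.bijective.comp ?_
    refine ⟨fun a a' h => ?_, fun f => ⟨f (), ?_⟩⟩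
    · have := congrArg (fun g : Unit →₀ (X.presheaf.stalk x) => g ()) h
      simpa using this
    · ext
      simp
  -- the separability hypothesis
  have hinst : Curv2.resAlgebra k X x =
      (inferInstance : Algebra k (ResidueField (X.presheaf.stalk x))) :=
    Algebra.algebra_ext _ _ (fun r => rfl)
  have hsep' : @Algebra.IsSeparable k (ResidueField ↑(X.presheaf.stalk x)) _ _
      (Curv2.resAlgebra k X x) := hsep
  rw [hinst] at hsep'
  haveI : Algebra.IsSeparable k (ResidueField (X.presheaf.stalk x)) := hsep'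
  exact bijective_smul_D_of_irreducible (bS ()) hω s hs

end
end Groth.Agent.Lead.KDiffUnif
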