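import Mathlib

set_option autoImplicit false
universe u

namespace Groth.Agent.Lead.KaeIso

section Alg

variable {A B A' B' : Type u} [CommRing A] [CommRing B] [CommRing A'] [CommRing B']
  [Algebra A B] [Algebra A' B']
  (α : A →+* A') (β : B →+* B') (hα : Function.Surjective α) (hβ : Function.Bijective β)
  (hsq : ∀ a, β (algebraMap A B a) = algebraMap A' B' (α a))
  {N : Type u} [AddCommGroup N] [Module B' N]
  (L : Ω[B'⁄A'] →ₗ[B'] N) (hL : Function.Bijective L)
  (T : Ω[B⁄A] →ₛₗ[β] N)
  (hT : ∀ b, T (KaehlerDifferential.D A B b) = L (KaehlerDifferential.D A' B' (β b)))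

include hα hβ hsq hL hT in
/-- a semilinear comparison map of modules of differentials along isomorphisms of the rings is
bijective as soon as the target one is. -/
theorem bijective_of_semilinear : Function.Bijective T := by
  let βe : B ≃+* B' := RingEquiv.ofBijective β hβ
  have hβe : ∀ b, βe b = β b := fun b => rfl
  have hβs : ∀ b, βe.symm (β b) = b := fun b => βe.symm_apply_apply b
  letI mB' : Module B' Ω[B⁄A] := Module.compHom _ (βe.symm : B' →+* B)
  letI mA' : Module A' Ω[B⁄A] :=
    Module.compHom _ ((βe.symm : B' →+* B).comp (algebraMap A' B'))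
  have hsB' : ∀ (b' : B') (ω : Ω[B⁄A]), b' • ω = βe.symm b' • ω := fun _ _ => rfl
  have hsA' : ∀ (a' : A') (ω : Ω[B⁄A]), a' • ω = βe.symm (algebraMap A' B' a') • ω :=
    fun _ _ => rfl
  haveI : IsScalarTower A' B' Ω[B⁄A] := ⟨fun a' b' ω => by
    rw [hsB', hsA', hsB', Algebra.smul_def, map_mul, mul_smul]⟩
  have hD0 : ∀ a' : A', KaehlerDifferential.D A B (βe.symm (algebraMap A' B' a')) = 0 := by
    intro a'
    obtain ⟨a, rfl⟩ := hα a'
    rw [← hsq, hβs]
    exact (KaehlerDifferential.D A B).map_algebraMap a
  let δ : Derivation A' B' Ω[B⁄A] := Derivation.mk'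
    { toFun := fun b' => KaehlerDifferential.D A B (βe.symm b')
      map_add' := fun x y => by rw [map_add, map_add]
      map_smul' := fun a' b' => by
        change KaehlerDifferential.D A B (βe.symm (a' • b')) =
          a' • KaehlerDifferential.D A B (βe.symm b')
        rw [Algebra.smul_def, map_mul, Derivation.leibniz, hD0, smul_zero, add_zero, hsA'] }
    (fun x y => by
      change KaehlerDifferential.D A B (βe.symm (x * y)) =
        x • KaehlerDifferential.D A B (βe.symm y) + y • KaehlerDifferential.D A B (βe.symm x)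
      rw [map_mul, Derivation.leibniz, hsB', hsB'])
  let ρ : Ω[B'⁄A'] →ₗ[B'] Ω[B⁄A] := δ.liftKaehlerDifferential
  have hρ : ∀ b', ρ (KaehlerDifferential.D A' B' b') = KaehlerDifferential.D A B (βe.symm b') :=
    fun b' => δ.liftKaehlerDifferential_comp_D b'
  let Le : Ω[B'⁄A'] ≃ₗ[B'] N := LinearEquiv.ofBijective L hL
  have hLe : ∀ x, Le.symm (L x) = x := fun x => Le.symm_apply_apply x
  constructor
  · -- left inverse
    have key : ∀ x : Ω[B⁄A], ρ (Le.symm (T x)) = x := by
      intro x
      have hx : x ∈ Submodule.span B (Set.range (KaehlerDifferential.D A B)) := by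
        rw [KaehlerDifferential.span_range_derivation]; trivial
      induction hx using Submodule.span_induction with
      | mem y hy =>
        obtain ⟨b, rfl⟩ := hy
        rw [hT, hLe, hρ, hβs]
      | zero => rw [map_zero, map_zero, map_zero]
      | add y z _ _ hy hz => rw [map_add, map_add, map_add, hy, hz]
      | smul b y _ hy =>
        rw [LinearMap.map_smulₛₗ, map_smul, map_smul, hy, hsB', hβs]
    intro x y hxy
    rw [← key x, ← key y, hxy]
  · -- surjective
    intro n
    obtain ⟨ω', rfl⟩ := hL.2 n
    have hx : ω' ∈ Submodule.span B' (Set.range (KaehlerDifferential.D A' B')) := by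
      rw [KaehlerDifferential.span_range_derivation]; trivial
    induction hx using Submodule.span_induction with
    | mem y hy =>
      obtain ⟨b', rfl⟩ := hy
      obtain ⟨b, rfl⟩ := hβ.2 b'
      exact ⟨KaehlerDifferential.D A B b, hT b⟩
    | zero => exact ⟨0, by rw [map_zero, map_zero]⟩
    | add y z _ _ hy hz =>
      obtain ⟨y', hy'⟩ := hy
      obtain ⟨z', hz'⟩ := hz
      exact ⟨y' + z', by rw [map_add, map_add, hy', hz']⟩
    | smul b' y _ hy =>
      obtain ⟨y', hy'⟩ := hy
      obtain ⟨b, rfl⟩ := hβ.2 b'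
      exact ⟨b • y', by rw [LinearMap.map_smulₛₗ, map_smul, hy']⟩

end Alg

end Groth.Agent.Lead.KaeIso
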