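import Mathlib
import Groth.Prelude.Def_RegImm
import Groth.Agent.Lib.Lead.KosH1
import Groth.Agent.Lib.Helper4.QReg1
import Groth.Agent.Lib.Helper8.Koszul6

set_option backward.isDefEq.respectTransparency.types false
set_option synthInstance.maxHeartbeats 400000
set_option autoImplicit false
universe u
open CategoryTheory AlgebraicGeometry

namespace Groth.Agent.Lead.KindImp

theorem seq_koszul_of_regular {R : Type u} [CommRing R] (rs : List R)
    (h : RegImm.Kind.Seq .regular R rs) : RegImm.Kind.Seq .koszul R rs :=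
  (Groth.Agent.Helper8.KoszulLib.koszul_regular rs
    (RingTheory.Sequence.IsRegular.toIsWeaklyRegular h)).1

theorem seq_h1_of_koszul {R : Type u} [CommRing R] (rs : List R)
    (h : RegImm.Kind.Seq .koszul R rs) : RegImm.Kind.Seq .h1 R rs :=
  Groth.Agent.Lead.KosH1.isH1Regular_of_koszul rs h

theorem seq_quasi_of_h1 {R : Type u} [CommRing R] (rs : List R)
    (h : RegImm.Kind.Seq .h1 R rs) : RegImm.Kind.Seq .quasi R rs :=
  Groth.Agent.Lib.Helper4.QReg1.S2103_main rs.get h

theorem isRegularImmersion_mono {Z X : Scheme.{u}} (i : Z ⟶ X) (k k' : RegImm.Kind)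
    (hkk : ∀ (R : Type u) [CommRing R] (rs : List R), k.Seq R rs → k'.Seq R rs)
    (h : RegImm.IsRegularImmersion k i) : RegImm.IsRegularImmersion k' i := by
  refine ⟨h.1, fun z => ?_⟩
  obtain ⟨U, hz, hcl, rs, hseq, hker⟩ := h.2 z
  exact ⟨U, hz, hcl, rs, hkk _ rs hseq, hker⟩

theorem S8905_main {Z X : Scheme.{u}} (i : Z ⟶ X) :
    (RegImm.IsRegularImmersion RegImm.Kind.regular i → RegImm.IsRegularImmersion RegImm.Kind.koszul i) ∧
      (RegImm.IsRegularImmersion RegImm.Kind.koszul i → RegImm.IsRegularImmersion RegImm.Kind.h1 i) ∧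
      (RegImm.IsRegularImmersion RegImm.Kind.h1 i → RegImm.IsRegularImmersion RegImm.Kind.quasi i) :=
  ⟨isRegularImmersion_mono i _ _ (fun R _ rs => seq_koszul_of_regular rs),
   isRegularImmersion_mono i _ _ (fun R _ rs => seq_h1_of_koszul rs),
   isRegularImmersion_mono i _ _ (fun R _ rs => seq_quasi_of_h1 rs)⟩

end Groth.Agent.Lead.KindImp
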