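import Mathlib

/-!
# Combinatorial model of the Koszul complex of a sequence `x : Fin n → R` and its acyclicity
for weakly regular sequences (lead)
-/

set_option autoImplicit false
set_option linter.style.haveILetI false
set_option linter.unusedSectionVars false

namespace Groth.Agent.Lead.KoszEx

open Finset

variable {R : Type*} [CommRing R]

section Model

variable {n : ℕ}

/-- sign of inserting `t` into `T` -/
def sgn (t : Fin n) (T : Finset (Fin n)) : R := (-1) ^ (T.filter (· < t)).card

/-- model Koszul differential on functions on subsets -/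
def dM (x : Fin n → R) (f : Finset (Fin n) → R) (T : Finset (Fin n)) : R :=
  ∑ t : Fin n, if t ∈ T then 0 else sgn t T * x t * f (insert t T)

theorem dM_add (x : Fin n → R) (f g : Finset (Fin n) → R) :
    dM x (f + g) = dM x f + dM x g := by
  funext T
  simp only [dM, Pi.add_apply, ← Finset.sum_add_distrib]
  refine Finset.sum_congr rfl fun t _ => ?_
  split_ifs <;> ring

theorem dM_smul (x : Fin n → R) (c : R) (f : Finset (Fin n) → R) :
    dM x (c • f) = c • dM x f := by
  funext T
  simp only [dM, Pi.smul_apply, smul_eq_mul, Finset.mul_sum]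
  refine Finset.sum_congr rfl fun t _ => ?_
  split_ifs <;> ring

/-- `dM` as a linear map -/
def dML (x : Fin n → R) : (Finset (Fin n) → R) →ₗ[R] (Finset (Fin n) → R) where
  toFun := dM x
  map_add' := dM_add x
  map_smul' := dM_smul x

@[simp] theorem dML_apply (x : Fin n → R) (f : Finset (Fin n) → R) : dML x f = dM x f := rfl

theorem dM_sub_eps (x : Fin n → R) (y : R) (a g : Finset (Fin n) → R) (T : Finset (Fin n)) :
    dM x (fun T' => a T' - (-1) ^ T'.card * y * g T') T =
      dM x a T + (-1) ^ T.card * y * dM x g T := by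
  simp only [dM, Finset.mul_sum, ← Finset.sum_add_distrib]
  refine Finset.sum_congr rfl fun t _ => ?_
  split_ifs with h
  · ring
  · rw [Finset.card_insert_of_notMem h, pow_succ]
    ring

/-- subsets of `Fin n` as subsets of `Fin (n+1)` -/
def up (T : Finset (Fin n)) : Finset (Fin (n + 1)) := T.map Fin.castSuccEmb

/-- subsets of `Fin n` with the last element adjoined -/
def upL (T : Finset (Fin n)) : Finset (Fin (n + 1)) := insert (Fin.last n) (up T)

/-- trace on `Fin n` -/
def down (S : Finset (Fin (n + 1))) : Finset (Fin n) :=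
  Finset.univ.filter (fun i => Fin.castSucc i ∈ S)

@[simp] theorem castSucc_mem_up {i : Fin n} {T : Finset (Fin n)} :
    Fin.castSucc i ∈ up T ↔ i ∈ T := by
  simp [up]

@[simp] theorem last_notMem_up (T : Finset (Fin n)) : Fin.last n ∉ up T := by
  simp [up, Fin.castSucc_ne_last]

@[simp] theorem castSucc_mem_upL {i : Fin n} {T : Finset (Fin n)} :
    Fin.castSucc i ∈ upL T ↔ i ∈ T := by
  simp [upL, Fin.castSucc_ne_last]

@[simp] theorem last_mem_upL (T : Finset (Fin n)) : Fin.last n ∈ upL T := by
  simp [upL]

theorem insert_up (i : Fin n) (T : Finset (Fin n)) :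
    insert (Fin.castSucc i) (up T) = up (insert i T) := by
  simp [up, Finset.map_insert]

theorem insert_upL (i : Fin n) (T : Finset (Fin n)) :
    insert (Fin.castSucc i) (upL T) = upL (insert i T) := by
  rw [upL, Finset.insert_comm, insert_up]
  rfl

@[simp] theorem down_up (T : Finset (Fin n)) : down (up T) = T := by
  ext i; simp [down]

@[simp] theorem down_upL (T : Finset (Fin n)) : down (upL T) = T := by
  ext i; simp [down]

theorem eq_up_of_notMem (S : Finset (Fin (n + 1))) (h : Fin.last n ∉ S) : S = up (down S) := by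
  ext j
  induction j using Fin.lastCases with
  | last => simp [h]
  | cast i => simp [down]

theorem eq_upL_of_mem (S : Finset (Fin (n + 1))) (h : Fin.last n ∈ S) : S = upL (down S) := by
  ext j
  induction j using Fin.lastCases with
  | last => simp [h]
  | cast i => simp [down]

theorem up_ne_empty {T : Finset (Fin n)} (h : T ≠ ∅) : up T ≠ ∅ := by
  obtain ⟨i, hi⟩ := Finset.nonempty_iff_ne_empty.mpr h
  exact Finset.ne_empty_of_mem (castSucc_mem_up.mpr hi)

theorem upL_ne_empty (T : Finset (Fin n)) : upL T ≠ ∅ :=
  Finset.ne_empty_of_mem (last_mem_upL T)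

theorem card_up (T : Finset (Fin n)) : (up T).card = T.card := Finset.card_map _

theorem sgn_castSucc_up (i : Fin n) (T : Finset (Fin n)) :
    (sgn (Fin.castSucc i) (up T) : R) = sgn i T := by
  unfold sgn
  congr 1
  have : (up T).filter (· < Fin.castSucc i) = up (T.filter (· < i)) := by
    ext j
    induction j using Fin.lastCases with
    | last => simp [Fin.castSucc_lt_last, not_lt_of_gt]
    | cast k => simp [Fin.castSucc_lt_castSucc_iff]
  rw [this, card_up]

theorem sgn_last_up (T : Finset (Fin n)) :
    (sgn (Fin.last n) (up T) : R) = (-1) ^ T.card := by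
  unfold sgn
  congr 1
  have : (up T).filter (· < Fin.last n) = up T := by
    apply Finset.filter_true_of_mem
    intro j hj
    induction j using Fin.lastCases with
    | last => exact absurd hj (last_notMem_up T)
    | cast k => exact Fin.castSucc_lt_last k
  rw [this, card_up]

theorem sgn_castSucc_upL (i : Fin n) (T : Finset (Fin n)) :
    (sgn (Fin.castSucc i) (upL T) : R) = sgn i T := by
  have h1 : (sgn (Fin.castSucc i) (upL T) : R) = sgn (Fin.castSucc i) (up T) := by
    unfold sgn
    congr 1
    have : (upL T).filter (· < Fin.castSucc i) = (up T).filter (· < Fin.castSucc i) := by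
      ext j
      induction j using Fin.lastCases with
      | last => simp [not_lt_of_gt (Fin.castSucc_lt_last i)]
      | cast k => simp
    rw [this]
  exact h1.trans (sgn_castSucc_up i T)

theorem dM_up (x : Fin (n + 1) → R) (f : Finset (Fin (n + 1)) → R) (T : Finset (Fin n)) :
    dM x f (up T) = dM (fun i => x (Fin.castSucc i)) (fun T' => f (up T')) T +
      (-1) ^ T.card * x (Fin.last n) * f (upL T) := by
  unfold dM
  rw [Fin.sum_univ_castSucc]
  simp only [castSucc_mem_up, last_notMem_up, if_false, insert_up, sgn_castSucc_up, sgn_last_up]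
  rfl

theorem dM_upL (x : Fin (n + 1) → R) (f : Finset (Fin (n + 1)) → R) (T : Finset (Fin n)) :
    dM x f (upL T) = dM (fun i => x (Fin.castSucc i)) (fun T' => f (upL T')) T := by
  unfold dM
  rw [Fin.sum_univ_castSucc]
  simp only [castSucc_mem_upL, last_mem_upL, if_true, insert_upL, sgn_castSucc_upL, add_zero]

end Model

section Reg

open RingTheory.Sequence

theorem regular_last {n : ℕ} (x : Fin (n + 1) → R) (h : IsWeaklyRegular R (List.ofFn x)) :
    IsWeaklyRegular R (List.ofFn fun i => x (Fin.castSucc i)) ∧
    ∀ c : R, x (Fin.last n) * c ∈ Ideal.span (Set.range fun i => x (Fin.castSucc i)) →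
      c ∈ Ideal.span (Set.range fun i => x (Fin.castSucc i)) := by
  rw [List.ofFn_succ', List.concat_eq_append, isWeaklyRegular_append_iff] at h
  refine ⟨h.1, fun c hc => ?_⟩
  have h2 := (isWeaklyRegular_singleton_iff _ _).mp h.2
  have hI : Ideal.ofList (List.ofFn fun i => x (Fin.castSucc i)) =
      Ideal.span (Set.range fun i => x (Fin.castSucc i)) := by
    unfold Ideal.ofList
    congr 1
    ext r
    simp [List.mem_ofFn]
  have hI' : (Ideal.ofList (List.ofFn fun i => x (Fin.castSucc i)) • ⊤ : Submodule R R) =
      Ideal.span (Set.range fun i => x (Fin.castSucc i)) := by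
    rw [hI, smul_eq_mul, Ideal.mul_top]
  rw [← hI'] at hc ⊢
  have h3 : (Submodule.Quotient.mk c :
      R ⧸ (Ideal.ofList (List.ofFn fun i => x (Fin.castSucc i)) • ⊤ : Submodule R R)) = 0 := by
    apply h2
    change x (Fin.last n) • Submodule.Quotient.mk c = x (Fin.last n) • 0
    rw [smul_zero, ← Submodule.Quotient.mk_smul, Submodule.Quotient.mk_eq_zero]
    exact hc
  exact (Submodule.Quotient.mk_eq_zero _).mp h3

variable {n : ℕ}

/-- function supported on singletons -/
def single1 (a : Fin n → R) (T : Finset (Fin n)) : R := ∑ t, if T = {t} then a t else 0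

theorem sgn_empty (t : Fin n) : (sgn t ∅ : R) = 1 := by
  simp [sgn]

theorem dM_empty (x : Fin n → R) (g : Finset (Fin n) → R) :
    dM x g ∅ = ∑ t, x t * g {t} := by
  unfold dM
  refine Finset.sum_congr rfl fun t _ => ?_
  simp [sgn_empty]

theorem dM_empty_mem (x : Fin n → R) (g : Finset (Fin n) → R) :
    dM x g ∅ ∈ Ideal.span (Set.range x) := by
  rw [dM_empty]
  exact Ideal.sum_mem _ fun t _ => Ideal.mul_mem_right _ _ (Ideal.subset_span ⟨t, rfl⟩)

theorem single1_singleton (a : Fin n → R) (t : Fin n) : single1 a {t} = a t := by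
  simp [single1, Finset.singleton_inj]

theorem dM_single1_empty (x a : Fin n → R) : dM x (single1 a) ∅ = ∑ t, a t * x t := by
  rw [dM_empty]
  refine Finset.sum_congr rfl fun t _ => ?_
  rw [single1_singleton, mul_comm]

theorem dM_single1_ne (x a : Fin n → R) (T : Finset (Fin n)) (hT : T ≠ ∅) :
    dM x (single1 a) T = 0 := by
  unfold dM
  refine Finset.sum_eq_zero fun t _ => ?_
  split_ifs with h
  · rfl
  · have : single1 a (insert t T) = 0 := by
      unfold single1
      refine Finset.sum_eq_zero fun t' _ => ?_
      rw [if_neg]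
      intro h'
      have hc := congrArg Finset.card h'
      rw [Finset.card_insert_of_notMem h, Finset.card_singleton] at hc
      have : T.card = 0 := by omega
      exact hT (Finset.card_eq_zero.mp this)
    rw [this, mul_zero]

theorem up_empty : up (∅ : Finset (Fin n)) = ∅ := Finset.map_empty _

/-- acyclicity of the model Koszul complex away from the empty set -/
theorem exists_preimage : ∀ (n : ℕ) (x : Fin n → R), IsWeaklyRegular R (List.ofFn x) →
    ∀ f : Finset (Fin n) → R, dM x f = 0 →
      ∃ g : Finset (Fin n) → R, ∀ T, T ≠ ∅ → f T = dM x g T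
  | 0, x, _, f, _ => ⟨0, fun T hT => absurd (Finset.eq_empty_of_isEmpty T) hT⟩
  | n + 1, x, hx, f, hf => by
    obtain ⟨hx', hreg⟩ := regular_last x hx
    have hf1 : dM (fun i => x (Fin.castSucc i)) (fun T => f (upL T)) = 0 := by
      funext T
      rw [← dM_upL]
      exact congrFun hf _
    obtain ⟨g1, hg1⟩ := exists_preimage n _ hx' _ hf1
    have hup : ∀ T, dM (fun i => x (Fin.castSucc i)) (fun T' => f (up T')) T +
        (-1) ^ T.card * x (Fin.last n) * f (upL T) = 0 := by
      intro T
      rw [← dM_up]
      exact congrFun hf _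
    have hc : f (upL ∅) - dM (fun i => x (Fin.castSucc i)) g1 ∅ ∈
        Ideal.span (Set.range fun i => x (Fin.castSucc i)) := by
      apply hreg
      have h0 := hup ∅
      rw [Finset.card_empty, pow_zero, one_mul] at h0
      have : x (Fin.last n) * (f (upL ∅) - dM (fun i => x (Fin.castSucc i)) g1 ∅) =
          -(dM (fun i => x (Fin.castSucc i)) (fun T' => f (up T')) ∅) -
            x (Fin.last n) * dM (fun i => x (Fin.castSucc i)) g1 ∅ := by
        linear_combination h0
      rw [this]
      exact sub_mem (neg_mem (dM_empty_mem _ _)) (Ideal.mul_mem_left _ _ (dM_empty_mem _ _))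
    obtain ⟨a, ha⟩ := Ideal.mem_span_range_iff_exists_fun.mp hc
    have hg1' : ∀ T, f (upL T) = dM (fun i => x (Fin.castSucc i)) (g1 + single1 a) T := by
      intro T
      rw [dM_add, Pi.add_apply]
      by_cases hT : T = ∅
      · subst hT
        rw [dM_single1_empty, ha]
        ring
      · rw [dM_single1_ne _ _ _ hT, add_zero]
        exact hg1 T hT
    have hh : dM (fun i => x (Fin.castSucc i))
        (fun T => f (up T) - (-1) ^ T.card * x (Fin.last n) * (g1 + single1 a) T) = 0 := by
      funext T
      rw [dM_sub_eps, ← hg1' T]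
      exact hup T
    obtain ⟨g0, hg0⟩ := exists_preimage n _ hx' _ hh
    refine ⟨fun S => if Fin.last n ∈ S then (g1 + single1 a) (down S) else g0 (down S),
      fun S hS => ?_⟩
    by_cases hl : Fin.last n ∈ S
    · obtain ⟨T, rfl⟩ : ∃ T, S = upL T := ⟨_, eq_upL_of_mem S hl⟩
      rw [dM_upL]
      simp only [last_mem_upL, if_true, down_upL]
      exact hg1' _
    · obtain ⟨T, rfl⟩ : ∃ T, S = up T := ⟨_, eq_up_of_notMem S hl⟩
      rw [dM_up]
      simp only [last_notMem_up, if_false, down_up, last_mem_upL, if_true, down_upL]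
      have hT : T ≠ ∅ := by
        intro h0
        apply hS
        rw [h0, up_empty]
      have := hg0 T hT
      linear_combination this

end Reg

end Groth.Agent.Lead.KoszEx
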