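import Mathlib
import Groth.Prelude.Def_KoszulSh
import Groth.Agent.Lib.Lead.KoszEx1

/-!
# Koszul exactness on exterior powers of a free module (lead)
-/

set_option autoImplicit false
set_option linter.style.haveILetI false
set_option linter.unusedSectionVars false

namespace Groth.Agent.Lead.KoszEx

open exteriorPower Set.powersetCard

variable {R : Type*} [CommRing R] {M : Type*} [AddCommGroup M] [Module R M] {n : ℕ}
  (b : Module.Basis (Fin n) R M)

/-- coordinates of an element of `Λ^q M` as a function on all subsets of `Fin n` -/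
noncomputable def coordF (q : ℕ) : ↥(⋀[R]^q M) →ₗ[R] (Finset (Fin n) → R) where
  toFun ω T := if h : T.card = q then (b.exteriorPower q).repr ω (ofCard h) else 0
  map_add' ω ω' := by
    funext T
    by_cases h : T.card = q <;> simp [h]
  map_smul' c ω := by
    funext T
    by_cases h : T.card = q <;> simp [h]

theorem coordF_of_card (q : ℕ) (ω : ↥(⋀[R]^q M)) (T : Finset (Fin n)) (h : T.card = q) :
    coordF b q ω T = (b.exteriorPower q).repr ω (ofCard h) := by
  simp [coordF, h]

theorem coordF_of_ne (q : ℕ) (ω : ↥(⋀[R]^q M)) (T : Finset (Fin n)) (h : T.card ≠ q) :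
    coordF b q ω T = 0 := by
  simp [coordF, h]

theorem coordF_injective (q : ℕ) : Function.Injective (coordF b q) := by
  intro ω ω' h
  apply (b.exteriorPower q).repr.injective
  ext S
  have := congrFun h S.val
  rw [coordF_of_card b q ω S.val S.prop, coordF_of_card b q ω' S.val S.prop] at this
  exact this

theorem coordF_basis (q : ℕ) (S : Set.powersetCard (Fin n) q) :
    coordF b q (b.exteriorPower q S) = fun T => if T = S.val then 1 else 0 := by
  funext T
  by_cases h : T.card = q
  · rw [coordF_of_card b q _ T h, Module.Basis.repr_self, Finsupp.single_apply]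
    congr 1
    apply propext
    constructor
    · intro h'; rw [h']; rfl
    · intro h'; exact Subtype.ext h'.symm
  · rw [coordF_of_ne b q _ T h, if_neg]
    rintro rfl
    exact h S.prop

/-- the element with prescribed coordinates -/
noncomputable def liftF (q : ℕ) (g : Finset (Fin n) → R) : ↥(⋀[R]^q M) :=
  (b.exteriorPower q).repr.symm (Finsupp.equivFunOnFinite.symm fun S => g S.val)

theorem coordF_liftF (q : ℕ) (g : Finset (Fin n) → R) (T : Finset (Fin n)) :
    coordF b q (liftF b q g) T = if T.card = q then g T else 0 := by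
  by_cases h : T.card = q
  · rw [coordF_of_card b q _ T h, if_pos h, liftF, LinearEquiv.apply_symm_apply]
    rfl
  · rw [coordF_of_ne b q _ T h, if_neg h]

section Enum

variable {p : ℕ} (S : Finset (Fin n)) (hS : S.card = p + 1)

theorem card_erase_enum (i : Fin (p + 1)) : (S.erase (S.orderEmbOfFin hS i)).card = p := by
  rw [Finset.card_erase_of_mem (Finset.orderEmbOfFin_mem S hS i), hS]
  rfl

theorem enum_succAbove (i : Fin (p + 1)) :
    (fun j => S.orderEmbOfFin hS (i.succAbove j)) =
      (S.erase (S.orderEmbOfFin hS i)).orderEmbOfFin (card_erase_enum S hS i) := by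
  apply Finset.orderEmbOfFin_unique
  · intro j
    rw [Finset.mem_erase]
    refine ⟨fun h => ?_, Finset.orderEmbOfFin_mem S hS _⟩
    exact Fin.succAbove_ne i j ((S.orderEmbOfFin hS).injective h)
  · exact (S.orderEmbOfFin hS).strictMono.comp (Fin.strictMono_succAbove i)

theorem card_filter_lt_enum (i : Fin (p + 1)) :
    ((S.erase (S.orderEmbOfFin hS i)).filter (· < S.orderEmbOfFin hS i)).card = (i : ℕ) := by
  have : (S.erase (S.orderEmbOfFin hS i)).filter (· < S.orderEmbOfFin hS i) =
      (Finset.Iio i).map (S.orderEmbOfFin hS).toEmbedding := by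
    ext a
    simp only [Finset.mem_filter, Finset.mem_erase, Finset.mem_map, Finset.mem_Iio,
      RelEmbedding.coe_toEmbedding]
    constructor
    · rintro ⟨⟨_, haS⟩, hlt⟩
      have : a ∈ Set.range (S.orderEmbOfFin hS) := by
        rw [Finset.range_orderEmbOfFin]; exact haS
      obtain ⟨j, rfl⟩ := this
      exact ⟨j, (S.orderEmbOfFin hS).lt_iff_lt.mp hlt, rfl⟩
    · rintro ⟨j, hj, rfl⟩
      refine ⟨⟨fun h => ?_, Finset.orderEmbOfFin_mem S hS j⟩, (S.orderEmbOfFin hS).lt_iff_lt.mpr hj⟩
      exact (ne_of_lt hj) ((S.orderEmbOfFin hS).injective h)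
  rw [this, Finset.card_map, Fin.card_Iio]

end Enum

section Link

theorem sum_eq_sum_enum {p : ℕ} (S : Finset (Fin n)) (hS : S.card = p + 1) (G : Fin n → R)
    (hG : ∀ t, t ∉ S → G t = 0) : ∑ t, G t = ∑ i, G (S.orderEmbOfFin hS i) := by
  rw [← Finset.sum_subset (Finset.subset_univ S) (fun t _ ht => hG t ht)]
  have : ∑ t ∈ S, G t = ∑ t ∈ Finset.univ.map (S.orderEmbOfFin hS).toEmbedding, G t := by
    rw [Finset.map_orderEmbOfFin_univ]
  rw [this, Finset.sum_map]
  rfl

theorem basis_erase {p : ℕ} (S : Finset (Fin n)) (hS : S.card = p + 1) (i : Fin (p + 1)) :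
    ιMulti R p (fun j => b (S.orderEmbOfFin hS (i.succAbove j))) =
      b.exteriorPower p (ofCard (card_erase_enum S hS i)) := by
  rw [basis_apply, ιMulti_family]
  congr 1
  funext j
  simp only [Function.comp_apply]
  congr 1
  exact congrFun (enum_succAbove S hS i) j

theorem coordF_dGen' (φ : M →ₗ[R] R) (p : ℕ) (S : Finset (Fin n)) (hS : S.card = p + 1) :
    coordF b p (KoszSh.dGen φ p (fun j => b (S.orderEmbOfFin hS j))) =
      dM (fun i => φ (b i)) (fun T => if T = S then 1 else 0) := by
  funext T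
  have hL : coordF b p (KoszSh.dGen φ p (fun j => b (S.orderEmbOfFin hS j))) T =
      ∑ i : Fin (p + 1), ((-1 : R) ^ (i : ℕ) * φ (b (S.orderEmbOfFin hS i))) *
        (if T = S.erase (S.orderEmbOfFin hS i) then 1 else 0) := by
    unfold KoszSh.dGen
    rw [map_sum, Finset.sum_apply]
    refine Finset.sum_congr rfl fun i _ => ?_
    rw [map_smul, Pi.smul_apply, basis_erase, coordF_basis, smul_eq_mul]
    rfl
  have hR : dM (fun i => φ (b i)) (fun T => if T = S then 1 else 0) T =
      ∑ i : Fin (p + 1), (fun t : Fin n => if t ∈ T then (0 : R) else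
        sgn t T * φ (b t) * (if insert t T = S then 1 else 0))
          (S.orderEmbOfFin hS i) := by
    unfold dM
    refine sum_eq_sum_enum S hS _ fun t ht => ?_
    by_cases h1 : t ∈ T
    · rw [if_pos h1]
    · rw [if_neg h1]
      by_cases h2 : insert t T = S
      · exact absurd (h2 ▸ Finset.mem_insert_self t T) ht
      · show _ * (if insert t T = S then (1 : R) else 0) = 0
        rw [if_neg h2, mul_zero]
  rw [hL, hR]
  refine Finset.sum_congr rfl fun i _ => ?_
  have ht : S.orderEmbOfFin hS i ∈ S := Finset.orderEmbOfFin_mem _ _ _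
  by_cases hT : T = S.erase (S.orderEmbOfFin hS i)
  · have e1 : (if T = S.erase (S.orderEmbOfFin hS i) then (1 : R) else 0) = 1 := if_pos hT
    have e2 : S.orderEmbOfFin hS i ∉ T := by rw [hT]; exact Finset.notMem_erase _ _
    have e3 : insert (S.orderEmbOfFin hS i) T = S := by rw [hT]; exact Finset.insert_erase ht
    have e4 : (sgn (S.orderEmbOfFin hS i) T : R) = (-1) ^ (i : ℕ) := by
      unfold sgn
      rw [hT, card_filter_lt_enum]
    show _ = if S.orderEmbOfFin hS i ∈ T then (0 : R) else
        sgn (S.orderEmbOfFin hS i) T * φ (b (S.orderEmbOfFin hS i)) *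
          (if insert (S.orderEmbOfFin hS i) T = S then 1 else 0)
    rw [e1, if_neg e2, if_pos e3, e4]
  · have e1 : (if T = S.erase (S.orderEmbOfFin hS i) then (1 : R) else 0) = 0 := if_neg hT
    show _ = if S.orderEmbOfFin hS i ∈ T then (0 : R) else
        sgn (S.orderEmbOfFin hS i) T * φ (b (S.orderEmbOfFin hS i)) *
          (if insert (S.orderEmbOfFin hS i) T = S then 1 else 0)
    rw [e1, mul_zero]
    by_cases h1 : S.orderEmbOfFin hS i ∈ T
    · rw [if_pos h1]
    · rw [if_neg h1]
      have h2 : insert (S.orderEmbOfFin hS i) T ≠ S := by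
        intro h2
        exact hT ((Finset.erase_insert h1).symm.trans (congrArg (fun Z => Finset.erase Z _) h2))
      rw [if_neg h2, mul_zero]

theorem coordF_dGen (φ : M →ₗ[R] R) (p : ℕ) (S : Set.powersetCard (Fin n) (p + 1)) :
    coordF b p (KoszSh.dGen φ p (fun j => b (ofFinEmbEquiv.symm S j))) =
      dM (fun i => φ (b i)) (fun T => if T = S.val then 1 else 0) :=
  coordF_dGen' b φ p S.val S.prop

theorem coordF_D (φ : M →ₗ[R] R) (p : ℕ) (D : ↥(⋀[R]^(p + 1) M) →ₗ[R] ↥(⋀[R]^p M))
    (hD : ∀ e : Fin (p + 1) → M, D (ιMulti R (p + 1) e) = KoszSh.dGen φ p e)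
    (ω : ↥(⋀[R]^(p + 1) M)) :
    coordF b p (D ω) = dM (fun i => φ (b i)) (coordF b (p + 1) ω) := by
  have : (coordF b p) ∘ₗ D = (dML fun i => φ (b i)) ∘ₗ (coordF b (p + 1)) := by
    apply (b.exteriorPower (p + 1)).ext
    intro S
    rw [LinearMap.comp_apply, LinearMap.comp_apply, coordF_basis, dML_apply, basis_apply,
      ιMulti_family, hD]
    exact coordF_dGen b φ p S
  exact LinearMap.congr_fun this ω

open RingTheory.Sequence in
/-- Koszul exactness in positive degrees on a free module, for a form whose values on a basis are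
a weakly regular sequence. -/
theorem exact_alg (φ : M →ₗ[R] R) (hreg : IsWeaklyRegular R (List.ofFn fun i => φ (b i))) (p : ℕ)
    (D1 : ↥(⋀[R]^(p + 2) M) →ₗ[R] ↥(⋀[R]^(p + 1) M))
    (D0 : ↥(⋀[R]^(p + 1) M) →ₗ[R] ↥(⋀[R]^p M))
    (h1 : ∀ e : Fin (p + 2) → M, D1 (ιMulti R (p + 2) e) = KoszSh.dGen φ (p + 1) e)
    (h0 : ∀ e : Fin (p + 1) → M, D0 (ιMulti R (p + 1) e) = KoszSh.dGen φ p e)
    (ω : ↥(⋀[R]^(p + 1) M)) (hω : D0 ω = 0) : ∃ η, D1 η = ω := by
  have hf : dM (fun i => φ (b i)) (coordF b (p + 1) ω) = 0 := by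
    rw [← coordF_D b φ p D0 h0, hω, map_zero]
  obtain ⟨g, hg⟩ := exists_preimage n _ hreg _ hf
  refine ⟨liftF b (p + 2) g, ?_⟩
  apply coordF_injective b (p + 1)
  rw [coordF_D b φ (p + 1) D1 h1]
  funext T
  by_cases hT : T.card = p + 1
  · have hne : T ≠ ∅ := by
      rintro rfl
      simp at hT
    rw [hg T hne]
    unfold dM
    refine Finset.sum_congr rfl fun t _ => ?_
    split_ifs with h
    · rfl
    · rw [coordF_liftF, if_pos (by rw [Finset.card_insert_of_notMem h, hT])]
  · rw [coordF_of_ne b (p + 1) ω T hT]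
    unfold dM
    refine Finset.sum_eq_zero fun t _ => ?_
    split_ifs with h
    · rfl
    · rw [coordF_liftF, if_neg, mul_zero]
      rw [Finset.card_insert_of_notMem h]
      omega

end Link

end Groth.Agent.Lead.KoszEx
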