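import Mathlib
import Groth.Prelude.Def_KoszulSh
import Groth.Agent.Lib.Lead.OmU13a
import Groth.Agent.Lib.Helper1.QcCech

/-!
# Functoriality of the Koszul complex of a cosection (lead)
-/

set_option backward.isDefEq.respectTransparency.types false
set_option autoImplicit false
set_option synthInstance.maxHeartbeats 400000
set_option linter.style.haveILetI false
set_option linter.unusedSectionVars false
universe u
open CategoryTheory CategoryTheory.Limits AlgebraicGeometry TopologicalSpace Opposite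

namespace Groth.Agent.Lead.KoszFun

open Groth.Agent.Helper1.QcCech

variable {X : Scheme.{u}} {E F : X.Modules} {s : E ⟶ Coh.structureModule X}
  {t : F ⟶ Coh.structureModule X}

/-- a morphism of modules on sections, as a linear map -/
noncomputable def fU (f : E ⟶ F) (U : X.Opens) : Γ(E, U) →ₗ[Γ(X, U)] Γ(F, U) where
  toFun e := f.app U e
  map_add' a b := map_add _ a b
  map_smul' r a := Scheme.Modules.Hom.app_smul f r a

theorem fU_apply (f : E ⟶ F) (U : X.Opens) (e : Γ(E, U)) : fU f U e = f.app U e := rfl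

theorem fU_res (f : E ⟶ F) {U V : X.Opens} (h : V ≤ U) (e : Γ(E, U)) :
    fU f V (res E h e) = res F h (fU f U e) :=
  Groth.Agent.Lead.OmU.hom_app_res f h e

variable (f : E ⟶ F) (C : KoszSh.Cx E s) (D : KoszSh.Cx F t)

/-- the local maps -/
noncomputable def aL (p : ℕ) (U : X.affineOpens) :
    Γ(C.K.X p, U.1) →ₗ[Γ(X, U.1)] Γ(D.K.X p, U.1) :=
  (D.loc p U).symm.toLinearMap ∘ₗ exteriorPower.map p (fU f U.1) ∘ₗ (C.loc p U).toLinearMap

/-- decomposable sections -/
noncomputable def gC (p : ℕ) (U : X.affineOpens) (e : Fin p → Γ(E, U.1)) : Γ(C.K.X p, U.1) :=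
  (C.loc p U).symm (exteriorPower.ιMulti Γ(X, U.1) p e)

theorem aL_gen (p : ℕ) (U : X.affineOpens) (e : Fin p → Γ(E, U.1)) :
    aL f C D p U (gC C p U e) = gC D p U (fun j => fU f U.1 (e j)) := by
  unfold aL gC
  simp only [LinearMap.comp_apply, LinearEquiv.coe_coe, LinearEquiv.apply_symm_apply,
    exteriorPower.map_apply_ιMulti]
  rfl

theorem span_gC (p : ℕ) (U : X.affineOpens) :
    Submodule.span Γ(X, U.1) (Set.range (gC C p U)) = ⊤ := by
  have h1 : Set.range (gC C p U) =
      (C.loc p U).symm.toLinearMap '' Set.range (exteriorPower.ιMulti Γ(X, U.1) p) := by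
    ext m
    constructor
    · rintro ⟨e, rfl⟩
      exact ⟨_, ⟨e, rfl⟩, rfl⟩
    · rintro ⟨_, ⟨e, rfl⟩, rfl⟩
      exact ⟨e, rfl⟩
  rw [h1, Submodule.span_image, exteriorPower.ιMulti_span, Submodule.map_top,
    LinearMap.range_eq_top]
  exact (C.loc p U).symm.surjective

theorem res_gC (p : ℕ) (U V : X.affineOpens) (h : V.1 ≤ U.1) (e : Fin p → Γ(E, U.1)) :
    res (C.K.X p) h (gC C p U e) = gC C p V (fun j => res E h (e j)) :=
  C.loc_res p U V h e

theorem aL_res (p : ℕ) (U V : X.affineOpens) (h : V.1 ≤ U.1) (m : Γ(C.K.X p, U.1)) :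
    aL f C D p V (res (C.K.X p) h m) = res (D.K.X p) h (aL f C D p U m) := by
  have key : ∀ m : Γ(C.K.X p, U.1), m ∈ Submodule.span Γ(X, U.1) (Set.range (gC C p U)) →
      aL f C D p V (res (C.K.X p) h m) = res (D.K.X p) h (aL f C D p U m) := by
    intro m hm
    induction hm using Submodule.span_induction with
    | mem m hm =>
      obtain ⟨e, rfl⟩ := hm
      rw [res_gC, aL_gen, aL_gen, res_gC]
      congr 1
      funext j
      exact fU_res f h (e j)
    | zero =>
      exact (congrArg (aL f C D p V) (map_zero (res (C.K.X p) h))).trans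
        (((aL f C D p V).map_zero).trans
          (((map_zero (res (D.K.X p) h)).symm).trans
            (congrArg (res (D.K.X p) h) ((aL f C D p U).map_zero).symm)))
    | add a b _ _ iha ihb =>
      exact (congrArg (aL f C D p V) (map_add (res (C.K.X p) h) a b)).trans
        (((aL f C D p V).map_add _ _).trans
          ((congrArg₂ (· + ·) iha ihb).trans
            (((map_add (res (D.K.X p) h) _ _).symm).trans
              (congrArg (res (D.K.X p) h) ((aL f C D p U).map_add a b).symm))))
    | smul r a _ iha =>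
      exact (congrArg (aL f C D p V) (res_smul (C.K.X p) h r a)).trans
        (((aL f C D p V).map_smul _ _).trans
          ((congrArg (fun z => resR h r • z) iha).trans
            (((res_smul (D.K.X p) h r _).symm).trans
              (congrArg (res (D.K.X p) h) ((aL f C D p U).map_smul r a).symm))))
  apply key
  rw [span_gC]
  trivial

theorem isBasis_range_val :
    Opens.IsBasis (Set.range (Subtype.val : X.affineOpens → X.Opens)) := by
  rw [Subtype.range_coe]
  exact X.isBasis_affineOpens

/-- the glued morphisms -/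
noncomputable def phi (p : ℕ) : C.K.X p ⟶ D.K.X p :=
  Groth.Agent.Lead.OmU.glueHom (Subtype.val : X.affineOpens → X.Opens) isBasis_range_val
    (fun U => (aL f C D p U).toAddMonoidHom)
    (fun U V h m => aL_res f C D p U V h m)
    (fun U r m => (aL f C D p U).map_smul r m)

theorem phi_app (p : ℕ) (U : X.affineOpens) (m : Γ(C.K.X p, U.1)) :
    (phi f C D p).app U.1 m = aL f C D p U m :=
  Groth.Agent.Lead.OmU.glueHom_basis _ _ _ _ _ U m

theorem phi_gen (p : ℕ) (U : X.affineOpens) (e : Fin p → Γ(E, U.1)) :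
    (phi f C D p).app U.1 (gC C p U e) = gC D p U (fun j => f.app U.1 (e j)) := by
  rw [phi_app, aL_gen]
  rfl

theorem map_dGen (hf : f ≫ t = s) (U : X.Opens) (p : ℕ) (e : Fin (p + 1) → Γ(E, U)) :
    exteriorPower.map p (fU f U) (KoszSh.dGen (KoszSh.secForm s U) p e) =
      KoszSh.dGen (KoszSh.secForm t U) p (fun j => fU f U (e j)) := by
  unfold KoszSh.dGen
  rw [map_sum]
  refine Finset.sum_congr rfl fun i _ => ?_
  rw [map_smul, exteriorPower.map_apply_ιMulti]
  have h1 : KoszSh.secForm t U (fU f U (e i)) = KoszSh.secForm s U (e i) := by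
    subst hf
    rfl
  rw [h1]
  rfl

/-- two morphisms agreeing on decomposable sections over affine opens are equal -/
theorem hom_ext_gC (p : ℕ) {G : X.Modules} (α β : C.K.X p ⟶ G)
    (h : ∀ (U : X.affineOpens) (e : Fin p → Γ(E, U.1)),
      α.app U.1 (gC C p U e) = β.app U.1 (gC C p U e)) : α = β := by
  apply Groth.Agent.Lead.OmU.hom_ext_of_nhds
  intro x O hx
  obtain ⟨_, ⟨U, hU, rfl⟩, hxU, hUO⟩ :=
    X.isBasis_affineOpens.exists_subset_of_mem_open hx O.2
  refine ⟨U, hxU, hUO, ?_⟩
  have h2 : fU α U = fU β U := by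
    apply LinearMap.ext_on (span_gC C p ⟨U, hU⟩)
    rintro _ ⟨e, rfl⟩
    exact h ⟨U, hU⟩ e
  intro m
  exact congrArg (fun g => g m) h2

theorem comm (hf : f ≫ t = s) (p : ℕ) :
    phi f C D (p + 1) ≫ D.K.d (p + 1) p = C.K.d (p + 1) p ≫ phi f C D p := by
  apply hom_ext_gC C (p + 1)
  intro U e
  have h1 : (phi f C D (p + 1) ≫ D.K.d (p + 1) p).app U.1 (gC C (p + 1) U e) =
      (D.K.d (p + 1) p).app U.1 ((phi f C D (p + 1)).app U.1 (gC C (p + 1) U e)) := rfl
  have h2 : (C.K.d (p + 1) p ≫ phi f C D p).app U.1 (gC C (p + 1) U e) =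
      (phi f C D p).app U.1 ((C.K.d (p + 1) p).app U.1 (gC C (p + 1) U e)) := rfl
  rw [h1, h2, phi_gen]
  have h3 : (C.K.d (p + 1) p).app U.1 (gC C (p + 1) U e) =
      (C.loc p U).symm (KoszSh.dGen (KoszSh.secForm s U.1) p e) := C.rule p U e
  have h4 : (D.K.d (p + 1) p).app U.1 (gC D (p + 1) U (fun j => f.app U.1 (e j))) =
      (D.loc p U).symm (KoszSh.dGen (KoszSh.secForm t U.1) p (fun j => f.app U.1 (e j))) :=
    D.rule p U _
  rw [h3, h4, phi_app]
  unfold aL
  simp only [LinearMap.comp_apply, LinearEquiv.coe_coe, LinearEquiv.apply_symm_apply]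
  rw [map_dGen f hf]
  rfl

/-- the chain map -/
noncomputable def chainMap (hf : f ≫ t = s) : C.K ⟶ D.K where
  f p := phi f C D p
  comm' i j hij := by
    have : j + 1 = i := hij
    subst this
    exact comm f C D hf j

/-- **functoriality of the Koszul complex** -/
theorem main (hf : f ≫ t = s) :
    ∃! φ : C.K ⟶ D.K, ∀ (p : ℕ) (U : X.affineOpens) (e : Fin p → Γ(E, U.1)),
      (φ.f p).app U.1 ((C.loc p U).symm (exteriorPower.ιMulti _ p e)) =
        (D.loc p U).symm (exteriorPower.ιMulti _ p (fun j => f.app U.1 (e j))) := by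
  refine ⟨chainMap f C D hf, fun p U e => phi_gen f C D p U e, ?_⟩
  intro φ' hφ'
  apply HomologicalComplex.hom_ext
  intro p
  apply hom_ext_gC C p
  intro U e
  exact (hφ' p U e).trans (phi_gen f C D p U e).symm

end Groth.Agent.Lead.KoszFun
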