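import Mathlib
import Groth.Prelude.Def_KoszulSh
import Groth.Agent.Lib.Lead.KoszEx2
import Groth.Agent.Lib.Lead.OmU11c
import Groth.Agent.Lib.Lead.SD2
import Groth.Agent.Lib.Lead.FLF6
import Groth.Agent.Lib.Lead.KoszFun1

/-!
# Exactness of Koszul complexes of locally regular cosections (lead)
-/

set_option backward.isDefEq.respectTransparency.types false
set_option autoImplicit false
set_option synthInstance.maxHeartbeats 400000
set_option linter.style.haveILetI false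
set_option linter.unusedSectionVars false
universe u
open CategoryTheory CategoryTheory.Limits AlgebraicGeometry TopologicalSpace Opposite

namespace Groth.Agent.Lead.KoszEx

open RingTheory.Sequence exteriorPower

variable {X : Scheme.{u}}

theorem secForm_res {E : X.Modules} (s : E ⟶ Coh.structureModule X) {U V : X.Opens} (h : V ≤ U)
    (m : Γ(E, U)) :
    KoszSh.secForm s V (E.presheaf.map (homOfLE h).op m) =
      (X.presheaf.map (homOfLE h).op).hom (KoszSh.secForm s U m) := by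
  have := congrArg (fun g => g.hom m) (s.mapPresheaf.naturality (homOfLE h).op)
  exact this

attribute [local instance] Groth.Agent.Lead.SD.basicOpenModule

theorem exists_good_reg {n : ℕ} (E : X.Modules) [E.IsQuasicoherent]
    (s : E ⟶ Coh.structureModule X)
    (U : X.affineOpens) (b : Module.Basis (Fin n) Γ(X, U.1) Γ(E, U.1))
    (hreg : IsWeaklyRegular Γ(X, U.1) (List.ofFn fun k => KoszSh.secForm s U.1 (b k)))
    (x : X) (hx : x ∈ U.1) (O : X.Opens) (hxO : x ∈ O) :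
    ∃ W : X.affineOpens, x ∈ W.1 ∧ W.1 ≤ O ∧
      ∃ b' : Module.Basis (Fin n) Γ(X, W.1) Γ(E, W.1),
        IsWeaklyRegular Γ(X, W.1) (List.ofFn fun k => KoszSh.secForm s W.1 (b' k)) := by
  obtain ⟨g, hgO, hxg⟩ := U.2.exists_basicOpen_le ⟨x, hxO⟩ hx
  refine ⟨⟨X.basicOpen g, U.2.basicOpen g⟩, hxg, hgO, ?_⟩
  haveI := U.2.isLocalization_basicOpen g
  haveI := SD.isLocalizedModule_res E U.2 g
  refine ⟨b.ofIsLocalizedModule Γ(X, X.basicOpen g) (Submonoid.powers g) (SD.resₗ E g), ?_⟩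
  have h1 := IsWeaklyRegular.of_isLocalization Γ(X, X.basicOpen g) (Submonoid.powers g) hreg
  rw [List.map_ofFn] at h1
  convert h1 using 2
  funext k
  simp only [Function.comp_apply]
  rw [Module.Basis.ofIsLocalizedModule_apply, SD.resₗ_apply]
  exact secForm_res s (X.basicOpen_le g) (b k)

open Groth.Agent.Lead.KoszFun Groth.Agent.Helper1.QcCech in
theorem main (n : ℕ) (E : X.Modules)
    (hE : FlatMod.IsFinLocFreeOfRank n E) (s : E ⟶ Coh.structureModule X)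
    (hs : ∀ x : X, ∃ U : X.affineOpens, x ∈ U.1 ∧
      ∃ b : Module.Basis (Fin n) Γ(X, U.1) Γ(E, U.1),
        RingTheory.Sequence.IsWeaklyRegular Γ(X, U.1)
          (List.ofFn fun k => KoszSh.secForm s U.1 (b k)))
    (C : KoszSh.Cx E s) (q : ℕ) (hq : 1 ≤ q) :
    Limits.IsZero (C.K.homology q) := by
  obtain ⟨p, rfl⟩ : ∃ p, q = p + 1 := ⟨q - 1, by omega⟩
  haveI : E.IsQuasicoherent := Groth.Agent.Lead.FLF.isQuasicoherent_of_isFinLocFree E
    (fun x => let ⟨U, hx, h⟩ := hE x; ⟨U, n, hx, h⟩)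
  rw [← HomologicalComplex.exactAt_iff_isZero_homology,
    HomologicalComplex.exactAt_iff' C.K (p + 2) (p + 1) p (by simp) (by simp)]
  apply Groth.Agent.Lead.OmU.exact_of_locally
  intro O σ hσ x hxO
  obtain ⟨U, hxU, b, hreg⟩ := hs x
  obtain ⟨W, hxW, hWO, b', hreg'⟩ := exists_good_reg E s U b hreg x hxU O hxO
  refine ⟨W.1, hWO, hxW, ?_⟩
  let D1 : ↥(⋀[Γ(X, W.1)]^(p + 2) Γ(E, W.1)) →ₗ[Γ(X, W.1)] ↥(⋀[Γ(X, W.1)]^(p + 1) Γ(E, W.1)) :=
    (C.loc (p + 1) W).toLinearMap ∘ₗ (fU (C.K.d (p + 2) (p + 1)) W.1) ∘ₗ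
      (C.loc (p + 2) W).symm.toLinearMap
  let D0 : ↥(⋀[Γ(X, W.1)]^(p + 1) Γ(E, W.1)) →ₗ[Γ(X, W.1)] ↥(⋀[Γ(X, W.1)]^p Γ(E, W.1)) :=
    (C.loc p W).toLinearMap ∘ₗ (fU (C.K.d (p + 1) p) W.1) ∘ₗ
      (C.loc (p + 1) W).symm.toLinearMap
  have h1 : ∀ e : Fin (p + 2) → Γ(E, W.1),
      D1 (ιMulti _ (p + 2) e) = KoszSh.dGen (KoszSh.secForm s W.1) (p + 1) e := by
    intro e
    change (C.loc (p + 1) W) ((C.K.d (p + 2) (p + 1)).app W.1
      ((C.loc (p + 2) W).symm (ιMulti _ (p + 2) e))) = _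
    rw [C.rule (p + 1) W e, LinearEquiv.apply_symm_apply]
  have h0 : ∀ e : Fin (p + 1) → Γ(E, W.1),
      D0 (ιMulti _ (p + 1) e) = KoszSh.dGen (KoszSh.secForm s W.1) p e := by
    intro e
    change (C.loc p W) ((C.K.d (p + 1) p).app W.1
      ((C.loc (p + 1) W).symm (ιMulti _ (p + 1) e))) = _
    rw [C.rule p W e, LinearEquiv.apply_symm_apply]
  have hω : D0 (C.loc (p + 1) W (res (C.K.X (p + 1)) hWO σ)) = 0 := by
    change (C.loc p W) ((C.K.d (p + 1) p).app W.1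
      ((C.loc (p + 1) W).symm (C.loc (p + 1) W (res (C.K.X (p + 1)) hWO σ)))) = 0
    rw [LinearEquiv.symm_apply_apply]
    have h2 : (C.K.d (p + 1) p).app W.1 (res (C.K.X (p + 1)) hWO σ) =
        res (C.K.X p) hWO ((C.K.d (p + 1) p).app O σ) :=
      Groth.Agent.Lead.OmU.hom_app_res (C.K.d (p + 1) p) hWO σ
    have h3 : (C.K.d (p + 1) p).app O σ = 0 := hσ
    rw [h2, h3]
    erw [map_zero, map_zero]
  obtain ⟨η, hη⟩ := exact_alg b' (KoszSh.secForm s W.1) hreg' p D1 D0 h1 h0 _ hω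
  refine ⟨(C.loc (p + 2) W).symm η, ?_⟩
  have h4 : (C.loc (p + 1) W) ((C.K.d (p + 2) (p + 1)).app W.1 ((C.loc (p + 2) W).symm η)) =
      C.loc (p + 1) W (res (C.K.X (p + 1)) hWO σ) := hη
  exact (C.loc (p + 1) W).injective h4

end Groth.Agent.Lead.KoszEx
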