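import Mathlib
import Groth.Prelude.Def_KoszulSh
import Groth.Agent.Lib.Lead.KoszCM1
import Groth.Agent.Lib.Lead.KoszEx3
import Groth.Agent.Lib.Helper4.RegSpread1
import Groth.Agent.Lib.Helper1.FinSigma
import Groth.Agent.Lib.Lead.FLF1
import Groth.Agent.Lib.Helper1.TwForm3

/-!
# Regular sequences cutting out closed subschemes of Cohen–Macaulay schemes (lead)
-/

set_option backward.isDefEq.respectTransparency.types false
set_option autoImplicit false
set_option synthInstance.maxHeartbeats 400000
set_option linter.style.haveILetI false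
set_option linter.unusedSectionVars false
universe u
open CategoryTheory CategoryTheory.Limits AlgebraicGeometry TopologicalSpace Opposite

namespace Groth.Agent.Lead.KoszCM

open RingTheory.Sequence LocCoh

section Free

variable {Z : Scheme.{u}} (c : ℕ) (V : Z.Opens)

open Groth.Agent.Helper1.FinSigma

/-- standard sections of the free module -/
noncomputable def stdSec (k : Fin c) : Γ(FlatMod.freeMod Z c, V) :=
  (Sigma.ι (fun _ : Fin c => Coh.structureModule Z) k).app V (OmegaSh.strSect Z V 1)

theorem ι_app_eq (k : Fin c) (z : Γ(Coh.structureModule Z, V)) :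
    (Sigma.ι (fun _ : Fin c => Coh.structureModule Z) k).app V z =
      OmegaSh.fnSect Z V z • stdSec c V k := by
  unfold stdSec
  rw [← Scheme.Modules.Hom.app_smul]
  congr 1
  exact (Groth.Agent.Helper1.TwForm.smul_one' V (OmegaSh.fnSect Z V z)).symm

theorem fn_q_smul (j : Fin c) (r : Γ(Z, V)) (m : Γ(FlatMod.freeMod Z c, V)) :
    OmegaSh.fnSect Z V ((q (fun _ : Fin c => Coh.structureModule Z) j).app V (r • m)) =
      r * OmegaSh.fnSect Z V ((q (fun _ : Fin c => Coh.structureModule Z) j).app V m) := by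
  rw [Scheme.Modules.Hom.app_smul]
  rfl

theorem q_stdSec (j k : Fin c) :
    OmegaSh.fnSect Z V ((q (fun _ : Fin c => Coh.structureModule Z) j).app V (stdSec c V k)) =
      if k = j then 1 else 0 := by
  unfold stdSec
  by_cases h : k = j
  · subst h
    rw [if_pos rfl]
    have := congrArg (fun φ => φ.app V (OmegaSh.strSect Z V 1))
      (ι_q_self (fun _ : Fin c => Coh.structureModule Z) k)
    exact congrArg (OmegaSh.fnSect Z V) this
  · rw [if_neg h]
    have := congrArg (fun φ => φ.app V (OmegaSh.strSect Z V 1))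
      (ι_q_ne (fun _ : Fin c => Coh.structureModule Z) h)
    exact congrArg (OmegaSh.fnSect Z V) this

/-- coordinates on the free module -/
noncomputable def freeEquiv : Γ(FlatMod.freeMod Z c, V) ≃ₗ[Γ(Z, V)] (Fin c → Γ(Z, V)) where
  toFun m := fun j => OmegaSh.fnSect Z V ((q (fun _ : Fin c => Coh.structureModule Z) j).app V m)
  map_add' a b := by
    funext j
    simp only [Pi.add_apply]
    rw [map_add, map_add]
  map_smul' r a := by
    funext j
    simp only [Pi.smul_apply, RingHom.id_apply]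
    rw [Scheme.Modules.Hom.app_smul]
    rfl
  invFun r := ∑ j, r j • stdSec c V j
  left_inv m := by
    simp only
    conv_rhs => rw [decomp (fun _ : Fin c => Coh.structureModule Z) V m]
    refine Finset.sum_congr rfl fun j _ => ?_
    rw [ι_app_eq]
  right_inv r := by
    funext j
    simp only
    rw [map_sum, map_sum]
    rw [Finset.sum_eq_single j]
    · rw [fn_q_smul, q_stdSec, if_pos rfl, mul_one]
    · intro k _ hk
      rw [fn_q_smul, q_stdSec, if_neg hk, mul_zero]
    · intro h
      exact absurd (Finset.mem_univ j) h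

/-- the standard basis of sections of the free module -/
noncomputable def stdBasis : Module.Basis (Fin c) Γ(Z, V) Γ(FlatMod.freeMod Z c, V) :=
  Module.Basis.ofEquivFun (freeEquiv c V)

theorem stdBasis_apply (k : Fin c) : stdBasis c V k = stdSec c V k := by
  unfold stdBasis
  rw [Module.Basis.coe_ofEquivFun]
  change ∑ j, (Pi.single k (1 : Γ(Z, V)) : Fin c → Γ(Z, V)) j • stdSec c V j = _
  rw [Finset.sum_eq_single k]
  · rw [Pi.single_eq_same, one_smul]
  · intro j _ hj
    rw [Pi.single_eq_of_ne hj, zero_smul]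
  · intro h
    exact absurd (Finset.mem_univ k) h

end Free

section Main

variable {X Y : Scheme.{u}}

theorem isWeaklyRegular_ringEquiv {R S : Type*} [CommRing R] [CommRing S] (σ : R ≃+* S)
    (rs : List R) (h : IsWeaklyRegular R rs) : IsWeaklyRegular S (rs.map σ) := by
  refine (AddEquiv.isWeaklyRegular_congr (e := σ.toAddEquiv) ?_).mp h
  exact List.forall₂_map_right_iff.mpr (List.forall₂_same.mpr fun r _ x => by simp)

theorem ofList_ofFn {R : Type*} [CommRing R] {c : ℕ} (g : Fin c → R) :
    Ideal.ofList (List.ofFn g) = Ideal.span (Set.range g) := by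
  unfold Ideal.ofList
  congr 1
  ext r
  simp [List.mem_ofFn]

open Groth.Agent.Lib.Helper4.RegSpread1 in
theorem main [IsLocallyNoetherian X]
    (hCM : ∀ x : X, LocCoh.IsCohenMacaulayLocalRing (X.presheaf.stalk x))
    (i : Y ⟶ X) [IsClosedImmersion i] (c : ℕ)
    (hgen : ∀ y : Y, ∃ U : X.affineOpens, i.base y ∈ U.1 ∧ ∃ g : Fin c → Γ(X, U.1),
      i.ker.ideal U = Ideal.span (Set.range g))
    (hht : ∀ y : Y, (c : ℕ∞) ≤ (RingHom.ker (i.stalkMap y).hom).height) :
    ∀ y : Y, ∃ U : X.affineOpens, i.base y ∈ U.1 ∧ ∃ f : Fin c → Γ(X, U.1),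
      i.ker.ideal U = Ideal.span (Set.range f) ∧
      RingTheory.Sequence.IsWeaklyRegular Γ(X, U.1) (List.ofFn f) ∧
      ∀ (s : FlatMod.freeMod (↑U.1) c ⟶ Coh.structureModule (↑U.1)),
        (∀ k : Fin c, KoszSh.secForm s ⊤
          ((Limits.Sigma.ι (fun _ : Fin c => Coh.structureModule (↑U.1)) k).app ⊤
            (OmegaSh.strSect (↑U.1) ⊤ 1)) = U.1.topIso.inv (f k)) →
        ∀ (C : KoszSh.Cx (FlatMod.freeMod (↑U.1) c) s) (q : ℕ), 1 ≤ q →
          Limits.IsZero (C.K.homology q) := by
  intro y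
  obtain ⟨U, hyU, g, hg⟩ := hgen y
  haveI : IsNoetherianRing Γ(X, U.1) := IsLocallyNoetherian.component_noetherian U
  haveI := hCM (i y)
  let _ := TopCat.Presheaf.algebra_section_stalk X.presheaf (⟨i y, hyU⟩ : U.1)
  have hlocX := U.2.isLocalization_stalk ⟨i y, hyU⟩
  have h1 := ker_stalkMap_of_app_surjective i y U.1 U.2 hyU (U.2.preimage i)
    (i.app_surjective U.1 U.2)
  have hker : RingHom.ker (i.app U.1).hom = Ideal.ofList (List.ofFn g) := by
    rw [← Scheme.Hom.ker_apply, hg, ofList_ofFn]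
  have hk2 : RingHom.ker (i.stalkMap y).hom =
      Ideal.ofList ((List.ofFn g).map (algebraMap Γ(X, U.1) (X.presheaf.stalk (i y)))) := by
    rw [h1, hker, Ideal.map_ofList]
    rfl
  have hreg : IsRegular (X.presheaf.stalk (i y))
      ((List.ofFn g).map (algebraMap Γ(X, U.1) (X.presheaf.stalk (i y)))) := by
    apply isRegular_of_height_ge
    · rw [← hk2]
      exact RingHom.ker_ne_top _
    · rw [← hk2, List.length_map, List.length_ofFn]
      exact hht y
  obtain ⟨h, hhp, hB⟩ := exists_away_weaklyRegular (U.2.primeIdealOf ⟨i y, hyU⟩).asIdeal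
    (X.presheaf.stalk (i y)) (List.ofFn g) hreg.toIsWeaklyRegular
  have hyV : i y ∈ X.basicOpen h := by
    rw [Scheme.mem_basicOpen _ _ _ hyU]
    exact (IsLocalization.AtPrime.isUnit_to_map_iff (X.presheaf.stalk (i y))
      (U.2.primeIdealOf ⟨i y, hyU⟩).asIdeal h).mpr hhp
  haveI hloc : IsLocalization.Away h Γ(X, X.basicOpen h) := U.2.isLocalization_basicOpen h
  have hregW := hB h (dvd_refl h) Γ(X, X.basicOpen h)
  rw [List.map_ofFn] at hregW
  refine ⟨⟨X.basicOpen h, U.2.basicOpen h⟩, hyV,
    fun k => algebraMap Γ(X, U.1) Γ(X, X.basicOpen h) (g k), ?_, hregW, ?_⟩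
  · have h2 := i.ker.map_ideal (U := ⟨X.basicOpen h, U.2.basicOpen h⟩) (V := U)
      (X.basicOpen_le h)
    rw [← h2, hg, Ideal.map_span, ← Set.range_comp]
    rfl
  · intro s hs C q hq
    haveI : IsAffine (↑(X.basicOpen h) : Scheme.{u}) := U.2.basicOpen h
    refine Groth.Agent.Lead.KoszEx.main c _
      (fun x => ⟨⊤, trivial, ⟨Groth.Agent.Lead.FLF.freeRestrictIso (⊤ : Scheme.Opens _).ι c⟩⟩)
      s ?_ C q hq
    intro z
    refine ⟨⟨⊤, isAffineOpen_top _⟩, trivial, stdBasis c ⊤, ?_⟩
    have e1 : (fun k => KoszSh.secForm s ⊤ (stdBasis c ⊤ k)) =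
        fun k => (X.basicOpen h).topIso.inv
          (algebraMap Γ(X, U.1) Γ(X, X.basicOpen h) (g k)) :=
      funext fun k => by
        rw [stdBasis_apply]
        exact hs k
    rw [e1]
    have e2 := isWeaklyRegular_ringEquiv
      ((X.basicOpen h).topIso.commRingCatIsoToRingEquiv.symm) _ hregW
    rw [List.map_ofFn] at e2
    exact e2

end Main

end Groth.Agent.Lead.KoszCM
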