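import Mathlib
import Groth.Prelude.Def_KoszTw
import Groth.Agent.Lib.Lead.ExtTw1
import Groth.Agent.Lib.Lead.KoszFun1
import Groth.Agent.Lib.Helper1.PFrame3
import Groth.Agent.Lib.Helper1.FtLocal

/-!
# Local toolkit for twisted Koszul complexes (lead)
-/

set_option backward.isDefEq.respectTransparency.types false
set_option autoImplicit false
set_option synthInstance.maxHeartbeats 400000
set_option linter.style.haveILetI false
set_option linter.unusedSectionVars false
universe u
open CategoryTheory CategoryTheory.Limits AlgebraicGeometry TopologicalSpace Opposite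

namespace Groth.Agent.Lead.KoszTwL

open Groth.Agent.Helper1 Groth.Agent.Helper1.QcCech Groth.Agent.Helper1.LGen
  Groth.Agent.Helper1.TmulLib Groth.Agent.Helper1.TensGen Groth.Agent.Helper1.TwistSec
  Groth.Agent.Helper1.TwForm Groth.Agent.Helper1.AmpleLib
  Groth.Agent.Lead.ExtTw Groth.Agent.Lead.KoszFun

variable {X : Scheme.{u}}

section Sub

theorem kernelSubobject_le_of_locally {A B₁ B₂ : X.Modules} (f₁ : A ⟶ B₁) (f₂ : A ⟶ B₂)
    (h : ∀ (x : X) (O : X.Opens), x ∈ O → ∃ U : X.Opens, x ∈ U ∧ U ≤ O ∧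
      ∀ y : Γ(A, U), f₁.app U y = 0 → f₂.app U y = 0) :
    kernelSubobject f₁ ≤ kernelSubobject f₂ := by
  have h0 : (kernelSubobject f₁).arrow ≫ f₂ = 0 := by
    apply Groth.Agent.Lead.OmU.hom_ext_of_nhds
    intro x O hx
    obtain ⟨U, hxU, hUO, hU⟩ := h x O hx
    refine ⟨U, hxU, hUO, fun m => ?_⟩
    have e1 : ((kernelSubobject f₁).arrow ≫ f₂).app U m =
        f₂.app U ((kernelSubobject f₁).arrow.app U m) := rfl
    have e2 : f₁.app U ((kernelSubobject f₁).arrow.app U m) =
        ((kernelSubobject f₁).arrow ≫ f₁).app U m := rfl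
    have e3 : f₁.app U ((kernelSubobject f₁).arrow.app U m) = 0 := by
      rw [e2, kernelSubobject_arrow_comp]
      rfl
    rw [e1, hU _ e3]
    rfl
  exact Subobject.le_of_comm (factorThruKernelSubobject f₂ _ h0)
    (factorThruKernelSubobject_comp_arrow _ _ _)

/-- kernel subobjects agree if the kernels agree on sections over a basis -/
theorem kernelSubobject_eq_of_locally {A B₁ B₂ : X.Modules} (f₁ : A ⟶ B₁) (f₂ : A ⟶ B₂)
    (h : ∀ (x : X) (O : X.Opens), x ∈ O → ∃ U : X.Opens, x ∈ U ∧ U ≤ O ∧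
      ∀ y : Γ(A, U), f₁.app U y = 0 ↔ f₂.app U y = 0) :
    kernelSubobject f₁ = kernelSubobject f₂ := by
  apply le_antisymm
  · apply kernelSubobject_le_of_locally
    intro x O hx
    obtain ⟨U, h1, h2, h3⟩ := h x O hx
    exact ⟨U, h1, h2, fun y => (h3 y).1⟩
  · apply kernelSubobject_le_of_locally
    intro x O hx
    obtain ⟨U, h1, h2, h3⟩ := h x O hx
    exact ⟨U, h1, h2, fun y => (h3 y).2⟩

theorem imageSubobject_le_of_locally {A B G : X.Modules} (α : A ⟶ G) (β : B ⟶ G)
    (h : ∀ (x : X) (O : X.Opens), x ∈ O → ∃ U : X.Opens, x ∈ U ∧ U ≤ O ∧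
      ∀ a : Γ(A, U), ∃ b : Γ(B, U), β.app U b = α.app U a) :
    imageSubobject α ≤ imageSubobject β := by
  have h0 : α ≫ cokernel.π β = 0 := by
    apply Groth.Agent.Lead.OmU.hom_ext_of_nhds
    intro x O hx
    obtain ⟨U, hxU, hUO, hU⟩ := h x O hx
    refine ⟨U, hxU, hUO, fun a => ?_⟩
    obtain ⟨b, hb⟩ := hU a
    have e1 : (α ≫ cokernel.π β).app U a = (cokernel.π β).app U (α.app U a) := rfl
    have e2 : (cokernel.π β).app U (β.app U b) = (β ≫ cokernel.π β).app U b := rfl
    rw [e1, ← hb, e2, cokernel.condition]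
    rfl
  have hex : (ShortComplex.mk β (cokernel.π β) (cokernel.condition β)).Exact :=
    ShortComplex.exact_of_g_is_cokernel _ (cokernelIsCokernel β)
  have e : imageSubobject β = kernelSubobject (cokernel.π β) :=
    (ShortComplex.exact_iff_image_eq_kernel _).1 hex
  rw [e]
  exact imageSubobject_le α (factorThruKernelSubobject _ α h0)
    (factorThruKernelSubobject_comp_arrow _ _ _)

end Sub

section Loc

variable {F L : X.Modules} {s : F ⟶ Coh.structureModule X} {lam : Coh.structureModule X ⟶ L}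
  {t : CohB1.tensorMod F L ⟶ Coh.structureModule X}

/-- a section of the structure module is its function times one -/
theorem smul_one_eq (U : X.Opens) (z : Γ(Coh.structureModule X, U)) :
    (OmegaSh.fnSect X U z) • one' U = z :=
  smul_one' U (OmegaSh.fnSect X U z)

/-- the coefficient relation `a · t(f ⊗ l) = s(f)` when `lam(1) = a • l` -/
theorem coeff_rel (htri : KoszTw.TwistTriangle s lam t) (U : X.Opens) (l : Γ(L, U))
    (hl : IsGen L U l) (a : Γ(X, U)) (ha : a • l = lam.app U (one' U)) (f : Γ(F, U)) :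
    a * KoszSh.secForm t U (tm F L U f l) = KoszSh.secForm s U f := by
  have h := htri U f l
  set r : Γ(X, U) := KoszSh.secForm t U (tm F L U f l) with hr
  have h1 : t.app U (SecTwist.tmul F L U f l) = r • one' U := (smul_one_eq U _).symm
  rw [h1, Scheme.Modules.Hom.app_smul, ← ha, ← mul_smul] at h
  have h2 := (IsGen.bijective_self hl).1 h
  rw [mul_comm]
  exact h2

variable (F) in
/-- `e ↦ e ⊗ l` for a generator `l`, on sections -/
noncomputable def tauG (U : X.Opens) (l : Γ(L, U)) (hl : IsGen L U l) :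
    Γ(F, U) ≃ₗ[Γ(X, U)] Γ(CohB1.tensorMod F L, U) :=
  LinearEquiv.ofBijective
    { toFun := fun e => tm F L U e l
      map_add' := fun e e' => tm_add_left F L U e e' l
      map_smul' := fun r e => tm_smul_left F L U r e l }
    (bijective_tm_of_isGen F hl)

theorem tauG_apply (U : X.Opens) (l : Γ(L, U)) (hl : IsGen L U l) (e : Γ(F, U)) :
    tauG F U l hl e = tm F L U e l := rfl

theorem dGen_tau (htri : KoszTw.TwistTriangle s lam t) (U : X.Opens) (l : Γ(L, U))
    (hl : IsGen L U l) (a : Γ(X, U)) (ha : a • l = lam.app U (one' U)) (q : ℕ)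
    (f : Fin (q + 1) → Γ(F, U)) :
    a • (extEquiv q (tauG F U l hl)).symm
      (KoszSh.dGen (KoszSh.secForm t U) q (fun i => tauG F U l hl (f i))) =
      KoszSh.dGen (KoszSh.secForm s U) q f := by
  unfold KoszSh.dGen
  rw [map_sum, Finset.smul_sum]
  refine Finset.sum_congr rfl fun i _ => ?_
  rw [map_smul, extEquiv_symm_ιMulti q (tauG F U l hl) (fun j => f (i.succAbove j)), smul_smul]
  congr 1
  have h1 := coeff_rel htri U l hl a ha (f i)
  change a * ((-1) ^ (i : ℕ) * (KoszSh.secForm t U) (tm F L U (f i) l)) = _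
  rw [← h1]
  ring

/-- the prelude's iterated tensor of sections is `tmk` -/
theorem tprod_eq_tmk (q : ℕ) (U : X.Opens) (l : Fin q → Γ(L, U)) :
    KoszTw.tprod L q U l = tmk q l := by
  induction q with
  | zero => rfl
  | succ q ih =>
    change SecTwist.tmul (CohB1.tensorPow L q) L U (KoszTw.tprod L q U (fun i => l i.castSucc))
      (l (Fin.last q)) = _
    rw [ih]
    rfl

theorem tprod_const (q : ℕ) (U : X.Opens) (l : Γ(L, U)) :
    KoszTw.tprod L q U (fun _ => l) = gpow l q := by
  rw [tprod_eq_tmk]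
  have h := tmk_smul l q (fun _ => (1 : Γ(X, U)))
  simp only [one_smul, Finset.prod_const_one] at h
  exact h

/-- the inverse of the right unitor on sections -/
theorem unitorR_inv_app (M : X.Modules) (U : X.Opens) (m : Γ(M, U)) :
    (SecTwist.unitorR M).inv.app U m = tm M (Coh.structureModule X) U m (one' U) := by
  have h1 : (SecTwist.unitorR M).hom.app U (tm M (Coh.structureModule X) U m (one' U)) = m := by
    have := SecTwist.unitorR_tmul M U m 1
    rw [one_smul] at this
    exact this
  have h2 : (SecTwist.unitorR M).inv.app U ((SecTwist.unitorR M).hom.app U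
      (tm M (Coh.structureModule X) U m (one' U))) =
      tm M (Coh.structureModule X) U m (one' U) := by
    have : ((SecTwist.unitorR M).hom ≫ (SecTwist.unitorR M).inv).app U
        (tm M (Coh.structureModule X) U m (one' U)) =
        tm M (Coh.structureModule X) U m (one' U) := by
      rw [Iso.hom_inv_id]
      rfl
    exact this
  rw [h1] at h2
  exact h2

end Loc

section Good

open Groth.Agent.Helper1.PFrame

variable {F L : X.Modules}

/-- affine opens with a generator of `L` form a basis -/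
theorem exists_good (hL : PicF.IsInvertible L) (x : X) (O : X.Opens) (hx : x ∈ O) :
    ∃ (U : X.affineOpens) (l : Γ(L, U.1)), x ∈ U.1 ∧ U.1 ≤ O ∧ IsGen L U.1 l := by
  obtain ⟨W, a, hxW, ha⟩ := exists_isGen hL x
  obtain ⟨_, ⟨V, hV, rfl⟩, hxV, hVO⟩ :=
    X.isBasis_affineOpens.exists_subset_of_mem_open (show x ∈ W ⊓ O from ⟨hxW, hx⟩) (W ⊓ O).2
  have hVW : V ≤ W := fun y hy => (hVO hy).1
  exact ⟨⟨V, hV⟩, res L hVW a, hxV, fun y hy => (hVO hy).2, ha.res hVW⟩

/-- affine opens with a generator of `L` and a basis of `F` form a basis -/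
theorem exists_good_free (hF : FlatMod.IsFinLocFree F) (hL : PicF.IsInvertible L) (x : X)
    (O : X.Opens) (hx : x ∈ O) :
    ∃ (U : X.affineOpens) (l : Γ(L, U.1)), x ∈ U.1 ∧ U.1 ≤ O ∧ IsGen L U.1 l ∧
      Module.Free Γ(X, U.1) Γ(F, U.1) := by
  obtain ⟨W₂, n, b, hxW₂, hb⟩ := exists_isFrame hF x
  obtain ⟨U, l, hxU, hUO, hl⟩ := exists_good hL x (O ⊓ W₂) ⟨hx, hxW₂⟩
  refine ⟨U, l, hxU, hUO.trans inf_le_left, hl, ?_⟩
  have hbU : IsBasisOn F U.1 (fun i => res F (hUO.trans inf_le_right) (b i)) :=
    hb.isBasisOn.res (hUO.trans inf_le_right)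
  have hbij := hbU.bijective_self
  let φ : (Fin n → Γ(X, U.1)) →ₗ[Γ(X, U.1)] Γ(F, U.1) :=
    { toFun := fun r => ∑ i, r i • res F (hUO.trans inf_le_right) (b i)
      map_add' := fun r r' => by
        simp only [Pi.add_apply, add_smul, Finset.sum_add_distrib]
      map_smul' := fun c r => by
        simp only [Pi.smul_apply, smul_eq_mul, mul_smul, Finset.smul_sum, RingHom.id_apply] }
  exact Module.Free.of_equiv (LinearEquiv.ofBijective φ hbij)

end Good

end Groth.Agent.Lead.KoszTwL
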