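import Mathlib
import Groth.Agent.Lib.Lead.KoszTw1

/-!
# Kernels of twisted Koszul differentials (lead)
-/

set_option backward.isDefEq.respectTransparency.types false
set_option autoImplicit false
set_option synthInstance.maxHeartbeats 400000
set_option linter.style.haveILetI false
set_option linter.unusedSectionVars false
universe u
open CategoryTheory CategoryTheory.Limits AlgebraicGeometry TopologicalSpace Opposite

namespace Groth.Agent.Lead.KoszTwL

open Groth.Agent.Helper1 Groth.Agent.Helper1.QcCech Groth.Agent.Helper1.LGen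
  Groth.Agent.Helper1.TmulLib Groth.Agent.Helper1.TensGen Groth.Agent.Helper1.TwistSec
  Groth.Agent.Helper1.TwForm Groth.Agent.Helper1.AmpleLib
  Groth.Agent.Lead.ExtTw Groth.Agent.Lead.KoszFun

variable {X : Scheme.{u}}

section Alg

theorem eq_zero_of_smul_eq_zero_of_free {R M : Type*} [CommRing R] [AddCommGroup M] [Module R M]
    [Module.Free R M] (a : R) (ha : ∀ r : R, r * a = 0 → r = 0) (m : M) (h : a • m = 0) :
    m = 0 := by
  let b := Module.Free.chooseBasis R M
  apply b.repr.injective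
  rw [map_zero]
  ext i
  have h1 : b.repr (a • m) i = 0 := by rw [h, map_zero]; rfl
  rw [map_smul, Finsupp.smul_apply, smul_eq_mul, mul_comm] at h1
  exact ha _ h1

end Alg

section K

variable {F L : X.Modules} {s : F ⟶ Coh.structureModule X} {lam : Coh.structureModule X ⟶ L}
  {t : CohB1.tensorMod F L ⟶ Coh.structureModule X}
  (C : KoszSh.Cx F s) (D : KoszSh.Cx (CohB1.tensorMod F L) t) (q : ℕ)

/-- the local identification `Λ^q(F ⊗ L)(U) ≃ (Λ^q F ⊗ L^{q+1})(U)` -/
noncomputable def nu (U : X.affineOpens) (l : Γ(L, U.1)) (hl : IsGen L U.1 l) :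
    Γ(D.K.X q, U.1) ≃ₗ[Γ(X, U.1)]
      Γ(CohB1.tensorMod (C.K.X q) (CohB1.tensorPow L (q + 1)), U.1) :=
  (D.loc q U).trans ((extEquiv q (tauG F U.1 l hl)).symm.trans ((C.loc q U).symm.trans
    (tauG (C.K.X q) U.1 (gpow l (q + 1)) (isGen_gpow hl (q + 1)))))

/-- the first map -/
noncomputable def f1 (θ : KoszTw.CxDecData C D (q + 1)) :
    D.K.X (q + 1) ⟶ CohB1.tensorMod (C.K.X q) (CohB1.tensorPow L (q + 1)) :=
  θ.iso.hom ≫ KoszTw.tensorMap (C.K.d (q + 1) q) (𝟙 (CohB1.tensorPow L (q + 1)))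

theorem f1_gen (θ : KoszTw.CxDecData C D (q + 1)) (U : X.affineOpens) (l : Γ(L, U.1))
    (f : Fin (q + 1) → Γ(F, U.1)) :
    (f1 C D q θ).app U.1 (gC D (q + 1) U (fun i => tm F L U.1 (f i) l)) =
      tm (C.K.X q) (CohB1.tensorPow L (q + 1)) U.1
        ((C.loc q U).symm (KoszSh.dGen (KoszSh.secForm s U.1) q f)) (gpow l (q + 1)) := by
  have h1 : (f1 C D q θ).app U.1 (gC D (q + 1) U (fun i => tm F L U.1 (f i) l)) =
      (KoszTw.tensorMap (C.K.d (q + 1) q) (𝟙 (CohB1.tensorPow L (q + 1)))).app U.1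
        (θ.iso.hom.app U.1 (gC D (q + 1) U (fun i => tm F L U.1 (f i) l))) := rfl
  have h2 : θ.iso.hom.app U.1 (gC D (q + 1) U (fun i => tm F L U.1 (f i) l)) =
      tm (C.K.X (q + 1)) (CohB1.tensorPow L (q + 1)) U.1 (gC C (q + 1) U f)
        (KoszTw.tprod L (q + 1) U.1 (fun _ => l)) := θ.rule U f (fun _ => l)
  have h3 : (C.K.d (q + 1) q).app U.1 (gC C (q + 1) U f) =
      (C.loc q U).symm (KoszSh.dGen (KoszSh.secForm s U.1) q f) := C.rule q U f
  have h4 := KoszTw.tensorMap_tmul (C.K.d (q + 1) q) (𝟙 (CohB1.tensorPow L (q + 1))) U.1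
    (gC C (q + 1) U f) (KoszTw.tprod L (q + 1) U.1 (fun _ => l))
  rw [h1, h2]
  refine h4.trans ?_
  rw [h3, tprod_const]
  rfl

theorem nu_d_gen (htri : KoszTw.TwistTriangle s lam t) (U : X.affineOpens) (l : Γ(L, U.1))
    (hl : IsGen L U.1 l) (a : Γ(X, U.1)) (ha : a • l = lam.app U.1 (one' U.1))
    (f : Fin (q + 1) → Γ(F, U.1)) :
    a • nu C D q U l hl ((D.K.d (q + 1) q).app U.1
        (gC D (q + 1) U (fun i => tm F L U.1 (f i) l))) =
      tm (C.K.X q) (CohB1.tensorPow L (q + 1)) U.1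
        ((C.loc q U).symm (KoszSh.dGen (KoszSh.secForm s U.1) q f)) (gpow l (q + 1)) := by
  have h1 : (D.K.d (q + 1) q).app U.1 (gC D (q + 1) U (fun i => tm F L U.1 (f i) l)) =
      (D.loc q U).symm (KoszSh.dGen (KoszSh.secForm t U.1) q
        (fun i => tauG F U.1 l hl (f i))) := D.rule q U _
  rw [h1, ← map_smul]
  have h2 : ∀ z : ↥(⋀[Γ(X, U.1)]^q Γ(CohB1.tensorMod F L, U.1)),
      nu C D q U l hl ((D.loc q U).symm z) =
        tauG (C.K.X q) U.1 (gpow l (q + 1)) (isGen_gpow hl (q + 1))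
          ((C.loc q U).symm ((extEquiv q (tauG F U.1 l hl)).symm z)) := by
    intro z
    unfold nu
    simp only [LinearEquiv.trans_apply]
    rw [LinearEquiv.apply_symm_apply]
  rw [← map_smul, h2, map_smul, dGen_tau htri U.1 l hl a ha q f]
  rfl

theorem key (htri : KoszTw.TwistTriangle s lam t) (θ : KoszTw.CxDecData C D (q + 1))
    (U : X.affineOpens) (l : Γ(L, U.1))
    (hl : IsGen L U.1 l) (a : Γ(X, U.1)) (ha : a • l = lam.app U.1 (one' U.1))
    (x : Γ(D.K.X (q + 1), U.1)) :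
    (f1 C D q θ).app U.1 x = a • nu C D q U l hl ((D.K.d (q + 1) q).app U.1 x) := by
  have h : fU (f1 C D q θ) U.1 =
      a • ((nu C D q U l hl).toLinearMap ∘ₗ fU (D.K.d (q + 1) q) U.1) := by
    apply LinearMap.ext_on (span_gC D (q + 1) U)
    rintro _ ⟨g, rfl⟩
    have hg : g = fun i => tm F L U.1 ((tauG F U.1 l hl).symm (g i)) l := by
      funext i
      exact ((tauG F U.1 l hl).apply_symm_apply (g i)).symm
    rw [hg]
    exact (f1_gen C D q θ U l _).trans (nu_d_gen C D q htri U l hl a ha _).symm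
  exact congrArg (fun φ => φ x) h

end K

section Main

variable {F L : X.Modules} {s : F ⟶ Coh.structureModule X} {lam : Coh.structureModule X ⟶ L}
  {t : CohB1.tensorMod F L ⟶ Coh.structureModule X}

theorem coeff_regular [Mono lam] (U : X.Opens) (l : Γ(L, U)) (a : Γ(X, U))
    (ha : a • l = lam.app U (one' U)) (r : Γ(X, U)) (h : r * a = 0) : r = 0 := by
  have h1 : lam.app U (r • one' U) = 0 := by
    rw [Scheme.Modules.Hom.app_smul, ← ha, ← mul_smul, h, zero_smul]
  have h2 : lam.app U (r • one' U) = lam.app U 0 := by rw [h1, map_zero]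
  have h3 := FtLocal.app_injective_of_mono lam U h2
  rw [smul_one'] at h3
  exact h3

/-- **the kernel of the twisted Koszul differential** -/
theorem main (hF : FlatMod.IsFinLocFree F) (hL : PicF.IsInvertible L) [Mono lam]
    (htri : KoszTw.TwistTriangle s lam t)
    (C : KoszSh.Cx F s) (D : KoszSh.Cx (CohB1.tensorMod F L) t) (q : ℕ)
    (θ : KoszTw.CxDecData C D (q + 1)) :
    Limits.kernelSubobject (θ.iso.hom ≫
        KoszTw.tensorMap (C.K.d (q + 1) q) (𝟙 (CohB1.tensorPow L (q + 1)))) =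
      Limits.kernelSubobject (D.K.d (q + 1) q) := by
  apply kernelSubobject_eq_of_locally
  intro x O hx
  obtain ⟨U, l, hxU, hUO, hl, hfree⟩ := exists_good_free hF hL x O hx
  refine ⟨U.1, hxU, hUO, fun y => ?_⟩
  obtain ⟨a, ha⟩ := hl.exists_coeff (lam.app U.1 (one' U.1))
  have hk := key C D q htri θ U l hl a ha y
  change (f1 C D q θ).app U.1 y = 0 ↔ _
  rw [hk]
  constructor
  · intro h0
    -- transport to the free module `Λ^q Γ(F, U)`
    let e : Γ(CohB1.tensorMod (C.K.X q) (CohB1.tensorPow L (q + 1)), U.1) ≃ₗ[Γ(X, U.1)]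
        ↥(⋀[Γ(X, U.1)]^q Γ(F, U.1)) :=
      ((C.loc q U).symm.trans
        (tauG (C.K.X q) U.1 (gpow l (q + 1)) (isGen_gpow hl (q + 1)))).symm
    have h1 : a • e (nu C D q U l hl ((D.K.d (q + 1) q).app U.1 y)) = 0 := by
      rw [← map_smul, h0, map_zero]
    haveI : Module.Free Γ(X, U.1) Γ(F, U.1) := hfree
    have h2 := eq_zero_of_smul_eq_zero_of_free (R := Γ(X, U.1))
      (M := ↥(⋀[Γ(X, U.1)]^q Γ(F, U.1))) a (coeff_regular U.1 l a ha) _ h1
    have h3 : nu C D q U l hl ((D.K.d (q + 1) q).app U.1 y) = 0 :=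
      e.injective (h2.trans (map_zero e).symm)
    exact (nu C D q U l hl).injective (h3.trans (map_zero _).symm)
  · intro h0
    rw [h0, map_zero, smul_zero]

end Main

end Groth.Agent.Lead.KoszTwL
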