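import Mathlib
import Groth.Agent.Lib.Lead.KoszTw1

/-!
# Images of twisted Koszul differentials (lead)
-/

set_option backward.isDefEq.respectTransparency.types false
set_option autoImplicit false
set_option synthInstance.maxHeartbeats 400000
set_option linter.style.haveILetI false
set_option linter.unusedSectionVars false
universe u
open CategoryTheory CategoryTheory.Limits AlgebraicGeometry TopologicalSpace Opposite

namespace Groth.Agent.Lead.KoszTwL

open Groth.Agent.Helper1 Groth.Agent.Helper1.QcCech Groth.Agent.Helper1.LGen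
  Groth.Agent.Helper1.TmulLib Groth.Agent.Helper1.TensGen Groth.Agent.Helper1.TwistSec
  Groth.Agent.Helper1.TwForm Groth.Agent.Helper1.AmpleLib
  Groth.Agent.Lead.ExtTw Groth.Agent.Lead.KoszFun

variable {X : Scheme.{u}}

section I

variable {F L : X.Modules} {s : F ⟶ Coh.structureModule X} {lam : Coh.structureModule X ⟶ L}
  {t : CohB1.tensorMod F L ⟶ Coh.structureModule X}
  (C : KoszSh.Cx F s) (D : KoszSh.Cx (CohB1.tensorMod F L) t) (q : ℕ)

/-- the first map -/
noncomputable def alpha :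
    CohB1.tensorMod (CohB1.tensorMod (C.K.X (q + 1)) (CohB1.tensorPow L q)) L ⟶
      CohB1.tensorMod (CohB1.tensorMod (C.K.X q) (CohB1.tensorPow L q)) L :=
  KoszTw.tensorMap (KoszTw.tensorMap (C.K.d (q + 1) q) (𝟙 (CohB1.tensorPow L q))) (𝟙 L)

/-- the second map -/
noncomputable def beta (lam : Coh.structureModule X ⟶ L) (θ : KoszTw.CxDecData C D q) :
    D.K.X (q + 1) ⟶ CohB1.tensorMod (CohB1.tensorMod (C.K.X q) (CohB1.tensorPow L q)) L :=
  (SecTwist.unitorR (D.K.X (q + 1))).inv ≫ KoszTw.tensorMap (D.K.d (q + 1) q) lam ≫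
    KoszTw.tensorMap θ.iso.hom (𝟙 L)

/-- the local identification of the sources -/
noncomputable def eps (U : X.affineOpens) (l : Γ(L, U.1)) (hl : IsGen L U.1 l) :
    Γ(D.K.X (q + 1), U.1) ≃ₗ[Γ(X, U.1)]
      Γ(CohB1.tensorMod (CohB1.tensorMod (C.K.X (q + 1)) (CohB1.tensorPow L q)) L, U.1) :=
  (D.loc (q + 1) U).trans ((extEquiv (q + 1) (tauG F U.1 l hl)).symm.trans
    ((C.loc (q + 1) U).symm.trans
      ((tauG (C.K.X (q + 1)) U.1 (gpow l q) (isGen_gpow hl q)).trans
        (tauG (CohB1.tensorMod (C.K.X (q + 1)) (CohB1.tensorPow L q)) U.1 l hl))))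

theorem eps_gen (U : X.affineOpens) (l : Γ(L, U.1)) (hl : IsGen L U.1 l)
    (f : Fin (q + 1) → Γ(F, U.1)) :
    eps C D q U l hl (gC D (q + 1) U (fun i => tauG F U.1 l hl (f i))) =
      tm (CohB1.tensorMod (C.K.X (q + 1)) (CohB1.tensorPow L q)) L U.1
        (tm (C.K.X (q + 1)) (CohB1.tensorPow L q) U.1 (gC C (q + 1) U f) (gpow l q)) l := by
  unfold eps gC
  simp only [LinearEquiv.trans_apply]
  rw [LinearEquiv.apply_symm_apply, extEquiv_symm_ιMulti]
  rfl

theorem alpha_tm (U : X.Opens) (n : Γ(C.K.X (q + 1), U)) (x : Γ(CohB1.tensorPow L q, U))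
    (y : Γ(L, U)) :
    (alpha C q).app U (tm (CohB1.tensorMod (C.K.X (q + 1)) (CohB1.tensorPow L q)) L U
        (tm (C.K.X (q + 1)) (CohB1.tensorPow L q) U n x) y) =
      tm (CohB1.tensorMod (C.K.X q) (CohB1.tensorPow L q)) L U
        (tm (C.K.X q) (CohB1.tensorPow L q) U ((C.K.d (q + 1) q).app U n) x) y := by
  have h1 := KoszTw.tensorMap_tmul
    (KoszTw.tensorMap (C.K.d (q + 1) q) (𝟙 (CohB1.tensorPow L q))) (𝟙 L) U
    (tm (C.K.X (q + 1)) (CohB1.tensorPow L q) U n x) y
  have h2 := KoszTw.tensorMap_tmul (C.K.d (q + 1) q) (𝟙 (CohB1.tensorPow L q)) U n x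
  refine h1.trans ?_
  exact congrArg (fun z => tm (CohB1.tensorMod (C.K.X q) (CohB1.tensorPow L q)) L U z y) h2

/-- the decomposition isomorphism in terms of the local identifications -/
theorem theta_loc (θ : KoszTw.CxDecData C D q) (U : X.affineOpens) (l : Γ(L, U.1))
    (hl : IsGen L U.1 l) (w : ↥(⋀[Γ(X, U.1)]^q Γ(CohB1.tensorMod F L, U.1))) :
    θ.iso.hom.app U.1 ((D.loc q U).symm w) =
      tauG (C.K.X q) U.1 (gpow l q) (isGen_gpow hl q)
        ((C.loc q U).symm ((extEquiv q (tauG F U.1 l hl)).symm w)) := by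
  have h : (fU θ.iso.hom U.1) ∘ₗ (D.loc q U).symm.toLinearMap =
      (tauG (C.K.X q) U.1 (gpow l q) (isGen_gpow hl q)).toLinearMap ∘ₗ
        (C.loc q U).symm.toLinearMap ∘ₗ (extEquiv q (tauG F U.1 l hl)).symm.toLinearMap := by
    apply LinearMap.ext_on (exteriorPower.ιMulti_span Γ(X, U.1) q Γ(CohB1.tensorMod F L, U.1))
    rintro _ ⟨g, rfl⟩
    have hg : g = fun i => tauG F U.1 l hl ((tauG F U.1 l hl).symm (g i)) := by
      funext i
      exact ((tauG F U.1 l hl).apply_symm_apply (g i)).symm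
    rw [hg]
    simp only [LinearMap.comp_apply, LinearEquiv.coe_coe]
    rw [extEquiv_symm_ιMulti]
    have h2 := θ.rule U (fun i => (tauG F U.1 l hl).symm (g i)) (fun _ => l)
    rw [tprod_const] at h2
    exact h2
  exact congrArg (fun φ => φ w) h

theorem beta_gen (htri : KoszTw.TwistTriangle s lam t) (θ : KoszTw.CxDecData C D q)
    (U : X.affineOpens) (l : Γ(L, U.1)) (hl : IsGen L U.1 l) (a : Γ(X, U.1))
    (ha : a • l = lam.app U.1 (one' U.1)) (f : Fin (q + 1) → Γ(F, U.1)) :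
    (beta C D q lam θ).app U.1 (gC D (q + 1) U (fun i => tauG F U.1 l hl (f i))) =
      tm (CohB1.tensorMod (C.K.X q) (CohB1.tensorPow L q)) L U.1
        (tm (C.K.X q) (CohB1.tensorPow L q) U.1
          ((C.loc q U).symm (KoszSh.dGen (KoszSh.secForm s U.1) q f)) (gpow l q)) l := by
  set x := gC D (q + 1) U (fun i => tauG F U.1 l hl (f i)) with hx
  have h1 : (beta C D q lam θ).app U.1 x =
      (KoszTw.tensorMap θ.iso.hom (𝟙 L)).app U.1
        ((KoszTw.tensorMap (D.K.d (q + 1) q) lam).app U.1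
          ((SecTwist.unitorR (D.K.X (q + 1))).inv.app U.1 x)) := rfl
  have h2 := unitorR_inv_app (D.K.X (q + 1)) U.1 x
  have h3 := KoszTw.tensorMap_tmul (D.K.d (q + 1) q) lam U.1 x (one' U.1)
  have h4 := KoszTw.tensorMap_tmul θ.iso.hom (𝟙 L) U.1 ((D.K.d (q + 1) q).app U.1 x)
    (lam.app U.1 (one' U.1))
  have h5 : (D.K.d (q + 1) q).app U.1 x =
      (D.loc q U).symm (KoszSh.dGen (KoszSh.secForm t U.1) q
        (fun i => tauG F U.1 l hl (f i))) := D.rule q U _
  have h6 := theta_loc C D q θ U l hl (KoszSh.dGen (KoszSh.secForm t U.1) q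
        (fun i => tauG F U.1 l hl (f i)))
  have h7 := dGen_tau htri U.1 l hl a ha q f
  rw [h1, h2]
  refine (congrArg _ h3).trans (h4.trans ?_)
  rw [h5, h6, ← ha]
  change tm _ L U.1 _ (a • l) = _
  rw [tm_smul_right, ← tm_smul_left, ← map_smul, ← map_smul, h7]
  rfl

theorem key_image (htri : KoszTw.TwistTriangle s lam t) (θ : KoszTw.CxDecData C D q)
    (U : X.affineOpens) (l : Γ(L, U.1)) (hl : IsGen L U.1 l) (a : Γ(X, U.1))
    (ha : a • l = lam.app U.1 (one' U.1)) (x : Γ(D.K.X (q + 1), U.1)) :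
    (beta C D q lam θ).app U.1 x = (alpha C q).app U.1 (eps C D q U l hl x) := by
  have h : fU (beta C D q lam θ) U.1 =
      fU (alpha C q) U.1 ∘ₗ (eps C D q U l hl).toLinearMap := by
    apply LinearMap.ext_on (span_gC D (q + 1) U)
    rintro _ ⟨g, rfl⟩
    have hg : g = fun i => tauG F U.1 l hl ((tauG F U.1 l hl).symm (g i)) := by
      funext i
      exact ((tauG F U.1 l hl).apply_symm_apply (g i)).symm
    rw [hg]
    refine (beta_gen C D q htri θ U l hl a ha _).trans ?_
    simp only [LinearMap.comp_apply, LinearEquiv.coe_coe]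
    rw [eps_gen]
    refine ((alpha_tm C q U.1 _ _ _).trans ?_).symm
    have h3 : (C.K.d (q + 1) q).app U.1 (gC C (q + 1) U
        (fun i => (tauG F U.1 l hl).symm (g i))) =
        (C.loc q U).symm (KoszSh.dGen (KoszSh.secForm s U.1) q
          (fun i => (tauG F U.1 l hl).symm (g i))) := C.rule q U _
    rw [h3]
  exact congrArg (fun φ => φ x) h

end I

section Main

variable {F L : X.Modules} {s : F ⟶ Coh.structureModule X} {lam : Coh.structureModule X ⟶ L}
  {t : CohB1.tensorMod F L ⟶ Coh.structureModule X}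

/-- **the image of the twisted Koszul differential** -/
theorem main_image (hL : PicF.IsInvertible L) (htri : KoszTw.TwistTriangle s lam t)
    (C : KoszSh.Cx F s) (D : KoszSh.Cx (CohB1.tensorMod F L) t) (q : ℕ)
    (θ : KoszTw.CxDecData C D q) :
    Limits.imageSubobject (KoszTw.tensorMap
        (KoszTw.tensorMap (C.K.d (q + 1) q) (𝟙 (CohB1.tensorPow L q))) (𝟙 L)) =
      Limits.imageSubobject ((SecTwist.unitorR (D.K.X (q + 1))).inv ≫
        KoszTw.tensorMap (D.K.d (q + 1) q) lam ≫ KoszTw.tensorMap θ.iso.hom (𝟙 L)) := by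
  apply le_antisymm
  · apply imageSubobject_le_of_locally
    intro x O hx
    obtain ⟨U, l, hxU, hUO, hl⟩ := exists_good hL x O hx
    obtain ⟨a, ha⟩ := hl.exists_coeff (lam.app U.1 (one' U.1))
    refine ⟨U.1, hxU, hUO, fun y => ⟨(eps C D q U l hl).symm y, ?_⟩⟩
    have := key_image C D q htri θ U l hl a ha ((eps C D q U l hl).symm y)
    rw [LinearEquiv.apply_symm_apply] at this
    exact this
  · apply imageSubobject_le_of_locally
    intro x O hx
    obtain ⟨U, l, hxU, hUO, hl⟩ := exists_good hL x O hx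
    obtain ⟨a, ha⟩ := hl.exists_coeff (lam.app U.1 (one' U.1))
    refine ⟨U.1, hxU, hUO, fun y => ⟨eps C D q U l hl y, ?_⟩⟩
    exact (key_image C D q htri θ U l hl a ha y).symm

end Main

end Groth.Agent.Lead.KoszTwL
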