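import Mathlib

set_option backward.isDefEq.respectTransparency.types false
set_option synthInstance.maxHeartbeats 400000
set_option linter.style.haveILetI false
set_option linter.unusedSectionVars false
set_option autoImplicit false

namespace Groth.Agent.Lead.NewtonHensel

open Polynomial IsLocalRing

variable {R : Type*} [CommRing R] [HenselianLocalRing R]

theorem isUnit_add_of_mem {u x : R} (hu : IsUnit u) (hx : x ∈ maximalIdeal R) : IsUnit (u + x) := by
  by_contra h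
  have h1 : u + x ∈ maximalIdeal R := (IsLocalRing.mem_maximalIdeal _).2 h
  have h2 : u ∈ maximalIdeal R := by
    have := (maximalIdeal R).sub_mem h1 hx
    simpa using this
  exact (IsLocalRing.mem_maximalIdeal _).1 h2 hu

/-- Newton–Hensel in a Henselian local ring: if `p(a) = p'(a)² m` with `m ∈ 𝔪`, then `p` has a
root `a + p'(a) y` with `y ∈ 𝔪`. -/
theorem exists_root (p : R[X]) (a m : R) (hm : m ∈ maximalIdeal R)
    (h : p.eval a = (p.derivative.eval a) ^ 2 * m) :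
    ∃ y ∈ maximalIdeal R, p.IsRoot (a + p.derivative.eval a * y) := by
  obtain ⟨d, hd⟩ : ∃ d, d = p.derivative.eval a := ⟨_, rfl⟩
  obtain ⟨n, hn⟩ : ∃ n, n = p.natDegree := ⟨_, rfl⟩
  obtain ⟨T, hT⟩ : ∃ T, T = taylor a p := ⟨_, rfl⟩
  obtain ⟨c, hc⟩ : ∃ c : ℕ → R, c = fun j => T.coeff (j + 2) * d ^ j * m ^ (j + 1) := ⟨_, rfl⟩
  obtain ⟨S, hS⟩ : ∃ S : R[X], S = ∑ j ∈ Finset.range n, C (c j) * X ^ (n - j) := ⟨_, rfl⟩
  have hcm : ∀ j, c j ∈ maximalIdeal R := by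
    intro j
    rw [hc]
    change T.coeff (j + 2) * d ^ j * m ^ (j + 1) ∈ _
    rw [pow_succ]
    exact Ideal.mul_mem_left _ _ (Ideal.mul_mem_left _ _ hm)
  have hSdeg : S.degree < (n + 1 : ℕ) := by
    rw [hS]
    refine lt_of_le_of_lt (degree_sum_le _ _) ?_
    rw [Finset.sup_lt_iff (by exact WithBot.bot_lt_coe _)]
    intro j hj
    refine lt_of_le_of_lt (degree_C_mul_X_pow_le _ _) ?_
    exact_mod_cast Nat.lt_succ_of_le (Nat.sub_le n j)
  have hmonic : (X ^ (n + 2) + (X ^ (n + 1) + S) : R[X]).Monic := by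
    refine monic_X_pow_add ?_
    refine lt_of_le_of_lt (degree_add_le _ _) ?_
    rw [max_lt_iff]
    constructor
    · rw [degree_X_pow]; exact_mod_cast Nat.lt_succ_self _
    · exact lt_trans hSdeg (by exact_mod_cast Nat.lt_succ_self _)
  have hSeval : ∀ x : R, S.eval x ∈ maximalIdeal R := by
    intro x
    rw [hS, eval_finset_sum]
    refine Ideal.sum_mem _ fun j _ => ?_
    rw [eval_mul, eval_C]
    exact Ideal.mul_mem_right _ _ (hcm j)
  have hSder : ∀ x : R, S.derivative.eval x ∈ maximalIdeal R := by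
    intro x
    rw [hS, derivative_sum, eval_finset_sum]
    refine Ideal.sum_mem _ fun j _ => ?_
    rw [derivative_C_mul, eval_mul, eval_C]
    exact Ideal.mul_mem_right _ _ (hcm j)
  have heval : (X ^ (n + 2) + (X ^ (n + 1) + S) : R[X]).eval (-1) ∈ maximalIdeal R := by
    rw [eval_add, eval_add, eval_pow, eval_pow, eval_X, ← add_assoc]
    have h0 : ((-1 : R)) ^ (n + 2) + (-1) ^ (n + 1) = 0 := by
      rw [pow_succ (-1 : R) (n + 1)]; ring
    rw [h0, zero_add]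
    exact hSeval _
  have hder : IsUnit ((X ^ (n + 2) + (X ^ (n + 1) + S) : R[X]).derivative.eval (-1)) := by
    rw [derivative_add, derivative_add, derivative_X_pow, derivative_X_pow, eval_add, eval_add,
      ← add_assoc]
    refine isUnit_add_of_mem ?_ (hSder _)
    have h0 : eval (-1 : R) (C ((n + 2 : ℕ) : R) * X ^ (n + 2 - 1)) +
        eval (-1 : R) (C ((n + 1 : ℕ) : R) * X ^ (n + 1 - 1)) = -((-1 : R) ^ n) := by
      simp only [eval_mul, eval_C, eval_pow, eval_X, Nat.add_sub_cancel]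
      push_cast
      rw [pow_succ (-1 : R) n]
      ring
    rw [h0]
    exact ((isUnit_one.neg).pow n).neg
  obtain ⟨v, hv, hv1⟩ := HenselianLocalRing.is_henselian _ hmonic (-1) heval hder
  have hvu : IsUnit v := by
    have h1 : v = -1 + (v - -1) := by ring
    rw [h1]
    exact isUnit_add_of_mem isUnit_one.neg hv1
  obtain ⟨u, rfl⟩ := hvu
  refine ⟨m * ↑u⁻¹, Ideal.mul_mem_right _ _ hm, ?_⟩
  rw [IsRoot.def, ← hd]
  have h1 : p.eval (a + d * (m * ↑u⁻¹)) = T.eval (d * (m * ↑u⁻¹)) := by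
    rw [hT, taylor_eval, add_comm]
  have hTdeg : T.natDegree < n + 2 := by
    rw [hT, natDegree_taylor, ← hn]; omega
  rw [h1, eval_eq_sum_range' hTdeg, Finset.sum_range_succ', Finset.sum_range_succ']
  have hT0 : T.coeff 0 = d ^ 2 * m := by
    rw [hT, taylor_coeff_zero, h, ← hd]
  have hT1 : T.coeff 1 = d := by
    rw [hT, taylor_coeff_one, ← hd]
  rw [hT0, hT1]
  have h2 : ∀ j ∈ Finset.range n, T.coeff (j + 1 + 1) * (d * (m * ↑u⁻¹)) ^ (j + 1 + 1) =
      d ^ 2 * m * ((↑u⁻¹ : R) ^ (n + 2) * (c j * (↑u : R) ^ (n - j))) := by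
    intro j hj
    have hjn : j < n := Finset.mem_range.1 hj
    have h3 : (↑u⁻¹ : R) ^ (n + 2) * (↑u : R) ^ (n - j) = (↑u⁻¹ : R) ^ (j + 2) := by
      have h4 : n + 2 = (j + 2) + (n - j) := by omega
      rw [h4, pow_add, mul_assoc, ← mul_pow, Units.inv_mul, one_pow, mul_one]
    rw [hc]
    change _ = d ^ 2 * m * ((↑u⁻¹ : R) ^ (n + 2) * (T.coeff (j + 2) * d ^ j * m ^ (j + 1) * _))
    calc T.coeff (j + 1 + 1) * (d * (m * ↑u⁻¹)) ^ (j + 1 + 1)
        = d ^ 2 * m * (T.coeff (j + 2) * d ^ j * m ^ (j + 1) * (↑u⁻¹ : R) ^ (j + 2)) := by ring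
      _ = _ := by rw [← h3]; ring
  rw [Finset.sum_congr rfl h2, ← Finset.mul_sum, ← Finset.mul_sum]
  have h5 : eval (↑u : R) (X ^ (n + 2) + (X ^ (n + 1) + S) : R[X]) = 0 := hv
  rw [eval_add, eval_add, eval_pow, eval_pow, eval_X, hS, eval_finset_sum] at h5
  simp only [eval_mul, eval_C, eval_pow, eval_X] at h5
  have h6 : (↑u⁻¹ : R) ^ (n + 2) * (↑u : R) ^ (n + 2) = 1 := by
    rw [← mul_pow, Units.inv_mul, one_pow]
  have h7 : (↑u⁻¹ : R) ^ (n + 2) * (↑u : R) ^ (n + 1) = ↑u⁻¹ := by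
    calc (↑u⁻¹ : R) ^ (n + 2) * (↑u : R) ^ (n + 1)
        = (↑u⁻¹ : R) * ((↑u⁻¹ : R) ^ (n + 1) * (↑u : R) ^ (n + 1)) := by ring
      _ = ↑u⁻¹ := by rw [← mul_pow, Units.inv_mul, one_pow, mul_one]
  have h8 : (↑u⁻¹ : R) ^ (n + 2) * ((↑u : R) ^ (n + 2) + ((↑u : R) ^ (n + 1) +
      ∑ i ∈ Finset.range n, c i * (↑u : R) ^ (n - i))) =
      1 + ↑u⁻¹ + (↑u⁻¹ : R) ^ (n + 2) * ∑ i ∈ Finset.range n, c i * (↑u : R) ^ (n - i) := by
    rw [mul_add, mul_add, h6, h7]; ring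
  calc d ^ 2 * m * ((↑u⁻¹ : R) ^ (n + 2) * ∑ i ∈ Finset.range n, c i * (↑u : R) ^ (n - i)) +
        d * (d * (m * ↑u⁻¹)) ^ (0 + 1) + d ^ 2 * m * (d * (m * ↑u⁻¹)) ^ 0
      = d ^ 2 * m * ((↑u⁻¹ : R) ^ (n + 2) * ((↑u : R) ^ (n + 2) + ((↑u : R) ^ (n + 1) +
          ∑ i ∈ Finset.range n, c i * (↑u : R) ^ (n - i)))) := by
        rw [h8]; ring
    _ = 0 := by rw [h5]; ring

/-- `aeval` form of `exists_root`. -/
theorem exists_root_aeval {S : Type*} [CommRing S] [Algebra S R] (p : S[X]) (a m : R)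
    (hm : m ∈ maximalIdeal R) (h : aeval a p = (aeval a p.derivative) ^ 2 * m) :
    ∃ y ∈ maximalIdeal R, aeval (a + aeval a p.derivative * y) p = 0 := by
  have h1 : (p.map (algebraMap S R)).eval a =
      ((p.map (algebraMap S R)).derivative.eval a) ^ 2 * m := by
    rw [derivative_map, eval_map_algebraMap, eval_map_algebraMap]
    exact h
  obtain ⟨y, hy, hroot⟩ := exists_root (p.map (algebraMap S R)) a m hm h1
  refine ⟨y, hy, ?_⟩
  rw [IsRoot.def, derivative_map, eval_map_algebraMap, eval_map_algebraMap] at hroot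
  exact hroot

theorem isUnit_one_add_of_mem {x : R} (hx : x ∈ maximalIdeal R) : IsUnit (1 + x) :=
  isUnit_add_of_mem isUnit_one hx

/-- First approximation step: a root `α` of `f` moves to a root `β` of the nearby polynomial
`g = f + ϖ^(2r+1) h`, provided `f'(α)` divides `ϖ^r`; moreover `f'(β)` still divides `ϖ^r`. -/
theorem approx_root {S : Type*} [CommRing S] [Algebra S R] [IsDomain R] (ϖ : S)
    (hϖ : algebraMap S R ϖ ∈ maximalIdeal R) (r : ℕ) (f h g : S[X])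
    (hg : g = f + C (ϖ ^ (2 * r + 1)) * h) (α θ : R) (hα : aeval α f = 0)
    (hθ : aeval α f.derivative * θ = algebraMap S R (ϖ ^ r)) :
    ∃ β θ' : R, aeval β g = 0 ∧ aeval β f.derivative * θ' = algebraMap S R (ϖ ^ r) := by
  obtain ⟨δ, hδ⟩ : ∃ δ, δ = aeval α f.derivative := ⟨_, rfl⟩
  obtain ⟨w, hw⟩ : ∃ w, w = algebraMap S R ϖ := ⟨_, rfl⟩
  rw [← hδ, map_pow, ← hw] at hθ
  rw [← hw] at hϖ
  -- g'(α) = δ ε
  have hgd : aeval α g.derivative = δ * (1 + w ^ (r + 1) * θ * aeval α h.derivative) := by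
    rw [hg, derivative_add, derivative_mul, derivative_C, zero_mul, zero_add, map_add, map_mul,
      aeval_C, ← hδ, map_pow, ← hw]
    have : w ^ (2 * r + 1) = (δ * θ) * w ^ (r + 1) := by rw [hθ]; ring
    rw [this]; ring
  have hεm : w ^ (r + 1) * θ * aeval α h.derivative ∈ maximalIdeal R := by
    rw [pow_succ, mul_assoc, mul_assoc]
    exact Ideal.mul_mem_left _ _ (Ideal.mul_mem_right _ _ hϖ)
  obtain ⟨ε, hε⟩ := isUnit_one_add_of_mem hεm
  rw [← hε] at hgd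
  have hga : aeval α g = (aeval α g.derivative) ^ 2 *
      ((↑ε⁻¹ : R) ^ 2 * θ ^ 2 * w * aeval α h) := by
    rw [hgd, hg, map_add, hα, zero_add, map_mul, aeval_C, map_pow, ← hw]
    have : w ^ (2 * r + 1) = (δ * θ) ^ 2 * w := by rw [hθ]; ring
    rw [this]
    have h1 : (↑ε : R) * ↑ε⁻¹ = 1 := Units.mul_inv ε
    calc (δ * θ) ^ 2 * w * aeval α h
        = (δ * θ) ^ 2 * w * aeval α h * ((↑ε : R) * ↑ε⁻¹) ^ 2 := by rw [h1]; ring
      _ = _ := by ring
  have hmm : (↑ε⁻¹ : R) ^ 2 * θ ^ 2 * w * aeval α h ∈ maximalIdeal R :=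
    Ideal.mul_mem_right _ _ (Ideal.mul_mem_left _ _ hϖ)
  obtain ⟨y, hy, hroot⟩ := exists_root_aeval g α _ hmm hga
  obtain ⟨z, hz⟩ := Polynomial.evalSubFactor (f.derivative.map (algebraMap S R))
    (α + aeval α g.derivative * y) α
  rw [eval_map_algebraMap, eval_map_algebraMap, ← hδ] at hz
  have hεm' : z * ↑ε * y ∈ maximalIdeal R := Ideal.mul_mem_left _ _ hy
  obtain ⟨ε', hε'⟩ := isUnit_one_add_of_mem hεm'
  refine ⟨α + aeval α g.derivative * y, θ * ↑ε'⁻¹, hroot, ?_⟩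
  have h3 : aeval (α + aeval α g.derivative * y) f.derivative = δ * ↑ε' := by
    have h4 : aeval (α + aeval α g.derivative * y) f.derivative =
        δ + z * (aeval α g.derivative * y) := by linear_combination hz
    rw [h4, hgd, hε']; ring
  rw [h3, map_pow, ← hw, ← hθ]
  have h1 : (↑ε' : R) * ↑ε'⁻¹ = 1 := Units.mul_inv ε'
  calc δ * ↑ε' * (θ * ↑ε'⁻¹) = δ * θ * ((↑ε' : R) * ↑ε'⁻¹) := by ring
    _ = δ * θ := by rw [h1, mul_one]

/-- Second approximation step: a root `β` of `g = f + ϖ^(2r+1) h` with `f'(β)` dividing `ϖ^r`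
gives a root of `f`. -/
theorem approx_root_back {S : Type*} [CommRing S] [Algebra S R] (ϖ : S)
    (hϖ : algebraMap S R ϖ ∈ maximalIdeal R) (r : ℕ) (f h g : S[X])
    (hg : g = f + C (ϖ ^ (2 * r + 1)) * h) (β θ : R) (hβ : aeval β g = 0)
    (hθ : aeval β f.derivative * θ = algebraMap S R (ϖ ^ r)) :
    ∃ γ : R, aeval γ f = 0 := by
  obtain ⟨w, hw⟩ : ∃ w, w = algebraMap S R ϖ := ⟨_, rfl⟩
  rw [map_pow, ← hw] at hθ
  rw [← hw] at hϖ
  have hfb : aeval β f = (aeval β f.derivative) ^ 2 * (-(θ ^ 2 * w * aeval β h)) := by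
    have h1 : aeval β f = -(w ^ (2 * r + 1) * aeval β h) := by
      rw [hg, map_add, map_mul, aeval_C, map_pow, ← hw] at hβ
      linear_combination hβ
    have h2 : w ^ (2 * r + 1) = (aeval β f.derivative * θ) ^ 2 * w := by rw [hθ]; ring
    rw [h1, h2]; ring
  have hmm : -(θ ^ 2 * w * aeval β h) ∈ maximalIdeal R :=
    (maximalIdeal R).neg_mem (Ideal.mul_mem_right _ _ (Ideal.mul_mem_left _ _ hϖ))
  obtain ⟨y, _, hroot⟩ := exists_root_aeval f β _ hmm hfb
  exact ⟨_, hroot⟩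

end Groth.Agent.Lead.NewtonHensel
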