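import Mathlib
import Groth.Agent.Lib.Lead.NewtonHensel
import Groth.Agent.Lib.Helper7.Hensel.IntegralDomain

set_option backward.isDefEq.respectTransparency.types false
set_option synthInstance.maxHeartbeats 400000
set_option linter.style.haveILetI false
set_option linter.unusedSectionVars false
set_option autoImplicit false

universe u

namespace Groth.Agent.Lead.Krasner

open Polynomial IsLocalRing Groth.Agent.Lead.NewtonHensel

variable (C : Type u) [CommRing C] [HenselianLocalRing C] (F : Type u) [Field F] [Algebra C F]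

theorem henselian_integralClosure : HenselianLocalRing (integralClosure C F) := by
  haveI := Groth.Agent.Helper7.Hensel.isLocalRing_of_isIntegral_domain C (integralClosure C F)
  exact Groth.Agent.Helper7.Hensel.henselianLocalRing_of_isIntegral_of_isLocalRing C _

variable {C F}

theorem algebraMap_mem_maximalIdeal_integralClosure
    [HenselianLocalRing (integralClosure C F)] (ϖ : C) (hϖ : ϖ ∈ maximalIdeal C) :
    algebraMap C (integralClosure C F) ϖ ∈ maximalIdeal (integralClosure C F) := by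
  haveI : IsLocalHom (algebraMap C (integralClosure C F)) :=
    Groth.Agent.Helper7.Hensel.isLocalHom_of_isIntegral
  exact map_nonunit _ _ hϖ

theorem approx_field (ϖ : C) (hϖ : ϖ ∈ maximalIdeal C) (r : ℕ) (f h g : C[X])
    (hg : g = f + Polynomial.C (ϖ ^ (2 * r + 1)) * h) (α θ : F) (hαi : IsIntegral C α)
    (hθi : IsIntegral C θ) (hα : aeval α f = 0)
    (hθ : aeval α f.derivative * θ = algebraMap C F (ϖ ^ r)) :
    ∃ β θ' : F, IsIntegral C β ∧ IsIntegral C θ' ∧ aeval β g = 0 ∧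
      aeval β f.derivative * θ' = algebraMap C F (ϖ ^ r) := by
  haveI := henselian_integralClosure C F
  have hϖB := algebraMap_mem_maximalIdeal_integralClosure (F := F) ϖ hϖ
  have hα' : aeval (⟨α, hαi⟩ : integralClosure C F) f = 0 := by
    apply Subtype.ext
    rw [aeval_subalgebra_coe]
    exact hα
  have hθ' : aeval (⟨α, hαi⟩ : integralClosure C F) f.derivative * (⟨θ, hθi⟩ : integralClosure C F)
      = algebraMap C (integralClosure C F) (ϖ ^ r) := by
    apply Subtype.ext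
    rw [Subalgebra.coe_mul, aeval_subalgebra_coe]
    exact hθ
  obtain ⟨β, θ', h1, h2⟩ := approx_root ϖ hϖB r f h g hg _ _ hα' hθ'
  refine ⟨β, θ', β.2, θ'.2, ?_, ?_⟩
  · have := congrArg Subtype.val h1
    rwa [aeval_subalgebra_coe] at this
  · have := congrArg Subtype.val h2
    rwa [Subalgebra.coe_mul, aeval_subalgebra_coe] at this

theorem back_field (ϖ : C) (hϖ : ϖ ∈ maximalIdeal C) (r : ℕ) (f h g : C[X])
    (hg : g = f + Polynomial.C (ϖ ^ (2 * r + 1)) * h) (β θ : F) (hβi : IsIntegral C β)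
    (hθi : IsIntegral C θ) (hβ : aeval β g = 0)
    (hθ : aeval β f.derivative * θ = algebraMap C F (ϖ ^ r)) :
    ∃ γ : F, aeval γ f = 0 := by
  haveI := henselian_integralClosure C F
  have hϖB := algebraMap_mem_maximalIdeal_integralClosure (F := F) ϖ hϖ
  have hβ' : aeval (⟨β, hβi⟩ : integralClosure C F) g = 0 := by
    apply Subtype.ext
    rw [aeval_subalgebra_coe]
    exact hβ
  have hθ' : aeval (⟨β, hβi⟩ : integralClosure C F) f.derivative * (⟨θ, hθi⟩ : integralClosure C F)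
      = algebraMap C (integralClosure C F) (ϖ ^ r) := by
    apply Subtype.ext
    rw [Subalgebra.coe_mul, aeval_subalgebra_coe]
    exact hθ
  obtain ⟨γ, h1⟩ := approx_root_back ϖ hϖB r f h g hg _ _ hβ' hθ'
  refine ⟨γ, ?_⟩
  have := congrArg Subtype.val h1
  rwa [aeval_subalgebra_coe] at this

section Core

variable (C : Type u) [CommRing C] [IsDomain C] [HenselianLocalRing C] [IsIntegrallyClosed C]
  (Kh : Type u) [Field Kh] [Algebra C Kh] [IsFractionRing C Kh]
  (M : Type u) [Field M] [Algebra Kh M] [Algebra C M] [IsScalarTower C Kh M]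
  [FiniteDimensional Kh M] [Algebra.IsSeparable Kh M]

open IntermediateField

theorem exists_integral_primitive :
    ∃ α : M, IsIntegral C α ∧ Kh⟮α⟯ = ⊤ := by
  obtain ⟨α₀, hα₀⟩ := Field.exists_primitive_element Kh M
  have halg : IsAlgebraic C α₀ :=
    (IsFractionRing.isAlgebraic_iff C Kh M).2 (Algebra.IsAlgebraic.isAlgebraic α₀)
  obtain ⟨y, hy0, hyi⟩ := halg.exists_integral_multiple
  refine ⟨y • α₀, hyi, ?_⟩
  rw [eq_top_iff, ← hα₀, adjoin_simple_le_iff]
  have hy' : algebraMap C Kh y ≠ 0 := by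
    rw [Ne, map_eq_zero_iff _ (IsFractionRing.injective C Kh)]
    exact hy0
  have h1 : α₀ = (algebraMap C Kh y)⁻¹ • (y • α₀) := by
    rw [← algebraMap_smul Kh y α₀, smul_smul, inv_mul_cancel₀ hy', one_smul]
  have h2 : (algebraMap C Kh y)⁻¹ • (y • α₀) ∈ Kh⟮y • α₀⟯ :=
    (Kh⟮y • α₀⟯).smul_mem (mem_adjoin_simple_self Kh _)
  rwa [← h1] at h2

variable {C M}

theorem isIntegral_aeval {x : M} (hx : IsIntegral C x) (p : C[X]) : IsIntegral C (aeval x p) := by
  have h := (aeval (⟨x, hx⟩ : integralClosure C M) p).2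
  rwa [aeval_subalgebra_coe] at h

variable (C) {Kh}

include Kh in
theorem exists_theta (ϖ : C) (hdiv : ∀ c : C, c ≠ 0 → ∃ r : ℕ, c ∣ ϖ ^ r) (δ : M)
    (hδi : IsIntegral C δ) (hδ0 : δ ≠ 0) :
    ∃ (r : ℕ) (θ : M), IsIntegral C θ ∧ δ * θ = algebraMap C M (ϖ ^ r) := by
  have hq : minpoly Kh δ = (minpoly C δ).map (algebraMap C Kh) :=
    minpoly.isIntegrallyClosed_eq_field_fractions' Kh hδi
  have hc0 : (minpoly C δ).coeff 0 ≠ 0 := by
    intro h0
    have h1 : (minpoly Kh δ).coeff 0 = 0 := by rw [hq, coeff_map, h0, map_zero]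
    exact hδ0 ((minpoly.coeff_zero_eq_zero (Algebra.IsIntegral.isIntegral δ)).1 h1)
  obtain ⟨r, c₁, hc₁⟩ := hdiv _ hc0
  have h2 : aeval δ (divX (minpoly C δ)) * δ + algebraMap C M ((minpoly C δ).coeff 0) = 0 := by
    have h3 := congrArg (aeval δ) (divX_mul_X_add (minpoly C δ))
    rw [minpoly.aeval, map_add, map_mul, aeval_X, aeval_C] at h3
    exact h3
  refine ⟨r, -(aeval δ (divX (minpoly C δ))) * algebraMap C M c₁,
    ((isIntegral_aeval hδi _).neg).mul isIntegral_algebraMap, ?_⟩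
  rw [hc₁, map_mul]
  linear_combination (-(algebraMap C M c₁)) * h2

variable (Kh M)

theorem core (ϖ : C) (hϖ : ϖ ∈ maximalIdeal C) (hϖ0 : ϖ ≠ 0)
    (hdiv : ∀ c : C, c ≠ 0 → ∃ r : ℕ, c ∣ ϖ ^ r) (P : Set C[X])
    (hP : ∀ (f : C[X]) (N : ℕ), f.Monic → ∃ g ∈ P, g.Monic ∧ g.natDegree = f.natDegree ∧
      ∃ h : C[X], g = f + Polynomial.C (ϖ ^ N) * h) :
    ∃ g ∈ P, g.Monic ∧ ∃ β : M, aeval β g = 0 ∧ Kh⟮β⟯ = ⊤ ∧
      g.natDegree = Module.finrank Kh M := by
  obtain ⟨α, hαi, hα⟩ := exists_integral_primitive C Kh M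
  have hinjK : Function.Injective (algebraMap C Kh) := IsFractionRing.injective C Kh
  have hinjM : Function.Injective (algebraMap C M) := by
    rw [IsScalarTower.algebraMap_eq C Kh M]
    exact (algebraMap Kh M).injective.comp hinjK
  have hfm : (minpoly C α).Monic := minpoly.monic hαi
  have hmap : minpoly Kh α = (minpoly C α).map (algebraMap C Kh) :=
    minpoly.isIntegrallyClosed_eq_field_fractions' Kh hαi
  have hαK : IsIntegral Kh α := Algebra.IsIntegral.isIntegral α
  have hn : (minpoly C α).natDegree = Module.finrank Kh M := by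
    rw [← hfm.natDegree_map (algebraMap C Kh), ← hmap, ← IntermediateField.adjoin.finrank hαK, hα,
      IntermediateField.finrank_top']
  have hsep : ((minpoly C α).map (algebraMap C Kh)).Separable := by
    rw [← hmap]
    exact Algebra.IsSeparable.isSeparable Kh α
  have hδ0 : aeval α (minpoly C α).derivative ≠ 0 := by
    have h1 : aeval α ((minpoly C α).map (algebraMap C Kh)) = 0 := by
      rw [aeval_map_algebraMap, minpoly.aeval]
    have h2 := hsep.aeval_derivative_ne_zero h1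
    rwa [derivative_map, aeval_map_algebraMap] at h2
  obtain ⟨r, θ, hθi, hθ⟩ := exists_theta (Kh := Kh) C ϖ hdiv _ (isIntegral_aeval hαi _) hδ0
  obtain ⟨g, hgP, hgm, hgdeg, h, hg⟩ := hP (minpoly C α) (2 * r + 1) hfm
  obtain ⟨β, θ', hβi, hθ'i, hβ, hθ'⟩ := approx_field ϖ hϖ r (minpoly C α) h g hg α θ hαi hθi
    (minpoly.aeval C α) hθ
  refine ⟨g, hgP, hgm, β, hβ, ?_, by rw [hgdeg, hn]⟩
  -- the second step, inside `E = Kh⟮β⟯`
  have hpow0 : algebraMap C M (ϖ ^ r) ≠ 0 := by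
    rw [Ne, map_eq_zero_iff _ hinjM]
    exact pow_ne_zero r hϖ0
  have hd0 : aeval β (minpoly C α).derivative ≠ 0 := by
    intro h0
    rw [h0, zero_mul] at hθ'
    exact hpow0 hθ'.symm
  have hβE : β ∈ Kh⟮β⟯ := mem_adjoin_simple_self Kh β
  have hdE : aeval β (minpoly C α).derivative ∈ Kh⟮β⟯ := by
    have h1 : aeval β (minpoly C α).derivative =
        aeval β ((minpoly C α).derivative.map (algebraMap C Kh)) := by
      rw [aeval_map_algebraMap]
    rw [h1]
    exact IntermediateField.algebra_adjoin_le_adjoin Kh _ (aeval_mem_adjoin_singleton Kh β)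
  have hpE : algebraMap C M (ϖ ^ r) ∈ Kh⟮β⟯ := by
    rw [IsScalarTower.algebraMap_apply C Kh M]
    exact (Kh⟮β⟯).algebraMap_mem _
  have hθ'E : θ' ∈ Kh⟮β⟯ := by
    have h1 : θ' = (aeval β (minpoly C α).derivative)⁻¹ * algebraMap C M (ϖ ^ r) := by
      rw [← hθ', ← mul_assoc, inv_mul_cancel₀ hd0, one_mul]
    rw [h1]
    exact (Kh⟮β⟯).mul_mem ((Kh⟮β⟯).inv_mem hdE) hpE
  obtain ⟨φ, hφ⟩ : ∃ φ : ↥Kh⟮β⟯ →ₐ[C] M, ∀ x, φ x = (x : M) :=
    ⟨(Kh⟮β⟯).val.restrictScalars C, fun _ => rfl⟩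
  have hφinj : Function.Injective φ := fun x y hxy => Subtype.ext (by rw [← hφ, ← hφ, hxy])
  have hβEi : IsIntegral C (⟨β, hβE⟩ : ↥Kh⟮β⟯) := by
    rw [← isIntegral_algHom_iff φ hφinj, hφ]
    exact hβi
  have hθEi : IsIntegral C (⟨θ', hθ'E⟩ : ↥Kh⟮β⟯) := by
    rw [← isIntegral_algHom_iff φ hφinj, hφ]
    exact hθ'i
  have hβE0 : aeval (⟨β, hβE⟩ : ↥Kh⟮β⟯) g = 0 := by
    apply hφinj
    rw [← aeval_algHom_apply, hφ, map_zero]
    exact hβ
  have hθE : aeval (⟨β, hβE⟩ : ↥Kh⟮β⟯) (minpoly C α).derivative * (⟨θ', hθ'E⟩ : ↥Kh⟮β⟯) =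
      algebraMap C ↥Kh⟮β⟯ (ϖ ^ r) := by
    apply hφinj
    rw [map_mul, ← aeval_algHom_apply, hφ, hφ, AlgHom.commutes]
    exact hθ'
  obtain ⟨γ, hγ⟩ := back_field ϖ hϖ r (minpoly C α) h g hg _ _ hβEi hθEi hβE0 hθE
  have hγM : aeval (γ : M) ((minpoly C α).map (algebraMap C Kh)) = 0 := by
    rw [aeval_map_algebraMap, ← hφ, aeval_algHom_apply, hγ, map_zero]
  have hirr : Irreducible ((minpoly C α).map (algebraMap C Kh)) := by
    rw [← hmap]
    exact minpoly.irreducible hαK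
  have hmin : (minpoly C α).map (algebraMap C Kh) = minpoly Kh (γ : M) :=
    minpoly.eq_of_irreducible_of_monic hirr hγM (hfm.map _)
  have hγK : IsIntegral Kh (γ : M) := Algebra.IsIntegral.isIntegral _
  have hfr : Module.finrank Kh ↥Kh⟮(γ : M)⟯ = Module.finrank Kh M := by
    rw [IntermediateField.adjoin.finrank hγK, ← hmin, hfm.natDegree_map, hn]
  have htop : Kh⟮(γ : M)⟯ = ⊤ := by
    refine IntermediateField.eq_of_le_of_finrank_le le_top ?_
    rw [hfr, IntermediateField.finrank_top']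
  rw [eq_top_iff, ← htop, adjoin_simple_le_iff]
  exact γ.2

end Core

end Groth.Agent.Lead.Krasner
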