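import Mathlib
import Groth.Agent.Lib.Lead.Krasner1
import Groth.Agent.Lib.Helper2.CompletionDVR
import Groth.Agent.Lib.Helper7.Hensel.Local

set_option backward.isDefEq.respectTransparency.types false
set_option synthInstance.maxHeartbeats 400000
set_option linter.style.haveILetI false
set_option linter.unusedSectionVars false

open IsLocalRing Polynomial

universe u

namespace Groth.Agent.Lead.Krasner2

section Approx

variable (A : Type u) [CommRing A] [IsLocalRing A] [IsNoetherianRing A]

/-- Elements of the completion are approximated by elements of `A` to any order. -/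
theorem approx_elt (π : A) (hπ : maximalIdeal A = Ideal.span {π})
    (c : AdicCompletion (maximalIdeal A) A) (N : ℕ) :
    ∃ (a : A) (d : AdicCompletion (maximalIdeal A) A),
      algebraMap A (AdicCompletion (maximalIdeal A) A) a =
        c + (algebraMap A (AdicCompletion (maximalIdeal A) A) π) ^ N * d := by
  have fg : (maximalIdeal A).FG := (maximalIdeal A).fg_of_isNoetherianRing
  obtain ⟨a, ha⟩ := Submodule.Quotient.mk_surjective _ (c.1 N)
  have h1 : (algebraMap A (AdicCompletion (maximalIdeal A) A)) a - c ∈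
      (maximalIdeal A) ^ N • (⊤ : Submodule A (AdicCompletion (maximalIdeal A) A)) := by
    rw [AdicCompletion.algebraMap_apply, AdicCompletion.pow_smul_top_eq_ker_eval fg]
    simpa [AdicCompletion.eval, sub_eq_zero] using ha
  have h2 : (maximalIdeal A) ^ N = Ideal.span {π ^ N} := by
    rw [hπ, Ideal.span_singleton_pow]
  rw [Ideal.smul_top_eq_map, Submodule.restrictScalars_mem, h2,
    Ideal.map_span, Set.image_singleton, Ideal.mem_span_singleton'] at h1
  obtain ⟨d, hd⟩ := h1
  refine ⟨a, d, ?_⟩
  rw [map_pow] at hd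
  rw [mul_comm, hd]
  ring

/-- Monic polynomials over the completion are approximated by monic polynomials over `A`. -/
theorem approx_poly (π : A) (hπ : maximalIdeal A = Ideal.span {π})
    (f : (AdicCompletion (maximalIdeal A) A)[X]) (N : ℕ) (hf : f.Monic) :
    ∃ g₀ : A[X], g₀.Monic ∧ g₀.natDegree = f.natDegree ∧
      ∃ h : (AdicCompletion (maximalIdeal A) A)[X],
        g₀.map (algebraMap A (AdicCompletion (maximalIdeal A) A)) =
          f + Polynomial.C ((algebraMap A (AdicCompletion (maximalIdeal A) A) π) ^ N) * h := by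
  classical
  set n := f.natDegree with hn
  choose a d had using fun i : ℕ => approx_elt A π hπ (f.coeff i) N
  set p₀ : A[X] := ∑ i ∈ Finset.range n, Polynomial.monomial i (a i) with hp₀
  have hdeg : p₀.degree < n := by
    rw [Polynomial.degree_lt_iff_coeff_zero]
    intro m hm
    rw [hp₀, Polynomial.finset_sum_coeff]
    apply Finset.sum_eq_zero
    intro i hi
    rw [Polynomial.coeff_monomial, if_neg]
    have := Finset.mem_range.1 hi
    omega
  have hnat : (X ^ n + p₀).natDegree = n := by
    apply Polynomial.natDegree_eq_of_degree_eq_some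
    rw [Polynomial.degree_add_eq_left_of_degree_lt, Polynomial.degree_X_pow]
    rwa [Polynomial.degree_X_pow]
  refine ⟨X ^ n + p₀, Polynomial.monic_X_pow_add hdeg, hnat,
    ∑ i ∈ Finset.range n, Polynomial.monomial i (d i), ?_⟩
  conv_rhs => rw [hf.as_sum]
  rw [Polynomial.map_add, Polynomial.map_pow, Polynomial.map_X, hp₀, Polynomial.map_sum,
    Finset.mul_sum, ← hn, add_assoc, ← Finset.sum_add_distrib]
  congr 1
  apply Finset.sum_congr rfl
  intro i _
  rw [Polynomial.map_monomial, had i, Polynomial.C_mul_monomial,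
    ← Polynomial.C_mul_X_pow_eq_monomial, ← Polynomial.C_mul_X_pow_eq_monomial, map_add, add_mul]

end Approx

section Completion

open IntermediateField

variable (A : Type u) [CommRing A] [IsDomain A] [IsDiscreteValuationRing A]
  (Kh : Type u) [Field Kh] [Algebra (AdicCompletion (maximalIdeal A) A) Kh]
  [IsFractionRing (AdicCompletion (maximalIdeal A) A) Kh]
  (M : Type u) [Field M] [Algebra Kh M] [Algebra (AdicCompletion (maximalIdeal A) A) M]
  [IsScalarTower (AdicCompletion (maximalIdeal A) A) Kh M]
  [FiniteDimensional Kh M] [Algebra.IsSeparable Kh M]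

theorem completion_core :
    ∃ g₀ : A[X], g₀.Monic ∧ ∃ β : M,
      aeval β (g₀.map (algebraMap A (AdicCompletion (maximalIdeal A) A))) = 0 ∧ Kh⟮β⟯ = ⊤ ∧
      g₀.natDegree = Module.finrank Kh M := by
  haveI hdom : IsDomain (AdicCompletion (maximalIdeal A) A) :=
    (IsFractionRing.injective (AdicCompletion (maximalIdeal A) A) Kh).isDomain
      (algebraMap (AdicCompletion (maximalIdeal A) A) Kh)
  obtain ⟨_, hdvr⟩ := (Groth.Agent.Helper2.CompletionDVR.dvr_iff A).1 ⟨inferInstance, inferInstance⟩
  haveI := hdvr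
  haveI : HenselianLocalRing (AdicCompletion (maximalIdeal A) A) :=
    Groth.Agent.Helper7.Hensel.henselianLocalRing_of_henselianRing inferInstance
  obtain ⟨π, hπirr⟩ := IsDiscreteValuationRing.exists_irreducible A
  have hπ : maximalIdeal A = Ideal.span {π} := hπirr.maximalIdeal_eq
  set ϖ := algebraMap A (AdicCompletion (maximalIdeal A) A) π with hϖdef
  have hm : maximalIdeal (AdicCompletion (maximalIdeal A) A) = Ideal.span {ϖ} := by
    rw [AdicCompletion.maximalIdeal_eq_map]
    have h2 : (maximalIdeal A).map (algebraMap A (AdicCompletion (maximalIdeal A) A)) =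
        (Ideal.span {π}).map (algebraMap A (AdicCompletion (maximalIdeal A) A)) :=
      congrArg (Ideal.map (algebraMap A (AdicCompletion (maximalIdeal A) A))) hπ
    rw [h2, Ideal.map_span, Set.image_singleton]
  have hirr : Irreducible ϖ := (IsDiscreteValuationRing.irreducible_iff_uniformizer ϖ).2 hm
  have hϖ : ϖ ∈ maximalIdeal (AdicCompletion (maximalIdeal A) A) := by
    rw [hm]; exact Ideal.mem_span_singleton_self ϖ
  have hdiv : ∀ c : AdicCompletion (maximalIdeal A) A, c ≠ 0 → ∃ r : ℕ, c ∣ ϖ ^ r := by
    intro c hc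
    obtain ⟨r, v, hv⟩ := IsDiscreteValuationRing.eq_unit_mul_pow_irreducible hc hirr
    refine ⟨r, ?_⟩
    rw [hv, Units.mul_left_dvd]
  obtain ⟨g, ⟨g₀, hg₀m, rfl⟩, -, β, hβ, htop, hdeg⟩ :=
    Groth.Agent.Lead.Krasner.core (AdicCompletion (maximalIdeal A) A) Kh M ϖ hϖ hirr.ne_zero hdiv
      {g | ∃ g₀ : A[X], g₀.Monic ∧
        g = g₀.map (algebraMap A (AdicCompletion (maximalIdeal A) A))} (by
      intro f N hf
      obtain ⟨g₀, hg₀m, hg₀d, h, hh⟩ := approx_poly A π hπ f N hf
      exact ⟨_, ⟨g₀, hg₀m, rfl⟩, hg₀m.map _, by rw [hg₀m.natDegree_map, hg₀d], h, hh⟩)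
  exact ⟨g₀, hg₀m, β, hβ, htop, by rw [← hdeg, hg₀m.natDegree_map]⟩

end Completion

section Final

open IntermediateField TensorProduct

theorem main (A K : Type u) [CommRing A] [IsDomain A]
    [IsDiscreteValuationRing A] [Field K] [Algebra A K] [IsFractionRing A K]
    (Kh : Type u) [Field Kh] [Algebra (AdicCompletion (IsLocalRing.maximalIdeal A) A) Kh]
    [IsFractionRing (AdicCompletion (IsLocalRing.maximalIdeal A) A) Kh] [Algebra A Kh] [Algebra K Kh]
    [IsScalarTower A (AdicCompletion (IsLocalRing.maximalIdeal A) A) Kh] [IsScalarTower A K Kh]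
    (M : Type u) [Field M] [Algebra Kh M] [FiniteDimensional Kh M] [Algebra.IsSeparable Kh M] :
    ∃ (L : Type u) (_ : Field L) (_ : Algebra K L), FiniteDimensional K L ∧
      Algebra.IsSeparable K L ∧ Nonempty ((Kh ⊗[K] L) ≃ₐ[Kh] M) := by
  letI : Algebra (AdicCompletion (maximalIdeal A) A) M :=
    ((algebraMap Kh M).comp (algebraMap (AdicCompletion (maximalIdeal A) A) Kh)).toAlgebra
  haveI : IsScalarTower (AdicCompletion (maximalIdeal A) A) Kh M :=
    IsScalarTower.of_algebraMap_eq (fun _ => rfl)
  letI : Algebra K M := ((algebraMap Kh M).comp (algebraMap K Kh)).toAlgebra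
  haveI : IsScalarTower K Kh M := IsScalarTower.of_algebraMap_eq (fun _ => rfl)
  obtain ⟨g₀, hg₀m, β, hβ, htop, hdeg⟩ := completion_core A Kh M
  set gK : K[X] := g₀.map (algebraMap A K) with hgK
  have hgKm : gK.Monic := hg₀m.map _
  have hgKdeg : gK.natDegree = Module.finrank Kh M := by rw [hgK, hg₀m.natDegree_map, hdeg]
  have hrootK : aeval β gK = 0 := by
    rw [hgK, Polynomial.aeval_def, Polynomial.eval₂_map]
    rw [Polynomial.aeval_def, Polynomial.eval₂_map] at hβ
    convert hβ using 2
    ext a
    change algebraMap Kh M (algebraMap K Kh (algebraMap A K a)) =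
      algebraMap Kh M (algebraMap (AdicCompletion (maximalIdeal A) A) Kh
        (algebraMap A (AdicCompletion (maximalIdeal A) A) a))
    rw [← IsScalarTower.algebraMap_apply A K Kh,
      ← IsScalarTower.algebraMap_apply A (AdicCompletion (maximalIdeal A) A) Kh]
  have hintK : IsIntegral K β := ⟨gK, hgKm, hrootK⟩
  have hintKh : IsIntegral Kh β := Algebra.IsIntegral.isIntegral β
  have hrootKh : aeval β (gK.map (algebraMap K Kh)) = 0 := by
    rw [Polynomial.aeval_map_algebraMap]; exact hrootK
  have hminKhdeg : (minpoly Kh β).natDegree = Module.finrank Kh M := by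
    rw [← IntermediateField.adjoin.finrank hintKh, htop, IntermediateField.finrank_top']
  have hminKh : gK.map (algebraMap K Kh) = minpoly Kh β := by
    apply Polynomial.eq_of_monic_of_dvd_of_natDegree_le (minpoly.monic hintKh) (hgKm.map _)
      (minpoly.dvd Kh β hrootKh)
    rw [hgKm.natDegree_map, hgKdeg, hminKhdeg]
  have hsepK : gK.Separable := by
    rw [← Polynomial.separable_map (algebraMap K Kh), hminKh]
    exact Algebra.IsSeparable.isSeparable Kh β
  have hsepβ : IsSeparable K β := hsepK.of_dvd (minpoly.dvd K β hrootK)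
  haveI hfd : FiniteDimensional K K⟮β⟯ := IntermediateField.adjoin.finiteDimensional hintK
  have hrankle : Module.finrank K K⟮β⟯ ≤ Module.finrank Kh M := by
    rw [IntermediateField.adjoin.finrank hintK, ← hgKdeg]
    exact Polynomial.natDegree_le_of_dvd (minpoly.dvd K β hrootK) hgKm.ne_zero
  refine ⟨K⟮β⟯, inferInstance, inferInstance, hfd,
    (IntermediateField.isSeparable_adjoin_simple_iff_isSeparable K M).2 hsepβ, ?_⟩
  let φ : Kh ⊗[K] K⟮β⟯ →ₐ[Kh] M :=
    Algebra.TensorProduct.lift (Algebra.ofId Kh M) (K⟮β⟯.val) (fun _ _ => Commute.all _ _)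
  have hsurj : Function.Surjective φ := by
    rw [← AlgHom.range_eq_top, eq_top_iff]
    have hadj : Algebra.adjoin Kh {β} = ⊤ := by
      rw [← IntermediateField.adjoin_simple_toSubalgebra_of_isAlgebraic hintKh.isAlgebraic, htop,
        IntermediateField.top_toSubalgebra]
    rw [← hadj]
    apply Algebra.adjoin_le
    rintro x hx
    rw [Set.mem_singleton_iff] at hx
    subst hx
    refine ⟨1 ⊗ₜ ⟨x, IntermediateField.mem_adjoin_simple_self K x⟩, ?_⟩
    simp [φ]
  have hfr : Module.finrank Kh (Kh ⊗[K] K⟮β⟯) = Module.finrank Kh M := by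
    apply le_antisymm
    · rw [Module.finrank_baseChange]; exact hrankle
    · exact LinearMap.finrank_le_finrank_of_surjective (f := φ.toLinearMap) hsurj
  have hinj : Function.Injective φ :=
    (LinearMap.injective_iff_surjective_of_finrank_eq_finrank (f := φ.toLinearMap) hfr).2 hsurj
  exact ⟨AlgEquiv.ofBijective φ ⟨hinj, hsurj⟩⟩

end Final

end Groth.Agent.Lead.Krasner2
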