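import Mathlib
import Groth.Agent.Lib.Lead.Krasner2

set_option backward.isDefEq.respectTransparency.types false
set_option synthInstance.maxHeartbeats 400000
set_option linter.style.haveILetI false
set_option linter.unusedSectionVars false

open IsLocalRing Polynomial

universe u

namespace Groth.Agent.Lead.Krasner3

section Roots

variable (R : Type u) [CommRing R] [IsDomain R] [IsDiscreteValuationRing R] [HenselianLocalRing R]

theorem aeval_sub_dvd {S : Type*} [CommRing S] [Algebra R S] (p : R[X]) (s t : S) :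
    s - t ∣ aeval s p - aeval t p := by
  rw [aeval_def, aeval_def, eval₂_eq_eval_map, eval₂_eq_eval_map]
  exact sub_dvd_eval_sub s t _

/-- A simple root in the completion of a polynomial over a Henselian DVR lies in the DVR. -/
theorem root_mem_range (f : R[X]) (y : AdicCompletion (maximalIdeal R) R) (hy : aeval y f = 0)
    (hD : aeval y f.derivative ≠ 0) :
    ∃ γ : R, algebraMap R (AdicCompletion (maximalIdeal R) R) γ = y := by
  obtain ⟨hdom, hdvr⟩ :=
    (Groth.Agent.Helper2.CompletionDVR.dvr_iff R).1 ⟨inferInstance, inferInstance⟩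
  haveI := hdom
  haveI := hdvr
  haveI : HenselianLocalRing (AdicCompletion (maximalIdeal R) R) :=
    Groth.Agent.Helper7.Hensel.henselianLocalRing_of_henselianRing inferInstance
  haveI hff : Module.FaithfullyFlat R (AdicCompletion (maximalIdeal R) R) :=
    Module.FaithfullyFlat.of_flat_of_isLocalHom
  obtain ⟨π, hπirr⟩ := IsDiscreteValuationRing.exists_irreducible R
  have hπ : maximalIdeal R = Ideal.span {π} := hπirr.maximalIdeal_eq
  obtain ⟨ϖ, hϖdef⟩ : ∃ ϖ, ϖ = algebraMap R (AdicCompletion (maximalIdeal R) R) π := ⟨_, rfl⟩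
  have hm : maximalIdeal (AdicCompletion (maximalIdeal R) R) = Ideal.span {ϖ} := by
    rw [AdicCompletion.maximalIdeal_eq_map]
    have h2 : (maximalIdeal R).map (algebraMap R (AdicCompletion (maximalIdeal R) R)) =
        (Ideal.span {π}).map (algebraMap R (AdicCompletion (maximalIdeal R) R)) :=
      congrArg (Ideal.map (algebraMap R (AdicCompletion (maximalIdeal R) R))) hπ
    rw [h2, Ideal.map_span, Set.image_singleton, hϖdef]
  have hirr : Irreducible ϖ := (IsDiscreteValuationRing.irreducible_iff_uniformizer ϖ).2 hm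
  have hϖmem : ∀ z : AdicCompletion (maximalIdeal R) R,
      ϖ * z ∈ maximalIdeal (AdicCompletion (maximalIdeal R) R) := by
    intro z
    rw [hm]
    exact Ideal.mul_mem_right _ _ (Ideal.mem_span_singleton_self ϖ)
  obtain ⟨D, hDdef⟩ : ∃ D, D = aeval y f.derivative := ⟨_, rfl⟩
  rw [← hDdef] at hD
  obtain ⟨r, e, he⟩ : ∃ (r : ℕ) (e : AdicCompletion (maximalIdeal R) R), D * e = ϖ ^ r := by
    obtain ⟨r, v, hv⟩ := IsDiscreteValuationRing.eq_unit_mul_pow_irreducible hD hirr
    refine ⟨r, ((v⁻¹ : (AdicCompletion (maximalIdeal R) R)ˣ) : AdicCompletion (maximalIdeal R) R), ?_⟩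
    rw [hv]
    calc (v : AdicCompletion (maximalIdeal R) R) * ϖ ^ r * ((v⁻¹ : (AdicCompletion (maximalIdeal R) R)ˣ) : _)
        = ((v : AdicCompletion (maximalIdeal R) R) * ((v⁻¹ : (AdicCompletion (maximalIdeal R) R)ˣ) : _)) * ϖ ^ r := by ring
      _ = ϖ ^ r := by rw [Units.mul_inv, one_mul]
  obtain ⟨a, d, had⟩ := Groth.Agent.Lead.Krasner2.approx_elt R π hπ y (2 * r + 1)
  rw [← hϖdef] at had
  obtain ⟨ah, hah⟩ : ∃ ah, ah = algebraMap R (AdicCompletion (maximalIdeal R) R) a := ⟨_, rfl⟩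
  rw [← hah] at had
  -- Taylor-type identities
  obtain ⟨q₁, hq₁⟩ := aeval_sub_dvd R f ah y
  obtain ⟨q₂, hq₂⟩ := aeval_sub_dvd R f.derivative ah y
  rw [hy, sub_zero] at hq₁
  rw [← hDdef] at hq₂
  have hsub : ah - y = ϖ ^ (2 * r + 1) * d := by rw [had]; ring
  have hpowN : ϖ ^ (2 * r + 1) = D * ϖ * (ϖ ^ r * e) := by
    calc ϖ ^ (2 * r + 1) = ϖ ^ r * ϖ * ϖ ^ r := by ring
      _ = (D * e) * ϖ * ϖ ^ r := by rw [he]
      _ = D * ϖ * (ϖ ^ r * e) := by ring
  obtain ⟨υ, hυdef⟩ : ∃ υ, υ = 1 + ϖ * (ϖ ^ r * e * d * q₂) := ⟨_, rfl⟩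
  have hυ : IsUnit υ := by
    rw [hυdef]
    exact Groth.Agent.Lead.NewtonHensel.isUnit_one_add_of_mem (hϖmem _)
  have hder : aeval ah f.derivative = D * υ := by
    have : aeval ah f.derivative = D + (ah - y) * q₂ := by rw [← hq₂]; ring
    rw [this, hsub, hpowN, hυdef]; ring
  obtain ⟨υi, hυi⟩ := hυ.exists_right_inv
  have hval : aeval ah f = (aeval ah f.derivative) ^ 2 * (ϖ * (υi ^ 2 * e ^ 2 * d * q₁)) := by
    rw [hq₁, hsub, hder]
    calc ϖ ^ (2 * r + 1) * d * q₁ = (ϖ ^ r) ^ 2 * ϖ * d * q₁ := by ring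
      _ = (D * e) ^ 2 * ϖ * d * q₁ := by rw [he]
      _ = (D * e) ^ 2 * ϖ * d * q₁ * (υ * υi) ^ 2 := by rw [hυi]; ring
      _ = (D * υ) ^ 2 * (ϖ * (υi ^ 2 * e ^ 2 * d * q₁)) := by ring
  -- descend the divisibility to `R`
  obtain ⟨s, hs⟩ : ∃ s, s = f.derivative.eval a := ⟨_, rfl⟩
  obtain ⟨t, ht⟩ : ∃ t, t = f.eval a := ⟨_, rfl⟩
  have hsh : aeval ah f.derivative = algebraMap R (AdicCompletion (maximalIdeal R) R) s := by
    rw [hah, hs, Polynomial.aeval_algebraMap_apply_eq_algebraMap_eval]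
  have hth : aeval ah f = algebraMap R (AdicCompletion (maximalIdeal R) R) t := by
    rw [hah, ht, Polynomial.aeval_algebraMap_apply_eq_algebraMap_eval]
  have hdvd : s ^ 2 * π ∣ t := by
    have h1 : algebraMap R (AdicCompletion (maximalIdeal R) R) t ∈
        (Ideal.span {s ^ 2 * π}).map (algebraMap R (AdicCompletion (maximalIdeal R) R)) := by
      rw [Ideal.map_span, Set.image_singleton, Ideal.mem_span_singleton]
      refine ⟨υi ^ 2 * e ^ 2 * d * q₁, ?_⟩
      rw [← hth, hval, hsh, map_mul, map_pow, ← hϖdef]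
      ring
    have h2 : t ∈ ((Ideal.span {s ^ 2 * π}).map
        (algebraMap R (AdicCompletion (maximalIdeal R) R))).comap
        (algebraMap R (AdicCompletion (maximalIdeal R) R)) := h1
    rw [Ideal.comap_map_eq_self_of_faithfullyFlat] at h2
    exact Ideal.mem_span_singleton.1 h2
  obtain ⟨t₁, ht₁⟩ := hdvd
  have hmR : π * t₁ ∈ maximalIdeal R := by
    rw [hπ]
    exact Ideal.mul_mem_right _ _ (Ideal.mem_span_singleton_self π)
  obtain ⟨y', hy', hroot⟩ := Groth.Agent.Lead.NewtonHensel.exists_root f a (π * t₁) hmR (by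
    rw [← hs, ← ht, ht₁]; ring)
  rw [← hs] at hroot
  rw [hπ, Ideal.mem_span_singleton'] at hy'
  obtain ⟨y₁, hy₁⟩ := hy'
  refine ⟨a + s * y', ?_⟩
  obtain ⟨γh, hγh⟩ : ∃ γh, γh = algebraMap R (AdicCompletion (maximalIdeal R) R) (a + s * y') :=
    ⟨_, rfl⟩
  rw [← hγh]
  obtain ⟨yh, hyh⟩ : ∃ yh, yh = algebraMap R (AdicCompletion (maximalIdeal R) R) y₁ := ⟨_, rfl⟩
  have hγexp : γh = ah + D * υ * (yh * ϖ) := by
    rw [hγh, map_add, map_mul, ← hah, ← hsh, hder, ← hy₁, map_mul, ← hϖdef, ← hyh]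
  obtain ⟨z, hzdef⟩ : ∃ z, z = ϖ ^ r * e * d + υ * yh := ⟨_, rfl⟩
  have hγy : γh - y = D * ϖ * z := by
    rw [hγexp, had, hpowN, hzdef]; ring
  have hγroot : aeval γh f = 0 := by
    rw [hγh, Polynomial.aeval_algebraMap_apply_eq_algebraMap_eval]
    have : f.eval (a + s * y') = 0 := hroot
    rw [this, map_zero]
  -- factor out the root `y`
  obtain ⟨F, hF⟩ : ∃ F, F = f.map (algebraMap R (AdicCompletion (maximalIdeal R) R)) := ⟨_, rfl⟩
  have hFy : F.IsRoot y := by
    rw [Polynomial.IsRoot, hF, Polynomial.eval_map_algebraMap]; exact hy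
  obtain ⟨G, hG⟩ : ∃ G, G = F /ₘ (X - C y) := ⟨_, rfl⟩
  have hFG : (X - C y) * G = F := by
    rw [hG]; exact Polynomial.mul_divByMonic_eq_iff_isRoot.2 hFy
  have hGy : G.eval y = D := by
    have h1 : F.derivative = G + (X - C y) * G.derivative := by
      rw [← hFG, Polynomial.derivative_mul, Polynomial.derivative_sub, Polynomial.derivative_X,
        Polynomial.derivative_C, sub_zero, one_mul]
    have h2 : F.derivative.eval y = D := by
      rw [hF, Polynomial.derivative_map, Polynomial.eval_map_algebraMap, hDdef]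
    rw [← h2, h1]
    simp
  have hFγ : F.eval γh = 0 := by
    rw [hF, Polynomial.eval_map_algebraMap]; exact hγroot
  have hprod : (γh - y) * G.eval γh = 0 := by
    rw [← hFγ, ← hFG]; simp
  obtain ⟨q₃, hq₃⟩ := Polynomial.sub_dvd_eval_sub γh y G
  have hGγ : G.eval γh = D * (1 + ϖ * (z * q₃)) := by
    have : G.eval γh = G.eval y + (γh - y) * q₃ := by rw [← hq₃]; ring
    rw [this, hGy, hγy]; ring
  have hne : G.eval γh ≠ 0 := by
    rw [hGγ]
    exact mul_ne_zero hD
      (Groth.Agent.Lead.NewtonHensel.isUnit_one_add_of_mem (hϖmem _)).ne_zero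
  have := (mul_eq_zero.1 hprod).resolve_right hne
  exact sub_eq_zero.1 this

end Roots

section Field

/-- `K` is separably closed in the fraction field of the completion of a Henselian DVR. -/
theorem mem_range_of_separable (R K Khat : Type u) [CommRing R] [IsDomain R]
    [IsDiscreteValuationRing R] [HenselianLocalRing R] [Field K] [Algebra R K] [IsFractionRing R K]
    [Field Khat] [Algebra (AdicCompletion (IsLocalRing.maximalIdeal R) R) Khat]
    [IsFractionRing (AdicCompletion (IsLocalRing.maximalIdeal R) R) Khat]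
    [Algebra R Khat] [IsScalarTower R (AdicCompletion (IsLocalRing.maximalIdeal R) R) Khat]
    [Algebra K Khat] [IsScalarTower R K Khat]
    (x : Khat) (p : K[X]) (hp : p.Separable) (hx : aeval x p = 0) :
    ∃ k : K, algebraMap K Khat k = x := by
  obtain ⟨hdom, hdvr⟩ :=
    (Groth.Agent.Helper2.CompletionDVR.dvr_iff R).1 ⟨inferInstance, inferInstance⟩
  haveI := hdom
  haveI := hdvr
  have hp0 : p ≠ 0 := hp.ne_zero
  have hsepx : IsSeparable K x := hp.of_dvd (minpoly.dvd K x hx)
  have halgK : IsAlgebraic K x := ⟨p, hp0, hx⟩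
  have halg : IsAlgebraic R x := (IsFractionRing.isAlgebraic_iff R K Khat).2 halgK
  obtain ⟨c, hc0, hci⟩ := halg.exists_integral_multiple
  have hcK : algebraMap R K c ≠ 0 := by
    rw [Ne, map_eq_zero_iff _ (IsFractionRing.injective R K)]; exact hc0
  obtain ⟨x₁, hx₁⟩ : ∃ x₁, x₁ = c • x := ⟨_, rfl⟩
  rw [← hx₁] at hci
  have hx₁mul : x₁ = algebraMap K Khat (algebraMap R K c) * x := by
    rw [hx₁, ← IsScalarTower.algebraMap_apply R K Khat, Algebra.smul_def]
  have hsep₁ : IsSeparable K x₁ := by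
    rw [hx₁mul]
    exact Field.isSeparable_mul (isSeparable_algebraMap _) hsepx
  have hci' : IsIntegral (AdicCompletion (maximalIdeal R) R) x₁ := hci.tower_top
  obtain ⟨y₁, hy₁⟩ := IsIntegrallyClosed.algebraMap_eq_of_integral hci'
  obtain ⟨f, hf⟩ : ∃ f, f = minpoly R x₁ := ⟨_, rfl⟩
  have hmap : minpoly K x₁ = f.map (algebraMap R K) := by
    rw [hf]; exact minpoly.isIntegrallyClosed_eq_field_fractions' K hci
  have hfsep : (f.map (algebraMap R K)).Separable := by rw [← hmap]; exact hsep₁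
  have hroot₁ : aeval x₁ f = 0 := by rw [hf]; exact minpoly.aeval R x₁
  have hder₁ : aeval x₁ f.derivative ≠ 0 := by
    have h1 : aeval x₁ (f.map (algebraMap R K)) = 0 := by
      rw [Polynomial.aeval_map_algebraMap]; exact hroot₁
    have h2 := hfsep.aeval_derivative_ne_zero h1
    rwa [Polynomial.derivative_map, Polynomial.aeval_map_algebraMap] at h2
  have hinj : Function.Injective (algebraMap (AdicCompletion (maximalIdeal R) R) Khat) :=
    IsFractionRing.injective _ _
  have hrooty : aeval y₁ f = 0 := by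
    apply hinj
    rw [map_zero, ← Polynomial.aeval_algebraMap_apply, hy₁]; exact hroot₁
  have hdery : aeval y₁ f.derivative ≠ 0 := by
    intro h0
    apply hder₁
    rw [← hy₁, Polynomial.aeval_algebraMap_apply, h0, map_zero]
  obtain ⟨γ, hγ⟩ := root_mem_range R f y₁ hrooty hdery
  refine ⟨algebraMap R K γ / algebraMap R K c, ?_⟩
  have hcK' : algebraMap K Khat (algebraMap R K c) ≠ 0 := by
    rw [Ne, map_eq_zero_iff _ (algebraMap K Khat).injective]; exact hcK
  rw [map_div₀, div_eq_iff hcK', mul_comm x, ← hx₁mul, ← hy₁, ← hγ,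
    ← IsScalarTower.algebraMap_apply R K Khat,
    ← IsScalarTower.algebraMap_apply R (AdicCompletion (maximalIdeal R) R) Khat]

end Field

end Groth.Agent.Lead.Krasner3
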