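import Mathlib

/-!
# A closed subscheme containing all infinitesimal neighbourhoods of a fibre contains an open
neighbourhood of the fibre (lead)
-/

set_option backward.isDefEq.respectTransparency.types false
set_option synthInstance.maxHeartbeats 400000
set_option autoImplicit false
set_option linter.unusedSectionVars false
set_option linter.style.haveILetI false

universe u
open CategoryTheory CategoryTheory.Limits AlgebraicGeometry TopologicalSpace

namespace Groth.Agent.Lead.KrullFib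

/-- an ideal sheaf all of whose sections over an affine `W ∋ x` have zero germ at `x` vanishes on
an affine neighbourhood of `x` (locally Noetherian case) -/
theorem exists_affine_ideal_eq_bot {X : Scheme.{u}} [IsLocallyNoetherian X]
    (I : X.IdealSheafData) (x : X) {W : X.Opens} (hW : IsAffineOpen W) (hxW : x ∈ W)
    (h : ∀ s ∈ I.ideal ⟨W, hW⟩, X.presheaf.germ W x hxW s = 0) :
    ∃ V : X.affineOpens, x ∈ V.1 ∧ I.ideal V = ⊥ := by
  haveI : IsNoetherianRing Γ(X, W) := IsLocallyNoetherian.component_noetherian ⟨W, hW⟩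
  letI : Algebra Γ(X, W) (X.presheaf.stalk x) := (X.presheaf.germ W x hxW).hom.toAlgebra
  set q := (hW.primeIdealOf ⟨x, hxW⟩).asIdeal with hq
  haveI hloc : IsLocalization.AtPrime (X.presheaf.stalk x) q := hW.isLocalization_stalk ⟨x, hxW⟩
  have h1 : ∀ s ∈ I.ideal ⟨W, hW⟩, ∃ c : Γ(X, W), c ∉ q ∧ c * s = 0 := by
    intro s hs
    have h0 : algebraMap Γ(X, W) (X.presheaf.stalk x) s = 0 := h s hs
    obtain ⟨c, hc⟩ := (IsLocalization.map_eq_zero_iff q.primeCompl (X.presheaf.stalk x) s).1 h0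
    exact ⟨c.1, c.2, hc⟩
  obtain ⟨F, hF⟩ : (I.ideal ⟨W, hW⟩).FG := IsNoetherian.noetherian _
  choose! c hc1 hc2 using h1
  let g : Γ(X, W) := ∏ s ∈ F, c s
  have hgq : g ∈ q.primeCompl :=
    Submonoid.prod_mem _ (fun s hs => hc1 s (hF ▸ Ideal.subset_span hs))
  have hg : ∀ s ∈ I.ideal ⟨W, hW⟩, g * s = 0 := by
    intro s hs
    rw [← hF] at hs
    refine Submodule.span_induction (p := fun s _ => g * s = 0) ?_ ?_ ?_ ?_ hs
    · intro s hsF
      obtain ⟨r, hr⟩ := Finset.dvd_prod_of_mem c hsF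
      change g = c s * r at hr
      rw [hr, mul_comm (c s) r, mul_assoc, hc2 s (hF ▸ Ideal.subset_span hsF), mul_zero]
    · exact mul_zero _
    · intro a b _ _ ha hb
      rw [mul_add, ha, hb, add_zero]
    · intro a s _ hs
      rw [smul_eq_mul, mul_left_comm, hs, mul_zero]
  refine ⟨X.affineBasicOpen (U := ⟨W, hW⟩) g, ?_, ?_⟩
  · change x ∈ X.basicOpen g
    rw [Scheme.mem_basicOpen _ g x hxW]
    exact IsLocalization.map_units (X.presheaf.stalk x) (⟨g, hgq⟩ : q.primeCompl)
  · have h3 : (I.ideal ⟨W, hW⟩).map (X.presheaf.map (homOfLE (X.basicOpen_le g)).op).hom = ⊥ := by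
      rw [Ideal.map_eq_bot_iff_le_ker]
      intro s hs
      rw [RingHom.mem_ker]
      have hu : IsUnit ((X.presheaf.map (homOfLE (X.basicOpen_le g)).op).hom g) :=
        X.toRingedSpace.isUnit_res_basicOpen g
      have h2 := congrArg (X.presheaf.map (homOfLE (X.basicOpen_le g)).op).hom (hg s hs)
      rw [map_mul, map_zero] at h2
      exact (hu.mul_right_eq_zero).1 h2
    exact (I.map_ideal_basicOpen ⟨W, hW⟩ g).symm.trans h3

/-- sections of a morphism from the spectrum of a quotient of the local ring -/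
theorem app_eq_zero_imp {X : Scheme.{u}} (x : X) (J : Ideal (X.presheaf.stalk x))
    {W : X.Opens} (hxW : x ∈ W) (s : Γ(X, W))
    (h : ((Spec.map (CommRingCat.ofHom (Ideal.Quotient.mk J)) ≫ X.fromSpecStalk x).app W).hom s = 0) :
    X.presheaf.germ W x hxW s ∈ J := by
  have htop : X.fromSpecStalk x ⁻¹ᵁ W = ⊤ :=
    Scheme.preimage_eq_top_of_closedPoint_mem (X.fromSpecStalk x)
      (by rw [Scheme.fromSpecStalk_closedPoint]; exact hxW)
  have e : (⊤ : (Spec (CommRingCat.of (X.presheaf.stalk x ⧸ J))).Opens) ≤ (Spec.map (CommRingCat.ofHom (Ideal.Quotient.mk J)) ≫ X.fromSpecStalk x) ⁻¹ᵁ W := by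
    intro y _
    change (X.fromSpecStalk x) ((Spec.map (CommRingCat.ofHom (Ideal.Quotient.mk J))) y) ∈ W
    have : (Spec.map (CommRingCat.ofHom (Ideal.Quotient.mk J))) y ∈ X.fromSpecStalk x ⁻¹ᵁ W := by
      rw [htop]; trivial
    exact this
  have h1 : ((Spec.map (CommRingCat.ofHom (Ideal.Quotient.mk J)) ≫ X.fromSpecStalk x).appLE W ⊤ e).hom s = 0 := by
    rw [Scheme.Hom.appLE, CommRingCat.hom_comp, RingHom.comp_apply, h, map_zero]
  have h2 : (Spec.map (CommRingCat.ofHom (Ideal.Quotient.mk J)) ≫ X.fromSpecStalk x).appLE W ⊤ e = X.presheaf.germ W x hxW ≫ CommRingCat.ofHom (Ideal.Quotient.mk J) ≫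
      (Scheme.ΓSpecIso (CommRingCat.of (X.presheaf.stalk x ⧸ J))).inv := by
    rw [Scheme.Hom.comp_appLE, Scheme.fromSpecStalk_app hxW, Category.assoc, Category.assoc,
      Scheme.Hom.map_appLE, Scheme.ΓSpecIso_inv_naturality]
    rfl
  rw [h2] at h1
  have h3 : (Scheme.ΓSpecIso (CommRingCat.of (X.presheaf.stalk x ⧸ J))).inv.hom
      (Ideal.Quotient.mk J (X.presheaf.germ W x hxW s)) = 0 := h1
  have h4 : Ideal.Quotient.mk J (X.presheaf.germ W x hxW s) = 0 := by
    have h5 := congrArg (Scheme.ΓSpecIso (CommRingCat.of (X.presheaf.stalk x ⧸ J))).hom.hom h3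
    rw [map_zero, ← RingHom.comp_apply, ← CommRingCat.hom_comp, Iso.inv_hom_id, CommRingCat.hom_id,
      RingHom.id_apply] at h5
    exact h5
  exact Ideal.Quotient.eq_zero_iff_mem.1 h4

/-- the germs of the sections of an ideal sheaf lie in the powers of the maximal ideal as soon as
the infinitesimal neighbourhoods of the fibre factor through the closed subscheme -/
theorem germ_mem_pow {X S : Scheme.{u}} (p : X ⟶ S) (x : X) (I : X.IdealSheafData) (n : ℕ)
    (g : pullback p (Spec.map (CommRingCat.ofHom (Ideal.Quotient.mk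
        (IsLocalRing.maximalIdeal ↑(S.presheaf.stalk (p.base x)) ^ (n + 1)))) ≫
          S.fromSpecStalk (p.base x)) ⟶ I.subscheme)
    (hg : g ≫ I.subschemeι = pullback.fst p _)
    {W : X.Opens} (hW : IsAffineOpen W) (hxW : x ∈ W) (s : Γ(X, W)) (hs : s ∈ I.ideal ⟨W, hW⟩) :
    X.presheaf.germ W x hxW s ∈ IsLocalRing.maximalIdeal (X.presheaf.stalk x) ^ (n + 1) := by
  have hle : IsLocalRing.maximalIdeal (S.presheaf.stalk (p.base x)) ^ (n + 1) ≤
      (IsLocalRing.maximalIdeal (X.presheaf.stalk x) ^ (n + 1)).comap (p.stalkMap x).hom := by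
    rw [← Ideal.map_le_iff_le_comap, Ideal.map_pow]
    refine Ideal.pow_right_mono ?_ _
    exact ((IsLocalRing.local_hom_TFAE (p.stalkMap x).hom).out 0 2).1
      (inferInstance : IsLocalHom (p.stalkMap x).hom)
  have hφ' : CommRingCat.ofHom (Ideal.Quotient.mk
        (IsLocalRing.maximalIdeal (S.presheaf.stalk (p.base x)) ^ (n + 1))) ≫
      CommRingCat.ofHom (Ideal.quotientMap
        (IsLocalRing.maximalIdeal (X.presheaf.stalk x) ^ (n + 1)) (p.stalkMap x).hom hle) =
      p.stalkMap x ≫ CommRingCat.ofHom (Ideal.Quotient.mk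
        (IsLocalRing.maximalIdeal (X.presheaf.stalk x) ^ (n + 1))) := by
    ext r
    rfl
  have cond : (Spec.map (CommRingCat.ofHom (Ideal.Quotient.mk
        (IsLocalRing.maximalIdeal (X.presheaf.stalk x) ^ (n + 1)))) ≫ X.fromSpecStalk x) ≫ p =
      Spec.map (CommRingCat.ofHom (Ideal.quotientMap
        (IsLocalRing.maximalIdeal (X.presheaf.stalk x) ^ (n + 1)) (p.stalkMap x).hom hle)) ≫
      (Spec.map (CommRingCat.ofHom (Ideal.Quotient.mk
        (IsLocalRing.maximalIdeal ↑(S.presheaf.stalk (p.base x)) ^ (n + 1)))) ≫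
          S.fromSpecStalk (p.base x)) := by
    rw [Category.assoc, ← Scheme.SpecMap_stalkMap_fromSpecStalk, ← Spec.map_comp_assoc,
      ← Spec.map_comp_assoc, hφ']
    rfl
  have h1 : Spec.map (CommRingCat.ofHom (Ideal.Quotient.mk
        (IsLocalRing.maximalIdeal (X.presheaf.stalk x) ^ (n + 1)))) ≫ X.fromSpecStalk x =
      (pullback.lift _ _ cond ≫ g) ≫ I.subschemeι := by
    rw [Category.assoc, hg, pullback.lift_fst]
  apply app_eq_zero_imp x _ hxW s
  have h2 : I ≤ (Spec.map (CommRingCat.ofHom (Ideal.Quotient.mk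
        (IsLocalRing.maximalIdeal (X.presheaf.stalk x) ^ (n + 1)))) ≫ X.fromSpecStalk x).ker := by
    rw [h1]
    calc I = I.subschemeι.ker := I.ker_subschemeι.symm
      _ ≤ _ := Scheme.Hom.le_ker_comp _ _
  have h3 := (Scheme.IdealSheafData.le_def.1 h2 ⟨W, hW⟩).trans (Scheme.Hom.ideal_ker_le _ ⟨W, hW⟩)
  exact RingHom.mem_ker.1 (h3 hs)

/-- **main theorem**: a closed subscheme containing all infinitesimal neighbourhoods of the fibre
over `t` contains an open neighbourhood of that fibre -/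
theorem main {X S : Scheme.{u}} [IsLocallyNoetherian X] (p : X ⟶ S) (t : S)
    (I : X.IdealSheafData)
    (h : ∀ n : ℕ, ∃ g : pullback p (Spec.map (CommRingCat.ofHom (Ideal.Quotient.mk
        (IsLocalRing.maximalIdeal ↑(S.presheaf.stalk t) ^ (n + 1)))) ≫ S.fromSpecStalk t) ⟶
          I.subscheme, g ≫ I.subschemeι = pullback.fst p _) :
    ∃ U : X.Opens, (∀ x : X, p.base x = t → x ∈ U) ∧
      ∃ g : (U : Scheme.{u}) ⟶ I.subscheme, g ≫ I.subschemeι = U.ι := by
  let U : X.Opens := ⨆ V : {V : X.affineOpens // I.ideal V = ⊥}, V.1.1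
  refine ⟨U, ?_, ?_⟩
  · intro x hx
    subst hx
    obtain ⟨_, ⟨W, hW, rfl⟩, hxW, -⟩ :=
      X.isBasis_affineOpens.exists_subset_of_mem_open (Set.mem_univ x) isOpen_univ
    have hgerm : ∀ s ∈ I.ideal ⟨W, hW⟩, X.presheaf.germ W x hxW s = 0 := by
      intro s hs
      have hmem : X.presheaf.germ W x hxW s ∈
          ⨅ i, IsLocalRing.maximalIdeal (X.presheaf.stalk x) ^ i := by
        rw [Ideal.mem_iInf]
        intro i
        cases i with
        | zero => simp
        | succ n =>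
          obtain ⟨g, hg⟩ := h n
          exact germ_mem_pow p x I n g hg hW hxW s hs
      rwa [Ideal.iInf_pow_eq_bot_of_isLocalRing _
        (IsLocalRing.maximalIdeal.isMaximal _).ne_top, Ideal.mem_bot] at hmem
    obtain ⟨V, hxV, hV⟩ := exists_affine_ideal_eq_bot I x hW hxW hgerm
    exact Opens.mem_iSup.2 ⟨⟨V, hV⟩, hxV⟩
  · have key : ∀ V₁ V₂ : X.affineOpens, V₁ = V₂ → I.ideal V₂ = ⊥ → I.ideal V₁ = ⊥ := by
      rintro _ _ rfl h; exact h
    have hle : I ≤ U.ι.ker := by
      rw [Scheme.Hom.ker, Scheme.IdealSheafData.le_ofIdeals_iff]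
      intro W s hs
      rw [RingHom.mem_ker]
      change (X.presheaf.map (homOfLE (U.ι.image_preimage_le W.1)).op).hom s = 0
      refine TopCat.Presheaf.section_ext X.sheaf (U.ι ''ᵁ U.ι ⁻¹ᵁ W.1) _ _ (fun y hy => ?_)
      refine Eq.trans ?_ (map_zero (X.presheaf.germ (U.ι ''ᵁ U.ι ⁻¹ᵁ W.1) y hy).hom).symm
      change X.presheaf.germ (U.ι ''ᵁ U.ι ⁻¹ᵁ W.1) y hy ((X.presheaf.map
          (homOfLE (U.ι.image_preimage_le W.1)).op).hom s) = 0
      have hyW : y ∈ W.1 := (U.ι.image_preimage_le W.1) hy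
      have hyU : y ∈ U := by
        obtain ⟨z, -, rfl⟩ := hy
        exact z.2
      obtain ⟨V, hyV⟩ := Opens.mem_iSup.1 hyU
      obtain ⟨f, g, hfg, hyf⟩ := exists_basicOpen_le_affine_inter W.2 V.1.2 y ⟨hyW, hyV⟩
      have hV' : I.ideal (X.affineBasicOpen g) = ⊥ :=
        (I.map_ideal_basicOpen V.1 g).symm.trans (by rw [V.2]; exact Ideal.map_bot)
      have hW' : I.ideal (X.affineBasicOpen f) = ⊥ :=
        key (X.affineBasicOpen f) (X.affineBasicOpen g)
          (Subtype.ext (show (X.affineBasicOpen f).1 = (X.affineBasicOpen g).1 from hfg)) hV'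
      have hs' : (X.presheaf.map (homOfLE (X.basicOpen_le f)).op).hom s ∈
          (I.ideal W).map (X.presheaf.map (homOfLE (X.basicOpen_le f)).op).hom :=
        Ideal.mem_map_of_mem _ hs
      have hmap : (I.ideal W).map (X.presheaf.map (homOfLE (X.basicOpen_le f)).op).hom = ⊥ :=
        (I.map_ideal_basicOpen W f).trans hW'
      rw [hmap, Ideal.mem_bot] at hs'
      have e1 : X.presheaf.germ _ y hy ((X.presheaf.map
          (homOfLE (U.ι.image_preimage_le W.1)).op).hom s) = X.presheaf.germ W.1 y hyW s :=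
        TopCat.Presheaf.germ_res_apply X.presheaf _ y hy s
      have e2 : X.presheaf.germ (X.basicOpen f) y hyf ((X.presheaf.map
          (homOfLE (X.basicOpen_le f)).op).hom s) = X.presheaf.germ W.1 y hyW s :=
        TopCat.Presheaf.germ_res_apply X.presheaf _ y hyf s
      rw [e1, ← e2, hs', map_zero]
    exact ⟨U.ι.toImage ≫ Scheme.IdealSheafData.inclusion hle, by
      rw [Category.assoc, Scheme.IdealSheafData.inclusion_subschemeι, Scheme.Hom.toImage_imageι]⟩

end Groth.Agent.Lead.KrullFib
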