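import Mathlib

/-!
# Irreducible factors of `X^m - c` over a field containing the roots of unity
-/

set_option autoImplicit false

namespace Groth.Agent.Lead.Kum

open Polynomial

universe u

variable {K : Type u} [Field K]

theorem eq_X_pow_sub_C (hK : ∀ n : ℕ, 0 < n → (X ^ n - 1 : K[X]).Splits)
    (π : K[X]) (hπ : Irreducible π) (hmonic : π.Monic) (m : ℕ) (hm : 0 < m) (c : K) (hc : c ≠ 0)
    (hdvd : π ∣ X ^ m - C c) : ∃ a : K, π = X ^ π.natDegree - C a := by
  classical
  let Ω := AlgebraicClosure K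
  let i : K →+* Ω := algebraMap K Ω
  have hsplit : (π.map i).Splits := IsAlgClosed.splits _
  obtain ⟨S, hS⟩ : ∃ S, S = (π.map i).roots := ⟨_, rfl⟩
  have hcard : S.card = π.natDegree := by
    rw [hS, ← hsplit.natDegree_eq_card_roots, natDegree_map]
  have hR : 0 < π.natDegree := hπ.natDegree_pos
  obtain ⟨α, hα⟩ : ∃ α, α ∈ S := Multiset.card_pos_iff_exists_mem.mp (by omega)
  have hic : i c ≠ 0 := (map_ne_zero i).mpr hc
  have hroot : ∀ β ∈ S, β ^ m = i c := by
    intro β hβ
    rw [hS] at hβ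
    have h1 : (π.map i).eval β = 0 := (mem_roots (hmonic.map i).ne_zero).mp hβ
    obtain ⟨q, hq⟩ := hdvd
    have h2 : ((X ^ m - C c : K[X]).map i).eval β = 0 := by
      rw [hq, Polynomial.map_mul, eval_mul, h1, zero_mul]
    simpa [sub_eq_zero] using h2
  have hne : ∀ β ∈ S, β ≠ 0 := by
    intro β hβ h
    have := hroot β hβ
    rw [h, zero_pow hm.ne'] at this
    exact hic this.symm
  have hα0 : α ≠ 0 := hne α hα
  have hζ : ∀ β ∈ S, ∃ ζ : K, β = i ζ * α := by
    intro β hβ
    have h1 : (β / α) ^ m = 1 := by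
      rw [div_pow, hroot β hβ, hroot α hα, div_self hic]
    have h2 : ((X ^ m - 1 : K[X]).map i).IsRoot (β / α) := by
      simp [h1]
    obtain ⟨ζ, hζ⟩ := (hK m hm).mem_range_of_isRoot (X_pow_sub_C_ne_zero hm (1 : K)) h2
    refine ⟨ζ, ?_⟩
    rw [hζ, div_mul_cancel₀ _ hα0]
  choose! ζ hζ using hζ
  have hSeq : S = S.map (fun β => i (ζ β) * α) := by
    conv_lhs => rw [← Multiset.map_id S]
    exact Multiset.map_congr rfl (fun β hβ => hζ β hβ)
  have hprod : S.prod = i ((S.map ζ).prod) * α ^ π.natDegree := by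
    rw [← hcard]
    conv_lhs => rw [hSeq]
    rw [Multiset.prod_map_mul, Multiset.map_const', Multiset.prod_replicate, map_multiset_prod,
      Multiset.map_map]
    rfl
  have hS0 : S.prod ≠ 0 := by
    rw [Ne, Multiset.prod_eq_zero_iff]
    intro h0
    exact hne 0 h0 rfl
  have hZ0 : (S.map ζ).prod ≠ 0 := by
    intro h
    rw [h, map_zero, zero_mul] at hprod
    exact hS0 hprod
  have heval : (π.map i).eval 0 = (S.map (fun β => 0 - β)).prod := by
    rw [hS]
    exact hsplit.eval_eq_prod_roots_of_monic (hmonic.map i) 0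
  have heval2 : i (π.coeff 0) = (-1) ^ π.natDegree * S.prod := by
    have h1 : (π.map i).eval 0 = i (π.coeff 0) := by
      rw [← coeff_zero_eq_eval_zero, coeff_map]
    rw [← h1, heval]
    simp only [zero_sub]
    rw [Multiset.prod_map_neg, hcard]
  let a : K := (-1) ^ π.natDegree * π.coeff 0 / (S.map ζ).prod
  have hαR : α ^ π.natDegree = i a := by
    have h1 : i a = (-1) ^ π.natDegree * i (π.coeff 0) / i ((S.map ζ).prod) := by
      simp only [a, map_div₀, map_mul, map_pow, map_neg, map_one]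
    have hiZ : i ((S.map ζ).prod) ≠ 0 := (map_ne_zero i).mpr hZ0
    rw [h1, heval2, hprod, eq_div_iff hiZ, ← mul_assoc, ← mul_assoc, ← mul_pow]
    rw [neg_one_mul, neg_neg, one_pow, one_mul, mul_comm]
  refine ⟨a, ?_⟩
  have hαroot : aeval α π = 0 := by
    rw [hS] at hα
    have h1 : (π.map i).eval α = 0 := (mem_roots (hmonic.map i).ne_zero).mp hα
    rwa [eval_map_algebraMap] at h1
  have hmin : π = minpoly K α := minpoly.eq_of_irreducible_of_monic hπ hαroot hmonic
  have hdvd2 : π ∣ X ^ π.natDegree - C a := by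
    rw [hmin]
    apply minpoly.dvd
    rw [← hmin]
    simp only [map_sub, map_pow, aeval_X, aeval_C]
    rw [hαR, sub_self]
  exact (Polynomial.eq_of_monic_of_dvd_of_natDegree_le hmonic (monic_X_pow_sub_C a hR.ne') hdvd2
    (by rw [natDegree_X_pow_sub_C])).symm

theorem natDegree_eq_of_dvd (hK : ∀ n : ℕ, 0 < n → (X ^ n - 1 : K[X]).Splits)
    (π π' : K[X]) (hπ : Irreducible π) (hmonic : π.Monic) (hπ' : Irreducible π')
    (hmonic' : π'.Monic) (m : ℕ) (hm : 0 < m) (c : K) (hc : c ≠ 0)
    (hdvd : π ∣ X ^ m - C c) (hdvd' : π' ∣ X ^ m - C c) : π.natDegree = π'.natDegree := by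
  classical
  let Ω := AlgebraicClosure K
  let i : K →+* Ω := algebraMap K Ω
  have hic : i c ≠ 0 := (map_ne_zero i).mpr hc
  have key : ∀ ρ : K[X], Irreducible ρ → ρ.Monic → ρ ∣ X ^ m - C c →
      ∃ α : Ω, α ^ m = i c ∧ ρ = minpoly K α := by
    intro ρ hρ hρm hρd
    have hdeg : (ρ.map i).degree ≠ 0 := by
      rw [degree_map]
      exact (hρ.degree_pos).ne'
    obtain ⟨α, hα⟩ := IsAlgClosed.exists_root (ρ.map i) hdeg
    have hαroot : aeval α ρ = 0 := by
      rwa [IsRoot.def, eval_map_algebraMap] at hα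
    refine ⟨α, ?_, minpoly.eq_of_irreducible_of_monic hρ hαroot hρm⟩
    obtain ⟨q, hq⟩ := hρd
    have h2 : aeval α (X ^ m - C c : K[X]) = 0 := by
      rw [hq, map_mul, hαroot, zero_mul]
    simpa [sub_eq_zero] using h2
  obtain ⟨α, hαm, hα⟩ := key π hπ hmonic hdvd
  obtain ⟨α', hαm', hα'⟩ := key π' hπ' hmonic' hdvd'
  have hα0 : α ≠ 0 := by
    intro h
    rw [h, zero_pow hm.ne'] at hαm
    exact hic hαm.symm
  have h1 : (α' / α) ^ m = 1 := by
    rw [div_pow, hαm, hαm', div_self hic]
  have h2 : ((X ^ m - 1 : K[X]).map i).IsRoot (α' / α) := by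
    simp [h1]
  obtain ⟨ζ, hζ⟩ := (hK m hm).mem_range_of_isRoot (X_pow_sub_C_ne_zero hm (1 : K)) h2
  have hζ0 : i ζ ≠ 0 := by
    rw [hζ]
    intro h
    rw [h, zero_pow hm.ne'] at h1
    exact zero_ne_one h1
  have hrel : α' = i ζ * α := by rw [hζ, div_mul_cancel₀ _ hα0]
  have hint : IsIntegral K α := Algebra.IsIntegral.isIntegral α
  have hint' : IsIntegral K α' := Algebra.IsIntegral.isIntegral α'
  have hadj : IntermediateField.adjoin K ({α} : Set Ω) = IntermediateField.adjoin K ({α'} : Set Ω) := by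
    apply le_antisymm
    · rw [IntermediateField.adjoin_simple_le_iff]
      have h3 : α = (i ζ)⁻¹ * α' := by
        rw [hrel, ← mul_assoc, inv_mul_cancel₀ hζ0, one_mul]
      rw [h3]
      exact mul_mem (inv_mem (IntermediateField.algebraMap_mem _ ζ))
        (IntermediateField.mem_adjoin_simple_self K α')
    · rw [IntermediateField.adjoin_simple_le_iff, hrel]
      exact mul_mem (IntermediateField.algebraMap_mem _ ζ)
        (IntermediateField.mem_adjoin_simple_self K α)
  rw [hα, hα', ← IntermediateField.adjoin.finrank hint, ← IntermediateField.adjoin.finrank hint',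
    hadj]

/-- a root of the characteristic polynomial is a root of every annihilating polynomial -/
theorem isRoot_of_isRoot_charpoly {L : Type u} [Field L] {d : ℕ} (M : Matrix (Fin d) (Fin d) L)
    (l : L) (hl : M.charpoly.IsRoot l) (q : L[X]) (hq : aeval M q = 0) : q.IsRoot l := by
  classical
  have hdet : (Matrix.scalar (Fin d) l - M).det = 0 := by
    rw [← Matrix.eval_charpoly]
    exact hl
  obtain ⟨v, hv0, hv⟩ := Matrix.exists_mulVec_eq_zero_iff.mpr hdet
  have hMv : M.mulVec v = l • v := by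
    rw [Matrix.sub_mulVec, sub_eq_zero] at hv
    rw [← hv]
    ext j
    simp [Matrix.mulVec, dotProduct, Matrix.scalar_apply, Matrix.diagonal_apply, Finset.sum_ite_eq]
  have hpow : ∀ n : ℕ, (M ^ n).mulVec v = l ^ n • v := by
    intro n
    induction n with
    | zero => simp
    | succ n ih =>
      rw [pow_succ, ← Matrix.mulVec_mulVec, hMv, Matrix.mulVec_smul, ih, smul_smul, pow_succ, mul_comm]
  have hgen : ∀ p : L[X], (aeval M p).mulVec v = p.eval l • v := by
    intro p
    induction p using Polynomial.induction_on' with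
    | add p q hp hq => rw [map_add, Matrix.add_mulVec, hp, hq, eval_add, add_smul]
    | monomial n a =>
      rw [aeval_monomial, Algebra.algebraMap_eq_smul_one, Matrix.smul_mul, one_mul,
        Matrix.smul_mulVec, hpow, eval_monomial, smul_smul]
  have h1 := hgen q
  rw [hq, Matrix.zero_mulVec] at h1
  rcases smul_eq_zero.mp h1.symm with h2 | h2
  · exact h2
  · exact absurd h2 hv0

end Groth.Agent.Lead.Kum
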