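import Mathlib
import Groth.Agent.Lib.Lead.LFA

/-!
# Commutative algebra: fibre dimension, invariance and the reduced case (lead)
-/

set_option autoImplicit false
universe u
open TensorProduct

namespace Groth.Agent.Lead.LFA

section inv

variable {A B : Type u} [CommRing A] [CommRing B] [IsLocalRing A] [IsLocalRing B]
  (e : A ≃+* B) {N N' : Type u} [AddCommGroup N] [AddCommGroup N'] [Module A N] [Module B N']
  (j : N ≃+ N') (hj : ∀ (a : A) (n : N), j (a • n) = e a • j n)

local notation "kA" => IsLocalRing.ResidueField A
local notation "kB" => IsLocalRing.ResidueField B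

/-- the forward map on fibres -/
noncomputable def fibreMap (e : A ≃+* B) (j : N ≃+ N')
    (hj : ∀ (a : A) (n : N), j (a • n) = e a • j n) :
    IsLocalRing.ResidueField A ⊗[A] N →+ IsLocalRing.ResidueField B ⊗[B] N' :=
  TensorProduct.liftAddHom
    { toFun := fun a' =>
        { toFun := fun n => (IsLocalRing.ResidueField.mapEquiv e a') ⊗ₜ[B] (j n)
          map_zero' := by simp
          map_add' := fun n n' => by simp [tmul_add] }
      map_zero' := by ext n; simp
      map_add' := fun a a' => by ext n; simp [add_tmul] }
    (fun r a' n => by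
      obtain ⟨a', rfl⟩ := IsLocalRing.residue_surjective a'
      change (IsLocalRing.ResidueField.mapEquiv e (r • IsLocalRing.residue A a')) ⊗ₜ[B] (j n) =
        (IsLocalRing.ResidueField.mapEquiv e (IsLocalRing.residue A a')) ⊗ₜ[B] (j (r • n))
      rw [hj, tmul_smul, smul_tmul']
      congr 1
      rw [Algebra.smul_def, Algebra.smul_def, map_mul]
      rfl)

@[simp] lemma fibreMap_tmul (a' : IsLocalRing.ResidueField A) (n : N) :
    fibreMap e j hj (a' ⊗ₜ n) = (IsLocalRing.ResidueField.mapEquiv e a') ⊗ₜ[B] (j n) := rfl

include hj in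
/-- fibre dimension is invariant under semilinear isomorphisms of local rings and modules -/
theorem finrank_fibre_eq :
    Module.finrank (IsLocalRing.ResidueField A) (IsLocalRing.ResidueField A ⊗[A] N) =
      Module.finrank (IsLocalRing.ResidueField B) (IsLocalRing.ResidueField B ⊗[B] N') := by
  have hj' : ∀ (b : B) (n' : N'), j.symm (b • n') = e.symm b • j.symm n' := by
    intro b n'
    apply j.injective
    rw [hj]
    simp
  let J : IsLocalRing.ResidueField A ⊗[A] N ≃+ IsLocalRing.ResidueField B ⊗[B] N' :=
    { toFun := fibreMap e j hj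
      invFun := fibreMap e.symm j.symm hj'
      left_inv := fun t => by
        induction t using TensorProduct.induction_on with
        | zero => simp
        | tmul a n =>
          rw [fibreMap_tmul, fibreMap_tmul, ← IsLocalRing.ResidueField.mapEquiv.symm]
          simp
        | add x y hx hy => rw [map_add, map_add, hx, hy]
      right_inv := fun t => by
        induction t using TensorProduct.induction_on with
        | zero => simp
        | tmul a n =>
          rw [fibreMap_tmul, fibreMap_tmul, ← IsLocalRing.ResidueField.mapEquiv.symm]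
          simp
        | add x y hx hy => rw [map_add, map_add, hx, hy]
      map_add' := map_add _ }
  have hc : ∀ (c : IsLocalRing.ResidueField A) (t : IsLocalRing.ResidueField A ⊗[A] N),
      J (c • t) = IsLocalRing.ResidueField.mapEquiv e c • J t := by
    intro c t
    induction t using TensorProduct.induction_on with
    | zero => simp
    | tmul a n =>
      change fibreMap e j hj (c • a ⊗ₜ[A] n) = _ • fibreMap e j hj (a ⊗ₜ[A] n)
      rw [smul_tmul', fibreMap_tmul, fibreMap_tmul, smul_tmul', smul_eq_mul, smul_eq_mul, map_mul]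
    | add x y hx hy => rw [smul_add, map_add, map_add, hx, hy, smul_add]
  have := rank_eq_of_equiv_equiv (IsLocalRing.ResidueField.mapEquiv e) J
    (IsLocalRing.ResidueField.mapEquiv e).bijective hc
  unfold Module.finrank
  rw [this]

end inv

variable {R : Type u} [CommRing R] {P : Type u} [AddCommGroup P] [Module R P]

/-- the fibre dimension can be computed on any model of the localization -/
theorem fibreDim_eq (p : PrimeSpectrum R)
    (Rₚ Mₚ : Type u) [CommRing Rₚ] [IsLocalRing Rₚ] [Algebra R Rₚ]
    [IsLocalization.AtPrime Rₚ p.asIdeal]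
    [AddCommGroup Mₚ] [Module R Mₚ] (f : P →ₗ[R] Mₚ) [IsLocalizedModule p.asIdeal.primeCompl f]
    [Module Rₚ Mₚ] [IsScalarTower R Rₚ Mₚ] :
    fibreDim P p = Module.finrank (IsLocalRing.ResidueField Rₚ)
      (IsLocalRing.ResidueField Rₚ ⊗[Rₚ] Mₚ) := by
  set e := (IsLocalization.algEquiv p.asIdeal.primeCompl
      (Localization.AtPrime p.asIdeal) Rₚ).toRingEquiv with he
  have hsmul : ∀ (r : Localization.AtPrime p.asIdeal)
      (x : LocalizedModule p.asIdeal.primeCompl P),
      (IsLocalizedModule.iso p.asIdeal.primeCompl f).toAddEquiv (r • x) =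
        e r • (IsLocalizedModule.iso p.asIdeal.primeCompl f).toAddEquiv x := by
    intro r x
    obtain ⟨r, s, rfl⟩ := IsLocalization.exists_mk'_eq p.asIdeal.primeCompl r
    apply ((Module.End.isUnit_iff _).mp (IsLocalizedModule.map_units f s)).1
    simp [e, ← map_smul, ← smul_assoc]
  exact finrank_fibre_eq e _ hsmul

/-- at a prime where the fibre has the right dimension, the coefficients of a relation lie in the
prime -/
theorem coeff_mem_of_fibreDim [Module.Finite R P] {κ : Type u} [Fintype κ] (x : κ → P) (h : R)
    (ha : ∀ y : P, h • y ∈ Submodule.span R (Set.range x)) (q : PrimeSpectrum R)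
    (hq : h ∉ q.asIdeal) (hdim : fibreDim P q = Fintype.card κ)
    (c : κ →₀ R) (hc : Finsupp.linearCombination R x c = 0) (i : κ) : c i ∈ q.asIdeal := by
  classical
  let S := q.asIdeal.primeCompl
  let A := Localization.AtPrime q.asIdeal
  let N := LocalizedModule S P
  let k := IsLocalRing.ResidueField A
  haveI : Module.Finite A N := Module.Finite.of_isLocalizedModule S (Rₚ := A)
    (LocalizedModule.mkLinearMap S P)
  have h1 : Function.Surjective (locMap S x) := locMap_surjective S x h hq ha
  have h2 : Function.Surjective ((locMap S x).baseChange k) :=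
    (locMap S x).lTensor_surjective _ h1
  have hfr : Module.finrank k (k ⊗[A] (κ →₀ A)) = Module.finrank k (k ⊗[A] N) := by
    rw [Module.finrank_baseChange, Module.finrank_finsupp_self]
    exact hdim.symm
  have h3 : Function.Injective ((locMap S x).baseChange k) :=
    (LinearMap.injective_iff_surjective_of_finrank_eq_finrank hfr).2 h2
  have h4 : locMap S x (fS S κ c) = 0 := by
    have := locMap_mk' S x c 1
    rw [IsLocalizedModule.mk'_one, hc, IsLocalizedModule.mk'_zero] at this
    exact this
  have h5 : (1 : k) ⊗ₜ[A] (fS S κ c) = 0 := by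
    apply h3
    rw [LinearMap.baseChange_tmul, h4, tmul_zero, map_zero]
  have h6 := congrArg (fun t => TensorProduct.rid A k
    (LinearMap.lTensor k (Finsupp.lapply (R := A) i) t)) h5
  simp only [LinearMap.lTensor_tmul, map_zero, TensorProduct.rid_tmul] at h6
  have h7 : IsLocalRing.residue A (algebraMap R A (c i)) = 0 := by
    have h6' : (algebraMap A k) ((algebraMap R A) (c i)) = 0 := by
      simpa [Algebra.smul_def] using h6
    exact h6'
  rw [IsLocalRing.residue_eq_zero_iff] at h7
  exact (IsLocalization.AtPrime.to_map_mem_maximal_iff A q.asIdeal (c i)).1 h7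

/-- over a reduced ring, a finite module with locally constant fibre dimension is locally free -/
theorem exists_free_away_of_isReduced [IsReduced R] [Module.Finite R P]
    (hlc : IsLocallyConstant (fibreDim (R := R) P)) (p : PrimeSpectrum R) :
    ∃ h : R, h ∉ p.asIdeal ∧ Module.Free (Localization.Away h) (LocalizedModule.Away h P) := by
  obtain ⟨κ, _, x, r, hr, hcard, hx⟩ := exists_generators (P := P) p
  have hopen : IsOpen {q : PrimeSpectrum R | fibreDim P q = fibreDim P p} :=
    hlc.isOpen_fiber _
  obtain ⟨_, ⟨g, rfl⟩, hpg, hgsub⟩ :=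
    PrimeSpectrum.isTopologicalBasis_basic_opens.exists_subset_of_mem_open
      (show p ∈ {q : PrimeSpectrum R | fibreDim P q = fibreDim P p} from rfl) hopen
  refine ⟨r * g, ?_, ?_⟩
  · exact p.isPrime.mul_notMem hr hpg
  · have ha : ∀ y : P, (r * g) • y ∈ Submodule.span R (Set.range x) := fun y => by
      rw [mul_comm, mul_smul]
      exact Submodule.smul_mem _ _ (hx y)
    refine free_away x (r * g) ha (fun c hc => ⟨1, ?_⟩)
    rw [pow_one]
    ext i
    rw [Finsupp.smul_apply, Finsupp.zero_apply, smul_eq_mul]
    have hnil : (r * g) * c i ∈ nilradical R := by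
      rw [nilradical_eq_sInf, Ideal.mem_sInf]
      intro J hJ
      by_cases hJh : r * g ∈ J
      · exact J.mul_mem_right _ hJh
      · have hqg : g ∉ J := fun hg => hJh (J.mul_mem_left r hg)
        have hdim : fibreDim P ⟨J, hJ⟩ = Fintype.card κ := by
          rw [hcard]
          exact hgsub (show (⟨J, hJ⟩ : PrimeSpectrum R) ∈ _ from hqg)
        exact J.mul_mem_left _ (coeff_mem_of_fibreDim x (r * g) ha ⟨J, hJ⟩ hJh hdim c hc i)
    rw [nilradical_eq_zero] at hnil
    exact hnil

end Groth.Agent.Lead.LFA
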