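import Mathlib
import Groth.Prelude.Def_W4stkremschemesLRS

/-!
# Closed immersions of locally ringed spaces: the universal property (lead)
-/

set_option autoImplicit false
set_option linter.unusedSectionVars false
universe u
open CategoryTheory TopologicalSpace Opposite AlgebraicGeometry TopCat

namespace Groth.Agent.Lead.LRS

section Basic

variable {A B : LocallyRingedSpace.{u}} (φ : A ⟶ B)

theorem c_res {W W' : Opens B.toTopCat} (h : W' ≤ W) (s : B.presheaf.obj (op W)) :
    φ.c.app (op W') (B.presheaf.map (homOfLE h).op s) =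
      A.presheaf.map (homOfLE (leOfHom ((Opens.map φ.base).map (homOfLE h)))).op
        (φ.c.app (op W) s) := by
  have hn := φ.c.naturality (homOfLE h).op
  show (B.presheaf.map (homOfLE h).op ≫ φ.c.app (op W')).hom s =
    (φ.c.app (op W) ≫ (φ.base _* A.presheaf).map (homOfLE h).op).hom s
  rw [hn]

theorem res_res {W W' W'' : Opens B.toTopCat} (h : W' ≤ W) (h' : W'' ≤ W')
    (s : B.presheaf.obj (op W)) :
    B.presheaf.map (homOfLE h').op (B.presheaf.map (homOfLE h).op s) =
      B.presheaf.map (homOfLE (h'.trans h)).op s := by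
  rw [← ConcreteCategory.comp_apply, ← Functor.map_comp]
  rfl

theorem res_self {W : Opens B.toTopCat} (h : W ≤ W) (s : B.presheaf.obj (op W)) :
    B.presheaf.map (homOfLE h).op s = s := by
  have : (homOfLE h).op = 𝟙 (op W) := Subsingleton.elim _ _
  rw [this, B.presheaf.map_id]
  rfl

/-- the germ of the image of a section -/
theorem germ_c_res {W W' : Opens B.toTopCat} (h : W' ≤ W) (s : B.presheaf.obj (op W)) (y : A)
    (hy : φ.base y ∈ W') :
    A.presheaf.germ ((Opens.map φ.base).obj W') y hy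
        (φ.c.app (op W') (B.presheaf.map (homOfLE h).op s)) =
      A.presheaf.germ ((Opens.map φ.base).obj W) y (h hy) (φ.c.app (op W) s) := by
  rw [c_res]
  exact TopCat.Presheaf.germ_res_apply A.presheaf _ y hy _

end Basic

section Construction

variable {Z X Y : LocallyRingedSpace.{u}} (i : Z ⟶ X) (f : Y ⟶ X)

/-- `f` kills the kernel of `i` -/
def Kills : Prop :=
  ∀ (U : Opens X.toTopCat) (s : X.presheaf.obj (op U)), i.c.app (op U) s = 0 → f.c.app (op U) s = 0

variable {i f}

theorem Kills.eq (hk : Kills i f) {W : Opens X.toTopCat} (s s' : X.presheaf.obj (op W))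
    (h : i.c.app (op W) s = i.c.app (op W) s') : f.c.app (op W) s = f.c.app (op W) s' := by
  have h0 : i.c.app (op W) (s - s') = 0 := by rw [map_sub, h, sub_self]
  have h1 := hk W (s - s') h0
  rw [map_sub, sub_eq_zero] at h1
  exact h1

variable (i f)
variable (gb : Y.toTopCat ⟶ Z.toTopCat) (hgb : gb ≫ i.base = f.base)

include hgb in
theorem i_gb (y : Y) : i.base (gb y) = f.base y := by
  rw [← hgb]
  rfl

include hgb in
theorem map_le {W : Opens X.toTopCat} {V : Opens Z.toTopCat}
    (hW : (Opens.map i.base).obj W ≤ V) :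
    (Opens.map f.base).obj W ≤ (Opens.map gb).obj V := by
  intro y hy
  apply hW
  show i.base (gb y) ∈ W
  rw [i_gb i f gb hgb]
  exact hy

/-- `c` is the germ at `y` determined by the section `t` of `O_Z` over `V` -/
def GermLift (V : Opens Z.toTopCat) (t : Z.presheaf.obj (op V)) (y : Y)
    (c : Y.presheaf.stalk y) : Prop :=
  ∃ (W : Opens X.toTopCat) (hW : (Opens.map i.base).obj W ≤ V) (s : X.presheaf.obj (op W))
    (hy : f.base y ∈ W),
    i.c.app (op W) s = Z.presheaf.map (homOfLE hW).op t ∧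
    c = Y.presheaf.germ ((Opens.map f.base).obj W) y hy (f.c.app (op W) s)

variable {i f}

theorem GermLift.unique (hk : Kills i f) {V : Opens Z.toTopCat} {t : Z.presheaf.obj (op V)} {y : Y}
    {c c' : Y.presheaf.stalk y} (h : GermLift i f V t y c) (h' : GermLift i f V t y c') :
    c = c' := by
  obtain ⟨W, hW, s, hy, hs, rfl⟩ := h
  obtain ⟨W', hW', s', hy', hs', rfl⟩ := h'
  have e1 := germ_c_res f (inf_le_left : W ⊓ W' ≤ W) s y ⟨hy, hy'⟩
  have e2 := germ_c_res f (inf_le_right : W ⊓ W' ≤ W') s' y ⟨hy, hy'⟩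
  rw [← e1, ← e2]
  congr 1
  apply hk.eq
  rw [c_res, c_res, hs, hs', res_res, res_res]

theorem GermLift.add {V : Opens Z.toTopCat} {t t' : Z.presheaf.obj (op V)} {y : Y}
    {c c' : Y.presheaf.stalk y} (h : GermLift i f V t y c) (h' : GermLift i f V t' y c') :
    GermLift i f V (t + t') y (c + c') := by
  obtain ⟨W, hW, s, hy, hs, rfl⟩ := h
  obtain ⟨W', hW', s', hy', hs', rfl⟩ := h'
  have e1 := germ_c_res f (inf_le_left : W ⊓ W' ≤ W) s y ⟨hy, hy'⟩
  have e2 := germ_c_res f (inf_le_right : W ⊓ W' ≤ W') s' y ⟨hy, hy'⟩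
  refine ⟨W ⊓ W', le_trans (leOfHom ((Opens.map i.base).map (homOfLE inf_le_left))) hW,
    X.presheaf.map (homOfLE inf_le_left).op s + X.presheaf.map (homOfLE inf_le_right).op s',
    ⟨hy, hy'⟩, ?_, ?_⟩
  · rw [map_add, map_add, c_res, c_res, hs, hs', res_res, res_res]
  · rw [map_add, map_add, e1, e2]

theorem GermLift.mul {V : Opens Z.toTopCat} {t t' : Z.presheaf.obj (op V)} {y : Y}
    {c c' : Y.presheaf.stalk y} (h : GermLift i f V t y c) (h' : GermLift i f V t' y c') :
    GermLift i f V (t * t') y (c * c') := by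
  obtain ⟨W, hW, s, hy, hs, rfl⟩ := h
  obtain ⟨W', hW', s', hy', hs', rfl⟩ := h'
  have e1 := germ_c_res f (inf_le_left : W ⊓ W' ≤ W) s y ⟨hy, hy'⟩
  have e2 := germ_c_res f (inf_le_right : W ⊓ W' ≤ W') s' y ⟨hy, hy'⟩
  refine ⟨W ⊓ W', le_trans (leOfHom ((Opens.map i.base).map (homOfLE inf_le_left))) hW,
    X.presheaf.map (homOfLE inf_le_left).op s * X.presheaf.map (homOfLE inf_le_right).op s',
    ⟨hy, hy'⟩, ?_, ?_⟩
  · rw [map_mul, map_mul, c_res, c_res, hs, hs', res_res, res_res]
  · rw [map_mul, map_mul, e1, e2]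

/-- a lift over a smaller open is a lift over a bigger one -/
theorem GermLift.of_le {V V' : Opens Z.toTopCat} (hV : V' ≤ V) {t : Z.presheaf.obj (op V)} {y : Y}
    {c : Y.presheaf.stalk y} (h : GermLift i f V' (Z.presheaf.map (homOfLE hV).op t) y c) :
    GermLift i f V t y c := by
  obtain ⟨W, hW, s, hy, hs, rfl⟩ := h
  refine ⟨W, hW.trans hV, s, hy, ?_, rfl⟩
  rw [hs, res_res]

end Construction

section Exist

variable {Z X Y : LocallyRingedSpace.{u}} (i : Z ⟶ X) (f : Y ⟶ X)
  (gb : Y.toTopCat ⟶ Z.toTopCat) (hgb : gb ≫ i.base = f.base)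
  (hcl : Topology.IsClosedEmbedding i.base)
  (hsurj : TopCat.Presheaf.IsLocallySurjective i.c)

/-- the largest open of `X` whose preimage in `Z` is contained in `V` -/
def bigOpen (V : Opens Z.toTopCat) : Opens X.toTopCat :=
  ⟨(i.base '' (V : Set Z.toTopCat)ᶜ)ᶜ, (hcl.isClosedMap _ V.isOpen.isClosed_compl).isOpen_compl⟩

theorem map_bigOpen_le (V : Opens Z.toTopCat) :
    (Opens.map i.base).obj (bigOpen i hcl V) ≤ V := by
  intro z hz
  by_contra hzV
  exact hz ⟨z, hzV, rfl⟩

theorem mem_bigOpen (V : Opens Z.toTopCat) (z : Z) (hz : z ∈ V) : i.base z ∈ bigOpen i hcl V := by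
  rintro ⟨z', hz', e⟩
  have h1 : z' = z := hcl.injective e
  exact hz' (h1 ▸ hz)

include hgb in
theorem f_mem_bigOpen (V : Opens Z.toTopCat) (y : Y) (hy : gb y ∈ V) :
    f.base y ∈ bigOpen i hcl V := by
  rw [← i_gb i f gb hgb]
  exact mem_bigOpen i hcl V _ hy

include hgb hsurj hcl in
theorem exists_germLift (V : Opens Z.toTopCat) (t : Z.presheaf.obj (op V)) (y : Y)
    (hy : gb y ∈ V) :
    ∃ (W : Opens X.toTopCat) (hW : (Opens.map i.base).obj W ≤ V) (s : X.presheaf.obj (op W)),
      f.base y ∈ W ∧ i.c.app (op W) s = Z.presheaf.map (homOfLE hW).op t := by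
  have hx := f_mem_bigOpen i f gb hgb hcl V y hy
  obtain ⟨W, hWU, ⟨s, hs⟩, hxW⟩ := (TopCat.Presheaf.isLocallySurjective_iff i.c).1 hsurj
    (bigOpen i hcl V) (Z.presheaf.map (homOfLE (map_bigOpen_le i hcl V)).op t) (f.base y) hx
  refine ⟨W, le_trans (leOfHom ((Opens.map i.base).map (homOfLE hWU))) (map_bigOpen_le i hcl V),
    s, hxW, ?_⟩
  rw [hs]
  exact res_res (B := Z) (map_bigOpen_le i hcl V)
    (leOfHom ((Opens.map i.base).map (homOfLE hWU))) t

include hgb hcl in
theorem GermLift.one (V : Opens Z.toTopCat) (y : Y) (hy : gb y ∈ V) :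
    GermLift i f V 1 y 1 :=
  ⟨bigOpen i hcl V, map_bigOpen_le i hcl V, 1, f_mem_bigOpen i f gb hgb hcl V y hy,
    by rw [map_one, map_one], by rw [map_one, map_one]⟩

include hgb hcl in
theorem GermLift.zero (V : Opens Z.toTopCat) (y : Y) (hy : gb y ∈ V) :
    GermLift i f V 0 y 0 :=
  ⟨bigOpen i hcl V, map_bigOpen_le i hcl V, 0, f_mem_bigOpen i f gb hgb hcl V y hy,
    by rw [map_zero, map_zero], by rw [map_zero, map_zero]⟩

include hgb hsurj hcl in
theorem exists_section (hk : Kills i f) (V : Opens Z.toTopCat) (t : Z.presheaf.obj (op V)) :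
    ∃ a : Y.presheaf.obj (op ((Opens.map gb).obj V)),
      ∀ (y : Y) (hy : y ∈ (Opens.map gb).obj V),
        GermLift i f V t y (Y.presheaf.germ ((Opens.map gb).obj V) y hy a) := by
  have hloc : ∀ y : ((Opens.map gb).obj V : Opens Y.toTopCat),
      ∃ (W : Opens X.toTopCat) (hW : (Opens.map i.base).obj W ≤ V) (s : X.presheaf.obj (op W)),
        f.base y.1 ∈ W ∧ i.c.app (op W) s = Z.presheaf.map (homOfLE hW).op t := fun y =>
    exists_germLift i f gb hgb hcl hsurj V t y.1 y.2
  choose W hW s hyW hs using hloc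
  have hcomp : TopCat.Presheaf.IsCompatible Y.presheaf
      (fun y => (Opens.map f.base).obj (W y)) (fun y => f.c.app (op (W y)) (s y)) := by
    intro y y'
    apply TopCat.Presheaf.section_ext Y.sheaf
    intro y'' hy''
    erw [TopCat.Presheaf.germ_res_apply, TopCat.Presheaf.germ_res_apply]
    apply GermLift.unique hk (V := V) (t := t)
    · exact ⟨W y, hW y, s y, hy''.1, hs y, rfl⟩
    · exact ⟨W y', hW y', s y', hy''.2, hs y', rfl⟩
  obtain ⟨a, ha, -⟩ := Y.sheaf.existsUnique_gluing'
    (fun y => (Opens.map f.base).obj (W y)) ((Opens.map gb).obj V)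
    (fun y => homOfLE (map_le i f gb hgb (hW y)))
    (fun y hy => Opens.mem_iSup.2 ⟨⟨y, hy⟩, hyW ⟨y, hy⟩⟩)
    (fun y => f.c.app (op (W y)) (s y)) hcomp
  refine ⟨a, fun y hy => ?_⟩
  refine ⟨W ⟨y, hy⟩, hW _, s _, hyW _, hs _, ?_⟩
  have h1 := ha ⟨y, hy⟩
  have h2 : f.c.app (op (W ⟨y, hy⟩)) (s ⟨y, hy⟩) =
      Y.presheaf.map (homOfLE (map_le i f gb hgb (hW ⟨y, hy⟩))).op a := h1.symm
  rw [h2]
  exact (TopCat.Presheaf.germ_res_apply Y.presheaf _ y (hyW ⟨y, hy⟩) a).symm

/-- the section of `O_Y` attached to a section of `O_Z` -/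
noncomputable def γfun (hk : Kills i f) (V : Opens Z.toTopCat) (t : Z.presheaf.obj (op V)) :
    Y.presheaf.obj (op ((Opens.map gb).obj V)) :=
  (exists_section i f gb hgb hcl hsurj hk V t).choose

theorem γfun_spec (hk : Kills i f) (V : Opens Z.toTopCat) (t : Z.presheaf.obj (op V))
    (y : Y) (hy : y ∈ (Opens.map gb).obj V) :
    GermLift i f V t y (Y.presheaf.germ ((Opens.map gb).obj V) y hy
      (γfun i f gb hgb hcl hsurj hk V t)) :=
  (exists_section i f gb hgb hcl hsurj hk V t).choose_spec y hy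

theorem γfun_eq (hk : Kills i f) (V : Opens Z.toTopCat) (t : Z.presheaf.obj (op V))
    (a : Y.presheaf.obj (op ((Opens.map gb).obj V)))
    (ha : ∀ (y : Y) (hy : y ∈ (Opens.map gb).obj V),
      GermLift i f V t y (Y.presheaf.germ ((Opens.map gb).obj V) y hy a)) :
    a = γfun i f gb hgb hcl hsurj hk V t := by
  apply TopCat.Presheaf.section_ext Y.sheaf
  intro y hy
  exact GermLift.unique hk (ha y hy) (γfun_spec i f gb hgb hcl hsurj hk V t y hy)

/-- the ring homomorphism `O_Z(V) → O_Y(g⁻¹ V)` -/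
noncomputable def γ (hk : Kills i f) (V : Opens Z.toTopCat) :
    Z.presheaf.obj (op V) →+* Y.presheaf.obj (op ((Opens.map gb).obj V)) where
  toFun := γfun i f gb hgb hcl hsurj hk V
  map_one' := by
    symm
    apply γfun_eq
    intro y hy
    rw [map_one]
    exact GermLift.one i f gb hgb hcl V y hy
  map_zero' := by
    symm
    apply γfun_eq
    intro y hy
    rw [map_zero]
    exact GermLift.zero i f gb hgb hcl V y hy
  map_mul' t t' := by
    symm
    apply γfun_eq
    intro y hy
    rw [map_mul]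
    exact (γfun_spec i f gb hgb hcl hsurj hk V t y hy).mul
      (γfun_spec i f gb hgb hcl hsurj hk V t' y hy)
  map_add' t t' := by
    symm
    apply γfun_eq
    intro y hy
    rw [map_add]
    exact (γfun_spec i f gb hgb hcl hsurj hk V t y hy).add
      (γfun_spec i f gb hgb hcl hsurj hk V t' y hy)

theorem γ_res (hk : Kills i f) {V V' : Opens Z.toTopCat} (hV : V' ≤ V)
    (t : Z.presheaf.obj (op V)) :
    γ i f gb hgb hcl hsurj hk V' (Z.presheaf.map (homOfLE hV).op t) =
      Y.presheaf.map (homOfLE (leOfHom ((Opens.map gb).map (homOfLE hV)))).op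
        (γ i f gb hgb hcl hsurj hk V t) := by
  apply TopCat.Presheaf.section_ext Y.sheaf
  intro y hy
  apply GermLift.unique hk (V := V) (t := t)
  · exact (γfun_spec i f gb hgb hcl hsurj hk V' _ y hy).of_le hV
  · have h1 := γfun_spec i f gb hgb hcl hsurj hk V t y
      (leOfHom ((Opens.map gb).map (homOfLE hV)) hy)
    have h2 := TopCat.Presheaf.germ_res_apply Y.presheaf
      (homOfLE (leOfHom ((Opens.map gb).map (homOfLE hV)))) y hy
      (γ i f gb hgb hcl hsurj hk V t)
    erw [h2]
    exact h1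

/-- the morphism of sheaves `O_Z → g_* O_Y` -/
noncomputable def gc (hk : Kills i f) : Z.presheaf ⟶ gb _* Y.presheaf where
  app V := CommRingCat.ofHom (γ i f gb hgb hcl hsurj hk V.unop)
  naturality := by
    intro V V' φ
    obtain ⟨V⟩ := V
    obtain ⟨V'⟩ := V'
    have hφ : φ = (homOfLE φ.unop.le).op := Subsingleton.elim _ _
    rw [hφ]
    ext t
    exact γ_res i f gb hgb hcl hsurj hk φ.unop.le t

/-- the underlying morphism of presheafed spaces -/
noncomputable def gH (hk : Kills i f) : Y.toPresheafedSpace ⟶ Z.toPresheafedSpace :=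
  ({ base := gb, c := gc i f gb hgb hcl hsurj hk } : Y.toPresheafedSpace.Hom Z.toPresheafedSpace)

theorem gH_base (hk : Kills i f) : (gH i f gb hgb hcl hsurj hk).base = gb := rfl

theorem gH_c_app (hk : Kills i f) (V : Opens Z.toTopCat) (t : Z.presheaf.obj (op V)) :
    (gH i f gb hgb hcl hsurj hk).c.app (op V) t = γ i f gb hgb hcl hsurj hk V t := rfl

theorem gH_comp (hk : Kills i f) : gH i f gb hgb hcl hsurj hk ≫ i.toHom = f.toHom := by
  refine PresheafedSpace.ext _ _ hgb ?_
  apply NatTrans.ext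
  funext U
  obtain ⟨U⟩ := U
  apply CommRingCat.hom_ext
  apply RingHom.ext
  intro s
  apply TopCat.Presheaf.section_ext Y.sheaf
  intro y hy
  have hy' : y ∈ (Opens.map gb).obj ((Opens.map i.base).obj U) :=
    map_le i f gb hgb (le_refl _) hy
  refine Eq.trans (b := Y.presheaf.germ ((Opens.map gb).obj ((Opens.map i.base).obj U)) y hy'
    (γ i f gb hgb hcl hsurj hk ((Opens.map i.base).obj U) (i.c.app (op U) s))) ?_ ?_
  · exact TopCat.Presheaf.germ_res_apply' Y.presheaf _ y hy _
  apply GermLift.unique hk (V := (Opens.map i.base).obj U) (t := i.c.app (op U) s)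
  · exact γfun_spec i f gb hgb hcl hsurj hk _ _ y hy'
  · exact ⟨U, le_refl _, s, hy, (res_self (B := Z) _ _).symm, rfl⟩

include hcl hsurj in
theorem stalkMap_surjective (z : Z) : Function.Surjective (i.toHom.stalkMap z) := by
  have h1 : Function.Surjective ((TopCat.Presheaf.stalkFunctor CommRingCat (i.base z)).map i.c) :=
    (TopCat.Presheaf.locally_surjective_iff_surjective_on_stalks i.c).1 hsurj (i.base z)
  haveI : IsIso (TopCat.Presheaf.stalkPushforward CommRingCat i.base Z.presheaf z) :=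
    TopCat.Presheaf.stalkPushforward.stalkPushforward_iso_of_isInducing CommRingCat
      hcl.isInducing Z.presheaf z
  have h2 : Function.Surjective (TopCat.Presheaf.stalkPushforward CommRingCat i.base Z.presheaf z) :=
    ((ConcreteCategory.isIso_iff_bijective _).1 inferInstance).2
  intro c
  obtain ⟨b, rfl⟩ := h2 c
  obtain ⟨a, rfl⟩ := h1 b
  exact ⟨a, rfl⟩

theorem gH_isLocalHom (hk : Kills i f) (y : Y) :
    IsLocalHom ((gH i f gb hgb hcl hsurj hk).stalkMap y).hom := by
  have e1 := PresheafedSpace.stalkMap.comp (gH i f gb hgb hcl hsurj hk) i.toHom y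
  have e2 := PresheafedSpace.stalkMap.congr_hom _ _ (gH_comp i f gb hgb hcl hsurj hk) y
  constructor
  intro a ha
  obtain ⟨b, rfl⟩ := stalkMap_surjective i hcl hsurj (gb y) a
  have h3 : IsUnit (((gH i f gb hgb hcl hsurj hk ≫ i.toHom).stalkMap y).hom b) := by
    rw [e1]
    exact ha
  rw [e2] at h3
  have hloc : ∀ {A B C : CommRingCat.{u}} (p : A = B) (q : B ⟶ C), IsLocalHom q.hom →
      IsLocalHom (eqToHom p ≫ q).hom := by
    intro A B C p q hq
    subst p
    rw [eqToHom_refl, Category.id_comp]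
    exact hq
  have h6 : IsUnit b := (hloc _ _ (f.prop y)).map_nonunit b h3
  exact h6.map _

end Exist

section Main

variable {Z X Y : LocallyRingedSpace.{u}} (i : Z ⟶ X) (f : Y ⟶ X)

theorem kills_of_fac (g : Y ⟶ Z) (hg : g ≫ i = f) : Kills i f := by
  subst hg
  intro U s hs
  show g.c.app (op ((Opens.map i.base).obj U)) (i.c.app (op U) s) = 0
  rw [hs, map_zero]

theorem subsingleton_sections_bot (A : LocallyRingedSpace.{u}) (V : Opens A.toTopCat)
    (hV : V = ⊥) : Subsingleton (A.presheaf.obj (op V)) := by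
  subst hV
  refine ⟨fun a b => ?_⟩
  apply TopCat.Presheaf.section_ext A.sheaf
  intro x hx
  exact (hx : x ∈ (⊥ : Opens A.toTopCat)).elim

theorem range_subset (hcl : Topology.IsClosedEmbedding i.base) (hk : Kills i f) (y : Y) :
    ∃ z : Z, i.base z = f.base y := by
  by_contra hy
  let U : Opens X.toTopCat := ⟨(Set.range i.base)ᶜ, hcl.isClosed_range.isOpen_compl⟩
  have hyU : f.base y ∈ U := hy
  have hempty : (Opens.map i.base).obj U = ⊥ := by
    ext z
    constructor
    · intro hz
      exact (hz ⟨z, rfl⟩).elim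
    · intro hz
      exact hz.elim
  have hsub : Subsingleton (Z.presheaf.obj (op ((Opens.map i.base).obj U))) :=
    subsingleton_sections_bot Z _ hempty
  have h1 : i.c.app (op U) 1 = 0 := hsub.elim _ _
  have h2 := hk U 1 h1
  rw [map_one] at h2
  have h3 := congrArg (Y.presheaf.germ ((Opens.map f.base).obj U) y hyU) h2
  rw [map_one, map_zero] at h3
  exact one_ne_zero h3

/-- the underlying map of the factorization -/
noncomputable def gbase (hcl : Topology.IsClosedEmbedding i.base) (hk : Kills i f) :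
    Y.toTopCat ⟶ Z.toTopCat :=
  TopCat.ofHom
    { toFun := fun y => (range_subset i f hcl hk y).choose
      continuous_toFun := by
        rw [hcl.isEmbedding.continuous_iff]
        have : (i.base ∘ fun y => (range_subset i f hcl hk y).choose) = f.base := by
          funext y
          exact (range_subset i f hcl hk y).choose_spec
        have hc : Continuous (f.base : Y.toTopCat → X.toTopCat) := f.base.hom.continuous
        rw [← this] at hc
        exact hc }

theorem gbase_comp (hcl : Topology.IsClosedEmbedding i.base) (hk : Kills i f) :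
    gbase i f hcl hk ≫ i.base = f.base := by
  ext y
  exact (range_subset i f hcl hk y).choose_spec

/-- existence of the factorization -/
theorem exists_fac (hi : LRSImm.IsClosedImmersion i) (hk : Kills i f) : ∃ g : Y ⟶ Z, g ≫ i = f := by
  obtain ⟨hcl, hsurj, -⟩ := hi
  refine ⟨⟨gH i f (gbase i f hcl hk) (gbase_comp i f hcl hk) hcl hsurj hk,
    gH_isLocalHom i f (gbase i f hcl hk) (gbase_comp i f hcl hk) hcl hsurj hk⟩, ?_⟩
  apply LocallyRingedSpace.Hom.ext'
  exact gH_comp i f (gbase i f hcl hk) (gbase_comp i f hcl hk) hcl hsurj hk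

/-- any factorization computes germ lifts -/
theorem germLift_of_fac (hcl : Topology.IsClosedEmbedding i.base)
    (hsurj : TopCat.Presheaf.IsLocallySurjective i.c) (g : Y ⟶ Z)
    (V : Opens Z.toTopCat) (t : Z.presheaf.obj (op V)) (y : Y) (hy : g.base y ∈ V) :
    GermLift i (g ≫ i) V t y (Y.presheaf.germ ((Opens.map g.base).obj V) y hy (g.c.app (op V) t)) := by
  obtain ⟨W, hW, s, hyW, hs⟩ := exists_germLift i (g ≫ i) g.base rfl hcl hsurj V t y hy
  refine ⟨W, hW, s, hyW, hs, ?_⟩
  show _ = Y.presheaf.germ _ y hyW (g.c.app (op ((Opens.map i.base).obj W)) (i.c.app (op W) s))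
  rw [hs]
  exact (germ_c_res g hW t y hyW).symm

theorem fac_unique (hi : LRSImm.IsClosedImmersion i) (g g' : Y ⟶ Z) (hg : g ≫ i = f)
    (hg' : g' ≫ i = f) : g = g' := by
  obtain ⟨hcl, hsurj, -⟩ := hi
  have hk : Kills i f := kills_of_fac i f g hg
  have hb : g.base = g'.base := by
    ext y
    apply hcl.injective
    have e1 : i.base (g.base y) = f.base y := by rw [← hg]; rfl
    have e2 : i.base (g'.base y) = f.base y := by rw [← hg']; rfl
    rw [e1, e2]
  apply LocallyRingedSpace.Hom.ext'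
  refine PresheafedSpace.ext _ _ hb ?_
  apply NatTrans.ext
  funext V
  obtain ⟨V⟩ := V
  apply CommRingCat.hom_ext
  apply RingHom.ext
  intro t
  apply TopCat.Presheaf.section_ext Y.sheaf
  intro y hy
  have hy' : g.base y ∈ V := by rw [hb]; exact hy
  refine Eq.trans (b := Y.presheaf.germ ((Opens.map g.base).obj V) y hy' (g.c.app (op V) t)) ?_ ?_
  · exact TopCat.Presheaf.germ_res_apply' Y.presheaf _ y hy _
  · apply GermLift.unique hk (V := V) (t := t)
    · have := germLift_of_fac i hcl hsurj g V t y hy'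
      rw [hg] at this
      exact this
    · have := germLift_of_fac i hcl hsurj g' V t y hy
      rw [hg'] at this
      exact this

/-- the universal property of a closed immersion of locally ringed spaces -/
theorem main (hi : LRSImm.IsClosedImmersion i) :
    ((∃ g : Y ⟶ Z, g ≫ i = f) ↔
      ∀ (U : Opens X.toTopCat) (s : X.presheaf.obj (op U)),
        i.c.app (op U) s = 0 → f.c.app (op U) s = 0) ∧
    ∀ g g' : Y ⟶ Z, g ≫ i = f → g' ≫ i = f → g = g' := by
  refine ⟨⟨?_, fun hk => exists_fac i f hi hk⟩, fun g g' hg hg' => fac_unique i f hi g g' hg hg'⟩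
  rintro ⟨g, hg⟩
  exact kills_of_fac i f g hg

end Main

end Groth.Agent.Lead.LRS
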