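import Mathlib
import Groth.Prelude.Def_W4stkremschemesLRS
import Groth.Agent.Lib.Lead.LRS1

/-!
# Closed immersions of locally ringed spaces into schemes (lead)
-/

set_option autoImplicit false
set_option linter.unusedSectionVars false
set_option linter.style.haveILetI false
set_option backward.isDefEq.respectTransparency.types false
set_option synthInstance.maxHeartbeats 400000
universe u
open CategoryTheory TopologicalSpace Opposite AlgebraicGeometry TopCat

namespace Groth.Agent.Lead.LRS

section Primed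

variable {Z Z' X Y : LocallyRingedSpace.{u}} (i : Z ⟶ X) (f : Y ⟶ X)

theorem exists_fac' (hcl : Topology.IsClosedEmbedding i.base)
    (hsurj : TopCat.Presheaf.IsLocallySurjective i.c) (hk : Kills i f) :
    ∃ g : Y ⟶ Z, g ≫ i = f := by
  refine ⟨⟨gH i f (gbase i f hcl hk) (gbase_comp i f hcl hk) hcl hsurj hk,
    gH_isLocalHom i f (gbase i f hcl hk) (gbase_comp i f hcl hk) hcl hsurj hk⟩, ?_⟩
  apply LocallyRingedSpace.Hom.ext'
  exact gH_comp i f (gbase i f hcl hk) (gbase_comp i f hcl hk) hcl hsurj hk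

theorem fac_unique' (hcl : Topology.IsClosedEmbedding i.base)
    (hsurj : TopCat.Presheaf.IsLocallySurjective i.c) (g g' : Y ⟶ Z) (hg : g ≫ i = f)
    (hg' : g' ≫ i = f) : g = g' := by
  have hk : Kills i f := kills_of_fac i f g hg
  have hb : g.base = g'.base := by
    ext y
    apply hcl.injective
    have e1 : i.base (g.base y) = f.base y := by rw [← hg]; rfl
    have e2 : i.base (g'.base y) = f.base y := by rw [← hg']; rfl
    rw [e1, e2]
  apply LocallyRingedSpace.Hom.ext'
  refine PresheafedSpace.ext _ _ hb ?_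
  apply NatTrans.ext
  funext V
  obtain ⟨V⟩ := V
  apply CommRingCat.hom_ext
  apply RingHom.ext
  intro t
  apply TopCat.Presheaf.section_ext Y.sheaf
  intro y hy
  have hy' : g.base y ∈ V := by rw [hb]; exact hy
  refine Eq.trans (b := Y.presheaf.germ ((Opens.map g.base).obj V) y hy' (g.c.app (op V) t)) ?_ ?_
  · exact TopCat.Presheaf.germ_res_apply' Y.presheaf _ y hy _
  · apply GermLift.unique hk (V := V) (t := t)
    · have := germLift_of_fac i hcl hsurj g V t y hy'
      rw [hg] at this
      exact this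
    · have := germLift_of_fac i hcl hsurj g' V t y hy
      rw [hg'] at this
      exact this

/-- two "closed immersions" with the same kernel are isomorphic over the base -/
theorem iso_of_kills (j : Z' ⟶ X) (hcl : Topology.IsClosedEmbedding i.base)
    (hsurj : TopCat.Presheaf.IsLocallySurjective i.c)
    (hcl' : Topology.IsClosedEmbedding j.base)
    (hsurj' : TopCat.Presheaf.IsLocallySurjective j.c)
    (h1 : Kills i j) (h2 : Kills j i) : ∃ e : Z' ≅ Z, e.hom ≫ i = j := by
  obtain ⟨g, hg⟩ := exists_fac' i j hcl hsurj h1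
  obtain ⟨g', hg'⟩ := exists_fac' j i hcl' hsurj' h2
  refine ⟨⟨g, g', ?_, ?_⟩, hg⟩
  · apply fac_unique' j j hcl' hsurj'
    · rw [Category.assoc, hg', hg]
    · rw [Category.id_comp]
  · apply fac_unique' i i hcl hsurj
    · rw [Category.assoc, hg, hg']
    · rw [Category.id_comp]

/-- it suffices to check `Kills` on a basis -/
theorem kills_of_basis (B : Set (Opens X.toTopCat)) (hB : Opens.IsBasis B)
    (h : ∀ U ∈ B, ∀ s : X.presheaf.obj (op U), i.c.app (op U) s = 0 → f.c.app (op U) s = 0) :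
    Kills i f := by
  intro U s hs
  apply TopCat.Presheaf.section_ext Y.sheaf
  intro y hy
  obtain ⟨W, hWB, hyW, hWU⟩ := Opens.isBasis_iff_nbhd.1 hB (U := U) (x := f.base y) hy
  have h1 : i.c.app (op W) (X.presheaf.map (homOfLE hWU).op s) = 0 := by
    rw [c_res, hs, map_zero]
  have h2 := h W hWB _ h1
  have h3 := germ_c_res f hWU s y hyW
  rw [h2, map_zero] at h3
  exact h3.symm.trans (map_zero _).symm

end Primed

section SchemeCI

variable {Z' X : Scheme.{u}} (j : Z' ⟶ X) [IsClosedImmersion j]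

theorem isClosedEmbedding_toLRSHom : Topology.IsClosedEmbedding j.toLRSHom.base :=
  j.isClosedEmbedding

theorem isLocallySurjective_toLRSHom : TopCat.Presheaf.IsLocallySurjective j.toLRSHom.c := by
  rw [TopCat.Presheaf.isLocallySurjective_iff]
  intro U t x hx
  obtain ⟨_, ⟨V, hV, rfl⟩, hxV, hVU⟩ :=
    (X.isBasis_affineOpens).exists_subset_of_mem_open hx U.isOpen
  have hVU' : V ≤ U := hVU
  obtain ⟨s, hs⟩ := j.app_surjective V hV
    (Z'.presheaf.map (homOfLE (leOfHom ((Opens.map j.base).map (homOfLE hVU')))).op t)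
  exact ⟨V, hVU', ⟨s, hs⟩, hxV⟩

end SchemeCI


section KL

variable {X : Scheme.{u}} {Z : LocallyRingedSpace.{u}} (i : Z ⟶ X.toLocallyRingedSpace)

/-- the stalk map of `i.c` kills the germ of a section killed by `i.c` -/
theorem stalk_c_germ {W : X.Opens} (s : Γ(X, W)) (x : X) (hx : x ∈ W)
    (hs : i.c.app (op W) s = 0) :
    (TopCat.Presheaf.stalkFunctor CommRingCat x).map i.c (X.presheaf.germ W x hx s) = 0 := by
  have h1 := TopCat.Presheaf.stalkFunctor_map_germ_apply W x hx i.c s
  rw [hs, map_zero] at h1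
  exact h1

theorem KL_local (hgen : LRSImm.KerLocallyGenerated i) {U : X.Opens} (hU : IsAffineOpen U)
    (g a : Γ(X, U))
    (h0 : i.c.app (op (X.basicOpen g)) (X.presheaf.map (homOfLE (X.basicOpen_le g)).op a) = 0)
    (x : X) (hxU : x ∈ U) :
    ∃ (h : Γ(X, U)) (N : ℕ), x ∈ X.basicOpen h ∧
      i.c.app (op (X.basicOpen h))
        (X.presheaf.map (homOfLE (X.basicOpen_le h)).op (g ^ N * a)) = 0 := by
  obtain ⟨U₁, hxU₁, ι, s, hs0, hspan⟩ := hgen x
  obtain ⟨h, hle, hxh⟩ := hU.exists_basicOpen_le (V := U₁) ⟨x, hxU₁⟩ hxU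
  have hDU : X.basicOpen h ≤ U := X.basicOpen_le h
  have hD : IsAffineOpen (X.basicOpen h) := hU.basicOpen h
  let g' : Γ(X, X.basicOpen h) := X.presheaf.map (homOfLE hDU).op g
  let a' : Γ(X, X.basicOpen h) := X.presheaf.map (homOfLE hDU).op a
  let s' : ι → Γ(X, X.basicOpen h) := fun l => X.presheaf.map (homOfLE hle).op (s l)
  have hD' : IsAffineOpen (X.basicOpen g') := hD.basicOpen g'
  have hD'D : X.basicOpen g' ≤ X.basicOpen h := X.basicOpen_le g'
  have hD'g : X.basicOpen g' ≤ X.basicOpen g := by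
    show X.basicOpen (X.presheaf.map (homOfLE hDU).op g) ≤ _
    rw [Scheme.basicOpen_res]
    exact inf_le_right
  let J : Ideal Γ(X, X.basicOpen h) := Ideal.span (Set.range s')
  have hJ : J ≤ RingHom.ker (i.c.app (op (X.basicOpen h))).hom := by
    rw [Ideal.span_le]
    rintro _ ⟨l, rfl⟩
    show i.c.app (op (X.basicOpen h)) (X.presheaf.map (homOfLE hle).op (s l)) = 0
    rw [c_res, hs0, map_zero]
  have hA : X.presheaf.map (homOfLE hD'D).op a' ∈
      J.map (X.presheaf.map (homOfLE hD'D).op).hom := by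
    rw [hD'.mem_ideal_iff]
    intro x' hx'
    rw [Ideal.map_map, Ideal.map_span]
    have e1 : (X.presheaf.germ (X.basicOpen g') x' hx') (X.presheaf.map (homOfLE hD'D).op a') =
        X.presheaf.germ (X.basicOpen g) x' (hD'g hx')
          (X.presheaf.map (homOfLE (X.basicOpen_le g)).op a) := by
      rw [TopCat.Presheaf.germ_res_apply, TopCat.Presheaf.germ_res_apply,
        TopCat.Presheaf.germ_res_apply]
    rw [e1]
    have e2 : ((X.presheaf.germ (X.basicOpen g') x' hx').hom.comp
          (X.presheaf.map (homOfLE hD'D).op).hom) '' Set.range s' =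
        Set.range fun l => X.presheaf.germ U₁ x' (hle (hD'D hx')) (s l) := by
      ext c
      constructor
      · rintro ⟨_, ⟨l, rfl⟩, rfl⟩
        refine ⟨l, ?_⟩
        show _ = (X.presheaf.germ (X.basicOpen g') x' hx')
          (X.presheaf.map (homOfLE hD'D).op (X.presheaf.map (homOfLE hle).op (s l)))
        rw [TopCat.Presheaf.germ_res_apply, TopCat.Presheaf.germ_res_apply]
      · rintro ⟨l, rfl⟩
        refine ⟨s' l, ⟨l, rfl⟩, ?_⟩
        show (X.presheaf.germ (X.basicOpen g') x' hx')
          (X.presheaf.map (homOfLE hD'D).op (X.presheaf.map (homOfLE hle).op (s l))) = _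
        rw [TopCat.Presheaf.germ_res_apply, TopCat.Presheaf.germ_res_apply]
    rw [e2, hspan x' (hle (hD'D hx'))]
    exact stalk_c_germ i _ x' (hD'g hx') h0
  haveI := hD.isLocalization_basicOpen g'
  have hB := (IsLocalization.algebraMap_mem_map_algebraMap_iff (Submonoid.powers g')
    Γ(X, X.basicOpen g') J a').1 hA
  obtain ⟨m, ⟨N, rfl⟩, hm⟩ := hB
  refine ⟨h, N, hxh, ?_⟩
  have e3 : X.presheaf.map (homOfLE (X.basicOpen_le h)).op (g ^ N * a) = g' ^ N * a' := by
    rw [map_mul, map_pow]
  rw [e3]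
  exact hJ hm

theorem KL (hgen : LRSImm.KerLocallyGenerated i) {U : X.Opens} (hU : IsAffineOpen U)
    (g a : Γ(X, U))
    (h0 : i.c.app (op (X.basicOpen g)) (X.presheaf.map (homOfLE (X.basicOpen_le g)).op a) = 0) :
    ∃ N : ℕ, i.c.app (op U) (g ^ N * a) = 0 := by
  choose hh NN hxh hkill using fun (x : U) => KL_local i hgen hU g a h0 x.1 x.2
  obtain ⟨t, ht⟩ := hU.isCompact.elim_finite_subcover
    (fun x : U => (X.basicOpen (hh x) : Set X)) (fun x => (X.basicOpen (hh x)).isOpen)
    (fun x hx => Set.mem_iUnion.2 ⟨⟨x, hx⟩, hxh ⟨x, hx⟩⟩)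
  refine ⟨t.sup NN, ?_⟩
  apply TopCat.Presheaf.section_ext Z.sheaf
  intro z hz
  have hz' : i.base z ∈ (U : Set X) := hz
  obtain ⟨x, hxt, hzx⟩ := Set.mem_iUnion₂.1 (ht hz')
  have hzx' : i.base z ∈ X.basicOpen (hh x) := hzx
  have hle : NN x ≤ t.sup NN := Finset.le_sup hxt
  have hzero : i.c.app (op (X.basicOpen (hh x)))
      (X.presheaf.map (homOfLE (X.basicOpen_le (hh x))).op (g ^ t.sup NN * a)) = 0 := by
    have e1 : g ^ t.sup NN * a = g ^ (t.sup NN - NN x) * (g ^ NN x * a) := by
      rw [← mul_assoc, ← pow_add, Nat.sub_add_cancel hle]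
    rw [e1, map_mul, map_mul, hkill x, mul_zero]
  have h3 := germ_c_res i (X.basicOpen_le (hh x)) (g ^ t.sup NN * a) z hzx'
  rw [hzero, map_zero] at h3
  exact h3.symm.trans (map_zero _).symm

end KL

section IdealSheaf

variable {X : Scheme.{u}} {Z : LocallyRingedSpace.{u}} (i : Z ⟶ X.toLocallyRingedSpace)
  (hgen : LRSImm.KerLocallyGenerated i)

/-- the ideal sheaf of a closed immersion of locally ringed spaces into a scheme -/
noncomputable def kerIdeal : X.IdealSheafData where
  ideal U := RingHom.ker (i.c.app (op U.1)).hom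
  map_ideal_basicOpen := by
    intro U f
    apply le_antisymm
    · rw [Ideal.map_le_iff_le_comap]
      intro s hs
      show i.c.app (op (X.basicOpen f)) (X.presheaf.map (homOfLE (X.basicOpen_le f)).op s) = 0
      rw [c_res, (hs : i.c.app (op U.1) s = 0), map_zero]
    · intro t ht
      have ht' : i.c.app (op (X.basicOpen f)) t = 0 := ht
      haveI := U.2.isLocalization_basicOpen f
      obtain ⟨⟨a, ⟨_, n, rfl⟩⟩, hat⟩ := IsLocalization.surj (Submonoid.powers f) t
      have hat' : t * X.presheaf.map (homOfLE (X.basicOpen_le f)).op (f ^ n) =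
          X.presheaf.map (homOfLE (X.basicOpen_le f)).op a := hat
      have h0 : i.c.app (op (X.basicOpen f))
          (X.presheaf.map (homOfLE (X.basicOpen_le f)).op a) = 0 := by
        rw [← hat', map_mul, ht', zero_mul]
      obtain ⟨N, hN⟩ := KL i hgen U.2 f a h0
      have hu : IsUnit (X.presheaf.map (homOfLE (X.basicOpen_le f)).op (f ^ (N + n))) :=
        IsLocalization.map_units (M := Submonoid.powers f) Γ(X, X.basicOpen f)
          ⟨f ^ (N + n), N + n, rfl⟩
      rw [← Ideal.mul_unit_mem_iff_mem _ hu]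
      have e1 : t * X.presheaf.map (homOfLE (X.basicOpen_le f)).op (f ^ (N + n)) =
          X.presheaf.map (homOfLE (X.basicOpen_le f)).op (f ^ N * a) := by
        rw [pow_add, map_mul, map_mul, ← hat']
        ring
      rw [e1]
      exact Ideal.mem_map_of_mem _ hN

theorem kerIdeal_ideal (U : X.affineOpens) :
    (kerIdeal i hgen).ideal U = RingHom.ker (i.c.app (op U.1)).hom := rfl

end IdealSheaf

section Compare

variable {X Z' : Scheme.{u}} {Z : LocallyRingedSpace.{u}} (i : Z ⟶ X.toLocallyRingedSpace)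
  (j : Z' ⟶ X) [IsClosedImmersion j]

theorem exists_iso_of_ker_eq (hcl : Topology.IsClosedEmbedding i.base)
    (hsurj : TopCat.Presheaf.IsLocallySurjective i.c)
    (hker : ∀ U : X.affineOpens,
      RingHom.ker (j.app U.1).hom = RingHom.ker (i.c.app (op U.1)).hom) :
    ∃ e : Z'.toLocallyRingedSpace ≅ Z, e.hom ≫ i = j.toLRSHom := by
  apply iso_of_kills i j.toLRSHom hcl hsurj (isClosedEmbedding_toLRSHom j)
    (isLocallySurjective_toLRSHom j)
  · apply kills_of_basis i j.toLRSHom X.affineOpens X.isBasis_affineOpens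
    intro U hU s hs
    have h1 : s ∈ RingHom.ker (j.app U).hom := by
      rw [hker ⟨U, hU⟩]
      exact hs
    exact h1
  · apply kills_of_basis j.toLRSHom i X.affineOpens X.isBasis_affineOpens
    intro U hU s hs
    have h1 : s ∈ RingHom.ker (i.c.app (op U)).hom := by
      rw [← hker ⟨U, hU⟩]
      exact hs
    exact h1

end Compare

section Mains

/-- a closed immersion of a locally ringed space into a scheme is (the locally ringed space of) a
closed subscheme -/
theorem main_scheme (X : Scheme.{u}) (Z : LocallyRingedSpace.{u})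
    (i : Z ⟶ X.toLocallyRingedSpace) (hi : LRSImm.IsClosedImmersion i) :
    ∃ (Z' : Scheme.{u}) (e : Z'.toLocallyRingedSpace ≅ Z),
      AlgebraicGeometry.IsClosedImmersion (Scheme.Hom.mk (e.hom ≫ i) : Z' ⟶ X) := by
  obtain ⟨hcl, hsurj, hgen⟩ := hi
  obtain ⟨e, he⟩ := exists_iso_of_ker_eq i (kerIdeal i hgen).subschemeι hcl hsurj
    (fun U => (kerIdeal i hgen).ker_subschemeι_app U)
  refine ⟨_, e, ?_⟩
  have h1 : (Scheme.Hom.mk (e.hom ≫ i) : (kerIdeal i hgen).subscheme ⟶ X) =
      (kerIdeal i hgen).subschemeι := by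
    rw [he]
    rfl
  rw [h1]
  infer_instance

theorem main_affine (R : Type u) [CommRing R] (Z : LocallyRingedSpace.{u})
    (i : Z ⟶ (Spec (CommRingCat.of R)).toLocallyRingedSpace) (hi : LRSImm.IsClosedImmersion i)
    (I : Ideal R)
    (hI : I = RingHom.ker ((Scheme.ΓSpecIso (CommRingCat.of R)).inv ≫ i.c.app (op ⊤)).hom) :
    ∃ e : Z ≅ (Spec (CommRingCat.of (R ⧸ I))).toLocallyRingedSpace,
      e.hom ≫ (Spec.map (CommRingCat.ofHom (Ideal.Quotient.mk I))).toLRSHom = i := by
  obtain ⟨hcl, hsurj, hgen⟩ := hi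
  haveI hci : IsClosedImmersion (Spec.map (CommRingCat.ofHom (Ideal.Quotient.mk I))) :=
    IsClosedImmersion.spec_of_surjective (R := CommRingCat.of R) (S := CommRingCat.of (R ⧸ I))
      (CommRingCat.ofHom (Ideal.Quotient.mk I)) Ideal.Quotient.mk_surjective
  have hkk : (Spec.map (CommRingCat.ofHom (Ideal.Quotient.mk I))).ker = kerIdeal i hgen := by
    apply Scheme.IdealSheafData.ext_of_isAffine
    rw [Scheme.Hom.ker_apply, kerIdeal_ideal]
    ext s
    rw [RingHom.mem_ker, RingHom.mem_ker]
    have hnat := Scheme.ΓSpecIso_naturality (CommRingCat.ofHom (Ideal.Quotient.mk I))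
    have h1 : (Scheme.ΓSpecIso (CommRingCat.of (R ⧸ I))).hom
        ((Spec.map (CommRingCat.ofHom (Ideal.Quotient.mk I))).appTop s) =
        Ideal.Quotient.mk I ((Scheme.ΓSpecIso (CommRingCat.of R)).hom s) := by
      rw [← ConcreteCategory.comp_apply, hnat]
      rfl
    have hinj : Function.Injective (Scheme.ΓSpecIso (CommRingCat.of (R ⧸ I))).hom :=
      ((ConcreteCategory.isIso_iff_bijective _).1 inferInstance).1
    have h2 : (Scheme.ΓSpecIso (CommRingCat.of R)).hom s ∈ I ↔ i.c.app (op ⊤) s = 0 := by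
      rw [hI, RingHom.mem_ker]
      have : ((Scheme.ΓSpecIso (CommRingCat.of R)).inv ≫ i.c.app (op ⊤)).hom
          ((Scheme.ΓSpecIso (CommRingCat.of R)).hom s) = i.c.app (op ⊤) s := by
        rw [← CommRingCat.comp_apply, Iso.hom_inv_id_assoc]
      rw [this]
    rw [← h2, ← Ideal.Quotient.eq_zero_iff_mem, ← h1]
    constructor
    · intro h
      show (Scheme.ΓSpecIso (CommRingCat.of (R ⧸ I))).hom
        ((Spec.map (CommRingCat.ofHom (Ideal.Quotient.mk I))).appTop s) = 0
      have h' : (Spec.map (CommRingCat.ofHom (Ideal.Quotient.mk I))).appTop s = 0 := h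
      rw [h', map_zero]
    · intro h
      apply hinj
      exact h.trans (map_zero _).symm
  obtain ⟨e, he⟩ := exists_iso_of_ker_eq i (Spec.map (CommRingCat.ofHom (Ideal.Quotient.mk I)))
    hcl hsurj (fun U => by
      rw [← Scheme.Hom.ker_apply, hkk, kerIdeal_ideal])
  refine ⟨e.symm, ?_⟩
  rw [← he]
  simp

end Mains

end Groth.Agent.Lead.LRS
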