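import Mathlib
open HahnSeries
universe u
namespace Groth.Agent.Lead.Laurent1


/-- idempotent power series with zero constant coefficient vanish -/
theorem ps_idem_zero {S : Type*} [CommRing S] (g : PowerSeries S) (hg : IsIdempotentElem g)
    (h0 : PowerSeries.constantCoeff g = 0) : g = 0 := by
  have hX : (PowerSeries.X : PowerSeries S) ∣ g := PowerSeries.X_dvd_iff.2 h0
  ext n
  have h1 : (PowerSeries.X : PowerSeries S) ^ (n + 1) ∣ g ^ (n + 1) := pow_dvd_pow_of_dvd hX _
  rw [hg.pow_succ_eq] at h1
  rw [PowerSeries.X_pow_dvd_iff] at h1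
  simpa using h1 n (Nat.lt_succ_self n)

theorem ps_idem_const {S : Type*} [CommRing S] (f : PowerSeries S) (hf : IsIdempotentElem f) :
    f = PowerSeries.C (PowerSeries.constantCoeff f) := by
  set c := PowerSeries.constantCoeff f with hc
  have hcid : IsIdempotentElem c := hf.map PowerSeries.constantCoeff
  have hCid : IsIdempotentElem (PowerSeries.C c : PowerSeries S) := hcid.map PowerSeries.C
  have h1 : f * (1 - PowerSeries.C c) = 0 := by
    apply ps_idem_zero
    · exact hf.mul hCid.one_sub
    · rw [map_mul, map_sub, map_one, PowerSeries.constantCoeff_C, ← hc, mul_sub, mul_one, hcid.eq,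
        sub_self]
  have h2 : (1 - f) * PowerSeries.C c = 0 := by
    apply ps_idem_zero
    · exact hf.one_sub.mul hCid
    · rw [map_mul, map_sub, map_one, PowerSeries.constantCoeff_C, ← hc, sub_mul, one_mul, hcid.eq,
        sub_self]
  linear_combination h1 - h2

/-- Laurent series idempotent without polar part is constant -/
theorem laurent_idem_const {S : Type*} [CommRing S] (x : LaurentSeries S) (hx : IsIdempotentElem x)
    (hneg : ∀ n : ℤ, n < 0 → x.coeff n = 0) : x = HahnSeries.C (x.coeff 0) := by
  set f : PowerSeries S := PowerSeries.mk (fun n => x.coeff n) with hf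
  have hxf : x = (f : LaurentSeries S) := by
    ext i
    rw [PowerSeries.coeff_coe]
    split_ifs with h
    · exact hneg i h
    · rw [hf, PowerSeries.coeff_mk]
      congr 1
      omega
  have hfid : IsIdempotentElem f := by
    apply HahnSeries.ofPowerSeries_injective (Γ := ℤ)
    change ((f * f : PowerSeries S) : LaurentSeries S) = f
    rw [PowerSeries.coe_mul, ← hxf]
    exact hx
  have := ps_idem_const f hfid
  rw [hxf] at ⊢
  conv_lhs => rw [this]
  rw [PowerSeries.coe_C]
  congr 1
  rw [← PowerSeries.coeff_zero_eq_constantCoeff_apply, hf, PowerSeries.coeff_mk]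
  rw [PowerSeries.coeff_coe]
  simp

/-- in a reduced ring, idempotent Laurent series have no polar part -/
theorem reduced_no_polar {S : Type*} [CommRing S] [IsReduced S] (x : LaurentSeries S)
    (hx : IsIdempotentElem x) : ∀ n : ℤ, n < 0 → x.coeff n = 0 := by
  intro n hn
  by_contra hne
  have hord : x.order ≤ n := HahnSeries.order_le_of_coeff_ne_zero hne
  have hx0 : x ≠ 0 := by
    rintro rfl
    exact hne (by simp)
  have h1 := HahnSeries.coeff_mul_order_add_order x x
  rw [hx.eq] at h1
  have h2 : x.coeff (x.order + x.order) = 0 :=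
    HahnSeries.coeff_eq_zero_of_lt_order (by omega)
  rw [h2] at h1
  have h3 : x.leadingCoeff = 0 := by
    have : x.leadingCoeff ^ 2 = 0 := by rw [sq]; exact h1.symm
    exact pow_eq_zero_iff (two_ne_zero) |>.1 this
  exact hx0 (HahnSeries.leadingCoeff_eq_zero.1 h3)


noncomputable def mapHom {R S : Type*} [CommRing R] [CommRing S] (f : R →+* S) :
    LaurentSeries R →+* LaurentSeries S where
  toFun x := x.map f
  map_one' := HahnSeries.map_one f.toMonoidWithZeroHom
  map_mul' x y := HahnSeries.map_mul (f : R →ₙ+* S)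
  map_zero' := HahnSeries.map_zero (f : ZeroHom R S)
  map_add' x y := HahnSeries.map_add (f : R →+ S)

theorem mapHom_coeff {R S : Type*} [CommRing R] [CommRing S] (f : R →+* S) (x : LaurentSeries R)
    (n : ℤ) : (mapHom f x).coeff n = f (x.coeff n) := by
  change (x.map f).coeff n = _
  simp

theorem coeff_mul_mem {R : Type*} [CommRing R] (J J' : Ideal R) (f g : LaurentSeries R)
    (hf : ∀ n, f.coeff n ∈ J) (hg : ∀ n, g.coeff n ∈ J') : ∀ n, (f * g).coeff n ∈ J * J' := by
  intro n
  rw [HahnSeries.coeff_mul]
  exact Ideal.sum_mem _ (fun ij _ => Ideal.mul_mem_mul (hf _) (hg _))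

theorem coeff_pow_mem {R : Type*} [CommRing R] (J : Ideal R) (f : LaurentSeries R)
    (hf : ∀ n, f.coeff n ∈ J) : ∀ m : ℕ, ∀ n, (f ^ m).coeff n ∈ J ^ m := by
  intro m
  induction m with
  | zero => intro n; simp
  | succ m ih =>
    rw [pow_succ, pow_succ]
    exact coeff_mul_mem _ _ _ _ ih hf


end Groth.Agent.Lead.Laurent1
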