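import Mathlib
import Groth.Agent.Lib.Helper3.HIso

/-!
# Degree-one Leray chase, abstract form (lead)

A purely algebraic diagram chase: three "two-step complexes" `M• → I• → Q•` with augmentations,
`I•` exact in degree one and `I⁰ → Q⁰` surjective, give
`H¹(M•) ≃ coker (ΓI → ΓQ)`.
-/

set_option autoImplicit false
set_option linter.unusedSectionVars false
universe u

namespace Groth.Agent.Lead.LerayOne

/-- an additive relation with full domain whose indeterminacy lies in `B₀` induces a homomorphism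
to the quotient -/
theorem exists_hom_of_rel {A B : Type*} [AddCommGroup A] [AddCommGroup B] (B₀ : AddSubgroup B)
    (R : AddSubgroup (A × B)) (h1 : ∀ a, ∃ b, (a, b) ∈ R)
    (h2 : ∀ b, ((0 : A), b) ∈ R → b ∈ B₀) :
    ∃ f : A →+ B ⧸ B₀, ∀ a b, (a, b) ∈ R → f a = QuotientAddGroup.mk b := by
  choose β hβ using h1
  have key : ∀ a b, (a, b) ∈ R →
      (QuotientAddGroup.mk (β a) : B ⧸ B₀) = QuotientAddGroup.mk b := by
    intro a b hab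
    rw [QuotientAddGroup.eq]
    apply h2
    have h := R.sub_mem hab (hβ a)
    have e : ((a, b) - (a, β a) : A × B) = (0, -β a + b) := by
      ext
      · simp
      · simp [sub_eq_neg_add]
    rw [e] at h
    exact h
  refine ⟨AddMonoidHom.mk' (fun a => (QuotientAddGroup.mk (β a) : B ⧸ B₀)) ?_, key⟩
  intro a a'
  have h := R.add_mem (hβ a) (hβ a')
  have e : ((a, β a) + (a', β a') : A × B) = (a + a', β a + β a') := rfl
  rw [e] at h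
  rw [key _ _ h]
  rfl

section Chase

variable {M0 M1 M2 I0 I1 I2 Q0 Q1 GI GQ : Type u}
  [AddCommGroup M0] [AddCommGroup M1] [AddCommGroup M2]
  [AddCommGroup I0] [AddCommGroup I1] [AddCommGroup I2]
  [AddCommGroup Q0] [AddCommGroup Q1] [AddCommGroup GI] [AddCommGroup GQ]
  (dM0 : M0 →+ M1) (dM1 : M1 →+ M2) (dI0 : I0 →+ I1) (dI1 : I1 →+ I2) (dQ0 : Q0 →+ Q1)
  (i0 : M0 →+ I0) (i1 : M1 →+ I1) (i2 : M2 →+ I2) (p0 : I0 →+ Q0) (p1 : I1 →+ Q1)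
  (aI : GI →+ I0) (aQ : GQ →+ Q0) (π : GI →+ GQ)

/-- the chase relation between one-cocycles of `M•` and elements of `ΓQ` -/
def rel : AddSubgroup (AddMonoidHom.ker dM1 × GQ) where
  carrier := {x | ∃ t : I0, dI0 t = i1 x.1.1 ∧ p0 t = aQ x.2}
  zero_mem' := ⟨0, by simp, by simp⟩
  add_mem' := by
    rintro x y ⟨t, h1, h2⟩ ⟨t', h1', h2'⟩
    exact ⟨t + t', by simp [h1, h1'], by simp [h2, h2']⟩
  neg_mem' := by
    rintro x ⟨t, h1, h2⟩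
    exact ⟨-t, by simp [h1], by simp [h2]⟩

theorem mem_rel (z : AddMonoidHom.ker dM1) (q : GQ) :
    (z, q) ∈ rel dM1 dI0 i1 p0 aQ ↔ ∃ t : I0, dI0 t = i1 z.1 ∧ p0 t = aQ q := Iff.rfl

variable (hdM : ∀ n, dM1 (dM0 n) = 0) (hdI : ∀ t, dI1 (dI0 t) = 0)
  (c0 : ∀ n, dI0 (i0 n) = i1 (dM0 n)) (c1 : ∀ m, dI1 (i1 m) = i2 (dM1 m))
  (cp : ∀ t, dQ0 (p0 t) = p1 (dI0 t))
  (z0 : ∀ n, p0 (i0 n) = 0) (z1 : ∀ m, p1 (i1 m) = 0)
  (inj1 : Function.Injective i1) (inj2 : Function.Injective i2)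
  (ex0 : ∀ t, p0 t = 0 → ∃ n, i0 n = t) (ex1 : ∀ t, p1 t = 0 → ∃ m, i1 m = t)
  (sur0 : Function.Surjective p0)
  (exI : ∀ x, dI1 x = 0 → ∃ t, dI0 t = x)
  (aIz : ∀ s, dI0 (aI s) = 0) (aIex : ∀ t, dI0 t = 0 → ∃ s, aI s = t)
  (aQz : ∀ q, dQ0 (aQ q) = 0) (aQex : ∀ c, dQ0 c = 0 → ∃ q, aQ q = c)
  (aQinj : Function.Injective aQ)
  (nat : ∀ s, p0 (aI s) = aQ (π s))

include hdI c1 cp z1 exI aQex in
theorem rel_dom (z : AddMonoidHom.ker dM1) : ∃ q, (z, q) ∈ rel dM1 dI0 i1 p0 aQ := by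
  have hz : dM1 z.1 = 0 := z.2
  obtain ⟨t, ht⟩ := exI (i1 z.1) (by rw [c1, hz, map_zero])
  obtain ⟨q, hq⟩ := aQex (p0 t) (by rw [cp, ht, z1])
  exact ⟨q, t, ht, hq.symm⟩

include inj1 aIex aQinj nat in
theorem rel_indet (q : GQ) (h : ((0 : AddMonoidHom.ker dM1), q) ∈ rel dM1 dI0 i1 p0 aQ) :
    q ∈ π.range := by
  obtain ⟨t, h1, h2⟩ := h
  obtain ⟨s, rfl⟩ := aIex t (by rw [h1]; simp)
  refine ⟨s, aQinj ?_⟩
  rw [← nat, h2]

include hdI c1 cp inj2 ex1 sur0 aQz in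
theorem rel_surj (q : GQ) : ∃ z, (z, q) ∈ rel dM1 dI0 i1 p0 aQ := by
  obtain ⟨t, ht⟩ := sur0 (aQ q)
  obtain ⟨m, hm⟩ := ex1 (dI0 t) (by rw [← cp, ht, aQz])
  have hm2 : dM1 m = 0 := by
    apply inj2
    rw [← c1, hm, hdI, map_zero]
  exact ⟨⟨m, hm2⟩, t, hm.symm, ht⟩

include c0 z0 inj1 ex0 aIz aIex aQinj nat in
theorem rel_ker (z : AddMonoidHom.ker dM1) (q : GQ) (h : (z, q) ∈ rel dM1 dI0 i1 p0 aQ) :
    q ∈ π.range ↔ ∃ n, dM0 n = z.1 := by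
  obtain ⟨t, h1, h2⟩ := h
  constructor
  · rintro ⟨s, rfl⟩
    obtain ⟨n, hn⟩ := ex0 (t - aI s) (by rw [map_sub, h2, nat, sub_self])
    refine ⟨n, inj1 ?_⟩
    rw [← c0, hn, map_sub, h1, aIz, sub_zero]
  · rintro ⟨n, hn⟩
    obtain ⟨s, hs⟩ := aIex (t - i0 n) (by rw [map_sub, h1, c0, hn, sub_self])
    refine ⟨s, aQinj ?_⟩
    rw [← nat, hs, map_sub, z0, sub_zero, h2]

include hdI c0 c1 cp z0 z1 inj1 inj2 ex0 ex1 sur0 exI aIz aIex aQz aQex aQinj nat in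
/-- **the degree-one chase**: a surjection from one-cocycles of `M•` to `coker (ΓI → ΓQ)` whose
kernel consists of the coboundaries -/
theorem exists_chase :
    ∃ ψ : AddMonoidHom.ker dM1 →+ GQ ⧸ π.range, Function.Surjective ψ ∧
      ∀ z, ψ z = 0 ↔ ∃ n, dM0 n = z.1 := by
  obtain ⟨ψ, hψ⟩ := exists_hom_of_rel π.range (rel dM1 dI0 i1 p0 aQ)
    (rel_dom dM1 dI0 dI1 dQ0 i1 i2 p0 p1 aQ hdI c1 cp z1 exI aQex)
    (rel_indet dM1 dI0 i1 p0 aI aQ π inj1 aIex aQinj nat)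
  refine ⟨ψ, ?_, ?_⟩
  · intro x
    obtain ⟨q, rfl⟩ := QuotientAddGroup.mk_surjective x
    obtain ⟨z, hz⟩ := rel_surj dM1 dI0 dI1 dQ0 i1 i2 p0 p1 aQ hdI c1 cp inj2 ex1 sur0 aQz q
    exact ⟨z, hψ z q hz⟩
  · intro z
    obtain ⟨q, hq⟩ := rel_dom dM1 dI0 dI1 dQ0 i1 i2 p0 p1 aQ hdI c1 cp z1 exI aQex z
    rw [hψ z q hq, QuotientAddGroup.eq_zero_iff]
    exact rel_ker dM0 dM1 dI0 i0 i1 p0 aI aQ π c0 z0 inj1 ex0 aIz aIex aQinj nat z q hq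

end Chase

end Groth.Agent.Lead.LerayOne
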