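import Mathlib
import Groth.Agent.Lib.Helper1.TCx
import Groth.Agent.Lib.Helper4.DuD2

/-!
# Degree-one Leray chase: augmentation of the Čech complex (lead)
-/

set_option backward.isDefEq.respectTransparency.types false
set_option autoImplicit false
set_option linter.unusedSectionVars false
set_option linter.style.haveILetI false
universe u

open CategoryTheory Limits Opposite TopologicalSpace

namespace Groth.Agent.Lead.LerayOne

open Groth.Agent.Helper1

variable {X : TopCat.{u}} {ι : Type u} (U : ι → Opens X) (P : (Opens X)ᵒᵖ ⥤ AddCommGrpCat.{u})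

/-- the augmentation of the Čech complex: restriction of a global section to the members -/
noncomputable def aug : P.obj (op ⊤) ⟶ (TCx.K U P).X 0 :=
  Pi.lift (fun a : Fin 1 → ι => P.map (homOfLE (le_top : TCx.W U a ≤ ⊤)).op)

theorem aug_proj (a : Fin 1 → ι) :
    aug U P ≫ TCx.proj U P 0 a = P.map (homOfLE (le_top : TCx.W U a ≤ ⊤)).op :=
  Pi.lift_π _ a

theorem aug_proj_apply (a : Fin 1 → ι) (s : P.obj (op ⊤)) :
    (TCx.proj U P 0 a).hom ((aug U P).hom s) = (P.map (homOfLE (le_top : TCx.W U a ≤ ⊤)).op).hom s :=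
  ConcreteCategory.congr_hom (aug_proj U P a) s

theorem res_res {A A' A'' : Opens X} (h1 : A' ≤ A) (h2 : A'' ≤ A') (h3 : A'' ≤ A)
    (r : P.obj (op A)) :
    (P.map (homOfLE h2).op).hom ((P.map (homOfLE h1).op).hom r) = (P.map (homOfLE h3).op).hom r := by
  rw [← ConcreteCategory.comp_apply, ← P.map_comp]
  rfl

theorem proj_congr {n : ℕ} (t : (TCx.K U P).X n) {b b' : Fin (n + 1) → ι} (h : b = b')
    (O : Opens X) (h1 : O ≤ TCx.W U b) (h2 : O ≤ TCx.W U b') :
    (P.map (homOfLE h1).op).hom ((TCx.proj U P n b).hom t) =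
      (P.map (homOfLE h2).op).hom ((TCx.proj U P n b').hom t) := by
  subst h
  rfl

theorem d_aug (s : P.obj (op ⊤)) : ((TCx.K U P).d 0 1).hom ((aug U P).hom s) = 0 := by
  apply TCx.ext U P 1
  intro a
  rw [TCx.d_apply, Fin.sum_univ_two, map_zero, aug_proj_apply, aug_proj_apply, res_res _ _ _ le_top,
    res_res _ _ _ le_top]
  simp

variable {U}

/-- the one-member intersection is the member -/
theorem W_one_eq (a : Fin 1 → ι) : TCx.W U a = U (a 0) := by
  rw [TCx.W_eq_iInf]
  exact (iInf_unique (f := fun k : Fin 1 => U (a k)))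

variable (U)

theorem top_le_iSup_W (hcov : iSup U = ⊤) :
    (⊤ : Opens X) ≤ iSup (fun i : ι => TCx.W U (fun _ : Fin 1 => i)) := by
  rw [← hcov]
  exact iSup_mono fun i => (W_one_eq (U := U) (fun _ : Fin 1 => i)).ge

variable (F : TopCat.Sheaf AddCommGrpCat.{u} X)

theorem aug_injective (hcov : iSup U = ⊤) : Function.Injective (aug U F.1).hom := by
  intro s s' h
  apply F.eq_of_locally_eq' (fun i : ι => TCx.W U (fun _ : Fin 1 => i)) ⊤
    (fun i => homOfLE le_top) (top_le_iSup_W U hcov)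
  intro i
  have := congrArg (TCx.proj U F.1 0 (fun _ : Fin 1 => i)).hom h
  rw [aug_proj_apply, aug_proj_apply] at this
  exact this

theorem exists_aug_eq (hcov : iSup U = ⊤) (t : (TCx.K U F.1).X 0)
    (ht : ((TCx.K U F.1).d 0 1).hom t = 0) : ∃ s, (aug U F.1).hom s = t := by
  let V : ι → Opens X := fun i => TCx.W U (fun _ : Fin 1 => i)
  let sf : ∀ i : ι, ToType (F.1.obj (op (V i))) := fun i => (TCx.proj U F.1 0 (fun _ : Fin 1 => i)).hom t
  have hcomp : TopCat.Presheaf.IsCompatible F.1 V sf := by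
    intro i j
    let a : Fin 2 → ι := ![i, j]
    have hO : V i ⊓ V j ≤ TCx.W U a := by
      apply TCx.le_W
      intro k
      fin_cases k
      · exact inf_le_left.trans (W_one_eq (U := U) (fun _ : Fin 1 => i)).le
      · exact inf_le_right.trans (W_one_eq (U := U) (fun _ : Fin 1 => j)).le
    have h0 := congrArg (fun x => (F.1.map (homOfLE hO).op).hom ((TCx.proj U F.1 1 a).hom x)) ht
    simp only [map_zero] at h0
    rw [TCx.d_apply, Fin.sum_univ_two, map_add, map_zsmul, map_zsmul,
      res_res F.1 _ _ (hO.trans (TCx.W_face_le U a 0)),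
      res_res F.1 _ _ (hO.trans (TCx.W_face_le U a 1))] at h0
    have e0 : (fun k : Fin 1 => a ((0 : Fin 2).succAbove k)) = fun _ : Fin 1 => j := by
      funext k
      fin_cases k
      rfl
    have e1 : (fun k : Fin 1 => a ((1 : Fin 2).succAbove k)) = fun _ : Fin 1 => i := by
      funext k
      fin_cases k
      rfl
    rw [proj_congr U F.1 t e0 (V i ⊓ V j) _ inf_le_right,
      proj_congr U F.1 t e1 (V i ⊓ V j) _ inf_le_left] at h0
    simp only [Fin.val_zero, pow_zero, one_zsmul, Fin.val_one, pow_one, neg_zsmul] at h0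
    have h1 := (add_neg_eq_zero.1 h0).symm
    exact h1
  obtain ⟨s, hs, -⟩ := F.existsUnique_gluing' V ⊤ (fun i => homOfLE le_top)
    (top_le_iSup_W U hcov) sf hcomp
  refine ⟨s, ?_⟩
  apply TCx.ext U F.1 0
  intro a
  rw [aug_proj_apply]
  have ea : a = fun _ : Fin 1 => a 0 := by
    funext k
    fin_cases k
    rfl
  have h2 := proj_congr U F.1 t ea (TCx.W U a) le_rfl (by rw [← ea])
  have h3 : (F.1.map (homOfLE (le_rfl : TCx.W U a ≤ TCx.W U a)).op).hom
      ((TCx.proj U F.1 0 a).hom t) = (TCx.proj U F.1 0 a).hom t := by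
    have : (homOfLE (le_rfl : TCx.W U a ≤ TCx.W U a)).op = 𝟙 _ := rfl
    rw [this, F.1.map_id]
    rfl
  rw [← h3, h2]
  have h4 := hs (a 0)
  change (F.1.map (homOfLE _).op).hom s = (TCx.proj U F.1 0 (fun _ : Fin 1 => a 0)).hom t at h4
  rw [← h4, res_res]

variable {P} {Q : (Opens X)ᵒᵖ ⥤ AddCommGrpCat.{u}} (φ : P ⟶ Q)

/-- the map induced on Čech cochains -/
noncomputable abbrev cmap (n : ℕ) : (TCx.K U P).X n ⟶ (TCx.K U Q).X n :=
  ((cechComplexFunctor U).map φ).f n

theorem cmap_aug (s : P.obj (op ⊤)) :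
    (cmap U φ 0).hom ((aug U P).hom s) = (aug U Q).hom ((φ.app (op ⊤)).hom s) := by
  apply TCx.ext U Q 0
  intro a
  rw [Groth.Agent.Lib.Helper4.DuD2.map_proj_apply, aug_proj_apply, aug_proj_apply]
  exact NatTrans.naturality_apply φ (homOfLE (le_top : TCx.W U a ≤ ⊤)).op s

theorem cmap_d (n : ℕ) (x : (TCx.K U P).X n) :
    ((TCx.K U Q).d n (n + 1)).hom ((cmap U φ n).hom x) =
      (cmap U φ (n + 1)).hom (((TCx.K U P).d n (n + 1)).hom x) := by
  have h := ((cechComplexFunctor U).map φ).comm n (n + 1)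
  have h2 := ConcreteCategory.congr_hom h x
  rw [ConcreteCategory.comp_apply, ConcreteCategory.comp_apply] at h2
  exact h2

end Groth.Agent.Lead.LerayOne
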