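import Mathlib
import Groth.Agent.Lib.Lead.LerayOne1
import Groth.Agent.Lib.Lead.LerayOne2
import Groth.Agent.Lib.Helper1.QcExt
import Groth.Agent.Lib.Helper3.EdgeMod2
import Groth.Agent.Lib.Helper4.LocCech1
import Groth.Agent.S0455

/-!
# Degree-one Leray chase for quasi-coherent modules (lead)

For a short exact sequence `0 → M → I → Q → 0` of `O_X`-modules with `M` quasi-coherent and `I`
injective, and a covering of `X` by affine opens `U i` (no separatedness assumption), the first Čech
cohomology of `M` is `coker (Γ(X, I) → Γ(X, Q))`.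
-/

set_option backward.isDefEq.respectTransparency.types false
set_option synthInstance.maxHeartbeats 400000
set_option autoImplicit false
set_option linter.unusedSectionVars false
set_option linter.style.haveILetI false
universe u

open CategoryTheory Limits Opposite TopologicalSpace AlgebraicGeometry

namespace Groth.Agent.Lead.LerayOne

open Groth.Agent.Helper1

variable {X : Scheme.{u}} {ι : Type u} (U : ι → X.Opens)

section Maps

variable {M N : X.Modules} (φ : M ⟶ N)

/-- the map induced on Čech cochains by a morphism of modules -/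
noncomputable abbrev cm (n : ℕ) : (TCx.K U M.presheaf).X n ⟶ (TCx.K U N.presheaf).X n :=
  cmap U φ.mapPresheaf n

theorem cm_proj (n : ℕ) (a : Fin (n + 1) → ι) (c : (TCx.K U M.presheaf).X n) :
    (TCx.proj U N.presheaf n a).hom ((cm U φ n).hom c) =
      (φ.app (TCx.W U a)).hom ((TCx.proj U M.presheaf n a).hom c) :=
  Groth.Agent.Lib.Helper4.DuD2.map_proj_apply U φ.mapPresheaf n a c

end Maps

variable (S : ShortComplex X.Modules)

theorem cm_zero (n : ℕ) (c : (TCx.K U S.X₁.presheaf).X n) :
    (cm U S.g n).hom ((cm U S.f n).hom c) = 0 := by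
  apply TCx.ext U S.X₃.presheaf n
  intro a
  rw [cm_proj, cm_proj, map_zero]
  exact QcExt.app_zero S (TCx.W U a) _

variable {S} (hS : S.ShortExact)

include hS in
theorem cm_injective (n : ℕ) : Function.Injective (cm U S.f n).hom := by
  intro x y h
  apply TCx.ext U S.X₁.presheaf n
  intro a
  have h2 := congrArg (TCx.proj U S.X₂.presheaf n a).hom h
  rw [cm_proj, cm_proj] at h2
  exact QcExt.app_injective hS (TCx.W U a) h2

include hS in
theorem cm_exact (n : ℕ) (t : (TCx.K U S.X₂.presheaf).X n) (ht : (cm U S.g n).hom t = 0) :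
    ∃ m, (cm U S.f n).hom m = t := by
  have h : ∀ a : Fin (n + 1) → ι, ∃ y : S.X₁.presheaf.obj (op (TCx.W U a)),
      (S.f.app (TCx.W U a)).hom y = (TCx.proj U S.X₂.presheaf n a).hom t := by
    intro a
    have h2 := congrArg (TCx.proj U S.X₃.presheaf n a).hom ht
    rw [cm_proj, map_zero] at h2
    exact QcExt.app_exact hS (TCx.W U a) _ h2
  choose y hy using h
  obtain ⟨m, hm⟩ := TCx.exists_cochain U S.X₁.presheaf n y
  refine ⟨m, ?_⟩
  apply TCx.ext U S.X₂.presheaf n
  intro a
  rw [cm_proj, hm, hy]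

include hS in
theorem cm_surjective_zero [S.X₁.IsQuasicoherent] (hU : ∀ i, IsAffineOpen (U i)) :
    Function.Surjective (cm U S.g 0).hom := by
  intro c
  have h : ∀ a : Fin 1 → ι, ∃ y : S.X₂.presheaf.obj (op (TCx.W U a)),
      (S.g.app (TCx.W U a)).hom y = (TCx.proj U S.X₃.presheaf 0 a).hom c := by
    intro a
    have hA : IsAffineOpen (TCx.W U a) := by
      rw [W_one_eq]
      exact hU _
    exact QcExt.app_surjective hS (TCx.W U a) hA _
  choose y hy using h
  obtain ⟨t, ht⟩ := TCx.exists_cochain U S.X₂.presheaf 0 y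
  refine ⟨t, ?_⟩
  apply TCx.ext U S.X₃.presheaf 0
  intro a
  rw [cm_proj, ht, hy]

theorem exact_of_injective (I : X.Modules) [Injective I] (x : (TCx.K U I.presheaf).X 1)
    (hx : ((TCx.K U I.presheaf).d 1 2).hom x = 0) :
    ∃ t, ((TCx.K U I.presheaf).d 0 1).hom t = x := by
  haveI := Groth.Agent.Helper3.EdgeMod.isFlasque_toAb_of_injective I
  have h0 : IsZero (CohTop.cechH I.presheaf U (0 + 1)) :=
    Groth.Agent.S0455.result (X := X.toTopCat) (Coh.toAb I) U 0
  exact (Groth.Agent.Lib.Helper4.LocCech1.isZero_cechH_iff' I U 0).1 h0 x hx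

/-- the underlying sheaf of abelian groups of a module, as a `TopCat.Sheaf` -/
noncomputable def shf (N : X.Modules) : TopCat.Sheaf AddCommGrpCat.{u} X.toTopCat :=
  ⟨N.presheaf, N.isSheaf⟩

include hS in
/-- **degree-one Leray chase**: a surjection from Čech one-cocycles of `M` onto
`coker (Γ(X, I) → Γ(X, Q))` with kernel the coboundaries -/
theorem exists_psi [S.X₁.IsQuasicoherent] [Injective S.X₂] (hU : ∀ i, IsAffineOpen (U i))
    (hcov : iSup U = ⊤) :
    ∃ ψ : AddMonoidHom.ker ((TCx.K U S.X₁.presheaf).d 1 2).hom →+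
        (S.X₃.presheaf.obj (op ⊤) ⧸ (S.g.mapPresheaf.app (op ⊤)).hom.range),
      Function.Surjective ψ ∧
        ∀ z, ψ z = 0 ↔ ∃ n, ((TCx.K U S.X₁.presheaf).d 0 1).hom n = z.1 := by
  refine exists_chase
    ((TCx.K U S.X₁.presheaf).d 0 1).hom ((TCx.K U S.X₁.presheaf).d 1 2).hom
    ((TCx.K U S.X₂.presheaf).d 0 1).hom ((TCx.K U S.X₂.presheaf).d 1 2).hom
    ((TCx.K U S.X₃.presheaf).d 0 1).hom
    (cm U S.f 0).hom (cm U S.f 1).hom (cm U S.f 2).hom (cm U S.g 0).hom (cm U S.g 1).hom
    (aug U S.X₂.presheaf).hom (aug U S.X₃.presheaf).hom (S.g.mapPresheaf.app (op ⊤)).hom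
    ?_ ?_ ?_ ?_ ?_ ?_ ?_ ?_ ?_ ?_ ?_ ?_ ?_ ?_ ?_ ?_ ?_ ?_
  · intro t
    have h := (TCx.K U S.X₂.presheaf).d_comp_d 0 1 2
    have h2 := ConcreteCategory.congr_hom h t
    rw [ConcreteCategory.comp_apply] at h2
    exact h2
  · intro n
    exact cmap_d U S.f.mapPresheaf 0 n
  · intro m
    exact cmap_d U S.f.mapPresheaf 1 m
  · intro t
    exact cmap_d U S.g.mapPresheaf 0 t
  · intro n
    exact cm_zero U S 0 n
  · intro m
    exact cm_zero U S 1 m
  · exact cm_injective U hS 1
  · exact cm_injective U hS 2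
  · exact cm_exact U hS 0
  · exact cm_exact U hS 1
  · exact cm_surjective_zero U hS hU
  · exact exact_of_injective U S.X₂
  · exact d_aug U S.X₂.presheaf
  · exact exists_aug_eq U (shf S.X₂) hcov
  · exact d_aug U S.X₃.presheaf
  · exact exists_aug_eq U (shf S.X₃) hcov
  · exact aug_injective U (shf S.X₃) hcov
  · intro s
    exact cmap_aug U S.g.mapPresheaf s

end Groth.Agent.Lead.LerayOne
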