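import Mathlib

/-!
# `Ext¹(A, M)` from an injective embedding of `M` (lead)
-/

set_option autoImplicit false
set_option linter.unusedSectionVars false
universe w v u

open CategoryTheory Limits Abelian

namespace Groth.Agent.Lead.LerayOne

variable {C : Type u} [Category.{v} C] [Abelian C] [HasExt.{w} C]
  {S : ShortComplex C} (hS : S.ShortExact) (A : C)

/-- the connecting map `Hom(A, Q) → Ext¹(A, M)` -/
noncomputable def conn : (A ⟶ S.X₃) →+ Ext A S.X₁ 1 :=
  AddMonoidHom.mk' (fun c => (Ext.mk₀ c).comp hS.extClass (zero_add 1)) (by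
    intro c c'
    rw [Ext.mk₀_add, Ext.add_comp])

theorem conn_apply (c : A ⟶ S.X₃) : conn hS A c = (Ext.mk₀ c).comp hS.extClass (zero_add 1) := rfl

theorem conn_surjective [Injective S.X₂] : Function.Surjective (conn hS A) := by
  intro x
  obtain ⟨x₃, hx₃⟩ := Ext.covariant_sequence_exact₁ A hS x (Ext.eq_zero_of_injective _) (zero_add 1)
  refine ⟨Ext.homEquiv₀ x₃, ?_⟩
  rw [conn_apply, Ext.mk₀_homEquiv₀_apply]
  exact hx₃

theorem conn_eq_zero_iff (c : A ⟶ S.X₃) : conn hS A c = 0 ↔ ∃ b : A ⟶ S.X₂, b ≫ S.g = c := by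
  constructor
  · intro h
    obtain ⟨x₂, hx₂⟩ := Ext.covariant_sequence_exact₃ A hS (Ext.mk₀ c) (zero_add 1) h
    refine ⟨Ext.homEquiv₀ x₂, ?_⟩
    apply Ext.homEquiv₀.symm.injective
    rw [Ext.homEquiv₀_symm_apply, Ext.homEquiv₀_symm_apply, ← Ext.mk₀_comp_mk₀,
      Ext.mk₀_homEquiv₀_apply]
    exact hx₂
  · rintro ⟨b, rfl⟩
    rw [conn_apply, ← Ext.mk₀_comp_mk₀, Ext.comp_assoc_of_second_deg_zero, hS.comp_extClass,
      Ext.comp_zero]

include hS in
/-- `Ext¹(A, M) ≃ coker (Hom(A, I) → Hom(A, Q))` in terms of any additive identification of the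
Hom groups -/
theorem exists_ext_equiv [Injective S.X₂] {GI GQ : Type*} [AddCommGroup GI] [AddCommGroup GQ]
    (eI : (A ⟶ S.X₂) ≃+ GI) (eQ : (A ⟶ S.X₃) ≃+ GQ) (π : GI →+ GQ)
    (hπ : ∀ b : A ⟶ S.X₂, eQ (b ≫ S.g) = π (eI b)) :
    Nonempty ((GQ ⧸ π.range) ≃+ Ext A S.X₁ 1) := by
  let ψ : GQ →+ Ext A S.X₁ 1 := (conn hS A).comp eQ.symm.toAddMonoidHom
  have hsurj : Function.Surjective ψ := (conn_surjective hS A).comp eQ.symm.surjective
  have hker : ψ.ker = π.range := by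
    ext q
    rw [AddMonoidHom.mem_ker]
    change conn hS A (eQ.symm q) = 0 ↔ _
    rw [conn_eq_zero_iff]
    constructor
    · rintro ⟨b, hb⟩
      refine ⟨eI b, ?_⟩
      rw [← hπ, hb, AddEquiv.apply_symm_apply]
    · rintro ⟨g, rfl⟩
      refine ⟨eI.symm g, ?_⟩
      apply eQ.injective
      rw [hπ, AddEquiv.apply_symm_apply, AddEquiv.apply_symm_apply]
  exact ⟨(QuotientAddGroup.quotientAddEquivOfEq hker.symm).trans
    (QuotientAddGroup.quotientKerEquivOfSurjective ψ hsurj)⟩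

end Groth.Agent.Lead.LerayOne
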