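import Mathlib
import Groth.Agent.Lib.Lead.LerayOne3
import Groth.Agent.Lib.Lead.LerayOne4
import Groth.Agent.Lib.Helper4.SecEquiv
import Groth.Agent.Lib.Helper3.HIso
import Groth.Agent.Lib.Helper5.Stalk.LpullAdj

/-!
# `Ext¹(O_X, M) ≃ Ȟ¹(U, M)` for quasi-coherent `M` and an affine covering (lead)

No separatedness is assumed: only the members of the covering are affine.
-/

set_option backward.isDefEq.respectTransparency.types false
set_option synthInstance.maxHeartbeats 400000
set_option autoImplicit false
set_option linter.unusedSectionVars false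
set_option linter.style.haveILetI false
universe u

open CategoryTheory Limits Opposite TopologicalSpace AlgebraicGeometry Abelian

namespace Groth.Agent.Lead.LerayOne

open Groth.Agent.Helper1 Groth.Agent.Lib.Helper4.SecEquiv

variable {X : Scheme.{u}}

/-- the structure sheaf as a module -/
noncomputable abbrev OO (X : Scheme.{u}) : X.Modules := SheafOfModules.unit X.ringCatSheaf

noncomputable def isTerminalTop' : IsTerminal (⊤ : Opens X.toTopCat) := isTerminalTop

/-- morphisms out of the structure sheaf are global sections -/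
noncomputable def evUnit (N : X.Modules) : (OO X ⟶ N) ≃+ N.presheaf.obj (op ⊤) where
  toFun φ := (evM (R := X.ringCatSheaf) (⊤ : Opens X.toTopCat) φ).hom
    (1 : X.ringCatSheaf.obj.obj (op ⊤))
  invFun s := unitLift (R := X.ringCatSheaf) isTerminalTop' N s
  left_inv φ := unitLift_eq (R := X.ringCatSheaf) isTerminalTop' φ
  right_inv s := unitLift_one (R := X.ringCatSheaf) isTerminalTop' N s
  map_add' φ ψ := rfl

theorem evUnit_comp {N N' : X.Modules} (b : OO X ⟶ N) (g : N ⟶ N') :
    evUnit N' (b ≫ g) = (g.mapPresheaf.app (op ⊤)).hom (evUnit N b) := rfl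

end Groth.Agent.Lead.LerayOne

namespace Groth.Agent.Lead.LerayOne

open Groth.Agent.Helper1 Groth.Agent.Lib.Helper4.SecEquiv

variable {X : Scheme.{u}}

/-- **Leray in degree one**: for a quasi-coherent module `M` and a covering by affine opens
(intersections need not be affine), `Ext¹(O_X, M)` is the first Čech cohomology group. -/
theorem nonempty_ext_unit_cech [HasExt.{u} X.Modules] (M : X.Modules) [M.IsQuasicoherent]
    {ι : Type u} (U : ι → X.Opens) (hU : ∀ i, IsAffineOpen (U i)) (hcov : ⨆ i, U i = ⊤) :
    Nonempty (Ext (OO X) M 1 ≃+ ↑(CohB1.cechH U M 1)) := by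
  haveI : EnoughInjectives X.Modules := IsGrothendieckAbelian.enoughInjectives.{u}
  let f : M ⟶ Injective.under M := Injective.ι M
  let S : ShortComplex X.Modules := ShortComplex.mk f (cokernel.π f) (cokernel.condition f)
  have hS : S.ShortExact :=
    { exact := ShortComplex.exact_cokernel f
      mono_f := inferInstanceAs (Mono f)
      epi_g := inferInstanceAs (Epi (cokernel.π f)) }
  haveI : S.X₁.IsQuasicoherent := ‹M.IsQuasicoherent›
  haveI : Injective S.X₂ := inferInstanceAs (Injective (Injective.under M))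
  obtain ⟨ψ, hs, hk⟩ := exists_psi U hS hU hcov
  obtain ⟨e1⟩ := exists_ext_equiv hS (OO X) (evUnit S.X₂) (evUnit S.X₃)
    (S.g.mapPresheaf.app (op ⊤)).hom (fun b => evUnit_comp b S.g)
  let K := TCx.K U M.presheaf
  let T := K.sc' 0 1 2
  have hk' : ∀ z : AddMonoidHom.ker T.g.hom, ψ z = 0 ↔ z ∈ AddMonoidHom.range T.abToCycles := by
    intro z
    rw [hk z]
    constructor
    · rintro ⟨n, hn⟩
      exact ⟨n, Subtype.ext hn⟩
    · rintro ⟨n, hn⟩
      exact ⟨n, congrArg Subtype.val hn⟩
  have e2 := Groth.Agent.Helper3.HIso.iso T ψ hs hk'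
  have e3 : K.homology 1 ≅ T.homology := K.homologyIsoSc' 0 1 2 (by simp) (by simp)
  exact ⟨e1.symm.trans (e3 ≪≫ e2).addCommGroupIsoToAddEquiv.symm⟩

end Groth.Agent.Lead.LerayOne
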