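import Mathlib
import Groth.Prelude.Def_W4c1bouilletffgsL3
import Groth.Agent.Lib.Helper1.L3P
import Groth.Agent.Lib.Helper4.JacPoint1
import Groth.Agent.Lib.Helper4.DimFT1

set_option backward.isDefEq.respectTransparency.types false
set_option synthInstance.maxHeartbeats 400000
set_option linter.style.haveILetI false
set_option linter.unusedSectionVars false
set_option autoImplicit false
set_option linter.unnecessarySeqFocus false

/-!
# Regularity of `Spec (D/J)` at the point `(0,1,0,0,0,t,0,0,0)` (S13105)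

Assembly of helper1's `idJ_isPrime`/`idJ_minimal`, helper4's Jacobian criterion at a rational
point (`JacPoint1`) and dimension theory (`DimFT1`).
-/

open MvPolynomial Lie3Mod

namespace Groth.Agent.Lead.Lie3Reg

universe u

variable (k : Type u) [Field k] (t : k)

/-- the point -/
def pt : Fin 9 → k := ![0, 1, 0, 0, 0, t, 0, 0, 0]

/-- the four generators of `J` -/
noncomputable def F : Fin 4 → D k := ![Q1 k, Q2 k, Q3 k, detM k]

theorem range_F : Set.range (F k) = {Q1 k, Q2 k, Q3 k, detM k} := by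
  ext x
  simp only [F, Set.mem_range, Set.mem_insert_iff, Set.mem_singleton_iff]
  constructor
  · rintro ⟨i, rfl⟩
    fin_cases i <;> simp
  · rintro (rfl | rfl | rfl | rfl)
    · exact ⟨0, rfl⟩
    · exact ⟨1, rfl⟩
    · exact ⟨2, rfl⟩
    · exact ⟨3, rfl⟩

theorem span_range_F : Ideal.span (Set.range (F k)) = idJ k := by
  rw [range_F]; rfl

/-- the maximal ideal of the point -/
noncomputable def pp : Ideal (D k) :=
  Ideal.span ({X 0, X 1 - 1, X 2, X 3, X 4, X 5 - C t, X 6, X 7, X 8} : Set (D k))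

theorem aeval_C_eq {n : ℕ} (a : Fin n → k) (x : MvPolynomial (Fin n) k) :
    aeval (fun j => (C (a j) : MvPolynomial (Fin n) k)) x = C (MvPolynomial.eval a x) := by
  induction x using MvPolynomial.induction_on with
  | C r => simp
  | add p q hp hq => rw [map_add, map_add, map_add, hp, hq]
  | mul_X p j hp => rw [map_mul, map_mul, map_mul, hp, aeval_X, eval_X]

theorem pp_eq_ker : pp k t = RingHom.ker (MvPolynomial.eval (pt k t)) := by
  apply le_antisymm
  · rw [pp, Ideal.span_le]
    intro x hx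
    simp only [Set.mem_insert_iff, Set.mem_singleton_iff] at hx
    simp only [SetLike.mem_coe, RingHom.mem_ker]
    rcases hx with rfl | rfl | rfl | rfl | rfl | rfl | rfl | rfl | rfl <;> simp [pt]
  · intro x hx
    rw [RingHom.mem_ker] at hx
    have h := Groth.Agent.Helper1.L3.sub_aeval_mem k (pp k t) (fun j => C (pt k t j)) ?_ x
    · rw [aeval_C_eq, hx, map_zero, sub_zero] at h
      exact h
    · intro j
      have hmem : ∀ y ∈ ({X 0, X 1 - 1, X 2, X 3, X 4, X 5 - C t, X 6, X 7, X 8} : Set (D k)),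
          y ∈ pp k t := fun y hy => Ideal.subset_span hy
      fin_cases j
      · simpa [pt] using hmem (X 0) (by simp)
      · simpa [pt] using hmem (X 1 - 1) (by simp)
      · simpa [pt] using hmem (X 2) (by simp)
      · simpa [pt] using hmem (X 3) (by simp)
      · simpa [pt] using hmem (X 4) (by simp)
      · simpa [pt] using hmem (X 5 - C t) (by simp)
      · simpa [pt] using hmem (X 6) (by simp)
      · simpa [pt] using hmem (X 7) (by simp)
      · simpa [pt] using hmem (X 8) (by simp)

/-- the Jacobian matrix at the point -/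
noncomputable def Jac : Matrix (Fin 4) (Fin 9) k :=
  Matrix.of fun i j => MvPolynomial.eval (pt k t) (MvPolynomial.pderiv j (F k i))

/-- the explicit Jacobian matrix at the point -/
def Jac0 : Matrix (Fin 4) (Fin 9) k :=
  !![0, 0, 0, 0, 0, 0, -(t + 1), 0, 0;
     0, 0, 0, 1, 0, 0, 0, -t, 0;
     -t, 0, 0, 0, 0, 0, 0, 0, -1;
     0, 0, 0, 0, 0, 0, t, 0, 0]

theorem Jac_eq : Jac k t = Jac0 k t := by
  ext i j
  fin_cases i <;> fin_cases j <;>
    simp [Jac, Jac0, F, Q1, Q2, Q3, detM, pt, pderiv_X, Derivation.leibniz] <;>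
    ring

/-- row operations -/
def rowOp : Matrix (Fin 3) (Fin 4) k :=
  !![-1, 0, 0, -1;
     0, 1, 0, 0;
     0, 0, 1, 0]

/-- column selection `(g, d, i)` -/
def colSel : Matrix (Fin 9) (Fin 3) k :=
  !![0, 0, 0;
     0, 0, 0;
     0, 0, 0;
     0, 1, 0;
     0, 0, 0;
     0, 0, 0;
     1, 0, 0;
     0, 0, 0;
     0, 0, 1]

theorem rowOp_mul_Jac0_mul_colSel :
    rowOp k * Jac0 k t * colSel k = !![1, 0, 0; 0, 1, 0; 0, 0, -1] := by
  ext i j
  fin_cases i <;> fin_cases j <;>
    simp [rowOp, Jac0, colSel, Matrix.mul_apply, Fin.sum_univ_succ]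

theorem three_le_rank_Jac : 3 ≤ (Jac k t).rank := by
  rw [Jac_eq]
  have h1 : (rowOp k * Jac0 k t * colSel k).rank = 3 := by
    rw [rowOp_mul_Jac0_mul_colSel]
    have hu : IsUnit (!![1, 0, 0; 0, 1, 0; 0, 0, -1] : Matrix (Fin 3) (Fin 3) k) := by
      rw [Matrix.isUnit_iff_isUnit_det, Matrix.det_fin_three]
      simp
    rw [Matrix.rank_of_isUnit _ hu, Fintype.card_fin]
  calc 3 = (rowOp k * Jac0 k t * colSel k).rank := h1.symm
    _ ≤ (rowOp k * Jac0 k t).rank := Matrix.rank_mul_le_left _ _
    _ ≤ (Jac0 k t).rank := Matrix.rank_mul_le_right _ _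

theorem idJ_le_pp : idJ k ≤ pp k t := by
  rw [pp_eq_ker, idJ, Ideal.span_le]
  intro x hx
  simp only [Set.mem_insert_iff, Set.mem_singleton_iff] at hx
  simp only [SetLike.mem_coe, RingHom.mem_ker]
  rcases hx with rfl | rfl | rfl | rfl <;> simp [Q1, Q2, Q3, detM, pt]

/-- the maximal ideal of `D/J` at the point -/
noncomputable def PP : Ideal (D k ⧸ idJ k) := Ideal.map (Ideal.Quotient.mk (idJ k)) (pp k t)

theorem comap_PP : (PP k t).comap (Ideal.Quotient.mk (idJ k)) =
    RingHom.ker (MvPolynomial.eval (pt k t)) := by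
  rw [PP, Ideal.comap_map_of_surjective _ Ideal.Quotient.mk_surjective, ← RingHom.ker_eq_comap_bot,
    Ideal.mk_ker, sup_eq_left.mpr (idJ_le_pp k t), pp_eq_ker]

theorem pp_isMaximal : (pp k t).IsMaximal := by
  rw [pp_eq_ker]
  exact RingHom.ker_isMaximal_of_surjective _ (fun x => ⟨C x, by simp⟩)

theorem PP_isMaximal : (PP k t).IsMaximal := by
  haveI := pp_isMaximal k t
  refine Ideal.IsMaximal.map_of_surjective_of_ker_le Ideal.Quotient.mk_surjective ?_
  rw [Ideal.mk_ker]
  exact idJ_le_pp k t

theorem ringKrullDim_D : ringKrullDim (D k) = 9 := by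
  have h := MvPolynomial.ringKrullDim_of_isNoetherianRing (R := k) (ι := Fin 9)
  rw [ringKrullDim_eq_zero_of_field] at h
  rw [show ringKrullDim (D k) = ringKrullDim (MvPolynomial (Fin 9) k) from rfl, h]
  simp

theorem height_idJ_le : (idJ k).height ≤ 3 := by
  classical
  have hmin := Groth.Agent.Helper1.L3P.idJ_minimal k
  have hspan : idI k = Ideal.span (({Q1 k, Q2 k, Q3 k} : Finset (D k)) : Set (D k)) := by
    rw [idI]; congr 1; simp
  rw [hspan] at hmin
  refine (Ideal.height_le_card_of_mem_minimalPrimes_span_finset hmin).trans ?_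
  exact_mod_cast Finset.card_le_three

open Groth.Agent.Lib.Helper4 in
theorem main_PP [hP : (PP k t).IsPrime] :
    IsRegularLocalRing (Localization.AtPrime (PP k t)) ∧
      ringKrullDim (Localization.AtPrime (PP k t)) = 6 := by
  haveI hJ : (idJ k).IsPrime := Groth.Agent.Helper1.L3P.idJ_isPrime k
  haveI : IsDomain (D k ⧸ idJ k) := Ideal.Quotient.isDomain _
  haveI hmax := PP_isMaximal k t
  obtain ⟨n, -, hdim, hloc⟩ := DimFT1.S2680_main k (D k ⧸ idJ k)
  have hn := hloc (PP k t)
  have h6 : 6 ≤ n := by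
    have h1 := DimFT1.height_add_dim_quotient k (D k) (idJ k)
    rw [hdim, ringKrullDim_D] at h1
    have hle := height_idJ_le k
    obtain ⟨m, hm⟩ := ENat.ne_top_iff_exists.mp (ne_top_of_le_ne_top (by simp) hle)
    rw [← hm] at h1 hle
    have h2 : m + n = 9 := by
      rw [← WithBot.coe_natCast, ← WithBot.coe_add,
        show (9 : WithBot ℕ∞) = ((9 : ℕ∞) : WithBot ℕ∞) from rfl, WithBot.coe_inj] at h1
      exact_mod_cast h1
    have h3 : m ≤ 3 := by exact_mod_cast hle
    omega
  have hjac := JacPoint1.main_general (pt k t) (F k) (Ideal.Quotient.mkₐ k (idJ k))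
    (Ideal.Quotient.mkₐ_surjective k _) (by
      ext x
      rw [RingHom.mem_ker, Ideal.Quotient.mkₐ_eq_mk, Ideal.Quotient.eq_zero_iff_mem,
        span_range_F])
    (PP k t) (comap_PP k t)
  have hrank := three_le_rank_Jac k t
  rw [Jac] at hrank
  haveI : IsNoetherianRing (Localization.AtPrime (PP k t)) :=
    IsLocalization.isNoetherianRing (PP k t).primeCompl _ inferInstance
  have hle := ringKrullDim_le_spanFinrank_maximalIdeal (Localization.AtPrime (PP k t))
  rw [IsLocalRing.spanFinrank_maximalIdeal_eq_finrank_cotangentSpace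
    (Localization.AtPrime (PP k t)), hn] at hle
  have hle' : n ≤ Module.finrank (IsLocalRing.ResidueField (Localization.AtPrime (PP k t)))
      (IsLocalRing.CotangentSpace (Localization.AtPrime (PP k t))) := by exact_mod_cast hle
  have hcot : Module.finrank (IsLocalRing.ResidueField (Localization.AtPrime (PP k t)))
      (IsLocalRing.CotangentSpace (Localization.AtPrime (PP k t))) = 6 := by omega
  have hn6 : n = 6 := by omega
  refine ⟨?_, ?_⟩
  · rw [IsRegularLocalRing.iff_finrank_cotangentSpace, hcot, hn, hn6]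
  · rw [hn, hn6]
    rfl

end Groth.Agent.Lead.Lie3Reg
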