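import Mathlib
import Groth.Prelude.Def_LieS

/-!
# Centralizers and the adjoint action on the Lie algebra of a group scheme (lead)
-/

set_option autoImplicit false
universe u
open CategoryTheory CategoryTheory.Limits AlgebraicGeometry MonObj

namespace Groth.Agent.Lead.LieCent

variable {S : Scheme.{u}}

section Aux

variable (B : Type u) [CommRing B] (f : Spec (CommRingCat.of B) ⟶ S)

/-- the section `ε ↦ c` of the dual numbers, for `c` of square zero -/
noncomputable def sec (c : B) (hc : c * c = 0) : LieS.pt B f ⟶ LieS.dpt B f :=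
  Over.homMk (Spec.map (CommRingCat.ofHom (LieS.dualHom (RingHom.id B) c hc))) (by
    change Spec.map _ ≫ Spec.map _ ≫ f = f
    rw [← Category.assoc, LieS.specMap_comp, LieS.dualHom_comp_algebraMap, CommRingCat.ofHom_id]
    erw [Spec.map_id]
    exact Category.id_comp f)

theorem sec_proj (c : B) (hc : c * c = 0) : sec B f c hc ≫ LieS.proj B f = 𝟙 _ := by
  ext
  change Spec.map _ ≫ Spec.map _ = 𝟙 _
  rw [LieS.specMap_comp, LieS.dualHom_comp_algebraMap, CommRingCat.ofHom_id]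
  erw [Spec.map_id]

end Aux

variable (G K : Over S) [GrpObj G] [GrpObj K] (i : K ⟶ G)
  (B : Type u) [CommRing B] (f : Spec (CommRingCat.of B) ⟶ S) (x : LieS.Lie G B f)

theorem pull_val {B' : Type u} [CommRing B'] (h : B →+* B') :
    (LieS.pull G f h x).1 = LieS.dptMap f h ≫ x.1 := rfl

theorem Ad_val (g : LieS.pt B f ⟶ G) (v : LieS.Lie G B f) :
    (LieS.Ad G B f g v).1 = (LieS.proj B f ≫ g) * v.1 * (LieS.proj B f ≫ g)⁻¹ := rfl

theorem forward
    (H : ∀ (X' : Over S) (y : X' ⟶ LieS.dpt B f) (h : X' ⟶ K),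
      (y ≫ x.1) * (h ≫ i) = (h ≫ i) * (y ≫ x.1))
    (B' : Type u) [CommRing B'] (h : B →+* B')
    (k : LieS.pt B' (Spec.map (CommRingCat.ofHom h) ≫ f) ⟶ K) :
    LieS.Ad G B' (Spec.map (CommRingCat.ofHom h) ≫ f) (k ≫ i) (LieS.pull G f h x) =
      LieS.pull G f h x := by
  apply Subtype.ext
  rw [Ad_val, pull_val]
  have := H (LieS.dpt B' (Spec.map (CommRingCat.ofHom h) ≫ f)) (LieS.dptMap f h)
    (LieS.proj B' (Spec.map (CommRingCat.ofHom h) ≫ f) ≫ k)
  rw [Category.assoc] at this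
  rw [← this, mul_inv_cancel_right]

theorem dualHom_comp_bcHom {R : Type u} [CommRing R] (φ : DualNumber B →+* R) (c : R)
    (hc : c * c = 0) (hcε : c = φ DualNumber.eps) :
    (LieS.dualHom (RingHom.id R) c hc).comp
      (LieS.bcHom (φ.comp (algebraMap B (DualNumber B)))) = φ := by
  apply RingHom.ext
  intro x
  have hx : x = algebraMap B (DualNumber B) x.fst + algebraMap B (DualNumber B) x.snd *
      DualNumber.eps := by
    apply TrivSqZeroExt.ext <;> simp [TrivSqZeroExt.algebraMap_eq_inl']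
  conv_rhs => rw [hx]
  simp [LieS.bcHom, TrivSqZeroExt.algebraMap_eq_inl', hcε]

theorem chart
    (H : ∀ (B' : Type u) [CommRing B'] (h : B →+* B')
      (k : LieS.pt B' (Spec.map (CommRingCat.ofHom h) ≫ f) ⟶ K),
      LieS.Ad G B' (Spec.map (CommRingCat.ofHom h) ≫ f) (k ≫ i) (LieS.pull G f h x) =
        LieS.pull G f h x)
    (X' : Over S) (y : X' ⟶ LieS.dpt B f) (h : X' ⟶ K)
    (R : Type u) [CommRing R] (g : Spec (CommRingCat.of R) ⟶ X'.left) :
    g ≫ ((y ≫ x.1) * (h ≫ i)).left = g ≫ ((h ≫ i) * (y ≫ x.1)).left := by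
  let φ : DualNumber B →+* R :=
    (Spec.preimage (R := CommRingCat.of (DualNumber B)) (S := CommRingCat.of R) (g ≫ y.left)).hom
  have hφ : Spec.map (CommRingCat.ofHom φ) = g ≫ y.left := Spec.map_preimage _
  let h' : B →+* R := φ.comp (algebraMap B (DualNumber B))
  let c : R := φ DualNumber.eps
  have hc : c * c = 0 := by
    change φ DualNumber.eps * φ DualNumber.eps = 0
    rw [← map_mul, DualNumber.eps_mul_eps, map_zero]
  have hstr : g ≫ X'.hom = Spec.map (CommRingCat.ofHom h') ≫ f := by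
    have hw : y.left ≫ (LieS.dpt B f).hom = X'.hom := Over.w y
    rw [← hw, ← Category.assoc, ← hφ]
    change Spec.map _ ≫ Spec.map _ ≫ f = _
    rw [← Category.assoc, LieS.specMap_comp]
  let gam : LieS.pt R (Spec.map (CommRingCat.ofHom h') ≫ f) ⟶ X' := Over.homMk g hstr
  have hgamy : gam ≫ y = sec R (Spec.map (CommRingCat.ofHom h') ≫ f) c hc ≫ LieS.dptMap f h' := by
    ext
    change g ≫ y.left = Spec.map _ ≫ Spec.map _
    rw [LieS.specMap_comp, dualHom_comp_bcHom B φ c hc rfl, hφ]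
  have hA := H R h' (gam ≫ h)
  have hA' := congrArg Subtype.val hA
  rw [Ad_val, pull_val] at hA'
  have hB := congrArg (fun w => sec R (Spec.map (CommRingCat.ofHom h') ≫ f) c hc ≫ w) hA'
  simp only [MonObj.comp_mul, GrpObj.comp_inv] at hB
  have hgamy' : sec R (Spec.map (CommRingCat.ofHom h') ≫ f) c hc ≫ LieS.dptMap f h' ≫ x.1 =
      gam ≫ y ≫ x.1 := by
    rw [← Category.assoc, ← hgamy, Category.assoc]
  rw [← Category.assoc, ← Category.assoc, sec_proj, Category.id_comp, hgamy'] at hB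
  have hC : (gam ≫ h ≫ i) * (gam ≫ y ≫ x.1) = (gam ≫ y ≫ x.1) * (gam ≫ h ≫ i) := by
    rw [Category.assoc] at hB
    exact mul_inv_eq_iff_eq_mul.1 hB
  have hD : gam ≫ ((y ≫ x.1) * (h ≫ i)) = gam ≫ ((h ≫ i) * (y ≫ x.1)) := by
    rw [MonObj.comp_mul, MonObj.comp_mul]
    exact hC.symm
  exact congrArg (fun w => w.left) hD

theorem backward
    (H : ∀ (B' : Type u) [CommRing B'] (h : B →+* B')
      (k : LieS.pt B' (Spec.map (CommRingCat.ofHom h) ≫ f) ⟶ K),
      LieS.Ad G B' (Spec.map (CommRingCat.ofHom h) ≫ f) (k ≫ i) (LieS.pull G f h x) =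
        LieS.pull G f h x)
    (X' : Over S) (y : X' ⟶ LieS.dpt B f) (h : X' ⟶ K) :
    (y ≫ x.1) * (h ≫ i) = (h ≫ i) * (y ≫ x.1) := by
  apply Over.OverMorphism.ext
  apply X'.left.affineCover.hom_ext
  intro j
  let e := (X'.left.affineCover.X j).isoSpec
  have := chart G K i B f x H X' y h Γ(X'.left.affineCover.X j, ⊤)
    (e.inv ≫ X'.left.affineCover.f j)
  have h2 : e.inv ≫ (X'.left.affineCover.f j ≫ ((y ≫ x.1) * (h ≫ i)).left) =
      e.inv ≫ (X'.left.affineCover.f j ≫ ((h ≫ i) * (y ≫ x.1)).left) := by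
    rw [← Category.assoc, ← Category.assoc]
    exact this
  exact (cancel_epi e.inv).1 h2

theorem main :
    (∀ (X' : Over S) (y : X' ⟶ LieS.dpt B f) (h : X' ⟶ K),
      (y ≫ x.1) * (h ≫ i) = (h ≫ i) * (y ≫ x.1)) ↔
    (∀ (B' : Type u) [CommRing B'] (h : B →+* B')
      (k : LieS.pt B' (Spec.map (CommRingCat.ofHom h) ≫ f) ⟶ K),
      LieS.Ad G B' (Spec.map (CommRingCat.ofHom h) ≫ f) (k ≫ i) (LieS.pull G f h x) =
        LieS.pull G f h x) :=
  ⟨fun H B' _ h k => forward G K i B f x H B' h k, fun H X' y h => backward G K i B f x H X' y h⟩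

end Groth.Agent.Lead.LieCent
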