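import Mathlib
import Groth.Prelude.Def_LieS
import Groth.Prelude.Def_Red2

/-!
# Lie algebra of a diagonalisable group (lead)
-/

set_option autoImplicit false
universe u
open CategoryTheory MonObj AlgebraicGeometry

namespace Groth.Agent.Lead.LieDiag

variable (R : Type u) [CommRing R] (M : Type) [AddCommGroup M]
    (B : Type u) [CommRing B] [Algebra R B]

/-- the algebra map attached to a dual-number point of `D(M)` -/
noncomputable def phi (v : LieS.dpt B (Spec.map (CommRingCat.ofHom (algebraMap R B))) ⟶ Red.diag R M) :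
    MonoidAlgebra R (Multiplicative M) →ₐ[R] DualNumber B :=
  (Spec.mapMulEquiv.symm ((LieS.dptIso B).inv ≫ v)).ofConv

theorem mapMulEquiv_left {R S T : Type u} [CommRing R] [CommRing S] [CommRing T] [Bialgebra R S]
    [Algebra R T] (f : WithConv (S →ₐ[R] T)) :
    (Spec.mapMulEquiv f).left = Spec.map (CommRingCat.ofHom f.ofConv.toRingHom) := rfl

theorem specMap_phi (v : LieS.dpt B (Spec.map (CommRingCat.ofHom (algebraMap R B))) ⟶ Red.diag R M) :
    Spec.map (CommRingCat.ofHom (phi R M B v).toRingHom) = v.left := by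
  have h := Spec.mapMulEquiv.apply_symm_apply ((LieS.dptIso B).inv ≫ v)
  have h2 := congrArg (fun w => w.left) h
  simp only [Over.comp_left] at h2
  have h2' : (Spec.mapMulEquiv (Spec.mapMulEquiv.symm ((LieS.dptIso B).inv ≫ v))).left =
      (𝟙 (Spec (CommRingCat.of (DualNumber B)))) ≫ v.left := h2
  have h5 : (𝟙 (Spec (CommRingCat.of (DualNumber B)))) ≫ v.left = v.left := Category.id_comp _
  exact (mapMulEquiv_left _).symm.trans (h2'.trans h5)

theorem fst_phi (v : LieS.dpt B (Spec.map (CommRingCat.ofHom (algebraMap R B))) ⟶ Red.diag R M)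
    (hv : v ∈ LieS.LieR (Red.diag R M) B) (x : MonoidAlgebra R (Multiplicative M)) :
    TrivSqZeroExt.fst (phi R M B v x) = algebraMap R B (Coalgebra.counit x) := by
  have h1 : LieS.zeroSec B (Spec.map (CommRingCat.ofHom (algebraMap R B))) ≫ v = 1 := hv
  have h2 := congrArg (fun w => w.left) h1
  simp only [Over.comp_left, Hom.one_def, Over.toUnit_left, one_spec_asOver_spec_left] at h2
  rw [← specMap_phi] at h2
  have h3 : Spec.map (CommRingCat.ofHom (TrivSqZeroExt.fstHom B B B).toRingHom) ≫
      Spec.map (CommRingCat.ofHom (phi R M B v).toRingHom) =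
      Spec.map (CommRingCat.ofHom (algebraMap R B)) ≫
        Spec.map (CommRingCat.ofHom (Bialgebra.counitAlgHom R (MonoidAlgebra R (Multiplicative M)))) := h2
  rw [← Spec.map_comp, ← Spec.map_comp] at h3
  have h4 := Spec.map_injective h3
  have h5 := congrArg (fun g => g.hom x) h4
  simpa using h5

theorem fst_phi_single (v : LieS.dpt B (Spec.map (CommRingCat.ofHom (algebraMap R B))) ⟶ Red.diag R M)
    (hv : v ∈ LieS.LieR (Red.diag R M) B) (m : Multiplicative M) :
    TrivSqZeroExt.fst (phi R M B v (MonoidAlgebra.single m 1)) = 1 := by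
  rw [fst_phi R M B v hv, MonoidAlgebra.counit_single]
  simp

/-- the additive character attached to an element of the Lie algebra -/
noncomputable def toHom (v : LieS.dpt B (Spec.map (CommRingCat.ofHom (algebraMap R B))) ⟶ Red.diag R M)
    (hv : v ∈ LieS.LieR (Red.diag R M) B) : M →+ B where
  toFun m := TrivSqZeroExt.snd (phi R M B v (MonoidAlgebra.single (Multiplicative.ofAdd m) 1))
  map_zero' := by
    have : (MonoidAlgebra.single (Multiplicative.ofAdd (0 : M)) (1 : R)) = 1 := by
      rw [ofAdd_zero]; rfl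
    rw [this, map_one]; rfl
  map_add' m m' := by
    have : (MonoidAlgebra.single (Multiplicative.ofAdd (m + m')) (1 : R)) =
        MonoidAlgebra.single (Multiplicative.ofAdd m) 1 * MonoidAlgebra.single (Multiplicative.ofAdd m') 1 := by
      rw [MonoidAlgebra.single_mul_single, ofAdd_add, _root_.one_mul]
    rw [this, map_mul, TrivSqZeroExt.snd_mul, fst_phi_single R M B v hv, fst_phi_single R M B v hv]
    simp [add_comm]

theorem phi_mul (v w : LieS.dpt B (Spec.map (CommRingCat.ofHom (algebraMap R B))) ⟶ Red.diag R M) :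
    phi R M B (v * w) = (WithConv.toConv (phi R M B v) * WithConv.toConv (phi R M B w)).ofConv := by
  unfold phi
  rw [MonObj.comp_mul, map_mul]

theorem phi_mul_single (v w : LieS.dpt B (Spec.map (CommRingCat.ofHom (algebraMap R B))) ⟶ Red.diag R M)
    (m : Multiplicative M) :
    phi R M B (v * w) (MonoidAlgebra.single m 1) =
      phi R M B v (MonoidAlgebra.single m 1) * phi R M B w (MonoidAlgebra.single m 1) := by
  rw [phi_mul]
  have := AlgHom.convMul_apply (WithConv.toConv (phi R M B v)) (WithConv.toConv (phi R M B w))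
    (MonoidAlgebra.single m (1 : R))
  refine this.trans ?_
  rw [MonoidAlgebra.comul_single]
  simp

theorem phi_scale (b : B)
    (v : LieS.dpt B (Spec.map (CommRingCat.ofHom (algebraMap R B))) ⟶ Red.diag R M)
    (x : MonoidAlgebra R (Multiplicative M)) :
    phi R M B (LieS.scale B (Spec.map (CommRingCat.ofHom (algebraMap R B))) b ≫ v) x =
      LieS.scaleHom b (phi R M B v x) := by
  have h1 := specMap_phi R M B (LieS.scale B (Spec.map (CommRingCat.ofHom (algebraMap R B))) b ≫ v)
  have h2 : (LieS.scale B (Spec.map (CommRingCat.ofHom (algebraMap R B))) b ≫ v).left =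
      Spec.map (CommRingCat.ofHom (LieS.scaleHom b)) ≫ v.left := rfl
  rw [h2, ← specMap_phi R M B v] at h1
  have h3 : Spec.map (CommRingCat.ofHom (phi R M B
      (LieS.scale B (Spec.map (CommRingCat.ofHom (algebraMap R B))) b ≫ v)).toRingHom) =
      Spec.map (CommRingCat.ofHom (LieS.scaleHom b)) ≫
        Spec.map (CommRingCat.ofHom (phi R M B v).toRingHom) := h1
  rw [← Spec.map_comp] at h3
  have h4 := Spec.map_injective h3
  have h5 := congrArg (fun g => g.hom x) h4
  simpa using h5

/-- the character `m ↦ 1 + β(m) ε` -/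
noncomputable def chiHom (β : M →+ B) : Multiplicative M →* DualNumber B where
  toFun m := 1 + TrivSqZeroExt.inr (β (Multiplicative.toAdd m))
  map_one' := by simp
  map_mul' m m' := by
    rw [toAdd_mul, map_add, TrivSqZeroExt.inr_add]
    have h0 : (TrivSqZeroExt.inr (β (Multiplicative.toAdd m)) : DualNumber B) *
        TrivSqZeroExt.inr (β (Multiplicative.toAdd m')) = 0 := TrivSqZeroExt.inr_mul_inr _ _ _
    linear_combination (-1 : DualNumber B) * h0

/-- the algebra map attached to an additive character -/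
noncomputable def psi (β : M →+ B) : MonoidAlgebra R (Multiplicative M) →ₐ[R] DualNumber B :=
  MonoidAlgebra.lift R (DualNumber B) (Multiplicative M) (chiHom M B β)

theorem psi_single (β : M →+ B) (m : Multiplicative M) :
    psi R M B β (MonoidAlgebra.single m 1) = 1 + TrivSqZeroExt.inr (β (Multiplicative.toAdd m)) := by
  unfold psi
  rw [MonoidAlgebra.lift_single, _root_.one_smul]
  rfl

/-- the dual-number point attached to an additive character -/
noncomputable def pt (β : M →+ B) :
    LieS.dpt B (Spec.map (CommRingCat.ofHom (algebraMap R B))) ⟶ Red.diag R M :=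
  (LieS.dptIso B).hom ≫ Spec.mapMulEquiv (WithConv.toConv (psi R M B β))

theorem phi_pt (β : M →+ B) : phi R M B (pt R M B β) = psi R M B β := by
  unfold phi pt
  rw [Iso.inv_hom_id_assoc, MulEquiv.symm_apply_apply]

theorem fst_psi (β : M →+ B) :
    ((TrivSqZeroExt.fstHom B B B).restrictScalars R).comp (psi R M B β) =
      (Algebra.ofId R B).comp (Bialgebra.counitAlgHom R (MonoidAlgebra R (Multiplicative M))) := by
  refine MonoidAlgebra.algHom_ext (fun m => ?_) (Subsingleton.elim _ _)
  simp only [AlgHom.comp_apply, AlgHom.restrictScalars_apply, Bialgebra.counitAlgHom_apply]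
  rw [psi_single, MonoidAlgebra.counit_single]
  simp

theorem pt_mem (β : M →+ B) : pt R M B β ∈ LieS.LieR (Red.diag R M) B := by
  show LieS.zeroSec B (Spec.map (CommRingCat.ofHom (algebraMap R B))) ≫ pt R M B β = 1
  apply Over.OverMorphism.ext
  simp only [Over.comp_left, Hom.one_def, Over.toUnit_left, one_spec_asOver_spec_left]
  have h1 : (pt R M B β).left = Spec.map (CommRingCat.ofHom (psi R M B β).toRingHom) := by
    rw [← specMap_phi R M B (pt R M B β), phi_pt]
  rw [h1]
  show Spec.map (CommRingCat.ofHom (TrivSqZeroExt.fstHom B B B).toRingHom) ≫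
      Spec.map (CommRingCat.ofHom (psi R M B β).toRingHom) =
      Spec.map (CommRingCat.ofHom (algebraMap R B)) ≫
        Spec.map (CommRingCat.ofHom (Bialgebra.counitAlgHom R (MonoidAlgebra R (Multiplicative M))))
  rw [← Spec.map_comp, ← Spec.map_comp]
  congr 1
  apply CommRingCat.hom_ext
  apply RingHom.ext
  intro x
  have := DFunLike.congr_fun (fst_psi R M B β) x
  simpa using this

theorem psi_toHom (v : LieS.dpt B (Spec.map (CommRingCat.ofHom (algebraMap R B))) ⟶ Red.diag R M)
    (hv : v ∈ LieS.LieR (Red.diag R M) B) : psi R M B (toHom R M B v hv) = phi R M B v := by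
  refine MonoidAlgebra.algHom_ext (fun m => ?_) (Subsingleton.elim _ _)
  rw [psi_single]
  apply TrivSqZeroExt.ext
  · rw [fst_phi_single R M B v hv]; simp
  · simp [toHom]

theorem pt_toHom (v : LieS.dpt B (Spec.map (CommRingCat.ofHom (algebraMap R B))) ⟶ Red.diag R M)
    (hv : v ∈ LieS.LieR (Red.diag R M) B) : pt R M B (toHom R M B v hv) = v := by
  unfold pt
  rw [psi_toHom]
  unfold phi
  rw [WithConv.toConv_ofConv, MulEquiv.apply_symm_apply, Iso.hom_inv_id_assoc]

theorem toHom_pt (β : M →+ B) : toHom R M B (pt R M B β) (pt_mem R M B β) = β := by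
  ext m
  show TrivSqZeroExt.snd (phi R M B (pt R M B β) (MonoidAlgebra.single (Multiplicative.ofAdd m) 1)) = β m
  rw [phi_pt, psi_single]
  simp

theorem toHom_mul (v w : LieS.dpt B (Spec.map (CommRingCat.ofHom (algebraMap R B))) ⟶ Red.diag R M)
    (hv : v ∈ LieS.LieR (Red.diag R M) B) (hw : w ∈ LieS.LieR (Red.diag R M) B)
    (hvw : v * w ∈ LieS.LieR (Red.diag R M) B) :
    toHom R M B (v * w) hvw = toHom R M B v hv + toHom R M B w hw := by
  ext m
  show TrivSqZeroExt.snd (phi R M B (v * w) (MonoidAlgebra.single (Multiplicative.ofAdd m) 1)) =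
    TrivSqZeroExt.snd (phi R M B v (MonoidAlgebra.single (Multiplicative.ofAdd m) 1)) +
    TrivSqZeroExt.snd (phi R M B w (MonoidAlgebra.single (Multiplicative.ofAdd m) 1))
  rw [phi_mul_single, TrivSqZeroExt.snd_mul, fst_phi_single R M B v hv, fst_phi_single R M B w hw]
  simp [add_comm]

theorem toHom_smul (b : B)
    (v : LieS.dpt B (Spec.map (CommRingCat.ofHom (algebraMap R B))) ⟶ Red.diag R M)
    (hv : v ∈ LieS.LieR (Red.diag R M) B)
    (hbv : LieS.scale B (Spec.map (CommRingCat.ofHom (algebraMap R B))) b ≫ v ∈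
      LieS.LieR (Red.diag R M) B) :
    toHom R M B (LieS.scale B (Spec.map (CommRingCat.ofHom (algebraMap R B))) b ≫ v) hbv =
      b • toHom R M B v hv := by
  ext m
  show TrivSqZeroExt.snd (phi R M B (LieS.scale B (Spec.map (CommRingCat.ofHom (algebraMap R B))) b ≫ v)
      (MonoidAlgebra.single (Multiplicative.ofAdd m) 1)) =
    b • TrivSqZeroExt.snd (phi R M B v (MonoidAlgebra.single (Multiplicative.ofAdd m) 1))
  rw [phi_scale]
  simp [LieS.scaleHom, LieS.dualHom_apply, TrivSqZeroExt.algebraMap_eq_inl', mul_comm]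

/-- the multiplicative equivalence -/
noncomputable def equiv : LieS.LieR (Red.diag R M) B ≃* Multiplicative (M →+ B) where
  toFun v := Multiplicative.ofAdd (toHom R M B v.1 v.2)
  invFun β := ⟨pt R M B (Multiplicative.toAdd β), pt_mem R M B _⟩
  left_inv v := Subtype.ext (pt_toHom R M B v.1 v.2)
  right_inv β := by
    show Multiplicative.ofAdd (toHom R M B (pt R M B (Multiplicative.toAdd β)) _) = β
    rw [toHom_pt]; rfl
  map_mul' v w := by
    show Multiplicative.ofAdd (toHom R M B (v.1 * w.1) _) = _
    rw [toHom_mul R M B v.1 w.1 v.2 w.2]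
    rfl

theorem main :
    ∃ e : LieS.LieR (Red.diag R M) B ≃* Multiplicative (M →+ B),
      (∀ (v : LieS.LieR (Red.diag R M) B) (m : M),
        Multiplicative.toAdd (e v) m =
          TrivSqZeroExt.snd (((Spec.mapMulEquiv.symm ((LieS.dptIso B).inv ≫ v.1)).ofConv :
            MonoidAlgebra R (Multiplicative M) →ₐ[R] DualNumber B)
            (MonoidAlgebra.single (Multiplicative.ofAdd m) 1))) ∧
      ∀ (b : B) (v : LieS.LieR (Red.diag R M) B),
        e (b • v) = Multiplicative.ofAdd (b • Multiplicative.toAdd (e v)) := by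
  refine ⟨equiv R M B, fun v m => rfl, fun b v => ?_⟩
  show Multiplicative.ofAdd (toHom R M B (b • v).1 (b • v).2) = _
  have := toHom_smul R M B b v.1 v.2 (b • v).2
  exact congrArg Multiplicative.ofAdd this

end Groth.Agent.Lead.LieDiag
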