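import Mathlib
import Groth.Prelude.Def_FlatFun
import Groth.Agent.Lib.Lead.LimPres

/-!
# Limit preservation for conditions on base changed morphisms of modules (lead)
-/

set_option autoImplicit false
universe u
open CategoryTheory CategoryTheory.Limits AlgebraicGeometry Opposite

set_option backward.isDefEq.respectTransparency.types false

namespace Groth.Agent.Lead.LimPres

section BC

variable {X S : Scheme.{u}} (f : X ⟶ S)

/-- the base change functor to schemes -/
noncomputable abbrev bcF : Over S ⥤ Scheme.{u} := Over.pullback f ⋙ Over.forget X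

theorem bcF_map_snd {T T' : Over S} (g : T ⟶ T') :
    (bcF f).map g ≫ pullback.snd T'.hom f = pullback.snd T.hom f :=
  pullback.lift_snd _ _ _

variable {I : Type u} [SmallCategory I] [IsCofiltered I] (D : I ⥤ Over S) (c : Cone D)

/-- the base changed cone is a limit cone -/
noncomputable def isLimitBc (hc : IsLimit ((Over.forget S).mapCone c)) :
    IsLimit ((bcF f).mapCone c) := by
  haveI : IsConnected I := IsCofiltered.isConnected I
  have hc0 : IsLimit c := isLimitOfReflects (Over.forget S) hc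
  haveI : PreservesLimitsOfSize.{u, u} (Over.pullback f) :=
    (Over.mapPullbackAdj f).rightAdjoint_preservesLimits
  exact isLimitOfPreserves (bcF f) hc0

omit [IsCofiltered I] in
theorem isAffineHom_bc (hD : ∀ i, IsAffine (D.obj i).left) {i j : I} (g : i ⟶ j) :
    IsAffineHom ((D ⋙ bcF f).map g) := by
  haveI : IsAffine (D.obj i).left := hD i
  haveI : IsAffine (D.obj j).left := hD j
  exact MorphismProperty.of_isPullback (P := @IsAffineHom)
    (isPullback_pullback_map f (D.map g)).flip inferInstance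

omit [IsCofiltered I] in
theorem compactSpace_bc [QuasiCompact f] (hD : ∀ i, IsAffine (D.obj i).left) (i : I) :
    CompactSpace ((D ⋙ bcF f).obj i) := by
  haveI : IsAffine (D.obj i).left := hD i
  change CompactSpace ↥(pullback (D.obj i).hom f)
  infer_instance

end BC

section Generic

variable (Q : ∀ {Y : Scheme.{u}} {M N : Y.Modules}, (M ⟶ N) → Prop)
  (hQcomp : ∀ {A B C : Scheme.{u}} (a : A ⟶ B) (b : B ⟶ C) (k : A ⟶ C) (_ : a ≫ b = k)
    {M N : C.Modules} (χ : M ⟶ N),
    Q ((Scheme.Modules.pullback a).map ((Scheme.Modules.pullback b).map χ)) ↔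
      Q ((Scheme.Modules.pullback k).map χ))
  (hQpull : ∀ {A B : Scheme.{u}} (a : A ⟶ B) {M N : B.Modules} (χ : M ⟶ N),
    Q χ → Q ((Scheme.Modules.pullback a).map χ))
  (hQid : ∀ {B : Scheme.{u}} {M N : B.Modules} (χ : M ⟶ N),
    Q ((Scheme.Modules.pullback (𝟙 B)).map χ) ↔ Q χ)

include hQcomp hQpull hQid in
theorem q_pullback_iso_iff {A B : Scheme.{u}} (a : A ⟶ B) [IsIso a] {M N : B.Modules}
    (χ : M ⟶ N) : Q ((Scheme.Modules.pullback a).map χ) ↔ Q χ := by
  constructor
  · intro h
    have h1 := hQpull (inv a) _ h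
    exact (hQid χ).1 ((hQcomp (inv a) a (𝟙 B) (IsIso.inv_hom_id a) χ).1 h1)
  · exact hQpull a χ

include hQcomp hQpull hQid in
theorem isLimitPreserving_pullback_fst {X S : Scheme.{u}} (f : X ⟶ S) [QuasiCompact f]
    {F G : X.Modules} (u : F ⟶ G)
    (hQlim : ∀ {I : Type u} [SmallCategory I] [IsCofiltered I] (D : I ⥤ Scheme.{u}) (c : Cone D)
      (_ : IsLimit c) (_ : ∀ (i j : I) (f : i ⟶ j), IsAffineHom (D.map f)) (i₀ : I)
      (_ : CompactSpace (D.obj i₀)) (a : D.obj i₀ ⟶ X),
      Q ((Scheme.Modules.pullback (c.π.app i₀)).map ((Scheme.Modules.pullback a).map u)) →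
        ∃ (j : I) (φ : j ⟶ i₀),
          Q ((Scheme.Modules.pullback (D.map φ)).map ((Scheme.Modules.pullback a).map u))) :
    AlgSp.IsLimitPreserving (FlatFun.genPSp S
      (fun T => Q ((Scheme.Modules.pullback (pullback.fst f T.hom)).map u))) := by
  have hPP' : ∀ T : Over S, Q ((Scheme.Modules.pullback (pullback.fst f T.hom)).map u) ↔
      Q ((Scheme.Modules.pullback (pullback.snd T.hom f)).map u) := by
    intro T
    refine (hQcomp (pullbackSymmetry f T.hom).hom (pullback.snd T.hom f) (pullback.fst f T.hom)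
      (pullbackSymmetry_hom_comp_snd f T.hom) u).symm.trans ?_
    exact q_pullback_iso_iff Q hQcomp hQpull hQid _ _
  refine isLimitPreserving_genPSp _ ?_ ?_
  · intro T T₀ g h0
    rw [hPP'] at h0 ⊢
    have h1 := hQpull ((bcF f).map g) _ h0
    exact (hQcomp ((bcF f).map g) (pullback.snd T₀.hom f) (pullback.snd T.hom f)
      (bcF_map_snd f g) u).1 h1
  · intro I _ _ D c hc hD _ h0
    rw [hPP'] at h0
    obtain ⟨i₀⟩ : Nonempty I := IsCofiltered.nonempty
    have haff : ∀ (i j : I) (g : i ⟶ j), IsAffineHom ((D ⋙ bcF f).map g) :=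
      fun i j g => isAffineHom_bc f D hD g
    have hcomp : CompactSpace ((D ⋙ bcF f).obj i₀) := compactSpace_bc f D hD i₀
    have h1 : Q ((Scheme.Modules.pullback (((bcF f).mapCone c).π.app i₀)).map
        ((Scheme.Modules.pullback (pullback.snd (D.obj i₀).hom f)).map u)) :=
      (hQcomp (((bcF f).mapCone c).π.app i₀) (pullback.snd (D.obj i₀).hom f)
        (pullback.snd c.pt.hom f) (bcF_map_snd f (c.π.app i₀)) u).2 h0
    obtain ⟨j, φ, hj⟩ := hQlim (D ⋙ bcF f) ((bcF f).mapCone c) (isLimitBc f D c hc) haff i₀ hcomp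
      (pullback.snd (D.obj i₀).hom f) h1
    refine ⟨j, ?_⟩
    rw [hPP']
    exact (hQcomp ((D ⋙ bcF f).map φ) (pullback.snd (D.obj i₀).hom f)
      (pullback.snd (D.obj j).hom f) (bcF_map_snd f (D.map φ)) u).1 hj

end Generic

end Groth.Agent.Lead.LimPres
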