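import Mathlib
import Groth.Agent.Lib.Lead.LimZ5
import Groth.Agent.Lib.Lead.EpiPull

/-!
# Right exact sequences and factorizations in a cofiltered limit of schemes (lead)
-/

set_option autoImplicit false
universe u
open CategoryTheory CategoryTheory.Limits AlgebraicGeometry TopologicalSpace TensorProduct
set_option backward.isDefEq.respectTransparency.types false

namespace Groth.Agent.Lead.LimZ

section RExact

variable {C₁ C₂ C₃ : Type*} [Category C₁] [Category C₂] [Category C₃] [Abelian C₁] [Abelian C₂]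
  [Abelian C₃]

/-- the image of `F ⟶ G ⟶ H ⟶ 0` under `P` is exact -/
def RExact (P : C₁ ⥤ C₂) {F G H : C₁} (f : F ⟶ G) (g : G ⟶ H) : Prop :=
  ∃ w : P.map f ≫ P.map g = 0, (ShortComplex.mk _ _ w).Exact ∧ Epi (P.map g)

theorem rExact_of_natIso {P Q : C₁ ⥤ C₂} (α : P ≅ Q) {F G H : C₁} (f : F ⟶ G) (g : G ⟶ H)
    (h : RExact P f g) : RExact Q f g := by
  obtain ⟨w, hex, hepi⟩ := h
  have wQ : Q.map f ≫ Q.map g = 0 := by
    have n1 := α.hom.naturality f
    have n2 := α.hom.naturality g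
    rw [← cancel_epi (α.hom.app F), ← Category.assoc, ← n1, Category.assoc, ← n2,
      ← Category.assoc, w, zero_comp, comp_zero]
  refine ⟨wQ, ?_⟩
  let e : ShortComplex.mk _ _ w ≅ ShortComplex.mk _ _ wQ :=
    ShortComplex.isoMk (α.app F) (α.app G) (α.app H) (α.hom.naturality f).symm
      (α.hom.naturality g).symm
  exact (ShortComplex.exact_and_epi_g_iff_of_iso e).1 ⟨hex, hepi⟩

theorem rExact_iff_of_natIso {P Q : C₁ ⥤ C₂} (α : P ≅ Q) {F G H : C₁} (f : F ⟶ G) (g : G ⟶ H) :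
    RExact P f g ↔ RExact Q f g :=
  ⟨rExact_of_natIso α f g, rExact_of_natIso α.symm f g⟩

theorem rExact_iff_isColimit (P : C₁ ⥤ C₂) {F G H : C₁} (f : F ⟶ G) (g : G ⟶ H) :
    RExact P f g ↔ ∃ w : P.map f ≫ P.map g = 0,
      Nonempty (IsColimit (CokernelCofork.ofπ (P.map g) w)) := by
  constructor
  · rintro ⟨w, hex, hepi⟩
    exact ⟨w, ((ShortComplex.mk _ _ w).exact_and_epi_g_iff_g_is_cokernel).1 ⟨hex, hepi⟩⟩
  · rintro ⟨w, h⟩
    exact ⟨w, ((ShortComplex.mk _ _ w).exact_and_epi_g_iff_g_is_cokernel).2 h⟩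

/-- a right exact functor preserves right exactness -/
theorem rExact_comp (P : C₁ ⥤ C₂) (R : C₂ ⥤ C₃) [R.PreservesZeroMorphisms]
    [PreservesFiniteColimits R] {F G H : C₁} (f : F ⟶ G) (g : G ⟶ H) (h : RExact P f g) :
    RExact (P ⋙ R) f g := by
  rw [rExact_iff_isColimit] at h ⊢
  obtain ⟨w, ⟨hc⟩⟩ := h
  have w' : (P ⋙ R).map f ≫ (P ⋙ R).map g = 0 := by
    change R.map (P.map f) ≫ R.map (P.map g) = 0
    rw [← Functor.map_comp, w, Functor.map_zero]
  exact ⟨w', ⟨CokernelCofork.mapIsColimit _ hc R⟩⟩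

/-- for a complex `F ⟶ G ⟶ H`, the image under a right exact functor is right exact iff the functor
inverts the induced morphism from the cokernel -/
theorem rExact_iff_isIso (P : C₁ ⥤ C₂) [P.PreservesZeroMorphisms] [PreservesFiniteColimits P]
    {F G H : C₁} (f : F ⟶ G) (g : G ⟶ H) (w₀ : f ≫ g = 0) :
    RExact P f g ↔ IsIso (P.map (cokernel.desc f g w₀)) := by
  have hπ : IsColimit (CokernelCofork.ofπ (P.map (cokernel.π f))
      (by rw [← Functor.map_comp, cokernel.condition, Functor.map_zero])) :=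
    CokernelCofork.mapIsColimit _ (cokernelIsCokernel f) P
  have hfac : P.map (cokernel.π f) ≫ P.map (cokernel.desc f g w₀) = P.map g := by
    rw [← Functor.map_comp, cokernel.π_desc]
  have w : P.map f ≫ P.map g = 0 := by rw [← Functor.map_comp, w₀, Functor.map_zero]
  rw [rExact_iff_isColimit]
  constructor
  · rintro ⟨w', ⟨hg⟩⟩
    have e := hπ.coconePointUniqueUpToIso hg
    have he : P.map (cokernel.π f) ≫ (hπ.coconePointUniqueUpToIso hg).hom = P.map g :=
      hπ.comp_coconePointUniqueUpToIso_hom hg WalkingParallelPair.one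
    haveI : Epi (P.map (cokernel.π f)) := epi_of_isColimit_cofork hπ
    have : P.map (cokernel.desc f g w₀) = (hπ.coconePointUniqueUpToIso hg).hom := by
      rw [← cancel_epi (P.map (cokernel.π f)), hfac, he]
    rw [this]
    infer_instance
  · intro hiso
    refine ⟨w, ⟨IsColimit.ofIsoColimit hπ ?_⟩⟩
    exact Cofork.ext (asIso (P.map (cokernel.desc f g w₀))) hfac

end RExact

section Lim

variable {I : Type u} [SmallCategory I] [IsCofiltered I] (D : I ⥤ Scheme.{u}) (c : Cone D)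
  (hc : IsLimit c) [∀ (i j : I) (f : i ⟶ j), IsAffineHom (D.map f)] (i₀ : I)
  {F₀ G₀ H₀ : (D.obj i₀).Modules} [F₀.IsQuasicoherent] [G₀.IsQuasicoherent] [H₀.IsQuasicoherent]

instance pullback_isLeftAdjoint {A B : Scheme.{u}} (a : A ⟶ B) :
    (Scheme.Modules.pullback a).IsLeftAdjoint :=
  (Scheme.Modules.pullbackPushforwardAdjunction a).isLeftAdjoint

omit [IsCofiltered I] [∀ (i j : I) (f : i ⟶ j), IsAffineHom (D.map f)]
  [F₀.IsQuasicoherent] [G₀.IsQuasicoherent] [H₀.IsQuasicoherent] in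
/-- right exactness at a stage passes to the limit -/
theorem rExact_limit_of_stage (f₀ : F₀ ⟶ G₀) (g₀ : G₀ ⟶ H₀) {j : I} (φ : j ⟶ i₀)
    (h : RExact (Scheme.Modules.pullback (D.map φ)) f₀ g₀) :
    RExact (Scheme.Modules.pullback (c.π.app i₀)) f₀ g₀ :=
  rExact_of_natIso (compIso (c.π.app j) (D.map φ) (c.π.app i₀) (c.w φ)) f₀ g₀
    (rExact_comp _ (Scheme.Modules.pullback (c.π.app j)) f₀ g₀ h)

include hc in
theorem exists_rExact [CompactSpace (D.obj i₀)] (hF₀ : CohB1.IsFT F₀) (hG₀ : CohB1.IsFT G₀)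
    (hH₀ : CohB1.IsFP H₀) (f₀ : F₀ ⟶ G₀) (g₀ : G₀ ⟶ H₀)
    (h : RExact (Scheme.Modules.pullback (c.π.app i₀)) f₀ g₀) :
    ∃ (j : I) (φ : j ⟶ i₀), RExact (Scheme.Modules.pullback (D.map φ)) f₀ g₀ := by
  -- a stage at which the composite vanishes
  have h0 : (Scheme.Modules.pullback (c.π.app i₀)).map (f₀ ≫ g₀) = 0 := by
    obtain ⟨w, -, -⟩ := h
    rw [Functor.map_comp, w]
  obtain ⟨j, φ, hj⟩ := exists_pullback_map_eq_zero D c hc i₀ (f₀ ≫ g₀) hF₀ h0
  haveI : CompactSpace (D.obj j) := QuasiCompact.compactSpace_of_compactSpace (D.map φ)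
  haveI : ((Scheme.Modules.pullback (D.map φ)).obj F₀).IsQuasicoherent :=
    Groth.Agent.Lead.PB.isQuasicoherent_pullback _ _
  haveI : ((Scheme.Modules.pullback (D.map φ)).obj G₀).IsQuasicoherent :=
    Groth.Agent.Lead.PB.isQuasicoherent_pullback _ _
  haveI : ((Scheme.Modules.pullback (D.map φ)).obj H₀).IsQuasicoherent :=
    Groth.Agent.Lead.PB.isQuasicoherent_pullback _ _
  have hGj : CohB1.IsFT ((Scheme.Modules.pullback (D.map φ)).obj G₀) :=
    Groth.Agent.Lead.PB.isFT_pullback _ _ hG₀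
  have hHj : CohB1.IsFP ((Scheme.Modules.pullback (D.map φ)).obj H₀) :=
    isFP_pullback _ _ hH₀
  set fj := (Scheme.Modules.pullback (D.map φ)).map f₀ with hfj
  set gj := (Scheme.Modules.pullback (D.map φ)).map g₀ with hgj
  have wj : fj ≫ gj = 0 := by rw [hfj, hgj, ← Functor.map_comp, hj]
  obtain ⟨hCq, hCft⟩ := Groth.Agent.Lead.EpiPull.cokernel_qcoh_ft hGj fj
  haveI := hCq
  -- right exactness of the pullback to the limit of the sequence at stage `j`
  have h1 : RExact (Scheme.Modules.pullback (c.π.app j)) fj gj :=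
    rExact_of_natIso (compIso (c.π.app j) (D.map φ) (c.π.app i₀) (c.w φ)).symm f₀ g₀ h
  rw [rExact_iff_isIso _ fj gj wj] at h1
  obtain ⟨k, ψ, hk⟩ := exists_isIso D c hc j hCft hHj (cokernel.desc fj gj wj) h1
  rw [← rExact_iff_isIso _ fj gj wj] at hk
  refine ⟨k, ψ ≫ φ, ?_⟩
  exact rExact_of_natIso (compIso (D.map ψ) (D.map φ) (D.map (ψ ≫ φ)) (D.map_comp ψ φ).symm)
    f₀ g₀ hk

end Lim

end Groth.Agent.Lead.LimZ
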