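import Mathlib.Topology.Algebra.LinearTopology
import Mathlib.Topology.Algebra.TopologicallyNilpotent
import Mathlib.Topology.Algebra.Ring.Ideal
import Mathlib.Topology.Algebra.OpenSubgroup
import Mathlib.Tactic

/-! Helper lemmas on linearly topologized rings (lead). -/

set_option autoImplicit false

namespace Groth.Agent.Lead

open Filter Topology

universe u v

section

variable {B : Type v} [CommRing B] [TopologicalSpace B] [IsTopologicalRing B]

/-- an ideal which is a neighbourhood of zero is open -/
theorem ideal_isOpen_of_mem_nhds (J : Ideal B) (h : (J : Set B) ∈ 𝓝 (0 : B)) : IsOpen (J : Set B) := by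
  have := AddSubgroup.isOpen_of_mem_nhds J.toAddSubgroup (g := (0 : B)) (by simpa using h)
  simpa using this

/-- an ideal containing an open ideal is open -/
theorem ideal_isOpen_mono {I J : Ideal B} (hIJ : I ≤ J) (hI : IsOpen (I : Set B)) : IsOpen (J : Set B) := by
  apply ideal_isOpen_of_mem_nhds
  exact Filter.mem_of_superset (hI.mem_nhds I.zero_mem) hIJ

/-- a set-level version: an ideal containing an open set containing zero is open -/
theorem ideal_isOpen_of_subset {J : Ideal B} {U : Set B} (hU : IsOpen U) (h0 : (0 : B) ∈ U)
    (hUJ : U ⊆ (J : Set B)) : IsOpen (J : Set B) :=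
  ideal_isOpen_of_mem_nhds J (Filter.mem_of_superset (hU.mem_nhds h0) hUJ)

/-- open ideals are closed -/
theorem ideal_isClosed_of_isOpen {I : Ideal B} (hI : IsOpen (I : Set B)) : IsClosed (I : Set B) := by
  have := AddSubgroup.isClosed_of_isOpen I.toAddSubgroup (by simpa using hI)
  simpa using this

variable [IsLinearTopology B B]

/-- In a linearly topologized ring the ideal of topologically nilpotent elements is closed. -/
theorem isClosed_topologicalNilradical : IsClosed ((topologicalNilradical B : Ideal B) : Set B) := by
  rw [← closure_subset_iff_isClosed]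
  intro x hx
  change IsTopologicallyNilpotent x
  unfold IsTopologicallyNilpotent
  rw [(IsLinearTopology.hasBasis_open_ideal (R := B)).tendsto_right_iff]
  intro K hK
  -- x + K meets the nilradical
  have hxK : ((fun y => x + y) '' (K : Set B)) ∈ 𝓝 x := by
    have h0 : (K : Set B) ∈ 𝓝 (0 : B) := hK.mem_nhds K.zero_mem
    have := Filter.image_mem_map (m := fun y => x + y) h0
    rwa [map_add_left_nhds_zero] at this
  obtain ⟨y, hy1, hy2⟩ := mem_closure_iff_nhds.mp hx _ hxK
  obtain ⟨k, hk, rfl⟩ := hy1
  have hy3 : IsTopologicallyNilpotent (x + k) := hy2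
  have hev : ∀ᶠ n in atTop, (x + k) ^ n ∈ (K : Set B) := hy3.eventually_mem (hK.mem_nhds K.zero_mem)
  filter_upwards [hev] with n hn
  -- x^n ≡ (x+k)^n mod K
  have hsub : (x + k) ^ n - x ^ n ∈ K := by
    have h1 : (x + k) - x ∈ K := by simpa using hk
    have h2 := sub_dvd_pow_sub_pow (x + k) x n
    obtain ⟨c, hc⟩ := h2
    rw [hc]
    exact K.mul_mem_right c h1
  have : x ^ n = (x + k) ^ n - ((x + k) ^ n - x ^ n) := by ring
  rw [this]
  exact K.sub_mem hn hsub

/-- the ideal generated by the image of an ideal of topologically nilpotent elements under a continuous map, and its closure,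
consist of topologically nilpotent elements -/
theorem isTopologicallyNilpotent_of_mem_closure_map {A : Type u} [CommRing A] [TopologicalSpace A]
    (φ : A →+* B) (hφ : Continuous φ) (I : Ideal A) (hI : ∀ f ∈ I, IsTopologicallyNilpotent f)
    (g : B) (hg : g ∈ (I.map φ).closure) : IsTopologicallyNilpotent g := by
  have h1 : I.map φ ≤ topologicalNilradical B := by
    rw [Ideal.map_le_iff_le_comap]
    intro f hf
    exact IsTopologicallyNilpotent.map hφ (hI f hf)
  have h2 : ((I.map φ).closure : Set B) ⊆ (topologicalNilradical B : Set B) := by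
    rw [Ideal.coe_closure]
    exact closure_minimal h1 isClosed_topologicalNilradical
  exact h2 hg

end

section

variable {B : Type v} [CommRing B] [TopologicalSpace B] [IsTopologicalRing B]

theorem closure_mul_le (I J : Ideal B) : I.closure * J.closure ≤ (I * J).closure := by
  rw [Ideal.mul_le]
  intro x hx y hy
  have hx' : x ∈ closure (I : Set B) := hx
  have hy' : y ∈ closure (J : Set B) := hy
  have := map_mem_closure₂ continuous_mul hx' hy'
    (fun a ha b hb => (Ideal.mul_mem_mul ha hb : a * b ∈ ((I * J : Ideal B) : Set B)))
  exact this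

theorem closure_mono' {I J : Ideal B} (h : I ≤ J) : I.closure ≤ J.closure := by
  intro x hx
  exact closure_mono (show (I : Set B) ⊆ J from h) hx

theorem closure_pow_le (I : Ideal B) (n : ℕ) : I.closure ^ n ≤ (I ^ n).closure := by
  induction n with
  | zero =>
    simp only [pow_zero, Ideal.one_eq_top]
    intro x _
    exact subset_closure (by simp)
  | succ n ih =>
    rw [pow_succ, pow_succ]
    exact (Ideal.mul_mono_left ih).trans (closure_mul_le _ _)

/-- closure of an ideal contained in a an open ideal -/
theorem closure_le_of_le_of_isOpen {I K : Ideal B} (h : I ≤ K) (hK : IsOpen (K : Set B)) :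
    I.closure ≤ K := by
  intro x hx
  exact closure_minimal (show (I : Set B) ⊆ K from h) (ideal_isClosed_of_isOpen hK) hx

end

end Groth.Agent.Lead
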