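import Groth.Agent.Lib.Lead.LinTop
import Groth.Prelude.Def_W4stk3formalspacesTaut

/-! More helper lemmas on linearly topologized rings, using the Prelude definitions (lead). -/

set_option autoImplicit false

namespace Groth.Agent.Lead

open Filter Topology

universe u v

/-- A copy of the ring `A` carrying the `I`-adic topology. -/
def AdicCopy (A : Type u) [CommRing A] (_I : Ideal A) : Type u := A

namespace AdicCopy

variable (A : Type u) [CommRing A] (I : Ideal A)

instance instCommRing : CommRing (AdicCopy A I) := inferInstanceAs (CommRing A)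

instance instTop : TopologicalSpace (AdicCopy A I) := I.adicTopology

instance instTopRing : IsTopologicalRing (AdicCopy A I) :=
  I.adic_basis.toRing_subgroups_basis.toRingFilterBasis.isTopologicalRing

/-- the identity map as a ring hom -/
def toRing : AdicCopy A I →+* A := RingHom.id A

/-- the ideal `I` seen in the copy -/
def ideal : Ideal (AdicCopy A I) := I

theorem isAdic : IsAdic (ideal A I) := rfl

theorem isPreadic : LinTop.IsPreadic (AdicCopy A I) := ⟨ideal A I, isAdic A I⟩

instance instLin : IsLinearTopology (AdicCopy A I) (AdicCopy A I) := I.isLinearTopology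

theorem ideal_pow_map (n : ℕ) : ((ideal A I) ^ n).map (toRing A I) = I ^ n := by
  show Ideal.map (RingHom.id A) (I ^ n) = I ^ n
  exact Ideal.map_id _

theorem map_toRing (J : Ideal (AdicCopy A I)) : J.map (toRing A I) = (show Ideal A from J) := by
  show Ideal.map (RingHom.id A) _ = _
  exact Ideal.map_id _

end AdicCopy

section

variable {A : Type u} [CommRing A] [TopologicalSpace A] [IsTopologicalRing A]

/-- a ring hom between topological rings which is continuous at zero is continuous -/
theorem ringHom_continuous_of_nhds_zero {A' : Type v} [CommRing A'] [TopologicalSpace A']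
    [IsTopologicalRing A'] (φ : A' →+* A) (h : Tendsto φ (𝓝 0) (𝓝 0)) : Continuous φ := by
  have : ContinuousAt φ.toAddMonoidHom 0 := by
    show Tendsto φ (𝓝 0) (𝓝 (φ 0))
    rw [map_zero]; exact h
  exact continuous_of_continuousAt_zero φ.toAddMonoidHom this

/-- the identity from the adic copy is taut as soon as closures of powers are open and small -/
theorem adicCopy_isTaut (I : Ideal A)
    (hI1 : ∀ n : ℕ, IsOpen (closure ((I ^ n : Ideal A) : Set A)))
    (hI2 : ∀ U ∈ 𝓝 (0 : A), ∃ n : ℕ, closure ((I ^ n : Ideal A) : Set A) ⊆ U) :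
    LinTop.IsTaut (AdicCopy.toRing A I) := by
  have hbasis := (AdicCopy.isAdic A I).hasBasis_nhds_zero
  refine ⟨?_, fun J hJ => ?_, fun U hU => ?_⟩
  · apply ringHom_continuous_of_nhds_zero
    rw [hbasis.tendsto_left_iff]
    intro U hU
    obtain ⟨n, hn⟩ := hI2 U hU
    refine ⟨n, trivial, ?_⟩
    intro x hx
    exact hn (subset_closure hx)
  · obtain ⟨n, -, hn⟩ := hbasis.mem_iff.mp (hJ.mem_nhds J.zero_mem)
    have hle : I ^ n ≤ J.map (AdicCopy.toRing A I) := by
      rw [AdicCopy.map_toRing]
      exact hn
    have hsub : closure ((I ^ n : Ideal A) : Set A) ⊆ ((J.map (AdicCopy.toRing A I)).closure : Set A) := by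
      rw [Ideal.coe_closure]; exact closure_mono hle
    have := ideal_isOpen_of_subset (J := (J.map (AdicCopy.toRing A I)).closure) (hI1 n)
      (subset_closure (Ideal.zero_mem _)) hsub
    rwa [Ideal.coe_closure] at this
  · obtain ⟨n, hn⟩ := hI2 U hU
    refine ⟨(AdicCopy.ideal A I) ^ n, ?_, ?_⟩
    · exact ((isAdic_iff.mp (AdicCopy.isAdic A I)).1 n)
    · rw [AdicCopy.ideal_pow_map]; exact hn

end

end Groth.Agent.Lead
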