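import Groth.Agent.Lib.Lead.LinTop2
import Mathlib.Topology.Algebra.UniformRing

/-! Completion of linearly topologized rings (lead). -/

set_option autoImplicit false

namespace Groth.Agent.Lead

open Filter Topology

universe u

section

variable (A : Type u) [CommRing A] [UniformSpace A] [IsUniformAddGroup A] [IsTopologicalRing A]

local notation "Â" => UniformSpace.Completion A

/-- the canonical ring hom to the completion -/
noncomputable abbrev cι : A →+* UniformSpace.Completion A := UniformSpace.Completion.coeRingHom

variable {A}

theorem cι_continuous : Continuous (cι A) := UniformSpace.Completion.continuous_coe A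

theorem completion_absorb (I : Ideal A) (a x : UniformSpace.Completion A)
    (hx : x ∈ closure (cι A '' (I : Set A))) : a * x ∈ closure (cι A '' (I : Set A)) := by
  have step1 : ∀ (a' : A) (y : UniformSpace.Completion A), y ∈ closure (cι A '' (I : Set A)) →
      cι A a' * y ∈ closure (cι A '' (I : Set A)) := by
    intro a' y hy
    refine map_mem_closure (f := fun y => cι A a' * y) (continuous_const.mul continuous_id) hy ?_
    rintro _ ⟨i, hi, rfl⟩
    exact ⟨a' * i, I.mul_mem_left a' hi, by simp⟩
  have hdense : a ∈ closure (Set.range (cι A)) := by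
    have : DenseRange ((↑) : A → UniformSpace.Completion A) := UniformSpace.Completion.denseRange_coe
    exact this a
  have := map_mem_closure (f := fun b => b * x) (continuous_id.mul continuous_const) hdense
    (t := closure (cι A '' (I : Set A))) (by
      rintro _ ⟨a', rfl⟩
      exact step1 a' x hx)
  rwa [closure_closure] at this

theorem completion_map_subset (I : Ideal A) :
    ((I.map (cι A) : Ideal _) : Set (UniformSpace.Completion A)) ⊆ closure (cι A '' (I : Set A)) := by
  intro x hx
  have hx' : x ∈ Ideal.span (cι A '' (I : Set A)) := hx
  refine Submodule.span_induction (p := fun y _ => y ∈ closure (cι A '' (I : Set A))) ?_ ?_ ?_ ?_ hx'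
  · intro y hy; exact subset_closure hy
  · exact subset_closure ⟨0, I.zero_mem, by simp⟩
  · intro y z _ _ hy hz
    refine map_mem_closure₂ continuous_add hy hz ?_
    rintro _ ⟨i, hi, rfl⟩ _ ⟨j, hj, rfl⟩
    exact ⟨i + j, I.add_mem hi hj, by simp⟩
  · intro a y _ hy
    exact completion_absorb I a y hy

theorem completion_closure_map (I : Ideal A) :
    closure ((I.map (cι A) : Ideal _) : Set (UniformSpace.Completion A)) = closure (cι A '' (I : Set A)) := by
  apply subset_antisymm
  · exact closure_minimal (completion_map_subset I) isClosed_closure
  · apply closure_mono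
    rintro _ ⟨i, hi, rfl⟩
    exact Ideal.mem_map_of_mem (cι A) hi

theorem completion_closure_map_mem_nhds (I : Ideal A) (hI : IsOpen (I : Set A)) :
    closure ((I.map (cι A) : Ideal _) : Set (UniformSpace.Completion A)) ∈ 𝓝 (0 : UniformSpace.Completion A) := by
  rw [completion_closure_map]
  have hdi : IsDenseInducing ((↑) : A → UniformSpace.Completion A) :=
    UniformSpace.Completion.isDenseInducing_coe
  have := hdi.closure_image_mem_nhds (hI.mem_nhds I.zero_mem)
  rw [UniformSpace.Completion.coe_zero] at this
  exact this

theorem completion_closure_map_isOpen (I : Ideal A) (hI : IsOpen (I : Set A)) :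
    IsOpen (closure ((I.map (cι A) : Ideal _) : Set (UniformSpace.Completion A))) := by
  have := ideal_isOpen_of_mem_nhds (I.map (cι A)).closure (by
    rw [Ideal.coe_closure]; exact completion_closure_map_mem_nhds I hI)
  rwa [Ideal.coe_closure] at this

variable [IsLinearTopology A A]

theorem completion_exists_small (U : Set (UniformSpace.Completion A)) (hU : U ∈ 𝓝 (0 : UniformSpace.Completion A)) :
    ∃ I : Ideal A, IsOpen (I : Set A) ∧
      closure ((I.map (cι A) : Ideal _) : Set (UniformSpace.Completion A)) ⊆ U := by
  obtain ⟨V, hV, hVc, hVU⟩ := exists_mem_nhds_isClosed_subset hU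
  have hpre : cι A ⁻¹' V ∈ nhds (0 : A) := by
    apply cι_continuous.continuousAt
    simpa using hV
  obtain ⟨I, hIo, hIV⟩ := (IsLinearTopology.hasBasis_open_ideal (R := A)).mem_iff.mp hpre
  refine ⟨I, hIo, ?_⟩
  rw [completion_closure_map I]
  refine (closure_minimal ?_ hVc).trans hVU
  rintro _ ⟨i, hi, rfl⟩
  exact hIV hi

theorem completion_isTaut : LinTop.IsTaut (cι A) :=
  ⟨cι_continuous, fun I hI => completion_closure_map_isOpen I hI, fun U hU => completion_exists_small U hU⟩

instance completion_isLinearTopology : IsLinearTopology (UniformSpace.Completion A) (UniformSpace.Completion A) := by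
  rw [isLinearTopology_iff_hasBasis_ideal]
  constructor
  intro U
  constructor
  · intro hU
    obtain ⟨I, hI, hIU⟩ := completion_exists_small U hU
    refine ⟨(I.map (cι A)).closure, ?_, ?_⟩
    · rw [Ideal.coe_closure]; exact completion_closure_map_mem_nhds I hI
    · rw [Ideal.coe_closure]; exact hIU
  · rintro ⟨J, hJ, hJU⟩
    exact Filter.mem_of_superset hJ hJU

end

end Groth.Agent.Lead
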