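import Groth.Agent.Lib.Lead.LinTop2

/-! Faithfully flat taut descent helper lemmas (lead). -/

set_option autoImplicit false

namespace Groth.Agent.Lead

open Filter Topology

universe u v

section

variable {A : Type u} [CommRing A] [TopologicalSpace A]
variable {B : Type v} [CommRing B] [TopologicalSpace B] [IsTopologicalRing B]

theorem comap_closure_map_eq {φ : A →+* B} (hφ : LinTop.IsTautFFlat φ) (I : Ideal A)
    (hI : IsOpen (I : Set A)) : (I.map φ).closure.comap φ = I := by
  apply le_antisymm
  · intro a ha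
    have hinj := (hφ.2 I hI).injective
    have h1 : LinTop.descentMap φ I (Ideal.Quotient.mk I a) = 0 := by
      show Ideal.quotientMap _ φ _ (Ideal.Quotient.mk I a) = 0
      rw [Ideal.quotientMap_mk, Ideal.Quotient.eq_zero_iff_mem]
      exact ha
    have h2 : Ideal.Quotient.mk I a = 0 := hinj (by rw [h1, map_zero])
    exact Ideal.Quotient.eq_zero_iff_mem.mp h2
  · intro a ha
    show φ a ∈ (I.map φ).closure
    exact subset_closure (Ideal.mem_map_of_mem φ ha)

end

section

variable {A : Type u} [CommRing A] [TopologicalSpace A] [IsTopologicalRing A] [IsLinearTopology A A]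

theorem mem_closure_ideal_iff (N : Ideal A) (a : A) :
    a ∈ closure (N : Set A) ↔ ∀ K : Ideal A, IsOpen (K : Set A) → a ∈ N ⊔ K := by
  constructor
  · intro ha K hK
    have hnh : ((fun y => a + y) '' (K : Set A)) ∈ 𝓝 a := by
      have h0 : (K : Set A) ∈ 𝓝 (0 : A) := hK.mem_nhds K.zero_mem
      have := Filter.image_mem_map (m := fun y => a + y) h0
      rwa [map_add_left_nhds_zero] at this
    obtain ⟨y, ⟨k, hk, rfl⟩, hyN⟩ := mem_closure_iff_nhds.mp ha _ hnh
    have : a = (a + k) + (-k) := by abel
    rw [this]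
    exact Submodule.add_mem_sup hyN (K.neg_mem hk)
  · intro h
    rw [mem_closure_iff_nhds]
    intro t ht
    have ht0 : (fun y => a + y) ⁻¹' t ∈ 𝓝 (0 : A) := by
      have : Tendsto (fun y => a + y) (𝓝 0) (𝓝 (a + 0)) := (continuous_const.add continuous_id).tendsto 0
      rw [add_zero] at this
      exact this ht
    obtain ⟨K, hK, hKt⟩ := (IsLinearTopology.hasBasis_open_ideal (R := A)).mem_iff.mp ht0
    obtain ⟨n, hn, k, hk, hnk⟩ := Submodule.mem_sup.mp (h K hK)
    refine ⟨n, ?_, hn⟩
    have : n = a + (-k) := by rw [← hnk]; abel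
    rw [this]
    exact hKt (K.neg_mem hk)

end

end Groth.Agent.Lead
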