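import Groth.Agent.Lib.Lead.LinTop4
import Mathlib.Topology.Algebra.InfiniteSum.Nonarchimedean

/-! Successive approximation in complete linearly topologized rings (lead). -/

set_option autoImplicit false

namespace Groth.Agent.Lead

open Filter Topology

universe u

section

variable {A : Type u} [CommRing A] [UniformSpace A] [IsUniformAddGroup A] [IsTopologicalRing A]
  [IsLinearTopology A A]

omit [IsUniformAddGroup A] in
theorem nonarchimedeanAddGroup_of_linear : NonarchimedeanAddGroup A where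
  is_nonarchimedean := by
    intro U hU
    obtain ⟨K, hK, hKU⟩ := (IsLinearTopology.hasBasis_open_ideal (R := A)).mem_iff.mp hU
    exact ⟨⟨K.toAddSubgroup, hK⟩, hKU⟩

variable [T2Space A] [CompleteSpace A]

theorem approx_lemma {s : ℕ} (g : Fin s → A) (Ik L : ℕ → Ideal A)
    (hIk : ∀ U ∈ 𝓝 (0 : A), ∃ k, ∀ k' ≥ k, (Ik k' : Set A) ⊆ U)
    (hL : ∀ U ∈ 𝓝 (0 : A), ∃ k, ∀ k' ≥ k, (L k' : Set A) ⊆ U)
    (hstep : ∀ k, ∀ y ∈ L k, ∃ a : Fin s → A, (∀ j, a j ∈ Ik k) ∧ y - ∑ j, a j * g j ∈ L (k + 1))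
    (x : A) (hx : x ∈ L 0) : x ∈ Ideal.span (Set.range g) := by
  have := nonarchimedeanAddGroup_of_linear (A := A)
  choose! a ha1 ha2 using hstep
  let xs : ℕ → A := fun k => Nat.rec x (fun k y => y - ∑ j, a k y j * g j) k
  have hxs0 : xs 0 = x := rfl
  have hxsS : ∀ k, xs (k + 1) = xs k - ∑ j, a k (xs k) j * g j := fun k => rfl
  have hxs : ∀ k, xs k ∈ L k := by
    intro k
    induction k with
    | zero => exact hx
    | succ k ih => rw [hxsS]; exact ha2 k (xs k) ih
  let c : ℕ → Fin s → A := fun k j => a k (xs k) j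
  have hc : ∀ k j, c k j ∈ Ik k := fun k j => ha1 k (xs k) (hxs k) j
  have hc0 : ∀ j, Tendsto (fun k => c k j) atTop (𝓝 0) := by
    intro j
    rw [tendsto_atTop']
    intro U hU
    obtain ⟨k, hk⟩ := hIk U hU
    exact ⟨k, fun k' hk' => hk k' hk' (hc k' j)⟩
  have hsum : ∀ j, Summable (fun k => c k j) := by
    intro j
    apply NonarchimedeanAddGroup.summable_of_tendsto_cofinite_zero
    rw [Nat.cofinite_eq_atTop]
    exact hc0 j
  have htel : ∀ K, x - ∑ j, (∑ k ∈ Finset.range K, c k j) * g j = xs K := by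
    intro K
    induction K with
    | zero => simp [hxs0]
    | succ K ih =>
      have e : xs (K + 1) = xs K - ∑ j, c K j * g j := hxsS K
      rw [e, ← ih]
      simp only [Finset.sum_range_succ, add_mul, Finset.sum_add_distrib]
      abel
  have hlim1 : Tendsto (fun K => x - ∑ j, (∑ k ∈ Finset.range K, c k j) * g j) atTop
      (𝓝 (x - ∑ j, (∑' k, c k j) * g j)) := by
    apply Tendsto.sub tendsto_const_nhds
    apply tendsto_finsetSum
    intro j _
    exact ((hsum j).hasSum.tendsto_sum_nat).mul_const (g j)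
  have hlim2 : Tendsto (fun K => x - ∑ j, (∑ k ∈ Finset.range K, c k j) * g j) atTop (𝓝 0) := by
    simp only [htel]
    rw [tendsto_atTop']
    intro U hU
    obtain ⟨k, hk⟩ := hL U hU
    exact ⟨k, fun k' hk' => hk k' hk' (hxs k')⟩
  have heq := tendsto_nhds_unique hlim1 hlim2
  have hxeq : x = ∑ j, (∑' k, c k j) * g j := sub_eq_zero.mp heq
  rw [hxeq]
  exact Ideal.sum_mem _ fun j _ => Ideal.mul_mem_left _ _ (Ideal.subset_span ⟨j, rfl⟩)

/-- EGA 0_I 7.2.7-type statement: a finitely generated ideal whose powers have open closures forming a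
basis of neighbourhoods of zero, in a complete Hausdorff linearly topologized ring, has closed (=open) powers. -/
theorem closure_pow_le_pow (I : Ideal A) (hfg : I.FG)
    (hopen : ∀ n : ℕ, IsOpen (closure ((I ^ n : Ideal A) : Set A)))
    (hbasis : ∀ U ∈ 𝓝 (0 : A), ∃ n : ℕ, closure ((I ^ n : Ideal A) : Set A) ⊆ U) (n : ℕ) :
    (I ^ n).closure ≤ I ^ n := by
  have hfgn : (I ^ n).FG := hfg.pow
  obtain ⟨s, g, hg⟩ := Submodule.fg_iff_exists_fin_generating_family.mp hfgn
  have hsmall : ∀ (m : ℕ), ∀ U ∈ 𝓝 (0 : A), ∃ k, ∀ k' ≥ k, (((I ^ (m + k')).closure : Ideal A) : Set A) ⊆ U := by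
    intro m U hU
    obtain ⟨k, hk⟩ := hbasis U hU
    refine ⟨k, fun k' hk' => ?_⟩
    have : (I ^ (m + k')).closure ≤ (I ^ k).closure :=
      closure_mono' (Ideal.pow_le_pow_right (by omega))
    exact (show ((_ : Ideal A) : Set A) ⊆ _ from this).trans (by rw [Ideal.coe_closure]; exact hk)
  intro x hx
  have key := approx_lemma g (fun k => (I ^ k).closure) (fun k => (I ^ (n + k)).closure)
    (by simpa using hsmall 0) (hsmall n) ?_ x (by simpa using hx)
  · have hspan : Ideal.span (Set.range g) = I ^ n := hg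
    rwa [hspan] at key
  · intro k y hy
    have hKo : IsOpen (((I ^ (n + (k + 1))).closure : Ideal A) : Set A) := by
      rw [Ideal.coe_closure]; exact hopen _
    have hy' : y ∈ closure ((I ^ (n + k) : Ideal A) : Set A) := hy
    rw [mem_closure_ideal_iff] at hy'
    obtain ⟨z, hz, w, hw, hzw⟩ := Submodule.mem_sup.mp (hy' _ hKo)
    -- z ∈ I^(n+k) = I^k * I^n = I^k • span (range g)
    have hz' : z ∈ (I ^ k) • Submodule.span A (Set.range g) := by
      have : (I ^ k) • Submodule.span A (Set.range g) = I ^ (n + k) := by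
        rw [hg, smul_eq_mul, ← pow_add, add_comm]
      rw [this]; exact hz
    obtain ⟨c, hc, hcz⟩ := (Submodule.mem_ideal_smul_span_iff_exists_sum (I ^ k) g z).mp hz'
    refine ⟨fun j => c j, fun j => subset_closure (hc j), ?_⟩
    have hsum : ∑ j, c j * g j = z := by
      rw [← hcz, Finsupp.sum_fintype]
      · simp [smul_eq_mul]
      · intro i; simp
    rw [hsum, ← hzw]
    simpa using hw

end

end Groth.Agent.Lead
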