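import Groth.Agent.Lib.Lead.LinTop5

/-! Ideal arithmetic for EGA 0_I 7.2.x (lead). -/

set_option autoImplicit false

namespace Groth.Agent.Lead

open Filter Topology

universe u

section

variable {A : Type u} [CommRing A]

/-- If `J ≤ I` and `I ≤ J ⊔ I^2 ⊔ K` then `I^n ≤ J^n ⊔ I^(n+1) ⊔ K`. -/
theorem pow_le_step (I J K : Ideal A) (hJI : J ≤ I) (h : I ≤ J ⊔ I ^ 2 ⊔ K) (n : ℕ) :
    I ^ n ≤ J ^ n ⊔ I ^ (n + 1) ⊔ K := by
  induction n with
  | zero => simp
  | succ n ih =>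
    calc I ^ (n + 1) = I ^ n * I := pow_succ I n
      _ ≤ (J ^ n ⊔ I ^ (n + 1) ⊔ K) * (J ⊔ I ^ 2 ⊔ K) := Ideal.mul_mono ih h
      _ ≤ J ^ (n + 1) ⊔ I ^ (n + 1 + 1) ⊔ K := by
        rw [Ideal.mul_le]
        intro a ha b hb
        obtain ⟨a12, ha12, a3, ha3, rfl⟩ := Submodule.mem_sup.mp ha
        obtain ⟨a1, ha1, a2, ha2, rfl⟩ := Submodule.mem_sup.mp ha12
        obtain ⟨b12, hb12, b3, hb3, rfl⟩ := Submodule.mem_sup.mp hb
        obtain ⟨b1, hb1, b2, hb2, rfl⟩ := Submodule.mem_sup.mp hb12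
        have e : (a1 + a2 + a3) * (b1 + b2 + b3) =
            a1 * b1 + (a1 * b2 + a2 * b1 + a2 * b2) + (a3 * (b1 + b2 + b3) + (a1 + a2) * b3) := by ring
        rw [e]
        refine Submodule.add_mem_sup (Submodule.add_mem_sup ?_ ?_) ?_
        · rw [pow_succ]; exact Ideal.mul_mem_mul ha1 hb1
        · have hJn : J ^ n ≤ I ^ n := Ideal.pow_right_mono hJI n
          refine Ideal.add_mem _ (Ideal.add_mem _ ?_ ?_) ?_
          · -- a1 * b2 ∈ I^n * I^2
            have : a1 * b2 ∈ I ^ n * I ^ 2 := Ideal.mul_mem_mul (hJn ha1) hb2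
            rw [← pow_add] at this
            exact Ideal.pow_le_pow_right (by omega) this
          · have : a2 * b1 ∈ I ^ (n + 1) * I := Ideal.mul_mem_mul ha2 (hJI hb1)
            rwa [← pow_succ] at this
          · have : a2 * b2 ∈ I ^ (n + 1) * I ^ 2 := Ideal.mul_mem_mul ha2 hb2
            rw [← pow_add] at this
            exact Ideal.pow_le_pow_right (by omega) this
        · exact Ideal.add_mem _ (Ideal.mul_mem_right _ _ ha3) (Ideal.mul_mem_left _ _ hb3)

/-- Iterating: `I^n ≤ J^n ⊔ I^(n+k) ⊔ K`. -/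
theorem pow_le_iter (I J K : Ideal A) (hJI : J ≤ I) (h : I ≤ J ⊔ I ^ 2 ⊔ K) (n k : ℕ) :
    I ^ n ≤ J ^ n ⊔ I ^ (n + k) ⊔ K := by
  induction k with
  | zero => exact le_sup_of_le_left le_sup_right
  | succ k ih =>
    refine ih.trans ?_
    refine sup_le (sup_le (le_sup_of_le_left le_sup_left) ?_) le_sup_right
    refine (pow_le_step I J K hJI h (n + k)).trans ?_
    refine sup_le (sup_le ?_ ?_) le_sup_right
    · exact le_sup_of_le_left (le_sup_of_le_left (Ideal.pow_le_pow_right (by omega)))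
    · exact le_sup_of_le_left le_sup_right

end

end Groth.Agent.Lead
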