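import Mathlib

/-!
# Local rings of a locally Noetherian scheme whose prime divisors are regularly immersed (lead)
-/

set_option autoImplicit false
set_option backward.isDefEq.respectTransparency.types false
set_option synthInstance.maxHeartbeats 400000
set_option linter.style.haveILetI false
set_option linter.unusedSectionVars false
universe u

open CategoryTheory CategoryTheory.Limits AlgebraicGeometry TopologicalSpace Opposite

namespace Groth.Agent.Lead.LocFact

section Alg

variable {A : Type u} [CommRing A] [IsLocalRing A] [IsNoetherianRing A]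

/-- a Noetherian local ring with a principal prime ideal generated by a non-zero-divisor is a domain -/
theorem isDomain_of_prime_span_nzd (t : A) (ht : t ∈ nonZeroDivisors A)
    (hP : (Ideal.span {t}).IsPrime) : IsDomain A := by
  obtain ⟨q, hq, hqP⟩ := Ideal.exists_minimalPrimes_le (I := (⊥ : Ideal A)) (J := Ideal.span {t}) bot_le
  haveI hqprime : q.IsPrime := hq.1.1
  have htq : t ∉ q := by
    intro h
    exact (Set.disjoint_left.1 (Ideal.disjoint_nonZeroDivisors_of_mem_minimalPrimes hq)) h ht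
  have hle : q ≤ Ideal.span {t} • q := by
    intro a ha
    obtain ⟨b, rfl⟩ := Ideal.mem_span_singleton'.1 (hqP ha)
    have hb : b ∈ q := (hqprime.mem_or_mem ha).resolve_right htq
    rw [mul_comm]
    exact Submodule.smul_mem_smul (Ideal.mem_span_singleton_self t) hb
  have hjac : Ideal.span {t} ≤ Ideal.jacobson (⊥ : Ideal A) := by
    rw [IsLocalRing.jacobson_eq_maximalIdeal ⊥ bot_ne_top]
    exact IsLocalRing.le_maximalIdeal hP.ne_top
  have hbot : q = ⊥ :=
    Submodule.eq_bot_of_le_smul_of_le_jacobson_bot (Ideal.span {t}) q (IsNoetherian.noetherian q)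
      hle hjac
  rw [hbot] at hqprime
  haveI : NoZeroDivisors A := ⟨fun {a b} hab => by
    have hmem : a * b ∈ (⊥ : Ideal A) := Ideal.mem_bot.2 hab
    rcases hqprime.mem_or_mem hmem with h | h
    · exact Or.inl (Ideal.mem_bot.1 h)
    · exact Or.inr (Ideal.mem_bot.1 h)⟩
  exact NoZeroDivisors.to_isDomain A

end Alg


section Top

theorem isOpen_singleton_of_isolated {W : Type*} [TopologicalSpace W] [NoetherianSpace W]
    [QuasiSober W] (x : W) (hgen : ∀ y : W, y ⤳ x → y = x) (hspec : ∀ y : W, x ⤳ y → y = x) :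
    IsOpen ({x} : Set W) := by
  have hfin : (irreducibleComponents W).Finite := NoetherianSpace.finite_irreducibleComponents
  have hT : IsClosed (⋃₀ {Z | Z ∈ irreducibleComponents W ∧ x ∉ Z}) := by
    rw [Set.sUnion_eq_biUnion]
    apply Set.Finite.isClosed_biUnion (hfin.subset (fun Z hZ => hZ.1))
    intro Z hZ
    exact isClosed_of_mem_irreducibleComponents Z hZ.1
  have heq : ({x} : Set W) = (⋃₀ {Z | Z ∈ irreducibleComponents W ∧ x ∉ Z})ᶜ := by
    ext y
    constructor
    · rintro rfl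
      rintro ⟨Z, ⟨-, hxZ⟩, hx⟩
      exact hxZ hx
    · intro hy
      have hZ := irreducibleComponent_mem_irreducibleComponents y
      have hyZ : y ∈ irreducibleComponent y := mem_irreducibleComponent
      have hxZ : x ∈ irreducibleComponent y := by
        by_contra hx
        exact hy ⟨_, ⟨hZ, hx⟩, hyZ⟩
      obtain ⟨η, hη⟩ := QuasiSober.sober (isIrreducible_irreducibleComponent (x := y))
        (isClosed_irreducibleComponent (x := y))
      have h1 : η ⤳ x := hη.specializes hxZ
      have h2 : η = x := hgen η h1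
      have h3 : x ⤳ y := by
        rw [← h2]
        exact hη.specializes hyZ
      exact hspec y h3
  rw [heq]
  exact hT.isOpen_compl

end Top

section Sch

variable {X : Scheme.{u}}

/-- the prime ideal of a generisation in the local ring of a point -/
noncomputable def sp {ζ x : X} (h : ζ ⤳ x) : Ideal (X.presheaf.stalk x) :=
  (IsLocalRing.maximalIdeal (X.presheaf.stalk ζ)).comap (X.presheaf.stalkSpecializes h).hom

instance {ζ x : X} (h : ζ ⤳ x) : (sp h).IsPrime := by
  unfold sp
  exact Ideal.comap_isPrime _ _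

theorem sp_comap_germ {V : X.Opens} (hV : IsAffineOpen V) {ζ x : X} (h : ζ ⤳ x) (hx : x ∈ V) :
    (sp h).comap (X.presheaf.germ V x hx).hom =
      (hV.primeIdealOf ⟨ζ, h.mem_open V.2 hx⟩).asIdeal := by
  unfold sp
  rw [Ideal.comap_comap, hV.primeIdealOf_eq_map_closedPoint ⟨ζ, h.mem_open V.2 hx⟩]
  have h1 : (X.presheaf.stalkSpecializes h).hom.comp (X.presheaf.germ V x hx).hom =
      (X.presheaf.germ V ζ (h.mem_open V.2 hx)).hom := by
    rw [← CommRingCat.hom_comp, X.presheaf.germ_stalkSpecializes]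
  rw [h1]
  rfl

theorem ideal_eq_of_comap_germ_eq {V : X.Opens} (hV : IsAffineOpen V) {x : X} (hx : x ∈ V)
    (P Q : Ideal (X.presheaf.stalk x))
    (h : P.comap (X.presheaf.germ V x hx).hom = Q.comap (X.presheaf.germ V x hx).hom) :
    P = Q := by
  letI alg := TopCat.Presheaf.algebra_section_stalk X.presheaf (⟨x, hx⟩ : V)
  haveI hloc := hV.isLocalization_stalk ⟨x, hx⟩
  have h2 := IsLocalization.map_under (hV.primeIdealOf ⟨x, hx⟩).asIdeal.primeCompl
    (X.presheaf.stalk x) P
  have h3 := IsLocalization.map_under (hV.primeIdealOf ⟨x, hx⟩).asIdeal.primeCompl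
    (X.presheaf.stalk x) Q
  rw [← h2, ← h3]
  exact congrArg (Ideal.map (algebraMap Γ(X, V) (X.presheaf.stalk x))) h

theorem height_comap_germ {V : X.Opens} (hV : IsAffineOpen V) {x : X} (hx : x ∈ V)
    (P : Ideal (X.presheaf.stalk x)) :
    (P.comap (X.presheaf.germ V x hx).hom).height = P.height := by
  letI alg := TopCat.Presheaf.algebra_section_stalk X.presheaf (⟨x, hx⟩ : V)
  haveI hloc := hV.isLocalization_stalk ⟨x, hx⟩
  exact IsLocalization.height_under (hV.primeIdealOf ⟨x, hx⟩).asIdeal.primeCompl P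

theorem height_primeIdealOf {V : X.Opens} (hV : IsAffineOpen V) {x : X} (hx : x ∈ V) :
    ((hV.primeIdealOf ⟨x, hx⟩).asIdeal.height : WithBot ℕ∞) = ringKrullDim (X.presheaf.stalk x) := by
  letI alg := TopCat.Presheaf.algebra_section_stalk X.presheaf (⟨x, hx⟩ : V)
  haveI hloc := hV.isLocalization_stalk ⟨x, hx⟩
  haveI := (hV.primeIdealOf ⟨x, hx⟩).2
  rw [← IsLocalization.AtPrime.ringKrullDim_eq_height (hV.primeIdealOf ⟨x, hx⟩).asIdeal
    (X.presheaf.stalk x)]

/-- the height of the prime of a generisation is the dimension of its local ring -/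
theorem height_sp {ζ x : X} (h : ζ ⤳ x) :
    ((sp h).height : WithBot ℕ∞) = ringKrullDim (X.presheaf.stalk ζ) := by
  obtain ⟨_, ⟨V, hV₀, rfl⟩, hxV, -⟩ := X.isBasis_affineOpens.exists_subset_of_mem_open
    (Set.mem_univ x) isOpen_univ
  have hV : IsAffineOpen V := hV₀
  rw [← height_comap_germ hV hxV, sp_comap_germ hV h hxV]
  exact height_primeIdealOf hV (h.mem_open V.2 hxV)

theorem exists_point_of_prime_le {V : X.Opens} (hV : IsAffineOpen V) {y : X} (hy : y ∈ V)
    (p : Ideal Γ(X, V)) [hp : p.IsPrime] (hle : p ≤ (hV.primeIdealOf ⟨y, hy⟩).asIdeal) :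
    ∃ (z : X) (hz : z ∈ V), z ⤳ y ∧ (hV.primeIdealOf ⟨z, hz⟩).asIdeal = p := by
  let pp : PrimeSpectrum Γ(X, V) := ⟨p, hp⟩
  have hzV : hV.fromSpec pp ∈ V := by
    have : hV.fromSpec pp ∈ Set.range hV.fromSpec := ⟨pp, rfl⟩
    rw [hV.range_fromSpec] at this
    exact this
  have hprime : hV.primeIdealOf ⟨hV.fromSpec pp, hzV⟩ = pp := by
    apply hV.fromSpec.isOpenEmbedding.injective
    exact hV.fromSpec_primeIdealOf ⟨hV.fromSpec pp, hzV⟩
  refine ⟨hV.fromSpec pp, hzV, ?_, ?_⟩
  · have h1 : pp ⤳ hV.primeIdealOf ⟨y, hy⟩ :=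
      (PrimeSpectrum.le_iff_specializes pp _).mp hle
    have h2 := hV.fromSpec.isOpenEmbedding.isInducing.specializes_iff.mpr h1
    rw [hV.fromSpec_primeIdealOf ⟨y, hy⟩] at h2
    exact h2
  · rw [hprime]

/-- every prime of a local ring is the prime of a generisation -/
theorem exists_sp_eq {x : X} (P : Ideal (X.presheaf.stalk x)) [P.IsPrime] :
    ∃ (ζ : X) (h : ζ ⤳ x), P = sp h := by
  obtain ⟨_, ⟨V, hV₀, rfl⟩, hxV, -⟩ := X.isBasis_affineOpens.exists_subset_of_mem_open
    (Set.mem_univ x) isOpen_univ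
  have hV : IsAffineOpen V := hV₀
  set p : Ideal Γ(X, V) := P.comap (X.presheaf.germ V x hxV).hom with hp
  haveI hpprime : p.IsPrime := Ideal.comap_isPrime _ P
  have hple : p ≤ (hV.primeIdealOf ⟨x, hxV⟩).asIdeal := by
    rw [hV.primeIdealOf_eq_map_closedPoint ⟨x, hxV⟩]
    exact Ideal.comap_mono (IsLocalRing.le_maximalIdeal (Ideal.IsPrime.ne_top inferInstance))
  obtain ⟨ζ, hζV, hζx, hζp⟩ := exists_point_of_prime_le hV hxV p hple
  refine ⟨ζ, hζx, ?_⟩
  apply ideal_eq_of_comap_germ_eq hV hxV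
  rw [sp_comap_germ hV hζx hxV, hζp]

/-- a generisation of a point whose local ring is a domain has a local ring which is a domain -/
theorem isDomain_of_specializes {x y : X} (h : x ⤳ y) [IsDomain (X.presheaf.stalk y)] :
    IsDomain (X.presheaf.stalk x) := by
  obtain ⟨_, ⟨V, hV₀, rfl⟩, hyV, -⟩ := X.isBasis_affineOpens.exists_subset_of_mem_open
    (Set.mem_univ y) isOpen_univ
  have hV : IsAffineOpen V := hV₀
  have hxV : x ∈ V := h.mem_open V.2 hyV
  letI algy := TopCat.Presheaf.algebra_section_stalk X.presheaf (⟨y, hyV⟩ : V)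
  letI algx := TopCat.Presheaf.algebra_section_stalk X.presheaf (⟨x, hxV⟩ : V)
  haveI hlocy := hV.isLocalization_stalk ⟨y, hyV⟩
  haveI hlocx := hV.isLocalization_stalk ⟨x, hxV⟩
  letI : Algebra (X.presheaf.stalk y) (X.presheaf.stalk x) :=
    (X.presheaf.stalkSpecializes h).hom.toAlgebra
  haveI : IsScalarTower Γ(X, V) (X.presheaf.stalk y) (X.presheaf.stalk x) :=
    IsScalarTower.of_algebraMap_eq (fun r => by
      have := congrArg (fun φ => φ.hom r) (X.presheaf.germ_stalkSpecializes (U := V) hyV h)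
      exact this.symm)
  have hle : (hV.primeIdealOf ⟨y, hyV⟩).asIdeal.primeCompl ≤
      (hV.primeIdealOf ⟨x, hxV⟩).asIdeal.primeCompl := by
    intro r hr hrx
    apply hr
    have h1 : hV.fromSpec (hV.primeIdealOf ⟨x, hxV⟩) ⤳ hV.fromSpec (hV.primeIdealOf ⟨y, hyV⟩) := by
      rw [hV.fromSpec_primeIdealOf ⟨x, hxV⟩, hV.fromSpec_primeIdealOf ⟨y, hyV⟩]
      exact h
    have h2 := hV.fromSpec.isOpenEmbedding.isInducing.specializes_iff.mp h1
    exact (PrimeSpectrum.le_iff_specializes _ _).mpr h2 hrx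
  haveI := IsLocalization.isLocalization_of_submonoid_le (X.presheaf.stalk y) (X.presheaf.stalk x)
    _ _ hle
  apply IsLocalization.isDomain_of_le_nonZeroDivisors (X.presheaf.stalk x)
    (M := ((hV.primeIdealOf ⟨x, hxV⟩).asIdeal.primeCompl).map
      (algebraMap Γ(X, V) (X.presheaf.stalk y)))
  rintro _ ⟨r, hr, rfl⟩
  apply mem_nonZeroDivisors_of_ne_zero
  intro h0
  have h1 : algebraMap Γ(X, V) (X.presheaf.stalk x) r = 0 := by
    rw [IsScalarTower.algebraMap_apply Γ(X, V) (X.presheaf.stalk y) (X.presheaf.stalk x), h0,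
      map_zero]
  have h2 : IsUnit (algebraMap Γ(X, V) (X.presheaf.stalk x) r) :=
    IsLocalization.map_units (X.presheaf.stalk x)
      (⟨r, hr⟩ : (hV.primeIdealOf ⟨x, hxV⟩).asIdeal.primeCompl)
  rw [h1] at h2
  exact not_isUnit_zero h2

end Sch


section Main

variable {X : Scheme.{u}} [IsLocallyNoetherian X]

theorem isOpen_singleton_scheme (x : X) (hgen : ∀ y : X, y ⤳ x → y = x)
    (hspec : ∀ y : X, x ⤳ y → y = x) : IsOpen ({x} : Set X) := by
  obtain ⟨_, ⟨V, hV₀, rfl⟩, hxV, -⟩ := X.isBasis_affineOpens.exists_subset_of_mem_open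
    (Set.mem_univ x) isOpen_univ
  have hV : IsAffineOpen V := hV₀
  haveI : IsNoetherianRing Γ(X, V) := IsLocallyNoetherian.component_noetherian ⟨V, hV₀⟩
  haveI : NoetherianSpace ↥V := noetherianSpace_of_isAffineOpen V hV
  haveI : QuasiSober ↥V := V.2.isOpenEmbedding_subtypeVal.quasiSober
  have h1 : IsOpen ({⟨x, hxV⟩} : Set ↥V) := by
    apply isOpen_singleton_of_isolated
    · intro y hy
      exact Subtype.ext (hgen y.1 ((subtype_specializes_iff _ _).1 hy))
    · intro y hy
      exact Subtype.ext (hspec y.1 ((subtype_specializes_iff _ _).1 hy))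
  have h2 := V.2.isOpenEmbedding_subtypeVal.isOpenMap _ h1
  rwa [Set.image_singleton] at h2

/-- every integral closed subscheme of codimension one is regularly immersed -/
def RegImm (X : Scheme.{u}) : Prop :=
  ∀ ζ : X, ringKrullDim (X.presheaf.stalk ζ) = 1 → ∀ (x : X) (h : ζ ⤳ x),
    ∃ t : X.presheaf.stalk x, t ∈ nonZeroDivisors (X.presheaf.stalk x) ∧
      (IsLocalRing.maximalIdeal (X.presheaf.stalk ζ)).comap (X.presheaf.stalkSpecializes h).hom =
        Ideal.span {t}

theorem coheight_lt_top (x : X) : Order.coheight x < ⊤ := by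
  have h1 := ringKrullDim_stalk_eq_coheight x
  have h2 : ringKrullDim (X.presheaf.stalk x) < ⊤ := ringKrullDim_lt_top
  rw [h1] at h2
  have h3 : ((Order.coheight x : ℕ∞) : WithBot ℕ∞) < ((⊤ : ℕ∞) : WithBot ℕ∞) := h2
  exact WithBot.coe_lt_coe.1 h3

theorem isDomain_of_pos (H : RegImm X) (x : X) (hx : Order.coheight x ≠ 0) :
    IsDomain (X.presheaf.stalk x) := by
  obtain ⟨ζ, hζx, hζ1⟩ : ∃ ζ : X, ζ ⤳ x ∧ Order.coheight ζ = 1 := by
    by_cases h1 : Order.coheight x = 1
    · exact ⟨x, specializes_rfl, h1⟩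
    · have hlt : ((1 : ℕ) : ℕ∞) < Order.coheight x :=
        lt_of_le_of_ne (Order.one_le_iff_ne_zero.2 hx) (Ne.symm h1)
      obtain ⟨y, hy, hy1⟩ := (Order.coe_lt_coheight_iff (coheight_lt_top x)).1 hlt
      exact ⟨y, hy.le, hy1⟩
  have hdim : ringKrullDim (X.presheaf.stalk ζ) = 1 := by
    rw [ringKrullDim_stalk_eq_coheight, hζ1]
    rfl
  obtain ⟨t, ht, hsp⟩ := H ζ hdim x hζx
  have hprime : (Ideal.span {t}).IsPrime := by
    rw [← hsp]
    exact Ideal.comap_isPrime _ _
  exact isDomain_of_prime_span_nzd t ht hprime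

theorem ufd_of_regImm
    (hred : ∀ x : X, IsOpen ({x} : Set X) → IsReduced (X.presheaf.stalk x))
    (H : RegImm X) (x : X) :
    ∃ _ : IsDomain (X.presheaf.stalk x), UniqueFactorizationMonoid (X.presheaf.stalk x) := by
  have hdom : IsDomain (X.presheaf.stalk x) := by
    by_cases hx : Order.coheight x = 0
    · have hmax := Order.coheight_eq_zero.1 hx
      have hgen : ∀ y : X, y ⤳ x → y = x := by
        intro y hy
        have h1 : y ≤ x := hmax (show x ≤ y from hy)
        exact (hy.antisymm (show x ⤳ y from h1)).eq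
      by_cases hex : ∃ y : X, x ⤳ y ∧ y ≠ x
      · obtain ⟨y, hxy, hne⟩ := hex
        have hy : Order.coheight y ≠ 0 := by
          intro h0
          have hmaxy := Order.coheight_eq_zero.1 h0
          have h1 : x ≤ y := hmaxy (show y ≤ x from hxy)
          exact hne ((hxy.antisymm (show y ⤳ x from h1)).eq).symm
        haveI := isDomain_of_pos H y hy
        exact isDomain_of_specializes hxy
      · have hspec : ∀ y : X, x ⤳ y → y = x := by
          intro y hy
          by_contra hne
          exact hex ⟨y, hy, hne⟩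
        haveI := hred x (isOpen_singleton_scheme x hgen hspec)
        haveI : Ring.KrullDimLE 0 (X.presheaf.stalk x) := by
          rw [Ring.krullDimLE_iff, ringKrullDim_stalk_eq_coheight, hx]
          rfl
        exact (Ring.KrullDimLE.isField_of_isReduced (R := X.presheaf.stalk x)).isDomain
    · exact isDomain_of_pos H x hx
  refine ⟨hdom, ?_⟩
  apply UniqueFactorizationMonoid.of_forall_isPrincipal_of_height_eq_one
  intro P hP hPh
  obtain ⟨ζ, h, rfl⟩ := exists_sp_eq P
  have hdim : ringKrullDim (X.presheaf.stalk ζ) = 1 := by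
    rw [← height_sp h, hPh]
    rfl
  obtain ⟨t, -, hsp⟩ := H ζ hdim x h
  exact ⟨⟨t, hsp⟩⟩

theorem regImm_of_ufd
    (H : ∀ x : X, ∃ _ : IsDomain (X.presheaf.stalk x),
      UniqueFactorizationMonoid (X.presheaf.stalk x)) : RegImm X := by
  intro ζ hζ x h
  obtain ⟨hdom, hufd⟩ := H x
  have hht : (sp h).height = 1 := by
    have h1 := height_sp h
    rw [hζ] at h1
    exact_mod_cast h1
  obtain ⟨t, ht⟩ := (UniqueFactorizationMonoid.isPrincipal_of_height_eq_one hht).principal
  refine ⟨t, ?_, ht⟩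
  apply mem_nonZeroDivisors_of_ne_zero
  rintro rfl
  have hne : sp h ≠ ⊥ := Ideal.ne_bot_of_height_eq_one hht
  exact hne (ht.trans (Ideal.span_singleton_eq_bot.2 rfl))

end Main

end Groth.Agent.Lead.LocFact
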