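import Mathlib
import Groth.Agent.Lib.Helper4.Seesaw1
import Groth.Agent.Lib.Helper1.PFrame3
import Groth.Agent.Lib.Helper1.Curve1

/-!
# Modules trivial over preimages of opens of the base (lead)
-/

set_option backward.isDefEq.respectTransparency.types false
set_option autoImplicit false
set_option linter.style.haveILetI false
universe u
open CategoryTheory CategoryTheory.Limits AlgebraicGeometry TopologicalSpace Opposite

namespace Groth.Agent.Lead.LocTriv

open Groth.Agent.Helper1 Groth.Agent.Helper1.PFrame Groth.Agent.Helper1.QcCech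
  Groth.Agent.Helper1.LGen

variable {X : Scheme.{u}}

/-- a trivialisation of `L` over an open `W` gives a generator over `W` -/
theorem exists_isGen_of_restrict_iso (L : X.Modules) (W : X.Opens)
    (e : L.restrict W.ι ≅ Coh.structureModule (↑W : Scheme.{u})) :
    ∃ a : Γ(L, W), IsGen L W a := by
  obtain ⟨b, hb⟩ := exists_isFrame_of_iso L W
    (e ≪≫ (Groth.Agent.Helper1.Dv.coprodOneIso (Coh.structureModule (↑W : Scheme.{u}))).symm)
  have hB : IsBasisOn L W b := hb.isBasisOn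
  refine ⟨b 0, ?_⟩
  intro V hV
  have h1 := hB V hV
  have : (fun r : Γ(X, V) => r • res L hV (b 0)) =
      (fun r : Fin 1 → Γ(X, V) => ∑ i, r i • res L hV (b i)) ∘ (fun r => fun _ => r) := by
    funext r
    simp
  rw [this]
  refine h1.comp ⟨fun r r' h => congrFun h 0, fun r => ⟨r 0, ?_⟩⟩
  funext i
  rw [Subsingleton.elim i 0]

theorem s12057 {X S : Scheme.{u}} (f : X ⟶ S)
    (hf : ∀ U : S.Opens, Function.Bijective (f.app U)) (L : X.Modules)
    (hloc : ∀ s : S, ∃ U : S.Opens, s ∈ U ∧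
      Nonempty ((Scheme.Modules.pullback (f ⁻¹ᵁ U).ι).obj L ≅ Coh.structureModule (f ⁻¹ᵁ U))) :
    ∃ N : S.Modules, PicF.IsInvertible N ∧ Nonempty (L ≅ (Scheme.Modules.pullback f).obj N) := by
  have h : ∀ y : S, ∃ (U : S.Opens) (s : Γ(L, f ⁻¹ᵁ U)), y ∈ U ∧ IsGen L (f ⁻¹ᵁ U) s ∧
      ∀ V : S.Opens, V ≤ U → Function.Bijective (f.app V) := by
    intro y
    obtain ⟨U, hyU, ⟨e⟩⟩ := hloc y
    obtain ⟨a, ha⟩ := exists_isGen_of_restrict_iso L (f ⁻¹ᵁ U)
      ((Scheme.Modules.restrictFunctorIsoPullback (f ⁻¹ᵁ U).ι).app L ≪≫ e)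
    exact ⟨U, a, hyU, ha, fun V _ => hf V⟩
  haveI := Groth.Agent.Lib.Helper4.Seesaw1.isIso_counit_of_locGen f L h
  exact ⟨_, Groth.Agent.Lib.Helper4.Seesaw1.isInvertible_pushforward_of_locGen f L h,
    ⟨(asIso ((Scheme.Modules.pullbackPushforwardAdjunction f).counit.app L)).symm⟩⟩

end Groth.Agent.Lead.LocTriv
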