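import Mathlib
import Groth.Prelude
import Groth.Agent.Lib.Helper4.ChevCrit4
import Groth.Agent.Lib.Helper4.UnivOpen
import Groth.Agent.Lib.Helper2.Sch.FibreDimZero

set_option autoImplicit false
set_option backward.isDefEq.respectTransparency.types false
set_option synthInstance.maxHeartbeats 400000
set_option linter.style.haveILetI false
universe u

open AlgebraicGeometry CategoryTheory CategoryTheory.Limits TopologicalSpace IsLocalRing

namespace Groth.Agent.Lead.LqfUnivOpen

open Groth.Agent.Lib.Helper4.ChevCrit4 Groth.Agent.Lib.Helper4.IrrCompDomain1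

theorem discreteTopology_inter_fibre {X Y : Scheme.{u}} (f : X ⟶ Y) [LocallyQuasiFinite f]
    (Z : Set X) (y : Y) : DiscreteTopology ↥(Z ∩ f.base ⁻¹' {y}) := by
  haveI : DiscreteTopology ↥(f.fiber y) := inferInstance
  haveI : DiscreteTopology ↥(f.base ⁻¹' {y}) := (f.fiberHomeo y).symm.isEmbedding.discreteTopology
  let i : ↥(Z ∩ f.base ⁻¹' {y}) → ↥(f.base ⁻¹' {y}) := fun z => ⟨z.1, z.2.2⟩
  have hi : Topology.IsEmbedding i := by
    refine ⟨⟨?_⟩, fun a b h => Subtype.ext (congrArg (fun t : ↥(f.base ⁻¹' {y}) => t.1) h)⟩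
    rw [instTopologicalSpaceSubtype, instTopologicalSpaceSubtype, induced_compose]
    rfl
  exact hi.discreteTopology

theorem S1454_main {X Y : Scheme.{u}} (f : X ⟶ Y) [LocallyQuasiFinite f] [LocallyOfFiniteType f]
    [IsLocallyNoetherian Y]
    (hY : ∀ y : Y, CAlg2.IsGeomUnibranch (Y.presheaf.stalk y))
    (hdom : ∀ Z ∈ irreducibleComponents ↑X, ∀ x : X, IsGenericPoint x Z →
      ∃ W ∈ irreducibleComponents ↑Y, IsGenericPoint (f x) W) :
    UniversallyOpen f := by
  apply Groth.Agent.Lib.Helper4.UOp.universallyOpen_of_forall_isUnivOpenAt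
  intro x
  apply S4934_ba f x (hY _)
  intro Y₀ hY₀ hxY₀
  obtain ⟨η₀, hη₀⟩ := exists_generic_generization' Y (f.base x) (hY _).1.1
  have hY₀eq : Y₀ = closure {η₀} := eq_closure_of_mem Y (f.base x) η₀ hη₀ _ hY₀ hxY₀
  -- the component through x
  have hZ : irreducibleComponent x ∈ irreducibleComponents (X : Type u) :=
    irreducibleComponent_mem_irreducibleComponents x
  have hZc : IsClosed (irreducibleComponent x) := isClosed_irreducibleComponent
  obtain ⟨ξ, hξ⟩ := QuasiSober.sober hZ.1 hZc
  obtain ⟨W, hW, hfξ⟩ := hdom _ hZ ξ hξ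
  have hξx : ξ ⤳ x := by
    rw [specializes_iff_mem_closure, hξ.def]
    exact mem_irreducibleComponent
  have hfxW : f.base x ∈ W := by
    rw [← hfξ.def, ← specializes_iff_mem_closure]
    exact hξx.map f.continuous
  have hWeq : W = closure {η₀} := eq_closure_of_mem Y (f.base x) η₀ hη₀ _ hW hfxW
  refine ⟨irreducibleComponent x, hZ, mem_irreducibleComponent, ?_, fun η hη => ?_⟩
  · rw [← hξ.def, closure_image_closure f.continuous, Set.image_singleton]
    exact hfξ.def.trans (hWeq.trans hY₀eq.symm)
  · have hη' : η = f.base ξ := by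
      have : closure ({η} : Set Y) = closure {f.base ξ} :=
        hη.trans (hY₀eq.trans (hWeq.symm.trans hfξ.def.symm))
      exact (inseparable_iff_closure_eq.mpr this).eq
    haveI d1 := discreteTopology_inter_fibre f (irreducibleComponent x) (f.base x)
    haveI d2 := discreteTopology_inter_fibre f (irreducibleComponent x) η
    rw [Groth.Agent.Helper2.FibreDimZero.localDim_eq_zero_of_isOpen_singleton _ (isOpen_discrete _)]
    symm
    apply le_antisymm (topologicalKrullDim_zero_of_discreteTopology _)
    apply Groth.Agent.Helper2.FibreDimZero.topologicalKrullDim_nonneg_of_mem _ ξ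
    refine ⟨?_, hη'.symm⟩
    rw [← hξ.def]
    exact subset_closure rfl

end Groth.Agent.Lead.LqfUnivOpen
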