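import Mathlib
import Groth.Prelude
import Groth.Agent.Lib.Lead.RkCons6
import Groth.Agent.Lib.Helper4.FibDim4
import Groth.Agent.Lib.Helper4.PropDim1
import Groth.Agent.Lib.Helper4.LocNoethFib1

set_option autoImplicit false
set_option backward.isDefEq.respectTransparency.types false
set_option synthInstance.maxHeartbeats 400000
set_option linter.style.haveILetI false
set_option linter.unusedSectionVars false
universe u

open CategoryTheory CategoryTheory.Limits AlgebraicGeometry IsLocalRing TensorProduct Topology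
  TopologicalSpace

namespace Groth.Agent.Lead.RkCons

open Groth.Agent.Lead.RkLoc Groth.Agent.Lead.SkLoc Groth.Agent.Lead.FibCons
open Groth.Agent.Helper3.FibStalk
open Groth.Agent.Lib.Helper4.FibDim1 Groth.Agent.Lib.Helper4.FibDim2
open Groth.Agent.Lib.Helper4.FibDimComp1 Groth.Agent.Lib.Helper4.FibDim4
open Groth.Agent.Lib.Helper4.PropDim1 Groth.Agent.Lib.Helper4.LocNoethFib1
open Groth.Agent.Lib.Helper4.Aff2

section

variable {X S : Scheme.{u}} (f : X ⟶ S) [LocallyOfFiniteType f]

theorem isMax_fiber_iff (s : S) (w : f.fiber s) :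
    IsMax w ↔ ∀ z' : X, f z' = f (f.fiberι s w) → z' ⤳ f.fiberι s w → z' = f.fiberι s w := by
  constructor
  · intro hw z' hfz' hsp
    have hz'r : z' ∈ Set.range (f.fiberι s) := by
      rw [Scheme.Hom.range_fiberι]
      exact hfz'.trans (apply_fiberι f s w)
    obtain ⟨w', rfl⟩ := hz'r
    have h1 : w' ⤳ w := (f.fiberι s).isEmbedding.isInducing.specializes_iff.mp hsp
    have h2 : w ⤳ w' := hw h1
    rw [(h1.antisymm h2).eq]
  · intro h b hb
    have h1 : b ⤳ w := hb
    have h2 := h (f.fiberι s b) ((apply_fiberι f s b).trans (apply_fiberι f s w).symm)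
      (h1.map (f.fiberι s).continuous)
    have h3 : b = w := (f.fiberι s).isEmbedding.injective h2
    rw [h3]

theorem dim_closure_fiber (s : S) (w : f.fiber s) :
    topologicalKrullDim ↥(closure ({w} : Set ↥(f.fiber s))) =
      ((tr f (f.fiberι s w) : ℕ) : WithBot ℕ∞) := by
  haveI : LocallyOfFiniteType (f.fiberToSpecResidueField s) :=
    MorphismProperty.pullback_snd _ _ inferInstance
  rw [dim_closure_of_field (S.residueField s) (f.fiberToSpecResidueField s) w, tr_fiber f s w]

theorem equidimFibre_iff_mem_eqLocus (x : X) :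
    (∃ e : ℕ, ∀ Z ∈ irreducibleComponents (↥(f.fiber (f.base x)) : Type u), f.asFiber x ∈ Z →
        topologicalKrullDim (↥Z : Type u) = e) ↔ x ∈ eqLocus f := by
  constructor
  · rintro ⟨e, he⟩
    have key : ∀ z : X, z ⤳ x → f z = f x → FlatMor.fibreDimAt f z = (e : WithBot ℕ∞) := by
      intro z hz hfz
      obtain ⟨ζ, hζ1, hζ2, hζ3, hζ4⟩ := exists_fibreMax_tr_eq f z
      have hζr : ζ ∈ Set.range (f.fiberι (f x)) := by
        rw [Scheme.Hom.range_fiberι]
        exact hζ1.trans hfz
      obtain ⟨w, rfl⟩ := hζr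
      have hwmax : IsMax w := (isMax_fiber_iff f (f x) w).mpr hζ3
      have hZ := closure_mem_irreducibleComponents_of_isMax _ w hwmax
      have hxw : f.asFiber x ∈ closure ({w} : Set ↥(f.fiber (f x))) := by
        rw [← specializes_iff_mem_closure,
          ← (f.fiberι (f x)).isEmbedding.isInducing.specializes_iff, f.fiberι_asFiber]
        exact hζ2.trans hz
      have h1 := he _ hZ hxw
      rw [dim_closure_fiber f (f x) w] at h1
      rw [hζ4, h1]
    intro z hz hfz
    rw [key z hz hfz, key x specializes_rfl rfl]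
  · intro hx
    obtain ⟨e, he⟩ := exists_fibreDimAt_nat f x
    refine ⟨e, fun Z hZ hxZ => ?_⟩
    obtain ⟨w, hwmax, rfl⟩ := exists_isMax_closure_eq _ Z hZ
    have hwx : w ⤳ f.asFiber x := specializes_iff_mem_closure.mpr hxZ
    have hsp : f.fiberι (f x) w ⤳ x := by
      have := hwx.map (f.fiberι (f x)).continuous
      rwa [f.fiberι_asFiber] at this
    have h1 := hx (f.fiberι (f x) w) hsp (apply_fiberι f (f x) w)
    rw [fibreDimAt_eq_tr_of_max f _ ((isMax_fiber_iff f (f x) w).mp hwmax), he] at h1
    rw [dim_closure_fiber f (f x) w, h1]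

end

/-- S3451 -/
theorem S3451_main {X S : Scheme.{u}} (f : X ⟶ S)
    [LocallyOfFinitePresentation f] :
    Topology.IsLocallyConstructible {x : X | ∃ e : ℕ,
      ∀ Z ∈ irreducibleComponents (↥(f.fiber (f.base x)) : Type u), f.asFiber x ∈ Z →
        topologicalKrullDim (↥Z : Type u) = e} := by
  have h1 := isLocallyConstructible_eqLocus f
  convert h1 using 1
  ext x
  exact equidimFibre_iff_mem_eqLocus f x

end Groth.Agent.Lead.RkCons
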