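import Mathlib
import Groth.Prelude
import Groth.Agent.Lib.Lead.MFib4
import Groth.Agent.Lib.Lead.CoprofOpen5
import Groth.Agent.Lib.Lead.RkCons7
import Groth.Agent.Lib.Helper4.Equi10
import Groth.Agent.Lib.Helper7.ProConsLib3

/-!
# The fibre local rings of affine space in an affine chart (lead)
-/

set_option autoImplicit false
set_option backward.isDefEq.respectTransparency.types false
set_option synthInstance.maxHeartbeats 400000
set_option linter.style.haveILetI false
set_option linter.unusedSectionVars false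
universe u

open AlgebraicGeometry CategoryTheory CategoryTheory.Limits TopologicalSpace TensorProduct IsLocalRing

namespace Groth.Agent.Lead.MFib

open LocCoh EGA4 Groth.Agent.Lead.Coprof Groth.Agent.Lead.CMQF
open Groth.Agent.Lib.Helper4.FibDim1

section Aff

variable {Y : Scheme.{u}} {V : Y.Opens} (hV : IsAffineOpen V) (N : ℕ)

/-- the structure morphism of affine space over an affine open, as a morphism to `Y` -/
noncomputable abbrev hP : Spec (CommRingCat.of (MvPolynomial (ULift.{u} (Fin N)) Γ(Y, V))) ⟶ Y :=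
  Spec.map (CommRingCat.ofHom (algebraMap Γ(Y, V) (MvPolynomial (ULift.{u} (Fin N)) Γ(Y, V)))) ≫
    hV.fromSpec

/-- the open immersion of affine space over an affine open into affine space over `Y` -/
noncomputable abbrev jP : Spec (CommRingCat.of (MvPolynomial (ULift.{u} (Fin N)) Γ(Y, V))) ⟶
    𝔸(ULift.{u} (Fin N); Y) :=
  (AffineSpace.SpecIso (ULift.{u} (Fin N)) Γ(Y, V)).inv ≫
    AffineSpace.map (ULift.{u} (Fin N)) hV.fromSpec

instance : IsOpenImmersion (jP hV N) := by
  haveI : IsOpenImmersion (AffineSpace.map (ULift.{u} (Fin N)) hV.fromSpec) :=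
    MorphismProperty.of_isPullback (P := @IsOpenImmersion)
      (AffineSpace.isPullback_map (n := ULift.{u} (Fin N)) hV.fromSpec).flip inferInstance
  infer_instance

theorem jP_over : jP hV N ≫ (𝔸(ULift.{u} (Fin N); Y) ↘ Y) = hP hV N := by
  simp only [jP, hP, Category.assoc, AffineSpace.map_over, AffineSpace.SpecIso_inv_over_assoc]
  rfl

instance : LocallyOfFinitePresentation (hP hV N) := by
  rw [← jP_over]
  infer_instance

open Groth.Agent.Helper8.Serre in
set_option maxHeartbeats 1000000 in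
/-- the fibre local rings of affine space over an affine open: Noetherian, Cohen–Macaulay, of
dimension `N` minus the residual transcendence degree -/
theorem aff_facts (q₀ : Spec (CommRingCat.of (MvPolynomial (ULift.{u} (Fin N)) Γ(Y, V)))) :
    IsNoetherianRing (FibLocRing Γ(Y, V) (MvPolynomial (ULift.{u} (Fin N)) Γ(Y, V)) q₀.asIdeal) ∧
    ((depth (FibLocRing Γ(Y, V) (MvPolynomial (ULift.{u} (Fin N)) Γ(Y, V)) q₀.asIdeal)
      (FibLocRing Γ(Y, V) (MvPolynomial (ULift.{u} (Fin N)) Γ(Y, V)) q₀.asIdeal) : ℕ∞) :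
        WithBot ℕ∞) =
      ringKrullDim (FibLocRing Γ(Y, V) (MvPolynomial (ULift.{u} (Fin N)) Γ(Y, V)) q₀.asIdeal) ∧
    ringKrullDim (FibLocRing Γ(Y, V) (MvPolynomial (ULift.{u} (Fin N)) Γ(Y, V)) q₀.asIdeal) +
      ((tr (hP hV N) q₀ : ℕ) : WithBot ℕ∞) = (N : WithBot ℕ∞) := by
  set π := (𝔸(ULift.{u} (Fin N); Y) ↘ Y) with hπ
  set w := jP hV N q₀ with hw
  obtain ⟨e₁⟩ := exists_fibLocRing_equiv_spec hV.fromSpec (hP hV N) rfl q₀
  have h2 := fiberStalk_equiv_of_openImmersion (jP hV N) π q₀
  rw [jP_over] at h2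
  obtain ⟨e₂⟩ := h2
  let e := e₁.trans e₂
  haveI hcm : IsCohenMacaulayLocalRing ((π.fiber (π w)).presheaf.stalk (π.asFiber w)) :=
    cm_fiber_affineSpace N Y (π w) (π.asFiber w)
  have hcm' := hcm.supportDim_eq_depth
  rw [Module.supportDim_self_eq_ringKrullDim] at hcm'
  have hdim := Groth.Agent.Helper2.FibDim.fibreDimAt_eq_stalk_add_tr π w
  rw [fibreDimAt_affineSpace N Y w] at hdim
  have htr : tr (hP hV N) q₀ = tr π w := by
    have h3 := Groth.Agent.Lib.Helper4.JacDim1.tr_comp (jP hV N) π q₀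
    rw [Groth.Agent.Lib.Helper4.Chev10.tr_of_surjectiveOnStalks (jP hV N) q₀, add_zero] at h3
    rw [← h3]
    congr 1
    exact (jP_over hV N).symm
  refine ⟨isNoetherianRing_of_ringEquiv _ e.symm, ?_, ?_⟩
  · rw [ringKrullDim_eq_of_ringEquiv e, hcm', depth_self_eq_of_ringEquiv e]
  · rw [ringKrullDim_eq_of_ringEquiv e, htr]
    exact hdim.symm

end Aff

end Groth.Agent.Lead.MFib
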