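import Mathlib
import Groth.Prelude
import Groth.Agent.Lib.Lead.MFib3
import Groth.Agent.Lib.Lead.CoprofOpen1

/-!
# The codepth of the fibre local ring of an idealization (lead)
-/

set_option autoImplicit false
set_option linter.style.haveILetI false
set_option linter.unusedSectionVars false
universe u

namespace Groth.Agent.Lead.MFib

open LocCoh IsLocalRing Groth.Agent.Helper8.Depth EGA4 Groth.Agent.Lead.Coprof

theorem coe_le_coe_add_nat (a b : ℕ∞) (n : ℕ) :
    ((a : ℕ∞) : WithBot ℕ∞) ≤ ((b : ℕ∞) : WithBot ℕ∞) + (n : WithBot ℕ∞) ↔ a ≤ b + n := by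
  rw [show (n : WithBot ℕ∞) = ((n : ℕ∞) : WithBot ℕ∞) from rfl, ← WithBot.coe_add,
    WithBot.coe_le_coe]

theorem arith_aux' (e t N m : ℕ) (d : ℕ∞) (hN : e + t = N) (hm : m ≤ N) :
    (e : ℕ∞) ≤ min (e : ℕ∞) d + ((N - m : ℕ) : ℕ∞) ↔ (m : ℕ∞) ≤ d + (t : ℕ∞) := by
  induction d using ENat.recTopCoe with
  | top =>
    simp only [le_top, inf_of_le_left, top_add, iff_true]
    have : e ≤ e + (N - m) := Nat.le_add_right _ _
    exact_mod_cast this
  | coe d =>
    rw [min_def]
    split_ifs with h
    · have h' : e ≤ d := by exact_mod_cast h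
      constructor
      · intro _
        have : m ≤ d + t := by omega
        exact_mod_cast this
      · intro _
        have : e ≤ e + (N - m) := Nat.le_add_right _ _
        exact_mod_cast this
    · have h' : ¬ e ≤ d := by exact_mod_cast h
      constructor
      · intro h1
        have h1' : e ≤ d + (N - m) := by exact_mod_cast h1
        have : m ≤ d + t := by omega
        exact_mod_cast this
      · intro h1
        have h1' : m ≤ d + t := by exact_mod_cast h1
        have : e ≤ d + (N - m) := by omega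
        exact_mod_cast this

theorem arith_aux (e t N m : ℕ) (d : ℕ∞) (hN : e + t = N) (hm : m ≤ N) :
    ((e : ℕ) : WithBot ℕ∞) ≤ ((min (e : ℕ∞) d : ℕ∞) : WithBot ℕ∞) + ((N - m : ℕ) : WithBot ℕ∞) ↔
      ((m : ℕ) : WithBot ℕ∞) ≤ ((d : ℕ∞) : WithBot ℕ∞) + ((t : ℕ) : WithBot ℕ∞) := by
  have h1 := coe_le_coe_add_nat (e : ℕ∞) (min (e : ℕ∞) d) (N - m)
  have h2 := coe_le_coe_add_nat (m : ℕ∞) d t
  exact h1.trans ((arith_aux' e t N m d hN hm).trans h2.symm)

section Main

variable (A P B : Type u) [CommRing A] [CommRing P] [CommRing B] [Algebra A P] [Algebra P B]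
  [Algebra A B] [IsScalarTower A P B] (hsurj : Function.Surjective (algebraMap P B))
  (M : Type u) [AddCommGroup M] [Module B M] [Module P M] [IsScalarTower P B M]
  [Module.Finite P M] (Q : Ideal B) [Q.IsPrime]
  [IsNoetherianRing (FibLocRing A P (Q.comap (algebraMap P B)))]
  [IsNoetherianRing (FibLocRing A B Q)]
  (t N : ℕ)
  (hCM : ((depth (FibLocRing A P (Q.comap (algebraMap P B)))
      (FibLocRing A P (Q.comap (algebraMap P B))) : ℕ∞) : WithBot ℕ∞) =
      ringKrullDim (FibLocRing A P (Q.comap (algebraMap P B))))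
  (hdim : ringKrullDim (FibLocRing A P (Q.comap (algebraMap P B))) + ((t : ℕ) : WithBot ℕ∞) =
    (N : WithBot ℕ∞))

include hdim in
theorem exists_nat_dim : ∃ e : ℕ,
    ringKrullDim (FibLocRing A P (Q.comap (algebraMap P B))) = ((e : ℕ) : WithBot ℕ∞) ∧
      e + t = N := by
  obtain ⟨e, he⟩ := Groth.Agent.Lead.CMAt.exists_nat_dim (FibLocRing A P (Q.comap (algebraMap P B)))
  refine ⟨e, he, ?_⟩
  rw [he] at hdim
  exact_mod_cast hdim

include hsurj hCM hdim in
set_option maxHeartbeats 1000000 in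
theorem coprofLE_idl_iff (m : ℕ) (hm : m ≤ N) :
    letI := Idl.algOver P M A
    CoprofLE (FibLocRing A (Idl P M) ((Q.comap (algebraMap P B)).comap (Idl.fstHom P M))) (N - m) ↔
      (m : WithBot ℕ∞) ≤
        ((depth (FibLocRing A B Q) (FibLocMod A B Q M) : ℕ∞) : WithBot ℕ∞) + (t : WithBot ℕ∞) := by
  letI := Idl.algOver P M A
  obtain ⟨e, he, heN⟩ := exists_nat_dim A P B Q t N hdim
  unfold CoprofLE
  rw [ringKrullDim_fibLocRing_idl, depth_fibLocRing_idl, depth_fibLocMod_of_surjective A P B hsurj M Q,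
    he]
  have hd : depth (FibLocRing A P (Q.comap (algebraMap P B)))
      (FibLocRing A P (Q.comap (algebraMap P B))) = (e : ℕ∞) := by
    rw [he] at hCM
    have : ((depth (FibLocRing A P (Q.comap (algebraMap P B)))
      (FibLocRing A P (Q.comap (algebraMap P B))) : ℕ∞) : WithBot ℕ∞) = ((e : ℕ∞) : WithBot ℕ∞) := hCM
    exact WithBot.coe_injective this
  rw [hd]
  exact arith_aux e t N m _ heN hm

include hsurj hdim in
theorem depth_add_le [Nontrivial (FibLocMod A B Q M)] :
    ((depth (FibLocRing A B Q) (FibLocMod A B Q M) : ℕ∞) : WithBot ℕ∞) + ((t : ℕ) : WithBot ℕ∞) ≤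
      (N : WithBot ℕ∞) := by
  haveI : Module.Finite B M := Module.Finite.of_restrictScalars_finite P B M
  have h1 := depth_le_supportDim (A := FibLocRing A B Q) (M := FibLocMod A B Q M)
  have h2 := Module.supportDim_le_ringKrullDim (FibLocRing A B Q) (FibLocMod A B Q M)
  obtain ⟨ρ, -, hρ, -⟩ := exists_fibLocMod_equiv_of_surjective A P B hsurj M Q
  have h3 := ringKrullDim_le_of_surjective ρ hρ
  rw [← hdim]
  exact add_le_add_left ((h1.trans h2).trans h3) _

include hsurj hdim in
theorem le_depth_add_iff_of_lt (m : ℕ) (hm : N < m) :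
    ((m : ℕ) : WithBot ℕ∞) ≤
        ((depth (FibLocRing A B Q) (FibLocMod A B Q M) : ℕ∞) : WithBot ℕ∞) + ((t : ℕ) : WithBot ℕ∞) ↔
      Subsingleton (FibLocMod A B Q M) := by
  constructor
  · intro h
    by_contra hns
    rw [not_subsingleton_iff_nontrivial] at hns
    have h1 := depth_add_le A P B hsurj M Q t N hdim
    have h2 := h.trans h1
    have : m ≤ N := by exact_mod_cast h2
    omega
  · intro h
    rw [depth_eq_top_of_subsingleton]
    have : ((⊤ : ℕ∞) : WithBot ℕ∞) + ((t : ℕ) : WithBot ℕ∞) = ((⊤ : ℕ∞) : WithBot ℕ∞) := by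
      rw [show ((t : ℕ) : WithBot ℕ∞) = ((t : ℕ∞) : WithBot ℕ∞) from rfl, ← WithBot.coe_add, top_add]
    rw [this]
    exact le_top

end Main

section Nak

variable (A B : Type u) [CommRing A] [CommRing B] [Algebra A B]
  (M : Type u) [AddCommGroup M] [Module B M] [Module.Finite B M] (Q : PrimeSpectrum B)

theorem subsingleton_fibLocMod_iff :
    Subsingleton (FibLocMod A B Q.asIdeal M) ↔ Q ∉ Module.support B M := by
  rw [Module.notMem_support_iff]
  set L := Localization.AtPrime Q.asIdeal
  set NL := LocalizedModule Q.asIdeal.primeCompl M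
  set J := (Q.asIdeal.comap (algebraMap A B)).map (algebraMap A L) with hJ
  haveI : Module.Finite L NL :=
    Module.Finite.of_isLocalizedModule Q.asIdeal.primeCompl
      (LocalizedModule.mkLinearMap Q.asIdeal.primeCompl M)
  constructor
  · intro h
    have h1 : J • (⊤ : Submodule L NL) = ⊤ := by
      exact Submodule.Quotient.subsingleton_iff.mp h
    have hJle : J ≤ Ideal.jacobson (⊥ : Ideal L) := by
      rw [IsLocalRing.jacobson_eq_maximalIdeal (⊥ : Ideal L) bot_ne_top]
      exact map_comap_le_maximalIdeal A B Q.asIdeal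
    have h2 := Submodule.eq_bot_of_le_smul_of_le_jacobson_bot J (⊤ : Submodule L NL)
      Module.Finite.fg_top (le_of_eq h1.symm) hJle
    exact (Submodule.subsingleton_iff L).mp
      ⟨fun a b => by
        have : ∀ x : Submodule L NL, x = ⊥ := fun x => le_bot_iff.mp (h2 ▸ le_top)
        rw [this a, this b]⟩
  · intro h
    infer_instance

end Nak


end Groth.Agent.Lead.MFib
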