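import Mathlib
import Groth.Prelude
import Groth.Agent.Lib.Lead.MFib5
import Groth.Agent.Lib.Lead.MFib6

/-!
# The chart lemma for the rectified depth of a module on the fibres (lead)
-/

set_option autoImplicit false
set_option backward.isDefEq.respectTransparency.types false
set_option synthInstance.maxHeartbeats 400000
set_option linter.style.haveILetI false
set_option linter.unusedSectionVars false
universe u

open AlgebraicGeometry CategoryTheory CategoryTheory.Limits TopologicalSpace TensorProduct IsLocalRing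

namespace Groth.Agent.Lead.MFib

open LocCoh EGA4 Groth.Agent.Lead.Coprof Groth.Agent.Lead.CMQF
open Groth.Agent.Lib.Helper4.FibDim1

/-- a finite type algebra is a quotient of a polynomial algebra in at least `m` variables -/
theorem exists_presentation_ge (A B : Type u) [CommRing A] [CommRing B] [Algebra A B]
    [Algebra.FiniteType A B] (m : ℕ) :
    ∃ (N : ℕ) (_ : m ≤ N) (ψ : MvPolynomial (ULift.{u} (Fin N)) A →ₐ[A] B),
      Function.Surjective ψ := by
  obtain ⟨n, f, hf⟩ := Algebra.FiniteType.iff_quotient_mvPolynomial''.mp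
    (inferInstance : Algebra.FiniteType A B)
  let v : ULift.{u} (Fin (n + m)) → B := fun i =>
    if h : i.down.val < n then f (MvPolynomial.X ⟨i.down.val, h⟩) else 0
  let ι : Fin n → ULift.{u} (Fin (n + m)) := fun i => ⟨Fin.castAdd m i⟩
  refine ⟨n + m, Nat.le_add_left _ _, MvPolynomial.aeval v, ?_⟩
  intro b
  obtain ⟨p, rfl⟩ := hf b
  refine ⟨MvPolynomial.rename ι p, ?_⟩
  rw [MvPolynomial.aeval_rename]
  have h1 : (v ∘ ι) = fun i => f (MvPolynomial.X i) := by
    funext i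
    simp only [Function.comp_apply, v, ι, Fin.val_castAdd]
    rw [dif_pos i.isLt]
  rw [h1]
  have h2 : MvPolynomial.aeval (fun i => f (MvPolynomial.X i)) = f := by
    apply MvPolynomial.algHom_ext
    intro i
    rw [MvPolynomial.aeval_X]
  rw [h2]

section Chart

variable {X Y : Scheme.{u}} (f : X ⟶ Y) [LocallyOfFinitePresentation f]
  {U : X.Opens} (hU : IsAffineOpen U) {V : Y.Opens} (hV : IsAffineOpen V) (hUV : U ≤ f ⁻¹ᵁ V)
  (N : ℕ) (ψ : MvPolynomial (ULift.{u} (Fin N)) Γ(Y, V) →+* Γ(X, U))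
  (hψC : ψ.comp (algebraMap Γ(Y, V) (MvPolynomial (ULift.{u} (Fin N)) Γ(Y, V))) =
    (f.appLE V U hUV).hom)
  (hψ : Function.Surjective ψ)

include hψC in
theorem fromSpec_comp_eq :
    hU.fromSpec ≫ f = Spec.map (CommRingCat.ofHom ψ) ≫ hP hV N := by
  rw [← IsAffineOpen.SpecMap_appLE_fromSpec f hV hU hUV]
  unfold hP
  rw [← Spec.map_comp_assoc]
  congr 2
  ext a
  exact (congrArg (fun ρ : Γ(Y, V) →+* Γ(X, U) => ρ a) hψC).symm

include hψC hψ in
theorem tr_chart_eq (Q : Spec Γ(X, U)) :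
    tr f (hU.fromSpec Q) = tr (hP hV N) (Spec.map (CommRingCat.ofHom ψ) Q) := by
  haveI : IsClosedImmersion (Spec.map (CommRingCat.ofHom ψ)) :=
    IsClosedImmersion.spec_of_surjective _ hψ
  have h1 := Groth.Agent.Lib.Helper4.JacDim1.tr_comp hU.fromSpec f Q
  rw [Groth.Agent.Lib.Helper4.Chev10.tr_of_surjectiveOnStalks hU.fromSpec Q, add_zero] at h1
  have h2 := Groth.Agent.Lib.Helper4.Equi10.tr_comp_closedImmersion (hP hV N)
    (Spec.map (CommRingCat.ofHom ψ)) Q
  rw [← h1, ← h2]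
  congr 1
  exact fromSpec_comp_eq f hU hV hUV N ψ hψC

/-- the rectified depth of the restriction of `F` to the fibre through `x` is at least `m` -/
def RectLE (F : X.Modules) (m : ℕ) (x : X) : Prop :=
  ((m : ℕ) : WithBot ℕ∞) ≤
    ((LocCoh.depth ((f.fiber (f.base x)).presheaf.stalk (f.asFiber x))
      (((Scheme.Modules.pullback (f.fiberι (f.base x))).obj F).presheaf.stalk (f.asFiber x)) : ℕ∞) :
        WithBot ℕ∞) +
      topologicalKrullDim ↥(closure ({f.asFiber x} : Set ↥(f.fiber (f.base x))))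

open Groth.Agent.Lead.SD Groth.Agent.Lead.FO Groth.Agent.Lead.RkCons in
include hψC hψ hV in
set_option maxHeartbeats 4000000 in
theorem chart_main (F : X.Modules) [F.IsQuasicoherent] (hF : CohB1.IsFP F) (m : ℕ) (hm : m ≤ N) :
    Topology.IsLocallyConstructible {Q : Spec Γ(X, U) | RectLE f F m (hU.fromSpec Q)} ∧
    ((∀ z : U, FlatMod.IsFlatOverAt f F z.1) →
      IsOpen {Q : Spec Γ(X, U) | RectLE f F m (hU.fromSpec Q)}) := by
  classical
  letI algAB : Algebra Γ(Y, V) Γ(X, U) := (f.appLE V U hUV).hom.toAlgebra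
  letI algPB : Algebra (MvPolynomial (ULift.{u} (Fin N)) Γ(Y, V)) Γ(X, U) := ψ.toAlgebra
  haveI towAPB : IsScalarTower Γ(Y, V) (MvPolynomial (ULift.{u} (Fin N)) Γ(Y, V)) Γ(X, U) :=
    IsScalarTower.of_algebraMap_eq
      (fun a => (congrArg (fun ρ : Γ(Y, V) →+* Γ(X, U) => ρ a) hψC).symm)
  letI modPM : Module (MvPolynomial (ULift.{u} (Fin N)) Γ(Y, V)) Γ(F, U) :=
    Module.compHom Γ(F, U) ψ
  haveI towPBM : IsScalarTower (MvPolynomial (ULift.{u} (Fin N)) Γ(Y, V)) Γ(X, U) Γ(F, U) :=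
    IsScalarTower.of_algebraMap_smul (fun _ _ => rfl)
  have hsurj : Function.Surjective
      (algebraMap (MvPolynomial (ULift.{u} (Fin N)) Γ(Y, V)) Γ(X, U)) := hψ
  haveI : Algebra.FinitePresentation Γ(Y, V) Γ(X, U) :=
    HasRingHomProperty.appLE (P := @LocallyOfFinitePresentation) f inferInstance ⟨V, hV⟩ ⟨U, hU⟩ hUV
  haveI : Module.FinitePresentation Γ(X, U) Γ(F, U) :=
    Groth.Agent.Lead.FP.fp_sections_of_isFP F hF hU
  haveI : Algebra.FinitePresentation (MvPolynomial (ULift.{u} (Fin N)) Γ(Y, V)) Γ(X, U) :=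
    Algebra.FinitePresentation.of_restrict_scalars_finitePresentation Γ(Y, V) _ _
  haveI : Module.Finite (MvPolynomial (ULift.{u} (Fin N)) Γ(Y, V)) Γ(X, U) :=
    Module.Finite.of_surjective (Algebra.linearMap _ _) hsurj
  haveI : Module.FinitePresentation (MvPolynomial (ULift.{u} (Fin N)) Γ(Y, V)) Γ(X, U) :=
    Module.FinitePresentation.of_finite_of_finitePresentation _ _
  haveI : Module.FinitePresentation (MvPolynomial (ULift.{u} (Fin N)) Γ(Y, V)) Γ(F, U) :=
    Module.FinitePresentation.trans _ Γ(F, U) Γ(X, U)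
  haveI : Module.Finite (MvPolynomial (ULift.{u} (Fin N)) Γ(Y, V)) Γ(F, U) := inferInstance
  letI algAC : Algebra Γ(Y, V) (Idl (MvPolynomial (ULift.{u} (Fin N)) Γ(Y, V)) Γ(F, U)) :=
    Idl.algOver _ _ Γ(Y, V)
  haveI : Algebra.FinitePresentation Γ(Y, V)
      (Idl (MvPolynomial (ULift.{u} (Fin N)) Γ(Y, V)) Γ(F, U)) :=
    Idl.finitePresentation_over Γ(Y, V)
  let φC : CommRingCat.of Γ(Y, V) ⟶
      CommRingCat.of (Idl (MvPolynomial (ULift.{u} (Fin N)) Γ(Y, V)) Γ(F, U)) :=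
    CommRingCat.ofHom (algebraMap Γ(Y, V) (Idl (MvPolynomial (ULift.{u} (Fin N)) Γ(Y, V)) Γ(F, U)))
  let g : Spec (CommRingCat.of (Idl (MvPolynomial (ULift.{u} (Fin N)) Γ(Y, V)) Γ(F, U))) ⟶ Y :=
    Spec.map φC ≫ hV.fromSpec
  let c : Spec Γ(X, U) ⟶
      Spec (CommRingCat.of (Idl (MvPolynomial (ULift.{u} (Fin N)) Γ(Y, V)) Γ(F, U))) :=
    Spec.map (CommRingCat.ofHom (ψ.comp (Idl.fstHom _ _)))
  haveI : LocallyOfFinitePresentation (Spec.map φC) := by
    rw [HasRingHomProperty.Spec_iff (P := @LocallyOfFinitePresentation)]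
    exact (inferInstance : Algebra.FinitePresentation Γ(Y, V)
      (Idl (MvPolynomial (ULift.{u} (Fin N)) Γ(Y, V)) Γ(F, U)))
  haveI : LocallyOfFinitePresentation g := inferInstance
  have key : ∀ Q : Spec Γ(X, U), RectLE f F m (hU.fromSpec Q) ↔ c Q ∈ coprofLocus (N - m) g := by
    intro Q
    set x := hU.fromSpec Q with hx
    have hfib : f.fiberι (f x) (f.asFiber x) = x := f.fiberι_asFiber x
    obtain ⟨σ, e, he⟩ := exists_fibre_module_equiv' f F (f x) (f.asFiber x) hU hV hUV Q hfib.symm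
    have hdepth := Groth.Agent.Helper8.Depth.depth_eq_of_semilinear σ e he
    have hdimcl : topologicalKrullDim ↥(closure ({f.asFiber x} : Set ↥(f.fiber (f x)))) =
        ((tr f x : ℕ) : WithBot ℕ∞) := by
      rw [dim_closure_fiber f (f x) (f.asFiber x), hfib]
    set q₀ := Spec.map (CommRingCat.ofHom ψ) Q with hq₀
    obtain ⟨hN₀, hCM, hdim⟩ := aff_facts hV N q₀
    have htr := tr_chart_eq f hU hV hUV N ψ hψC hψ Q
    haveI : IsLocallyNoetherian (f.fiber (f x)) := isLocallyNoetherian_fiber f (f x)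
    haveI hNT : IsNoetherianRing (FibLocRing Γ(Y, V) Γ(X, U) Q.asIdeal) :=
      isNoetherianRing_of_ringEquiv _ σ.symm
    rw [← htr] at hdim
    haveI hN₀' : IsNoetherianRing (FibLocRing Γ(Y, V) (MvPolynomial (ULift.{u} (Fin N)) Γ(Y, V))
        (Q.asIdeal.comap (algebraMap (MvPolynomial (ULift.{u} (Fin N)) Γ(Y, V)) Γ(X, U)))) := hN₀
    have hmain := coprofLE_idl_iff Γ(Y, V) (MvPolynomial (ULift.{u} (Fin N)) Γ(Y, V)) Γ(X, U) hsurj
      Γ(F, U) Q.asIdeal (tr f x) N hCM hdim m hm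
    obtain ⟨eg⟩ := exists_fibLocRing_equiv_spec hV.fromSpec g rfl (c Q)
    have eg' : FibLocRing Γ(Y, V) (Idl (MvPolynomial (ULift.{u} (Fin N)) Γ(Y, V)) Γ(F, U))
        ((Q.asIdeal.comap (algebraMap (MvPolynomial (ULift.{u} (Fin N)) Γ(Y, V)) Γ(X, U))).comap
          (Idl.fstHom _ _)) ≃+* (g.fiber (g (c Q))).presheaf.stalk (g.asFiber (c Q)) := eg
    unfold RectLE
    rw [hdepth, hdimcl, ← hmain]
    exact ⟨fun h => coprofLE_of_ringEquiv eg' _ h, fun h => coprofLE_of_ringEquiv eg'.symm _ h⟩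
  have hset : {Q : Spec Γ(X, U) | RectLE f F m (hU.fromSpec Q)} = c ⁻¹' coprofLocus (N - m) g :=
    Set.ext key
  rw [hset]
  refine ⟨Groth.Agent.Helper7.ProConsLib.isLocallyConstructible_preimage c
    (isLocallyConstructible_coprofLocus (N - m) g), fun hfl => ?_⟩
  letI m1 := sectionsOver f F hUV
  haveI t1 : IsScalarTower Γ(Y, V) Γ(X, U) Γ(F, U) :=
    IsScalarTower.of_algebraMap_smul fun r m => rfl
  haveI : Module.Flat Γ(Y, V) Γ(F, U) := flat_sectionsOver_of_isFlatOverAt f F hU hV hUV hfl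
  haveI t2 : IsScalarTower Γ(Y, V) (MvPolynomial (ULift.{u} (Fin N)) Γ(Y, V)) Γ(F, U) :=
    IsScalarTower.of_algebraMap_smul fun r m => by
      show ψ (algebraMap Γ(Y, V) _ r) • m = (f.appLE V U hUV).hom r • m
      rw [← hψC]
      rfl
  haveI : Module.Flat Γ(Y, V) (Idl (MvPolynomial (ULift.{u} (Fin N)) Γ(Y, V)) Γ(F, U)) :=
    Idl.flat_over Γ(Y, V)
  haveI : Flat (Spec.map φC) := by
    rw [Flat.SpecMap_iff]
    exact (RingHom.flat_algebraMap_iff).mpr inferInstance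
  haveI : Flat g := inferInstance
  exact (isOpen_coprofLocus_of_flat g (N - m)).preimage c.continuous

open Groth.Agent.Lead.SD Groth.Agent.Lead.FO Groth.Agent.Lead.RkCons in
include hψC hψ hV in
set_option maxHeartbeats 4000000 in
theorem chart_bound (F : X.Modules) [F.IsQuasicoherent] (hF : CohB1.IsFP F) (m : ℕ) (hm : N < m)
    (Q : Spec Γ(X, U)) :
    RectLE f F m (hU.fromSpec Q) ↔
      Subsingleton (((Scheme.Modules.pullback (f.fiberι (f.base (hU.fromSpec Q)))).obj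
        F).presheaf.stalk (f.asFiber (hU.fromSpec Q))) := by
  classical
  letI algAB : Algebra Γ(Y, V) Γ(X, U) := (f.appLE V U hUV).hom.toAlgebra
  letI algPB : Algebra (MvPolynomial (ULift.{u} (Fin N)) Γ(Y, V)) Γ(X, U) := ψ.toAlgebra
  haveI towAPB : IsScalarTower Γ(Y, V) (MvPolynomial (ULift.{u} (Fin N)) Γ(Y, V)) Γ(X, U) :=
    IsScalarTower.of_algebraMap_eq
      (fun a => (congrArg (fun ρ : Γ(Y, V) →+* Γ(X, U) => ρ a) hψC).symm)
  letI modPM : Module (MvPolynomial (ULift.{u} (Fin N)) Γ(Y, V)) Γ(F, U) :=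
    Module.compHom Γ(F, U) ψ
  haveI towPBM : IsScalarTower (MvPolynomial (ULift.{u} (Fin N)) Γ(Y, V)) Γ(X, U) Γ(F, U) :=
    IsScalarTower.of_algebraMap_smul (fun _ _ => rfl)
  have hsurj : Function.Surjective
      (algebraMap (MvPolynomial (ULift.{u} (Fin N)) Γ(Y, V)) Γ(X, U)) := hψ
  haveI : Algebra.FinitePresentation Γ(Y, V) Γ(X, U) :=
    HasRingHomProperty.appLE (P := @LocallyOfFinitePresentation) f inferInstance ⟨V, hV⟩ ⟨U, hU⟩ hUV
  haveI : Module.FinitePresentation Γ(X, U) Γ(F, U) :=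
    Groth.Agent.Lead.FP.fp_sections_of_isFP F hF hU
  haveI : Algebra.FinitePresentation (MvPolynomial (ULift.{u} (Fin N)) Γ(Y, V)) Γ(X, U) :=
    Algebra.FinitePresentation.of_restrict_scalars_finitePresentation Γ(Y, V) _ _
  haveI : Module.Finite (MvPolynomial (ULift.{u} (Fin N)) Γ(Y, V)) Γ(X, U) :=
    Module.Finite.of_surjective (Algebra.linearMap _ _) hsurj
  haveI : Module.FinitePresentation (MvPolynomial (ULift.{u} (Fin N)) Γ(Y, V)) Γ(X, U) :=
    Module.FinitePresentation.of_finite_of_finitePresentation _ _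
  haveI : Module.FinitePresentation (MvPolynomial (ULift.{u} (Fin N)) Γ(Y, V)) Γ(F, U) :=
    Module.FinitePresentation.trans _ Γ(F, U) Γ(X, U)
  haveI : Module.Finite (MvPolynomial (ULift.{u} (Fin N)) Γ(Y, V)) Γ(F, U) := inferInstance
  set x := hU.fromSpec Q with hx
  have hfib : f.fiberι (f x) (f.asFiber x) = x := f.fiberι_asFiber x
  obtain ⟨σ, e, he⟩ := exists_fibre_module_equiv' f F (f x) (f.asFiber x) hU hV hUV Q hfib.symm
  have hdepth := Groth.Agent.Helper8.Depth.depth_eq_of_semilinear σ e he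
  have hdimcl : topologicalKrullDim ↥(closure ({f.asFiber x} : Set ↥(f.fiber (f x)))) =
      ((tr f x : ℕ) : WithBot ℕ∞) := by
    rw [dim_closure_fiber f (f x) (f.asFiber x), hfib]
  set q₀ := Spec.map (CommRingCat.ofHom ψ) Q with hq₀
  obtain ⟨hN₀, hCM, hdim⟩ := aff_facts hV N q₀
  have htr := tr_chart_eq f hU hV hUV N ψ hψC hψ Q
  haveI : IsLocallyNoetherian (f.fiber (f x)) := isLocallyNoetherian_fiber f (f x)
  haveI hNT : IsNoetherianRing (FibLocRing Γ(Y, V) Γ(X, U) Q.asIdeal) :=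
    isNoetherianRing_of_ringEquiv _ σ.symm
  rw [← htr] at hdim
  haveI hN₀' : IsNoetherianRing (FibLocRing Γ(Y, V) (MvPolynomial (ULift.{u} (Fin N)) Γ(Y, V))
      (Q.asIdeal.comap (algebraMap (MvPolynomial (ULift.{u} (Fin N)) Γ(Y, V)) Γ(X, U)))) := hN₀
  have hmain := le_depth_add_iff_of_lt Γ(Y, V) (MvPolynomial (ULift.{u} (Fin N)) Γ(Y, V)) Γ(X, U)
    hsurj Γ(F, U) Q.asIdeal (tr f x) N hdim m hm
  unfold RectLE
  rw [hdepth, hdimcl, hmain]
  exact ⟨fun h => e.symm.injective.subsingleton, fun h => e.injective.subsingleton⟩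

end Chart

end Groth.Agent.Lead.MFib
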