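import Mathlib
import Groth.Prelude
import Groth.Agent.Lib.Lead.MFib7

/-!
# Openness and constructibility of the loci of large rectified depth on the fibres (lead)
-/

set_option autoImplicit false
set_option backward.isDefEq.respectTransparency.types false
set_option synthInstance.maxHeartbeats 400000
set_option linter.style.haveILetI false
set_option linter.unusedSectionVars false
universe u

open AlgebraicGeometry CategoryTheory CategoryTheory.Limits TopologicalSpace TensorProduct IsLocalRing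
open Topology

namespace Groth.Agent.Lead.MFib

open LocCoh EGA4 Groth.Agent.Lead.Coprof Groth.Agent.Lead.CMQF
open Groth.Agent.Lib.Helper4.FibDim1 Groth.Agent.Lead.SD

/-- local constructibility can be checked on affine charts -/
theorem isLocallyConstructible_of_charts {X : Scheme.{u}} (s : Set X)
    (h : ∀ x : X, ∃ (U : X.Opens) (hU : IsAffineOpen U), x ∈ U ∧
      IsLocallyConstructible {Q : Spec Γ(X, U) | hU.fromSpec Q ∈ s}) :
    IsLocallyConstructible s := by
  choose U hU hx hT using h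
  have hcov : IsOpenCover U := by
    apply IsOpenCover.mk
    rw [eq_top_iff]
    intro x _
    exact Opens.mem_iSup.mpr ⟨x, hx x⟩
  refine IsLocallyConstructible.of_isOpenCover hcov fun x => ?_
  have h1 := Groth.Agent.Helper7.ProConsLib.isLocallyConstructible_preimage (hU x).isoSpec.hom (hT x)
  have hset : (hU x).isoSpec.hom ⁻¹' {Q : Spec Γ(X, U x) | (hU x).fromSpec Q ∈ s} =
      (Subtype.val ⁻¹' s : Set (U x)) := by
    ext z
    simp only [Set.mem_preimage, Set.mem_setOf_eq]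
    have h2 : (hU x).fromSpec ((hU x).isoSpec.hom z) = z.1 := by
      have h3 : (hU x).isoSpec.hom ≫ (hU x).fromSpec = (U x).ι := by
        rw [IsAffineOpen.fromSpec, Iso.hom_inv_id_assoc]
      have := congrArg (fun k : ((U x : Scheme.{u}) ⟶ X) => k z) h3
      exact this
    rw [h2]
  rw [hset] at h1
  exact h1

section Global

variable {X Y : Scheme.{u}} (f : X ⟶ Y) [LocallyOfFinitePresentation f]

theorem exists_chart (x₀ : X) (m : ℕ) :
    ∃ (U : X.Opens) (hU : IsAffineOpen U) (V : Y.Opens) (hV : IsAffineOpen V)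
      (hUV : U ≤ f ⁻¹ᵁ V) (N : ℕ)
      (ψ : MvPolynomial (ULift.{u} (Fin N)) Γ(Y, V) →+* Γ(X, U)),
      x₀ ∈ U ∧ m ≤ N ∧
      ψ.comp (algebraMap Γ(Y, V) (MvPolynomial (ULift.{u} (Fin N)) Γ(Y, V))) =
        (f.appLE V U hUV).hom ∧ Function.Surjective ψ := by
  obtain ⟨_, ⟨V, hV, rfl⟩, hxV, -⟩ :=
    Y.isBasis_affineOpens.exists_subset_of_mem_open (Set.mem_univ (f x₀)) isOpen_univ
  obtain ⟨_, ⟨U, hU, rfl⟩, hxU, hUV⟩ :=
    X.isBasis_affineOpens.exists_subset_of_mem_open (show x₀ ∈ (f ⁻¹ᵁ V : Set X) from hxV)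
      (f ⁻¹ᵁ V).isOpen
  have hUV' : U ≤ f ⁻¹ᵁ V := hUV
  letI alg : Algebra Γ(Y, V) Γ(X, U) := (f.appLE V U hUV').hom.toAlgebra
  haveI : Algebra.FinitePresentation Γ(Y, V) Γ(X, U) :=
    HasRingHomProperty.appLE (P := @LocallyOfFinitePresentation) f inferInstance ⟨V, hV⟩ ⟨U, hU⟩ hUV'
  obtain ⟨N, hN, ψ, hψ⟩ := exists_presentation_ge Γ(Y, V) Γ(X, U) m
  refine ⟨U, hU, V, hV, hUV', N, ψ.toRingHom, hxU, hN, ?_, hψ⟩
  ext a
  exact ψ.commutes a

theorem isLocallyConstructible_rectLE (F : X.Modules) (hF : CohB1.IsFP F) (m : ℕ) :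
    IsLocallyConstructible {x : X | RectLE f F m x} := by
  haveI : SheafOfModules.IsFinitePresentation (R := X.ringCatSheaf) F := hF
  haveI : F.IsQuasicoherent := inferInstance
  apply isLocallyConstructible_of_charts
  intro x₀
  obtain ⟨U, hU, V, hV, hUV, N, ψ, hx₀, hN, hψC, hψ⟩ := exists_chart f x₀ m
  exact ⟨U, hU, hx₀, (chart_main f hU hV hUV N ψ hψC hψ F hF m hN).1⟩

theorem isOpen_rectLE (F : X.Modules) (hF : CohB1.IsFP F) (hflat : FlatMod.IsFlatOver f F)
    (m : ℕ) : IsOpen {x : X | RectLE f F m x} := by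
  haveI : SheafOfModules.IsFinitePresentation (R := X.ringCatSheaf) F := hF
  haveI : F.IsQuasicoherent := inferInstance
  rw [isOpen_iff_forall_mem_open]
  intro x₀ hx₀
  obtain ⟨U, hU, V, hV, hUV, N, ψ, hx₀U, hN, hψC, hψ⟩ := exists_chart f x₀ m
  have hopen := (chart_main f hU hV hUV N ψ hψC hψ F hF m hN).2 (fun z => hflat z.1)
  refine ⟨hU.fromSpec '' {Q : Spec Γ(X, U) | RectLE f F m (hU.fromSpec Q)}, ?_,
    hU.fromSpec.isOpenEmbedding.isOpenMap _ hopen, ?_⟩
  · rintro _ ⟨Q, hQ, rfl⟩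
    exact hQ
  · refine ⟨hU.primeIdealOf ⟨x₀, hx₀U⟩, ?_, hU.fromSpec_primeIdealOf ⟨x₀, hx₀U⟩⟩
    show RectLE f F m (hU.fromSpec (hU.primeIdealOf ⟨x₀, hx₀U⟩))
    rw [hU.fromSpec_primeIdealOf ⟨x₀, hx₀U⟩]
    exact hx₀

end Global

end Groth.Agent.Lead.MFib
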