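import Mathlib
import Groth.Prelude
import Groth.Agent.Lib.Lead.MFib8

/-!
# Constructibility of the level sets of the rectified depth on the fibres (lead)
-/

set_option autoImplicit false
set_option backward.isDefEq.respectTransparency.types false
set_option synthInstance.maxHeartbeats 400000
set_option linter.style.haveILetI false
set_option linter.unusedSectionVars false
universe u

open AlgebraicGeometry CategoryTheory CategoryTheory.Limits TopologicalSpace TensorProduct IsLocalRing
open Topology

namespace Groth.Agent.Lead.MFib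

open LocCoh EGA4 Groth.Agent.Lead.Coprof Groth.Agent.Lead.CMQF
open Groth.Agent.Lib.Helper4.FibDim1 Groth.Agent.Lead.SD Groth.Agent.Lead.RkCons

section Global

variable {X Y : Scheme.{u}} (f : X ⟶ Y) [LocallyOfFinitePresentation f] (F : X.Modules)

/-- the rectified depth, as an element of `ℕ∞` -/
noncomputable def rect (x : X) : ℕ∞ :=
  LocCoh.depth ((f.fiber (f.base x)).presheaf.stalk (f.asFiber x))
      (((Scheme.Modules.pullback (f.fiberι (f.base x))).obj F).presheaf.stalk (f.asFiber x)) +
    (tr f x : ℕ∞)

theorem rect_spec (x : X) :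
    ((LocCoh.depth ((f.fiber (f.base x)).presheaf.stalk (f.asFiber x))
      (((Scheme.Modules.pullback (f.fiberι (f.base x))).obj F).presheaf.stalk (f.asFiber x)) : ℕ∞) :
        WithBot ℕ∞) +
      topologicalKrullDim ↥(closure ({f.asFiber x} : Set ↥(f.fiber (f.base x)))) =
      ((rect f F x : ℕ∞) : WithBot ℕ∞) := by
  rw [dim_closure_fiber f (f x) (f.asFiber x), f.fiberι_asFiber x]
  unfold rect
  rw [WithBot.coe_add]
  rfl

theorem rectLE_iff (m : ℕ) (x : X) : RectLE f F m x ↔ (m : ℕ∞) ≤ rect f F x := by
  unfold RectLE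
  rw [rect_spec]
  exact WithBot.coe_le_coe

theorem rect_eq_nat_iff (m : ℕ) (x : X) :
    rect f F x = (m : ℕ∞) ↔ RectLE f F m x ∧ ¬ RectLE f F (m + 1) x := by
  rw [rectLE_iff, rectLE_iff]
  constructor
  · intro h
    rw [h]
    refine ⟨le_rfl, ?_⟩
    intro h2
    have : m + 1 ≤ m := by exact_mod_cast h2
    omega
  · rintro ⟨h1, h2⟩
    refine le_antisymm ?_ h1
    rw [not_le] at h2
    have h3 : rect f F x < (m : ℕ∞) + 1 := by exact_mod_cast h2
    exact Order.le_of_lt_add_one h3

theorem rect_eq_top_iff (x : X) :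
    rect f F x = ⊤ ↔
      LocCoh.depth ((f.fiber (f.base x)).presheaf.stalk (f.asFiber x))
        (((Scheme.Modules.pullback (f.fiberι (f.base x))).obj F).presheaf.stalk (f.asFiber x)) = ⊤ := by
  unfold rect
  constructor
  · intro h
    by_contra hne
    exact (WithTop.add_ne_top.mpr ⟨hne, ENat.coe_ne_top _⟩) h
  · intro h
    rw [h, top_add]

/-- **S5914** -/
theorem S5914_main (hF : CohB1.IsFP F) (n : ℕ∞) :
    IsLocallyConstructible {x : X |
      ((LocCoh.depth ((f.fiber (f.base x)).presheaf.stalk (f.asFiber x))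
        (((Scheme.Modules.pullback (f.fiberι (f.base x))).obj F).presheaf.stalk (f.asFiber x)) : ℕ∞) :
          WithBot ℕ∞) +
        topologicalKrullDim ↥(closure ({f.asFiber x} : Set ↥(f.fiber (f.base x)))) =
        ((n : ℕ∞) : WithBot ℕ∞)} := by
  haveI : SheafOfModules.IsFinitePresentation (R := X.ringCatSheaf) F := hF
  haveI : F.IsQuasicoherent := inferInstance
  have hset : {x : X |
      ((LocCoh.depth ((f.fiber (f.base x)).presheaf.stalk (f.asFiber x))
        (((Scheme.Modules.pullback (f.fiberι (f.base x))).obj F).presheaf.stalk (f.asFiber x)) : ℕ∞) :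
          WithBot ℕ∞) +
        topologicalKrullDim ↥(closure ({f.asFiber x} : Set ↥(f.fiber (f.base x)))) =
        ((n : ℕ∞) : WithBot ℕ∞)} = {x : X | rect f F x = n} := by
    ext x
    simp only [Set.mem_setOf_eq]
    rw [rect_spec]
    exact WithBot.coe_inj
  rw [hset]
  induction n using ENat.recTopCoe with
  | top =>
    apply isLocallyConstructible_of_charts
    intro x₀
    obtain ⟨U, hU, V, hV, hUV, N, ψ, hx₀, -, hψC, hψ⟩ := exists_chart f x₀ 0
    refine ⟨U, hU, hx₀, ?_⟩
    have h1 := Groth.Agent.Helper7.ProConsLib.isLocallyConstructible_preimage hU.fromSpec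
      (isLocallyConstructible_rectLE f F hF (N + 1))
    convert h1 using 1
    ext Q
    simp only [Set.mem_setOf_eq, Set.mem_preimage]
    have hb := chart_bound f hU hV hUV N ψ hψC hψ F hF (N + 1) (Nat.lt_succ_self N) Q
    constructor
    · intro h
      rw [rectLE_iff, h]
      exact le_top
    · intro h
      rw [rect_eq_top_iff]
      haveI := hb.mp h
      exact Groth.Agent.Helper8.Depth.depth_eq_top_of_subsingleton _ _
  | coe m =>
    have h2 : {x : X | rect f F x = (m : ℕ∞)} =
        {x : X | RectLE f F m x} ∩ {x : X | RectLE f F (m + 1) x}ᶜ := by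
      ext x
      exact rect_eq_nat_iff f F m x
    rw [h2]
    exact (isLocallyConstructible_rectLE f F hF m).inter
      (Groth.Agent.Helper7.ProConsLib.isLocallyConstructible_compl
        (isLocallyConstructible_rectLE f F hF (m + 1)))

end Global

end Groth.Agent.Lead.MFib
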