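import Mathlib
import Groth.Prelude
import Groth.Agent.Lib.Lead.MFib9

/-!
# From pointwise openness on the source to openness on the base for proper morphisms (lead)
-/

set_option autoImplicit false
set_option backward.isDefEq.respectTransparency.types false
set_option synthInstance.maxHeartbeats 400000
set_option linter.style.haveILetI false
set_option linter.unusedSectionVars false
universe u

open AlgebraicGeometry CategoryTheory CategoryTheory.Limits TopologicalSpace TensorProduct IsLocalRing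
open Topology

namespace Groth.Agent.Lead.MFib

open Groth.Agent.Helper3.FibStalk

section Proper

variable {X Y : Scheme.{u}} (f : X ⟶ Y)

theorem fiber_pred_congr (Φ : ∀ (y : Y), f.fiber y → Prop) {y₁ y₂ : Y} (w₁ : f.fiber y₁)
    (w₂ : f.fiber y₂) (h : f.fiberι y₁ w₁ = f.fiberι y₂ w₂) : Φ y₁ w₁ ↔ Φ y₂ w₂ := by
  have hy : y₁ = y₂ := by
    rw [← apply_fiberι f y₁ w₁, ← apply_fiberι f y₂ w₂, h]
  subst hy
  obtain rfl : w₁ = w₂ := (f.fiberι y₁).isEmbedding.injective h
  exact Iff.rfl

theorem fiber_pred_iff (Φ : ∀ (y : Y), f.fiber y → Prop) (y : Y) (w : f.fiber y) :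
    Φ y w ↔ Φ (f (f.fiberι y w)) (f.asFiber (f.fiberι y w)) :=
  fiber_pred_congr f Φ w (f.asFiber (f.fiberι y w)) (f.fiberι_asFiber _).symm

theorem isOpen_forall_fibre_of_isOpen [IsProper f] (Φ : ∀ (y : Y), f.fiber y → Prop)
    (hW : IsOpen {x : X | Φ (f x) (f.asFiber x)}) : IsOpen {y : Y | ∀ w : f.fiber y, Φ y w} := by
  have h1 : IsClosed (f '' {x : X | Φ (f x) (f.asFiber x)}ᶜ) :=
    f.isClosedMap _ hW.isClosed_compl
  convert h1.isOpen_compl using 1
  ext y
  rw [Set.mem_setOf_eq, Set.mem_compl_iff, Set.mem_image]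
  constructor
  · rintro h ⟨x, hx, hfx⟩
    apply hx
    subst hfx
    exact h (f.asFiber x)
  · intro h w
    by_contra hne
    refine h ⟨f.fiberι y w, ?_, apply_fiberι f y w⟩
    intro hc
    exact hne ((fiber_pred_iff f Φ y w).mpr hc)

end Proper

/-- **S5920** -/
theorem S5920_main {X Y : Scheme.{u}} (f : X ⟶ Y) [IsProper f] [LocallyOfFinitePresentation f]
    (F : X.Modules) (hF : CohB1.IsFP F) (hflat : FlatMod.IsFlatOver f F) (n : ℕ) :
    IsOpen {y : Y | ∀ x : ↥(f.fiber y), ((n : ℕ) : WithBot ℕ∞) ≤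
      ((LocCoh.depth ((f.fiber y).presheaf.stalk x)
        (((Scheme.Modules.pullback (f.fiberι y)).obj F).presheaf.stalk x) : ℕ∞) : WithBot ℕ∞) +
        topologicalKrullDim ↥(closure ({x} : Set ↥(f.fiber y)))} :=
  isOpen_forall_fibre_of_isOpen f
    (fun y x => ((n : ℕ) : WithBot ℕ∞) ≤
      ((LocCoh.depth ((f.fiber y).presheaf.stalk x)
        (((Scheme.Modules.pullback (f.fiberι y)).obj F).presheaf.stalk x) : ℕ∞) : WithBot ℕ∞) +
        topologicalKrullDim ↥(closure ({x} : Set ↥(f.fiber y))))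
    (isOpen_rectLE f F hF hflat n)

end Groth.Agent.Lead.MFib
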