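import Mathlib
import Groth.Prelude
import Groth.Agent.Lib.Lead.MFib6
import Groth.Agent.Lib.Helper8.Depth11

/-!
# The support dimension of the fibre local module (lead)
-/

set_option autoImplicit false
set_option backward.isDefEq.respectTransparency.types false
set_option synthInstance.maxHeartbeats 400000
set_option linter.style.haveILetI false
set_option linter.unusedSectionVars false
universe u

open TensorProduct IsLocalRing

namespace Groth.Agent.Lead.MFib

open LocCoh EGA4

section SDS

variable {T₁ T₂ : Type u} [CommRing T₁] [CommRing T₂] {N₁ N₂ : Type u} [AddCommGroup N₁]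
  [AddCommGroup N₂] [Module T₁ N₁] [Module T₂ N₂] (ρ : T₁ →+* T₂) (hρ : Function.Surjective ρ)
  (e : N₁ ≃+ N₂) (he : ∀ (r : T₁) (x : N₁), e (r • x) = ρ r • e x)

include hρ he in
theorem comap_mem_support_iff (𝔯 : PrimeSpectrum T₂) :
    PrimeSpectrum.comap ρ 𝔯 ∈ Module.support T₁ N₁ ↔ 𝔯 ∈ Module.support T₂ N₂ := by
  rw [Module.mem_support_iff', Module.mem_support_iff']
  constructor
  · rintro ⟨m, hm⟩
    refine ⟨e m, fun r hr h0 => ?_⟩
    obtain ⟨r₁, rfl⟩ := hρ r
    refine hm r₁ hr ?_
    apply e.injective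
    rw [he, h0, map_zero]
  · rintro ⟨m, hm⟩
    refine ⟨e.symm m, fun r hr h0 => ?_⟩
    refine hm (ρ r) hr ?_
    have := he r (e.symm m)
    rw [h0, map_zero, e.apply_symm_apply] at this
    exact this.symm

include hρ he in
theorem ker_le_of_mem_support (𝔯 : PrimeSpectrum T₁) (h : 𝔯 ∈ Module.support T₁ N₁) :
    RingHom.ker ρ ≤ 𝔯.asIdeal := by
  refine le_trans ?_ (Module.annihilator_le_of_mem_support h)
  intro k hk
  rw [Module.mem_annihilator]
  intro n
  apply e.injective
  rw [he, (RingHom.mem_ker).mp hk, zero_smul, map_zero]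

include hρ he in
theorem supportDim_eq_of_surjective_semilinear :
    Module.supportDim T₂ N₂ = Module.supportDim T₁ N₁ := by
  apply le_antisymm
  · refine Order.krullDim_le_of_strictMono
      (fun a : Module.support T₂ N₂ =>
        (⟨PrimeSpectrum.comap ρ a.1, (comap_mem_support_iff ρ hρ e he a.1).mpr a.2⟩ :
          Module.support T₁ N₁)) ?_
    intro a b hab
    have h1 : a.1 < b.1 := hab
    show PrimeSpectrum.comap ρ a.1 < PrimeSpectrum.comap ρ b.1
    rw [← PrimeSpectrum.asIdeal_lt_asIdeal] at h1 ⊢
    refine lt_of_le_of_ne (Ideal.comap_mono h1.le) ?_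
    intro heq
    exact h1.ne ((Ideal.comap_injective_of_surjective ρ hρ) heq)
  · have hk : ∀ a : Module.support T₁ N₁, RingHom.ker ρ ≤ a.1.asIdeal :=
      fun a => ker_le_of_mem_support ρ hρ e he a.1 a.2
    have hprime : ∀ a : Module.support T₁ N₁, (a.1.asIdeal.map ρ).IsPrime :=
      fun a => Ideal.map_isPrime_of_surjective hρ (hk a)
    have hcomap : ∀ a : Module.support T₁ N₁, (a.1.asIdeal.map ρ).comap ρ = a.1.asIdeal :=
      fun a => by
        rw [Ideal.comap_map_of_surjective ρ hρ]
        exact sup_eq_left.mpr (hk a)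
    refine Order.krullDim_le_of_strictMono
      (fun a : Module.support T₁ N₁ =>
        (⟨⟨a.1.asIdeal.map ρ, hprime a⟩, ?_⟩ : Module.support T₂ N₂)) ?_
    · rw [← comap_mem_support_iff ρ hρ e he]
      have : PrimeSpectrum.comap ρ ⟨a.1.asIdeal.map ρ, hprime a⟩ = a.1 :=
        PrimeSpectrum.ext (hcomap a)
      rw [this]
      exact a.2
    · intro a b hab
      have h1 : a.1 < b.1 := hab
      show (⟨a.1.asIdeal.map ρ, hprime a⟩ : PrimeSpectrum T₂) < ⟨b.1.asIdeal.map ρ, hprime b⟩
      rw [← PrimeSpectrum.asIdeal_lt_asIdeal] at h1 ⊢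
      refine lt_of_le_of_ne (Ideal.map_mono h1.le) ?_
      intro heq
      apply h1.ne
      rw [← hcomap a, ← hcomap b]
      exact congrArg (Ideal.comap ρ) heq

end SDS

section Faithful

variable (A B : Type u) [CommRing A] [CommRing B] [Algebra A B]
  (M : Type u) [AddCommGroup M] [Module B M] [Module.Finite B M]

theorem support_fibLocMod_eq_univ (hM : Module.support B M = Set.univ) (Q : Ideal B) [Q.IsPrime] :
    Module.support (FibLocRing A B Q) (FibLocMod A B Q M) = Set.univ := by
  set L := Localization.AtPrime Q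
  set NL := LocalizedModule Q.primeCompl M
  set I := (Q.comap (algebraMap A B)).map (algebraMap A L) with hI
  haveI : Module.Finite L NL :=
    Module.Finite.of_isLocalizedModule Q.primeCompl
      (LocalizedModule.mkLinearMap Q.primeCompl M)
  ext 𝔯
  simp only [Set.mem_univ, iff_true]
  have h1 := comap_mem_support_iff (T₁ := L) (T₂ := L ⧸ I) (N₁ := NL ⧸ (I • ⊤ : Submodule L NL))
    (N₂ := NL ⧸ (I • ⊤ : Submodule L NL)) (Ideal.Quotient.mk I) Ideal.Quotient.mk_surjective
    (AddEquiv.refl _) (fun r x => rfl) 𝔯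
  rw [← h1, Module.support_quotient]
  refine ⟨?_, ?_⟩
  · rw [Groth.Agent.Helper8.Depth.mem_support_localizedModule_iff, hM]
    trivial
  · rw [PrimeSpectrum.mem_zeroLocus]
    intro x hx
    show Ideal.Quotient.mk I x ∈ 𝔯.asIdeal
    rw [Ideal.Quotient.eq_zero_iff_mem.mpr hx]
    exact zero_mem _

theorem supportDim_fibLocMod_of_support_eq_univ (hM : Module.support B M = Set.univ) (Q : Ideal B)
    [Q.IsPrime] :
    Module.supportDim (FibLocRing A B Q) (FibLocMod A B Q M) =
      ringKrullDim (FibLocRing A B Q) := by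
  unfold Module.supportDim
  rw [support_fibLocMod_eq_univ A B M hM Q]
  exact Order.krullDim_eq_of_orderIso OrderIso.Set.univ

end Faithful

section Ann

variable (A B : Type u) [CommRing A] [CommRing B] [Algebra A B]
  (M : Type u) [AddCommGroup M] [Module B M] [Module.Finite B M]

set_option maxHeartbeats 1000000 in
theorem supportDim_fibLocMod_eq (Q' : Ideal (B ⧸ Module.annihilator B M)) [Q'.IsPrime] :
    Module.supportDim
      (FibLocRing A B (Q'.comap (algebraMap B (B ⧸ Module.annihilator B M))))
      (FibLocMod A B (Q'.comap (algebraMap B (B ⧸ Module.annihilator B M))) M) =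
      ringKrullDim (FibLocRing A (B ⧸ Module.annihilator B M) Q') := by
  letI modq : Module (B ⧸ Module.annihilator B M) M := Module.quotientAnnihilator
  haveI : IsScalarTower B (B ⧸ Module.annihilator B M) M :=
    IsScalarTower.of_algebraMap_smul (fun r m => rfl)
  haveI : Module.Finite (B ⧸ Module.annihilator B M) M :=
    Module.Finite.of_restrictScalars_finite B (B ⧸ Module.annihilator B M) M
  obtain ⟨ρ, e, hρ, he⟩ := exists_fibLocMod_equiv_of_surjective A B (B ⧸ Module.annihilator B M)
    Ideal.Quotient.mk_surjective M Q'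
  rw [← supportDim_eq_of_surjective_semilinear ρ hρ e he]
  apply supportDim_fibLocMod_of_support_eq_univ
  rw [Module.support_eq_zeroLocus]
  have hann : Module.annihilator (B ⧸ Module.annihilator B M) M = ⊥ := by
    rw [eq_bot_iff]
    intro c hc
    obtain ⟨b, rfl⟩ := Ideal.Quotient.mk_surjective c
    rw [Module.mem_annihilator] at hc
    rw [Ideal.mem_bot, Ideal.Quotient.eq_zero_iff_mem, Module.mem_annihilator]
    intro m
    exact hc m
  rw [hann]
  exact PrimeSpectrum.zeroLocus_bot

end Ann

end Groth.Agent.Lead.MFib
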