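import Mathlib
import Groth.Prelude
import Groth.Agent.Lib.Lead.MFib9
import Groth.Agent.Lib.Lead.MFib11
import Groth.Agent.Lib.Helper4.Chev2
import Groth.Agent.Lib.Helper2.FibDim.StalkFibre
import Groth.Agent.Lib.Helper8.Loc1

/-!
# The dimension of the support of a module on the fibres: chart dictionary (lead)
-/

set_option autoImplicit false
set_option backward.isDefEq.respectTransparency.types false
set_option synthInstance.maxHeartbeats 400000
set_option linter.style.haveILetI false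
set_option linter.unusedSectionVars false
universe u

open AlgebraicGeometry CategoryTheory CategoryTheory.Limits TopologicalSpace TensorProduct IsLocalRing
open Topology

namespace Groth.Agent.Lead.MFib

open LocCoh EGA4 Groth.Agent.Lead.Coprof Groth.Agent.Lead.CMQF
open Groth.Agent.Lib.Helper4.FibDim1 Groth.Agent.Lead.SD Groth.Agent.Lead.RkCons

section Chart

variable {X Y : Scheme.{u}} (f : X ⟶ Y) [LocallyOfFinitePresentation f]
  {U : X.Opens} (hU : IsAffineOpen U) {V : Y.Opens} (hV : IsAffineOpen V) (hUV : U ≤ f ⁻¹ᵁ V)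

set_option maxHeartbeats 4000000 in
/-- the dimension of the support of the restriction of `F` to the fibre, rectified by the residual
transcendence degree, is the local dimension of the fibre of the support of `F` -/
theorem delta_point (F : X.Modules) [F.IsQuasicoherent] (hF : CohB1.IsFP F) :
    letI := (f.appLE V U hUV).hom.toAlgebra
    ∀ Q' : Spec (CommRingCat.of (Γ(X, U) ⧸ Module.annihilator Γ(X, U) Γ(F, U))),
      Module.supportDim
        ((f.fiber (f.base (hU.fromSpec (Spec.map (CommRingCat.ofHom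
          (Ideal.Quotient.mk (Module.annihilator Γ(X, U) Γ(F, U)))) Q')))).presheaf.stalk
            (f.asFiber (hU.fromSpec (Spec.map (CommRingCat.ofHom
              (Ideal.Quotient.mk (Module.annihilator Γ(X, U) Γ(F, U)))) Q'))))
        (((Scheme.Modules.pullback (f.fiberι (f.base (hU.fromSpec (Spec.map (CommRingCat.ofHom
          (Ideal.Quotient.mk (Module.annihilator Γ(X, U) Γ(F, U)))) Q'))))).obj F).presheaf.stalk
            (f.asFiber (hU.fromSpec (Spec.map (CommRingCat.ofHom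
              (Ideal.Quotient.mk (Module.annihilator Γ(X, U) Γ(F, U)))) Q')))) +
        ((tr f (hU.fromSpec (Spec.map (CommRingCat.ofHom
          (Ideal.Quotient.mk (Module.annihilator Γ(X, U) Γ(F, U)))) Q')) : ℕ) : WithBot ℕ∞) =
      FlatMor.fibreDimAt (Spec.map (CommRingCat.ofHom (algebraMap Γ(Y, V)
        (Γ(X, U) ⧸ Module.annihilator Γ(X, U) Γ(F, U)))) ≫ hV.fromSpec) Q' := by
  classical
  letI algAB : Algebra Γ(Y, V) Γ(X, U) := (f.appLE V U hUV).hom.toAlgebra
  haveI : Algebra.FinitePresentation Γ(Y, V) Γ(X, U) :=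
    HasRingHomProperty.appLE (P := @LocallyOfFinitePresentation) f inferInstance ⟨V, hV⟩ ⟨U, hU⟩ hUV
  haveI : Module.FinitePresentation Γ(X, U) Γ(F, U) :=
    Groth.Agent.Lead.FP.fp_sections_of_isFP F hF hU
  haveI : Module.Finite Γ(X, U) Γ(F, U) := inferInstance
  set J := Module.annihilator Γ(X, U) Γ(F, U) with hJ
  set ζ : Spec (CommRingCat.of (Γ(X, U) ⧸ J)) ⟶ Spec Γ(X, U) :=
    Spec.map (CommRingCat.ofHom (Ideal.Quotient.mk J)) with hζ
  set hZ : Spec (CommRingCat.of (Γ(X, U) ⧸ J)) ⟶ Y :=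
    Spec.map (CommRingCat.ofHom (algebraMap Γ(Y, V) (Γ(X, U) ⧸ J))) ≫ hV.fromSpec with hhZ
  intro Q'
  set Q := ζ Q' with hQ
  set x := hU.fromSpec Q with hx
  haveI : IsClosedImmersion ζ :=
    IsClosedImmersion.spec_of_surjective _ Ideal.Quotient.mk_surjective
  have hcomp : hZ = ζ ≫ (hU.fromSpec ≫ f) := by
    rw [hhZ, hζ, ← IsAffineOpen.SpecMap_appLE_fromSpec f hV hU hUV, ← Spec.map_comp_assoc]
    rfl
  haveI : LocallyOfFiniteType hZ := by
    rw [hcomp]
    infer_instance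
  have hfib : f.fiberι (f x) (f.asFiber x) = x := f.fiberι_asFiber x
  obtain ⟨σ, e, he⟩ := exists_fibre_module_equiv' f F (f x) (f.asFiber x) hU hV hUV Q hfib.symm
  have hsd := Groth.Agent.Helper8.Loc.supportDim_eq_of_semilinear σ e he
  have halg := supportDim_fibLocMod_eq Γ(Y, V) Γ(X, U) Γ(F, U) Q'.asIdeal
  have halg' : Module.supportDim (FibLocRing Γ(Y, V) Γ(X, U) Q.asIdeal)
      (FibLocMod Γ(Y, V) Γ(X, U) Q.asIdeal Γ(F, U)) =
      ringKrullDim (FibLocRing Γ(Y, V) (Γ(X, U) ⧸ J) Q'.asIdeal) := halg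
  obtain ⟨eg⟩ := exists_fibLocRing_equiv_spec hV.fromSpec hZ rfl Q'
  have h1 := Groth.Agent.Helper2.FibDim.fibreDimAt_eq_stalk_add_tr hZ Q'
  have htr : tr hZ Q' = tr f x := by
    have h2 := Groth.Agent.Lib.Helper4.Equi10.tr_comp_closedImmersion (hU.fromSpec ≫ f) ζ Q'
    have h3 := Groth.Agent.Lib.Helper4.JacDim1.tr_comp hU.fromSpec f Q
    rw [Groth.Agent.Lib.Helper4.Chev10.tr_of_surjectiveOnStalks hU.fromSpec Q, add_zero] at h3
    rw [← h3, ← h2]
    congr 1
  rw [h1, htr, hsd, halg', eg.ringKrullDim]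

end Chart

section Arith

theorem arith_delta (s : WithBot ℕ∞) (dp : ℕ∞) (t d₀ m k : ℕ)
    (h1 : s + ((t : ℕ) : WithBot ℕ∞) ≤ ((d₀ : ℕ) : WithBot ℕ∞))
    (h2 : ((m : ℕ) : WithBot ℕ∞) ≤ ((dp : ℕ∞) : WithBot ℕ∞) + ((t : ℕ) : WithBot ℕ∞))
    (h3 : d₀ ≤ m + k) :
    s ≤ ((dp : ℕ∞) : WithBot ℕ∞) + ((k : ℕ) : WithBot ℕ∞) := by
  induction s using WithBot.recBotCoe with
  | bot => exact bot_le
  | coe s =>
    rw [coe_le_coe_add_nat]
    have h1' : s + (t : ℕ∞) ≤ (d₀ : ℕ∞) := by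
      have h1a : ((s + (t : ℕ∞) : ℕ∞) : WithBot ℕ∞) ≤ (((d₀ : ℕ) : ℕ∞) : WithBot ℕ∞) := by
        rw [WithBot.coe_add]
        exact h1
      exact WithBot.coe_le_coe.mp h1a
    have h2' : (m : ℕ∞) ≤ dp + (t : ℕ∞) := (coe_le_coe_add_nat (m : ℕ∞) dp t).mp h2
    induction dp using ENat.recTopCoe with
    | top => simp
    | coe d =>
      induction s using ENat.recTopCoe with
      | top =>
        exfalso
        rw [top_add] at h1'
        exact absurd h1' (by simp)
      | coe n =>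
        have a1 : n + t ≤ d₀ := by exact_mod_cast h1'
        have a2 : m ≤ d + t := by exact_mod_cast h2'
        have : n ≤ d + k := by omega
        exact_mod_cast this

theorem arith_delta₀ (s : WithBot ℕ∞) (dp : ℕ∞) (t d₀ k : ℕ)
    (h0 : s + ((t : ℕ) : WithBot ℕ∞) = ((d₀ : ℕ) : WithBot ℕ∞))
    (h : s ≤ ((dp : ℕ∞) : WithBot ℕ∞) + ((k : ℕ) : WithBot ℕ∞)) :
    (((d₀ - k : ℕ) : ℕ) : WithBot ℕ∞) ≤ ((dp : ℕ∞) : WithBot ℕ∞) + ((t : ℕ) : WithBot ℕ∞) := by
  induction s using WithBot.recBotCoe with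
  | bot =>
    exfalso
    rw [WithBot.bot_add] at h0
    exact WithBot.bot_ne_coe h0
  | coe s =>
    rw [coe_le_coe_add_nat] at h
    have h1' : s + (t : ℕ∞) = (d₀ : ℕ∞) := by
      have h1a : ((s + (t : ℕ∞) : ℕ∞) : WithBot ℕ∞) = (((d₀ : ℕ) : ℕ∞) : WithBot ℕ∞) := by
        rw [WithBot.coe_add]
        exact h0
      exact WithBot.coe_injective h1a
    have goal' : ((d₀ - k : ℕ) : ℕ∞) ≤ dp + (t : ℕ∞) := by
      induction dp using ENat.recTopCoe with
      | top => simp
      | coe d =>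
        induction s using ENat.recTopCoe with
        | top =>
          exfalso
          rw [top_add] at h1'
          exact absurd h1' (by simp)
        | coe n =>
          have a1 : n + t = d₀ := by exact_mod_cast h1'
          have a2 : n ≤ d + k := by exact_mod_cast h
          have : d₀ - k ≤ d + t := by omega
          exact_mod_cast this
    exact (coe_le_coe_add_nat ((d₀ - k : ℕ) : ℕ∞) dp t).mpr goal'

end Arith

section Global

variable {X Y : Scheme.{u}} (f : X ⟶ Y) [LocallyOfFinitePresentation f]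

/-- the codepth of the restriction of `F` to the fibre through `x` is at most `k` -/
def CodepthLE (F : X.Modules) (k : ℕ) (x : X) : Prop :=
  Module.supportDim ((f.fiber (f.base x)).presheaf.stalk (f.asFiber x))
      (((Scheme.Modules.pullback (f.fiberι (f.base x))).obj F).presheaf.stalk (f.asFiber x)) ≤
    ((LocCoh.depth ((f.fiber (f.base x)).presheaf.stalk (f.asFiber x))
      (((Scheme.Modules.pullback (f.fiberι (f.base x))).obj F).presheaf.stalk (f.asFiber x)) : ℕ∞) :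
        WithBot ℕ∞) + ((k : ℕ) : WithBot ℕ∞)

set_option maxHeartbeats 4000000 in
theorem chart_codepth {U : X.Opens} (hU : IsAffineOpen U) {V : Y.Opens} (hV : IsAffineOpen V)
    (hUV : U ≤ f ⁻¹ᵁ V) (F : X.Modules) [F.IsQuasicoherent] (hF : CohB1.IsFP F)
    (hflat : FlatMod.IsFlatOver f F) (k : ℕ) :
    IsOpen {Q : Spec Γ(X, U) | CodepthLE f F k (hU.fromSpec Q)} := by
  classical
  letI algAB : Algebra Γ(Y, V) Γ(X, U) := (f.appLE V U hUV).hom.toAlgebra
  haveI : Algebra.FinitePresentation Γ(Y, V) Γ(X, U) :=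
    HasRingHomProperty.appLE (P := @LocallyOfFinitePresentation) f inferInstance ⟨V, hV⟩ ⟨U, hU⟩ hUV
  haveI : Module.FinitePresentation Γ(X, U) Γ(F, U) :=
    Groth.Agent.Lead.FP.fp_sections_of_isFP F hF hU
  haveI : Module.Finite Γ(X, U) Γ(F, U) := inferInstance
  set J := Module.annihilator Γ(X, U) Γ(F, U) with hJ
  set ζ : Spec (CommRingCat.of (Γ(X, U) ⧸ J)) ⟶ Spec Γ(X, U) :=
    Spec.map (CommRingCat.ofHom (Ideal.Quotient.mk J)) with hζ
  set hZ : Spec (CommRingCat.of (Γ(X, U) ⧸ J)) ⟶ Y :=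
    Spec.map (CommRingCat.ofHom (algebraMap Γ(Y, V) (Γ(X, U) ⧸ J))) ≫ hV.fromSpec with hhZ
  haveI : IsClosedImmersion ζ :=
    IsClosedImmersion.spec_of_surjective _ Ideal.Quotient.mk_surjective
  have hcomp : hZ = ζ ≫ (hU.fromSpec ≫ f) := by
    rw [hhZ, hζ, ← IsAffineOpen.SpecMap_appLE_fromSpec f hV hU hUV, ← Spec.map_comp_assoc]
    rfl
  haveI : LocallyOfFiniteType hZ := by
    rw [hcomp]
    infer_instance
  have hdelta := delta_point f hU hV hUV F hF
  -- points outside the support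
  have hout : ∀ Q : Spec Γ(X, U), Q ∉ Module.support Γ(X, U) Γ(F, U) →
      CodepthLE f F k (hU.fromSpec Q) := by
    intro Q hQ
    set x := hU.fromSpec Q with hx
    have hfib : f.fiberι (f x) (f.asFiber x) = x := f.fiberι_asFiber x
    obtain ⟨σ, e, he⟩ := exists_fibre_module_equiv' f F (f x) (f.asFiber x) hU hV hUV Q hfib.symm
    haveI hsub : Subsingleton (FibLocMod Γ(Y, V) Γ(X, U) Q.asIdeal Γ(F, U)) :=
      (subsingleton_fibLocMod_iff Γ(Y, V) Γ(X, U) Γ(F, U) Q).mpr hQ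
    haveI : Subsingleton (((Scheme.Modules.pullback (f.fiberι (f.base x))).obj F).presheaf.stalk
        (f.asFiber x)) := e.symm.injective.subsingleton
    unfold CodepthLE
    rw [Module.supportDim_eq_bot_of_subsingleton]
    exact bot_le
  have hrange : ∀ Q : Spec Γ(X, U), Q ∈ Module.support Γ(X, U) Γ(F, U) → ∃ Q', ζ Q' = Q := by
    intro Q hQ
    rw [Module.support_eq_zeroLocus] at hQ
    have h1 : Set.range (PrimeSpectrum.comap (Ideal.Quotient.mk J)) =
        PrimeSpectrum.zeroLocus (RingHom.ker (Ideal.Quotient.mk J)) :=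
      _root_.range_comap_of_surjective _ _ Ideal.Quotient.mk_surjective
    rw [Ideal.mk_ker] at h1
    have h2 : Q ∈ Set.range (PrimeSpectrum.comap (Ideal.Quotient.mk J)) := by
      rw [h1]; exact hQ
    obtain ⟨Q', hQ'⟩ := h2
    exact ⟨Q', hQ'⟩
  rw [isOpen_iff_forall_mem_open]
  intro Q₀ hQ₀
  by_cases hsupp : Q₀ ∈ Module.support Γ(X, U) Γ(F, U)
  · obtain ⟨Q₀', rfl⟩ := hrange Q₀ hsupp
    obtain ⟨d₀, hd₀, O, hQ₀O, hO⟩ :=
      Groth.Agent.Lib.Helper4.Chev2.exists_open_fibreDimAt_le hZ Q₀'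
    obtain ⟨O', hO'open, hO'⟩ := ζ.isClosedEmbedding.isInducing.isOpen_iff.mp O.isOpen
    have hrect := (isOpen_rectLE f F hF hflat (d₀ - k)).preimage hU.fromSpec.continuous
    refine ⟨O' ∩ hU.fromSpec ⁻¹' {x | RectLE f F (d₀ - k) x}, ?_, hO'open.inter hrect, ?_, ?_⟩
    · rintro Q ⟨hQO', hQrect⟩
      by_cases hs : Q ∈ Module.support Γ(X, U) Γ(F, U)
      · obtain ⟨Q', rfl⟩ := hrange Q hs
        have hQ'O : Q' ∈ O := by
          have : Q' ∈ ζ ⁻¹' O' := hQO'
          rw [hO'] at this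
          exact this
        have h1 := hO Q' hQ'O
        rw [← hdelta Q'] at h1
        set x := hU.fromSpec (ζ Q') with hx
        have hfib : f.fiberι (f x) (f.asFiber x) = x := f.fiberι_asFiber x
        have hdimcl : topologicalKrullDim ↥(closure ({f.asFiber x} : Set ↥(f.fiber (f x)))) =
            ((tr f x : ℕ) : WithBot ℕ∞) := by
          rw [dim_closure_fiber f (f x) (f.asFiber x), hfib]
        have h2 : RectLE f F (d₀ - k) x := hQrect
        unfold RectLE at h2
        rw [hdimcl] at h2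
        exact arith_delta _ _ (tr f x) d₀ (d₀ - k) k h1 h2 (by omega)
      · exact hout Q hs
    · have : Q₀' ∈ ζ ⁻¹' O' := by rw [hO']; exact hQ₀O
      exact this
    · show RectLE f F (d₀ - k) (hU.fromSpec (ζ Q₀'))
      have h0 := hdelta Q₀'
      rw [hd₀] at h0
      set x := hU.fromSpec (ζ Q₀') with hx
      have hfib : f.fiberι (f x) (f.asFiber x) = x := f.fiberι_asFiber x
      have hdimcl : topologicalKrullDim ↥(closure ({f.asFiber x} : Set ↥(f.fiber (f x)))) =
          ((tr f x : ℕ) : WithBot ℕ∞) := by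
        rw [dim_closure_fiber f (f x) (f.asFiber x), hfib]
      unfold RectLE
      rw [hdimcl]
      exact arith_delta₀ _ _ (tr f x) d₀ k h0 hQ₀
  · refine ⟨(Module.support Γ(X, U) Γ(F, U))ᶜ, fun Q hQ => hout Q hQ,
      (Module.isClosed_support).isOpen_compl, hsupp⟩

theorem isOpen_codepthLE (F : X.Modules) (hF : CohB1.IsFP F) (hflat : FlatMod.IsFlatOver f F)
    (k : ℕ) : IsOpen {x : X | CodepthLE f F k x} := by
  haveI : SheafOfModules.IsFinitePresentation (R := X.ringCatSheaf) F := hF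
  haveI : F.IsQuasicoherent := inferInstance
  rw [isOpen_iff_forall_mem_open]
  intro x₀ hx₀
  obtain ⟨U, hU, V, hV, hUV, N, ψ, hx₀U, hN, hψC, hψ⟩ := exists_chart f x₀ 0
  have hopen := chart_codepth f hU hV hUV F hF hflat k
  refine ⟨hU.fromSpec '' {Q : Spec Γ(X, U) | CodepthLE f F k (hU.fromSpec Q)}, ?_,
    hU.fromSpec.isOpenEmbedding.isOpenMap _ hopen, ?_⟩
  · rintro _ ⟨Q, hQ, rfl⟩
    exact hQ
  · refine ⟨hU.primeIdealOf ⟨x₀, hx₀U⟩, ?_, hU.fromSpec_primeIdealOf ⟨x₀, hx₀U⟩⟩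
    show CodepthLE f F k (hU.fromSpec (hU.primeIdealOf ⟨x₀, hx₀U⟩))
    rw [hU.fromSpec_primeIdealOf ⟨x₀, hx₀U⟩]
    exact hx₀

end Global

end Groth.Agent.Lead.MFib
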