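import Mathlib
import Groth.Prelude
import Groth.Agent.Lib.Lead.MFib10
import Groth.Agent.Lib.Lead.MFib12
import Groth.Agent.Lib.Helper8.Depth7

/-!
# Openness of the fibrewise Cohen–Macaulay locus of a flat module (lead)
-/

set_option autoImplicit false
set_option backward.isDefEq.respectTransparency.types false
set_option synthInstance.maxHeartbeats 400000
set_option linter.style.haveILetI false
set_option linter.unusedSectionVars false
universe u

open AlgebraicGeometry CategoryTheory CategoryTheory.Limits TopologicalSpace TensorProduct IsLocalRing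
open Topology

namespace Groth.Agent.Lead.MFib

open LocCoh EGA4 Groth.Agent.Lead.Coprof Groth.Agent.Lead.CMQF
open Groth.Agent.Lib.Helper4.FibDim1 Groth.Agent.Lead.SD Groth.Agent.Lead.RkCons

theorem finite_of_semilinear {T₁ T₂ : Type u} [CommRing T₁] [CommRing T₂] {N₁ N₂ : Type u}
    [AddCommGroup N₁] [AddCommGroup N₂] [Module T₁ N₁] [Module T₂ N₂] (σ : T₁ ≃+* T₂)
    (e : N₁ ≃+ N₂) (he : ∀ (r : T₁) (x : N₁), e (r • x) = σ r • e x) [Module.Finite T₁ N₁] :
    Module.Finite T₂ N₂ := by
  haveI : RingHomSurjective (σ : T₁ →+* T₂) := ⟨σ.surjective⟩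
  let g : N₁ →ₛₗ[(σ : T₁ →+* T₂)] N₂ :=
    { toFun := e
      map_add' := e.map_add
      map_smul' := he }
  exact Module.Finite.of_surjective g e.surjective

section Global

variable {X Y : Scheme.{u}} (f : X ⟶ Y) [LocallyOfFinitePresentation f]

set_option maxHeartbeats 2000000 in
theorem finite_fibre_stalk (F : X.Modules) (hF : CohB1.IsFP F) (x : X) :
    Module.Finite ((f.fiber (f.base x)).presheaf.stalk (f.asFiber x))
      (((Scheme.Modules.pullback (f.fiberι (f.base x))).obj F).presheaf.stalk (f.asFiber x)) := by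
  haveI : SheafOfModules.IsFinitePresentation (R := X.ringCatSheaf) F := hF
  haveI : F.IsQuasicoherent := inferInstance
  obtain ⟨U, hU, V, hV, hUV, N, ψ, hxU, -, hψC, hψ⟩ := exists_chart f x 0
  letI algAB : Algebra Γ(Y, V) Γ(X, U) := (f.appLE V U hUV).hom.toAlgebra
  haveI : Module.FinitePresentation Γ(X, U) Γ(F, U) :=
    Groth.Agent.Lead.FP.fp_sections_of_isFP F hF hU
  haveI : Module.Finite Γ(X, U) Γ(F, U) := inferInstance
  have hfib : f.fiberι (f x) (f.asFiber x) = x := f.fiberι_asFiber x
  have hQ : hU.fromSpec (hU.primeIdealOf ⟨x, hxU⟩) = f.fiberι (f x) (f.asFiber x) := by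
    rw [hU.fromSpec_primeIdealOf ⟨x, hxU⟩, hfib]
  obtain ⟨σ, e, he⟩ := exists_fibre_module_equiv' f F (f x) (f.asFiber x) hU hV hUV
    (hU.primeIdealOf ⟨x, hxU⟩) hQ
  exact finite_of_semilinear σ e he

theorem cm_iff_codepthLE_zero (F : X.Modules) (hF : CohB1.IsFP F) (x : X) :
    (Subsingleton (((Scheme.Modules.pullback (f.fiberι (f.base x))).obj F).presheaf.stalk
        (f.asFiber x)) ∨
      LocCoh.IsCohenMacaulayModule ((f.fiber (f.base x)).presheaf.stalk (f.asFiber x))
        (((Scheme.Modules.pullback (f.fiberι (f.base x))).obj F).presheaf.stalk (f.asFiber x))) ↔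
      CodepthLE f F 0 x := by
  haveI : IsLocallyNoetherian (f.fiber (f x)) := isLocallyNoetherian_fiber f (f x)
  haveI := finite_fibre_stalk f F hF x
  unfold CodepthLE LocCoh.IsCohenMacaulayModule
  rw [Nat.cast_zero, add_zero]
  constructor
  · rintro (h | h)
    · rw [Module.supportDim_eq_bot_of_subsingleton]
      exact bot_le
    · exact h.le
  · intro h
    by_cases hs : Subsingleton (((Scheme.Modules.pullback (f.fiberι (f.base x))).obj
        F).presheaf.stalk (f.asFiber x))
    · exact Or.inl hs
    · right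
      haveI : Nontrivial (((Scheme.Modules.pullback (f.fiberι (f.base x))).obj
        F).presheaf.stalk (f.asFiber x)) := not_subsingleton_iff_nontrivial.mp hs
      exact le_antisymm h Groth.Agent.Helper8.Depth.depth_le_supportDim

/-- **S4960** -/
theorem S4960_main (F : X.Modules) (hF : CohB1.IsFP F) (hflat : FlatMod.IsFlatOver f F) (k : ℕ) :
    IsOpen {x : X | Module.supportDim ((f.fiber (f.base x)).presheaf.stalk (f.asFiber x))
      (((Scheme.Modules.pullback (f.fiberι (f.base x))).obj F).presheaf.stalk (f.asFiber x)) ≤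
      ((LocCoh.depth ((f.fiber (f.base x)).presheaf.stalk (f.asFiber x))
        (((Scheme.Modules.pullback (f.fiberι (f.base x))).obj F).presheaf.stalk (f.asFiber x)) : ℕ∞) :
          WithBot ℕ∞) + k} :=
  isOpen_codepthLE f F hF hflat k

/-- **S2552** -/
theorem S2552_main (F : X.Modules) (hF : CohB1.IsFP F) (hflat : FlatMod.IsFlatOver f F) :
    IsOpen {x : X |
      Subsingleton (((Scheme.Modules.pullback (f.fiberι (f.base x))).obj F).presheaf.stalk
        (f.asFiber x)) ∨
      LocCoh.IsCohenMacaulayModule ((f.fiber (f.base x)).presheaf.stalk (f.asFiber x))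
        (((Scheme.Modules.pullback (f.fiberι (f.base x))).obj F).presheaf.stalk (f.asFiber x))} := by
  have h := isOpen_codepthLE f F hF hflat 0
  convert h using 1
  ext x
  exact cm_iff_codepthLE_zero f F hF x

/-- **S4967** -/
theorem S4967_main [IsProper f] (F : X.Modules) (hF : CohB1.IsFP F)
    (hflat : FlatMod.IsFlatOver f F) (k : ℕ) :
    IsOpen {y : Y | ∀ x : ↥(f.fiber y), Module.supportDim ((f.fiber y).presheaf.stalk x)
      (((Scheme.Modules.pullback (f.fiberι y)).obj F).presheaf.stalk x) ≤
      ((LocCoh.depth ((f.fiber y).presheaf.stalk x)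
        (((Scheme.Modules.pullback (f.fiberι y)).obj F).presheaf.stalk x) : ℕ∞) : WithBot ℕ∞) + k} :=
  isOpen_forall_fibre_of_isOpen f
    (fun y x => Module.supportDim ((f.fiber y).presheaf.stalk x)
      (((Scheme.Modules.pullback (f.fiberι y)).obj F).presheaf.stalk x) ≤
      ((LocCoh.depth ((f.fiber y).presheaf.stalk x)
        (((Scheme.Modules.pullback (f.fiberι y)).obj F).presheaf.stalk x) : ℕ∞) : WithBot ℕ∞) + k)
    (isOpen_codepthLE f F hF hflat k)

/-- **S4968** -/
theorem S4968_main [IsProper f] (F : X.Modules) (hF : CohB1.IsFP F)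
    (hflat : FlatMod.IsFlatOver f F) :
    IsOpen {y : Y | ∀ x : ↥(f.fiber y),
      Subsingleton (((Scheme.Modules.pullback (f.fiberι y)).obj F).presheaf.stalk x) ∨
      LocCoh.IsCohenMacaulayModule ((f.fiber y).presheaf.stalk x)
        (((Scheme.Modules.pullback (f.fiberι y)).obj F).presheaf.stalk x)} :=
  isOpen_forall_fibre_of_isOpen f
    (fun y x => Subsingleton (((Scheme.Modules.pullback (f.fiberι y)).obj F).presheaf.stalk x) ∨
      LocCoh.IsCohenMacaulayModule ((f.fiber y).presheaf.stalk x)
        (((Scheme.Modules.pullback (f.fiberι y)).obj F).presheaf.stalk x))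
    (S2552_main f F hF hflat)

end Global

end Groth.Agent.Lead.MFib
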