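import Mathlib
import Groth.Prelude
import Groth.Agent.Lib.Lead.MFib13
import Groth.Agent.Lib.Lead.SkLoc4
import Groth.Agent.Lib.Helper4.FibDimComp1
import Groth.Agent.Lib.Helper4.Chev3
import Groth.Agent.Lib.Helper8.Depth3

/-!
# Closed sets defined by the residual transcendence degree of fibrewise generizations;
associated points of the restriction of a flat module to the fibres (lead)
-/

set_option autoImplicit false
set_option backward.isDefEq.respectTransparency.types false
set_option synthInstance.maxHeartbeats 400000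
set_option linter.style.haveILetI false
set_option linter.unusedSectionVars false
universe u

open AlgebraicGeometry CategoryTheory CategoryTheory.Limits TopologicalSpace TensorProduct IsLocalRing
open Topology

namespace Groth.Agent.Lead.MFib

open LocCoh EGA4 Groth.Agent.Lead.Coprof Groth.Agent.Lead.CMQF
open Groth.Agent.Lib.Helper4.FibDim1 Groth.Agent.Lead.SD Groth.Agent.Lead.RkCons

section TrGE

variable {X Y : Scheme.{u}} (f : X ⟶ Y) [LocallyOfFiniteType f]

/-- points having a generization in the same fibre, lying in `T`, of residual transcendence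
degree at least `n` -/
def trGE (T : Set X) (n : ℕ) : Set X :=
  {x | ∃ z ∈ T, z ⤳ x ∧ f z = f x ∧ n ≤ tr f z}

set_option maxHeartbeats 1000000 in
theorem isClosed_trGE (T : Set X) (hT : IsClosed T) (n : ℕ) : IsClosed (trGE f T n) := by
  set 𝓘 := Scheme.IdealSheafData.vanishingIdeal (⟨T, hT⟩ : Closeds X) with h𝓘
  set i := 𝓘.subschemeι with hi
  have hrange : Set.range i = T := by
    rw [hi, Scheme.IdealSheafData.range_subschemeι,
      Scheme.IdealSheafData.coe_support_vanishingIdeal]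
    rfl
  haveI : LocallyOfFiniteType (i ≫ f) := inferInstance
  have hcl := Groth.Agent.Lib.Helper4.Chev3.isClosed_setOf_le_fibreDimAt (i ≫ f)
    ((n : ℕ) : WithBot ℕ∞)
  have himg := i.isClosedEmbedding.isClosedMap _ hcl
  convert himg using 1
  ext x
  constructor
  · rintro ⟨z, hzT, hsp, hfz, hn⟩
    have hxT : x ∈ T := hsp.mem_closed hT hzT
    obtain ⟨t, rfl⟩ : x ∈ Set.range i := hrange ▸ hxT
    obtain ⟨t', rfl⟩ : z ∈ Set.range i := hrange ▸ hzT
    have h1 : t' ⤳ t := (i.isClosedEmbedding.isEmbedding.isInducing.specializes_iff).mp hsp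
    refine ⟨t, ?_, rfl⟩
    have h2 := Groth.Agent.Lib.Helper4.Equi10.tr_comp_closedImmersion f i t'
    have h3 := Groth.Agent.Lib.Helper4.FibDimComp1.tr_le_fibreDimAt' (i ≫ f) t'
    have h4 := Groth.Agent.Lib.Helper4.FibDimComp1.fibreDimAt_mono_of_specializes (i ≫ f) t' t h1
    rw [h2] at h3
    refine le_trans ?_ (h3.trans h4)
    exact_mod_cast hn
  · rintro ⟨t, ht, rfl⟩
    obtain ⟨t', hft', hsp, -, heq⟩ :=
      Groth.Agent.Lib.Helper4.FibDimComp1.exists_fibreMax_tr_eq (i ≫ f) t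
    have h2 := Groth.Agent.Lib.Helper4.Equi10.tr_comp_closedImmersion f i t'
    refine ⟨i t', hrange ▸ ⟨t', rfl⟩, hsp.map i.continuous, hft', ?_⟩
    have ht' : ((n : ℕ) : WithBot ℕ∞) ≤ FlatMor.fibreDimAt (i ≫ f) t := ht
    rw [heq, h2] at ht'
    exact_mod_cast ht'

theorem notMem_trGE_of_lt (T : Set X) (n : ℕ) (x : X)
    (h : FlatMor.fibreDimAt f x < ((n : ℕ) : WithBot ℕ∞)) : x ∉ trGE f T n := by
  rintro ⟨z, -, hsp, -, hn⟩
  have h3 := Groth.Agent.Lib.Helper4.FibDimComp1.tr_le_fibreDimAt' f z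
  have h4 := Groth.Agent.Lib.Helper4.FibDimComp1.fibreDimAt_mono_of_specializes f z x hsp
  have h5 : ((n : ℕ) : WithBot ℕ∞) ≤ FlatMor.fibreDimAt f x := by
    refine le_trans ?_ (h3.trans h4)
    exact_mod_cast hn
  exact absurd h (not_lt.mpr h5)

theorem trGE_mono {T T' : Set X} (h : T ⊆ T') (n : ℕ) : trGE f T n ⊆ trGE f T' n := by
  rintro x ⟨z, hz, h1, h2, h3⟩
  exact ⟨z, h hz, h1, h2, h3⟩

/-- locally only finitely many of the sets `trGE f T n` are nonempty -/
theorem exists_open_trGE_empty (x₀ : X) :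
    ∃ (d₀ : ℕ) (O : Set X), IsOpen O ∧ x₀ ∈ O ∧
      ∀ x ∈ O, ∀ (T : Set X) (n : ℕ), d₀ < n → x ∉ trGE f T n := by
  obtain ⟨d₀, hd₀, O, hx₀O, hO⟩ :=
    Groth.Agent.Lib.Helper4.Chev2.exists_open_fibreDimAt_le f x₀
  refine ⟨d₀, O, O.isOpen, hx₀O, fun x hx T n hn => ?_⟩
  apply notMem_trGE_of_lt
  refine lt_of_le_of_lt (hO x hx) ?_
  exact_mod_cast hn

end TrGE

section Ass

variable {X Y : Scheme.{u}} (f : X ⟶ Y) [LocallyOfFinitePresentation f] (F : X.Modules)

/-- `x` is an associated point of the restriction of `F` to the fibre through `x` -/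
def IsAssAt (x : X) : Prop :=
  Curv2.IsAssPoint ((Scheme.Modules.pullback (f.fiberι (f.base x))).obj F) (f.asFiber x)

theorem isAssAt_iff_depth (hF : CohB1.IsFP F) (x : X) :
    IsAssAt f F x ↔
      LocCoh.depth ((f.fiber (f.base x)).presheaf.stalk (f.asFiber x))
        (((Scheme.Modules.pullback (f.fiberι (f.base x))).obj F).presheaf.stalk (f.asFiber x)) = 0 := by
  haveI : IsLocallyNoetherian (f.fiber (f x)) := isLocallyNoetherian_fiber f (f x)
  haveI := finite_fibre_stalk f F hF x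
  rw [Groth.Agent.Helper8.Depth.depth_eq_zero_iff]
  rfl

theorem isAssAt_iff_rect (hF : CohB1.IsFP F) (x : X) :
    IsAssAt f F x ↔ rect f F x = (tr f x : ℕ∞) := by
  rw [isAssAt_iff_depth f F hF x]
  unfold rect
  constructor
  · intro h
    rw [h, zero_add]
  · generalize LocCoh.depth ((f.fiber (f.base x)).presheaf.stalk (f.asFiber x))
        (((Scheme.Modules.pullback (f.fiberι (f.base x))).obj F).presheaf.stalk (f.asFiber x)) = d
    intro h
    induction d using ENat.recTopCoe with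
    | top => rw [top_add] at h; exact absurd h (by simp)
    | coe d =>
      have : d + tr f x = tr f x := by exact_mod_cast h
      have : d = 0 := by omega
      rw [this]; rfl

theorem tr_le_rect (x : X) : (tr f x : ℕ∞) ≤ rect f F x := by
  unfold rect
  exact le_add_self

/-- the closed (for flat `F`) set where the rectified depth is at most `n` -/
def Cset (n : ℕ) : Set X := {x | ¬ RectLE f F (n + 1) x}

theorem isClosed_Cset (hF : CohB1.IsFP F) (hflat : FlatMod.IsFlatOver f F) (n : ℕ) :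
    IsClosed (Cset f F n) :=
  (isOpen_rectLE f F hF hflat (n + 1)).isClosed_compl

theorem mem_Cset_iff (n : ℕ) (x : X) : x ∈ Cset f F n ↔ rect f F x ≤ (n : ℕ∞) := by
  unfold Cset
  rw [Set.mem_ofPred_eq, rectLE_iff, not_le]
  constructor
  · intro h
    have : rect f F x < (n : ℕ∞) + 1 := by exact_mod_cast h
    exact Order.le_of_lt_add_one this
  · intro h
    have : rect f F x < (n : ℕ∞) + 1 := Order.lt_add_one_iff_of_not_isMax (by simp) |>.mpr h
    exact_mod_cast this

/-- associated points of residual transcendence degree `n` -/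
theorem isAssAt_and_tr_eq_iff (hF : CohB1.IsFP F) (n : ℕ) (z : X) :
    (IsAssAt f F z ∧ tr f z = n) ↔ (z ∈ Cset f F n ∧ n ≤ tr f z) := by
  rw [isAssAt_iff_rect f F hF z, mem_Cset_iff]
  have hle := tr_le_rect f F z
  constructor
  · rintro ⟨h1, h2⟩
    rw [h1, h2]
    exact ⟨le_rfl, le_rfl⟩
  · rintro ⟨h1, h2⟩
    have h3 : (n : ℕ∞) ≤ (tr f z : ℕ∞) := by exact_mod_cast h2
    have h4 : rect f F z = (n : ℕ∞) := le_antisymm h1 (h3.trans hle)
    have h5 : (tr f z : ℕ∞) = (n : ℕ∞) := le_antisymm (hle.trans h1) h3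
    refine ⟨by rw [h4, h5], by exact_mod_cast h5⟩

theorem mem_trGE_Cset_iff (hF : CohB1.IsFP F) (n : ℕ) (x : X) :
    x ∈ trGE f (Cset f F n) n ↔
      ∃ z : X, z ⤳ x ∧ f z = f x ∧ IsAssAt f F z ∧ tr f z = n := by
  constructor
  · rintro ⟨z, hzC, hsp, hfz, hn⟩
    exact ⟨z, hsp, hfz, (isAssAt_and_tr_eq_iff f F hF n z).mpr ⟨hzC, hn⟩⟩
  · rintro ⟨z, hsp, hfz, hass, htr⟩
    obtain ⟨h1, h2⟩ := (isAssAt_and_tr_eq_iff f F hF n z).mp ⟨hass, htr⟩
    exact ⟨z, h1, hsp, hfz, h2⟩

end Ass

end Groth.Agent.Lead.MFib
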