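import Mathlib
import Groth.Prelude
import Groth.Agent.Lib.Lead.MFib14

/-!
# Openness of conditions on the associated points of the fibres of a flat module (lead)
-/

set_option autoImplicit false
set_option backward.isDefEq.respectTransparency.types false
set_option synthInstance.maxHeartbeats 400000
set_option linter.style.haveILetI false
set_option linter.unusedSectionVars false
universe u

open AlgebraicGeometry CategoryTheory CategoryTheory.Limits TopologicalSpace TensorProduct IsLocalRing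
open Topology

namespace Groth.Agent.Lead.MFib

open LocCoh EGA4 Groth.Agent.Lead.Coprof Groth.Agent.Lead.CMQF
open Groth.Agent.Lib.Helper4.FibDim1 Groth.Agent.Lead.SD Groth.Agent.Lead.RkCons
open Groth.Agent.Helper3.FibStalk

section Dict

variable {X Y : Scheme.{u}} (f : X ⟶ Y) [LocallyOfFinitePresentation f] (F : X.Modules)

theorem mem_ass_fibre_iff (y : Y) (z : f.fiber y) :
    z ∈ AssSch.Ass ((Scheme.Modules.pullback (f.fiberι y)).obj F) ↔ IsAssAt f F (f.fiberι y z) :=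
  fiber_pred_iff f (fun y w => Curv2.IsAssPoint ((Scheme.Modules.pullback (f.fiberι y)).obj F) w) y z

theorem mem_closure_fibre_iff (y : Y) (w z : f.fiber y) :
    w ∈ closure ({z} : Set (f.fiber y)) ↔ f.fiberι y z ⤳ f.fiberι y w := by
  rw [← specializes_iff_mem_closure]
  exact ((f.fiberι y).isEmbedding.isInducing.specializes_iff).symm

/-- quantifying over the associated points of a fibre -/
theorem forall_ass_fibre_iff (y : Y) (Q : f.fiber y → Prop) (Q₀ : X → Prop)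
    (hQ : ∀ z, Q z ↔ Q₀ (f.fiberι y z)) :
    (∀ z ∈ AssSch.Ass ((Scheme.Modules.pullback (f.fiberι y)).obj F), Q z) ↔
      ∀ z₀ : X, f z₀ = y → IsAssAt f F z₀ → Q₀ z₀ := by
  constructor
  · intro h z₀ hz₀ hass
    have hmem : z₀ ∈ Set.range (f.fiberι y) := by
      rw [f.range_fiberι y]; exact hz₀
    obtain ⟨z, rfl⟩ := hmem
    exact (hQ z).mp (h z ((mem_ass_fibre_iff f F y z).mpr hass))
  · intro h z hz
    exact (hQ z).mpr (h _ (apply_fiberι f y z) ((mem_ass_fibre_iff f F y z).mp hz))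

end Dict

section Main

variable {X Y : Scheme.{u}} (f : X ⟶ Y) [LocallyOfFinitePresentation f] (F : X.Modules)

/-- the dimensions of the associated points of the fibre through `x` specializing to `x` lie
in `Φ` -/
def AssDimsIn (Φ : Finset ℕ) (x : X) : Prop :=
  ∀ z₀ : X, f z₀ = f x → IsAssAt f F z₀ → z₀ ⤳ x → tr f z₀ ∈ Φ

theorem isOpen_assDimsIn (hF : CohB1.IsFP F) (hflat : FlatMod.IsFlatOver f F) (Φ : Finset ℕ) :
    IsOpen {x : X | AssDimsIn f F Φ x} := by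
  classical
  rw [isOpen_iff_forall_mem_open]
  intro x₀ hx₀
  obtain ⟨d₀, O, hO, hx₀O, hOe⟩ := exists_open_trGE_empty f x₀
  refine ⟨O ∩ ⋂ n ∈ (Finset.range (d₀ + 1)).filter (fun n => n ∉ Φ),
    (trGE f (Cset f F n) n)ᶜ, ?_, ?_, ?_⟩
  · rintro x ⟨hxO, hx⟩ z₀ hfz hass hsp
    by_contra hn
    have hmem : x ∈ trGE f (Cset f F (tr f z₀)) (tr f z₀) :=
      (mem_trGE_Cset_iff f F hF (tr f z₀) x).mpr ⟨z₀, hsp, hfz, hass, rfl⟩
    by_cases hle : tr f z₀ ≤ d₀
    · rw [Set.mem_iInter₂] at hx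
      exact hx (tr f z₀) (Finset.mem_filter.mpr ⟨Finset.mem_range.mpr (by omega), hn⟩) hmem
    · exact hOe x hxO _ _ (by omega) hmem
  · refine hO.inter (isOpen_biInter_finset fun n _ => ?_)
    exact (isClosed_trGE f _ (isClosed_Cset f F hF hflat n) n).isOpen_compl
  · refine ⟨hx₀O, ?_⟩
    rw [Set.mem_iInter₂]
    intro n hn hmem
    obtain ⟨z, hsp, hfz, hass, htr⟩ := (mem_trGE_Cset_iff f F hF n x₀).mp hmem
    have := hx₀ z hfz hass hsp
    rw [htr] at this
    exact (Finset.mem_filter.mp hn).2 this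

/-- no associated point of the fibre through `x` specializing to `x` is embedded -/
def NoEmbAt (x : X) : Prop :=
  ∀ z₀ : X, f z₀ = f x → IsAssAt f F z₀ → z₀ ⤳ x →
    ∀ z₁ : X, f z₁ = f x → IsAssAt f F z₁ → z₁ ⤳ z₀ → z₁ = z₀

/-- the closed set of points through which there passes an associated point of dimension `n`
embedded in an associated point of dimension `n'` -/
def Emb (n n' : ℕ) : Set X :=
  trGE f (Cset f F n ∩ trGE f (Cset f F n') n') n

theorem isClosed_Emb (hF : CohB1.IsFP F) (hflat : FlatMod.IsFlatOver f F) (n n' : ℕ) :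
    IsClosed (Emb f F n n') :=
  isClosed_trGE f _ ((isClosed_Cset f F hF hflat n).inter
    (isClosed_trGE f _ (isClosed_Cset f F hF hflat n') n')) n

theorem mem_Emb_iff (hF : CohB1.IsFP F) (n n' : ℕ) (x : X) :
    x ∈ Emb f F n n' ↔ ∃ z₀ z₁ : X, z₀ ⤳ x ∧ f z₀ = f x ∧ IsAssAt f F z₀ ∧ tr f z₀ = n ∧
      z₁ ⤳ z₀ ∧ f z₁ = f z₀ ∧ IsAssAt f F z₁ ∧ tr f z₁ = n' := by
  constructor
  · rintro ⟨z, ⟨hzC, hzT⟩, hsp, hfz, hn⟩
    obtain ⟨h1, h2⟩ := (isAssAt_and_tr_eq_iff f F hF n z).mpr ⟨hzC, hn⟩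
    obtain ⟨z₁, hsp₁, hfz₁, hass₁, htr₁⟩ := (mem_trGE_Cset_iff f F hF n' z).mp hzT
    exact ⟨z, z₁, hsp, hfz, h1, h2, hsp₁, hfz₁, hass₁, htr₁⟩
  · rintro ⟨z₀, z₁, hsp, hfz, hass, htr, hsp₁, hfz₁, hass₁, htr₁⟩
    obtain ⟨h1, h2⟩ := (isAssAt_and_tr_eq_iff f F hF n z₀).mp ⟨hass, htr⟩
    refine ⟨z₀, ⟨h1, ?_⟩, hsp, hfz, h2⟩
    exact (mem_trGE_Cset_iff f F hF n' z₀).mpr ⟨z₁, hsp₁, hfz₁, hass₁, htr₁⟩

theorem noEmbAt_iff (hF : CohB1.IsFP F) (x : X) :
    NoEmbAt f F x ↔ ∀ n n' : ℕ, n ≠ n' → x ∉ Emb f F n n' := by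
  constructor
  · intro h n n' hne hmem
    obtain ⟨z₀, z₁, hsp, hfz, hass, htr, hsp₁, hfz₁, hass₁, htr₁⟩ :=
      (mem_Emb_iff f F hF n n' x).mp hmem
    have := h z₀ hfz hass hsp z₁ (hfz₁.trans hfz) hass₁ hsp₁
    rw [this, htr] at htr₁
    exact hne htr₁
  · intro h z₀ hfz hass hsp z₁ hfz₁ hass₁ hsp₁
    by_contra hne
    have hlt := tr_lt_of_specializes f z₁ z₀ hsp₁ hne (hfz₁.trans hfz.symm)
    refine h (tr f z₀) (tr f z₁) (by omega) ?_
    exact (mem_Emb_iff f F hF _ _ x).mpr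
      ⟨z₀, z₁, hsp, hfz, hass, rfl, hsp₁, hfz₁.trans hfz.symm, hass₁, rfl⟩

theorem isOpen_noEmbAt (hF : CohB1.IsFP F) (hflat : FlatMod.IsFlatOver f F) :
    IsOpen {x : X | NoEmbAt f F x} := by
  classical
  rw [isOpen_iff_forall_mem_open]
  intro x₀ hx₀
  obtain ⟨d₀, O, hO, hx₀O, hOe⟩ := exists_open_trGE_empty f x₀
  refine ⟨O ∩ ⋂ p ∈ ((Finset.range (d₀ + 1)) ×ˢ (Finset.range (d₀ + 1))).filter
    (fun p => p.1 ≠ p.2), (Emb f F p.1 p.2)ᶜ, ?_, ?_, ?_⟩
  · rintro x ⟨hxO, hx⟩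
    rw [Set.mem_setOf_eq, noEmbAt_iff f F hF]
    intro n n' hne hmem
    by_cases hle : n ≤ d₀ ∧ n' ≤ d₀
    · rw [Set.mem_iInter₂] at hx
      exact hx (n, n') (Finset.mem_filter.mpr ⟨Finset.mem_product.mpr
        ⟨Finset.mem_range.mpr (by omega), Finset.mem_range.mpr (by omega)⟩, hne⟩) hmem
    · obtain ⟨z₀, z₁, hsp, hfz, hass, htr, hsp₁, hfz₁, hass₁, htr₁⟩ :=
        (mem_Emb_iff f F hF n n' x).mp hmem
      rcases not_and_or.mp hle with h1 | h1
      · exact hOe x hxO Set.univ n (by omega) ⟨z₀, trivial, hsp, hfz, htr.ge⟩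
      · exact hOe x hxO Set.univ n' (by omega)
          ⟨z₁, trivial, hsp₁.trans hsp, hfz₁.trans hfz, htr₁.ge⟩
  · refine hO.inter (isOpen_biInter_finset fun p _ => ?_)
    exact (isClosed_Emb f F hF hflat p.1 p.2).isOpen_compl
  · refine ⟨hx₀O, ?_⟩
    rw [Set.mem_iInter₂]
    intro p hp hmem
    exact (noEmbAt_iff f F hF x₀).mp hx₀ p.1 p.2 (Finset.mem_filter.mp hp).2 hmem

end Main

section Statements

variable {X Y : Scheme.{u}} (f : X ⟶ Y) [LocallyOfFinitePresentation f] (F : X.Modules)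

theorem S4982_iff (Φ : Finset ℕ) (x : X) :
    (∀ z ∈ AssSch.Ass ((Scheme.Modules.pullback (f.fiberι (f.base x))).obj F),
      f.asFiber x ∈ closure {z} →
      ∃ n ∈ Φ, topologicalKrullDim ↥(closure ({z} : Set ↥(f.fiber (f.base x)))) =
        (n : WithBot ℕ∞)) ↔ AssDimsIn f F Φ x := by
  rw [forall_ass_fibre_iff f F (f x)
    (fun z => f.asFiber x ∈ closure {z} →
      ∃ n ∈ Φ, topologicalKrullDim ↥(closure ({z} : Set ↥(f.fiber (f.base x)))) = (n : WithBot ℕ∞))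
    (fun z₀ => z₀ ⤳ x → tr f z₀ ∈ Φ)]
  · rfl
  · intro z
    rw [mem_closure_fibre_iff, f.fiberι_asFiber x, dim_closure_fiber f (f x) z]
    constructor
    · intro h hsp
      obtain ⟨n, hn, hn'⟩ := h hsp
      have : tr f (f.fiberι (f x) z) = n := by exact_mod_cast hn'
      rw [this]; exact hn
    · intro h hsp
      exact ⟨_, h hsp, rfl⟩

/-- **S4982** -/
theorem S4982_main (hF : CohB1.IsFP F) (hflat : FlatMod.IsFlatOver f F) (Φ : Finset ℕ) :
    IsOpen {x : X | ∀ z ∈ AssSch.Ass ((Scheme.Modules.pullback (f.fiberι (f.base x))).obj F),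
      f.asFiber x ∈ closure {z} →
      ∃ n ∈ Φ, topologicalKrullDim ↥(closure ({z} : Set ↥(f.fiber (f.base x)))) =
        (n : WithBot ℕ∞)} := by
  have h := isOpen_assDimsIn f F hF hflat Φ
  convert h using 1
  ext x
  exact S4982_iff f F Φ x

theorem S4983_iff (x : X) :
    (∀ z ∈ AssSch.Ass ((Scheme.Modules.pullback (f.fiberι (f.base x))).obj F),
      f.asFiber x ∈ closure {z} →
      ∀ z' ∈ AssSch.Ass ((Scheme.Modules.pullback (f.fiberι (f.base x))).obj F),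
        z ∈ closure {z'} → z' = z) ↔ NoEmbAt f F x := by
  rw [forall_ass_fibre_iff f F (f x)
    (fun z => f.asFiber x ∈ closure {z} →
      ∀ z' ∈ AssSch.Ass ((Scheme.Modules.pullback (f.fiberι (f.base x))).obj F),
        z ∈ closure {z'} → z' = z)
    (fun z₀ => z₀ ⤳ x → ∀ z₁ : X, f z₁ = f x → IsAssAt f F z₁ → z₁ ⤳ z₀ → z₁ = z₀)]
  · rfl
  · intro z
    rw [mem_closure_fibre_iff, f.fiberι_asFiber x]
    refine imp_congr Iff.rfl ?_
    rw [forall_ass_fibre_iff f F (f x) (fun z' => z ∈ closure {z'} → z' = z)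
      (fun z₁ => z₁ ⤳ f.fiberι (f x) z → z₁ = f.fiberι (f x) z)]
    intro z'
    rw [mem_closure_fibre_iff]
    refine imp_congr Iff.rfl ?_
    exact ⟨fun h => by rw [h], fun h => (f.fiberι (f x)).isEmbedding.injective h⟩

/-- **S4983** -/
theorem S4983_main (hF : CohB1.IsFP F) (hflat : FlatMod.IsFlatOver f F) :
    IsOpen {x : X | ∀ z ∈ AssSch.Ass ((Scheme.Modules.pullback (f.fiberι (f.base x))).obj F),
      f.asFiber x ∈ closure {z} →
      ∀ z' ∈ AssSch.Ass ((Scheme.Modules.pullback (f.fiberι (f.base x))).obj F),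
        z ∈ closure {z'} → z' = z} := by
  have h := isOpen_noEmbAt f F hF hflat
  convert h using 1
  ext x
  exact S4983_iff f F x

/-- **S4964** -/
theorem S4964_main [IsProper f] (hF : CohB1.IsFP F) (hflat : FlatMod.IsFlatOver f F)
    (Φ : Finset ℕ) :
    IsOpen {y : Y | ∀ z ∈ AssSch.Ass ((Scheme.Modules.pullback (f.fiberι y)).obj F), ∃ n ∈ Φ,
      topologicalKrullDim ↥(closure ({z} : Set ↥(f.fiber y))) = (n : WithBot ℕ∞)} := by
  have h := isOpen_forall_fibre_of_isOpen f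
    (fun y w => ∀ z ∈ AssSch.Ass ((Scheme.Modules.pullback (f.fiberι y)).obj F),
      w ∈ closure {z} →
      ∃ n ∈ Φ, topologicalKrullDim ↥(closure ({z} : Set ↥(f.fiber y))) = (n : WithBot ℕ∞))
    (S4982_main f F hF hflat Φ)
  convert h using 1
  ext y
  constructor
  · intro h1 w z hz _
    exact h1 z hz
  · intro h1 z hz
    exact h1 z z hz (subset_closure rfl)

end Statements

end Groth.Agent.Lead.MFib
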