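import Mathlib
import Groth.Prelude

/-!
# Going down for the support of a flat module (lead)
-/

set_option autoImplicit false
set_option linter.style.haveILetI false
set_option linter.unusedSectionVars false
universe u

open TensorProduct

namespace Groth.Agent.Lead.MFib

section GD

variable (A B M : Type u) [CommRing A] [CommRing B] [Algebra A B] [AddCommGroup M] [Module A M]
  [Module B M] [IsScalarTower A B M]

/-- over a flat module, an element outside a prime acts injectively modulo that prime -/
theorem smul_eq_zero_of_flat [Module.Flat A M] (p' : Ideal A) [p'.IsPrime] (a : A) (ha : a ∉ p')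
    (n : M ⧸ (p' • (⊤ : Submodule A M))) (h : a • n = 0) : n = 0 := by
  let q := TensorProduct.quotTensorEquivQuotSMul M p'
  let μ : A ⧸ p' →ₗ[A] A ⧸ p' := a • LinearMap.id
  have hμ : Function.Injective μ := by
    rw [injective_iff_map_eq_zero]
    intro c hc
    have h1 : a • c = 0 := hc
    obtain ⟨c, rfl⟩ := Ideal.Quotient.mk_surjective c
    have h1' : Ideal.Quotient.mk p' (a * c) = 0 := by
      rw [map_mul]
      rw [Algebra.smul_def, Ideal.Quotient.algebraMap_eq] at h1
      exact h1
    rw [Ideal.Quotient.eq_zero_iff_mem] at h1'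
    have h1 := h1'
    rw [Ideal.Quotient.eq_zero_iff_mem]
    exact (Ideal.IsPrime.mem_or_mem inferInstance h1).resolve_left ha
  have hinj := Module.Flat.rTensor_preserves_injective_linearMap (M := M) μ hμ
  have hrT : ∀ t, μ.rTensor M t = a • t := by
    intro t
    have : μ.rTensor M = a • LinearMap.id := by
      rw [LinearMap.rTensor_smul, LinearMap.rTensor_id]
    rw [this]
    rfl
  have h2 : μ.rTensor M (q.symm n) = 0 := by
    rw [hrT, ← map_smul, h, map_zero]
  have h3 := hinj (h2.trans (map_zero _).symm)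
  exact (LinearEquiv.map_eq_zero_iff q.symm).mp h3

theorem isSMulRegular_quotient_of_flat [Module.Flat A M] (p' : Ideal A) [p'.IsPrime] (a : A)
    (ha : a ∉ p') :
    IsSMulRegular (M ⧸ (p'.map (algebraMap A B) • (⊤ : Submodule B M))) (algebraMap A B a) := by
  set N' : Submodule B M := p'.map (algebraMap A B) • ⊤ with hN'
  have hres : N'.restrictScalars A = p' • (⊤ : Submodule A M) := by
    rw [hN', Ideal.smul_restrictScalars, Submodule.restrictScalars_top]
  let e : (M ⧸ N') ≃ₗ[A] M ⧸ (p' • (⊤ : Submodule A M)) :=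
    (Submodule.Quotient.restrictScalarsEquiv A N').symm ≪≫ₗ Submodule.quotEquivOfEq _ _ hres
  rw [isSMulRegular_iff_right_eq_zero_of_smul]
  intro n hn
  have h1 : a • e n = 0 := by
    rw [← map_smul, ← algebraMap_smul B a n, hn, map_zero]
  have h2 := smul_eq_zero_of_flat A M p' a ha (e n) h1
  exact (LinearEquiv.map_eq_zero_iff e).mp h2

/-- **going down for the support of a flat module** -/
theorem exists_le_mem_support_of_flat [Module.Finite B M] [Module.Flat A M]
    (Q : PrimeSpectrum B) (hQ : Q ∈ Module.support B M) (p' : PrimeSpectrum A)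
    (hp' : p'.asIdeal ≤ Q.asIdeal.comap (algebraMap A B)) :
    ∃ Q' : PrimeSpectrum B, Q'.asIdeal ≤ Q.asIdeal ∧ Q' ∈ Module.support B M ∧
      Q'.asIdeal.comap (algebraMap A B) = p'.asIdeal := by
  set I := p'.asIdeal.map (algebraMap A B) with hI
  set N := M ⧸ (I • (⊤ : Submodule B M)) with hN
  have hIQ : I ≤ Q.asIdeal := Ideal.map_le_iff_le_comap.mpr hp'
  have hsupp : Module.support B N = Module.support B M ∩ PrimeSpectrum.zeroLocus I :=
    Module.support_quotient I
  have hQN : Q ∈ Module.support B N := by
    rw [hsupp]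
    exact ⟨hQ, hIQ⟩
  have hJQ : Module.annihilator B N ≤ Q.asIdeal := by
    rw [Module.support_eq_zeroLocus] at hQN
    exact hQN
  obtain ⟨Q', hQ'min, hQ'le⟩ := Ideal.exists_minimalPrimes_le hJQ
  haveI : Q'.IsPrime := hQ'min.1.1
  have hQ'N : (⟨Q', inferInstance⟩ : PrimeSpectrum B) ∈ Module.support B N := by
    rw [Module.support_eq_zeroLocus]
    exact hQ'min.1.2
  rw [hsupp] at hQ'N
  refine ⟨⟨Q', inferInstance⟩, hQ'le, hQ'N.1, le_antisymm ?_ ?_⟩
  · intro a ha
    by_contra hap
    have hreg := isSMulRegular_quotient_of_flat A B M p'.asIdeal a hap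
    exact hreg.notMem_of_mem_minimalPrimes hQ'min ha
  · exact Ideal.map_le_iff_le_comap.mp hQ'N.2

end GD

end Groth.Agent.Lead.MFib
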