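import Mathlib
import Groth.Prelude
import Groth.Agent.Lib.Lead.MFib15
import Groth.Agent.Lib.Lead.MFib16

/-!
# The support of a flat finitely presented module maps openly to the base (lead)
-/

set_option autoImplicit false
set_option backward.isDefEq.respectTransparency.types false
set_option synthInstance.maxHeartbeats 400000
set_option linter.style.haveILetI false
set_option linter.unusedSectionVars false
universe u

open AlgebraicGeometry CategoryTheory CategoryTheory.Limits TopologicalSpace TensorProduct IsLocalRing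
open Topology

namespace Groth.Agent.Lead.MFib

open LocCoh EGA4 Groth.Agent.Lead.Coprof Groth.Agent.Lead.CMQF
open Groth.Agent.Lib.Helper4.FibDim1 Groth.Agent.Lead.SD Groth.Agent.Lead.RkCons Groth.Agent.Lead.FO
open Groth.Agent.Helper3.FibStalk

section Supp

variable {X Y : Scheme.{u}} (f : X ⟶ Y) [LocallyOfFinitePresentation f] (F : X.Modules)

/-- the support of the restrictions of `F` to the fibres -/
def Supp : Set X :=
  {x | Nontrivial (((Scheme.Modules.pullback (f.fiberι (f.base x))).obj F).presheaf.stalk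
    (f.asFiber x))}

theorem mem_Supp_iff_not_subsingleton (x : X) :
    x ∈ Supp f F ↔ ¬ Subsingleton (((Scheme.Modules.pullback (f.fiberι (f.base x))).obj
      F).presheaf.stalk (f.asFiber x)) := by
  unfold Supp
  rw [Set.mem_ofPred_eq, not_subsingleton_iff_nontrivial]

set_option maxHeartbeats 2000000 in
/-- chart description of the support -/
theorem mem_Supp_chart_iff [F.IsQuasicoherent] (hF : CohB1.IsFP F) {U : X.Opens}
    (hU : IsAffineOpen U) {V : Y.Opens} (hV : IsAffineOpen V) (hUV : U ≤ f ⁻¹ᵁ V)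
    (Q : PrimeSpectrum Γ(X, U)) :
    hU.fromSpec Q ∈ Supp f F ↔ Q ∈ Module.support Γ(X, U) Γ(F, U) := by
  letI algAB : Algebra Γ(Y, V) Γ(X, U) := (f.appLE V U hUV).hom.toAlgebra
  haveI : Module.FinitePresentation Γ(X, U) Γ(F, U) :=
    Groth.Agent.Lead.FP.fp_sections_of_isFP F hF hU
  haveI : Module.Finite Γ(X, U) Γ(F, U) := inferInstance
  set x := hU.fromSpec Q with hx
  have hfib : f.fiberι (f x) (f.asFiber x) = x := f.fiberι_asFiber x
  obtain ⟨σ, e, he⟩ := exists_fibre_module_equiv' f F (f x) (f.asFiber x) hU hV hUV Q hfib.symm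
  have key := subsingleton_fibLocMod_iff Γ(Y, V) Γ(X, U) Γ(F, U) Q
  rw [mem_Supp_iff_not_subsingleton]
  constructor
  · intro h
    by_contra hQ
    haveI := key.mpr hQ
    exact h e.symm.injective.subsingleton
  · intro hQ hsub
    exact (key.mp e.injective.subsingleton) hQ

theorem isClosed_Supp (hF : CohB1.IsFP F) : IsClosed (Supp f F) := by
  haveI : SheafOfModules.IsFinitePresentation (R := X.ringCatSheaf) F := hF
  haveI : F.IsQuasicoherent := inferInstance
  rw [← isOpen_compl_iff, isOpen_iff_forall_mem_open]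
  intro x₀ hx₀
  obtain ⟨U, hU, V, hV, hUV, N, ψ, hx₀U, -, hψC, hψ⟩ := exists_chart f x₀ 0
  letI algAB : Algebra Γ(Y, V) Γ(X, U) := (f.appLE V U hUV).hom.toAlgebra
  haveI : Module.FinitePresentation Γ(X, U) Γ(F, U) :=
    Groth.Agent.Lead.FP.fp_sections_of_isFP F hF hU
  haveI : Module.Finite Γ(X, U) Γ(F, U) := inferInstance
  have hopen : IsOpen (Module.support Γ(X, U) Γ(F, U))ᶜ :=
    (Module.isClosed_support).isOpen_compl
  refine ⟨hU.fromSpec '' (Module.support Γ(X, U) Γ(F, U))ᶜ, ?_,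
    hU.fromSpec.isOpenEmbedding.isOpenMap _ hopen, ?_⟩
  · rintro _ ⟨Q, hQ, rfl⟩
    intro hmem
    exact hQ ((mem_Supp_chart_iff f F hF hU hV hUV Q).mp hmem)
  · refine ⟨hU.primeIdealOf ⟨x₀, hx₀U⟩, ?_, hU.fromSpec_primeIdealOf ⟨x₀, hx₀U⟩⟩
    intro hmem
    apply hx₀
    have := (mem_Supp_chart_iff f F hF hU hV hUV _).mpr hmem
    rwa [hU.fromSpec_primeIdealOf ⟨x₀, hx₀U⟩] at this

theorem isLocallyConstructible_Supp (hF : CohB1.IsFP F) : IsLocallyConstructible (Supp f F) := by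
  haveI : SheafOfModules.IsFinitePresentation (R := X.ringCatSheaf) F := hF
  haveI : F.IsQuasicoherent := inferInstance
  apply isLocallyConstructible_of_charts
  intro x₀
  obtain ⟨U, hU, V, hV, hUV, N, ψ, hx₀, -, hψC, hψ⟩ := exists_chart f x₀ 0
  refine ⟨U, hU, hx₀, ?_⟩
  have h1 := Groth.Agent.Helper7.ProConsLib.isLocallyConstructible_compl
    (Groth.Agent.Helper7.ProConsLib.isLocallyConstructible_preimage hU.fromSpec
      (isLocallyConstructible_rectLE f F hF (N + 1)))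
  convert h1 using 1
  ext Q
  simp only [Set.mem_ofPred_eq, Set.mem_preimage, Set.mem_compl_iff]
  have hb := chart_bound f hU hV hUV N ψ hψC hψ F hF (N + 1) (Nat.lt_succ_self N) Q
  rw [mem_Supp_iff_not_subsingleton, hb]

end Supp

section OS

variable {X Y : Scheme.{u}} (f : X ⟶ Y) [LocallyOfFinitePresentation f] (F : X.Modules)

set_option maxHeartbeats 2000000 in
/-- chart form: the image of the support is open -/
theorem isOpen_image_Supp_chart [F.IsQuasicoherent] (hF : CohB1.IsFP F)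
    (hflat : FlatMod.IsFlatOver f F) {U : X.Opens}
    (hU : IsAffineOpen U) {V : Y.Opens} (hV : IsAffineOpen V) (hUV : U ≤ f ⁻¹ᵁ V) :
    IsOpen (f '' ((U : Set X) ∩ Supp f F)) := by
  letI algAB : Algebra Γ(Y, V) Γ(X, U) := (f.appLE V U hUV).hom.toAlgebra
  haveI : Algebra.FinitePresentation Γ(Y, V) Γ(X, U) :=
    HasRingHomProperty.appLE (P := @LocallyOfFinitePresentation) f inferInstance ⟨V, hV⟩ ⟨U, hU⟩ hUV
  haveI : Module.FinitePresentation Γ(X, U) Γ(F, U) :=
    Groth.Agent.Lead.FP.fp_sections_of_isFP F hF hU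
  haveI : Module.Finite Γ(X, U) Γ(F, U) := inferInstance
  letI m1 := sectionsOver f F hUV
  haveI t1 : IsScalarTower Γ(Y, V) Γ(X, U) Γ(F, U) :=
    IsScalarTower.of_algebraMap_smul fun r m => rfl
  haveI : Module.Flat Γ(Y, V) Γ(F, U) :=
    flat_sectionsOver_of_isFlatOverAt f F hU hV hUV (fun z => hflat z.1)
  set T : Set (PrimeSpectrum Γ(X, U)) := Module.support Γ(X, U) Γ(F, U) with hT
  -- constructibility of the support
  have h1 := Groth.Agent.Helper7.ProConsLib.isLocallyConstructible_preimage hU.fromSpec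
    (isLocallyConstructible_Supp f F hF)
  have hset : (hU.fromSpec ⁻¹' Supp f F : Set (Spec Γ(X, U))) = T := by
    ext Q
    exact mem_Supp_chart_iff f F hF hU hV hUV Q
  rw [hset] at h1
  have hTc : IsConstructible T := h1.isConstructible
  have hfp : (algebraMap Γ(Y, V) Γ(X, U)).FinitePresentation :=
    RingHom.finitePresentation_algebraMap.mpr inferInstance
  have himc := PrimeSpectrum.isConstructible_comap_image hfp hTc
  have hgen : StableUnderGeneralization
      (PrimeSpectrum.comap (algebraMap Γ(Y, V) Γ(X, U)) '' T) := by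
    rintro _ p' hsp ⟨Q, hQ, rfl⟩
    have hle : p'.asIdeal ≤ Q.asIdeal.comap (algebraMap Γ(Y, V) Γ(X, U)) :=
      (PrimeSpectrum.le_iff_specializes _ _).mpr hsp
    obtain ⟨Q', -, hQ', hQ'c⟩ :=
      exists_le_mem_support_of_flat Γ(Y, V) Γ(X, U) Γ(F, U) Q hQ p' hle
    exact ⟨Q', hQ', PrimeSpectrum.ext hQ'c⟩
  have hopen := PrimeSpectrum.isOpen_of_stableUnderGeneralization_of_isConstructible hgen himc
  have himg := hV.fromSpec.isOpenEmbedding.isOpenMap _ hopen
  convert himg using 1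
  have hsq : Spec.map (f.appLE V U hUV) ≫ hV.fromSpec = hU.fromSpec ≫ f :=
    IsAffineOpen.SpecMap_appLE_fromSpec f hV hU hUV
  have hpt : ∀ Q : Spec Γ(X, U), f (hU.fromSpec Q) =
      hV.fromSpec (PrimeSpectrum.comap (algebraMap Γ(Y, V) Γ(X, U)) Q) := by
    intro Q
    have := congrArg (fun k : (Spec Γ(X, U) ⟶ Y) => k Q) hsq
    exact this.symm
  ext y
  constructor
  · rintro ⟨x, ⟨hxU, hxS⟩, rfl⟩
    have hx : hU.fromSpec (hU.primeIdealOf ⟨x, hxU⟩) = x := hU.fromSpec_primeIdealOf ⟨x, hxU⟩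
    refine ⟨PrimeSpectrum.comap (algebraMap Γ(Y, V) Γ(X, U)) (hU.primeIdealOf ⟨x, hxU⟩),
      ⟨hU.primeIdealOf ⟨x, hxU⟩, ?_, rfl⟩, ?_⟩
    · rw [hT, ← mem_Supp_chart_iff f F hF hU hV hUV, hx]
      exact hxS
    · rw [← hpt, hx]
  · rintro ⟨_, ⟨Q, hQ, rfl⟩, rfl⟩
    refine ⟨hU.fromSpec Q, ⟨fromSpec_mem hU Q, ?_⟩, hpt Q⟩
    exact (mem_Supp_chart_iff f F hF hU hV hUV Q).mpr hQ

/-- **the support of a flat module of finite presentation maps openly to the base** -/
theorem isOpen_image_inter_Supp (hF : CohB1.IsFP F) (hflat : FlatMod.IsFlatOver f F)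
    (W : Set X) (hW : IsOpen W) : IsOpen (f '' (W ∩ Supp f F)) := by
  haveI : SheafOfModules.IsFinitePresentation (R := X.ringCatSheaf) F := hF
  haveI : F.IsQuasicoherent := inferInstance
  rw [isOpen_iff_forall_mem_open]
  rintro _ ⟨x₀, ⟨hx₀W, hx₀S⟩, rfl⟩
  obtain ⟨_, ⟨V, hV, rfl⟩, hxV, -⟩ :=
    Y.isBasis_affineOpens.exists_subset_of_mem_open (Set.mem_univ (f x₀)) isOpen_univ
  obtain ⟨_, ⟨U, hU, rfl⟩, hxU, hUsub⟩ :=
    X.isBasis_affineOpens.exists_subset_of_mem_open
      (show x₀ ∈ (f ⁻¹ᵁ V : Set X) ∩ W from ⟨hxV, hx₀W⟩) ((f ⁻¹ᵁ V).isOpen.inter hW)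
  have hUV : U ≤ f ⁻¹ᵁ V := fun x hx => (hUsub hx).1
  refine ⟨f '' ((U : Set X) ∩ Supp f F), ?_, isOpen_image_Supp_chart f F hF hflat hU hV hUV,
    ⟨x₀, ⟨hxU, hx₀S⟩, rfl⟩⟩
  rintro _ ⟨x, ⟨hxU', hxS⟩, rfl⟩
  exact ⟨x, ⟨(hUsub hxU').2, hxS⟩, rfl⟩

end OS

end Groth.Agent.Lead.MFib
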