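import Mathlib
import Groth.Prelude
import Groth.Agent.Lib.Lead.MFib17
import Groth.Agent.Lib.Helper4.LocNoethFib1

/-!
# Fibrewise maximal points of the support are associated points (lead)
-/

set_option autoImplicit false
set_option backward.isDefEq.respectTransparency.types false
set_option synthInstance.maxHeartbeats 400000
set_option linter.style.haveILetI false
set_option linter.unusedSectionVars false
universe u

open AlgebraicGeometry CategoryTheory CategoryTheory.Limits TopologicalSpace TensorProduct IsLocalRing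
open Topology

namespace Groth.Agent.Lead.MFib

open LocCoh EGA4 Groth.Agent.Lead.Coprof Groth.Agent.Lead.CMQF
open Groth.Agent.Lib.Helper4.FibDim1 Groth.Agent.Lead.SD Groth.Agent.Lead.RkCons Groth.Agent.Lead.FO
open Groth.Agent.Helper3.FibStalk Groth.Agent.Lead.SkLoc

section MaxAss

variable {X Y : Scheme.{u}} (f : X ⟶ Y) [LocallyOfFinitePresentation f] (F : X.Modules)

set_option maxHeartbeats 4000000 in
theorem supportDim_eq_zero_of_max_chart [F.IsQuasicoherent] (hF : CohB1.IsFP F) {U : X.Opens}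
    (hU : IsAffineOpen U) {V : Y.Opens} (hV : IsAffineOpen V) (hUV : U ≤ f ⁻¹ᵁ V)
    (Q : PrimeSpectrum Γ(X, U)) (hQS : hU.fromSpec Q ∈ Supp f F)
    (hmax : IsFibMax f (Supp f F) (hU.fromSpec Q)) :
    Module.supportDim ((f.fiber (f.base (hU.fromSpec Q))).presheaf.stalk
        (f.asFiber (hU.fromSpec Q)))
      (((Scheme.Modules.pullback (f.fiberι (f.base (hU.fromSpec Q)))).obj F).presheaf.stalk
        (f.asFiber (hU.fromSpec Q))) = 0 := by
  classical
  letI algAB : Algebra Γ(Y, V) Γ(X, U) := (f.appLE V U hUV).hom.toAlgebra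
  haveI : Algebra.FinitePresentation Γ(Y, V) Γ(X, U) :=
    HasRingHomProperty.appLE (P := @LocallyOfFinitePresentation) f inferInstance ⟨V, hV⟩ ⟨U, hU⟩ hUV
  haveI : Module.FinitePresentation Γ(X, U) Γ(F, U) :=
    Groth.Agent.Lead.FP.fp_sections_of_isFP F hF hU
  haveI : Module.Finite Γ(X, U) Γ(F, U) := inferInstance
  set J := Module.annihilator Γ(X, U) Γ(F, U) with hJ
  set ζ : Spec (CommRingCat.of (Γ(X, U) ⧸ J)) ⟶ Spec Γ(X, U) :=
    Spec.map (CommRingCat.ofHom (Ideal.Quotient.mk J)) with hζ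
  set hZ : Spec (CommRingCat.of (Γ(X, U) ⧸ J)) ⟶ Y :=
    Spec.map (CommRingCat.ofHom (algebraMap Γ(Y, V) (Γ(X, U) ⧸ J))) ≫ hV.fromSpec with hhZ
  haveI : IsClosedImmersion ζ :=
    IsClosedImmersion.spec_of_surjective _ Ideal.Quotient.mk_surjective
  have hcomp : hZ = ζ ≫ (hU.fromSpec ≫ f) := by
    rw [hhZ, hζ, ← IsAffineOpen.SpecMap_appLE_fromSpec f hV hU hUV, ← Spec.map_comp_assoc]
    rfl
  haveI : LocallyOfFiniteType hZ := by
    rw [hcomp]
    infer_instance
  have hdelta := delta_point f hU hV hUV F hF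
  have hrangeζ : ∀ Q' : Spec (CommRingCat.of (Γ(X, U) ⧸ J)),
      (ζ Q' : PrimeSpectrum Γ(X, U)) ∈ Module.support Γ(X, U) Γ(F, U) := by
    intro Q'
    rw [Module.support_eq_zeroLocus]
    have h1 : Set.range (PrimeSpectrum.comap (Ideal.Quotient.mk J)) =
        PrimeSpectrum.zeroLocus (RingHom.ker (Ideal.Quotient.mk J)) :=
      _root_.range_comap_of_surjective _ _ Ideal.Quotient.mk_surjective
    rw [Ideal.mk_ker] at h1
    rw [← h1]
    exact ⟨Q', rfl⟩
  have hQsupp : Q ∈ Module.support Γ(X, U) Γ(F, U) :=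
    (mem_Supp_chart_iff f F hF hU hV hUV Q).mp hQS
  obtain ⟨Q', hQ'⟩ : ∃ Q', ζ Q' = Q := by
    rw [Module.support_eq_zeroLocus] at hQsupp
    have h1 : Set.range (PrimeSpectrum.comap (Ideal.Quotient.mk J)) =
        PrimeSpectrum.zeroLocus (RingHom.ker (Ideal.Quotient.mk J)) :=
      _root_.range_comap_of_surjective _ _ Ideal.Quotient.mk_surjective
    rw [Ideal.mk_ker] at h1
    have h2 : Q ∈ Set.range (PrimeSpectrum.comap (Ideal.Quotient.mk J)) := by
      rw [h1]; exact hQsupp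
    obtain ⟨Q', hQ'⟩ := h2
    exact ⟨Q', hQ'⟩
  subst hQ'
  -- maximality upstairs
  have hmaxZ : ∀ Q'' : Spec (CommRingCat.of (Γ(X, U) ⧸ J)), hZ Q'' = hZ Q' → Q'' ⤳ Q' →
      Q'' = Q' := by
    intro Q'' hfib hsp
    have hz : hU.fromSpec (ζ Q'') ∈ Supp f F :=
      (mem_Supp_chart_iff f F hF hU hV hUV (ζ Q'')).mpr (hrangeζ Q'')
    have hsp' : hU.fromSpec (ζ Q'') ⤳ hU.fromSpec (ζ Q') :=
      (hsp.map ζ.continuous).map hU.fromSpec.continuous
    have hfz : f (hU.fromSpec (ζ Q'')) = f (hU.fromSpec (ζ Q')) := by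
      have e1 : hZ Q'' = f (hU.fromSpec (ζ Q'')) := by rw [hcomp]; rfl
      have e2 : hZ Q' = f (hU.fromSpec (ζ Q')) := by rw [hcomp]; rfl
      rw [← e1, ← e2, hfib]
    have := hmax _ hz hsp' hfz
    exact ζ.isClosedEmbedding.injective (hU.fromSpec.isOpenEmbedding.injective this)
  have h1 := Groth.Agent.Lib.Helper4.LocNoethFib1.fibreDimAt_eq_tr_of_max hZ Q' hmaxZ
  have htr : tr hZ Q' = tr f (hU.fromSpec (ζ Q')) := by
    have h2 := Groth.Agent.Lib.Helper4.Equi10.tr_comp_closedImmersion (hU.fromSpec ≫ f) ζ Q'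
    have h3 := Groth.Agent.Lib.Helper4.JacDim1.tr_comp hU.fromSpec f (ζ Q')
    rw [Groth.Agent.Lib.Helper4.Chev10.tr_of_surjectiveOnStalks hU.fromSpec (ζ Q'), add_zero] at h3
    rw [← h3, ← h2]
    congr 1
  have h4 := hdelta Q'
  rw [h1, htr] at h4
  apply Groth.Agent.Lib.Helper4.FibDim1.add_natCast_cancel _ _ (tr f (hU.fromSpec (ζ Q')))
  rw [zero_add]
  exact h4

theorem isAssAt_of_max (hF : CohB1.IsFP F) (x : X) (hx : x ∈ Supp f F)
    (hmax : IsFibMax f (Supp f F) x) : IsAssAt f F x := by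
  haveI : SheafOfModules.IsFinitePresentation (R := X.ringCatSheaf) F := hF
  haveI : F.IsQuasicoherent := inferInstance
  obtain ⟨U, hU, V, hV, hUV, N, ψ, hxU, -, hψC, hψ⟩ := exists_chart f x 0
  have hQ : hU.fromSpec (hU.primeIdealOf ⟨x, hxU⟩) = x := hU.fromSpec_primeIdealOf ⟨x, hxU⟩
  have h0 := supportDim_eq_zero_of_max_chart f F hF hU hV hUV (hU.primeIdealOf ⟨x, hxU⟩)
    (by rw [hQ]; exact hx) (by rw [hQ]; exact hmax)
  rw [hQ] at h0
  rw [isAssAt_iff_depth f F hF x]
  haveI : IsLocallyNoetherian (f.fiber (f x)) := isLocallyNoetherian_fiber f (f x)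
  haveI := finite_fibre_stalk f F hF x
  haveI : Nontrivial (((Scheme.Modules.pullback (f.fiberι (f.base x))).obj F).presheaf.stalk
    (f.asFiber x)) := hx
  have h1 := Groth.Agent.Helper8.Depth.depth_le_supportDim
    (A := (f.fiber (f.base x)).presheaf.stalk (f.asFiber x))
    (M := ((Scheme.Modules.pullback (f.fiberι (f.base x))).obj F).presheaf.stalk (f.asFiber x))
  rw [h0] at h1
  have h2 : LocCoh.depth ((f.fiber (f.base x)).presheaf.stalk (f.asFiber x))
      (((Scheme.Modules.pullback (f.fiberι (f.base x))).obj F).presheaf.stalk (f.asFiber x)) ≤ 0 := by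
    exact_mod_cast h1
  exact le_antisymm h2 bot_le

end MaxAss

end Groth.Agent.Lead.MFib
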