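import Mathlib
import Groth.Prelude
import Groth.Agent.Lib.Helper4.GenMap2

/-!
# Irreducible components and dimensions of closed subspaces of quasi-sober spaces (lead)
-/

set_option autoImplicit false
set_option linter.style.haveILetI false
set_option linter.unusedSectionVars false
universe u

open Topology TopologicalSpace

namespace Groth.Agent.Lead.MFib

section Top

variable {T : Type*} [TopologicalSpace T] [QuasiSober T]

theorem exists_max_closure_eq (Z : Set T) (hZ : Z ∈ irreducibleComponents T) :
    ∃ w : T, (∀ b : T, b ⤳ w → w ⤳ b) ∧ closure ({w} : Set T) = Z := by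
  have hirr : IsIrreducible Z := hZ.1
  have hcl : IsClosed Z := isClosed_of_mem_irreducibleComponents Z hZ
  have hgen : IsGenericPoint hirr.genericPoint Z := hirr.isGenericPoint_genericPoint hcl
  refine ⟨hirr.genericPoint, ?_, hgen.def⟩
  intro b hb
  have h1 : Z ⊆ closure {b} := by
    rw [← hgen.def]
    exact closure_minimal (Set.singleton_subset_iff.mpr hb.mem_closure) isClosed_closure
  have h2 : closure {b} ⊆ Z := hZ.2 (isIrreducible_singleton.closure) h1
  apply hgen.specializes
  exact h2 (subset_closure (Set.mem_singleton b))

theorem closure_mem_irreducibleComponents_of_max (w : T) (hw : ∀ b : T, b ⤳ w → w ⤳ b) :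
    closure ({w} : Set T) ∈ irreducibleComponents T := by
  refine ⟨isIrreducible_singleton.closure, ?_⟩
  intro S hS hle
  have hScl : IsIrreducible (closure S) := hS.closure
  have hgen : IsGenericPoint hScl.genericPoint (closure S) :=
    hScl.isGenericPoint_genericPoint isClosed_closure
  have hwS : w ∈ closure S := subset_closure (hle (subset_closure (Set.mem_singleton w)))
  have h1 : hScl.genericPoint ⤳ w := hgen.specializes hwS
  have h2 : w ⤳ hScl.genericPoint := hw _ h1
  intro a ha
  have h3 : hScl.genericPoint ⤳ a := hgen.specializes (subset_closure ha)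
  exact (h2.trans h3).mem_closure

end Top

section Sub

variable {F : Type*} [TopologicalSpace F] (S : Set F) (hS : IsClosed S)

theorem closure_singleton_subtype (t : S) :
    closure ({t} : Set S) = Subtype.val ⁻¹' closure ({t.1} : Set F) := by
  rw [Topology.IsInducing.subtypeVal.closure_eq_preimage_closure_image, Set.image_singleton]

include hS in
theorem dim_closure_subtype (t : S) :
    topologicalKrullDim ↥(closure ({t} : Set S)) =
      topologicalKrullDim ↥(closure ({t.1} : Set F)) := by
  have hsub : closure ({t.1} : Set F) ⊆ S :=
    closure_minimal (Set.singleton_subset_iff.mpr t.2) hS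
  apply le_antisymm
  · let g : ↥(closure ({t} : Set S)) → ↥(closure ({t.1} : Set F)) := fun a =>
      ⟨a.1.1, by
        have h1 : a.1 ∈ closure ({t} : Set S) := a.2
        have h2 : a.1 ∈ Subtype.val ⁻¹' closure ({t.1} : Set F) :=
          (closure_singleton_subtype S t) ▸ h1
        exact h2⟩
    have hg : Continuous g :=
      Continuous.subtype_mk (continuous_subtype_val.comp continuous_subtype_val) _
    have hcomp : IsInducing (Subtype.val ∘ g) := by
      have : (Subtype.val ∘ g) = (Subtype.val ∘ Subtype.val) := rfl
      rw [this]
      exact IsInducing.subtypeVal.comp IsInducing.subtypeVal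
    exact (IsInducing.of_comp hg continuous_subtype_val hcomp).topologicalKrullDim_le
  · let g : ↥(closure ({t.1} : Set F)) → ↥(closure ({t} : Set S)) := fun c =>
      ⟨⟨c.1, hsub c.2⟩, by
        have h2 : (⟨c.1, hsub c.2⟩ : S) ∈ Subtype.val ⁻¹' closure ({t.1} : Set F) := c.2
        exact (closure_singleton_subtype S t).symm ▸ h2⟩
    have hg : Continuous g :=
      Continuous.subtype_mk (Continuous.subtype_mk continuous_subtype_val _) _
    have hcomp : IsInducing ((Subtype.val ∘ Subtype.val) ∘ g) := by
      have : ((Subtype.val ∘ Subtype.val) ∘ g) = Subtype.val := rfl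
      rw [this]
      exact IsInducing.subtypeVal
    exact (IsInducing.of_comp hg (continuous_subtype_val.comp continuous_subtype_val)
      hcomp).topologicalKrullDim_le

end Sub

end Groth.Agent.Lead.MFib
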