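import Mathlib
import Groth.Prelude
import Groth.Agent.Lib.Helper4.GenMap2

/-!
# A bound for the dimension of a quasi-sober space by a strictly monotone function (lead)
-/

set_option autoImplicit false
set_option linter.style.haveILetI false
set_option linter.unusedSectionVars false
universe u

open Topology TopologicalSpace

namespace Groth.Agent.Lead.MFib

theorem natCast_withBot_le (n E : ℕ) (h : n ≤ E) :
    ((n : ℕ∞) : WithBot ℕ∞) ≤ (E : WithBot ℕ∞) := by
  have h3 : (n : ℕ∞) ≤ (E : ℕ∞) := by exact_mod_cast h
  exact WithBot.coe_le_coe.mpr h3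

attribute [local instance] specializationOrder in
theorem topologicalKrullDim_le_of_strictMono_nat {T : Type*} [TopologicalSpace T] [QuasiSober T]
    [T0Space T] (g : T → ℕ) (E : ℕ) (hg : ∀ a b : T, b ⤳ a → a ≠ b → g a < g b)
    (hE : ∀ a, g a ≤ E) : topologicalKrullDim T ≤ (E : WithBot ℕ∞) := by
  rw [Groth.Agent.Helper4.GM.topologicalKrullDim_eq_krullDim_specialization]
  unfold Order.krullDim
  refine iSup_le fun p => ?_
  have key : ∀ i : Fin (p.length + 1), (i : ℕ) ≤ g (p i) := by
    intro i
    induction i using Fin.induction with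
    | zero => simp
    | succ i ih =>
      have hlt : p i.castSucc < p i.succ := p.step i
      rw [lt_iff_le_not_ge] at hlt
      have hsp : p i.succ ⤳ p i.castSucc := hlt.1
      have hne : p i.castSucc ≠ p i.succ := by
        intro h
        apply hlt.2
        rw [h]
      have h1 := hg _ _ hsp hne
      rw [Fin.val_succ]
      have : (i.castSucc : ℕ) = (i : ℕ) := rfl
      omega
  have h1 := key (Fin.last _)
  have h2 := hE (p (Fin.last _))
  rw [Fin.val_last] at h1
  exact natCast_withBot_le _ _ (h1.trans h2)

theorem topologicalKrullDim_eq_bot_of_isEmpty {T : Type*} [TopologicalSpace T] [IsEmpty T] :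
    topologicalKrullDim T = ⊥ := by
  haveI : IsEmpty (IrreducibleCloseds T) :=
    ⟨fun s => s.isIrreducible'.1.elim (fun a _ => isEmptyElim a)⟩
  unfold topologicalKrullDim
  exact Order.krullDim_eq_bot

end Groth.Agent.Lead.MFib
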