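import Mathlib
import Groth.Prelude
import Groth.Agent.Lib.Lead.MFib18
import Groth.Agent.Lib.Lead.MFib19
import Groth.Agent.Lib.Lead.MFib19b

/-!
# Dimensions of the supports of the fibres of a flat module (lead)
-/

set_option autoImplicit false
set_option backward.isDefEq.respectTransparency.types false
set_option synthInstance.maxHeartbeats 400000
set_option linter.style.haveILetI false
set_option linter.unusedSectionVars false
universe u

open AlgebraicGeometry CategoryTheory CategoryTheory.Limits TopologicalSpace TensorProduct IsLocalRing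
open Topology

namespace Groth.Agent.Lead.MFib

open LocCoh EGA4 Groth.Agent.Lead.Coprof Groth.Agent.Lead.CMQF
open Groth.Agent.Lib.Helper4.FibDim1 Groth.Agent.Lead.SD Groth.Agent.Lead.RkCons Groth.Agent.Lead.FO
open Groth.Agent.Helper3.FibStalk Groth.Agent.Lead.SkLoc

section Sy

variable {X Y : Scheme.{u}} (f : X ⟶ Y) [LocallyOfFinitePresentation f] (F : X.Modules)

/-- the support of the restriction of `F` to the fibre over `y` -/
def Sy (y : Y) : Set ↥(f.fiber y) :=
  {z | Nontrivial (((Scheme.Modules.pullback (f.fiberι y)).obj F).presheaf.stalk z)}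

theorem mem_Sy_iff (y : Y) (z : f.fiber y) : z ∈ Sy f F y ↔ f.fiberι y z ∈ Supp f F :=
  fiber_pred_iff f
    (fun y w => Nontrivial (((Scheme.Modules.pullback (f.fiberι y)).obj F).presheaf.stalk w)) y z

theorem isClosed_Sy (hF : CohB1.IsFP F) (y : Y) : IsClosed (Sy f F y) := by
  have h : Sy f F y = (f.fiberι y) ⁻¹' Supp f F := by
    ext z
    exact mem_Sy_iff f F y z
  rw [h]
  exact (isClosed_Supp f F hF).preimage (f.fiberι y).continuous

theorem exists_fibre_point (y : Y) (x : X) (hx : f x = y) : ∃ z : f.fiber y, f.fiberι y z = x := by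
  have hmem : x ∈ Set.range (f.fiberι y) := by
    rw [f.range_fiberι y]; exact hx
  exact hmem

/-- a lower bound for the dimension of the support of a fibre -/
theorem tr_le_dim_Sy (hF : CohB1.IsFP F) (y : Y) (z : f.fiber y) (hz : z ∈ Sy f F y) :
    ((tr f (f.fiberι y z) : ℕ) : WithBot ℕ∞) ≤ topologicalKrullDim ↥(Sy f F y) := by
  rw [← dim_closure_fiber f y z]
  have hsub : closure ({z} : Set ↥(f.fiber y)) ⊆ Sy f F y :=
    closure_minimal (Set.singleton_subset_iff.mpr hz) (isClosed_Sy f F hF y)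
  exact (Topology.IsEmbedding.inclusion hsub).isInducing.topologicalKrullDim_le

/-- an upper bound for the dimension of the support of a fibre -/
theorem dim_Sy_le (hF : CohB1.IsFP F) (y : Y) (E : ℕ)
    (hE : ∀ z ∈ Sy f F y, tr f (f.fiberι y z) ≤ E) :
    topologicalKrullDim ↥(Sy f F y) ≤ (E : WithBot ℕ∞) := by
  haveI : QuasiSober ↥(Sy f F y) := (isClosed_Sy f F hF y).isClosedEmbedding_subtypeVal.quasiSober
  refine topologicalKrullDim_le_of_strictMono_nat
    (fun a : ↥(Sy f F y) => tr f (f.fiberι y a.1)) E ?_ (fun a => hE a.1 a.2)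
  intro a b hsp0 hne0
  have hsp1 : b.1 ⤳ a.1 := (Topology.IsInducing.subtypeVal.specializes_iff).mpr hsp0
  have hsp : f.fiberι y b.1 ⤳ f.fiberι y a.1 := hsp1.map (f.fiberι y).continuous
  have hne : f.fiberι y b.1 ≠ f.fiberι y a.1 := by
    intro h
    exact hne0 (Subtype.ext ((f.fiberι y).isEmbedding.injective h)).symm
  exact tr_lt_of_specializes f _ _ hsp hne
    ((apply_fiberι f y _).trans (apply_fiberι f y _).symm)

theorem dim_Sy_eq_bot (y : Y) (h : ∀ x ∈ Supp f F, f x ≠ y) :
    topologicalKrullDim ↥(Sy f F y) = ⊥ := by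
  haveI : IsEmpty ↥(Sy f F y) := by
    constructor
    rintro ⟨z, hz⟩
    exact h _ ((mem_Sy_iff f F y z).mp hz) (apply_fiberι f y z)
  exact topologicalKrullDim_eq_bot_of_isEmpty

/-- irreducible components of the support of a fibre and fibrewise maximal points -/
theorem exists_irreducibleComponent_iff (hF : CohB1.IsFP F) (y : Y) (n : ℕ) :
    (∃ Z ∈ irreducibleComponents ↥(Sy f F y), topologicalKrullDim ↥Z = (n : WithBot ℕ∞)) ↔
      ∃ x ∈ Supp f F, f x = y ∧ IsFibMax f (Supp f F) x ∧ tr f x = n := by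
  haveI : QuasiSober ↥(Sy f F y) := (isClosed_Sy f F hF y).isClosedEmbedding_subtypeVal.quasiSober
  have hcl := isClosed_Sy f F hF y
  constructor
  · rintro ⟨Z, hZ, hdim⟩
    obtain ⟨w, hw, rfl⟩ := exists_max_closure_eq Z hZ
    refine ⟨f.fiberι y w.1, (mem_Sy_iff f F y w.1).mp w.2, apply_fiberι f y w.1, ?_, ?_⟩
    · intro z' hz'S hz'sp hz'f
      obtain ⟨b, rfl⟩ := exists_fibre_point f y z' (hz'f.trans (apply_fiberι f y w.1))
      have hb : b ∈ Sy f F y := (mem_Sy_iff f F y b).mpr hz'S
      have h1 : b ⤳ w.1 := ((f.fiberι y).isEmbedding.isInducing.specializes_iff).mp hz'sp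
      have h2 : (⟨b, hb⟩ : ↥(Sy f F y)) ⤳ w :=
        (Topology.IsInducing.subtypeVal.specializes_iff).mp h1
      have h3 : w ⤳ ⟨b, hb⟩ := hw _ h2
      have h4 : (⟨b, hb⟩ : ↥(Sy f F y)) = w := (h2.antisymm h3).eq
      rw [← h4]
    · rw [dim_closure_subtype _ hcl w, dim_closure_fiber f y w.1] at hdim
      exact_mod_cast hdim
  · rintro ⟨x, hxS, hxy, hmax, htr⟩
    obtain ⟨z, rfl⟩ := exists_fibre_point f y x hxy
    have hz : z ∈ Sy f F y := (mem_Sy_iff f F y z).mpr hxS
    refine ⟨closure ({⟨z, hz⟩} : Set ↥(Sy f F y)),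
      closure_mem_irreducibleComponents_of_max _ ?_, ?_⟩
    · intro b hb
      have h1 : b.1 ⤳ z := (Topology.IsInducing.subtypeVal.specializes_iff).mpr hb
      have h2 : f.fiberι y b.1 ⤳ f.fiberι y z := h1.map (f.fiberι y).continuous
      have h3 := hmax _ ((mem_Sy_iff f F y b.1).mp b.2) h2
        ((apply_fiberι f y _).trans (apply_fiberι f y _).symm)
      have h4 : b = ⟨z, hz⟩ := Subtype.ext ((f.fiberι y).isEmbedding.injective h3)
      rw [h4]
    · rw [dim_closure_subtype _ hcl ⟨z, hz⟩, dim_closure_fiber f y z, htr]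

end Sy

end Groth.Agent.Lead.MFib
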