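import Mathlib
import Groth.Prelude
import Groth.Agent.Lib.Lead.MFib20

/-!
# Openness of conditions on the dimensions of the components of the supports of the fibres of
a flat module (lead)
-/

set_option autoImplicit false
set_option backward.isDefEq.respectTransparency.types false
set_option synthInstance.maxHeartbeats 400000
set_option linter.style.haveILetI false
set_option linter.unusedSectionVars false
universe u

open AlgebraicGeometry CategoryTheory CategoryTheory.Limits TopologicalSpace TensorProduct IsLocalRing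
open Topology

namespace Groth.Agent.Lead.MFib

open LocCoh EGA4 Groth.Agent.Lead.Coprof Groth.Agent.Lead.CMQF
open Groth.Agent.Lib.Helper4.FibDim1 Groth.Agent.Lead.SD Groth.Agent.Lead.RkCons Groth.Agent.Lead.FO
open Groth.Agent.Helper3.FibStalk Groth.Agent.Lead.SkLoc

section Bound

variable {X Y : Scheme.{u}} (f : X ⟶ Y) [LocallyOfFiniteType f]

theorem exists_tr_bound [QuasiCompact f] (y : Y) : ∃ E : ℕ, ∀ x : X, f x = y → tr f x ≤ E := by
  have hc : IsCompact (f ⁻¹' {y}) := f.isCompact_preimage_singleton y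
  choose d hd O hxO hO using fun x : X =>
    Groth.Agent.Lib.Helper4.Chev2.exists_open_fibreDimAt_le f x
  obtain ⟨t, -, ht⟩ := hc.elim_nhds_subcover (fun x => (O x : Set X))
    (fun x _ => (O x).isOpen.mem_nhds (hxO x))
  refine ⟨t.sup d, fun x hx => ?_⟩
  obtain ⟨x', hx't, hxO'⟩ := Set.mem_iUnion₂.mp (ht hx)
  have h1 := hO x' x hxO'
  have h2 := Groth.Agent.Lib.Helper4.FibDimComp1.tr_le_fibreDimAt' f x
  have h3 : tr f x ≤ d x' := by exact_mod_cast h2.trans h1
  exact h3.trans (Finset.le_sup hx't)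

end Bound

section Main

variable {X Y : Scheme.{u}} (f : X ⟶ Y) [LocallyOfFinitePresentation f] (F : X.Modules)

/-- the base points over which the support of the fibre has a fibrewise maximal point of residual
transcendence degree `n` -/
def CompDim (n : ℕ) : Set Y :=
  {y | ∃ x ∈ Supp f F, f x = y ∧ IsFibMax f (Supp f F) x ∧ tr f x = n}

theorem rectLE_of_mem_Supp_of_le (n : ℕ) (x : X) (h : n ≤ tr f x) : RectLE f F n x := by
  rw [rectLE_iff]
  refine le_trans ?_ (tr_le_rect f F x)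
  exact_mod_cast h

theorem isOpen_CompDim (hF : CohB1.IsFP F) (hflat : FlatMod.IsFlatOver f F) (n : ℕ) :
    IsOpen (CompDim f F n) := by
  rw [isOpen_iff_forall_mem_open]
  rintro y₀ ⟨x₀, hx₀S, rfl, hmax, htr⟩
  have hSc := isClosed_Supp f F hF
  set W : Set X := {x | RectLE f F n x} ∩ (trGE f (Supp f F) (n + 1))ᶜ with hW
  have hWo : IsOpen W :=
    (isOpen_rectLE f F hF hflat n).inter (isClosed_trGE f _ hSc (n + 1)).isOpen_compl
  have hx₀W : x₀ ∈ W := by
    refine ⟨rectLE_of_mem_Supp_of_le f F n x₀ htr.ge, ?_⟩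
    rintro ⟨z, hzS, hsp, hfz, hn⟩
    have := hmax z hzS hsp hfz
    rw [this, htr] at hn
    omega
  refine ⟨f '' (W ∩ Supp f F), ?_, isOpen_image_inter_Supp f F hF hflat W hWo,
    ⟨x₀, ⟨hx₀W, hx₀S⟩, rfl⟩⟩
  rintro _ ⟨x, ⟨hxW, hxS⟩, rfl⟩
  obtain ⟨ζ, hζS, hζsp, hζf, hζmax⟩ := exists_fibMax_ge f (Supp f F) hSc x hxS
  have hζW : ζ ∈ W := hζsp.mem_open hWo hxW
  have hass := isAssAt_of_max f F hF ζ hζS hζmax
  have h1 : rect f F ζ = (tr f ζ : ℕ∞) := (isAssAt_iff_rect f F hF ζ).mp hass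
  have h2 : (n : ℕ∞) ≤ rect f F ζ := (rectLE_iff f F n ζ).mp hζW.1
  rw [h1] at h2
  have h3 : n ≤ tr f ζ := by exact_mod_cast h2
  have h4 : ¬ (n + 1 ≤ tr f ζ) := fun h => hζW.2 ⟨ζ, hζS, specializes_rfl, rfl, h⟩
  exact ⟨ζ, hζS, hζf, hζmax, by omega⟩

/-- the dimension of an irreducible component of the support of a fibre -/
theorem dim_irreducibleComponent (hF : CohB1.IsFP F) (y : Y) (Z : Set ↥(Sy f F y))
    (hZ : Z ∈ irreducibleComponents ↥(Sy f F y)) :
    ∃ x ∈ Supp f F, f x = y ∧ IsFibMax f (Supp f F) x ∧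
      topologicalKrullDim ↥Z = ((tr f x : ℕ) : WithBot ℕ∞) := by
  haveI : QuasiSober ↥(Sy f F y) := (isClosed_Sy f F hF y).isClosedEmbedding_subtypeVal.quasiSober
  have hcl := isClosed_Sy f F hF y
  obtain ⟨w, hw, rfl⟩ := exists_max_closure_eq Z hZ
  refine ⟨f.fiberι y w.1, (mem_Sy_iff f F y w.1).mp w.2, apply_fiberι f y w.1, ?_, ?_⟩
  · intro z' hz'S hz'sp hz'f
    obtain ⟨b, rfl⟩ := exists_fibre_point f y z' (hz'f.trans (apply_fiberι f y w.1))
    have hb : b ∈ Sy f F y := (mem_Sy_iff f F y b).mpr hz'S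
    have h1 : b ⤳ w.1 := ((f.fiberι y).isEmbedding.isInducing.specializes_iff).mp hz'sp
    have h2 : (⟨b, hb⟩ : ↥(Sy f F y)) ⤳ w :=
      (Topology.IsInducing.subtypeVal.specializes_iff).mp h1
    have h3 : w ⤳ ⟨b, hb⟩ := hw _ h2
    have h4 : (⟨b, hb⟩ : ↥(Sy f F y)) = w := (h2.antisymm h3).eq
    rw [← h4]
  · rw [dim_closure_subtype _ hcl w, dim_closure_fiber f y w.1]

theorem S4965_iff (hF : CohB1.IsFP F) (Φ : Finset ℕ) (y : Y) :
    (∀ n ∈ Φ, ∃ Z ∈ irreducibleComponents ↥{z : ↥(f.fiber y) |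
      Nontrivial (((Scheme.Modules.pullback (f.fiberι y)).obj F).presheaf.stalk z)},
      topologicalKrullDim ↥Z = (n : WithBot ℕ∞)) ↔ ∀ n ∈ Φ, y ∈ CompDim f F n := by
  refine forall₂_congr fun n _ => ?_
  exact exists_irreducibleComponent_iff f F hF y n

/-- **S4965** -/
theorem S4965_main (hF : CohB1.IsFP F) (hflat : FlatMod.IsFlatOver f F) (Φ : Finset ℕ) :
    IsOpen {y : Y | ∀ n ∈ Φ, ∃ Z ∈ irreducibleComponents ↥{z : ↥(f.fiber y) |
      Nontrivial (((Scheme.Modules.pullback (f.fiberι y)).obj F).presheaf.stalk z)},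
      topologicalKrullDim ↥Z = (n : WithBot ℕ∞)} := by
  have h : IsOpen (⋂ n ∈ Φ, CompDim f F n) :=
    isOpen_biInter_finset fun n _ => isOpen_CompDim f F hF hflat n
  convert h using 1
  ext y
  rw [Set.mem_iInter₂]
  exact S4965_iff f F hF Φ y

end Main

end Groth.Agent.Lead.MFib
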