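import Mathlib
import Groth.Prelude
import Groth.Agent.Lib.Lead.MFib21

/-!
# Local constancy of the dimension of the support of the fibres; the case without embedded
components (lead)
-/

set_option autoImplicit false
set_option backward.isDefEq.respectTransparency.types false
set_option synthInstance.maxHeartbeats 400000
set_option linter.style.haveILetI false
set_option linter.unusedSectionVars false
universe u

open AlgebraicGeometry CategoryTheory CategoryTheory.Limits TopologicalSpace TensorProduct IsLocalRing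
open Topology

namespace Groth.Agent.Lead.MFib

open LocCoh EGA4 Groth.Agent.Lead.Coprof Groth.Agent.Lead.CMQF
open Groth.Agent.Lib.Helper4.FibDim1 Groth.Agent.Lead.SD Groth.Agent.Lead.RkCons Groth.Agent.Lead.FO
open Groth.Agent.Helper3.FibStalk Groth.Agent.Lead.SkLoc

section Main

variable {X Y : Scheme.{u}} (f : X ⟶ Y) [LocallyOfFinitePresentation f] (F : X.Modules)

theorem mem_Supp_of_isAssAt (hF : CohB1.IsFP F) (x : X) (h : IsAssAt f F x) : x ∈ Supp f F := by
  rw [mem_Supp_iff_not_subsingleton]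
  intro hsub
  rw [isAssAt_iff_depth f F hF x, Groth.Agent.Helper8.Depth.depth_eq_top_of_subsingleton] at h
  exact absurd h (by simp)

set_option maxHeartbeats 1000000 in
/-- **S4969** -/
theorem S4969_main [IsProper f] (hF : CohB1.IsFP F) (hflat : FlatMod.IsFlatOver f F) :
    IsLocallyConstant (fun y : Y => topologicalKrullDim ↥{z : ↥(f.fiber y) |
      Nontrivial (((Scheme.Modules.pullback (f.fiberι y)).obj F).presheaf.stalk z)}) := by
  classical
  change IsLocallyConstant (fun y : Y => topologicalKrullDim ↥(Sy f F y))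
  rw [IsLocallyConstant.iff_exists_open]
  intro y₀
  have hSc := isClosed_Supp f F hF
  by_cases hne : ∃ x ∈ Supp f F, f x = y₀
  · obtain ⟨E, hE⟩ := exists_tr_bound f y₀
    let P : ℕ → Prop := fun m => ∃ x ∈ Supp f F, f x = y₀ ∧ tr f x = m
    obtain ⟨x₁, hx₁S, hx₁y⟩ := hne
    have hP1 : P (tr f x₁) := ⟨x₁, hx₁S, hx₁y, rfl⟩
    set n := Nat.findGreatest P E with hn
    have hPn : P n := Nat.findGreatest_spec (hE x₁ hx₁y) hP1
    have hmaxn : ∀ x ∈ Supp f F, f x = y₀ → tr f x ≤ n := fun x hx hxy =>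
      Nat.le_findGreatest (hE x hxy) ⟨x, hx, hxy, rfl⟩
    obtain ⟨x₂, hx₂S, hx₂y, hx₂tr⟩ := hPn
    have hD0 : topologicalKrullDim ↥(Sy f F y₀) = ((n : ℕ) : WithBot ℕ∞) := by
      apply le_antisymm
      · exact dim_Sy_le f F hF y₀ n
          (fun z hz => hmaxn _ ((mem_Sy_iff f F y₀ z).mp hz) (apply_fiberι f y₀ z))
      · obtain ⟨z, hz⟩ := exists_fibre_point f y₀ x₂ hx₂y
        have := tr_le_dim_Sy f F hF y₀ z ((mem_Sy_iff f F y₀ z).mpr (hz ▸ hx₂S))
        rw [hz, hx₂tr] at this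
        exact this
    set W : Set X := {x | RectLE f F n x} with hW
    have hWo : IsOpen W := isOpen_rectLE f F hF hflat n
    have hO₁ := isOpen_image_inter_Supp f F hF hflat W hWo
    have hO₂ : IsOpen (f '' trGE f (Supp f F) (n + 1))ᶜ :=
      (f.isClosedMap _ (isClosed_trGE f _ hSc (n + 1))).isOpen_compl
    refine ⟨f '' (W ∩ Supp f F) ∩ (f '' trGE f (Supp f F) (n + 1))ᶜ, hO₁.inter hO₂,
      ⟨⟨x₂, ⟨rectLE_of_mem_Supp_of_le f F n x₂ hx₂tr.ge, hx₂S⟩, hx₂y⟩, ?_⟩, ?_⟩
    · rintro ⟨x, ⟨z, hzS, hsp, hfz, hn1⟩, hxy⟩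
      have := hmaxn z hzS (hfz.trans hxy)
      omega
    · rintro y ⟨⟨x, ⟨hxW, hxS⟩, rfl⟩, hy2⟩
      show topologicalKrullDim ↥(Sy f F (f x)) = topologicalKrullDim ↥(Sy f F y₀)
      rw [hD0]
      apply le_antisymm
      · apply dim_Sy_le f F hF (f x) n
        intro z hz
        by_contra hlt
        apply hy2
        refine ⟨f.fiberι (f x) z, ⟨f.fiberι (f x) z, (mem_Sy_iff f F (f x) z).mp hz,
          specializes_rfl, rfl, by omega⟩, apply_fiberι f (f x) z⟩
      · obtain ⟨ζ, hζS, hζsp, hζf, hζmax⟩ := exists_fibMax_ge f (Supp f F) hSc x hxS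
        have hζW : ζ ∈ W := hζsp.mem_open hWo hxW
        have hass := isAssAt_of_max f F hF ζ hζS hζmax
        have h1 : rect f F ζ = (tr f ζ : ℕ∞) := (isAssAt_iff_rect f F hF ζ).mp hass
        have h2 : (n : ℕ∞) ≤ rect f F ζ := (rectLE_iff f F n ζ).mp hζW
        rw [h1] at h2
        have h3 : n ≤ tr f ζ := by exact_mod_cast h2
        obtain ⟨z, hz⟩ := exists_fibre_point f (f x) ζ hζf
        have h4 := tr_le_dim_Sy f F hF (f x) z ((mem_Sy_iff f F (f x) z).mpr (hz ▸ hζS))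
        rw [hz] at h4
        refine le_trans ?_ h4
        exact_mod_cast h3
  · have hne' : ∀ x ∈ Supp f F, f x ≠ y₀ := fun x hx hxy => hne ⟨x, hx, hxy⟩
    refine ⟨(f '' Supp f F)ᶜ, (f.isClosedMap _ hSc).isOpen_compl, ?_, ?_⟩
    · rintro ⟨x, hx, hxy⟩
      exact hne' x hx hxy
    · intro y hy
      show topologicalKrullDim ↥(Sy f F y) = topologicalKrullDim ↥(Sy f F y₀)
      rw [dim_Sy_eq_bot f F y₀ hne', dim_Sy_eq_bot f F y]
      intro x hx hxy
      exact hy ⟨x, hx, hxy⟩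

theorem isOpen_noEmbedded [IsProper f] (hF : CohB1.IsFP F) (hflat : FlatMod.IsFlatOver f F) :
    IsOpen {y : Y | AssSch.NoEmbedded ((Scheme.Modules.pullback (f.fiberι y)).obj F)} := by
  have h := isOpen_forall_fibre_of_isOpen f
    (fun y w => ∀ z ∈ AssSch.Ass ((Scheme.Modules.pullback (f.fiberι y)).obj F),
      w ∈ closure {z} →
      ∀ z' ∈ AssSch.Ass ((Scheme.Modules.pullback (f.fiberι y)).obj F),
        z ∈ closure {z'} → z' = z)
    (S4983_main f F hF hflat)
  convert h using 1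
  ext y
  unfold AssSch.NoEmbedded
  constructor
  · intro h1 w z hz _ z' hz' hzz'
    exact (h1 z hz z' hz' (specializes_iff_mem_closure.mpr hzz')).symm
  · intro h1 x hx y' hy' hsp
    exact (h1 x x hx (subset_closure rfl) y' hy' (specializes_iff_mem_closure.mp hsp)).symm

set_option maxHeartbeats 1000000 in
theorem S4966_iff (hF : CohB1.IsFP F) (Φ : Finset ℕ) (y : Y) :
    (AssSch.NoEmbedded ((Scheme.Modules.pullback (f.fiberι y)).obj F) ∧
      (fun Z : Set ↥{z : ↥(f.fiber y) |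
        Nontrivial (((Scheme.Modules.pullback (f.fiberι y)).obj F).presheaf.stalk z)} =>
          topologicalKrullDim ↥Z) '' irreducibleComponents ↥{z : ↥(f.fiber y) |
        Nontrivial (((Scheme.Modules.pullback (f.fiberι y)).obj F).presheaf.stalk z)} =
        (fun n : ℕ => (n : WithBot ℕ∞)) '' (Φ : Set ℕ)) ↔
    (AssSch.NoEmbedded ((Scheme.Modules.pullback (f.fiberι y)).obj F) ∧
      (∀ z ∈ AssSch.Ass ((Scheme.Modules.pullback (f.fiberι y)).obj F), ∃ n ∈ Φ,
        topologicalKrullDim ↥(closure ({z} : Set ↥(f.fiber y))) = (n : WithBot ℕ∞)) ∧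
      ∀ n ∈ Φ, y ∈ CompDim f F n) := by
  have hSc := isClosed_Supp f F hF
  constructor
  · rintro ⟨hNE, hdim⟩
    refine ⟨hNE, ?_, ?_⟩
    · intro z hz
      have hass : IsAssAt f F (f.fiberι y z) := (mem_ass_fibre_iff f F y z).mp hz
      have hzS := mem_Supp_of_isAssAt f F hF _ hass
      obtain ⟨ζ, hζS, hζsp, hζf, hζmax⟩ := exists_fibMax_ge f (Supp f F) hSc _ hzS
      have hassζ := isAssAt_of_max f F hF ζ hζS hζmax
      obtain ⟨zζ, hzζ⟩ := exists_fibre_point f y ζ (hζf.trans (apply_fiberι f y z))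
      have hzζass : zζ ∈ AssSch.Ass ((Scheme.Modules.pullback (f.fiberι y)).obj F) :=
        (mem_ass_fibre_iff f F y zζ).mpr (hzζ ▸ hassζ)
      have hsp : zζ ⤳ z := by
        rw [← (f.fiberι y).isEmbedding.isInducing.specializes_iff, hzζ]
        exact hζsp
      have heq : z = zζ := hNE z hz zζ hzζass hsp
      have hmaxz : IsFibMax f (Supp f F) (f.fiberι y z) := by
        rw [heq, hzζ]; exact hζmax
      obtain ⟨Z, hZ, hZdim⟩ := (exists_irreducibleComponent_iff f F hF y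
        (tr f (f.fiberι y z))).mpr ⟨_, hzS, apply_fiberι f y z, hmaxz, rfl⟩
      have hmem : ((tr f (f.fiberι y z) : ℕ) : WithBot ℕ∞) ∈
          (fun n : ℕ => (n : WithBot ℕ∞)) '' (Φ : Set ℕ) := by
        rw [← hdim]
        exact ⟨Z, hZ, hZdim⟩
      obtain ⟨n, hn, hn'⟩ := hmem
      refine ⟨n, hn, ?_⟩
      rw [dim_closure_fiber f y z]
      exact hn'.symm
    · intro n hn
      have hmem : ((n : ℕ) : WithBot ℕ∞) ∈ (fun n : ℕ => (n : WithBot ℕ∞)) '' (Φ : Set ℕ) :=
        ⟨n, hn, rfl⟩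
      rw [← hdim] at hmem
      obtain ⟨Z, hZ, hZdim⟩ := hmem
      exact (exists_irreducibleComponent_iff f F hF y n).mp ⟨Z, hZ, hZdim⟩
  · rintro ⟨hNE, h64, h65⟩
    refine ⟨hNE, ?_⟩
    ext d
    constructor
    · rintro ⟨Z, hZ, rfl⟩
      obtain ⟨x, hxS, hxy, hmax, hdimZ⟩ := dim_irreducibleComponent f F hF y Z hZ
      have hass := isAssAt_of_max f F hF x hxS hmax
      obtain ⟨zx, hzx⟩ := exists_fibre_point f y x hxy
      have hzxass : zx ∈ AssSch.Ass ((Scheme.Modules.pullback (f.fiberι y)).obj F) :=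
        (mem_ass_fibre_iff f F y zx).mpr (hzx ▸ hass)
      obtain ⟨n, hn, hn'⟩ := h64 zx hzxass
      rw [dim_closure_fiber f y zx, hzx] at hn'
      refine ⟨n, hn, ?_⟩
      exact (hdimZ.trans hn').symm
    · rintro ⟨n, hn, rfl⟩
      obtain ⟨Z, hZ, hZdim⟩ := (exists_irreducibleComponent_iff f F hF y n).mpr (h65 n hn)
      exact ⟨Z, hZ, hZdim⟩

/-- **S4966** -/
theorem S4966_main [IsProper f] (hF : CohB1.IsFP F) (hflat : FlatMod.IsFlatOver f F)
    (Φ : Finset ℕ) :
    IsOpen {y : Y | AssSch.NoEmbedded ((Scheme.Modules.pullback (f.fiberι y)).obj F) ∧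
      (fun Z : Set ↥{z : ↥(f.fiber y) |
        Nontrivial (((Scheme.Modules.pullback (f.fiberι y)).obj F).presheaf.stalk z)} =>
          topologicalKrullDim ↥Z) '' irreducibleComponents ↥{z : ↥(f.fiber y) |
        Nontrivial (((Scheme.Modules.pullback (f.fiberι y)).obj F).presheaf.stalk z)} =
        (fun n : ℕ => (n : WithBot ℕ∞)) '' (Φ : Set ℕ)} := by
  have h1 := isOpen_noEmbedded f F hF hflat
  have h2 := S4964_main f F hF hflat Φ
  have h3 : IsOpen (⋂ n ∈ Φ, CompDim f F n) :=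
    isOpen_biInter_finset fun n _ => isOpen_CompDim f F hF hflat n
  convert (h1.inter h2).inter h3 using 1
  ext y
  rw [Set.mem_ofPred_eq, S4966_iff f F hF Φ y]
  simp only [Set.mem_inter_iff, Set.mem_ofPred_eq, Set.mem_iInter]
  tauto

end Main

end Groth.Agent.Lead.MFib
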