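import Mathlib
import Groth.Prelude
import Groth.Agent.Lib.Lead.MFib3
import Groth.Agent.Lib.Helper8.Loc1

/-!
# Localizations of the fibre local module at primes of the fibre local ring (lead)
-/

set_option autoImplicit false
set_option linter.style.haveILetI false
set_option linter.unusedSectionVars false
universe u

open TensorProduct

namespace Groth.Agent.Lead.MFib

open LocCoh EGA4 IsLocalRing

section BCQ
variable {R : Type*} [CommRing R] (I : Ideal R) (M : Type*) [AddCommGroup M] [Module R M]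

theorem isBaseChange_mkQ :
    IsBaseChange (R ⧸ I) (Submodule.mkQ (I • (⊤ : Submodule R M))) := by
  let e₀ : (R ⧸ I) ⊗[R] M ≃ₗ[R] M ⧸ (I • (⊤ : Submodule R M)) :=
    TensorProduct.quotTensorEquivQuotSMul M I
  let e : (R ⧸ I) ⊗[R] M ≃ₗ[R ⧸ I] M ⧸ (I • (⊤ : Submodule R M)) :=
    LinearEquiv.extendScalarsOfSurjective (Ideal.Quotient.mk_surjective) e₀
  refine IsBaseChange.of_equiv e (fun x => ?_)
  show e₀ (1 ⊗ₜ x) = _
  exact TensorProduct.quotTensorEquivQuotSMul_mk_one_tmul (M := M) I x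

end BCQ

section Chain
variable {R S : Type u} [CommRing R] [CommRing S] [Algebra R S] (I : Ideal S)
  {M N : Type u} [AddCommGroup M] [Module R M] [AddCommGroup N] [Module R N] [Module S N]
  [IsScalarTower R S N] (ℓ : M →ₗ[R] N) (hℓ : IsBaseChange S ℓ)
  (𝔭 : Ideal (S ⧸ I)) [𝔭.IsPrime]

/-- the map `M → N → N/IN → (N/IN)_𝔭` -/
noncomputable def chainMap :
    M →ₗ[R] LocalizedModule 𝔭.primeCompl (N ⧸ (I • ⊤ : Submodule S N)) :=
  ((LocalizedModule.mkLinearMap 𝔭.primeCompl (N ⧸ (I • ⊤ : Submodule S N))).restrictScalars R).comp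
    (((Submodule.mkQ (I • ⊤ : Submodule S N)).restrictScalars R).comp ℓ)

include hℓ in
theorem isBaseChange_chainMap :
    IsBaseChange (Localization.AtPrime 𝔭) (chainMap I ℓ 𝔭) := by
  have h1 : IsBaseChange (S ⧸ I) (Submodule.mkQ (I • ⊤ : Submodule S N)) := isBaseChange_mkQ I N
  have h2 := IsBaseChange.comp hℓ h1
  have h3 : IsBaseChange (Localization.AtPrime 𝔭)
      (LocalizedModule.mkLinearMap 𝔭.primeCompl (N ⧸ (I • ⊤ : Submodule S N))) :=
    IsLocalizedModule.isBaseChange 𝔭.primeCompl _ _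
  exact IsBaseChange.comp h2 h3

end Chain

section GBC

variable {B O T : Type u} [CommRing B] [CommRing O] [CommRing T] [Algebra B O] [Algebra B T]
  [Algebra O T] [IsScalarTower B O T]
  {M N' P : Type u} [AddCommGroup M] [Module B M] [AddCommGroup N'] [Module B N'] [Module O N']
  [IsScalarTower B O N'] [AddCommGroup P] [Module B P] [Module T P] [IsScalarTower B T P]

theorem exists_equiv_tensor_of_isBaseChange
    (ℓ' : M →ₗ[B] N') (hℓ' : IsBaseChange O ℓ') (g : M →ₗ[B] P) (hg : IsBaseChange T g) :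
    Nonempty (P ≃ₗ[T] T ⊗[O] N') := by
  letI : Module O P := Module.compHom P (algebraMap O T)
  haveI : IsScalarTower O T P := IsScalarTower.of_algebraMap_smul (fun _ _ => rfl)
  haveI : IsScalarTower B O P := by
    refine ⟨fun b o p => ?_⟩
    show algebraMap O T (b • o) • p = b • (algebraMap O T o • p)
    rw [← smul_assoc]
    congr 1
    rw [Algebra.smul_def, map_mul, ← IsScalarTower.algebraMap_apply, ← Algebra.smul_def]
  let h : N' →ₗ[O] P := hℓ'.lift g
  have hc : IsBaseChange T ((h.restrictScalars B).comp ℓ') := by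
    rw [hℓ'.lift_comp g]
    exact hg
  have hh : IsBaseChange T h := IsBaseChange.of_comp hℓ' hc
  exact ⟨hh.equiv.symm⟩

theorem exists_equiv_tensor_of_isBaseChange' {B O T : Type u} [CommRing B] [CommRing O]
    [CommRing T] [Algebra B O] [Algebra B T] (γ : O →+* T)
    (hγB : ∀ b, γ (algebraMap B O b) = algebraMap B T b)
    {M N' P : Type u} [AddCommGroup M] [Module B M] [AddCommGroup N'] [Module B N'] [Module O N']
    [IsScalarTower B O N'] [AddCommGroup P] [Module B P] [Module T P] [IsScalarTower B T P]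
    (ℓ' : M →ₗ[B] N') (hℓ' : IsBaseChange O ℓ') (g : M →ₗ[B] P) (hg : IsBaseChange T g) :
    letI := γ.toAlgebra
    Nonempty (P ≃ₗ[T] T ⊗[O] N') := by
  letI := γ.toAlgebra
  haveI : IsScalarTower B O T := IsScalarTower.of_algebraMap_eq (fun b => (hγB b).symm)
  exact exists_equiv_tensor_of_isBaseChange ℓ' hℓ' g hg

end GBC

section L1

variable (A B : Type u) [CommRing A] [CommRing B] [Algebra A B] (M : Type u) [AddCommGroup M]
  [Module B M] (Q : Ideal B) [Q.IsPrime]

/-- the ideal `p₀ B` generated by `p₀ = Q ∩ A` -/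
abbrev fibJ : Ideal B := (Q.comap (algebraMap A B)).map (algebraMap A B)

theorem fibJ_map :
    (fibJ A B Q).map (algebraMap B (Localization.AtPrime Q)) =
      (Q.comap (algebraMap A B)).map (algebraMap A (Localization.AtPrime Q)) := by
  rw [fibJ, Ideal.map_map, ← IsScalarTower.algebraMap_eq]

theorem fibJ_le : fibJ A B Q ≤ Q := by
  rw [fibJ, Ideal.map_le_iff_le_comap]

noncomputable def barHom : B ⧸ fibJ A B Q →+* FibLocRing A B Q :=
  Ideal.Quotient.lift (fibJ A B Q) (algebraMap B (FibLocRing A B Q)) (fun b hb => by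
    rw [IsScalarTower.algebraMap_apply B (Localization.AtPrime Q) (FibLocRing A B Q)]
    refine Ideal.Quotient.eq_zero_iff_mem.mpr ?_
    rw [← fibJ_map]
    exact Ideal.mem_map_of_mem _ hb)

theorem barHom_mk (b : B) :
    barHom A B Q (Ideal.Quotient.mk _ b) = algebraMap B (FibLocRing A B Q) b := rfl

theorem isLocalization_fibLocRing :
    letI := (barHom A B Q).toAlgebra
    IsLocalization (Q.primeCompl.map (Ideal.Quotient.mk (fibJ A B Q))) (FibLocRing A B Q) := by
  letI := (barHom A B Q).toAlgebra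
  refine IsLocalization.of_surjective Q.primeCompl (Localization.AtPrime Q) (Ideal.Quotient.mk _)
    Ideal.Quotient.mk_surjective (Ideal.Quotient.mk _) Ideal.Quotient.mk_surjective ?_ ?_
  · ext b
    rfl
  · rw [Ideal.mk_ker, Ideal.mk_ker, fibJ_map]

end L1

section L1main

variable (A B : Type u) [CommRing A] [CommRing B] [Algebra A B] (M : Type u) [AddCommGroup M]
  [Module B M] (Q : Ideal B) [Q.IsPrime] (𝔭 : Ideal (FibLocRing A B Q)) [𝔭.IsPrime]

theorem comap_le_of_prime : 𝔭.comap (algebraMap B (FibLocRing A B Q)) ≤ Q := by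
  intro b hb
  by_contra hbQ
  have hu : IsUnit (algebraMap B (FibLocRing A B Q) b) := by
    rw [IsScalarTower.algebraMap_apply B (Localization.AtPrime Q) (FibLocRing A B Q)]
    exact (IsLocalization.map_units (Localization.AtPrime Q) (⟨b, hbQ⟩ : Q.primeCompl)).map _
  exact (Ideal.IsPrime.ne_top ‹𝔭.IsPrime›) (Ideal.eq_top_of_isUnit_mem 𝔭 (Ideal.mem_comap.mp hb) hu)

theorem comap_comap_eq_of_prime :
    (𝔭.comap (algebraMap B (FibLocRing A B Q))).comap (algebraMap A B) =
      Q.comap (algebraMap A B) := by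
  apply le_antisymm
  · exact Ideal.comap_mono (comap_le_of_prime A B Q 𝔭)
  · intro a ha
    show algebraMap B (FibLocRing A B Q) (algebraMap A B a) ∈ 𝔭
    have h0 : algebraMap B (FibLocRing A B Q) (algebraMap A B a) = 0 := by
      rw [IsScalarTower.algebraMap_apply B (Localization.AtPrime Q) (FibLocRing A B Q),
        ← IsScalarTower.algebraMap_apply A B (Localization.AtPrime Q)]
      exact Ideal.Quotient.eq_zero_iff_mem.mpr (Ideal.mem_map_of_mem _ ha)
    rw [h0]
    exact zero_mem _

set_option maxHeartbeats 2000000 in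
/-- **localization of the fibre local module**: the localization of `(B_Q/p₀B_Q, M_Q/p₀M_Q)` at a
prime `𝔭` is the fibre local pair at the contraction `Q'` of `𝔭` to `B` -/
theorem exists_fibLoc_localization_equiv :
    ∃ (σ : FibLocRing A B (𝔭.comap (algebraMap B (FibLocRing A B Q))) ≃+* Localization.AtPrime 𝔭)
      (e : FibLocMod A B (𝔭.comap (algebraMap B (FibLocRing A B Q))) M ≃+
        LocalizedModule 𝔭.primeCompl (FibLocMod A B Q M)),
      ∀ r x, e (r • x) = σ r • e x := by
  set L := FibLocRing A B Q with hL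
  set J := fibJ A B Q with hJ
  set Q' := 𝔭.comap (algebraMap B L) with hQ'
  set T := Localization.AtPrime 𝔭 with hT
  set O := Localization.AtPrime Q' with hO
  letI algBar : Algebra (B ⧸ J) L := (barHom A B Q).toAlgebra
  haveI hlocL : IsLocalization (Q.primeCompl.map (Ideal.Quotient.mk J)) L :=
    isLocalization_fibLocRing A B Q
  haveI : IsScalarTower B (B ⧸ J) L := IsScalarTower.of_algebraMap_eq (fun b => rfl)
  set q' : Ideal (B ⧸ J) := 𝔭.comap (algebraMap (B ⧸ J) L) with hq'
  haveI hlocT : IsLocalization.AtPrime T q' :=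
    IsLocalization.isLocalization_isLocalization_atPrime_isLocalization
      (Q.primeCompl.map (Ideal.Quotient.mk J)) T 𝔭
  have hQq : Q' = q'.comap (algebraMap B (B ⧸ J)) := by
    rw [hQ', hq', Ideal.comap_comap, ← IsScalarTower.algebraMap_eq]
  have hmap : Q'.primeCompl.map (Ideal.Quotient.mk J) = q'.primeCompl := by
    ext x
    constructor
    · rintro ⟨b, hb, rfl⟩
      intro h
      apply hb
      show b ∈ Q'
      rw [hQq]
      exact h
    · intro hx
      obtain ⟨b, rfl⟩ := Ideal.Quotient.mk_surjective x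
      refine ⟨b, fun hb => hx ?_, rfl⟩
      have hb' : b ∈ Q' := hb
      rw [hQq] at hb'
      exact hb'
  haveI hlocT' : IsLocalization (Q'.primeCompl.map (Ideal.Quotient.mk J)) T := by
    rw [hmap]
    exact hlocT
  let γ : O →+* T :=
    IsLocalization.map T (Ideal.Quotient.mk J) (Submonoid.le_comap_map Q'.primeCompl)
  have hγ : Function.Surjective γ :=
    IsLocalization.map_surjective_of_surjective _ _ _ Ideal.Quotient.mk_surjective
  have hker : RingHom.ker γ = (Q'.comap (algebraMap A B)).map (algebraMap A O) := by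
    have h1 := IsLocalization.ker_map (S := O) T (M := Q'.primeCompl) (Ideal.Quotient.mk J) rfl
    rw [show RingHom.ker γ = _ from h1, Ideal.mk_ker, comap_comap_eq_of_prime, hJ, fibJ,
      Ideal.map_map, ← IsScalarTower.algebraMap_eq]
  have hγB : ∀ b, γ (algebraMap B O b) = algebraMap B T b := by
    intro b
    show IsLocalization.map T (Ideal.Quotient.mk J) (Submonoid.le_comap_map Q'.primeCompl)
      (algebraMap B O b) = _
    rw [IsLocalization.map_eq]
    rw [IsScalarTower.algebraMap_apply (B ⧸ J) L T]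
    rw [IsScalarTower.algebraMap_apply B L T]
    rfl
  let ℓQ : M →ₗ[B] LocalizedModule Q.primeCompl M := LocalizedModule.mkLinearMap Q.primeCompl M
  have hℓQ : IsBaseChange (Localization.AtPrime Q) ℓQ :=
    IsLocalizedModule.isBaseChange Q.primeCompl _ ℓQ
  let ℓ' : M →ₗ[B] LocalizedModule Q'.primeCompl M := LocalizedModule.mkLinearMap Q'.primeCompl M
  have hℓ' : IsBaseChange O ℓ' := IsLocalizedModule.isBaseChange Q'.primeCompl _ ℓ'
  have hg := isBaseChange_chainMap
    ((Q.comap (algebraMap A B)).map (algebraMap A (Localization.AtPrime Q))) ℓQ hℓQ 𝔭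
  obtain ⟨e'⟩ := exists_equiv_tensor_of_isBaseChange' γ hγB ℓ' hℓ' _ hg
  exact exists_fibLoc_equiv A B Q' M O (LocalizedModule Q'.primeCompl M) ℓ' (R' := T) γ hγ hker
    (LocalizedModule 𝔭.primeCompl (FibLocMod A B Q M)) e'

end L1main

section Contraction

variable (A B : Type u) [CommRing A] [CommRing B] [Algebra A B] (Q : Ideal B) [Q.IsPrime]

theorem fibLocRing_fracs (t : FibLocRing A B Q) :
    ∃ b s : B, IsUnit (algebraMap B (FibLocRing A B Q) s) ∧
      t * algebraMap B (FibLocRing A B Q) s = algebraMap B (FibLocRing A B Q) b :=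
  fracs_of_loc_surj (B := B) (L := Localization.AtPrime Q) Q.primeCompl
    (Ideal.Quotient.mk _) Ideal.Quotient.mk_surjective t

theorem mem_iff_of_fracs (𝔞 : Ideal (FibLocRing A B Q)) (t : FibLocRing A B Q) (b s : B)
    (hs : IsUnit (algebraMap B (FibLocRing A B Q) s))
    (hts : t * algebraMap B (FibLocRing A B Q) s = algebraMap B (FibLocRing A B Q) b) :
    t ∈ 𝔞 ↔ b ∈ 𝔞.comap (algebraMap B (FibLocRing A B Q)) := by
  rw [Ideal.mem_comap, ← hts]
  exact (Ideal.mul_unit_mem_iff_mem 𝔞 hs).symm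

theorem ideal_eq_of_comap_eq (𝔞 𝔟 : Ideal (FibLocRing A B Q))
    (h : 𝔞.comap (algebraMap B (FibLocRing A B Q)) = 𝔟.comap (algebraMap B (FibLocRing A B Q))) :
    𝔞 = 𝔟 := by
  ext t
  obtain ⟨b, s, hs, hts⟩ := fibLocRing_fracs A B Q t
  rw [mem_iff_of_fracs A B Q 𝔞 t b s hs hts, mem_iff_of_fracs A B Q 𝔟 t b s hs hts, h]

theorem exists_prime_comap_eq (Q' : Ideal B) [Q'.IsPrime] (hle : Q' ≤ Q)
    (hp : Q'.comap (algebraMap A B) = Q.comap (algebraMap A B)) :
    ∃ 𝔭 : Ideal (FibLocRing A B Q), 𝔭.IsPrime ∧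
      𝔭.comap (algebraMap B (FibLocRing A B Q)) = Q' := by
  set L := Localization.AtPrime Q with hL
  set I := (Q.comap (algebraMap A B)).map (algebraMap A L) with hI
  have hdisj : Disjoint (Q.primeCompl : Set B) (Q' : Set B) := by
    rw [Set.disjoint_left]
    intro b hb hb'
    exact hb (hle hb')
  have hP₁ : (Q'.map (algebraMap B L)).IsPrime :=
    IsLocalization.isPrime_of_isPrime_disjoint Q.primeCompl L Q' inferInstance hdisj
  have hc₁ : (Q'.map (algebraMap B L)).comap (algebraMap B L) = Q' :=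
    IsLocalization.under_map_of_isPrime_disjoint Q.primeCompl L inferInstance hdisj
  have hIle : I ≤ Q'.map (algebraMap B L) := by
    rw [hI, ← fibJ_map]
    apply Ideal.map_mono
    rw [fibJ, ← hp]
    exact Ideal.map_comap_le
  have hker : RingHom.ker (Ideal.Quotient.mk I) ≤ Q'.map (algebraMap B L) := by
    rw [Ideal.mk_ker]
    exact hIle
  refine ⟨(Q'.map (algebraMap B L)).map (Ideal.Quotient.mk I),
    Ideal.map_isPrime_of_surjective Ideal.Quotient.mk_surjective hker, ?_⟩
  have h1 : ((Q'.map (algebraMap B L)).map (Ideal.Quotient.mk I)).comap (Ideal.Quotient.mk I) =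
      Q'.map (algebraMap B L) := by
    rw [Ideal.comap_map_of_surjective _ Ideal.Quotient.mk_surjective, ← RingHom.ker_eq_comap_bot]
    exact sup_eq_left.mpr hker
  have h2 : algebraMap B (FibLocRing A B Q) = (Ideal.Quotient.mk I).comp (algebraMap B L) := rfl
  rw [h2, ← Ideal.comap_comap, h1, hc₁]

end Contraction

section T3a

variable (A B : Type u) [CommRing A] [CommRing B] [Algebra A B] (Q' : Ideal B) [Q'.IsPrime]
  (Qt : Ideal (B ⧸ Q')) [Qt.IsPrime]

set_option maxHeartbeats 1000000 in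
theorem exists_surjective_fibLocRing_quotient
    (hp : (Qt.comap (algebraMap B (B ⧸ Q'))).comap (algebraMap A B) ≤ Q'.comap (algebraMap A B)) :
    ∃ ρ : FibLocRing A B (Qt.comap (algebraMap B (B ⧸ Q'))) →+* FibLocRing A (B ⧸ Q') Qt,
      Function.Surjective ρ ∧
        (RingHom.ker ρ).comap (algebraMap B (FibLocRing A B (Qt.comap (algebraMap B (B ⧸ Q'))))) =
          Q' := by
  set Q := Qt.comap (algebraMap B (B ⧸ Q')) with hQ
  set L₀ := Localization.AtPrime Q with hL₀
  set L := Localization.AtPrime Qt with hL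
  have hsurj : Function.Surjective (algebraMap B (B ⧸ Q')) := Ideal.Quotient.mk_surjective
  let ρ₀ : L₀ →+* L := Localization.localRingHom Q Qt (algebraMap B (B ⧸ Q')) rfl
  have hρ₀ : Function.Surjective ρ₀ := localRingHom_surjective B (B ⧸ Q') hsurj Qt
  set p₀ := Q.comap (algebraMap A B) with hp₀
  have hpp : Qt.comap (algebraMap A (B ⧸ Q')) = p₀ := by
    rw [hp₀, hQ, Ideal.comap_comap, ← IsScalarTower.algebraMap_eq]
  have hJ : (p₀.map (algebraMap A L₀)).map ρ₀ =
      (Qt.comap (algebraMap A (B ⧸ Q'))).map (algebraMap A L) := by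
    rw [hpp, Ideal.map_map]
    congr 1
    refine RingHom.ext fun a => ?_
    show ρ₀ (algebraMap A L₀ a) = algebraMap A L a
    rw [IsScalarTower.algebraMap_apply A B L₀, Localization.localRingHom_to_map,
      ← IsScalarTower.algebraMap_apply A B (B ⧸ Q'), ← IsScalarTower.algebraMap_apply A (B ⧸ Q') L]
  have hbot : (Qt.comap (algebraMap A (B ⧸ Q'))).map (algebraMap A L) = ⊥ := by
    rw [hpp, Ideal.map_eq_bot_iff_le_ker]
    intro a ha
    rw [RingHom.mem_ker, IsScalarTower.algebraMap_apply A (B ⧸ Q') L,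
      IsScalarTower.algebraMap_apply A B (B ⧸ Q')]
    have : algebraMap B (B ⧸ Q') (algebraMap A B a) = 0 :=
      Ideal.Quotient.eq_zero_iff_mem.mpr (hp ha)
    rw [this, map_zero]
  refine ⟨Ideal.quotientMap _ ρ₀ (hJ ▸ Ideal.le_comap_map), Ideal.quotientMap_surjective hρ₀, ?_⟩
  ext b
  rw [Ideal.mem_comap, RingHom.mem_ker]
  have h1 : algebraMap B (FibLocRing A B Q) b = Ideal.Quotient.mk _ (algebraMap B L₀ b) := rfl
  rw [h1, Ideal.quotientMap_mk, Ideal.Quotient.eq_zero_iff_mem, hbot, Ideal.mem_bot,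
    Localization.localRingHom_to_map]
  have hinj : Function.Injective (algebraMap (B ⧸ Q') L) :=
    IsLocalization.injective L (Ideal.primeCompl_le_nonZeroDivisors Qt)
  rw [map_eq_zero_iff _ hinj]
  exact Ideal.Quotient.eq_zero_iff_mem

theorem ringKrullDim_quotient_fibLocRing (Q : Ideal B) [Q.IsPrime]
    (hQ : Qt.comap (algebraMap B (B ⧸ Q')) = Q)
    (hp : Q.comap (algebraMap A B) ≤ Q'.comap (algebraMap A B))
    (𝔭 : Ideal (FibLocRing A B Q)) [𝔭.IsPrime]
    (h𝔭 : 𝔭.comap (algebraMap B (FibLocRing A B Q)) = Q') :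
    ringKrullDim (FibLocRing A B Q ⧸ 𝔭) = ringKrullDim (FibLocRing A (B ⧸ Q') Qt) := by
  subst hQ
  obtain ⟨ρ, hρ, hk⟩ := exists_surjective_fibLocRing_quotient A B Q' Qt hp
  have h𝔭k : 𝔭 = RingHom.ker ρ := ideal_eq_of_comap_eq A B _ _ _ (h𝔭.trans hk.symm)
  subst h𝔭k
  exact ringKrullDim_eq_of_ringEquiv (RingHom.quotientKerEquivOfSurjective hρ)

end T3a

end Groth.Agent.Lead.MFib
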