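import Mathlib
import Groth.Prelude
import Groth.Agent.Lib.Helper8.Loc1
import Groth.Agent.Lib.Helper8.Depth23

/-!
# Transport of `(S_k)` and of equidimensionality along semilinear isomorphisms (lead)
-/

set_option autoImplicit false
set_option linter.style.haveILetI false
set_option linter.unusedSectionVars false
universe u

namespace Groth.Agent.Lead.MFib

open LocCoh EGA4 IsLocalRing

section T1

variable {R₁ R₂ : Type u} [CommRing R₁] [CommRing R₂] (σ : R₁ ≃+* R₂)
  {M₁ M₂ : Type u} [AddCommGroup M₁] [AddCommGroup M₂] [Module R₁ M₁] [Module R₂ M₂]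
  (e : M₁ ≃+ M₂) (he : ∀ (r : R₁) (x : M₁), e (r • x) = σ r • e x)
  (p₁ : Ideal R₁) [p₁.IsPrime] (p₂ : Ideal R₂) [p₂.IsPrime]
  (hp : p₂.comap (σ : R₁ →+* R₂) = p₁)

include he hp in
set_option maxHeartbeats 1000000 in
/-- a semilinear isomorphism induces semilinear isomorphisms of the localizations at
corresponding primes -/
theorem exists_localized_semilinear :
    ∃ (σ' : Localization.AtPrime p₁ ≃+* Localization.AtPrime p₂)
      (e' : LocalizedModule p₁.primeCompl M₁ ≃+ LocalizedModule p₂.primeCompl M₂),
      ∀ a x, e' (a • x) = σ' a • e' x := by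
  set T := Localization.AtPrime p₂ with hT
  set N := LocalizedModule p₂.primeCompl M₂ with hN
  have hmem : ∀ r : R₁, r ∈ p₁ ↔ σ r ∈ p₂ := by
    intro r
    rw [← hp]
    rfl
  letI algT : Algebra R₁ T := ((algebraMap R₂ T).comp (σ : R₁ →+* R₂)).toAlgebra
  have halg : ∀ r : R₁, algebraMap R₁ T r = algebraMap R₂ T (σ r) := fun r => rfl
  haveI hloc : IsLocalization.AtPrime T p₁ := by
    refine ⟨?_, ?_, ?_⟩
    · rintro ⟨y, hy⟩
      rw [halg]
      exact IsLocalization.map_units T (⟨σ y, fun h => hy ((hmem y).mpr h)⟩ : p₂.primeCompl)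
    · intro z
      obtain ⟨⟨r₂, s₂⟩, h⟩ := IsLocalization.surj p₂.primeCompl z
      refine ⟨⟨σ.symm r₂, ⟨σ.symm s₂, fun h' => s₂.2 ?_⟩⟩, ?_⟩
      · have := (hmem (σ.symm s₂)).mp h'
        rwa [RingEquiv.apply_symm_apply] at this
      · show z * algebraMap R₁ T (σ.symm s₂) = algebraMap R₁ T (σ.symm r₂)
        rw [halg, halg, RingEquiv.apply_symm_apply, RingEquiv.apply_symm_apply]
        exact h
    · intro x y hxy
      rw [halg, halg] at hxy
      obtain ⟨c, hc⟩ := IsLocalization.exists_of_eq (M := p₂.primeCompl) hxy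
      refine ⟨⟨σ.symm c, fun h' => c.2 ?_⟩, ?_⟩
      · have := (hmem (σ.symm c)).mp h'
        rwa [RingEquiv.apply_symm_apply] at this
      · apply σ.injective
        show σ (σ.symm c * x) = σ (σ.symm c * y)
        rw [map_mul, map_mul, RingEquiv.apply_symm_apply]
        exact hc
  letI modN : Module R₁ N := Module.compHom N (σ : R₁ →+* R₂)
  have hsm : ∀ (r : R₁) (n : N), r • n = σ r • n := fun r n => rfl
  haveI : IsScalarTower R₁ T N := by
    refine IsScalarTower.of_algebraMap_smul (fun r n => ?_)
    rw [halg, algebraMap_smul, hsm]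
  let f : M₁ →ₗ[R₁] N :=
    { toFun := fun x => LocalizedModule.mkLinearMap p₂.primeCompl M₂ (e x)
      map_add' := fun x y => by rw [map_add, map_add]
      map_smul' := fun r x => by
        rw [he, map_smul, RingHom.id_apply, hsm] }
  have hf : ∀ x, f x = LocalizedModule.mkLinearMap p₂.primeCompl M₂ (e x) := fun x => rfl
  haveI hlm : IsLocalizedModule p₁.primeCompl f := by
    refine ⟨?_, ?_, ?_⟩
    · rintro ⟨s, hs⟩
      have h2 := IsLocalizedModule.map_units (LocalizedModule.mkLinearMap p₂.primeCompl M₂)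
        (⟨σ s, fun h => hs ((hmem s).mpr h)⟩ : p₂.primeCompl)
      rw [Module.End.isUnit_iff] at h2 ⊢
      exact h2
    · intro y
      obtain ⟨⟨m₂, s₂⟩, h⟩ := IsLocalizedModule.surj p₂.primeCompl
        (LocalizedModule.mkLinearMap p₂.primeCompl M₂) y
      refine ⟨⟨e.symm m₂, ⟨σ.symm s₂, fun h' => s₂.2 ?_⟩⟩, ?_⟩
      · have := (hmem (σ.symm s₂)).mp h'
        rwa [RingEquiv.apply_symm_apply] at this
      · show (σ.symm (s₂ : R₂)) • y = f (e.symm m₂)
        rw [hsm, RingEquiv.apply_symm_apply, hf, AddEquiv.apply_symm_apply]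
        exact h
    · intro x y hxy
      rw [hf, hf] at hxy
      obtain ⟨c, hc⟩ := IsLocalizedModule.exists_of_eq (S := p₂.primeCompl) hxy
      refine ⟨⟨σ.symm c, fun h' => c.2 ?_⟩, ?_⟩
      · have := (hmem (σ.symm c)).mp h'
        rwa [RingEquiv.apply_symm_apply] at this
      · apply e.injective
        show e (σ.symm (c : R₂) • x) = e (σ.symm (c : R₂) • y)
        rw [he, he, RingEquiv.apply_symm_apply]
        exact hc
  exact Groth.Agent.Helper8.Loc.exists_semilinear_equiv p₁ M₁ T N f

include he hp in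
theorem depth_localized_eq_of_semilinear :
    depth (Localization.AtPrime p₂) (LocalizedModule p₂.primeCompl M₂) =
      depth (Localization.AtPrime p₁) (LocalizedModule p₁.primeCompl M₁) := by
  obtain ⟨σ', e', he'⟩ := exists_localized_semilinear σ e he p₁ p₂ hp
  exact Groth.Agent.Helper8.Depth.depth_eq_of_semilinear σ' e' he'

include he hp in
theorem supportDim_localized_eq_of_semilinear :
    Module.supportDim (Localization.AtPrime p₂) (LocalizedModule p₂.primeCompl M₂) =
      Module.supportDim (Localization.AtPrime p₁) (LocalizedModule p₁.primeCompl M₁) := by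
  obtain ⟨σ', e', he'⟩ := exists_localized_semilinear σ e he p₁ p₂ hp
  exact Groth.Agent.Helper8.Loc.supportDim_eq_of_semilinear σ' e' he'

include hp in
theorem ringKrullDim_quotient_eq_of_ringEquiv :
    ringKrullDim (R₂ ⧸ p₂) = ringKrullDim (R₁ ⧸ p₁) := by
  have h : p₂ = p₁.map (σ : R₁ →+* R₂) := by
    rw [← hp]
    exact (Ideal.map_comap_of_surjective (σ : R₁ →+* R₂) σ.surjective p₂).symm
  exact (ringKrullDim_eq_of_ringEquiv (Ideal.quotientEquiv p₁ p₂ σ h)).symm

end T1

section AlgMin

variable {A : Type u} [CommRing A] (M : Type u) [AddCommGroup M] [Module A M] [Module.Finite A M]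
  (𝔭 : Ideal A) [𝔭.IsPrime]

/-- a prime is minimal over the annihilator of a finite module exactly when the localized module
has a support of dimension zero -/
theorem mem_minimalPrimes_annihilator_iff :
    𝔭 ∈ (Module.annihilator A M).minimalPrimes ↔
      Module.supportDim (Localization.AtPrime 𝔭) (LocalizedModule 𝔭.primeCompl M) = 0 := by
  set T := Localization.AtPrime 𝔭 with hT
  set N := LocalizedModule 𝔭.primeCompl M with hN
  have hmem : ∀ q' : PrimeSpectrum T, q' ∈ Module.support T N ↔
      Module.annihilator A M ≤ q'.asIdeal.comap (algebraMap A T) := by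
    intro q'
    rw [Groth.Agent.Helper8.Depth.mem_support_localizedModule_iff,
      Module.mem_support_iff_of_finite]
    rfl
  have hcm : (maximalIdeal T).comap (algebraMap A T) = 𝔭 :=
    IsLocalization.AtPrime.under_maximalIdeal T 𝔭
  have hle : ∀ q' : PrimeSpectrum T, q'.asIdeal.comap (algebraMap A T) ≤ 𝔭 := by
    intro q'
    exact le_of_le_of_eq (Ideal.comap_mono (IsLocalRing.le_maximalIdeal q'.2.ne_top)) hcm
  constructor
  · intro hmin
    have hann : Module.annihilator A M ≤ 𝔭 := hmin.1.2
    have hm : (closedPoint T) ∈ Module.support T N := by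
      rw [hmem]
      show _ ≤ (maximalIdeal T).comap _
      rw [hcm]
      exact hann
    haveI : Nonempty (Module.support T N) := ⟨⟨_, hm⟩⟩
    haveI : Subsingleton (Module.support T N) := by
      have key : ∀ q' : PrimeSpectrum T, q' ∈ Module.support T N → q' = closedPoint T := by
        intro q' hq'
        have h1 := (hmem q').mp hq'
        have h2 : q'.asIdeal.comap (algebraMap A T) = 𝔭 :=
          le_antisymm (hle q') (hmin.2 ⟨inferInstance, h1⟩ (hle q'))
        apply PrimeSpectrum.ext
        show q'.asIdeal = maximalIdeal T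
        have h2' : Ideal.under A q'.asIdeal = 𝔭 := h2
        rw [← IsLocalization.map_under 𝔭.primeCompl T q'.asIdeal, h2']
        exact IsLocalization.AtPrime.map_eq_maximalIdeal 𝔭 T
      refine ⟨fun a b => Subtype.ext ?_⟩
      rw [key a.1 a.2, key b.1 b.2]
    exact Order.krullDim_eq_zero
  · intro hdim
    have hne : Nonempty (Module.support T N) := by
      rw [← Order.krullDim_nonneg_iff]
      exact hdim.ge
    obtain ⟨⟨q₀, hq₀⟩⟩ := hne
    have hann : Module.annihilator A M ≤ 𝔭 := ((hmem q₀).mp hq₀).trans (hle q₀)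
    have hm : (closedPoint T) ∈ Module.support T N := by
      rw [hmem]
      show _ ≤ (maximalIdeal T).comap _
      rw [hcm]
      exact hann
    refine ⟨⟨inferInstance, hann⟩, ?_⟩
    rintro q ⟨hqp, hqa⟩ hq𝔭
    by_contra hnle
    have hdisj : Disjoint (𝔭.primeCompl : Set A) (q : Set A) := by
      rw [Set.disjoint_left]
      intro b hb hb'
      exact hb (hq𝔭 hb')
    have hP₁ : (q.map (algebraMap A T)).IsPrime :=
      IsLocalization.isPrime_of_isPrime_disjoint 𝔭.primeCompl T q hqp hdisj
    have hc₁ : (q.map (algebraMap A T)).comap (algebraMap A T) = q :=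
      IsLocalization.under_map_of_isPrime_disjoint 𝔭.primeCompl T hqp hdisj
    have hq' : (⟨q.map (algebraMap A T), hP₁⟩ : PrimeSpectrum T) ∈ Module.support T N := by
      rw [hmem]
      show _ ≤ (q.map (algebraMap A T)).comap _
      rw [hc₁]
      exact hqa
    have hlt : (⟨⟨q.map (algebraMap A T), hP₁⟩, hq'⟩ : Module.support T N) <
        ⟨closedPoint T, hm⟩ := by
      show (⟨q.map (algebraMap A T), hP₁⟩ : PrimeSpectrum T) < closedPoint T
      rw [← PrimeSpectrum.asIdeal_lt_asIdeal]
      refine lt_of_le_of_ne (IsLocalRing.le_maximalIdeal hP₁.ne_top) ?_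
      intro heq
      apply hnle
      have h3 : (q.map (algebraMap A T)).comap (algebraMap A T) = 𝔭 := by
        rw [show q.map (algebraMap A T) = maximalIdeal T from heq]
        exact hcm
      rw [hc₁] at h3
      exact h3.ge
    have hpos : 0 < Order.krullDim (Module.support T N) := Order.krullDim_pos_iff.mpr ⟨_, _, hlt⟩
    have : Module.supportDim T N = Order.krullDim (Module.support T N) := rfl
    rw [this] at hdim
    rw [hdim] at hpos
    exact lt_irrefl _ hpos

end AlgMin

end Groth.Agent.Lead.MFib
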