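import Mathlib
import Groth.Prelude
import Groth.Agent.Lib.Lead.MFib22
import Groth.Agent.Lib.Lead.MFib23
import Groth.Agent.Lib.Lead.MFib24

/-!
# The chart dictionary for localizations of the fibre modules (lead)
-/

set_option autoImplicit false
set_option backward.isDefEq.respectTransparency.types false
set_option synthInstance.maxHeartbeats 400000
set_option linter.style.haveILetI false
set_option linter.unusedSectionVars false
universe u

open AlgebraicGeometry CategoryTheory CategoryTheory.Limits TopologicalSpace TensorProduct IsLocalRing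
open Topology

namespace Groth.Agent.Lead.MFib

open LocCoh EGA4 Groth.Agent.Lead.Coprof Groth.Agent.Lead.CMQF
open Groth.Agent.Lib.Helper4.FibDim1 Groth.Agent.Lead.SD Groth.Agent.Lead.RkCons Groth.Agent.Lead.FO
open Groth.Agent.Helper3.FibStalk Groth.Agent.Lead.SkLoc

section ChartPts

variable {X Y : Scheme.{u}} (f : X ⟶ Y)
  {U : X.Opens} (hU : IsAffineOpen U) {V : Y.Opens} (hV : IsAffineOpen V) (hUV : U ≤ f ⁻¹ᵁ V)

theorem f_fromSpec (Q : Spec Γ(X, U)) :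
    letI := (f.appLE V U hUV).hom.toAlgebra
    f (hU.fromSpec Q) = hV.fromSpec (PrimeSpectrum.comap (algebraMap Γ(Y, V) Γ(X, U)) Q) := by
  have hsq : Spec.map (f.appLE V U hUV) ≫ hV.fromSpec = hU.fromSpec ≫ f :=
    IsAffineOpen.SpecMap_appLE_fromSpec f hV hU hUV
  have := congrArg (fun k : (Spec Γ(X, U) ⟶ Y) => k Q) hsq
  exact this.symm

include hV in
theorem f_fromSpec_eq_iff (Q Q' : Spec Γ(X, U)) :
    letI := (f.appLE V U hUV).hom.toAlgebra
    f (hU.fromSpec Q') = f (hU.fromSpec Q) ↔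
      Q'.asIdeal.comap (algebraMap Γ(Y, V) Γ(X, U)) =
        Q.asIdeal.comap (algebraMap Γ(Y, V) Γ(X, U)) := by
  letI := (f.appLE V U hUV).hom.toAlgebra
  rw [f_fromSpec f hU hV hUV Q, f_fromSpec f hU hV hUV Q',
    hV.fromSpec.isOpenEmbedding.injective.eq_iff]
  constructor
  · intro h
    exact congrArg PrimeSpectrum.asIdeal h
  · intro h
    exact PrimeSpectrum.ext h

omit hV hUV in
theorem fromSpec_specializes_iff (Q Q' : Spec Γ(X, U)) :
    hU.fromSpec Q' ⤳ hU.fromSpec Q ↔ Q'.asIdeal ≤ Q.asIdeal := by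
  rw [hU.fromSpec.isOpenEmbedding.isInducing.specializes_iff]
  exact (PrimeSpectrum.le_iff_specializes (R := Γ(X, U)) Q' Q).symm.trans
    (PrimeSpectrum.asIdeal_le_asIdeal (R := Γ(X, U)) Q' Q).symm

end ChartPts

section T3bc

variable {X Y : Scheme.{u}} (f : X ⟶ Y) [LocallyOfFinitePresentation f]
  {U : X.Opens} (hU : IsAffineOpen U) {V : Y.Opens} (hV : IsAffineOpen V) (hUV : U ≤ f ⁻¹ᵁ V)

include hV in
set_option maxHeartbeats 4000000 in
/-- the dimension of the fibre local ring of the integral closed subscheme `V(Q')` at a point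
`Q ⊇ Q'` of the same fibre is the difference of the residual transcendence degrees -/
theorem dim_fibLocRing_quotient_chart (Q Q' : Spec Γ(X, U))
    (hf : f (hU.fromSpec Q') = f (hU.fromSpec Q))
    (Qt : Ideal (Γ(X, U) ⧸ Q'.asIdeal)) [Qt.IsPrime]
    (hQt : Qt.comap (algebraMap Γ(X, U) (Γ(X, U) ⧸ Q'.asIdeal)) = Q.asIdeal) :
    letI := (f.appLE V U hUV).hom.toAlgebra
    ringKrullDim (FibLocRing Γ(Y, V) (Γ(X, U) ⧸ Q'.asIdeal) Qt) +
        ((tr f (hU.fromSpec Q) : ℕ) : WithBot ℕ∞) =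
      ((tr f (hU.fromSpec Q') : ℕ) : WithBot ℕ∞) := by
  classical
  letI algAB : Algebra Γ(Y, V) Γ(X, U) := (f.appLE V U hUV).hom.toAlgebra
  haveI : Algebra.FinitePresentation Γ(Y, V) Γ(X, U) :=
    HasRingHomProperty.appLE (P := @LocallyOfFinitePresentation) f inferInstance ⟨V, hV⟩ ⟨U, hU⟩ hUV
  set ζ : Spec (CommRingCat.of (Γ(X, U) ⧸ Q'.asIdeal)) ⟶ Spec Γ(X, U) :=
    Spec.map (CommRingCat.ofHom (Ideal.Quotient.mk Q'.asIdeal)) with hζ
  set hZ : Spec (CommRingCat.of (Γ(X, U) ⧸ Q'.asIdeal)) ⟶ Y :=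
    Spec.map (CommRingCat.ofHom (algebraMap Γ(Y, V) (Γ(X, U) ⧸ Q'.asIdeal))) ≫ hV.fromSpec with hhZ
  haveI : IsClosedImmersion ζ :=
    IsClosedImmersion.spec_of_surjective _ Ideal.Quotient.mk_surjective
  have hcomp : hZ = ζ ≫ (hU.fromSpec ≫ f) := by
    rw [hhZ, hζ, ← IsAffineOpen.SpecMap_appLE_fromSpec f hV hU hUV, ← Spec.map_comp_assoc]
    rfl
  haveI : LocallyOfFiniteType hZ := by
    rw [hcomp]
    infer_instance
  have htr : ∀ w : Spec (CommRingCat.of (Γ(X, U) ⧸ Q'.asIdeal)), tr hZ w = tr f (hU.fromSpec (ζ w)) := by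
    intro w
    have h2 := Groth.Agent.Lib.Helper4.Equi10.tr_comp_closedImmersion (hU.fromSpec ≫ f) ζ w
    have h3 := Groth.Agent.Lib.Helper4.JacDim1.tr_comp hU.fromSpec f (ζ w)
    rw [Groth.Agent.Lib.Helper4.Chev10.tr_of_surjectiveOnStalks hU.fromSpec (ζ w), add_zero] at h3
    rw [← h3, ← h2]
    congr 1
  have hfZ : ∀ w : Spec (CommRingCat.of (Γ(X, U) ⧸ Q'.asIdeal)), hZ w = f (hU.fromSpec (ζ w)) := by
    intro w
    rw [hcomp]
    rfl
  let Qtp : Spec (CommRingCat.of (Γ(X, U) ⧸ Q'.asIdeal)) := ⟨Qt, inferInstance⟩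
  have hζQt : ζ Qtp = Q := PrimeSpectrum.ext hQt
  haveI : IsDomain (Γ(X, U) ⧸ Q'.asIdeal) := Ideal.Quotient.isDomain Q'.asIdeal
  let η : Spec (CommRingCat.of (Γ(X, U) ⧸ Q'.asIdeal)) := ⟨⊥, Ideal.isPrime_bot⟩
  have hζη : ζ η = Q' := by
    apply PrimeSpectrum.ext
    show (⊥ : Ideal (Γ(X, U) ⧸ Q'.asIdeal)).comap (Ideal.Quotient.mk Q'.asIdeal) = Q'.asIdeal
    rw [← RingHom.ker_eq_comap_bot, Ideal.mk_ker]
  obtain ⟨eg⟩ := exists_fibLocRing_equiv_spec hV.fromSpec hZ rfl Qtp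
  have h1 := Groth.Agent.Helper2.FibDim.fibreDimAt_eq_stalk_add_tr hZ Qtp
  obtain ⟨ζ₀, hζ₀f, hζ₀sp, hζ₀max, hdim⟩ :=
    Groth.Agent.Lib.Helper4.FibDimComp1.exists_fibreMax_tr_eq hZ Qtp
  have hηsp : η ⤳ ζ₀ := by
    refine (PrimeSpectrum.le_iff_specializes (R := (Γ(X, U) ⧸ Q'.asIdeal)) η ζ₀).mp ?_
    rw [← PrimeSpectrum.asIdeal_le_asIdeal]
    exact bot_le
  have hηf : hZ η = hZ ζ₀ := by
    rw [hζ₀f, hfZ, hfZ, hζη, hζQt]
    exact hf
  have hηζ₀ : η = ζ₀ := hζ₀max η hηf hηsp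
  rw [← hηζ₀, htr, hζη] at hdim
  rw [h1, htr, hζQt] at hdim
  rw [← hdim]
  congr 1
  exact ringKrullDim_eq_of_ringEquiv eg

end T3bc

section CL

variable {X Y : Scheme.{u}} (f : X ⟶ Y) [LocallyOfFinitePresentation f] (F : X.Modules)

/-- the local ring of the fibre through `x` -/
abbrev FibR (x : X) : Type u := (f.fiber (f.base x)).presheaf.stalk (f.asFiber x)

/-- the stalk of the restriction of `F` to the fibre through `x` -/
abbrev FibM (x : X) : Type u :=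
  ((Scheme.Modules.pullback (f.fiberι (f.base x))).obj F).presheaf.stalk (f.asFiber x)

variable [F.IsQuasicoherent]
  {U : X.Opens} (hU : IsAffineOpen U) {V : Y.Opens} (hV : IsAffineOpen V) (hUV : U ≤ f ⁻¹ᵁ V)

include hV in
set_option maxHeartbeats 4000000 in
/-- **chart form of the localization dictionary** -/
theorem chart_localization (Q : Spec Γ(X, U)) :
    letI := (f.appLE V U hUV).hom.toAlgebra
    ∀ (𝔭₀ : Ideal (FibLocRing Γ(Y, V) Γ(X, U) Q.asIdeal)) [𝔭₀.IsPrime],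
      ∃ Q' : Spec Γ(X, U),
        Q'.asIdeal = 𝔭₀.comap (algebraMap Γ(X, U) (FibLocRing Γ(Y, V) Γ(X, U) Q.asIdeal)) ∧
        hU.fromSpec Q' ⤳ hU.fromSpec Q ∧ f (hU.fromSpec Q') = f (hU.fromSpec Q) ∧
        Module.supportDim (Localization.AtPrime 𝔭₀)
            (LocalizedModule 𝔭₀.primeCompl (FibLocMod Γ(Y, V) Γ(X, U) Q.asIdeal Γ(F, U))) =
          Module.supportDim (FibR f (hU.fromSpec Q')) (FibM f F (hU.fromSpec Q')) ∧
        depth (Localization.AtPrime 𝔭₀)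
            (LocalizedModule 𝔭₀.primeCompl (FibLocMod Γ(Y, V) Γ(X, U) Q.asIdeal Γ(F, U))) =
          depth (FibR f (hU.fromSpec Q')) (FibM f F (hU.fromSpec Q')) ∧
        ringKrullDim (FibLocRing Γ(Y, V) Γ(X, U) Q.asIdeal ⧸ 𝔭₀) +
            ((tr f (hU.fromSpec Q) : ℕ) : WithBot ℕ∞) =
          ((tr f (hU.fromSpec Q') : ℕ) : WithBot ℕ∞) := by
  classical
  letI algAB : Algebra Γ(Y, V) Γ(X, U) := (f.appLE V U hUV).hom.toAlgebra
  intro 𝔭₀ h𝔭₀
  set L := FibLocRing Γ(Y, V) Γ(X, U) Q.asIdeal with hL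
  let Q' : Spec Γ(X, U) := ⟨𝔭₀.comap (algebraMap Γ(X, U) L), inferInstance⟩
  have hle : Q'.asIdeal ≤ Q.asIdeal := comap_le_of_prime Γ(Y, V) Γ(X, U) Q.asIdeal 𝔭₀
  have hcm : Q'.asIdeal.comap (algebraMap Γ(Y, V) Γ(X, U)) =
      Q.asIdeal.comap (algebraMap Γ(Y, V) Γ(X, U)) :=
    comap_comap_eq_of_prime Γ(Y, V) Γ(X, U) Q.asIdeal 𝔭₀
  have hsp : hU.fromSpec Q' ⤳ hU.fromSpec Q := (fromSpec_specializes_iff hU Q Q').mpr hle
  have hf : f (hU.fromSpec Q') = f (hU.fromSpec Q) := (f_fromSpec_eq_iff f hU hV hUV Q Q').mpr hcm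
  obtain ⟨σ₂, e₂, he₂⟩ :=
    exists_fibLoc_localization_equiv Γ(Y, V) Γ(X, U) Γ(F, U) Q.asIdeal 𝔭₀
  set z := hU.fromSpec Q' with hz
  obtain ⟨σz, ez, hez⟩ := exists_fibre_module_equiv' f F (f z) (f.asFiber z) hU hV hUV Q'
    (f.fiberι_asFiber z).symm
  refine ⟨Q', rfl, hsp, hf, ?_, ?_, ?_⟩
  · have h1 := Groth.Agent.Helper8.Loc.supportDim_eq_of_semilinear
      (R₁ := FibLocRing Γ(Y, V) Γ(X, U) Q'.asIdeal) (R₂ := Localization.AtPrime 𝔭₀) σ₂ e₂ he₂
    have h2 := Groth.Agent.Helper8.Loc.supportDim_eq_of_semilinear σz ez hez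
    exact h1.trans h2.symm
  · have h1 := Groth.Agent.Helper8.Depth.depth_eq_of_semilinear
      (R₁ := FibLocRing Γ(Y, V) Γ(X, U) Q'.asIdeal) (R₂ := Localization.AtPrime 𝔭₀) σ₂ e₂ he₂
    have h2 := Groth.Agent.Helper8.Depth.depth_eq_of_semilinear σz ez hez
    exact h1.trans h2.symm
  · have hker : RingHom.ker (Ideal.Quotient.mk Q'.asIdeal) ≤ Q.asIdeal := by
      rw [Ideal.mk_ker]
      exact hle
    haveI hQt : (Q.asIdeal.map (Ideal.Quotient.mk Q'.asIdeal)).IsPrime :=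
      Ideal.map_isPrime_of_surjective Ideal.Quotient.mk_surjective hker
    have hQtc : (Q.asIdeal.map (Ideal.Quotient.mk Q'.asIdeal)).comap
        (algebraMap Γ(X, U) (Γ(X, U) ⧸ Q'.asIdeal)) = Q.asIdeal := by
      show (Q.asIdeal.map (Ideal.Quotient.mk Q'.asIdeal)).comap (Ideal.Quotient.mk Q'.asIdeal) = _
      rw [Ideal.comap_map_of_surjective _ Ideal.Quotient.mk_surjective,
        ← RingHom.ker_eq_comap_bot]
      exact sup_eq_left.mpr hker
    rw [ringKrullDim_quotient_fibLocRing Γ(Y, V) Γ(X, U) Q'.asIdeal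
      (Q.asIdeal.map (Ideal.Quotient.mk Q'.asIdeal)) Q.asIdeal hQtc hcm.ge 𝔭₀ rfl]
    exact dim_fibLocRing_quotient_chart f hU hV hUV Q Q' hf _ hQtc

end CL

end Groth.Agent.Lead.MFib
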