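import Mathlib
import Groth.Prelude
import Groth.Agent.Lib.Lead.MFib25

/-!
# The localization dictionary for the fibre modules, pointwise (lead)
-/

set_option autoImplicit false
set_option backward.isDefEq.respectTransparency.types false
set_option synthInstance.maxHeartbeats 400000
set_option linter.style.haveILetI false
set_option linter.unusedSectionVars false
universe u

open AlgebraicGeometry CategoryTheory CategoryTheory.Limits TopologicalSpace TensorProduct IsLocalRing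
open Topology

namespace Groth.Agent.Lead.MFib

open LocCoh EGA4 Groth.Agent.Lead.Coprof Groth.Agent.Lead.CMQF
open Groth.Agent.Lib.Helper4.FibDim1 Groth.Agent.Lead.SD Groth.Agent.Lead.RkCons Groth.Agent.Lead.FO
open Groth.Agent.Helper3.FibStalk Groth.Agent.Lead.SkLoc

section LD

variable {X Y : Scheme.{u}} (f : X ⟶ Y) [LocallyOfFinitePresentation f] (F : X.Modules)

set_option maxHeartbeats 4000000 in
/-- primes of the local ring of the fibre give generizations in the fibre, with the expected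
localizations -/
theorem exists_point_of_prime (hF : CohB1.IsFP F) (x : X) (𝔭 : Ideal (FibR f x)) [𝔭.IsPrime] :
    ∃ z : X, z ⤳ x ∧ f z = f x ∧
      Module.supportDim (Localization.AtPrime 𝔭) (LocalizedModule 𝔭.primeCompl (FibM f F x)) =
        Module.supportDim (FibR f z) (FibM f F z) ∧
      depth (Localization.AtPrime 𝔭) (LocalizedModule 𝔭.primeCompl (FibM f F x)) =
        depth (FibR f z) (FibM f F z) ∧
      ringKrullDim (FibR f x ⧸ 𝔭) + ((tr f x : ℕ) : WithBot ℕ∞) =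
        ((tr f z : ℕ) : WithBot ℕ∞) := by
  haveI : SheafOfModules.IsFinitePresentation (R := X.ringCatSheaf) F := hF
  haveI : F.IsQuasicoherent := inferInstance
  obtain ⟨U, hU, V, hV, hUV, N, ψ, hxU, -, hψC, hψ⟩ := exists_chart f x 0
  letI algAB : Algebra Γ(Y, V) Γ(X, U) := (f.appLE V U hUV).hom.toAlgebra
  set Q := hU.primeIdealOf ⟨x, hxU⟩ with hQdef
  have hQ : hU.fromSpec Q = x := hU.fromSpec_primeIdealOf ⟨x, hxU⟩
  obtain ⟨σ, e, he⟩ := exists_fibre_module_equiv' f F (f x) (f.asFiber x) hU hV hUV Q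
    (hQ.trans (f.fiberι_asFiber x).symm)
  set 𝔭₀ : Ideal (FibLocRing Γ(Y, V) Γ(X, U) Q.asIdeal) := 𝔭.comap (σ : _ →+* _) with h𝔭₀
  haveI : 𝔭₀.IsPrime := Ideal.comap_isPrime _ _
  obtain ⟨Q', -, hsp, hf, hsd, hdp, hdim⟩ := chart_localization f F hU hV hUV Q 𝔭₀
  rw [hQ] at hsp hf hdim
  refine ⟨hU.fromSpec Q', hsp, hf, ?_, ?_, ?_⟩
  · rw [← hsd]
    exact supportDim_localized_eq_of_semilinear σ e he 𝔭₀ 𝔭 rfl
  · rw [← hdp]
    exact depth_localized_eq_of_semilinear σ e he 𝔭₀ 𝔭 rfl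
  · rw [← hdim]
    congr 1
    exact ringKrullDim_quotient_eq_of_ringEquiv σ 𝔭₀ 𝔭 rfl

set_option maxHeartbeats 4000000 in
/-- generizations in the fibre give primes of the local ring of the fibre, with the expected
localizations -/
theorem exists_prime_of_point (hF : CohB1.IsFP F) (x z : X) (hzx : z ⤳ x) (hfz : f z = f x) :
    ∃ (𝔭 : Ideal (FibR f x)) (_ : 𝔭.IsPrime),
      Module.supportDim (Localization.AtPrime 𝔭) (LocalizedModule 𝔭.primeCompl (FibM f F x)) =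
        Module.supportDim (FibR f z) (FibM f F z) ∧
      depth (Localization.AtPrime 𝔭) (LocalizedModule 𝔭.primeCompl (FibM f F x)) =
        depth (FibR f z) (FibM f F z) ∧
      ringKrullDim (FibR f x ⧸ 𝔭) + ((tr f x : ℕ) : WithBot ℕ∞) =
        ((tr f z : ℕ) : WithBot ℕ∞) := by
  haveI : SheafOfModules.IsFinitePresentation (R := X.ringCatSheaf) F := hF
  haveI : F.IsQuasicoherent := inferInstance
  obtain ⟨U, hU, V, hV, hUV, N, ψ, hxU, -, hψC, hψ⟩ := exists_chart f x 0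
  letI algAB : Algebra Γ(Y, V) Γ(X, U) := (f.appLE V U hUV).hom.toAlgebra
  have hzU : z ∈ U := hzx.mem_open U.isOpen hxU
  set Q := hU.primeIdealOf ⟨x, hxU⟩ with hQdef
  have hQ : hU.fromSpec Q = x := hU.fromSpec_primeIdealOf ⟨x, hxU⟩
  set Qz := hU.primeIdealOf ⟨z, hzU⟩ with hQzdef
  have hQz : hU.fromSpec Qz = z := hU.fromSpec_primeIdealOf ⟨z, hzU⟩
  have hle : Qz.asIdeal ≤ Q.asIdeal := by
    rw [← fromSpec_specializes_iff hU Q Qz, hQ, hQz]
    exact hzx
  have hcm : Qz.asIdeal.comap (algebraMap Γ(Y, V) Γ(X, U)) =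
      Q.asIdeal.comap (algebraMap Γ(Y, V) Γ(X, U)) := by
    rw [← f_fromSpec_eq_iff f hU hV hUV Q Qz, hQ, hQz]
    exact hfz
  obtain ⟨σ, e, he⟩ := exists_fibre_module_equiv' f F (f x) (f.asFiber x) hU hV hUV Q
    (hQ.trans (f.fiberι_asFiber x).symm)
  obtain ⟨𝔭₀, h𝔭₀, h𝔭₀c⟩ := exists_prime_comap_eq Γ(Y, V) Γ(X, U) Q.asIdeal Qz.asIdeal hle hcm
  haveI := h𝔭₀
  set 𝔭 : Ideal (FibR f x) := 𝔭₀.comap (σ.symm : _ →+* _) with h𝔭
  haveI h𝔭p : 𝔭.IsPrime := Ideal.comap_isPrime _ _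
  have hp : 𝔭.comap (σ : FibLocRing Γ(Y, V) Γ(X, U) Q.asIdeal →+* FibR f x) = 𝔭₀ := by
    ext r
    rw [Ideal.mem_comap, h𝔭, Ideal.mem_comap]
    show σ.symm (σ r) ∈ 𝔭₀ ↔ _
    rw [RingEquiv.symm_apply_apply]
  obtain ⟨Q', hQ'eq, hsp, hf, hsd, hdp, hdim⟩ := chart_localization f F hU hV hUV Q 𝔭₀
  have hQ'Qz : Q' = Qz := PrimeSpectrum.ext (hQ'eq.trans h𝔭₀c)
  rw [hQ'Qz, hQz] at hsd hdp hdim
  rw [hQ] at hdim
  refine ⟨𝔭, h𝔭p, ?_, ?_, ?_⟩
  · rw [← hsd]
    exact supportDim_localized_eq_of_semilinear σ e he 𝔭₀ 𝔭 hp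
  · rw [← hdp]
    exact depth_localized_eq_of_semilinear σ e he 𝔭₀ 𝔭 hp
  · rw [← hdim]
    congr 1
    exact ringKrullDim_quotient_eq_of_ringEquiv σ 𝔭₀ 𝔭 hp

end LD

end Groth.Agent.Lead.MFib
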