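import Mathlib
import Groth.Prelude
import Groth.Agent.Lib.Lead.MFib26

/-!
# Equidimensionality and `(S_k)` of the fibre modules in terms of generizations (lead)
-/

set_option autoImplicit false
set_option backward.isDefEq.respectTransparency.types false
set_option synthInstance.maxHeartbeats 400000
set_option linter.style.haveILetI false
set_option linter.unusedSectionVars false
universe u

open AlgebraicGeometry CategoryTheory CategoryTheory.Limits TopologicalSpace TensorProduct IsLocalRing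
open Topology

namespace Groth.Agent.Lead.MFib

open LocCoh EGA4 Groth.Agent.Lead.Coprof Groth.Agent.Lead.CMQF
open Groth.Agent.Lib.Helper4.FibDim1 Groth.Agent.Lead.SD Groth.Agent.Lead.RkCons Groth.Agent.Lead.FO
open Groth.Agent.Helper3.FibStalk Groth.Agent.Lead.SkLoc

section Pointwise

variable {X Y : Scheme.{u}} (f : X ⟶ Y) [LocallyOfFinitePresentation f] (F : X.Modules)

theorem hasSk_fibre_iff (hF : CohB1.IsFP F) (k : ℕ) (x : X) :
    HasSk k (FibR f x) (FibM f F x) ↔
      ∀ z : X, z ⤳ x → f z = f x →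
        min (k : WithBot ℕ∞) (Module.supportDim (FibR f z) (FibM f F z)) ≤
          ((depth (FibR f z) (FibM f F z) : ℕ∞) : WithBot ℕ∞) := by
  constructor
  · intro h z hzx hfz
    obtain ⟨𝔭, h𝔭, hsd, hdp, -⟩ := exists_prime_of_point f F hF x z hzx hfz
    have := h 𝔭
    rw [hsd, hdp] at this
    exact this
  · intro h 𝔭 h𝔭
    obtain ⟨z, hzx, hfz, hsd, hdp, -⟩ := exists_point_of_prime f F hF x 𝔭
    rw [hsd, hdp]
    exact h z hzx hfz

theorem isEquidim_fibre_iff (hF : CohB1.IsFP F) (x : X) :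
    IsEquidimModule (FibR f x) (FibM f F x) ↔
      ∀ z : X, z ⤳ x → f z = f x → Module.supportDim (FibR f z) (FibM f F z) = 0 →
        ((tr f z : ℕ) : WithBot ℕ∞) =
          Module.supportDim (FibR f x) (FibM f F x) + ((tr f x : ℕ) : WithBot ℕ∞) := by
  haveI := finite_fibre_stalk f F hF x
  constructor
  · intro h z hzx hfz hz0
    obtain ⟨𝔭, h𝔭, hsd, -, hdim⟩ := exists_prime_of_point f F hF x z hzx hfz
    rw [hz0] at hsd
    have hmin := (mem_minimalPrimes_annihilator_iff (FibM f F x) 𝔭).mpr hsd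
    rw [← hdim, h 𝔭 hmin]
  · intro h 𝔭 hmin
    haveI : 𝔭.IsPrime := hmin.1.1
    have hsd0 := (mem_minimalPrimes_annihilator_iff (FibM f F x) 𝔭).mp hmin
    obtain ⟨z, hzx, hfz, hsd, -, hdim⟩ := exists_point_of_prime f F hF x 𝔭
    rw [hsd0] at hsd
    have := h z hzx hfz hsd.symm
    rw [← hdim] at this
    exact Groth.Agent.Lib.Helper4.FibDim1.add_natCast_cancel _ _ (tr f x) this

end Pointwise

section MinDim

/-- a minimal prime of the support of maximal dimension (after helper3's `KMod2`) -/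
theorem exists_minimalPrimes_annihilator_dim_eq' {R : Type u} [CommRing R] (M : Type u)
    [AddCommGroup M] [Module R M] [Module.Finite R M] (n : ℕ)
    (hn : Module.supportDim R M = n) :
    ∃ Q ∈ (Module.annihilator R M).minimalPrimes, ringKrullDim (R ⧸ Q) = n := by
  have h1 : ((n : ℕ) : WithBot ℕ∞) ≤ Order.krullDim (Module.support R M) := by
    rw [← hn]; rfl
  obtain ⟨l, hl⟩ := Order.le_krullDim_iff.1 h1
  have hhead : Module.annihilator R M ≤ l.head.1.asIdeal :=
    Module.mem_support_iff_of_finite.1 l.head.2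
  haveI := l.head.1.isPrime
  obtain ⟨Q, hQ, hQle⟩ := Ideal.exists_minimalPrimes_le hhead
  haveI hQprime : Q.IsPrime := hQ.1.1
  refine ⟨Q, hQ, le_antisymm ?_ ?_⟩
  · rw [← hn]
    have hQs : (⟨Q, hQprime⟩ : PrimeSpectrum R) ∈ Module.support R M :=
      Module.mem_support_iff_of_finite.2 hQ.1.2
    exact Groth.Agent.Helper8.Depth.dim_quotient_le_supportDim_of_mem_support ⟨Q, hQprime⟩ hQs
  · rw [ringKrullDim_quotient]
    have hmem : ∀ i, (l i).1 ∈ PrimeSpectrum.zeroLocus (Q : Set R) := by
      intro i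
      rw [PrimeSpectrum.mem_zeroLocus]
      have h2 : l.head ≤ l i := LTSeries.head_le l i
      exact hQle.trans ((PrimeSpectrum.asIdeal_le_asIdeal _ _).2 h2)
    let l' : LTSeries (PrimeSpectrum.zeroLocus (Q : Set R)) :=
      { length := l.length
        toFun := fun i => ⟨(l i).1, hmem i⟩
        step := fun i => l.step i }
    have := Order.LTSeries.length_le_krullDim l'
    rw [← hl]
    exact this

end MinDim

section Values

variable {X Y : Scheme.{u}} (f : X ⟶ Y) [LocallyOfFinitePresentation f] (F : X.Modules)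

theorem mem_Supp_iff_sd_ne_bot (z : X) :
    z ∈ Supp f F ↔ Module.supportDim (FibR f z) (FibM f F z) ≠ ⊥ := by
  rw [Module.supportDim_ne_bot_iff_nontrivial]
  rfl

theorem exists_nat_values (hF : CohB1.IsFP F) (z : X) (hz : z ∈ Supp f F) :
    ∃ s d : ℕ, Module.supportDim (FibR f z) (FibM f F z) = ((s : ℕ) : WithBot ℕ∞) ∧
      depth (FibR f z) (FibM f F z) = ((d : ℕ) : ℕ∞) ∧ d ≤ s := by
  haveI : IsLocallyNoetherian (f.fiber (f z)) := isLocallyNoetherian_fiber f (f z)
  haveI := finite_fibre_stalk f F hF z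
  haveI : Nontrivial (FibM f F z) := hz
  obtain ⟨e, he⟩ := Groth.Agent.Lead.CMAt.exists_nat_dim (FibR f z)
  have h1 : Module.supportDim (FibR f z) (FibM f F z) ≤ ((e : ℕ) : WithBot ℕ∞) := by
    rw [← he]
    exact Module.supportDim_le_ringKrullDim _ _
  have h2 : Module.supportDim (FibR f z) (FibM f F z) ≠ ⊥ :=
    Module.supportDim_ne_bot_of_nontrivial _ _
  have h3 := Groth.Agent.Helper8.Depth.depth_le_supportDim (A := FibR f z) (M := FibM f F z)
  generalize Module.supportDim (FibR f z) (FibM f F z) = S at h1 h2 h3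
  generalize depth (FibR f z) (FibM f F z) = D at h3
  induction S using WithBot.recBotCoe with
  | bot => exact absurd rfl h2
  | coe S =>
    induction S using ENat.recTopCoe with
    | top =>
      exfalso
      have : ((⊤ : ℕ∞) : WithBot ℕ∞) ≤ (((e : ℕ) : ℕ∞) : WithBot ℕ∞) := h1
      rw [WithBot.coe_le_coe] at this
      exact absurd this (by simp)
    | coe s =>
      have h3' : D ≤ (s : ℕ∞) := by
        have : ((D : ℕ∞) : WithBot ℕ∞) ≤ (((s : ℕ) : ℕ∞) : WithBot ℕ∞) := h3
        exact WithBot.coe_le_coe.mp this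
      induction D using ENat.recTopCoe with
      | top => exact absurd h3' (by simp)
      | coe d =>
        refine ⟨s, d, rfl, rfl, ?_⟩
        exact_mod_cast h3'

theorem tr_le_sd_add_tr (hF : CohB1.IsFP F) (x z : X) (hz : z ∈ Supp f F) (hzx : z ⤳ x)
    (hfz : f z = f x) :
    ((tr f z : ℕ) : WithBot ℕ∞) ≤
      Module.supportDim (FibR f x) (FibM f F x) + ((tr f x : ℕ) : WithBot ℕ∞) := by
  haveI := finite_fibre_stalk f F hF x
  obtain ⟨𝔭, h𝔭, hsd, -, hdim⟩ := exists_prime_of_point f F hF x z hzx hfz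
  have hne : Module.supportDim (Localization.AtPrime 𝔭)
      (LocalizedModule 𝔭.primeCompl (FibM f F x)) ≠ ⊥ := by
    rw [hsd]
    exact (mem_Supp_iff_sd_ne_bot f F z).mp hz
  rw [Module.supportDim_ne_bot_iff_nontrivial] at hne
  have hmem : (⟨𝔭, h𝔭⟩ : PrimeSpectrum (FibR f x)) ∈ Module.support (FibR f x) (FibM f F x) := by
    rw [Module.mem_support_iff]
    exact hne
  have hle := Groth.Agent.Helper8.Depth.dim_quotient_le_supportDim_of_mem_support _ hmem
  rw [← hdim]
  exact add_le_add_left hle _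

theorem exists_max_point (hF : CohB1.IsFP F) (x : X) (hx : x ∈ Supp f F) :
    ∃ ζ : X, ζ ∈ Supp f F ∧ ζ ⤳ x ∧ f ζ = f x ∧
      Module.supportDim (FibR f ζ) (FibM f F ζ) = 0 ∧
      ((tr f ζ : ℕ) : WithBot ℕ∞) =
        Module.supportDim (FibR f x) (FibM f F x) + ((tr f x : ℕ) : WithBot ℕ∞) := by
  haveI := finite_fibre_stalk f F hF x
  obtain ⟨s, d, hs, -, -⟩ := exists_nat_values f F hF x hx
  obtain ⟨𝔭, hmin, hdim𝔭⟩ := exists_minimalPrimes_annihilator_dim_eq' (FibM f F x) s hs
  haveI : 𝔭.IsPrime := hmin.1.1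
  have hsd0 := (mem_minimalPrimes_annihilator_iff (FibM f F x) 𝔭).mp hmin
  obtain ⟨ζ, hζx, hfζ, hsd, -, hdim⟩ := exists_point_of_prime f F hF x 𝔭
  rw [hsd0] at hsd
  refine ⟨ζ, ?_, hζx, hfζ, hsd.symm, ?_⟩
  · rw [mem_Supp_iff_sd_ne_bot, ← hsd]
    exact WithBot.coe_ne_bot
  · rw [← hdim, hdim𝔭, hs]

theorem nat_tr_le (hF : CohB1.IsFP F) (x z : X) (hz : z ∈ Supp f F) (hzx : z ⤳ x)
    (hfz : f z = f x) (sx : ℕ)
    (hsx : Module.supportDim (FibR f x) (FibM f F x) = ((sx : ℕ) : WithBot ℕ∞)) :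
    tr f z ≤ sx + tr f x := by
  have h := tr_le_sd_add_tr f F hF x z hz hzx hfz
  rw [hsx] at h
  exact_mod_cast h

theorem nat_D_le (hF : CohB1.IsFP F) (x z : X) (hz : z ∈ Supp f F) (hzx : z ⤳ x)
    (hfz : f z = f x) (sx sz : ℕ)
    (hsx : Module.supportDim (FibR f x) (FibM f F x) = ((sx : ℕ) : WithBot ℕ∞))
    (hsz : Module.supportDim (FibR f z) (FibM f F z) = ((sz : ℕ) : WithBot ℕ∞)) :
    sz + tr f z ≤ sx + tr f x := by
  obtain ⟨ζ, hζS, hζz, hfζ, -, hζt⟩ := exists_max_point f F hF z hz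
  have h1 := nat_tr_le f F hF x ζ hζS (hζz.trans hzx) (hfζ.trans hfz) sx hsx
  rw [hsz] at hζt
  have h2 : tr f ζ = sz + tr f z := by exact_mod_cast hζt
  omega

theorem rect_eq_of_depth (z : X) (d : ℕ)
    (hd : depth (FibR f z) (FibM f F z) = ((d : ℕ) : ℕ∞)) :
    rect f F z = ((d + tr f z : ℕ) : ℕ∞) := by
  unfold rect
  have hd' : LocCoh.depth ((f.fiber (f.base z)).presheaf.stalk (f.asFiber z))
      (((Scheme.Modules.pullback (f.fiberι (f.base z))).obj F).presheaf.stalk (f.asFiber z)) =
      ((d : ℕ) : ℕ∞) := hd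
  rw [hd']
  push_cast
  rfl

end Values

section Main

variable {X Y : Scheme.{u}} (f : X ⟶ Y) [LocallyOfFinitePresentation f] (F : X.Modules)

/-- the closed sets whose union is the complement of the equidimensional `(S_k)` locus -/
def BadSk (k m : ℕ) : Set X :=
  trGE f (Cset f F m ∩ Supp f F) (m + 1 - k) ∩ trGE f (Supp f F) (m + 1)

theorem isClosed_BadSk (hF : CohB1.IsFP F) (hflat : FlatMod.IsFlatOver f F) (k m : ℕ) :
    IsClosed (BadSk f F k m) :=
  (isClosed_trGE f _ ((isClosed_Cset f F hF hflat m).inter (isClosed_Supp f F hF)) _).inter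
    (isClosed_trGE f _ (isClosed_Supp f F hF) _)

/-- the fibre of `F` through `x` is equidimensional and `(S_k)` at `x` -/
def SkEq (k : ℕ) (x : X) : Prop :=
  IsEquidimModule (FibR f x) (FibM f F x) ∧ HasSk k (FibR f x) (FibM f F x)

set_option maxHeartbeats 2000000 in
theorem skEq_iff (hF : CohB1.IsFP F) (k : ℕ) (hk : 1 ≤ k) (x : X) :
    SkEq f F k x ↔ ∀ m : ℕ, x ∉ BadSk f F k m := by
  have hSc := isClosed_Supp f F hF
  unfold SkEq
  rw [isEquidim_fibre_iff f F hF x, hasSk_fibre_iff f F hF k x]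
  by_cases hx : x ∈ Supp f F
  swap
  · have hno : ∀ z : X, z ⤳ x → z ∉ Supp f F := fun z hzx hz => hx (hzx.mem_closed hSc hz)
    constructor
    · rintro - m ⟨-, w, hwS, hwx, -, -⟩
      exact hno w hwx hwS
    · intro _
      refine ⟨fun z hzx _ hz0 => ?_, fun z hzx _ => ?_⟩
      · exfalso
        apply hno z hzx
        rw [mem_Supp_iff_sd_ne_bot, hz0]
        exact WithBot.coe_ne_bot
      · have : Module.supportDim (FibR f z) (FibM f F z) = ⊥ := by
          by_contra hne
          exact hno z hzx ((mem_Supp_iff_sd_ne_bot f F z).mpr hne)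
        rw [this, min_bot_right]
        exact bot_le
  · obtain ⟨sx, dx, hsx, -, -⟩ := exists_nat_values f F hF x hx
    obtain ⟨ζx, hζxS, hζxx, hfζx, -, hζxt⟩ := exists_max_point f F hF x hx
    rw [hsx] at hζxt
    have hζxt' : tr f ζx = sx + tr f x := by exact_mod_cast hζxt
    constructor
    · rintro ⟨hEq, hSk⟩ m ⟨⟨z, ⟨hzC, hzS⟩, hzx, hfz, h1⟩, ⟨w, hwS, hwx, hfw, h2⟩⟩
      obtain ⟨sz, dz, hsz, hdz, hdsz⟩ := exists_nat_values f F hF z hzS
      have hC : dz + tr f z ≤ m := by
        rw [mem_Cset_iff, rect_eq_of_depth f F z dz hdz] at hzC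
        exact_mod_cast hzC
      have hw := nat_tr_le f F hF x w hwS hwx hfw sx hsx
      obtain ⟨ζ, hζS, hζz, hfζ, hζ0, hζt⟩ := exists_max_point f F hF z hzS
      have h3 := hEq ζ (hζz.trans hzx) (hfζ.trans hfz) hζ0
      rw [hsx] at h3
      rw [hsz] at hζt
      have h3' : tr f ζ = sx + tr f x := by exact_mod_cast h3
      have h4' : tr f ζ = sz + tr f z := by exact_mod_cast hζt
      have h5 := hSk z hzx hfz
      rw [hsz, hdz] at h5
      have h5' : min k sz ≤ dz := by
        rcases le_total k sz with hks | hks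
        · rw [min_eq_left (by exact_mod_cast hks)] at h5
          rw [min_eq_left hks]
          exact_mod_cast h5
        · rw [min_eq_right (by exact_mod_cast hks)] at h5
          rw [min_eq_right hks]
          exact_mod_cast h5
      rcases le_total k sz with hks | hks
      · rw [min_eq_left hks] at h5'
        omega
      · rw [min_eq_right hks] at h5'
        omega
    · intro hbad
      have key : ∀ z : X, z ∈ Supp f F → z ⤳ x → f z = f x → ∀ dz : ℕ,
          depth (FibR f z) (FibM f F z) = ((dz : ℕ) : ℕ∞) →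
          k + tr f z ≤ dz + tr f z ∨ sx + tr f x ≤ dz + tr f z := by
        intro z hzS hzx hfz dz hdz
        by_contra hcon
        rw [not_or, not_le, not_le] at hcon
        apply hbad (dz + tr f z)
        refine ⟨⟨z, ⟨?_, hzS⟩, hzx, hfz, by omega⟩, ⟨ζx, hζxS, hζxx, hfζx, by omega⟩⟩
        rw [mem_Cset_iff, rect_eq_of_depth f F z dz hdz]
      refine ⟨fun z hzx hfz hz0 => ?_, fun z hzx hfz => ?_⟩
      · have hzS : z ∈ Supp f F := by
          rw [mem_Supp_iff_sd_ne_bot, hz0]
          exact WithBot.coe_ne_bot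
        obtain ⟨sz, dz, hsz, hdz, hdsz⟩ := exists_nat_values f F hF z hzS
        rw [hz0] at hsz
        have hsz0 : sz = 0 := by
          have : ((0 : ℕ) : WithBot ℕ∞) = ((sz : ℕ) : WithBot ℕ∞) := by
            rw [← hsz]; rfl
          exact_mod_cast this.symm
        have h1 := key z hzS hzx hfz dz hdz
        have h2 := nat_tr_le f F hF x z hzS hzx hfz sx hsx
        have h3 : tr f z = sx + tr f x := by omega
        rw [hsx, h3]
        push_cast
        rfl
      · by_cases hzS : z ∈ Supp f F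
        · obtain ⟨sz, dz, hsz, hdz, hdsz⟩ := exists_nat_values f F hF z hzS
          have h1 := key z hzS hzx hfz dz hdz
          have h2 := nat_D_le f F hF x z hzS hzx hfz sx sz hsx hsz
          rw [hsz, hdz]
          have h5' : min k sz ≤ dz := by
            rcases le_total k sz with hks | hks
            · rw [min_eq_left hks]; omega
            · rw [min_eq_right hks]; omega
          rcases le_total k sz with hks | hks
          · rw [min_eq_left (by exact_mod_cast hks)]
            rw [min_eq_left hks] at h5'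
            exact_mod_cast h5'
          · rw [min_eq_right (by exact_mod_cast hks)]
            rw [min_eq_right hks] at h5'
            exact_mod_cast h5'
        · have : Module.supportDim (FibR f z) (FibM f F z) = ⊥ := by
            by_contra hne
            exact hzS ((mem_Supp_iff_sd_ne_bot f F z).mpr hne)
          rw [this, min_bot_right]
          exact bot_le

theorem isOpen_skEq (hF : CohB1.IsFP F) (hflat : FlatMod.IsFlatOver f F) (k : ℕ) (hk : 1 ≤ k) :
    IsOpen {x : X | SkEq f F k x} := by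
  classical
  rw [isOpen_iff_forall_mem_open]
  intro x₀ hx₀
  obtain ⟨d₀, O, hO, hx₀O, hOe⟩ := exists_open_trGE_empty f x₀
  refine ⟨O ∩ ⋂ m ∈ Finset.range (d₀ + 1), (BadSk f F k m)ᶜ, ?_, ?_, ?_⟩
  · rintro x ⟨hxO, hx⟩
    rw [Set.mem_ofPred_eq, skEq_iff f F hF k hk]
    intro m hmem
    by_cases hle : m ≤ d₀
    · rw [Set.mem_iInter₂] at hx
      exact hx m (Finset.mem_range.mpr (by omega)) hmem
    · exact hOe x hxO (Supp f F) (m + 1) (by omega) hmem.2
  · refine hO.inter (isOpen_biInter_finset fun m _ => ?_)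
    exact (isClosed_BadSk f F hF hflat k m).isOpen_compl
  · refine ⟨hx₀O, ?_⟩
    rw [Set.mem_iInter₂]
    intro m _ hmem
    exact (skEq_iff f F hF k hk x₀).mp hx₀ m hmem

/-- **S4984** -/
theorem S4984_main (hF : CohB1.IsFP F) (hflat : FlatMod.IsFlatOver f F) (k : ℕ) (hk : 1 ≤ k) :
    IsOpen {x : X | EGA4.IsEquidimModule ((f.fiber (f.base x)).presheaf.stalk (f.asFiber x))
        (((Scheme.Modules.pullback (f.fiberι (f.base x))).obj F).presheaf.stalk (f.asFiber x)) ∧
      LocCoh.HasSk k ((f.fiber (f.base x)).presheaf.stalk (f.asFiber x))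
        (((Scheme.Modules.pullback (f.fiberι (f.base x))).obj F).presheaf.stalk (f.asFiber x))} :=
  isOpen_skEq f F hF hflat k hk

/-- **S5919** -/
theorem S5919_main [IsProper f] (hF : CohB1.IsFP F) (hflat : FlatMod.IsFlatOver f F) (k : ℕ)
    (hk : 1 ≤ k) :
    IsOpen {y : Y | ∀ x : ↥(f.fiber y),
      EGA4.IsEquidimModule ((f.fiber y).presheaf.stalk x)
          (((Scheme.Modules.pullback (f.fiberι y)).obj F).presheaf.stalk x) ∧
        LocCoh.HasSk k ((f.fiber y).presheaf.stalk x)
          (((Scheme.Modules.pullback (f.fiberι y)).obj F).presheaf.stalk x)} :=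
  isOpen_forall_fibre_of_isOpen f
    (fun y x => EGA4.IsEquidimModule ((f.fiber y).presheaf.stalk x)
          (((Scheme.Modules.pullback (f.fiberι y)).obj F).presheaf.stalk x) ∧
        LocCoh.HasSk k ((f.fiber y).presheaf.stalk x)
          (((Scheme.Modules.pullback (f.fiberι y)).obj F).presheaf.stalk x))
    (isOpen_skEq f F hF hflat k hk)

end Main

end Groth.Agent.Lead.MFib
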