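import Mathlib
import Groth.Agent.Lib.Lead.MP3
import Groth.Agent.Lib.Lead.Blow8

set_option autoImplicit false
set_option backward.isDefEq.respectTransparency.types false
set_option synthInstance.maxHeartbeats 400000
set_option linter.style.haveILetI false
set_option linter.unusedSectionVars false

universe u
open CategoryTheory CategoryTheory.Limits AlgebraicGeometry TopologicalSpace Opposite

namespace Groth.Agent.Lead.MP
open Groth.Agent.Helper4

open ModPair in
theorem isFiniteType_prodCentre {S T X : Scheme.{u}} (J : T.IdealSheafData)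
    (I : X.IdealSheafData) (hT : BlowUp.IsEffCartierIdeal J) (hX : BlowUp.IsEffCartierIdeal I)
    (f : X ⟶ S) (g : T ⟶ S) : BlowUp.IsFiniteTypeIdeal (prodCentre f g I J) := by
  intro U
  unfold prodCentre
  rw [Scheme.IdealSheafData.ideal_sup, Pi.sup_apply]
  exact Submodule.FG.sup (fg_of_locPrincipal ((LocPrincipal.of_isEffCartier hX).comap _) U)
    (fg_of_locPrincipal ((LocPrincipal.of_isEffCartier hT).comap _) U)

open ModPair in
/-- S18751 -/
theorem isAmbProd_morphism_props {S T X Y : Scheme.{u}}
    (J : T.IdealSheafData) (I : X.IdealSheafData)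
    (hT : BlowUp.IsEffCartierIdeal J) (hX : BlowUp.IsEffCartierIdeal I)
    (f : X ⟶ S) (g : T ⟶ S)
    (π : Y ⟶ ModPair.mprod f g I J) (K : Y.IdealSheafData) (hY : ModPair.IsAmbProd f g I J π K) :
    ((LocallyOfFiniteType f ∧ QuasiCompact f) →
        LocallyOfFiniteType (π ≫ ModPair.mprodι f g I J ≫ pullback.snd f g) ∧
          QuasiCompact (π ≫ ModPair.mprodι f g I J ≫ pullback.snd f g)) ∧
      (UniversallyClosed f → UniversallyClosed (π ≫ ModPair.mprodι f g I J ≫ pullback.snd f g)) ∧
      (IsProper f → IsProper (π ≫ ModPair.mprodι f g I J ≫ pullback.snd f g)) := by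
  have hπ : IsProper π :=
    Groth.Agent.Lead.Blow.isProper_of_isBlowUp _ (isFiniteType_prodCentre J I hT hX f g) π hY.1
  refine ⟨?_, ?_, ?_⟩
  · rintro ⟨h1, h2⟩
    exact ⟨inferInstance, inferInstance⟩
  · intro h
    infer_instance
  · intro h
    infer_instance

end Groth.Agent.Lead.MP
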