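import Mathlib
import Groth.Agent.Lib.Lead.MP4

set_option autoImplicit false
set_option backward.isDefEq.respectTransparency.types false
set_option synthInstance.maxHeartbeats 400000
set_option linter.style.haveILetI false
set_option linter.unusedSectionVars false

universe u
open CategoryTheory CategoryTheory.Limits AlgebraicGeometry TopologicalSpace Opposite

namespace Groth.Agent.Lead.MP
open Groth.Agent.Helper4

theorem mapDesc_fst {C : Type*} [Category C] {X Y S T : C} (f : X ⟶ S) (g : Y ⟶ S) (i : S ⟶ T)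
    [HasPullback f g] [HasPullback (f ≫ i) (g ≫ i)] :
    pullback.mapDesc f g i ≫ pullback.fst (f ≫ i) (g ≫ i) = pullback.fst f g := by
  rw [pullback.lift_fst, Category.comp_id]

theorem mapDesc_snd {C : Type*} [Category C] {X Y S T : C} (f : X ⟶ S) (g : Y ⟶ S) (i : S ⟶ T)
    [HasPullback f g] [HasPullback (f ≫ i) (g ≫ i)] :
    pullback.mapDesc f g i ≫ pullback.snd (f ≫ i) (g ≫ i) = pullback.snd f g := by
  rw [pullback.lift_snd, Category.comp_id]

open ModPair in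
theorem mapDesc_preimage_prodInterior {S₀ S₁ T X : Scheme.{u}}
    (J : T.IdealSheafData) (I : X.IdealSheafData) (f : X ⟶ S₁) (g : T ⟶ S₁) (σ : S₁ ⟶ S₀) :
    pullback.mapDesc f g σ ⁻¹ᵁ prodInterior (f ≫ σ) (g ≫ σ) I J = prodInterior f g I J := by
  unfold prodInterior
  rw [Scheme.Hom.preimage_inf, ← Scheme.Hom.comp_preimage, ← Scheme.Hom.comp_preimage,
    mapDesc_fst, mapDesc_snd]

open ModPair in
theorem preimage_prodInterior_le {S₀ S₁ T X Z : Scheme.{u}}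
    (J : T.IdealSheafData) (I : X.IdealSheafData) (f : X ⟶ S₁) (g : T ⟶ S₁) (σ : S₁ ⟶ S₀)
    (h : Z ⟶ pullback f g) :
    h ⁻¹ᵁ prodInterior f g I J ≤
      (h ≫ pullback.mapDesc f g σ) ⁻¹ᵁ prodInterior (f ≫ σ) (g ≫ σ) I J := by
  rw [Scheme.Hom.comp_preimage, mapDesc_preimage_prodInterior]

open ModPair in
/-- S18755 -/
theorem existsUnique_ambProd_map {S₀ S₁ T X Y₁ Y₀ : Scheme.{u}}
    (J : T.IdealSheafData) (I : X.IdealSheafData)
    (hT : BlowUp.IsEffCartierIdeal J) (hX : BlowUp.IsEffCartierIdeal I)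
    (f : X ⟶ S₁) (g : T ⟶ S₁) (σ : S₁ ⟶ S₀)
    (π₁ : Y₁ ⟶ ModPair.mprod f g I J) (K₁ : Y₁.IdealSheafData) (hY₁ : ModPair.IsAmbProd f g I J π₁ K₁)
    (π₀ : Y₀ ⟶ ModPair.mprod (f ≫ σ) (g ≫ σ) I J) (K₀ : Y₀.IdealSheafData)
    (hY₀ : ModPair.IsAmbProd (f ≫ σ) (g ≫ σ) I J π₀ K₀) :
    (∃! φ : Y₁ ⟶ Y₀, φ ≫ π₀ ≫ ModPair.mprodι (f ≫ σ) (g ≫ σ) I J =
        π₁ ≫ ModPair.mprodι f g I J ≫ pullback.mapDesc f g σ) ∧
      ∀ φ : Y₁ ⟶ Y₀, φ ≫ π₀ ≫ ModPair.mprodι (f ≫ σ) (g ≫ σ) I J =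
          π₁ ≫ ModPair.mprodι f g I J ≫ pullback.mapDesc f g σ →
        ModPair.IsMinimal K₁ K₀ φ := by
  obtain ⟨hK₁, -, -, hint₁⟩ := isAmbProd_props J I hT hX f g π₁ K₁ hY₁
  have haff := isAffineHom_prodInterior J I hT hX (f ≫ σ) (g ≫ σ)
  -- step (i): factor through `mprod₀`
  have hc : interior K₁ ≤ (π₁ ≫ mprodι f g I J ≫ pullback.mapDesc f g σ) ⁻¹ᵁ
      prodInterior (f ≫ σ) (g ≫ σ) I J := by
    rw [hint₁, ← Category.assoc]
    exact preimage_prodInterior_le J I f g σ (π₁ ≫ mprodι f g I J)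
  have hker := ker_image_le_ker K₁ hK₁ (prodInterior (f ≫ σ) (g ≫ σ) I J) _ hc
  obtain ⟨m', hm'⟩ : ∃ m' : Y₁ ⟶ mprod (f ≫ σ) (g ≫ σ) I J,
      m' ≫ mprodι (f ≫ σ) (g ≫ σ) I J = π₁ ≫ mprodι f g I J ≫ pullback.mapDesc f g σ :=
    ⟨IsClosedImmersion.lift (mprodι (f ≫ σ) (g ≫ σ) I J) _ hker, IsClosedImmersion.lift_fac _ _ _⟩
  -- the pulled back ideals
  have hIc : I.comap (m' ≫ mprodι (f ≫ σ) (g ≫ σ) I J ≫ pullback.fst (f ≫ σ) (g ≫ σ)) =
      (I.comap (mprodι f g I J ≫ pullback.fst f g)).comap π₁ := by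
    rw [reassoc_of% hm', ← Scheme.IdealSheafData.comap_comp]
    simp only [Category.assoc, mapDesc_fst]
  have hJc : J.comap (m' ≫ mprodι (f ≫ σ) (g ≫ σ) I J ≫ pullback.snd (f ≫ σ) (g ≫ σ)) =
      (J.comap (mprodι f g I J ≫ pullback.snd f g)).comap π₁ := by
    rw [reassoc_of% hm', ← Scheme.IdealSheafData.comap_comp]
    simp only [Category.assoc, mapDesc_snd]
  have hE : (prodCentre (f ≫ σ) (g ≫ σ) I J).comap m' = (prodCentre f g I J).comap π₁ := by
    unfold prodCentre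
    rw [Scheme.IdealSheafData.comap_sup, Scheme.IdealSheafData.comap_sup,
      ← Scheme.IdealSheafData.comap_comp, ← Scheme.IdealSheafData.comap_comp, hIc, hJc]
  have hEC : BlowUp.IsEffCartierIdeal ((prodCentre (f ≫ σ) (g ≫ σ) I J).comap m') := by
    rw [hE]
    exact hY₁.1.1
  obtain ⟨φ, hφ, huniq⟩ := hY₀.1.2 Y₁ m' hEC
  constructor
  · refine ⟨φ, ?_, ?_⟩
    · change φ ≫ π₀ ≫ _ = _
      rw [← Category.assoc, hφ, hm']
    · intro φ' hφ'
      apply huniq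
      change φ' ≫ π₀ = m'
      rw [← cancel_mono (mprodι (f ≫ σ) (g ≫ σ) I J), Category.assoc, hφ', hm']
  · intro φ' hφ'
    have hφ'π : φ' ≫ π₀ = m' := by
      rw [← cancel_mono (mprodι (f ≫ σ) (g ≫ σ) I J), Category.assoc, hφ', hm']
    change K₁ = K₀.comap φ'
    apply eq_of_mul_eq_mul_right hY₁.1.1
    have hR : K₀.comap φ' * (prodCentre f g I J).comap π₁ =
        (I.comap (mprodι f g I J ≫ pullback.fst f g)).comap π₁ *
          (J.comap (mprodι f g I J ≫ pullback.snd f g)).comap π₁ := by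
      rw [← hE, ← hφ'π, Scheme.IdealSheafData.comap_comp _ φ' π₀, ← EffCartier.comap_mul, hY₀.2,
        EffCartier.comap_mul]
      congr 1
      · rw [← Scheme.IdealSheafData.comap_comp, ← Scheme.IdealSheafData.comap_comp,
          ← Category.assoc, hφ'π]
        exact hIc
      · rw [← Scheme.IdealSheafData.comap_comp, ← Scheme.IdealSheafData.comap_comp,
          ← Category.assoc, hφ'π]
        exact hJc
    rw [hR]
    exact hY₁.2

end Groth.Agent.Lead.MP
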