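import Mathlib

set_option autoImplicit false
set_option backward.isDefEq.respectTransparency.types false
set_option synthInstance.maxHeartbeats 400000
set_option linter.style.haveILetI false
set_option linter.unusedSectionVars false

universe u
open CategoryTheory CategoryTheory.Limits

namespace Groth.Agent.Lead.MP

section Loc

variable {C D : Type*} [Category C] [Category D] (W : MorphismProperty C)
  [W.HasRightCalculusOfFractions] (L : C ⥤ D) [L.IsLocalization W]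

include W in
theorem exists_frac {Z Y : C} (γ : L.obj Z ⟶ L.obj Y) :
    ∃ (Z' : C) (s : Z' ⟶ Z) (_ : W s) (c : Z' ⟶ Y), L.map s ≫ γ = L.map c := by
  obtain ⟨φ, hφ⟩ := Localization.exists_rightFraction L W γ
  refine ⟨φ.X', φ.s, φ.hs, φ.f, ?_⟩
  rw [hφ, MorphismProperty.RightFraction.map_s_comp_map]

include W in
theorem exists_frac₂ {Z Y₁ Y₂ : C} (γ₁ : L.obj Z ⟶ L.obj Y₁) (γ₂ : L.obj Z ⟶ L.obj Y₂) :
    ∃ (Z' : C) (s : Z' ⟶ Z) (_ : W s) (c₁ : Z' ⟶ Y₁) (c₂ : Z' ⟶ Y₂),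
      L.map s ≫ γ₁ = L.map c₁ ∧ L.map s ≫ γ₂ = L.map c₂ := by
  obtain ⟨Z₁, s₁, hs₁, c₁, h₁⟩ := exists_frac W L γ₁
  obtain ⟨Z₂, s₂, hs₂, c₂, h₂⟩ := exists_frac W L γ₂
  obtain ⟨ψ, hψ⟩ := MorphismProperty.HasRightCalculusOfFractions.exists_rightFraction
    (W := W) (MorphismProperty.LeftFraction.mk s₁ s₂ hs₂)
  dsimp at hψ
  refine ⟨ψ.X', ψ.s ≫ s₁, W.comp_mem _ _ ψ.hs hs₁, ψ.s ≫ c₁, ψ.f ≫ c₂, ?_, ?_⟩
  · rw [L.map_comp, L.map_comp, Category.assoc, h₁]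
  · rw [hψ, L.map_comp, L.map_comp, Category.assoc, h₂]

include W in
/-- a commutative square which is a pullback "up to `W`" becomes a pullback in the
localization (right calculus of fractions). -/
theorem existsUnique_lift_of_frac
    {Y T X P : C} {pT : Y ⟶ T} {pX : Y ⟶ X} {g : T ⟶ P} {f : X ⟶ P}
    (hE : ∀ (Z : C) (a : Z ⟶ T) (b : Z ⟶ X), a ≫ g = b ≫ f →
      ∃ (Z' : C) (s : Z' ⟶ Z) (_ : W s) (c : Z' ⟶ Y), c ≫ pT = s ≫ a ∧ c ≫ pX = s ≫ b)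
    (hU : ∀ (Z : C) (c₁ c₂ : Z ⟶ Y), c₁ ≫ pT = c₂ ≫ pT → c₁ ≫ pX = c₂ ≫ pX →
      ∃ (Z' : C) (s : Z' ⟶ Z) (_ : W s), s ≫ c₁ = s ≫ c₂)
    (Z : C) (α : L.obj Z ⟶ L.obj T) (β : L.obj Z ⟶ L.obj X)
    (hαβ : α ≫ L.map g = β ≫ L.map f) :
    ∃! γ : L.obj Z ⟶ L.obj Y, γ ≫ L.map pT = α ∧ γ ≫ L.map pX = β := by
  have hinv := Localization.inverts L W
  -- existence
  obtain ⟨Z₁, s, hs, a, b, ha, hb⟩ := exists_frac₂ W L α β
  have h1 : L.map (a ≫ g) = L.map (b ≫ f) := by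
    rw [L.map_comp, L.map_comp, ← ha, ← hb, Category.assoc, Category.assoc, hαβ]
  obtain ⟨Z₂, t, ht, h2⟩ := (MorphismProperty.map_eq_iff_precomp L W _ _).mp h1
  obtain ⟨Z₃, u, hu, c, hc1, hc2⟩ := hE Z₂ (t ≫ a) (t ≫ b) (by simpa using h2)
  have hw : W (u ≫ t ≫ s) := W.comp_mem _ _ hu (W.comp_mem _ _ ht hs)
  have hiso : IsIso (L.map (u ≫ t ≫ s)) := hinv _ hw
  refine ⟨inv (L.map (u ≫ t ≫ s)) ≫ L.map c, ⟨?_, ?_⟩, ?_⟩
  · rw [Category.assoc, ← L.map_comp, hc1, IsIso.inv_comp_eq, ← Category.assoc, ← Category.assoc,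
      L.map_comp, L.map_comp, L.map_comp, L.map_comp, Category.assoc, Category.assoc,
      Category.assoc, ha]
  · rw [Category.assoc, ← L.map_comp, hc2, IsIso.inv_comp_eq, ← Category.assoc, ← Category.assoc,
      L.map_comp, L.map_comp, L.map_comp, L.map_comp, Category.assoc, Category.assoc,
      Category.assoc, hb]
  · -- uniqueness
    rintro γ' ⟨hγ'1, hγ'2⟩
    set γ := inv (L.map (u ≫ t ≫ s)) ≫ L.map c with hγ
    have hγ1 : γ ≫ L.map pT = α := by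
      rw [hγ, Category.assoc, ← L.map_comp, hc1, IsIso.inv_comp_eq, ← Category.assoc,
        ← Category.assoc, L.map_comp, L.map_comp, L.map_comp, L.map_comp, Category.assoc,
        Category.assoc, Category.assoc, ha]
    have hγ2 : γ ≫ L.map pX = β := by
      rw [hγ, Category.assoc, ← L.map_comp, hc2, IsIso.inv_comp_eq, ← Category.assoc,
        ← Category.assoc, L.map_comp, L.map_comp, L.map_comp, L.map_comp, Category.assoc,
        Category.assoc, Category.assoc, hb]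
    obtain ⟨Z₄, v, hv, c₁, c₂, hv1, hv2⟩ := exists_frac₂ W L γ' γ
    have e1 : L.map (c₁ ≫ pT) = L.map (c₂ ≫ pT) := by
      rw [L.map_comp, L.map_comp, ← hv1, ← hv2, Category.assoc, Category.assoc, hγ'1, hγ1]
    obtain ⟨Z₅, w₁, hw₁, e1'⟩ := (MorphismProperty.map_eq_iff_precomp L W _ _).mp e1
    have e2 : L.map (w₁ ≫ c₁ ≫ pX) = L.map (w₁ ≫ c₂ ≫ pX) := by
      rw [L.map_comp, L.map_comp, L.map_comp, L.map_comp, ← hv1, ← hv2, Category.assoc,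
        Category.assoc, hγ'2, hγ2]
    obtain ⟨Z₆, w₂, hw₂, e2'⟩ := (MorphismProperty.map_eq_iff_precomp L W _ _).mp e2
    obtain ⟨Z₇, w₃, hw₃, e3⟩ := hU Z₆ (w₂ ≫ w₁ ≫ c₁) (w₂ ≫ w₁ ≫ c₂)
      (by simp only [Category.assoc]; rw [e1'])
      (by simpa only [Category.assoc] using e2')
    have e4 : L.map c₁ = L.map c₂ := by
      rw [MorphismProperty.map_eq_iff_precomp L W]
      refine ⟨Z₇, w₃ ≫ w₂ ≫ w₁, W.comp_mem _ _ hw₃ (W.comp_mem _ _ hw₂ hw₁), ?_⟩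
      simpa only [Category.assoc] using e3
    have hisov : IsIso (L.map v) := hinv _ hv
    rw [← cancel_epi (L.map v), hv1, hv2, e4]

theorem isPullback_of_existsUnique {D : Type*} [Category D] {Y T X P : D}
    {pT : Y ⟶ T} {pX : Y ⟶ X} {g : T ⟶ P} {f : X ⟶ P} (comm : pT ≫ g = pX ≫ f)
    (h : ∀ (A : D) (α : A ⟶ T) (β : A ⟶ X), α ≫ g = β ≫ f →
      ∃! γ : A ⟶ Y, γ ≫ pT = α ∧ γ ≫ pX = β) : IsPullback pT pX g f := by
  refine ⟨⟨comm⟩, ⟨PullbackCone.isLimitAux' _ (fun s => ?_)⟩⟩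
  have hs := h s.pt s.fst s.snd s.condition
  refine ⟨hs.choose, hs.choose_spec.1.1, hs.choose_spec.1.2, ?_⟩
  intro m hm1 hm2
  exact hs.choose_spec.2 m ⟨hm1, hm2⟩

include W in
/-- a commutative square which is a pullback "up to `W`" becomes a pullback in the
localization (right calculus of fractions). -/
theorem isPullback_map_of_frac
    {Y T X P : C} {pT : Y ⟶ T} {pX : Y ⟶ X} {g : T ⟶ P} {f : X ⟶ P} (comm : pT ≫ g = pX ≫ f)
    (hE : ∀ (Z : C) (a : Z ⟶ T) (b : Z ⟶ X), a ≫ g = b ≫ f →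
      ∃ (Z' : C) (s : Z' ⟶ Z) (_ : W s) (c : Z' ⟶ Y), c ≫ pT = s ≫ a ∧ c ≫ pX = s ≫ b)
    (hU : ∀ (Z : C) (c₁ c₂ : Z ⟶ Y), c₁ ≫ pT = c₂ ≫ pT → c₁ ≫ pX = c₂ ≫ pX →
      ∃ (Z' : C) (s : Z' ⟶ Z) (_ : W s), s ≫ c₁ = s ≫ c₂) :
    IsPullback (L.map pT) (L.map pX) (L.map g) (L.map f) := by
  have hess : L.EssSurj := Localization.essSurj L W
  apply isPullback_of_existsUnique (by rw [← L.map_comp, ← L.map_comp, comm])
  intro A α β hαβ
  let e : L.obj (L.objPreimage A) ≅ A := L.objObjPreimageIso A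
  obtain ⟨γ, ⟨hγ1, hγ2⟩, huniq⟩ := existsUnique_lift_of_frac W L hE hU (L.objPreimage A)
    (e.hom ≫ α) (e.hom ≫ β) (by rw [Category.assoc, Category.assoc, hαβ])
  refine ⟨e.inv ≫ γ, ⟨?_, ?_⟩, ?_⟩
  · rw [Category.assoc, hγ1, Iso.inv_hom_id_assoc]
  · rw [Category.assoc, hγ2, Iso.inv_hom_id_assoc]
  · rintro γ' ⟨h1, h2⟩
    have := huniq (e.hom ≫ γ') ⟨by rw [Category.assoc, h1], by rw [Category.assoc, h2]⟩
    rw [← this, Iso.inv_hom_id_assoc]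

end Loc

end Groth.Agent.Lead.MP
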