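import Mathlib
import Groth.Agent.Lib.Lead.MP5
import Groth.Agent.Lib.Lead.MP6

set_option autoImplicit false
set_option backward.isDefEq.respectTransparency.types false
set_option synthInstance.maxHeartbeats 400000
set_option linter.style.haveILetI false
set_option linter.unusedSectionVars false

universe u
open CategoryTheory CategoryTheory.Limits AlgebraicGeometry TopologicalSpace Opposite

namespace Groth.Agent.Lead.MP
open Groth.Agent.Helper4

/-- a locally principal ideal containing an effective Cartier ideal is effective Cartier. -/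
theorem isEffCartier_of_le {Z : Scheme.{u}} {I 𝓛 : Z.IdealSheafData}
    (hI : BlowUp.IsEffCartierIdeal I) (hle : I ≤ 𝓛) (hloc : LocPrincipal 𝓛) :
    BlowUp.IsEffCartierIdeal 𝓛 := by
  intro x
  obtain ⟨U, hxU, a, ha⟩ := hloc x
  obtain ⟨V, hxV, hVU, z, hz, hIz⟩ := EffCartier.shrink hI x U.1 hxU
  refine ⟨V, hxV, (Z.presheaf.map (homOfLE hVU).op).hom a, ?_, ?_⟩
  · have h1 : 𝓛.ideal V = Ideal.span {(Z.presheaf.map (homOfLE hVU).op).hom a} := by
      rw [← 𝓛.map_ideal (U := V) (V := U) hVU, ha, Ideal.map_span, Set.image_singleton]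
      rfl
    apply EffCartier.nzd_of_mem_span z _ hz
    rw [← h1]
    apply hle V
    rw [hIz]
    exact Ideal.subset_span rfl
  · rw [← 𝓛.map_ideal (U := V) (V := U) hVU, ha, Ideal.map_span, Set.image_singleton]
    rfl

theorem isIso_restrict_of_le {X Y : Scheme.{u}} (f : X ⟶ Y) {U V : Y.Opens} (h : V ≤ U)
    [IsIso (f ∣_ U)] : IsIso (f ∣_ V) := by
  have sq : IsPullback (𝟙 X) f f (𝟙 Y) := IsPullback.of_horiz_isIso ⟨by simp⟩
  exact isIso_restrict_of_isPullback sq U V h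

section AmbProdPullback

open ModPair

variable (P T X : ModPair.Pair.{u}) (f : X ⟶ P) (g : T ⟶ P)
  {Y : Scheme.{u}} (π : Y ⟶ ModPair.mprod f.hom g.hom X.mod T.mod) (K : Y.IdealSheafData)
  (hY : ModPair.IsAmbProd f.hom g.hom X.mod T.mod π K)

include hY in
theorem le_exceptional_of_isAmbProd : K ≤ (prodCentre f.hom g.hom X.mod T.mod).comap π := by
  obtain ⟨-, h1, -, -⟩ := isAmbProd_props T.mod X.mod T.isEffCartier X.isEffCartier f.hom g.hom π K hY
  refine le_trans h1 ?_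
  unfold prodCentre
  rw [Scheme.IdealSheafData.comap_sup, Scheme.IdealSheafData.comap_comp]
  exact le_sup_left

include hY in
/-- uniqueness of maps into the ambient product. -/
theorem ambProd_hom_ext {Z : Scheme.{u}} (IZ : Z.IdealSheafData) (hZ : BlowUp.IsEffCartierIdeal IZ)
    (c₁ c₂ : Z ⟶ Y) (hc₁ : IsAmbient IZ K c₁)
    (h1 : c₁ ≫ π ≫ mprodι f.hom g.hom X.mod T.mod ≫ pullback.snd f.hom g.hom =
      c₂ ≫ π ≫ mprodι f.hom g.hom X.mod T.mod ≫ pullback.snd f.hom g.hom)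
    (h2 : c₁ ≫ π ≫ mprodι f.hom g.hom X.mod T.mod ≫ pullback.fst f.hom g.hom =
      c₂ ≫ π ≫ mprodι f.hom g.hom X.mod T.mod ≫ pullback.fst f.hom g.hom) : c₁ = c₂ := by
  have hπ : c₂ ≫ π = c₁ ≫ π := by
    rw [← cancel_mono (mprodι f.hom g.hom X.mod T.mod)]
    apply pullback.hom_ext
    · simp only [Category.assoc]; exact h2.symm
    · simp only [Category.assoc]; exact h1.symm
  have hC : BlowUp.IsEffCartierIdeal ((prodCentre f.hom g.hom X.mod T.mod).comap (c₁ ≫ π)) := by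
    rw [Scheme.IdealSheafData.comap_comp]
    apply isEffCartier_of_le hZ
    · exact le_trans hc₁ (Scheme.IdealSheafData.comap_mono _ (le_exceptional_of_isAmbProd P T X f g π K hY))
    · exact (LocPrincipal.of_isEffCartier hY.1.1).comap _
  obtain ⟨h, -, huniq⟩ := hY.1.2 Z (c₁ ≫ π) hC
  rw [huniq c₁ rfl, huniq c₂ hπ]

include hY in
/-- existence of lifts to the ambient product after an admissible blow-up. -/
theorem ambProd_exists_lift {Z : Scheme.{u}} (IZ : Z.IdealSheafData)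
    (hZ : BlowUp.IsEffCartierIdeal IZ) (a : Z ⟶ T.total) (b : Z ⟶ X.total)
    (ha : IsAmbient IZ T.mod a) (hb : IsAmbient IZ X.mod b) (hab : a ≫ g.hom = b ≫ f.hom) :
    ∃ (Z' : Scheme.{u}) (β : Z' ⟶ Z) (c : Z' ⟶ Y),
      BlowUp.IsEffCartierIdeal (IZ.comap β) ∧ IsAdmBlowup (IZ.comap β) IZ β ∧
        IsAmbient (IZ.comap β) K c ∧
        c ≫ π ≫ mprodι f.hom g.hom X.mod T.mod ≫ pullback.snd f.hom g.hom = β ≫ a ∧
        c ≫ π ≫ mprodι f.hom g.hom X.mod T.mod ≫ pullback.fst f.hom g.hom = β ≫ b := by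
  -- the centre on `Z`
  obtain ⟨Z', β, hβ⟩ := Groth.Agent.Lead.Blow.exists_isBlowUp Z (X.mod.comap b ⊔ T.mod.comap a)
  have hlocX : LocPrincipal (X.mod.comap b) := (LocPrincipal.of_isEffCartier X.isEffCartier).comap _
  have hlocT : LocPrincipal (T.mod.comap a) := (LocPrincipal.of_isEffCartier T.isEffCartier).comap _
  have hI' : BlowUp.IsEffCartierIdeal (IZ.comap β) :=
    BlowUpLemmas.comap_of_isBlowUp _ β hβ IZ hZ
  have hft : BlowUp.IsFiniteTypeIdeal (X.mod.comap b ⊔ T.mod.comap a) := by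
    intro U
    rw [Scheme.IdealSheafData.ideal_sup, Pi.sup_apply]
    exact Submodule.FG.sup (fg_of_locPrincipal hlocX U) (fg_of_locPrincipal hlocT U)
  have hadm : IsAdmBlowup (IZ.comap β) IZ β := by
    refine ⟨rfl, Groth.Agent.Lead.Blow.isProper_of_isBlowUp _ hft β hβ, ?_⟩
    have h1 : IsIso (β ∣_ (X.mod.comap b ⊔ T.mod.comap a).support.compl) :=
      Groth.Agent.S1682.result _ β hβ
    apply isIso_restrict_of_le β (U := (X.mod.comap b ⊔ T.mod.comap a).support.compl)
    intro x hx hx'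
    apply hx
    exact Scheme.IdealSheafData.support_antitone (hb.trans le_sup_left) hx'
  -- the map to the fibre product
  have hcond : (β ≫ b) ≫ f.hom = (β ≫ a) ≫ g.hom := by
    rw [Category.assoc, Category.assoc, hab]
  have haff := isAffineHom_prodInterior T.mod X.mod T.isEffCartier X.isEffCartier f.hom g.hom
  have hc : interior (IZ.comap β) ≤
      (pullback.lift (β ≫ b) (β ≫ a) hcond) ⁻¹ᵁ prodInterior f.hom g.hom X.mod T.mod := by
    rw [interior_comap]
    intro x hx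
    constructor
    · change pullback.fst f.hom g.hom _ ∈ interior X.mod
      rw [← Scheme.Hom.comp_apply, pullback.lift_fst, Scheme.Hom.comp_apply]
      exact interior_le_of_isAmbient hb hx
    · change pullback.snd f.hom g.hom _ ∈ interior T.mod
      rw [← Scheme.Hom.comp_apply, pullback.lift_snd, Scheme.Hom.comp_apply]
      exact interior_le_of_isAmbient ha hx
  have hker := ker_image_le_ker (IZ.comap β) hI' (prodInterior f.hom g.hom X.mod T.mod) _ hc
  obtain ⟨c₁, hc₁⟩ : ∃ c₁ : Z' ⟶ mprod f.hom g.hom X.mod T.mod,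
      c₁ ≫ mprodι f.hom g.hom X.mod T.mod = pullback.lift (β ≫ b) (β ≫ a) hcond :=
    ⟨IsClosedImmersion.lift (mprodι f.hom g.hom X.mod T.mod) _ hker,
      IsClosedImmersion.lift_fac _ _ _⟩
  have hfst : c₁ ≫ mprodι f.hom g.hom X.mod T.mod ≫ pullback.fst f.hom g.hom = β ≫ b := by
    rw [reassoc_of% hc₁, pullback.lift_fst]
  have hsnd : c₁ ≫ mprodι f.hom g.hom X.mod T.mod ≫ pullback.snd f.hom g.hom = β ≫ a := by
    rw [reassoc_of% hc₁, pullback.lift_snd]
  have hE : (prodCentre f.hom g.hom X.mod T.mod).comap c₁ =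
      X.mod.comap (β ≫ b) ⊔ T.mod.comap (β ≫ a) := by
    unfold prodCentre
    rw [Scheme.IdealSheafData.comap_sup, ← Scheme.IdealSheafData.comap_comp,
      ← Scheme.IdealSheafData.comap_comp, hfst, hsnd]
  have hE' : BlowUp.IsEffCartierIdeal (X.mod.comap (β ≫ b) ⊔ T.mod.comap (β ≫ a)) := by
    have := hβ.1
    rwa [Scheme.IdealSheafData.comap_sup, ← Scheme.IdealSheafData.comap_comp,
      ← Scheme.IdealSheafData.comap_comp] at this
  obtain ⟨c, hc, -⟩ := hY.1.2 Z' c₁ (by rw [hE]; exact hE')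
  change c ≫ π = c₁ at hc
  have hle₁ : IZ.comap β ≤ X.mod.comap (β ≫ b) := by
    rw [Scheme.IdealSheafData.comap_comp]
    exact Scheme.IdealSheafData.comap_mono _ hb
  have hle₂ : IZ.comap β ≤ T.mod.comap (β ≫ a) := by
    rw [Scheme.IdealSheafData.comap_comp]
    exact Scheme.IdealSheafData.comap_mono _ ha
  have h₁ : BlowUp.IsEffCartierIdeal (X.mod.comap (β ≫ b)) :=
    isEffCartier_of_le hI' hle₁ ((LocPrincipal.of_isEffCartier X.isEffCartier).comap _)
  have h₂ : BlowUp.IsEffCartierIdeal (T.mod.comap (β ≫ a)) :=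
    isEffCartier_of_le hI' hle₂ ((LocPrincipal.of_isEffCartier T.isEffCartier).comap _)
  obtain ⟨I₁', I₂', -, -, e₁, e₂, -, hD⟩ := effCartier_sub_inter_coprime _ _ h₁ h₂ hE'
  have hKc : K.comap c * (X.mod.comap (β ≫ b) ⊔ T.mod.comap (β ≫ a)) =
      X.mod.comap (β ≫ b) * T.mod.comap (β ≫ a) := by
    have h3 := congrArg (fun 𝓐 : Y.IdealSheafData => 𝓐.comap c) hY.2
    simp only [EffCartier.comap_mul, ← Scheme.IdealSheafData.comap_comp] at h3
    rw [reassoc_of% hc, reassoc_of% hc, hfst, hsnd, hc, hE] at h3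
    exact h3
  have hKeq : K.comap c = I₁' * I₂' * (X.mod.comap (β ≫ b) ⊔ T.mod.comap (β ≫ a)) := by
    apply eq_of_mul_eq_mul_right hE'
    rw [hKc]
    nth_rw 1 [e₁]
    nth_rw 2 [e₂]
    ring
  refine ⟨Z', β, c, hI', hadm, ?_, ?_, ?_⟩
  · change _ ≤ _
    rw [hKeq]
    exact hD _ hI' hle₁ hle₂
  · rw [reassoc_of% hc, hsnd]
  · rw [reassoc_of% hc, hfst]

instance : (ModPair.Pair.admBlowup.{u}).HasRightCalculusOfFractions :=
  admBlowup_hasRightCalculusOfFractions

include hY in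
/-- S18752 -/
theorem isPullback_localization_ambProd (hK : BlowUp.IsEffCartierIdeal K)
    (hX : ModPair.IsAmbient K X.mod
      (π ≫ ModPair.mprodι f.hom g.hom X.mod T.mod ≫ pullback.fst f.hom g.hom))
    (hT : ModPair.IsAmbient K T.mod
      (π ≫ ModPair.mprodι f.hom g.hom X.mod T.mod ≫ pullback.snd f.hom g.hom)) :
    IsPullback
      ((ModPair.Pair.admBlowup.{u}).Q.map
        (ModPair.Pair.Hom.mk (P := ModPair.Pair.mk Y K hK) (Q := T)
          (π ≫ ModPair.mprodι f.hom g.hom X.mod T.mod ≫ pullback.snd f.hom g.hom) hT))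
      ((ModPair.Pair.admBlowup.{u}).Q.map
        (ModPair.Pair.Hom.mk (P := ModPair.Pair.mk Y K hK) (Q := X)
          (π ≫ ModPair.mprodι f.hom g.hom X.mod T.mod ≫ pullback.fst f.hom g.hom) hX))
      ((ModPair.Pair.admBlowup.{u}).Q.map g) ((ModPair.Pair.admBlowup.{u}).Q.map f) := by
  apply isPullback_map_of_frac (ModPair.Pair.admBlowup.{u}) (ModPair.Pair.admBlowup.{u}).Q
  · apply Pair.Hom.ext
    change (π ≫ mprodι f.hom g.hom X.mod T.mod ≫ pullback.snd f.hom g.hom) ≫ g.hom =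
      (π ≫ mprodι f.hom g.hom X.mod T.mod ≫ pullback.fst f.hom g.hom) ≫ f.hom
    simp only [Category.assoc, pullback.condition]
  · intro Z a b hab
    obtain ⟨Z', β, c, hI', hadm, hc, h1, h2⟩ := ambProd_exists_lift P T X f g π K hY Z.mod
      Z.isEffCartier a.hom b.hom a.cond b.cond (congrArg Pair.Hom.hom hab)
    refine ⟨⟨Z', Z.mod.comap β, hI'⟩, ⟨β, le_rfl⟩, hadm, ⟨c, hc⟩, ?_, ?_⟩
    · apply Pair.Hom.ext
      exact h1
    · apply Pair.Hom.ext
      exact h2
  · intro Z c₁ c₂ h1 h2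
    refine ⟨Z, 𝟙 Z, isAdmBlowup_id Z.mod, ?_⟩
    rw [Category.id_comp, Category.id_comp]
    apply Pair.Hom.ext
    exact ambProd_hom_ext P T X f g π K hY Z.mod Z.isEffCartier c₁.hom c₂.hom c₁.cond
      (congrArg Pair.Hom.hom h1) (congrArg Pair.Hom.hom h2)

end AmbProdPullback

end Groth.Agent.Lead.MP
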