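import Mathlib
import Groth.Agent.Lib.Lead.MP7

set_option autoImplicit false
set_option backward.isDefEq.respectTransparency.types false
set_option synthInstance.maxHeartbeats 400000
set_option linter.style.haveILetI false
set_option linter.unusedSectionVars false

universe u
open CategoryTheory CategoryTheory.Limits AlgebraicGeometry TopologicalSpace Opposite

namespace Groth.Agent.Lead.MP
open Groth.Agent.Helper4

section Loc

variable {C D : Type*} [Category C] [Category D] (W : MorphismProperty C)
  [W.HasRightCalculusOfFractions] (L : C ⥤ D) [L.IsLocalization W]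

include W in
/-- the image of a terminal object in a localization (right calculus of fractions) is terminal. -/
noncomputable def isTerminalMapOfFrac {t : C} (ht : IsTerminal t) : IsTerminal (L.obj t) := by
  have hess : L.EssSurj := Localization.essSurj L W
  have hinv := Localization.inverts L W
  refine IsTerminal.ofUniqueHom
    (fun A => (L.objObjPreimageIso A).inv ≫ L.map (ht.from (L.objPreimage A))) ?_
  intro A m
  rw [← cancel_epi (L.objObjPreimageIso A).hom, Iso.hom_inv_id_assoc]
  obtain ⟨Z', s, hs, c₁, c₂, h1, h2⟩ := exists_frac₂ W L ((L.objObjPreimageIso A).hom ≫ m)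
    (L.map (ht.from (L.objPreimage A)))
  have : IsIso (L.map s) := hinv _ hs
  rw [← cancel_epi (L.map s), h1, h2, ht.hom_ext c₁ c₂]

end Loc

open ModPair in
/-- the terminal modulus pair. -/
noncomputable def ptPair : Pair.{u} := ⟨⊤_ Scheme.{u}, ⊤, EffCartier.top⟩

open ModPair in
noncomputable def isTerminalPtPair : IsTerminal ptPair.{u} :=
  IsTerminal.ofUniqueHom
    (fun Z => ⟨terminal.from Z.total, by
      change _ ≤ _
      rw [show (ptPair.{u}).mod = ⊤ from rfl, Scheme.IdealSheafData.comap_top]
      exact le_top⟩)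
    (fun Z m => Pair.Hom.ext (terminal.hom_ext _ _))

open ModPair in
/-- S18739 -/
theorem hasFiniteLimits_localization_admBlowup :
    HasFiniteLimits (ModPair.Pair.admBlowup.{u}).Localization := by
  have hterm : HasTerminal (ModPair.Pair.admBlowup.{u}).Localization :=
    (isTerminalMapOfFrac (ModPair.Pair.admBlowup.{u}) (ModPair.Pair.admBlowup.{u}).Q
      isTerminalPtPair).hasTerminal
  have hpb : HasPullbacks (ModPair.Pair.admBlowup.{u}).Localization := by
    refine @hasPullbacks_of_hasLimit_cospan _ _ ?_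
    intro A B C' α β
    obtain ⟨X₀, rfl⟩ := (Localization.Construction.objEquiv (Pair.admBlowup.{u})).surjective A
    obtain ⟨T₀, rfl⟩ := (Localization.Construction.objEquiv (Pair.admBlowup.{u})).surjective B
    obtain ⟨P₀, rfl⟩ := (Localization.Construction.objEquiv (Pair.admBlowup.{u})).surjective C'
    change (Pair.admBlowup.{u}).Q.obj X₀ ⟶ (Pair.admBlowup.{u}).Q.obj P₀ at α
    change (Pair.admBlowup.{u}).Q.obj T₀ ⟶ (Pair.admBlowup.{u}).Q.obj P₀ at β
    obtain ⟨X₁, s, hs, f, hf⟩ := exists_frac (Pair.admBlowup.{u}) (Pair.admBlowup.{u}).Q α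
    obtain ⟨T₁, t, ht, g, hg⟩ := exists_frac (Pair.admBlowup.{u}) (Pair.admBlowup.{u}).Q β
    obtain ⟨Y, π, K, hY⟩ := exists_isAmbProd T₁.mod X₁.mod f.hom g.hom
    obtain ⟨hK, hX, hT, -⟩ := isAmbProd_props T₁.mod X₁.mod T₁.isEffCartier X₁.isEffCartier
      f.hom g.hom π K hY
    have hpull := isPullback_localization_ambProd P₀ T₁ X₁ f g π K hY hK hX hT
    have hinv := Localization.inverts (Pair.admBlowup.{u}).Q (Pair.admBlowup.{u})
    have : IsIso ((Pair.admBlowup.{u}).Q.map s) := hinv _ hs
    have : IsIso ((Pair.admBlowup.{u}).Q.map t) := hinv _ ht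
    have hpull' : IsPullback
        ((Pair.admBlowup.{u}).Q.map (Pair.Hom.mk (P := Pair.mk Y K hK) (Q := X₁)
          (π ≫ mprodι f.hom g.hom X₁.mod T₁.mod ≫ pullback.fst f.hom g.hom) hX) ≫
            (Pair.admBlowup.{u}).Q.map s)
        ((Pair.admBlowup.{u}).Q.map (Pair.Hom.mk (P := Pair.mk Y K hK) (Q := T₁)
          (π ≫ mprodι f.hom g.hom X₁.mod T₁.mod ≫ pullback.snd f.hom g.hom) hT) ≫
            (Pair.admBlowup.{u}).Q.map t) α β :=
      hpull.flip.of_iso (Iso.refl _) (asIso ((Pair.admBlowup.{u}).Q.map s))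
        (asIso ((Pair.admBlowup.{u}).Q.map t)) (Iso.refl _)
        (by simp) (by simp) (by simpa using hf.symm) (by simpa using hg.symm)
    exact hpull'.hasPullback
  exact hasFiniteLimits_of_hasTerminal_and_pullbacks

end Groth.Agent.Lead.MP
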