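import Mathlib
import Groth.Agent.Lib.Lead.MP8

set_option autoImplicit false
set_option backward.isDefEq.respectTransparency.types false
set_option synthInstance.maxHeartbeats 400000
set_option linter.style.haveILetI false
set_option linter.unusedSectionVars false

universe u

open CategoryTheory CategoryTheory.Limits AlgebraicGeometry TopologicalSpace Opposite

namespace Groth.Agent.Lead.MP
open Groth.Agent.Helper4 ModPair

theorem nzd_of_iso {R S : CommRingCat.{u}} (e : R ≅ S) (c : R) (hc : c ∈ nonZeroDivisors R) :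
    e.hom.hom c ∈ nonZeroDivisors S := by
  rw [mem_nonZeroDivisors_iff_right] at hc ⊢
  intro s hs
  have h1 : e.inv.hom s * e.inv.hom (e.hom.hom c) = 0 := by rw [← map_mul, hs, map_zero]
  have h2 : e.inv.hom (e.hom.hom c) = c := by
    rw [← CommRingCat.comp_apply, e.hom_inv_id]; rfl
  rw [h2] at h1
  have h3 := hc _ h1
  have h4 : e.hom.hom (e.inv.hom s) = s := by
    rw [← CommRingCat.comp_apply, e.inv_hom_id]; rfl
  rw [← h4, h3, map_zero]

/-- pointwise core: an effective Cartier witness on an open piece gives one on the ambient scheme -/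
theorem exists_effCartier_nbhd_of_comap {Y V : Scheme.{u}} (𝓔 : Y.IdealSheafData) (j : V ⟶ Y)
    [IsOpenImmersion j] (h : BlowUp.IsEffCartierIdeal (𝓔.comap j)) (z : V) :
    ∃ U : Y.affineOpens, j z ∈ U.1 ∧
      ∃ f : Γ(Y, U.1), f ∈ nonZeroDivisors Γ(Y, U.1) ∧ 𝓔.ideal U = Ideal.span {f} := by
  obtain ⟨U, hzU, c, hc, hI⟩ := h z
  rw [Scheme.IdealSheafData.ideal_comap_of_isOpenImmersion] at hI
  refine ⟨⟨j ''ᵁ U.1, U.2.image_of_isOpenImmersion j⟩, ⟨z, hzU, rfl⟩,
    (j.appIso U.1).inv.hom c, ?_, ?_⟩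
  · exact nzd_of_iso (j.appIso U.1).symm c hc
  · have hsurj : Function.Surjective (j.appIso U.1).inv.hom := by
      intro t
      refine ⟨(j.appIso U.1).hom.hom t, ?_⟩
      rw [← CommRingCat.comp_apply, Iso.hom_inv_id]; rfl
    rw [← Ideal.map_comap_of_surjective _ hsurj (𝓔.ideal ⟨j ''ᵁ U.1, _⟩), hI, Ideal.map_span,
      Set.image_singleton]

/-- effective Cartier ideals can be checked on a jointly surjective family of open immersions -/
theorem isEffCartier_of_openCover {Y : Scheme.{u}} (𝓔 : Y.IdealSheafData) {ι : Type*}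
    (V : ι → Scheme.{u}) (j : ∀ i, V i ⟶ Y) [∀ i, IsOpenImmersion (j i)]
    (hcov : ∀ y : Y, ∃ i, y ∈ Set.range (j i))
    (h : ∀ i, BlowUp.IsEffCartierIdeal (𝓔.comap (j i))) : BlowUp.IsEffCartierIdeal 𝓔 := by
  intro y
  obtain ⟨i, z, rfl⟩ := hcov y
  exact exists_effCartier_nbhd_of_comap 𝓔 (j i) (h i) z

/-- binary version of `isEffCartier_of_openCover` -/
theorem isEffCartier_of_two {Y V₀ V₁ : Scheme.{u}} (𝓔 : Y.IdealSheafData)
    (j₀ : V₀ ⟶ Y) (j₁ : V₁ ⟶ Y) [IsOpenImmersion j₀] [IsOpenImmersion j₁]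
    (hcov : ∀ y : Y, y ∈ Set.range j₀ ∨ y ∈ Set.range j₁)
    (h₀ : BlowUp.IsEffCartierIdeal (𝓔.comap j₀)) (h₁ : BlowUp.IsEffCartierIdeal (𝓔.comap j₁)) :
    BlowUp.IsEffCartierIdeal 𝓔 := by
  intro y
  rcases hcov y with ⟨z, rfl⟩ | ⟨z, rfl⟩
  · exact exists_effCartier_nbhd_of_comap 𝓔 j₀ h₀ z
  · exact exists_effCartier_nbhd_of_comap 𝓔 j₁ h₁ z

/-- if the preimage of `V` lies in the open part `A ⊆ B` and `A ⟶ X` is an isomorphism over `V`,
then so is `B ⟶ X`. -/
theorem isIso_restrict_of_range_subset {A B X : Scheme.{u}} (j : A ⟶ B) [IsOpenImmersion j]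
    (f : B ⟶ X) (V : X.Opens) (h : ∀ b : B, f b ∈ V → b ∈ Set.range j)
    [hi : IsIso ((j ≫ f) ∣_ V)] : IsIso (f ∣_ V) := by
  have e : (j ≫ f) ∣_ V = j ∣_ (f ⁻¹ᵁ V) ≫ f ∣_ V := morphismRestrict_comp j f V
  haveI : IsIso (j ∣_ (f ⁻¹ᵁ V)) := by
    rw [isIso_iff_isOpenImmersion_and_surjective]
    refine ⟨inferInstance, ⟨fun y => ?_⟩⟩
    obtain ⟨a, ha⟩ := h y.1 y.2
    have haV : a ∈ j ⁻¹ᵁ (f ⁻¹ᵁ V) := by
      change f (j a) ∈ V
      rw [ha]; exact y.2
    refine ⟨⟨a, haV⟩, Subtype.ext ?_⟩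
    rw [morphismRestrict_base_coe]
    exact ha
  haveI : IsIso (j ∣_ (f ⁻¹ᵁ V) ≫ f ∣_ V) := by rw [← e]; exact hi
  exact IsIso.of_isIso_comp_left (j ∣_ (f ⁻¹ᵁ V)) (f ∣_ V)

/-- being an isomorphism over two opens implies being an isomorphism over their union -/
theorem isIso_restrict_sup {B X : Scheme.{u}} (f : B ⟶ X) (U₀ U₁ : X.Opens)
    [h₀ : IsIso (f ∣_ U₀)] [h₁ : IsIso (f ∣_ U₁)] : IsIso (f ∣_ (U₀ ⊔ U₁)) := by
  let W : X.Opens := U₀ ⊔ U₁
  let Ub : Bool → X.Opens := fun b => cond b U₀ U₁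
  have hle : ∀ b, Ub b ≤ W := by
    intro b; cases b
    · exact le_sup_right
    · exact le_sup_left
  change (MorphismProperty.isomorphisms Scheme) (f ∣_ W)
  rw [IsZariskiLocalAtTarget.iff_of_iSup_eq_top (P := MorphismProperty.isomorphisms Scheme)
    (U := fun b : Bool => W.ι ⁻¹ᵁ Ub b)]
  · intro b
    have himg : W.ι ''ᵁ (W.ι ⁻¹ᵁ Ub b) = Ub b := by
      rw [Scheme.Hom.image_preimage_eq_opensRange_inf, Scheme.Opens.opensRange_ι]
      exact inf_eq_right.mpr (hle b)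
    rw [(MorphismProperty.isomorphisms Scheme).arrow_mk_iso_iff
      (morphismRestrictRestrict f W (W.ι ⁻¹ᵁ Ub b) ≪≫ morphismRestrictEq f himg)]
    cases b
    · exact h₁
    · exact h₀
  · apply W.ι.image_injective
    dsimp only
    rw [Scheme.Hom.image_iSup, Scheme.Hom.image_top_eq_opensRange, Scheme.Opens.opensRange_ι]
    apply le_antisymm
    · exact iSup_le fun b => by
        rw [Scheme.Hom.image_preimage_eq_opensRange_inf, Scheme.Opens.opensRange_ι]
        exact inf_le_left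
    · intro x hx
      rcases hx with hx | hx
      · refine Opens.mem_iSup.mpr ⟨true, ?_⟩
        rw [Scheme.Hom.image_preimage_eq_opensRange_inf, Scheme.Opens.opensRange_ι]
        exact ⟨Or.inl hx, hx⟩
      · refine Opens.mem_iSup.mpr ⟨false, ?_⟩
        rw [Scheme.Hom.image_preimage_eq_opensRange_inf, Scheme.Opens.opensRange_ι]
        exact ⟨Or.inr hx, hx⟩

theorem quasiCompact_ι_of_clopen {X : Scheme.{u}} (W U₀ U₁ : X.Opens) [QuasiCompact W.ι]
    (hU : U₀ ⊔ U₁ = W) (hd : Disjoint U₀ U₁) : QuasiCompact U₀.ι := by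
  have hle : U₀ ≤ W := hU ▸ le_sup_left
  haveI : IsClosedImmersion (X.homOfLE hle) := by
    apply IsClosedImmersion.of_isPreimmersion
    have hr : Set.range (X.homOfLE hle) = ((W.ι ⁻¹ᵁ U₁ : W.toScheme.Opens) : Set W)ᶜ := by
      have h1 : Set.range (X.homOfLE hle) = ((X.homOfLE hle).opensRange : Set W) := rfl
      rw [h1, Scheme.opensRange_homOfLE]
      ext w
      constructor
      · intro hw hw1
        have hbot : w.1 ∈ (⊥ : X.Opens) := hd.le_bot ⟨hw, hw1⟩
        exact hbot.elim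
      · intro hw
        have : w.1 ∈ U₀ ⊔ U₁ := hU ▸ w.2
        rcases this with h | h
        · exact h
        · exact (hw h).elim
    rw [hr]
    exact (W.ι ⁻¹ᵁ U₁).2.isClosed_compl
  rw [← X.homOfLE_ι hle]
  infer_instance

theorem imageι_mem_closure {X : Scheme.{u}} (U : X.Opens) [QuasiCompact U.ι] (z : U.ι.image) :
    U.ι.imageι z ∈ closure (U : Set X) := by
  have h1 : U.ι.imageι z ∈ Set.range U.ι.imageι := ⟨z, rfl⟩
  have h2 : Set.range U.ι.imageι = U.ι.ker.support :=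
    Scheme.IdealSheafData.range_subschemeι _
  rw [h2, Scheme.Hom.support_ker, Scheme.Opens.range_ι] at h1
  exact h1

/-- **S18737** -/
theorem coprod_closures_isAdmBlowup {X : Scheme.{u}}
    (I : X.IdealSheafData) (hI : BlowUp.IsEffCartierIdeal I) (U₀ U₁ : X.Opens)
    (hU : U₀ ⊔ U₁ = ModPair.interior I) (hd : Disjoint U₀ U₁) :
    BlowUp.IsEffCartierIdeal (I.comap (coprod.desc U₀.ι.imageι U₁.ι.imageι)) ∧
      ModPair.IsAdmBlowup (I.comap (coprod.desc U₀.ι.imageι U₁.ι.imageι)) I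
        (coprod.desc U₀.ι.imageι U₁.ι.imageι) := by
  haveI : IsAffineHom (interior I).ι := EffCartier.isAffineHom_compl hI
  haveI q0 : QuasiCompact U₀.ι := quasiCompact_ι_of_clopen (interior I) U₀ U₁ hU hd
  haveI q1 : QuasiCompact U₁.ι :=
    quasiCompact_ι_of_clopen (interior I) U₁ U₀ (by rw [sup_comm]; exact hU) hd.symm
  have hcov : ∀ y : ↥(U₀.ι.image ⨿ U₁.ι.image),
      y ∈ Set.range (coprod.inl : U₀.ι.image ⟶ U₀.ι.image ⨿ U₁.ι.image) ∨
      y ∈ Set.range (coprod.inr : U₁.ι.image ⟶ U₀.ι.image ⨿ U₁.ι.image) := by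
    intro y
    have := (isCompl_range_inl_inr U₀.ι.image U₁.ι.image).sup_eq_top
    have hy : y ∈ (Set.range (coprod.inl : U₀.ι.image ⟶ U₀.ι.image ⨿ U₁.ι.image)) ⊔
      (Set.range (coprod.inr : U₁.ι.image ⟶ U₀.ι.image ⨿ U₁.ι.image)) := by
      rw [this]; trivial
    exact hy
  have hle0 : U₀ ≤ interior I := hU ▸ le_sup_left
  have hle1 : U₁ ≤ interior I := hU ▸ le_sup_right
  have hdis : ∀ (A B : X.Opens), Disjoint A B → ∀ x : X, x ∈ closure (B : Set X) → x ∉ A := by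
    intro A B hAB x hx hxA
    obtain ⟨y, hyA, hyB⟩ := mem_closure_iff.mp hx A A.2 hxA
    exact (hAB.le_bot ⟨hyA, hyB⟩ : y ∈ (⊥ : X.Opens)).elim
  refine ⟨?_, rfl, inferInstance, ?_⟩
  · refine isEffCartier_of_two _ coprod.inl coprod.inr hcov ?_ ?_
    · rw [← Scheme.IdealSheafData.comap_comp, coprod.inl_desc]
      exact isEffCartier_image U₀.ι I (LocPrincipal.of_isEffCartier hI) (fun x => hle0 x.2)
    · rw [← Scheme.IdealSheafData.comap_comp, coprod.inr_desc]
      exact isEffCartier_image U₁.ι I (LocPrincipal.of_isEffCartier hI) (fun x => hle1 x.2)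
  · rw [← hU]
    haveI : IsIso (coprod.desc U₀.ι.imageι U₁.ι.imageι ∣_ U₀) := by
      haveI : IsIso ((coprod.inl ≫ coprod.desc U₀.ι.imageι U₁.ι.imageι) ∣_ U₀) := by
        rw [coprod.inl_desc]; infer_instance
      refine isIso_restrict_of_range_subset coprod.inl _ U₀ ?_
      intro b hb
      rcases hcov b with h | ⟨z, rfl⟩
      · exact h
      · exfalso
        rw [← Scheme.Hom.comp_apply, coprod.inr_desc] at hb
        exact hdis U₀ U₁ hd _ (imageι_mem_closure U₁ z) hb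
    haveI : IsIso (coprod.desc U₀.ι.imageι U₁.ι.imageι ∣_ U₁) := by
      haveI : IsIso ((coprod.inr ≫ coprod.desc U₀.ι.imageι U₁.ι.imageι) ∣_ U₁) := by
        rw [coprod.inr_desc]; infer_instance
      refine isIso_restrict_of_range_subset coprod.inr _ U₁ ?_
      intro b hb
      rcases hcov b with ⟨z, rfl⟩ | h
      · exfalso
        rw [← Scheme.Hom.comp_apply, coprod.inl_desc] at hb
        exact hdis U₁ U₀ hd.symm _ (imageι_mem_closure U₀ z) hb
      · exact h
    exact isIso_restrict_sup _ U₀ U₁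

end Groth.Agent.Lead.MP
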