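import Mathlib
import Groth.Agent.Lib.Lead.MP9

set_option autoImplicit false
set_option backward.isDefEq.respectTransparency.types false
set_option synthInstance.maxHeartbeats 400000
set_option linter.style.haveILetI false
set_option linter.unusedSectionVars false

universe u

open CategoryTheory CategoryTheory.Limits AlgebraicGeometry TopologicalSpace Opposite

namespace Groth.Agent.Lead.MP
open Groth.Agent.Helper4 ModPair

section Sigma
variable {σ : Type u} {Z X : σ → Scheme.{u}} (f : ∀ i, Z i ⟶ X i)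

theorem exists_sigmaι_eq (x : ↥(∐ Z)) : ∃ (j : σ) (z : Z j), Sigma.ι Z j z = x := by
  obtain ⟨j, z, hz⟩ := (sigmaOpenCover Z).exists_eq x
  exact ⟨j, z, hz⟩

theorem sigmaMap_apply (j : σ) (z : Z j) :
    (Limits.Sigma.map f) (Sigma.ι Z j z) = Sigma.ι X j (f j z) := by
  rw [← Scheme.Hom.comp_apply, ← Scheme.Hom.comp_apply]
  congr 2
  simp

theorem sigmaMap_preimage_opensRange (i : σ) :
    (Limits.Sigma.map f) ⁻¹ᵁ (Sigma.ι X i).opensRange = (Sigma.ι Z i).opensRange := by
  ext x
  obtain ⟨j, z, rfl⟩ := exists_sigmaι_eq x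
  constructor
  · rintro ⟨y, hy⟩
    change Sigma.ι X i y = (Limits.Sigma.map f) (Sigma.ι Z j z) at hy
    rw [sigmaMap_apply] at hy
    obtain ⟨rfl⟩ := (sigmaι_eq_iff _ _ _ _ _).mp hy
    exact ⟨z, rfl⟩
  · rintro ⟨z', hz'⟩
    obtain ⟨rfl⟩ := (sigmaι_eq_iff _ _ _ _ _).mp hz'
    refine ⟨f i z', ?_⟩
    change Sigma.ι X i (f i z') = (Limits.Sigma.map f) (Sigma.ι Z i z')
    rw [sigmaMap_apply]

theorem isPullback_sigmaMap (i : σ) :
    IsPullback (f i) (Sigma.ι Z i) (Sigma.ι X i) (Limits.Sigma.map f) :=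
  IsOpenImmersion.isPullback (f i) (Sigma.ι Z i) (Sigma.ι X i) (Limits.Sigma.map f)
    (by simp) (sigmaMap_preimage_opensRange f i)

instance isClosedImmersion_sigmaMap [∀ i, IsClosedImmersion (f i)] :
    IsClosedImmersion (Limits.Sigma.map f) := by
  apply IsZariskiLocalAtTarget.of_openCover (P := @IsClosedImmersion) (sigmaOpenCover X)
  intro i
  have sq : IsPullback (Sigma.ι Z i) (f i) (Limits.Sigma.map f) (Sigma.ι X i) :=
    (isPullback_sigmaMap f i).flip
  have e : pullback.snd (Limits.Sigma.map f) (Sigma.ι X i) = sq.isoPullback.inv ≫ f i := by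
    rw [Iso.eq_inv_comp]; exact sq.isoPullback_hom_snd
  change IsClosedImmersion (pullback.snd (Limits.Sigma.map f) (Sigma.ι X i))
  rw [e]
  infer_instance

/-- the ideal sheaf on a coproduct assembled from ideal sheaves on the components -/
noncomputable def sigmaIdeal (I : ∀ i, (X i).IdealSheafData) : (∐ X).IdealSheafData :=
  (Limits.Sigma.map fun i => (I i).subschemeι).ker

theorem sigmaIdeal_comap (I : ∀ i, (X i).IdealSheafData) (i : σ) :
    (sigmaIdeal I).comap (Sigma.ι X i) = I i := by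
  have := ker_of_isPullback (isPullback_sigmaMap (fun i => (I i).subschemeι) i)
  rw [Scheme.IdealSheafData.ker_subschemeι] at this
  exact this.symm

end Sigma

/-- the order of ideal sheaves can be checked on a jointly surjective family of open immersions -/
theorem le_of_comap_le {Y : Scheme.{u}} (𝓜 𝓝 : Y.IdealSheafData) {ι : Type*}
    (V : ι → Scheme.{u}) (j : ∀ i, V i ⟶ Y) [∀ i, IsOpenImmersion (j i)]
    (hcov : ∀ y : Y, ∃ i, y ∈ Set.range (j i))
    (h : ∀ i, 𝓜.comap (j i) ≤ 𝓝.comap (j i)) : 𝓜 ≤ 𝓝 := by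
  refine Scheme.IdealSheafData.le_of_iSup_eq_top
    (ι := Σ i, (V i).affineOpens)
    (fun p => ⟨j p.1 ''ᵁ p.2.1, p.2.2.image_of_isOpenImmersion (j p.1)⟩) ?_ ?_
  · rw [eq_top_iff]
    intro y _
    obtain ⟨i, z, rfl⟩ := hcov y
    obtain ⟨U, hU, hzU, -⟩ := Opens.isBasis_iff_nbhd.mp ((V i).isBasis_affineOpens)
      (show z ∈ (⊤ : (V i).Opens) from trivial)
    exact Opens.mem_iSup.mpr ⟨⟨i, ⟨U, hU⟩⟩, ⟨z, hzU, rfl⟩⟩
  · rintro ⟨i, U⟩
    have hi := h i U
    rw [Scheme.IdealSheafData.ideal_comap_of_isOpenImmersion,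
      Scheme.IdealSheafData.ideal_comap_of_isOpenImmersion] at hi
    have hsurj : Function.Surjective ((j i).appIso U.1).inv.hom := by
      intro t
      refine ⟨((j i).appIso U.1).hom.hom t, ?_⟩
      rw [← CommRingCat.comp_apply, Iso.hom_inv_id]; rfl
    intro a ha
    obtain ⟨b, rfl⟩ := hsurj a
    exact hi ha

section PairCoprod
variable {σ : Type u} (P : σ → Pair.{u})

/-- the coproduct modulus pair -/
noncomputable abbrev sigmaPair : Pair.{u} where
  total := ∐ fun i => (P i).total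
  mod := sigmaIdeal fun i => (P i).mod
  isEffCartier := isEffCartier_of_openCover _ (fun i => (P i).total)
    (fun i => Sigma.ι (fun i => (P i).total) i)
    (fun y => by obtain ⟨j, z, h⟩ := exists_sigmaι_eq y; exact ⟨j, z, h⟩)
    (fun i => by rw [sigmaIdeal_comap]; exact (P i).isEffCartier)

noncomputable def sigmaPairι (i : σ) : P i ⟶ sigmaPair P :=
  ⟨Sigma.ι (fun i => (P i).total) i, by
    change _ ≤ (sigmaIdeal fun i => (P i).mod).comap _
    rw [sigmaIdeal_comap]⟩

noncomputable def sigmaPairCofan : Cofan P := Cofan.mk (sigmaPair P) (sigmaPairι P)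

noncomputable def sigmaPairDesc (t : Cofan P) : sigmaPair P ⟶ t.pt :=
  ⟨Sigma.desc (fun i => (t.inj i).hom), by
    change (sigmaIdeal fun i => (P i).mod) ≤ _
    refine le_of_comap_le _ _ (fun i => (P i).total) (fun i => Sigma.ι (fun i => (P i).total) i)
      (fun y => by obtain ⟨j, z, h⟩ := exists_sigmaι_eq y; exact ⟨j, z, h⟩) ?_
    intro i
    rw [sigmaIdeal_comap, ← Scheme.IdealSheafData.comap_comp, Sigma.ι_desc]
    exact (t.inj i).cond⟩

noncomputable def isColimitSigmaPairCofan : IsColimit (sigmaPairCofan P) :=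
  Cofan.IsColimit.mk _ (sigmaPairDesc P)
    (fun t j => Pair.Hom.ext (by
      change Sigma.ι (fun i => (P i).total) j ≫ Sigma.desc (fun i => (t.inj i).hom) = _
      rw [Sigma.ι_desc]))
    (fun t m hm => Pair.Hom.ext (by
      change m.hom = Sigma.desc (fun i => (t.inj i).hom)
      refine Sigma.hom_ext _ _ fun j => ?_
      rw [Sigma.ι_desc, ← hm j]
      rfl))

noncomputable def isColimitMapCoconeForget :
    IsColimit (Pair.forget.mapCocone (sigmaPairCofan P)) where
  desc s := Sigma.desc (fun i => s.ι.app ⟨i⟩)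
  fac s := by
    rintro ⟨i⟩
    change Sigma.ι (fun i => (P i).total) i ≫ Sigma.desc (fun i => s.ι.app ⟨i⟩) = _
    rw [Sigma.ι_desc]
  uniq s m hm := by
    refine Sigma.hom_ext _ _ fun j => ?_
    rw [Sigma.ι_desc]
    exact hm ⟨j⟩

/-- **S18747** -/
theorem hasCoproducts_pair_forget_preserves (σ : Type u) :
    HasColimitsOfShape (Discrete σ) ModPair.Pair.{u} ∧
      PreservesColimitsOfShape (Discrete σ) ModPair.Pair.forget.{u} := by
  constructor
  · exact ⟨fun F => @hasColimit_of_iso _ _ _ _ _ _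
      ⟨⟨⟨sigmaPairCofan (fun i => F.obj ⟨i⟩), isColimitSigmaPairCofan _⟩⟩⟩ Discrete.natIsoFunctor⟩
  · haveI : ∀ (f : σ → Pair.{u}), PreservesColimit (Discrete.functor f) Pair.forget.{u} :=
      fun f => preservesColimit_of_preserves_colimit_cocone (isColimitSigmaPairCofan f)
        (isColimitMapCoconeForget f)
    exact preservesColimitsOfShape_of_discrete _

end PairCoprod

end Groth.Agent.Lead.MP
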