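import Mathlib
import Groth.Agent.Lib.Lead.MP6

set_option autoImplicit false
set_option linter.style.haveILetI false
set_option linter.unusedSectionVars false

open CategoryTheory CategoryTheory.Limits

namespace Groth.Agent.Lead.MP

section LocCoprod

variable {C D : Type*} [Category C] [Category D] (W : MorphismProperty C)
  [W.HasRightCalculusOfFractions] (L : C ⥤ D) [L.IsLocalization W]
  (P : C → C → C) (il : ∀ A B : C, A ⟶ P A B) (ir : ∀ A B : C, B ⟶ P A B)
  (hc : ∀ A B, IsColimit (BinaryCofan.mk (il A B) (ir A B)))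

/-- the map induced on chosen coproducts -/
def cmap {A B A₁ B₁ : C} (s : A₁ ⟶ A) (t : B₁ ⟶ B) : P A₁ B₁ ⟶ P A B :=
  (hc A₁ B₁).desc (BinaryCofan.mk (s ≫ il A B) (t ≫ ir A B))

theorem inl_cmap {A B A₁ B₁ : C} (s : A₁ ⟶ A) (t : B₁ ⟶ B) :
    il A₁ B₁ ≫ cmap P il ir hc s t = s ≫ il A B :=
  (hc A₁ B₁).fac (BinaryCofan.mk (s ≫ il A B) (t ≫ ir A B)) ⟨WalkingPair.left⟩

theorem inr_cmap {A B A₁ B₁ : C} (s : A₁ ⟶ A) (t : B₁ ⟶ B) :
    ir A₁ B₁ ≫ cmap P il ir hc s t = t ≫ ir A B :=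
  (hc A₁ B₁).fac (BinaryCofan.mk (s ≫ il A B) (t ≫ ir A B)) ⟨WalkingPair.right⟩

include hc in
theorem cofan_hom_ext {A B T : C} {f g : P A B ⟶ T}
    (h₁ : il A B ≫ f = il A B ≫ g) (h₂ : ir A B ≫ f = ir A B ≫ g) : f = g :=
  BinaryCofan.IsColimit.hom_ext (hc A B) h₁ h₂

def cdesc {A B T : C} (f : A ⟶ T) (g : B ⟶ T) : P A B ⟶ T :=
  (hc A B).desc (BinaryCofan.mk f g)

theorem inl_cdesc {A B T : C} (f : A ⟶ T) (g : B ⟶ T) : il A B ≫ cdesc P il ir hc f g = f :=
  (hc A B).fac (BinaryCofan.mk f g) ⟨WalkingPair.left⟩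

theorem inr_cdesc {A B T : C} (f : A ⟶ T) (g : B ⟶ T) : ir A B ≫ cdesc P il ir hc f g = g :=
  (hc A B).fac (BinaryCofan.mk f g) ⟨WalkingPair.right⟩

include W in
theorem desc_unique_of_frac
    (hW : ∀ {A B A₁ B₁ : C} (s : A₁ ⟶ A) (t : B₁ ⟶ B), W s → W t → W (cmap P il ir hc s t))
    (X Y Z₀ : C) (γ γ' : L.obj (P X Y) ⟶ L.obj Z₀)
    (h₁ : L.map (il X Y) ≫ γ = L.map (il X Y) ≫ γ')
    (h₂ : L.map (ir X Y) ≫ γ = L.map (ir X Y) ≫ γ') : γ = γ' := by
  have hinv := Localization.inverts L W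
  obtain ⟨V, u, hu, h, h', e1, e2⟩ := exists_frac₂ W L γ γ'
  haveI : IsIso (L.map u) := hinv _ hu
  suffices hh : L.map h = L.map h' by
    rw [← cancel_epi (L.map u), e1, e2, hh]
  -- right Ore on both components
  obtain ⟨ψX, hψX⟩ := MorphismProperty.HasRightCalculusOfFractions.exists_rightFraction
    (W := W) (MorphismProperty.LeftFraction.mk (il X Y) u hu)
  obtain ⟨ψY, hψY⟩ := MorphismProperty.HasRightCalculusOfFractions.exists_rightFraction
    (W := W) (MorphismProperty.LeftFraction.mk (ir X Y) u hu)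
  dsimp at hψX hψY
  have eX : L.map (ψX.f ≫ h) = L.map (ψX.f ≫ h') := by
    rw [L.map_comp, L.map_comp, ← e1, ← e2, ← Category.assoc, ← Category.assoc, ← L.map_comp,
      ← hψX, L.map_comp, Category.assoc, Category.assoc, h₁]
  have eY : L.map (ψY.f ≫ h) = L.map (ψY.f ≫ h') := by
    rw [L.map_comp, L.map_comp, ← e1, ← e2, ← Category.assoc, ← Category.assoc, ← L.map_comp,
      ← hψY, L.map_comp, Category.assoc, Category.assoc, h₂]
  obtain ⟨A, wX, hwX, fX⟩ := (MorphismProperty.map_eq_iff_precomp L W _ _).mp eX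
  obtain ⟨B, wY, hwY, fY⟩ := (MorphismProperty.map_eq_iff_precomp L W _ _).mp eY
  let d : P A B ⟶ V := cdesc P il ir hc (wX ≫ ψX.f) (wY ≫ ψY.f)
  have hdh : d ≫ h = d ≫ h' := by
    apply cofan_hom_ext P il ir hc
    · rw [← Category.assoc, ← Category.assoc, inl_cdesc, Category.assoc, Category.assoc, fX]
    · rw [← Category.assoc, ← Category.assoc, inr_cdesc, Category.assoc, Category.assoc, fY]
  have hdu : d ≫ u = cmap P il ir hc (wX ≫ ψX.s) (wY ≫ ψY.s) := by
    apply cofan_hom_ext P il ir hc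
    · rw [← Category.assoc, inl_cdesc, inl_cmap, Category.assoc, Category.assoc, hψX]
    · rw [← Category.assoc, inr_cdesc, inr_cmap, Category.assoc, Category.assoc, hψY]
  have hWdu : W (d ≫ u) := by
    rw [hdu]
    exact hW _ _ (W.comp_mem _ _ hwX ψX.hs) (W.comp_mem _ _ hwY ψY.hs)
  haveI : IsIso (L.map (d ≫ u)) := hinv _ hWdu
  haveI : IsIso (L.map d ≫ L.map u) := by rw [← L.map_comp]; infer_instance
  haveI : IsIso (L.map d) := IsIso.of_isIso_comp_right (L.map d) (L.map u)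
  rw [← cancel_epi (L.map d), ← L.map_comp, ← L.map_comp, hdh]

include W in
theorem existsUnique_desc_of_frac
    (hW : ∀ {A B A₁ B₁ : C} (s : A₁ ⟶ A) (t : B₁ ⟶ B), W s → W t → W (cmap P il ir hc s t))
    (X Y Z₀ : C) (α : L.obj X ⟶ L.obj Z₀) (β : L.obj Y ⟶ L.obj Z₀) :
    ∃! γ : L.obj (P X Y) ⟶ L.obj Z₀,
      L.map (il X Y) ≫ γ = α ∧ L.map (ir X Y) ≫ γ = β := by
  have hinv := Localization.inverts L W
  obtain ⟨X₁, s, hs, f, hf⟩ := exists_frac W L α
  obtain ⟨Y₁, t, ht, g, hg⟩ := exists_frac W L β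
  have hm : W (cmap P il ir hc s t) := hW s t hs ht
  haveI : IsIso (L.map (cmap P il ir hc s t)) := hinv _ hm
  haveI : IsIso (L.map s) := hinv _ hs
  haveI : IsIso (L.map t) := hinv _ ht
  refine ⟨inv (L.map (cmap P il ir hc s t)) ≫ L.map (cdesc P il ir hc f g), ⟨?_, ?_⟩, ?_⟩
  · rw [← cancel_epi (L.map s), ← Category.assoc, ← L.map_comp, ← inl_cmap P il ir hc s t,
      L.map_comp, Category.assoc, IsIso.hom_inv_id_assoc, ← L.map_comp, inl_cdesc, hf]
  · rw [← cancel_epi (L.map t), ← Category.assoc, ← L.map_comp, ← inr_cmap P il ir hc s t,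
      L.map_comp, Category.assoc, IsIso.hom_inv_id_assoc, ← L.map_comp, inr_cdesc, hg]
  · rintro γ' ⟨h₁', h₂'⟩
    apply desc_unique_of_frac W L P il ir hc hW X Y Z₀
    · rw [h₁', ← cancel_epi (L.map s), ← Category.assoc, ← L.map_comp, ← inl_cmap P il ir hc s t,
        L.map_comp, Category.assoc, IsIso.hom_inv_id_assoc, ← L.map_comp, inl_cdesc, hf]
    · rw [h₂', ← cancel_epi (L.map t), ← Category.assoc, ← L.map_comp, ← inr_cmap P il ir hc s t,
        L.map_comp, Category.assoc, IsIso.hom_inv_id_assoc, ← L.map_comp, inr_cdesc, hg]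

include W in
theorem nonempty_isColimit_map_of_frac
    (hW : ∀ {A B A₁ B₁ : C} (s : A₁ ⟶ A) (t : B₁ ⟶ B), W s → W t → W (cmap P il ir hc s t))
    (X Y : C) :
    Nonempty (IsColimit (BinaryCofan.mk (L.map (il X Y)) (L.map (ir X Y)))) := by
  have key : ∀ (T : D) (α : L.obj X ⟶ T) (β : L.obj Y ⟶ T),
      ∃! γ : L.obj (P X Y) ⟶ T, L.map (il X Y) ≫ γ = α ∧ L.map (ir X Y) ≫ γ = β := by
    intro T α β
    haveI := Localization.essSurj L W
    obtain ⟨Z₀, ⟨e⟩⟩ : ∃ Z₀, Nonempty (L.obj Z₀ ≅ T) :=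
      ⟨L.objPreimage T, ⟨L.objObjPreimageIso T⟩⟩
    obtain ⟨γ, ⟨hγ1, hγ2⟩, huniq⟩ :=
      existsUnique_desc_of_frac W L P il ir hc hW X Y Z₀ (α ≫ e.inv) (β ≫ e.inv)
    refine ⟨γ ≫ e.hom, ⟨?_, ?_⟩, ?_⟩
    · rw [← Category.assoc, hγ1, Category.assoc, e.inv_hom_id, Category.comp_id]
    · rw [← Category.assoc, hγ2, Category.assoc, e.inv_hom_id, Category.comp_id]
    · rintro γ' ⟨h1, h2⟩
      have := huniq (γ' ≫ e.inv) ⟨by rw [← Category.assoc, h1], by rw [← Category.assoc, h2]⟩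
      rw [← this, Category.assoc, e.inv_hom_id, Category.comp_id]
  exact ⟨BinaryCofan.IsColimit.mk _ (fun f g => (key _ f g).choose)
    (fun f g => (key _ f g).choose_spec.1.1) (fun f g => (key _ f g).choose_spec.1.2)
    (fun f g m h1 h2 => (key _ f g).choose_spec.2 m ⟨h1, h2⟩)⟩

include W in
theorem hasBinaryCoproducts_and_preserves_of_frac
    (hW : ∀ {A B A₁ B₁ : C} (s : A₁ ⟶ A) (t : B₁ ⟶ B), W s → W t → W (cmap P il ir hc s t)) :
    HasBinaryCoproducts D ∧ PreservesColimitsOfShape (Discrete WalkingPair) L := by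
  have hcol := nonempty_isColimit_map_of_frac W L P il ir hc hW
  constructor
  · haveI : ∀ X' Y' : D, HasColimit (pair X' Y') := by
      intro X' Y'
      haveI := Localization.essSurj L W
      let e₁ : L.obj (L.objPreimage X') ≅ X' := L.objObjPreimageIso X'
      let e₂ : L.obj (L.objPreimage Y') ≅ Y' := L.objObjPreimageIso Y'
      haveI : HasColimit (pair (L.obj (L.objPreimage X')) (L.obj (L.objPreimage Y'))) :=
        ⟨⟨⟨_, (hcol (L.objPreimage X') (L.objPreimage Y')).some⟩⟩⟩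
      exact hasColimit_of_iso (F := pair (L.obj (L.objPreimage X')) (L.obj (L.objPreimage Y')))
        (G := pair X' Y') (mapPairIso e₁.symm e₂.symm)
    exact hasBinaryCoproducts_of_hasColimit_pair D
  · haveI : ∀ X Y : C, PreservesColimit (pair X Y) L := fun X Y =>
      preservesColimit_of_preserves_colimit_cocone (hc X Y)
        ((isColimitMapCoconeBinaryCofanEquiv L (il X Y) (ir X Y)).symm (hcol X Y).some)
    haveI : ∀ f : WalkingPair → C, PreservesColimit (Discrete.functor f) L := fun f =>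
      preservesColimit_of_iso_diagram L (diagramIsoPair (Discrete.functor f)).symm
    exact preservesColimitsOfShape_of_discrete L

end LocCoprod

end Groth.Agent.Lead.MP
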