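import Mathlib
import Groth.Agent.Lib.Lead.MP10
import Groth.Agent.Lib.Lead.MP11

set_option autoImplicit false
set_option backward.isDefEq.respectTransparency.types false
set_option synthInstance.maxHeartbeats 400000
set_option linter.style.haveILetI false
set_option linter.unusedSectionVars false

universe u

open CategoryTheory CategoryTheory.Limits AlgebraicGeometry TopologicalSpace Opposite

namespace Groth.Agent.Lead.MP
open Groth.Agent.Helper4 ModPair

/-- being an isomorphism over each member of a family of opens implies being an isomorphism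
over their union -/
theorem isIso_restrict_iSup {B X : Scheme.{u}} (f : B ⟶ X) {ι : Type*} (U : ι → X.Opens)
    (h : ∀ i, IsIso (f ∣_ U i)) : IsIso (f ∣_ (⨆ i, U i)) := by
  let W : X.Opens := ⨆ i, U i
  have hle : ∀ i, U i ≤ W := fun i => le_iSup U i
  change (MorphismProperty.isomorphisms Scheme) (f ∣_ W)
  rw [IsZariskiLocalAtTarget.iff_of_iSup_eq_top (P := MorphismProperty.isomorphisms Scheme)
    (U := fun i => W.ι ⁻¹ᵁ U i)]
  · intro i
    have himg : W.ι ''ᵁ (W.ι ⁻¹ᵁ U i) = U i := by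
      rw [Scheme.Hom.image_preimage_eq_opensRange_inf, Scheme.Opens.opensRange_ι]
      exact inf_eq_right.mpr (hle i)
    rw [(MorphismProperty.isomorphisms Scheme).arrow_mk_iso_iff
      (morphismRestrictRestrict f W (W.ι ⁻¹ᵁ U i) ≪≫ morphismRestrictEq f himg)]
    exact h i
  · apply W.ι.image_injective
    dsimp only
    rw [Scheme.Hom.image_iSup, Scheme.Hom.image_top_eq_opensRange, Scheme.Opens.opensRange_ι]
    apply le_antisymm
    · exact iSup_le fun i => by
        rw [Scheme.Hom.image_preimage_eq_opensRange_inf, Scheme.Opens.opensRange_ι]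
        exact inf_le_left
    · intro x hx
      obtain ⟨i, hi⟩ := Opens.mem_iSup.mp hx
      refine Opens.mem_iSup.mpr ⟨i, ?_⟩
      rw [Scheme.Hom.image_preimage_eq_opensRange_inf, Scheme.Opens.opensRange_ι]
      exact ⟨hx, hi⟩

theorem isIso_restrict_image_of_isPullback {Z' Z X' X : Scheme.{u}} (f' : Z' ⟶ X') (j' : Z' ⟶ Z)
    (j : X' ⟶ X) (f : Z ⟶ X) [IsOpenImmersion j'] [IsOpenImmersion j] (w : j' ≫ f = f' ≫ j)
    (hpre : f ⁻¹ᵁ j.opensRange = j'.opensRange) (W : X'.Opens) [hW : IsIso (f' ∣_ W)] :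
    IsIso (f ∣_ (j ''ᵁ W)) := by
  haveI : IsIso ((j' ≫ f) ∣_ (j ''ᵁ W)) := by
    rw [w, morphismRestrict_comp]
    have h1 : IsIso (f' ∣_ j ⁻¹ᵁ j ''ᵁ W) := by
      have e : j ⁻¹ᵁ j ''ᵁ W = W := j.preimage_image_eq W
      change (MorphismProperty.isomorphisms Scheme) _
      rw [(MorphismProperty.isomorphisms Scheme).arrow_mk_iso_iff (morphismRestrictEq f' e)]
      exact hW
    have h2 : IsIso (j ∣_ j ''ᵁ W) := by
      rw [isIso_iff_isOpenImmersion_and_surjective]
      refine ⟨inferInstance, ⟨fun y => ?_⟩⟩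
      obtain ⟨z, hz, hzy⟩ := y.2
      refine ⟨⟨z, ?_⟩, Subtype.ext ?_⟩
      · change j z ∈ j ''ᵁ W
        exact ⟨z, hz, rfl⟩
      · rw [morphismRestrict_base_coe]
        exact hzy
    exact IsIso.comp_isIso' h1 h2
  refine isIso_restrict_of_range_subset j' f (j ''ᵁ W) ?_
  intro b hb
  have : b ∈ f ⁻¹ᵁ j.opensRange := by
    obtain ⟨z, -, hz⟩ := hb
    exact ⟨z, hz⟩
  rw [hpre] at this
  exact this

section SigmaA
variable {σ : Type u} {Z X : σ → Scheme.{u}} (f : ∀ i, Z i ⟶ X i)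

theorem sigmaMap_of_isZariskiLocalAtTarget (P : MorphismProperty Scheme.{u})
    [IsZariskiLocalAtTarget P] (h : ∀ i, P (f i)) : P (Limits.Sigma.map f) := by
  apply IsZariskiLocalAtTarget.of_openCover (P := P) (sigmaOpenCover X)
  intro i
  have sq : IsPullback (Sigma.ι Z i) (f i) (Limits.Sigma.map f) (Sigma.ι X i) :=
    (isPullback_sigmaMap f i).flip
  have e : pullback.snd (Limits.Sigma.map f) (Sigma.ι X i) = sq.isoPullback.inv ≫ f i := by
    rw [Iso.eq_inv_comp]; exact sq.isoPullback_hom_snd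
  change P (pullback.snd (Limits.Sigma.map f) (Sigma.ι X i))
  rw [e, P.cancel_left_of_respectsIso]
  exact h i

theorem ideal_ext_of_comap_eq {Y : Scheme.{u}} (𝓜 𝓝 : Y.IdealSheafData) {ι : Type*}
    (V : ι → Scheme.{u}) (j : ∀ i, V i ⟶ Y) [∀ i, IsOpenImmersion (j i)]
    (hcov : ∀ y : Y, ∃ i, y ∈ Set.range (j i))
    (h : ∀ i, 𝓜.comap (j i) = 𝓝.comap (j i)) : 𝓜 = 𝓝 :=
  le_antisymm (le_of_comap_le 𝓜 𝓝 V j hcov fun i => (h i).le)
    (le_of_comap_le 𝓝 𝓜 V j hcov fun i => (h i).ge)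

theorem interior_sigmaIdeal (I : ∀ i, (X i).IdealSheafData) :
    interior (sigmaIdeal I) = ⨆ i, (Sigma.ι X i) ''ᵁ (interior (I i)) := by
  have hi : ∀ i, (Sigma.ι X i) ⁻¹ᵁ interior (sigmaIdeal I) = interior (I i) := by
    intro i
    rw [← interior_comap, sigmaIdeal_comap]
  ext x
  obtain ⟨j, z, rfl⟩ := exists_sigmaι_eq x
  constructor
  · intro hx
    refine Opens.mem_iSup.mpr ⟨j, z, ?_, rfl⟩
    rw [← hi j]
    exact hx
  · intro hx
    obtain ⟨i, z', hz', hzz⟩ := Opens.mem_iSup.mp hx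
    rw [← hi i] at hz'
    change Sigma.ι X i z' = Sigma.ι X j z at hzz
    rw [← hzz]
    exact hz'

/-- a coproduct of admissible blow-ups is an admissible blow-up -/
theorem isAdmBlowup_sigmaMap (I' : ∀ i, (Z i).IdealSheafData) (I : ∀ i, (X i).IdealSheafData)
    (h : ∀ i, IsAdmBlowup (I' i) (I i) (f i)) :
    IsAdmBlowup (sigmaIdeal I') (sigmaIdeal I) (Limits.Sigma.map f) := by
  refine ⟨?_, ?_, ?_⟩
  · refine ideal_ext_of_comap_eq _ _ Z (fun i => Sigma.ι Z i)
      (fun y => by obtain ⟨j, z, h⟩ := exists_sigmaι_eq y; exact ⟨j, z, h⟩) fun i => ?_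
    rw [sigmaIdeal_comap, ← Scheme.IdealSheafData.comap_comp, Sigma.ι_map,
      Scheme.IdealSheafData.comap_comp, sigmaIdeal_comap]
    exact (h i).1
  · exact sigmaMap_of_isZariskiLocalAtTarget f @IsProper fun i => (h i).2.1
  · rw [interior_sigmaIdeal]
    apply isIso_restrict_iSup
    intro i
    haveI : IsIso (f i ∣_ interior (I i)) := (h i).2.2
    exact isIso_restrict_image_of_isPullback (f i) (Sigma.ι Z i) (Sigma.ι X i)
      (Limits.Sigma.map f) (by simp) (sigmaMap_preimage_opensRange f i) (interior (I i))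

end SigmaA

section Binary

/-- the two-element family -/
def bfam (X Y : Pair.{u}) : ULift.{u} Bool → Pair.{u} := fun b => cond b.down X Y

/-- family of morphisms -/
def bfamMap {A B A₁ B₁ : Pair.{u}} (s : A₁ ⟶ A) (t : B₁ ⟶ B) :
    ∀ b, bfam A₁ B₁ b ⟶ bfam A B b
  | ⟨true⟩ => s
  | ⟨false⟩ => t

noncomputable abbrev bcoprod (X Y : Pair.{u}) : Pair.{u} := sigmaPair (bfam X Y)

noncomputable def binl (X Y : Pair.{u}) : X ⟶ bcoprod X Y := sigmaPairι (bfam X Y) ⟨true⟩

noncomputable def binr (X Y : Pair.{u}) : Y ⟶ bcoprod X Y := sigmaPairι (bfam X Y) ⟨false⟩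

def bcofan {X Y T : Pair.{u}} (f : X ⟶ T) (g : Y ⟶ T) : Cofan (bfam X Y) :=
  Cofan.mk T (fun b => match b with
    | ⟨true⟩ => f
    | ⟨false⟩ => g)

noncomputable def isColimitB (X Y : Pair.{u}) :
    IsColimit (BinaryCofan.mk (binl X Y) (binr X Y)) :=
  BinaryCofan.isColimitMk (fun s => sigmaPairDesc (bfam X Y) (bcofan s.inl s.inr))
    (fun s => (isColimitSigmaPairCofan (bfam X Y)).fac (bcofan s.inl s.inr) ⟨⟨true⟩⟩)
    (fun s => (isColimitSigmaPairCofan (bfam X Y)).fac (bcofan s.inl s.inr) ⟨⟨false⟩⟩)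
    (fun s m h1 h2 => (isColimitSigmaPairCofan (bfam X Y)).uniq (bcofan s.inl s.inr) m (by
      rintro ⟨⟨b⟩⟩
      cases b
      · exact h2
      · exact h1))

theorem cmap_hom {A B A₁ B₁ : Pair.{u}} (s : A₁ ⟶ A) (t : B₁ ⟶ B) :
    (cmap (fun X Y => bcoprod X Y) binl binr isColimitB s t).hom =
      Limits.Sigma.map (fun b => (bfamMap s t b).hom) := by
  have e : ∀ b : ULift.{u} Bool,
      (show (bfam A₁ B₁ b).total ⟶ ∐ fun b => (bfam A B b).total from
        ((bcofan (s ≫ binl A B) (t ≫ binr A B)).inj b).hom) =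
      (bfamMap s t b).hom ≫ Sigma.ι (fun b => (bfam A B b).total) b := by
    rintro ⟨b⟩
    cases b
    · rfl
    · rfl
  change Sigma.desc (fun b => (show (bfam A₁ B₁ b).total ⟶ ∐ fun b => (bfam A B b).total from
        ((bcofan (s ≫ binl A B) (t ≫ binr A B)).inj b).hom)) = _
  refine Sigma.hom_ext _ _ fun b => ?_
  rw [Sigma.ι_desc, Sigma.ι_map]
  exact e b

theorem admBlowup_cmap {A B A₁ B₁ : Pair.{u}} (s : A₁ ⟶ A) (t : B₁ ⟶ B)
    (hs : Pair.admBlowup s) (ht : Pair.admBlowup t) :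
    Pair.admBlowup (cmap (fun X Y => bcoprod X Y) binl binr isColimitB s t) := by
  change IsAdmBlowup _ _ (cmap (fun X Y => bcoprod X Y) binl binr isColimitB s t).hom
  rw [cmap_hom]
  apply isAdmBlowup_sigmaMap
  rintro ⟨b⟩
  cases b
  · exact ht
  · exact hs

/-- **S18748** -/
theorem hasBinaryCoproducts_localization_admBlowup :
    HasBinaryCoproducts (ModPair.Pair.admBlowup.{u}).Localization ∧
      PreservesColimitsOfShape (Discrete WalkingPair) (ModPair.Pair.admBlowup.{u}).Q :=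
  hasBinaryCoproducts_and_preserves_of_frac (ModPair.Pair.admBlowup.{u})
    (ModPair.Pair.admBlowup.{u}).Q (fun X Y => bcoprod X Y) binl binr isColimitB
    (fun s t hs ht => admBlowup_cmap s t hs ht)

end Binary

end Groth.Agent.Lead.MP
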