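import Mathlib
import Groth.Agent.Lib.Lead.MatAut2

/-!
# Tensor powers of invertible modules, and the determinant isomorphism `⨂ⁿ Lift α ≃ R`
-/

set_option autoImplicit false
set_option linter.unusedSectionVars false

namespace Groth.Agent.Lead.MatAut

open Matrix TensorProduct

universe u v

section tpow

variable (R : Type u) [CommRing R] (M : Type v) [AddCommGroup M] [Module R M]

/-- `⨂^{k+1} M ≃ ⨂^k M ⊗ M` -/
noncomputable def succEquiv (k : ℕ) :
    (⨂[R] _ : Fin (k + 1), M) ≃ₗ[R] (⨂[R] _ : Fin k, M) ⊗[R] M :=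
  ((PiTensorProduct.reindex R (fun _ : Fin (k + 1) => M) finSumFinEquiv.symm).trans
    (PiTensorProduct.tmulEquiv R M).symm).trans
    (TensorProduct.congr (LinearEquiv.refl R _) (PiTensorProduct.subsingletonEquiv (0 : Fin 1)))

theorem invertible_tpow [Module.Invertible R M] (k : ℕ) :
    Module.Invertible R (⨂[R] _ : Fin k, M) := by
  induction k with
  | zero => exact Module.Invertible.congr (PiTensorProduct.isEmptyEquiv (Fin 0)).symm
  | succ k ih => exact Module.Invertible.congr (succEquiv R M k).symm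

theorem pic_tpow [Module.Invertible R M] (k : ℕ) :
    have := invertible_tpow R M k
    CommRing.Pic.mk R (⨂[R] _ : Fin k, M) = CommRing.Pic.mk R M ^ k := by
  induction k with
  | zero =>
    have := invertible_tpow R M 0
    show CommRing.Pic.mk R (⨂[R] _ : Fin 0, M) = CommRing.Pic.mk R M ^ 0
    rw [pow_zero, CommRing.Pic.mk_eq_one_iff]
    exact ⟨PiTensorProduct.isEmptyEquiv (Fin 0)⟩
  | succ k ih =>
    have := invertible_tpow R M k
    have := invertible_tpow R M (k + 1)
    show CommRing.Pic.mk R (⨂[R] _ : Fin (k + 1), M) = CommRing.Pic.mk R M ^ (k + 1)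
    rw [pow_succ, ← ih, ← CommRing.Pic.mk_tensor, CommRing.Pic.mk_eq_mk_iff]
    exact ⟨succEquiv R M k⟩

end tpow

section detiso

variable {R : Type u} [CommRing R] {n : ℕ} [NeZero n]

local notation "S" => Matrix (Fin n) (Fin n) R

/-- the `j`-th column of a lifting -/
def colMap (α : S ≃ₐ[R] S) (j : Fin n) : Lift α →ₗ[R] (Fin n → R) where
  toFun M := fun i => (M : S) i j
  map_add' _ _ := rfl
  map_smul' _ _ := rfl

/-- the determinant of the matrix whose `j`-th column is the `j`-th column of `M j` -/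
noncomputable def detCols (α : S ≃ₐ[R] S) : MultilinearMap R (fun _ : Fin n => Lift α) R :=
  (Matrix.detRowAlternating (n := Fin n) (R := R)).toMultilinearMap.compLinearMap (colMap α)

theorem detCols_diag (α : S ≃ₐ[R] S) (M : Lift α) : detCols α (fun _ => M) = (M : S).det := by
  rw [← Matrix.det_transpose]
  rfl

noncomputable def detMap (α : S ≃ₐ[R] S) : (⨂[R] _ : Fin n, Lift α) →ₗ[R] R :=
  PiTensorProduct.lift (detCols α)

theorem detMap_surjective (α : S ≃ₐ[R] S) : Function.Surjective (detMap α) := by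
  have h1 := span_det_eq_top α
  have h2 : Ideal.span {d : R | ∃ M ∈ Lift α, M.det = d} ≤ LinearMap.range (detMap α) := by
    rw [Ideal.span_le]
    rintro _ ⟨M, hM, rfl⟩
    refine ⟨PiTensorProduct.tprod R (fun _ => (⟨M, hM⟩ : Lift α)), ?_⟩
    rw [detMap, PiTensorProduct.lift.tprod, detCols_diag]
  rw [h1, top_le_iff] at h2
  exact LinearMap.range_eq_top.1 h2

/-- `⨂ⁿ Lift α ≃ R` -/
noncomputable def detEquiv (α : S ≃ₐ[R] S) : (⨂[R] _ : Fin n, Lift α) ≃ₗ[R] R :=
  have := invertible_Lift α
  have := invertible_tpow R (Lift α) n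
  LinearEquiv.ofBijective (detMap α) (Module.Invertible.bijective_of_surjective (detMap_surjective α))

end detiso

end Groth.Agent.Lead.MatAut
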