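import Mathlib
import Groth.Agent.Lib.Lead.MatAut3

/-!
# `(Lift α)ⁿ ≃ Rⁿ`, and inner automorphisms
-/

set_option autoImplicit false
set_option linter.unusedSectionVars false

namespace Groth.Agent.Lead.MatAut

open Matrix TensorProduct

universe u v

variable {R : Type u} [CommRing R] {n : ℕ} [NeZero n]

local notation "S" => Matrix (Fin n) (Fin n) R

theorem ext_col {A B : S} (h : ∀ c, A *ᵥ Pi.single c 1 = B *ᵥ Pi.single c 1) : A = B := by
  ext a c
  have := congrFun (h c) a
  simpa [Matrix.mulVec_single_one] using this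

theorem single_mulVec_single (a b c : Fin n) :
    single a b (1 : R) *ᵥ Pi.single c 1 = if b = c then Pi.single a 1 else 0 := by
  rw [single_mulVec_eq]
  split_ifs with h
  · subst h; simp
  · simp [Pi.single_eq_of_ne h]

/-- the lifting whose `b`-th column is `α(e_{bi}) v` -/
def thetaMat (α : S ≃ₐ[R] S) (i : Fin n) (v : Fin n → R) : S :=
  Matrix.of fun a b => (α (single b i 1) *ᵥ v) a

theorem thetaMat_mulVec_single (α : S ≃ₐ[R] S) (i : Fin n) (v : Fin n → R) (b : Fin n) :
    thetaMat α i v *ᵥ Pi.single b 1 = α (single b i 1) *ᵥ v := by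
  rw [Matrix.mulVec_single_one]
  ext a
  rfl

theorem thetaMat_mem (α : S ≃ₐ[R] S) (i : Fin n) (v : Fin n → R) : thetaMat α i v ∈ Lift α := by
  rw [mem_Lift_iff_single]
  intro a b
  apply ext_col
  intro c
  rw [← Matrix.mulVec_mulVec, ← Matrix.mulVec_mulVec, single_mulVec_single, thetaMat_mulVec_single,
    Matrix.mulVec_mulVec, ← map_mul, single_mul_single_ite]
  split_ifs with h
  · rw [thetaMat_mulVec_single]
  · rw [Matrix.mulVec_zero, map_zero, Matrix.zero_mulVec]

/-- `(Lift α)ⁿ → Rⁿ` -/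
noncomputable def colsMap (α : S ≃ₐ[R] S) : (Fin n → Lift α) →ₗ[R] (Fin n → R) where
  toFun M := ∑ i, ((M i : Lift α) : S) *ᵥ Pi.single i 1
  map_add' M M' := by
    simp only [Pi.add_apply, Submodule.coe_add, Matrix.add_mulVec, Finset.sum_add_distrib]
  map_smul' r M := by
    simp only [Pi.smul_apply, Submodule.coe_smul, Matrix.smul_mulVec, Finset.smul_sum,
      RingHom.id_apply]

noncomputable def colsInv (α : S ≃ₐ[R] S) : (Fin n → R) →ₗ[R] (Fin n → Lift α) where
  toFun v := fun i => ⟨thetaMat α i v, thetaMat_mem α i v⟩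
  map_add' v w := by
    ext i : 1
    apply Subtype.ext
    ext a b
    simp [thetaMat, Matrix.mulVec_add]
  map_smul' r v := by
    ext i : 1
    apply Subtype.ext
    ext a b
    simp [thetaMat, Matrix.mulVec_smul]

theorem colsMap_colsInv (α : S ≃ₐ[R] S) (v : Fin n → R) : colsMap α (colsInv α v) = v := by
  show ∑ i, thetaMat α i v *ᵥ Pi.single i 1 = v
  simp only [thetaMat_mulVec_single]
  rw [← Matrix.sum_mulVec, ← map_sum, Matrix.sum_single_one, map_one, Matrix.one_mulVec]

theorem colsInv_colsMap (α : S ≃ₐ[R] S) (M : Fin n → Lift α) : colsInv α (colsMap α M) = M := by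
  ext i : 1
  apply Subtype.ext
  show thetaMat α i (∑ l, ((M l : Lift α) : S) *ᵥ Pi.single l 1) = (M i : S)
  apply ext_col
  intro b
  rw [thetaMat_mulVec_single, Matrix.mulVec_sum]
  have h1 : ∀ l, α (single b i 1) *ᵥ (((M l : Lift α) : S) *ᵥ Pi.single l 1) =
      if i = l then ((M i : Lift α) : S) *ᵥ Pi.single b 1 else 0 := by
    intro l
    rw [Matrix.mulVec_mulVec, ← (M l).2 (single b i 1), ← Matrix.mulVec_mulVec,
      single_mulVec_single]
    split_ifs with h
    · subst h; rfl
    · rw [Matrix.mulVec_zero]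
  simp only [h1, Finset.sum_ite_eq, Finset.mem_univ, if_true]

/-- `(Lift α)ⁿ ≃ Rⁿ` -/
noncomputable def colsEquiv (α : S ≃ₐ[R] S) : (Fin n → Lift α) ≃ₗ[R] (Fin n → R) :=
  LinearEquiv.ofLinearMap (colsMap α) (colsInv α)
    (LinearMap.ext (colsMap_colsInv α)) (LinearMap.ext (colsInv_colsMap α))

end Groth.Agent.Lead.MatAut
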