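import Mathlib
import Groth.Agent.Lib.Lead.MatAut4

/-!
# Inner automorphisms and invertible modules `N` with `Nⁿ ≃ Rⁿ`
-/

set_option autoImplicit false
set_option linter.unusedSectionVars false

namespace Groth.Agent.Lead.MatAut

open Matrix TensorProduct

universe u v

variable {R : Type u} [CommRing R] {n : ℕ} [NeZero n]

local notation "S" => Matrix (Fin n) (Fin n) R

/-- if the module of liftings is free, the automorphism is inner -/
theorem inner_of_free (α : S ≃ₐ[R] S) (h : Module.Free R (Lift α)) :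
    ∃ P : GL (Fin n) R, ∀ A : S, α A = P.1 * A * (P⁻¹).1 := by
  have := invertible_Lift α
  obtain ⟨g⟩ := (Module.Invertible.free_iff_linearEquiv).1 h
  obtain ⟨u, hu⟩ : ∃ u : Lift α, u = g.symm 1 := ⟨_, rfl⟩
  have hgen : ∀ M : Lift α, M = g M • u := by
    intro M
    rw [hu, ← map_smul, smul_eq_mul, mul_one, g.symm_apply_apply]
  have hle : Ideal.span {d : R | ∃ M ∈ Lift α, M.det = d} ≤ Ideal.span {(u : S).det} := by
    rw [Ideal.span_le]
    rintro _ ⟨M, hM, rfl⟩
    have h1 := hgen ⟨M, hM⟩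
    have h2 : M = g ⟨M, hM⟩ • (u : S) := congrArg Subtype.val h1
    rw [h2, Matrix.det_smul, SetLike.mem_coe, Ideal.mem_span_singleton]
    exact Dvd.intro_left _ rfl
  rw [span_det_eq_top α, top_le_iff, Ideal.span_singleton_eq_top] at hle
  have hunit : IsUnit (u : S) := (Matrix.isUnit_iff_isUnit_det _).2 hle
  obtain ⟨P, hP⟩ : ∃ P : Sˣ, (P : S) = (u : S) := ⟨hunit.unit, rfl⟩
  refine ⟨P, fun A => ?_⟩
  have h1 : (u : S) * A = α A * (u : S) := u.2 A
  show α A = (P : S) * A * ((P⁻¹ : Sˣ) : S)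
  rw [hP, h1, ← hP, mul_assoc, Units.mul_inv, mul_one]

/-- for an inner automorphism the module of liftings is free -/
theorem free_of_inner (α : S ≃ₐ[R] S) (P : GL (Fin n) R) (hP : ∀ A : S, α A = P.1 * A * (P⁻¹).1) :
    Module.Free R (Lift α) := by
  have := invertible_Lift α
  have hPmem : (P : S) ∈ Lift α := by
    intro N
    rw [hP N, mul_assoc, mul_assoc]
    show (P : S) * N = (P : S) * (N * (((P⁻¹ : GL (Fin n) R) : S) * (P : S)))
    rw [Units.inv_mul, mul_one]
  let f : R →ₗ[R] Lift α := LinearMap.toSpanSingleton R (Lift α) ⟨P, hPmem⟩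
  have hsurj : Function.Surjective f := by
    intro M
    have hc : ∀ N : S, (((P⁻¹ : GL (Fin n) R) : S) * (M : S)) * N =
        N * (((P⁻¹ : GL (Fin n) R) : S) * (M : S)) := by
      intro N
      rw [mul_assoc, M.2 N, hP N, ← mul_assoc, ← mul_assoc, ← mul_assoc, Units.inv_mul, one_mul,
        mul_assoc]
    have h1 := eq_smul_one_of_comm _ hc
    refine ⟨(((P⁻¹ : GL (Fin n) R) : S) * (M : S)) 0 0, ?_⟩
    apply Subtype.ext
    show (((P⁻¹ : GL (Fin n) R) : S) * (M : S)) 0 0 • (P : S) = (M : S)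
    have h2 : (P : S) * (((P⁻¹ : GL (Fin n) R) : S) * (M : S)) = (M : S) := by
      rw [← mul_assoc, Units.mul_inv, one_mul]
    rw [← h2]
    conv_rhs => rw [h1]
    rw [mul_smul_comm, mul_one, h2]
  have hbij := Module.Invertible.bijective_of_surjective hsurj
  exact Module.Free.of_equiv (LinearEquiv.ofBijective f hbij)

section pow

variable (N : Type v) [AddCommGroup N] [Module R N] [Module.Invertible R N]

/-- `R ≃ End N` for an invertible module -/
noncomputable def endEquiv : R ≃ₐ[R] Module.End R N :=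
  AlgEquiv.ofBijective (Algebra.lsmul R R N) (Module.Invertible.toModuleEnd_bijective R N)

/-- a matrix acting on `Nⁿ` -/
noncomputable def matAct : S ≃ₐ[R] Module.End R (Fin n → N) :=
  (endEquiv N).mapMatrix.trans (endVecAlgEquivMatrixEnd (Fin n) R R N).symm

theorem matAct_apply (X : S) (y : Fin n → N) (i : Fin n) :
    matAct N X y i = ∑ j, X i j • y j := rfl

variable {N}

/-- the automorphism of `Mₙ(R)` attached to `e : Nⁿ ≃ Rⁿ` -/
noncomputable def autOfPow (e : (Fin n → N) ≃ₗ[R] (Fin n → R)) : S ≃ₐ[R] S :=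
  ((matAct N).trans (e.conjAlgEquiv R)).trans LinearMap.toMatrixAlgEquiv'

theorem autOfPow_mulVec (e : (Fin n → N) ≃ₗ[R] (Fin n → R)) (X : S) (w : Fin n → R) :
    autOfPow e X *ᵥ w = e (matAct N X (e.symm w)) := by
  have : Matrix.toLin' (autOfPow e X) = e.toLinearMap ∘ₗ (matAct N X) ∘ₗ e.symm.toLinearMap := by
    unfold autOfPow
    simp only [AlgEquiv.trans_apply, LinearMap.toMatrixAlgEquiv', Matrix.toLin'_toMatrix',
      AlgEquiv.ofLinearEquiv_apply]
    rfl
  have h2 := LinearMap.congr_fun this w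
  rw [Matrix.toLin'_apply] at h2
  exact h2

/-- `w ↦ (wᵢ • y)ᵢ` -/
def diagMap (y : N) : (Fin n → R) →ₗ[R] (Fin n → N) where
  toFun w := fun i => w i • y
  map_add' w w' := by ext i; simp [add_smul]
  map_smul' r w := by ext i; simp [mul_smul]

theorem diagMap_mulVec (y : N) (X : S) (w : Fin n → R) :
    diagMap y (X *ᵥ w) = matAct N X (diagMap y w) := by
  ext i
  rw [matAct_apply]
  show (X *ᵥ w) i • y = ∑ j, X i j • (w j • y)
  simp only [Matrix.mulVec, dotProduct, Finset.sum_smul, mul_smul]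

variable (e : (Fin n → N) ≃ₗ[R] (Fin n → R))

theorem ofN_mem (y : N) :
    LinearMap.toMatrix' (e.toLinearMap ∘ₗ diagMap y) ∈ Lift (autOfPow e) := by
  intro X
  apply Matrix.toLin'.injective
  refine LinearMap.ext fun w => ?_
  rw [Matrix.toLin'_mul, Matrix.toLin'_mul, Matrix.toLin'_toMatrix']
  simp only [LinearMap.comp_apply, Matrix.toLin'_apply, LinearEquiv.coe_coe]
  rw [autOfPow_mulVec, e.symm_apply_apply, diagMap_mulVec]

noncomputable def ofN : N →ₗ[R] Lift (autOfPow e) where
  toFun y := ⟨LinearMap.toMatrix' (e.toLinearMap ∘ₗ diagMap y), ofN_mem e y⟩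
  map_add' y y' := by
    apply Subtype.ext
    show LinearMap.toMatrix' _ = LinearMap.toMatrix' _ + LinearMap.toMatrix' _
    rw [← map_add]
    congr 1
    refine LinearMap.ext fun w => ?_
    simp only [LinearMap.comp_apply, LinearMap.add_apply, LinearEquiv.coe_coe, ← map_add]
    congr 1
    ext i
    simp [diagMap]
  map_smul' r y := by
    apply Subtype.ext
    show LinearMap.toMatrix' _ = r • LinearMap.toMatrix' _
    rw [← map_smul]
    congr 1
    refine LinearMap.ext fun w => ?_
    simp only [LinearMap.comp_apply, LinearMap.smul_apply, LinearEquiv.coe_coe, ← map_smul]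
    congr 1
    ext i
    show w i • r • y = (r * w i) • y
    rw [smul_smul, mul_comm]

noncomputable def toN : Lift (autOfPow e) →ₗ[R] N where
  toFun M := e.symm ((M : S) *ᵥ Pi.single 0 1) 0
  map_add' M M' := by
    simp only [Submodule.coe_add, Matrix.add_mulVec, map_add, Pi.add_apply]
  map_smul' r M := by
    simp only [Submodule.coe_smul, Matrix.smul_mulVec, map_smul, Pi.smul_apply, RingHom.id_apply]

theorem toN_ofN (y : N) : toN e (ofN e y) = y := by
  show e.symm (LinearMap.toMatrix' (e.toLinearMap ∘ₗ diagMap y) *ᵥ Pi.single 0 1) 0 = y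
  rw [← Matrix.toLin'_apply, Matrix.toLin'_toMatrix']
  simp only [LinearMap.comp_apply, LinearEquiv.coe_coe, e.symm_apply_apply]
  show (Pi.single (0 : Fin n) (1 : R) : Fin n → R) 0 • y = y
  simp

/-- `Lift (autOfPow e) ≃ N` -/
noncomputable def liftPowEquiv : Lift (autOfPow e) ≃ₗ[R] N :=
  have := invertible_Lift (autOfPow e)
  LinearEquiv.ofBijective (toN e) (Module.Invertible.bijective_of_surjective
    (fun y => ⟨ofN e y, toN_ofN e y⟩))

end pow

end Groth.Agent.Lead.MatAut
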