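import Mathlib
import Groth.Prelude.Def_MeroDiv
import Groth.Prelude.Def_CurvBase
import Groth.Prelude.Def_Coh
import Groth.Agent.Lib.Lead.MeroL9
import Groth.Agent.Lib.Helper4.MeroReg1
import Groth.Agent.Lib.Helper7.CohStalk.WeakAssExact

/-!
# Injectivity of `F → K_X(F)` (lead)
-/

set_option autoImplicit false
set_option backward.isDefEq.respectTransparency.types false
set_option synthInstance.maxHeartbeats 400000
set_option linter.style.haveILetI false
set_option linter.unusedSectionVars false
universe u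

open CategoryTheory CategoryTheory.Limits AlgebraicGeometry TopologicalSpace Opposite

namespace Groth.Agent.Lead.MeroL

variable {X : Scheme.{u}}

theorem toMer_app_apply (F : X.Modules) (W : X.Opens) (n : Γ(F, W)) :
    (Mero.toMer F).app W n = Mero.toMerFun F W n := rfl

/-- vanishing of `m / 1` -/
theorem mk_one_eq_zero_iff (F : X.Modules) (x : X) (μ : F.presheaf.stalk x) :
    (LocalizedModule.mk μ 1 : Mero.MStalk F x) = 0 ↔ ∃ c : Mero.regStalk X x, c • μ = 0 := by
  rw [← LocalizedModule.zero_mk (1 : Mero.regStalk X x), LocalizedModule.mk_eq]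
  constructor
  · rintro ⟨c, hc⟩
    refine ⟨c, ?_⟩
    simpa using hc
  · rintro ⟨c, hc⟩
    refine ⟨c, ?_⟩
    simpa using hc

/-- in a Noetherian local ring whose maximal ideal is not associated, the maximal ideal contains
a nonzerodivisor -/
theorem exists_nonZeroDivisor_mem_maximalIdeal {R : Type*} [CommRing R] [IsLocalRing R]
    [IsNoetherianRing R]
    (h : ¬ IsAssociatedPrime (IsLocalRing.maximalIdeal R) R) :
    ∃ c ∈ IsLocalRing.maximalIdeal R, c ∈ nonZeroDivisors R := by
  by_contra hcon
  have hsub : ((IsLocalRing.maximalIdeal R : Ideal R) : Set R) ⊆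
      ⋃ p ∈ associatedPrimes R R, (p : Set R) := by
    rw [biUnion_associatedPrimes_eq_compl_nonZeroDivisors]
    intro b hb hb'
    exact hcon ⟨b, hb, hb'⟩
  have hfin : (associatedPrimes R R).Finite := associatedPrimes.finite _ _
  have hsub' : ((IsLocalRing.maximalIdeal R : Ideal R) : Set R) ⊆
      ⋃ p ∈ (hfin.toFinset : Set (Ideal R)), ((id p : Ideal R) : Set R) := by
    simpa using hsub
  obtain ⟨p, hp, hle⟩ := (Ideal.subset_union_prime (R := R) (s := hfin.toFinset)
    (f := id) ⊥ ⊥ (fun i hi _ _ => by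
      have : i ∈ associatedPrimes R R := by simpa using hi
      exact this.isPrime)).mp hsub'
  have hpass : p ∈ associatedPrimes R R := by simpa using hp
  have hpe : IsLocalRing.maximalIdeal R = p :=
    (IsLocalRing.maximalIdeal.isMaximal R).eq_of_le hpass.isPrime.ne_top hle
  exact h (hpe ▸ hpass)

set_option backward.isDefEq.respectTransparency false in
theorem S5084_main (X : Scheme.{u}) [IsLocallyNoetherian X]
    (F : X.Modules) (hF : Coh.IsQCoh F) :
    Mono (Mero.toMer F) ↔
      ∀ x : ↥X, Curv2.IsAssPoint F x →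
        IsAssociatedPrime (IsLocalRing.maximalIdeal ↑(X.presheaf.stalk x))
          ↑(X.presheaf.stalk x) := by
  constructor
  · intro hmono x hx
    by_contra hnot
    obtain ⟨c, hcm, hc⟩ := exists_nonZeroDivisor_mem_maximalIdeal hnot
    obtain ⟨-, μ, hμ⟩ := hx
    have hμ0 : μ ≠ 0 := by
      rintro rfl
      have h3 : (1 : X.presheaf.stalk x) ∈ ((⊥ : Submodule (X.presheaf.stalk x)
          (F.presheaf.stalk x)).colon {(0 : F.presheaf.stalk x)}).radical := by
        apply Ideal.le_radical
        rw [Submodule.mem_colon_singleton, smul_zero]; exact Submodule.zero_mem _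
      rw [← hμ] at h3
      exact (IsLocalRing.maximalIdeal.isMaximal _).ne_top ((Ideal.eq_top_iff_one _).mpr h3)
    have hc' : c ∈ ((⊥ : Submodule (X.presheaf.stalk x)
        (F.presheaf.stalk x)).colon {μ}).radical := by rw [← hμ]; exact hcm
    obtain ⟨k, hk⟩ := hc'
    rw [Submodule.mem_colon_singleton, Submodule.mem_bot] at hk
    have hck : c ^ k ∈ Mero.regStalk X x := by
      rw [Groth.Agent.Lib.Helper4.MeroReg1.S8863_main X x]
      exact pow_mem hc k
    obtain ⟨V₂, hxV₂, b, hb, hbc⟩ := hck
    obtain ⟨V₁, hxV₁, m, hm⟩ := TopCat.Presheaf.exists_germ_eq F.presheaf μ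
    let V : X.Opens := V₁ ⊓ V₂
    have hxV : x ∈ V := ⟨hxV₁, hxV₂⟩
    let m' : Γ(F, V) := F.presheaf.map (homOfLE (inf_le_left : V ≤ V₁)).op m
    let b' : Γ(X, V) := X.presheaf.map (homOfLE (inf_le_right : V ≤ V₂)).op b
    have hb' : b' ∈ Mero.regSub X V := Mero.regSub_res _ hb
    have hgerm : F.presheaf.germ V x hxV (b' • m') = F.presheaf.germ V x hxV 0 := by
      rw [Mero.germ_smul, map_zero]
      change X.presheaf.germ V x hxV (X.presheaf.map (homOfLE (inf_le_right : V ≤ V₂)).op b) •
        F.presheaf.germ V x hxV (F.presheaf.map (homOfLE (inf_le_left : V ≤ V₁)).op m) = 0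
      rw [TopCat.Presheaf.germ_res_apply, TopCat.Presheaf.germ_res_apply, hbc, hm]
      exact hk
    obtain ⟨V', hxV', i₁, i₂, hres⟩ := TopCat.Presheaf.germ_eq F.presheaf x hxV hxV _ _ hgerm
    let n : Γ(F, V') := F.presheaf.map i₁.op m'
    have hn : (Mero.toMer F).app V' n = 0 := by
      rw [toMer_app_apply]
      apply Subtype.ext
      funext y
      change LocalizedModule.mk (F.presheaf.germ V' y.1 y.2 n) 1 = 0
      rw [mk_one_eq_zero_iff]
      refine ⟨⟨X.presheaf.germ V y.1 (i₁.le y.2) b', Mero.germ_mem_regStalk ⟨y.1, i₁.le y.2⟩ hb'⟩, ?_⟩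
      change X.presheaf.germ V y.1 (i₁.le y.2) b' • F.presheaf.germ V' y.1 y.2 (F.presheaf.map i₁.op m') = 0
      rw [TopCat.Presheaf.germ_res_apply F.presheaf i₁ y.1 y.2 m', ← Mero.germ_smul]
      have h1 := congrArg (F.presheaf.germ V' y.1 y.2) hres
      rw [TopCat.Presheaf.germ_res_apply, TopCat.Presheaf.germ_res_apply, map_zero] at h1
      exact h1
    have hinj := Groth.Agent.Helper7.FinType.injective_app_of_mono (Mero.toMer F) V'
    have hn0 : n = 0 := by
      apply hinj
      rw [map_zero]
      exact hn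
    apply hμ0
    rw [← hm]
    have h2 := congrArg (F.presheaf.germ V' x hxV') hn0
    rw [map_zero] at h2
    change F.presheaf.germ V' x hxV' (F.presheaf.map i₁.op
      (F.presheaf.map (homOfLE (inf_le_left : V ≤ V₁)).op m)) = 0 at h2
    rw [TopCat.Presheaf.germ_res_apply, TopCat.Presheaf.germ_res_apply] at h2
    exact h2
  · intro h
    apply Groth.Agent.Helper7.FinType.mono_of_injective_app
    intro W
    rw [injective_iff_map_eq_zero]
    intro n hn
    refine Groth.Agent.Helper7.FinType.section_eq_zero_of_forall_isWeakAssPoint F hF W n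
      (fun y hy hass => ?_)
    have hass' := h y ((Groth.Agent.Helper7.FinType.isAssPoint_iff_isWeakAssPoint F y).mpr hass)
    rw [toMer_app_apply] at hn
    have h1 : (LocalizedModule.mk (F.presheaf.germ W y hy n) 1 : Mero.MStalk F y) = 0 :=
      congrArg (fun t : Γ(Mero.merMod F, W) => t.1 ⟨y, hy⟩) hn
    obtain ⟨c, hc⟩ := (mk_one_eq_zero_iff F y _).mp h1
    have hcu : IsUnit (c : X.presheaf.stalk y) :=
      isUnit_of_mem_nonZeroDivisors_of_ass hass' (Mero.regStalk_le_nonZeroDivisors y c.2)
    have hc' : (c : X.presheaf.stalk y) • F.presheaf.germ W y hy n = 0 := hc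
    exact (hcu.smul_eq_zero).mp hc'

end Groth.Agent.Lead.MeroL
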