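import Mathlib
import Groth.Prelude.Def_MeroDiv
import Groth.Agent.Lib.Lead.MeroL14

/-!
# Divisors on absolute curves, II (lead)
-/

set_option autoImplicit false
set_option backward.isDefEq.respectTransparency.types false
set_option synthInstance.maxHeartbeats 400000
set_option linter.style.haveILetI false
set_option linter.unusedSectionVars false
universe u

open CategoryTheory CategoryTheory.Limits AlgebraicGeometry TopologicalSpace Opposite

namespace Groth.Agent.Lead.MeroL

variable {C : Scheme.{u}}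

theorem mapUnits_unit_eq (x : C) (a : Mero.regStalk C x) :
    (IsLocalization.map_units (Mero.KStalk C x) a).unit = fracUnit x a 1 := by
  apply Units.ext
  rw [IsUnit.unit_spec, fracUnit_val]
  exact ((mk_eq_algebraMap_iff x _ _ _).mpr (by rw [Submonoid.coe_one, one_mul])).symm

theorem fracUnit_eq_mul_inv (x : C) (α β : Mero.regStalk C x) :
    fracUnit x α β = fracUnit x α 1 * (fracUnit x β 1)⁻¹ := by
  apply Units.ext
  rw [Units.val_mul, fracUnit_val, fracUnit_val]
  change _ = _ * LocalizedModule.mk ((1 : Mero.regStalk C x) : C.presheaf.stalk x) β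
  refine Eq.trans ?_ LocalizedModule.mk_mul_mk.symm
  refine Mero.mk_congr ?_ ?_
  · rw [Submonoid.coe_one, mul_one]
  · rw [one_mul]

theorem fracUnit_one_one (x : C) : fracUnit x 1 1 = 1 := by
  apply Units.ext
  rw [fracUnit_val, Units.val_one]
  exact Mero.mk_self_eq_one 1

set_option backward.isDefEq.respectTransparency false in
theorem S10894_main {C : Scheme.{u}} [IsNoetherian C]
    (hC : ∀ x : C, IsClosed ({x} : Set C) → ringKrullDim (C.presheaf.stalk x) = 1)
    (D : Mero.Divisor C) :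
    ∃ D₁ D₂ : Mero.Divisor C, Mero.IsEffective D₁ ∧ Mero.IsEffective D₂ ∧ D = D₁ * D₂⁻¹ ∧
      Mero.supp D₁ ⊆ Mero.supp D ∧ Mero.supp D₂ ⊆ Mero.supp D := by
  classical
  obtain ⟨hfin, hcl⟩ := S10892_mp hC D.1 D.2
  have hq : ∀ x : C, ∃ q : (Mero.KStalk C x)ˣ, (QuotientGroup.mk q : Mero.Germ C x) = D.1 x :=
    fun x => QuotientGroup.mk_surjective (D.1 x)
  choose q hq using hq
  have hαβ : ∀ x : C, ∃ α β : Mero.regStalk C x, q x = fracUnit x α β :=
    fun x => exists_fracUnit_eq x (q x)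
  choose α β hαβ using hαβ
  let g₁ : ∀ x : C, Mero.Germ C x := fun x =>
    if D.1 x = 1 then 1 else QuotientGroup.mk (fracUnit x (α x) 1)
  let g₂ : ∀ x : C, Mero.Germ C x := fun x =>
    if D.1 x = 1 then 1 else QuotientGroup.mk (fracUnit x (β x) 1)
  have hs₁ : ∀ x : C, g₁ x ≠ 1 → D.1 x ≠ 1 := by
    intro x h h'
    apply h
    change (if D.1 x = 1 then 1 else QuotientGroup.mk (fracUnit x (α x) 1)) = 1
    rw [if_pos h']
  have hs₂ : ∀ x : C, g₂ x ≠ 1 → D.1 x ≠ 1 := by
    intro x h h'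
    apply h
    change (if D.1 x = 1 then 1 else QuotientGroup.mk (fracUnit x (β x) 1)) = 1
    rw [if_pos h']
  have hg₁ : g₁ ∈ Mero.divisorGroup C := by
    apply S10892_mpr hC g₁ (hfin.subset (fun x hx => hs₁ x hx))
    intro x hx
    by_contra h
    exact hs₁ x h (hcl x hx)
  have hg₂ : g₂ ∈ Mero.divisorGroup C := by
    apply S10892_mpr hC g₂ (hfin.subset (fun x hx => hs₂ x hx))
    intro x hx
    by_contra h
    exact hs₂ x h (hcl x hx)
  refine ⟨⟨g₁, hg₁⟩, ⟨g₂, hg₂⟩, ?_, ?_, ?_, fun x hx => hs₁ x hx, fun x hx => hs₂ x hx⟩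
  · intro x
    by_cases h : D.1 x = 1
    · refine ⟨1, ?_⟩
      change (if D.1 x = 1 then 1 else QuotientGroup.mk (fracUnit x (α x) 1)) = _
      rw [if_pos h, mapUnits_unit_eq, fracUnit_one_one, QuotientGroup.mk_one]
    · refine ⟨α x, ?_⟩
      change (if D.1 x = 1 then 1 else QuotientGroup.mk (fracUnit x (α x) 1)) = _
      rw [if_neg h, mapUnits_unit_eq]
  · intro x
    by_cases h : D.1 x = 1
    · refine ⟨1, ?_⟩
      change (if D.1 x = 1 then 1 else QuotientGroup.mk (fracUnit x (β x) 1)) = _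
      rw [if_pos h, mapUnits_unit_eq, fracUnit_one_one, QuotientGroup.mk_one]
    · refine ⟨β x, ?_⟩
      change (if D.1 x = 1 then 1 else QuotientGroup.mk (fracUnit x (β x) 1)) = _
      rw [if_neg h, mapUnits_unit_eq]
  · apply Subtype.ext
    funext x
    change D.1 x = g₁ x * (g₂ x)⁻¹
    by_cases h : D.1 x = 1
    · change D.1 x = (if D.1 x = 1 then 1 else QuotientGroup.mk (fracUnit x (α x) 1)) *
        (if D.1 x = 1 then 1 else QuotientGroup.mk (fracUnit x (β x) 1))⁻¹
      rw [if_pos h, if_pos h, h, inv_one]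
      exact (mul_one (1 : Mero.Germ C x)).symm
    · change D.1 x = (if D.1 x = 1 then 1 else QuotientGroup.mk (fracUnit x (α x) 1)) *
        (if D.1 x = 1 then 1 else QuotientGroup.mk (fracUnit x (β x) 1))⁻¹
      rw [if_neg h, if_neg h, ← hq x, hαβ x, fracUnit_eq_mul_inv, QuotientGroup.mk_mul,
        QuotientGroup.mk_inv]

end Groth.Agent.Lead.MeroL
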