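import Mathlib
import Groth.Prelude.Def_MeroDiv
import Groth.Agent.Lib.Lead.MeroL15

/-!
# Divisors on absolute curves, III (lead)
-/

set_option autoImplicit false
set_option backward.isDefEq.respectTransparency.types false
set_option synthInstance.maxHeartbeats 400000
set_option linter.style.haveILetI false
set_option linter.unusedSectionVars false
universe u

open CategoryTheory CategoryTheory.Limits AlgebraicGeometry TopologicalSpace Opposite

namespace Groth.Agent.Lead.MeroL

open Groth.Agent.Helper7.FinType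

variable {C : Scheme.{u}}

set_option backward.isDefEq.respectTransparency false in
/-- on an absolute curve a proper specialization of any point is a closed point -/
theorem isClosed_singleton_of_specializes_ne [IsNoetherian C]
    (hC : ∀ x : C, IsClosed ({x} : Set C) → ringKrullDim (C.presheaf.stalk x) = 1)
    (η y : C) (hηy : η ⤳ y) (hne : η ≠ y) : IsClosed ({y} : Set C) := by
  obtain ⟨x, hxmem, hxcl⟩ := IsClosed.exists_closed_singleton
    (isClosed_closure : IsClosed (closure ({y} : Set C))) ⟨y, subset_closure rfl⟩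
  have hsp : y ⤳ x := specializes_iff_mem_closure.mpr hxmem
  obtain ⟨_, ⟨W, hW, rfl⟩, hxW, -⟩ :=
    C.isBasis_affineOpens.exists_subset_of_mem_open (Set.mem_univ x) isOpen_univ
  have hxW' : x ∈ W := hxW
  have hyW : y ∈ W := hsp.mem_open W.2 hxW'
  have hηW : η ∈ W := hηy.mem_open W.2 hyW
  haveI : IsNoetherianRing Γ(C, W) := IsLocallyNoetherian.component_noetherian ⟨W, hW⟩
  have h1η : hW.fromSpec (hW.primeIdealOf ⟨η, hηW⟩) = η := hW.fromSpec_primeIdealOf ⟨η, hηW⟩
  have h1y : hW.fromSpec (hW.primeIdealOf ⟨y, hyW⟩) = y := hW.fromSpec_primeIdealOf ⟨y, hyW⟩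
  have h1x : hW.fromSpec (hW.primeIdealOf ⟨x, hxW'⟩) = x := hW.fromSpec_primeIdealOf ⟨x, hxW'⟩
  have hle : hW.primeIdealOf ⟨y, hyW⟩ ≤ hW.primeIdealOf ⟨x, hxW'⟩ := by
    rw [← h1y, ← h1x] at hsp
    have h2 := (hW.fromSpec.isOpenEmbedding.isInducing.specializes_iff).mp hsp
    exact (PrimeSpectrum.le_iff_specializes _ _).mpr h2
  have hle' : hW.primeIdealOf ⟨η, hηW⟩ ≤ hW.primeIdealOf ⟨y, hyW⟩ := by
    rw [← h1η, ← h1y] at hηy
    have h2 := (hW.fromSpec.isOpenEmbedding.isInducing.specializes_iff).mp hηy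
    exact (PrimeSpectrum.le_iff_specializes _ _).mpr h2
  have hlt' : (hW.primeIdealOf ⟨η, hηW⟩).asIdeal < (hW.primeIdealOf ⟨y, hyW⟩).asIdeal := by
    refine lt_of_le_of_ne hle' (fun h => hne ?_)
    rw [← h1η, ← h1y, PrimeSpectrum.ext h]
  by_cases heq : hW.primeIdealOf ⟨y, hyW⟩ = hW.primeIdealOf ⟨x, hxW'⟩
  · have : y = x := by rw [← h1y, ← h1x, heq]
    rw [this]; exact hxcl
  · exfalso
    have hlt : (hW.primeIdealOf ⟨y, hyW⟩).asIdeal < (hW.primeIdealOf ⟨x, hxW'⟩).asIdeal :=
      lt_of_le_of_ne hle (fun h => heq (PrimeSpectrum.ext h))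
    let _ : Algebra Γ(C, W) (C.presheaf.stalk x) :=
      TopCat.Presheaf.algebra_section_stalk C.presheaf (⟨x, hxW'⟩ : W)
    haveI hloc : IsLocalization.AtPrime (C.presheaf.stalk x)
        (hW.primeIdealOf ⟨x, hxW'⟩).asIdeal := hW.isLocalization_stalk ⟨x, hxW'⟩
    have hdim := IsLocalization.AtPrime.ringKrullDim_eq_height
      (hW.primeIdealOf ⟨x, hxW'⟩).asIdeal (C.presheaf.stalk x)
    rw [hC x hxcl] at hdim
    have hht : (hW.primeIdealOf ⟨x, hxW'⟩).asIdeal.height = 1 := by
      have : ((1 : ℕ∞) : WithBot ℕ∞) = ((hW.primeIdealOf ⟨x, hxW'⟩).asIdeal.height : WithBot ℕ∞) := by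
        exact_mod_cast hdim
      exact (WithBot.coe_injective this).symm
    have h2 := Ideal.height_strict_mono_of_isPrime_of_isPrime hlt
    rw [hht] at h2
    have h0 : (hW.primeIdealOf ⟨y, hyW⟩).asIdeal.height = 0 := ENat.lt_one_iff_eq_zero.mp h2
    have h3 := Ideal.height_strict_mono_of_isPrime_of_isPrime hlt'
    rw [h0] at h3
    exact absurd h3 not_lt_zero

/-- a maximal ideal of a Noetherian ring which is not associated contains a nonzerodivisor -/
theorem exists_nonZeroDivisor_mem_of_isMaximal {R : Type*} [CommRing R] [IsNoetherianRing R]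
    (M : Ideal R) [hM : M.IsMaximal] (h : ¬ IsAssociatedPrime M R) :
    ∃ c ∈ M, c ∈ nonZeroDivisors R := by
  by_contra hcon
  have hsub : ((M : Ideal R) : Set R) ⊆ ⋃ p ∈ associatedPrimes R R, (p : Set R) := by
    rw [biUnion_associatedPrimes_eq_compl_nonZeroDivisors]
    intro b hb hb'
    exact hcon ⟨b, hb, hb'⟩
  have hfin : (associatedPrimes R R).Finite := associatedPrimes.finite _ _
  have hsub' : ((M : Ideal R) : Set R) ⊆
      ⋃ p ∈ (hfin.toFinset : Set (Ideal R)), ((id p : Ideal R) : Set R) := by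
    simpa using hsub
  obtain ⟨p, hp, hle⟩ := (Ideal.subset_union_prime (R := R) (s := hfin.toFinset)
    (f := id) ⊥ ⊥ (fun i hi _ _ => by
      have : i ∈ associatedPrimes R R := by simpa using hi
      exact this.isPrime)).mp hsub'
  have hpass : p ∈ associatedPrimes R R := by simpa using hp
  have hpe : M = p := hM.eq_of_le hpass.isPrime.ne_top hle
  exact h (hpe ▸ hpass)

end Groth.Agent.Lead.MeroL

namespace Groth.Agent.Lead.MeroL

open Groth.Agent.Helper7.FinType

variable {C : Scheme.{u}}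

set_option backward.isDefEq.respectTransparency false in
/-- every irreducible component of an absolute curve without open points contains, in a given
dense open, a closed point with a nonunit regular germ -/
theorem exists_good_point [IsNoetherian C]
    (hC : ∀ x : C, IsClosed ({x} : Set C) → ringKrullDim (C.presheaf.stalk x) = 1)
    (hpt : ∀ x : C, ¬ IsOpen ({x} : Set C)) (U : C.Opens) (hU : Dense (U : Set C))
    (Z : Set C) (hZ : Z ∈ irreducibleComponents (C : Type u)) :
    ∃ y : C, y ∈ Z ∧ y ∈ U ∧ IsClosed ({y} : Set C) ∧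
      ∃ α : Mero.regStalk C y, ¬ IsUnit (α : C.presheaf.stalk y) := by
  classical
  have hZcl : IsClosed Z := isClosed_of_mem_irreducibleComponents Z hZ
  have hgen : IsGenericPoint hZ.1.genericPoint Z := hZ.1.isGenericPoint_genericPoint hZcl
  set η : C := hZ.1.genericPoint with hη
  have hfincomp : (irreducibleComponents (C : Type u)).Finite :=
    TopologicalSpace.NoetherianSpace.finite_irreducibleComponents
  let others : Set C := ⋃ Z' ∈ (irreducibleComponents (C : Type u)) \ {Z}, Z'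
  have hothers : IsClosed others :=
    Set.Finite.isClosed_biUnion (hfincomp.subset Set.sdiff_subset)
      (fun Z' hZ' => isClosed_of_mem_irreducibleComponents Z' hZ'.1)
  have hηZ : η ∈ Z := by rw [← hgen.def]; exact subset_closure rfl
  have hηN : η ∈ othersᶜ := by
    intro h
    obtain ⟨Z', hZ', hηZ'⟩ := Set.mem_iUnion₂.mp h
    have hsub : Z ⊆ Z' := by
      rw [← hgen.def]
      exact (isClosed_of_mem_irreducibleComponents Z' hZ'.1).closure_subset_iff.mpr
        (Set.singleton_subset_iff.mpr hηZ')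
    have : Z' ⊆ Z := hZ.2 hZ'.1.1 hsub
    exact hZ'.2 (Set.Subset.antisymm this hsub)
  have hNZ : othersᶜ ⊆ Z := by
    intro y hy
    have hy' : y ∈ ⋃₀ irreducibleComponents (C : Type u) := by
      rw [sUnion_irreducibleComponents]; trivial
    obtain ⟨Z'', hZ'', hyZ''⟩ := hy'
    by_cases h : Z'' = Z
    · rw [← h]; exact hyZ''
    · exact absurd (Set.mem_iUnion₂.mpr ⟨Z'', ⟨hZ'', h⟩, hyZ''⟩) hy
  obtain ⟨z, hzU, hzN⟩ := hU.inter_open_nonempty othersᶜ hothers.isOpen_compl ⟨η, hηN⟩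
  have hηU : η ∈ U := by
    have := (hgen.mem_open_set_iff U.2).mpr ⟨z, hNZ hzU, hzN⟩
    exact this
  let O : C.Opens := U ⊓ ⟨othersᶜ, hothers.isOpen_compl⟩
  have hηO : η ∈ O := ⟨hηU, hηN⟩
  obtain ⟨_, ⟨W, hW, rfl⟩, hηW, hWO⟩ := C.isBasis_affineOpens.exists_subset_of_mem_open hηO O.2
  have hηW' : η ∈ W := hηW
  have hWO' : W ≤ O := hWO
  haveI : IsNoetherianRing Γ(C, W) := IsLocallyNoetherian.component_noetherian ⟨W, hW⟩
  have hclosedpt : ∀ y : C, y ∈ W → y ≠ η → IsClosed ({y} : Set C) := by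
    intro y hyW hyη
    have hyZ : y ∈ Z := hNZ (hWO' hyW).2
    have hsp : η ⤳ y := by
      rw [specializes_iff_mem_closure, hgen.def]
      exact hyZ
    exact isClosed_singleton_of_specializes_ne hC η y hsp (Ne.symm hyη)
  -- some point of `W` other than `η` is not associated
  have hex : ∃ y : C, ∃ hyW : y ∈ W, y ≠ η ∧
      ¬ IsAssociatedPrime (hW.primeIdealOf ⟨y, hyW⟩).asIdeal Γ(C, W) := by
    by_contra hcon
    have hall : ∀ y : C, ∀ hyW : y ∈ W, y ≠ η →
        (hW.primeIdealOf ⟨y, hyW⟩).asIdeal ∈ associatedPrimes Γ(C, W) Γ(C, W) := by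
      intro y hyW hyη
      by_contra h
      exact hcon ⟨y, hyW, hyη, h⟩
    let S : Set C := {y : C | y ∈ W ∧ y ≠ η}
    let ψ : S → associatedPrimes Γ(C, W) Γ(C, W) :=
      fun y => ⟨(hW.primeIdealOf ⟨y.1, y.2.1⟩).asIdeal, hall y.1 y.2.1 y.2.2⟩
    have hψ : Function.Injective ψ := by
      intro y y' h
      have h1 : (hW.primeIdealOf ⟨y.1, y.2.1⟩).asIdeal =
          (hW.primeIdealOf ⟨y'.1, y'.2.1⟩).asIdeal := congrArg Subtype.val h
      have h2 : hW.primeIdealOf ⟨y.1, y.2.1⟩ = hW.primeIdealOf ⟨y'.1, y'.2.1⟩ :=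
        PrimeSpectrum.ext h1
      have h3 := congrArg hW.fromSpec h2
      rw [hW.fromSpec_primeIdealOf, hW.fromSpec_primeIdealOf] at h3
      exact Subtype.ext h3
    haveI : Finite (associatedPrimes Γ(C, W) Γ(C, W)) :=
      (associatedPrimes.finite Γ(C, W) Γ(C, W)).to_subtype
    have hSfin : S.Finite := Set.finite_coe_iff.mp (Finite.of_injective ψ hψ)
    have hScl : IsClosed S := by
      have h1 : S = ⋃ y ∈ S, ({y} : Set C) := (Set.biUnion_of_singleton S).symm
      rw [h1]
      exact Set.Finite.isClosed_biUnion hSfin (fun y hy => hclosedpt y hy.1 hy.2)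
    have hopen : IsOpen ({η} : Set C) := by
      have h2 : ({η} : Set C) = (W : Set C) ∩ Sᶜ := by
        ext y
        constructor
        · rintro rfl
          exact ⟨hηW', fun h => h.2 rfl⟩
        · rintro ⟨hyW, hyS⟩
          by_contra hne
          exact hyS ⟨hyW, hne⟩
      rw [h2]
      exact W.2.inter hScl.isOpen_compl
    exact hpt η hopen
  obtain ⟨y, hyW, hyη, hyass⟩ := hex
  have hycl : IsClosed ({y} : Set C) := hclosedpt y hyW hyη
  haveI hmax : (hW.primeIdealOf ⟨y, hyW⟩).asIdeal.IsMaximal :=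
    hW.primeIdealOf_isMaximal_of_isClosed ⟨y, hyW⟩ hycl
  obtain ⟨f, hfM, hfnzd⟩ := exists_nonZeroDivisor_mem_of_isMaximal _ hyass
  have hfreg : f ∈ Mero.regSub C W := by
    rw [Groth.Agent.Helper7.MeroReg.S12513_main C W hW]
    exact hfnzd
  refine ⟨y, hNZ (hWO' hyW).2, (hWO' hyW).1, hycl, Mero.regGerm ⟨y, hyW⟩ ⟨f, hfreg⟩, ?_⟩
  intro hu
  exact ((notMem_primeIdealOf_iff hW y hyW f).mpr hu) hfM

end Groth.Agent.Lead.MeroL

namespace Groth.Agent.Lead.MeroL

variable {C : Scheme.{u}}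

set_option backward.isDefEq.respectTransparency false in
theorem S10893_main {C : Scheme.{u}} [IsNoetherian C]
    (hC : ∀ x : C, IsClosed ({x} : Set C) → ringKrullDim (C.presheaf.stalk x) = 1)
    (hpt : ∀ x : C, ¬ IsOpen ({x} : Set C)) (U : C.Opens) (hU : Dense (U : Set C)) :
    ∃ D : Mero.Divisor C, Mero.IsEffective D ∧ Mero.supp D ⊆ (U : Set C) ∧
      ∀ Z ∈ irreducibleComponents (C : Type u), (Mero.supp D ∩ Z).Nonempty := by
  classical
  have hfincomp : (irreducibleComponents (C : Type u)).Finite :=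
    TopologicalSpace.NoetherianSpace.finite_irreducibleComponents
  have hgood : ∀ Z : irreducibleComponents (C : Type u), ∃ y : C, y ∈ Z.1 ∧ y ∈ U ∧
      IsClosed ({y} : Set C) ∧ ∃ α : Mero.regStalk C y, ¬ IsUnit (α : C.presheaf.stalk y) :=
    fun Z => exists_good_point hC hpt U hU Z.1 Z.2
  choose y hyZ hyU hycl hyα using hgood
  let P : Set C := Set.range y
  haveI : Finite (irreducibleComponents (C : Type u)) := hfincomp.to_subtype
  have hPfin : P.Finite := Set.finite_range y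
  let α : ∀ x : C, Mero.regStalk C x := fun x =>
    if h : ∃ α : Mero.regStalk C x, ¬ IsUnit (α : C.presheaf.stalk x) then h.choose else 1
  have hα : ∀ x ∈ P, ¬ IsUnit ((α x : Mero.regStalk C x) : C.presheaf.stalk x) := by
    rintro x ⟨Z, rfl⟩
    have h : ∃ α : Mero.regStalk C (y Z), ¬ IsUnit (α : C.presheaf.stalk (y Z)) := hyα Z
    change ¬ IsUnit (((if h : ∃ α : Mero.regStalk C (y Z), ¬ IsUnit (α : C.presheaf.stalk (y Z))
      then h.choose else 1 : Mero.regStalk C (y Z))) : C.presheaf.stalk (y Z))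
    rw [dif_pos h]
    exact h.choose_spec
  let g : ∀ x : C, Mero.Germ C x := fun x =>
    if x ∈ P then QuotientGroup.mk (fracUnit x (α x) 1) else 1
  have hgP : ∀ x : C, g x ≠ 1 → x ∈ P := by
    intro x h
    by_contra hx
    apply h
    change (if x ∈ P then QuotientGroup.mk (fracUnit x (α x) 1) else 1) = 1
    rw [if_neg hx]
  have hPcl : ∀ x ∈ P, IsClosed ({x} : Set C) := by
    rintro x ⟨Z, rfl⟩
    exact hycl Z
  have hg : g ∈ Mero.divisorGroup C := by
    apply S10892_mpr hC g (hPfin.subset (fun x hx => hgP x hx))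
    intro x hx
    by_contra h
    exact hx (hPcl x (hgP x h))
  refine ⟨⟨g, hg⟩, ?_, ?_, ?_⟩
  · intro x
    by_cases h : x ∈ P
    · refine ⟨α x, ?_⟩
      change (if x ∈ P then QuotientGroup.mk (fracUnit x (α x) 1) else 1) = _
      rw [if_pos h, mapUnits_unit_eq]
    · refine ⟨1, ?_⟩
      change (if x ∈ P then QuotientGroup.mk (fracUnit x (α x) 1) else 1) = _
      rw [if_neg h, mapUnits_unit_eq, fracUnit_one_one, QuotientGroup.mk_one]
  · intro x hx
    obtain ⟨Z, rfl⟩ := hgP x hx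
    exact hyU Z
  · intro Z hZ
    refine ⟨y ⟨Z, hZ⟩, ?_, hyZ ⟨Z, hZ⟩⟩
    have hmem : y ⟨Z, hZ⟩ ∈ P := ⟨⟨Z, hZ⟩, rfl⟩
    change (if y ⟨Z, hZ⟩ ∈ P then QuotientGroup.mk (fracUnit (y ⟨Z, hZ⟩) (α (y ⟨Z, hZ⟩)) 1)
      else 1) ≠ 1
    rw [if_pos hmem]
    intro h1
    obtain ⟨u, hu⟩ := (germ_fracUnit_eq_one_iff _ _ _).mp h1
    apply hα _ hmem
    rw [hu, Submonoid.coe_one, one_mul]
    exact u.isUnit

end Groth.Agent.Lead.MeroL
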