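import Mathlib
import Groth.Prelude.Def_MeroDiv
import Groth.Prelude.Def_PicF2
import Groth.Prelude.Def_SecTwist
import Groth.Agent.Lib.Lead.MeroL26
import Groth.Agent.Lib.Helper1.TwistAmple
import Groth.Agent.Lib.Helper1.TwForm4

/-!
# The divisor of a nonzero section of an invertible module on an integral scheme (lead)
-/

set_option autoImplicit false
set_option backward.isDefEq.respectTransparency.types false
set_option synthInstance.maxHeartbeats 400000
set_option linter.style.haveILetI false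
set_option linter.unusedSectionVars false
universe u

open CategoryTheory CategoryTheory.Limits AlgebraicGeometry TopologicalSpace Opposite

namespace Groth.Agent.Lead.MeroL

open Groth.Agent.Helper1.LGen Groth.Agent.Helper1.QcCech

variable {X : Scheme.{u}} {L : X.Modules}

/-- the meromorphic section attached to a section -/
noncomputable def merOf (s : Coh.structureModule X ⟶ L) : Γ(Mero.merMod L, ⊤) :=
  Mero.toMerFun L ⊤ (secVal s ⊤)

theorem merOf_apply (s : Coh.structureModule X ⟶ L) {W : X.Opens} (z : X) (hz : z ∈ W) :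
    (merOf s).1 ⟨z, Opens.mem_top z⟩ =
      (LocalizedModule.mk (L.presheaf.germ W z hz (secVal s W)) 1 : Mero.MStalk L z) := by
  change (LocalizedModule.mk (L.presheaf.germ ⊤ z _ (secVal s ⊤)) 1 : Mero.MStalk L z) = _
  rw [← res_secVal s (le_top : W ≤ ⊤), germ_res_L]

section Int

variable [IsIntegral X] (hL : PicF.IsInvertible L) (s : Coh.structureModule X ⟶ L) (hs : s ≠ 0)

include hL hs in
theorem coeff_mem_regSub {W : X.Opens} {e : Γ(L, W)} (c : Γ(X, W))
    (hc : secVal s W = c • e) : c ∈ Mero.regSub X W := by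
  intro x
  have hne : c ≠ 0 := by
    intro h
    rw [h, zero_smul] at hc
    exact secVal_ne_zero hL s hs W ⟨x.1, x.2⟩ hc
  exact mem_regSub_of_ne_zero W c hne x

/-- the chart of `merOf s` attached to a local generator -/
noncomputable def secChart {W : X.Opens} {e : Γ(L, W)} (he : IsGen L W e) (c : Γ(X, W))
    (hc : secVal s W = c • e) : Chart L (merOf s) where
  W := W
  e := e
  he := he
  t := (isUnit_toK_of_mem_regSub W c (coeff_mem_regSub hL s hs c hc)).unit
  ht := by
    intro z
    rw [merOf_apply s z.1 z.2, hc, Mero.germ_smul, IsUnit.unit_spec, Mero.toK_apply, kmk_smul_mk]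
    exact Mero.mk_congr rfl (by rw [mul_one])

include hL hs in
theorem isLU_merOf : IsLU L (merOf s) := by
  intro y
  obtain ⟨W, e, hyW, he⟩ := exists_isGen hL y
  obtain ⟨c, hc⟩ := he.exists_coeff (secVal s W)
  let ch := secChart hL s hs he c hc.symm
  exact ⟨W, hyW, e, he, ch.t, ch.ht⟩

/-- the divisor of a nonzero section -/
noncomputable def secDiv : Mero.Divisor X := divOf (isLU_merOf hL s hs)

theorem secDiv_eq {W : X.Opens} {e : Γ(L, W)} (he : IsGen L W e) (c : Γ(X, W))
    (hc : secVal s W = c • e) (y : W) :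
    (secDiv hL s hs).1 y.1 = QuotientGroup.mk (IsLocalization.map_units (Mero.KStalk X y.1)
      (Mero.regGerm y ⟨c, coeff_mem_regSub hL s hs c hc⟩)).unit := by
  have h1 := divOf_eq (isLU_merOf hL s hs) (secChart hL s hs he c hc) y
  change (secDiv hL s hs).1 y.1 = _ at h1
  rw [h1]
  refine congrArg _ (Units.ext ?_)
  change (((isUnit_toK_of_mem_regSub W c (coeff_mem_regSub hL s hs c hc)).unit :
    (Γ(Mero.kmod X, W))ˣ) : Γ(Mero.kmod X, W)).1 y = _
  rw [IsUnit.unit_spec, Mero.toK_apply]
  rfl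

theorem isDivOfIdeal_secDiv :
    Mero.IsDivOfIdeal (secDiv hL s hs) (PicF2.zeroScheme L s) := by
  intro x
  obtain ⟨W, e, hxW, he⟩ := exists_isGen hL x
  obtain ⟨_, ⟨U, hUaff, rfl⟩, hxU, hUW⟩ :=
    (X.isBasis_affineOpens).exists_subset_of_mem_open hxW W.2
  have hUW' : U ≤ W := hUW
  have he' : IsGen L U (res L hUW' e) := he.res hUW'
  obtain ⟨c, hc⟩ := he'.exists_coeff (secVal s U)
  refine ⟨⟨U, hUaff⟩, hxU, c, coeff_mem_regSub hL s hs c hc.symm,
    ideal_zeroScheme_eq_span hL s hs ⟨U, hUaff⟩ he' c hc.symm, fun y => ?_⟩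
  exact secDiv_eq hL s hs he' c hc.symm y

include hL hs in
theorem S19456_main :
    ∃ D : Mero.Divisor X, Mero.IsDivOfIdeal D (PicF2.zeroScheme L s) ∧
      ∃ e : L ≅ Mero.divMod D,
        (Mero.divModι D).app ⊤ (e.hom.app ⊤ (SecTwist.val s ⊤)) = 1 := by
  have hlu := isLU_merOf hL s hs
  refine ⟨secDiv hL s hs, isDivOfIdeal_secDiv hL s hs,
    @asIso _ _ _ _ (quoHom hlu) (isIso_quoHom hlu), ?_⟩
  refine Subtype.ext (funext fun z => ?_)
  change quo hlu z.1 (L.presheaf.germ ⊤ z.1 z.2 (secVal s ⊤)) = 1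
  apply quo_unique
  rw [one_smul]
  rfl

end Int

end Groth.Agent.Lead.MeroL
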