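import Mathlib
import Groth.Prelude.Def_MeroDiv
import Groth.Prelude.Def_PicF2
import Groth.Prelude.Def_SecTwist
import Groth.Agent.Lib.Lead.MeroL27

/-!
# Zero schemes of sections on integral schemes: comparison statements (lead)
-/

set_option autoImplicit false
set_option backward.isDefEq.respectTransparency.types false
set_option synthInstance.maxHeartbeats 400000
set_option linter.style.haveILetI false
set_option linter.unusedSectionVars false
universe u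

open CategoryTheory CategoryTheory.Limits AlgebraicGeometry TopologicalSpace Opposite

namespace Groth.Agent.Lead.MeroL

open Groth.Agent.Helper1.LGen Groth.Agent.Helper1.QcCech

variable {X : Scheme.{u}} {L : X.Modules}

theorem zI_eq_of_unit (s s' : Coh.structureModule X ⟶ L) (h : Γ(X, ⊤)) (hh : IsUnit h)
    (heq : secVal s' ⊤ = h • secVal s ⊤) (U : X.Opens) : zI L s' U = zI L s U := by
  have hU : secVal s' U = resR (le_top : U ≤ ⊤) h • secVal s U := by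
    rw [← res_secVal s' (le_top : U ≤ ⊤), heq, res_smul, res_secVal]
  obtain ⟨v, hv⟩ := hh.map (resR (le_top : U ≤ ⊤))
  ext a
  rw [mem_zI, mem_zI]
  constructor
  · intro H m
    obtain ⟨b, hb⟩ := H m
    exact ⟨b * resR (le_top : U ≤ ⊤) h, by rw [hb, hU, mul_smul]⟩
  · intro H m
    obtain ⟨b, hb⟩ := H m
    refine ⟨b * (↑v⁻¹ : Γ(X, U)), ?_⟩
    rw [hb, hU, ← hv, ← mul_smul, mul_assoc, Units.inv_mul, mul_one]

set_option backward.isDefEq.respectTransparency false in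
theorem S19457_main [IsIntegral X] (hL : PicF.IsInvertible L)
    (s s' : Coh.structureModule X ⟶ L) (hs : s ≠ 0) (hs' : s' ≠ 0) :
    PicF2.zeroScheme L s' = PicF2.zeroScheme L s ↔
      ∃ h : Γ(X, ⊤), IsUnit h ∧
        (SecTwist.val s' ⊤ : Γ(L, ⊤)) = h • (SecTwist.val s ⊤ : Γ(L, ⊤)) := by
  constructor
  · intro heq
    have hloc : ∀ x : X, ∃ (U : X.Opens) (_ : x ∈ U) (u : (Γ(X, U))ˣ),
        secVal s' U = (u : Γ(X, U)) • secVal s U := by
      intro x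
      obtain ⟨W, e, hxW, he⟩ := exists_isGen hL x
      obtain ⟨_, ⟨U, hUaff, rfl⟩, hxU, hUW⟩ :=
        (X.isBasis_affineOpens).exists_subset_of_mem_open hxW W.2
      have hUW' : U ≤ W := hUW
      have he' : IsGen L U (res L hUW' e) := he.res hUW'
      obtain ⟨c, hc⟩ := he'.exists_coeff (secVal s U)
      obtain ⟨c', hc'⟩ := he'.exists_coeff (secVal s' U)
      have h1 := ideal_zeroScheme_eq_span hL s hs ⟨U, hUaff⟩ he' c hc.symm
      have h2 := ideal_zeroScheme_eq_span hL s' hs' ⟨U, hUaff⟩ he' c' hc'.symm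
      rw [heq, h1] at h2
      haveI : Nonempty (U : X.Opens) := ⟨⟨x, hxU⟩⟩
      obtain ⟨u, hu⟩ := Ideal.span_singleton_eq_span_singleton.mp h2
      refine ⟨U, hxU, u, ?_⟩
      rw [← hc', ← hc, ← hu, mul_comm, mul_smul]
    choose U hxU u hu using hloc
    obtain ⟨β, hβ⟩ := Groth.Agent.Helper1.TwistSec.glue_of_compatible (Coh.structureModule X)
      U ⊤ (fun _ => le_top) (fun x _ => Opens.mem_iSup.2 ⟨x, hxU x⟩)
      (fun x => (show Γ(Coh.structureModule X, U x) from ((u x : (Γ(X, U x))ˣ) : Γ(X, U x)))) (by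
        intro x y
        change resR _ ((u x : (Γ(X, U x))ˣ) : Γ(X, U x)) = resR _ ((u y : (Γ(X, U y))ˣ) : Γ(X, U y))
        have h1 := congrArg (res L (inf_le_left : U x ⊓ U y ≤ U x)) (hu x)
        have h2 := congrArg (res L (inf_le_right : U x ⊓ U y ≤ U y)) (hu y)
        rw [res_smul, res_secVal, res_secVal] at h1 h2
        have h3 : (resR inf_le_left ((u x : (Γ(X, U x))ˣ) : Γ(X, U x)) -
            resR inf_le_right ((u y : (Γ(X, U y))ˣ) : Γ(X, U y))) • secVal s (U x ⊓ U y) = 0 := by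
          rw [sub_smul, ← h1, ← h2, sub_self]
        exact sub_eq_zero.mp (eq_zero_of_smul_secVal_eq_zero hL s hs _ _ h3))
    let h : Γ(X, ⊤) := β
    have hres : ∀ x, resR (le_top : U x ≤ ⊤) h = ((u x : (Γ(X, U x))ˣ) : Γ(X, U x)) := hβ
    refine ⟨h, ?_, ?_⟩
    · apply X.toRingedSpace.isUnit_of_isUnit_germ ⊤ h
      intro x _
      have h1 := TopCat.Presheaf.germ_res_apply X.presheaf (homOfLE (le_top : U x ≤ ⊤)) x (hxU x) h
      have h2 : X.presheaf.germ ⊤ x trivial h =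
          X.presheaf.germ (U x) x (hxU x) ((u x : (Γ(X, U x))ˣ) : Γ(X, U x)) := by
        rw [← hres x]
        exact h1.symm
      change IsUnit (X.presheaf.germ ⊤ x trivial h)
      rw [h2]
      exact (u x).isUnit.map _
    · change secVal s' ⊤ = h • secVal s ⊤
      apply Groth.Agent.Helper1.TwistSec.eq_of_locally
      intro x _
      refine ⟨U x, le_top, hxU x, ?_⟩
      rw [res_smul, res_secVal, res_secVal, hres x]
      exact hu x
  · rintro ⟨h, hh, heq⟩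
    change Scheme.IdealSheafData.ofIdeals _ = Scheme.IdealSheafData.ofIdeals _
    congr 1
    funext U
    exact zI_eq_of_unit s s' h hh heq U.1


theorem secVal_homOfSec (σ : Γ(L, ⊤)) (V : X.Opens) :
    secVal (Groth.Agent.Helper1.TwistAmple.homOfSec L σ) V = res L (le_top : V ≤ ⊤) σ := by
  have h1 := app_eq_smul (Groth.Agent.Helper1.TwistAmple.homOfSec L σ) V 1
  rw [one_smul] at h1
  rw [← h1]
  have h2 := Groth.Agent.Helper1.TwistAmple.homOfSec_app L σ V 1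
  rw [one_smul] at h2
  exact h2

/-- the section `1` of `O_X(D)` for an effective divisor `D` -/
noncomputable def oneSec (D : Mero.Divisor X) (hD : Mero.IsEffective D) (U : X.Opens) :
    Γ(Mero.divMod D, U) :=
  ⟨(1 : Γ(Mero.kmod X, U)).1, ⟨(1 : Γ(Mero.kmod X, U)).2, fun x => by
    intro g hg
    obtain ⟨a, ha⟩ := hD x.1
    rw [ha] at hg
    obtain ⟨w, hw⟩ := (germ_mk_eq_iff x.1 _ _).mp hg.symm
    refine ⟨(a : X.presheaf.stalk x.1) * w, ?_⟩
    change _ = (1 : Mero.KStalk X x.1) * g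
    rw [one_mul, hw, map_mul]
    rfl⟩⟩

theorem oneSec_apply (D : Mero.Divisor X) (hD : Mero.IsEffective D) (U : X.Opens) (y : U) :
    (oneSec D hD U).1 y = 1 := rfl

theorem S19458_main [IsIntegral X] (hL : PicF.IsInvertible L) (D : Mero.Divisor X)
    (hD : Mero.IsEffective D) (e : L ≅ Mero.divMod D) :
    ∃ s : Coh.structureModule X ⟶ L, s ≠ 0 ∧ Mero.IsDivOfIdeal D (PicF2.zeroScheme L s) := by
  let σ : Γ(L, ⊤) := e.inv.app ⊤ (oneSec D hD ⊤)
  let s := Groth.Agent.Helper1.TwistAmple.homOfSec L σ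
  have hσ : ∀ V : X.Opens, secVal s V = e.inv.app V (oneSec D hD V) := by
    intro V
    rw [secVal_homOfSec, Groth.Agent.Helper1.ModGlue.app_res]
    rfl
  have hs : s ≠ 0 := by
    intro h0
    have h1 : secVal s ⊤ = 0 := by
      rw [h0, Groth.Agent.Helper1.RP11.secVal_top]
      rfl
    rw [hσ ⊤] at h1
    have h2 : oneSec D hD ⊤ = 0 := by
      have := congrArg (e.hom.app ⊤) h1
      rw [map_zero] at this
      have h3 : e.hom.app ⊤ (e.inv.app ⊤ (oneSec D hD ⊤)) = oneSec D hD ⊤ :=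
        congrArg (fun φ : Mero.divMod D ⟶ Mero.divMod D => φ.app ⊤ (oneSec D hD ⊤)) e.inv_hom_id
      rwa [h3] at this
    obtain ⟨x⟩ : Nonempty X := inferInstance
    have h4 := congrArg (fun t : Γ(Mero.divMod D, ⊤) => t.1 ⟨x, Opens.mem_top x⟩) h2
    exact one_ne_zero h4
  refine ⟨s, hs, fun x => ?_⟩
  obtain ⟨U₀, hxU₀, t, ht⟩ := D.2 x
  obtain ⟨r, hr⟩ := (isGen_gen D t ht).exists_coeff (oneSec D hD U₀)
  have he₀ : IsGen L U₀ (e.inv.app U₀ (gen D t ht)) :=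
    isGen_map_of_isIso e.inv (isGen_gen D t ht)
  have hsU₀ : secVal s U₀ = r • e.inv.app U₀ (gen D t ht) := by
    rw [hσ U₀, ← hr, Scheme.Modules.Hom.app_smul]
  obtain ⟨_, ⟨U, hUaff, rfl⟩, hxU, hUU₀⟩ :=
    (X.isBasis_affineOpens).exists_subset_of_mem_open hxU₀ U₀.2
  have hle : U ≤ U₀ := hUU₀
  have hsU : secVal s U = resR hle r • res L hle (e.inv.app U₀ (gen D t ht)) := by
    rw [← res_secVal s hle, hsU₀, res_smul]
  have hreg := coeff_mem_regSub hL s hs (resR hle r) hsU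
  refine ⟨⟨U, hUaff⟩, hxU, resR hle r, hreg,
    ideal_zeroScheme_eq_span hL s hs ⟨U, hUaff⟩ (he₀.res hle) (resR hle r) hsU, fun y => ?_⟩
  rw [ht ⟨y.1, hle y.2⟩]
  refine congrArg _ (Units.ext ?_)
  change (t : Γ(Mero.kmod X, U₀)).1 ⟨y.1, hle y.2⟩ =
    algebraMap (X.presheaf.stalk y.1) (Mero.KStalk X y.1) (X.presheaf.germ U y.1 y.2 (resR hle r))
  have h1 := congrArg (fun T : Γ(Mero.divMod D, U₀) => T.1 ⟨y.1, hle y.2⟩) hr
  have h2 : X.presheaf.germ U₀ y.1 (hle y.2) r •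
      ((t⁻¹ : (Γ(Mero.kmod X, U₀))ˣ) : Γ(Mero.kmod X, U₀)).1 ⟨y.1, hle y.2⟩ = 1 := h1
  have h3 : X.presheaf.germ U y.1 y.2 (resR hle r) = X.presheaf.germ U₀ y.1 (hle y.2) r :=
    TopCat.Presheaf.germ_res_apply X.presheaf (homOfLE hle) y.1 y.2 r
  rw [h3]
  have h4 := congrArg (fun w => w * (t : Γ(Mero.kmod X, U₀)).1 ⟨y.1, hle y.2⟩) h2
  simp only [one_mul, Algebra.smul_def, mul_assoc] at h4
  rw [inv_mul_unit_apply', mul_one] at h4
  exact h4.symm


open Groth.Agent.Helper1.TmulLib in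
set_option backward.isDefEq.respectTransparency false in
theorem S19459_main [IsIntegral X] (L₁ L₂ : X.Modules) (hL₁ : PicF.IsInvertible L₁)
    (hL₂ : PicF.IsInvertible L₂)
    (s₁ : Coh.structureModule X ⟶ L₁) (s₂ : Coh.structureModule X ⟶ L₂) (hs₁ : s₁ ≠ 0)
    (hs₂ : s₂ ≠ 0)
    (D₁ D₂ : Mero.Divisor X) (hD₁ : Mero.IsDivOfIdeal D₁ (PicF2.zeroScheme L₁ s₁))
    (hD₂ : Mero.IsDivOfIdeal D₂ (PicF2.zeroScheme L₂ s₂)) :
    Mero.IsDivOfIdeal (D₁ * D₂)
      (PicF2.zeroScheme (CohB1.tensorMod L₁ L₂) (SecTwist.tmulHom s₁ s₂)) := by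
  intro x
  obtain ⟨U₁, hxU₁, f₁, hf₁, hI₁, hd₁⟩ := hD₁ x
  obtain ⟨U₂, hxU₂, f₂, hf₂, hI₂, hd₂⟩ := hD₂ x
  obtain ⟨W, a, b, hxW, ha, hb⟩ := Groth.Agent.Helper1.TensGen.exists_isGen₂ hL₁ hL₂ x
  obtain ⟨_, ⟨U, hUaff, rfl⟩, hxU, hUsub⟩ :=
    (X.isBasis_affineOpens).exists_subset_of_mem_open
      (show x ∈ ((U₁.1 ⊓ U₂.1 ⊓ W : X.Opens) : Set X) from ⟨⟨hxU₁, hxU₂⟩, hxW⟩)
      (U₁.1 ⊓ U₂.1 ⊓ W).2
  have hle : U ≤ U₁.1 ⊓ U₂.1 ⊓ W := hUsub
  have hle₁ : U ≤ U₁.1 := hle.trans (inf_le_left.trans inf_le_left)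
  have hle₂ : U ≤ U₂.1 := hle.trans (inf_le_left.trans inf_le_right)
  have hleW : U ≤ W := hle.trans inf_le_right
  haveI : Nonempty (U : X.Opens) := ⟨⟨x, hxU⟩⟩
  have ha' := ha.res hleW
  have hb' := hb.res hleW
  obtain ⟨c₁, hc₁⟩ := ha'.exists_coeff (secVal s₁ U)
  obtain ⟨c₂, hc₂⟩ := hb'.exists_coeff (secVal s₂ U)
  have hT : PicF.IsInvertible (CohB1.tensorMod L₁ L₂) :=
    Groth.Agent.Helper1.TwForm.isInvertible_tensorMod hL₁ hL₂
  have hgen := Groth.Agent.Helper1.TensGen.isGen_tm ha' hb'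
  have hst : secVal (SecTwist.tmulHom s₁ s₂) U =
      (c₁ * c₂) • tm L₁ L₂ U (res L₁ hleW a) (res L₂ hleW b) := by
    rw [Groth.Agent.Helper1.TensGen.secVal_tmulHom, ← hc₁, ← hc₂, tm_smul_left, tm_smul_right,
      mul_smul]
  have hc₁ne : c₁ ≠ 0 := by
    intro h
    rw [h, zero_smul] at hc₁
    exact secVal_ne_zero hL₁ s₁ hs₁ U ⟨x, hxU⟩ hc₁.symm
  have hc₂ne : c₂ ≠ 0 := by
    intro h
    rw [h, zero_smul] at hc₂
    exact secVal_ne_zero hL₂ s₂ hs₂ U ⟨x, hxU⟩ hc₂.symm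
  have hstne : SecTwist.tmulHom s₁ s₂ ≠ 0 := by
    intro h0
    have h1 : secVal (SecTwist.tmulHom s₁ s₂) U = 0 := by
      rw [h0]
      have := app_eq_smul (0 : Coh.structureModule X ⟶ CohB1.tensorMod L₁ L₂) U 1
      rw [one_smul] at this
      rw [← this]
      rfl
    rw [hst] at h1
    have h2 : c₁ * c₂ = 0 := by
      apply (Groth.Agent.Helper1.TensGen.IsGen.bijective_self hgen).1
      change (c₁ * c₂) • _ = (0 : Γ(X, U)) • _
      rw [h1, zero_smul]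
    rcases mul_eq_zero.mp h2 with h | h
    · exact hc₁ne h
    · exact hc₂ne h
  have hIT := ideal_zeroScheme_eq_span hT (SecTwist.tmulHom s₁ s₂) hstne ⟨U, hUaff⟩ hgen
    (c₁ * c₂) hst
  have hI₁' := ideal_zeroScheme_eq_span hL₁ s₁ hs₁ ⟨U, hUaff⟩ ha' c₁ hc₁.symm
  have hI₂' := ideal_zeroScheme_eq_span hL₂ s₂ hs₂ ⟨U, hUaff⟩ hb' c₂ hc₂.symm
  have hm₁ := (PicF2.zeroScheme L₁ s₁).map_ideal (U := ⟨U, hUaff⟩) (V := U₁) hle₁
  have hm₂ := (PicF2.zeroScheme L₂ s₂).map_ideal (U := ⟨U, hUaff⟩) (V := U₂) hle₂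
  rw [hI₁, Ideal.map_span, Set.image_singleton, hI₁'] at hm₁
  rw [hI₂, Ideal.map_span, Set.image_singleton, hI₂'] at hm₂
  let f₁' : Γ(X, U) := resR hle₁ f₁
  let f₂' : Γ(X, U) := resR hle₂ f₂
  have hf₁' : f₁' ∈ Mero.regSub X U := Mero.regSub_res (homOfLE hle₁) hf₁
  have hf₂' : f₂' ∈ Mero.regSub X U := Mero.regSub_res (homOfLE hle₂) hf₂
  refine ⟨⟨U, hUaff⟩, hxU, f₁' * f₂', Submonoid.mul_mem _ hf₁' hf₂', ?_, fun y => ?_⟩
  · rw [hIT, ← Ideal.span_singleton_mul_span_singleton, ← Ideal.span_singleton_mul_span_singleton,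
      ← hm₁, ← hm₂]
    rfl
  · have e1 := hd₁ ⟨y.1, hle₁ y.2⟩
    have e2 := hd₂ ⟨y.1, hle₂ y.2⟩
    change D₁.1 y.1 * D₂.1 y.1 = _
    rw [e1, e2, ← QuotientGroup.mk_mul]
    refine congrArg _ (Units.ext ?_)
    change algebraMap (X.presheaf.stalk y.1) (Mero.KStalk X y.1) (X.presheaf.germ U₁.1 y.1 _ f₁) *
        algebraMap (X.presheaf.stalk y.1) (Mero.KStalk X y.1) (X.presheaf.germ U₂.1 y.1 _ f₂) =
      algebraMap (X.presheaf.stalk y.1) (Mero.KStalk X y.1)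
        (X.presheaf.germ U y.1 y.2 (f₁' * f₂'))
    rw [map_mul (X.presheaf.germ U y.1 y.2).hom, map_mul]
    congr 1
    · exact congrArg _ (TopCat.Presheaf.germ_res_apply X.presheaf (homOfLE hle₁) y.1 y.2 f₁).symm
    · exact congrArg _ (TopCat.Presheaf.germ_res_apply X.presheaf (homOfLE hle₂) y.1 y.2 f₂).symm

end Groth.Agent.Lead.MeroL
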