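import Mathlib
import Groth.Agent.Lib.Lead.QCIdeal1

/-!
# Locally quasi-coherent families of ideals are quasi-coherent ideal sheaves (lead)
-/

set_option autoImplicit false
set_option backward.isDefEq.respectTransparency.types false
set_option synthInstance.maxHeartbeats 400000
set_option linter.style.haveILetI false
set_option linter.unusedSectionVars false
universe u

open CategoryTheory CategoryTheory.Limits AlgebraicGeometry TopologicalSpace Opposite

namespace Groth.Agent.Lead.QCI

variable {X : Scheme.{u}}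

set_option backward.isDefEq.respectTransparency false in
/-- an element of an affine open whose restriction to a basic open lies in the extension of an
ideal lies in the ideal after multiplication by a power -/
theorem exists_pow_mul_mem_of_mem_map {V : X.Opens} (hV : IsAffineOpen V) (f a : Γ(X, V))
    (I : Ideal Γ(X, V))
    (h : rs (X.basicOpen_le f) a ∈ Ideal.map (rs (X.basicOpen_le f)) I) :
    ∃ N : ℕ, f ^ N * a ∈ I := by
  have hloc := hV.isLocalization_basicOpen f
  have h' : (algebraMap Γ(X, V) Γ(X, X.basicOpen f)) a ∈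
      Ideal.map (algebraMap Γ(X, V) Γ(X, X.basicOpen f)) I := h
  rw [IsLocalization.mem_map_algebraMap_iff (Submonoid.powers f)] at h'
  obtain ⟨⟨⟨a₀, ha₀⟩, ⟨_, n, rfl⟩⟩, hn⟩ := h'
  have hn' : rs (X.basicOpen_le f) a * rs (X.basicOpen_le f) (f ^ n) = rs (X.basicOpen_le f) a₀ := hn
  have h0 : (a * f ^ n - a₀) |_ (X.basicOpen f) = 0 := by
    change rs (X.basicOpen_le f) (a * f ^ n - a₀) = 0
    rw [map_sub, map_mul, hn', sub_self]
  obtain ⟨n', hn''⟩ := exists_pow_mul_eq_zero_of_res_basicOpen_eq_zero_of_isAffineOpen X hV _ f h0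
  refine ⟨n' + n, ?_⟩
  have : f ^ (n' + n) * a = f ^ n' * a₀ := by
    rw [mul_sub] at hn''
    have := sub_eq_zero.mp hn''
    rw [← this]
    ring
  rw [this]
  exact Ideal.mul_mem_left _ _ ha₀

section QC

variable (Z : ∀ U : X.Opens, Ideal Γ(X, U))

set_option backward.isDefEq.respectTransparency false in
/-- a family of ideals which is compatible with restriction to basic opens, local, and locally
quasi-coherent is the family of ideals of a quasi-coherent ideal sheaf -/
theorem exists_idealSheafData'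
    (hres : ∀ (U : X.Opens), IsAffineOpen U → ∀ (f a : Γ(X, U)), a ∈ Z U →
      rs (X.basicOpen_le f) a ∈ Z (X.basicOpen f))
    (hloc : ∀ (U : X.Opens), IsAffineOpen U → ∀ (a : Γ(X, U)) (S : Set Γ(X, U)),
      Ideal.span S = ⊤ → (∀ g ∈ S, rs (X.basicOpen_le g) a ∈ Z (X.basicOpen g)) → a ∈ Z U)
    (hlq : ∀ (U : X.Opens), IsAffineOpen U → ∀ x ∈ U, ∃ g : Γ(X, U), x ∈ X.basicOpen g ∧
        ∀ f' : Γ(X, X.basicOpen g),
          Z (X.basicOpen f') ≤ Ideal.map (rs (X.basicOpen_le f')) (Z (X.basicOpen g))) :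
    ∃ J : X.IdealSheafData, ∀ U : X.affineOpens, J.ideal U = Z U.1 := by
  refine ⟨{ ideal := fun U => Z U.1, map_ideal_basicOpen := ?_ }, fun U => rfl⟩
  intro U f
  change Ideal.map (rs (X.basicOpen_le f)) (Z U.1) = Z (X.basicOpen f)
  apply le_antisymm
  · rw [Ideal.map_le_iff_le_comap]
    intro a ha
    exact hres U.1 U.2 f a ha
  · intro a' ha'
    have hU := U.2
    have hloc' := hU.isLocalization_basicOpen f
    obtain ⟨⟨a, ⟨_, k, rfl⟩⟩, hk⟩ := IsLocalization.surj (Submonoid.powers f) a'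
    have hk' : a' * rs (X.basicOpen_le f) (f ^ k) = rs (X.basicOpen_le f) a := hk
    have hdata : ∀ x : U.1, ∃ g : Γ(X, U.1), x.1 ∈ X.basicOpen g ∧ ∃ N : ℕ,
        rs (X.basicOpen_le g) (f ^ N * a) ∈ Z (X.basicOpen g) := by
      intro x
      obtain ⟨g, hxg, hZf⟩ := hlq U.1 hU x.1 x.2
      refine ⟨g, hxg, ?_⟩
      have hV : IsAffineOpen (X.basicOpen g) := hU.basicOpen g
      let f' : Γ(X, X.basicOpen g) := rs (X.basicOpen_le g) f
      let aV : Γ(X, X.basicOpen g) := rs (X.basicOpen_le g) a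
      have h1 : rs (X.basicOpen_le f) a ∈ Z (X.basicOpen f) := by
        rw [← hk']
        exact Ideal.mul_mem_right _ _ ha'
      let g' : Γ(X, X.basicOpen f) := rs (X.basicOpen_le f) g
      have h2 := hres (X.basicOpen f) (hU.basicOpen f) g' _ h1
      have hopen : X.basicOpen g' = X.basicOpen f' := by
        change X.basicOpen (X.presheaf.map (homOfLE (X.basicOpen_le f)).op g) =
          X.basicOpen (X.presheaf.map (homOfLE (X.basicOpen_le g)).op f)
        rw [X.basicOpen_res, X.basicOpen_res]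
        exact inf_comm _ _
      have h3 := Z_congr Z hopen _ h2
      have h4 : rs (X.basicOpen_le f') aV ∈ Z (X.basicOpen f') := by
        convert h3 using 1
        rw [rs_rs, rs_rs, rs_rs]
      obtain ⟨N, hN⟩ := exists_pow_mul_mem_of_mem_map hV f' aV _ (hZf f' h4)
      refine ⟨N, ?_⟩
      rw [map_mul, map_pow]
      exact hN
    choose g hxg N hN using hdata
    have hspan : Ideal.span (Set.range g) = ⊤ := by
      rw [← hU.self_le_iSup_basicOpen_iff]
      intro x hx
      exact Opens.mem_iSup.2 ⟨⟨g ⟨x, hx⟩, ⟨x, hx⟩, rfl⟩, hxg ⟨x, hx⟩⟩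
    obtain ⟨s', hs'sub, hs'span⟩ := (Ideal.span_eq_top_iff_finite _).mp hspan
    have hpt : ∀ r : {r // r ∈ s'}, ∃ x : U.1, g x = r.1 := fun r => hs'sub r.2
    choose pt hptspec using hpt
    have hN' : ∀ r : {r // r ∈ s'},
        rs (X.basicOpen_le r.1) (f ^ N (pt r) * a) ∈ Z (X.basicOpen r.1) := by
      intro r
      have := hN (pt r)
      rw [hptspec r] at this
      exact this
    let M : ℕ := s'.attach.sup (fun r => N (pt r))
    have hM : f ^ M * a ∈ Z U.1 := by
      apply hloc U.1 hU (f ^ M * a) (↑s') hs'span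
      intro r hr
      have hle : N (pt ⟨r, hr⟩) ≤ M :=
        Finset.le_sup (f := fun r => N (pt r)) (Finset.mem_attach s' ⟨r, hr⟩)
      obtain ⟨d, hd⟩ := Nat.exists_eq_add_of_le hle
      rw [hd, pow_add, mul_comm (f ^ N (pt ⟨r, hr⟩)), mul_assoc, map_mul]
      exact Ideal.mul_mem_left _ _ (hN' ⟨r, hr⟩)
    have hunit : IsUnit (rs (X.basicOpen_le f) (f ^ (M + k))) :=
      IsLocalization.map_units Γ(X, X.basicOpen f)
        (⟨f ^ (M + k), M + k, rfl⟩ : Submonoid.powers f)
    obtain ⟨v, hv⟩ := hunit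
    have h5 : a' * (v : Γ(X, X.basicOpen f)) = rs (X.basicOpen_le f) (f ^ M * a) := by
      rw [hv, pow_add, map_mul, map_mul, ← hk']
      ring
    have h6 : a' = (↑v⁻¹ : Γ(X, X.basicOpen f)) * rs (X.basicOpen_le f) (f ^ M * a) := by
      rw [← h5, mul_comm a', ← mul_assoc, Units.inv_mul, one_mul]
    rw [h6]
    exact Ideal.mul_mem_left _ _ (Ideal.mem_map_of_mem _ hM)

end QC

end Groth.Agent.Lead.QCI
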