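import Mathlib
import Groth.Prelude.Def_MeroDiv
import Groth.Agent.Lib.Lead.MeroL28
import Groth.Agent.Lib.Lead.QCIdeal2

/-!
# The ideal sheaf of denominators of a regular meromorphic section (lead)
-/

set_option autoImplicit false
set_option backward.isDefEq.respectTransparency.types false
set_option synthInstance.maxHeartbeats 400000
set_option linter.style.haveILetI false
set_option linter.unusedSectionVars false
universe u

open CategoryTheory CategoryTheory.Limits AlgebraicGeometry TopologicalSpace Opposite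

namespace Groth.Agent.Lead.MeroL

open Groth.Agent.Helper1.LGen Groth.Agent.Helper1.QcCech

variable {X : Scheme.{u}} {L : X.Modules}

theorem mem_denomIdeal (s : Γ(Mero.merMod L, ⊤)) (U : X.Opens) (f : Γ(X, U)) :
    f ∈ Mero.denomIdeal L s U ↔ ∃ m : Γ(L, U), ∀ x : U,
      X.presheaf.germ U x.1 x.2 f • s.1 ⟨x.1, Opens.mem_top x.1⟩ =
        (LocalizedModule.mk (L.presheaf.germ U x.1 x.2 m) 1 : Mero.MStalk L x.1) := Iff.rfl

/-- `m ↦ m / 1` is injective on the stalks of an invertible module -/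
theorem mk_one_injective (hL : PicF.IsInvertible L) (z : X) (μ μ' : L.presheaf.stalk z)
    (h : (LocalizedModule.mk μ 1 : Mero.MStalk L z) = LocalizedModule.mk μ' 1) : μ = μ' := by
  obtain ⟨W, e, hzW, he⟩ := exists_isGen hL z
  have hg := stalkGen_of_isGen he z hzW
  obtain ⟨c, rfl⟩ := hg.surj μ
  obtain ⟨c', rfl⟩ := hg.surj μ'
  rw [← alg_smul_mk, ← alg_smul_mk] at h
  have := hg.smul_mk_injective _ _ h
  rw [Mero.algebraMap_KStalk_injective z this]

theorem smul_eq_alg_smul (z : X) (a : X.presheaf.stalk z) (τ : Mero.MStalk L z) :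
    a • τ = algebraMap (X.presheaf.stalk z) (Mero.KStalk X z) a • τ := by
  induction τ using LocalizedModule.induction_on with
  | h μ t => rw [LocalizedModule.smul'_mk, alg_smul_mk]

section Chart

variable {s : Γ(Mero.merMod L, ⊤)} (c : Chart L s)

/-- on a chart, the denominators of `s` are the denominators of the meromorphic function `t` -/
theorem mem_denomIdeal_chart {V : X.Opens} (hV : V ≤ c.W) (a : Γ(X, V)) :
    a ∈ Mero.denomIdeal L s V ↔ ∃ r : Γ(X, V),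
      Mero.toK X V a * resK hV (c.t : Γ(Mero.kmod X, c.W)) = Mero.toK X V r := by
  have hg := fun z : V => stalkGen_of_isGen c.he z.1 (hV z.2)
  have key : ∀ (r : Γ(X, V)) (z : V),
      (X.presheaf.germ V z.1 z.2 a • s.1 ⟨z.1, Opens.mem_top z.1⟩ =
        (LocalizedModule.mk (L.presheaf.germ V z.1 z.2 (r • res L hV c.e)) 1 : Mero.MStalk L z.1)) ↔
      (Mero.toK X V a * resK hV (c.t : Γ(Mero.kmod X, c.W))).1 z = (Mero.toK X V r).1 z := by
    intro r z
    rw [c.ht ⟨z.1, hV z.2⟩, Mero.germ_smul, germ_res_L, ← alg_smul_mk, smul_eq_alg_smul,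
      ← mul_smul]
    constructor
    · intro h
      exact (hg z).smul_mk_injective _ _ h
    · intro h
      have h' : algebraMap (X.presheaf.stalk z.1) (Mero.KStalk X z.1) (X.presheaf.germ V z.1 z.2 a) *
          (c.t : Γ(Mero.kmod X, c.W)).1 ⟨z.1, hV z.2⟩ =
          algebraMap (X.presheaf.stalk z.1) (Mero.KStalk X z.1) (X.presheaf.germ V z.1 z.2 r) := h
      rw [h']
  rw [mem_denomIdeal]
  constructor
  · rintro ⟨m, hm⟩
    obtain ⟨r, rfl⟩ := (c.he.res hV).exists_coeff m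
    exact ⟨r, Subtype.ext (funext fun z => (key r z).1 (hm z))⟩
  · rintro ⟨r, hr⟩
    exact ⟨r • res L hV c.e, fun z => (key r z).2 (congrArg (fun T : Γ(Mero.kmod X, V) => T.1 z) hr)⟩

end Chart


theorem denomIdeal_res (s : Γ(Mero.merMod L, ⊤)) (U : X.Opens) (f a : Γ(X, U))
    (ha : a ∈ Mero.denomIdeal L s U) :
    QCI.rs (X.basicOpen_le f) a ∈ Mero.denomIdeal L s (X.basicOpen f) := by
  rw [mem_denomIdeal] at ha ⊢
  obtain ⟨m, hm⟩ := ha
  refine ⟨res L (X.basicOpen_le f) m, fun x => ?_⟩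
  have h1 := hm ⟨x.1, X.basicOpen_le f x.2⟩
  rw [germ_res_L]
  have h2 : X.presheaf.germ (X.basicOpen f) x.1 x.2 (QCI.rs (X.basicOpen_le f) a) =
      X.presheaf.germ U x.1 (X.basicOpen_le f x.2) a :=
    TopCat.Presheaf.germ_res_apply X.presheaf (homOfLE (X.basicOpen_le f)) x.1 x.2 a
  rw [h2]
  exact h1

theorem denomIdeal_loc (hL : PicF.IsInvertible L) (s : Γ(Mero.merMod L, ⊤)) (U : X.Opens)
    (hU : IsAffineOpen U) (a : Γ(X, U)) (S : Set Γ(X, U)) (hS : Ideal.span S = ⊤)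
    (h : ∀ g ∈ S, QCI.rs (X.basicOpen_le g) a ∈ Mero.denomIdeal L s (X.basicOpen g)) :
    a ∈ Mero.denomIdeal L s U := by
  have hcov : U ≤ ⨆ g : S, X.basicOpen g.1 := hU.self_le_iSup_basicOpen_iff.mpr hS
  have hm : ∀ g : S, ∃ m : Γ(L, X.basicOpen g.1), ∀ x : (X.basicOpen g.1 : X.Opens),
      X.presheaf.germ U x.1 (X.basicOpen_le g.1 x.2) a • s.1 ⟨x.1, Opens.mem_top x.1⟩ =
        (LocalizedModule.mk (L.presheaf.germ (X.basicOpen g.1) x.1 x.2 m) 1 : Mero.MStalk L x.1) := by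
    intro g
    obtain ⟨m, hm⟩ := (mem_denomIdeal s _ _).1 (h g.1 g.2)
    refine ⟨m, fun x => ?_⟩
    have h2 : X.presheaf.germ (X.basicOpen g.1) x.1 x.2 (QCI.rs (X.basicOpen_le g.1) a) =
        X.presheaf.germ U x.1 (X.basicOpen_le g.1 x.2) a :=
      TopCat.Presheaf.germ_res_apply X.presheaf (homOfLE (X.basicOpen_le g.1)) x.1 x.2 a
    rw [← h2]
    exact hm x
  choose m hm using hm
  obtain ⟨M, hM⟩ := Groth.Agent.Helper1.TwistSec.glue_of_compatible L
    (fun g : S => X.basicOpen g.1) U (fun g => X.basicOpen_le g.1) hcov m (by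
      intro g g'
      apply TopCat.Presheaf.section_ext ⟨L.presheaf, L.isSheaf⟩
      intro x hx
      change L.presheaf.germ _ x hx (res L _ (m g)) = L.presheaf.germ _ x hx (res L _ (m g'))
      rw [germ_res_L, germ_res_L]
      apply mk_one_injective hL
      rw [← hm g ⟨x, hx.1⟩, ← hm g' ⟨x, hx.2⟩])
  rw [mem_denomIdeal]
  refine ⟨M, fun x => ?_⟩
  obtain ⟨g, hxg⟩ := Opens.mem_iSup.1 (hcov x.2)
  rw [hm g ⟨x.1, hxg⟩, ← hM g, germ_res_L]

theorem denomIdeal_lq (hL : PicF.IsInvertible L) (s : Γ(Mero.merMod L, ⊤))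
    (hs : Mero.IsRegularMero L s) (U : X.Opens) (hU : IsAffineOpen U) (x : X) (hx : x ∈ U) :
    ∃ g : Γ(X, U), x ∈ X.basicOpen g ∧ ∀ f' : Γ(X, X.basicOpen g),
      Mero.denomIdeal L s (X.basicOpen f') ≤
        Ideal.map (QCI.rs (X.basicOpen_le f')) (Mero.denomIdeal L s (X.basicOpen g)) := by
  obtain ⟨c, hxc⟩ := (isLU_of_isRegularMero hL s hs).exists_chart x
  obtain ⟨g, hgW, hxg⟩ := hU.exists_basicOpen_le ⟨x, hxc⟩ hx
  refine ⟨g, hxg, fun f' a' ha' => ?_⟩
  have hV : IsAffineOpen (X.basicOpen g) := hU.basicOpen g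
  have hle : X.basicOpen f' ≤ X.basicOpen g := X.basicOpen_le f'
  obtain ⟨r', hr'⟩ := (mem_denomIdeal_chart c (hle.trans hgW) a').1 ha'
  have hloc := hV.isLocalization_basicOpen f'
  obtain ⟨⟨a, ⟨_, k, rfl⟩⟩, hk⟩ := IsLocalization.surj (Submonoid.powers f') a'
  obtain ⟨⟨r, ⟨_, l, rfl⟩⟩, hl⟩ := IsLocalization.surj (Submonoid.powers f') r'
  have hk' : a' * QCI.rs hle (f' ^ k) = QCI.rs hle a := hk
  have hl' : r' * QCI.rs hle (f' ^ l) = QCI.rs hle r := hl
  let tV : Γ(Mero.kmod X, X.basicOpen g) := resK hgW (c.t : Γ(Mero.kmod X, c.W))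
  let F : Γ(Mero.kmod X, X.basicOpen g) :=
    Mero.toK X _ (f' ^ l * a) * tV - Mero.toK X _ (f' ^ k * r)
  have hF0 : resK hle F = 0 := by
    have e1 : resK hle F = Mero.toK X _ (QCI.rs hle (f' ^ l * a)) *
        resK (hle.trans hgW) (c.t : Γ(Mero.kmod X, c.W)) -
          Mero.toK X _ (QCI.rs hle (f' ^ k * r)) := by
      change resK hle (_ - _) = _
      have : resK hle (Mero.toK X _ (f' ^ l * a) * tV - Mero.toK X _ (f' ^ k * r)) =
          resK hle (Mero.toK X _ (f' ^ l * a)) * resK hle tV -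
            resK hle (Mero.toK X _ (f' ^ k * r)) := rfl
      rw [this, resK_toK, resK_toK]
      rfl
    rw [e1, map_mul (QCI.rs hle), map_mul (QCI.rs hle), ← hk', ← hl']
    have e2 : Mero.toK X (X.basicOpen f') (QCI.rs hle (f' ^ l) * (a' * QCI.rs hle (f' ^ k))) *
        resK (hle.trans hgW) (c.t : Γ(Mero.kmod X, c.W)) =
        Mero.toK X _ (QCI.rs hle (f' ^ l) * QCI.rs hle (f' ^ k)) *
          (Mero.toK X _ a' * resK (hle.trans hgW) (c.t : Γ(Mero.kmod X, c.W))) := by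
      simp only [map_mul]
      ring
    rw [e2, hr', ← map_mul]
    have e3 : QCI.rs hle (f' ^ l) * QCI.rs hle (f' ^ k) * r' =
        QCI.rs hle (f' ^ k) * (r' * QCI.rs hle (f' ^ l)) := by ring
    rw [e3, sub_self]
  have hFv : ∀ y : (X.basicOpen g : X.Opens), y.1 ∈ X.basicOpen f' → F.1 y = 0 := by
    intro y hy
    exact congrArg (fun T : Γ(Mero.kmod X, X.basicOpen f') => T.1 ⟨y.1, hy⟩) hF0
  obtain ⟨n, hn⟩ := pow_mul_eq_zero_of_compact (X.basicOpen g) hV.isCompact f' F hFv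
  have hmem : f' ^ (n + l) * a ∈ Mero.denomIdeal L s (X.basicOpen g) := by
    rw [mem_denomIdeal_chart c hgW]
    refine ⟨f' ^ (n + k) * r, ?_⟩
    have h1 : Mero.toK X _ f' ^ n * (Mero.toK X _ (f' ^ l * a) * tV) =
        Mero.toK X _ f' ^ n * Mero.toK X _ (f' ^ k * r) := by
      have := hn
      rw [mul_sub] at this
      exact sub_eq_zero.mp this
    calc Mero.toK X _ (f' ^ (n + l) * a) * tV
        = Mero.toK X _ f' ^ n * (Mero.toK X _ (f' ^ l * a) * tV) := by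
          rw [pow_add, mul_assoc, map_mul, map_pow, mul_assoc]
      _ = Mero.toK X _ f' ^ n * Mero.toK X _ (f' ^ k * r) := h1
      _ = Mero.toK X _ (f' ^ (n + k) * r) := by
          rw [pow_add, mul_assoc, map_mul (Mero.toK X _) (f' ^ n), map_pow]
  have hunit : IsUnit (QCI.rs hle (f' ^ (n + l + k))) :=
    IsLocalization.map_units Γ(X, X.basicOpen f')
      (⟨f' ^ (n + l + k), n + l + k, rfl⟩ : Submonoid.powers f')
  obtain ⟨v, hv⟩ := hunit
  have h5 : a' * (v : Γ(X, X.basicOpen f')) = QCI.rs hle (f' ^ (n + l) * a) := by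
    rw [hv, pow_add, map_mul, map_mul, ← hk']
    ring
  have h6 : a' = (↑v⁻¹ : Γ(X, X.basicOpen f')) * QCI.rs hle (f' ^ (n + l) * a) := by
    rw [← h5, mul_comm a', ← mul_assoc, Units.inv_mul, one_mul]
  rw [h6]
  exact Ideal.mul_mem_left _ _ (Ideal.mem_map_of_mem _ hmem)


set_option backward.isDefEq.respectTransparency false in
theorem S8903_main (X : Scheme.{u}) (L : X.Modules) (hL : PicF.IsInvertible L)
    (s : Γ(Mero.merMod L, ⊤)) (hs : Mero.IsRegularMero L s) :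
    ∃ I : X.IdealSheafData, (∀ U : X.affineOpens, I.ideal U = Mero.denomIdeal L s U.1) ∧
      interior (I.support : Set ↥X) = ∅ := by
  obtain ⟨I, hI⟩ := QCI.exists_idealSheafData' (fun U => Mero.denomIdeal L s U)
    (fun U _ f a ha => denomIdeal_res s U f a ha) (denomIdeal_loc hL s) (denomIdeal_lq hL s hs)
  refine ⟨I, hI, ?_⟩
  rw [Set.eq_empty_iff_forall_notMem]
  intro x hx
  rw [mem_interior] at hx
  obtain ⟨N, hNsub, hNopen, hxN⟩ := hx
  obtain ⟨c, hxc⟩ := (isLU_of_isRegularMero hL s hs).exists_chart x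
  obtain ⟨N', hxN', i, a, b, hab⟩ := (c.t : Γ(Mero.kmod X, c.W)).2 ⟨x, hxc⟩
  obtain ⟨_, ⟨U, hUaff, rfl⟩, hxU, hUsub⟩ :=
    (X.isBasis_affineOpens).exists_subset_of_mem_open
      (show x ∈ (N ∩ (N' : Set X)) from ⟨hxN, hxN'⟩) (hNopen.inter N'.2)
  have hU : IsAffineOpen U := hUaff
  have hUN : (U : Set X) ⊆ N := fun y hy => (hUsub hy).1
  have hUN' : U ≤ N' := fun y hy => (hUsub hy).2
  have hUW : U ≤ c.W := hUN'.trans i.le
  let bU : Γ(X, U) := resR hUN' b.1
  let aU : Γ(X, U) := resR hUN' a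
  have hbreg : bU ∈ Mero.regSub X U := Mero.regSub_res (homOfLE hUN') b.2
  have hbmem : bU ∈ Mero.denomIdeal L s U := by
    rw [mem_denomIdeal_chart c hUW]
    refine ⟨aU, Subtype.ext (funext fun z => ?_)⟩
    have h1 : (c.t : Γ(Mero.kmod X, c.W)).1 (i ⟨z.1, hUN' z.2⟩) = _ := hab ⟨z.1, hUN' z.2⟩
    change (LocalizedModule.mk (X.presheaf.germ U z.1 z.2 bU) 1 : Mero.KStalk X z.1) *
      (c.t : Γ(Mero.kmod X, c.W)).1 ⟨z.1, hUW z.2⟩ = LocalizedModule.mk (X.presheaf.germ U z.1 z.2 aU) 1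
    have h2 : (c.t : Γ(Mero.kmod X, c.W)).1 ⟨z.1, hUW z.2⟩ =
        (c.t : Γ(Mero.kmod X, c.W)).1 (i ⟨z.1, hUN' z.2⟩) := rfl
    rw [h2, h1, algebraMap_mul_mk]
    have g1 : X.presheaf.germ U z.1 z.2 bU = X.presheaf.germ N' z.1 (hUN' z.2) b.1 :=
      TopCat.Presheaf.germ_res_apply X.presheaf (homOfLE hUN') z.1 z.2 b.1
    have g2 : X.presheaf.germ U z.1 z.2 aU = X.presheaf.germ N' z.1 (hUN' z.2) a :=
      TopCat.Presheaf.germ_res_apply X.presheaf (homOfLE hUN') z.1 z.2 a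
    rw [g1, g2, LocalizedModule.mk_eq]
    refine ⟨1, ?_⟩
    simp only [one_smul, Submonoid.smul_def, smul_eq_mul]
  have hbI : bU ∈ I.ideal ⟨U, hUaff⟩ := by
    rw [hI]
    exact hbmem
  have hbasic : X.basicOpen bU = ⊥ := by
    rw [eq_bot_iff]
    intro y hy
    have hyU : y ∈ U := X.basicOpen_le bU hy
    have hysupp : y ∈ I.support := hNsub (hUN hyU)
    rw [Scheme.IdealSheafData.mem_support_iff_of_mem (U := ⟨U, hUaff⟩) hyU,
      Scheme.mem_zeroLocus_iff] at hysupp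
    exact hysupp bU hbI hy
  obtain ⟨n, hn⟩ := (Scheme.isNilpotent_iff_basicOpen_eq_bot_of_isCompact hU.isCompact bU).2 hbasic
  have h1 : (X.presheaf.germ U x hxU bU) ^ n ∈ nonZeroDivisors (X.presheaf.stalk x) :=
    pow_mem (hbreg ⟨x, hxU⟩) n
  have h2 : (X.presheaf.germ U x hxU bU) ^ n = 0 := by
    rw [← map_pow, hn, map_zero]
  exact nonZeroDivisors.ne_zero h1 h2

end Groth.Agent.Lead.MeroL
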