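import Mathlib
import Groth.Prelude.Def_MeroDiv
import Groth.Prelude.Def_CAlg
import Groth.Agent.Lib.Lead.MeroL1
import Groth.Agent.Lib.Lead.MeroL2
import Groth.Agent.Lib.Helper4.RadBir3

/-!
# Divisors and depth one points (lead)
-/

set_option autoImplicit false
set_option backward.isDefEq.respectTransparency.types false
set_option synthInstance.maxHeartbeats 400000
set_option linter.style.haveILetI false
set_option linter.unusedSectionVars false
universe u

open CategoryTheory CategoryTheory.Limits AlgebraicGeometry TopologicalSpace Opposite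

namespace Groth.Agent.Lead.MeroL

open Groth.Agent.Lib.Helper4.RadBir3

variable {X : Scheme.{u}} [IsLocallyNoetherian X]

/-- **depth one criterion at a point of an affine chart** -/
theorem depth_stalk_eq_one {W : X.Opens} (hW : IsAffineOpen W) (a b : Γ(X, W))
    (hb : b ∈ nonZeroDivisors Γ(X, W)) (x : W)
    (hx : ¬ X.presheaf.germ W x.1 x.2 b ∣ X.presheaf.germ W x.1 x.2 a)
    (hz : ∀ z : W, z.1 ⤳ x.1 → z.1 ≠ x.1 →
      X.presheaf.germ W z.1 z.2 b ∣ X.presheaf.germ W z.1 z.2 a) :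
    LocCoh.depth (X.presheaf.stalk x.1) (X.presheaf.stalk x.1) = 1 := by
  haveI : IsNoetherianRing Γ(X, W) := IsLocallyNoetherian.component_noetherian ⟨W, hW⟩
  haveI := hW.isLocalization_stalk x
  refine depth_eq_one_of_localization (hW.primeIdealOf x).asIdeal (X.presheaf.stalk x.1) a b hb hx ?_
  intro q hq hlt
  obtain ⟨z, hzq⟩ : ∃ z : W, (hW.primeIdealOf z).asIdeal = q :=
    ⟨⟨hW.fromSpec ⟨q, hq⟩, fromSpec_mem hW ⟨q, hq⟩⟩, by rw [primeIdealOf_fromSpec]⟩
  have hsp : z.1 ⤳ x.1 :=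
    (specializes_iff_primeIdealOf_le hW z x).mpr (by rw [hzq]; exact hlt.le)
  have hne : z.1 ≠ x.1 := by
    intro he
    have h1 : z = x := Subtype.ext he
    rw [h1] at hzq
    exact hlt.ne hzq.symm
  have hdvd := hz z hsp hne
  haveI := hW.isLocalization_stalk z
  have h2 := (dvd_localization_iff (hW.primeIdealOf z).asIdeal (X.presheaf.stalk z.1) a b).mp hdvd
  rw [hzq] at h2
  exact h2

/-- among the generizations of a point satisfying a property there is a minimal one -/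
theorem exists_minimal_generization {W : X.Opens} (hW : IsAffineOpen W) (P : X → Prop) (x : X)
    (hxW : x ∈ W) (hPx : P x) :
    ∃ z : X, z ⤳ x ∧ P z ∧ ∀ z' : X, z' ⤳ z → P z' → z' = z := by
  haveI : IsNoetherianRing Γ(X, W) := IsLocallyNoetherian.component_noetherian ⟨W, hW⟩
  classical
  let T : Set ℕ∞ := {n | ∃ z : W, z.1 ⤳ x ∧ P z.1 ∧ (hW.primeIdealOf z).asIdeal.height = n}
  have hT : T.Nonempty := ⟨_, ⟨x, hxW⟩, specializes_rfl, hPx, rfl⟩
  obtain ⟨z, hzx, hPz, hzmin⟩ : ∃ z : W, z.1 ⤳ x ∧ P z.1 ∧ ∀ z' : W, z'.1 ⤳ x → P z'.1 →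
      (hW.primeIdealOf z).asIdeal.height ≤ (hW.primeIdealOf z').asIdeal.height := by
    obtain ⟨z, hzx, hPz, hzn⟩ := WellFounded.min_mem wellFounded_lt T hT
    refine ⟨z, hzx, hPz, fun z' hz'x hPz' => ?_⟩
    rw [hzn]
    exact not_lt.mp (WellFounded.not_lt_min wellFounded_lt T
      (show (hW.primeIdealOf z').asIdeal.height ∈ T from ⟨z', hz'x, hPz', rfl⟩))
  refine ⟨z.1, hzx, hPz, fun z' hz'z hPz' => ?_⟩
  have hz'W : z' ∈ W := hz'z.mem_open W.2 z.2
  by_contra hne
  have hle : (hW.primeIdealOf ⟨z', hz'W⟩).asIdeal ≤ (hW.primeIdealOf z).asIdeal :=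
    (specializes_iff_primeIdealOf_le hW ⟨z', hz'W⟩ z).mp hz'z
  have hlt : (hW.primeIdealOf ⟨z', hz'W⟩).asIdeal < (hW.primeIdealOf z).asIdeal := by
    refine lt_of_le_of_ne hle (fun he => hne ?_)
    have h1 : hW.primeIdealOf ⟨z', hz'W⟩ = hW.primeIdealOf z := PrimeSpectrum.ext he
    have h2 := congrArg hW.fromSpec h1
    rw [hW.fromSpec_primeIdealOf, hW.fromSpec_primeIdealOf] at h2
    exact h2
  have h1 : (hW.primeIdealOf ⟨z', hz'W⟩).asIdeal.height < (hW.primeIdealOf z).asIdeal.height :=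
    Ideal.height_strict_mono_of_isPrime hlt
  have h2 := hzmin ⟨z', hz'W⟩ (hz'z.trans hzx) hPz'
  exact absurd h1 (not_lt.mpr h2)

theorem S5099_main (X : Scheme.{u}) [IsLocallyNoetherian X] (D : Mero.Divisor X)
    (x : X) (hx : x ∈ Mero.supp D) (hmax : ∀ z : X, z ∈ Mero.supp D → z ⤳ x → z = x) :
    LocCoh.depth (X.presheaf.stalk x) (X.presheaf.stalk x) = 1 := by
  obtain ⟨W, hW, hxW, a, b, hD⟩ := exists_localEq D x
  have hanzd : a.1 ∈ nonZeroDivisors Γ(X, W) := by
    rw [← Groth.Agent.Helper7.MeroReg.S12513_main X W hW]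
    exact a.2
  have hbnzd : b.1 ∈ nonZeroDivisors Γ(X, W) := by
    rw [← Groth.Agent.Helper7.MeroReg.S12513_main X W hW]
    exact b.2
  have hx1 : D.1 x ≠ 1 := hx
  have h0 : D.1 x = QuotientGroup.mk (fracUnit x (Mero.regGerm ⟨x, hxW⟩ a)
      (Mero.regGerm ⟨x, hxW⟩ b)) := hD ⟨x, hxW⟩
  have hnot : ¬ ∃ u : (X.presheaf.stalk x)ˣ,
      X.presheaf.germ W x hxW a.1 = X.presheaf.germ W x hxW b.1 * u := by
    intro hu
    apply hx1
    rw [h0]
    exact (germ_fracUnit_eq_one_iff x _ _).mpr hu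
  have htriv : ∀ z : W, z.1 ⤳ x → z.1 ≠ x → ∃ u : (X.presheaf.stalk z.1)ˣ,
      X.presheaf.germ W z.1 z.2 a.1 = X.presheaf.germ W z.1 z.2 b.1 * u := by
    intro z hzx hne
    have hz1 : D.1 z.1 = 1 := by
      by_contra hz
      exact hne (hmax z.1 hz hzx)
    rw [hD z] at hz1
    exact (germ_fracUnit_eq_one_iff z.1 _ _).mp hz1
  have hagerm : X.presheaf.germ W x hxW a.1 ∈ nonZeroDivisors (X.presheaf.stalk x) :=
    a.2 ⟨x, hxW⟩
  rcases not_dvd_or_not_dvd hagerm hnot with h | h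
  · exact depth_stalk_eq_one hW a.1 b.1 hbnzd ⟨x, hxW⟩ h (fun z hzx hne => by
      obtain ⟨u, hu⟩ := htriv z hzx hne
      exact ⟨u, hu⟩)
  · exact depth_stalk_eq_one hW b.1 a.1 hanzd ⟨x, hxW⟩ h (fun z hzx hne => by
      obtain ⟨u, hu⟩ := htriv z hzx hne
      exact ⟨↑u⁻¹, by rw [hu, mul_assoc, Units.mul_inv, mul_one]⟩)

theorem S5098_main (X : Scheme.{u}) [IsLocallyNoetherian X] (D : Mero.Divisor X) :
    ((∀ x : X, LocCoh.depth (X.presheaf.stalk x) (X.presheaf.stalk x) = 1 →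
        Mero.IsEffectiveAt D x) → Mero.IsEffective D) ∧
      ((∀ x : X, LocCoh.depth (X.presheaf.stalk x) (X.presheaf.stalk x) = 1 → D.1 x = 1) →
        D = 1) := by
  constructor
  · intro h x
    by_contra hx
    obtain ⟨W, hW, hxW, a, b, hD⟩ := exists_localEq D x
    obtain ⟨z, hzx, hPz, hzmin⟩ :=
      exists_minimal_generization hW (fun z => ¬ Mero.IsEffectiveAt D z) x hxW hx
    have hzW : z ∈ W := hzx.mem_open W.2 hxW
    have hbnzd : b.1 ∈ nonZeroDivisors Γ(X, W) := by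
      rw [← Groth.Agent.Helper7.MeroReg.S12513_main X W hW]
      exact b.2
    apply hPz
    apply h z
    refine depth_stalk_eq_one hW a.1 b.1 hbnzd ⟨z, hzW⟩ ?_ ?_
    · intro hdvd
      exact hPz ((isEffectiveAt_iff D z _ _ (hD ⟨z, hzW⟩)).mpr hdvd)
    · intro z' hz'z hne
      by_contra hnd
      have h1 : ¬ Mero.IsEffectiveAt D z'.1 :=
        fun he => hnd ((isEffectiveAt_iff D z'.1 _ _ (hD z')).mp he)
      exact hne (hzmin z'.1 hz'z h1)
  · intro h
    apply Subtype.ext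
    funext x
    change D.1 x = 1
    by_contra hx
    obtain ⟨W, hW, hxW, -⟩ := exists_localEq D x
    obtain ⟨z, hzx, hPz, hzmin⟩ :=
      exists_minimal_generization hW (fun z => D.1 z ≠ 1) x hxW hx
    apply hPz
    apply h z
    exact S5099_main X D z hPz (fun z' hz' hz'z => hzmin z' hz'z hz')

end Groth.Agent.Lead.MeroL
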