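import Mathlib
import Groth.Prelude.Def_MeroDiv
import Groth.Prelude.Def_SecTwist
import Groth.Agent.Lib.Lead.MeroL4
import Groth.Agent.Lib.Lead.MeroL5
import Groth.Agent.Lib.Helper1.TensLib
import Groth.Agent.Lib.Helper1.TmulLib

/-!
# The fractional ideal of a product of divisors (lead)
-/

set_option autoImplicit false
set_option backward.isDefEq.respectTransparency.types false
set_option synthInstance.maxHeartbeats 400000
set_option linter.style.haveILetI false
set_option linter.unusedSectionVars false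
universe u

open CategoryTheory CategoryTheory.Limits AlgebraicGeometry TopologicalSpace Opposite

namespace Groth.Agent.Lead.MeroL

open Groth.Agent.Helper1 Groth.Agent.Helper1.TensLib Groth.Agent.Helper1.TmulLib

section PairingHom

variable {X : Scheme.{u}} {M N K : X.Modules}

/-- the morphism out of the tensor product defined by a bilinear pairing -/
noncomputable def pairingHom (p : Pairing M N K) : CohB1.tensorMod M N ⟶ K :=
  ((PresheafOfModules.sheafificationAdjunction (𝟙 X.ringCatSheaf.obj)).homEquiv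
    (show X.PresheafOfModules from CohB1.tensorPre M N) K).symm p.μ₀

theorem pairingHom_tm (p : Pairing M N K) (U : X.Opens) (m : Γ(M, U)) (n : Γ(N, U)) :
    (pairingHom p).app U (tm M N U m n) = p.β (op U) m n := by
  have h1 := (PresheafOfModules.sheafificationAdjunction (𝟙 X.ringCatSheaf.obj)).homEquiv_unit
    (X := (show X.PresheafOfModules from CohB1.tensorPre M N)) (Y := K) (f := pairingHom p)
  unfold pairingHom at h1
  rw [Equiv.apply_symm_apply] at h1
  have h2 := congrArg (fun f => (f.app (op U)).hom (pure M N U m n)) h1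
  exact h2.symm

theorem isIso_pairingHom (p : Pairing M N K)
    (good : X.Opens → Prop) (hcov : ∀ x : X, ∃ V, good V ∧ x ∈ V)
    (hle : ∀ V V', good V → V' ≤ V → good V')
    (hσ : ∀ V, good V → ∃ σ : (CohB1.toPMod M).obj (op V),
      Function.Bijective
        (fun r : (X.sheaf.obj ⋙ forget₂ CommRingCat RingCat.{u}).obj (op V) => r • σ) ∧
      Function.Bijective (p.β (op V) σ)) :
    IsIso (pairingHom p) := by
  have hbij : ∀ V, good V → Function.Bijective (p.μ₀.app (op V)) := by
    intro V hV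
    obtain ⟨σ, hσ1, hσ2⟩ := hσ V hV
    exact lift_bijective (LinearMap.mk₂ _ (p.β (op V)) (p.add_left _) (p.smul_left _)
      (p.add_right _) (p.smul_right _)) σ hσ1 hσ2
  have hinj : Presheaf.IsLocallyInjective (Opens.grothendieckTopology X)
      ((PresheafOfModules.toPresheaf _).map p.μ₀) := by
    constructor
    intro U x y h
    rw [Opens.mem_grothendieckTopology]
    intro q hq
    obtain ⟨V, hV, hqV⟩ := hcov q
    refine ⟨V ⊓ U.unop, homOfLE inf_le_right, ?_, ⟨hqV, hq⟩⟩
    have hg : good (V ⊓ U.unop) := hle V _ hV inf_le_left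
    apply (hbij _ hg).1
    have h1 := NatTrans.naturality_apply ((PresheafOfModules.toPresheaf _).map p.μ₀)
      (homOfLE (inf_le_right : V ⊓ U.unop ≤ U.unop)).op x
    have h2 := NatTrans.naturality_apply ((PresheafOfModules.toPresheaf _).map p.μ₀)
      (homOfLE (inf_le_right : V ⊓ U.unop ≤ U.unop)).op y
    rw [h] at h1
    exact h1.trans h2.symm
  have hsurj : Presheaf.IsLocallySurjective (Opens.grothendieckTopology X)
      ((PresheafOfModules.toPresheaf _).map p.μ₀) := by
    constructor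
    intro U s
    rw [Opens.mem_grothendieckTopology]
    intro q hq
    obtain ⟨V, hV, hqV⟩ := hcov q
    refine ⟨V ⊓ U, homOfLE inf_le_right, ?_, ⟨hqV, hq⟩⟩
    have hg : good (V ⊓ U) := hle V _ hV inf_le_left
    exact (hbij _ hg).2 _
  exact isIso_of_locallyBijective_abs (𝟙 X.ringCatSheaf.obj)
    (show X.PresheafOfModules from CohB1.tensorPre M N) K p.μ₀ hinj hsurj

end PairingHom

section Mul

variable {X : Scheme.{u}} (D E : Mero.Divisor X)

theorem divCond_mul {x : X} {t t' : Mero.KStalk X x} (h : Mero.DivCond D x t)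
    (h' : Mero.DivCond E x t') : Mero.DivCond (D * E) x (t * t') := by
  intro g hg
  obtain ⟨g₁, hg₁⟩ := QuotientGroup.mk_surjective (D.1 x)
  obtain ⟨g₂, hg₂⟩ := QuotientGroup.mk_surjective (E.1 x)
  have h1 : (QuotientGroup.mk g : Mero.Germ X x) = QuotientGroup.mk (g₁ * g₂) := by
    rw [← hg, QuotientGroup.mk_mul, hg₁, hg₂]
    rfl
  obtain ⟨u, hu⟩ := (germ_mk_eq_iff x g (g₁ * g₂)).mp h1
  obtain ⟨c₁, hc₁⟩ := h g₁ hg₁.symm
  obtain ⟨c₂, hc₂⟩ := h' g₂ hg₂.symm
  refine ⟨c₁ * c₂ * u, ?_⟩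
  rw [map_mul, map_mul, hc₁, hc₂, hu, Units.val_mul]
  ring

/-- the product of a section of `O(D)` and a section of `O(E)`, a section of `O(D * E)` -/
noncomputable def mulSec {U : X.Opens} (t : Γ(Mero.divMod D, U)) (t' : Γ(Mero.divMod E, U)) :
    Γ(Mero.divMod (D * E), U) :=
  ⟨fun x => t.1 x * t'.1 x,
    ⟨Mero.kLoc_mul X U t.1 t'.1 t.2.1 t'.2.1, fun x => divCond_mul D E (t.2.2 x) (t'.2.2 x)⟩⟩

theorem mulSec_apply {U : X.Opens} (t : Γ(Mero.divMod D, U)) (t' : Γ(Mero.divMod E, U)) (x : U) :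
    (mulSec D E t t').1 x = t.1 x * t'.1 x := rfl

/-- the multiplication pairing `O(D) × O(E) → O(D * E)` -/
noncomputable def mulPairing : Pairing (Mero.divMod D) (Mero.divMod E) (Mero.divMod (D * E)) where
  β U t t' := (show (CohB1.toPMod (Mero.divMod (D * E))).obj U from
    mulSec D E (U := U.unop) (show Γ(Mero.divMod D, U.unop) from t)
      (show Γ(Mero.divMod E, U.unop) from t'))
  add_left U m₁ m₂ n := Subtype.ext (funext fun x => add_mul _ _ _)
  smul_left U a m n := Subtype.ext (funext fun x => smul_mul_assoc _ _ _)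
  add_right U m n₁ n₂ := Subtype.ext (funext fun x => mul_add _ _ _)
  smul_right U a m n := Subtype.ext (funext fun x => mul_smul_comm _ _ _)
  nat f m n := rfl

end Mul

section Main

variable {X : Scheme.{u}} (D E : Mero.Divisor X)

/-- restriction of a unit of the ring of meromorphic functions -/
noncomputable def resUnit {U V : X.Opens} (h : V ≤ U) (f : (Γ(Mero.kmod X, U))ˣ) :
    (Γ(Mero.kmod X, V))ˣ :=
  ⟨resK h f.1, resK h (f⁻¹ : (Γ(Mero.kmod X, U))ˣ).1, resK_unit_mul_inv h f,
    by rw [mul_comm]; exact resK_unit_mul_inv h f⟩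

theorem germOf_resUnit {U V : X.Opens} (h : V ≤ U) (f : (Γ(Mero.kmod X, U))ˣ) (y : V) :
    Mero.germOf (resUnit h f) y = Mero.germOf f ⟨y.1, h y.2⟩ :=
  congrArg _ (Units.ext rfl)

theorem inv_mul_unit_apply {U : X.Opens} (f : (Γ(Mero.kmod X, U))ˣ) (y : U) :
    ((f⁻¹ : (Γ(Mero.kmod X, U))ˣ) : Γ(Mero.kmod X, U)).1 y * (f : Γ(Mero.kmod X, U)).1 y = 1 := by
  rw [mul_comm]
  exact unit_mul_inv_apply f y

theorem isIso_mulPairing : IsIso (pairingHom (mulPairing D E)) := by
  apply isIso_pairingHom (mulPairing D E)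
    (fun V => ∃ (f f' : (Γ(Mero.kmod X, V))ˣ),
      (∀ y : V, D.1 y.1 = Mero.germOf f y) ∧ (∀ y : V, E.1 y.1 = Mero.germOf f' y))
  · intro x
    obtain ⟨U, hxU, f, hf⟩ := D.2 x
    obtain ⟨U', hxU', f', hf'⟩ := E.2 x
    refine ⟨U ⊓ U', ⟨resUnit inf_le_left f, resUnit inf_le_right f', fun y => ?_, fun y => ?_⟩,
      ⟨hxU, hxU'⟩⟩
    · exact (hf ⟨y.1, y.2.1⟩).trans (germOf_resUnit inf_le_left f y).symm
    · exact (hf' ⟨y.1, y.2.2⟩).trans (germOf_resUnit inf_le_right f' y).symm
  · rintro V V' ⟨f, f', hf, hf'⟩ h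
    exact ⟨resUnit h f, resUnit h f',
      fun y => (hf ⟨y.1, h y.2⟩).trans (germOf_resUnit h f y).symm,
      fun y => (hf' ⟨y.1, h y.2⟩).trans (germOf_resUnit h f' y).symm⟩
  · rintro V ⟨f, f', hf, hf'⟩
    refine ⟨gen D f hf, isGen_gen D f hf V le_rfl, ?_, ?_⟩
    · intro t₁ t₂ h12
      apply Subtype.ext
      funext y
      have e := congrArg (fun t : Γ(Mero.divMod (D * E), V) => t.1 y) h12
      have e' : ((f⁻¹ : (Γ(Mero.kmod X, V))ˣ) : Γ(Mero.kmod X, V)).1 y * t₁.1 y =
          ((f⁻¹ : (Γ(Mero.kmod X, V))ˣ) : Γ(Mero.kmod X, V)).1 y * t₂.1 y := e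
      have e2 := congrArg (fun w => (f : Γ(Mero.kmod X, V)).1 y * w) e'
      simp only [← mul_assoc, unit_mul_inv_apply, one_mul] at e2
      exact e2
    · intro u
      have hcond : ∀ y : V, Mero.DivCond E y.1 ((f : Γ(Mero.kmod X, V)).1 y * u.1 y) := by
        intro y g₂ hg₂
        have h1 : (D * E).1 y.1 = QuotientGroup.mk
            (Units.map (Mero.evalK X V y).toMonoidHom f * g₂) := by
          change D.1 y.1 * E.1 y.1 = _
          rw [hf y, hg₂]
          rfl
        obtain ⟨c, hc⟩ := u.2.2 y _ h1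
        refine ⟨c, hc.trans ?_⟩
        rw [Units.val_mul]
        change u.1 y * ((f : Γ(Mero.kmod X, V)).1 y * ↑g₂) = _
        ring
      refine ⟨(⟨fun y => (f : Γ(Mero.kmod X, V)).1 y * u.1 y,
        ⟨Mero.kLoc_mul X V _ _ (f : Γ(Mero.kmod X, V)).2 u.2.1, hcond⟩⟩ :
          Γ(Mero.divMod E, V)), ?_⟩
      apply Subtype.ext
      funext y
      change ((f⁻¹ : (Γ(Mero.kmod X, V))ˣ) : Γ(Mero.kmod X, V)).1 y *
        ((f : Γ(Mero.kmod X, V)).1 y * u.1 y) = u.1 y
      rw [← mul_assoc, inv_mul_unit_apply, one_mul]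

theorem S19455_main (X : Scheme.{u}) (D E : Mero.Divisor X) :
    ∃ μ : CohB1.tensorMod (Mero.divMod D) (Mero.divMod E) ⟶ Mero.divMod (D * E),
      (∀ (U : X.Opens) (t : Γ(Mero.divMod D, U)) (t' : Γ(Mero.divMod E, U)),
        (Mero.divModι (D * E)).app U
            (μ.app U (SecTwist.tmul (Mero.divMod D) (Mero.divMod E) U t t')) =
          (Mero.divModι D).app U t * (Mero.divModι E).app U t') ∧
      IsIso μ := by
  refine ⟨pairingHom (mulPairing D E), fun U t t' => ?_, isIso_mulPairing D E⟩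
  have h2 : (pairingHom (mulPairing D E)).app U
      (SecTwist.tmul (Mero.divMod D) (Mero.divMod E) U t t') = mulSec D E t t' :=
    pairingHom_tm (mulPairing D E) U t t'
  rw [h2]
  rfl

end Main

end Groth.Agent.Lead.MeroL
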