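import Mathlib
import Groth.Prelude.Def_EtMil
import Groth.Agent.Lib.Helper4.Milnor

/-!
# Finiteness of glued modules over a square of rings
-/

set_option linter.unusedSectionVars false

namespace Groth.Agent.Lead.MilnorOld

open TensorProduct Groth.Agent.Helper4.Milnor

universe u

variable {D' D C' C : Type u} [CommRing D'] [CommRing D] [CommRing C'] [CommRing C]
  [Algebra D' D] [Algebra D' C'] [Algebra D C] [Algebra C' C] [Algebra D' C]
  [IsScalarTower D' D C] [IsScalarTower D' C' C]
  {N M' : Type u} [AddCommGroup N] [Module D N] [Module D' N] [IsScalarTower D' D N]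
  [AddCommGroup M'] [Module C' M'] [Module D' M'] [IsScalarTower D' C' M']

/-- Abstract finiteness of the glued module: only uses surjectivity of `D' → D`, of `C' → C`, and of
`ker (D' → D) → ker (C' → C)`. -/
theorem glue_finite (h1 : Function.Surjective (algebraMap D' D))
    (h2 : Function.Surjective (algebraMap C' C))
    (h3 : ∀ e : C', algebraMap C' C e = 0 →
      ∃ d' : D', algebraMap D' D d' = 0 ∧ algebraMap D' C' d' = e)
    (φ : C ⊗[D] N ≃ₗ[C] C ⊗[C'] M') [Module.Finite D N] [Module.Finite C' M'] :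
    Module.Finite D' ↥(EtMil.glue D' φ) := by
  classical
  obtain ⟨r, n, hn⟩ := Module.Finite.exists_fin (R := D) (M := N)
  obtain ⟨s, x, hx⟩ := Module.Finite.exists_fin (R := C') (M := M')
  -- lifts of φ (1 ⊗ n i)
  choose x' hx' using fun i => exists_one_tmul_of_surjective M' h2 (φ ((1 : C) ⊗ₜ[D] n i))
  -- generators of C ⊗ N over C
  have hspanCN : Submodule.span C (Set.range fun i => ((1 : C) ⊗ₜ[D] n i : C ⊗[D] N)) = ⊤ := by
    have := Submodule.baseChange_span (R := D) (A := C) (M := N) (Set.range n)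
    rw [hn, Submodule.baseChange_top] at this
    rw [this, ← Set.range_comp]
    rfl
  -- coefficients
  have hcoef : ∀ j, ∃ c : Fin r → C, ∑ i, c i • ((1 : C) ⊗ₜ[D] n i : C ⊗[D] N)
      = φ.symm ((1 : C) ⊗ₜ[C'] x j) := by
    intro j
    have : φ.symm ((1 : C) ⊗ₜ[C'] x j) ∈
        Submodule.span C (Set.range fun i => ((1 : C) ⊗ₜ[D] n i : C ⊗[D] N)) := by
      rw [hspanCN]; trivial
    exact (Submodule.mem_span_range_iff_exists_fun C).mp this
  choose c hc using hcoef
  choose c' hc' using fun j i => h2 (c j i)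
  set z : Fin s → M' := fun j => x j - ∑ i, c' j i • x' i with hz
  have hz0 : ∀ j, ((1 : C) ⊗ₜ[C'] z j : C ⊗[C'] M') = 0 := by
    intro j
    have e1 : ((1 : C) ⊗ₜ[C'] x j : C ⊗[C'] M') = ∑ i, c j i • φ ((1 : C) ⊗ₜ[D] n i) := by
      have := congrArg φ (hc j)
      rw [LinearEquiv.apply_symm_apply, map_sum] at this
      rw [← this]
      refine Finset.sum_congr rfl fun i _ => ?_
      rw [map_smul]
    rw [hz, TensorProduct.tmul_sub, TensorProduct.tmul_sum, e1, sub_eq_zero]
    refine Finset.sum_congr rfl fun i _ => ?_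
    rw [← hx' i, ← hc' j i, ← TensorProduct.smul_tmul, Algebra.smul_def, mul_one,
      TensorProduct.smul_tmul', smul_eq_mul, mul_one]
  -- the generators
  set g : Fin r → N × M' := fun i => (n i, x' i) with hg
  set h : Fin s → N × M' := fun j => (0, z j) with hh
  have hgmem : ∀ i, g i ∈ EtMil.glue D' φ := fun i => (hx' i).symm
  have hhmem : ∀ j, h j ∈ EtMil.glue D' φ := by
    intro j
    change φ ((1 : C) ⊗ₜ[D] (0 : N)) = (1 : C) ⊗ₜ[C'] z j
    rw [hz0, TensorProduct.tmul_zero, map_zero]
  set S : Submodule D' (N × M') := Submodule.span D' (Set.range g ∪ Set.range h) with hS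
  have hgS : ∀ i, g i ∈ S := fun i => Submodule.subset_span (Or.inl ⟨i, rfl⟩)
  have hhS : ∀ j, h j ∈ S := fun j => Submodule.subset_span (Or.inr ⟨j, rfl⟩)
  have hker : ∀ e : C', algebraMap C' C e = 0 → ∀ c : C', algebraMap C' C (e * c) = 0 := by
    intro e he c; rw [map_mul, he, zero_mul]
  -- Step A
  have stepA : ∀ e : C', algebraMap C' C e = 0 → ∀ i, ((0 : N), e • x' i) ∈ S := by
    intro e he i
    obtain ⟨d', hd1, hd2⟩ := h3 e he
    have : d' • g i = ((0 : N), e • x' i) := by
      rw [hg, Prod.smul_mk]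
      congr 1
      · rw [← IsScalarTower.algebraMap_smul D d' (n i), hd1, zero_smul]
      · rw [← IsScalarTower.algebraMap_smul C' d' (x' i), hd2]
    rw [← this]
    exact S.smul_mem d' (hgS i)
  -- Step B
  have stepB : ∀ e : C', algebraMap C' C e = 0 → ∀ j, ((0 : N), e • z j) ∈ S := by
    intro e he j
    obtain ⟨d', hd1, hd2⟩ := h3 e he
    have : d' • h j = ((0 : N), e • z j) := by
      rw [hh, Prod.smul_mk, smul_zero]
      congr 1
      rw [← IsScalarTower.algebraMap_smul C' d' (z j), hd2]
    rw [← this]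
    exact S.smul_mem d' (hhS j)
  have hzero_add : ∀ a b : M', ((0 : N), a) ∈ S → ((0 : N), b) ∈ S → ((0 : N), a + b) ∈ S := by
    intro a b ha hb
    have : ((0 : N), a + b) = ((0 : N), a) + ((0 : N), b) := by simp
    rw [this]; exact S.add_mem ha hb
  have hzero_sum : ∀ (t : Finset (Fin r)) (F : Fin r → M'), (∀ i, ((0 : N), F i) ∈ S) →
      ((0 : N), ∑ i ∈ t, F i) ∈ S := by
    intro t F hF
    induction t using Finset.induction_on with
    | empty =>
      rw [Finset.sum_empty]
      exact S.zero_mem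
    | insert a t hat ih =>
      rw [Finset.sum_insert hat]
      exact hzero_add _ _ (hF a) ih
  -- Step C
  have stepC : ∀ e : C', algebraMap C' C e = 0 → ∀ j, ((0 : N), e • x j) ∈ S := by
    intro e he j
    have hxj : x j = z j + ∑ i, c' j i • x' i := by
      simp only [hz, sub_add_cancel]
    rw [hxj, smul_add, Finset.smul_sum]
    refine hzero_add _ _ (stepB e he j) (hzero_sum _ _ fun i => ?_)
    rw [smul_smul]
    exact stepA _ (hker e he _) i
  -- Step D
  have stepD : ∀ m : M', ∀ e : C', algebraMap C' C e = 0 → ((0 : N), e • m) ∈ S := by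
    intro m
    have hm : m ∈ Submodule.span C' (Set.range x) := by rw [hx]; trivial
    refine Submodule.span_induction ?_ ?_ ?_ ?_ hm
    · rintro _ ⟨j, rfl⟩ e he
      exact stepC e he j
    · intro e _
      rw [smul_zero]; exact S.zero_mem
    · intro a b _ _ ha hb e he
      rw [smul_add]
      exact hzero_add _ _ (ha e he) (hb e he)
    · intro c a _ ha e he
      rw [smul_smul]
      exact ha _ (hker e he c)
  -- Step E
  have stepE : ∀ m : M', m ∈ (RingHom.ker (algebraMap C' C)) • (⊤ : Submodule C' M') →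
      ((0 : N), m) ∈ S := by
    intro m hm
    refine Submodule.smul_induction_on hm ?_ ?_
    · intro e he a _
      exact stepD a e ((RingHom.mem_ker).mp he)
    · intro a b ha hb
      exact hzero_add _ _ ha hb
  -- final
  have hle : EtMil.glue D' φ ≤ S := by
    rintro ⟨y, m⟩ hym
    have hym' : φ ((1 : C) ⊗ₜ[D] y) = (1 : C) ⊗ₜ[C'] m := hym
    have hy : y ∈ Submodule.span D (Set.range n) := by rw [hn]; trivial
    obtain ⟨d, hd⟩ := (Submodule.mem_span_range_iff_exists_fun D).mp hy
    choose d' hd' using fun i => h1 (d i)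
    have hsum : ∑ i, d' i • g i = (y, ∑ i, d' i • x' i) := by
      rw [hg]
      ext
      · rw [Prod.fst_sum]
        simp only [Prod.smul_fst]
        rw [← hd]
        refine Finset.sum_congr rfl fun i _ => ?_
        rw [← IsScalarTower.algebraMap_smul D (d' i) (n i), hd']
      · rw [Prod.snd_sum]
        simp only [Prod.smul_snd]
    have hsumS : (y, ∑ i, d' i • x' i) ∈ S := by
      rw [← hsum]
      exact S.sum_mem fun i _ => S.smul_mem _ (hgS i)
    have hsumG : (y, ∑ i, d' i • x' i) ∈ EtMil.glue D' φ := by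
      rw [← hsum]
      exact (EtMil.glue D' φ).sum_mem fun i _ => (EtMil.glue D' φ).smul_mem _ (hgmem i)
    have hsumG' : φ ((1 : C) ⊗ₜ[D] y) = (1 : C) ⊗ₜ[C'] (∑ i, d' i • x' i) := hsumG
    have hdiff : ((1 : C) ⊗ₜ[C'] (m - ∑ i, d' i • x' i) : C ⊗[C'] M') = 0 := by
      rw [TensorProduct.tmul_sub, ← hym', ← hsumG', sub_self]
    have h4 := mem_ker_smul_top_of_surjective M' h2 _ hdiff
    have h5 := stepE _ h4
    have : ((y, m) : N × M') = (y, ∑ i, d' i • x' i) + ((0 : N), m - ∑ i, d' i • x' i) := by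
      ext <;> simp
    rw [this]
    exact S.add_mem hsumS h5
  have hge : S ≤ EtMil.glue D' φ := by
    rw [hS, Submodule.span_le]
    rintro _ (⟨i, rfl⟩ | ⟨j, rfl⟩)
    · exact hgmem i
    · exact hhmem j
  have heq : EtMil.glue D' φ = S := le_antisymm hle hge
  rw [Module.Finite.iff_fg, heq, hS]
  exact Submodule.fg_span ((Set.finite_range g).union (Set.finite_range h))

end Groth.Agent.Lead.MilnorOld
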