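import Mathlib

/-!
# Algebra for S17020 / S17019 (lead): tensoring a DVR with field extensions of the base fraction field
-/

set_option autoImplicit false
set_option linter.style.haveILetI false
set_option linter.unusedSectionVars false

universe u
open scoped TensorProduct

namespace Groth.Agent.Lib.Lead.ModA1

/-- localization of a domain at a submonoid of nonzero elements such that every nonzero element
divides an element of the submonoid is a field -/
theorem isField_of_isLocalization {B T : Type*} [CommRing B] [IsDomain B] [CommRing T] [Algebra B T]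
    (M : Submonoid B) [IsLocalization M T] (hM : M ≤ nonZeroDivisors B)
    (hdiv : ∀ b : B, b ≠ 0 → ∃ c : B, b * c ∈ M) : IsField T := by
  haveI : IsDomain T := IsLocalization.isDomain_of_le_nonZeroDivisors (M := M) T hM
  refine ⟨⟨0, 1, zero_ne_one⟩, mul_comm, ?_⟩
  intro z hz
  obtain ⟨b, m, rfl⟩ := IsLocalization.exists_mk'_eq M z
  have hb : b ≠ 0 := by
    rintro rfl
    exact hz (IsLocalization.mk'_zero _)
  obtain ⟨c, hc⟩ := hdiv b hb
  refine ⟨IsLocalization.mk' T (c * m) ⟨b * c, hc⟩, ?_⟩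
  rw [← IsLocalization.mk'_mul, IsLocalization.mk'_eq_iff_eq_mul, one_mul]
  congr 1
  simp only [Submonoid.coe_mul]
  ring

attribute [local instance] Algebra.TensorProduct.rightAlgebra in
/-- `K ⊗[R] B` is a field when `B` is a DVR whose maximal ideal is generated by the image of
an element of `R` and `R → B` is injective. -/
theorem isField_tensor_fractionRing (R B : Type u) [CommRing R] [IsDomain R] [CommRing B]
    [IsDomain B] [IsDiscreteValuationRing B] [Algebra R B] (K : Type u) [Field K] [Algebra R K]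
    [IsFractionRing R K] (hinj : Function.Injective (algebraMap R B))
    (ϖ : R) (hϖ : IsLocalRing.maximalIdeal B = Ideal.span {algebraMap R B ϖ}) :
    IsField (K ⊗[R] B) := by
  haveI : IsLocalization (Algebra.algebraMapSubmonoid B (nonZeroDivisors R)) (K ⊗[R] B) :=
    IsLocalization.tensorRight (S := B) K (nonZeroDivisors R)
  have hirr : Irreducible (algebraMap R B ϖ) :=
    (IsDiscreteValuationRing.irreducible_iff_uniformizer _).2 hϖ
  have hϖ0 : ϖ ≠ 0 := by
    rintro rfl
    exact hirr.ne_zero (map_zero _)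
  refine isField_of_isLocalization (Algebra.algebraMapSubmonoid B (nonZeroDivisors R)) ?_ ?_
  · rintro _ ⟨r, hr, rfl⟩
    apply mem_nonZeroDivisors_of_ne_zero
    intro h0
    have : r = 0 := hinj (by rw [h0, map_zero])
    exact (nonZeroDivisors.ne_zero hr) this
  · intro b hb
    obtain ⟨n, u, hu⟩ := IsDiscreteValuationRing.eq_unit_mul_pow_irreducible hb hirr
    refine ⟨(↑u⁻¹ : B), ?_⟩
    refine ⟨ϖ ^ n, mem_nonZeroDivisors_of_ne_zero (pow_ne_zero n hϖ0), ?_⟩
    rw [hu, map_pow]
    have : (↑u : B) * (↑u⁻¹ : B) = 1 := by simp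
    calc algebraMap R B ϖ ^ n = (↑u * ↑u⁻¹ : B) * algebraMap R B ϖ ^ n := by rw [this, one_mul]
      _ = ↑u * algebraMap R B ϖ ^ n * ↑u⁻¹ := by ring

/-- a domain of the form `Ω ⊗[R] B` with `Ω` integral over a field `K` such that `K ⊗[R] B` is a
field, is a field -/
theorem isField_tensor_of_isDomain (R K Ω B : Type u) [CommRing R] [Field K] [Algebra R K]
    [Field Ω] [Algebra K Ω] [Algebra R Ω] [IsScalarTower R K Ω] [Algebra.IsIntegral K Ω]
    [CommRing B] [Algebra R B] (hF : IsField (K ⊗[R] B)) [IsDomain (Ω ⊗[R] B)] :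
    IsField (Ω ⊗[R] B) := by
  let e : Ω ⊗[K] (K ⊗[R] B) ≃ₐ[Ω] Ω ⊗[R] B := Algebra.TensorProduct.cancelBaseChange R K Ω Ω B
  let e' : (K ⊗[R] B) ⊗[K] Ω ≃+* Ω ⊗[R] B :=
    (Algebra.TensorProduct.comm K (K ⊗[R] B) Ω).toRingEquiv.trans e.toRingEquiv
  haveI : IsDomain ((K ⊗[R] B) ⊗[K] Ω) := e'.toMulEquiv.isDomain _
  have h1 : IsField ((K ⊗[R] B) ⊗[K] Ω) :=
    isField_of_isIntegral_of_isField' (R := K ⊗[R] B) hF
  exact e'.symm.toMulEquiv.isField h1

/-- base change of a localization of a flat algebra at a prime stays a domain -/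
theorem isDomain_tensor_localization (R Ω A Bx : Type u) [CommRing R] [Field Ω] [Algebra R Ω]
    [CommRing A] [Algebra R A] [CommRing Bx] [Algebra R Bx] [Algebra A Bx] [IsScalarTower R A Bx]
    (p : Ideal A) [p.IsPrime] [IsLocalization.AtPrime Bx p]
    (hinj : Function.Injective (algebraMap R Ω)) [Module.Flat R A]
    [IsDomain (Ω ⊗[R] A)] : IsDomain (Ω ⊗[R] Bx) := by
  letI alg : Algebra (Ω ⊗[R] A) (Ω ⊗[R] Bx) :=
    (Algebra.TensorProduct.map (AlgHom.id Ω Ω) (IsScalarTower.toAlgHom R A Bx)).toRingHom.toAlgebra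
  haveI : IsScalarTower Ω (Ω ⊗[R] A) (Ω ⊗[R] Bx) := by
    refine IsScalarTower.of_algebraMap_eq' ?_
    ext x
    simp [RingHom.algebraMap_toAlgebra, Algebra.TensorProduct.algebraMap_apply]
  have H : (algebraMap (Ω ⊗[R] A) (Ω ⊗[R] Bx)).comp
      (Algebra.TensorProduct.includeRight (R := R) (A := Ω) (B := A)).toRingHom =
      (Algebra.TensorProduct.includeRight (R := R) (A := Ω) (B := Bx)).toRingHom.comp
        (algebraMap A Bx) := by
    ext a
    simp [RingHom.algebraMap_toAlgebra]
  haveI hloc := IsLocalization.tensorProduct_tensorProduct_right R Ω p.primeCompl Bx H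
  refine IsLocalization.isDomain_of_le_nonZeroDivisors (R := Ω ⊗[R] A) (Ω ⊗[R] Bx)
    (M := p.primeCompl.map (Algebra.TensorProduct.includeRight (R := R) (A := Ω) (B := A))) ?_
  rintro _ ⟨a, ha, rfl⟩
  apply mem_nonZeroDivisors_of_ne_zero
  intro h0
  have hinjA : Function.Injective
      (Algebra.TensorProduct.includeRight (R := R) (A := Ω) (B := A)) :=
    Algebra.TensorProduct.includeRight_injective hinj
  have : a = 0 := hinjA (by rw [h0, map_zero])
  exact ha (this ▸ p.zero_mem)

end Groth.Agent.Lib.Lead.ModA1
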