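import Mathlib
import Groth.Prelude.Def_Coh
import Groth.Agent.Lib.Helper4.SpecFibGen1

/-!
# Global functions of a flat scheme over a DVR: torsion-freeness and divisibility by the uniformizer
of functions vanishing on the special fibre (lead)
-/

set_option backward.isDefEq.respectTransparency.types false
set_option synthInstance.maxHeartbeats 400000
set_option autoImplicit false
set_option linter.unusedSectionVars false
set_option linter.style.haveILetI false

universe u
open CategoryTheory CategoryTheory.Limits AlgebraicGeometry TopologicalSpace Opposite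

namespace Groth.Agent.Lib.Lead.ModA2

variable {R : Type u} [CommRing R] {X : Scheme.{u}} (f : X ⟶ Spec (CommRingCat.of R))

/-- the structure map `R → Γ(X, W)` -/
noncomputable def phi (W : X.Opens) : R →+* Γ(X, W) :=
  (X.presheaf.map (homOfLE (le_top : W ≤ ⊤)).op).hom.comp (Coh.toGlobal f)

theorem phi_res {W W' : X.Opens} (h : W' ≤ W) (r : R) :
    (X.presheaf.map (homOfLE h).op).hom (phi f W r) = phi f W' r := by
  simp only [phi, RingHom.comp_apply]
  rw [← CommRingCat.comp_apply, ← Functor.map_comp]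
  rfl

theorem phi_eq_appLE (W : X.Opens) :
    phi f W = (f.appLE ⊤ W (by simp)).hom.comp
      (Scheme.ΓSpecIso (CommRingCat.of R)).inv.hom := by
  ext r
  simp only [phi, Coh.toGlobal, RingHom.comp_apply, Scheme.Hom.appLE, CommRingCat.hom_comp]
  rfl

theorem flat_phi [Flat f] {V : X.Opens} (hV : IsAffineOpen V) : (phi f V).Flat := by
  rw [phi_eq_appLE]
  refine RingHom.Flat.comp ?_ (Flat.flat_appLE f (isAffineOpen_top _) hV _)
  exact RingHom.Flat.of_bijective (ConcreteCategory.bijective_of_isIso _)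

theorem tf [IsDomain R] [Flat f] (W : X.Opens) (r : R) (hr : r ≠ 0) (s : Γ(X, W))
    (h : phi f W r * s = 0) : s = 0 := by
  apply TopCat.Sheaf.eq_of_locally_eq' X.sheaf
    (fun V : {V : X.affineOpens // V.1 ≤ W} => V.1.1) W (fun V => homOfLE V.2)
  · intro x hx
    obtain ⟨V, hV, hxV, hVW⟩ := (Opens.isBasis_iff_nbhd.mp X.isBasis_affineOpens) hx
    exact Opens.mem_iSup.2 ⟨⟨⟨V, hV⟩, hVW⟩, hxV⟩
  · rintro ⟨V, hVW⟩
    change (X.presheaf.map (homOfLE hVW).op).hom s = (X.presheaf.map (homOfLE hVW).op).hom 0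
    rw [map_zero]
    have h1 : phi f V.1 r * (X.presheaf.map (homOfLE hVW).op).hom s = 0 := by
      rw [← phi_res f hVW, ← map_mul, h, map_zero]
    have hfl := flat_phi f V.2
    letI := (phi f V.1).toAlgebra
    haveI : Module.Flat R Γ(X, V.1) := hfl
    have hreg : IsSMulRegular Γ(X, V.1) (algebraMap R Γ(X, V.1) r) :=
      IsSMulRegular.of_flat (IsLeftRegular.isSMulRegular (isRegular_of_ne_zero hr).left)
    apply hreg
    simp only [smul_eq_mul, mul_zero]
    exact h1


/-- a global function vanishing on the special fibre is divisible by the uniformizer -/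
theorem exists_eq_mul_of_app_eq_zero [IsDomain R] [Flat f] {k : Type u} [CommRing k]
    (ρ : R →+* k) (hρ : Function.Surjective ρ) (ϖ : R) (hϖ0 : ϖ ≠ 0)
    (hker : RingHom.ker ρ = Ideal.span {ϖ})
    {Xs : Scheme.{u}} (gs : Xs ⟶ X) (fs : Xs ⟶ Spec (CommRingCat.of k))
    (hs : IsPullback gs fs f (Spec.map (CommRingCat.ofHom ρ)))
    (a : Γ(X, ⊤)) (ha : gs.appTop.hom a = 0) :
    ∃ b : Γ(X, ⊤), a = phi f ⊤ ϖ * b := by
  -- local divisibility
  have hloc : ∀ V : X.affineOpens, ∃ b : Γ(X, V.1),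
      (X.presheaf.map (homOfLE (le_top : V.1 ≤ ⊤)).op).hom a = phi f V.1 ϖ * b := by
    intro V
    have h0 : (gs.app V.1).hom ((X.presheaf.map (homOfLE (le_top : V.1 ≤ ⊤)).op).hom a) = 0 := by
      have hn := gs.naturality (homOfLE (le_top : V.1 ≤ ⊤)).op
      have hn' := congrArg (fun ψ => ψ.hom a) hn
      simp only [CommRingCat.hom_comp, RingHom.comp_apply] at hn'
      rw [hn']
      have : (gs.app ⊤).hom a = 0 := ha
      rw [this, map_zero]
    have h1 := Groth.Agent.Lib.Helper4.SpecFibGen1.ker_app_le ρ hρ f gs fs hs V.2 _ h0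
    rw [hker, Ideal.map_span, Set.image_singleton] at h1
    obtain ⟨c, hc⟩ := Ideal.mem_span_singleton'.1 h1
    exact ⟨c, by rw [← hc, mul_comm]; rfl⟩
  choose b hb using hloc
  -- compatibility
  have hcomp : TopCat.Presheaf.IsCompatible X.presheaf (fun V : X.affineOpens => V.1) b := by
    intro V V'
    have hsub : (X.presheaf.map (Opens.infLELeft V.1 V'.1).op).hom (b V) -
        (X.presheaf.map (Opens.infLERight V.1 V'.1).op).hom (b V') = 0 := by
      apply tf f (V.1 ⊓ V'.1) ϖ hϖ0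
      rw [mul_sub, sub_eq_zero]
      have e1 : phi f (V.1 ⊓ V'.1) ϖ * (X.presheaf.map (Opens.infLELeft V.1 V'.1).op).hom (b V) =
          (X.presheaf.map (homOfLE (le_top : V.1 ⊓ V'.1 ≤ ⊤)).op).hom a := by
        have : (Opens.infLELeft V.1 V'.1) = homOfLE (inf_le_left : V.1 ⊓ V'.1 ≤ V.1) := rfl
        rw [this, ← phi_res f (inf_le_left : V.1 ⊓ V'.1 ≤ V.1), ← map_mul, ← hb V,
          ← CommRingCat.comp_apply, ← Functor.map_comp]
        rfl
      have e2 : phi f (V.1 ⊓ V'.1) ϖ * (X.presheaf.map (Opens.infLERight V.1 V'.1).op).hom (b V') =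
          (X.presheaf.map (homOfLE (le_top : V.1 ⊓ V'.1 ≤ ⊤)).op).hom a := by
        have : (Opens.infLERight V.1 V'.1) = homOfLE (inf_le_right : V.1 ⊓ V'.1 ≤ V'.1) := rfl
        rw [this, ← phi_res f (inf_le_right : V.1 ⊓ V'.1 ≤ V'.1), ← map_mul, ← hb V',
          ← CommRingCat.comp_apply, ← Functor.map_comp]
        rfl
      rw [e1, e2]
    exact sub_eq_zero.1 hsub
  have hcover : (⊤ : X.Opens) ≤ iSup (fun V : X.affineOpens => V.1) := by
    intro x _
    obtain ⟨V, hV, hxV, -⟩ := (Opens.isBasis_iff_nbhd.mp X.isBasis_affineOpens)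
      (show x ∈ (⊤ : X.Opens) from trivial)
    exact Opens.mem_iSup.2 ⟨⟨V, hV⟩, hxV⟩
  obtain ⟨s, hs', -⟩ := TopCat.Sheaf.existsUnique_gluing' X.sheaf
    (fun V : X.affineOpens => V.1) ⊤ (fun V => homOfLE le_top) hcover b hcomp
  let s' : Γ(X, ⊤) := s
  have hs'' : ∀ V : X.affineOpens,
      (X.presheaf.map (homOfLE (le_top : V.1 ≤ ⊤)).op).hom s' = b V := hs'
  refine ⟨s', ?_⟩
  apply TopCat.Sheaf.eq_of_locally_eq' X.sheaf (fun V : X.affineOpens => V.1) ⊤
    (fun V => homOfLE le_top) hcover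
  intro V
  change (X.presheaf.map (homOfLE (le_top : V.1 ≤ ⊤)).op).hom a =
    (X.presheaf.map (homOfLE (le_top : V.1 ≤ ⊤)).op).hom (phi f ⊤ ϖ * s')
  rw [map_mul, phi_res f (le_top : V.1 ≤ ⊤), hb V, hs'' V]

end Groth.Agent.Lib.Lead.ModA2
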