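import Mathlib
import Groth.Agent.Lib.Lead.ModA2
import Groth.Agent.Lib.Helper1.Stein1
import Groth.Agent.Lib.Helper7.GenBC.H0Geom

/-!
# `R = Γ(X, O_X)` for a proper flat scheme over a DVR with algebraically closed residue field and
connected reduced special fibre (lead)
-/

set_option backward.isDefEq.respectTransparency.types false
set_option synthInstance.maxHeartbeats 400000
set_option autoImplicit false
set_option linter.unusedSectionVars false
set_option linter.style.haveILetI false

universe u
open CategoryTheory CategoryTheory.Limits AlgebraicGeometry TopologicalSpace Opposite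

namespace Groth.Agent.Lib.Lead.ModA3

open Groth.Agent.Lib.Lead.ModA2

/-- the structure map `R → Γ(X, ⊤)` -/
noncomputable def tg {R : Type u} [CommRing R] {X : Scheme.{u}}
    (f : X ⟶ Spec (CommRingCat.of R)) : R →+* Γ(X, ⊤) :=
  f.appTop.hom.comp (Scheme.ΓSpecIso (CommRingCat.of R)).inv.hom

theorem phi_top {R : Type u} [CommRing R] {X : Scheme.{u}} (f : X ⟶ Spec (CommRingCat.of R))
    (r : R) : phi f ⊤ r = tg f r := by
  simp only [phi, RingHom.comp_apply]
  have : (homOfLE (le_top : (⊤ : X.Opens) ≤ ⊤)) = 𝟙 _ := rfl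
  rw [this, op_id, X.presheaf.map_id]
  rfl

theorem bijective_toGlobal (R : Type u) [CommRing R] [IsDomain R] [IsDiscreteValuationRing R]
    [IsAlgClosed (IsLocalRing.ResidueField R)]
    {X : Scheme.{u}} (f : X ⟶ Spec (CommRingCat.of R)) [IsProper f] [Flat f]
    {Xs : Scheme.{u}} (gs : Xs ⟶ X)
    (fs : Xs ⟶ Spec (CommRingCat.of (IsLocalRing.ResidueField R)))
    (hs : IsPullback gs fs f (Spec.map (CommRingCat.ofHom (IsLocalRing.residue R))))
    [ConnectedSpace Xs] [IsReduced Xs] :
    Function.Bijective (Coh.toGlobal f) := by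
  classical
  obtain ⟨ϖ, hirr⟩ := IsDiscreteValuationRing.exists_irreducible R
  have hmax : IsLocalRing.maximalIdeal R = Ideal.span {ϖ} := hirr.maximalIdeal_eq
  have hker : RingHom.ker (IsLocalRing.residue R) = Ideal.span {ϖ} := by
    rw [IsLocalRing.ker_residue, hmax]
  have hϖ0 : ϖ ≠ 0 := hirr.ne_zero
  haveI : IsProper fs := MorphismProperty.of_isPullback (P := @IsProper) hs inferInstance
  -- global functions on the special fibre are the constants
  have hbij : Function.Bijective fs.appTop.hom := by
    refine Groth.Agent.Helper7.GenBC.bijective_appTop_of_geom_reduced_connected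
      (IsLocalRing.ResidueField R) fs (IsLocalRing.ResidueField R) ?_
    intro Z a p hpb
    haveI : IsIso (Spec.map (CommRingCat.ofHom
        (algebraMap (IsLocalRing.ResidueField R) (IsLocalRing.ResidueField R)))) := by
      have : CommRingCat.ofHom
          (algebraMap (IsLocalRing.ResidueField R) (IsLocalRing.ResidueField R)) = 𝟙 _ := rfl
      rw [this, Spec.map_id]; infer_instance
    haveI : IsIso a := hpb.isIso_fst_of_isIso
    constructor
    · exact isReduced_of_isOpenImmersion a
    · have hsurj : Function.Surjective (inv a).base := by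
        intro z
        refine ⟨a.base z, ?_⟩
        rw [← Scheme.Hom.comp_apply, IsIso.hom_inv_id]
        rfl
      exact hsurj.connectedSpace (inv a).base.hom.continuous
  -- finiteness
  haveI : IsNoetherianRing Γ(Spec (CommRingCat.of R), ⊤) :=
    isNoetherianRing_of_ringEquiv R
      (Scheme.ΓSpecIso (CommRingCat.of R)).symm.commRingCatIsoToRingEquiv
  have hfin0 := Groth.Agent.Helper1.Stein.finite_appTop_of_isProper f
  have hfin : (tg f).Finite :=
    RingHom.Finite.comp hfin0
      (RingHom.Finite.of_surjective _ (ConcreteCategory.bijective_of_isIso _).2)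
  letI : Algebra R Γ(X, ⊤) := (tg f).toAlgebra
  haveI : Module.Finite R Γ(X, ⊤) := hfin
  have halg : ∀ r : R, algebraMap R Γ(X, ⊤) r = tg f r := fun r => rfl
  -- compatibility of the structure maps with the special fibre
  have hcompat : ∀ r : R, gs.appTop.hom (tg f r) =
      fs.appTop.hom ((Scheme.ΓSpecIso (CommRingCat.of (IsLocalRing.ResidueField R))).inv.hom
        (IsLocalRing.residue R r)) := by
    intro r
    have h1 : f.appTop ≫ gs.appTop =
        (Spec.map (CommRingCat.ofHom (IsLocalRing.residue R))).appTop ≫ fs.appTop := by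
      rw [← Scheme.Hom.comp_appTop, ← Scheme.Hom.comp_appTop, hs.w]
    have h2 := Scheme.ΓSpecIso_inv_naturality (CommRingCat.ofHom (IsLocalRing.residue R))
    have h3 := congrArg (fun ψ => ψ.hom ((Scheme.ΓSpecIso (CommRingCat.of R)).inv.hom r)) h1
    have h4 := congrArg (fun ψ => ψ.hom r) h2
    simp only [CommRingCat.hom_comp, RingHom.comp_apply, CommRingCat.hom_ofHom] at h3 h4
    change gs.appTop.hom (f.appTop.hom ((Scheme.ΓSpecIso (CommRingCat.of R)).inv.hom r)) = _
    rw [h3, ← h4]
  have hsurj : Function.Surjective (tg f) := by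
    have hle : (⊤ : Submodule R Γ(X, ⊤)) ≤
        Submodule.span R {1} ⊔ IsLocalRing.maximalIdeal R • ⊤ := by
      intro a _
      obtain ⟨c', hc'⟩ := hbij.2 (gs.appTop.hom a)
      obtain ⟨r, hr⟩ := IsLocalRing.residue_surjective
        ((Scheme.ΓSpecIso (CommRingCat.of (IsLocalRing.ResidueField R))).hom.hom c')
      have hc'' : (Scheme.ΓSpecIso (CommRingCat.of (IsLocalRing.ResidueField R))).inv.hom
          (IsLocalRing.residue R r) = c' := by
        rw [hr, ← RingHom.comp_apply, ← CommRingCat.hom_comp, Iso.hom_inv_id]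
        rfl
      have h0 : gs.appTop.hom (a - tg f r) = 0 := by
        rw [map_sub, hcompat, hc'', hc', sub_self]
      obtain ⟨b, hb⟩ := exists_eq_mul_of_app_eq_zero f (IsLocalRing.residue R)
        IsLocalRing.residue_surjective ϖ hϖ0 hker gs fs hs _ h0
      have ha : a = r • (1 : Γ(X, ⊤)) + ϖ • b := by
        rw [Algebra.smul_def, Algebra.smul_def, mul_one, halg, halg, ← phi_top f ϖ, ← hb]
        ring
      rw [ha]
      refine Submodule.add_mem_sup (Submodule.smul_mem _ _ (Submodule.subset_span rfl)) ?_
      refine Submodule.smul_mem_smul ?_ trivial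
      rw [hmax]
      exact Ideal.mem_span_singleton_self ϖ
    have h1 : (⊤ : Submodule R Γ(X, ⊤)) ≤ Submodule.span R {1} :=
      Submodule.le_of_le_smul_of_le_jacobson_bot Module.Finite.fg_top
        (IsLocalRing.maximalIdeal_le_jacobson _) hle
    intro a
    have hmem : a ∈ Submodule.span R {(1 : Γ(X, ⊤))} := h1 trivial
    obtain ⟨r, hr⟩ := Submodule.mem_span_singleton.1 hmem
    exact ⟨r, by rw [← hr, Algebra.smul_def, mul_one, halg]⟩
  suffices hmain : Function.Bijective (tg f) from hmain
  refine ⟨?_, hsurj⟩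
  rw [injective_iff_map_eq_zero]
  intro r hr
  by_contra hr0
  haveI : Nonempty X := ⟨gs.base (Classical.arbitrary Xs)⟩
  haveI : Nonempty ↥(⊤ : X.Opens) := ⟨⟨Classical.arbitrary X, trivial⟩⟩
  have h1 : (1 : Γ(X, ⊤)) = 0 := tf f ⊤ r hr0 1 (by rw [mul_one, phi_top, hr])
  exact one_ne_zero h1

end Groth.Agent.Lib.Lead.ModA3
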