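import Mathlib
import Groth.Agent.Lib.Lead.ModA2
import Groth.Agent.Lib.Helper1.VB5
import Groth.Agent.Lib.Helper7.GeomConn.SchemeGlue

/-!
# Base change of a proper flat `R`-scheme with `R = Γ(X, O_X)` to a field: integrality and
tensor products of sections (lead)
-/

set_option backward.isDefEq.respectTransparency.types false
set_option synthInstance.maxHeartbeats 400000
set_option autoImplicit false
set_option linter.unusedSectionVars false
set_option linter.style.haveILetI false

universe u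
open CategoryTheory CategoryTheory.Limits AlgebraicGeometry TopologicalSpace Opposite
open scoped TensorProduct

namespace Groth.Agent.Lib.Lead.ModA4

open Groth.Agent.Lib.Lead.ModA2

variable {R : Type u} [CommRing R] {X : Scheme.{u}} (f : X ⟶ Spec (CommRingCat.of R))
  (Ω : Type u) [Field Ω] [Algebra R Ω]

/-- the base change morphism `Spec Ω ⟶ Spec R` -/
noncomputable abbrev gΩ : Spec (CommRingCat.of Ω) ⟶ Spec (CommRingCat.of R) :=
  Spec.map (CommRingCat.ofHom (algebraMap R Ω))

theorem flat_gΩ [Module.Flat R Ω] : Flat (gΩ (R := R) Ω) := by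
  rw [Flat.SpecMap_iff]
  exact (RingHom.flat_algebraMap_iff).2 inferInstance

/-- global sections of the base change are `Ω` when `R = Γ(X, O_X)` -/
theorem isIso_snd_appTop [Module.Flat R Ω] [CompactSpace X] [QuasiSeparatedSpace X]
    (hb : Function.Bijective (Coh.toGlobal f)) :
    IsIso (pullback.snd f (gΩ (R := R) Ω)).appTop := by
  haveI := flat_gΩ (R := R) Ω
  have H : IsPullback (pullback.snd f (gΩ (R := R) Ω)) (pullback.fst f (gΩ (R := R) Ω))
      (gΩ (R := R) Ω) f := (IsPullback.of_hasPullback f (gΩ (R := R) Ω)).flip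
  have hUST : (⊤ : X.Opens) ≤ f ⁻¹ᵁ ⊤ := le_top
  have hUSX : (⊤ : (Spec (CommRingCat.of Ω)).Opens) ≤ (gΩ (R := R) Ω) ⁻¹ᵁ ⊤ := le_top
  have hUY : (⊤ : (pullback f (gΩ (R := R) Ω)).Opens) =
      (pullback.snd f (gΩ (R := R) Ω)) ⁻¹ᵁ ⊤ ⊓ (pullback.fst f (gΩ (R := R) Ω)) ⁻¹ᵁ ⊤ := by
    simp
  haveI := isIso_pushoutSection_of_isQuasiSeparated_of_flat_left H hUST hUSX hUY
    (isAffineOpen_top _) (isAffineOpen_top _) isCompact_univ isQuasiSeparated_univ
  have hpo := (isIso_pushoutSection_iff H hUST hUSX hUY).mp inferInstance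
  have hfiso : IsIso (f.appLE ⊤ ⊤ hUST) := by
    have hb' : Function.Bijective (f.appLE ⊤ ⊤ hUST).hom := by
      have h1 : (f.appLE ⊤ ⊤ hUST).hom = (Coh.toGlobal f).comp
          (Scheme.ΓSpecIso (CommRingCat.of R)).hom.hom := by
        have e1 : f.appLE ⊤ ⊤ hUST = f.appTop := by
          simp [Scheme.Hom.appLE, Scheme.Hom.appTop]
        rw [e1]
        unfold Coh.toGlobal
        ext x
        change f.appTop.hom x = f.appTop.hom ((Scheme.ΓSpecIso (CommRingCat.of R)).inv.hom
          ((Scheme.ΓSpecIso (CommRingCat.of R)).hom.hom x))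
        have hx : (Scheme.ΓSpecIso (CommRingCat.of R)).inv.hom
            ((Scheme.ΓSpecIso (CommRingCat.of R)).hom.hom x) = x := by
          rw [← RingHom.comp_apply, ← CommRingCat.hom_comp, Iso.hom_inv_id]
          rfl
        rw [hx]
      rw [h1]
      exact hb.comp (ConcreteCategory.bijective_of_isIso _)
    exact (ConcreteCategory.isIso_iff_bijective _).2 hb'
  have := hpo.isIso_inl_of_isIso
  have h2 : (pullback.snd f (gΩ (R := R) Ω)).appLE ⊤ ⊤ (by simp) =
      (pullback.snd f (gΩ (R := R) Ω)).appTop := by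
    simp [Scheme.Hom.appLE]
  rw [← h2]
  exact this


/-- the base change to `Ω` is integral when it is smooth and `R = Γ(X, O_X)` -/
theorem isIntegral_pullback [Module.Flat R Ω] [IsProper f]
    (hb : Function.Bijective (Coh.toGlobal f))
    [Smooth (pullback.snd f (gΩ (R := R) Ω))]
    [Nonempty ↥(pullback f (gΩ (R := R) Ω))] :
    IsIntegral (pullback f (gΩ (R := R) Ω)) := by
  haveI : CompactSpace X := QuasiCompact.compactSpace_of_compactSpace f
  haveI : QuasiSeparatedSpace X := quasiSeparatedSpace_of_quasiSeparated f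
  haveI := isIso_snd_appTop f Ω hb
  have hidem : ∀ e : Γ(pullback f (gΩ (R := R) Ω), ⊤), IsIdempotentElem e → e = 0 ∨ e = 1 := by
    intro e he
    let ψ : Γ(pullback f (gΩ (R := R) Ω), ⊤) ≃+* Ω :=
      ((asIso (pullback.snd f (gΩ (R := R) Ω)).appTop).symm ≪≫
        Scheme.ΓSpecIso (CommRingCat.of Ω)).commRingCatIsoToRingEquiv
    have he' : IsIdempotentElem (ψ e) := he.map ψ
    rcases IsIdempotentElem.iff_eq_zero_or_one.1 he' with h | h
    · left; exact ψ.injective (by rw [h, map_zero])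
    · right; exact ψ.injective (by rw [h, map_one])
  haveI : ConnectedSpace ↥(pullback f (gΩ (R := R) Ω)) :=
    Groth.Agent.Helper7.GeomConn.connectedSpace_of_idempotent_trivial _ hidem
  haveI : IsNoetherian (pullback f (gΩ (R := R) Ω)) :=
    Groth.Agent.Helper1.VB5.isNoetherian_of_proper Ω (pullback.snd f (gΩ (R := R) Ω))
  exact Groth.Agent.Helper1.Conn1.isIntegral_of_connected _
    (fun y => Groth.Agent.Helper1.VB5.isDomain_stalk_of_smooth Ω
      (pullback.snd f (gΩ (R := R) Ω)) y)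

/-- sections of the base change over the preimage of an affine open: `Ω ⊗[R] Γ(X, U)` is a domain -/
theorem isDomain_tensor_sections [Module.Flat R Ω] [IsProper f]
    (hb : Function.Bijective (Coh.toGlobal f))
    [Smooth (pullback.snd f (gΩ (R := R) Ω))]
    [Nonempty ↥(pullback f (gΩ (R := R) Ω))]
    {U : X.Opens} (hU : IsAffineOpen U) :
    letI := (phi f U).toAlgebra
    Nontrivial (Ω ⊗[R] Γ(X, U)) → IsDomain (Ω ⊗[R] Γ(X, U)) := by
  intro hnt
  haveI := isIntegral_pullback f Ω hb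
  have H : IsPullback (pullback.snd f (gΩ (R := R) Ω)) (pullback.fst f (gΩ (R := R) Ω))
      (gΩ (R := R) Ω) f := (IsPullback.of_hasPullback f (gΩ (R := R) Ω)).flip
  have hUST : U ≤ f ⁻¹ᵁ ⊤ := le_top
  have hUSX : (⊤ : (Spec (CommRingCat.of Ω)).Opens) ≤ (gΩ (R := R) Ω) ⁻¹ᵁ ⊤ := le_top
  obtain ⟨UY, hUY⟩ : ∃ UY : (pullback f (gΩ (R := R) Ω)).Opens, UY =
      (pullback.snd f (gΩ (R := R) Ω)) ⁻¹ᵁ ⊤ ⊓ (pullback.fst f (gΩ (R := R) Ω)) ⁻¹ᵁ U := ⟨_, rfl⟩
  haveI := isIso_pushoutSection_of_isAffineOpen H hUST hUSX hUY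
    (isAffineOpen_top _) hU (isAffineOpen_top _)
  have hpo := (isIso_pushoutSection_iff H hUST hUSX hUY).mp inferInstance
  have hpo' : IsPushout (CommRingCat.ofHom (algebraMap R Ω)) (CommRingCat.ofHom (phi f U))
      ((Scheme.ΓSpecIso (CommRingCat.of Ω)).inv ≫
        (pullback.snd f (gΩ (R := R) Ω)).appLE ⊤ UY (by simp [hUY]))
      ((pullback.fst f (gΩ (R := R) Ω)).appLE U UY (by simp [hUY])) := by
    refine hpo.of_iso (Scheme.ΓSpecIso (CommRingCat.of R)) (Scheme.ΓSpecIso (CommRingCat.of Ω))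
      (Iso.refl _) (Iso.refl _) ?_ ?_ ?_ ?_
    · have e1 : (gΩ (R := R) Ω).appLE ⊤ ⊤ hUSX = (gΩ (R := R) Ω).appTop := by
        simp [Scheme.Hom.appLE, Scheme.Hom.appTop]
      rw [e1]
      exact Scheme.ΓSpecIso_naturality (CommRingCat.ofHom (algebraMap R Ω))
    · rw [phi_eq_appLE]
      ext x
      change (f.appLE ⊤ U hUST).hom x = (f.appLE ⊤ U _).hom
        ((Scheme.ΓSpecIso (CommRingCat.of R)).inv.hom
          ((Scheme.ΓSpecIso (CommRingCat.of R)).hom.hom x))
      have hx : (Scheme.ΓSpecIso (CommRingCat.of R)).inv.hom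
          ((Scheme.ΓSpecIso (CommRingCat.of R)).hom.hom x) = x := by
        rw [← RingHom.comp_apply, ← CommRingCat.hom_comp, Iso.hom_inv_id]
        rfl
      rw [hx]
    · simp
    · simp
  letI := (phi f U).toAlgebra
  let e : Ω ⊗[R] Γ(X, U) ≃+* Γ(pullback f (gΩ (R := R) Ω), UY) :=
    ((CommRingCat.isPushout_tensorProduct R Ω Γ(X, U)).isoIsPushout _ _
      hpo').commRingCatIsoToRingEquiv
  haveI : Nontrivial Γ(pullback f (gΩ (R := R) Ω), UY) := e.injective.nontrivial
  haveI : Nonempty ↥UY := by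
    by_contra hne
    rw [not_nonempty_iff] at hne
    have hbot : UY = ⊥ := by
      ext y
      simp only [Opens.coe_bot, Set.mem_empty_iff_false, iff_false]
      exact fun hy => hne.false ⟨y, hy⟩
    have hsub : Subsingleton Γ(pullback f (gΩ (R := R) Ω), UY) := by
      rw [hbot]; infer_instance
    exact not_subsingleton _ hsub
  obtain ⟨⟨y, hy⟩⟩ := ‹Nonempty ↥UY›
  haveI : IsDomain Γ(pullback f (gΩ (R := R) Ω), UY) :=
    @IsIntegral.component_integral _ inferInstance UY ⟨⟨y, hy⟩⟩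
  exact e.toMulEquiv.isDomain _

end Groth.Agent.Lib.Lead.ModA4
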