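import Mathlib
import Groth.Agent.S17018
import Groth.Agent.Lib.Lead.ModA1
import Groth.Agent.Lib.Lead.ModA3
import Groth.Agent.Lib.Lead.ModA4

/-!
# S17020: the function field of a proper flat curve over a DVR with reduced connected special fibre
is a regular extension (lead)
-/

set_option backward.isDefEq.respectTransparency.types false
set_option synthInstance.maxHeartbeats 400000
set_option autoImplicit false
set_option linter.unusedSectionVars false
set_option linter.style.haveILetI false

universe u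
open CategoryTheory CategoryTheory.Limits AlgebraicGeometry TopologicalSpace Opposite
open scoped TensorProduct

namespace Groth.Agent.Lib.Lead.ModA5

open Groth.Agent.Lib.Lead.ModA2 Groth.Agent.Lib.Lead.ModA4

section Left

variable {R : Type u} [CommRing R] [IsDomain R]
  {X : Scheme.{u}} (f : X ⟶ Spec (CommRingCat.of R))
  {XK : Scheme.{u}} (gK : XK ⟶ X) (fK : XK ⟶ Spec (CommRingCat.of (FractionRing R)))
  (hK : IsPullback gK fK f (Spec.map (CommRingCat.ofHom (algebraMap R (FractionRing R)))))
  (Ω : Type u) [Field Ω] [Algebra (FractionRing R) Ω] [Algebra R Ω]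
  [IsScalarTower R (FractionRing R) Ω]

include hK in
theorem isPullback_left : ∃ t : pullback f (gΩ (R := R) Ω) ⟶ XK,
    IsPullback t (pullback.snd f (gΩ (R := R) Ω)) fK
      (Spec.map (CommRingCat.ofHom (algebraMap (FractionRing R) Ω))) := by
  have hcomp : gΩ (R := R) Ω = Spec.map (CommRingCat.ofHom (algebraMap (FractionRing R) Ω)) ≫
      Spec.map (CommRingCat.ofHom (algebraMap R (FractionRing R))) := by
    rw [← Spec.map_comp, ← CommRingCat.ofHom_comp, ← IsScalarTower.algebraMap_eq]
  have hw : pullback.fst f (gΩ (R := R) Ω) ≫ f =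
      (pullback.snd f (gΩ (R := R) Ω) ≫
        Spec.map (CommRingCat.ofHom (algebraMap (FractionRing R) Ω))) ≫
        Spec.map (CommRingCat.ofHom (algebraMap R (FractionRing R))) := by
    rw [pullback.condition, Category.assoc, ← hcomp]
  refine ⟨hK.lift _ _ hw, ?_⟩
  refine IsPullback.of_right ?_ (hK.lift_snd _ _ hw) hK
  rw [hK.lift_fst, ← hcomp]
  exact IsPullback.of_hasPullback f (gΩ (R := R) Ω)

include hK in
theorem smooth_snd [Smooth fK] : Smooth (pullback.snd f (gΩ (R := R) Ω)) := by
  obtain ⟨t, ht⟩ := isPullback_left f gK fK hK Ω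
  exact MorphismProperty.of_isPullback (P := @Smooth) ht inferInstance

include hK in
theorem nonempty_pullback [Nonempty XK] : Nonempty ↥(pullback f (gΩ (R := R) Ω)) := by
  obtain ⟨t, ht⟩ := isPullback_left f gK fK hK Ω
  haveI : Subsingleton ↥(Spec (CommRingCat.of (FractionRing R))) :=
    inferInstanceAs (Subsingleton (PrimeSpectrum (FractionRing R)))
  haveI : Nonempty ↥(Spec (CommRingCat.of Ω)) :=
    inferInstanceAs (Nonempty (PrimeSpectrum Ω))
  haveI : Surjective (Spec.map (CommRingCat.ofHom (algebraMap (FractionRing R) Ω))) :=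
    ⟨fun x => ⟨Classical.arbitrary _, Subsingleton.elim _ _⟩⟩
  haveI : Surjective t := MorphismProperty.of_isPullback (P := @Surjective) ht.flip inferInstance
  obtain ⟨y, -⟩ := t.surjective (Classical.arbitrary XK)
  exact ⟨y⟩

end Left


section Main

variable (R : Type u) [CommRing R] [IsDomain R] [IsDiscreteValuationRing R]
    [IsAlgClosed (IsLocalRing.ResidueField R)]
    (X : Scheme.{u}) (f : X ⟶ Spec (CommRingCat.of R)) [IsProper f] [Flat f]
    (XK : Scheme.{u}) (gK : XK ⟶ X) (fK : XK ⟶ Spec (CommRingCat.of (FractionRing R)))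
    (hK : IsPullback gK fK f (Spec.map (CommRingCat.ofHom (algebraMap R (FractionRing R)))))
    [SmoothOfRelativeDimension 1 fK] [ConnectedSpace XK]
    (Xs : Scheme.{u}) (gs : Xs ⟶ X)
    (fs : Xs ⟶ Spec (CommRingCat.of (IsLocalRing.ResidueField R)))
    (hs : IsPullback gs fs f (Spec.map (CommRingCat.ofHom (IsLocalRing.residue R))))
    [ConnectedSpace Xs] [IsReduced Xs]
    (ξ : Xs) (hξ : closure ({ξ} : Set Xs) ∈ irreducibleComponents Xs)
    (B : Type u) [CommRing B] [IsDomain B] [IsDiscreteValuationRing B] [Algebra R B]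
    (e : X.presheaf.stalk (gs.base ξ) ≅ CommRingCat.of B)
    (he : e.hom.hom.comp ((X.presheaf.germ ⊤ (gs.base ξ) trivial).hom.comp (Coh.toGlobal f)) =
      algebraMap R B)

include hK hs he in
/-- `Ω ⊗[R] B` is a domain for every field extension `Ω` of the fraction field -/
theorem isDomain_tensor (Ω : Type u) [Field Ω] [Algebra (FractionRing R) Ω] [Algebra R Ω]
    [IsScalarTower R (FractionRing R) Ω] : IsDomain (Ω ⊗[R] B) := by
  classical
  have hb := ModA3.bijective_toGlobal R f gs fs hs
  haveI : Module.Flat R Ω := Module.Flat.trans R (FractionRing R) Ω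
  haveI : Smooth fK := SmoothOfRelativeDimension.smooth 1 fK
  haveI := smooth_snd f gK fK hK Ω
  haveI := nonempty_pullback f gK fK hK Ω
  have hinjΩ : Function.Injective (algebraMap R Ω) := by
    rw [IsScalarTower.algebraMap_eq R (FractionRing R) Ω]
    exact (algebraMap (FractionRing R) Ω).injective.comp
      (IsFractionRing.injective R (FractionRing R))
  obtain ⟨U, hU, hxU, -⟩ := (Opens.isBasis_iff_nbhd.mp X.isBasis_affineOpens)
    (show gs.base ξ ∈ (⊤ : X.Opens) from trivial)
  letI algU : Algebra R Γ(X, U) := (phi f U).toAlgebra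
  haveI : Module.Flat R Γ(X, U) := flat_phi f hU
  letI algS : Algebra Γ(X, U) (X.presheaf.stalk (gs.base ξ)) :=
    TopCat.Presheaf.algebra_section_stalk X.presheaf ⟨gs.base ξ, hxU⟩
  letI algRS : Algebra R (X.presheaf.stalk (gs.base ξ)) :=
    ((algebraMap Γ(X, U) (X.presheaf.stalk (gs.base ξ))).comp (phi f U)).toAlgebra
  haveI : IsScalarTower R Γ(X, U) (X.presheaf.stalk (gs.base ξ)) :=
    IsScalarTower.of_algebraMap_eq' rfl
  haveI hloc : IsLocalization.AtPrime (X.presheaf.stalk (gs.base ξ))
      (hU.primeIdealOf ⟨gs.base ξ, hxU⟩).asIdeal := hU.isLocalization_stalk ⟨gs.base ξ, hxU⟩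
  haveI : Module.Flat Γ(X, U) (X.presheaf.stalk (gs.base ξ)) :=
    IsLocalization.flat _ (hU.primeIdealOf ⟨gs.base ξ, hxU⟩).asIdeal.primeCompl
  haveI : Module.Flat R (X.presheaf.stalk (gs.base ξ)) :=
    Module.Flat.trans R Γ(X, U) (X.presheaf.stalk (gs.base ξ))
  haveI : Nontrivial (Ω ⊗[R] X.presheaf.stalk (gs.base ξ)) :=
    (Algebra.TensorProduct.includeRight_injective (R := R) (A := Ω)
      (B := X.presheaf.stalk (gs.base ξ)) hinjΩ).nontrivial
  haveI : Nontrivial (Ω ⊗[R] Γ(X, U)) :=
    RingHom.domain_nontrivial (Algebra.TensorProduct.map (AlgHom.id Ω Ω)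
      (IsScalarTower.toAlgHom R Γ(X, U) (X.presheaf.stalk (gs.base ξ)))).toRingHom
  haveI : IsDomain (Ω ⊗[R] Γ(X, U)) := isDomain_tensor_sections f Ω hb hU inferInstance
  haveI : IsDomain (Ω ⊗[R] X.presheaf.stalk (gs.base ξ)) :=
    ModA1.isDomain_tensor_localization R Ω Γ(X, U) (X.presheaf.stalk (gs.base ξ))
      (hU.primeIdealOf ⟨gs.base ξ, hxU⟩).asIdeal hinjΩ
  let eAlg : X.presheaf.stalk (gs.base ξ) ≃ₐ[R] B :=
    { e.commRingCatIsoToRingEquiv with
      commutes' := fun r => by
        have h1 := congrArg (fun ψ => ψ r) he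
        simp only [RingHom.comp_apply] at h1
        rw [← h1]
        change e.hom.hom ((X.presheaf.germ U (gs.base ξ) hxU).hom
          ((X.presheaf.map (homOfLE (le_top : U ≤ ⊤)).op).hom (Coh.toGlobal f r))) = _
        rw [TopCat.Presheaf.germ_res_apply]
        rfl }
  let eT : Ω ⊗[R] B ≃ₐ[R] Ω ⊗[R] X.presheaf.stalk (gs.base ξ) :=
    Algebra.TensorProduct.congr AlgEquiv.refl eAlg.symm
  exact eT.toMulEquiv.isDomain _

include hK hs hξ he in
theorem main : IsField (AlgebraicClosure (FractionRing R) ⊗[R] B) := by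
  obtain ⟨ϖ, hirr⟩ := IsDiscreteValuationRing.exists_irreducible R
  have hmaxR := hirr.maximalIdeal_eq
  have h18 := Groth.Agent.S17018.result R X f XK gK fK hK Xs gs fs hs ξ hξ B e he
  have hmaxB : IsLocalRing.maximalIdeal B = Ideal.span {algebraMap R B ϖ} := by
    rw [h18, hmaxR, Ideal.map_span, Set.image_singleton]
  have hirrB : Irreducible (algebraMap R B ϖ) :=
    (IsDiscreteValuationRing.irreducible_iff_uniformizer _).2 hmaxB
  have hinjB : Function.Injective (algebraMap R B) := by
    rw [injective_iff_map_eq_zero]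
    intro r hr
    by_contra hr0
    obtain ⟨n, u, hu⟩ := IsDiscreteValuationRing.eq_unit_mul_pow_irreducible hr0 hirr
    rw [hu, map_mul, map_pow] at hr
    have h1 : IsUnit (algebraMap R B ↑u) := u.isUnit.map _
    rcases mul_eq_zero.1 hr with h | h
    · exact h1.ne_zero h
    · exact pow_ne_zero n hirrB.ne_zero h
  have hF : IsField (FractionRing R ⊗[R] B) :=
    ModA1.isField_tensor_fractionRing R B (FractionRing R) hinjB ϖ hmaxB
  haveI := isDomain_tensor R X f XK gK fK hK Xs gs fs hs ξ B e he
    (AlgebraicClosure (FractionRing R))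
  exact ModA1.isField_tensor_of_isDomain R (FractionRing R)
    (AlgebraicClosure (FractionRing R)) B hF

end Main

end Groth.Agent.Lib.Lead.ModA5
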