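import Mathlib
import Groth.Agent.Lib.Lead.ModA1

/-!
# Algebra for S17019 (lead): base change of a DVR `B` over a DVR `R` (with `m_B = m_R B`) along a
generically finite local extension of DVRs `R → R'`
-/

set_option autoImplicit false
set_option linter.style.haveILetI false
set_option linter.unusedSectionVars false

universe u
open scoped TensorProduct

namespace Groth.Agent.Lib.Lead.ModA6

section Flat

variable (R : Type u) [CommRing R] [IsDomain R] [IsDiscreteValuationRing R]
  (R' : Type u) [CommRing R'] [IsDomain R'] [Algebra R R']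
  (hinj : Function.Injective (algebraMap R R'))

include hinj in
theorem torsionFree' : Module.IsTorsionFree R R' := by
  haveI : FaithfulSMul R R' := (faithfulSMul_iff_algebraMap_injective R R').2 hinj
  infer_instance

include hinj in
theorem flat' : Module.Flat R R' := by
  haveI : Module.IsTorsionFree R R' := torsionFree' R R' hinj
  infer_instance

end Flat

section Alg

variable (R : Type u) [CommRing R] [IsDomain R] [IsDiscreteValuationRing R]
  (R' : Type u) [CommRing R'] [IsDomain R'] [Algebra R R']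
  (hinj : Function.Injective (algebraMap R R'))
  [Module.Finite (FractionRing R) (FractionRing R ⊗[R] R')]

include hinj in
theorem isAlgebraic : Algebra.IsAlgebraic R R' := by
  haveI := flat' R R' hinj
  refine ⟨fun x => ?_⟩
  have h1 : IsIntegral (FractionRing R) ((1 : FractionRing R) ⊗ₜ[R] x) :=
    Algebra.IsIntegral.isIntegral _
  have h2 : IsAlgebraic R ((1 : FractionRing R) ⊗ₜ[R] x) :=
    (IsFractionRing.isAlgebraic_iff R (FractionRing R) _).2 h1.isAlgebraic
  have hinc : Function.Injective
      (Algebra.TensorProduct.includeRight (R := R) (A := FractionRing R) (B := R')) :=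
    Algebra.TensorProduct.includeRight_injective (IsFractionRing.injective R (FractionRing R))
  exact (isAlgebraic_algHom_iff _ hinc).1 h2

end Alg

section Res

variable (R : Type u) [CommRing R] [IsDomain R] [IsDiscreteValuationRing R]
  [IsAlgClosed (IsLocalRing.ResidueField R)]
  (R' : Type u) [CommRing R'] [IsDomain R'] [IsDiscreteValuationRing R'] [Algebra R R']
  (hinj : Function.Injective (algebraMap R R')) [IsLocalHom (algebraMap R R')]
  [Module.Finite (FractionRing R) (FractionRing R ⊗[R] R')]

open Polynomial in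
include hinj in
theorem residue_isAlgebraic (x : R') :
    IsAlgebraic (IsLocalRing.ResidueField R) (IsLocalRing.residue R' x) := by
  obtain ⟨ϖ, hirr⟩ := IsDiscreteValuationRing.exists_irreducible R
  haveI := isAlgebraic R R' hinj
  obtain ⟨q, hq0, hq⟩ := Algebra.IsAlgebraic.isAlgebraic (R := R) x
  have hnu : ¬ IsUnit (C ϖ : R[X]) := by
    rw [Polynomial.isUnit_C]
    exact hirr.not_isUnit
  obtain ⟨n, q₀, hndvd, rfl⟩ := WfDvdMonoid.max_power_factor' hq0 hnu
  have hϖ' : algebraMap R R' ϖ ≠ 0 := by
    intro h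
    exact hirr.ne_zero (hinj (by rw [h, map_zero]))
  have hq₀ : aeval x q₀ = 0 := by
    rw [map_mul, map_pow, aeval_C] at hq
    rcases mul_eq_zero.1 hq with h | h
    · exact absurd h (pow_ne_zero n hϖ')
    · exact h
  refine ⟨q₀.map (algebraMap R (IsLocalRing.ResidueField R)), ?_, ?_⟩
  · intro h0
    apply hndvd
    rw [Polynomial.C_dvd_iff_dvd_coeff]
    intro i
    have h1 : (q₀.map (algebraMap R (IsLocalRing.ResidueField R))).coeff i = 0 := by
      rw [h0, coeff_zero]
    rw [coeff_map] at h1
    have h2 : q₀.coeff i ∈ IsLocalRing.maximalIdeal R :=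
      (IsLocalRing.residue_eq_zero_iff _).1 h1
    rw [hirr.maximalIdeal_eq, Ideal.mem_span_singleton] at h2
    exact h2
  · rw [Polynomial.aeval_map_algebraMap]
    change aeval (algebraMap R' (IsLocalRing.ResidueField R') x) q₀ = 0
    rw [Polynomial.aeval_algebraMap_apply, hq₀, map_zero]

include hinj in
theorem residue_surj (x : R') :
    ∃ r : R, x - algebraMap R R' r ∈ IsLocalRing.maximalIdeal R' := by
  haveI : Algebra.IsIntegral (IsLocalRing.ResidueField R) (IsLocalRing.ResidueField R') := by
    refine ⟨fun y => ?_⟩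
    obtain ⟨x, rfl⟩ := IsLocalRing.residue_surjective y
    exact (residue_isAlgebraic R R' hinj x).isIntegral
  obtain ⟨c, hc⟩ := (IsAlgClosed.algebraMap_bijective_of_isIntegral
    (k := IsLocalRing.ResidueField R) (K := IsLocalRing.ResidueField R')).2
    (IsLocalRing.residue R' x)
  obtain ⟨r, rfl⟩ := IsLocalRing.residue_surjective c
  refine ⟨r, ?_⟩
  rw [← IsLocalRing.residue_eq_zero_iff, map_sub, ← hc,
    IsLocalRing.ResidueField.algebraMap_residue, sub_self]

end Res

section Loc

attribute [local instance] Algebra.TensorProduct.rightAlgebra in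
theorem isDomain_fractionRing_tensor (R S : Type u) [CommRing R] [IsDomain R] [CommRing S]
    [IsDomain S] [Algebra R S] (hinj : Function.Injective (algebraMap R S)) :
    IsDomain (FractionRing R ⊗[R] S) := by
  haveI : IsLocalization (Algebra.algebraMapSubmonoid S (nonZeroDivisors R))
      (FractionRing R ⊗[R] S) :=
    IsLocalization.tensorRight (S := S) (FractionRing R) (nonZeroDivisors R)
  refine IsLocalization.isDomain_of_le_nonZeroDivisors
    (M := Algebra.algebraMapSubmonoid S (nonZeroDivisors R)) _ ?_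
  rintro _ ⟨r, hr, rfl⟩
  apply mem_nonZeroDivisors_of_ne_zero
  intro h0
  have : r = 0 := hinj (by rw [h0, map_zero])
  exact (nonZeroDivisors.ne_zero hr) this

attribute [local instance] Algebra.TensorProduct.rightAlgebra in
theorem exists_mul_eq_algebraMap (R S : Type u) [CommRing R] [IsDomain R] [CommRing S]
    [IsDomain S] [Algebra R S] (hinj : Function.Injective (algebraMap R S))
    (hT : IsField (FractionRing R ⊗[R] S)) (x : S) (hx : x ≠ 0) :
    ∃ y : S, ∃ r : R, r ≠ 0 ∧ x * y = algebraMap R S r := by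
  haveI : IsLocalization (Algebra.algebraMapSubmonoid S (nonZeroDivisors R))
      (FractionRing R ⊗[R] S) :=
    IsLocalization.tensorRight (S := S) (FractionRing R) (nonZeroDivisors R)
  have hM : Algebra.algebraMapSubmonoid S (nonZeroDivisors R) ≤ nonZeroDivisors S := by
    rintro _ ⟨r, hr, rfl⟩
    apply mem_nonZeroDivisors_of_ne_zero
    intro h0
    have : r = 0 := hinj (by rw [h0, map_zero])
    exact (nonZeroDivisors.ne_zero hr) this
  have hinjT : Function.Injective (algebraMap S (FractionRing R ⊗[R] S)) :=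
    IsLocalization.injective _ hM
  have hx' : algebraMap S (FractionRing R ⊗[R] S) x ≠ 0 := by
    intro h
    exact hx (hinjT (by rw [h, map_zero]))
  obtain ⟨z, hz⟩ := hT.mul_inv_cancel hx'
  obtain ⟨y, m, rfl⟩ := IsLocalization.exists_mk'_eq
    (Algebra.algebraMapSubmonoid S (nonZeroDivisors R)) z
  rw [IsLocalization.mul_mk'_eq_mk'_of_mul, IsLocalization.mk'_eq_iff_eq_mul, one_mul] at hz
  have hxy : x * y = (m : S) := hinjT hz
  obtain ⟨r, hr, hrm⟩ := m.2
  exact ⟨y, r, nonZeroDivisors.ne_zero hr, by rw [hxy, ← hrm]⟩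

end Loc

section Inj

theorem injective_of_maximalIdeal_eq (R B : Type u) [CommRing R] [IsDomain R]
    [IsDiscreteValuationRing R] [CommRing B] [IsDomain B] [IsDiscreteValuationRing B]
    [Algebra R B]
    (hmax : IsLocalRing.maximalIdeal B =
      Ideal.map (algebraMap R B) (IsLocalRing.maximalIdeal R)) :
    Function.Injective (algebraMap R B) := by
  obtain ⟨ϖ, hirr⟩ := IsDiscreteValuationRing.exists_irreducible R
  have hmaxB : IsLocalRing.maximalIdeal B = Ideal.span {algebraMap R B ϖ} := by
    rw [hmax, hirr.maximalIdeal_eq, Ideal.map_span, Set.image_singleton]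
  have hirrB : Irreducible (algebraMap R B ϖ) :=
    (IsDiscreteValuationRing.irreducible_iff_uniformizer _).2 hmaxB
  rw [injective_iff_map_eq_zero]
  intro r hr
  by_contra hr0
  obtain ⟨n, u, hu⟩ := IsDiscreteValuationRing.eq_unit_mul_pow_irreducible hr0 hirr
  rw [hu, map_mul, map_pow] at hr
  have h1 : IsUnit (algebraMap R B ↑u) := u.isUnit.map _
  rcases mul_eq_zero.1 hr with h | h
  · exact h1.ne_zero h
  · exact pow_ne_zero n hirrB.ne_zero h

end Inj

section Main

variable (R : Type u) [CommRing R] [IsDomain R] [IsDiscreteValuationRing R]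
  [IsAlgClosed (IsLocalRing.ResidueField R)]
  (B : Type u) [CommRing B] [IsDomain B] [IsDiscreteValuationRing B] [Algebra R B]
  (hinjB : Function.Injective (algebraMap R B))
  (hmax : IsLocalRing.maximalIdeal B = Ideal.map (algebraMap R B) (IsLocalRing.maximalIdeal R))
  (hdom : IsDomain (AlgebraicClosure (FractionRing R) ⊗[R] B))
  (R' : Type u) [CommRing R'] [IsDomain R'] [IsDiscreteValuationRing R'] [Algebra R R']
  (hinj : Function.Injective (algebraMap R R')) [IsLocalHom (algebraMap R R')]
  [Module.Finite (FractionRing R) (FractionRing R ⊗[R] R')]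

include hinjB hdom hinj in
theorem isDomain_tensor : IsDomain (B ⊗[R] R') := by
  haveI := isAlgebraic R R' hinj
  haveI : Module.IsTorsionFree R R' := torsionFree' R R' hinj
  have hinjΩ : Function.Injective (algebraMap R (AlgebraicClosure (FractionRing R))) := by
    rw [IsScalarTower.algebraMap_eq R (FractionRing R) (AlgebraicClosure (FractionRing R))]
    exact (algebraMap (FractionRing R) _).injective.comp
      (IsFractionRing.injective R (FractionRing R))
  haveI : Module.IsTorsionFree R (AlgebraicClosure (FractionRing R)) :=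
    torsionFree' R _ hinjΩ
  let ψ : R' →ₐ[R] AlgebraicClosure (FractionRing R) := IsAlgClosed.lift
  have hψ : Function.Injective ψ := by
    rw [injective_iff_map_eq_zero]
    intro x hx
    by_contra hx0
    have h1 := Ideal.comap_ne_bot_of_algebraic_mem (R := R) (I := RingHom.ker ψ.toRingHom) hx0
      (by simpa [RingHom.mem_ker] using hx) (Algebra.IsAlgebraic.isAlgebraic x)
    apply h1
    rw [eq_bot_iff]
    intro r hr
    rw [Ideal.mem_comap, RingHom.mem_ker] at hr
    have : algebraMap R (AlgebraicClosure (FractionRing R)) r = 0 := by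
      rw [← hr]
      exact (ψ.commutes r).symm
    rw [Ideal.mem_bot]
    exact hinjΩ (by rw [this, map_zero])
  haveI : Module.Flat R B := flat' R B hinjB
  let g : B ⊗[R] R' →ₐ[R] B ⊗[R] AlgebraicClosure (FractionRing R) :=
    Algebra.TensorProduct.map (AlgHom.id R B) ψ
  have hg : Function.Injective g :=
    Module.Flat.lTensor_preserves_injective_linearMap (M := B) ψ.toLinearMap hψ
  let c : B ⊗[R] AlgebraicClosure (FractionRing R) ≃ₐ[R]
      AlgebraicClosure (FractionRing R) ⊗[R] B :=
    Algebra.TensorProduct.comm R B _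
  exact Function.Injective.isDomain (c.toRingEquiv.toRingHom.comp g.toRingHom)
    (c.injective.comp hg)

include hinjB hmax hdom hinj in
theorem isField_fractionRing_tensor_tensor :
    IsField (FractionRing R ⊗[R] (B ⊗[R] R')) := by
  haveI hD : IsDomain (B ⊗[R] R') := isDomain_tensor R B hinjB hdom R' hinj
  obtain ⟨ϖ, hirr⟩ := IsDiscreteValuationRing.exists_irreducible R
  have hmaxB : IsLocalRing.maximalIdeal B = Ideal.span {algebraMap R B ϖ} := by
    rw [hmax, hirr.maximalIdeal_eq, Ideal.map_span, Set.image_singleton]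
  haveI : Module.Flat R B := flat' R B hinjB
  have hinjB' : Function.Injective (algebraMap R (B ⊗[R] R')) := by
    rw [IsScalarTower.algebraMap_eq R B (B ⊗[R] R')]
    exact (Algebra.TensorProduct.includeLeft_injective (S := B) hinj).comp hinjB
  haveI : IsDomain (FractionRing R ⊗[R] (B ⊗[R] R')) :=
    isDomain_fractionRing_tensor R (B ⊗[R] R') hinjB'
  let e1 : (FractionRing R ⊗[R] B) ⊗[R] R' ≃ₐ[R] FractionRing R ⊗[R] (B ⊗[R] R') :=
    Algebra.TensorProduct.assoc R R R (FractionRing R) B R'
  let e2 : (FractionRing R ⊗[R] B) ⊗[FractionRing R] (FractionRing R ⊗[R] R') ≃ₐ[FractionRing R]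
      (FractionRing R ⊗[R] B) ⊗[R] R' :=
    Algebra.TensorProduct.cancelBaseChange R (FractionRing R) (FractionRing R)
      (FractionRing R ⊗[R] B) R'
  let e : (FractionRing R ⊗[R] B) ⊗[FractionRing R] (FractionRing R ⊗[R] R') ≃+*
      FractionRing R ⊗[R] (B ⊗[R] R') := e2.toRingEquiv.trans e1.toRingEquiv
  haveI : IsDomain ((FractionRing R ⊗[R] B) ⊗[FractionRing R] (FractionRing R ⊗[R] R')) :=
    e.toMulEquiv.isDomain _
  have hF : IsField (FractionRing R ⊗[R] B) :=
    ModA1.isField_tensor_fractionRing R B (FractionRing R) hinjB ϖ hmaxB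
  haveI : Algebra.IsIntegral (FractionRing R) (FractionRing R ⊗[R] R') :=
    Algebra.IsIntegral.of_finite _ _
  have h1 : IsField ((FractionRing R ⊗[R] B) ⊗[FractionRing R] (FractionRing R ⊗[R] R')) :=
    isField_of_isIntegral_of_isField' (R := FractionRing R ⊗[R] B)
      (S := (FractionRing R ⊗[R] B) ⊗[FractionRing R] (FractionRing R ⊗[R] R')) hF
  exact e.symm.toMulEquiv.isField h1

include hinjB hmax hdom hinj in
theorem dvr : ∃ _ : IsDomain (B ⊗[R] R'), IsDiscreteValuationRing (B ⊗[R] R') := by
  haveI hD : IsDomain (B ⊗[R] R') := isDomain_tensor R B hinjB hdom R' hinj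
  refine ⟨hD, ?_⟩
  obtain ⟨ϖ, hirr⟩ := IsDiscreteValuationRing.exists_irreducible R
  obtain ⟨π', hirr'⟩ := IsDiscreteValuationRing.exists_irreducible R'
  have hmaxB : IsLocalRing.maximalIdeal B = Ideal.span {algebraMap R B ϖ} := by
    rw [hmax, hirr.maximalIdeal_eq, Ideal.map_span, Set.image_singleton]
  have hirrB : Irreducible (algebraMap R B ϖ) :=
    (IsDiscreteValuationRing.irreducible_iff_uniformizer _).2 hmaxB
  have hϖ' : algebraMap R R' ϖ ≠ 0 := by
    intro h
    exact hirr.ne_zero (hinj (by rw [h, map_zero]))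
  obtain ⟨e, u, hu⟩ := IsDiscreteValuationRing.eq_unit_mul_pow_irreducible hϖ' hirr'
  haveI : Module.Flat R B := flat' R B hinjB
  haveI : Module.Flat R R' := flat' R R' hinj
  haveI : Module.FaithfullyFlat R R' := Module.FaithfullyFlat.of_flat_of_isLocalHom
  haveI : IsLocalHom (algebraMap B (B ⊗[R] R')) := inferInstance
  have hinjBB' : Function.Injective (algebraMap B (B ⊗[R] R')) :=
    Algebra.TensorProduct.includeLeft_injective (S := B) hinj
  have hinjB' : Function.Injective (algebraMap R (B ⊗[R] R')) := by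
    rw [IsScalarTower.algebraMap_eq R B (B ⊗[R] R')]
    exact hinjBB'.comp hinjB
  -- the elements `c` (image of the uniformizer of `R`) and `p` (image of the uniformizer of `R'`)
  obtain ⟨c, hcdef⟩ : ∃ c : B ⊗[R] R', c = algebraMap R (B ⊗[R] R') ϖ := ⟨_, rfl⟩
  obtain ⟨p, hpdef⟩ : ∃ p : B ⊗[R] R', p = (1 : B) ⊗ₜ[R] π' := ⟨_, rfl⟩
  have hc1 : c = algebraMap B (B ⊗[R] R') (algebraMap R B ϖ) := by
    rw [hcdef, IsScalarTower.algebraMap_apply R B (B ⊗[R] R')]
  have hc2 : c = ((1 : B) ⊗ₜ[R] (u : R')) * p ^ e := by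
    have h1 : ((1 : B) ⊗ₜ[R] (u : R')) * p ^ e = (1 : B) ⊗ₜ[R] (algebraMap R R' ϖ) := by
      rw [hpdef, Algebra.TensorProduct.tmul_pow, Algebra.TensorProduct.tmul_mul_tmul, one_pow,
        one_mul, ← hu]
    rw [h1, hc1, Algebra.TensorProduct.algebraMap_apply]
    calc (algebraMap R B ϖ) ⊗ₜ[R] (1 : R') = (ϖ • (1 : B)) ⊗ₜ[R] (1 : R') := by
          rw [Algebra.algebraMap_eq_smul_one]
      _ = (1 : B) ⊗ₜ[R] (ϖ • (1 : R')) := TensorProduct.smul_tmul _ _ _
      _ = (1 : B) ⊗ₜ[R] (algebraMap R R' ϖ) := by rw [← Algebra.algebraMap_eq_smul_one]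
  have hu1 : IsUnit ((1 : B) ⊗ₜ[R] (u : R')) :=
    (u.isUnit.map (Algebra.TensorProduct.includeRight (R := R) (A := B) (B := R')))
  have hcnu : ¬ IsUnit c := by
    intro h
    rw [hc1] at h
    exact hirrB.not_isUnit (isUnit_of_map_unit (algebraMap B (B ⊗[R] R')) _ h)
  have hpnu : ¬ IsUnit p := fun h => hcnu (hc2 ▸ hu1.mul (h.pow e))
  have hc0 : c ≠ 0 := by
    intro h
    rw [hcdef] at h
    exact hirr.ne_zero (hinjB' (by rw [h, map_zero]))
  have hp0 : p ≠ 0 := by
    intro h
    rcases Nat.eq_zero_or_pos e with he | he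
    · apply hcnu
      rw [hc2, he, pow_zero, mul_one]
      exact hu1
    · apply hc0
      rw [hc2, h, zero_pow he.ne', mul_zero]
  -- `span {p}` is a maximal ideal
  have hpne : Ideal.span {p} ≠ (⊤ : Ideal (B ⊗[R] R')) := by
    intro h
    exact hpnu (Ideal.span_singleton_eq_top.1 h)
  have hcp : c ∈ Ideal.span {p} := by
    rw [hc2]
    rcases Nat.eq_zero_or_pos e with he | he
    · exfalso
      apply hcnu
      rw [hc2, he, pow_zero, mul_one]
      exact hu1
    · refine Ideal.mul_mem_left _ _ ?_
      exact Ideal.pow_mem_of_mem _ (Ideal.mem_span_singleton_self p) e he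
  have hP₀ : (Ideal.span {p}).IsMaximal := by
    haveI : Nontrivial ((B ⊗[R] R') ⧸ Ideal.span {p}) := Ideal.Quotient.nontrivial_iff.2 hpne
    let q : B →+* (B ⊗[R] R') ⧸ Ideal.span {p} :=
      (Ideal.Quotient.mk _).comp (algebraMap B (B ⊗[R] R'))
    have hq : Function.Surjective q := by
      intro z
      obtain ⟨z, rfl⟩ := Ideal.Quotient.mk_surjective z
      induction z using TensorProduct.induction_on with
      | zero => exact ⟨0, map_zero _⟩
      | tmul b r' =>
        obtain ⟨r, hr⟩ := residue_surj R R' hinj r'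
        rw [hirr'.maximalIdeal_eq, Ideal.mem_span_singleton'] at hr
        obtain ⟨t, ht⟩ := hr
        refine ⟨r • b, ?_⟩
        change Ideal.Quotient.mk _ (algebraMap B (B ⊗[R] R') (r • b)) = _
        rw [Ideal.Quotient.eq, Algebra.TensorProduct.algebraMap_apply, Ideal.mem_span_singleton']
        refine ⟨- (b ⊗ₜ[R] t), ?_⟩
        have h1 : r' = t * π' + algebraMap R R' r := by rw [ht]; ring
        rw [hpdef, neg_mul, Algebra.TensorProduct.tmul_mul_tmul, mul_one, h1,
          TensorProduct.tmul_add, Algebra.algebraMap_eq_smul_one (A := R'),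
          ← TensorProduct.smul_tmul]
        simp
      | add x y hx hy =>
        obtain ⟨a, ha⟩ := hx
        obtain ⟨b, hb⟩ := hy
        exact ⟨a + b, by rw [map_add, ha, hb, map_add]⟩
    have hker : RingHom.ker q = IsLocalRing.maximalIdeal B := by
      apply le_antisymm
      · exact IsLocalRing.le_maximalIdeal (RingHom.ker_ne_top q)
      · rw [hmaxB, Ideal.span_le, Set.singleton_subset_iff, SetLike.mem_coe, RingHom.mem_ker]
        change Ideal.Quotient.mk _ (algebraMap B (B ⊗[R] R') (algebraMap R B ϖ)) = 0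
        rw [← hc1, Ideal.Quotient.eq_zero_iff_mem]
        exact hcp
    have hfld : IsField ((B ⊗[R] R') ⧸ Ideal.span {p}) := by
      have h1 : IsField (B ⧸ RingHom.ker q) := by
        rw [hker]
        exact (Ideal.Quotient.maximal_ideal_iff_isField_quotient _).1 inferInstance
      exact (RingHom.quotientKerEquivOfSurjective hq).symm.toMulEquiv.isField h1
    exact Ideal.Quotient.maximal_of_isField _ hfld
  -- every nonzero element divides a power of `c`
  have hT := isField_fractionRing_tensor_tensor R B hinjB hmax hdom R' hinj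
  have hdiv : ∀ x : B ⊗[R] R', x ≠ 0 → ∃ y : B ⊗[R] R', ∃ n : ℕ, x * y = c ^ n := by
    intro x hx
    obtain ⟨y, r, hr0, hxy⟩ := exists_mul_eq_algebraMap R (B ⊗[R] R') hinjB' hT x hx
    obtain ⟨n, v, hv⟩ := IsDiscreteValuationRing.eq_unit_mul_pow_irreducible hr0 hirr
    refine ⟨y * algebraMap R (B ⊗[R] R') (↑v⁻¹ : R), n, ?_⟩
    rw [← mul_assoc, hxy, hv, map_mul, map_pow, ← hcdef]
    have h1 : algebraMap R (B ⊗[R] R') (↑v : R) * algebraMap R (B ⊗[R] R') (↑v⁻¹ : R) = 1 := by
      rw [← map_mul, Units.mul_inv, map_one]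
    calc algebraMap R (B ⊗[R] R') (↑v : R) * c ^ n * algebraMap R (B ⊗[R] R') (↑v⁻¹ : R)
        = (algebraMap R (B ⊗[R] R') (↑v : R) * algebraMap R (B ⊗[R] R') (↑v⁻¹ : R)) * c ^ n := by
          ring
      _ = c ^ n := by rw [h1, one_mul]
  -- the primes are `⊥` and `span {p}`
  have hprime : ∀ P : Ideal (B ⊗[R] R'), P.IsPrime → P = ⊥ ∨ P = Ideal.span {p} := by
    intro P hP
    by_cases hcP : c ∈ P
    · right
      have hpP : p ∈ P := by
        rw [hc2] at hcP
        rcases hP.mem_or_mem hcP with h | h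
        · exact absurd (Ideal.eq_top_of_isUnit_mem _ h hu1) hP.ne_top
        · exact hP.mem_of_pow_mem e h
      have hle : Ideal.span {p} ≤ P := by
        rw [Ideal.span_le, Set.singleton_subset_iff]
        exact hpP
      exact (hP₀.eq_of_le hP.ne_top hle).symm
    · left
      rw [eq_bot_iff]
      intro x hx
      rw [Ideal.mem_bot]
      by_contra hx0
      obtain ⟨y, n, hxy⟩ := hdiv x hx0
      apply hcP
      have : c ^ n ∈ P := hxy ▸ P.mul_mem_right y hx
      exact hP.mem_of_pow_mem n this
  haveI : IsPrincipalIdealRing (B ⊗[R] R') := by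
    refine IsPrincipalIdealRing.of_prime (fun P hP => ?_)
    rcases hprime P hP with h | h
    · rw [h]
      exact bot_isPrincipal
    · rw [h]
      exact ⟨⟨p, rfl⟩⟩
  have hspan0 : Ideal.span {p} ≠ (⊥ : Ideal (B ⊗[R] R')) := by
    intro h
    apply hp0
    rw [← Ideal.span_singleton_eq_bot]
    exact h
  haveI : IsLocalRing (B ⊗[R] R') := by
    refine IsLocalRing.of_unique_max_ideal ⟨Ideal.span {p}, hP₀, fun M hM => ?_⟩
    rcases hprime M hM.isPrime with h | h
    · exfalso
      have h2 : Ideal.span {p} = M := (hM.eq_of_le hpne (h ▸ bot_le)).symm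
      exact hspan0 (h2.trans h)
    · exact h
  refine { not_a_field' := ?_ }
  rw [← IsLocalRing.eq_maximalIdeal hP₀]
  exact hspan0

end Main

end Groth.Agent.Lib.Lead.ModA6
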