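import Mathlib

set_option backward.isDefEq.respectTransparency.types false
set_option autoImplicit false
set_option synthInstance.maxHeartbeats 400000
set_option maxHeartbeats 1000000
set_option linter.style.haveILetI false
set_option linter.unusedSectionVars false

universe v u
open CategoryTheory CategoryTheory.Limits
open MonoidalCategory CartesianMonoidalCategory MonObj

namespace Groth.Agent.Lead.MonUnit

section Cat

variable {C : Type u} [Category.{v} C] [CartesianMonoidalCategory C] {M : C} [MonObj M]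

/-- left translation by a `T`-point of `M`, as an endomorphism of `T ⊗ M` over `T` -/
def Lm {T : C} (m : T ⟶ M) : T ⊗ M ⟶ T ⊗ M := lift (fst T M) ((fst T M ≫ m) * snd T M)

/-- right translation -/
def Rm {T : C} (m : T ⟶ M) : T ⊗ M ⟶ T ⊗ M := lift (fst T M) (snd T M * (fst T M ≫ m))

variable {T : C} (m n : T ⟶ M)

@[reassoc (attr := simp)]
theorem Lm_fst : Lm m ≫ fst T M = fst T M := lift_fst _ _

@[reassoc (attr := simp)]
theorem Lm_snd : Lm m ≫ snd T M = (fst T M ≫ m) * snd T M := lift_snd _ _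

@[reassoc (attr := simp)]
theorem Rm_fst : Rm m ≫ fst T M = fst T M := lift_fst _ _

@[reassoc (attr := simp)]
theorem Rm_snd : Rm m ≫ snd T M = snd T M * (fst T M ≫ m) := lift_snd _ _

theorem Lm_mul : Lm (m * n) = Lm n ≫ Lm m := by
  apply CartesianMonoidalCategory.hom_ext
  · simp
  · rw [Lm_snd, Category.assoc, Lm_snd, MonObj.comp_mul, MonObj.comp_mul, Lm_snd, Lm_fst_assoc,
      _root_.mul_assoc]

theorem Rm_mul : Rm (m * n) = Rm m ≫ Rm n := by
  apply CartesianMonoidalCategory.hom_ext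
  · simp
  · rw [Rm_snd, Category.assoc, Rm_snd, MonObj.comp_mul, MonObj.comp_mul, Rm_snd, Rm_fst_assoc,
      _root_.mul_assoc]

theorem Lm_one : Lm (1 : T ⟶ M) = 𝟙 _ := by
  apply CartesianMonoidalCategory.hom_ext
  · simp
  · rw [Lm_snd, MonObj.comp_one, _root_.one_mul, Category.id_comp]

theorem Rm_one : Rm (1 : T ⟶ M) = 𝟙 _ := by
  apply CartesianMonoidalCategory.hom_ext
  · simp
  · rw [Rm_snd, MonObj.comp_one, _root_.mul_one, Category.id_comp]

theorem isIso_Lm_of_isUnit (h : IsUnit m) : IsIso (Lm m) := by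
  obtain ⟨u, rfl⟩ := h
  refine ⟨⟨Lm (↑u⁻¹ : T ⟶ M), ?_, ?_⟩⟩
  · rw [← Lm_mul, Units.inv_mul, Lm_one]
  · rw [← Lm_mul, Units.mul_inv, Lm_one]

theorem isIso_Rm_of_isUnit (h : IsUnit m) : IsIso (Rm m) := by
  obtain ⟨u, rfl⟩ := h
  refine ⟨⟨Rm (↑u⁻¹ : T ⟶ M), ?_, ?_⟩⟩
  · rw [← Rm_mul, Units.mul_inv, Rm_one]
  · rw [← Rm_mul, Units.inv_mul, Rm_one]

theorem exists_right_inv_of_isIso_Lm [IsIso (Lm m)] : ∃ m' : T ⟶ M, m * m' = 1 := by
  let s : T ⟶ T ⊗ M := lift (𝟙 T) (1 : T ⟶ M) ≫ inv (Lm m)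
  have hs : s ≫ Lm m = lift (𝟙 T) (1 : T ⟶ M) := by
    simp only [s, Category.assoc, IsIso.inv_hom_id, Category.comp_id]
  have hfst : s ≫ fst T M = 𝟙 T := by
    have h1 : s ≫ Lm m ≫ fst T M = 𝟙 T := by rw [← Category.assoc, hs, lift_fst]
    rwa [Lm_fst] at h1
  refine ⟨s ≫ snd T M, ?_⟩
  have h2 : s ≫ Lm m ≫ snd T M = 1 := by rw [← Category.assoc, hs, lift_snd]
  rw [Lm_snd, MonObj.comp_mul, ← Category.assoc, hfst, Category.id_comp] at h2
  exact h2

theorem exists_left_inv_of_isIso_Rm [IsIso (Rm m)] : ∃ m' : T ⟶ M, m' * m = 1 := by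
  let s : T ⟶ T ⊗ M := lift (𝟙 T) (1 : T ⟶ M) ≫ inv (Rm m)
  have hs : s ≫ Rm m = lift (𝟙 T) (1 : T ⟶ M) := by
    simp only [s, Category.assoc, IsIso.inv_hom_id, Category.comp_id]
  have hfst : s ≫ fst T M = 𝟙 T := by
    have h1 : s ≫ Rm m ≫ fst T M = 𝟙 T := by rw [← Category.assoc, hs, lift_fst]
    rwa [Rm_fst] at h1
  refine ⟨s ≫ snd T M, ?_⟩
  have h2 : s ≫ Rm m ≫ snd T M = 1 := by rw [← Category.assoc, hs, lift_snd]
  rw [Rm_snd, MonObj.comp_mul, ← Category.assoc, hfst, Category.id_comp] at h2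
  exact h2

theorem isUnit_of_isIso (hL : IsIso (Lm m)) (hR : IsIso (Rm m)) : IsUnit m := by
  obtain ⟨a, ha⟩ := exists_right_inv_of_isIso_Lm m
  obtain ⟨b, hb⟩ := exists_left_inv_of_isIso_Rm m
  have hab : b = a := by
    calc b = b * (m * a) := by rw [ha, _root_.mul_one]
      _ = (b * m) * a := (_root_.mul_assoc _ _ _).symm
      _ = a := by rw [hb, _root_.one_mul]
  subst hab
  exact ⟨⟨m, b, ha, hb⟩, rfl⟩

theorem isUnit_iff_isIso : IsUnit m ↔ IsIso (Lm m) ∧ IsIso (Rm m) :=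
  ⟨fun h => ⟨isIso_Lm_of_isUnit m h, isIso_Rm_of_isUnit m h⟩, fun h => isUnit_of_isIso m h.1 h.2⟩

variable {T₀ : C} (jt : T₀ ⟶ T)

theorem whisker_Lm : (jt ▷ M) ≫ Lm m = Lm (jt ≫ m) ≫ (jt ▷ M) := by
  apply CartesianMonoidalCategory.hom_ext
  · simp
  · rw [Category.assoc, Lm_snd, MonObj.comp_mul, Category.assoc, whiskerRight_snd,
      whiskerRight_fst_assoc, ← Category.assoc, Lm_snd, Category.assoc]

theorem whisker_Rm : (jt ▷ M) ≫ Rm m = Rm (jt ≫ m) ≫ (jt ▷ M) := by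
  apply CartesianMonoidalCategory.hom_ext
  · simp
  · rw [Category.assoc, Rm_snd, MonObj.comp_mul, Category.assoc, whiskerRight_snd,
      whiskerRight_fst_assoc, ← Category.assoc, Rm_snd, Category.assoc]

theorem isPullback_whiskerRight_fst : IsPullback (jt ▷ M) (fst T₀ M) (fst T M) jt := by
  refine ⟨⟨whiskerRight_fst _ _⟩, ⟨PullbackCone.IsLimit.mk _
    (fun s => lift s.snd (s.fst ≫ snd T M)) ?_ ?_ ?_⟩⟩
  · intro s
    apply CartesianMonoidalCategory.hom_ext
    · rw [Category.assoc, whiskerRight_fst, lift_fst_assoc]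
      exact s.condition.symm
    · rw [Category.assoc, whiskerRight_snd, lift_snd]
  · intro s
    exact lift_fst _ _
  · intro s l h1 h2
    apply CartesianMonoidalCategory.hom_ext
    · rw [lift_fst]; exact h2
    · rw [lift_snd, ← h1, Category.assoc, whiskerRight_snd]

theorem isPullback_Lm : IsPullback (jt ▷ M) (Lm (jt ≫ m)) (Lm m) (jt ▷ M) := by
  have hbot := isPullback_whiskerRight_fst (M := M) jt
  have hbig : IsPullback (jt ▷ M) (Lm (jt ≫ m) ≫ fst T₀ M) (Lm m ≫ fst T M) jt := by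
    rw [Lm_fst, Lm_fst]; exact hbot
  exact IsPullback.of_bot hbig (whisker_Lm m jt) hbot

theorem isPullback_Rm : IsPullback (jt ▷ M) (Rm (jt ≫ m)) (Rm m) (jt ▷ M) := by
  have hbot := isPullback_whiskerRight_fst (M := M) jt
  have hbig : IsPullback (jt ▷ M) (Rm (jt ≫ m) ≫ fst T₀ M) (Rm m ≫ fst T M) jt := by
    rw [Rm_fst, Rm_fst]; exact hbot
  exact IsPullback.of_bot hbig (whisker_Rm m jt) hbot

end Cat

end Groth.Agent.Lead.MonUnit
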