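import Mathlib
import Groth.Agent.Lib.Lead.MonUnitA
import Groth.Agent.Lib.Helper3.FibCrit2

set_option backward.isDefEq.respectTransparency.types false
set_option autoImplicit false
set_option synthInstance.maxHeartbeats 400000
set_option maxHeartbeats 1000000
set_option linter.style.haveILetI false
set_option linter.unusedSectionVars false

universe u
open CategoryTheory CategoryTheory.Limits AlgebraicGeometry
open MonoidalCategory CartesianMonoidalCategory MonObj

namespace Groth.Agent.Lead.MonUnit

section Sch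

variable {S : Scheme.{u}} {M T T₀ : Over S} [MonObj M] (jt : T₀ ⟶ T)

/-- An endomorphism of `T ⊗ M` over `T`, with `M` flat and locally of finite presentation,
whose restriction along `jt : T₀ ⟶ T` is an isomorphism, is an isomorphism provided every residue
field point of `T` factors through `jt`. -/
theorem isIso_of_restrict [Flat M.hom] [LocallyOfFinitePresentation M.hom]
    (φ : T ⊗ M ⟶ T ⊗ M) (φ₀ : T₀ ⊗ M ⟶ T₀ ⊗ M) [IsIso φ₀]
    (hfst : φ ≫ fst T M = fst T M)
    (hpb : IsPullback (jt ▷ M) φ₀ φ (jt ▷ M))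
    (hfac : ∀ t : T.left, ∃ r : Spec (T.left.residueField t) ⟶ T₀.left,
      r ≫ jt.left = T.left.fromSpecResidueField t) : IsIso φ := by
  let g : (T ⊗ M).left ⟶ T.left := (fst T M).left
  have hg : g = pullback.fst T.hom M.hom := rfl
  haveI : Flat g := by rw [hg]; infer_instance
  haveI : LocallyOfFinitePresentation g := by rw [hg]; infer_instance
  have w : φ.left ≫ g = g := by
    rw [← Over.comp_left, hfst]
  have hpbS : IsPullback (jt ▷ M).left φ₀.left φ.left (jt ▷ M).left :=
    hpb.map (Over.forget S)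
  have hbotS : IsPullback (jt ▷ M).left (fst T₀ M).left g jt.left :=
    (isPullback_whiskerRight_fst (M := M) jt).map (Over.forget S)
  haveI : IsIso φ₀.left := inferInstanceAs (IsIso ((Over.forget S).map φ₀))
  haveI : IsIso φ.left := by
    refine ((Groth.Agent.Helper3.FibCrit.S2759_main g g φ.left w).2).mpr ?_
    intro t
    obtain ⟨r, hr⟩ := hfac t
    -- factor the fibre inclusion through `jt ▷ M`
    have hcond : g.fiberι t ≫ g = (g.fiberToSpecResidueField t ≫ r) ≫ jt.left := by
      rw [Category.assoc, hr]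
      exact pullback.condition
    let a : g.fiber t ⟶ (T₀ ⊗ M).left := hbotS.lift (g.fiberι t) (g.fiberToSpecResidueField t ≫ r) hcond
    have ha : a ≫ (jt ▷ M).left = g.fiberι t := hbotS.lift_fst _ _ _
    -- inverse of the projection
    have hl : (a ≫ inv φ₀.left ≫ (jt ▷ M).left) ≫ φ.left = 𝟙 _ ≫ g.fiberι t := by
      rw [Category.assoc, Category.assoc, hpbS.w, IsIso.inv_hom_id_assoc, ha, Category.id_comp]
    refine ⟨⟨pullback.lift (a ≫ inv φ₀.left ≫ (jt ▷ M).left) (𝟙 _) hl, ?_, ?_⟩⟩
    · apply pullback.hom_ext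
      · rw [Category.assoc, pullback.lift_fst, Category.id_comp]
        -- use that the square is cartesian
        have hc : pullback.fst φ.left (g.fiberι t) ≫ φ.left =
            (pullback.snd φ.left (g.fiberι t) ≫ a) ≫ (jt ▷ M).left := by
          rw [Category.assoc, ha]; exact pullback.condition
        obtain ⟨uu, hu1, hu2⟩ : ∃ uu : pullback φ.left (g.fiberι t) ⟶ (T₀ ⊗ M).left,
            uu ≫ (jt ▷ M).left = pullback.fst φ.left (g.fiberι t) ∧
            uu ≫ φ₀.left = pullback.snd φ.left (g.fiberι t) ≫ a :=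
          ⟨hpbS.lift _ _ hc, hpbS.lift_fst _ _ _, hpbS.lift_snd _ _ _⟩
        have hu3 : uu = (pullback.snd φ.left (g.fiberι t) ≫ a) ≫ inv φ₀.left := by
          rw [← hu2, Category.assoc, IsIso.hom_inv_id, Category.comp_id]
        rw [← hu1, hu3, Category.assoc, Category.assoc]
      · rw [Category.assoc, pullback.lift_snd, Category.id_comp, Category.comp_id]
    · exact pullback.lift_snd _ _ _
  haveI : IsIso ((Over.forget S).map φ) := (inferInstance : IsIso φ.left)
  exact isIso_of_reflects_iso φ (Over.forget S)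

theorem isUnit_of_isUnit_restrict [Flat M.hom] [LocallyOfFinitePresentation M.hom]
    (m : T ⟶ M) (h0 : IsUnit (jt ≫ m))
    (hfac : ∀ t : T.left, ∃ r : Spec (T.left.residueField t) ⟶ T₀.left,
      r ≫ jt.left = T.left.fromSpecResidueField t) : IsUnit m := by
  haveI := isIso_Lm_of_isUnit _ h0
  haveI := isIso_Rm_of_isUnit _ h0
  exact isUnit_of_isIso m
    (isIso_of_restrict jt (Lm m) (Lm (jt ≫ m)) (Lm_fst m) (isPullback_Lm m jt) hfac)
    (isIso_of_restrict jt (Rm m) (Rm (jt ≫ m)) (Rm_fst m) (isPullback_Rm m jt) hfac)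

end Sch

section Nil

theorem exists_fac_residue (C : Type u) [CommRing C] (I : Ideal C) (hI : I ^ 2 = ⊥)
    (t : Spec (CommRingCat.of C)) :
    ∃ r : Spec ((Spec (CommRingCat.of C)).residueField t) ⟶ Spec (CommRingCat.of (C ⧸ I)),
      r ≫ Spec.map (CommRingCat.ofHom (Ideal.Quotient.mk I)) =
        (Spec (CommRingCat.of C)).fromSpecResidueField t := by
  let ψ : CommRingCat.of C ⟶ (Spec (CommRingCat.of C)).residueField t :=
    Spec.preimage ((Spec (CommRingCat.of C)).fromSpecResidueField t)
  have hψ : Spec.map ψ = (Spec (CommRingCat.of C)).fromSpecResidueField t := Spec.map_preimage _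
  have hker : ∀ x ∈ I, ψ.hom x = 0 := by
    intro x hx
    have hx2 : x ^ 2 ∈ I ^ 2 := Ideal.pow_mem_pow hx 2
    rw [hI, Ideal.mem_bot] at hx2
    have h2 : ψ.hom x ^ 2 = 0 := by rw [← map_pow, hx2, map_zero]
    exact pow_eq_zero_iff (two_ne_zero) |>.mp h2
  let ψ' : C ⧸ I →+* (Spec (CommRingCat.of C)).residueField t := Ideal.Quotient.lift I ψ.hom hker
  refine ⟨Spec.map (CommRingCat.ofHom ψ'), ?_⟩
  rw [← Spec.map_comp, ← hψ]
  congr 1

end Nil

end Groth.Agent.Lead.MonUnit
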