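import Mathlib
import Groth.Agent.Lib.Lead.MonUnitA
import Groth.Agent.Lib.Lead.MonUnitB

set_option backward.isDefEq.respectTransparency.types false
set_option autoImplicit false
set_option synthInstance.maxHeartbeats 400000
set_option maxHeartbeats 1000000
set_option linter.style.haveILetI false
set_option linter.unusedSectionVars false

universe u
open CategoryTheory CategoryTheory.Limits AlgebraicGeometry
open MonoidalCategory CartesianMonoidalCategory MonObj

namespace Groth.Agent.Lead.MonUnit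

section Lft

variable {S : Scheme.{u}} (M G : Over S) [MonObj M] (i : G ⟶ M) [Mono i]

/-- the units functor is represented by a scheme locally of finite type -/
theorem locallyOfFiniteType_of_units [LocallyOfFiniteType M.hom]
    (hi : ∀ (T : Over S) (m : T ⟶ M), (∃ g : T ⟶ G, g ≫ i = m) ↔ IsUnit m) :
    LocallyOfFiniteType G.hom := by
  -- the scheme of pairs of mutually inverse elements
  let w : M ⊗ M ⟶ M ⊗ M := lift (fst M M * snd M M) (snd M M * fst M M)
  let e2 : 𝟙_ (Over S) ⟶ M ⊗ M := lift (1 : 𝟙_ (Over S) ⟶ M) 1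
  let Z : Over S := pullback w e2
  let p : Z ⟶ M ⊗ M := pullback.fst w e2
  have hp : p ≫ w = pullback.snd w e2 ≫ e2 := pullback.condition
  have hxy : (p ≫ fst M M) * (p ≫ snd M M) = 1 := by
    have h1 : p ≫ w ≫ fst M M = pullback.snd w e2 ≫ e2 ≫ fst M M := by
      rw [← Category.assoc, hp, Category.assoc]
    rw [lift_fst, lift_fst, MonObj.comp_mul, MonObj.comp_one] at h1
    exact h1
  have hyx : (p ≫ snd M M) * (p ≫ fst M M) = 1 := by
    have h1 : p ≫ w ≫ snd M M = pullback.snd w e2 ≫ e2 ≫ snd M M := by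
      rw [← Category.assoc, hp, Category.assoc]
    rw [lift_snd, lift_snd, MonObj.comp_mul, MonObj.comp_one] at h1
    exact h1
  have hux : IsUnit (p ≫ fst M M) := ⟨⟨p ≫ fst M M, p ≫ snd M M, hxy, hyx⟩, rfl⟩
  obtain ⟨b, hb⟩ := (hi Z (p ≫ fst M M)).mpr hux
  -- the map from `G`
  have hui : IsUnit i := (hi G i).mp ⟨𝟙 G, Category.id_comp i⟩
  obtain ⟨ui, hui'⟩ := hui
  let i' : G ⟶ M := ↑ui⁻¹
  have h1 : i * i' = 1 := by rw [← hui']; exact ui.mul_inv
  have h2 : i' * i = 1 := by rw [← hui']; exact ui.inv_mul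
  have ha : lift i i' ≫ w = toUnit G ≫ e2 := by
    apply CartesianMonoidalCategory.hom_ext
    · rw [Category.assoc, lift_fst, MonObj.comp_mul, lift_fst, lift_snd, h1, Category.assoc,
        lift_fst, MonObj.comp_one]
    · rw [Category.assoc, lift_snd, MonObj.comp_mul, lift_fst, lift_snd, h2, Category.assoc,
        lift_snd, MonObj.comp_one]
  let a : G ⟶ Z := pullback.lift (lift i i') (toUnit G) ha
  have hab : a ≫ b = 𝟙 G := by
    rw [← cancel_mono i, Category.assoc, hb, Category.id_comp, ← Category.assoc]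
    have : a ≫ p = lift i i' := pullback.lift_fst _ _ _
    rw [this, lift_fst]
  -- scheme level
  have hab' : a.left ≫ b.left = 𝟙 G.left := by
    rw [← Over.comp_left, hab, Over.id_left]
  haveI : IsImmersion (a.left ≫ b.left) := by rw [hab']; infer_instance
  haveI : IsImmersion a.left := IsImmersion.of_comp a.left b.left
  -- `Z` is locally of finite type
  have hpb : IsPullback p.left (pullback.snd w e2).left w.left e2.left :=
    (IsPullback.of_hasPullback w e2).map (Over.forget S)
  haveI : IsImmersion e2.left := by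
    haveI : IsImmersion (e2.left ≫ (M ⊗ M).hom) := by
      rw [Over.w e2]
      show IsImmersion (𝟙 S)
      infer_instance
    exact IsImmersion.of_comp e2.left (M ⊗ M).hom
  haveI : IsImmersion p.left :=
    MorphismProperty.of_isPullback (P := @IsImmersion) hpb.flip inferInstance
  haveI : LocallyOfFiniteType (M ⊗ M).hom := by
    rw [Over.tensorObj_hom]
    infer_instance
  have hG : G.hom = a.left ≫ p.left ≫ (M ⊗ M).hom := by
    rw [Over.w p, Over.w a]
  rw [hG]
  infer_instance

end Lft

section Et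

variable {S : Scheme.{u}} (M G : Over S) [MonObj M] (i : G ⟶ M) [Mono i]

theorem range_SpecMap_mk_of_sq_zero (C : Type u) [CommRing C] (I : Ideal C) (hI : I ^ 2 = ⊥)
    (x : Spec (CommRingCat.of C)) :
    ∃ x₀ : Spec (CommRingCat.of (C ⧸ I)),
      Spec.map (CommRingCat.ofHom (Ideal.Quotient.mk I)) x₀ = x := by
  have hle : I ≤ nilradical C := by
    intro y hy
    have hy2 : y ^ 2 ∈ I ^ 2 := Ideal.pow_mem_pow hy 2
    rw [hI, Ideal.mem_bot] at hy2
    exact ⟨2, hy2⟩
  obtain ⟨x₀, hx₀⟩ := (PrimeSpectrum.comap_quotientMk_bijective_of_le_nilradical hle).2 x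
  exact ⟨x₀, hx₀⟩

theorem etale_of_units [Flat M.hom] [LocallyOfFinitePresentation M.hom]
    [LocallyOfFinitePresentation i.left]
    (hi : ∀ (T : Over S) (m : T ⟶ M), (∃ g : T ⟶ G, g ≫ i = m) ↔ IsUnit m) :
    Etale i.left := by
  haveI : Mono i.left := inferInstance
  refine ⟨fun {U} hU {V} hV e => ?_⟩
  letI : Algebra Γ(M.left, U) Γ(G.left, V) := (i.left.appLE U V e).hom.toAlgebra
  show Algebra.Etale Γ(M.left, U) Γ(G.left, V)
  have hfp : Algebra.FinitePresentation Γ(M.left, U) Γ(G.left, V) :=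
    HasRingHomProperty.appLE (P := @LocallyOfFinitePresentation) i.left inferInstance
      ⟨U, hU⟩ ⟨V, hV⟩ e
  refine { formallyEtale := ?_, finitePresentation := hfp }
  rw [Algebra.FormallyEtale.iff_comp_bijective]
  intro C _ _ I hI
  -- the `C`-point of `M`
  let αC : Γ(M.left, U) ⟶ CommRingCat.of C := CommRingCat.ofHom (algebraMap Γ(M.left, U) C)
  let tC : Spec (CommRingCat.of C) ⟶ M.left := Spec.map αC ≫ hU.fromSpec
  let q : Spec (CommRingCat.of (C ⧸ I)) ⟶ Spec (CommRingCat.of C) :=
    Spec.map (CommRingCat.ofHom (Ideal.Quotient.mk I))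
  let T : Over S := Over.mk (tC ≫ M.hom)
  let T₀ : Over S := Over.mk (q ≫ tC ≫ M.hom)
  let m : T ⟶ M := Over.homMk tC rfl
  let jt : T₀ ⟶ T := Over.homMk q rfl
  have hkey : ∀ (D : Type u) [CommRing D] [Algebra Γ(M.left, U) D]
      (ψ : Γ(G.left, V) →ₐ[Γ(M.left, U)] D),
      (Spec.map (CommRingCat.ofHom ψ.toRingHom) ≫ hV.fromSpec) ≫ i.left =
        Spec.map (CommRingCat.ofHom (algebraMap Γ(M.left, U) D)) ≫ hU.fromSpec := by
    intro D _ _ ψ
    rw [Category.assoc, ← IsAffineOpen.SpecMap_appLE_fromSpec i.left hU hV e, ← Category.assoc,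
      ← Spec.map_comp]
    congr 2
    ext x
    exact ψ.commutes x
  constructor
  · intro ψ₁ ψ₂ _
    have h1 := hkey C ψ₁
    have h2 := hkey C ψ₂
    have h3 : Spec.map (CommRingCat.ofHom ψ₁.toRingHom) = Spec.map (CommRingCat.ofHom ψ₂.toRingHom) := by
      rw [← cancel_mono hV.fromSpec, ← cancel_mono i.left, h1, h2]
    have h4 := Spec.map_injective h3
    ext x
    have := congrArg (fun f => f.hom x) h4
    exact this
  · intro ψ₀
    have h0 := hkey (C ⧸ I) ψ₀
    have halg : Spec.map (CommRingCat.ofHom (algebraMap Γ(M.left, U) (C ⧸ I))) =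
        q ≫ Spec.map αC := by
      rw [← Spec.map_comp]; rfl
    let t₀l : Spec (CommRingCat.of (C ⧸ I)) ⟶ G.left :=
      Spec.map (CommRingCat.ofHom ψ₀.toRingHom) ≫ hV.fromSpec
    have ht₀ : t₀l ≫ i.left = q ≫ tC := by
      show (Spec.map (CommRingCat.ofHom ψ₀.toRingHom) ≫ hV.fromSpec) ≫ i.left = _
      rw [h0, halg, Category.assoc]
    let t₀ : T₀ ⟶ G := Over.homMk t₀l (by
      show t₀l ≫ G.hom = q ≫ tC ≫ M.hom
      rw [← Over.w i, ← Category.assoc, ht₀, Category.assoc])
    have ht₀i : t₀ ≫ i = jt ≫ m := Over.OverMorphism.ext ht₀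
    have hu0 : IsUnit (jt ≫ m) := (hi T₀ (jt ≫ m)).mp ⟨t₀, ht₀i⟩
    have hum : IsUnit m :=
      isUnit_of_isUnit_restrict jt m hu0 (fun t => exists_fac_residue C I hI t)
    obtain ⟨g, hg⟩ := (hi T m).mpr hum
    have hjg : jt ≫ g = t₀ := by rw [← cancel_mono i, Category.assoc, hg, ht₀i]
    have hjgl : q ≫ g.left = t₀l := congrArg (fun f => f.left) hjg
    have hrange : Set.range g.left ⊆ Set.range hV.fromSpec := by
      rintro _ ⟨x, rfl⟩
      obtain ⟨x₀, rfl⟩ := range_SpecMap_mk_of_sq_zero C I hI x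
      refine ⟨Spec.map (CommRingCat.ofHom ψ₀.toRingHom) x₀, ?_⟩
      have h1 : hV.fromSpec (Spec.map (CommRingCat.ofHom ψ₀.toRingHom) x₀) = t₀l x₀ := rfl
      have h2 : g.left (q x₀) = (q ≫ g.left) x₀ := rfl
      rw [h1]
      show t₀l x₀ = g.left (q x₀)
      rw [h2, hjgl]
    let g' : Spec (CommRingCat.of C) ⟶ Spec Γ(G.left, V) :=
      IsOpenImmersion.lift hV.fromSpec g.left hrange
    have hg' : g' ≫ hV.fromSpec = g.left := IsOpenImmersion.lift_fac _ _ _
    let ψ' : Γ(G.left, V) ⟶ CommRingCat.of C := Spec.preimage g'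
    have hψ' : Spec.map ψ' = g' := Spec.map_preimage _
    have hcomm : i.left.appLE U V e ≫ ψ' = αC := by
      apply Spec.map_injective
      rw [Spec.map_comp, ← cancel_mono hU.fromSpec, Category.assoc,
        IsAffineOpen.SpecMap_appLE_fromSpec i.left hU hV e, hψ', ← Category.assoc, hg']
      exact congrArg (fun f => f.left) hg
    have hlift : ψ' ≫ CommRingCat.ofHom (Ideal.Quotient.mk I) =
        CommRingCat.ofHom ψ₀.toRingHom := by
      apply Spec.map_injective
      rw [Spec.map_comp, ← cancel_mono hV.fromSpec, Category.assoc, hψ', hg']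
      exact hjgl
    refine ⟨{ toRingHom := ψ'.hom, commutes' := fun r => ?_ }, ?_⟩
    · exact congrArg (fun f => f.hom r) hcomm
    · ext x
      exact congrArg (fun f => f.hom x) hlift

end Et

section Main

theorem main18817 (k : Type u) [Field k]
    (M G : Over (Spec (CommRingCat.of k))) [MonObj M] [LocallyOfFiniteType M.hom]
    (i : G ⟶ M) [Mono i]
    (hi : ∀ (T : Over (Spec (CommRingCat.of k))) (m : T ⟶ M),
      (∃ g : T ⟶ G, g ≫ i = m) ↔ IsUnit m) :
    IsOpenImmersion i.left := by
  haveI : Subsingleton ↥(Spec (CommRingCat.of k)) :=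
    (inferInstance : Subsingleton (PrimeSpectrum k))
  haveI : IsIntegral (Spec (CommRingCat.of k)) := inferInstance
  haveI : Flat M.hom := inferInstance
  haveI : IsLocallyNoetherian (Spec (CommRingCat.of k)) := inferInstance
  haveI : LocallyOfFinitePresentation M.hom :=
    LocallyOfFinitePresentation.iff_locallyOfFiniteType.mpr inferInstance
  haveI : LocallyOfFiniteType G.hom := locallyOfFiniteType_of_units M G i hi
  haveI : LocallyOfFiniteType (i.left ≫ M.hom) := by rw [Over.w i]; infer_instance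
  haveI : LocallyOfFiniteType i.left := locallyOfFiniteType_of_comp i.left M.hom
  haveI : IsLocallyNoetherian M.left := LocallyOfFiniteType.isLocallyNoetherian M.hom
  haveI : LocallyOfFinitePresentation i.left :=
    LocallyOfFinitePresentation.iff_locallyOfFiniteType.mpr inferInstance
  haveI : Etale i.left := etale_of_units M G i hi
  haveI : Mono i.left := inferInstance
  exact IsOpenImmersion.of_flat_of_mono i.left

end Main

end Groth.Agent.Lead.MonUnit
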