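import Mathlib

/-!
# Isomorphisms of endomorphism algebras of finite projective faithful modules
-/

set_option autoImplicit false
set_option linter.unusedSectionVars false

namespace Groth.Agent.Lead.Morita

open TensorProduct Module

universe u v w

variable {R : Type u} [CommRing R] {F : Type v} {G : Type w}
  [AddCommGroup F] [Module R F] [AddCommGroup G] [Module R G]

/-- rank one operators -/
def theta (x : F) (l : Dual R F) : Module.End R F := l.smulRight x

@[simp] theorem theta_apply (x : F) (l : Dual R F) (v : F) : theta x l v = l v • x := rfl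

theorem comp_theta (f : Module.End R F) (x : F) (l : Dual R F) : f * theta x l = theta (f x) l := by
  ext v; simp

theorem theta_comp (f : Module.End R F) (x : F) (l : Dual R F) :
    theta x l * f = theta x (l ∘ₗ f) := by
  ext v; simp

theorem theta_add (x x' : F) (l : Dual R F) : theta (x + x') l = theta x l + theta x' l := by
  ext v; simp

theorem theta_smul (r : R) (x : F) (l : Dual R F) : theta (r • x) l = r • theta x l := by
  ext v
  show l v • (r • x) = r • (l v • x)
  rw [smul_comm]

/-- intertwiners `F → G` for `φ : End F ≃ End G` -/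
def Inter (φ : Module.End R F ≃ₐ[R] Module.End R G) : Submodule R (F →ₗ[R] G) where
  carrier := {ξ | ∀ f : Module.End R F, ξ ∘ₗ f = φ f ∘ₗ ξ}
  add_mem' := by
    intro a b ha hb f
    rw [LinearMap.add_comp, LinearMap.comp_add, ha f, hb f]
  zero_mem' := by intro f; simp
  smul_mem' := by
    intro c ξ hξ f
    rw [LinearMap.smul_comp, LinearMap.comp_smul, hξ f]

theorem mem_Inter {φ : Module.End R F ≃ₐ[R] Module.End R G} {ξ : F →ₗ[R] G} :
    ξ ∈ Inter φ ↔ ∀ f : Module.End R F, ξ ∘ₗ f = φ f ∘ₗ ξ := Iff.rfl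

theorem Inter_apply {φ : Module.End R F ≃ₐ[R] Module.End R G} (ξ : Inter φ)
    (f : Module.End R F) (v : F) : (ξ : F →ₗ[R] G) (f v) = φ f ((ξ : F →ₗ[R] G) v) :=
  LinearMap.congr_fun (ξ.2 f) v

/-- the intertwiner `v ↦ φ(θ_{v,μ}) w` -/
def xiOf (φ : Module.End R F ≃ₐ[R] Module.End R G) (m : Dual R F) : G →ₗ[R] Inter φ where
  toFun w := ⟨{ toFun := fun v => φ (theta v m) w
                map_add' := fun v v' => by rw [theta_add, map_add, LinearMap.add_apply]
                map_smul' := fun r v => by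
                  rw [theta_smul, map_smul, LinearMap.smul_apply, RingHom.id_apply] }, by
    intro f
    ext v
    simp only [LinearMap.comp_apply, LinearMap.coe_mk, AddHom.coe_mk]
    rw [← comp_theta, map_mul, Module.End.mul_apply]⟩
  map_add' w w' := by
    apply Subtype.ext
    ext v
    simp
  map_smul' r w := by
    apply Subtype.ext
    ext v
    simp

@[simp] theorem xiOf_apply (φ : Module.End R F ≃ₐ[R] Module.End R G) (m : Dual R F) (w : G)
    (v : F) : ((xiOf φ m w : Inter φ) : F →ₗ[R] G) v = φ (theta v m) w := rfl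

/-- evaluation `F ⊗ Inter φ → G` -/
def ev (φ : Module.End R F ≃ₐ[R] Module.End R G) : F ⊗[R] Inter φ →ₗ[R] G :=
  TensorProduct.lift (LinearMap.mk₂ R (fun v (ξ : Inter φ) => (ξ : F →ₗ[R] G) v)
    (fun v v' ξ => by simp) (fun r v ξ => by simp) (fun v ξ ξ' => by simp)
    (fun r v ξ => by simp))

@[simp] theorem ev_tmul (φ : Module.End R F ≃ₐ[R] Module.End R G) (v : F) (ξ : Inter φ) :
    ev φ (v ⊗ₜ ξ) = (ξ : F →ₗ[R] G) v := rfl

section dualbasis

variable {a : ℕ} (x : Fin a → F) (lam : Fin a → Dual R F) (hb : ∀ v, ∑ j, lam j v • x j = v)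

/-- the inverse of evaluation -/
def evInv (φ : Module.End R F ≃ₐ[R] Module.End R G) : G →ₗ[R] F ⊗[R] Inter φ :=
  ∑ j, (TensorProduct.mk R F (Inter φ) (x j)) ∘ₗ xiOf φ (lam j)

include hb in
theorem sum_theta : ∑ j, theta (x j) (lam j) = 1 := by
  ext v
  simp only [LinearMap.sum_apply, theta_apply, Module.End.one_apply]
  exact hb v

include hb in
theorem ev_evInv (φ : Module.End R F ≃ₐ[R] Module.End R G) (w : G) :
    ev φ (evInv x lam φ w) = w := by
  simp only [evInv, LinearMap.sum_apply, LinearMap.comp_apply, TensorProduct.mk_apply, map_sum,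
    ev_tmul, xiOf_apply]
  rw [← LinearMap.sum_apply, ← map_sum, sum_theta x lam hb, map_one, Module.End.one_apply]

include hb in
theorem evInv_ev (φ : Module.End R F ≃ₐ[R] Module.End R G) (z : F ⊗[R] Inter φ) :
    evInv x lam φ (ev φ z) = z := by
  induction z using TensorProduct.induction_on with
  | zero => simp
  | add z₁ z₂ h₁ h₂ => rw [map_add, map_add, h₁, h₂]
  | tmul v ξ =>
    simp only [evInv, LinearMap.sum_apply, LinearMap.comp_apply, TensorProduct.mk_apply, ev_tmul]
    have h1 : ∀ j, xiOf φ (lam j) ((ξ : F →ₗ[R] G) v) = lam j v • ξ := by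
      intro j
      apply Subtype.ext
      ext u
      simp only [xiOf_apply, Submodule.coe_smul, LinearMap.smul_apply]
      rw [← Inter_apply, theta_apply, map_smul]
    simp only [h1, TensorProduct.tmul_smul, TensorProduct.smul_tmul']
    rw [← TensorProduct.sum_tmul, hb v]

/-- `F ⊗ Inter φ ≃ G` -/
def evEquiv (φ : Module.End R F ≃ₐ[R] Module.End R G) : F ⊗[R] Inter φ ≃ₗ[R] G :=
  LinearEquiv.ofLinearMap (ev φ) (evInv x lam φ)
    (LinearMap.ext (ev_evInv x lam hb φ)) (LinearMap.ext (evInv_ev x lam hb φ))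

theorem evEquiv_apply (φ : Module.End R F ≃ₐ[R] Module.End R G) (z : F ⊗[R] Inter φ) :
    evEquiv x lam hb φ z = ev φ z := rfl

end dualbasis

section trace

variable {b : ℕ} (y : Fin b → F) (mu : Fin b → Dual R F) (ht : ∑ k, mu k (y k) = 1)

include ht in
theorem central_eq_smul (c : Module.End R F) (hc : ∀ f : Module.End R F, c * f = f * c) (v : F) :
    c v = (∑ k, mu k (c (y k))) • v := by
  have h1 : ∀ k, mu k (y k) • c v = mu k (c (y k)) • v := by
    intro k
    have := LinearMap.congr_fun (hc (theta v (mu k))) (y k)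
    simp only [Module.End.mul_apply, theta_apply, map_smul] at this
    exact this
  calc c v = (∑ k, mu k (y k)) • c v := by rw [ht, one_smul]
    _ = ∑ k, mu k (y k) • c v := Finset.sum_smul
    _ = ∑ k, mu k (c (y k)) • v := by simp only [h1]
    _ = _ := by rw [← Finset.sum_smul]

/-- the pairing `Inter φ × Inter φ⁻¹ → R` -/
def pair (φ : Module.End R F ≃ₐ[R] Module.End R G) : Inter φ →ₗ[R] Inter φ.symm →ₗ[R] R :=
  LinearMap.mk₂ R (fun ξ η => ∑ k, mu k ((η : G →ₗ[R] F) ((ξ : F →ₗ[R] G) (y k))))
    (fun ξ ξ' η => by simp [Finset.sum_add_distrib])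
    (fun r ξ η => by simp [Finset.mul_sum])
    (fun ξ η η' => by simp [Finset.sum_add_distrib])
    (fun r ξ η => by simp [Finset.mul_sum])

include ht in
theorem pair_spec (φ : Module.End R F ≃ₐ[R] Module.End R G) (ξ : Inter φ) (η : Inter φ.symm)
    (v : F) : (η : G →ₗ[R] F) ((ξ : F →ₗ[R] G) v) = pair y mu φ ξ η • v := by
  have hc : ∀ f : Module.End R F, ((η : G →ₗ[R] F) ∘ₗ (ξ : F →ₗ[R] G)) * f =
      f * ((η : G →ₗ[R] F) ∘ₗ (ξ : F →ₗ[R] G)) := by
    intro f
    ext u
    simp only [Module.End.mul_apply, LinearMap.comp_apply]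
    rw [Inter_apply ξ f u, Inter_apply η (φ f), AlgEquiv.symm_apply_apply]
  exact central_eq_smul y mu ht _ hc v

end trace

theorem exists_trace_one [Module.Finite R F] [Module.Projective R F] [Module.FaithfullyFlat R F] :
    ∃ (b : ℕ) (y : Fin b → F) (mu : Fin b → Dual R F), ∑ k, mu k (y k) = 1 := by
  obtain ⟨a, p, i, -, -, hpi⟩ := Module.Finite.exists_comp_eq_id_of_projective R F
  have hb : ∀ v : F, ∑ j, (i v j) • p (Pi.single j 1) = v := by
    intro v
    have h1 : p (i v) = v := LinearMap.congr_fun hpi v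
    conv_rhs => rw [← h1, pi_eq_sum_univ (i v)]
    rw [map_sum]
    refine Finset.sum_congr rfl fun j _ => ?_
    rw [← map_smul]
    congr 1
    ext l
    simp [Pi.single_apply, eq_comm]
  let τ : Ideal R := Ideal.span (Set.range fun q : Dual R F × F => q.1 q.2)
  have hτ : τ = ⊤ := by
    by_contra hne
    obtain ⟨m, hm, hle⟩ := Ideal.exists_le_maximal τ hne
    apply Module.FaithfullyFlat.submodule_ne_top (M := F) hm
    rw [eq_top_iff]
    intro v _
    rw [← hb v]
    refine Submodule.sum_mem _ fun j _ => ?_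
    refine Submodule.smul_mem_smul (hle (Ideal.subset_span ?_)) Submodule.mem_top
    exact ⟨(LinearMap.proj j ∘ₗ i, v), rfl⟩
  have h1 : (1 : R) ∈ τ := by rw [hτ]; trivial
  obtain ⟨b, f, g, hfg⟩ := Submodule.mem_span_set'.1 h1
  choose q hq using fun k => (g k).2
  refine ⟨b, fun k => (q k).2, fun k => f k • (q k).1, ?_⟩
  rw [← hfg]
  refine Finset.sum_congr rfl fun k _ => ?_
  rw [LinearMap.smul_apply, ← hq k]

theorem exists_dual_basis [Module.Finite R F] [Module.Projective R F] :
    ∃ (a : ℕ) (x : Fin a → F) (lam : Fin a → Dual R F), ∀ v, ∑ j, lam j v • x j = v := by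
  obtain ⟨a, p, i, -, -, hpi⟩ := Module.Finite.exists_comp_eq_id_of_projective R F
  refine ⟨a, fun j => p (Pi.single j 1), fun j => LinearMap.proj j ∘ₗ i, ?_⟩
  intro v
  have h1 : p (i v) = v := LinearMap.congr_fun hpi v
  conv_rhs => rw [← h1, pi_eq_sum_univ (i v)]
  rw [map_sum]
  refine Finset.sum_congr rfl fun j _ => ?_
  rw [← map_smul]
  congr 1
  ext l
  simp [Pi.single_apply, eq_comm]

theorem invertible_of_pairing {L : Type*} {L' : Type*} [AddCommGroup L] [Module R L]
    [AddCommGroup L'] [Module R L'] [Module.FaithfullyFlat R F]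
    (p : L ⊗[R] L' →ₗ[R] R) (Ψ : F ⊗[R] (L ⊗[R] L') ≃ₗ[R] F)
    (key : ∀ z, (TensorProduct.rid R F) (LinearMap.lTensor F p z) = Ψ z) :
    Module.Invertible R L := by
  have hbij : Function.Bijective (LinearMap.lTensor F p) := by
    have h1 : (LinearMap.lTensor F p : _ → _) = (TensorProduct.rid R F).symm ∘ Ψ := by
      funext z
      rw [Function.comp_apply, ← key z, LinearEquiv.symm_apply_apply]
    rw [h1]
    exact (TensorProduct.rid R F).symm.bijective.comp Ψ.bijective
  have hbij' := (Module.FaithfullyFlat.lTensor_bijective_iff_bijective R F p).1 hbij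
  exact Module.Invertible.left (LinearEquiv.ofBijective p hbij')

end Groth.Agent.Lead.Morita
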