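import Mathlib
import Groth.Agent.Lib.Helper6.CDiv1.NormalRing

/-!
# Height one primes of a normal Noetherian domain: valuations
-/

set_option autoImplicit false
set_option linter.unusedSectionVars false
set_option linter.unusedVariables false
set_option linter.style.haveILetI false

universe u

namespace Groth.Agent.Lead.N2

open IsLocalRing

variable {A : Type u} [CommRing A] [IsDomain A] [IsNoetherianRing A] [IsIntegrallyClosed A]

/-- The localization of a normal Noetherian domain at a height one prime is a DVR. -/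
theorem dvr (q : Ideal A) [q.IsPrime] (hq : q.height = 1) :
    IsDiscreteValuationRing (Localization.AtPrime q) := by
  haveI : IsIntegrallyClosed (Localization.AtPrime q) :=
    isIntegrallyClosed_of_isLocalization _ q.primeCompl q.primeCompl_le_nonZeroDivisors
  have hdim : ringKrullDim (Localization.AtPrime q) = 1 := by
    rw [IsLocalization.AtPrime.ringKrullDim_eq_height q (Localization.AtPrime q), hq]
    rfl
  have hK : Ring.KrullDimLE 1 (Localization.AtPrime q) := Ring.krullDimLE_iff.mpr hdim.le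
  have h3 : IsIntegrallyClosed (Localization.AtPrime q) ∧
      ∀ P : Ideal (Localization.AtPrime q), P ≠ ⊥ → P.IsPrime →
        P = maximalIdeal (Localization.AtPrime q) :=
    ⟨inferInstance, fun P hP hPp =>
      eq_maximalIdeal (Ring.krullDimLE_one_iff_of_noZeroDivisors.mp hK P hP hPp)⟩
  haveI : IsPrincipalIdealRing (Localization.AtPrime q) :=
    ((tfae_of_isNoetherianRing_of_isLocalRing_of_isDomain (Localization.AtPrime q)).out 3 0).mp h3
  refine { not_a_field' := ?_ }
  intro hbot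
  have hf : IsField (Localization.AtPrime q) := IsLocalRing.isField_iff_maximalIdeal_eq.mpr hbot
  rw [ringKrullDim_eq_zero_of_isField hf] at hdim
  exact zero_ne_one hdim

section Val

variable (q : Ideal A) [q.IsPrime] (hq : q.height = 1)

/-- The valuation of an element of `A` at the height one prime `q`. -/
noncomputable def v (x : A) : ℕ∞ :=
  haveI := dvr q hq
  IsDiscreteValuationRing.addVal (Localization.AtPrime q) (algebraMap A (Localization.AtPrime q) x)

theorem algebraMap_injective :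
    Function.Injective (algebraMap A (Localization.AtPrime q)) :=
  IsLocalization.injective _ q.primeCompl_le_nonZeroDivisors

theorem v_eq_top_iff (x : A) : v q hq x = ⊤ ↔ x = 0 := by
  haveI := dvr q hq
  unfold v
  rw [IsDiscreteValuationRing.addVal_eq_top_iff]
  exact map_eq_zero_iff _ (algebraMap_injective q)

theorem v_mul (x y : A) : v q hq (x * y) = v q hq x + v q hq y := by
  haveI := dvr q hq
  unfold v
  rw [map_mul, IsDiscreteValuationRing.addVal_mul]

theorem v_add (x y : A) : min (v q hq x) (v q hq y) ≤ v q hq (x + y) := by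
  haveI := dvr q hq
  unfold v
  rw [map_add]
  exact IsDiscreteValuationRing.addVal_add

theorem v_pos_iff (x : A) : 0 < v q hq x ↔ x ∈ q := by
  haveI := dvr q hq
  unfold v
  rw [pos_iff_ne_zero, ne_eq, IsDiscreteValuationRing.addVal_eq_zero_iff,
    IsLocalization.AtPrime.isUnit_to_map_iff (Localization.AtPrime q) q]
  exact not_not

theorem v_eq_zero_iff (x : A) : v q hq x = 0 ↔ x ∉ q := by
  rw [← v_pos_iff q hq, pos_iff_ne_zero, not_not]

theorem v_add_eq_of_lt (x y : A) (h : v q hq x < v q hq y) : v q hq (x + y) = v q hq x := by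
  haveI := dvr q hq
  unfold v at h ⊢
  rw [map_add]
  exact AddValuation.map_add_eq_of_lt_left _ h

theorem exists_dvd_of_v_le (x y : A) (h : v q hq y ≤ v q hq x) : ∃ s, s ∉ q ∧ y ∣ s * x := by
  haveI := dvr q hq
  unfold v at h
  rw [IsDiscreteValuationRing.addVal_le_iff_dvd] at h
  obtain ⟨c, hc⟩ := h
  obtain ⟨a, t, rfl⟩ := IsLocalization.exists_mk'_eq q.primeCompl c
  refine ⟨t.1, t.2, a, ?_⟩
  apply algebraMap_injective q
  rw [map_mul, map_mul, hc, mul_comm (algebraMap A _ t.1), mul_assoc,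
    IsLocalization.mk'_spec]

theorem exists_v_eq_one : ∃ u, u ∈ q ∧ v q hq u = 1 := by
  haveI := dvr q hq
  obtain ⟨ϖ, hϖ⟩ := IsDiscreteValuationRing.exists_irreducible (Localization.AtPrime q)
  obtain ⟨a, t, rfl⟩ := IsLocalization.exists_mk'_eq q.primeCompl ϖ
  have h1 : v q hq a = 1 := by
    unfold v
    have h2 : algebraMap A (Localization.AtPrime q) a =
        IsLocalization.mk' (Localization.AtPrime q) a t * algebraMap A _ t.1 :=
      (IsLocalization.mk'_spec _ a t).symm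
    rw [h2, IsDiscreteValuationRing.addVal_mul, IsDiscreteValuationRing.addVal_uniformizer hϖ]
    have h3 : IsUnit (algebraMap A (Localization.AtPrime q) t.1) :=
      IsLocalization.map_units _ t
    rw [IsDiscreteValuationRing.addVal_eq_zero_iff.mpr h3, add_zero]
  refine ⟨a, ?_, h1⟩
  rw [← v_pos_iff q hq, h1]
  exact zero_lt_one

theorem v_pow (x : A) (n : ℕ) : v q hq (x ^ n) = n • v q hq x := by
  haveI := dvr q hq
  unfold v
  rw [map_pow, IsDiscreteValuationRing.addVal_pow]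

end Val


section Local

variable [IsLocalRing A] (hdim : ringKrullDim A = 2)

include hdim in
theorem height_maximalIdeal : (maximalIdeal A).height = 2 := by
  have h := IsLocalRing.maximalIdeal_height_eq_ringKrullDim (R := A)
  rw [hdim] at h
  have h' : ((maximalIdeal A).height : WithBot ℕ∞) = ((2 : ℕ∞) : WithBot ℕ∞) := h
  exact WithBot.coe_injective h'

include hdim in
theorem height_eq_one_of_ne (P : Ideal A) [P.IsPrime] (h0 : P ≠ ⊥)
    (hm : P ≠ maximalIdeal A) : P.height = 1 := by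
  have hle : P ≤ maximalIdeal A := IsLocalRing.le_maximalIdeal Ideal.IsPrime.ne_top'
  have hlt : P < maximalIdeal A := lt_of_le_of_ne hle hm
  have h2 : P.height < 2 := by
    rw [← height_maximalIdeal hdim]
    exact Ideal.height_strict_mono_of_isPrime hlt
  have h1 : 1 ≤ P.height := by
    rw [Order.one_le_iff_pos, pos_iff_ne_zero, ne_eq, Ideal.height_eq_zero_iff_eq_bot]
    exact h0
  refine le_antisymm ?_ h1
  have h3 : (2 : ℕ∞) = 1 + 1 := by norm_num
  rw [h3] at h2
  exact (ENat.lt_add_one_iff (by norm_num)).mp h2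

include hdim in
/-- algebraic Hartogs: divisibility can be checked at height one primes -/
theorem dvd_of_forall_height_one (a b : A) (hb : b ≠ 0)
    (h : ∀ q : Ideal A, q.IsPrime → q.height = 1 → ∃ s, s ∉ q ∧ b ∣ s * a) : b ∣ a := by
  by_contra hdiv
  have hinj : Function.Injective (algebraMap A (FractionRing A)) :=
    IsFractionRing.injective A (FractionRing A)
  have hb' : algebraMap A (FractionRing A) b ≠ 0 := (map_ne_zero_iff _ hinj).mpr hb
  have hh1 : algebraMap A (FractionRing A) a / algebraMap A (FractionRing A) b ∉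
      Set.range (algebraMap A (FractionRing A)) := by
    rintro ⟨c, hc⟩
    apply hdiv
    refine ⟨c, ?_⟩
    apply hinj
    rw [map_mul, hc, mul_div_cancel₀ _ hb']
  have hD := Groth.Agent.Lib.Helper6.CDiv1.isDiscreteValuationRing_of_denominators
    (R := A) (K := FractionRing A) hh1 ?_
  · have h1 := IsDiscreteValuationRing.ringKrullDim_eq_one A
    rw [hdim] at h1
    norm_num at h1
  · intro P hP hPm
    by_cases h0 : P = ⊥
    · refine ⟨b, ?_, ?_⟩
      · rw [h0, Ideal.mem_bot]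
        exact hb
      · rw [Groth.Agent.Lib.Helper6.CDiv1.mem_denomIdeal]
        refine ⟨a, ?_⟩
        rw [mul_div_cancel₀ _ hb']
    · haveI := hP
      obtain ⟨s, hs, c, hc⟩ := h P hP (height_eq_one_of_ne hdim P h0 hPm)
      refine ⟨s, hs, ?_⟩
      rw [Groth.Agent.Lib.Helper6.CDiv1.mem_denomIdeal]
      refine ⟨c, ?_⟩
      rw [← mul_div_assoc, ← map_mul, hc, map_mul, mul_div_cancel_left₀ _ hb']

end Local


section Wrap

/-- valuation at a height one prime, with explicit hypotheses -/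
noncomputable def val (q : Ideal A) (h : q.IsPrime ∧ q.height = 1) (x : A) : ℕ∞ :=
  @v A _ _ _ _ q h.1 h.2 x

variable (q : Ideal A) (h : q.IsPrime ∧ q.height = 1)

theorem val_eq_top_iff (x : A) : val q h x = ⊤ ↔ x = 0 := @v_eq_top_iff A _ _ _ _ q h.1 h.2 x
theorem val_mul (x y : A) : val q h (x * y) = val q h x + val q h y :=
  @v_mul A _ _ _ _ q h.1 h.2 x y
theorem val_add (x y : A) : min (val q h x) (val q h y) ≤ val q h (x + y) :=
  @v_add A _ _ _ _ q h.1 h.2 x y
theorem val_pos_iff (x : A) : 0 < val q h x ↔ x ∈ q := @v_pos_iff A _ _ _ _ q h.1 h.2 x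
theorem val_eq_zero_iff (x : A) : val q h x = 0 ↔ x ∉ q := @v_eq_zero_iff A _ _ _ _ q h.1 h.2 x
theorem val_add_eq_of_lt (x y : A) (hxy : val q h x < val q h y) : val q h (x + y) = val q h x :=
  @v_add_eq_of_lt A _ _ _ _ q h.1 h.2 x y hxy
theorem exists_dvd_of_val_le (x y : A) (hxy : val q h y ≤ val q h x) :
    ∃ s, s ∉ q ∧ y ∣ s * x := @exists_dvd_of_v_le A _ _ _ _ q h.1 h.2 x y hxy
theorem exists_val_eq_one : ∃ u, u ∈ q ∧ val q h u = 1 := @exists_v_eq_one A _ _ _ _ q h.1 h.2
theorem val_pow (x : A) (n : ℕ) : val q h (x ^ n) = n • val q h x :=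
  @v_pow A _ _ _ _ q h.1 h.2 x n

theorem one_le_val_iff (x : A) : 1 ≤ val q h x ↔ x ∈ q := by
  rw [Order.one_le_iff_pos, val_pos_iff]

theorem val_le_of_dvd (x y : A) (hxy : x ∣ y) : val q h x ≤ val q h y := by
  obtain ⟨c, rfl⟩ := hxy
  rw [val_mul]
  exact le_self_add

end Wrap

section Sets

/-- the height one primes containing `f` -/
def Vs (f : A) : Set (Ideal A) := {q | q.IsPrime ∧ q.height = 1 ∧ f ∈ q}

theorem one_le_height_of_mem (P : Ideal A) (f : A) (hf : f ≠ 0) (hfP : f ∈ P) : 1 ≤ P.height := by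
  rw [Order.one_le_iff_pos, pos_iff_ne_zero, ne_eq, Ideal.height_eq_zero_iff_eq_bot]
  rintro rfl
  exact hf ((Ideal.mem_bot).mp hfP)

theorem Vs_subset_minimalPrimes (f : A) (hf : f ≠ 0) :
    Vs f ⊆ (Ideal.span {f}).minimalPrimes := by
  rintro q ⟨hqp, hq1, hfq⟩
  refine ⟨⟨hqp, (Ideal.span_singleton_le_iff_mem q).mpr hfq⟩, ?_⟩
  rintro P ⟨hPp, hfP⟩ hPq
  haveI := hPp
  have hfP' : f ∈ P := (Ideal.span_singleton_le_iff_mem P).mp hfP
  have h1 : q.height ≤ P.height := by
    rw [hq1]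
    exact one_le_height_of_mem P f hf hfP'
  exact (Ideal.eq_of_le_of_height_le P hPq h1).ge

theorem Vs_finite (f : A) (hf : f ≠ 0) : (Vs f).Finite :=
  (Ideal.finite_minimalPrimes_of_isNoetherianRing A _).subset (Vs_subset_minimalPrimes f hf)

theorem mem_Vs_of_mem_minimalPrimes (f : A) (hf : f ≠ 0) (q : Ideal A)
    (hq : q ∈ (Ideal.span {f}).minimalPrimes) : q ∈ Vs f := by
  have hfq : f ∈ q := (Ideal.span_singleton_le_iff_mem q).mp hq.1.2
  refine ⟨hq.1.1, ?_, hfq⟩
  refine le_antisymm ?_ (one_le_height_of_mem q f hf hfq)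
  exact Ideal.height_le_one_of_isPrincipal_of_mem_minimalPrimes (Ideal.span {f}) q hq

variable [IsLocalRing A]

theorem not_dvd_of_avoid (f₀ g : A) (hf₀ : f₀ ≠ 0) (hgm : g ∈ maximalIdeal A)
    (hg : ∀ q ∈ Vs f₀, g ∉ q) : ¬ g ∣ f₀ := by
  intro hdvd
  have hg0 : g ≠ 0 := by
    rintro rfl
    exact hf₀ (zero_dvd_iff.mp hdvd)
  have hle : Ideal.span {g} ≤ maximalIdeal A := (Ideal.span_singleton_le_iff_mem _).mpr hgm
  obtain ⟨q, hqmin, -⟩ := Ideal.exists_minimalPrimes_le hle
  have hqV := mem_Vs_of_mem_minimalPrimes g hg0 q hqmin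
  have hf₀q : f₀ ∈ q := by
    obtain ⟨c, rfl⟩ := hdvd
    exact q.mul_mem_right c hqV.2.2
  exact hg q ⟨hqV.1, hqV.2.1, hf₀q⟩ hqV.2.2

/-- strictness: adding new height one primes strictly shrinks `sInf S + (g)` -/
theorem subset_of_sInf_le {S S' : Set (Ideal A)} (hfin : S.Finite)
    (hS : ∀ q ∈ S, q.IsPrime ∧ q.height = 1) (hS' : ∀ q ∈ S', q.IsPrime ∧ q.height = 1)
    (g : A) (hgm : g ∈ maximalIdeal A) (hgS : ∀ q ∈ S, g ∉ q) (hSS' : S ⊆ S')
    (h : sInf S ≤ sInf S' ⊔ Ideal.span {g}) : S' ⊆ S := by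
  classical
  intro q₀ hq₀
  by_contra hq₀S
  have hK' : sInf S' ≤ sInf S := sInf_le_sInf hSS'
  have hK : ¬ sInf S ≤ q₀ := by
    have e : sInf S = hfin.toFinset.inf id := by
      rw [Finset.inf_id_eq_sInf, Set.Finite.coe_toFinset]
    rw [e, (hS' q₀ hq₀).1.inf_le']
    rintro ⟨q, hqS, hqq₀⟩
    rw [Set.Finite.mem_toFinset] at hqS
    haveI := (hS q hqS).1
    have : q = q₀ := Ideal.eq_of_le_of_height_le q hqq₀ (by rw [(hS q hqS).2, (hS' q₀ hq₀).2])
    exact hq₀S (this ▸ hqS)
  have key : sInf S ≤ sInf S' ⊔ Ideal.span {g} • sInf S := by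
    intro x hx
    obtain ⟨y, hy, z, hz, rfl⟩ := Submodule.mem_sup.mp (h hx)
    obtain ⟨a, rfl⟩ := Ideal.mem_span_singleton'.mp hz
    have ha : a ∈ sInf S := by
      rw [Ideal.mem_sInf]
      intro q hq
      have h1 : y + a * g ∈ q := (Ideal.mem_sInf.mp hx) hq
      have h2 : y ∈ q := (Ideal.mem_sInf.mp (hK' hy)) hq
      have h3 : a * g ∈ q := (Submodule.add_mem_iff_right q h2).mp h1
      exact ((hS q hq).1.mem_or_mem h3).resolve_right (hgS q hq)
    refine Submodule.add_mem_sup hy ?_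
    rw [mul_comm]
    exact Submodule.smul_mem_smul (Ideal.mem_span_singleton_self g) ha
  have hJ : Ideal.span {g} ≤ (⊥ : Ideal A).jacobson := by
    rw [IsLocalRing.jacobson_eq_maximalIdeal ⊥ bot_ne_top]
    exact (Ideal.span_singleton_le_iff_mem _).mpr hgm
  have := Submodule.le_of_le_smul_of_le_jacobson_bot (IsNoetherian.noetherian (sInf S)) hJ key
  exact hK (this.trans (sInf_le hq₀))

end Sets


section Main

variable [IsLocalRing A] (hdim : ringKrullDim A = 2)

theorem mem_of_dvd_mem (I : Ideal A) {a b : A} (hab : a ∣ b) (ha : a ∈ I) : b ∈ I := by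
  obtain ⟨c, rfl⟩ := hab
  exact I.mul_mem_right c ha

include hdim in
theorem main (s : Finset (Ideal A)) (hs : ∀ p ∈ s, p.IsPrime ∧ p.height = 1) :
    ∃ f : A, f ≠ 0 ∧ (∀ p ∈ s, f ∈ p) ∧ IsReduced (A ⧸ Ideal.span {f}) := by
  classical
  -- step 0: a nonzero element of all the primes
  have hex : ∀ p ∈ s, ∃ x ∈ p, x ≠ 0 := by
    intro p hp
    have hp0 : p ≠ ⊥ := by
      intro h0
      have h1 := (hs p hp).2
      rw [h0, Ideal.height_bot] at h1
      exact zero_ne_one h1
    exact Submodule.exists_mem_ne_zero_of_ne_bot hp0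
  choose! c hc hc0 using hex
  set f₀ := ∏ p ∈ s, c p with hf₀def
  have hf₀ : f₀ ≠ 0 := Finset.prod_ne_zero_iff.mpr hc0
  have hf₀s : ∀ p ∈ s, f₀ ∈ p := fun p hp =>
    mem_of_dvd_mem p (Finset.dvd_prod_of_mem c hp) (hc p hp)
  -- step 1: g
  obtain ⟨g, hgm, hg⟩ : ∃ g ∈ maximalIdeal A, ∀ q ∈ Vs f₀, g ∉ q := by
    by_contra hcon
    have hsub : ((maximalIdeal A : Ideal A) : Set A) ⊆
        ⋃ q ∈ ((Vs_finite f₀ hf₀).toFinset : Set (Ideal A)), ((id q : Ideal A) : Set A) := by
      intro x hx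
      by_contra hx'
      apply hcon
      refine ⟨x, hx, fun q hq hxq => hx' ?_⟩
      simp only [Set.mem_iUnion]
      exact ⟨q, by simpa using hq, hxq⟩
    obtain ⟨q, hq, hmq⟩ := (Ideal.subset_union_prime (f := id) (⊥ : Ideal A) ⊥
      (fun q hq _ _ => ((Vs_finite f₀ hf₀).mem_toFinset.mp hq).1)).mp hsub
    have hqV := (Vs_finite f₀ hf₀).mem_toFinset.mp hq
    haveI := hqV.1
    have hqm : q = maximalIdeal A :=
      le_antisymm (le_maximalIdeal Ideal.IsPrime.ne_top') hmq
    have h2 := height_maximalIdeal hdim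
    rw [← hqm, hqV.2.1] at h2
    norm_num at h2
  set J : Ideal A := Ideal.span {f₀, g} with hJ
  have hF1 : ∀ f : A, Ideal.span {f, g} = J → ∀ q ∈ Vs f, g ∉ q := by
    intro f hfJ q hq hgq
    have hJq : J ≤ q := by
      rw [← hfJ, Ideal.span_le]
      rintro x (rfl | rfl)
      · exact hq.2.2
      · exact hgq
    have hf₀q : f₀ ∈ q := hJq (Ideal.subset_span (Set.mem_insert _ _))
    exact hg q ⟨hq.1, hq.2.1, hf₀q⟩ hgq
  have hNG := not_dvd_of_avoid f₀ g hf₀ hgm hg
  have hF2 : ∀ f : A, Ideal.span {f, g} = J → ¬ g ∣ f := by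
    intro f hfJ hdvd
    apply hNG
    have h1 : f₀ ∈ Ideal.span {f, g} := by
      rw [hfJ]
      exact Ideal.subset_span (Set.mem_insert _ _)
    obtain ⟨a, b, hab⟩ := Ideal.mem_span_pair.mp h1
    rw [← hab]
    exact dvd_add (Dvd.dvd.mul_left hdvd a) (Dvd.intro_left b rfl)
  have hF3 : ∀ f : A, Ideal.span {f, g} = J → f ≠ 0 := by
    intro f hfJ hf0
    exact hF2 f hfJ (hf0 ▸ dvd_zero g)
  -- A / J is artinian
  haveI hArt : IsArtinianRing (A ⧸ J) := by
    rw [isArtinianRing_iff_krullDimLE_zero, Ring.krullDimLE_zero_iff]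
    intro P hP
    haveI := hP
    set P' := P.comap (Ideal.Quotient.mk J) with hP'
    haveI : P'.IsPrime := Ideal.comap_isPrime _ _
    have hJP' : J ≤ P' := by
      intro x hx
      rw [hP', Ideal.mem_comap, Ideal.Quotient.eq_zero_iff_mem.mpr hx]
      exact P.zero_mem
    have hP'm : P' = maximalIdeal A := by
      by_contra hne
      have hf₀P' : f₀ ∈ P' := hJP' (Ideal.subset_span (Set.mem_insert _ _))
      have hgP' : g ∈ P' := hJP' (Ideal.subset_span (Set.mem_insert_of_mem _ rfl))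
      have h0 : P' ≠ ⊥ := by
        intro h
        rw [h] at hf₀P'
        exact hf₀ hf₀P'
      exact hg P' ⟨inferInstance, height_eq_one_of_ne hdim P' h0 hne, hf₀P'⟩ hgP'
    have hPeq : P = (maximalIdeal A).map (Ideal.Quotient.mk J) := by
      rw [← hP'm, hP', Ideal.map_comap_of_surjective _ Ideal.Quotient.mk_surjective]
    rcases Ideal.map_eq_top_or_isMaximal_of_surjective (Ideal.Quotient.mk J)
      Ideal.Quotient.mk_surjective (maximalIdeal.isMaximal A) with h | h
    · exact absurd (hPeq.trans h) hP.ne_top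
    · rw [hPeq]
      exact h
  -- a minimal member
  let K : A → Ideal A := fun f => sInf (Vs f)
  let μ : A → Ideal (A ⧸ J) := fun f => (K f ⊔ Ideal.span {g}).map (Ideal.Quotient.mk J)
  let 𝒮 : Set A := {f | (∀ p ∈ s, f ∈ p) ∧ Ideal.span {f, g} = J}
  have hf₀𝒮 : f₀ ∈ 𝒮 := ⟨hf₀s, rfl⟩
  obtain ⟨I, ⟨f, hf𝒮, rfl⟩, hmin⟩ :=
    (wellFounded_lt (α := Ideal (A ⧸ J))).has_min (μ '' 𝒮) ⟨_, f₀, hf₀𝒮, rfl⟩
  have hf0 : f ≠ 0 := hF3 f hf𝒮.2
  have hmax : ∀ f' ∈ 𝒮, Vs f ⊆ Vs f' → Vs f' ⊆ Vs f := by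
    intro f' hf' hsub
    have hle : μ f' ≤ μ f := Ideal.map_mono (sup_le_sup_right (sInf_le_sInf hsub) _)
    have hge : μ f ≤ μ f' := by
      by_contra hnot
      exact hmin (μ f') ⟨f', hf', rfl⟩ (lt_of_le_not_ge hle hnot)
    have hJK : J ≤ K f' ⊔ Ideal.span {g} := by
      rw [← hf'.2, Ideal.span_le]
      rintro x (rfl | rfl)
      · exact Ideal.mem_sup_left (Ideal.mem_sInf.mpr fun {q} hq => hq.2.2)
      · exact Ideal.mem_sup_right (Ideal.mem_span_singleton_self _)
    have h1 : K f ≤ K f' ⊔ Ideal.span {g} := by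
      have h2 := Ideal.comap_mono (f := Ideal.Quotient.mk J) hge
      rw [Ideal.comap_map_of_surjective _ Ideal.Quotient.mk_surjective,
        Ideal.comap_map_of_surjective _ Ideal.Quotient.mk_surjective,
        ← RingHom.ker_eq_comap_bot, Ideal.mk_ker, sup_eq_left.mpr hJK] at h2
      exact le_sup_left.trans (le_sup_left.trans h2)
    exact subset_of_sInf_le (Vs_finite f hf0) (fun q hq => ⟨hq.1, hq.2.1⟩)
      (fun q hq => ⟨hq.1, hq.2.1⟩) g hgm (hF1 f hf𝒮.2) hsub h1
  -- every component of `f` has multiplicity one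
  have hval : ∀ q (hq : q ∈ Vs f), val q ⟨hq.1, hq.2.1⟩ f ≤ 1 := by
    intro q hq
    by_contra hnot
    rw [not_le] at hnot
    have hqh : q.IsPrime ∧ q.height = 1 := ⟨hq.1, hq.2.1⟩
    haveI := hq.1
    have h2 : 2 ≤ val q hqh f := by
      have h3 := Order.add_one_le_of_lt hnot
      rwa [one_add_one_eq_two] at h3
    obtain ⟨u, huq, hu1⟩ := exists_val_eq_one q hqh
    set F : Finset (Ideal A) := (Vs_finite f hf0).toFinset.erase q with hF
    have hFmem : ∀ q', q' ∈ F ↔ q' ≠ q ∧ q' ∈ Vs f := by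
      intro q'
      rw [hF, Finset.mem_erase, Set.Finite.mem_toFinset]
    have hτ : ∀ q' ∈ F, ∃ x ∈ q', x ∉ q := by
      intro q' hq'
      obtain ⟨hne, hq'V⟩ := (hFmem q').mp hq'
      by_contra hcon
      apply hne
      have hle : q' ≤ q := fun x hx => by_contra fun hxq => hcon ⟨x, hx, hxq⟩
      haveI := hq'V.1
      exact Ideal.eq_of_le_of_height_le q' hle (by rw [hq.2.1, hq'V.2.1])
    choose! τ hτ1 hτ2 using hτ
    let n : Ideal A → ℕ := fun q' =>
      if h : q' ∈ Vs f then (val q' ⟨h.1, h.2.1⟩ f).toNat + 1 else 1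
    have hn1 : ∀ q', 1 ≤ n q' := by
      intro q'
      simp only [n]
      split_ifs <;> omega
    set t : A := ∏ q' ∈ F, τ q' ^ n q' with ht
    have htq : t ∉ q := by
      rw [ht, Ideal.IsPrime.prod_mem_iff]
      rintro ⟨q', hq', hmem⟩
      exact hτ2 q' hq' (hq.1.mem_of_pow_mem _ hmem)
    have hdvdt : ∀ q' ∈ F, τ q' ^ n q' ∣ t := fun q' hq' =>
      Finset.dvd_prod_of_mem (fun q' => τ q' ^ n q') hq'
    have htmem : ∀ q' ∈ F, t ∈ q' := by
      intro q' hq'
      exact mem_of_dvd_mem q' (hdvdt q' hq')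
        (Ideal.pow_mem_of_mem _ (hτ1 q' hq') _ (hn1 q'))
    have htu : ∀ q' ∈ Vs f, t * u ∈ q' := by
      intro q' hq'
      by_cases hqq : q' = q
      · rw [hqq]
        exact q.mul_mem_left _ huq
      · exact q'.mul_mem_right _ (htmem q' ((hFmem q').mpr ⟨hqq, hq'⟩))
    set f' := f + (t * u) * g with hf'
    have hf'𝒮 : f' ∈ 𝒮 := by
      refine ⟨fun p hp => ?_, ?_⟩
      · have hpV : p ∈ Vs f := ⟨(hs p hp).1, (hs p hp).2, hf𝒮.1 p hp⟩
        exact p.add_mem (hf𝒮.1 p hp) (p.mul_mem_right _ (htu p hpV))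
      · rw [hf', Ideal.span_pair_add_mul_right]
        exact hf𝒮.2
    have hsub : Vs f ⊆ Vs f' := by
      intro q' hq'
      exact ⟨hq'.1, hq'.2.1, q'.add_mem hq'.2.2 (q'.mul_mem_right _ (htu q' hq'))⟩
    have hsup := hmax f' hf'𝒮 hsub
    have hf'0 := hF3 f' hf'𝒮.2
    -- valuation of the perturbation at `q`
    have hvg : val q hqh g = 0 := (val_eq_zero_iff q hqh g).mpr (hF1 f hf𝒮.2 q hq)
    have hvt : val q hqh t = 0 := (val_eq_zero_iff q hqh t).mpr htq
    have hvh : val q hqh ((t * u) * g) = 1 := by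
      rw [val_mul, val_mul, hvg, hvt, hu1, zero_add, add_zero]
    have hvf' : val q hqh f' = 1 := by
      rw [hf', add_comm, val_add_eq_of_lt q hqh _ _ (by rw [hvh]; exact hnot), hvh]
    -- `f' ∣ f`
    have hdvd : f' ∣ f := by
      apply dvd_of_forall_height_one hdim f f' hf'0
      intro q'' hq''p hq''1
      by_cases hmem : f' ∈ q''
      · have hq''V : q'' ∈ Vs f := hsup ⟨hq''p, hq''1, hmem⟩
        apply exists_dvd_of_val_le q'' ⟨hq''p, hq''1⟩
        by_cases hqq : q'' = q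
        · subst hqq
          exact (hvf'.le).trans (le_of_lt hnot)
        · have hq''F : q'' ∈ F := (hFmem q'').mpr ⟨hqq, hq''V⟩
          have hh : q''.IsPrime ∧ q''.height = 1 := ⟨hq''p, hq''1⟩
          have hfin : val q'' hh f ≠ ⊤ := by
            rw [ne_eq, val_eq_top_iff]
            exact hf0
          have h3 : ((n q'' : ℕ) : ℕ∞) ≤ val q'' hh t := by
            refine le_trans ?_ (val_le_of_dvd q'' hh _ _ (hdvdt q'' hq''F))
            rw [val_pow]
            have h4 : 1 ≤ val q'' hh (τ q'') := (one_le_val_iff q'' hh _).mpr (hτ1 q'' hq''F)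
            calc ((n q'' : ℕ) : ℕ∞) = n q'' • (1 : ℕ∞) := by rw [nsmul_one]
              _ ≤ n q'' • val q'' hh (τ q'') := nsmul_le_nsmul_right h4 _
          have h5 : val q'' hh f < ((n q'' : ℕ) : ℕ∞) := by
            have h6 : n q'' = (val q'' hh f).toNat + 1 := dif_pos hq''V
            rw [h6, Nat.cast_add, Nat.cast_one, ENat.coe_toNat hfin]
            exact (ENat.lt_add_one_iff hfin).mpr le_rfl
          have h7 : val q'' hh f < val q'' hh ((t * u) * g) := by
            refine lt_of_lt_of_le h5 (h3.trans ?_)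
            rw [val_mul, val_mul, add_assoc]
            exact le_self_add
          rw [hf', val_add_eq_of_lt q'' hh _ _ h7]
      · exact ⟨f', hmem, Dvd.intro _ rfl⟩
    obtain ⟨c', hc'⟩ := hdvd
    have hc'q : c' ∈ q := by
      rw [← one_le_val_iff q hqh]
      by_contra hlt
      rw [not_le, ENat.lt_one_iff_eq_zero] at hlt
      rw [hc', val_mul, hvf', hlt, add_zero] at h2
      norm_num at h2
    have hc'm : c' ∈ maximalIdeal A := le_maximalIdeal hq.1.ne_top hc'q
    have hf'J : f' ∈ Ideal.span {f, g} := by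
      rw [hf𝒮.2, ← hf'𝒮.2]
      exact Ideal.subset_span (Set.mem_insert _ _)
    obtain ⟨a, b, hab⟩ := Ideal.mem_span_pair.mp hf'J
    have hunit : IsUnit (1 - a * c') :=
      isUnit_one_sub_self_of_mem_nonunits _ ((maximalIdeal A).mul_mem_left a hc'm)
    have heq : f' * (1 - a * c') = b * g := by
      rw [hc'] at hab
      linear_combination (-1 : A) * hab
    apply hF2 f' hf'𝒮.2
    rw [← hunit.dvd_mul_right, heq]
    exact Dvd.intro_left b rfl
  refine ⟨f, hf0, hf𝒮.1, ?_⟩
  rw [← Ideal.isRadical_iff_quotient_reduced]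
  intro x hx
  obtain ⟨m, hm⟩ := hx
  rw [Ideal.mem_span_singleton] at hm ⊢
  apply dvd_of_forall_height_one hdim x f hf0
  intro q'' hq''p hq''1
  by_cases hmem : f ∈ q''
  · have hV : q'' ∈ Vs f := ⟨hq''p, hq''1, hmem⟩
    apply exists_dvd_of_val_le q'' ⟨hq''p, hq''1⟩
    have hxq : x ∈ q'' := hq''p.mem_of_pow_mem m (mem_of_dvd_mem q'' hm hmem)
    exact (hval q'' hV).trans ((one_le_val_iff q'' ⟨hq''p, hq''1⟩ x).mpr hxq)
  · exact ⟨f, hmem, Dvd.intro _ rfl⟩

end Main

end Groth.Agent.Lead.N2
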