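import Mathlib
import Groth.Agent.Lib.Lead.N2a

/-!
# Hartogs for normal Noetherian domains and descent of `n`-th powers up to units
-/

set_option autoImplicit false
set_option linter.unusedSectionVars false
set_option linter.unusedVariables false
set_option linter.style.haveILetI false

universe u

namespace Groth.Agent.Lead.N2

open IsLocalRing

section HartogsLocal

variable {R : Type u} [CommRing R] [IsDomain R] [IsNoetherianRing R] [IsLocalRing R]
  [IsIntegrallyClosed R]

theorem dvr_of_not_dvd (a b : R) (hb : b ≠ 0) (hdiv : ¬ b ∣ a)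
    (hD : ∀ P' : Ideal R, P'.IsPrime → P' ≠ maximalIdeal R → ∃ r, r ∉ P' ∧ b ∣ r * a) :
    IsDiscreteValuationRing R := by
  have hinj : Function.Injective (algebraMap R (FractionRing R)) :=
    IsFractionRing.injective R (FractionRing R)
  have hb' : algebraMap R (FractionRing R) b ≠ 0 := (map_ne_zero_iff _ hinj).mpr hb
  have hh1 : algebraMap R (FractionRing R) a / algebraMap R (FractionRing R) b ∉
      Set.range (algebraMap R (FractionRing R)) := by
    rintro ⟨c, hc⟩
    apply hdiv
    refine ⟨c, ?_⟩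
    apply hinj
    rw [map_mul, hc, mul_div_cancel₀ _ hb']
  refine Groth.Agent.Lib.Helper6.CDiv1.isDiscreteValuationRing_of_denominators
    (R := R) (K := FractionRing R) hh1 ?_
  intro P hP hPm
  obtain ⟨s, hs, c, hc⟩ := hD P hP hPm
  refine ⟨s, hs, ?_⟩
  rw [Groth.Agent.Lib.Helper6.CDiv1.mem_denomIdeal]
  refine ⟨c, ?_⟩
  rw [← mul_div_assoc, ← map_mul, hc, map_mul, mul_div_cancel_left₀ _ hb']

end HartogsLocal

section Hartogs

variable {A : Type u} [CommRing A] [IsDomain A] [IsNoetherianRing A] [IsIntegrallyClosed A]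

/-- algebraic Hartogs for a normal Noetherian domain -/
theorem dvd_of_forall_height_one' (a b : A) (hb : b ≠ 0)
    (h : ∀ q : Ideal A, q.IsPrime → q.height = 1 → ∃ s, s ∉ q ∧ b ∣ s * a) : b ∣ a := by
  by_contra hdiv
  let D : Ideal A :=
    { carrier := {r | b ∣ r * a}
      add_mem' := by
        intro x y hx hy
        change b ∣ (x + y) * a
        rw [add_mul]
        exact dvd_add hx hy
      zero_mem' := by
        change b ∣ 0 * a
        rw [zero_mul]
        exact dvd_zero b
      smul_mem' := by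
        intro c x hx
        change b ∣ (c * x) * a
        rw [mul_assoc]
        exact Dvd.dvd.mul_left hx c }
  have hDmem : ∀ r, r ∈ D ↔ b ∣ r * a := fun r => Iff.rfl
  have hD1 : D ≠ ⊤ := by
    intro h1
    apply hdiv
    have h2 : (1 : A) ∈ D := h1 ▸ Submodule.mem_top
    have h3 := (hDmem 1).mp h2
    rwa [one_mul] at h3
  obtain ⟨P, hP⟩ := Ideal.nonempty_minimalPrimes hD1
  haveI := hP.1.1
  haveI : IsDomain (Localization.AtPrime P) :=
    IsLocalization.isDomain_localization P.primeCompl_le_nonZeroDivisors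
  haveI : IsIntegrallyClosed (Localization.AtPrime P) :=
    isIntegrallyClosed_of_isLocalization _ P.primeCompl P.primeCompl_le_nonZeroDivisors
  have hinjR : Function.Injective (algebraMap A (Localization.AtPrime P)) :=
    IsLocalization.injective _ P.primeCompl_le_nonZeroDivisors
  have hb' : algebraMap A (Localization.AtPrime P) b ≠ 0 := by
    rw [ne_eq, map_eq_zero_iff _ hinjR]
    exact hb
  have hpull : ∀ x : A, algebraMap A (Localization.AtPrime P) b ∣
      algebraMap A (Localization.AtPrime P) x → ∃ s, s ∉ P ∧ b ∣ s * x := by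
    rintro x ⟨c, hc⟩
    obtain ⟨y, t, rfl⟩ := IsLocalization.exists_mk'_eq P.primeCompl c
    refine ⟨t.1, t.2, y, ?_⟩
    apply hinjR
    rw [map_mul, map_mul, hc, mul_comm (algebraMap A _ t.1), mul_assoc,
      IsLocalization.mk'_spec]
  have hh1 : ¬ algebraMap A (Localization.AtPrime P) b ∣
      algebraMap A (Localization.AtPrime P) a := by
    intro h2
    obtain ⟨s, hs, hsd⟩ := hpull a h2
    exact hs (hP.1.2 ((hDmem s).mpr hsd))
  have hDVR : IsDiscreteValuationRing (Localization.AtPrime P) := by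
    refine dvr_of_not_dvd _ _ hb' hh1 ?_
    intro P' hP' hP'm
    haveI := hP'
    have hP''le : P'.comap (algebraMap A (Localization.AtPrime P)) ≤ P := by
      intro x hx
      by_contra hxP
      have hu : IsUnit (algebraMap A (Localization.AtPrime P) x) :=
        IsLocalization.map_units (Localization.AtPrime P) (⟨x, hxP⟩ : P.primeCompl)
      exact hP'.ne_top (Ideal.eq_top_of_isUnit_mem _ (Ideal.mem_comap.mp hx) hu)
    have hne : ¬ D ≤ P'.comap (algebraMap A (Localization.AtPrime P)) := by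
      intro hle
      have h2 : P ≤ P'.comap (algebraMap A (Localization.AtPrime P)) :=
        hP.2 ⟨Ideal.comap_isPrime _ _, hle⟩ hP''le
      have heq : Ideal.under A P' = P := le_antisymm hP''le h2
      apply hP'm
      rw [← IsLocalization.map_comap P.primeCompl (Localization.AtPrime P) P', heq]
      exact Localization.AtPrime.map_eq_maximalIdeal
    obtain ⟨r₀, hr₀D, hr₀⟩ := SetLike.not_le_iff_exists.mp hne
    refine ⟨algebraMap A (Localization.AtPrime P) r₀, hr₀, ?_⟩
    obtain ⟨c, hc⟩ := (hDmem r₀).mp hr₀D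
    refine ⟨algebraMap A (Localization.AtPrime P) c, ?_⟩
    rw [← map_mul, ← map_mul, hc]
  have h1 : P.height = 1 := by
    have h2 := IsDiscreteValuationRing.ringKrullDim_eq_one (Localization.AtPrime P)
    rw [IsLocalization.AtPrime.ringKrullDim_eq_height P (Localization.AtPrime P)] at h2
    have h3 : ((P.height : ℕ∞) : WithBot ℕ∞) = ((1 : ℕ∞) : WithBot ℕ∞) := h2
    exact WithBot.coe_injective h3
  obtain ⟨s, hs, hsd⟩ := h P hP.1.1 h1
  exact hs (hP.1.2 ((hDmem s).mpr hsd))

end Hartogs

section Approx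

variable {A : Type u} [CommRing A] [IsDomain A] [IsNoetherianRing A] [IsIntegrallyClosed A]

theorem val_zero (q : Ideal A) (h : q.IsPrime ∧ q.height = 1) : val q h (0 : A) = ⊤ :=
  (val_eq_top_iff q h 0).mpr rfl

theorem val_sum_ge (q : Ideal A) (h : q.IsPrime ∧ q.height = 1) {ι : Type*} (s : Finset ι)
    (g : ι → A) (m : ℕ∞) (hm : ∀ i ∈ s, m ≤ val q h (g i)) : m ≤ val q h (∑ i ∈ s, g i) := by
  classical
  induction s using Finset.induction_on with
  | empty =>
    rw [Finset.sum_empty, val_zero]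
    exact le_top
  | insert a s ha ih =>
    rw [Finset.sum_insert ha]
    refine le_trans ?_ (val_add q h _ _)
    refine le_min (hm a (Finset.mem_insert_self a s)) (ih ?_)
    intro i hi
    exact hm i (Finset.mem_insert_of_mem hi)

theorem val_eq_zero_of_prod (q : Ideal A) (h : q.IsPrime ∧ q.height = 1) {ι : Type*}
    (s : Finset ι) (g : ι → A) (hg : ∀ i ∈ s, g i ∉ q) : val q h (∏ i ∈ s, g i) = 0 := by
  rw [val_eq_zero_iff]
  intro hmem
  haveI := h.1
  obtain ⟨i, hi, hgi⟩ := (Ideal.IsPrime.prod_mem_iff).mp hmem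
  exact hg i hi hgi

theorem val_natCast_of_val_one (q : Ideal A) (h : q.IsPrime ∧ q.height = 1) (u : A)
    (hu : val q h u = 1) (e : ℕ) : val q h (u ^ e) = (e : ℕ∞) := by
  rw [val_pow, hu, nsmul_eq_mul, mul_one]

/-- approximation: prescribe the valuations at finitely many height one primes -/
theorem exists_val_eq (S : Finset (Ideal A)) (hS : ∀ p ∈ S, p.IsPrime ∧ p.height = 1)
    (e : Ideal A → ℕ) : ∃ c : A, ∀ p (hp : p ∈ S), val p (hS p hp) c = (e p : ℕ∞) := by
  classical
  have hu : ∀ p : Ideal A, ∃ u : A, ∀ hp : p ∈ S, u ∈ p ∧ val p (hS p hp) u = 1 := by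
    intro p
    by_cases hp : p ∈ S
    · obtain ⟨u, hu1, hu2⟩ := exists_val_eq_one p (hS p hp)
      exact ⟨u, fun _ => ⟨hu1, hu2⟩⟩
    · exact ⟨0, fun hp' => absurd hp' hp⟩
  choose u hu using hu
  have ht : ∀ p' p : Ideal A, ∃ t : A, p' ∈ S → p ∈ S → p' ≠ p → t ∈ p' ∧ t ∉ p := by
    intro p' p
    by_cases hc : p' ∈ S ∧ p ∈ S ∧ p' ≠ p
    · obtain ⟨hp', hp, hne⟩ := hc
      have hnle : ¬ p' ≤ p := by
        intro hle
        haveI := (hS p' hp').1
        haveI := (hS p hp).1
        apply hne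
        exact Ideal.eq_of_le_of_height_le p' hle (by rw [(hS p' hp').2, (hS p hp).2])
      obtain ⟨t, ht1, ht2⟩ := SetLike.not_le_iff_exists.mp hnle
      exact ⟨t, fun _ _ _ => ⟨ht1, ht2⟩⟩
    · refine ⟨0, fun h1 h2 h3 => absurd ⟨h1, h2, h3⟩ hc⟩
  choose t ht using ht
  let cp : Ideal A → A := fun p => u p ^ e p * ∏ p' ∈ S.erase p, t p' p ^ (e p' + 1)
  refine ⟨∑ p ∈ S, cp p, ?_⟩
  intro p hp
  have hval_cp : val p (hS p hp) (cp p) = (e p : ℕ∞) := by
    change val p (hS p hp) (u p ^ e p * ∏ p' ∈ S.erase p, t p' p ^ (e p' + 1)) = _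
    rw [val_mul, val_natCast_of_val_one p (hS p hp) (u p) (hu p hp).2, val_eq_zero_of_prod,
      add_zero]
    intro p' hp'
    have hp'S : p' ∈ S := Finset.mem_of_mem_erase hp'
    have hne : p' ≠ p := Finset.ne_of_mem_erase hp'
    intro hmem
    haveI := (hS p hp).1
    exact (ht p' p hp'S hp hne).2 (Ideal.IsPrime.mem_of_pow_mem inferInstance _ hmem)
  have hval_other : ∀ p'' ∈ S.erase p, ((e p : ℕ∞) + 1) ≤ val p (hS p hp) (cp p'') := by
    intro p'' hp''
    have hp''S : p'' ∈ S := Finset.mem_of_mem_erase hp''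
    have hne : p'' ≠ p := Finset.ne_of_mem_erase hp''
    have hpe : p ∈ S.erase p'' := Finset.mem_erase.mpr ⟨hne.symm, hp⟩
    have hdvd : t p p'' ^ (e p + 1) ∣ cp p'' := by
      refine Dvd.dvd.mul_left ?_ _
      exact Finset.dvd_prod_of_mem (fun p' => t p' p'' ^ (e p' + 1)) hpe
    refine le_trans ?_ (val_le_of_dvd p (hS p hp) _ _ hdvd)
    rw [val_pow, nsmul_eq_mul]
    have h1 : (1 : ℕ∞) ≤ val p (hS p hp) (t p p'') :=
      (one_le_val_iff p (hS p hp) _).mpr (ht p p'' hp hp''S hne.symm).1
    calc ((e p : ℕ∞) + 1) = ((e p + 1 : ℕ) : ℕ∞) * 1 := by rw [mul_one]; norm_cast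
      _ ≤ ((e p + 1 : ℕ) : ℕ∞) * val p (hS p hp) (t p p'') := by gcongr
  rw [← Finset.add_sum_erase S cp hp]
  rw [val_add_eq_of_lt, hval_cp]
  rw [hval_cp]
  refine lt_of_lt_of_le ?_ (val_sum_ge p (hS p hp) (S.erase p) cp _ hval_other)
  exact_mod_cast Nat.lt_succ_self (e p)

end Approx

section Compare

variable {A : Type u} [CommRing A] [IsDomain A] [IsNoetherianRing A] [IsIntegrallyClosed A]
variable {B : Type u} [CommRing B] [IsDomain B] [IsNoetherianRing B] [IsIntegrallyClosed B]
variable [Algebra A B]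

theorem val_eq_addVal (q : Ideal B) (hq : q.IsPrime ∧ q.height = 1) (x : B) :
    val q hq x = @IsDiscreteValuationRing.addVal (@Localization.AtPrime B _ q hq.1) _ _
      (@dvr B _ _ _ _ q hq.1 hq.2) (algebraMap B (@Localization.AtPrime B _ q hq.1) x) := rfl

/-- an unramified height one prime: the uniformizer stays a uniformizer -/
theorem val_map_uniformizer (p : Ideal A) (hp : p.IsPrime ∧ p.height = 1)
    (q : Ideal B) (hq : q.IsPrime ∧ q.height = 1) (hqp : q.comap (algebraMap A B) = p)
    (hmax : Ideal.map (algebraMap B (@Localization.AtPrime B _ q hq.1))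
      (Ideal.map (algebraMap A B) p) =
        @IsLocalRing.maximalIdeal (@Localization.AtPrime B _ q hq.1) _
          (@Localization.AtPrime.isLocalRing B _ q hq.1))
    (π : A) (hπ : val p hp π = 1) : val q hq (algebraMap A B π) = 1 := by
  haveI := hq.1
  haveI := dvr q hq.2
  have hs : ∀ s : A, s ∉ p → val q hq (algebraMap A B s) = 0 := by
    intro s hs
    rw [val_eq_zero_iff]
    intro hmem
    apply hs
    rw [← hqp]
    exact hmem
  have hπp : π ∈ p := by
    rw [← one_le_val_iff p hp, hπ]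
  refine le_antisymm ?_ ?_
  · obtain ⟨u, huq, hu1⟩ := exists_val_eq_one q hq
    have key : ∀ y ∈ Ideal.map (algebraMap B (Localization.AtPrime q))
        (Ideal.map (algebraMap A B) p),
        val q hq (algebraMap A B π) ≤
          IsDiscreteValuationRing.addVal (Localization.AtPrime q) y := by
      intro y hy
      rw [Ideal.map_map, Ideal.map] at hy
      induction hy using Submodule.span_induction with
      | mem y hy =>
        obtain ⟨x, hx, rfl⟩ := hy
        have h1 : val p hp π ≤ val p hp x := by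
          rw [hπ, one_le_val_iff]
          exact hx
        obtain ⟨s, hs1, hs2⟩ := exists_dvd_of_val_le p hp x π h1
        have h2 := val_le_of_dvd q hq _ _ (map_dvd (algebraMap A B) hs2)
        rw [map_mul, val_mul, hs s hs1, zero_add] at h2
        exact h2
      | zero =>
        rw [IsDiscreteValuationRing.addVal_zero]
        exact le_top
      | add y z _ _ hy hz =>
        exact le_trans (le_min hy hz) IsDiscreteValuationRing.addVal_add
      | smul b y _ hy =>
        rw [smul_eq_mul, IsDiscreteValuationRing.addVal_mul]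
        exact le_trans hy le_add_self
    have hmem : algebraMap B (Localization.AtPrime q) u ∈
        IsLocalRing.maximalIdeal (Localization.AtPrime q) := by
      rw [← Localization.AtPrime.map_eq_maximalIdeal]
      exact Ideal.mem_map_of_mem _ huq
    rw [← hmax] at hmem
    have := key _ hmem
    rw [← hu1]
    exact this
  · rw [one_le_val_iff, ← Ideal.mem_comap, hqp]
    exact hπp

theorem val_map_eq (p : Ideal A) (hp : p.IsPrime ∧ p.height = 1)
    (q : Ideal B) (hq : q.IsPrime ∧ q.height = 1) (hqp : q.comap (algebraMap A B) = p)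
    (hmax : Ideal.map (algebraMap B (@Localization.AtPrime B _ q hq.1))
      (Ideal.map (algebraMap A B) p) =
        @IsLocalRing.maximalIdeal (@Localization.AtPrime B _ q hq.1) _
          (@Localization.AtPrime.isLocalRing B _ q hq.1))
    (hinj : Function.Injective (algebraMap A B))
    (a : A) : val q hq (algebraMap A B a) = val p hp a := by
  by_cases ha : a = 0
  · rw [ha, map_zero, val_zero, val_zero]
  have hs : ∀ s : A, s ∉ p → val q hq (algebraMap A B s) = 0 := by
    intro s hs
    rw [val_eq_zero_iff]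
    intro hmem
    apply hs
    rw [← hqp]
    exact hmem
  obtain ⟨π, hπp, hπ⟩ := exists_val_eq_one p hp
  have hπB := val_map_uniformizer p hp q hq hqp hmax π hπ
  have hfin : val p hp a ≠ ⊤ := by
    rw [ne_eq, val_eq_top_iff]
    exact ha
  obtain ⟨m, hm⟩ := ENat.ne_top_iff_exists.mp hfin
  have h1 : val p hp (π ^ m) = val p hp a := by
    rw [val_natCast_of_val_one p hp π hπ, hm]
  obtain ⟨s, hs1, hs2⟩ := exists_dvd_of_val_le p hp a (π ^ m) h1.le
  obtain ⟨s', hs'1, hs'2⟩ := exists_dvd_of_val_le p hp (π ^ m) a h1.ge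
  have h2 := val_le_of_dvd q hq _ _ (map_dvd (algebraMap A B) hs2)
  have h3 := val_le_of_dvd q hq _ _ (map_dvd (algebraMap A B) hs'2)
  rw [map_mul, val_mul, hs s hs1, zero_add, map_pow,
    val_natCast_of_val_one q hq _ hπB] at h2
  rw [map_mul, val_mul, hs s' hs'1, zero_add, map_pow,
    val_natCast_of_val_one q hq _ hπB] at h3
  rw [← hm]
  exact le_antisymm h3 h2

end Compare

section Descent

variable (A B : Type u) [CommRing A] [IsDomain A] [IsNoetherianRing A] [IsLocalRing A]
  [IsIntegrallyClosed A] [CommRing B] [IsDomain B] [IsNoetherianRing B] [IsLocalRing B]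
  [IsIntegrallyClosed B] [Algebra A B] [IsLocalHom (algebraMap A B)] [Module.Flat A B]

theorem descent (f : A) (h : B) (n : ℕ) (hn : 1 < n) (w : Bˣ)
    (hf : algebraMap A B f = (w : B) * h ^ n)
    (hram : ∀ (p : Ideal A) [p.IsPrime], p.height = 1 →
      ∃ (q : Ideal B) (_ : q.IsPrime), q.height = 1 ∧ q.comap (algebraMap A B) = p ∧
        Ideal.map (algebraMap B (Localization.AtPrime q)) (Ideal.map (algebraMap A B) p) =
          IsLocalRing.maximalIdeal (Localization.AtPrime q)) :
    ∃ (g : A) (u : Aˣ), f = (u : A) * g ^ n := by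
  classical
  haveI : Module.FaithfullyFlat A B := Module.FaithfullyFlat.of_flat_of_isLocalHom
  have hinj : Function.Injective (algebraMap A B) := FaithfulSMul.algebraMap_injective A B
  have hn0 : n ≠ 0 := by omega
  by_cases hf0 : f = 0
  · refine ⟨0, 1, ?_⟩
    rw [hf0, zero_pow hn0, mul_zero]
  have hh0 : h ≠ 0 := by
    rintro rfl
    apply hf0
    apply hinj
    rw [hf, zero_pow hn0, mul_zero, map_zero]
  -- descent of divisibility
  have hdesc : ∀ a b : A, algebraMap A B b ∣ algebraMap A B a → b ∣ a := by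
    intro a b hab
    have h1 : a ∈ (Ideal.map (algebraMap A B) (Ideal.span {b})).comap (algebraMap A B) := by
      rw [Ideal.mem_comap, Ideal.map_span, Set.image_singleton, Ideal.mem_span_singleton]
      exact hab
    rw [Ideal.comap_map_eq_self_of_faithfullyFlat, Ideal.mem_span_singleton] at h1
    exact h1
  -- the valuations of `f` are divisible by `n`
  have hd : ∀ (p : Ideal A) (hp : p.IsPrime ∧ p.height = 1),
      ∃ d : ℕ, val p hp f = ((n * d : ℕ) : ℕ∞) := by
    intro p hp
    haveI := hp.1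
    obtain ⟨q, hqp, hq1, hqc, hqm⟩ := hram p hp.2
    have hq : q.IsPrime ∧ q.height = 1 := ⟨hqp, hq1⟩
    have h1 := val_map_eq p hp q hq hqc hqm hinj f
    rw [hf, val_mul, val_pow] at h1
    have hw : val q hq (w : B) = 0 := by
      rw [val_eq_zero_iff]
      intro hmem
      exact hq.1.ne_top (Ideal.eq_top_of_isUnit_mem _ hmem w.isUnit)
    rw [hw, zero_add] at h1
    have hfin : val q hq h ≠ ⊤ := by
      rw [ne_eq, val_eq_top_iff]
      exact hh0
    obtain ⟨d, hd⟩ := ENat.ne_top_iff_exists.mp hfin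
    refine ⟨d, ?_⟩
    rw [← h1, ← hd, nsmul_eq_mul]
    norm_cast
  let e : Ideal A → ℕ := fun p =>
    if hp : p.IsPrime ∧ p.height = 1 then (hd p hp).choose else 0
  have he : ∀ (p : Ideal A) (hp : p.IsPrime ∧ p.height = 1),
      val p hp f = ((n * e p : ℕ) : ℕ∞) := by
    intro p hp
    have h1 : e p = (hd p hp).choose := dif_pos hp
    rw [h1]
    exact (hd p hp).choose_spec
  let S : Finset (Ideal A) := (Vs_finite f hf0).toFinset
  have hS : ∀ p ∈ S, p.IsPrime ∧ p.height = 1 := by
    intro p hp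
    have h1 := (Set.Finite.mem_toFinset _).mp hp
    exact ⟨h1.1, h1.2.1⟩
  have hSmem : ∀ q : Ideal A, q.IsPrime → q.height = 1 → f ∈ q → q ∈ S := by
    intro q h1 h2 h3
    exact (Set.Finite.mem_toFinset _).mpr ⟨h1, h2, h3⟩
  obtain ⟨c, hc⟩ := exists_val_eq S hS (fun p => (n - 1) * e p)
  -- elements of the colon ideal are divisible by `h` in `B`
  have hI : ∀ x : A, f ∣ x * c → h ∣ algebraMap A B x := by
    intro x hx
    have h1 : f ∣ x ^ n := by
      apply dvd_of_forall_height_one' _ _ hf0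
      intro q hqp hq1
      have hq : q.IsPrime ∧ q.height = 1 := ⟨hqp, hq1⟩
      apply exists_dvd_of_val_le q hq
      by_cases hfq : f ∈ q
      · have hqS : q ∈ S := hSmem q hqp hq1 hfq
        have h2 := val_le_of_dvd q hq _ _ hx
        rw [val_mul, hc q hqS, he q hq] at h2
        rw [val_pow, he q hq, nsmul_eq_mul]
        by_cases htop : val q hq x = ⊤
        · rw [htop, ENat.mul_top (by exact_mod_cast hn0)]
          exact le_top
        · obtain ⟨k, hk⟩ := ENat.ne_top_iff_exists.mp htop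
          rw [← hk] at h2 ⊢
          have h3 : n * e q ≤ k + (n - 1) * e q := by exact_mod_cast h2
          have h4 : e q ≤ k := by
            have h5 : n * e q = e q + (n - 1) * e q := by
              obtain ⟨m, rfl⟩ : ∃ m, n = m + 1 := ⟨n - 1, by omega⟩
              rw [Nat.add_sub_cancel]
              ring
            omega
          exact_mod_cast Nat.mul_le_mul_left n h4
      · rw [(val_eq_zero_iff q hq f).mpr hfq]
        exact zero_le
    have h2 : algebraMap A B f ∣ (algebraMap A B x) ^ n := by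
      rw [← map_pow]
      exact map_dvd _ h1
    rw [hf] at h2
    have h3 : h ^ n ∣ (algebraMap A B x) ^ n := dvd_trans (Dvd.intro_left _ rfl) h2
    exact (IsIntegrallyClosed.pow_dvd_pow_iff hn0).mp h3
  -- `f ^ (n - 1)` divides `c ^ n`
  have hfc : f ^ (n - 1) ∣ c ^ n := by
    apply dvd_of_forall_height_one' _ _ (pow_ne_zero _ hf0)
    intro q hqp hq1
    have hq : q.IsPrime ∧ q.height = 1 := ⟨hqp, hq1⟩
    apply exists_dvd_of_val_le q hq
    rw [val_pow, val_pow]
    by_cases hfq : f ∈ q
    · have hqS : q ∈ S := hSmem q hqp hq1 hfq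
      rw [hc q hqS, he q hq, nsmul_eq_mul, nsmul_eq_mul]
      have h1 : (n - 1) * (n * e q) = n * ((n - 1) * e q) := by ring
      exact_mod_cast h1.le
    · rw [(val_eq_zero_iff q hq f).mpr hfq, nsmul_zero]
      exact zero_le
  have h5 : (h ^ (n - 1)) ^ n ∣ (algebraMap A B c) ^ n := by
    have h6 : (algebraMap A B f) ^ (n - 1) ∣ (algebraMap A B c) ^ n := by
      rw [← map_pow, ← map_pow]
      exact map_dvd _ hfc
    rw [hf, mul_pow] at h6
    refine dvd_trans ?_ h6
    rw [← pow_mul, ← pow_mul, mul_comm (n - 1) n]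
    exact Dvd.intro_left _ rfl
  obtain ⟨b', hb'⟩ := (IsIntegrallyClosed.pow_dvd_pow_iff hn0).mp h5
  have hwinv : (w : B) * ((w⁻¹ : Bˣ) : B) = 1 := w.mul_inv
  have hrel : algebraMap A B c * h = algebraMap A B f * (((w⁻¹ : Bˣ) : B) * b') := by
    rw [hb', hf]
    have h6 : h ^ n = h ^ (n - 1) * h := by
      rw [← pow_succ]
      congr 1
      omega
    rw [h6]
    linear_combination (- h ^ (n - 1) * h * b') * hwinv
  -- the equational criterion of flatness
  let fc : Fin 2 → A := ![c, f]
  let xs : Fin 2 → B := ![h, -(((w⁻¹ : Bˣ) : B) * b')]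
  have hsum : ∑ i, fc i • xs i = 0 := by
    rw [Fin.sum_univ_two]
    change c • h + f • (-(((w⁻¹ : Bˣ) : B) * b')) = 0
    rw [Algebra.smul_def, Algebra.smul_def, hrel]
    ring
  obtain ⟨k, a, y, hxy, hay⟩ := Module.Flat.isTrivialRelation_of_sum_smul_eq_zero (R := A) (M := B)
    (f := fc) (x := xs) hsum
  have haI : ∀ j, f ∣ a 0 j * c := by
    intro j
    have h6 := hay j
    rw [Fin.sum_univ_two] at h6
    change c * a 0 j + f * a 1 j = 0 at h6
    refine ⟨- a 1 j, ?_⟩
    linear_combination h6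
  have hdiv : ∀ j, h ∣ algebraMap A B (a 0 j) := fun j => hI _ (haI j)
  choose yy hyy using hdiv
  have h0 : h = ∑ j, a 0 j • y j := hxy 0
  have hone : ∑ j, yy j * y j = 1 := by
    have h6 : h * ∑ j, yy j * y j = h * 1 := by
      rw [mul_one, Finset.mul_sum]
      conv_rhs => rw [h0]
      refine Finset.sum_congr rfl (fun j _ => ?_)
      rw [Algebra.smul_def, hyy j, mul_assoc]
    exact mul_left_cancel₀ hh0 h6
  have hex : ∃ j, IsUnit (yy j) := by
    by_contra hno
    have hmem : ∑ j, yy j * y j ∈ maximalIdeal B := by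
      refine Ideal.sum_mem _ (fun j _ => ?_)
      refine Ideal.mul_mem_right _ _ ?_
      rw [IsLocalRing.mem_maximalIdeal, mem_nonunits_iff]
      intro hu
      exact hno ⟨j, hu⟩
    rw [hone] at hmem
    exact (Ideal.ne_top_iff_one _).mp (IsLocalRing.maximalIdeal.isMaximal B).ne_top hmem
  obtain ⟨j, hj⟩ := hex
  have hgB : algebraMap A B (a 0 j) = h * yy j := hyy j
  have h8 : a 0 j ^ n ∣ f := by
    apply hdesc
    rw [map_pow, hgB, hf, mul_pow]
    obtain ⟨v, hv⟩ := hj
    refine ⟨(w : B) * ((v⁻¹ : Bˣ) : B) ^ n, ?_⟩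
    rw [← hv]
    have h6 : (v : B) ^ n * ((v⁻¹ : Bˣ) : B) ^ n = 1 := by
      rw [← mul_pow, Units.mul_inv, one_pow]
    linear_combination (- (w : B) * h ^ n) * h6
  have h9 : f ∣ a 0 j ^ n := by
    apply hdesc
    rw [map_pow, hgB, hf, mul_pow]
    refine ⟨((w⁻¹ : Bˣ) : B) * (yy j) ^ n, ?_⟩
    linear_combination (- h ^ n * (yy j) ^ n) * hwinv
  obtain ⟨u1, hu1⟩ := h8
  obtain ⟨u2, hu2⟩ := h9
  have hu : u1 * u2 = 1 := by
    have h6 : f * (u2 * u1) = f * 1 := by
      rw [mul_one, ← mul_assoc, ← hu2, ← hu1]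
    have h7 := mul_left_cancel₀ hf0 h6
    rw [mul_comm]
    exact h7
  refine ⟨a 0 j, ⟨u1, u2, hu, by rw [mul_comm]; exact hu⟩, ?_⟩
  rw [hu1]
  exact mul_comm _ _

end Descent

end Groth.Agent.Lead.N2
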