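import Mathlib

set_option autoImplicit false
set_option linter.style.haveILetI false
set_option linter.unusedSectionVars false

namespace Groth.Agent.Lib.Lead.NMPTors1

open CategoryTheory MonoidalCategory CartesianMonoidalCategory Limits

universe v₁ v₂ u₁ u₂

section Abstract

variable {C : Type u₁} [Category.{v₁} C] [CartesianMonoidalCategory C]
  {D : Type u₂} [Category.{v₂} D] (R : C ⥤ D)

/-- weak form of preservation of binary products -/
structure PresProd : Prop where
  ext : ∀ {A B : C} {X : D} (p q : X ⟶ R.obj (A ⊗ B)),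
    p ≫ R.map (fst A B) = q ≫ R.map (fst A B) → p ≫ R.map (snd A B) = q ≫ R.map (snd A B) → p = q
  ex : ∀ {A B : C} {X : D} (x : X ⟶ R.obj A) (y : X ⟶ R.obj B),
    ∃ p : X ⟶ R.obj (A ⊗ B), p ≫ R.map (fst A B) = x ∧ p ≫ R.map (snd A B) = y

theorem presProd_of_preserves [PreservesLimitsOfShape (Discrete WalkingPair) R] : PresProd R := by
  have hl : ∀ A B : C, IsLimit (BinaryFan.mk (R.map (fst A B)) (R.map (snd A B))) := fun A B =>
    (isLimitMapConeBinaryFanEquiv R (fst A B) (snd A B))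
      (isLimitOfPreserves R (tensorProductIsBinaryProduct A B))
  constructor
  · intro A B X p q h1 h2
    exact BinaryFan.IsLimit.hom_ext (hl A B) h1 h2
  · intro A B X x y
    obtain ⟨p, hp1, hp2⟩ := BinaryFan.IsLimit.lift' (hl A B) x y
    exact ⟨p, hp1, hp2⟩

variable {R}

theorem map_lift_eq (hR : PresProd R) {T A B : C} {a a' : T ⟶ A} {b b' : T ⟶ B}
    (ha : R.map a = R.map a') (hb : R.map b = R.map b') :
    R.map (lift a b) = R.map (lift a' b') := by
  apply hR.ext
  · rw [← R.map_comp, ← R.map_comp, lift_fst, lift_fst, ha]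
  · rw [← R.map_comp, ← R.map_comp, lift_snd, lift_snd, hb]

variable {G N : C} (act : G ⊗ N ⟶ N)

theorem inv_snd [IsIso (lift act (snd G N))] :
    inv (lift act (snd G N)) ≫ snd G N = snd N N := by
  rw [IsIso.inv_comp_eq, lift_snd]

theorem inv_act [IsIso (lift act (snd G N))] :
    inv (lift act (snd G N)) ≫ act = fst N N := by
  rw [IsIso.inv_comp_eq, lift_fst]

theorem kp_eq {Z X : C} (v : Z ⊗ N ⟶ X) (u₀ : R.obj Z ⟶ R.obj X)
    (hv : R.map v = R.map (fst Z N) ≫ u₀) :
    R.map (fst (Z ⊗ N) N ≫ v) =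
      R.map (lift (fst (Z ⊗ N) N ≫ fst Z N) (snd (Z ⊗ N) N) ≫ v) := by
  rw [R.map_comp, R.map_comp, hv, ← Category.assoc, ← Category.assoc, ← R.map_comp,
    ← R.map_comp, lift_fst]

theorem inj_N (hR : PresProd R) [IsIso (lift act (snd G N))] {T : C}
    (hG : Function.Injective (fun g : T ⟶ G => R.map g)) :
    Function.Injective (fun g : T ⟶ N => R.map g) := by
  intro a b hab
  have hab' : R.map a = R.map b := hab
  have h1 : lift a b ≫ inv (lift act (snd G N)) ≫ fst G N =
      lift b b ≫ inv (lift act (snd G N)) ≫ fst G N := by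
    apply hG
    change R.map _ = R.map _
    rw [R.map_comp, R.map_comp (lift b b), map_lift_eq hR hab' rfl]
  have h2 : lift a b ≫ inv (lift act (snd G N)) = lift b b ≫ inv (lift act (snd G N)) := by
    apply CartesianMonoidalCategory.hom_ext
    · simpa using h1
    · rw [Category.assoc, Category.assoc, inv_snd, lift_snd, lift_snd]
  have h3 : lift a b = lift b b := (cancel_mono _).1 h2
  have h4 := congrArg (· ≫ fst N N) h3
  simpa using h4

theorem surj_N (hR : PresProd R) [IsIso (lift act (snd G N))] {Z : C}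
    (hGs : Function.Surjective (fun g : Z ⊗ N ⟶ G => R.map g))
    (hNi : Function.Injective (fun g : (Z ⊗ N) ⊗ N ⟶ N => R.map g))
    (hRepi : Epi (R.map (fst Z N)))
    (hdesc : ∀ (v : Z ⊗ N ⟶ N), fst (Z ⊗ N) N ≫ v =
      lift (fst (Z ⊗ N) N ≫ fst Z N) (snd (Z ⊗ N) N) ≫ v → ∃ u : Z ⟶ N, fst Z N ≫ u = v) :
    Function.Surjective (fun g : Z ⟶ N => R.map g) := by
  intro u₀
  obtain ⟨p₀, hp1, hp2⟩ := hR.ex (A := N) (B := N) (R.map (fst Z N) ≫ u₀) (R.map (snd Z N))
  obtain ⟨g, hg⟩ := hGs (p₀ ≫ R.map (inv (lift act (snd G N))) ≫ R.map (fst G N))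
  have hg' : R.map g = p₀ ≫ R.map (inv (lift act (snd G N))) ≫ R.map (fst G N) := hg
  have hq : R.map (lift g (snd Z N)) = p₀ ≫ R.map (inv (lift act (snd G N))) := by
    apply hR.ext
    · rw [← R.map_comp, lift_fst, hg', Category.assoc]
    · rw [← R.map_comp, lift_snd, Category.assoc, ← R.map_comp, inv_snd, hp2]
  have hv : R.map (lift g (snd Z N) ≫ act) = R.map (fst Z N) ≫ u₀ := by
    rw [R.map_comp, hq, Category.assoc, ← R.map_comp, inv_act, hp1]
  obtain ⟨u, hu⟩ := hdesc (lift g (snd Z N) ≫ act) (by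
    apply hNi
    exact kp_eq _ u₀ hv)
  refine ⟨u, ?_⟩
  change R.map u = u₀
  rw [← cancel_epi (R.map (fst Z N)), ← R.map_comp, hu, hv]

theorem inj_G (hR : PresProd R) [IsIso (lift act (snd G N))] {T : C}
    (hN : Function.Injective (fun g : T ⊗ N ⟶ N => R.map g)) (hepi : Epi (fst T N)) :
    Function.Injective (fun g : T ⟶ G => R.map g) := by
  intro a b hab
  have hab' : R.map a = R.map b := hab
  have h1 : lift (fst T N ≫ a) (snd T N) ≫ act = lift (fst T N ≫ b) (snd T N) ≫ act := by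
    apply hN
    change R.map _ = R.map _
    rw [R.map_comp, R.map_comp (lift (fst T N ≫ b) (snd T N)),
      map_lift_eq hR (a' := fst T N ≫ b) (b' := snd T N)
        (by rw [R.map_comp, R.map_comp, hab']) rfl]
  have h2 : lift (fst T N ≫ a) (snd T N) ≫ lift act (snd G N) =
      lift (fst T N ≫ b) (snd T N) ≫ lift act (snd G N) := by
    apply CartesianMonoidalCategory.hom_ext
    · rw [Category.assoc, Category.assoc, lift_fst, h1]
    · rw [Category.assoc, Category.assoc, lift_snd, lift_snd, lift_snd]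
  have h3 : lift (fst T N ≫ a) (snd T N) = lift (fst T N ≫ b) (snd T N) := (cancel_mono _).1 h2
  have h4 := congrArg (· ≫ fst G N) h3
  simp only [lift_fst] at h4
  exact (cancel_epi (fst T N)).1 h4

theorem surj_G (hR : PresProd R) [IsIso (lift act (snd G N))] {Z : C}
    (hNs : Function.Surjective (fun g : Z ⊗ N ⟶ N => R.map g))
    (hGi : Function.Injective (fun g : (Z ⊗ N) ⊗ N ⟶ G => R.map g))
    (hRepi : Epi (R.map (fst Z N)))
    (hdesc : ∀ (v : Z ⊗ N ⟶ G), fst (Z ⊗ N) N ≫ v =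
      lift (fst (Z ⊗ N) N ≫ fst Z N) (snd (Z ⊗ N) N) ≫ v → ∃ u : Z ⟶ G, fst Z N ≫ u = v) :
    Function.Surjective (fun g : Z ⟶ G => R.map g) := by
  intro u₀
  obtain ⟨q₀, hq1, hq2⟩ := hR.ex (A := G) (B := N) (R.map (fst Z N) ≫ u₀) (R.map (snd Z N))
  obtain ⟨n, hn⟩ := hNs (q₀ ≫ R.map act)
  have hn' : R.map n = q₀ ≫ R.map act := hn
  have hl : R.map (lift n (snd Z N)) = q₀ ≫ R.map (lift act (snd G N)) := by
    apply hR.ext
    · rw [← R.map_comp, lift_fst, hn', Category.assoc, ← R.map_comp, lift_fst]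
    · rw [← R.map_comp, lift_snd, Category.assoc, ← R.map_comp, lift_snd, hq2]
  have hv : R.map (lift n (snd Z N) ≫ inv (lift act (snd G N)) ≫ fst G N) =
      R.map (fst Z N) ≫ u₀ := by
    rw [R.map_comp, hl, R.map_comp, Category.assoc, ← Category.assoc (R.map (lift act (snd G N))),
      ← R.map_comp, IsIso.hom_inv_id, R.map_id, Category.id_comp, hq1]
  obtain ⟨u, hu⟩ := hdesc (lift n (snd Z N) ≫ inv (lift act (snd G N)) ≫ fst G N) (by
    apply hGi
    exact kp_eq _ u₀ hv)
  refine ⟨u, ?_⟩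
  change R.map u = u₀
  rw [← cancel_epi (R.map (fst Z N)), ← R.map_comp, hu, hv]

/-- the abstract equivalence -/
theorem nmp_iff (hR : PresProd R) (P : C → Prop) (hP : ∀ A B, P A → P B → P (A ⊗ B))
    (hPN : P N) [IsIso (lift act (snd G N))]
    (hepi : ∀ Z : C, Epi (fst Z N))
    (hRepi : ∀ Z : C, Epi (R.map (fst Z N)))
    (hdesc : ∀ (Z X : C) (v : Z ⊗ N ⟶ X), fst (Z ⊗ N) N ≫ v =
      lift (fst (Z ⊗ N) N ≫ fst Z N) (snd (Z ⊗ N) N) ≫ v → ∃ u : Z ⟶ X, fst Z N ≫ u = v) :
    (∀ Z, P Z → Function.Bijective (fun g : Z ⟶ G => R.map g)) ↔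
      (∀ Z, P Z → Function.Bijective (fun g : Z ⟶ N => R.map g)) := by
  constructor
  · intro h
    have hi : ∀ Z, P Z → Function.Injective (fun g : Z ⟶ N => R.map g) := fun Z hZ =>
      inj_N act hR (h Z hZ).1
    intro Z hZ
    refine ⟨hi Z hZ, ?_⟩
    exact surj_N act hR (h _ (hP _ _ hZ hPN)).2 (hi _ (hP _ _ (hP _ _ hZ hPN) hPN)) (hRepi Z)
      (hdesc Z N)
  · intro h
    have hi : ∀ Z, P Z → Function.Injective (fun g : Z ⟶ G => R.map g) := fun Z hZ =>
      inj_G act hR (h _ (hP _ _ hZ hPN)).1 (hepi Z)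
    intro Z hZ
    refine ⟨hi Z hZ, ?_⟩
    exact surj_G act hR (h _ (hP _ _ hZ hPN)).2 (hi _ (hP _ _ (hP _ _ hZ hPN) hPN)) (hRepi Z)
      (hdesc Z G)

end Abstract

section Geom

open AlgebraicGeometry

universe u

variable {S : Scheme.{u}}

theorem presProd_pullback {S' : Scheme.{u}} (f : S' ⟶ S) : PresProd (Over.pullback f) := by
  haveI : PreservesLimitsOfSize.{0, 0} (Over.pullback f) :=
    (Over.mapPullbackAdj f).rightAdjoint_preservesLimits
  exact presProd_of_preserves _

theorem smooth_tensor (A B : Over S) (hA : Smooth A.hom) (hB : Smooth B.hom) :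
    Smooth (A ⊗ B).hom := by
  rw [Over.tensorObj_hom]
  infer_instance

theorem smooth_fst (Z N : Over S) [Smooth N.hom] : Smooth (fst Z N).left := by
  rw [Over.fst_left]
  infer_instance

theorem surjective_fst (Z N : Over S) [Surjective N.hom] : Surjective (fst Z N).left := by
  rw [Over.fst_left]
  infer_instance

theorem epi_fst (Z N : Over S) [Smooth N.hom] [Surjective N.hom] : Epi (fst Z N) := by
  haveI := smooth_fst Z N
  haveI := surjective_fst Z N
  haveI : Epi (fst Z N).left := Flat.epi_of_flat_of_surjective _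
  exact Over.epi_of_epi_left _

theorem epi_map_fst {S' : Scheme.{u}} (f : S' ⟶ S) (Z N : Over S) [Smooth N.hom]
    [Surjective N.hom] : Epi ((Over.pullback f).map (fst Z N)) := by
  haveI := smooth_fst Z N
  haveI := surjective_fst Z N
  haveI : Flat ((Over.pullback f).map (fst Z N)).left :=
    MorphismProperty.overPullbackMap (P := @Flat) f _ inferInstance
  haveI : Surjective ((Over.pullback f).map (fst Z N)).left :=
    MorphismProperty.overPullbackMap (P := @Surjective) f _ inferInstance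
  haveI : Epi ((Over.pullback f).map (fst Z N)).left := Flat.epi_of_flat_of_surjective _
  exact Over.epi_of_epi_left _

theorem desc_fst (Z N X : Over S) [Smooth N.hom] [Surjective N.hom] (v : Z ⊗ N ⟶ X)
    (hv : fst (Z ⊗ N) N ≫ v = lift (fst (Z ⊗ N) N ≫ fst Z N) (snd (Z ⊗ N) N) ≫ v) :
    ∃ u : Z ⟶ X, fst Z N ≫ u = v := by
  haveI := smooth_fst Z N
  haveI := surjective_fst Z N
  haveI : EffectiveEpi (fst Z N).left := inferInstance
  have key : ∀ {T : Scheme.{u}} (g₁ g₂ : T ⟶ (Z ⊗ N).left),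
      g₁ ≫ (fst Z N).left = g₂ ≫ (fst Z N).left → g₁ ≫ v.left = g₂ ≫ v.left := by
    intro T g₁ g₂ h12
    let T' : Over S := Over.mk (g₁ ≫ (Z ⊗ N).hom)
    let t₁ : T' ⟶ Z ⊗ N := Over.homMk g₁ rfl
    have hw : g₂ ≫ (Z ⊗ N).hom = g₁ ≫ (Z ⊗ N).hom := by
      have : (Z ⊗ N).hom = (fst Z N).left ≫ Z.hom := (Over.w (fst Z N)).symm
      rw [this, ← Category.assoc, ← Category.assoc, h12]
    let t₂ : T' ⟶ Z ⊗ N := Over.homMk g₂ hw
    have ht : t₁ ≫ fst Z N = t₂ ≫ fst Z N := by
      ext1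
      exact h12
    let m : T' ⟶ (Z ⊗ N) ⊗ N := lift t₁ (t₂ ≫ snd Z N)
    have h1 : m ≫ fst (Z ⊗ N) N = t₁ := lift_fst _ _
    have h2 : m ≫ lift (fst (Z ⊗ N) N ≫ fst Z N) (snd (Z ⊗ N) N) = t₂ := by
      apply CartesianMonoidalCategory.hom_ext
      · rw [Category.assoc, lift_fst, ← Category.assoc, h1, ht]
      · rw [Category.assoc, lift_snd, lift_snd]
    have h3 := congrArg (m ≫ ·) hv
    simp only [← Category.assoc, h1, h2] at h3
    exact congrArg CommaMorphism.left h3
  let u₀ := EffectiveEpi.desc (fst Z N).left v.left key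
  have hu₀ : (fst Z N).left ≫ u₀ = v.left := EffectiveEpi.fac _ _ _
  haveI : Epi (fst Z N).left := Flat.epi_of_flat_of_surjective _
  have hw : u₀ ≫ X.hom = Z.hom := by
    rw [← cancel_epi (fst Z N).left, ← Category.assoc, hu₀, Over.w v, Over.w (fst Z N)]
  exact ⟨Over.homMk u₀ hw, by ext1; exact hu₀⟩

/-- the geometric statement -/
theorem main {S' : Scheme.{u}} (f : S' ⟶ S) (G N : Over S) [Smooth N.hom] [Surjective N.hom]
    (act : G ⊗ N ⟶ N) (hact : IsIso (lift act (snd G N))) :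
    (∀ Z : Over S, Smooth Z.hom → Function.Bijective (fun g : Z ⟶ G => (Over.pullback f).map g)) ↔
    (∀ Z : Over S, Smooth Z.hom → Function.Bijective (fun g : Z ⟶ N => (Over.pullback f).map g)) := by
  haveI := hact
  exact nmp_iff act (presProd_pullback f) (fun Z => Smooth Z.hom)
    (fun A B hA hB => smooth_tensor A B hA hB) inferInstance (fun Z => epi_fst Z N)
    (fun Z => epi_map_fst f Z N) (fun Z X v hv => desc_fst Z N X v hv)

end Geom

end Groth.Agent.Lib.Lead.NMPTors1
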