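import Mathlib
import Groth.Prelude.Def_Red
import Groth.Prelude.Def_SGA7a
import Groth.Agent.Lib.Lead.NOS1
import Groth.Agent.Lib.Helper4.AbSchMulEtale1
import Groth.Agent.Lib.Helper4.AbSchRigid1
import Groth.Agent.Lib.Helper4.NeutralSet1
import Groth.Agent.Lib.Helper4.GrpKer2

/-!
# Good reduction implies that inertia acts trivially on torsion prime to the residue
characteristic (lead)
-/

set_option backward.isDefEq.respectTransparency.types false
set_option autoImplicit false
set_option synthInstance.maxHeartbeats 400000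
set_option maxHeartbeats 1000000
set_option linter.style.haveILetI false
set_option linter.unusedSectionVars false
set_option linter.unusedSimpArgs false

universe u

open CategoryTheory CategoryTheory.Limits AlgebraicGeometry
open MonoidalCategory CartesianMonoidalCategory MonObj GrpObj

namespace Groth.Agent.Lead.NOS

open Groth.Agent.Lib.Helper4.AbSchMulEtale1 in
theorem inertia_fixes_torsion (R K Ω : Type u) [CommRing R] [IsLocalRing R] [Field K]
    [Algebra R K] [Field Ω] [Algebra K Ω]
    (W : ValuationSubring Ω) (hW : SGA7.LiesOver K R W)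
    (B : Over (Spec (CommRingCat.of R))) [GrpObj B] [IsProper B.hom] [Smooth B.hom]
    [GeometricallyConnected B.hom]
    (m : ℕ) (hm : (m : IsLocalRing.ResidueField R) ≠ 0)
    (σ : Ω ≃ₐ[K] Ω) (hσ : SGA7.IsInertia W σ)
    (x : SGA7.Pts Ω (Red.bc (Spec.map (CommRingCat.ofHom (algebraMap R K))) B))
    (hx : x ^ m = 1) : SGA7.galAct σ x = x := by
  let gK : Spec (CommRingCat.of K) ⟶ Spec (CommRingCat.of R) :=
    Spec.map (CommRingCat.ofHom (algebraMap R K))
  let BK : Over (Spec (CommRingCat.of K)) := Red.bc gK B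
  haveI : GeometricallyReduced B.hom := geometricallyReduced_of_smooth B.hom
  haveI : IsCommMonObj B := Groth.Agent.Lib.Helper4.AbSchRigid1.main_S7785 B
  -- m is a unit
  have hunit : IsUnit (m : R) := by
    by_contra h
    have h1 : (m : R) ∈ IsLocalRing.maximalIdeal R := (IsLocalRing.mem_maximalIdeal _).mpr h
    have h2 : IsLocalRing.residue R (m : R) = 0 := (IsLocalRing.residue_eq_zero_iff _).mpr h1
    rw [map_natCast] at h2
    exact hm h2
  have hmΓ : IsUnit (((m : ℕ) : ℤ) : Γ(Spec (CommRingCat.of R), ⊤)) := by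
    have h1 := hunit.map (Scheme.ΓSpecIso (CommRingCat.of R)).inv.hom
    rw [map_natCast] at h1
    simpa using h1
  obtain ⟨hfin, het⟩ := Groth.Agent.Lib.Helper4.AbSchMulEtale1.main B ((m : ℕ) : ℤ) hmΓ
  rw [zpow_natCast] at hfin het
  let fB : B.left ⟶ B.left := ((𝟙 B : B ⟶ B) ^ m).left
  haveI : IsFinite fB := hfin
  haveI : Etale fB := het
  let sT : pullback fB η[B].left ⟶ Spec (CommRingCat.of R) := pullback.snd fB η[B].left
  haveI : IsFinite sT := MorphismProperty.pullback_snd _ _ hfin
  haveI : Etale sT := MorphismProperty.pullback_snd _ _ het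
  -- the Ω-point of B
  let ω : Spec (CommRingCat.of Ω) ⟶ Spec (CommRingCat.of K) :=
    Spec.map (CommRingCat.ofHom (algebraMap K Ω))
  let x'' : Spec (CommRingCat.of Ω) ⟶ B.left := x.left ≫ pullback.fst B.hom gK
  have hxw : x.left ≫ pullback.snd B.hom gK = ω := Over.w x
  have huk : (Over.pullback gK).map ((𝟙 B : B ⟶ B) ^ m) = (𝟙 BK) ^ m := by
    have h0 := map_id_zpow (Over.pullback gK) B (m : ℤ)
    rw [zpow_natCast, zpow_natCast] at h0
    exact h0
  have hx''f : x'' ≫ fB = (ω ≫ gK) ≫ η[B].left := by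
    have h1 : x ≫ (𝟙 BK) ^ m = toUnit _ ≫ η[BK] := by
      rw [MonObj.comp_pow, Category.comp_id, hx, Hom.one_def]
    have h2 := congrArg (fun t => t.left ≫ pullback.fst B.hom gK) h1
    simp only [Over.comp_left, Category.assoc] at h2
    rw [← huk, (isPullback_map_left gK ((𝟙 B : B ⟶ B) ^ m)).w,
      Groth.Agent.Lib.Helper4.NeutralSet1.eta_bc_fst gK B,
      Groth.Agent.Lib.Helper4.GrpKer2.toUnit_left] at h2
    calc x'' ≫ fB = x.left ≫ pullback.fst B.hom gK ≫ ((𝟙 B : B ⟶ B) ^ m).left :=
          Category.assoc _ _ _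
      _ = (SGA7.pt Ω).hom ≫ gK ≫ η[B].left := h2
      _ = (ω ≫ gK) ≫ η[B].left := (Category.assoc _ _ _).symm
  let x3 : Spec (CommRingCat.of Ω) ⟶ pullback fB η[B].left :=
    pullback.lift x'' (ω ≫ gK) hx''f
  have hx3f : x3 ≫ pullback.fst fB η[B].left = x'' := pullback.lift_fst _ _ _
  have hx3s : x3 ≫ sT = ω ≫ gK := pullback.lift_snd _ _ _
  -- ring maps
  let ρ : R →+* W :=
    { toFun := fun r => ⟨algebraMap K Ω (algebraMap R K r), hW.1 r⟩
      map_one' := Subtype.ext (by simp)
      map_mul' := fun a b => Subtype.ext (by simp)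
      map_zero' := Subtype.ext (by simp)
      map_add' := fun a b => Subtype.ext (by simp) }
  let σW : W →+* W :=
    { toFun := fun w => ⟨σ w, (hσ w w.2).1⟩
      map_one' := Subtype.ext (by simp)
      map_mul' := fun a b => Subtype.ext (by simp)
      map_zero' := Subtype.ext (by simp)
      map_add' := fun a b => Subtype.ext (by simp) }
  have hρ : (algebraMap W Ω).comp ρ = (algebraMap K Ω).comp (algebraMap R K) := by
    apply RingHom.ext; intro r; rfl
  have hσW : (algebraMap W Ω).comp σW = (σ : Ω →+* Ω).comp (algebraMap W Ω) := by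
    apply RingHom.ext; intro w; rfl
  have hres : (IsLocalRing.residue W).comp σW = IsLocalRing.residue W := by
    apply RingHom.ext; intro w
    rw [RingHom.comp_apply]
    rw [← sub_eq_zero, ← map_sub, IsLocalRing.residue_eq_zero_iff]
    rw [ValuationSubring.valuation_lt_one_iff]
    exact (hσ w w.2).2
  have hσρ : σW.comp ρ = ρ := by
    apply RingHom.ext; intro r
    apply Subtype.ext
    show σ (algebraMap K Ω (algebraMap R K r)) = algebraMap K Ω (algebraMap R K r)
    exact σ.commutes _
  -- valuative criterion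
  let jW : Spec (CommRingCat.of Ω) ⟶ Spec (CommRingCat.of W) :=
    Spec.map (CommRingCat.ofHom (algebraMap W Ω))
  let rW : Spec (CommRingCat.of W) ⟶ Spec (CommRingCat.of R) := Spec.map (CommRingCat.ofHom ρ)
  have hjr : jW ≫ rW = ω ≫ gK := by
    show Spec.map _ ≫ Spec.map _ = Spec.map _ ≫ Spec.map _
    rw [← Spec.map_comp, ← Spec.map_comp, ← CommRingCat.ofHom_comp, ← CommRingCat.ofHom_comp, hρ]
  have hsq : CommSq x3 jW sT rW := ⟨by rw [hx3s, hjr]⟩
  have hex : ValuativeCriterion.Existence sT := by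
    have h1 : UniversallyClosed sT := inferInstance
    rw [UniversallyClosed.eq_valuativeCriterion] at h1
    exact h1.1
  obtain ⟨⟨l₁, hl1, hl2⟩⟩ := (hex ⟨W, Ω, x3, rW, hsq⟩).exists_lift
  -- the conjugate lift
  let sW : Spec (CommRingCat.of W) ⟶ Spec (CommRingCat.of W) := Spec.map (CommRingCat.ofHom σW)
  let sΩ : Spec (CommRingCat.of Ω) ⟶ Spec (CommRingCat.of Ω) :=
    Spec.map (CommRingCat.ofHom (σ : Ω →+* Ω))
  have hjs : jW ≫ sW = sΩ ≫ jW := by
    show Spec.map _ ≫ Spec.map _ = Spec.map _ ≫ Spec.map _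
    rw [← Spec.map_comp, ← Spec.map_comp, ← CommRingCat.ofHom_comp, ← CommRingCat.ofHom_comp, hσW]
  have hsr : sW ≫ rW = rW := by
    show Spec.map _ ≫ Spec.map _ = Spec.map _
    rw [← Spec.map_comp, ← CommRingCat.ofHom_comp, hσρ]
  let iW : Spec (CommRingCat.of (IsLocalRing.ResidueField W)) ⟶ Spec (CommRingCat.of W) :=
    Spec.map (CommRingCat.ofHom (IsLocalRing.residue W))
  have his : iW ≫ sW = iW := by
    show Spec.map _ ≫ Spec.map _ = Spec.map _
    rw [← Spec.map_comp, ← CommRingCat.ofHom_comp, hres]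
  have hl : sW ≫ l₁ = l₁ := by
    refine eq_of_unramified_of_specializes sT (sW ≫ l₁) l₁ ?_ iW ?_ ?_
    · rw [Category.assoc, hl2, hsr]
    · rw [← Category.assoc, his]
    · intro y
      refine ⟨IsLocalRing.closedPoint (IsLocalRing.ResidueField W), ?_⟩
      have hq : iW (IsLocalRing.closedPoint (IsLocalRing.ResidueField W)) =
          IsLocalRing.closedPoint W := by
        haveI : IsLocalHom (IsLocalRing.residue W) := by
          show IsLocalHom (IsLocalRing.residue W); infer_instance
        exact AlgebraicGeometry.Spec_closedPoint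
          (f := CommRingCat.ofHom (IsLocalRing.residue W))
      rw [hq]
      exact IsLocalRing.specializes_closedPoint y
  -- conclusion
  have hx3σ : sΩ ≫ x3 = x3 := by
    calc sΩ ≫ x3 = sΩ ≫ jW ≫ l₁ := by rw [hl1]
      _ = (jW ≫ sW) ≫ l₁ := by rw [hjs, Category.assoc]
      _ = jW ≫ (sW ≫ l₁) := Category.assoc _ _ _
      _ = jW ≫ l₁ := by rw [hl]
      _ = x3 := hl1
  have hx''σ : sΩ ≫ x'' = x'' := by
    rw [← hx3f, ← Category.assoc, hx3σ]
  unfold SGA7.galAct
  ext1
  rw [Over.comp_left]
  apply pullback.hom_ext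
  · rw [Category.assoc]
    exact hx''σ
  · rw [Category.assoc, hxw]
    exact SGA7.spec_map_algEquiv_comp σ

end Groth.Agent.Lead.NOS
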