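import Mathlib
import Groth.Prelude.Def_Red

set_option backward.isDefEq.respectTransparency.types false
set_option autoImplicit false
set_option synthInstance.maxHeartbeats 400000
set_option maxHeartbeats 1000000
set_option linter.style.haveILetI false
set_option linter.unusedSectionVars false
set_option linter.unusedSimpArgs false

universe u

open CategoryTheory CategoryTheory.Limits AlgebraicGeometry
open MonoidalCategory CartesianMonoidalCategory MonObj GrpObj

namespace Groth.Agent.Lead.NerComp

section topology

variable {X : Type*} [TopologicalSpace X]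

/-- finitely many irreducible components implies finitely many connected components -/
theorem finite_connectedComponents {α : Type*} [TopologicalSpace α]
    (hfin : (irreducibleComponents α).Finite) : Finite (ConnectedComponents α) := by
  haveI : Finite ↥(irreducibleComponents α) := hfin.to_subtype
  have hne : ∀ Z : ↥(irreducibleComponents α), ∃ x, x ∈ Z.1 := fun Z => Z.2.1.1
  choose pt hpt using hne
  let Ψ : ↥(irreducibleComponents α) → ConnectedComponents α :=
    fun Z => (pt Z : ConnectedComponents α)
  refine Finite.of_surjective Ψ ?_
  intro c
  obtain ⟨y, rfl⟩ := ConnectedComponents.surjective_coe c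
  refine ⟨⟨irreducibleComponent y, irreducibleComponent_mem_irreducibleComponents y⟩, ?_⟩
  show (pt ⟨irreducibleComponent y, irreducibleComponent_mem_irreducibleComponents y⟩ :
    ConnectedComponents α) = y
  rw [ConnectedComponents.coe_eq_coe]
  have h1 : irreducibleComponent y ⊆ connectedComponent y :=
    isIrreducible_irreducibleComponent.isConnected.isPreconnected.subset_connectedComponent
      mem_irreducibleComponent
  exact (connectedComponent_eq (h1 (hpt ⟨irreducibleComponent y,
    irreducibleComponent_mem_irreducibleComponents y⟩))).symm

/-- the relative connected components of a subspace with finitely many components form a finite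
set -/
theorem finite_setOf_connectedComponentIn (F : Set X) [Finite (ConnectedComponents ↥F)] :
    {C : Set X | ∃ a ∈ F, C = connectedComponentIn F a}.Finite := by
  let Φ : ConnectedComponents ↥F → Set X := fun c => Subtype.val '' (ConnectedComponents.mk ⁻¹' {c})
  refine (Set.finite_range Φ).subset ?_
  rintro C ⟨a, ha, rfl⟩
  refine ⟨ConnectedComponents.mk ⟨a, ha⟩, ?_⟩
  show Subtype.val '' (ConnectedComponents.mk ⁻¹' {ConnectedComponents.mk ⟨a, ha⟩}) = _
  rw [connectedComponents_preimage_singleton, connectedComponentIn_eq_image ha]

/-- comparing relative connected components after a self-homeomorphism preserving the subspace -/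
theorem connectedComponentIn_eq_iff_of_homeomorph (F : Set X) (τ : X ≃ₜ X) (hτ : τ '' F = F)
    (a b : X) (ha : a ∈ F) (hb : b ∈ F) :
    connectedComponentIn F a = connectedComponentIn F b ↔
      τ a ∈ connectedComponentIn F (τ b) := by
  have himg : τ '' connectedComponentIn F b = connectedComponentIn F (τ b) := by
    rw [τ.image_connectedComponentIn hb, hτ]
  constructor
  · intro h
    rw [← himg, ← h]
    exact ⟨a, mem_connectedComponentIn ha, rfl⟩
  · intro h
    rw [← himg] at h
    obtain ⟨a', ha', haa⟩ := h
    have : a' = a := τ.injective haa
    subst this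
    exact (connectedComponentIn_eq ha').symm

end topology

section group

variable {C : Type*} [Category C] [CartesianMonoidalCategory C] (N : C) [GrpObj N]

/-- right translation by a global point -/
noncomputable def rtrans (y : 𝟙_ C ⟶ N) : N ⟶ N := (𝟙 N) * (toUnit N ≫ y)

theorem comp_rtrans (y : 𝟙_ C ⟶ N) (x : 𝟙_ C ⟶ N) : x ≫ rtrans N y = x * y := by
  unfold rtrans
  rw [MonObj.comp_mul, Category.comp_id, ← Category.assoc, toUnit_unique (x ≫ toUnit N) (𝟙 _),
    Category.id_comp]

theorem rtrans_comp (y y' : 𝟙_ C ⟶ N) : rtrans N y ≫ rtrans N y' = rtrans N (y * y') := by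
  unfold rtrans
  rw [MonObj.comp_mul, Category.comp_id, ← Category.assoc,
    toUnit_unique (((𝟙 N) * (toUnit N ≫ y)) ≫ toUnit N) (toUnit N), _root_.mul_assoc,
    ← MonObj.comp_mul]

theorem rtrans_one : rtrans N (1 : 𝟙_ C ⟶ N) = 𝟙 N := by
  unfold rtrans
  rw [MonObj.comp_one, _root_.mul_one]

/-- right translation is an isomorphism -/
noncomputable def rtransIso (y : 𝟙_ C ⟶ N) : N ≅ N where
  hom := rtrans N y
  inv := rtrans N y⁻¹
  hom_inv_id := by rw [rtrans_comp, mul_inv_cancel, rtrans_one]
  inv_hom_id := by rw [rtrans_comp, inv_mul_cancel, rtrans_one]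

end group

end Groth.Agent.Lead.NerComp
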