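import Mathlib
import Groth.Prelude.Def_Red
import Groth.Prelude.Def_SGA7IX
import Groth.Agent.Lib.Helper4.HensProper3
import Groth.Agent.Lib.Helper2.Sch.GrpFibreDim

set_option backward.isDefEq.respectTransparency.types false
set_option autoImplicit false
set_option synthInstance.maxHeartbeats 400000
set_option maxHeartbeats 1000000
set_option linter.style.haveILetI false
set_option linter.unusedSectionVars false
set_option linter.unusedSimpArgs false

universe u

open CategoryTheory CategoryTheory.Limits AlgebraicGeometry
open MonoidalCategory CartesianMonoidalCategory MonObj GrpObj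

namespace Groth.Agent.Lead.NerProp

/-- transfer of a base-change-stable property along a factorization of the base point -/
theorem snd_of_factor {X S T T' : Scheme.{u}} (f : X ⟶ S) (q : T ⟶ S) (j : T' ⟶ T) (e : T' ⟶ S)
    (he : e = j ≫ q) (P : MorphismProperty Scheme.{u}) [P.IsStableUnderBaseChange]
    (h : P (pullback.snd f q)) : P (pullback.snd f e) := by
  subst he
  let l : pullback f (j ≫ q) ⟶ pullback f q :=
    pullback.lift (pullback.fst f (j ≫ q)) (pullback.snd f (j ≫ q) ≫ j)
      (by rw [Category.assoc]; exact pullback.condition)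
  have h1 : l ≫ pullback.fst f q = pullback.fst f (j ≫ q) := pullback.lift_fst _ _ _
  have h2 : l ≫ pullback.snd f q = pullback.snd f (j ≫ q) ≫ j := pullback.lift_snd _ _ _
  have big : IsPullback (l ≫ pullback.fst f q) (pullback.snd f (j ≫ q)) f (j ≫ q) := by
    rw [h1]; exact IsPullback.of_hasPullback f (j ≫ q)
  have right : IsPullback (pullback.fst f q) (pullback.snd f q) f q :=
    IsPullback.of_hasPullback f q
  have left : IsPullback l (pullback.snd f (j ≫ q)) (pullback.snd f q) j :=
    IsPullback.of_right big h2 right
  exact P.of_isPullback left h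

/-- the residue-field point of `Spec R` at `x` factors through any `R`-algebra mapping to the
residue field -/
theorem exists_factor (R : Type u) [CommRing R] (x : Spec (CommRingCat.of R))
    (L : Type u) [CommRing L] [Algebra R L] (ψ : L →+* x.asIdeal.ResidueField)
    (hψ : ψ.comp (algebraMap R L) = algebraMap R x.asIdeal.ResidueField) :
    ∃ j : Spec ((Spec (CommRingCat.of R)).residueField x) ⟶ Spec (CommRingCat.of L),
      (Spec (CommRingCat.of R)).fromSpecResidueField x =
        j ≫ Spec.map (CommRingCat.ofHom (algebraMap R L)) := by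
  refine ⟨Spec.map (Scheme.Spec.residueFieldIso (CommRingCat.of R) x).inv ≫
    Spec.map (CommRingCat.ofHom ψ), ?_⟩
  have h1 := Scheme.Spec.map_residueFieldIso_inv_eq_fromSpecResidueField (CommRingCat.of R) x
  have h2 : Spec.map (CommRingCat.ofHom (algebraMap (CommRingCat.of R) x.asIdeal.ResidueField)) =
      Spec.map (CommRingCat.ofHom ψ) ≫ Spec.map (CommRingCat.ofHom (algebraMap R L)) := by
    rw [← Spec.map_comp, ← CommRingCat.ofHom_comp, hψ]
  rw [← h1, h2, Category.assoc]

/-- the closed point of a local ring: factorization through the residue field `R ⧸ m` -/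
theorem exists_factor_closedPoint (R : Type u) [CommRing R] [IsLocalRing R] :
    ∃ j : Spec ((Spec (CommRingCat.of R)).residueField (IsLocalRing.closedPoint R)) ⟶
        Spec (CommRingCat.of (IsLocalRing.ResidueField R)),
      (Spec (CommRingCat.of R)).fromSpecResidueField (IsLocalRing.closedPoint R) =
        j ≫ Spec.map (CommRingCat.ofHom (IsLocalRing.residue R)) := by
  obtain ⟨x, hx⟩ : ∃ x : Spec (CommRingCat.of R), x = IsLocalRing.closedPoint R := ⟨_, rfl⟩
  rw [← hx]
  have hxi : x.asIdeal = IsLocalRing.maximalIdeal R := by rw [hx]; rfl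
  have hmem : ∀ a ∈ IsLocalRing.maximalIdeal R, algebraMap R x.asIdeal.ResidueField a = 0 :=
    fun a ha => (Ideal.algebraMap_residueField_eq_zero (I := x.asIdeal)).2 (hxi ▸ ha)
  let ψ : IsLocalRing.ResidueField R →+* x.asIdeal.ResidueField :=
    Ideal.Quotient.lift (IsLocalRing.maximalIdeal R) (algebraMap R _) hmem
  have hψ : ψ.comp (algebraMap R (IsLocalRing.ResidueField R)) = algebraMap R _ :=
    RingHom.ext fun a => by
      show Ideal.Quotient.lift (IsLocalRing.maximalIdeal R) (algebraMap R _) hmem
        (Ideal.Quotient.mk (IsLocalRing.maximalIdeal R) a) = _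
      exact Ideal.Quotient.lift_mk _ _ _
  obtain ⟨j, hj⟩ := exists_factor R x (IsLocalRing.ResidueField R) ψ hψ
  exact ⟨j, hj⟩

/-- the generic point of a domain: factorization through a fraction field -/
theorem exists_factor_genericPoint (R K : Type u) [CommRing R] [IsDomain R] [Field K]
    [Algebra R K] [IsFractionRing R K] :
    ∃ j : Spec ((Spec (CommRingCat.of R)).residueField
        (genericPoint ↥(Spec (CommRingCat.of R)))) ⟶ Spec (CommRingCat.of K),
      (Spec (CommRingCat.of R)).fromSpecResidueField (genericPoint ↥(Spec (CommRingCat.of R))) =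
        j ≫ Spec.map (CommRingCat.ofHom (algebraMap R K)) := by
  obtain ⟨x, hx⟩ : ∃ x : Spec (CommRingCat.of R), x = genericPoint ↥(Spec (CommRingCat.of R)) :=
    ⟨_, rfl⟩
  rw [← hx]
  have hbot : x.asIdeal = ⊥ := by
    rw [hx, genericPoint_eq_bot_of_affine (CommRingCat.of R)]; rfl
  have hinj : Function.Injective (algebraMap R x.asIdeal.ResidueField) := by
    rw [injective_iff_map_eq_zero]
    intro a ha
    have := (Ideal.algebraMap_residueField_eq_zero (I := x.asIdeal)).1 ha
    rw [hbot] at this
    exact this
  let ψ : K →+* x.asIdeal.ResidueField := IsFractionRing.lift (A := R) (K := K) hinj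
  have hψ : ψ.comp (algebraMap R K) = algebraMap R x.asIdeal.ResidueField := by
    apply RingHom.ext
    intro a
    rw [RingHom.comp_apply]
    exact IsFractionRing.lift_algebraMap hinj a
  obtain ⟨j, hj⟩ := exists_factor R x K ψ hψ
  exact ⟨j, hj⟩

/-- geometrically irreducible morphisms are geometrically connected -/
theorem geometricallyConnected_of_geometricallyIrreducible {X Y : Scheme.{u}} (f : X ⟶ Y)
    [hf : GeometricallyIrreducible f] : GeometricallyConnected f := by
  have h : geometrically (IrreducibleSpace ·) f := by
    rw [← GeometricallyIrreducible.eq_geometrically]; exact hf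
  rw [GeometricallyConnected.eq_geometrically]
  intro K _ y Z fst snd sq
  haveI : IrreducibleSpace ↥Z := h y fst snd sq
  show ConnectedSpace ↥Z
  infer_instance

theorem main4058 (R K : Type u) [CommRing R] [IsDomain R] [IsDiscreteValuationRing R] [Field K]
    [Algebra R K] [IsFractionRing R K]
    (N : Over (Spec (CommRingCat.of R))) [GrpObj N] (hN : SGA7.IsNeron R K N)
    [hp : IsProper ((SGA7.genFib R K).obj N).hom]
    [hg : GeometricallyIntegral ((SGA7.genFib R K).obj N).hom]
    [hs : IsProper (Red.bc (Spec.map (CommRingCat.ofHom (IsLocalRing.residue R))) N).hom] :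
    IsProper N.hom := by
  haveI : Smooth N.hom := hN.1
  haveI : IsSeparated N.hom := hN.2.1
  haveI : QuasiCompact N.hom := hN.2.2.1
  haveI : LocallyOfFiniteType N.hom := inferInstance
  haveI : Flat N.hom := inferInstance
  -- the closed fibre
  obtain ⟨j, hj⟩ := exists_factor_closedPoint R
  haveI : IsProper (N.hom.fiberToSpecResidueField (IsLocalRing.closedPoint R)) :=
    snd_of_factor N.hom (Spec.map (CommRingCat.ofHom (IsLocalRing.residue R))) j _ hj @IsProper hs
  -- the generic fibre
  obtain ⟨j', hj'⟩ := exists_factor_genericPoint R K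
  haveI : GeometricallyConnected ((SGA7.genFib R K).obj N).hom :=
    geometricallyConnected_of_geometricallyIrreducible _
  haveI : GeometricallyConnected (N.hom.fiberToSpecResidueField
      (genericPoint ↥(Spec (CommRingCat.of R)))) :=
    snd_of_factor N.hom (Spec.map (CommRingCat.ofHom (algebraMap R K))) j' _ hj'
      @GeometricallyConnected
      (inferInstanceAs (GeometricallyConnected ((SGA7.genFib R K).obj N).hom))
  -- the closed fibre is nonempty
  haveI : Nonempty ↥(N.hom.fiber (IsLocalRing.closedPoint R)) := by
    have hx : N.hom (Groth.Agent.Helper2.GrpFibreDim.unitSec N (IsLocalRing.closedPoint R)) =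
        IsLocalRing.closedPoint R := Groth.Agent.Helper2.GrpFibreDim.hom_unitSec N _
    exact ⟨(N.hom.fiberHomeo (IsLocalRing.closedPoint R)).symm ⟨_, hx⟩⟩
  exact (Groth.Agent.Lib.Helper4.HensProper3.S19653_main R N.left N.hom).1

end Groth.Agent.Lead.NerProp
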