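import Mathlib
import Groth.Prelude.Def_Red
import Groth.Prelude.Def_SGA7a
import Groth.Agent.Lib.Lead.NOS2
import Groth.Agent.Lib.Lead.NerComp1
import Groth.Agent.Lib.Lead.NerProp1

/-!
# Good reduction implies unramified ℓ-power torsion (lead)
-/

set_option backward.isDefEq.respectTransparency.types false
set_option autoImplicit false
set_option synthInstance.maxHeartbeats 400000
set_option maxHeartbeats 1000000
set_option linter.style.haveILetI false
set_option linter.unusedSectionVars false
set_option linter.unusedSimpArgs false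

universe u

open CategoryTheory CategoryTheory.Limits AlgebraicGeometry
open MonoidalCategory CartesianMonoidalCategory MonObj GrpObj

namespace Groth.Agent.Lead.NOS

open Groth.Agent.Lead.NerComp in
theorem main3210 (R K Ω : Type u) [CommRing R] [IsDomain R] [IsDiscreteValuationRing R]
    [Field K] [Algebra R K] [Field Ω] [Algebra K Ω]
    (W : ValuationSubring Ω) (hW : SGA7.LiesOver K R W) (ℓ : ℕ)
    (hℓp : (ℓ : IsLocalRing.ResidueField R) ≠ 0)
    (A : Over (Spec (CommRingCat.of K))) [GrpObj A] [IsProper A.hom] [GeometricallyIntegral A.hom]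
    (hgood : (∃ (B : Over (Spec (CommRingCat.of R))) (_ : GrpObj B), IsProper B.hom ∧ Smooth B.hom ∧
        (∀ (k' : Type u) [Field k'] (t : Spec (CommRingCat.of k') ⟶ Spec (CommRingCat.of R)),
          ConnectedSpace ↑(pullback B.hom t)) ∧
        Nonempty ((Over.pullback (Spec.map (CommRingCat.ofHom (algebraMap R K)))).obj B ≅ A))) :
    ∀ (ν : ℕ) (σ : Ω ≃ₐ[K] Ω), SGA7.IsInertia W σ → ∀ x : SGA7.Pts Ω A, x ^ (ℓ ^ ν) = 1 →
      SGA7.galAct σ x = x := by
  obtain ⟨B, instB, hprop, hsm, hconn, ⟨e⟩⟩ := hgood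
  letI := instB
  haveI := hprop
  haveI := hsm
  haveI : GeometricallyConnected B.hom := geometricallyConnected_of_forall B.hom hconn
  intro ν σ hσ x hx
  let gK : Spec (CommRingCat.of K) ⟶ Spec (CommRingCat.of R) :=
    Spec.map (CommRingCat.ofHom (algebraMap R K))
  let BK : Over (Spec (CommRingCat.of K)) := Red.bc gK B
  let e' : BK ≅ A := e
  let b : 𝟙_ (Over (Spec (CommRingCat.of K))) ⟶ BK := η[A] ≫ e'.inv
  let f' : A ⟶ BK := e'.inv ≫ rtrans BK b⁻¹
  have hf'η : η[A] ≫ f' = η[BK] := by
    show η[A] ≫ e'.inv ≫ rtrans BK b⁻¹ = η[BK]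
    rw [← Category.assoc]
    show b ≫ rtrans BK b⁻¹ = η[BK]
    rw [comp_rtrans, mul_inv_cancel, Hom.one_def, toUnit_unique (toUnit _) (𝟙 _),
      Category.id_comp]
  haveI : IsLocallyNoetherian (Spec (CommRingCat.of K)) := inferInstance
  haveI : LocallyOfFinitePresentation A.hom :=
    LocallyOfFinitePresentation.iff_locallyOfFiniteType.mpr inferInstance
  haveI : GeometricallyConnected A.hom :=
    Groth.Agent.Lead.NerProp.geometricallyConnected_of_geometricallyIrreducible A.hom
  haveI : IsSeparated BK.hom := inferInstanceAs (IsSeparated (pullback.snd B.hom gK))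
  haveI : IsMonHom f' := Groth.Agent.Lib.Helper4.AbSchRigid1.main_S7784 A BK f' hf'η
  haveI : IsIso f' := by
    have : f' = (e'.symm ≪≫ rtransIso BK b⁻¹).hom := rfl
    rw [this]; infer_instance
  have hm : ((ℓ ^ ν : ℕ) : IsLocalRing.ResidueField R) ≠ 0 := by
    rw [Nat.cast_pow]
    exact pow_ne_zero _ hℓp
  have key := inertia_fixes_torsion R K Ω W hW B (ℓ ^ ν) hm σ hσ (x ≫ f')
    (by rw [← MonObj.pow_comp, hx, MonObj.one_comp])
  have h2 : SGA7.galAct σ x ≫ f' = x ≫ f' := by
    unfold SGA7.galAct at key ⊢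
    rw [Category.assoc]
    exact key
  exact (cancel_mono f').mp h2

end Groth.Agent.Lead.NOS
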