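import Mathlib
import Groth.Agent.Lib.Lead.CV12
import Groth.Agent.Lib.Helper5.Perf.Pull

/-!
# Nefness (curve test) in extensions (lead)
-/

set_option autoImplicit false
set_option backward.isDefEq.respectTransparency.types false
set_option synthInstance.maxHeartbeats 400000
set_option linter.style.haveILetI false
set_option linter.unusedSectionVars false
set_option linter.unusedVariables false
universe u
open CategoryTheory CategoryTheory.Limits AlgebraicGeometry TopologicalSpace Opposite

namespace Groth.Agent.Lead.NefExt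

open Groth.Agent.Helper1.QcCech Groth.Agent.Helper1.SubSh Groth.Agent.Helper1.LGen
open Groth.Agent.Helper1.TmulLib Groth.Agent.Helper1 Groth.Agent.Helper1.TwForm
open Groth.Agent.Helper1.TensGen Groth.Agent.Lib.Helper4.TwExact Groth.Agent.Helper1.Dv
open Groth.Agent.Lib.Helper4 Groth.Agent.Helper1.CurveAmp Groth.Agent.Helper1.FinSupp
open Groth.Agent.Helper1.Euler Groth.Agent.Helper1.Curve Groth.Agent.Helper1.CurveLin
open Groth.Agent.Helper1.CurveDual Groth.Agent.Lead.HN Groth.Agent.Lead.VBL
open Groth.Agent.Helper1.CurvePt Groth.Agent.Helper1.PtInv Groth.Agent.Helper1.ProjF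

section Main

variable (k : Type u) [Field k] (C : Scheme.{u}) [C.Over (Spec (CommRingCat.of k))]
  [IsProper (C ↘ Spec (CommRingCat.of k))] [IsIntegral C]

/-- on a regular integral proper curve, an invertible quotient of the middle term of a right exact
sequence of vector bundles whose outer terms have only invertible quotients of nonnegative degree
has nonnegative degree -/
theorem deg_nonneg_of_quotient (hdim : topologicalKrullDim C = 1)
    (hreg : ∀ x : C, IsRegularLocalRing (C.presheaf.stalk x))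
    (T : ShortComplex C.Modules) (hT : T.Exact) (hg : Epi T.g)
    (h₁ : FlatMod.IsFinLocFree T.X₁)
    (n₁ : ∀ (M : C.Modules), PicF.IsInvertible M → ∀ q : T.X₁ ⟶ M, Epi q → 0 ≤ Curv2.deg k C M 1)
    (n₃ : ∀ (M : C.Modules), PicF.IsInvertible M → ∀ q : T.X₃ ⟶ M, Epi q → 0 ≤ Curv2.deg k C M 1)
    (M : C.Modules) (hM : PicF.IsInvertible M) (q : T.X₂ ⟶ M) (hq : Epi q) :
    0 ≤ Curv2.deg k C M 1 := by
  have hX : ∀ x : C, ValuationRing (C.presheaf.stalk x) := fun x => by
    haveI := hreg x
    haveI : IsDomain (C.presheaf.stalk x) := inferInstance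
    exact VB5.valuationRing_of_regular _ (VB5.ringKrullDim_stalk_le hdim.le x)
  by_cases hφ : T.f ≫ q = 0
  · haveI := hg
    have hd : T.g ≫ hT.desc q hφ = q := hT.g_desc q hφ
    have hde : Epi (hT.desc q hφ) := by
      haveI : Epi (T.g ≫ hT.desc q hφ) := by
        rw [hd]
        exact hq
      exact epi_of_epi T.g _
    exact n₃ M hM (hT.desc q hφ) hde
  · obtain ⟨r₁, hr₁⟩ := VB.exists_rank T.X₁ h₁
    obtain ⟨rK, rI, hK, hI, hr, hIs, hdeg, hpos⟩ :=
      VB.ker_im k C hX hr₁ (isFinLocFreeOfRank_one hM) (T.f ≫ q)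
    have hrI : rI = 1 := by
      have := hpos hφ
      omega
    subst hrI
    have hIinv : PicF.IsInvertible (Abelian.image (T.f ≫ q)) := isInvertible_of_rank_one C hI
    have h0 := n₁ _ hIinv (Abelian.factorThruImage (T.f ≫ q)) inferInstance
    have hne : Abelian.image.ι (T.f ≫ q) ≠ 0 := by
      intro h
      apply hφ
      rw [← Abelian.image.fac (T.f ≫ q), h, comp_zero]
    have := (deg_le_of_hom k C hdim hIinv hM _ hne).1
    omega

end Main

section S17280

variable (k : Type u) [Field k] (X : Scheme.{u}) [X.Over (Spec (CommRingCat.of k))]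

/-- S17280 -/
theorem nef_of_shortExact (S : ShortComplex X.Modules) (hS : S.ShortExact)
    (h₁ : FlatMod.IsFinLocFree S.X₁)
    (hnef₁ : ∀ (C : Scheme.{u}) [C.Over (Spec (CommRingCat.of k))] [IsProper (C ↘ (Spec (CommRingCat.of k)))] [IsIntegral C],
      topologicalKrullDim C = 1 → (∀ x : C, IsRegularLocalRing (C.presheaf.stalk x)) →
      ∀ (f : C ⟶ X), f ≫ (X ↘ (Spec (CommRingCat.of k))) = C ↘ (Spec (CommRingCat.of k)) →
      ∀ (M : C.Modules), PicF.IsInvertible M →
      ∀ (q : (Scheme.Modules.pullback f).obj S.X₁ ⟶ M), Epi q → 0 ≤ Curv2.deg k C M 1)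
    (hnef₃ : ∀ (C : Scheme.{u}) [C.Over (Spec (CommRingCat.of k))] [IsProper (C ↘ (Spec (CommRingCat.of k)))] [IsIntegral C],
      topologicalKrullDim C = 1 → (∀ x : C, IsRegularLocalRing (C.presheaf.stalk x)) →
      ∀ (f : C ⟶ X), f ≫ (X ↘ (Spec (CommRingCat.of k))) = C ↘ (Spec (CommRingCat.of k)) →
      ∀ (M : C.Modules), PicF.IsInvertible M →
      ∀ (q : (Scheme.Modules.pullback f).obj S.X₃ ⟶ M), Epi q → 0 ≤ Curv2.deg k C M 1) :
    ∀ (C : Scheme.{u}) [C.Over (Spec (CommRingCat.of k))] [IsProper (C ↘ (Spec (CommRingCat.of k)))] [IsIntegral C],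
    topologicalKrullDim C = 1 → (∀ x : C, IsRegularLocalRing (C.presheaf.stalk x)) →
    ∀ (f : C ⟶ X), f ≫ (X ↘ (Spec (CommRingCat.of k))) = C ↘ (Spec (CommRingCat.of k)) →
    ∀ (M : C.Modules), PicF.IsInvertible M →
    ∀ (q : (Scheme.Modules.pullback f).obj S.X₂ ⟶ M), Epi q → 0 ≤ Curv2.deg k C M 1 := by
  intro C _ _ _ hdim hreg f hf M hM q hq
  haveI := hS.epi_g
  have hT : (S.map (Scheme.Modules.pullback f)).Exact :=
    hS.exact.map_of_epi_of_preservesCokernel (Scheme.Modules.pullback f) hS.epi_g inferInstance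
  have hg : Epi (S.map (Scheme.Modules.pullback f)).g :=
    inferInstanceAs (Epi ((Scheme.Modules.pullback f).map S.g))
  exact deg_nonneg_of_quotient k C hdim hreg (S.map (Scheme.Modules.pullback f)) hT hg
    (Groth.Agent.Lib.Helper5.PerfPull.isFinLocFree_pullback f _ h₁)
    (fun M' hM' q' hq' => hnef₁ C hdim hreg f hf M' hM' q' hq')
    (fun M' hM' q' hq' => hnef₃ C hdim hreg f hf M' hM' q' hq') M hM q hq

end S17280

end Groth.Agent.Lead.NefExt
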