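import Mathlib
import Groth.Agent.Lib.Lead.GG1
import Groth.Agent.Lib.Helper2.Sch.SmoothFieldRegular2

/-!
# Global generation of twists of nef bundles on curves (lead)
-/

set_option autoImplicit false
set_option backward.isDefEq.respectTransparency.types false
set_option synthInstance.maxHeartbeats 400000
set_option linter.style.haveILetI false
set_option linter.unusedSectionVars false
set_option linter.unusedVariables false
universe u
open CategoryTheory CategoryTheory.Limits AlgebraicGeometry TopologicalSpace Opposite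

namespace Groth.Agent.Lead.NefGG

open Groth.Agent.Helper1.QcCech Groth.Agent.Helper1.SubSh Groth.Agent.Helper1.LGen
open Groth.Agent.Helper1.TmulLib Groth.Agent.Helper1 Groth.Agent.Helper1.TwForm
open Groth.Agent.Helper1.TensGen Groth.Agent.Lib.Helper4.TwExact Groth.Agent.Helper1.Dv
open Groth.Agent.Lib.Helper4 Groth.Agent.Lib.Helper4.KosB2
open Groth.Agent.Helper1.CurveAmp Groth.Agent.Helper1.FinSupp
open Groth.Agent.Helper1.Euler Groth.Agent.Helper1.Curve Groth.Agent.Helper1.CurveLin
open Groth.Agent.Helper1.CurveDual Groth.Agent.Lead.HN Groth.Agent.Lead.VBL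
open Groth.Agent.Helper1.CurvePt Groth.Agent.Helper1.PtInv Groth.Agent.Helper1.ProjF
open Groth.Agent.Lead.GG

variable (k : Type u) [Field k] (X : Scheme.{u}) [X.Over (Spec (CommRingCat.of k))]
  [IsIntegral X] [IsProper (X ↘ Spec (CommRingCat.of k))]

/-- an invertible quotient of a twist `F ⊗ N` untwists to an invertible quotient of `F` -/
theorem exists_untwist_quotient (hdim : topologicalKrullDim X = 1) {F N Q : X.Modules}
    (hN : PicF.IsInvertible N) (hQ : PicF.IsInvertible Q)
    (p : CohB1.tensorMod F N ⟶ Q) [Epi p] :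
    ∃ (Q' : X.Modules) (p' : F ⟶ Q'), Epi p' ∧ PicF.IsInvertible Q' ∧
      Curv2.deg k X Q' 1 = Curv2.deg k X Q 1 - Curv2.deg k X N 1 := by
  obtain ⟨N', hN', ⟨e⟩⟩ := InvInv2.exists_inverse hN
  have hdN' := GenusOne.deg_of_inverse k X hdim hN' hN e
  have e' : CohB1.tensorMod N N' ≅ Coh.structureModule X := TildeTens.tensorModComm N N' ≪≫ e
  obtain ⟨c, hc⟩ : ∃ c : (TL N').obj ((TL N).obj F) ⟶ CohB1.tensorMod Q N',
      c = KoszTw.tensorMap p (𝟙 N') := ⟨_, rfl⟩
  haveI : Epi c := by
    rw [hc]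
    exact epi_tensorMap p (𝟙 N')
  refine ⟨CohB1.tensorMod Q N', (TwNat.untw hN hN' e' F).inv ≫ c,
    epi_comp _ _, isInvertible_tensorMod hQ hN', ?_⟩
  rw [GenusOne.deg_tensor_inv k X hdim hQ hN', hdN']
  ring

variable [IsAlgClosed k] [Smooth (X ↘ Spec (CommRingCat.of k))]

/-- S17281 (core): a bundle all of whose invertible quotients have nonnegative degree, twisted by
an invertible module of degree at least `2g`, is globally generated -/
theorem globGen_of_quotients_nonneg (hdim : topologicalKrullDim X = 1) (r : ℕ) (E : X.Modules)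
    (hE : FlatMod.IsFinLocFreeOfRank r E) (H : X.Modules) (hH : PicF.IsInvertible H)
    (hq : ∀ (M : X.Modules), PicF.IsInvertible M → ∀ q : E ⟶ M, Epi q → 0 ≤ Curv2.deg k X M 1)
    (hdeg : 2 * (Curv2.genus k X : ℤ) ≤ Curv2.deg k X H 1) :
    Curv2.IsGloballyGenerated (CohB1.tensorMod E H) := by
  haveI := isNoetherian_of_proper k X
  haveI : IsLocallyNoetherian X := (isNoetherian_of_proper k X).toIsLocallyNoetherian
  have hEH := VBQ.isFinLocFreeOfRank_tensor_invertible hE hH
  refine isGloballyGenerated_of_h1_twist k X hdim hEH ?_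
  intro x hx
  have hI := Groth.Agent.Helper1.PtInv.isInvertible_ptIdeal_of_smooth k X hdim x hx
  have hET := VBQ.isFinLocFreeOfRank_tensor_invertible hEH hI
  have h1 : Subsingleton (Coh.HH X (CohB1.tensorMod (CohB1.tensorMod E H)
      (ClSub.idealMod (ptIdeal x hx))) 1) := by
    rcases Nat.eq_zero_or_pos r with h0 | hr
    · subst h0
      exact H1Ext.subsingleton_HH_of_isZero (VB.isZero_of_rank_zero hET) 1
    · by_contra hns
      obtain ⟨Q, p, hp, hQ, hdQ⟩ := CV.exists_quotient_deg_le k X hdim hr hET hns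
      haveI := hp
      obtain ⟨Q₁, p₁, hp₁, hQ₁, hd₁⟩ := exists_untwist_quotient k X hdim hI hQ p
      haveI := hp₁
      obtain ⟨Q₂, p₂, hp₂, hQ₂, hd₂⟩ := exists_untwist_quotient k X hdim hH hQ₁ p₁
      have h0 := hq Q₂ hQ₂ p₂ hp₂
      rw [hd₂, hd₁, PtInv.deg_ptIdeal k X x hx] at h0
      linarith
  exact (HHFin1.HHequiv k
    (TildeTens.tensorModComm (ClSub.idealMod (ptIdeal x hx)) (CohB1.tensorMod E H)) 1).toEquiv.subsingleton

end Groth.Agent.Lead.NefGG
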