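import Mathlib
import Groth.Prelude.Def_Red
import Groth.Prelude.Def_SGA7IX
import Groth.Agent.Lib.Lead.NerComp1
import Groth.Agent.Lib.Helper7.SmoothSection
import Groth.Agent.Lib.Helper4.SepPtsDense1
import Groth.Agent.Lib.Helper1.TopL

set_option backward.isDefEq.respectTransparency.types false
set_option autoImplicit false
set_option synthInstance.maxHeartbeats 400000
set_option maxHeartbeats 1000000
set_option linter.style.haveILetI false
set_option linter.unusedSectionVars false
set_option linter.unusedSimpArgs false

universe u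

open CategoryTheory CategoryTheory.Limits AlgebraicGeometry
open MonoidalCategory CartesianMonoidalCategory MonObj GrpObj

namespace Groth.Agent.Lead.NerComp

variable (R : Type u) [CommRing R] [IsLocalRing R]
  (N : Over (Spec (CommRingCat.of R)))

/-- the value of a section at the closed point lies in the special fibre -/
theorem sec_mem (x : 𝟙_ (Over (Spec (CommRingCat.of R))) ⟶ N) :
    x.left.base (IsLocalRing.closedPoint R) ∈ SGA7.specialFibreSet R N := by
  show N.hom (x.left (IsLocalRing.closedPoint R)) = IsLocalRing.closedPoint R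
  rw [← Scheme.Hom.comp_apply, Over.w x]
  rfl

/-- finiteness of the set of components of the special fibre -/
theorem finite_components [LocallyOfFiniteType N.hom] [QuasiCompact N.hom] :
    {C : Set N.left | ∃ a ∈ SGA7.specialFibreSet R N,
      C = connectedComponentIn (SGA7.specialFibreSet R N) a}.Finite := by
  let s₀ := IsLocalRing.closedPoint R
  haveI : LocallyOfFiniteType (N.hom.fiberToSpecResidueField s₀) :=
    MorphismProperty.pullback_snd _ _ inferInstance
  haveI : QuasiCompact (N.hom.fiberToSpecResidueField s₀) :=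
    MorphismProperty.pullback_snd _ _ inferInstance
  haveI : IsLocallyNoetherian (N.hom.fiber s₀) :=
    LocallyOfFiniteType.isLocallyNoetherian (N.hom.fiberToSpecResidueField s₀)
  haveI : CompactSpace ↥(N.hom.fiber s₀) :=
    QuasiCompact.compactSpace_of_compactSpace (N.hom.fiberToSpecResidueField s₀)
  haveI : IsNoetherian (N.hom.fiber s₀) := {}
  haveI : TopologicalSpace.NoetherianSpace ↥(N.hom.fiber s₀) := inferInstance
  haveI : TopologicalSpace.NoetherianSpace ↥(SGA7.specialFibreSet R N) :=
    (TopologicalSpace.noetherianSpace_iff_of_homeomorph (N.hom.fiberHomeo s₀)).1 inferInstance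
  haveI : Finite (_root_.ConnectedComponents ↥(SGA7.specialFibreSet R N)) :=
    finite_connectedComponents TopologicalSpace.NoetherianSpace.finite_irreducibleComponents
  exact finite_setOf_connectedComponentIn _

/-- comparison of components through translation -/
theorem secComp_eq_iff [GrpObj N] (x y : 𝟙_ (Over (Spec (CommRingCat.of R))) ⟶ N) :
    SGA7.secComp R N x = SGA7.secComp R N y ↔ x * y⁻¹ ∈ SGA7.secUnitComp R N := by
  let s₀ := IsLocalRing.closedPoint R
  let e : N.left ≅ N.left := (Over.forget _).mapIso (rtransIso N y⁻¹)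
  let τ : N.left ≃ₜ N.left := Scheme.homeoOfIso e
  have hτa : ∀ a : N.left, τ a = (rtrans N y⁻¹).left a := fun a => rfl
  have hw : ∀ a : N.left, N.hom (τ a) = N.hom a := by
    intro a
    rw [hτa, ← Scheme.Hom.comp_apply, Over.w]
  have hτ : τ '' SGA7.specialFibreSet R N = SGA7.specialFibreSet R N := by
    ext b
    constructor
    · rintro ⟨a, ha, rfl⟩
      show N.hom (τ a) = s₀
      rw [hw]; exact ha
    · intro hb
      refine ⟨τ.symm b, ?_, τ.apply_symm_apply b⟩
      show N.hom (τ.symm b) = s₀
      rw [← hw (τ.symm b), τ.apply_symm_apply]; exact hb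
  have key := connectedComponentIn_eq_iff_of_homeomorph (SGA7.specialFibreSet R N) τ hτ
    (x.left.base s₀) (y.left.base s₀) (sec_mem R N x) (sec_mem R N y)
  have h1 : τ (x.left.base s₀) = (x * y⁻¹).left.base s₀ := by
    rw [hτa, ← comp_rtrans N y⁻¹ x]; rfl
  have h2 : τ (y.left.base s₀) = (η[N]).left.base s₀ := by
    rw [hτa]
    have h3 : y ≫ rtrans N y⁻¹ = η[N] := by
      rw [comp_rtrans, mul_inv_cancel, Hom.one_def, toUnit_unique (toUnit _) (𝟙 _),
        Category.id_comp]
    rw [← h3]; rfl
  rw [h1, h2] at key
  exact key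

/-- every point of the special fibre of a smooth quasi-compact scheme over a strictly henselian
local ring lies in the component of the value of a section -/
theorem exists_section_through [HenselianLocalRing R] [IsSepClosed (IsLocalRing.ResidueField R)]
    [Smooth N.hom] [QuasiCompact N.hom] (z : N.left) (hz : z ∈ SGA7.specialFibreSet R N) :
    ∃ x : 𝟙_ (Over (Spec (CommRingCat.of R))) ⟶ N, z ∈ SGA7.secComp R N x := by
  let k := IsLocalRing.ResidueField R
  let q : Spec (CommRingCat.of k) ⟶ Spec (CommRingCat.of R) :=
    Spec.map (CommRingCat.ofHom (IsLocalRing.residue R))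
  let pt : ↥(Spec (CommRingCat.of k)) := IsLocalRing.closedPoint k
  have hq : q pt = IsLocalRing.closedPoint R := by
    haveI : IsLocalHom (IsLocalRing.residue R) := by
      show IsLocalHom (IsLocalRing.residue R); infer_instance
    exact AlgebraicGeometry.Spec_closedPoint (f := CommRingCat.ofHom (IsLocalRing.residue R))
  have hsub : ∀ t : ↥(Spec (CommRingCat.of k)), t = pt := fun t =>
    Subsingleton.elim (α := PrimeSpectrum k) t pt
  have hz' : N.hom z = q pt := by rw [hq]; exact hz
  obtain ⟨z', hz'1, hz'2⟩ := Scheme.Pullback.exists_preimage_pullback (f := N.hom) (g := q)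
    z pt hz'
  let p := pullback.snd N.hom q
  let π := pullback.fst N.hom q
  haveI : Smooth p := MorphismProperty.pullback_snd _ _ inferInstance
  haveI : QuasiCompact p := MorphismProperty.pullback_snd _ _ inferInstance
  haveI : IsLocallyNoetherian (pullback N.hom q) := LocallyOfFiniteType.isLocallyNoetherian p
  haveI : CompactSpace ↥(pullback N.hom q) := QuasiCompact.compactSpace_of_compactSpace p
  haveI : IsNoetherian (pullback N.hom q) := {}
  haveI : TopologicalSpace.NoetherianSpace ↥(pullback N.hom q) := inferInstance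
  have hopen : IsOpen (connectedComponent z') :=
    Groth.Agent.Helper1.TopL.isOpen_connectedComponent_of_noetherian z'
  let U : (pullback N.hom q).Opens := ⟨connectedComponent z', hopen⟩
  haveI : Nonempty ↥(U : Scheme.{u}) := ⟨⟨z', mem_connectedComponent⟩⟩
  haveI : Smooth (U.ι ≫ p) := inferInstance
  obtain ⟨u₀, hu₀⟩ := Groth.Agent.Lib.Helper4.SepPtsDense1.exists_pt_of_sepClosed k k
    (U : Scheme.{u}) (U.ι ≫ p)
  have hid : Spec.map (CommRingCat.ofHom (algebraMap k k)) = 𝟙 _ := by
    rw [Algebra.algebraMap_self]
    exact Spec.map_id _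
  rw [hid] at hu₀
  let v₀ : Spec (CommRingCat.of k) ⟶ N.left := u₀ ≫ U.ι ≫ π
  have hv₀ : v₀ ≫ N.hom = q := by
    have hc : π ≫ N.hom = p ≫ q := pullback.condition
    calc (u₀ ≫ U.ι ≫ π) ≫ N.hom = (u₀ ≫ U.ι ≫ p) ≫ q := by simp only [Category.assoc, hc]
      _ = q := by rw [hu₀, Category.id_comp]
  obtain ⟨w, hw1, hw2⟩ := Groth.Agent.Helper7.SmoothSection.S5038_main R N.hom v₀ hv₀
  let x : 𝟙_ (Over (Spec (CommRingCat.of R))) ⟶ N := Over.homMk w hw1
  refine ⟨x, ?_⟩
  -- the value of x at the closed point
  have hx : x.left.base (IsLocalRing.closedPoint R) = π (U.ι (u₀ pt)) := by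
    show w (IsLocalRing.closedPoint R) = _
    rw [← hq, ← Scheme.Hom.comp_apply, hw2]
    rfl
  -- the image of the component lies in the relative component of z
  have himg : π '' connectedComponent z' ⊆
      connectedComponentIn (SGA7.specialFibreSet R N) z := by
    have hpre : _root_.IsPreconnected (π '' connectedComponent z') :=
      isPreconnected_connectedComponent.image _ π.continuous.continuousOn
    have hmem : z ∈ π '' connectedComponent z' := ⟨z', mem_connectedComponent, hz'1⟩
    have hF : π '' connectedComponent z' ⊆ SGA7.specialFibreSet R N := by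
      rintro _ ⟨a, -, rfl⟩
      show N.hom (π a) = IsLocalRing.closedPoint R
      rw [← Scheme.Hom.comp_apply, pullback.condition, Scheme.Hom.comp_apply, hsub (p a), hq]
    exact hpre.subset_connectedComponentIn hmem hF
  have hmem2 : x.left.base (IsLocalRing.closedPoint R) ∈
      connectedComponentIn (SGA7.specialFibreSet R N) z := by
    rw [hx]
    exact himg ⟨U.ι (u₀ pt), (u₀ pt).2, rfl⟩
  show z ∈ connectedComponentIn (SGA7.specialFibreSet R N)
    (x.left.base (IsLocalRing.closedPoint R))
  rw [← connectedComponentIn_eq hmem2]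
  exact mem_connectedComponentIn hz

theorem main4070 (R K : Type u) [CommRing R] [IsDomain R] [IsDiscreteValuationRing R]
    [HenselianLocalRing R] [IsSepClosed (IsLocalRing.ResidueField R)] [Field K] [Algebra R K]
    [IsFractionRing R K]
    (N : Over (Spec (CommRingCat.of R))) [GrpObj N] (hN : SGA7.IsNeron R K N) :
    (Set.range (SGA7.secComp R N)).Finite ∧
    (∀ z ∈ SGA7.specialFibreSet R N,
      ∃ x : 𝟙_ (Over (Spec (CommRingCat.of R))) ⟶ N, z ∈ SGA7.secComp R N x) ∧
      ∀ x y : 𝟙_ (Over (Spec (CommRingCat.of R))) ⟶ N,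
        SGA7.secComp R N x = SGA7.secComp R N y ↔ x * y⁻¹ ∈ SGA7.secUnitComp R N := by
  haveI : Smooth N.hom := hN.1
  haveI : QuasiCompact N.hom := hN.2.2.1
  haveI : LocallyOfFiniteType N.hom := inferInstance
  refine ⟨?_, fun z hz => exists_section_through R N z hz, fun x y => secComp_eq_iff R N x y⟩
  refine (finite_components R N).subset ?_
  rintro _ ⟨x, rfl⟩
  exact ⟨_, sec_mem R N x, rfl⟩

end Groth.Agent.Lead.NerComp
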