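import Mathlib
import Groth.Prelude.Def_Red
import Groth.Prelude.Def_SGA3x
import Groth.Agent.Lib.Lead.GrpProp5
import Groth.Agent.Lib.Helper2.Sch.GrpHomFlatLocus
import Groth.Agent.S7520

set_option backward.isDefEq.respectTransparency.types false
set_option autoImplicit false
set_option synthInstance.maxHeartbeats 400000
set_option maxHeartbeats 1000000
set_option linter.style.haveILetI false
set_option linter.unusedSectionVars false
set_option linter.unusedSimpArgs false

universe u

open CategoryTheory CategoryTheory.Limits AlgebraicGeometry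
open MonoidalCategory CartesianMonoidalCategory MonObj GrpObj

namespace Groth.Agent.Lead.Neut

/-- a morphism to a subgroup object whose composite with the inclusion is a homomorphism is a
homomorphism -/
theorem isMonHom_of_comp_mono {C : Type*} [Category C] [CartesianMonoidalCategory C]
    {G Z H : C} [GrpObj G] [GrpObj Z] [GrpObj H] (φ : G ⟶ Z) (j : Z ⟶ H) [IsMonHom j] [Mono j]
    [IsMonHom (φ ≫ j)] : IsMonHom φ := by
  constructor
  · rw [← cancel_mono j, Category.assoc, IsMonHom.one_hom (f := φ ≫ j), IsMonHom.one_hom]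
  · rw [← cancel_mono j, Category.assoc, IsMonHom.mul_hom (f := φ ≫ j), Category.assoc,
      IsMonHom.mul_hom, ← Category.assoc, MonoidalCategory.tensorHom_comp_tensorHom]

/-- over a field the neutral set is the connected component of the unit -/
theorem neutralSet_field (k : Type u) [Field k] (G : Over (Spec (CommRingCat.of k))) [GrpObj G] :
    SGA3x.neutralSet G = connectedComponent ((η[G]).left (IsLocalRing.closedPoint k)) := by
  haveI : Subsingleton ↥(Spec (CommRingCat.of k)) :=
    inferInstanceAs (Subsingleton (PrimeSpectrum k))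
  unfold SGA3x.neutralSet
  have key : ∀ p : ↥(𝟙_ (Over (Spec (CommRingCat.of k)))).left,
      connectedComponentIn (G.hom.base ⁻¹' {(𝟙_ (Over (Spec (CommRingCat.of k)))).hom.base p})
        ((η[G]).left.base p) = connectedComponent ((η[G]).left (IsLocalRing.closedPoint k)) := by
    intro p
    have hp : p = IsLocalRing.closedPoint k := Subsingleton.elim (α := ↥(Spec (CommRingCat.of k))) _ _
    have huniv : G.hom.base ⁻¹' {(𝟙_ (Over (Spec (CommRingCat.of k)))).hom.base p} = Set.univ := by
      ext x
      simp only [Set.mem_preimage, Set.mem_singleton_iff, Set.mem_univ, iff_true]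
      exact Subsingleton.elim (α := ↥(Spec (CommRingCat.of k))) _ _
    rw [huniv, connectedComponentIn_univ, hp]
  apply Set.eq_of_subset_of_subset
  · intro x hx
    obtain ⟨p, hp⟩ := Set.mem_iUnion.mp hx
    rw [key p] at hp
    exact hp
  · intro x hx
    refine Set.mem_iUnion.mpr ⟨IsLocalRing.closedPoint k, ?_⟩
    rw [key]
    exact hx

/-- the comparison data between the neutral components of source and target of a homomorphism of
group schemes locally of finite type over a field -/
theorem exists_neutral_hom (k : Type u) [Field k]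
    (G H : Over (Spec (CommRingCat.of k))) [GrpObj G] [GrpObj H]
    [LocallyOfFiniteType G.hom] [LocallyOfFiniteType H.hom] (u : G ⟶ H) [IsMonHom u] :
    ∃ (G₀ H₀ : Over (Spec (CommRingCat.of k))) (_ : GrpObj G₀) (_ : GrpObj H₀)
      (iG : G₀ ⟶ G) (iH : H₀ ⟶ H) (φ : G₀ ⟶ H₀),
      IsMonHom iG ∧ IsMonHom iH ∧ IsMonHom φ ∧ IsOpenImmersion iG.left ∧ IsOpenImmersion iH.left ∧
      φ ≫ iH = iG ≫ u ∧
      Set.range iG.left = connectedComponent ((η[G]).left (IsLocalRing.closedPoint k)) ∧
      Set.range iH.left = connectedComponent ((η[H]).left (IsLocalRing.closedPoint k)) ∧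
      IrreducibleSpace ↥H₀.left ∧ CompactSpace ↥G₀.left ∧
      LocallyOfFiniteType G₀.hom ∧ LocallyOfFiniteType H₀.hom := by
  obtain ⟨G₀, instG, iG, hiG, hclG, hflG, hrG, -, hcG⟩ := Groth.Agent.S7520.result k G
  obtain ⟨H₀, instH, iH, hiH, hclH, hflH, hrH, hgiH, -⟩ := Groth.Agent.S7520.result k H
  letI := instG
  letI := instH
  haveI := hiG
  haveI := hiH
  haveI := hclG
  haveI := hclH
  haveI := hflG
  haveI := hflH
  haveI : IsLocallyNoetherian G.left := LocallyOfFiniteType.isLocallyNoetherian G.hom
  haveI : IsLocallyNoetherian H.left := LocallyOfFiniteType.isLocallyNoetherian H.hom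
  haveI : LocallyOfFinitePresentation iG.left :=
    LocallyOfFinitePresentation.iff_locallyOfFiniteType.2 inferInstance
  haveI : LocallyOfFinitePresentation iH.left :=
    LocallyOfFinitePresentation.iff_locallyOfFiniteType.2 inferInstance
  haveI : IsOpenImmersion iG.left := IsOpenImmersion.of_flat_of_mono _
  haveI : IsOpenImmersion iH.left := IsOpenImmersion.of_flat_of_mono _
  haveI : LocallyOfFiniteType G₀.hom := by rw [← Over.w iG]; infer_instance
  haveI : LocallyOfFiniteType H₀.hom := by rw [← Over.w iH]; infer_instance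
  haveI : Mono iH := by
    haveI : Mono iH.left := inferInstance
    exact Over.mono_of_mono_left iH
  -- the unit of G₀ maps to the unit
  have hrange : Set.range (iG ≫ u).left ⊆ Set.range iH.left := by
    rw [hrH]
    rintro _ ⟨g₀, rfl⟩
    have h1 : (iG ≫ u).left g₀ = u.left (iG.left g₀) := rfl
    rw [h1]
    have h2 : iG.left g₀ ∈ connectedComponent ((η[G]).left (IsLocalRing.closedPoint k)) := by
      rw [← hrG]; exact ⟨g₀, rfl⟩
    have h3 := (Scheme.Hom.continuous u.left).image_connectedComponent_subset
      ((η[G]).left (IsLocalRing.closedPoint k)) ⟨_, h2, rfl⟩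
    have h4 : u.left ((η[G]).left (IsLocalRing.closedPoint k)) =
        (η[H]).left (IsLocalRing.closedPoint k) := by
      have := IsMonHom.one_hom (f := u)
      rw [← this]
      rfl
    rw [h4] at h3
    exact h3
  let l : G₀.left ⟶ H₀.left := IsOpenImmersion.lift iH.left (iG ≫ u).left hrange
  have hl : l ≫ iH.left = (iG ≫ u).left := IsOpenImmersion.lift_fac _ _ _
  have hw : l ≫ H₀.hom = G₀.hom := by
    rw [← Over.w iH, ← Category.assoc, hl]
    exact Over.w (iG ≫ u)
  let φ : G₀ ⟶ H₀ := Over.homMk l hw
  have hφ : φ ≫ iH = iG ≫ u := Over.OverMorphism.ext hl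
  haveI : IsMonHom (φ ≫ iH) := by rw [hφ]; infer_instance
  haveI : IsMonHom φ := isMonHom_of_comp_mono φ iH
  haveI : IrreducibleSpace ↥H₀.left := by
    haveI := hgiH
    exact GeometricallyIrreducible.irreducibleSpace_of_subsingleton (f := H₀.hom)
  exact ⟨G₀, H₀, instG, instH, iG, iH, φ, hiG, hiH, inferInstance, inferInstance, inferInstance,
    hφ, hrG, hrH, inferInstance, hcG, inferInstance, inferInstance⟩

/-- L1: a flat homomorphism maps the neutral component onto the neutral component -/
theorem neutral_subset_image_of_flat (k : Type u) [Field k]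
    (G H : Over (Spec (CommRingCat.of k))) [GrpObj G] [GrpObj H]
    [LocallyOfFiniteType G.hom] [LocallyOfFiniteType H.hom] (u : G ⟶ H) [IsMonHom u]
    [Flat u.left] :
    connectedComponent ((η[H]).left (IsLocalRing.closedPoint k)) ⊆
      u.left '' connectedComponent ((η[G]).left (IsLocalRing.closedPoint k)) := by
  obtain ⟨G₀, H₀, instG, instH, iG, iH, φ, hiG, hiH, hφm, hoG, hoH, hφ, hrG, hrH, hirr, hcG,
    hlG, hlH⟩ := exists_neutral_hom k G H u
  letI := instG
  letI := instH
  haveI := hiG
  haveI := hiH
  haveI := hφm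
  haveI := hoG
  haveI := hoH
  haveI := hirr
  haveI := hcG
  haveI := hlG
  haveI := hlH
  haveI : LocallyOfFiniteType (u.left ≫ H.hom) := by rw [Over.w u]; infer_instance
  haveI : LocallyOfFiniteType u.left := locallyOfFiniteType_of_comp u.left H.hom
  haveI : IsLocallyNoetherian H.left := LocallyOfFiniteType.isLocallyNoetherian H.hom
  haveI : LocallyOfFinitePresentation u.left :=
    LocallyOfFinitePresentation.iff_locallyOfFiniteType.2 inferInstance
  haveI : UniversallyOpen u.left := inferInstance
  haveI : IsLocallyNoetherian H₀.left := LocallyOfFiniteType.isLocallyNoetherian H₀.hom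
  haveI : QuasiSeparatedSpace ↥H₀.left := inferInstance
  haveI : QuasiCompact φ.left := inferInstance
  haveI : Subsingleton ↥(Spec (CommRingCat.of k)) :=
    inferInstanceAs (Subsingleton (PrimeSpectrum k))
  have hφl : φ.left ≫ iH.left = iG.left ≫ u.left := by
    have := congrArg (fun f => f.left) hφ
    exact this
  -- the range of `φ` is open and nonempty
  have hopen : IsOpen (Set.range φ.left) := by
    have h1 : Set.range φ.left = iH.left ⁻¹' (u.left '' Set.range iG.left) := by
      ext h₀
      constructor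
      · rintro ⟨g₀, rfl⟩
        refine ⟨iG.left g₀, ⟨g₀, rfl⟩, ?_⟩
        rw [← Scheme.Hom.comp_apply, ← hφl, Scheme.Hom.comp_apply]
      · rintro ⟨_, ⟨g₀, rfl⟩, hg⟩
        refine ⟨g₀, iH.left.isOpenEmbedding.injective ?_⟩
        rw [← Scheme.Hom.comp_apply, hφl, Scheme.Hom.comp_apply]
        exact hg
    rw [h1]
    exact (u.left.isOpenMap _ iG.left.isOpenEmbedding.isOpen_range).preimage
      (Scheme.Hom.continuous _)
  have hne : (Set.range φ.left).Nonempty :=
    ⟨_, ⟨(η[G₀]).left (IsLocalRing.closedPoint k), rfl⟩⟩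
  have hdense : DenseRange φ.left := hopen.dense hne
  haveI : Surjective φ.left := Groth.Agent.Helper2.GrpHom.surjective_of_denseRange φ hdense
  intro h hh
  rw [← hrH] at hh
  obtain ⟨h₀, rfl⟩ := hh
  obtain ⟨g₀, rfl⟩ := φ.left.surjective h₀
  refine ⟨iG.left g₀, ?_, ?_⟩
  · rw [← hrG]; exact ⟨g₀, rfl⟩
  · rw [← Scheme.Hom.comp_apply, ← hφl, Scheme.Hom.comp_apply]

/-- L2: a homomorphism to a reduced group mapping the neutral component onto the neutral
component is flat -/
theorem flat_of_neutral_subset_image (k : Type u) [Field k]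
    (G H : Over (Spec (CommRingCat.of k))) [GrpObj G] [GrpObj H]
    [LocallyOfFiniteType G.hom] [LocallyOfFiniteType H.hom] [IsReduced H.left]
    (u : G ⟶ H) [IsMonHom u]
    (hsub : connectedComponent ((η[H]).left (IsLocalRing.closedPoint k)) ⊆
      u.left '' connectedComponent ((η[G]).left (IsLocalRing.closedPoint k))) : Flat u.left := by
  obtain ⟨G₀, H₀, instG, instH, iG, iH, φ, hiG, hiH, hφm, hoG, hoH, hφ, hrG, hrH, hirr, hcG,
    hlG, hlH⟩ := exists_neutral_hom k G H u
  letI := instG
  letI := instH
  haveI := hiG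
  haveI := hiH
  haveI := hφm
  haveI := hoG
  haveI := hoH
  haveI := hlG
  haveI := hlH
  have hφl : φ.left ≫ iH.left = iG.left ≫ u.left := by
    have := congrArg (fun f => f.left) hφ
    exact this
  haveI : IsReduced H₀.left := isReduced_of_isOpenImmersion iH.left
  haveI : Surjective φ.left := by
    constructor
    intro h₀
    have h1 : iH.left h₀ ∈ connectedComponent ((η[H]).left (IsLocalRing.closedPoint k)) := by
      rw [← hrH]; exact ⟨h₀, rfl⟩
    obtain ⟨g, hg, hgu⟩ := hsub h1
    rw [← hrG] at hg
    obtain ⟨g₀, rfl⟩ := hg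
    refine ⟨g₀, iH.left.isOpenEmbedding.injective ?_⟩
    rw [← Scheme.Hom.comp_apply, hφl, Scheme.Hom.comp_apply]
    exact hgu
  haveI : Flat φ.left := Groth.Agent.Helper2.GrpHom.flat_of_surjective_of_isReduced φ
  haveI : Flat (iG.left ≫ u.left) := by rw [← hφl]; infer_instance
  let e₀ : G₀.left := (η[G₀]).left (IsLocalRing.closedPoint k)
  have h1 : Groth.Agent.Helper2.FlatPt.FlatAt (iG.left ≫ u.left) e₀ :=
    Groth.Agent.Helper2.FlatPt.flatAt_of_flat _ _
  have h2 := (Groth.Agent.Helper2.FlatPt.flatAt_comp_openImmersion_iff iG.left u.left e₀).1 h1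
  exact Groth.Agent.Helper2.GrpHom.flat_of_flatAt_field u _ h2

end Groth.Agent.Lead.Neut
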