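import Mathlib
import Groth.Prelude.Def_Red
import Groth.Agent.Lib.Lead.NeutF1
import Groth.Agent.Lib.Lead.GrpProp5
import Groth.Agent.Lib.Helper2.Sch.GrpHomDim
import Groth.Agent.Lib.Helper2.Sch.GrpDim
import Groth.Agent.Lib.Helper4.Chev2

set_option backward.isDefEq.respectTransparency.types false
set_option autoImplicit false
set_option synthInstance.maxHeartbeats 400000
set_option maxHeartbeats 1000000
set_option linter.style.haveILetI false
set_option linter.unusedSectionVars false
set_option linter.unusedSimpArgs false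

universe u

open CategoryTheory CategoryTheory.Limits AlgebraicGeometry
open MonoidalCategory CartesianMonoidalCategory MonObj GrpObj

namespace Groth.Agent.Lead.NerIsog

/-- the dimension of an open subgroup equals the dimension of the group -/
theorem tdim_open_subgroup (k : Type u) [Field k]
    (G₀ G : Over (Spec (CommRingCat.of k))) [GrpObj G₀] [GrpObj G]
    [LocallyOfFiniteType G₀.hom] [LocallyOfFiniteType G.hom]
    (i : G₀ ⟶ G) [IsOpenImmersion i.left] :
    topologicalKrullDim G₀.left = topologicalKrullDim G.left := by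
  let e₀ : G₀.left := (η[G₀]).left (IsLocalRing.closedPoint k)
  rw [← Groth.Agent.Helper2.GrpDim.localDim_eq_dim G₀ e₀,
    ← Groth.Agent.Helper2.GrpDim.localDim_eq_dim G (i.left e₀)]
  exact Groth.Agent.Lib.Helper4.Chev2.localDim_openEmbedding _ i.left.isOpenEmbedding e₀

/-- a locally quasi-finite homomorphism between group schemes of the same dimension over a field,
with reduced target, is flat -/
theorem flat_of_lqf_of_dim_eq (k : Type u) [Field k]
    (G H : Over (Spec (CommRingCat.of k))) [GrpObj G] [GrpObj H]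
    [LocallyOfFiniteType G.hom] [LocallyOfFiniteType H.hom] [IsReduced H.left]
    (u : G ⟶ H) [IsMonHom u] [LocallyQuasiFinite u.left]
    (hdim : topologicalKrullDim G.left = topologicalKrullDim H.left) : Flat u.left := by
  obtain ⟨G₀, H₀, instG, instH, iG, iH, φ, hiG, hiH, hφm, hoG, hoH, hφ, hrG, hrH, hirr, hcG,
    hlG, hlH⟩ := Groth.Agent.Lead.Neut.exists_neutral_hom k G H u
  letI := instG
  letI := instH
  haveI := hiG
  haveI := hiH
  haveI := hφm
  haveI := hoG
  haveI := hoH
  haveI := hlG
  haveI := hlH
  haveI := hcG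
  haveI := hirr
  have hφl : φ.left ≫ iH.left = iG.left ≫ u.left := by
    have := congrArg (fun f => f.left) hφ
    exact this
  haveI : IsLocallyNoetherian H₀.left := LocallyOfFiniteType.isLocallyNoetherian H₀.hom
  haveI : QuasiSeparatedSpace ↥H₀.left := inferInstance
  haveI : QuasiCompact φ.left := inferInstance
  haveI : LocallyQuasiFinite (φ.left ≫ iH.left) := by rw [hφl]; infer_instance
  haveI : LocallyQuasiFinite φ.left := LocallyQuasiFinite.of_comp φ.left iH.left
  -- φ is finite
  have hfin : IsFinite φ.left := by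
    haveI : IsLocallyArtinian (Spec (CommRingCat.of k)) :=
      Scheme.isLocallyArtinianScheme_Spec.mpr (inferInstanceAs (IsArtinianRing k))
    haveI : IsLocallyArtinian (𝟙_ (Over (Spec (CommRingCat.of k)))).left :=
      (inferInstance : IsLocallyArtinian (Spec (CommRingCat.of k)))
    refine (Groth.Agent.Lead.GrpProp.main3037 k G₀ H₀ φ).mpr ?_
    haveI : LocallyQuasiFinite (pullback.snd φ.left
        (η[H₀] : 𝟙_ (Over (Spec (CommRingCat.of k))) ⟶ H₀).left) :=
      MorphismProperty.pullback_snd _ _ inferInstance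
    haveI : IsLocallyArtinian (pullback φ.left
        (η[H₀] : 𝟙_ (Over (Spec (CommRingCat.of k))) ⟶ H₀).left) :=
      IsLocallyArtinian.of_locallyQuasiFinite (pullback.snd φ.left
        (η[H₀] : 𝟙_ (Over (Spec (CommRingCat.of k))) ⟶ H₀).left)
    infer_instance
  have hdim' : topologicalKrullDim G₀.left = topologicalKrullDim H₀.left := by
    rw [tdim_open_subgroup k G₀ G iG, tdim_open_subgroup k H₀ H iH, hdim]
  haveI : Surjective φ.left :=
    Groth.Agent.Helper2.GrpHom.surjective_of_lqf_of_dim_eq φ φ.left.isClosedMap hdim'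
  apply Groth.Agent.Lead.Neut.flat_of_neutral_subset_image k G H u
  intro h hh
  rw [← hrH] at hh
  obtain ⟨h₀, rfl⟩ := hh
  obtain ⟨g₀, rfl⟩ := φ.left.surjective h₀
  refine ⟨iG.left g₀, ?_, ?_⟩
  · rw [← hrG]; exact ⟨g₀, rfl⟩
  · rw [← Scheme.Hom.comp_apply, ← hφl, Scheme.Hom.comp_apply]

end Groth.Agent.Lead.NerIsog
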