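import Mathlib
import Groth.Prelude.Def_Red
import Groth.Prelude.Def_Neron
import Groth.Prelude.Def_SGA7IX
import Groth.Agent.Lib.Helper4.HomDim1
import Groth.Agent.Lib.Helper4.PropDim1
import Groth.Agent.Lib.Helper2.Sch.GrpFibreDim

set_option backward.isDefEq.respectTransparency.types false
set_option autoImplicit false
set_option synthInstance.maxHeartbeats 400000
set_option maxHeartbeats 1000000
set_option linter.style.haveILetI false
set_option linter.unusedSectionVars false
set_option linter.unusedSimpArgs false

universe u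

open CategoryTheory CategoryTheory.Limits AlgebraicGeometry
open MonoidalCategory CartesianMonoidalCategory MonObj GrpObj

namespace Groth.Agent.Lead.NerIsog

/-- dimension of the scheme-theoretic fibre = dimension of the topological fibre -/
theorem tdim_fiber {X S : Scheme.{u}} (f : X ⟶ S) (s : S) :
    topologicalKrullDim ↥(f.fiber s) = topologicalKrullDim ↥(f ⁻¹' {s}) :=
  (f.fiberHomeo s).isHomeomorph.topologicalKrullDim_eq

/-- dimension of the base change along a preimmersion from a one-point scheme -/
theorem tdim_pullback_point {X S T : Scheme.{u}} (f : X ⟶ S) (e : T ⟶ S) [IsPreimmersion e]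
    (t : T) (hT : ∀ t' : T, t' = t) :
    topologicalKrullDim ↥(pullback f e) = topologicalKrullDim ↥(f ⁻¹' {e t}) := by
  have hr : Set.range (pullback.fst f e) = f ⁻¹' {e t} := by
    rw [Scheme.Pullback.range_fst]
    congr 1
    ext z
    constructor
    · rintro ⟨t', rfl⟩
      rw [hT t']; rfl
    · rintro rfl
      exact ⟨t, rfl⟩
  have h1 := ((pullback.fst f e).isEmbedding.toHomeomorph).isHomeomorph.topologicalKrullDim_eq
  rw [h1]
  exact (Homeomorph.setCongr hr).isHomeomorph.topologicalKrullDim_eq

/-- the fibres of a flat finitely presented group scheme over a domain all have the same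
dimension -/
theorem tdim_fibre_const (R : Type u) [CommRing R] [IsDomain R]
    (G : Over (Spec (CommRingCat.of R))) [GrpObj G] [Flat G.hom]
    [LocallyOfFinitePresentation G.hom] (s s' : Spec (CommRingCat.of R)) :
    topologicalKrullDim ↥(G.hom ⁻¹' {s}) = topologicalKrullDim ↥(G.hom ⁻¹' {s'}) := by
  haveI : PreconnectedSpace ↥(Spec (CommRingCat.of R)) :=
    inferInstanceAs (PreconnectedSpace (PrimeSpectrum R))
  exact (Groth.Agent.Helper2.GrpFibreDim.S3022_main G).apply_eq_of_preconnectedSpace s s'

/-- an isogeny of group schemes over a field preserves the dimension -/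
theorem tdim_eq_of_isogeny (K : Type u) [Field K]
    (G H : Over (Spec (CommRingCat.of K))) [GrpObj G] [GrpObj H]
    [LocallyOfFiniteType G.hom] [LocallyOfFiniteType H.hom]
    (u : G ⟶ H) [IsMonHom u] [QuasiCompact u.left] (hu : SGA7.IsIsogenyOver u) :
    topologicalKrullDim G.left = topologicalKrullDim H.left := by
  obtain ⟨-, hform⟩ := Groth.Agent.Lib.Helper4.HomDim1.main K G H u
  have hsurj := hu.1
  have hr : Set.range u.left.base = Set.univ := Set.range_eq_univ.2 u.left.surjective
  have hfin := hu.2 _ _ (Groth.Agent.Lib.Helper4.HomDim1.isKernel_kerHom u)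
  haveI : IsLocallyArtinian (Spec (CommRingCat.of K)) :=
    Scheme.isLocallyArtinianScheme_Spec.mpr (inferInstanceAs (IsArtinianRing K))
  haveI : IsLocallyArtinian (Groth.Agent.Lib.Helper4.HomDim1.kerObj u).left :=
    IsLocallyArtinian.of_locallyQuasiFinite (Groth.Agent.Lib.Helper4.HomDim1.kerObj u).hom
  have h0 : topologicalKrullDim ↥(pullback u.left
      (η[H] : 𝟙_ (Over (Spec (CommRingCat.of K))) ⟶ H).left) = 0 := by
    apply le_antisymm
    · exact topologicalKrullDim_zero_of_discreteTopology
        ↥(Groth.Agent.Lib.Helper4.HomDim1.kerObj u).left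
    · haveI : Nonempty ↥(pullback u.left
          (η[H] : 𝟙_ (Over (Spec (CommRingCat.of K))) ⟶ H).left) := by
        have hw : (η[G] : 𝟙_ (Over (Spec (CommRingCat.of K))) ⟶ G).left ≫ u.left =
            𝟙 _ ≫ (η[H] : 𝟙_ (Over (Spec (CommRingCat.of K))) ⟶ H).left := by
          rw [Category.id_comp, ← Over.comp_left, IsMonHom.one_hom]
        exact ⟨(pullback.lift _ _ hw) (IsLocalRing.closedPoint K)⟩
      obtain ⟨x⟩ := this
      unfold topologicalKrullDim
      haveI : Nonempty (TopologicalSpace.IrreducibleCloseds ↥(pullback u.left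
          (η[H] : 𝟙_ (Over (Spec (CommRingCat.of K))) ⟶ H).left)) :=
        ⟨⟨closure {x}, isIrreducible_singleton.closure, isClosed_closure⟩⟩
      exact Order.krullDim_nonneg
  rw [hform, h0, add_zero, hr]
  exact Groth.Agent.Lib.Helper4.PropDim1.tdim_univ _

end Groth.Agent.Lead.NerIsog
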