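import Mathlib
import Groth.Prelude.Def_Red
import Groth.Prelude.Def_MoreMor
import Groth.Agent.S4112
import Groth.Agent.Lib.Helper7.FibEt.Smooth
import Groth.Agent.Lib.Helper2.LfpOfComp
import Groth.Agent.Lib.Helper4.AbSchMulEtale1

/-!
# Multiplication by n on a commutative flat finitely presented group scheme is étale when n is
invertible in all residue fields (lead; adapted from helper4 AbSchMulEtale1)
-/

set_option backward.isDefEq.respectTransparency.types false
set_option autoImplicit false
set_option synthInstance.maxHeartbeats 400000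
set_option maxHeartbeats 1000000
set_option linter.style.haveILetI false
set_option linter.unusedSectionVars false
set_option linter.unusedSimpArgs false

universe u

open CategoryTheory CategoryTheory.Limits AlgebraicGeometry
open MonoidalCategory CartesianMonoidalCategory MonObj GrpObj
open Groth.Agent.Lib.Helper4.AbSchMulEtale1

namespace Groth.Agent.Lead.NerTor

section Main
variable {S : Scheme.{u}} (X : Over S) [GrpObj X] [IsCommMonObj X] [Flat X.hom]
  [LocallyOfFinitePresentation X.hom] [QuasiCompact X.hom]

open scoped Obj in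
theorem etale_fibre' (n : ℕ) (s : S) (hn : (n : S.residueField s) ≠ 0) :
    Etale ((Over.pullback (S.fromSpecResidueField s)).map ((𝟙 X) ^ n)).left := by
  have h0 := map_id_zpow (Over.pullback (S.fromSpecResidueField s)) X (n : ℤ)
  rw [zpow_natCast, zpow_natCast] at h0
  rw [h0]
  haveI hlft : LocallyOfFiniteType (Red.bc (S.fromSpecResidueField s) X).hom :=
    inferInstanceAs (LocallyOfFiniteType (pullback.snd X.hom (S.fromSpecResidueField s)))
  haveI hqc : QuasiCompact (Red.bc (S.fromSpecResidueField s) X).hom :=
    inferInstanceAs (QuasiCompact (pullback.snd X.hom (S.fromSpecResidueField s)))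
  haveI hcomm : IsCommMonObj (Red.bc (S.fromSpecResidueField s) X) := inferInstance
  exact Groth.Agent.S4112.result (S.residueField s) (Red.bc (S.fromSpecResidueField s) X) n hn

theorem etale_snd' (n : ℕ) (s : S) (hn : (n : S.residueField s) ≠ 0) :
    Etale (pullback.snd ((𝟙 X) ^ n).left (X.hom.fiberι s)) := by
  have h := isPullback_map_left (S.fromSpecResidueField s) ((𝟙 X) ^ n)
  have h' : IsPullback (X.hom.fiberι s)
      ((Over.pullback (S.fromSpecResidueField s)).map ((𝟙 X) ^ n)).left ((𝟙 X) ^ n).left
      (X.hom.fiberι s) := h.flip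
  have e : pullback.snd ((𝟙 X) ^ n).left (X.hom.fiberι s) = h'.isoPullback.inv ≫
      ((Over.pullback (S.fromSpecResidueField s)).map ((𝟙 X) ^ n)).left :=
    (Iso.eq_inv_comp h'.isoPullback).mpr h'.isoPullback_hom_snd
  rw [e]
  exact (MorphismProperty.cancel_left_of_respectsIso @Etale _ _).mpr (etale_fibre' X n s hn)

open Groth.Agent.Helper7.FibEt in
theorem etale_pow (n : ℕ) (hn : ∀ s : S, (n : S.residueField s) ≠ 0) :
    Etale ((𝟙 X) ^ n).left := by
  obtain ⟨f, hf⟩ : ∃ f, f = ((𝟙 X) ^ n).left := ⟨_, rfl⟩
  have hfg : f ≫ X.hom = X.hom := by rw [hf]; exact Over.w _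
  haveI hlfp' : LocallyOfFinitePresentation (f ≫ X.hom) := by rw [hfg]; infer_instance
  haveI hlfp : LocallyOfFinitePresentation f :=
    Groth.Agent.Helper2.locallyOfFinitePresentation_of_comp f X.hom inferInstance hlfp'
  haveI hflat : Flat (f ≫ X.hom) := by rw [hfg]; infer_instance
  have het : ∀ s, Etale (pullback.snd f (X.hom.fiberι s)) := fun s => by
    rw [hf]; exact etale_snd' X n s (hn s)
  have hsm : Smooth f := by
    rw [← Scheme.Hom.smoothLocus_eq_top_iff]
    ext x
    simp only [TopologicalSpace.Opens.coe_top, Set.mem_univ, iff_true]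
    by_contra hx
    have h1 : Smooth (MoreMor.fiberMap f X.hom ((f ≫ X.hom) x)) := by
      rw [← prop_snd_iff f X.hom @Smooth]
      haveI := het ((f ≫ X.hom) x)
      infer_instance
    exact (smooth_fiberMap_iff f X.hom ((f ≫ X.hom) x)
      (fun x' _ => Flat.stalkMap (f ≫ X.hom) x')).mp h1 ⟨x, hx, rfl⟩
  have hun : FormallyUnramified f := by
    refine of_forall_exists_nhd @FormallyUnramified f fun x => ?_
    have h1 : FormallyUnramified (MoreMor.fiberMap f X.hom ((f ≫ X.hom) x)) := by
      rw [← prop_snd_iff f X.hom @FormallyUnramified]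
      haveI := het ((f ≫ X.hom) x)
      infer_instance
    have h2 := (formallyUnramified_fiberMap_iff f X.hom ((f ≫ X.hom) x)).mp h1
    by_contra hx
    exact h2 ⟨x, hx, rfl⟩
  rw [← hf]
  exact (etale_iff_smooth_and_formallyUnramified f).mpr ⟨hsm, hun⟩

end Main

end Groth.Agent.Lead.NerTor
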