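import Mathlib
import Groth.Prelude.Def_Red
import Groth.Prelude.Def_Neron
import Groth.Prelude.Def_SGA7IX
import Groth.Prelude.Def_AlgGrp
import Groth.Agent.Lib.Lead.NerEt2
import Groth.Agent.Lib.Lead.NerTor2
import Groth.Agent.Lib.Lead.NerIsog1
import Groth.Agent.Lib.Lead.NerIsog2

/-!
# The kernel of an isogeny of Néron models of degree invertible on the base is étale and is the
Néron model of its generic fibre (lead)
-/

set_option backward.isDefEq.respectTransparency.types false
set_option autoImplicit false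
set_option synthInstance.maxHeartbeats 400000
set_option maxHeartbeats 1000000
set_option linter.style.haveILetI false
set_option linter.unusedSectionVars false
set_option linter.unusedSimpArgs false

universe u

open CategoryTheory CategoryTheory.Limits AlgebraicGeometry
open MonoidalCategory CartesianMonoidalCategory MonObj GrpObj
open Groth.Agent.Lib.Helper4.GrpKer1 Groth.Agent.Lib.Helper4.GrpKer2

namespace Groth.Agent.Lead.NerEt

/-- the dual isogeny on the generic fibres -/
theorem exists_dual_generic (K : Type u) [Field K]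
    (G H : Over (Spec (CommRingCat.of K))) [GrpObj G] [GrpObj H]
    [IsProper G.hom] [GeometricallyIntegral G.hom] [IsProper H.hom] [Smooth H.hom]
    (u : G ⟶ H) [IsMonHom u] (hu : SGA7.IsIsogenyOver u)
    (N : Over (Spec (CommRingCat.of K))) (i : N ⟶ G) (hker : AlgGrp.IsKernel i u)
    (d : ℕ) (hd : ∀ x : ↥(Spec (CommRingCat.of K)), N.hom.finrank x = d) :
    ∃ v : H ⟶ G, u ≫ v = (𝟙 G) ^ d ∧ v ≫ u = (𝟙 H) ^ d := by
  haveI : IsCommMonObj G := isCommMonObj_of_isProper_of_geometricallyIntegral _
  haveI : IsFinite N.hom := hu.2 N i hker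
  haveI : LocallyOfFiniteType G.hom := inferInstance
  haveI : LocallyOfFiniteType H.hom := inferInstance
  haveI : LocallyQuasiFinite u.left := lqf_of_finite_kernel K G H u N i hker
  haveI : Surjective u.left := hu.1
  haveI : QuasiCompact (u.left ≫ H.hom) := by rw [Over.w u]; infer_instance
  haveI : QuasiCompact u.left := QuasiCompact.of_comp u.left H.hom
  haveI : IsReduced H.left := Groth.Agent.Helper2.SchLib.isReduced_of_smooth H.hom
  have hdim := Groth.Agent.Lead.NerIsog.tdim_eq_of_isogeny K G H u hu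
  haveI : Flat u.left := Groth.Agent.Lead.NerIsog.flat_of_lqf_of_dim_eq K G H u hdim
  -- group structure on the kernel
  obtain ⟨instN, hi⟩ := Groth.Agent.Lib.Helper4.HomDim1.exists_grpObj_ker i u hker
  letI := instN
  haveI := hi
  haveI : Mono i := Groth.Agent.Lib.Helper4.HomDim1.mono_of_isKernel' i u hker
  haveI : IsCommMonObj N := isCommMonObj_of_mono i
  haveI : Flat N.hom := by
    haveI : IsAffine N.left := isAffine_of_isAffineHom N.hom
    rw [← (MorphismProperty.cancel_left_of_respectsIso @Flat N.left.isoSpec.inv N.hom)]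
    obtain ⟨ψ, hψ⟩ : ∃ ψ : CommRingCat.of K ⟶ Γ(N.left, ⊤), Spec.map ψ = N.left.isoSpec.inv ≫ N.hom :=
      ⟨Spec.preimage _, Spec.map_preimage _⟩
    rw [← hψ, HasRingHomProperty.Spec_iff (P := @Flat)]
    letI := ψ.hom.toAlgebra
    exact (inferInstance : Module.Flat K Γ(N.left, ⊤))
  haveI : LocallyOfFinitePresentation N.hom := by
    haveI : IsLocallyNoetherian (Spec (CommRingCat.of K)) := inferInstance
    exact LocallyOfFinitePresentation.iff_locallyOfFiniteType.mpr inferInstance
  have hkill : ∀ (T : Over (Spec (CommRingCat.of K))) (n : T ⟶ N), (n ≫ i) ^ d = 1 := by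
    intro T n
    have h := Groth.Agent.Helper2.DeligneSch.id_pow_eq_one N d hd
    have h1 : n ^ d = 1 := by
      have h2 : n ^ d = n ≫ (𝟙 N) ^ d := by rw [MonObj.comp_pow, Category.comp_id]
      rw [h2, h, MonObj.comp_one]
    rw [← MonObj.pow_comp, h1, MonObj.one_comp]
  exact exists_dual_isogeny G H u N i hker d hkill

theorem map_id_pow' {S S' : Scheme.{u}} (q : S' ⟶ S) (G : Over S) [GrpObj G] (n : ℕ) :
    (Over.pullback q).map ((𝟙 G : G ⟶ G) ^ n) = (𝟙 (Red.bc q G)) ^ n := by
  have h0 := Groth.Agent.Lib.Helper4.AbSchMulEtale1.map_id_zpow (Over.pullback q) G (n : ℤ)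
  rw [zpow_natCast, zpow_natCast] at h0
  exact h0

theorem main18494 (R : Type u) [CommRing R]
    [IsDedekindDomain R] (A B : Over (Spec (CommRingCat.of R))) [GrpObj A] [GrpObj B]
    (hA : Neron.IsNeronModelOf R A ((Neron.genericFibre R).obj A) (Iso.refl _))
    (hB : Neron.IsNeronModelOf R B ((Neron.genericFibre R).obj B) (Iso.refl _))
    [IsProper ((Neron.genericFibre R).obj A).hom]
    [GeometricallyIntegral ((Neron.genericFibre R).obj A).hom]
    [IsProper ((Neron.genericFibre R).obj B).hom]
    [GeometricallyIntegral ((Neron.genericFibre R).obj B).hom]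
    (φ : A ⟶ B) [IsMonHom φ] (hφ : SGA7.IsIsogenyOver ((Neron.genericFibre R).map φ))
    (N : Over (Spec (CommRingCat.of R))) (i : N ⟶ A) (hN : AlgGrp.IsKernel i φ)
    (hdeg : ∀ x : ↥(Spec (CommRingCat.of (FractionRing R))),
      IsUnit ((((Neron.genericFibre R).obj N).hom.finrank x : ℕ) : R)) :
    Neron.IsNeronModelOf R N ((Neron.genericFibre R).obj N) (Iso.refl _) ∧ Etale N.hom := by
  haveI : Smooth A.hom := hA.1
  haveI : Smooth B.hom := hB.1
  haveI : IsSeparated A.hom := hA.2.1
  haveI : IsSeparated B.hom := hB.2.1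
  haveI : LocallyOfFiniteType A.hom := hA.2.2.1
  haveI : LocallyOfFiniteType B.hom := hB.2.2.1
  haveI : QuasiCompact A.hom := hA.2.2.2.1
  haveI : QuasiCompact B.hom := hB.2.2.2.1
  haveI : IsCommMonObj A := Groth.Agent.Lead.NerTor.isCommMonObj_of_isNeron R (FractionRing R) A
    (isNeron_of_isNeronModelOf R A hA)
  haveI : IsCommMonObj B := Groth.Agent.Lead.NerTor.isCommMonObj_of_isNeron R (FractionRing R) B
    (isNeron_of_isNeronModelOf R B hB)
  let q := Neron.genPt R
  let pt : ↥(Spec (CommRingCat.of (FractionRing R))) := IsLocalRing.closedPoint (FractionRing R)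
  have hT : ∀ t' : ↥(Spec (CommRingCat.of (FractionRing R))), t' = pt := fun t' =>
    Subsingleton.elim (α := PrimeSpectrum (FractionRing R)) t' pt
  obtain ⟨d, hd⟩ : ∃ d : ℕ, d = ((Neron.genericFibre R).obj N).hom.finrank pt := ⟨_, rfl⟩
  have hdx : ∀ x, ((Neron.genericFibre R).obj N).hom.finrank x = d := fun x => by rw [hT x, hd]
  have hunit : IsUnit (d : R) := by rw [hd]; exact hdeg pt
  have hKK : AlgGrp.IsKernel ((Neron.genericFibre R).map i) ((Neron.genericFibre R).map φ) :=
    Groth.Agent.Lead.GrpProp.isKer_bc q i φ hN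
  haveI : Smooth ((Neron.genericFibre R).obj B).hom :=
    MorphismProperty.pullback_snd _ _ inferInstance
  obtain ⟨ψK, hψ1, hψ2⟩ := exists_dual_generic (FractionRing R) _ _ ((Neron.genericFibre R).map φ)
    hφ _ ((Neron.genericFibre R).map i) hKK d hdx
  -- extension to the Néron models
  obtain ⟨ψ, hψ⟩ := (hA.2.2.2.2 B inferInstance).2 ψK
  have hψ' : (Neron.genericFibre R).map ψ = ψK := by
    rw [← hψ]; exact (Category.comp_id _).symm
  have h1 : φ ≫ ψ = (𝟙 A) ^ d := by
    apply (hA.2.2.2.2 A inferInstance).1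
    show (Neron.genericFibre R).map (φ ≫ ψ) ≫ _ = (Neron.genericFibre R).map ((𝟙 A) ^ d) ≫ _
    rw [Functor.map_comp, hψ', hψ1, map_id_pow']
  have h2 : ψ ≫ φ = (𝟙 B) ^ d := by
    apply (hB.2.2.2.2 B inferInstance).1
    show (Neron.genericFibre R).map (ψ ≫ φ) ≫ _ = (Neron.genericFibre R).map ((𝟙 B) ^ d) ≫ _
    rw [Functor.map_comp, hψ', hψ2, map_id_pow']
  -- étaleness
  haveI : LocallyOfFinitePresentation A.hom := inferInstance
  haveI : LocallyOfFinitePresentation B.hom := inferInstance
  haveI : Flat A.hom := inferInstance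
  haveI : Flat B.hom := inferInstance
  have hdA : Etale ((𝟙 A : A ⟶ A) ^ d).left :=
    Groth.Agent.Lead.NerTor.etale_pow A d (natCast_ne_zero_of_isUnit R d hunit)
  have hdB : Etale ((𝟙 B : B ⟶ B) ^ d).left :=
    Groth.Agent.Lead.NerTor.etale_pow B d (natCast_ne_zero_of_isUnit R d hunit)
  haveI : Etale (ψ.left ≫ φ.left) := by
    rw [← Over.comp_left, h2]; exact hdB
  haveI : Etale (φ.left ≫ ψ.left) := by
    rw [← Over.comp_left, h1]; exact hdA
  haveI : FormallyUnramified ψ.left := FormallyUnramified.of_comp ψ.left φ.left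
  haveI : LocallyOfFiniteType (ψ.left ≫ A.hom) := by rw [Over.w ψ]; infer_instance
  haveI : LocallyOfFiniteType ψ.left := locallyOfFiniteType_of_comp ψ.left A.hom
  haveI : Etale φ.left := Etale.of_comp φ.left ψ.left
  have hK : IsKer i φ := hN
  haveI hét : Etale N.hom := isKer_prop_hom hK @Etale inferInstance
  haveI : IsSeparated (φ.left ≫ B.hom) := by rw [Over.w φ]; infer_instance
  haveI : IsSeparated φ.left := IsSeparated.of_comp φ.left B.hom
  haveI : QuasiCompact (φ.left ≫ B.hom) := by rw [Over.w φ]; infer_instance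
  haveI : QuasiCompact φ.left := QuasiCompact.of_comp φ.left B.hom
  haveI hsep : IsSeparated N.hom := isKer_prop_hom hK @IsSeparated inferInstance
  haveI hqc : QuasiCompact N.hom := isKer_prop_hom hK @QuasiCompact inferInstance
  refine ⟨⟨inferInstance, hsep, inferInstance, hqc, fun Y hY => ?_⟩, hét⟩
  haveI : Mono i := Groth.Agent.Lib.Helper4.HomDim1.mono_of_isKernel' i φ hN
  haveI : Mono ((Neron.genericFibre R).map i) :=
    Groth.Agent.Lib.Helper4.HomDim1.mono_of_isKernel' _ _ hKK
  constructor
  · intro g₁ g₂ hg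
    have hg' : (Neron.genericFibre R).map g₁ = (Neron.genericFibre R).map g₂ := by
      have := hg
      simpa using this
    have h3 : g₁ ≫ i = g₂ ≫ i := by
      apply (hA.2.2.2.2 Y hY).1
      show (Neron.genericFibre R).map (g₁ ≫ i) ≫ _ = (Neron.genericFibre R).map (g₂ ≫ i) ≫ _
      rw [Functor.map_comp, Functor.map_comp, hg']
    exact (cancel_mono i).mp h3
  · intro h
    obtain ⟨y, hy⟩ := (hA.2.2.2.2 Y hY).2 (h ≫ (Neron.genericFibre R).map i)
    have hy' : (Neron.genericFibre R).map y = h ≫ (Neron.genericFibre R).map i := by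
      rw [← hy]; exact (Category.comp_id _).symm
    have hterm : ∀ {W : Over (Spec (CommRingCat.of (FractionRing R)))}
        (a b : W ⟶ (Neron.genericFibre R).obj (𝟙_ (Over (Spec (CommRingCat.of R))))), a = b := by
      intro W a b
      rw [← cancel_mono (Functor.Monoidal.εIso (Neron.genericFibre R)).inv]
      exact toUnit_unique _ _
    have h4 : y ≫ φ = toUnit Y ≫ η[B] := by
      apply (hB.2.2.2.2 Y hY).1
      show (Neron.genericFibre R).map (y ≫ φ) ≫ _ = (Neron.genericFibre R).map (toUnit Y ≫ η[B]) ≫ _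
      congr 1
      calc (Neron.genericFibre R).map (y ≫ φ)
          = (Neron.genericFibre R).map y ≫ (Neron.genericFibre R).map φ := Functor.map_comp _ _ _
        _ = h ≫ ((Neron.genericFibre R).map i ≫ (Neron.genericFibre R).map φ) := by
            rw [hy', Category.assoc]
        _ = h ≫ (Neron.genericFibre R).map (toUnit N ≫ η[B]) := by
            rw [← Functor.map_comp, hN.w]
        _ = (h ≫ (Neron.genericFibre R).map (toUnit N)) ≫ (Neron.genericFibre R).map η[B] := by
            rw [Functor.map_comp, Category.assoc]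
        _ = (Neron.genericFibre R).map (toUnit Y) ≫ (Neron.genericFibre R).map η[B] := by
            rw [hterm (h ≫ (Neron.genericFibre R).map (toUnit N))
              ((Neron.genericFibre R).map (toUnit Y))]
        _ = (Neron.genericFibre R).map (toUnit Y ≫ η[B]) := (Functor.map_comp _ _ _).symm
    refine ⟨hN.lift y (toUnit Y) h4, ?_⟩
    show (Neron.genericFibre R).map (hN.lift y (toUnit Y) h4) ≫ 𝟙 _ = h
    rw [Category.comp_id, ← cancel_mono ((Neron.genericFibre R).map i), ← Functor.map_comp,
      hN.lift_fst, hy']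

end Groth.Agent.Lead.NerEt
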