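import Mathlib
import Groth.Agent.Lib.Lead.CritFib19

set_option backward.isDefEq.respectTransparency.types false
set_option autoImplicit false
set_option synthInstance.maxHeartbeats 400000
set_option maxHeartbeats 1000000
set_option linter.style.haveILetI false
set_option linter.unusedSectionVars false
set_option linter.unusedSimpArgs false

universe u

open CategoryTheory CategoryTheory.Limits AlgebraicGeometry

namespace Groth.Agent.Lead.QuotFl

theorem flat_codescendsAlong_faithfullyFlat :
    RingHom.CodescendsAlong RingHom.Flat RingHom.FaithfullyFlat := by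
  refine .mk _ RingHom.Flat.respectsIso fun R S T _ _ _ _ _ h h' ↦ ?_
  rw [RingHom.flat_algebraMap_iff] at h' ⊢
  rw [RingHom.faithfullyFlat_algebraMap_iff] at h
  exact Module.Flat.of_flat_tensorProduct R T S

theorem flat_descendsAlong_fpqc :
    MorphismProperty.DescendsAlong (@Flat : MorphismProperty Scheme.{u})
      (@Surjective ⊓ @Flat ⊓ @QuasiCompact) :=
  HasRingHomProperty.descendsAlong_flat flat_codescendsAlong_faithfullyFlat

/-- flatness of the map of fibres can be tested after any field extension of the residue field -/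
theorem flat_snd_fiberι_of_field_point {X Y S : Scheme.{u}} (f : X ⟶ Y) (g : Y ⟶ S)
    (K : Type u) [Field K] (e : Spec (CommRingCat.of K) ⟶ S) {P W : Scheme.{u}}
    (i : P ⟶ X) (j : P ⟶ W) (w : W ⟶ Y) (t : W ⟶ Spec (CommRingCat.of K))
    (h1 : IsPullback i j f w) (h2 : IsPullback w t g e) [Flat j] :
    Flat (pullback.snd f (g.fiberι (e (IsLocalRing.closedPoint K)))) := by
  set s : S := e (IsLocalRing.closedPoint K) with hs
  let φ : S.residueField s ⟶ CommRingCat.of K :=
    Scheme.descResidueField (Scheme.stalkClosedPointTo e)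
  have he : Spec.map φ ≫ S.fromSpecResidueField s = e :=
    Scheme.descResidueField_stalkClosedPointTo_fromSpecResidueField K S e
  let ψ : Spec (CommRingCat.of K) ⟶ Spec (S.residueField s) := Spec.map φ
  -- ψ is fpqc
  haveI : Flat ψ := by
    rw [HasRingHomProperty.Spec_iff (P := @Flat)]
    letI := φ.hom.toAlgebra
    show Module.Flat (S.residueField s) K
    infer_instance
  haveI : Surjective ψ := ⟨fun z => ⟨IsLocalRing.closedPoint K, Subsingleton.elim _ _⟩⟩
  haveI : QuasiCompact ψ := inferInstance
  -- the fibre
  have t0 : IsPullback (g.fiberι s) (g.fiberToSpecResidueField s) g (S.fromSpecResidueField s) :=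
    IsPullback.of_hasPullback _ _
  have hc : w ≫ g = (t ≫ ψ) ≫ S.fromSpecResidueField s := by
    rw [Category.assoc, he, h2.w]
  let c : W ⟶ g.fiber s := t0.lift w (t ≫ ψ) hc
  have hc1 : c ≫ g.fiberι s = w := t0.lift_fst _ _ _
  have hc2 : c ≫ g.fiberToSpecResidueField s = t ≫ ψ := t0.lift_snd _ _ _
  have sqc : IsPullback c t (g.fiberToSpecResidueField s) ψ := by
    refine IsPullback.of_right (t := t0) ?_ hc2
    rw [hc1, he]
    exact h2
  have hcQ : (@Surjective ⊓ @Flat ⊓ @QuasiCompact : MorphismProperty Scheme.{u}) c := by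
    refine ⟨⟨?_, ?_⟩, ?_⟩
    · exact MorphismProperty.of_isPullback (P := @Surjective) sqc.flip inferInstance
    · exact MorphismProperty.of_isPullback (P := @Flat) sqc.flip inferInstance
    · exact MorphismProperty.of_isPullback (P := @QuasiCompact) sqc.flip inferInstance
  -- the base change square
  have r0 : IsPullback (pullback.fst f (g.fiberι s)) (pullback.snd f (g.fiberι s)) f
      (g.fiberι s) := IsPullback.of_hasPullback _ _
  have hd : i ≫ f = (j ≫ c) ≫ g.fiberι s := by rw [Category.assoc, hc1, h1.w]
  let d : P ⟶ pullback f (g.fiberι s) := r0.lift i (j ≫ c) hd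
  have hd1 : d ≫ pullback.fst f (g.fiberι s) = i := r0.lift_fst _ _ _
  have hd2 : d ≫ pullback.snd f (g.fiberι s) = j ≫ c := r0.lift_snd _ _ _
  have sqd : IsPullback d j (pullback.snd f (g.fiberι s)) c := by
    refine IsPullback.of_right (t := r0) ?_ hd2
    rw [hd1, hc1]
    exact h1
  haveI := flat_descendsAlong_fpqc.{u}
  exact MorphismProperty.of_isPullback_of_descendsAlong (P := @Flat)
    (Q := (@Surjective ⊓ @Flat ⊓ @QuasiCompact : MorphismProperty Scheme.{u})) sqd.flip hcQ
    inferInstance

end Groth.Agent.Lead.QuotFl
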