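import Mathlib
import Groth.Prelude.Def_Red
import Groth.Prelude.Def_Neron
import Groth.Agent.Lib.Lead.QuotFl2
import Groth.Agent.Lib.Lead.NeutF1
import Groth.Agent.Lib.Lead.GrpMonoCl3
import Groth.Agent.Lib.Helper7.SmoothBC.GeomRed

set_option backward.isDefEq.respectTransparency.types false
set_option autoImplicit false
set_option synthInstance.maxHeartbeats 400000
set_option maxHeartbeats 1000000
set_option linter.style.haveILetI false
set_option linter.unusedSectionVars false
set_option linter.unusedSimpArgs false

universe u

open CategoryTheory CategoryTheory.Limits AlgebraicGeometry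
open MonoidalCategory CartesianMonoidalCategory MonObj GrpObj

namespace Groth.Agent.Lead.NerFl

/-- the two points of the spectrum of a discrete valuation ring -/
theorem dvr_points (R : Type u) [CommRing R] [IsDomain R] [IsDiscreteValuationRing R]
    (s : ↥(Spec (CommRingCat.of R))) :
    s = (Spec.map (CommRingCat.ofHom (IsLocalRing.residue R)))
        (IsLocalRing.closedPoint (IsLocalRing.ResidueField R)) ∨
    s = (Spec.map (CommRingCat.ofHom (algebraMap R (FractionRing R))))
        (IsLocalRing.closedPoint (FractionRing R)) := by
  by_cases h : s.asIdeal = ⊥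
  · right
    apply PrimeSpectrum.ext
    rw [h]
    symm
    show Ideal.comap (algebraMap R (FractionRing R))
      (IsLocalRing.maximalIdeal (FractionRing R)) = ⊥
    rw [IsLocalRing.maximalIdeal_eq_bot]
    exact Ideal.comap_bot_of_injective _ (IsFractionRing.injective R (FractionRing R))
  · left
    have hmax : s.asIdeal.IsMaximal := Ideal.IsPrime.isMaximal s.isPrime h
    have h1 : s.asIdeal = IsLocalRing.maximalIdeal R := IsLocalRing.eq_maximalIdeal hmax
    haveI : IsLocalHom (CommRingCat.ofHom (IsLocalRing.residue R)).hom := by
      show IsLocalHom (IsLocalRing.residue R)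
      infer_instance
    have h2 : (Spec.map (CommRingCat.ofHom (IsLocalRing.residue R)))
        (IsLocalRing.closedPoint (IsLocalRing.ResidueField R)) = IsLocalRing.closedPoint R :=
      AlgebraicGeometry.Spec_closedPoint
    rw [h2]
    exact PrimeSpectrum.ext h1

/-- flatness of a homomorphism of flat group schemes over a discrete valuation ring can be
tested on the two fibres -/
theorem flat_of_flat_fibres_dvr (R : Type u) [CommRing R] [IsDomain R] [IsDiscreteValuationRing R]
    (A B : Over (Spec (CommRingCat.of R)))
    [Flat A.hom] [LocallyOfFinitePresentation A.hom] [LocallyOfFiniteType B.hom]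
    (φ : A ⟶ B)
    (h1 : Flat ((Over.pullback (Spec.map (CommRingCat.ofHom (IsLocalRing.residue R)))).map φ).left)
    (h2 : Flat ((Over.pullback
      (Spec.map (CommRingCat.ofHom (algebraMap R (FractionRing R))))).map φ).left) :
    Flat φ.left := by
  haveI : LocallyOfFinitePresentation (φ.left ≫ B.hom) := by rw [Over.w φ]; infer_instance
  haveI : Flat (φ.left ≫ B.hom) := by rw [Over.w φ]; infer_instance
  have key : ∀ (K : Type u) [Field K] (e : Spec (CommRingCat.of K) ⟶ Spec (CommRingCat.of R)),
      Flat ((Over.pullback e).map φ).left →
      Flat (pullback.snd φ.left (B.hom.fiberι (e (IsLocalRing.closedPoint K)))) := by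
    intro K _ e hfl
    haveI := hfl
    exact Groth.Agent.Lead.QuotFl.flat_snd_fiberι_of_field_point φ.left B.hom K e
      (pullback.fst A.hom e) ((Over.pullback e).map φ).left (pullback.fst B.hom e)
      (pullback.snd B.hom e) (Groth.Agent.Lead.GrpMonoCl.isPullback_map_left e φ)
      (IsPullback.of_hasPullback B.hom e)
  have hall : ∀ s : ↥(Spec (CommRingCat.of R)), Flat (pullback.snd φ.left (B.hom.fiberι s)) := by
    intro s
    rcases dvr_points R s with h | h
    · rw [h]; exact key _ _ h1
    · rw [h]; exact key _ _ h2
  exact Flat.of_stalkMap _ fun x =>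
    (Groth.Agent.Lead.CritFib.flat_stalkMap_of_flat_fibres φ.left B.hom hall x).2

theorem main18501 (R : Type u) [CommRing R] [IsDomain R] [IsDiscreteValuationRing R]
    (A B : Over (Spec (CommRingCat.of R))) [GrpObj A] [GrpObj B]
    [Smooth A.hom] [Smooth B.hom]
    (φ : A ⟶ B) [IsMonHom φ]
    (hsurj : Surjective ((Over.pullback
      (Spec.map (CommRingCat.ofHom (algebraMap R (FractionRing R))))).map φ).left) :
    Flat φ.left ↔
      ((Over.pullback (Spec.map (CommRingCat.ofHom (IsLocalRing.residue R)))).map φ).left.base ''
          connectedComponent ((η[Red.bc (Spec.map (CommRingCat.ofHom (IsLocalRing.residue R))) A]).left.base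
            (IsLocalRing.closedPoint (IsLocalRing.ResidueField R))) =
        connectedComponent ((η[Red.bc (Spec.map (CommRingCat.ofHom (IsLocalRing.residue R))) B]).left.base
          (IsLocalRing.closedPoint (IsLocalRing.ResidueField R))) := by
  let k : Type u := IsLocalRing.ResidueField R
  let qk : Spec (CommRingCat.of k) ⟶ Spec (CommRingCat.of R) :=
    Spec.map (CommRingCat.ofHom (IsLocalRing.residue R))
  let qK : Spec (CommRingCat.of (FractionRing R)) ⟶ Spec (CommRingCat.of R) :=
    Spec.map (CommRingCat.ofHom (algebraMap R (FractionRing R)))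
  let φk := (Over.pullback qk).map φ
  let φK := (Over.pullback qK).map φ
  haveI : IsMonHom φk := inferInstance
  haveI : IsMonHom φK := inferInstance
  haveI : LocallyOfFiniteType (Red.bc qk A).hom := MorphismProperty.pullback_snd _ _ inferInstance
  haveI : LocallyOfFiniteType (Red.bc qk B).hom := MorphismProperty.pullback_snd _ _ inferInstance
  haveI : LocallyOfFiniteType (Red.bc qK A).hom := MorphismProperty.pullback_snd _ _ inferInstance
  haveI : LocallyOfFiniteType (Red.bc qK B).hom := MorphismProperty.pullback_snd _ _ inferInstance
  haveI : Smooth (Red.bc qk B).hom := MorphismProperty.pullback_snd _ _ inferInstance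
  haveI : Smooth (Red.bc qK B).hom := MorphismProperty.pullback_snd _ _ inferInstance
  haveI : IsReduced (Red.bc qk B).left :=
    Groth.Agent.Helper7.SmoothBC.isReduced_of_smooth_over_field k (Red.bc qk B).hom
  haveI : IsReduced (Red.bc qK B).left :=
    Groth.Agent.Helper7.SmoothBC.isReduced_of_smooth_over_field (FractionRing R) (Red.bc qK B).hom
  have hone : φk.left ((η[Red.bc qk A]).left (IsLocalRing.closedPoint k)) =
      (η[Red.bc qk B]).left (IsLocalRing.closedPoint k) := by
    rw [← Scheme.Hom.comp_apply, ← Over.comp_left, IsMonHom.one_hom (f := φk)]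
  have hle : φk.left '' connectedComponent ((η[Red.bc qk A]).left (IsLocalRing.closedPoint k)) ⊆
      connectedComponent ((η[Red.bc qk B]).left (IsLocalRing.closedPoint k)) := by
    rw [← hone]
    exact φk.left.continuous.image_connectedComponent_subset _
  constructor
  · intro hfl
    haveI : Flat φk.left := MorphismProperty.of_isPullback (P := @Flat)
      (Groth.Agent.Lead.GrpMonoCl.isPullback_map_left qk φ) hfl
    exact Set.Subset.antisymm hle
      (Groth.Agent.Lead.Neut.neutral_subset_image_of_flat k (Red.bc qk A) (Red.bc qk B) φk)
  · intro heq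
    have h1 : Flat φk.left :=
      Groth.Agent.Lead.Neut.flat_of_neutral_subset_image k (Red.bc qk A) (Red.bc qk B) φk
        (le_of_eq heq.symm)
    haveI : Surjective φK.left := hsurj
    have h2 : Flat φK.left := Groth.Agent.Helper2.GrpHom.flat_of_surjective_of_isReduced φK
    exact flat_of_flat_fibres_dvr R A B φ h1 h2

end Groth.Agent.Lead.NerFl
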