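import Mathlib
import Groth.Agent.S17731
import Groth.Agent.S13203

/-!
# S13750: concrete forms of the Néron mapping property (lead)
-/

set_option autoImplicit false
set_option backward.isDefEq.respectTransparency.types false
set_option synthInstance.maxHeartbeats 400000
set_option maxHeartbeats 1000000
set_option linter.style.haveILetI false
set_option linter.unusedSectionVars false

universe u
open CategoryTheory CategoryTheory.Limits AlgebraicGeometry TopologicalSpace

namespace Groth.Agent.Lead.NerStalk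

open Groth.Agent.S17731 (map_fst map_snd)

variable {S : Scheme.{u}} (U : S.Opens) (N : Over S)

/-- concrete uniqueness: morphisms to `N` over `S` are determined on the part over `U` -/
def CI {P : Scheme.{u}} (p : P ⟶ S) : Prop :=
  ∀ {Q : Scheme.{u}} (a : Q ⟶ P) (b : Q ⟶ (U : Scheme.{u})), IsPullback a b p U.ι →
    ∀ φ₁ φ₂ : P ⟶ N.left, φ₁ ≫ N.hom = p → φ₂ ≫ N.hom = p → a ≫ φ₁ = a ≫ φ₂ → φ₁ = φ₂

/-- concrete existence: morphisms to `N` over `S` defined over `U` extend -/
def CS {P : Scheme.{u}} (p : P ⟶ S) : Prop :=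
  ∀ {Q : Scheme.{u}} (a : Q ⟶ P) (b : Q ⟶ (U : Scheme.{u})), IsPullback a b p U.ι →
    ∀ ψ : Q ⟶ N.left, ψ ≫ N.hom = a ≫ p → ∃ φ : P ⟶ N.left, φ ≫ N.hom = p ∧ a ≫ φ = ψ

variable {U N}

theorem CI_of_injective (Y : Over S)
    (h : Function.Injective (fun f : Y ⟶ N => (Over.pullback U.ι).map f)) : CI U N Y.hom := by
  intro Q a b hQ φ₁ φ₂ h1 h2 h12
  let e := hQ.isoPullback
  have he : e.hom ≫ pullback.fst Y.hom U.ι = a := hQ.isoPullback_hom_fst
  have h12' : pullback.fst Y.hom U.ι ≫ φ₁ = pullback.fst Y.hom U.ι ≫ φ₂ := by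
    rw [← cancel_epi e.hom, ← Category.assoc, ← Category.assoc, he, h12]
  let f₁ : Y ⟶ N := Over.homMk φ₁ h1
  let f₂ : Y ⟶ N := Over.homMk φ₂ h2
  have hf : (Over.pullback U.ι).map f₁ = (Over.pullback U.ι).map f₂ := by
    ext1
    apply pullback.hom_ext
    · rw [map_fst, map_fst]
      exact h12'
    · rw [map_snd, map_snd]
  have := h hf
  exact congrArg (fun f : Y ⟶ N => f.left) this

theorem CS_of_surjective (Y : Over S)
    (h : Function.Surjective (fun f : Y ⟶ N => (Over.pullback U.ι).map f)) : CS U N Y.hom := by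
  intro Q a b hQ ψ hψ
  let e := hQ.isoPullback
  have he : e.hom ≫ pullback.fst Y.hom U.ι = a := hQ.isoPullback_hom_fst
  have he' : e.inv ≫ a = pullback.fst Y.hom U.ι := by rw [← he, Iso.inv_hom_id_assoc]
  have hcond : (e.inv ≫ ψ) ≫ N.hom = pullback.snd Y.hom U.ι ≫ U.ι := by
    rw [Category.assoc, hψ, ← Category.assoc, he', pullback.condition]
  let m : (Over.pullback U.ι).obj Y ⟶ (Over.pullback U.ι).obj N :=
    Over.homMk (pullback.lift (e.inv ≫ ψ) (pullback.snd Y.hom U.ι) hcond)
      (pullback.lift_snd _ _ _)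
  obtain ⟨f, hf⟩ := h m
  have hf' : (Over.pullback U.ι).map f = m := hf
  refine ⟨f.left, Over.w f, ?_⟩
  have h1 := map_fst U f
  rw [hf'] at h1
  have h2 : m.left ≫ pullback.fst N.hom U.ι = e.inv ≫ ψ := pullback.lift_fst _ _ _
  rw [h2] at h1
  rw [← he, Category.assoc, ← h1, Iso.hom_inv_id_assoc]

theorem injective_of_CI (Y : Over S) (h : CI U N Y.hom) :
    Function.Injective (fun f : Y ⟶ N => (Over.pullback U.ι).map f) := by
  intro f₁ f₂ h12
  have h12' : (Over.pullback U.ι).map f₁ = (Over.pullback U.ι).map f₂ := h12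
  have h1 := map_fst U f₁
  rw [h12', map_fst] at h1
  have := h (pullback.fst Y.hom U.ι) (pullback.snd Y.hom U.ι) (IsPullback.of_hasPullback _ _)
    f₁.left f₂.left (Over.w f₁) (Over.w f₂) h1.symm
  exact Over.OverMorphism.ext this

theorem surjective_of_CS (Y : Over S) (h : CS U N Y.hom) :
    Function.Surjective (fun f : Y ⟶ N => (Over.pullback U.ι).map f) := by
  intro m
  have hmw : m.left ≫ pullback.snd N.hom U.ι = pullback.snd Y.hom U.ι := Over.w m
  obtain ⟨φ, hφ1, hφ2⟩ := h (pullback.fst Y.hom U.ι) (pullback.snd Y.hom U.ι)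
    (IsPullback.of_hasPullback _ _) (m.left ≫ pullback.fst N.hom U.ι) (by
      rw [Category.assoc, pullback.condition, ← Category.assoc, hmw, pullback.condition])
  refine ⟨Over.homMk φ hφ1, ?_⟩
  change (Over.pullback U.ι).map (Over.homMk φ hφ1) = m
  ext1
  apply pullback.hom_ext
  · rw [map_fst]
    exact hφ2
  · rw [map_snd, hmw]

end Groth.Agent.Lead.NerStalk
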