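import Mathlib

set_option autoImplicit false
set_option backward.isDefEq.respectTransparency.types false
set_option synthInstance.maxHeartbeats 400000
set_option linter.style.haveILetI false
set_option linter.unusedSectionVars false

universe u

open CategoryTheory AlgebraicGeometry Limits TopologicalSpace

namespace Groth.Agent.Lead.Weil

theorem flat_lfp_of_comp_openImmersion {A B C : Scheme.{u}} (a : A ⟶ B) (j : B ⟶ C)
    [IsOpenImmersion j] [Flat (a ≫ j)] [LocallyOfFinitePresentation (a ≫ j)] :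
    Flat a ∧ LocallyOfFinitePresentation a :=
  ⟨MorphismProperty.of_postcomp (W := @Flat) (W' := @IsOpenImmersion) a j inferInstance
      inferInstance,
    MorphismProperty.of_postcomp (W := @LocallyOfFinitePresentation) (W' := @IsOpenImmersion) a j
      inferInstance inferInstance⟩

/-- Lemma 4: fppf descent of a morphism -/
theorem exists_descent {X G W : Scheme.{u}} [G.IsSeparated] (U : X.Opens) (hU : Dense (U : Set X))
    (f : (U : Scheme.{u}) ⟶ G) (q : W ⟶ X) [Flat q] [LocallyOfFinitePresentation q]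
    [IsReduced (pullback q q)] (gW : W ⟶ G)
    (hg : (q ⁻¹ᵁ U).ι ≫ gW = q.resLE U (q ⁻¹ᵁ U) le_rfl ≫ f) (z : X) (hz : z ∈ Set.range q) :
    ∃ (V : X.Opens) (g : (V : Scheme.{u}) ⟶ G), z ∈ V ∧
      X.homOfLE (inf_le_right : U ⊓ V ≤ V) ≫ g = X.homOfLE (inf_le_left : U ⊓ V ≤ U) ≫ f := by
  classical
  obtain ⟨V, hV⟩ : ∃ V : X.Opens, (V : Set X) = Set.range q :=
    ⟨⟨Set.range q, q.isOpenMap.isOpen_range⟩, rfl⟩
  have hrange : Set.range q ⊆ Set.range V.ι := by rw [Scheme.Opens.range_ι, hV]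
  obtain ⟨q', hq'⟩ : ∃ q' : W ⟶ (V : Scheme.{u}), q' ≫ V.ι = q :=
    ⟨IsOpenImmersion.lift V.ι q hrange, IsOpenImmersion.lift_fac _ _ _⟩
  haveI : Flat (q' ≫ V.ι) := by rw [hq']; infer_instance
  haveI : LocallyOfFinitePresentation (q' ≫ V.ι) := by rw [hq']; infer_instance
  obtain ⟨hfl, hlfp⟩ := flat_lfp_of_comp_openImmersion q' V.ι
  haveI := hfl
  haveI := hlfp
  haveI : Surjective q' := ⟨fun v => by
    have hv : V.ι v ∈ (V : Set X) := v.2
    rw [hV] at hv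
    obtain ⟨w, hw⟩ := hv
    refine ⟨w, ?_⟩
    apply V.ι.isOpenEmbedding.injective
    rw [← Scheme.Hom.comp_apply, hq', hw]⟩
  -- the two pullbacks of `gW` agree
  have key : pullback.fst q q ≫ gW = pullback.snd q q ≫ gW := by
    obtain ⟨D, hD⟩ : ∃ D : (pullback q q).Opens, D = (pullback.fst q q ≫ q) ⁻¹ᵁ U := ⟨_, rfl⟩
    haveI : IsDominant D.ι := ⟨by
      rw [DenseRange, Scheme.Opens.range_ι, hD]
      exact hU.preimage (pullback.fst q q ≫ q).isOpenMap⟩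
    apply ext_of_isDominant D.ι
    have hr1 : Set.range (D.ι ≫ pullback.fst q q) ⊆ Set.range (q ⁻¹ᵁ U).ι := by
      rintro _ ⟨p, rfl⟩
      rw [Scheme.Opens.range_ι]
      have hp : D.ι p ∈ D := p.2
      have hle : D ≤ (pullback.fst q q ≫ q) ⁻¹ᵁ U := hD.le
      exact hle hp
    have hr2 : Set.range (D.ι ≫ pullback.snd q q) ⊆ Set.range (q ⁻¹ᵁ U).ι := by
      rintro _ ⟨p, rfl⟩
      rw [Scheme.Opens.range_ι]
      have hp : D.ι p ∈ D := p.2
      have hle : D ≤ (pullback.fst q q ≫ q) ⁻¹ᵁ U := hD.le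
      have h1 : (pullback.fst q q ≫ q) (D.ι p) ∈ U := hle hp
      rw [pullback.condition] at h1
      exact h1
    obtain ⟨a1, ha1⟩ : ∃ a1 : (D : Scheme.{u}) ⟶ ((q ⁻¹ᵁ U : W.Opens) : Scheme.{u}),
        a1 ≫ (q ⁻¹ᵁ U).ι = D.ι ≫ pullback.fst q q :=
      ⟨IsOpenImmersion.lift _ _ hr1, IsOpenImmersion.lift_fac _ _ _⟩
    obtain ⟨a2, ha2⟩ : ∃ a2 : (D : Scheme.{u}) ⟶ ((q ⁻¹ᵁ U : W.Opens) : Scheme.{u}),
        a2 ≫ (q ⁻¹ᵁ U).ι = D.ι ≫ pullback.snd q q :=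
      ⟨IsOpenImmersion.lift _ _ hr2, IsOpenImmersion.lift_fac _ _ _⟩
    have h12 : a1 ≫ q.resLE U (q ⁻¹ᵁ U) le_rfl = a2 ≫ q.resLE U (q ⁻¹ᵁ U) le_rfl := by
      rw [← cancel_mono U.ι, Category.assoc, Category.assoc, Scheme.Hom.resLE_comp_ι,
        ← Category.assoc, ← Category.assoc, ha1, ha2, Category.assoc, Category.assoc,
        pullback.condition]
    rw [← Category.assoc, ← ha1, Category.assoc, hg, ← Category.assoc, h12, Category.assoc, ← hg,
      ← Category.assoc, ha2, Category.assoc]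
  have hcond : ∀ {Z : Scheme.{u}} (a b : Z ⟶ W), a ≫ q' = b ≫ q' → a ≫ gW = b ≫ gW := by
    intro Z a b hab
    have hab' : a ≫ q = b ≫ q := by rw [← hq', ← Category.assoc, hab, Category.assoc]
    calc a ≫ gW = pullback.lift a b hab' ≫ pullback.fst q q ≫ gW := by
          rw [pullback.lift_fst_assoc]
      _ = pullback.lift a b hab' ≫ pullback.snd q q ≫ gW := by rw [key]
      _ = b ≫ gW := by rw [pullback.lift_snd_assoc]
  obtain ⟨g, hgfac⟩ : ∃ g : (V : Scheme.{u}) ⟶ G, q' ≫ g = gW :=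
    ⟨EffectiveEpi.desc q' gW hcond, EffectiveEpi.fac q' gW hcond⟩
  refine ⟨V, g, by rw [← SetLike.mem_coe, hV]; exact hz, ?_⟩
  -- agreement on `U ⊓ V`
  have hr : Set.range ((q ⁻¹ᵁ U).ι ≫ q) ⊆ Set.range (U ⊓ V).ι := by
    rintro _ ⟨p, rfl⟩
    rw [Scheme.Opens.range_ι]
    refine ⟨p.2, ?_⟩
    show ((q ⁻¹ᵁ U).ι ≫ q) p ∈ (V : Set X)
    rw [hV]
    exact ⟨(q ⁻¹ᵁ U).ι p, rfl⟩
  obtain ⟨e, he⟩ : ∃ e : ((q ⁻¹ᵁ U : W.Opens) : Scheme.{u}) ⟶ ((U ⊓ V : X.Opens) : Scheme.{u}),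
      e ≫ (U ⊓ V).ι = (q ⁻¹ᵁ U).ι ≫ q :=
    ⟨IsOpenImmersion.lift _ _ hr, IsOpenImmersion.lift_fac _ _ _⟩
  haveI : Flat (e ≫ (U ⊓ V).ι) := by rw [he]; infer_instance
  haveI : LocallyOfFinitePresentation (e ≫ (U ⊓ V).ι) := by rw [he]; infer_instance
  obtain ⟨hefl, helfp⟩ := flat_lfp_of_comp_openImmersion e (U ⊓ V).ι
  haveI := hefl
  haveI := helfp
  haveI : Surjective e := ⟨fun p => by
    have hpV : (U ⊓ V).ι p ∈ (V : Set X) := p.2.2
    rw [hV] at hpV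
    obtain ⟨w, hw⟩ := hpV
    have hwU : w ∈ q ⁻¹ᵁ U := by
      show q w ∈ U
      rw [hw]; exact p.2.1
    refine ⟨⟨w, hwU⟩, ?_⟩
    apply (U ⊓ V).ι.isOpenEmbedding.injective
    rw [← Scheme.Hom.comp_apply, he, Scheme.Hom.comp_apply]
    exact hw⟩
  have he1 : e ≫ X.homOfLE (inf_le_right : U ⊓ V ≤ V) = (q ⁻¹ᵁ U).ι ≫ q' := by
    rw [← cancel_mono V.ι, Category.assoc, Scheme.homOfLE_ι, he, Category.assoc, hq']
  have he2 : e ≫ X.homOfLE (inf_le_left : U ⊓ V ≤ U) = q.resLE U (q ⁻¹ᵁ U) le_rfl := by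
    rw [← cancel_mono U.ι, Category.assoc, Scheme.homOfLE_ι, he, Scheme.Hom.resLE_comp_ι]
  rw [← cancel_epi e, ← Category.assoc, he1, Category.assoc, hgfac, hg, ← Category.assoc, he2]

/-- Lemma 5: fibrewise density lifts to the fibres of the first projection of `X ×_S X`. -/
theorem exists_mem_fibre {X S : Scheme.{u}} (pX : X ⟶ S) (U : X.Opens)
    (hdense : ∀ x : X, x ∈ closure ((U : Set X) ∩ {y | pX y = pX x}))
    (N : (pullback pX pX).Opens) (t : ↥(pullback pX pX)) (ht : t ∈ N) :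
    ∃ t₀ : ↥(pullback pX pX), t₀ ∈ N ∧ pullback.fst pX pX t₀ = pullback.fst pX pX t ∧
      pullback.snd pX pX t₀ ∈ U := by
  classical
  obtain ⟨z, hz⟩ : ∃ z : X, z = pullback.fst pX pX t := ⟨_, rfl⟩
  have hsq : IsPullback (pullback.snd pX pX) (pullback.fst pX pX) pX pX :=
    (IsPullback.of_hasPullback pX pX).flip
  have hpb := isPullback_fiberToSpecResidueField_of_isPullback hsq z
  obtain ⟨ρ, hρ⟩ : ∃ ρ : (pullback.fst pX pX).fiber z ⟶ pX.fiber (pX z),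
      ρ = pullback.map _ _ _ _ (pullback.snd pX pX) (Spec.map (pX.residueFieldMap z)) pX
        hsq.w.symm (by simp) := ⟨_, rfl⟩
  rw [← hρ] at hpb
  have hρι : ρ ≫ pX.fiberι (pX z) = (pullback.fst pX pX).fiberι z ≫ pullback.snd pX pX := by
    rw [hρ]
    exact pullback.lift_fst _ _ _
  haveI : UniversallyOpen ρ :=
    MorphismProperty.of_isPullback (P := @UniversallyOpen) hpb.flip inferInstance
  -- lift `t` to the fibre
  have htz : t ∈ Set.range ((pullback.fst pX pX).fiberι z) := by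
    rw [Scheme.Hom.range_fiberι]
    exact hz.symm
  obtain ⟨t', ht'⟩ := htz
  obtain ⟨N', hN'⟩ : ∃ N' : ((pullback.fst pX pX).fiber z).Opens,
      N' = (pullback.fst pX pX).fiberι z ⁻¹ᵁ N := ⟨_, rfl⟩
  have ht'N : t' ∈ N' := by
    rw [hN']
    show (pullback.fst pX pX).fiberι z t' ∈ N
    rw [ht']; exact ht
  have hopen : IsOpen (ρ '' (N' : Set ((pullback.fst pX pX).fiber z))) :=
    ρ.isOpenMap _ N'.isOpen
  obtain ⟨O, hO, hOeq⟩ := (pX.fiberι (pX z)).isEmbedding.isInducing.isOpen_iff.mp hopen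
  have hx'O : pX.fiberι (pX z) (ρ t') ∈ O := by
    have : ρ t' ∈ pX.fiberι (pX z) ⁻¹' O := by
      rw [hOeq]; exact ⟨t', ht'N, rfl⟩
    exact this
  have hx's : pX (pX.fiberι (pX z) (ρ t')) = pX z := by
    have : pX.fiberι (pX z) (ρ t') ∈ Set.range (pX.fiberι (pX z)) := ⟨_, rfl⟩
    rw [Scheme.Hom.range_fiberι] at this
    exact this
  obtain ⟨u, huO, huU, hus⟩ := mem_closure_iff.mp (hdense (pX.fiberι (pX z) (ρ t'))) O hO hx'O
  have hus' : pX u = pX z := (hus : pX u = _).trans hx's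
  have hu_range : u ∈ Set.range (pX.fiberι (pX z)) := by
    rw [Scheme.Hom.range_fiberι]; exact hus'
  obtain ⟨u', hu'⟩ := hu_range
  have hu'O : u' ∈ pX.fiberι (pX z) ⁻¹' O := by
    show pX.fiberι (pX z) u' ∈ O
    rw [hu']; exact huO
  rw [hOeq] at hu'O
  obtain ⟨t₀', ht₀'N, ht₀'⟩ := hu'O
  refine ⟨(pullback.fst pX pX).fiberι z t₀', ?_, ?_, ?_⟩
  · have : t₀' ∈ (pullback.fst pX pX).fiberι z ⁻¹ᵁ N := hN' ▸ ht₀'N
    exact this
  · have h1 : (pullback.fst pX pX).fiberι z t₀' ∈ Set.range ((pullback.fst pX pX).fiberι z) :=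
      ⟨_, rfl⟩
    rw [Scheme.Hom.range_fiberι] at h1
    exact (h1 : pullback.fst pX pX _ = z).trans hz
  · have h2 : pullback.snd pX pX ((pullback.fst pX pX).fiberι z t₀') = u := by
      rw [← Scheme.Hom.comp_apply, ← hρι, Scheme.Hom.comp_apply, ht₀', hu']
    rw [h2]; exact huU

end Groth.Agent.Lead.Weil
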