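import Mathlib
import Groth.Agent.Lib.Helper2.Sch.DimFormula
import Groth.Agent.Lib.Helper9.RegUFD.Main
import Groth.Agent.Lib.Helper8.RegularLocal

set_option autoImplicit false
set_option backward.isDefEq.respectTransparency.types false
set_option synthInstance.maxHeartbeats 400000
set_option linter.style.haveILetI false
set_option linter.unusedSectionVars false

universe u

open CategoryTheory AlgebraicGeometry Limits TopologicalSpace

namespace Groth.Agent.Lead.Weil

/-- The local ring at the image of a prime `p` of `Spec 𝒪_{X,x}` has dimension `height p`. -/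
theorem dim_fromSpecStalk (X : Scheme.{u}) (x : X) (p : PrimeSpectrum (X.presheaf.stalk x)) :
    ringKrullDim (X.presheaf.stalk (X.fromSpecStalk x p)) = (p.asIdeal.height : WithBot ℕ∞) := by
  rw [Groth.Agent.Helper2.DimFormula.ringKrullDim_stalk_eq_coheight]
  congr 1
  have hmem : X.fromSpecStalk x p ∈ Set.Ici x := by
    have : X.fromSpecStalk x p ∈ Set.range (X.fromSpecStalk x) := ⟨p, rfl⟩
    rw [Scheme.range_fromSpecStalk] at this
    exact this
  have h1 : Order.coheight (⟨X.fromSpecStalk x p, hmem⟩ : Set.Ici x) =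
      Order.coheight (X.fromSpecStalk x p) := by
    refine Order.coheight_eq_of_strictMono (fun a : Set.Ici x => (a : X))
      (fun a b hab => hab) ?_ ⟨X.fromSpecStalk x p, hmem⟩
    intro a b hab
    exact ⟨⟨b, le_trans a.2 hab.le⟩, hab, rfl⟩
  rw [← h1]
  have h2 : (Groth.Agent.Helper2.DimFormula.iciEquiv X x) (OrderDual.toDual p) =
      ⟨X.fromSpecStalk x p, hmem⟩ := rfl
  rw [← h2, Order.coheight_orderIso, Order.coheight_toDual, PrimeSpectrum.height_eq_orderHeight]

theorem exists_fromSpecStalk_eq {X : Scheme.{u}} {x y : X} (h : y ⤳ x) :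
    ∃ p : PrimeSpectrum (X.presheaf.stalk x), X.fromSpecStalk x p = y := by
  have : y ∈ Set.range (X.fromSpecStalk x) := by
    rw [Scheme.range_fromSpecStalk]; exact h
  exact this

theorem fromSpecStalk_specializes (X : Scheme.{u}) (x : X)
    {p q : PrimeSpectrum (X.presheaf.stalk x)} (h : p ≤ q) :
    X.fromSpecStalk x p ⤳ X.fromSpecStalk x q :=
  ((PrimeSpectrum.le_iff_specializes p q).1 h).map (X.fromSpecStalk x).continuous

/-- Lemma 1 -/
theorem exists_dimLEOne_of_diag {X T : Scheme.{u}} (Δ : X ⟶ T) (z : X)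
    [IsRegularLocalRing (T.presheaf.stalk (Δ z))] [IsNoetherianRing (X.presheaf.stalk z)]
    (η : T) (hη : η ⤳ Δ z) (hdim : ringKrullDim (T.presheaf.stalk η) ≤ 1) :
    ∃ y : X, y ⤳ z ∧ ringKrullDim (X.presheaf.stalk y) ≤ 1 ∧ η ⤳ Δ y := by
  haveI : IsDomain (T.presheaf.stalk (Δ z)) := Groth.Agent.Helper8.RLR.isDomain _
  haveI : UniqueFactorizationMonoid (T.presheaf.stalk (Δ z)) := Groth.Agent.Helper9.RegUFD.ufd _
  obtain ⟨P, rfl⟩ := exists_fromSpecStalk_eq hη
  rw [dim_fromSpecStalk] at hdim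
  have hP1 : P.asIdeal.height ≤ 1 := by exact_mod_cast hdim
  -- `P` is principal
  obtain ⟨h, hh⟩ : ∃ h : T.presheaf.stalk (Δ z), P.asIdeal = Ideal.span {h} := by
    by_cases hP0 : P.asIdeal = ⊥
    · exact ⟨0, by rw [hP0]; simp⟩
    · obtain ⟨p, hpP, hp⟩ := Ideal.IsPrime.exists_mem_prime_of_ne_bot P.2 hP0
      refine ⟨p, Ideal.eq_span_singleton_of_height_eq_one ?_ hpP hp⟩
      refine le_antisymm hP1 ?_
      rw [Order.one_le_iff_pos, pos_iff_ne_zero, Ne, Ideal.height_eq_zero_iff_eq_bot]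
      exact hP0
  have hhP : h ∈ P.asIdeal := by rw [hh]; exact Ideal.mem_span_singleton_self h
  let δ : T.presheaf.stalk (Δ z) →+* X.presheaf.stalk z := (Δ.stalkMap z).hom
  have hδm : δ h ∈ IsLocalRing.maximalIdeal (X.presheaf.stalk z) := by
    have hm : h ∈ IsLocalRing.maximalIdeal (T.presheaf.stalk (Δ z)) :=
      IsLocalRing.le_maximalIdeal P.2.ne_top hhP
    rw [IsLocalRing.mem_maximalIdeal, mem_nonunits_iff] at hm ⊢
    intro hu
    exact hm (isUnit_of_map_unit δ h hu)
  have hle : Ideal.span {δ h} ≤ IsLocalRing.maximalIdeal (X.presheaf.stalk z) := by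
    rw [Ideal.span_singleton_le_iff_mem]; exact hδm
  obtain ⟨q, hq, -⟩ := Ideal.exists_minimalPrimes_le hle
  haveI hqp : q.IsPrime := hq.1.1
  have hq1 : q.height ≤ 1 := Ideal.height_le_one_of_isPrincipal_of_mem_minimalPrimes _ q hq
  let Q : PrimeSpectrum (X.presheaf.stalk z) := ⟨q, hqp⟩
  refine ⟨X.fromSpecStalk z Q, ?_, ?_, ?_⟩
  · have : X.fromSpecStalk z Q ∈ Set.range (X.fromSpecStalk z) := ⟨Q, rfl⟩
    rw [Scheme.range_fromSpecStalk] at this
    exact this
  · rw [dim_fromSpecStalk]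
    exact_mod_cast hq1
  · have hnat : Δ (X.fromSpecStalk z Q) =
        T.fromSpecStalk (Δ z) (Spec.map (Δ.stalkMap z) Q) := by
      rw [← Scheme.Hom.comp_apply, ← Scheme.Hom.comp_apply, Scheme.SpecMap_stalkMap_fromSpecStalk]
    rw [hnat]
    apply fromSpecStalk_specializes
    change P.asIdeal ≤ (Spec.map (Δ.stalkMap z) Q).asIdeal
    rw [hh, Ideal.span_singleton_le_iff_mem]
    change δ h ∈ q
    exact hq.1.2 (Ideal.mem_span_singleton_self _)

end Groth.Agent.Lead.Weil
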