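import Mathlib
import Groth.Agent.Lib.Helper2.Sch.DimFormula
import Groth.Agent.Lib.Helper4.RatCodim1

set_option autoImplicit false
set_option backward.isDefEq.respectTransparency.types false
set_option synthInstance.maxHeartbeats 400000
set_option linter.style.haveILetI false
set_option linter.unusedSectionVars false

universe u

open CategoryTheory AlgebraicGeometry Limits TopologicalSpace

namespace Groth.Agent.Lead.Weil

theorem coheight_lt_top_of_noetherian (X : Scheme.{u}) [IsLocallyNoetherian X] (x : X) :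
    Order.coheight x < ⊤ := by
  have h := Groth.Agent.Helper2.DimFormula.ringKrullDim_stalk_eq_coheight X x
  have hfin : ringKrullDim (X.presheaf.stalk x) < ⊤ := ringKrullDim_lt_top
  rw [h, ← WithBot.coe_top, WithBot.coe_lt_coe] at hfin
  exact hfin

/-- Lemma 2 -/
theorem mem_domain_of_dimOne (X Y : Scheme.{u}) [IsLocallyNoetherian X] [IsReduced X] [IsAffine Y]
    (hS2 : ∀ x : ↥X, min (2 : WithBot ℕ∞) (ringKrullDim (X.presheaf.stalk x)) ≤
      ((LocCoh.depth (X.presheaf.stalk x) (X.presheaf.stalk x) : ℕ∞) : WithBot ℕ∞))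
    (f : X ⤏ Y) (t : X)
    (h : ∀ η : X, η ⤳ t → ringKrullDim (X.presheaf.stalk η) = 1 → η ∈ f.domain) :
    t ∈ f.domain := by
  by_contra ht
  let Z : Set X := {η | η ⤳ t ∧ η ∉ f.domain}
  have hne : Z.Nonempty := ⟨t, specializes_rfl, ht⟩
  obtain ⟨η, hηZ, hmin⟩ := WellFounded.has_min
    (InvImage.wf (fun η : X => Order.coheight η) wellFounded_lt) Z hne
  have hmax : ∀ η' : X, η' ∉ f.domain → η' ⤳ η → η' = η := by
    intro η' hη'd hη'η
    by_contra hne'
    have hZ' : η' ∈ Z := ⟨hη'η.trans hηZ.1, hη'd⟩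
    have hnlt := hmin η' hZ'
    apply hnlt
    show Order.coheight η' < Order.coheight η
    have hlt : η < η' := by
      refine lt_of_le_not_ge hη'η ?_
      intro (hge : η ⤳ η')
      exact hne' (hη'η.antisymm hge).eq
    exact Order.coheight_strictAnti hlt (coheight_lt_top_of_noetherian X η')
  have := Groth.Agent.Lib.Helper4.RatCodim1.S2902_main X Y hS2 f η hηZ.2 hmax
  exact hηZ.2 (h η hηZ.1 this)

end Groth.Agent.Lead.Weil
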