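import Mathlib
import Groth.Agent.Lib.Lead.Weil1
import Groth.Agent.Lib.Lead.Weil2
import Groth.Agent.Lib.Helper8.ABS19

set_option autoImplicit false
set_option backward.isDefEq.respectTransparency.types false
set_option synthInstance.maxHeartbeats 400000
set_option linter.style.haveILetI false
set_option linter.unusedSectionVars false

universe u

open CategoryTheory AlgebraicGeometry Limits TopologicalSpace

namespace Groth.Agent.Lead.Weil

theorem isReduced_of_regular (T : Scheme.{u})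
    (hreg : ∀ t : T, IsRegularLocalRing (T.presheaf.stalk t)) : IsReduced T := by
  haveI : ∀ t : T, _root_.IsReduced (T.presheaf.stalk t) := fun t => by
    haveI := hreg t
    haveI : IsDomain (T.presheaf.stalk t) := Groth.Agent.Helper8.RLR.isDomain _
    infer_instance
  exact isReduced_of_isReduced_stalk T

theorem regular_of_isOpenImmersion {T₀ T : Scheme.{u}} (j : T₀ ⟶ T) [IsOpenImmersion j]
    (hreg : ∀ t : T, IsRegularLocalRing (T.presheaf.stalk t)) (x : T₀) :
    IsRegularLocalRing (T₀.presheaf.stalk x) := by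
  haveI := hreg (j x)
  exact IsRegularLocalRing.of_ringEquiv (asIso (j.stalkMap x)).commRingCatIsoToRingEquiv

theorem dim_of_isOpenImmersion {T₀ T : Scheme.{u}} (j : T₀ ⟶ T) [IsOpenImmersion j] (x : T₀) :
    ringKrullDim (T.presheaf.stalk (j x)) = ringKrullDim (T₀.presheaf.stalk x) :=
  ringKrullDim_eq_of_ringEquiv (asIso (j.stalkMap x)).commRingCatIsoToRingEquiv

theorem hS2_of_regular (T : Scheme.{u})
    (hreg : ∀ t : T, IsRegularLocalRing (T.presheaf.stalk t)) (x : T) :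
    min (2 : WithBot ℕ∞) (ringKrullDim (T.presheaf.stalk x)) ≤
      ((LocCoh.depth (T.presheaf.stalk x) (T.presheaf.stalk x) : ℕ∞) : WithBot ℕ∞) := by
  haveI := hreg x
  rw [Groth.Agent.Helper8.ABS.depth_eq_dim_of_regular]
  exact min_le_right _ _

/-- Lemma 3 -/
theorem exists_extension_near {T Y : Scheme.{u}} [IsLocallyNoetherian T] [IsAffine Y]
    (hreg : ∀ t : T, IsRegularLocalRing (T.presheaf.stalk t))
    (Ω : T.Opens) (w : (Ω : Scheme.{u}) ⟶ Y) (t : T)
    (h : ∀ η : T, η ⤳ t → ringKrullDim (T.presheaf.stalk η) ≤ 1 → η ∈ Ω) :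
    ∃ (T'' : T.Opens) (w'' : (T'' : Scheme.{u}) ⟶ Y), t ∈ T'' ∧ IsIntegral (T'' : Scheme.{u}) ∧
      ∀ (Z : Scheme.{u}) (a : Z ⟶ (T'' : Scheme.{u})) (b : Z ⟶ (Ω : Scheme.{u})),
        a ≫ T''.ι = b ≫ Ω.ι → a ≫ w'' = b ≫ w := by
  haveI := isReduced_of_regular T hreg
  -- an integral affine neighbourhood
  obtain ⟨N, htN, hN, hinj⟩ := T.exists_germ_injective t
  haveI : IsAffine (N : Scheme.{u}) := hN
  haveI := hreg t
  haveI : IsDomain (T.presheaf.stalk t) := Groth.Agent.Helper8.RLR.isDomain _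
  haveI hdomN : IsDomain Γ(T, N) := hinj.isDomain _
  haveI : IsDomain Γ((N : Scheme.{u}), ⊤) :=
    MulEquiv.isDomain Γ(T, N) N.topIso.commRingCatIsoToRingEquiv.toMulEquiv
  haveI : Nonempty (N : Scheme.{u}) := ⟨⟨t, htN⟩⟩
  haveI hint : IsIntegral (N : Scheme.{u}) := isIntegral_of_isAffine_of_isDomain _
  let t' : (N : Scheme.{u}) := ⟨t, htN⟩
  let D0 : (N : Scheme.{u}).Opens := N.ι ⁻¹ᵁ Ω
  -- `D0` is dense
  have hD0ne : (D0 : Set (N : Scheme.{u})).Nonempty := by
    refine ⟨genericPoint (N : Scheme.{u}), ?_⟩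
    show N.ι (genericPoint (N : Scheme.{u})) ∈ Ω
    apply h
    · have h1 : genericPoint (N : Scheme.{u}) ⤳ t' := genericPoint_specializes _
      exact h1.map N.ι.continuous
    · rw [dim_of_isOpenImmersion N.ι]
      have : ringKrullDim ((N : Scheme.{u}).presheaf.stalk (genericPoint (N : Scheme.{u}))) = 0 := by
        change ringKrullDim (N : Scheme.{u}).functionField = 0
        exact ringKrullDim_eq_zero_of_field _
      rw [this]
      exact zero_le_one
  have hD0 : Dense (D0 : Set (N : Scheme.{u})) := D0.isOpen.dense hD0ne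
  let φ0 : (N : Scheme.{u}).PartialMap Y := ⟨D0, hD0, N.ι.resLE Ω D0 le_rfl ≫ w⟩
  have ht' : t' ∈ φ0.toRationalMap.domain := by
    apply mem_domain_of_dimOne (N : Scheme.{u}) Y
      (hS2_of_regular _ (fun x => regular_of_isOpenImmersion N.ι hreg x))
    intro η hη hdim
    apply φ0.le_domain_toRationalMap
    show N.ι η ∈ Ω
    apply h
    · exact hη.map N.ι.continuous
    · rw [dim_of_isOpenImmersion N.ι, hdim]
  rw [Scheme.RationalMap.mem_domain] at ht'
  obtain ⟨g, htg, hg⟩ := ht'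
  have hequiv : g.equiv φ0 := Scheme.PartialMap.toRationalMap_eq_iff.mp hg
  have hres := (Scheme.PartialMap.equiv_iff_of_isSeparated (S := ⊤_ _) (f := g) (g := φ0)).mp hequiv
  simp only [Scheme.PartialMap.restrict_hom] at hres
  refine ⟨N.ι ''ᵁ g.domain, (N.ι.isoImage g.domain).inv ≫ g.hom, ⟨t', htg, rfl⟩, ?_, ?_⟩
  · haveI : Nonempty ((N.ι ''ᵁ g.domain : T.Opens) : Scheme.{u}) := ⟨⟨t, ⟨t', htg, rfl⟩⟩⟩
    haveI : Nonempty (g.domain : Scheme.{u}) := ⟨⟨t', htg⟩⟩
    haveI : IsIntegral (g.domain : Scheme.{u}) := inferInstance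
    exact isIntegral_of_isOpenImmersion (N.ι.isoImage g.domain).inv
  · intro Z a b hab
    obtain ⟨a0, ha0def⟩ : ∃ a0 : Z ⟶ (g.domain : Scheme.{u}),
        a0 = a ≫ (N.ι.isoImage g.domain).inv := ⟨_, rfl⟩
    have ha0 : a0 ≫ g.domain.ι ≫ N.ι = b ≫ Ω.ι := by
      rw [← hab, ha0def]
      simp only [Category.assoc]
      rw [Scheme.Hom.isoImage_inv_ι]
    have hrange : Set.range (a0 ≫ g.domain.ι) ⊆ Set.range (g.domain ⊓ D0).ι := by
      rintro _ ⟨x, rfl⟩
      rw [Scheme.Opens.range_ι]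
      refine ⟨?_, ?_⟩
      · rw [Scheme.Hom.comp_apply]
        exact (a0 x).2
      · show N.ι ((a0 ≫ g.domain.ι) x) ∈ Ω
        rw [← Scheme.Hom.comp_apply, Category.assoc, ha0, Scheme.Hom.comp_apply]
        exact (b x).2
    let a' : Z ⟶ ((g.domain ⊓ D0 : (N : Scheme.{u}).Opens) : Scheme.{u}) :=
      IsOpenImmersion.lift (g.domain ⊓ D0).ι (a0 ≫ g.domain.ι) hrange
    have ha' : a' ≫ (g.domain ⊓ D0).ι = a0 ≫ g.domain.ι := IsOpenImmersion.lift_fac _ _ _
    have h1 : a0 = a' ≫ (N : Scheme.{u}).homOfLE inf_le_left := by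
      rw [← cancel_mono g.domain.ι, Category.assoc, Scheme.homOfLE_ι, ha']
    have h2 : b = a' ≫ (N : Scheme.{u}).homOfLE inf_le_right ≫ N.ι.resLE Ω D0 le_rfl := by
      rw [← cancel_mono Ω.ι]
      simp only [Category.assoc]
      rw [Scheme.Hom.resLE_comp_ι, Scheme.homOfLE_ι_assoc, ← Category.assoc, ha', Category.assoc, ha0]
    show a ≫ (N.ι.isoImage g.domain).inv ≫ g.hom = b ≫ w
    rw [← Category.assoc, ← ha0def, h1, h2]
    simp only [Category.assoc]
    rw [hres]

end Groth.Agent.Lead.Weil
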