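import Mathlib
import Groth.Agent.Lib.Lead.Weil3
import Groth.Agent.Lib.Lead.Weil0
import Groth.Agent.Lib.Lead.SmLoc1

set_option autoImplicit false
set_option backward.isDefEq.respectTransparency.types false
set_option synthInstance.maxHeartbeats 400000
set_option linter.style.haveILetI false
set_option linter.unusedSectionVars false

universe u

open CategoryTheory AlgebraicGeometry Limits TopologicalSpace MonoidalCategory
  CartesianMonoidalCategory MonObj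

namespace Groth.Agent.Lead.Weil

section Main

variable {S X G : Scheme.{u}} (pX : X ⟶ S) (pG : G ⟶ S) [GrpObj (Over.mk pG)]
  (U : X.Opens) (f : (U : Scheme.{u}) ⟶ G) (hf : f ≫ pG = U.ι ≫ pX)

/-- the structure morphism of `X ×_S X` -/
noncomputable abbrev pT : pullback pX pX ⟶ S := pullback.fst pX pX ≫ pX

/-- an open of `X ×_S X` as an object over `S` -/
noncomputable abbrev oT (W : (pullback pX pX).Opens) : Over S := Over.mk (W.ι ≫ pT pX)

/-- the open `U × U` -/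
noncomputable def Ω₀ : (pullback pX pX).Opens :=
  pullback.fst pX pX ⁻¹ᵁ U ⊓ pullback.snd pX pX ⁻¹ᵁ U

/-- first projection `W ⟶ U` -/
noncomputable def P1 (W : (pullback pX pX).Opens) (hW : W ≤ pullback.fst pX pX ⁻¹ᵁ U) :
    oT pX W ⟶ Over.mk (U.ι ≫ pX) :=
  Over.homMk ((pullback.fst pX pX).resLE U W hW) (by
    simp only [Over.mk_hom]
    rw [Scheme.Hom.resLE_comp_ι_assoc])

/-- second projection `W ⟶ U` -/
noncomputable def P2 (W : (pullback pX pX).Opens) (hW : W ≤ pullback.snd pX pX ⁻¹ᵁ U) :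
    oT pX W ⟶ Over.mk (U.ι ≫ pX) :=
  Over.homMk ((pullback.snd pX pX).resLE U W hW) (by
    simp only [Over.mk_hom]
    rw [Scheme.Hom.resLE_comp_ι_assoc, ← pullback.condition])

/-- restriction -/
noncomputable def rT {W W' : (pullback pX pX).Opens} (h : W ≤ W') : oT pX W ⟶ oT pX W' :=
  Over.homMk ((pullback pX pX).homOfLE h) (by simp)

/-- `f` as a morphism over `S` -/
noncomputable def fS : Over.mk (U.ι ≫ pX) ⟶ Over.mk pG := Over.homMk f hf

/-- the difference map `(x₁, x₂) ↦ f x₁ * (f x₂)⁻¹` on `U × U` -/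
noncomputable def vS : oT pX (Ω₀ pX U) ⟶ Over.mk pG :=
  (P1 pX U (Ω₀ pX U) inf_le_left ≫ fS pX pG U f hf) *
    (P2 pX U (Ω₀ pX U) inf_le_right ≫ fS pX pG U f hf)⁻¹

/-- the unit section -/
noncomputable def ε : S ⟶ G := (η[Over.mk pG] : 𝟙_ (Over S) ⟶ Over.mk pG).left

/-- the diagonal -/
noncomputable def Δ : X ⟶ pullback pX pX := pullback.lift (𝟙 X) (𝟙 X) rfl

@[reassoc (attr := simp)]
theorem Δ_fst : Δ pX ≫ pullback.fst pX pX = 𝟙 X := pullback.lift_fst _ _ _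

@[reassoc (attr := simp)]
theorem Δ_snd : Δ pX ≫ pullback.snd pX pX = 𝟙 X := pullback.lift_snd _ _ _

theorem Δ_mem_Ω₀ (y : X) (hy : y ∈ U) : Δ pX y ∈ Ω₀ pX U := by
  refine ⟨?_, ?_⟩
  · show pullback.fst pX pX (Δ pX y) ∈ U
    rw [← Scheme.Hom.comp_apply, Δ_fst]; exact hy
  · show pullback.snd pX pX (Δ pX y) ∈ U
    rw [← Scheme.Hom.comp_apply, Δ_snd]; exact hy

/-- the diagonal restricted to `U` -/
noncomputable def dU₀ : (U : Scheme.{u}) ⟶ (Ω₀ pX U : Scheme.{u}) :=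
  IsOpenImmersion.lift (Ω₀ pX U).ι (U.ι ≫ Δ pX) (by
    rintro _ ⟨y, rfl⟩
    rw [Scheme.Opens.range_ι, Scheme.Hom.comp_apply]
    exact Δ_mem_Ω₀ pX U _ y.2)

@[reassoc]
theorem dU₀_ι : dU₀ pX U ≫ (Ω₀ pX U).ι = U.ι ≫ Δ pX := IsOpenImmersion.lift_fac _ _ _

/-- the diagonal restricted to `U`, over `S` -/
noncomputable def dU : Over.mk (U.ι ≫ pX) ⟶ oT pX (Ω₀ pX U) :=
  Over.homMk (dU₀ pX U) (by
    simp only [Over.mk_hom]
    rw [dU₀_ι_assoc, pT, Δ_fst_assoc])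

theorem dU_P1 : dU pX U ≫ P1 pX U (Ω₀ pX U) inf_le_left = 𝟙 _ := by
  ext1
  simp only [Over.comp_left, Over.id_left, dU, P1, Over.homMk_left, Over.mk_left]
  rw [← cancel_mono U.ι, Category.assoc, Scheme.Hom.resLE_comp_ι, dU₀_ι_assoc, Δ_fst, Category.comp_id,
    Category.id_comp]

theorem dU_P2 : dU pX U ≫ P2 pX U (Ω₀ pX U) inf_le_right = 𝟙 _ := by
  ext1
  simp only [Over.comp_left, Over.id_left, dU, P2, Over.homMk_left, Over.mk_left]
  rw [← cancel_mono U.ι, Category.assoc, Scheme.Hom.resLE_comp_ι, dU₀_ι_assoc, Δ_snd, Category.comp_id,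
    Category.id_comp]

theorem dU_vS : dU pX U ≫ vS pX pG U f hf = 1 := by
  rw [vS, MonObj.comp_mul, GrpObj.comp_inv, ← Category.assoc, ← Category.assoc, dU_P1, dU_P2,
    Category.id_comp, mul_inv_cancel]

theorem vS_diag (y : U) :
    (vS pX pG U f hf).left (dU₀ pX U y) = ε pG (pX y.1) := by
  have h := congrArg (fun φ => φ.left) (dU_vS pX pG U f hf)
  simp only [Over.comp_left, Hom.one_def, Over.toUnit_left] at h
  have h2 := congrArg (fun φ : (U : Scheme.{u}) ⟶ G => φ y) h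
  simp only [Scheme.Hom.comp_apply] at h2
  exact h2

end Main

theorem isDominant_of_isOpenImmersion_of_irreducible {Y X : Scheme.{u}} (j : Y ⟶ X)
    [IsOpenImmersion j] [Nonempty Y] [IrreducibleSpace X] : IsDominant j := by
  refine ⟨?_⟩
  exact j.isOpenEmbedding.isOpen_range.dense (Set.range_nonempty _)

theorem dim_genericPoint (X : Scheme.{u}) [IsIntegral X] :
    ringKrullDim (X.presheaf.stalk (genericPoint X)) = 0 := by
  change ringKrullDim X.functionField = 0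
  exact ringKrullDim_eq_zero_of_field _

section Main2

variable {S X G : Scheme.{u}} (pX : X ⟶ S) (pG : G ⟶ S) [GrpObj (Over.mk pG)]
  (U : X.Opens) (f : (U : Scheme.{u}) ⟶ G) (hf : f ≫ pG = U.ι ≫ pX)

/-- **Step A**: the difference map extends to a neighbourhood of the diagonal point. -/
theorem exists_diff_extension [Smooth pX] [IsSeparated pG] [S.IsSeparated] [IsLocallyNoetherian X]
    (hTreg : ∀ t : ↥(pullback pX pX), IsRegularLocalRing ((pullback pX pX).presheaf.stalk t))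
    (z : X) (hz : ∀ y : X, y ⤳ z → ringKrullDim (X.presheaf.stalk y) ≤ 1 → y ∈ U) :
    ∃ (T'' : (pullback pX pX).Opens) (v'' : oT pX T'' ⟶ Over.mk pG), Δ pX z ∈ T'' ∧
      IsIntegral (T'' : Scheme.{u}) ∧
      ∀ (Z : Scheme.{u}) (a : Z ⟶ (T'' : Scheme.{u})) (b : Z ⟶ (Ω₀ pX U : Scheme.{u})),
        a ≫ T''.ι = b ≫ (Ω₀ pX U).ι → a ≫ v''.left = b ≫ (vS pX pG U f hf).left := by
  classical
  haveI hGsep : G.IsSeparated := ⟨by rw [← terminal.comp_from pG]; infer_instance⟩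
  haveI : IsLocallyNoetherian (pullback pX pX) :=
    LocallyOfFiniteType.isLocallyNoetherian (pullback.fst pX pX)
  haveI := isReduced_of_regular _ hTreg
  obtain ⟨G', hG', hεG'⟩ : ∃ G' : G.Opens, IsAffineOpen G' ∧ ε pG (pX z) ∈ G' := by
    obtain ⟨_, ⟨G', hG', rfl⟩, hεG', -⟩ := G.isBasis_affineOpens.exists_subset_of_mem_open
      (Set.mem_univ (ε pG (pX z))) isOpen_univ
    exact ⟨G', hG', hεG'⟩
  haveI : IsAffine (G' : Scheme.{u}) := hG'
  obtain ⟨v, hv⟩ : ∃ v : (Ω₀ pX U : Scheme.{u}) ⟶ G, v = (vS pX pG U f hf).left := ⟨_, rfl⟩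
  have hvS : v ≫ pG = (Ω₀ pX U).ι ≫ pT pX := by
    rw [hv]; exact Over.w (vS pX pG U f hf)
  obtain ⟨Ω', hΩ'⟩ : ∃ Ω' : (Ω₀ pX U : Scheme.{u}).Opens, Ω' = v ⁻¹ᵁ G' := ⟨_, rfl⟩
  obtain ⟨Ω, hΩdef⟩ : ∃ Ω : (pullback pX pX).Opens, Ω = (Ω₀ pX U).ι ''ᵁ Ω' := ⟨_, rfl⟩
  obtain ⟨w, hw⟩ : ∃ w : (Ω : Scheme.{u}) ⟶ (G' : Scheme.{u}),
      w ≫ G'.ι = (pullback pX pX).homOfLE (by rw [hΩdef]; exact (Ω₀ pX U).ι_image_le Ω') ≫ v := by
    subst hΩdef hΩ'
    refine ⟨((Ω₀ pX U).ι.isoImage (v ⁻¹ᵁ G')).inv ≫ (v ∣_ G'), ?_⟩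
    rw [Category.assoc, morphismRestrict_ι, ← Category.assoc]
    congr 1
    rw [← cancel_mono (Ω₀ pX U).ι, Category.assoc, Scheme.Hom.isoImage_inv_ι, Scheme.homOfLE_ι]
  have hΩle : Ω ≤ Ω₀ pX U := by rw [hΩdef]; exact (Ω₀ pX U).ι_image_le Ω'
  -- hypothesis of Lemma 3
  have hΩ : ∀ ζ : ↥(pullback pX pX), ζ ⤳ Δ pX z →
      ringKrullDim ((pullback pX pX).presheaf.stalk ζ) ≤ 1 → ζ ∈ Ω := by
    intro ζ hζ hdim
    haveI := hTreg (Δ pX z)
    obtain ⟨y, hyz, hydim, hηy⟩ := exists_dimLEOne_of_diag (Δ pX) z ζ hζ hdim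
    have hyU : y ∈ U := hz y hyz hydim
    have hΔy : Δ pX y ∈ Ω := by
      rw [hΩdef]
      refine ⟨dU₀ pX U ⟨y, hyU⟩, ?_, ?_⟩
      · rw [hΩ']
        show v (dU₀ pX U ⟨y, hyU⟩) ∈ G'
        rw [hv, vS_diag]
        have : ε pG (pX y) ⤳ ε pG (pX z) := (hyz.map pX.continuous).map (ε pG).continuous
        exact this.mem_open G'.isOpen hεG'
      · show (dU₀ pX U ≫ (Ω₀ pX U).ι) ⟨y, hyU⟩ = Δ pX y
        rw [dU₀_ι]; rfl
    exact hηy.mem_open Ω.isOpen hΔy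
  obtain ⟨T'', w'', htT'', hint, hagree⟩ := exists_extension_near hTreg Ω w (Δ pX z) hΩ
  haveI := hint
  haveI : Nonempty (T'' : Scheme.{u}) := ⟨⟨Δ pX z, htT''⟩⟩
  -- `T'' ⊓ Ω` is nonempty
  have hne : ∃ x : ↥(pullback pX pX), x ∈ T'' ∧ x ∈ Ω := by
    refine ⟨T''.ι (genericPoint (T'' : Scheme.{u})), (genericPoint (T'' : Scheme.{u})).2, ?_⟩
    apply hΩ
    · have h1 : genericPoint (T'' : Scheme.{u}) ⤳ (⟨Δ pX z, htT''⟩ : (T'' : Scheme.{u})) :=
        genericPoint_specializes _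
      exact h1.map T''.ι.continuous
    · rw [dim_of_isOpenImmersion T''.ι, dim_genericPoint]
      exact zero_le_one
  obtain ⟨x₀, hx₀T, hx₀Ω⟩ := hne
  haveI : Nonempty ((T'' ⊓ Ω : (pullback pX pX).Opens) : Scheme.{u}) := ⟨⟨x₀, hx₀T, hx₀Ω⟩⟩
  -- the extension is a morphism over `S`
  have key : (pullback pX pX).homOfLE (inf_le_left : T'' ⊓ Ω ≤ T'') ≫ w'' ≫ G'.ι =
      (pullback pX pX).homOfLE (inf_le_right.trans hΩle : T'' ⊓ Ω ≤ Ω₀ pX U) ≫ v := by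
    have h1 := hagree _ ((pullback pX pX).homOfLE (inf_le_left : T'' ⊓ Ω ≤ T''))
      ((pullback pX pX).homOfLE (inf_le_right : T'' ⊓ Ω ≤ Ω)) (by simp)
    rw [← Category.assoc, h1, Category.assoc, hw, ← Category.assoc, Scheme.homOfLE_homOfLE]
  have hover : (w'' ≫ G'.ι) ≫ pG = T''.ι ≫ pT pX := by
    haveI := isDominant_of_isOpenImmersion_of_irreducible
      ((pullback pX pX).homOfLE (inf_le_left : T'' ⊓ Ω ≤ T''))
    apply ext_of_isDominant ((pullback pX pX).homOfLE (inf_le_left : T'' ⊓ Ω ≤ T''))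
    rw [← Category.assoc, ← Category.assoc, Category.assoc _ w'', key, Category.assoc, hvS,
      Scheme.homOfLE_ι_assoc, Scheme.homOfLE_ι_assoc]
  refine ⟨T'', Over.homMk (w'' ≫ G'.ι) hover, htT'', hint, ?_⟩
  intro Z a b hab
  simp only [Over.homMk_left]
  rw [← hv]
  -- the universal case
  have huniv : (pullback pX pX).homOfLE (inf_le_left : T'' ⊓ Ω₀ pX U ≤ T'') ≫ w'' ≫ G'.ι =
      (pullback pX pX).homOfLE (inf_le_right : T'' ⊓ Ω₀ pX U ≤ Ω₀ pX U) ≫ v := by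
    haveI : Nonempty ((T'' ⊓ Ω₀ pX U : (pullback pX pX).Opens) : Scheme.{u}) :=
      ⟨⟨x₀, hx₀T, hΩle hx₀Ω⟩⟩
    haveI : IsIntegral ((T'' ⊓ Ω₀ pX U : (pullback pX pX).Opens) : Scheme.{u}) :=
      isIntegral_of_isOpenImmersion
        ((pullback pX pX).homOfLE (inf_le_left : T'' ⊓ Ω₀ pX U ≤ T''))
    have hle : T'' ⊓ Ω ≤ T'' ⊓ Ω₀ pX U := inf_le_inf le_rfl hΩle
    haveI := isDominant_of_isOpenImmersion_of_irreducible ((pullback pX pX).homOfLE hle)
    apply ext_of_isDominant ((pullback pX pX).homOfLE hle)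
    rw [Scheme.homOfLE_homOfLE_assoc, Scheme.homOfLE_homOfLE_assoc]
    exact key
  have hrange : Set.range (a ≫ T''.ι) ⊆ Set.range (T'' ⊓ Ω₀ pX U).ι := by
    rintro _ ⟨x, rfl⟩
    rw [Scheme.Opens.range_ι]
    refine ⟨?_, ?_⟩
    · rw [Scheme.Hom.comp_apply]; exact (a x).2
    · rw [hab, Scheme.Hom.comp_apply]; exact (b x).2
  let c : Z ⟶ ((T'' ⊓ Ω₀ pX U : (pullback pX pX).Opens) : Scheme.{u}) :=
    IsOpenImmersion.lift (T'' ⊓ Ω₀ pX U).ι (a ≫ T''.ι) hrange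
  have hc : c ≫ (T'' ⊓ Ω₀ pX U).ι = a ≫ T''.ι := IsOpenImmersion.lift_fac _ _ _
  have ha : a = c ≫ (pullback pX pX).homOfLE inf_le_left := by
    rw [← cancel_mono T''.ι, Category.assoc, Scheme.homOfLE_ι, hc]
  have hb : b = c ≫ (pullback pX pX).homOfLE inf_le_right := by
    rw [← cancel_mono (Ω₀ pX U).ι, Category.assoc, Scheme.homOfLE_ι, hc, hab]
  rw [ha, hb, Category.assoc, Category.assoc, huniv]

theorem regular_of_smooth_over_regular {P W : Scheme.{u}} (π : P ⟶ W) [Smooth π]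
    [IsLocallyNoetherian W] (hW : ∀ w : W, IsRegularLocalRing (W.presheaf.stalk w)) (x : P) :
    IsRegularLocalRing (P.presheaf.stalk x) := by
  refine (Groth.Agent.Lead.SmLoc.S4991_main π x ⟨⊤, trivial, ?_⟩).2 (hW _)
  infer_instance

include hf in
/-- **Weil's extension theorem**, local form. -/
theorem weil_local [Smooth pX] [IsSeparated pG] [S.IsSeparated] [IsLocallyNoetherian X]
    (hTreg : ∀ t : ↥(pullback pX pX), IsRegularLocalRing ((pullback pX pX).presheaf.stalk t))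
    (hdense : ∀ x : X, x ∈ closure ((U : Set X) ∩ {y | pX y = pX x}))
    (z : X) (hz : ∀ y : X, y ⤳ z → ringKrullDim (X.presheaf.stalk y) ≤ 1 → y ∈ U) :
    ∃ (V : X.Opens) (g : (V : Scheme.{u}) ⟶ G), z ∈ V ∧
      X.homOfLE (inf_le_right : U ⊓ V ≤ V) ≫ g = X.homOfLE (inf_le_left : U ⊓ V ≤ U) ≫ f := by
  classical
  haveI hGsep : G.IsSeparated := ⟨by rw [← terminal.comp_from pG]; infer_instance⟩
  haveI : IsLocallyNoetherian (pullback pX pX) :=
    LocallyOfFiniteType.isLocallyNoetherian (pullback.fst pX pX)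
  obtain ⟨T'', v'', htT'', hint, hagree⟩ := exists_diff_extension pX pG U f hf hTreg z hz
  obtain ⟨W, hWdef⟩ : ∃ W : (pullback pX pX).Opens, W = T'' ⊓ pullback.snd pX pX ⁻¹ᵁ U := ⟨_, rfl⟩
  have hWT : W ≤ T'' := by rw [hWdef]; exact inf_le_left
  have hW2 : W ≤ pullback.snd pX pX ⁻¹ᵁ U := by rw [hWdef]; exact inf_le_right
  obtain ⟨gW, hgW⟩ : ∃ gW : oT pX W ⟶ Over.mk pG,
      gW = (rT pX hWT ≫ v'') * (P2 pX U W hW2 ≫ fS pX pG U f hf) := ⟨_, rfl⟩
  obtain ⟨q, hq⟩ : ∃ q : (W : Scheme.{u}) ⟶ X, q = W.ι ≫ pullback.fst pX pX := ⟨_, rfl⟩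
  haveI : Smooth q := by rw [hq]; infer_instance
  have hqx : ∀ w : (W : Scheme.{u}), q w = pullback.fst pX pX (W.ι w) := fun w => by
    rw [hq]; rfl
  -- the key compatibility
  have hg : (q ⁻¹ᵁ U).ι ≫ gW.left = q.resLE U (q ⁻¹ᵁ U) le_rfl ≫ f := by
    have hrange : Set.range ((q ⁻¹ᵁ U).ι ≫ W.ι) ⊆ Set.range (Ω₀ pX U).ι := by
      rintro _ ⟨x, rfl⟩
      rw [Scheme.Opens.range_ι, Scheme.Hom.comp_apply]
      refine ⟨?_, ?_⟩
      · show pullback.fst pX pX (W.ι ((q ⁻¹ᵁ U).ι x)) ∈ U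
        have : q ((q ⁻¹ᵁ U).ι x) ∈ U := x.2
        rw [hqx] at this
        exact this
      · exact hW2 ((q ⁻¹ᵁ U).ι x).2
    obtain ⟨b₀, hb₀⟩ : ∃ b₀ : ((q ⁻¹ᵁ U : (W : Scheme.{u}).Opens) : Scheme.{u}) ⟶
        (Ω₀ pX U : Scheme.{u}), b₀ ≫ (Ω₀ pX U).ι = (q ⁻¹ᵁ U).ι ≫ W.ι :=
      ⟨IsOpenImmersion.lift (Ω₀ pX U).ι ((q ⁻¹ᵁ U).ι ≫ W.ι) hrange, IsOpenImmersion.lift_fac _ _ _⟩
    let oZ : Over S := Over.mk ((q ⁻¹ᵁ U).ι ≫ W.ι ≫ pT pX)
    let j : oZ ⟶ oT pX W := Over.homMk (q ⁻¹ᵁ U).ι rfl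
    let b : oZ ⟶ oT pX (Ω₀ pX U) := Over.homMk b₀ (by
      show b₀ ≫ (Ω₀ pX U).ι ≫ pT pX = (q ⁻¹ᵁ U).ι ≫ W.ι ≫ pT pX
      rw [← Category.assoc b₀, hb₀, Category.assoc])
    have h1 : j ≫ rT pX hWT ≫ v'' = b ≫ vS pX pG U f hf := by
      ext1
      simp only [Over.comp_left, Over.homMk_left, j, b, rT]
      rw [← Category.assoc]
      apply hagree
      rw [Category.assoc, Scheme.homOfLE_ι, hb₀]
    have h2 : j ≫ P2 pX U W hW2 = b ≫ P2 pX U (Ω₀ pX U) inf_le_right := by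
      ext1
      simp only [Over.comp_left, Over.homMk_left, j, b, P2, Over.mk_left]
      rw [← cancel_mono U.ι, Category.assoc, Category.assoc, Scheme.Hom.resLE_comp_ι,
        Scheme.Hom.resLE_comp_ι, ← Category.assoc, ← Category.assoc, hb₀]
    have h3 : j ≫ gW = b ≫ P1 pX U (Ω₀ pX U) inf_le_left ≫ fS pX pG U f hf := by
      rw [hgW, MonObj.comp_mul, h1, ← Category.assoc j, h2, vS, MonObj.comp_mul, GrpObj.comp_inv,
        Category.assoc, inv_mul_cancel_right]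
    have h4 := congrArg (fun φ => φ.left) h3
    simp only [Over.comp_left, Over.homMk_left, j, b, P1, fS, Over.mk_left] at h4
    rw [h4, ← Category.assoc]
    congr 1
    rw [← cancel_mono U.ι, Category.assoc, Scheme.Hom.resLE_comp_ι, Scheme.Hom.resLE_comp_ι,
      ← Category.assoc, hb₀, Category.assoc]
    congr 1
    exact hq.symm
  -- `z` is in the image of `q`
  have hzq : z ∈ Set.range q := by
    obtain ⟨t₀, ht₀T, ht₀1, ht₀2⟩ := exists_mem_fibre pX U hdense T'' (Δ pX z) htT''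
    have ht₀W : t₀ ∈ W := by rw [hWdef]; exact ⟨ht₀T, ht₀2⟩
    refine ⟨⟨t₀, ht₀W⟩, ?_⟩
    rw [hqx]
    show pullback.fst pX pX t₀ = z
    rw [ht₀1, ← Scheme.Hom.comp_apply, Δ_fst]; rfl
  -- reducedness of `W ×_X W`
  haveI : IsLocallyNoetherian (W : Scheme.{u}) := inferInstance
  haveI : IsReduced (pullback q q) := by
    apply isReduced_of_regular
    intro x
    exact regular_of_smooth_over_regular (pullback.fst q q)
      (fun w => regular_of_isOpenImmersion W.ι hTreg w) x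
  have hUdense : Dense (U : Set X) := by
    intro x
    exact closure_mono Set.inter_subset_left (hdense x)
  exact exists_descent U hUdense f q gW.left hg z hzq

end Main2

end Groth.Agent.Lead.Weil
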