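import Mathlib
import Groth.Agent.Lib.Lead.Weil4

set_option autoImplicit false
set_option backward.isDefEq.respectTransparency.types false
set_option synthInstance.maxHeartbeats 400000
set_option linter.style.haveILetI false
set_option linter.unusedSectionVars false

universe u

open CategoryTheory AlgebraicGeometry Limits TopologicalSpace MonoidalCategory
  CartesianMonoidalCategory MonObj

namespace Groth.Agent.Lead.Weil

/-- generalized-element form of agreement on `U ⊓ V` -/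
theorem agree_gen {X G : Scheme.{u}} {U V : X.Opens} {f : (U : Scheme.{u}) ⟶ G}
    {g : (V : Scheme.{u}) ⟶ G}
    (h : X.homOfLE (inf_le_right : U ⊓ V ≤ V) ≫ g = X.homOfLE (inf_le_left : U ⊓ V ≤ U) ≫ f)
    {Z : Scheme.{u}} (a : Z ⟶ (V : Scheme.{u})) (c : Z ⟶ (U : Scheme.{u}))
    (hac : a ≫ V.ι = c ≫ U.ι) : a ≫ g = c ≫ f := by
  have hrange : Set.range (a ≫ V.ι) ⊆ Set.range (U ⊓ V).ι := by
    rintro _ ⟨x, rfl⟩
    rw [Scheme.Opens.range_ι]
    refine ⟨?_, ?_⟩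
    · rw [hac, Scheme.Hom.comp_apply]; exact (c x).2
    · rw [Scheme.Hom.comp_apply]; exact (a x).2
  let e : Z ⟶ ((U ⊓ V : X.Opens) : Scheme.{u}) := IsOpenImmersion.lift (U ⊓ V).ι (a ≫ V.ι) hrange
  have he : e ≫ (U ⊓ V).ι = a ≫ V.ι := IsOpenImmersion.lift_fac _ _ _
  have ha : a = e ≫ X.homOfLE inf_le_right := by
    rw [← cancel_mono V.ι, Category.assoc, Scheme.homOfLE_ι, he]
  have hc : c = e ≫ X.homOfLE inf_le_left := by
    rw [← cancel_mono U.ι, Category.assoc, Scheme.homOfLE_ι, he, hac]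
  rw [ha, hc, Category.assoc, Category.assoc, h]

section Global

variable {S X G : Scheme.{u}} (pX : X ⟶ S) (pG : G ⟶ S) [GrpObj (Over.mk pG)]
  (U : X.Opens) (f : (U : Scheme.{u}) ⟶ G) (hf : f ≫ pG = U.ι ≫ pX)

include hf in
/-- **Weil's extension theorem**, global form. -/
theorem weil_global [Smooth pX] [IsSeparated pG] [S.IsSeparated] [IsLocallyNoetherian X]
    (hXreg : ∀ x : X, IsRegularLocalRing (X.presheaf.stalk x))
    (hTreg : ∀ t : ↥(pullback pX pX), IsRegularLocalRing ((pullback pX pX).presheaf.stalk t))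
    (hdense : ∀ x : X, x ∈ closure ((U : Set X) ∩ {y | pX y = pX x}))
    (hcodim : ∀ x : X, x ∉ U → (2 : WithBot ℕ∞) ≤ ringKrullDim (X.presheaf.stalk x)) :
    ∃! g : X ⟶ G, g ≫ pG = pX ∧ U.ι ≫ g = f := by
  classical
  haveI hGsep : G.IsSeparated := ⟨by rw [← terminal.comp_from pG]; infer_instance⟩
  haveI := isReduced_of_regular X hXreg
  have hUdense : Dense (U : Set X) := fun x => closure_mono Set.inter_subset_left (hdense x)
  haveI : IsDominant U.ι := ⟨by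
    rw [DenseRange, Scheme.Opens.range_ι]; exact hUdense⟩
  have hloc : ∀ z : X, ∃ (V : X.Opens) (g : (V : Scheme.{u}) ⟶ G), z ∈ V ∧
      X.homOfLE (inf_le_right : U ⊓ V ≤ V) ≫ g = X.homOfLE (inf_le_left : U ⊓ V ≤ U) ≫ f := by
    intro z
    apply weil_local pX pG U f hf hTreg hdense z
    intro y _ hy
    by_contra hyU
    have h2 := hcodim y hyU
    have := h2.trans hy
    exact absurd this (by norm_num)
  choose V g hzV hg using hloc
  let 𝒰 : X.OpenCover := {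
    I₀ := X, X i := (V i), f i := (V i).ι,
    mem₀ := by
      rw [Scheme.presieve₀_mem_precoverage_iff]
      refine ⟨fun x ↦ ⟨x, by simpa using hzV x⟩, inferInstance⟩ }
  have hcompat : ∀ x y : X, pullback.fst (𝒰.f x) (𝒰.f y) ≫ g x = pullback.snd _ _ ≫ g y := by
    intro x y
    show pullback.fst (V x).ι (V y).ι ≫ g x = pullback.snd (V x).ι (V y).ι ≫ g y
    haveI : IsReduced (pullback (V x).ι (V y).ι) :=
      isReduced_of_isOpenImmersion (pullback.fst (V x).ι (V y).ι ≫ (V x).ι)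
    obtain ⟨PU, hPU⟩ : ∃ PU : (pullback (V x).ι (V y).ι).Opens,
        PU = (pullback.fst (V x).ι (V y).ι ≫ (V x).ι) ⁻¹ᵁ U := ⟨_, rfl⟩
    haveI : IsDominant PU.ι := ⟨by
      rw [DenseRange, Scheme.Opens.range_ι, hPU]
      exact hUdense.preimage (pullback.fst (V x).ι (V y).ι ≫ (V x).ι).isOpenEmbedding.isOpenMap⟩
    apply ext_of_isDominant PU.ι
    have hr : Set.range (PU.ι ≫ pullback.fst (V x).ι (V y).ι ≫ (V x).ι) ⊆ Set.range U.ι := by
      rintro _ ⟨p, rfl⟩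
      rw [Scheme.Opens.range_ι]
      have hp : PU.ι p ∈ PU := p.2
      have hle : PU ≤ (pullback.fst (V x).ι (V y).ι ≫ (V x).ι) ⁻¹ᵁ U := hPU.le
      exact hle hp
    let c : (PU : Scheme.{u}) ⟶ (U : Scheme.{u}) := IsOpenImmersion.lift U.ι _ hr
    have hc : c ≫ U.ι = PU.ι ≫ pullback.fst (V x).ι (V y).ι ≫ (V x).ι :=
      IsOpenImmersion.lift_fac _ _ _
    have h1 : (PU.ι ≫ pullback.fst (V x).ι (V y).ι) ≫ g x = c ≫ f :=
      agree_gen (hg x) _ c (by rw [Category.assoc, hc])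
    have h2 : (PU.ι ≫ pullback.snd (V x).ι (V y).ι) ≫ g y = c ≫ f :=
      agree_gen (hg y) _ c (by rw [Category.assoc, hc, pullback.condition])
    rw [← Category.assoc, h1, ← Category.assoc, h2]
  let gg : X ⟶ G := 𝒰.glueMorphisms g hcompat
  have hgg : ∀ z : X, (V z).ι ≫ gg = g z := fun z => 𝒰.ι_glueMorphisms g hcompat z
  have hUgg : U.ι ≫ gg = f := by
    apply Scheme.hom_ext_of_forall
    intro u
    refine ⟨U.ι ⁻¹ᵁ V u.1, hzV u.1, ?_⟩
    have hr : Set.range ((U.ι ⁻¹ᵁ V u.1).ι ≫ U.ι) ⊆ Set.range (V u.1).ι := by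
      rintro _ ⟨p, rfl⟩
      rw [Scheme.Opens.range_ι]
      exact p.2
    let a : ((U.ι ⁻¹ᵁ V u.1 : (U : Scheme.{u}).Opens) : Scheme.{u}) ⟶ (V u.1 : Scheme.{u}) :=
      IsOpenImmersion.lift (V u.1).ι _ hr
    have ha : a ≫ (V u.1).ι = (U.ι ⁻¹ᵁ V u.1).ι ≫ U.ι := IsOpenImmersion.lift_fac _ _ _
    have h1 : a ≫ g u.1 = (U.ι ⁻¹ᵁ V u.1).ι ≫ f := agree_gen (hg u.1) a _ ha
    rw [← h1, ← hgg u.1, ← Category.assoc a, ha, Category.assoc]
  refine ⟨gg, ⟨?_, hUgg⟩, ?_⟩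
  · apply ext_of_isDominant U.ι
    rw [← Category.assoc, hUgg, hf]
  · rintro g' ⟨-, hg'⟩
    apply ext_of_isDominant U.ι
    rw [hg', hUgg]

end Global

end Groth.Agent.Lead.Weil
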