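import Mathlib
import Groth.Agent.Lib.Lead.NerStalk1
import Groth.Agent.Lib.Helper7.StalkLim.Glue
import Groth.Agent.Lib.Helper7.LimBC
import Groth.Agent.S0591
import Groth.Agent.S9191
import Groth.Agent.Lib.Lead.NeronLoc1

/-!
# S13750: spreading out a smooth scheme over the local scheme (lead)
-/

set_option autoImplicit false
set_option backward.isDefEq.respectTransparency.types false
set_option backward.isDefEq.respectTransparency false
set_option synthInstance.maxHeartbeats 400000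
set_option maxHeartbeats 1000000
set_option linter.style.haveILetI false
set_option linter.unusedSectionVars false

universe u
open CategoryTheory CategoryTheory.Limits AlgebraicGeometry TopologicalSpace

namespace Groth.Agent.Lead.NerStalk

open Groth.Agent.Helper7.StalkLim Groth.Agent.Helper7.LimBC

section Square

variable {S : Scheme.{u}} {U : S.Opens} {N : Over S}

theorem CS_of_square {P Q₀ : Scheme.{u}} {p : P ⟶ S} {a₀ : Q₀ ⟶ P} {b₀ : Q₀ ⟶ (U : Scheme.{u})}
    (h₀ : IsPullback a₀ b₀ p U.ι)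
    (h : ∀ ψ : Q₀ ⟶ N.left, ψ ≫ N.hom = a₀ ≫ p →
      ∃ φ : P ⟶ N.left, φ ≫ N.hom = p ∧ a₀ ≫ φ = ψ) : CS U N p := by
  intro Q a b hQ ψ hψ
  let e := hQ.isoIsPullback _ _ h₀
  have he : e.hom ≫ a₀ = a := hQ.isoIsPullback_hom_fst _ _ h₀
  obtain ⟨φ, h1, h2⟩ := h (e.inv ≫ ψ) (by
    rw [Category.assoc, hψ, ← he, Category.assoc, Iso.inv_hom_id_assoc])
  exact ⟨φ, h1, by rw [← he, Category.assoc, h2, Iso.hom_inv_id_assoc]⟩

theorem CI_of_square {P Q₀ : Scheme.{u}} {p : P ⟶ S} {a₀ : Q₀ ⟶ P} {b₀ : Q₀ ⟶ (U : Scheme.{u})}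
    (h₀ : IsPullback a₀ b₀ p U.ι)
    (h : ∀ φ₁ φ₂ : P ⟶ N.left, φ₁ ≫ N.hom = p → φ₂ ≫ N.hom = p → a₀ ≫ φ₁ = a₀ ≫ φ₂ →
      φ₁ = φ₂) : CI U N p := by
  intro Q a b hQ φ₁ φ₂ h1 h2 h12
  let e := hQ.isoIsPullback _ _ h₀
  have he : e.inv ≫ a = a₀ := hQ.isoIsPullback_inv_fst _ _ h₀
  refine h φ₁ φ₂ h1 h2 ?_
  rw [← he, Category.assoc, h12, Category.assoc]

end Square

variable {S : Scheme.{u}} (s : S)

/-- a quasi-compact quasi-separated smooth scheme over the local scheme comes from a smooth scheme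
over an affine open neighbourhood -/
theorem exists_model {P : Scheme.{u}} (y' : P ⟶ (nbCone S s).pt) [Smooth y']
    [CompactSpace P] [QuasiSeparatedSpace P] :
    ∃ (W : Nb S s) (Y : Scheme.{u}) (y : Y ⟶ (nbDiag S s).obj W) (g : P ⟶ Y),
      Smooth y ∧ QuasiCompact y ∧ QuasiSeparated y ∧
      IsPullback g y' y ((nbCone S s).π.app W) := by
  obtain ⟨hc⟩ := isLimit_nbCone S s
  haveI : ∀ (i j : Nb S s) (f : i ⟶ j), IsAffineHom ((nbDiag S s).map f) :=
    fun i j f => inferInstance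
  haveI : ∀ i : Nb S s, CompactSpace ((nbDiag S s).obj i) := fun i => inferInstance
  haveI : ∀ i : Nb S s, QuasiSeparatedSpace ((nbDiag S s).obj i) := fun i => inferInstance
  haveI : QuasiCompact y' := (quasiCompact_iff_compactSpace y').2 inferInstance
  haveI : QuasiSeparated y' := (quasiSeparated_iff_quasiSeparatedSpace y').2 inferInstance
  obtain ⟨i, Xi, fi, g, h1, h2, h3, hP⟩ :=
    Groth.Agent.S0591.result (nbDiag S s) (nbCone S s) hc P y'
  haveI := h1
  haveI := h2
  haveI := h3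
  haveI : CompactSpace Xi := (quasiCompact_iff_compactSpace fi).1 inferInstance
  haveI : QuasiSeparatedSpace Xi := (quasiSeparated_iff_quasiSeparatedSpace fi).1 inferInstance
  have hY : IsPullback ((nbCone S s).π.app i) (𝟙 (nbCone S s).pt) (𝟙 ((nbDiag S s).obj i))
      ((nbCone S s).π.app i) := by
    haveI : IsIso (𝟙 (nbCone S s).pt) := IsIso.id _
    haveI : IsIso (𝟙 ((nbDiag S s).obj i)) := IsIso.id _
    exact IsPullback.of_vert_isIso ⟨by simp⟩
  obtain ⟨i', φ, Xi', Yi', fi', gi, pY, pX, hp1, hp2, hsm⟩ :=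
    Groth.Agent.S9191.result (nbDiag S s) (nbCone S s) hc i fi (𝟙 ((nbDiag S s).obj i))
      y' (𝟙 _) ((nbCone S s).π.app i) g hY hP
  haveI := hsm
  haveI : IsIso gi := hp1.isIso_snd_of_isIso
  have hbig : IsPullback pX (fi' ≫ gi) fi ((nbDiag S s).map φ) := by
    have := hp2.paste_vert hp1
    rwa [Category.comp_id] at this
  have hcond : g ≫ fi = (y' ≫ (nbCone S s).π.app i') ≫ (nbDiag S s).map φ := by
    rw [Category.assoc, (nbCone S s).w φ, hP.w]
  refine ⟨i', Xi', fi' ≫ gi, hbig.lift g (y' ≫ (nbCone S s).π.app i') hcond, inferInstance,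
    ?_, ?_, ?_⟩
  · exact MorphismProperty.of_isPullback (P := @QuasiCompact) hbig inferInstance
  · exact MorphismProperty.of_isPullback (P := @QuasiSeparated) hbig inferInstance
  · refine IsPullback.of_right (h₁₂ := pX) (h₂₂ := (nbDiag S s).map φ) (v₁₃ := fi) ?_
      (hbig.lift_snd _ _ _) hbig
    rw [hbig.lift_fst, (nbCone S s).w φ]
    exact hP

section Limit

variable {s}
variable (W : Nb S s) {Y P : Scheme.{u}} (y : Y ⟶ (nbDiag S s).obj W)

/-- the structure morphism of the model -/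
noncomputable abbrev pY : Y ⟶ S := y ≫ W.1.ι

/-- the stages of the model -/
noncomputable abbrev Yk (k : Over W) : Scheme.{u} := pullback y ((nbDiag S s).map k.hom)

/-- the structure morphisms of the stages -/
noncomputable abbrev pk (k : Over W) : Yk W y k ⟶ S :=
  pullback.fst y ((nbDiag S s).map k.hom) ≫ pY W y

instance isOpenImmersion_nbDiag_map {A B : Nb S s} (f : A ⟶ B) :
    IsOpenImmersion ((nbDiag S s).map f) :=
  inferInstanceAs (IsOpenImmersion (S.homOfLE (Subtype.coe_le_coe.mpr (leOfHom f))))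

theorem nbDiag_map_ι (k : Over W) : (nbDiag S s).map k.hom ≫ W.1.ι = k.left.1.ι :=
  S.homOfLE_ι (Subtype.coe_le_coe.mpr (leOfHom k.hom))

theorem pk_eq (k : Over W) :
    pk W y k = pullback.snd y ((nbDiag S s).map k.hom) ≫ k.left.1.ι := by
  change pullback.fst y ((nbDiag S s).map k.hom) ≫ (y ≫ W.1.ι) = _
  rw [← Category.assoc, pullback.condition, Category.assoc, nbDiag_map_ι]

instance smooth_pk [Smooth y] (k : Over W) : Smooth (pk W y k) := by
  rw [pk_eq]
  have h1 : Smooth (pullback.snd y ((nbDiag S s).map k.hom)) :=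
    MorphismProperty.pullback_snd _ _ inferInstance
  have h2 : Smooth k.left.1.ι := inferInstance
  exact MorphismProperty.comp_mem _ _ _ h1 h2

variable (U : S.Opens)

/-- the part of the model over `U` -/
noncomputable abbrev OY : Y.Opens := pY W y ⁻¹ᵁ U

/-- its structure morphism to the neighbourhood -/
noncomputable abbrev aO : (OY W y U : Scheme.{u}) ⟶ (nbDiag S s).obj W := (OY W y U).ι ≫ y

/-- the stages of the part over `U` -/
noncomputable abbrev Ak (k : Over W) : Scheme.{u} :=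
  pullback (aO W y U) ((nbDiag S s).map k.hom)

/-- the comparison of stages -/
noncomputable def ak (k : Over W) :
    (bcDiagram (nbDiag S s) W (aO W y U)).obj k ⟶ (bcDiagram (nbDiag S s) W y).obj k :=
  pullback.map (aO W y U) ((nbDiag S s).map k.hom) y ((nbDiag S s).map k.hom)
    (OY W y U).ι (𝟙 _) (𝟙 _) (by rw [Category.comp_id])
    (by rw [Category.comp_id, Category.id_comp])

theorem ak_fst (k : Over W) :
    ak W y U k ≫ pullback.fst y ((nbDiag S s).map k.hom) =
      pullback.fst (aO W y U) ((nbDiag S s).map k.hom) ≫ (OY W y U).ι :=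
  pullback.lift_fst _ _ _

theorem ak_snd (k : Over W) :
    ak W y U k ≫ pullback.snd y ((nbDiag S s).map k.hom) =
      pullback.snd (aO W y U) ((nbDiag S s).map k.hom) := by
  unfold ak pullback.map
  rw [pullback.lift_snd, Category.comp_id]

theorem isPullback_ak (k : Over W) :
    IsPullback (ak W y U k)
      (pullback.fst (aO W y U) ((nbDiag S s).map k.hom) ≫ (pY W y ∣_ U)) (pk W y k) U.ι := by
  have h1 : IsPullback (ak W y U k) (pullback.fst (aO W y U) ((nbDiag S s).map k.hom))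
      (pullback.fst y ((nbDiag S s).map k.hom)) (OY W y U).ι := by
    have hbig : IsPullback (pullback.snd (aO W y U) ((nbDiag S s).map k.hom))
        (pullback.fst (aO W y U) ((nbDiag S s).map k.hom)) ((nbDiag S s).map k.hom)
        ((OY W y U).ι ≫ y) := (IsPullback.of_hasPullback _ _).flip
    have hright : IsPullback (pullback.snd y ((nbDiag S s).map k.hom))
        (pullback.fst y ((nbDiag S s).map k.hom)) ((nbDiag S s).map k.hom) y :=
      (IsPullback.of_hasPullback _ _).flip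
    have h3 := ak_snd W y U k
    exact IsPullback.of_right (h3 ▸ hbig) (ak_fst W y U k) hright
  have h2 : IsPullback (OY W y U).ι (pY W y ∣_ U) (pY W y) U.ι :=
    (isPullback_morphismRestrict (pY W y) U).flip
  exact h1.paste_vert h2

theorem ak_natural {k' k : Over W} (f : k' ⟶ k) :
    (bcDiagram (nbDiag S s) W (aO W y U)).map f ≫ ak W y U k =
      ak W y U k' ≫ (bcDiagram (nbDiag S s) W y).map f := by
  apply pullback.hom_ext
  · rw [Category.assoc, ak_fst, bcDiagram_map_fst_assoc, Category.assoc, bcDiagram_map_fst, ak_fst]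
  · rw [Category.assoc, ak_snd, bcDiagram_map_snd, Category.assoc, bcDiagram_map_snd,
      ← Category.assoc, ak_snd]

variable (g : P ⟶ Y) (y' : P ⟶ (nbCone S s).pt)

/-- the part of `P` over `U` -/
noncomputable abbrev QP : P.Opens := g ⁻¹ᵁ OY W y U

variable {g y'} (hP : IsPullback g y' y ((nbCone S s).π.app W))

include hP in
theorem isPullback_QP : IsPullback (g ∣_ OY W y U) ((QP W y U g).ι ≫ y') (aO W y U)
    ((nbCone S s).π.app W) :=
  Groth.Agent.Lead.NeronLoc.isPullback_restrict hP (OY W y U)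

theorem isPullback_QP_U (g : P ⟶ Y) : IsPullback (QP W y U g).ι ((g ∣_ OY W y U) ≫ (pY W y ∣_ U))
    (g ≫ pY W y) U.ι := by
  have h1 : IsPullback (QP W y U g).ι (g ∣_ OY W y U) g (OY W y U).ι :=
    (isPullback_morphismRestrict g (OY W y U)).flip
  have h2 : IsPullback (OY W y U).ι (pY W y ∣_ U) (pY W y) U.ι :=
    (isPullback_morphismRestrict (pY W y) U).flip
  exact h1.paste_vert h2

theorem cone_compat (k : Over W) :
    (bcCone (isPullback_QP W y U hP)).π.app k ≫ ak W y U k =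
      (QP W y U g).ι ≫ (bcCone hP).π.app k := by
  apply pullback.hom_ext
  · rw [Category.assoc, ak_fst, bcCone_π_fst_assoc, Category.assoc, bcCone_π_fst,
      morphismRestrict_ι]
  · rw [Category.assoc, ak_snd, bcCone_π_snd, Category.assoc, Category.assoc, bcCone_π_snd]

end Limit

section LimitMain

variable {s}
variable (W : Nb S s) {Y P : Scheme.{u}} (y : Y ⟶ (nbDiag S s).obj W) (U : S.Opens)

/-- structure morphisms of the stages of the part over `U` -/
noncomputable def tA :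
    bcDiagram (nbDiag S s) W (aO W y U) ⟶ (Functor.const (Over W)).obj S where
  app k := pullback.fst (aO W y U) ((nbDiag S s).map k.hom) ≫ ((OY W y U).ι ≫ pY W y)
  naturality k k' f := by
    rw [← Category.assoc, bcDiagram_map_fst]
    exact (Category.comp_id _).symm

/-- structure morphisms of the stages of the model -/
noncomputable def tY :
    bcDiagram (nbDiag S s) W y ⟶ (Functor.const (Over W)).obj S where
  app k := pk W y k
  naturality k k' f := by
    change (bcDiagram (nbDiag S s) W y).map f ≫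
      (pullback.fst y ((nbDiag S s).map k'.hom) ≫ pY W y) = _
    rw [← Category.assoc, bcDiagram_map_fst]
    exact (Category.comp_id _).symm

theorem ak_pk (k : Over W) : ak W y U k ≫ pk W y k = (tA W y U).app k := by
  change ak W y U k ≫ (pullback.fst y ((nbDiag S s).map k.hom) ≫ pY W y) =
    pullback.fst (aO W y U) ((nbDiag S s).map k.hom) ≫ ((OY W y U).ι ≫ pY W y)
  rw [← Category.assoc, ak_fst, Category.assoc]

variable {U} {N : Over S} [LocallyOfFinitePresentation N.hom]
  {g : P ⟶ Y} {y' : P ⟶ (nbCone S s).pt} (hP : IsPullback g y' y ((nbCone S s).π.app W))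
  [CompactSpace Y] [QuasiSeparatedSpace Y] [CompactSpace (OY W y U)]
  [QuasiSeparatedSpace (OY W y U)]

include hP in
theorem CS_limit_aux (hk : ∀ k : Over W, CS U N (pk W y k))
    (ψ : ((QP W y U g : P.Opens) : Scheme.{u}) ⟶ N.left)
    (hψ : ψ ≫ N.hom = (QP W y U g).ι ≫ g ≫ pY W y) :
    ∃ φ : P ⟶ N.left, φ ≫ N.hom = g ≫ pY W y ∧ (QP W y U g).ι ≫ φ = ψ := by
  obtain ⟨hc⟩ := isLimit_nbCone S s
  have hQ := isPullback_QP W y U hP
  have ha : (bcCone hQ).π ≫ tA W y U = (Functor.const _).map (ψ ≫ N.hom) := by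
    ext k
    change (bcCone hQ).π.app k ≫
      (pullback.fst (aO W y U) ((nbDiag S s).map k.hom) ≫ ((OY W y U).ι ≫ pY W y)) = ψ ≫ N.hom
    rw [← Category.assoc, bcCone_π_fst, hψ, ← Category.assoc, morphismRestrict_ι, Category.assoc]
  obtain ⟨k, ψk, hψk1, hψk2⟩ := Scheme.exists_π_app_comp_eq_of_locallyOfFinitePresentation
    (bcDiagram (nbDiag S s) W (aO W y U)) (tA W y U) N.hom (bcCone hQ) (isLimitBcCone hc hQ) ψ ha
  obtain ⟨φk, hφk1, hφk2⟩ := hk k (ak W y U k) _ (isPullback_ak W y U k) ψk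
    (by rw [hψk2, ak_pk])
  refine ⟨(bcCone hP).π.app k ≫ φk, ?_, ?_⟩
  · rw [Category.assoc, hφk1]
    change (bcCone hP).π.app k ≫ (pullback.fst y ((nbDiag S s).map k.hom) ≫ pY W y) = _
    rw [← Category.assoc, bcCone_π_fst]
  · rw [← Category.assoc, ← cone_compat W y U hP k, Category.assoc, hφk2, hψk1]

include hP in
theorem CI_limit_aux (hk : ∀ k : Over W, CI U N (pk W y k))
    (φ₁ φ₂ : P ⟶ N.left) (h1 : φ₁ ≫ N.hom = g ≫ pY W y) (h2 : φ₂ ≫ N.hom = g ≫ pY W y)
    (h12 : (QP W y U g).ι ≫ φ₁ = (QP W y U g).ι ≫ φ₂) : φ₁ = φ₂ := by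
  obtain ⟨hc⟩ := isLimit_nbCone S s
  have hQ := isPullback_QP W y U hP
  have hπ : ∀ k : Over W, (bcCone hP).π.app k ≫ pk W y k = g ≫ pY W y := by
    intro k
    change (bcCone hP).π.app k ≫ (pullback.fst y ((nbDiag S s).map k.hom) ≫ pY W y) = _
    rw [← Category.assoc, bcCone_π_fst]
  have ha : ∀ φ : P ⟶ N.left, φ ≫ N.hom = g ≫ pY W y →
      (bcCone hP).π ≫ tY W y = (Functor.const _).map (φ ≫ N.hom) := by
    intro φ hφ
    ext k
    change (bcCone hP).π.app k ≫ pk W y k = φ ≫ N.hom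
    rw [hπ, hφ]
  obtain ⟨k₁, φ₁', hφ₁1, hφ₁2⟩ := Scheme.exists_π_app_comp_eq_of_locallyOfFinitePresentation
    (bcDiagram (nbDiag S s) W y) (tY W y) N.hom (bcCone hP) (isLimitBcCone hc hP) φ₁ (ha φ₁ h1)
  obtain ⟨k₂, φ₂', hφ₂1, hφ₂2⟩ := Scheme.exists_π_app_comp_eq_of_locallyOfFinitePresentation
    (bcDiagram (nbDiag S s) W y) (tY W y) N.hom (bcCone hP) (isLimitBcCone hc hP) φ₂ (ha φ₂ h2)
  have hφ₁2' : φ₁' ≫ N.hom = pk W y k₁ := hφ₁2
  have hφ₂2' : φ₂' ≫ N.hom = pk W y k₂ := hφ₂2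
  have hab : (bcCone hQ).π.app k₁ ≫ (ak W y U k₁ ≫ φ₁') =
      (bcCone hQ).π.app k₂ ≫ (ak W y U k₂ ≫ φ₂') := by
    rw [← Category.assoc, cone_compat W y U hP k₁, ← Category.assoc, cone_compat W y U hP k₂,
      Category.assoc, Category.assoc, hφ₁1, hφ₂1, h12]
  obtain ⟨k, f1, f2, hk12⟩ := Scheme.exists_hom_hom_comp_eq_comp_of_locallyOfFiniteType
    (bcDiagram (nbDiag S s) W (aO W y U)) (tA W y U) N.hom (bcCone hQ) (isLimitBcCone hc hQ)
    (ak W y U k₁ ≫ φ₁') (by rw [Category.assoc, hφ₁2', ak_pk])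
    (ak W y U k₂ ≫ φ₂') (by rw [Category.assoc, hφ₂2', ak_pk]) hab
  have hnat : ∀ {k' k'' : Over W} (f : k' ⟶ k''),
      (bcDiagram (nbDiag S s) W y).map f ≫ pk W y k'' = pk W y k' := by
    intro k' k'' f
    change (bcDiagram (nbDiag S s) W y).map f ≫
      (pullback.fst y ((nbDiag S s).map k''.hom) ≫ pY W y) = _
    rw [← Category.assoc, bcDiagram_map_fst]
  have hstage : (bcDiagram (nbDiag S s) W y).map f1 ≫ φ₁' =
      (bcDiagram (nbDiag S s) W y).map f2 ≫ φ₂' := by
    refine hk k (ak W y U k) _ (isPullback_ak W y U k) _ _ ?_ ?_ ?_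
    · rw [Category.assoc, hφ₁2', hnat]
    · rw [Category.assoc, hφ₂2', hnat]
    · rw [← Category.assoc, ← ak_natural, ← Category.assoc, ← ak_natural, Category.assoc,
        Category.assoc]
      exact hk12
  rw [← hφ₁1, ← hφ₂1, ← (bcCone hP).w f1, ← (bcCone hP).w f2, Category.assoc, Category.assoc,
    hstage]

include hP in
theorem CS_limit (hk : ∀ k : Over W, CS U N (pk W y k)) : CS U N (g ≫ pY W y) :=
  CS_of_square (isPullback_QP_U W y U g) (fun ψ hψ => CS_limit_aux W y hP hk ψ hψ)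

include hP in
theorem CI_limit (hk : ∀ k : Over W, CI U N (pk W y k)) : CI U N (g ≫ pY W y) :=
  CI_of_square (isPullback_QP_U W y U g)
    (fun φ₁ φ₂ h1 h2 h12 => CI_limit_aux W y hP hk φ₁ φ₂ h1 h2 h12)

end LimitMain

end Groth.Agent.Lead.NerStalk
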