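import Mathlib
import Groth.Agent.Lib.Lead.NerStalk2

/-!
# S13750: local-to-global for the concrete Néron mapping property, and the main theorem (lead)
-/

set_option autoImplicit false
set_option backward.isDefEq.respectTransparency.types false
set_option synthInstance.maxHeartbeats 400000
set_option maxHeartbeats 1000000
set_option linter.style.haveILetI false
set_option linter.unusedSectionVars false

universe u
open CategoryTheory CategoryTheory.Limits AlgebraicGeometry TopologicalSpace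

namespace Groth.Agent.Lead.NerStalk

open Groth.Agent.Helper7.StalkLim Groth.Agent.Helper7.LimBC
open Groth.Agent.Lead.NeronLoc (isPullback_restrict restrict_homOfLE)

section Local

variable {S : Scheme.{u}} {U : S.Opens} {N : Over S}

/-- uniqueness is local on the source -/
theorem CI_of_opens {P : Scheme.{u}} (p : P ⟶ S)
    (h : ∀ x : P, ∃ V : P.Opens, x ∈ V ∧ CI U N (V.ι ≫ p)) : CI U N p := by
  intro Q a b hQ φ₁ φ₂ h1 h2 h12
  apply Scheme.hom_ext_of_forall
  intro x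
  obtain ⟨V, hxV, hV⟩ := h x
  refine ⟨V, hxV, ?_⟩
  refine hV (a ∣_ V) ((a ⁻¹ᵁ V).ι ≫ b) (isPullback_restrict hQ V) _ _ ?_ ?_ ?_
  · rw [Category.assoc, h1]
  · rw [Category.assoc, h2]
  · rw [← Category.assoc, morphismRestrict_ι, Category.assoc, h12, ← Category.assoc,
      ← morphismRestrict_ι, Category.assoc]

/-- uniqueness on affine charts gives uniqueness on every open part -/
theorem CI_of_affine {P : Scheme.{u}} (p : P ⟶ S)
    (h : ∀ (V : Scheme.{u}) (j : V ⟶ P), IsOpenImmersion j → IsAffine V → CI U N (j ≫ p))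
    {O : Scheme.{u}} (i : O ⟶ P) [IsOpenImmersion i] : CI U N (i ≫ p) := by
  apply CI_of_opens
  intro x
  obtain ⟨V, hV, hxV, -⟩ : ∃ V : O.Opens, V ∈ O.affineOpens ∧ x ∈ V ∧ V ≤ ⊤ :=
    Opens.isBasis_iff_nbhd.mp O.isBasis_affineOpens (show x ∈ (⊤ : O.Opens) from trivial)
  refine ⟨V, hxV, ?_⟩
  rw [← Category.assoc]
  exact h V (V.ι ≫ i) inferInstance hV

/-- existence glues from affine charts, given uniqueness on affine charts -/
theorem CS_of_affine {P : Scheme.{u}} (p : P ⟶ S)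
    (hI : ∀ (V : Scheme.{u}) (j : V ⟶ P), IsOpenImmersion j → IsAffine V → CI U N (j ≫ p))
    (hS : ∀ (V : Scheme.{u}) (j : V ⟶ P), IsOpenImmersion j → IsAffine V → CS U N (j ≫ p)) :
    CS U N p := by
  classical
  intro Q a b hQ ψ hψ
  have hloc : ∀ x : P, ∃ (V : P.Opens) (φ : (V : Scheme.{u}) ⟶ N.left), x ∈ V ∧
      φ ≫ N.hom = V.ι ≫ p ∧ (a ∣_ V) ≫ φ = (a ⁻¹ᵁ V).ι ≫ ψ := by
    intro x
    obtain ⟨V, hV, hxV, -⟩ : ∃ V : P.Opens, V ∈ P.affineOpens ∧ x ∈ V ∧ V ≤ ⊤ :=
      Opens.isBasis_iff_nbhd.mp P.isBasis_affineOpens (show x ∈ (⊤ : P.Opens) from trivial)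
    obtain ⟨φ, h1, h2⟩ := hS V V.ι inferInstance hV (a ∣_ V) ((a ⁻¹ᵁ V).ι ≫ b)
      (isPullback_restrict hQ V) ((a ⁻¹ᵁ V).ι ≫ ψ) (by
        rw [Category.assoc, hψ, ← Category.assoc, ← morphismRestrict_ι, Category.assoc])
    exact ⟨V, φ, hxV, h1, h2⟩
  choose W g hyW hg1 hg2 using hloc
  let 𝒰 : P.OpenCover := {
    I₀ := P, X i := (W i), f i := (W i).ι,
    mem₀ := by
      rw [Scheme.presieve₀_mem_precoverage_iff]
      refine ⟨fun x ↦ ⟨x, by simpa using hyW x⟩, inferInstance⟩ }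
  have hinter : ∀ x y : P, P.homOfLE (inf_le_right : W x ⊓ W y ≤ W y) ≫ g y =
      P.homOfLE (inf_le_left : W x ⊓ W y ≤ W x) ≫ g x := by
    intro x y
    have hci : CI U N ((W x ⊓ W y).ι ≫ p) := CI_of_affine p hI (W x ⊓ W y).ι
    refine hci (a ∣_ (W x ⊓ W y)) ((a ⁻¹ᵁ (W x ⊓ W y)).ι ≫ b)
      (isPullback_restrict hQ (W x ⊓ W y)) _ _ ?_ ?_ ?_
    · rw [Category.assoc, hg1, Scheme.homOfLE_ι_assoc]
    · rw [Category.assoc, hg1, Scheme.homOfLE_ι_assoc]
    · rw [← Category.assoc, ← Category.assoc, restrict_homOfLE, restrict_homOfLE, Category.assoc,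
        Category.assoc, hg2, hg2, Scheme.homOfLE_ι_assoc, Scheme.homOfLE_ι_assoc]
  have hcompat : ∀ x y : P, pullback.fst (𝒰.f x) (𝒰.f y) ≫ g x = pullback.snd _ _ ≫ g y := by
    intro x y
    show pullback.fst (W x).ι (W y).ι ≫ g x = pullback.snd (W x).ι (W y).ι ≫ g y
    exact (Groth.Agent.Lead.Weil.agree_gen (hinter x y) _ _ pullback.condition.symm).symm
  let gg : P ⟶ N.left := 𝒰.glueMorphisms g hcompat
  have hgg : ∀ z : P, (W z).ι ≫ gg = g z := fun z => 𝒰.ι_glueMorphisms g hcompat z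
  have h1 : gg ≫ N.hom = p := by
    apply 𝒰.hom_ext
    intro z
    show (W z).ι ≫ gg ≫ N.hom = (W z).ι ≫ p
    rw [← Category.assoc, hgg, hg1]
  have h2 : a ≫ gg = ψ := by
    apply Scheme.hom_ext_of_forall
    intro z
    refine ⟨a ⁻¹ᵁ W (a z), hyW (a z), ?_⟩
    rw [← Category.assoc, ← morphismRestrict_ι, Category.assoc, hgg, hg2]
  exact ⟨gg, h1, h2⟩

end Local

section Main

variable {S : Scheme.{u}} [IsLocallyNoetherian S] (U : S.Opens) (N : Over S)
  [LocallyOfFinitePresentation N.hom]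

/-- the concrete properties on an affine chart of a smooth scheme over the local scheme -/
theorem CI_CS_chart (hI : ∀ (Y : Scheme.{u}) (q : Y ⟶ S), Smooth q → CI U N q)
    (hS : ∀ (Y : Scheme.{u}) (q : Y ⟶ S), Smooth q → CS U N q)
    (s : S) {V : Scheme.{u}} [IsAffine V] (y' : V ⟶ Spec (S.presheaf.stalk s)) [Smooth y'] :
    CI U N (y' ≫ S.fromSpecStalk s) ∧ CS U N (y' ≫ S.fromSpecStalk s) := by
  have hy' : Smooth (show V ⟶ (nbCone S s).pt from y') := ‹Smooth y'›
  obtain ⟨W, Y, y, g, h1, h2, h3, hP⟩ :=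
    exists_model s (show V ⟶ (nbCone S s).pt from y')
  haveI := h1
  haveI := h2
  haveI := h3
  have heq : y' ≫ S.fromSpecStalk s = g ≫ pY W y := by
    have hw : g ≫ y = y' ≫ (nbCone S s).π.app W := hP.w
    change _ = g ≫ (y ≫ W.1.ι)
    rw [← nbCone_π_ι S s W, ← Category.assoc g, hw, Category.assoc]
    rfl
  haveI : CompactSpace Y := QuasiCompact.compactSpace_of_compactSpace y
  haveI : IsLocallyNoetherian ((nbDiag S s).obj W) :=
    (inferInstance : IsLocallyNoetherian (W.1 : Scheme.{u}))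
  haveI : IsLocallyNoetherian Y := LocallyOfFiniteType.isLocallyNoetherian y
  haveI : IsNoetherian Y := {}
  haveI : CompactSpace (OY W y U) :=
    isCompact_iff_compactSpace.mp (NoetherianSpace.isCompact _)
  haveI : QuasiSeparatedSpace Y := inferInstance
  haveI : QuasiSeparatedSpace (OY W y U) := inferInstance
  rw [heq]
  exact ⟨CI_limit W y hP (fun k => hI _ _ inferInstance),
    CS_limit W y hP (fun k => hS _ _ inferInstance)⟩

theorem main13750
    (hN : ∀ Y : Over S, Smooth Y.hom →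
      Function.Bijective (fun f : Y ⟶ N => (Over.pullback U.ι).map f))
    (s : S) (Y' : Over (Spec (S.presheaf.stalk s))) [Smooth Y'.hom] :
    Function.Bijective (fun f : Y' ⟶ (Over.pullback (S.fromSpecStalk s)).obj N =>
      (Over.pullback ((S.fromSpecStalk s) ⁻¹ᵁ U).ι).map f) := by
  have hI : ∀ (Y : Scheme.{u}) (q : Y ⟶ S), Smooth q → CI U N q := fun Y q hq =>
    CI_of_injective (Over.mk q) (hN (Over.mk q) hq).1
  have hS : ∀ (Y : Scheme.{u}) (q : Y ⟶ S), Smooth q → CS U N q := fun Y q hq =>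
    CS_of_surjective (Over.mk q) (hN (Over.mk q) hq).2
  have hchart : ∀ (V : Scheme.{u}) (j : V ⟶ Y'.left), IsOpenImmersion j → IsAffine V →
      CI U N (j ≫ (Y'.hom ≫ S.fromSpecStalk s)) ∧ CS U N (j ≫ (Y'.hom ≫ S.fromSpecStalk s)) := by
    intro V j hj hV
    haveI := hj
    haveI := hV
    rw [← Category.assoc]
    exact CI_CS_chart U N hI hS s (j ≫ Y'.hom)
  have hCI : CI U N (Y'.hom ≫ S.fromSpecStalk s) := by
    have : CI U N (𝟙 Y'.left ≫ (Y'.hom ≫ S.fromSpecStalk s)) :=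
      CI_of_affine (U := U) (N := N) (Y'.hom ≫ S.fromSpecStalk s)
        (fun V j hj hV => (hchart V j hj hV).1) (𝟙 Y'.left)
    rwa [Category.id_comp] at this
  have hCS : CS U N (Y'.hom ≫ S.fromSpecStalk s) :=
    CS_of_affine _ (fun V j hj hV => (hchart V j hj hV).1) (fun V j hj hV => (hchart V j hj hV).2)
  exact ⟨Groth.Agent.S17731.inj (S.fromSpecStalk s) U N Y'
      (injective_of_CI (Over.mk (Y'.hom ≫ S.fromSpecStalk s)) hCI),
    Groth.Agent.S13203.surj (S.fromSpecStalk s) U N Y'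
      (surjective_of_CS (Over.mk (Y'.hom ≫ S.fromSpecStalk s)) hCS)⟩

end Main

end Groth.Agent.Lead.NerStalk
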