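import Mathlib
import Groth.Prelude.Def_CInt
import Groth.Agent.Lib.Lead.NerStalk3
import Groth.Agent.Lib.Lead.NeronExt1

/-!
# S13749: uniqueness over flat schemes and gluing of local extensions (lead)
-/

set_option autoImplicit false
set_option backward.isDefEq.respectTransparency.types false
set_option synthInstance.maxHeartbeats 400000
set_option maxHeartbeats 1000000
set_option linter.style.haveILetI false
set_option linter.unusedSectionVars false

universe u
open CategoryTheory CategoryTheory.Limits AlgebraicGeometry TopologicalSpace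

namespace Groth.Agent.Lead.NerFlat

open Groth.Agent.Lead.NerStalk
open Groth.Agent.Lead.NeronLoc (isPullback_restrict restrict_homOfLE)

variable {S : Scheme.{u}} {U : S.Opens} {N : Over S}

/-- a schematically dense open subscheme is scheme-theoretically dominant -/
theorem isSchemeTheoreticallyDominant_ι (hU : CInt.IsSchematicallyDense U) [QuasiCompact U.ι] :
    IsSchemeTheoreticallyDominant U.ι := by
  rw [isSchemeTheoreticallyDominant_iff]
  refine Scheme.IdealSheafData.ext ?_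
  funext W
  rw [Scheme.Hom.ker_apply, Scheme.IdealSheafData.ideal_bot, Pi.bot_apply,
    ← RingHom.injective_iff_ker_eq_bot]
  intro s t hst
  apply hU W.1
  have e : U.ι ''ᵁ U.ι ⁻¹ᵁ W.1 = W.1 ⊓ U := by
    simp [Scheme.Hom.image_preimage_eq_opensRange_inf, inf_comm]
  have h1 : (W.1 ⊓ U) ≤ U.ι ''ᵁ U.ι ⁻¹ᵁ W.1 := by rw [e]
  have h2 : U.ι ''ᵁ U.ι ⁻¹ᵁ W.1 ≤ W.1 := by rw [e]; exact inf_le_left
  have key : ∀ s : Γ(S, W.1), S.presheaf.map (homOfLE (inf_le_left : W.1 ⊓ U ≤ W.1)).op s =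
      S.presheaf.map (homOfLE h1).op (S.presheaf.map (homOfLE h2).op s) := fun s => by
    rw [← ConcreteCategory.comp_apply, ← Functor.map_comp]; rfl
  have h3 : S.presheaf.map (homOfLE h2).op s = S.presheaf.map (homOfLE h2).op t := hst
  rw [key s, key t, h3]

/-- uniqueness holds over every flat `S`-scheme -/
theorem CI_of_flat (hU : CInt.IsSchematicallyDense U) [QuasiCompact U.ι] [IsSeparated N.hom]
    {P : Scheme.{u}} (p : P ⟶ S) [Flat p] : CI U N p := by
  intro Q a b hQ φ₁ φ₂ h1 h2 h12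
  haveI := isSchemeTheoreticallyDominant_ι hU
  haveI : IsSchemeTheoreticallyDominant a := IsSchemeTheoreticallyDominant.of_isPullback hQ.flip
  let f₁ : Over.mk p ⟶ N := Over.homMk φ₁ h1
  let f₂ : Over.mk p ⟶ N := Over.homMk φ₂ h2
  have := Groth.Agent.Lead.NeronExt.ext_of_schDominant (Over.mk p) N f₁ f₂ a h12
  exact congrArg (fun f : Over.mk p ⟶ N => f.left) this

/-- gluing local extensions of a morphism, given uniqueness on all open parts -/
theorem exists_glue_CI {P Q : Scheme.{u}} (p : P ⟶ S)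
    (hI : ∀ O : P.Opens, CI U N (O.ι ≫ p))
    {a : Q ⟶ P} {b : Q ⟶ (U : Scheme.{u})} (hQ : IsPullback a b p U.ι) (ψ : Q ⟶ N.left)
    (hloc : ∀ x : P, ∃ (O : P.Opens) (φ : (O : Scheme.{u}) ⟶ N.left), x ∈ O ∧
      φ ≫ N.hom = O.ι ≫ p ∧ (a ∣_ O) ≫ φ = (a ⁻¹ᵁ O).ι ≫ ψ) :
    ∃ φ : P ⟶ N.left, φ ≫ N.hom = p ∧ a ≫ φ = ψ := by
  classical
  choose W g hyW hg1 hg2 using hloc
  let 𝒰 : P.OpenCover := {
    I₀ := P, X i := (W i), f i := (W i).ι,
    mem₀ := by
      rw [Scheme.presieve₀_mem_precoverage_iff]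
      refine ⟨fun x ↦ ⟨x, by simpa using hyW x⟩, inferInstance⟩ }
  have hinter : ∀ x y : P, P.homOfLE (inf_le_right : W x ⊓ W y ≤ W y) ≫ g y =
      P.homOfLE (inf_le_left : W x ⊓ W y ≤ W x) ≫ g x := by
    intro x y
    have hci : CI U N ((W x ⊓ W y).ι ≫ p) := hI (W x ⊓ W y)
    refine hci (a ∣_ (W x ⊓ W y)) ((a ⁻¹ᵁ (W x ⊓ W y)).ι ≫ b)
      (isPullback_restrict hQ (W x ⊓ W y)) _ _ ?_ ?_ ?_
    · rw [Category.assoc, hg1, Scheme.homOfLE_ι_assoc]
    · rw [Category.assoc, hg1, Scheme.homOfLE_ι_assoc]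
    · rw [← Category.assoc, ← Category.assoc, restrict_homOfLE, restrict_homOfLE, Category.assoc,
        Category.assoc, hg2, hg2, Scheme.homOfLE_ι_assoc, Scheme.homOfLE_ι_assoc]
  have hcompat : ∀ x y : P, pullback.fst (𝒰.f x) (𝒰.f y) ≫ g x = pullback.snd _ _ ≫ g y := by
    intro x y
    show pullback.fst (W x).ι (W y).ι ≫ g x = pullback.snd (W x).ι (W y).ι ≫ g y
    exact (Groth.Agent.Lead.Weil.agree_gen (hinter x y) _ _ pullback.condition.symm).symm
  let gg : P ⟶ N.left := 𝒰.glueMorphisms g hcompat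
  have hgg : ∀ z : P, (W z).ι ≫ gg = g z := fun z => 𝒰.ι_glueMorphisms g hcompat z
  have h1 : gg ≫ N.hom = p := by
    apply 𝒰.hom_ext
    intro z
    show (W z).ι ≫ gg ≫ N.hom = (W z).ι ≫ p
    rw [← Category.assoc, hgg, hg1]
  have h2 : a ≫ gg = ψ := by
    apply Scheme.hom_ext_of_forall
    intro z
    refine ⟨a ⁻¹ᵁ W (a z), hyW (a z), ?_⟩
    rw [← Category.assoc, ← morphismRestrict_ι, Category.assoc, hgg, hg2]
  exact ⟨gg, h1, h2⟩

end Groth.Agent.Lead.NerFlat
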