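import Mathlib
import Groth.Agent.Lib.Lead.NerFlat1

/-!
# S13749: spreading out an extension from the local scheme to a neighbourhood (lead)
-/

set_option autoImplicit false
set_option backward.isDefEq.respectTransparency.types false
set_option backward.isDefEq.respectTransparency false
set_option synthInstance.maxHeartbeats 400000
set_option maxHeartbeats 1000000
set_option linter.style.haveILetI false
set_option linter.unusedSectionVars false

universe u
open CategoryTheory CategoryTheory.Limits AlgebraicGeometry TopologicalSpace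

namespace Groth.Agent.Lead.NerFlat

open Groth.Agent.Lead.NerStalk
open Groth.Agent.Helper7.StalkLim Groth.Agent.Helper7.LimBC

variable {S : Scheme.{u}} {s : S} (W : Nb S s) {Y P : Scheme.{u}} (y : Y ⟶ (nbDiag S s).obj W)
  {U : S.Opens} {N : Over S} [LocallyOfFinitePresentation N.hom]
  {g : P ⟶ Y} {y' : P ⟶ (nbCone S s).pt} (hP : IsPullback g y' y ((nbCone S s).π.app W))
  [CompactSpace Y] [QuasiSeparatedSpace Y] [CompactSpace (OY W y U)]
  [QuasiSeparatedSpace (OY W y U)]

include hP in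
/-- an extension over the local scheme compatible with a morphism on the part over `U` of the
model descends to an extension over a neighbourhood -/
theorem exists_stage_extension (φ : P ⟶ N.left) (hφ : φ ≫ N.hom = g ≫ pY W y)
    (ψ : ((OY W y U : Y.Opens) : Scheme.{u}) ⟶ N.left) (hψ : ψ ≫ N.hom = (OY W y U).ι ≫ pY W y)
    (hcompat : (QP W y U g).ι ≫ φ = (g ∣_ OY W y U) ≫ ψ) :
    ∃ (k : Over W) (φk : Yk W y k ⟶ N.left), φk ≫ N.hom = pk W y k ∧
      ak W y U k ≫ φk = pullback.fst (aO W y U) ((nbDiag S s).map k.hom) ≫ ψ := by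
  obtain ⟨hc⟩ := isLimit_nbCone S s
  have hQ := isPullback_QP W y U hP
  have hπ : ∀ k : Over W, (bcCone hP).π.app k ≫ pk W y k = g ≫ pY W y := by
    intro k
    change (bcCone hP).π.app k ≫ (pullback.fst y ((nbDiag S s).map k.hom) ≫ pY W y) = _
    rw [← Category.assoc, bcCone_π_fst]
  have ha : (bcCone hP).π ≫ tY W y = (Functor.const _).map (φ ≫ N.hom) := by
    ext k
    change (bcCone hP).π.app k ≫ pk W y k = φ ≫ N.hom
    rw [hπ, hφ]
  obtain ⟨k₁, φ₁, hφ₁1, hφ₁2⟩ := Scheme.exists_π_app_comp_eq_of_locallyOfFinitePresentation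
    (bcDiagram (nbDiag S s) W y) (tY W y) N.hom (bcCone hP) (isLimitBcCone hc hP) φ ha
  have hφ₁2' : φ₁ ≫ N.hom = pk W y k₁ := hφ₁2
  have hab : (bcCone hQ).π.app k₁ ≫ (ak W y U k₁ ≫ φ₁) =
      (bcCone hQ).π.app k₁ ≫
        (pullback.fst (aO W y U) ((nbDiag S s).map k₁.hom) ≫ ψ) := by
    have h1 : (bcCone hQ).π.app k₁ ≫ pullback.fst (aO W y U) ((nbDiag S s).map k₁.hom) =
        g ∣_ OY W y U := bcCone_π_fst hQ k₁
    have h2 : (bcCone hQ).π.app k₁ ≫
        (pullback.fst (aO W y U) ((nbDiag S s).map k₁.hom) ≫ ψ) = (g ∣_ OY W y U) ≫ ψ := by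
      rw [← Category.assoc]
      exact congrArg (· ≫ ψ) h1
    rw [h2, ← Category.assoc, cone_compat W y U hP k₁, Category.assoc, hφ₁1, hcompat]
  obtain ⟨k, f, hkf⟩ := Scheme.exists_hom_comp_eq_comp_of_locallyOfFiniteType
    (bcDiagram (nbDiag S s) W (aO W y U)) (tA W y U) N.hom (bcCone hQ) (isLimitBcCone hc hQ)
    (ak W y U k₁ ≫ φ₁) (pullback.fst (aO W y U) ((nbDiag S s).map k₁.hom) ≫ ψ)
    (by rw [Category.assoc, hφ₁2', ak_pk])
    (by
      rw [Category.assoc, hψ]
      rfl) hab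
  have hnat : (bcDiagram (nbDiag S s) W y).map f ≫ pk W y k₁ = pk W y k := by
    change (bcDiagram (nbDiag S s) W y).map f ≫
      (pullback.fst y ((nbDiag S s).map k₁.hom) ≫ pY W y) = _
    rw [← Category.assoc, bcDiagram_map_fst]
  refine ⟨k, (bcDiagram (nbDiag S s) W y).map f ≫ φ₁, ?_, ?_⟩
  · rw [Category.assoc, hφ₁2', hnat]
  · rw [← Category.assoc, ← ak_natural, Category.assoc, hkf, ← Category.assoc,
      bcDiagram_map_fst]

end Groth.Agent.Lead.NerFlat
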