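import Mathlib
import Groth.Agent.Lib.Lead.NerFlat2

/-!
# S13749: extension after flat base change and descent to the local scheme (lead)
-/

set_option autoImplicit false
set_option backward.isDefEq.respectTransparency.types false
set_option synthInstance.maxHeartbeats 400000
set_option maxHeartbeats 1000000
set_option linter.style.haveILetI false
set_option linter.unusedSectionVars false

universe u
open CategoryTheory CategoryTheory.Limits AlgebraicGeometry TopologicalSpace

namespace Groth.Agent.Lead.NerFlat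

open Groth.Agent.Lead.NerStalk
open Groth.Agent.Helper7.StalkLim Groth.Agent.Helper7.LimBC

section BaseChange

variable {S S' : Scheme.{u}} (gS : S' ⟶ S) {U : S.Opens} {N : Over S}
  {Y : Scheme.{u}} (p₀ : Y ⟶ S) [Smooth p₀]

/-- the extension over the base change, in a form depending only on the part over `U` -/
theorem exists_ext_baseChange
    (hCS' : CS (gS ⁻¹ᵁ U) ((Over.pullback gS).obj N) (pullback.snd p₀ gS))
    (ψ : ((p₀ ⁻¹ᵁ U : Y.Opens) : Scheme.{u}) ⟶ N.left)
    (hψ : ψ ≫ N.hom = (p₀ ⁻¹ᵁ U).ι ≫ p₀) :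
    ∃ φ'' : pullback p₀ gS ⟶ N.left, φ'' ≫ N.hom = pullback.fst p₀ gS ≫ p₀ ∧
      ∀ {M : Scheme.{u}} (m : M ⟶ pullback p₀ gS) (n : M ⟶ ((p₀ ⁻¹ᵁ U : Y.Opens) : Scheme.{u})),
        m ≫ pullback.fst p₀ gS = n ≫ (p₀ ⁻¹ᵁ U).ι → m ≫ φ'' = n ≫ ψ := by
  have hpb : IsPullback (p₀ ⁻¹ᵁ U).ι (p₀ ∣_ U) p₀ U.ι := (isPullback_morphismRestrict p₀ U).flip
  have hpbg : IsPullback (gS ⁻¹ᵁ U).ι (gS ∣_ U) gS U.ι := (isPullback_morphismRestrict gS U).flip
  let a' := pullback.fst (pullback.snd p₀ gS) (gS ⁻¹ᵁ U).ι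
  let b' := pullback.snd (pullback.snd p₀ gS) (gS ⁻¹ᵁ U).ι
  have hab : a' ≫ pullback.snd p₀ gS = b' ≫ (gS ⁻¹ᵁ U).ι := pullback.condition
  have hr : (a' ≫ pullback.fst p₀ gS) ≫ p₀ = (b' ≫ (gS ∣_ U)) ≫ U.ι := by
    rw [Category.assoc, pullback.condition, ← Category.assoc, hab, Category.assoc, Category.assoc,
      morphismRestrict_ι]
  let r := hpb.lift (a' ≫ pullback.fst p₀ gS) (b' ≫ (gS ∣_ U)) hr
  have hr1 : r ≫ (p₀ ⁻¹ᵁ U).ι = a' ≫ pullback.fst p₀ gS := hpb.lift_fst _ _ _
  have hψ' : (r ≫ ψ) ≫ N.hom = (a' ≫ pullback.snd p₀ gS) ≫ gS := by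
    rw [Category.assoc, hψ, ← Category.assoc, hr1, Category.assoc, Category.assoc,
      pullback.condition]
  let ψ' : pullback (pullback.snd p₀ gS) (gS ⁻¹ᵁ U).ι ⟶ pullback N.hom gS :=
    pullback.lift (r ≫ ψ) (a' ≫ pullback.snd p₀ gS) hψ'
  have hψ'1 : ψ' ≫ pullback.fst N.hom gS = r ≫ ψ := pullback.lift_fst _ _ _
  have hψ'2 : ψ' ≫ pullback.snd N.hom gS = a' ≫ pullback.snd p₀ gS := pullback.lift_snd _ _ _
  obtain ⟨φ', hφ'1, hφ'2⟩ := hCS' a' b' (IsPullback.of_hasPullback _ _) ψ' hψ'2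
  have hφ'1' : φ' ≫ pullback.snd N.hom gS = pullback.snd p₀ gS := hφ'1
  refine ⟨φ' ≫ pullback.fst N.hom gS, ?_, ?_⟩
  · rw [Category.assoc, pullback.condition, ← Category.assoc, hφ'1', pullback.condition]
  · intro M m n hmn
    have hn : (n ≫ (p₀ ∣_ U)) ≫ U.ι = (m ≫ pullback.snd p₀ gS) ≫ gS := by
      rw [Category.assoc, morphismRestrict_ι, ← Category.assoc, ← hmn, Category.assoc,
        Category.assoc, pullback.condition]
    let n'' := hpbg.lift (m ≫ pullback.snd p₀ gS) (n ≫ (p₀ ∣_ U)) hn.symm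
    have hn''1 : n'' ≫ (gS ⁻¹ᵁ U).ι = m ≫ pullback.snd p₀ gS := hpbg.lift_fst _ _ _
    let l : M ⟶ pullback (pullback.snd p₀ gS) (gS ⁻¹ᵁ U).ι := pullback.lift m n'' hn''1.symm
    have hl1 : l ≫ a' = m := pullback.lift_fst _ _ _
    have hl2 : l ≫ r = n := by
      rw [← cancel_mono (p₀ ⁻¹ᵁ U).ι, Category.assoc, hr1, ← Category.assoc, hl1, hmn]
    have h2 : a' ≫ (φ' ≫ pullback.fst N.hom gS) = r ≫ ψ := by
      rw [← Category.assoc, hφ'2, hψ'1]
    rw [← hl1, Category.assoc, h2, ← Category.assoc, hl2]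

end BaseChange

section Descent

variable {S S' : Scheme.{u}} (gS : S' ⟶ S) [Flat gS] (s' : S') {U : S.Opens} {N : Over S}
  [IsSeparated N.hom] (hU : CInt.IsSchematicallyDense U) [QuasiCompact U.ι]
  (W : Nb S (gS s')) {Y P : Scheme.{u}} (y : Y ⟶ (nbDiag S (gS s')).obj W) [Flat y]
  {g : P ⟶ Y} {y' : P ⟶ (nbCone S (gS s')).pt}
  (hP : IsPullback g y' y ((nbCone S (gS s')).π.app W))

theorem flat_nbCone_π : Flat ((nbCone S (gS s')).π.app W) := by
  have h : Flat ((nbCone S (gS s')).π.app W ≫ W.1.ι) := by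
    rw [nbCone_π_ι]
    exact flat_fromSpecStalk S _
  have hι : IsOpenImmersion W.1.ι := inferInstance
  exact MorphismProperty.of_postcomp (W := @Flat) (W' := @IsOpenImmersion)
    ((nbCone S (gS s')).π.app W) W.1.ι hι h

/-- the local-ring extension of the base along the chosen point of `S'` -/
noncomputable abbrev eS : Spec (S'.presheaf.stalk s') ⟶ (nbCone S (gS s')).pt :=
  Spec.map (gS.stalkMap s')

theorem eS_fromSpecStalk : eS gS s' ≫ S.fromSpecStalk (gS s') = S'.fromSpecStalk s' ≫ gS :=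
  Scheme.SpecMap_stalkMap_fromSpecStalk gS

theorem flat_surjective_eS : Flat (eS gS s') ∧ Surjective (eS gS s') := by
  refine (flat_and_surjective_SpecMap_iff (gS.stalkMap s')).2 ?_
  algebraize [(gS.stalkMap s').hom]
  have : Module.FaithfullyFlat (S.presheaf.stalk (gS s')) (S'.presheaf.stalk s') :=
    @Module.FaithfullyFlat.of_flat_of_isLocalHom _ _ _ _ _ _ _
      (Flat.stalkMap gS s') (gS.toLRSHom.prop s')
  exact ‹RingHom.FaithfullyFlat _›

include hU hP in
/-- descent of the extension to the local scheme -/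
theorem exists_descended
    (ψ : ((OY W y U : Y.Opens) : Scheme.{u}) ⟶ N.left)
    (φ'' : pullback (pY W y) gS ⟶ N.left)
    (h1 : φ'' ≫ N.hom = pullback.fst (pY W y) gS ≫ pY W y)
    (hD : ∀ {M : Scheme.{u}} (m : M ⟶ pullback (pY W y) gS)
      (n : M ⟶ ((OY W y U : Y.Opens) : Scheme.{u})),
        m ≫ pullback.fst (pY W y) gS = n ≫ (OY W y U).ι → m ≫ φ'' = n ≫ ψ) :
    ∃ φ : P ⟶ N.left, φ ≫ N.hom = g ≫ pY W y ∧
      (QP W y U g).ι ≫ φ = (g ∣_ OY W y U) ≫ ψ := by
  obtain ⟨hfe, hse⟩ := flat_surjective_eS gS s'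
  haveI := hfe
  haveI := hse
  haveI : Flat ((nbCone S (gS s')).π.app W) := flat_nbCone_π gS s' W
  haveI : Flat g := MorphismProperty.of_isPullback (P := @Flat) hP.flip inferInstance
  have hιf : Flat W.1.ι := inferInstance
  haveI : Flat (pY W y) := MorphismProperty.comp_mem _ _ _ ‹Flat y› hιf
  let q := pullback.fst y' (eS gS s')
  haveI : Flat q := inferInstance
  haveI : Surjective q := inferInstance
  haveI : QuasiCompact q := inferInstance
  have hy'W : y' ≫ S.fromSpecStalk (gS s') = g ≫ pY W y := by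
    have hw : g ≫ y = y' ≫ (nbCone S (gS s')).π.app W := hP.w
    change _ = g ≫ (y ≫ W.1.ι)
    rw [← nbCone_π_ι S (gS s') W, ← Category.assoc g, hw, Category.assoc]
  have ht : (q ≫ g) ≫ pY W y =
      (pullback.snd y' (eS gS s') ≫ S'.fromSpecStalk s') ≫ gS := by
    rw [Category.assoc, ← hy'W, ← Category.assoc, pullback.condition, Category.assoc,
      eS_fromSpecStalk, Category.assoc]
  let t : pullback y' (eS gS s') ⟶ pullback (pY W y) gS :=
    pullback.lift (q ≫ g) (pullback.snd y' (eS gS s') ≫ S'.fromSpecStalk s') ht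
  have ht1 : t ≫ pullback.fst (pY W y) gS = q ≫ g := pullback.lift_fst _ _ _
  have hpb : IsPullback (OY W y U).ι (pY W y ∣_ U) (pY W y) U.ι :=
    (isPullback_morphismRestrict (pY W y) U).flip
  -- the key equality on the self-product
  have key : pullback.fst q q ≫ (t ≫ φ'') = pullback.snd q q ≫ (t ≫ φ'') := by
    let pR := pullback.fst q q ≫ q ≫ g ≫ pY W y
    haveI : Flat pR := inferInstance
    have hci : CI U N pR := CI_of_flat (N := N) hU pR
    let aR := pullback.fst pR U.ι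
    let bR := pullback.snd pR U.ι
    have hn : (aR ≫ pullback.fst q q ≫ q ≫ g) ≫ pY W y = bR ≫ U.ι := by
      have : aR ≫ pR = bR ≫ U.ι := pullback.condition
      rw [← this]
      simp only [pR, Category.assoc]
    let n := hpb.lift (aR ≫ pullback.fst q q ≫ q ≫ g) bR hn
    have hn1 : n ≫ (OY W y U).ι = aR ≫ pullback.fst q q ≫ q ≫ g := hpb.lift_fst _ _ _
    refine hci aR bR (IsPullback.of_hasPullback _ _) _ _ ?_ ?_ ?_
    · rw [Category.assoc, Category.assoc, h1, ← Category.assoc t, ht1]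
      simp only [pR, Category.assoc]
    · rw [Category.assoc, Category.assoc, h1, ← Category.assoc t, ht1, Category.assoc,
        ← Category.assoc (pullback.snd q q), ← pullback.condition]
      simp only [pR, Category.assoc]
    · rw [← Category.assoc, ← Category.assoc, hD ((aR ≫ pullback.fst q q) ≫ t) n (by
          rw [Category.assoc, ht1, hn1]; simp only [Category.assoc]),
        ← Category.assoc aR, ← Category.assoc (aR ≫ pullback.snd q q),
        hD ((aR ≫ pullback.snd q q) ≫ t) n (by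
          rw [Category.assoc, ht1, hn1, Category.assoc, ← Category.assoc (pullback.snd q q),
            ← pullback.condition]; simp only [Category.assoc])]
  have hdesc : ∀ {Z : Scheme.{u}} (g₁ g₂ : Z ⟶ pullback y' (eS gS s')), g₁ ≫ q = g₂ ≫ q →
      g₁ ≫ (t ≫ φ'') = g₂ ≫ (t ≫ φ'') := by
    intro Z g₁ g₂ h12
    have e1 : pullback.lift g₁ g₂ h12 ≫ pullback.fst q q = g₁ := pullback.lift_fst _ _ _
    have e2 : pullback.lift g₁ g₂ h12 ≫ pullback.snd q q = g₂ := pullback.lift_snd _ _ _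
    rw [← e1, Category.assoc, key, ← Category.assoc, e2]
  let φ : P ⟶ N.left := EffectiveEpi.desc q (t ≫ φ'') hdesc
  have hφq : q ≫ φ = t ≫ φ'' := EffectiveEpi.fac q (t ≫ φ'') hdesc
  haveI : Epi q := inferInstance
  refine ⟨φ, ?_, ?_⟩
  · rw [← cancel_epi q, ← Category.assoc, hφq, Category.assoc, h1, ← Category.assoc, ht1,
      Category.assoc]
  · haveI : Flat (q ∣_ QP W y U g) := IsZariskiLocalAtTarget.restrict ‹Flat q› _
    haveI : Surjective (q ∣_ QP W y U g) := IsZariskiLocalAtTarget.restrict ‹Surjective q› _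
    haveI : Epi (q ∣_ QP W y U g) := Flat.epi_of_flat_of_surjective _
    rw [← cancel_epi (q ∣_ QP W y U g), ← Category.assoc, morphismRestrict_ι, Category.assoc, hφq,
      ← Category.assoc, ← Category.assoc]
    refine hD _ _ ?_
    rw [Category.assoc, ht1, Category.assoc, morphismRestrict_ι,
      ← Category.assoc (q ∣_ QP W y U g), morphismRestrict_ι, Category.assoc]

end Descent

end Groth.Agent.Lead.NerFlat
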