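import Mathlib
import Groth.Agent.Lib.Lead.NerFlat3

/-!
# S13749: the Néron mapping property descends along flat surjective base change (lead)
-/

set_option autoImplicit false
set_option backward.isDefEq.respectTransparency.types false
set_option backward.isDefEq.respectTransparency false
set_option synthInstance.maxHeartbeats 400000
set_option maxHeartbeats 1000000
set_option linter.style.haveILetI false
set_option linter.unusedSectionVars false

universe u
open CategoryTheory CategoryTheory.Limits AlgebraicGeometry TopologicalSpace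

namespace Groth.Agent.Lead.NerFlat

open Groth.Agent.Lead.NerStalk
open Groth.Agent.Helper7.StalkLim Groth.Agent.Helper7.LimBC

variable {S S' : Scheme.{u}} [IsLocallyNoetherian S] (gS : S' ⟶ S) [Flat gS] [Surjective gS]
  (U : S.Opens) (hU : CInt.IsSchematicallyDense U)
  (N : Over S) [Smooth N.hom] [IsSeparated N.hom]

include hU in
/-- local extension at a point -/
theorem exists_local_ext
    (hCS' : ∀ {Y' : Scheme.{u}} (q : Y' ⟶ S'), Smooth q →
      CS (gS ⁻¹ᵁ U) ((Over.pullback gS).obj N) q)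
    {Y Q : Scheme.{u}} (p : Y ⟶ S) [Smooth p] {a : Q ⟶ Y} {b : Q ⟶ (U : Scheme.{u})}
    (hQ : IsPullback a b p U.ι) (ψ₀ : Q ⟶ N.left) (hψ₀ : ψ₀ ≫ N.hom = a ≫ p) (x : Y) :
    ∃ (O : Y.Opens) (φ : (O : Scheme.{u}) ⟶ N.left), x ∈ O ∧ φ ≫ N.hom = O.ι ≫ p ∧
      (a ∣_ O) ≫ φ = (a ⁻¹ᵁ O).ι ≫ ψ₀ := by
  obtain ⟨s', hs'⟩ := ‹Surjective gS›.surj (p x)
  obtain ⟨W⟩ := (inferInstance : Nonempty (Nb S (gS s')))
  have hxW : x ∈ p ⁻¹ᵁ W.1 := by
    show p x ∈ W.1
    rw [← hs']
    exact W.2.2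
  obtain ⟨V₀, hV₀, hxV₀, hV₀W⟩ : ∃ V : Y.Opens, V ∈ Y.affineOpens ∧ x ∈ V ∧ V ≤ p ⁻¹ᵁ W.1 :=
    Opens.isBasis_iff_nbhd.mp Y.isBasis_affineOpens hxW
  haveI : IsAffine (V₀ : Scheme.{u}) := hV₀
  let y : (V₀ : Scheme.{u}) ⟶ (nbDiag S (gS s')).obj W := p.resLE W.1 V₀ hV₀W
  have hy : y ≫ W.1.ι = V₀.ι ≫ p := Scheme.Hom.resLE_comp_ι p hV₀W
  haveI : Smooth y := IsZariskiLocalAtSource.resLE hV₀W ‹Smooth p›
  haveI : Flat y := inferInstance
  have hpY : pY W y = V₀.ι ≫ p := hy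
  haveI : Smooth (pY W y) := by rw [hpY]; infer_instance
  -- finiteness
  haveI : IsLocallyNoetherian ((nbDiag S (gS s')).obj W) :=
    (inferInstance : IsLocallyNoetherian (W.1 : Scheme.{u}))
  haveI : IsLocallyNoetherian (V₀ : Scheme.{u}) := LocallyOfFiniteType.isLocallyNoetherian y
  haveI : IsNoetherian (V₀ : Scheme.{u}) := {}
  haveI : CompactSpace (OY W y U) :=
    isCompact_iff_compactSpace.mp (NoetherianSpace.isCompact _)
  haveI : QuasiSeparatedSpace (OY W y U) := inferInstance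
  haveI : QuasiCompact U.ι := inferInstance
  haveI : LocallyOfFinitePresentation N.hom := inferInstance
  -- the morphism on the part over `U` of the chart
  have hpb : IsPullback (OY W y U).ι (pY W y ∣_ U) (pY W y) U.ι :=
    (isPullback_morphismRestrict (pY W y) U).flip
  have hc : ((OY W y U).ι ≫ V₀.ι) ≫ p = (pY W y ∣_ U) ≫ U.ι := by
    rw [Category.assoc, ← hpY, morphismRestrict_ι]
  let c := hQ.lift ((OY W y U).ι ≫ V₀.ι) (pY W y ∣_ U) hc
  have hc1 : c ≫ a = (OY W y U).ι ≫ V₀.ι := hQ.lift_fst _ _ _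
  have hc2 : c ≫ b = pY W y ∣_ U := hQ.lift_snd _ _ _
  let ψ := c ≫ ψ₀
  have hψ : ψ ≫ N.hom = (OY W y U).ι ≫ pY W y := by
    rw [Category.assoc, hψ₀, ← Category.assoc, hc1, Category.assoc, hpY]
  -- extension after base change
  obtain ⟨φ'', h1, hD⟩ := exists_ext_baseChange gS (pY W y)
    (hCS' (pullback.snd (pY W y) gS) inferInstance) ψ hψ
  -- descent to the local scheme
  let P := pullback y ((nbCone S (gS s')).π.app W)
  have hP : IsPullback (pullback.fst y ((nbCone S (gS s')).π.app W))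
      (pullback.snd y ((nbCone S (gS s')).π.app W)) y ((nbCone S (gS s')).π.app W) :=
    IsPullback.of_hasPullback _ _
  obtain ⟨φ, hφ1, hφ2⟩ := exists_descended gS s' hU W y hP ψ φ'' h1 hD
  -- spreading out
  obtain ⟨k, φk, hφk1, hφk2⟩ := exists_stage_extension W y hP φ hφ1 ψ hψ hφ2
  -- the open neighbourhood
  let jk : Yk W y k ⟶ Y := pullback.fst y ((nbDiag S (gS s')).map k.hom) ≫ V₀.ι
  haveI : IsOpenImmersion (pullback.fst y ((nbDiag S (gS s')).map k.hom)) :=
    MorphismProperty.pullback_fst _ _ (inferInstance : IsOpenImmersion ((nbDiag S (gS s')).map k.hom))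
  haveI : IsOpenImmersion jk := inferInstance
  let O : Y.Opens := jk.opensRange
  let e : Yk W y k ≅ (O : Scheme.{u}) := jk.isoOpensRange
  have he : e.hom ≫ O.ι = jk := jk.isoOpensRange_hom_ι
  have he' : e.inv ≫ jk = O.ι := by rw [← he, Iso.inv_hom_id_assoc]
  have hpk : e.inv ≫ pk W y k = O.ι ≫ p := by
    change e.inv ≫ (pullback.fst y ((nbDiag S (gS s')).map k.hom) ≫ pY W y) = _
    rw [hpY, ← he']
    simp only [jk, Category.assoc]
  refine ⟨O, e.inv ≫ φk, ?_, ?_, ?_⟩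
  · -- x ∈ O
    have hsk : gS s' ∈ k.left.1 := k.left.2.2
    let x₀ : (V₀ : Scheme.{u}) := ⟨x, hxV₀⟩
    let wk : (nbDiag S (gS s')).obj k.left := ⟨gS s', hsk⟩
    have hyw : y x₀ = (nbDiag S (gS s')).map k.hom wk := by
      apply W.1.ι.isOpenEmbedding.injective
      have e1 : W.1.ι (y x₀) = (y ≫ W.1.ι) x₀ := rfl
      have e2 : W.1.ι (((nbDiag S (gS s')).map k.hom) wk) =
          ((nbDiag S (gS s')).map k.hom ≫ W.1.ι) wk := rfl
      rw [e1, e2, hy, nbDiag_map_ι]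
      change p x = gS s'
      exact hs'.symm
    obtain ⟨z, hz, -⟩ := Scheme.Pullback.exists_preimage_pullback x₀ wk hyw
    refine ⟨z, ?_⟩
    show (pullback.fst y ((nbDiag S (gS s')).map k.hom) ≫ V₀.ι) z = x
    rw [Scheme.Hom.comp_apply, hz]
    rfl
  · rw [Category.assoc, hφk1, hpk]
  · -- compatibility on the part over `U`
    let M := a ⁻¹ᵁ O
    have hμ : ((a ∣_ O) ≫ e.inv) ≫ pk W y k = (M.ι ≫ b) ≫ U.ι := by
      rw [Category.assoc, hpk, ← Category.assoc, morphismRestrict_ι, Category.assoc, hQ.w,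
        Category.assoc]
    let μ := (isPullback_ak W y U k).lift ((a ∣_ O) ≫ e.inv) (M.ι ≫ b) hμ
    have hμ1 : μ ≫ ak W y U k = (a ∣_ O) ≫ e.inv := (isPullback_ak W y U k).lift_fst _ _ _
    have hμ2 : μ ≫ (pullback.fst (aO W y U) ((nbDiag S (gS s')).map k.hom) ≫ (pY W y ∣_ U)) =
        M.ι ≫ b := (isPullback_ak W y U k).lift_snd _ _ _
    have hμc : (μ ≫ pullback.fst (aO W y U) ((nbDiag S (gS s')).map k.hom)) ≫ c = M.ι := by
      apply hQ.hom_ext
      · have h3 : μ ≫ pullback.fst (aO W y U) ((nbDiag S (gS s')).map k.hom) ≫ (OY W y U).ι =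
            ((a ∣_ O) ≫ e.inv) ≫ pullback.fst y ((nbDiag S (gS s')).map k.hom) := by
          rw [← ak_fst W y U k, ← Category.assoc, hμ1]
        have h4 : e.inv ≫ pullback.fst y ((nbDiag S (gS s')).map k.hom) ≫ V₀.ι = O.ι := he'
        calc ((μ ≫ pullback.fst (aO W y U) ((nbDiag S (gS s')).map k.hom)) ≫ c) ≫ a
            = (μ ≫ pullback.fst (aO W y U) ((nbDiag S (gS s')).map k.hom) ≫ (OY W y U).ι) ≫
                V₀.ι := by
              simp only [Category.assoc, hc1]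
          _ = ((a ∣_ O) ≫ e.inv) ≫ pullback.fst y ((nbDiag S (gS s')).map k.hom) ≫ V₀.ι := by
              rw [h3, Category.assoc]
          _ = (a ∣_ O) ≫ O.ι := by rw [Category.assoc, h4]
          _ = M.ι ≫ a := morphismRestrict_ι a O
      · rw [Category.assoc, hc2, Category.assoc, hμ2]
    calc (a ∣_ O) ≫ e.inv ≫ φk = ((a ∣_ O) ≫ e.inv) ≫ φk := (Category.assoc _ _ _).symm
      _ = (μ ≫ ak W y U k) ≫ φk := by rw [hμ1]
      _ = μ ≫ (pullback.fst (aO W y U) ((nbDiag S (gS s')).map k.hom) ≫ ψ) := by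
          rw [Category.assoc, hφk2]
      _ = ((μ ≫ pullback.fst (aO W y U) ((nbDiag S (gS s')).map k.hom)) ≫ c) ≫ ψ₀ := by
          simp only [ψ, Category.assoc]
      _ = (a ⁻¹ᵁ O).ι ≫ ψ₀ := by rw [hμc]

include hU in
theorem main13749
    (hN' : ∀ Y' : Over S', Smooth Y'.hom →
      Function.Bijective (fun f : Y' ⟶ (Over.pullback gS).obj N =>
        (Over.pullback (gS ⁻¹ᵁ U).ι).map f))
    (Y : Over S) [Smooth Y.hom] :
    Function.Bijective (fun f : Y ⟶ N => (Over.pullback U.ι).map f) := by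
  haveI : QuasiCompact U.ι := inferInstance
  have hCS' : ∀ {Y' : Scheme.{u}} (q : Y' ⟶ S'), Smooth q →
      CS (gS ⁻¹ᵁ U) ((Over.pullback gS).obj N) q :=
    fun q hq => CS_of_surjective (Over.mk q) (hN' (Over.mk q) hq).2
  have hflat : Flat Y.hom := inferInstance
  have hIY : CI U N Y.hom := CI_of_flat (N := N) hU Y.hom
  refine ⟨injective_of_CI Y hIY, surjective_of_CS Y ?_⟩
  intro Q a b hQ ψ hψ
  refine exists_glue_CI Y.hom (fun O => ?_) hQ ψ
    (fun x => exists_local_ext gS U hU N hCS' Y.hom hQ ψ hψ x)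
  haveI : Flat (O.ι ≫ Y.hom) := inferInstance
  have h : CI U N (O.ι ≫ Y.hom) := CI_of_flat (N := N) hU (O.ι ≫ Y.hom)
  exact @h

end Groth.Agent.Lead.NerFlat
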