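import Mathlib

set_option backward.isDefEq.respectTransparency.types false
set_option autoImplicit false
set_option synthInstance.maxHeartbeats 400000
set_option maxHeartbeats 1000000
set_option linter.style.haveILetI false
set_option linter.unusedSectionVars false
set_option linter.unusedSimpArgs false

universe v₁ v₂ u₁ u₂

open CategoryTheory CategoryTheory.Limits
open MonoidalCategory CartesianMonoidalCategory MonObj GrpObj Functor

namespace Groth.Agent.Lead.NerGrp

variable {C : Type u₁} [Category.{v₁} C] [CartesianMonoidalCategory C]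
  {D : Type u₂} [Category.{v₂} D] [CartesianMonoidalCategory D]
  (F : C ⥤ D) [F.Monoidal]

/-- pull back a group structure along a monoidal functor which is bijective on morphisms into
`N` from a class of objects closed under products and containing `N` -/
theorem nonempty_grpObj_of_bijective (N : C) [GrpObj (F.obj N)] (P : C → Prop)
    (hbij : ∀ Y, P Y → Function.Bijective (fun g : Y ⟶ N => F.map g))
    (h1 : P (𝟙_ C)) (hN : P N) (hten : ∀ X Y, P X → P Y → P (X ⊗ Y)) :
    Nonempty (GrpObj N) := by
  have hsurj : ∀ Y (hY : P Y) (g : F.obj Y ⟶ F.obj N), ∃ g' : Y ⟶ N, F.map g' = g :=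
    fun Y hY g => (hbij Y hY).2 g
  have hinj : ∀ Y (hY : P Y) (a b : Y ⟶ N), F.map a = F.map b → a = b :=
    fun Y hY a b h => (hbij Y hY).1 h
  obtain ⟨one, hone⟩ := hsurj _ h1 (OplaxMonoidal.η F ≫ η[F.obj N])
  obtain ⟨mul, hmul⟩ := hsurj _ (hten _ _ hN hN) (OplaxMonoidal.δ F N N ≫ μ[F.obj N])
  obtain ⟨inv, hinv⟩ := hsurj _ hN ι[F.obj N]
  let M : MonObj N :=
    { one := one
      mul := mul
      one_mul := hinj _ (hten _ _ h1 hN) _ _ <| by
        simp [hone, hmul, ← OplaxMonoidal.δ_natural_left_assoc]
      mul_one := hinj _ (hten _ _ hN h1) _ _ <| by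
        simp [hone, hmul, ← OplaxMonoidal.δ_natural_right_assoc]
      mul_assoc := hinj _ (hten _ _ (hten _ _ hN hN) hN) _ _ <| by
        simp [hone, hmul, ← OplaxMonoidal.δ_natural_left_assoc,
          ← OplaxMonoidal.δ_natural_right_assoc] }
  refine ⟨{ toMonObj := M, inv := inv, left_inv := ?_, right_inv := ?_ }⟩
  · apply hinj _ hN
    show F.map (lift inv (𝟙 N) ≫ mul) = F.map (toUnit N ≫ one)
    simp [hone, hmul, hinv, OplaxMonoidal.η_of_cartesianMonoidalCategory]
  · apply hinj _ hN
    show F.map (lift (𝟙 N) inv ≫ mul) = F.map (toUnit N ≫ one)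
    simp [hone, hmul, hinv, OplaxMonoidal.η_of_cartesianMonoidalCategory]

end Groth.Agent.Lead.NerGrp
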