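import Mathlib
import Groth.Agent.Lib.Lead.Weil5

set_option autoImplicit false
set_option backward.isDefEq.respectTransparency.types false
set_option synthInstance.maxHeartbeats 400000
set_option linter.style.haveILetI false
set_option linter.unusedSectionVars false

universe u

open CategoryTheory AlgebraicGeometry Limits TopologicalSpace MonoidalCategory
  CartesianMonoidalCategory MonObj

namespace Groth.Agent.Lead.Weil

/-- the local rings of the spectrum of a Dedekind domain are regular -/
theorem isRegularLocalRing_stalk_spec (R : Type u) [CommRing R] [IsDedekindDomain R]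
    (y : Spec (CommRingCat.of R)) :
    IsRegularLocalRing ((Spec (CommRingCat.of R)).presheaf.stalk y) := by
  haveI : (PrimeSpectrum.asIdeal y).IsPrime := PrimeSpectrum.isPrime y
  haveI : IsRegularLocalRing (Localization.AtPrime (PrimeSpectrum.asIdeal y)) :=
    IsRegularRing.isRegularLocalRing_localization (PrimeSpectrum.asIdeal y)
  exact IsRegularLocalRing.of_ringEquiv (StructureSheaf.stalkIso R y).toRingEquiv

/-- a smooth scheme over a Dedekind domain is regular -/
theorem regular_of_smooth_dedekind {R : Type u} [CommRing R] [IsDedekindDomain R] {X : Scheme.{u}}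
    (pX : X ⟶ Spec (CommRingCat.of R)) [Smooth pX] (x : X) :
    IsRegularLocalRing (X.presheaf.stalk x) :=
  regular_of_smooth_over_regular pX (isRegularLocalRing_stalk_spec R) x

/-- **Weil's extension theorem** over a Dedekind domain. -/
theorem weil_dedekind {R : Type u} [CommRing R] [IsDedekindDomain R] {X G : Scheme.{u}}
    (pX : X ⟶ Spec (CommRingCat.of R)) (pG : G ⟶ Spec (CommRingCat.of R)) [Smooth pX]
    [GrpObj (Over.mk pG)] [IsSeparated pG]
    (U : X.Opens) (hdense : ∀ x : X, x ∈ closure ((U : Set X) ∩ {y | pX y = pX x}))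
    (hcodim : ∀ x : X, x ∉ U → (2 : WithBot ℕ∞) ≤ ringKrullDim (X.presheaf.stalk x))
    (f : (U : Scheme.{u}) ⟶ G) (hf : f ≫ pG = U.ι ≫ pX) :
    ∃! g : X ⟶ G, g ≫ pG = pX ∧ U.ι ≫ g = f := by
  haveI : IsLocallyNoetherian X := LocallyOfFiniteType.isLocallyNoetherian pX
  exact weil_global pX pG U f hf (regular_of_smooth_dedekind pX)
    (regular_of_smooth_dedekind (pullback.fst pX pX ≫ pX)) hdense hcodim

end Groth.Agent.Lead.Weil
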