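import Mathlib
import Groth.Prelude.Def_Red
import Groth.Prelude.Def_Neron
import Groth.Agent.Lib.Lead.NerGrp1
import Groth.Agent.Lib.Lead.NerProp1
import Groth.Agent.S18483

set_option backward.isDefEq.respectTransparency.types false
set_option autoImplicit false
set_option synthInstance.maxHeartbeats 400000
set_option maxHeartbeats 1000000
set_option linter.style.haveILetI false
set_option linter.unusedSectionVars false
set_option linter.unusedSimpArgs false

universe u

open CategoryTheory CategoryTheory.Limits AlgebraicGeometry
open MonoidalCategory CartesianMonoidalCategory MonObj GrpObj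

namespace Groth.Agent.Lead.NerGrp

/-- a Néron model of a group scheme carries a group structure -/
theorem nonempty_grpObj_neron (R : Type u) [CommRing R] [IsDomain R]
    (A : Over (Spec (CommRingCat.of (FractionRing R)))) [GrpObj A]
    (N : Over (Spec (CommRingCat.of R))) (e : (Neron.genericFibre R).obj N ≅ A)
    (hN : Neron.IsNeronModelOf R N A e) : Nonempty (GrpObj N) := by
  letI : GrpObj ((Neron.genericFibre R).obj N) := GrpObj.ofIso e.symm
  refine nonempty_grpObj_of_bijective (Neron.genericFibre R) N (fun Y => Smooth Y.hom) ?_ ?_ hN.1 ?_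
  · intro Y hY
    have hb := hN.2.2.2.2 Y hY
    constructor
    · intro a b hab
      apply hb.1
      show (Neron.genericFibre R).map a ≫ e.hom = (Neron.genericFibre R).map b ≫ e.hom
      have hab' : (Neron.genericFibre R).map a = (Neron.genericFibre R).map b := hab
      rw [hab']
    · intro g
      obtain ⟨g', hg'⟩ := hb.2 (g ≫ e.hom)
      refine ⟨g', ?_⟩
      have hg'' : (Neron.genericFibre R).map g' ≫ e.hom = g ≫ e.hom := hg'
      exact (cancel_mono e.hom).1 hg''
  · show Smooth (𝟙 _)
    infer_instance
  · intro X Y hX hY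
    haveI := hX
    haveI := hY
    show Smooth (X ⊗ Y).hom
    rw [Over.tensorObj_hom]
    infer_instance

/-- factorization of the residue-field point at a point with zero ideal -/
theorem exists_factor_of_bot (R K : Type u) [CommRing R] [IsDomain R] [Field K]
    [Algebra R K] [IsFractionRing R K] (x : Spec (CommRingCat.of R)) (hbot : x.asIdeal = ⊥) :
    ∃ j : Spec ((Spec (CommRingCat.of R)).residueField x) ⟶ Spec (CommRingCat.of K),
      (Spec (CommRingCat.of R)).fromSpecResidueField x =
        j ≫ Spec.map (CommRingCat.ofHom (algebraMap R K)) := by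
  have hinj : Function.Injective (algebraMap R x.asIdeal.ResidueField) := by
    rw [injective_iff_map_eq_zero]
    intro a ha
    have := (Ideal.algebraMap_residueField_eq_zero (I := x.asIdeal)).1 ha
    rw [hbot] at this
    exact this
  let ψ : K →+* x.asIdeal.ResidueField := IsFractionRing.lift (A := R) (K := K) hinj
  have hψ : ψ.comp (algebraMap R K) = algebraMap R x.asIdeal.ResidueField := by
    apply RingHom.ext
    intro a
    rw [RingHom.comp_apply]
    exact IsFractionRing.lift_algebraMap hinj a
  obtain ⟨j, hj⟩ := Groth.Agent.Lead.NerProp.exists_factor R x K ψ hψ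
  exact ⟨j, hj⟩

/-- uniqueness of Néron models: properness transfers -/
theorem isProper_of_neron_of_neron (R : Type u) [CommRing R] [IsDomain R]
    (A : Over (Spec (CommRingCat.of (FractionRing R))))
    (N : Over (Spec (CommRingCat.of R))) (e : (Neron.genericFibre R).obj N ≅ A)
    (hN : Neron.IsNeronModelOf R N A e)
    (B : Over (Spec (CommRingCat.of R)))
    (hB : Neron.IsNeronModelOf R B ((Neron.genericFibre R).obj B) (Iso.refl _))
    (eB : (Neron.genericFibre R).obj B ≅ A) [IsProper B.hom] : IsProper N.hom := by
  obtain ⟨g, hg⟩ := (hN.2.2.2.2 B hB.1).2 eB.hom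
  obtain ⟨g', hg'⟩ := (hB.2.2.2.2 N hN.1).2 (e.hom ≫ eB.inv)
  have hg1 : (Neron.genericFibre R).map g ≫ e.hom = eB.hom := hg
  have hg2 : (Neron.genericFibre R).map g' ≫ 𝟙 _ = e.hom ≫ eB.inv := hg'
  rw [Category.comp_id] at hg2
  have h1 : g' ≫ g = 𝟙 N := by
    apply (hN.2.2.2.2 N hN.1).1
    show (Neron.genericFibre R).map (g' ≫ g) ≫ e.hom = (Neron.genericFibre R).map (𝟙 N) ≫ e.hom
    rw [Functor.map_comp, Category.assoc, hg1, hg2, Category.assoc, Iso.inv_hom_id,
      Category.comp_id, CategoryTheory.Functor.map_id, Category.id_comp]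
  have h2 : g ≫ g' = 𝟙 B := by
    apply (hB.2.2.2.2 B hB.1).1
    show (Neron.genericFibre R).map (g ≫ g') ≫ 𝟙 _ = (Neron.genericFibre R).map (𝟙 B) ≫ 𝟙 _
    have hg3 : (Neron.genericFibre R).map g = eB.hom ≫ e.inv := by
      rw [← hg1, Category.assoc, Iso.hom_inv_id, Category.comp_id]
    rw [Functor.map_comp, hg3, hg2, CategoryTheory.Functor.map_id]
    simp
  haveI : IsIso g' := ⟨g, h1, h2⟩
  haveI : IsIso g'.left := inferInstanceAs (IsIso ((Over.forget _).map g'))
  rw [← Over.w g']
  infer_instance

theorem main3211 (R : Type u) [CommRing R] [IsDomain R] [IsDiscreteValuationRing R]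
    (A : Over (Spec (CommRingCat.of (FractionRing R)))) [GrpObj A] [IsProper A.hom]
    [GeometricallyIntegral A.hom]
    (N : Over (Spec (CommRingCat.of R))) (e : (Neron.genericFibre R).obj N ≅ A)
    (hN : Neron.IsNeronModelOf R N A e) :
    (∃ (B : Over (Spec (CommRingCat.of R))) (_ : GrpObj B), IsProper B.hom ∧ Smooth B.hom ∧
        (∀ (k' : Type u) [Field k'] (t : Spec (CommRingCat.of k') ⟶ Spec (CommRingCat.of R)),
          ConnectedSpace ↑(pullback B.hom t)) ∧
        Nonempty ((Over.pullback (Spec.map (CommRingCat.ofHom
          (algebraMap R (FractionRing R))))).obj B ≅ A)) ↔ IsProper N.hom := by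
  constructor
  · rintro ⟨B, instB, hBp, hBs, -, ⟨eB⟩⟩
    haveI := hBp
    haveI := hBs
    exact isProper_of_neron_of_neron R A N e hN B (Groth.Agent.S18483.result R B) eB
  · intro hp
    haveI := hp
    obtain ⟨instN⟩ := nonempty_grpObj_neron R A N e hN
    haveI : Smooth N.hom := hN.1
    haveI : Flat N.hom := inferInstance
    haveI : LocallyOfFiniteType N.hom := inferInstance
    refine ⟨N, instN, hp, hN.1, ?_, ⟨e⟩⟩
    -- the generic fibre is geometrically connected
    haveI hgc : GeometricallyConnected ((Neron.genericFibre R).obj N).hom := by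
      haveI : GeometricallyConnected A.hom :=
        Groth.Agent.Lead.NerProp.geometricallyConnected_of_geometricallyIrreducible _
      rw [← Over.w e.hom]
      haveI : IsIso e.hom.left := inferInstanceAs (IsIso ((Over.forget _).map e.hom))
      exact (MorphismProperty.cancel_left_of_respectsIso @GeometricallyConnected _ _).2
        inferInstance
    have hgen : ∀ x : Spec (CommRingCat.of R), x.asIdeal = ⊥ →
        GeometricallyConnected (N.hom.fiberToSpecResidueField x) := by
      intro x hx
      obtain ⟨j, hj⟩ := exists_factor_of_bot R (FractionRing R) x hx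
      exact Groth.Agent.Lead.NerProp.snd_of_factor N.hom
        (Spec.map (CommRingCat.ofHom (algebraMap R (FractionRing R)))) j _ hj
        @GeometricallyConnected hgc
    -- the closed fibre
    haveI : IsProper (N.hom.fiberToSpecResidueField (IsLocalRing.closedPoint R)) :=
      MorphismProperty.pullback_snd _ _ hp
    haveI : GeometricallyConnected (N.hom.fiberToSpecResidueField
        (genericPoint ↥(Spec (CommRingCat.of R)))) := by
      apply hgen
      rw [genericPoint_eq_bot_of_affine (CommRingCat.of R)]; rfl
    haveI : Nonempty ↥(N.hom.fiber (IsLocalRing.closedPoint R)) := by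
      have hx : N.hom (Groth.Agent.Helper2.GrpFibreDim.unitSec N (IsLocalRing.closedPoint R)) =
          IsLocalRing.closedPoint R := Groth.Agent.Helper2.GrpFibreDim.hom_unitSec N _
      exact ⟨(N.hom.fiberHomeo (IsLocalRing.closedPoint R)).symm ⟨_, hx⟩⟩
    have hcl := (Groth.Agent.Lib.Helper4.HensProper3.S19653_main R N.left N.hom).2
    have hall : GeometricallyConnected N.hom := by
      rw [GeometricallyConnected.iff_geometricallyConnected_fiber]
      intro x
      by_cases hx : x.asIdeal = ⊥
      · exact hgen x hx
      · have hmax : x.asIdeal.IsMaximal := Ring.DimensionLEOne.maximalOfPrime hx x.isPrime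
        have hx' : x = IsLocalRing.closedPoint R :=
          PrimeSpectrum.ext (IsLocalRing.eq_maximalIdeal hmax)
        rw [hx']
        exact hcl
    intro k' _ t
    exact GeometricallyConnected.geometrically_connectedSpace t _ _
      (IsPullback.of_hasPullback N.hom t)

end Groth.Agent.Lead.NerGrp
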