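import Mathlib
import Groth.Prelude.Def_Red
import Groth.Prelude.Def_Neron
import Groth.Prelude.Def_SGA7IX
import Groth.Agent.Lib.Lead.NerIsog1
import Groth.Agent.Lib.Lead.NerIsog2
import Groth.Agent.Lib.Helper2.Sch.GrpHomBase
import Groth.Agent.Lib.Helper2.Sch.GrpHomAS
import Groth.Agent.Lib.Helper2.Sch.Reduced

set_option backward.isDefEq.respectTransparency.types false
set_option autoImplicit false
set_option synthInstance.maxHeartbeats 400000
set_option maxHeartbeats 1000000
set_option linter.style.haveILetI false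
set_option linter.unusedSectionVars false
set_option linter.unusedSimpArgs false

universe u

open CategoryTheory CategoryTheory.Limits AlgebraicGeometry
open MonoidalCategory CartesianMonoidalCategory MonObj GrpObj
open Groth.Agent.Helper2.GrpHom Groth.Agent.Helper2.FlatPt

namespace Groth.Agent.Lead.NerIsog

/-- the fibre map of the critère de platitude par fibres is the morphism on fibres -/
theorem fiberMap_eq' {S : Scheme.{u}} {H : Over S} {X : Scheme.{u}} (f₀ : X ⟶ H.left) (s : S) :
    MoreMor.fiberMap f₀ H.hom s =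
      (fibHom (Over.homMk f₀ rfl : Over.mk (f₀ ≫ H.hom) ⟶ H) s).left := by
  apply pullback.hom_ext
  · rw [MoreMor.fiberMap, pullback.lift_fst]
    exact (fibHom_left_fst (Over.homMk f₀ rfl : Over.mk (f₀ ≫ H.hom) ⟶ H) s).symm
  · rw [MoreMor.fiberMap, pullback.lift_snd]
    exact (fibHom_left_snd (Over.homMk f₀ rfl : Over.mk (f₀ ≫ H.hom) ⟶ H) s).symm

/-- critère de platitude par fibres, for `Over` morphisms: auxiliary form -/
theorem flat_of_flat_fibHom_aux {S : Scheme.{u}} {H : Over S} {X : Scheme.{u}} (f₀ : X ⟶ H.left)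
    [Flat (f₀ ≫ H.hom)] [LocallyOfFinitePresentation (f₀ ≫ H.hom)] [LocallyOfFiniteType H.hom]
    (h : ∀ s : S, Flat (fibHom (Over.homMk f₀ rfl : Over.mk (f₀ ≫ H.hom) ⟶ H) s).left) :
    Flat f₀ := by
  rw [flat_iff_forall_flatAt]
  intro x
  have key := (Groth.Agent.S1386.result f₀ H.hom).1 x
  refine (key.1 ⟨Flat.stalkMap (f₀ ≫ H.hom) x, ?_⟩).2
  have e : MoreMor.fiberMap f₀ H.hom (H.hom (f₀ x)) =
      (fibHom (Over.homMk f₀ rfl : Over.mk (f₀ ≫ H.hom) ⟶ H) (H.hom (f₀ x))).left :=
    fiberMap_eq' f₀ _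
  rw [e]
  exact (flat_iff_forall_flatAt _).1 (h _) _

/-- critère de platitude par fibres, for `Over` morphisms -/
theorem flat_of_flat_fibHom {S : Scheme.{u}} {G H : Over S} (u : G ⟶ H)
    [Flat G.hom] [LocallyOfFinitePresentation G.hom] [LocallyOfFiniteType H.hom]
    (h : ∀ s : S, Flat (fibHom u s).left) : Flat u.left := by
  obtain ⟨X, ⟨⟨⟩⟩, gX⟩ := G
  obtain ⟨f₀, hw, hu⟩ : ∃ (f₀ : X ⟶ H.left) (hw : f₀ ≫ H.hom = gX),
      u = Over.homMk f₀ hw := ⟨u.left, Over.w u, by ext; rfl⟩
  subst hu
  subst hw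
  exact @flat_of_flat_fibHom_aux S H X f₀ ‹_› ‹_› ‹_› h

/-- the fibres of two Néron models related by a generic isogeny have the same dimension -/
theorem tdim_fibres_eq (R : Type u) [CommRing R] [IsDomain R]
    (A B : Over (Spec (CommRingCat.of R))) [GrpObj A] [GrpObj B]
    [Smooth A.hom] [Smooth B.hom]
    [IsProper ((Neron.genericFibre R).obj A).hom] [IsProper ((Neron.genericFibre R).obj B).hom]
    (φ : A ⟶ B) [IsMonHom φ] (hφ : SGA7.IsIsogenyOver ((Neron.genericFibre R).map φ))
    (s : Spec (CommRingCat.of R)) :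
    topologicalKrullDim ↥(A.hom.fiber s) = topologicalKrullDim ↥(B.hom.fiber s) := by
  haveI : IsPreimmersion (Neron.genPt R) :=
    IsPreimmersion.of_isLocalization (nonZeroDivisors R)
  let pt : ↥(Spec (CommRingCat.of (FractionRing R))) := IsLocalRing.closedPoint (FractionRing R)
  have hT : ∀ t' : ↥(Spec (CommRingCat.of (FractionRing R))), t' = pt := fun t' =>
    Subsingleton.elim (α := PrimeSpectrum (FractionRing R)) t' pt
  have hA := tdim_pullback_point A.hom (Neron.genPt R) pt hT
  have hB := tdim_pullback_point B.hom (Neron.genPt R) pt hT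
  haveI : LocallyOfFiniteType ((Neron.genericFibre R).obj A).hom := inferInstance
  haveI : LocallyOfFiniteType ((Neron.genericFibre R).obj B).hom := inferInstance
  haveI : IsProper ((Neron.genericFibre R).map φ).left :=
    isProper_left ((Neron.genericFibre R).map φ)
  have hK := tdim_eq_of_isogeny (FractionRing R) _ _ ((Neron.genericFibre R).map φ) hφ
  rw [tdim_fiber, tdim_fiber, tdim_fibre_const R A s (Neron.genPt R pt),
    tdim_fibre_const R B s (Neron.genPt R pt), ← hA, ← hB]
  exact hK

theorem main18489 (R : Type u) [CommRing R]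
    [IsDedekindDomain R] (A B : Over (Spec (CommRingCat.of R))) [GrpObj A] [GrpObj B]
    (hA : Neron.IsNeronModelOf R A ((Neron.genericFibre R).obj A) (Iso.refl _))
    (hB : Neron.IsNeronModelOf R B ((Neron.genericFibre R).obj B) (Iso.refl _))
    [IsProper ((Neron.genericFibre R).obj A).hom]
    [IsProper ((Neron.genericFibre R).obj B).hom]
    (φ : A ⟶ B) [IsMonHom φ] (hφ : SGA7.IsIsogenyOver ((Neron.genericFibre R).map φ)) :
    LocallyQuasiFinite φ.left ↔ Flat φ.left := by
  haveI : Smooth A.hom := hA.1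
  haveI : Smooth B.hom := hB.1
  haveI : LocallyOfFiniteType A.hom := inferInstance
  haveI : LocallyOfFiniteType B.hom := inferInstance
  haveI : LocallyOfFiniteType (φ.left ≫ B.hom) := by rw [Over.w φ]; infer_instance
  haveI : LocallyOfFiniteType φ.left := locallyOfFiniteType_of_comp φ.left B.hom
  have hdim := tdim_fibres_eq R A B φ hφ
  have hl : ∀ s, LocallyOfFiniteType (fibObj A s).hom ∧ LocallyOfFiniteType (fibObj B s).hom ∧
      Smooth (fibObj B s).hom := fun s =>
    ⟨MorphismProperty.pullback_snd _ _ inferInstance,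
      MorphismProperty.pullback_snd _ _ inferInstance,
      MorphismProperty.pullback_snd _ _ inferInstance⟩
  constructor
  · intro hq
    apply flat_of_flat_fibHom φ
    intro s
    obtain ⟨i1, i2, i3⟩ := hl s
    haveI : LocallyQuasiFinite (fibHom φ s).left :=
      MorphismProperty.of_isPullback (P := @LocallyQuasiFinite) (isPullback_fibHom φ s) hq
    haveI : IsReduced (fibObj B s).left :=
      Groth.Agent.Helper2.SchLib.isReduced_of_smooth (fibObj B s).hom
    exact flat_of_lqf_of_dim_eq _ (fibObj A s) (fibObj B s) (fibHom φ s) (hdim s)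
  · intro hf
    apply lqf_of_fibHom
    intro s
    obtain ⟨i1, i2, i3⟩ := hl s
    haveI : Flat (fibHom φ s).left :=
      MorphismProperty.of_isPullback (P := @Flat) (isPullback_fibHom φ s) hf
    exact lqf_of_flat_of_dim_eq (fibHom φ s) (hdim s)

end Groth.Agent.Lead.NerIsog
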