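import Mathlib
import Groth.Prelude.Def_Red
import Groth.Prelude.Def_Neron
import Groth.Prelude.Def_SGA7IX
import Groth.Prelude.Def_AlgGrp
import Groth.Agent.Lib.Lead.NerIsog3
import Groth.Agent.Lib.Lead.FinZMT2
import Groth.Agent.Lib.Helper4.GrpKer2

/-!
# Kernel of a flat isogeny of Néron models: quasi-finite, flat, affine; finite if proper (lead)
-/

set_option backward.isDefEq.respectTransparency.types false
set_option autoImplicit false
set_option synthInstance.maxHeartbeats 400000
set_option maxHeartbeats 1000000
set_option linter.style.haveILetI false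
set_option linter.unusedSectionVars false
set_option linter.unusedSimpArgs false

universe u

open CategoryTheory CategoryTheory.Limits AlgebraicGeometry
open MonoidalCategory CartesianMonoidalCategory MonObj GrpObj
open Groth.Agent.Lib.Helper4.GrpKer1 Groth.Agent.Lib.Helper4.GrpKer2

namespace Groth.Agent.Lead.NerKer

theorem main18493 (R : Type u) [CommRing R]
    [IsDedekindDomain R] (A B : Over (Spec (CommRingCat.of R))) [GrpObj A] [GrpObj B]
    (hA : Neron.IsNeronModelOf R A ((Neron.genericFibre R).obj A) (Iso.refl _))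
    (hB : Neron.IsNeronModelOf R B ((Neron.genericFibre R).obj B) (Iso.refl _))
    [IsProper ((Neron.genericFibre R).obj A).hom]
    [IsProper ((Neron.genericFibre R).obj B).hom]
    (φ : A ⟶ B) [IsMonHom φ] (hφ : SGA7.IsIsogenyOver ((Neron.genericFibre R).map φ))
    [Flat φ.left]
    (N : Over (Spec (CommRingCat.of R))) (i : N ⟶ A) (hN : AlgGrp.IsKernel i φ) :
    (LocallyQuasiFinite N.hom ∧ QuasiCompact N.hom ∧ Flat N.hom ∧ IsAffineHom N.hom) ∧
    (IsProper A.hom → IsFinite N.hom) := by
  haveI : LocallyQuasiFinite φ.left :=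
    (Groth.Agent.Lead.NerIsog.main18489 R A B hA hB φ hφ).mpr inferInstance
  have hK : IsKer i φ := hN
  have hpb : IsPullback i.left N.hom φ.left η[B].left := isKer_isPullback_left hK
  haveI : IsSeparated A.hom := hA.2.1
  haveI : IsSeparated B.hom := hB.2.1
  haveI : LocallyOfFiniteType A.hom := hA.2.2.1
  haveI : QuasiCompact A.hom := hA.2.2.2.1
  haveI : IsSeparated (φ.left ≫ B.hom) := by rw [Over.w φ]; infer_instance
  haveI : IsSeparated φ.left := IsSeparated.of_comp φ.left B.hom
  haveI : LocallyOfFiniteType (φ.left ≫ B.hom) := by rw [Over.w φ]; infer_instance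
  haveI : LocallyOfFiniteType φ.left := locallyOfFiniteType_of_comp φ.left B.hom
  haveI : QuasiCompact (φ.left ≫ B.hom) := by rw [Over.w φ]; infer_instance
  haveI : QuasiCompact φ.left := QuasiCompact.of_comp φ.left B.hom
  haveI hlqf : LocallyQuasiFinite N.hom := isKer_prop_hom hK @LocallyQuasiFinite inferInstance
  haveI hqc : QuasiCompact N.hom := isKer_prop_hom hK @QuasiCompact inferInstance
  haveI hfl : Flat N.hom := isKer_prop_hom hK @Flat inferInstance
  haveI hsep : IsSeparated N.hom := isKer_prop_hom hK @IsSeparated inferInstance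
  haveI hlft : LocallyOfFiniteType N.hom := isKer_prop_hom hK @LocallyOfFiniteType inferInstance
  have hdim : ringKrullDim R ≤ 1 := Ring.krullDimLE_iff.mp inferInstance
  haveI : IsAffine N.left := Groth.Agent.Lead.FinZMT.isAffine_of_lqf_sep hdim N.hom
  refine ⟨⟨hlqf, hqc, hfl, isAffineHom_of_isAffine _⟩, ?_⟩
  intro hprop
  have hηB : η[B].left ≫ B.hom = 𝟙 _ := Over.w η[B]
  haveI : IsClosedImmersion (η[B].left ≫ B.hom) := by
    rw [hηB]; exact inferInstanceAs (IsClosedImmersion (𝟙 _))
  haveI : IsClosedImmersion η[B].left := IsClosedImmersion.of_comp η[B].left B.hom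
  haveI : IsClosedImmersion i.left :=
    MorphismProperty.of_isPullback (P := @IsClosedImmersion) hpb.flip inferInstance
  haveI : IsProper (i.left ≫ A.hom) := inferInstance
  haveI : IsProper N.hom := by
    have := Over.w i
    rw [← this]; infer_instance
  exact IsFinite.of_isProper_of_locallyQuasiFinite N.hom

end Groth.Agent.Lead.NerKer
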