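import Mathlib
import Groth.Prelude.Def_Red
import Groth.Prelude.Def_SGA7IX
import Groth.Agent.Lib.Lead.NeutF1
import Groth.Agent.Lib.Lead.NerTor2
import Groth.Agent.Lib.Helper7.SmoothSection
import Groth.Agent.Lib.Helper4.SepPtsDense1
import Groth.Agent.Lib.Helper4.NeutralSet1
import Groth.Agent.Lib.Helper2.Sch.GrpHomDominant

/-!
# Divisibility of the sections meeting the identity component of a smooth commutative group scheme
over a strictly henselian local ring (lead)
-/

set_option backward.isDefEq.respectTransparency.types false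
set_option autoImplicit false
set_option synthInstance.maxHeartbeats 400000
set_option maxHeartbeats 1000000
set_option linter.style.haveILetI false
set_option linter.unusedSectionVars false
set_option linter.unusedSimpArgs false

universe u

open CategoryTheory CategoryTheory.Limits AlgebraicGeometry
open MonoidalCategory CartesianMonoidalCategory MonObj GrpObj

namespace Groth.Agent.Lead.NerTor

theorem image_connectedComponent_of_isEmbedding {Y X : Type*} [TopologicalSpace Y]
    [TopologicalSpace X] (g : Y → X) (hg : Topology.IsEmbedding g) (a : Y) :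
    g '' connectedComponent a = connectedComponentIn (Set.range g) (g a) := by
  apply Set.Subset.antisymm
  · exact (isPreconnected_connectedComponent.image g
      hg.continuous.continuousOn).subset_connectedComponentIn
      ⟨a, mem_connectedComponent, rfl⟩ (Set.image_subset_range _ _)
  · intro b hb
    have hD : connectedComponentIn (Set.range g) (g a) ⊆ Set.range g :=
      connectedComponentIn_subset _ _
    have himg : g '' (g ⁻¹' connectedComponentIn (Set.range g) (g a)) =
        connectedComponentIn (Set.range g) (g a) := Set.image_preimage_eq_of_subset hD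
    have hpre : _root_.IsPreconnected (g ⁻¹' connectedComponentIn (Set.range g) (g a)) := by
      rw [← hg.isInducing.isPreconnected_image, himg]
      exact isPreconnected_connectedComponentIn
    have ha : a ∈ g ⁻¹' connectedComponentIn (Set.range g) (g a) :=
      mem_connectedComponentIn ⟨a, rfl⟩
    have hsub := hpre.subset_connectedComponent ha
    obtain ⟨c, rfl⟩ := hD hb
    exact ⟨c, hsub hb, rfl⟩

theorem isMonHom_pow {C : Type*} [Category C] [CartesianMonoidalCategory C] [BraidedCategory C]
    (G : C) [GrpObj G] [IsCommMonObj G] (n : ℕ) :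
    IsMonHom ((𝟙 G : G ⟶ G) ^ n) := by
  induction n with
  | zero => rw [pow_zero, Hom.one_def]; infer_instance
  | succ n ih => rw [pow_succ, Hom.mul_def]; infer_instance

open Groth.Agent.Lib.Helper4.AbSchMulEtale1 in
theorem exists_root (R : Type u) [CommRing R] [IsLocalRing R] [HenselianLocalRing R]
    [IsSepClosed (IsLocalRing.ResidueField R)]
    (N : Over (Spec (CommRingCat.of R))) [GrpObj N] [IsCommMonObj N] [Smooth N.hom]
    [QuasiCompact N.hom] (n : ℕ) (hét : Etale ((𝟙 N : N ⟶ N) ^ n).left)
    (z : 𝟙_ (Over (Spec (CommRingCat.of R))) ⟶ N) (hz : z ∈ SGA7.secUnitComp R N) :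
    ∃ w : 𝟙_ (Over (Spec (CommRingCat.of R))) ⟶ N, w ∈ SGA7.secUnitComp R N ∧ w ^ n = z := by
  let k := IsLocalRing.ResidueField R
  let q : Spec (CommRingCat.of k) ⟶ Spec (CommRingCat.of R) :=
    Spec.map (CommRingCat.ofHom (IsLocalRing.residue R))
  let pt : ↥(Spec (CommRingCat.of k)) := IsLocalRing.closedPoint k
  have hq : q pt = IsLocalRing.closedPoint R := by
    haveI : IsLocalHom (IsLocalRing.residue R) := by
      show IsLocalHom (IsLocalRing.residue R); infer_instance
    exact AlgebraicGeometry.Spec_closedPoint (f := CommRingCat.ofHom (IsLocalRing.residue R))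
  have hsub : ∀ t : ↥(Spec (CommRingCat.of k)), t = pt := fun t =>
    Subsingleton.elim (α := PrimeSpectrum k) t pt
  let Nk : Over (Spec (CommRingCat.of k)) := Red.bc q N
  let π : Nk.left ⟶ N.left := pullback.fst N.hom q
  let p : Nk.left ⟶ Spec (CommRingCat.of k) := pullback.snd N.hom q
  let f : N.left ⟶ N.left := ((𝟙 N : N ⟶ N) ^ n).left
  let uk : Nk ⟶ Nk := (𝟙 Nk) ^ n
  have huk : (Over.pullback q).map ((𝟙 N : N ⟶ N) ^ n) = uk := by
    have h0 := map_id_zpow (Over.pullback q) N (n : ℤ)
    rw [zpow_natCast, zpow_natCast] at h0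
    exact h0
  have hsq : IsPullback uk.left π π f := by
    rw [← huk]; exact isPullback_map_left q ((𝟙 N : N ⟶ N) ^ n)
  haveI hetk : Etale uk.left := MorphismProperty.of_isPullback (P := @Etale) hsq.flip hét
  haveI : IsMonHom uk := isMonHom_pow Nk n
  haveI : LocallyOfFiniteType Nk.hom :=
    inferInstanceAs (LocallyOfFiniteType (pullback.snd N.hom q))
  obtain ⟨G₀, H₀, instG, instH, iG, iH, φ, hiG, hiH, hφ, hoG, hoH, hcomm, hrG, hrH, hirr, hcpt,
    hlftG, hlftH⟩ := Groth.Agent.Lead.Neut.exists_neutral_hom k Nk Nk uk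
  -- the k-point of the special fibre induced by z
  have hzw : (q ≫ z.left) ≫ N.hom = 𝟙 _ ≫ q := by
    rw [Category.assoc, Over.w z, Category.id_comp]
    exact Category.comp_id q
  let z₀ : Spec (CommRingCat.of k) ⟶ Nk.left := pullback.lift (q ≫ z.left) (𝟙 _) hzw
  have hz₀π : z₀ ≫ π = q ≫ z.left := pullback.lift_fst _ _ _
  have hz₀p : z₀ ≫ p = 𝟙 _ := pullback.lift_snd _ _ _
  let ek : Nk.left := η[Nk].left pt
  have hπe : π ek = η[N].left (IsLocalRing.closedPoint R) := by
    have h1 := Groth.Agent.Lib.Helper4.NeutralSet1.eta_bc_fst q N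
    show π (η[Nk].left pt) = _
    rw [← Scheme.Hom.comp_apply, h1, Scheme.Hom.comp_apply, hq]
  haveI : IsClosedImmersion q :=
    IsClosedImmersion.spec_of_surjective _ IsLocalRing.residue_surjective
  haveI : IsClosedImmersion π := MorphismProperty.pullback_fst _ _ inferInstance
  have hemb : Topology.IsEmbedding π := π.isClosedEmbedding.isEmbedding
  have hrange : Set.range π = SGA7.specialFibreSet R N := by
    rw [Scheme.Pullback.range_fst]
    have : Set.range q = {IsLocalRing.closedPoint R} := by
      ext y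
      constructor
      · rintro ⟨t, rfl⟩
        rw [hsub t, hq]; rfl
      · intro hy
        exact ⟨pt, by rw [hq]; exact hy.symm⟩
    rw [this]
    rfl
  have hC : π '' connectedComponent ek =
      connectedComponentIn (SGA7.specialFibreSet R N)
        (η[N].left (IsLocalRing.closedPoint R)) := by
    rw [image_connectedComponent_of_isEmbedding π hemb ek, hrange, hπe]
  have hz₀mem : z₀ pt ∈ connectedComponent ek := by
    have h1 : π (z₀ pt) ∈ π '' connectedComponent ek := by
      rw [hC, ← Scheme.Hom.comp_apply, hz₀π, Scheme.Hom.comp_apply, hq]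
      exact hz
    obtain ⟨c, hc, hcc⟩ := h1
    rw [hemb.injective hcc] at hc
    exact hc
  -- lift z₀ through the neutral component
  letI := instG
  letI := instH
  haveI := hiG
  haveI := hiH
  haveI := hφ
  haveI := hoG
  haveI := hoH
  haveI := hirr
  haveI := hcpt
  haveI := hlftG
  haveI := hlftH
  have hz₀range : Set.range z₀ ⊆ Set.range iH.left := by
    rw [hrH]
    rintro _ ⟨t, rfl⟩
    rw [hsub t]
    exact hz₀mem
  let z₀' : Spec (CommRingCat.of k) ⟶ H₀.left := IsOpenImmersion.lift iH.left z₀ hz₀range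
  have hz₀' : z₀' ≫ iH.left = z₀ := IsOpenImmersion.lift_fac _ _ _
  have hcommL : φ.left ≫ iH.left = iG.left ≫ uk.left := by
    have := congrArg (fun m => m.left) hcomm
    simpa only [Over.comp_left] using this
  haveI : Etale (φ.left ≫ iH.left) := by
    rw [hcommL]; infer_instance
  haveI : Etale φ.left := Etale.of_comp φ.left iH.left
  have hsurj : Surjective φ.left := by
    haveI : IsLocallyNoetherian H₀.left := LocallyOfFiniteType.isLocallyNoetherian H₀.hom
    haveI : QuasiCompact φ.left := inferInstance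
    apply Groth.Agent.Helper2.GrpHom.surjective_of_denseRange φ
    have hopen : IsOpen (Set.range φ.left) := φ.left.isOpenMap.isOpen_range
    have hne : (Set.range φ.left).Nonempty := ⟨_, ⟨η[G₀].left pt, rfl⟩⟩
    exact (hopen.dense hne : Dense (Set.range φ.left))
  -- a k-point of the fibre of φ over z₀'
  obtain ⟨g, hg⟩ := hsurj.surj (z₀' pt)
  obtain ⟨x', hx'1, hx'2⟩ := Scheme.Pullback.exists_preimage_pullback (f := φ.left) (g := z₀')
    g pt hg
  haveI : Nonempty ↥(pullback φ.left z₀') := ⟨x'⟩
  haveI : Etale (pullback.snd φ.left z₀') := MorphismProperty.pullback_snd _ _ inferInstance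
  haveI : Smooth (pullback.snd φ.left z₀') := inferInstance
  obtain ⟨x, hx⟩ := Groth.Agent.Lib.Helper4.SepPtsDense1.exists_pt_of_sepClosed k k
    (pullback φ.left z₀') (pullback.snd φ.left z₀')
  have hid : Spec.map (CommRingCat.ofHom (algebraMap k k)) = 𝟙 _ := by
    rw [Algebra.algebraMap_self]
    exact Spec.map_id _
  rw [hid] at hx
  let c₀ : Spec (CommRingCat.of k) ⟶ Nk.left := x ≫ pullback.fst φ.left z₀' ≫ iG.left
  have hc₀u : c₀ ≫ uk.left = z₀ := by
    calc (x ≫ pullback.fst φ.left z₀' ≫ iG.left) ≫ uk.left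
        = x ≫ pullback.fst φ.left z₀' ≫ (iG.left ≫ uk.left) := by simp only [Category.assoc]
      _ = x ≫ (pullback.fst φ.left z₀' ≫ φ.left) ≫ iH.left := by
          rw [← hcommL]; simp only [Category.assoc]
      _ = (x ≫ pullback.snd φ.left z₀') ≫ z₀' ≫ iH.left := by
          rw [pullback.condition]; simp only [Category.assoc]
      _ = z₀ := by rw [hx, Category.id_comp, hz₀']
  have hc₀mem : c₀ pt ∈ connectedComponent ek := by
    rw [← hrG]
    exact ⟨(x ≫ pullback.fst φ.left z₀') pt, rfl⟩
  -- lift to R by Hensel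
  let c₁ : Spec (CommRingCat.of k) ⟶ N.left := c₀ ≫ π
  have hc₁ : c₁ ≫ f = q ≫ z.left := by
    calc (c₀ ≫ π) ≫ f = c₀ ≫ (π ≫ f) := Category.assoc _ _ _
      _ = c₀ ≫ (uk.left ≫ π) := by rw [hsq.w]
      _ = (c₀ ≫ uk.left) ≫ π := (Category.assoc _ _ _).symm
      _ = z₀ ≫ π := by rw [hc₀u]
      _ = q ≫ z.left := hz₀π
  let u₀ : Spec (CommRingCat.of k) ⟶ pullback f z.left := pullback.lift c₁ q hc₁
  haveI : Etale (pullback.snd f z.left) := MorphismProperty.pullback_snd _ _ hét
  haveI : Smooth (pullback.snd f z.left) := inferInstance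
  obtain ⟨v, hv1, hv2⟩ := Groth.Agent.Helper7.SmoothSection.S5038_main R
    (pullback.snd f z.left) u₀ (pullback.lift_snd _ _ _)
  let wl : Spec (CommRingCat.of R) ⟶ N.left := v ≫ pullback.fst f z.left
  have hwf : wl ≫ f = z.left := by
    calc (v ≫ pullback.fst f z.left) ≫ f = v ≫ (pullback.fst f z.left ≫ f) :=
          Category.assoc _ _ _
      _ = v ≫ (pullback.snd f z.left ≫ z.left) := by rw [pullback.condition]
      _ = (v ≫ pullback.snd f z.left) ≫ z.left := (Category.assoc _ _ _).symm
      _ = z.left := by rw [hv1, Category.id_comp]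
  have hfN : f ≫ N.hom = N.hom := Over.w _
  have hwN : wl ≫ N.hom = 𝟙 _ := by
    calc wl ≫ N.hom = wl ≫ (f ≫ N.hom) := by rw [hfN]
      _ = (wl ≫ f) ≫ N.hom := (Category.assoc _ _ _).symm
      _ = z.left ≫ N.hom := by rw [hwf]
      _ = 𝟙 _ := Over.w z
  let w : 𝟙_ (Over (Spec (CommRingCat.of R))) ⟶ N := Over.homMk wl hwN
  refine ⟨w, ?_, ?_⟩
  · show wl (IsLocalRing.closedPoint R) ∈
      connectedComponentIn (SGA7.specialFibreSet R N) (η[N].left (IsLocalRing.closedPoint R))
    rw [← hC]
    refine ⟨c₀ pt, hc₀mem, ?_⟩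
    have h1 : q ≫ wl = c₀ ≫ π := by
      calc q ≫ v ≫ pullback.fst f z.left = (q ≫ v) ≫ pullback.fst f z.left :=
            (Category.assoc _ _ _).symm
        _ = u₀ ≫ pullback.fst f z.left := by rw [hv2]
        _ = c₁ := pullback.lift_fst _ _ _
    rw [← hq, ← Scheme.Hom.comp_apply, ← Scheme.Hom.comp_apply, h1]
  · have h1 : w ^ n = w ≫ (𝟙 N : N ⟶ N) ^ n := by
      rw [MonObj.comp_pow, Category.comp_id]
    rw [h1]
    ext1
    exact hwf

end Groth.Agent.Lead.NerTor
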