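import Mathlib
import Groth.Prelude.Def_Red
import Groth.Prelude.Def_SGA7IX
import Groth.Agent.Lib.Lead.NerTor1
import Groth.Agent.Lib.Lead.NerTor3

/-!
# Torsion in the component group of a Néron model lifts to torsion sections (lead)
-/

set_option backward.isDefEq.respectTransparency.types false
set_option autoImplicit false
set_option synthInstance.maxHeartbeats 400000
set_option maxHeartbeats 1000000
set_option linter.style.haveILetI false
set_option linter.unusedSectionVars false
set_option linter.unusedSimpArgs false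

universe u

open CategoryTheory CategoryTheory.Limits AlgebraicGeometry
open MonoidalCategory CartesianMonoidalCategory MonObj GrpObj

namespace Groth.Agent.Lead.NerTor

theorem natCast_ne_zero_residueField (R : Type u) [CommRing R] [IsLocalRing R] (n : ℕ)
    (hn : (n : IsLocalRing.ResidueField R) ≠ 0) (s : ↥(Spec (CommRingCat.of R))) :
    (n : (Spec (CommRingCat.of R)).residueField s) ≠ 0 := by
  have hunit : IsUnit (n : R) := by
    by_contra h
    have h1 : (n : R) ∈ IsLocalRing.maximalIdeal R := (IsLocalRing.mem_maximalIdeal _).mpr h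
    have h2 : IsLocalRing.residue R (n : R) = 0 := (IsLocalRing.residue_eq_zero_iff _).mpr h1
    rw [map_natCast] at h2
    exact hn h2
  let ψ : R →+* (Spec (CommRingCat.of R)).residueField s :=
    ((Scheme.ΓSpecIso (CommRingCat.of R)).inv ≫
      (Spec (CommRingCat.of R)).presheaf.germ ⊤ s trivial ≫
      (Spec (CommRingCat.of R)).residue s).hom
  have h1 : IsUnit (ψ (n : R)) := hunit.map ψ
  rw [map_natCast] at h1
  exact h1.ne_zero

theorem main4071 (R K : Type u) [CommRing R] [IsDomain R] [IsDiscreteValuationRing R]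
    [HenselianLocalRing R] [IsSepClosed (IsLocalRing.ResidueField R)] [Field K] [Algebra R K]
    (N : Over (Spec (CommRingCat.of R))) [GrpObj N] (hN : SGA7.IsNeron R K N)
    [IsProper ((SGA7.genFib R K).obj N).hom]
    [GeometricallyIntegral ((SGA7.genFib R K).obj N).hom]
    (n : ℕ) (hn : (n : IsLocalRing.ResidueField R) ≠ 0)
    (x : 𝟙_ (Over (Spec (CommRingCat.of R))) ⟶ N) (hx : x ^ n ∈ SGA7.secUnitComp R N) :
    ∃ y : 𝟙_ (Over (Spec (CommRingCat.of R))) ⟶ N,
      y ^ n = 1 ∧ x * y⁻¹ ∈ SGA7.secUnitComp R N := by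
  haveI : IsCommMonObj N := isCommMonObj_of_isNeron R K N hN
  haveI : Smooth N.hom := hN.1
  haveI : QuasiCompact N.hom := hN.2.2.1
  have hét : Etale ((𝟙 N : N ⟶ N) ^ n).left :=
    etale_pow N n (natCast_ne_zero_residueField R n hn)
  obtain ⟨w, hw1, hw2⟩ := exists_root R N n hét (x ^ n) hx
  have hcomm : ∀ a b : 𝟙_ (Over (Spec (CommRingCat.of R))) ⟶ N, a * b = b * a :=
    fun a b => (Hom.commMonoid (M := N)).mul_comm a b
  refine ⟨x * w⁻¹, ?_, ?_⟩
  · have hc : Commute x w⁻¹ := hcomm x w⁻¹
    rw [hc.mul_pow, inv_pow, hw2, mul_inv_cancel]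
  · have h1 : x * (x * w⁻¹)⁻¹ = w := by
      rw [_root_.mul_inv_rev, _root_.inv_inv, ← _root_.mul_assoc, hcomm x w, _root_.mul_assoc, _root_.mul_inv_cancel,
        _root_.mul_one]
    rw [h1]
    exact hw1

end Groth.Agent.Lead.NerTor
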