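import Mathlib

set_option autoImplicit false
set_option backward.isDefEq.respectTransparency.types false
set_option synthInstance.maxHeartbeats 400000
set_option linter.style.haveILetI false
set_option linter.unusedSectionVars false

universe u

open TensorProduct

namespace Groth.Agent.Lead.NeronEt

/-- a finite reduced algebra over an algebraically closed field is formally unramified -/
theorem formallyUnramified_of_isReduced_of_isAlgClosed (Ω A : Type u) [Field Ω] [IsAlgClosed Ω]
    [CommRing A] [Algebra Ω A] [Module.Finite Ω A] [IsReduced A] :
    Algebra.FormallyUnramified Ω A := by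
  classical
  haveI : IsArtinianRing A := isArtinian_of_tower Ω inferInstance
  rw [Algebra.FormallyUnramified.iff_of_equiv ((IsArtinianRing.equivPi A).restrictScalars Ω),
    Algebra.FormallyUnramified.pi_iff]
  intro m
  letI : Field (A ⧸ m.asIdeal) := Ideal.Quotient.field m.asIdeal
  haveI : Module.Finite Ω (A ⧸ m.asIdeal) := inferInstance
  haveI : Algebra.IsAlgebraic Ω (A ⧸ m.asIdeal) := Algebra.IsAlgebraic.of_finite Ω _
  haveI : Algebra.IsSeparable Ω (A ⧸ m.asIdeal) := Algebra.IsAlgebraic.isSeparable_of_perfectField
  exact Algebra.FormallyUnramified.of_isSeparable Ω (A ⧸ m.asIdeal)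

/-- a finite geometrically reduced field extension is separable -/
theorem isSeparable_of_isGeometricallyReduced (k E : Type u) [Field k] [Field E] [Algebra k E]
    [Module.Finite k E] [Algebra.IsGeometricallyReduced k E] : Algebra.IsSeparable k E := by
  classical
  let Ω := AlgebraicClosure k
  haveI : IsReduced (Ω ⊗[k] E) := inferInstance
  haveI : Module.Finite Ω (Ω ⊗[k] E) := inferInstance
  haveI : Algebra.FormallyUnramified Ω (Ω ⊗[k] E) :=
    formallyUnramified_of_isReduced_of_isAlgClosed Ω (Ω ⊗[k] E)
  haveI : Algebra.FormallyUnramified k E :=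
    Algebra.FormallyUnramified.of_formallyUnramified_tensorProduct_of_faithfullyFlat Ω
  exact Algebra.FormallyUnramified.isSeparable k E

end Groth.Agent.Lead.NeronEt
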