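import Mathlib
import Groth.Agent.Lib.Helper7.SmoothBC.MinPrime

set_option autoImplicit false
set_option backward.isDefEq.respectTransparency.types false
set_option synthInstance.maxHeartbeats 400000
set_option linter.style.haveILetI false
set_option linter.unusedSectionVars false

universe u

open TensorProduct IsLocalRing

namespace Groth.Agent.Lead.NeronEt

attribute [local instance] Ideal.Quotient.field

/-- the local ring of the fibre of a smooth algebra at a generic point of the fibre: a field,
geometrically reduced over the residue field of the base. -/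
theorem exists_fibre_field (R C : Type u) [CommRing R] [CommRing C] [Algebra R C]
    [Algebra.Smooth R C] (p : Ideal R) [p.IsMaximal] (P₀ : Ideal C) [P₀.IsPrime]
    (hmin : P₀ ∈ (p.map (algebraMap R C)).minimalPrimes) :
    ∃ (F : Type u) (_ : CommRing F) (_ : Algebra (R ⧸ p) F) (γ : C →+* F),
      IsField F ∧ Algebra.IsGeometricallyReduced (R ⧸ p) F ∧
      (∀ r : R, γ (algebraMap R C r) = algebraMap (R ⧸ p) F (Ideal.Quotient.mk p r)) ∧
      (∀ x ∈ P₀, γ x = 0) ∧
      (∀ x, γ x = 0 → ∃ s, s ∉ P₀ ∧ s * x ∈ p.map (algebraMap R C)) := by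
  classical
  set I := p.map (algebraMap R C) with hI
  have hIP : I ≤ P₀ := hmin.1.2
  have hsurj : Function.Surjective (Ideal.Quotient.mk I) := Ideal.Quotient.mk_surjective
  haveI smA : Algebra.Smooth (R ⧸ p) (C ⧸ I) :=
    Algebra.Smooth.of_equiv (Algebra.TensorProduct.quotIdealMapEquivQuotTensor C p).symm
  haveI : IsReduced (C ⧸ I) := Groth.Agent.Helper7.SmoothBC.isReduced_of_smooth_field (R ⧸ p) _
  -- the image prime
  obtain ⟨Q, hQmin, hQ⟩ : ∃ Q ∈ minimalPrimes (C ⧸ I), Q.comap (Ideal.Quotient.mk I) = P₀ := by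
    have := hmin
    rw [Ideal.minimalPrimes_eq_comap] at this
    exact this
  haveI hQp : Q.IsPrime := hQmin.1.1
  haveI : IsReduced (Localization.AtPrime Q) :=
    isReduced_localizationPreserves Q.primeCompl (Localization.AtPrime Q) inferInstance
  haveI : Subsingleton (PrimeSpectrum (Localization.AtPrime Q)) :=
    IsLocalization.subsingleton_primeSpectrum_of_mem_minimalPrimes Q hQmin
      (Localization.AtPrime Q)
  have hF : IsField (Localization.AtPrime Q) :=
    Groth.Agent.Helper7.SmoothBC.isField_of_subsingleton_primeSpectrum (Localization.AtPrime Q)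
  have hmax : maximalIdeal (Localization.AtPrime Q) = ⊥ :=
    (IsLocalRing.isField_iff_maximalIdeal_eq).1 hF
  haveI : Algebra.FiniteType (R ⧸ p) (C ⧸ I) := inferInstance
  have hs : Algebra.IsSmoothAt (R ⧸ p) Q := by
    have h1 : Algebra.FormallySmooth (C ⧸ I) (Localization.AtPrime Q) :=
      Algebra.FormallySmooth.of_isLocalization Q.primeCompl
    exact Algebra.FormallySmooth.comp (R ⧸ p) (C ⧸ I) (Localization.AtPrime Q)
  have hgr := Groth.Agent.Helper7.SmoothBC.isGeometricallyReduced_of_isSmoothAt
    (R ⧸ p) (C ⧸ I) Q hs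
  refine ⟨Localization.AtPrime Q, inferInstance, inferInstance,
    (algebraMap (C ⧸ I) (Localization.AtPrime Q)).comp (Ideal.Quotient.mk I), hF, hgr, ?_, ?_, ?_⟩
  · intro r
    rw [IsScalarTower.algebraMap_apply (R ⧸ p) (C ⧸ I) (Localization.AtPrime Q)]
    rfl
  · intro x hx
    have h1 : Ideal.Quotient.mk I x ∈ Q := by
      rw [← hQ] at hx
      exact hx
    have h2 : algebraMap (C ⧸ I) (Localization.AtPrime Q) (Ideal.Quotient.mk I x) ∈
        maximalIdeal (Localization.AtPrime Q) :=
      (IsLocalization.AtPrime.to_map_mem_maximal_iff (Localization.AtPrime Q) Q _).2 h1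
    rw [hmax] at h2
    exact h2
  · intro x hx
    have hx' : algebraMap (C ⧸ I) (Localization.AtPrime Q) (Ideal.Quotient.mk I x) = 0 := hx
    rw [IsLocalization.map_eq_zero_iff Q.primeCompl] at hx'
    obtain ⟨⟨m, hm⟩, hmx⟩ := hx'
    obtain ⟨s, rfl⟩ := hsurj m
    refine ⟨s, ?_, ?_⟩
    · intro hs0
      apply hm
      rw [← hQ] at hs0
      exact hs0
    · have h3 : Ideal.Quotient.mk I (s * x) = 0 := by
        rw [map_mul]; exact hmx
      exact Ideal.Quotient.eq_zero_iff_mem.1 h3

/-- at a generic point of the fibre of a smooth algebra, the maximal ideal of the local ring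
is generated by the maximal ideal of the base. -/
theorem map_eq_maximalIdeal_of_mem_minimalPrimes (R C : Type u) [CommRing R] [CommRing C]
    [Algebra R C] [Algebra.Smooth R C] (p : Ideal R) [p.IsMaximal] (P₀ : Ideal C) [P₀.IsPrime]
    (hmin : P₀ ∈ (p.map (algebraMap R C)).minimalPrimes) :
    p.map (algebraMap R (Localization.AtPrime P₀)) = maximalIdeal (Localization.AtPrime P₀) := by
  classical
  obtain ⟨F, _, _, γ, -, -, -, hγ0, hγ⟩ := exists_fibre_field R C p P₀ hmin
  have hIP : p.map (algebraMap R C) ≤ P₀ := hmin.1.2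
  rw [IsScalarTower.algebraMap_eq R C (Localization.AtPrime P₀), ← Ideal.map_map]
  apply le_antisymm
  · rw [← Localization.AtPrime.map_eq_maximalIdeal]
    exact Ideal.map_mono hIP
  · rw [← Localization.AtPrime.map_eq_maximalIdeal, Ideal.map_le_iff_le_comap]
    intro x hx
    obtain ⟨s, hs, hsx⟩ := hγ x (hγ0 x hx)
    rw [Ideal.mem_comap]
    have hu : IsUnit (algebraMap C (Localization.AtPrime P₀) s) :=
      IsLocalization.map_units (Localization.AtPrime P₀) (⟨s, hs⟩ : P₀.primeCompl)
    have h1 : algebraMap C (Localization.AtPrime P₀) (s * x) ∈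
        (p.map (algebraMap R C)).map (algebraMap C (Localization.AtPrime P₀)) :=
      Ideal.mem_map_of_mem _ hsx
    rw [map_mul] at h1
    exact (Ideal.unit_mul_mem_iff_mem _ hu).1 h1

end Groth.Agent.Lead.NeronEt
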