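import Mathlib
import Groth.Agent.Lib.Lead.NeronEt1
import Groth.Agent.Lib.Lead.NeronEt2

set_option autoImplicit false
set_option backward.isDefEq.respectTransparency.types false
set_option synthInstance.maxHeartbeats 400000
set_option linter.style.haveILetI false
set_option linter.unusedSectionVars false

universe u

open TensorProduct IsLocalRing

namespace Groth.Agent.Lead.NeronEt

attribute [local instance] Ideal.Quotient.field

/-- a flat algebra over a domain which is nontrivial has injective structure map -/
theorem algebraMap_injective_of_flat (R C : Type*) [CommRing R] [IsDomain R] [CommRing C]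
    [Nontrivial C] [Algebra R C] [Module.Flat R C] : Function.Injective (algebraMap R C) := by
  rw [injective_iff_map_eq_zero]
  intro r hr
  by_contra hr0
  have hreg : IsSMulRegular C r :=
    Module.Flat.isSMulRegular_of_nonZeroDivisors (mem_nonZeroDivisors_of_ne_zero hr0)
  have h1 : r • (1 : C) = r • (0 : C) := by
    rw [smul_zero, Algebra.smul_def, mul_one, hr]
  exact one_ne_zero (hreg h1)

/-- **Key lemma**: a finite Dedekind extension `S` of a Dedekind domain `R` which maps to a
smooth `R`-domain `C` is étale over `R` at the contraction of a generic point of a fibre of `C`. -/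
theorem isEtaleAt_comap_of_mem_minimalPrimes (R S C : Type u) [CommRing R] [IsDedekindDomain R]
    [CommRing S] [IsDedekindDomain S] [Algebra R S] [Module.Finite R S]
    [Module.IsTorsionFree R S] [CommRing C] [IsDomain C] [Algebra R C] [Algebra.Smooth R C]
    [Algebra S C] [IsScalarTower R S C] (p : Ideal R) [p.IsMaximal] (hp : p ≠ ⊥)
    (P₀ : Ideal C) [P₀.IsPrime] (hmin : P₀ ∈ (p.map (algebraMap R C)).minimalPrimes) :
    Algebra.IsEtaleAt R (P₀.comap (algebraMap S C)) := by
  classical
  set q := P₀.comap (algebraMap S C) with hq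
  have hIP : p.map (algebraMap R C) ≤ P₀ := hmin.1.2
  haveI : Module.Flat R C := inferInstance
  have hinjC : Function.Injective (algebraMap R C) := algebraMap_injective_of_flat R C
  -- `q` lies over `p`
  have hqp : q.under R = p := by
    have h1 : p ≤ q.under R := by
      intro r hr
      show algebraMap S C (algebraMap R S r) ∈ P₀
      rw [← IsScalarTower.algebraMap_apply]
      exact hIP (Ideal.mem_map_of_mem _ hr)
    have h2 : q.under R ≠ ⊤ := (Ideal.IsPrime.under R q).ne_top
    exact (‹p.IsMaximal›.eq_of_le h2 h1).symm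
  haveI hlo : q.LiesOver p := ⟨hqp.symm⟩
  have hq0 : q ≠ ⊥ := Ideal.ne_bot_of_liesOver_of_ne_bot hp q
  haveI : q.IsMaximal := Ring.DimensionLEOne.maximalOfPrime hq0 inferInstance
  haveI : IsNoetherianRing C := Algebra.FiniteType.isNoetherianRing R C
  have hP0 : P₀ ≠ ⊥ := by
    intro h0
    obtain ⟨r, hr, hr0⟩ := Submodule.exists_mem_ne_zero_of_ne_bot hp
    have h1 : algebraMap R C r ∈ P₀ := hIP (Ideal.mem_map_of_mem _ hr)
    rw [h0, Ideal.mem_bot] at h1
    exact hr0 (hinjC (by rw [h1, map_zero]))
  -- ramification index one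
  have hB1 := map_eq_maximalIdeal_of_mem_minimalPrimes R C p P₀ hmin
  have he1 : p.map (algebraMap R (Localization.AtPrime q)) =
      maximalIdeal (Localization.AtPrime q) := by
    have hpq : p.map (algebraMap R S) ≤ q := by
      rw [Ideal.map_le_iff_le_comap]
      exact hqp.ge
    rw [← Ideal.IsDedekindDomain.ramificationIdx'_eq_one_iff hq0 hpq,
      ← not_ne_iff, Ideal.ramificationIdx'_ne_one_iff hpq]
    intro H
    have h1 := Ideal.ramificationIdx'_eq_one_of_map_localization hIP hP0
      P₀.primeCompl_le_nonZeroDivisors hB1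
    rw [← not_ne_iff, Ideal.ramificationIdx'_ne_one_iff hIP] at h1
    replace H := Ideal.map_mono (f := algebraMap S C) H
    rw [Ideal.map_map, ← IsScalarTower.algebraMap_eq, Ideal.map_pow] at H
    refine h1 (H.trans (Ideal.pow_right_mono ?_ _))
    exact Ideal.map_le_iff_le_comap.mpr le_rfl
  -- separable residue field extension
  obtain ⟨F, _, _, γ, hF, hgr, hγR, hγ0, -⟩ := exists_fibre_field R C p P₀ hmin
  haveI : Nontrivial F := hF.nontrivial
  have hker : ∀ a ∈ q, (γ.comp (algebraMap S C)) a = 0 := fun a ha => hγ0 _ ha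
  let f : S ⧸ q →ₐ[R ⧸ p] F :=
    { toRingHom := Ideal.Quotient.lift q (γ.comp (algebraMap S C)) hker
      commutes' := by
        intro c
        obtain ⟨r, rfl⟩ := Ideal.Quotient.mk_surjective c
        show Ideal.Quotient.lift q (γ.comp (algebraMap S C)) hker
          (algebraMap (R ⧸ p) (S ⧸ q) (Ideal.Quotient.mk p r)) = _
        rw [Ideal.Quotient.algebraMap_mk_of_liesOver, Ideal.Quotient.lift_mk, RingHom.comp_apply,
          ← IsScalarTower.algebraMap_apply, hγR] }
  haveI : Algebra.IsGeometricallyReduced (R ⧸ p) (S ⧸ q) :=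
    Algebra.IsGeometricallyReduced.of_injective f (RingHom.injective f.toRingHom)
  haveI : Module.Finite (R ⧸ p) (S ⧸ q) := inferInstance
  haveI hsep : Algebra.IsSeparable (R ⧸ p) (S ⧸ q) :=
    isSeparable_of_isGeometricallyReduced (R ⧸ p) (S ⧸ q)
  letI := Localization.AtPrime.algebraOfLiesOver p q
  have hsep' : Algebra.IsSeparable p.ResidueField q.ResidueField :=
    Algebra.isSeparable_residueField_iff.2 hsep
  haveI : Algebra.FinitePresentation R S :=
    Algebra.FinitePresentation.of_finiteType.mp inferInstance
  haveI : Algebra.IsUnramifiedAt R q := (Algebra.isUnramifiedAt_iff_map_eq R p q).2 ⟨hsep', he1⟩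
  exact Algebra.IsEtaleAt.of_isUnramifiedAt_of_flat q

end Groth.Agent.Lead.NeronEt
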