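import Mathlib
import Groth.Agent.Lib.Lead.NeronEt3

set_option autoImplicit false
set_option backward.isDefEq.respectTransparency.types false
set_option synthInstance.maxHeartbeats 400000
set_option linter.style.haveILetI false
set_option linter.unusedSectionVars false

universe u

open TensorProduct IsLocalRing

namespace Groth.Agent.Lead.NeronEt

/-- étaleness at a prime only depends on the prime as a set -/
theorem isEtaleAt_congr (R : Type*) {S : Type*} [CommRing R] [CommRing S] [Algebra R S]
    (q q' : Ideal S) [q.IsPrime] [q'.IsPrime] (h : q = q') (hq : Algebra.IsEtaleAt R q) :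
    Algebra.IsEtaleAt R q' := by
  subst h
  exact hq

/-- étaleness at a prime of a localization descends to the contracted prime -/
theorem isEtaleAt_comap_of_isLocalization (R : Type*) {B B' : Type*} [CommRing R] [CommRing B]
    [CommRing B'] [Algebra R B] [Algebra B B'] [Algebra R B'] [IsScalarTower R B B']
    (M : Submonoid B) [IsLocalization M B'] (q' : Ideal B') [q'.IsPrime]
    (h : Algebra.IsEtaleAt R q') : Algebra.IsEtaleAt R (q'.comap (algebraMap B B')) := by
  haveI : IsLocalization.AtPrime (Localization.AtPrime q') (q'.comap (algebraMap B B')) :=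
    IsLocalization.isLocalization_isLocalization_atPrime_isLocalization M
      (Localization.AtPrime q') q'
  let e : Localization.AtPrime (q'.comap (algebraMap B B')) ≃ₐ[B] Localization.AtPrime q' :=
    IsLocalization.algEquiv (q'.comap (algebraMap B B')).primeCompl _ _
  haveI : Algebra.FormallyEtale R (Localization.AtPrime q') := h
  exact Algebra.FormallyEtale.of_equiv (e.restrictScalars R).symm

/-- a domain with separable fraction field extension is étale at the generic point -/
theorem isEtaleAt_bot (R K S L : Type*) [CommRing R] [IsDomain R] [Field K] [Algebra R K]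
    [IsFractionRing R K] [CommRing S] [IsDomain S] [Field L] [Algebra S L] [IsFractionRing S L]
    [Algebra R S] [Algebra K L] [Algebra R L] [IsScalarTower R S L] [IsScalarTower R K L]
    [Algebra.IsSeparable K L] : Algebra.IsEtaleAt R (⊥ : Ideal S) := by
  haveI : IsFractionRing S (Localization.AtPrime (⊥ : Ideal S)) := by
    simpa [Ideal.primeCompl_bot] using Localization.isLocalization (M := (⊥ : Ideal S).primeCompl)
  let e : Localization.AtPrime (⊥ : Ideal S) ≃ₐ[S] L :=
    IsLocalization.algEquiv (nonZeroDivisors S) _ _
  haveI : Algebra.FormallyEtale R K := Algebra.FormallyEtale.of_isLocalization (nonZeroDivisors R)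
  haveI : Algebra.FormallyEtale K L := Algebra.FormallyEtale.of_isSeparable K L
  haveI : Algebra.FormallyEtale R L := Algebra.FormallyEtale.comp R K L
  exact Algebra.FormallyEtale.of_equiv (e.restrictScalars R).symm

/-- elements of a localization of an integrally closed domain which are integral come from
the domain -/
theorem exists_algebraMap_eq_of_isIntegral (C C' : Type*) [CommRing C] [IsDomain C]
    [IsIntegrallyClosed C] [CommRing C'] [Algebra C C'] (M : Submonoid C)
    (hM : M ≤ nonZeroDivisors C) [IsLocalization M C'] (y : C') (hy : IsIntegral C y) :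
    ∃ c, algebraMap C C' c = y := by
  classical
  let Q := FractionRing C
  let g : C' →+* Q := IsLocalization.map (M := M) (T := nonZeroDivisors C) Q (RingHom.id C)
    (show M ≤ (nonZeroDivisors C).comap (RingHom.id C) from hM)
  have hg : ∀ c : C, g (algebraMap C C' c) = algebraMap C Q c := fun c => by
    simp [g, IsLocalization.map_eq]
  let gA : C' →ₐ[C] Q := { g with commutes' := hg }
  have h1 : IsIntegral C (gA y) := hy.map gA
  obtain ⟨d, hd⟩ := IsIntegrallyClosed.isIntegral_iff.1 h1
  obtain ⟨⟨c, m⟩, hcm⟩ := IsLocalization.surj M y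
  simp only at hcm
  refine ⟨d, ?_⟩
  have h2 : algebraMap C Q (d * m) = algebraMap C Q c := by
    rw [map_mul, hd, ← hg c, ← hcm, map_mul, hg]
    rfl
  have h3 : d * m = c := IsFractionRing.injective C Q h2
  have hu : IsUnit (algebraMap C C' (m : C)) := IsLocalization.map_units C' m
  apply hu.mul_right_cancel
  rw [hcm, ← map_mul, h3]

/-- **Key lemma**, all primes. -/
theorem isEtaleAt_comap (R S C : Type u) [CommRing R] [IsDedekindDomain R]
    [CommRing S] [IsDedekindDomain S] [Algebra R S] [Module.Finite R S]
    [Module.IsTorsionFree R S] [CommRing C] [IsDomain C] [Algebra R C] [Algebra.Smooth R C]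
    [Algebra S C] [IsScalarTower R S C] (hgen : Algebra.IsEtaleAt R (⊥ : Ideal S))
    (P : Ideal C) [P.IsPrime] : Algebra.IsEtaleAt R (P.comap (algebraMap S C)) := by
  classical
  set p := P.under R with hp
  have hpq : (P.comap (algebraMap S C)).under R = p := by
    rw [hp, Ideal.under_def, Ideal.under_def, Ideal.comap_comap, ← IsScalarTower.algebraMap_eq]
  by_cases hp0 : p = ⊥
  · have h0 : P.comap (algebraMap S C) = ⊥ := by
      haveI : Algebra.IsIntegral R S := Algebra.IsIntegral.of_finite R S
      apply Ideal.eq_bot_of_comap_eq_bot (R := R)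
      rw [← hp0, ← hpq]
    exact isEtaleAt_congr R _ _ h0.symm hgen
  · haveI : p.IsPrime := Ideal.IsPrime.under R P
    haveI : p.IsMaximal := Ring.DimensionLEOne.maximalOfPrime hp0 inferInstance
    have hle : p.map (algebraMap R C) ≤ P := Ideal.map_le_iff_le_comap.2 le_rfl
    obtain ⟨P₀, hmin, hP₀⟩ := Ideal.exists_minimalPrimes_le hle
    haveI : P₀.IsPrime := hmin.1.1
    have h1 := isEtaleAt_comap_of_mem_minimalPrimes R S C p hp0 P₀ hmin
    have hle' : P₀.comap (algebraMap S C) ≤ P.comap (algebraMap S C) := Ideal.comap_mono hP₀
    -- `P₀.comap` is maximal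
    have hne : P₀.comap (algebraMap S C) ≠ ⊥ := by
      intro h0
      have h2 : p ≤ (P₀.comap (algebraMap S C)).under R := by
        intro r hr
        show algebraMap S C (algebraMap R S r) ∈ P₀
        rw [← IsScalarTower.algebraMap_apply]
        exact hmin.1.2 (Ideal.mem_map_of_mem _ hr)
      rw [h0] at h2
      apply hp0
      rw [eq_bot_iff]
      intro r hr
      have h3 := h2 hr
      rw [Ideal.under_def, Ideal.mem_comap, Ideal.mem_bot] at h3
      rw [Ideal.mem_bot]
      exact (FaithfulSMul.algebraMap_injective R S) (by rw [h3, map_zero])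
    haveI : (P₀.comap (algebraMap S C)).IsMaximal :=
      Ring.DimensionLEOne.maximalOfPrime hne inferInstance
    have heq : P₀.comap (algebraMap S C) = P.comap (algebraMap S C) :=
      Ideal.IsMaximal.eq_of_le inferInstance (Ideal.IsPrime.ne_top inferInstance) hle'
    exact isEtaleAt_congr R _ _ heq h1

end Groth.Agent.Lead.NeronEt
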