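import Mathlib
import Groth.Agent.Lib.Lead.NeronEt4

set_option autoImplicit false
set_option backward.isDefEq.respectTransparency.types false
set_option synthInstance.maxHeartbeats 400000
set_option linter.style.haveILetI false
set_option linter.unusedSectionVars false

universe u

open TensorProduct IsLocalRing

namespace Groth.Agent.Lead.NeronEt

section PiGen

variable (R : Type u) [CommRing R] {I : Type u} (B : I → Type u) [∀ i, CommRing (B i)]
  [∀ i, Algebra R (B i)]

/-- étaleness at a prime of a factor gives étaleness at the corresponding prime of the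
product -/
theorem isEtaleAt_comap_eval (i : I) (q : Ideal (B i)) [q.IsPrime]
    (h : Algebra.IsEtaleAt R q) : Algebra.IsEtaleAt R (q.comap (Pi.evalRingHom B i)) := by
  classical
  letI alg : Algebra (Π i, B i) (B i) := (Pi.evalRingHom B i).toAlgebra
  haveI : IsScalarTower R (Π i, B i) (B i) := IsScalarTower.of_algebraMap_eq (fun _ => rfl)
  have he : IsIdempotentElem (Pi.single i 1 : Π i, B i) := by
    simp [IsIdempotentElem, ← Pi.single_mul]
  haveI : IsLocalization.Away (Pi.single i 1 : Π i, B i) (B i) := by
    apply IsLocalization.away_of_isIdempotentElem_of_mul he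
    · intro x y
      show x i = y i ↔ _
      constructor
      · intro hxy
        funext j
        by_cases hj : j = i
        · subst hj
          simp [hxy]
        · simp [Pi.single_eq_of_ne hj]
      · intro hxy
        have := congrFun hxy i
        simpa using this
    · exact Function.surjective_eval i
  exact isEtaleAt_comap_of_isLocalization R (Submonoid.powers (Pi.single i 1 : Π i, B i)) q h

end PiGen

/-- lifting an algebra map into a localization of an integrally closed domain through the
domain, when the source is integral -/
theorem exists_lift_of_isIntegral (R B C C' : Type u) [CommRing R] [CommRing B] [Algebra R B]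
    [Algebra.IsIntegral R B] [CommRing C] [IsDomain C] [IsIntegrallyClosed C] [Algebra R C]
    [CommRing C'] [Algebra C C'] [Algebra R C'] [IsScalarTower R C C'] (M : Submonoid C)
    (hM : M ≤ nonZeroDivisors C) [IsLocalization M C'] (ψ : B →ₐ[R] C') :
    ∃ φ : B →ₐ[R] C, ∀ x, algebraMap C C' (φ x) = ψ x := by
  classical
  let j : C →ₐ[R] C' := IsScalarTower.toAlgHom R C C'
  have hj : Function.Injective j := IsLocalization.injective C' hM
  have hrange : ∀ x : B, ψ x ∈ j.range := by
    intro x
    have h1 : IsIntegral R (ψ x) := (Algebra.IsIntegral.isIntegral x).map ψ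
    have h2 : IsIntegral C (ψ x) := h1.tower_top
    obtain ⟨c, hc⟩ := exists_algebraMap_eq_of_isIntegral C C' M hM (ψ x) h2
    exact ⟨c, hc⟩
  let ψ' : B →ₐ[R] j.range := ψ.codRestrict j.range hrange
  let e : C ≃ₐ[R] j.range := AlgEquiv.ofInjective j hj
  refine ⟨e.symm.toAlgHom.comp ψ', ?_⟩
  intro x
  have h1 : (e (e.symm (ψ' x)) : C') = j (e.symm (ψ' x)) := rfl
  have h2 : ((e.symm.toAlgHom.comp ψ') x) = e.symm (ψ' x) := rfl
  rw [h2]
  show j (e.symm (ψ' x)) = ψ x
  rw [← h1, AlgEquiv.apply_symm_apply]
  rfl

end Groth.Agent.Lead.NeronEt
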