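import Mathlib
import Groth.Agent.Lib.Lead.NeronEt5

set_option autoImplicit false
set_option backward.isDefEq.respectTransparency.types false
set_option synthInstance.maxHeartbeats 400000
set_option linter.style.haveILetI false
set_option linter.unusedSectionVars false

universe u

open TensorProduct IsLocalRing

namespace Groth.Agent.Lead.NeronEt

section Pi

variable (R : Type u) [CommRing R] [IsDedekindDomain R]
  {I : Type u} [Finite I] (L : I → Type u) [∀ i, Field (L i)]
  [∀ i, Algebra (FractionRing R) (L i)] [∀ i, Algebra R (L i)]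
  [∀ i, IsScalarTower R (FractionRing R) (L i)] [∀ i, Module.Finite (FractionRing R) (L i)]
  [∀ i, Algebra.IsSeparable (FractionRing R) (L i)]

/-- the integral closure of `R` in the `i`-th factor -/
abbrev BB (i : I) : Type u := integralClosure R (L i)

instance (i : I) : Module.Finite R (BB R L i) :=
  IsIntegralClosure.finite R (FractionRing R) (L i) (integralClosure R (L i))

instance (i : I) : Module.IsTorsionFree R (L i) :=
  .trans_faithfulSMul R (FractionRing R) (L i)

instance (i : I) : Module.IsTorsionFree R (BB R L i) :=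
  IsIntegralClosure.isTorsionFree R (L i)

instance (i : I) : IsFractionRing (BB R L i) (L i) :=
  integralClosure.isFractionRing_of_finite_extension (FractionRing R) (L i)

theorem isEtaleAt_bot_BB (i : I) : Algebra.IsEtaleAt R (⊥ : Ideal (BB R L i)) :=
  isEtaleAt_bot R (FractionRing R) (BB R L i) (L i)

/-- the product ring -/
abbrev PB : Type u := Π i, BB R L i

theorem finite_PB : Module.Finite R (PB R L) := inferInstance

theorem flat_PB : Module.Flat R (PB R L) := inferInstance

theorem isLocalization_PB :
    IsLocalization (Algebra.algebraMapSubmonoid (PB R L) (nonZeroDivisors R)) (Π i, L i) := by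
  rw [IsLocalization.iff_map_piEvalRingHom (fun i => BB R L i) (Π i, L i)]
  have hmap : ∀ i, (Algebra.algebraMapSubmonoid (PB R L) (nonZeroDivisors R)).map
      (Pi.evalRingHom (fun i => BB R L i) i) =
      Algebra.algebraMapSubmonoid (BB R L i) (nonZeroDivisors R) := by
    intro i
    show ((nonZeroDivisors R).map (algebraMap R (PB R L))).map
      (Pi.evalRingHom (fun i => BB R L i) i) = (nonZeroDivisors R).map (algebraMap R (BB R L i))
    ext y
    constructor
    · rintro ⟨_, ⟨r, hr, rfl⟩, rfl⟩
      exact ⟨r, hr, rfl⟩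
    · rintro ⟨r, hr, rfl⟩
      exact ⟨_, ⟨r, hr, rfl⟩, rfl⟩
  haveI : ∀ i, IsLocalization ((Algebra.algebraMapSubmonoid (PB R L) (nonZeroDivisors R)).map
      (Pi.evalRingHom (fun i => BB R L i) i)) (L i) := by
    intro i
    rw [hmap i]
    exact IsIntegralClosure.isLocalization R (FractionRing R) (L i) (BB R L i)
  infer_instance

/-- primes of the product ring -/
theorem exists_eq_comap_eval (q : Ideal (PB R L)) [hq : q.IsPrime] :
    ∃ (i : I) (qi : Ideal (BB R L i)) (_ : qi.IsPrime),
      q = qi.comap (Pi.evalRingHom (fun i => BB R L i) i) := by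
  obtain ⟨⟨i, qi⟩, h⟩ :=
    (PrimeSpectrum.sigmaToPi_bijective (fun i => BB R L i)).surjective ⟨q, hq⟩
  refine ⟨i, qi.asIdeal, qi.isPrime, ?_⟩
  have := congrArg PrimeSpectrum.asIdeal h
  rw [PrimeSpectrum.sigmaToPi_apply] at this
  exact this.symm

theorem isEtaleAt_of_under_eq_bot (q : Ideal (PB R L)) [q.IsPrime] (h : q.under R = ⊥) :
    Algebra.IsEtaleAt R q := by
  obtain ⟨i, qi, hqi, rfl⟩ := exists_eq_comap_eval R L q
  have h1 : qi.under R = ⊥ := by
    rw [← h]
    rfl
  have h0 : qi = ⊥ := by
    haveI : Algebra.IsIntegral R (BB R L i) := Algebra.IsIntegral.of_finite R _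
    exact Ideal.eq_bot_of_comap_eq_bot (R := R) h1
  subst h0
  exact isEtaleAt_comap_eval R (fun i => BB R L i) i ⊥ (isEtaleAt_bot_BB R L i)

/-- **extension property** of the product of the integral closures -/
theorem exists_lift_PB (C C' : Type u) [CommRing C] [IsDomain C] [IsIntegrallyClosed C]
    [Algebra R C] [Algebra.Smooth R C] [CommRing C'] [Algebra C C'] [Algebra R C']
    [IsScalarTower R C C']
    [IsLocalization (Algebra.algebraMapSubmonoid C (nonZeroDivisors R)) C']
    (ψ : PB R L →ₐ[R] C') :
    ∃ φ : PB R L →ₐ[R] C, (∀ x, algebraMap C C' (φ x) = ψ x) ∧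
      ∀ (P : Ideal C) [P.IsPrime], Algebra.IsEtaleAt R (P.comap φ.toRingHom) := by
  classical
  haveI : Module.Flat R C := inferInstance
  have hinjC : Function.Injective (algebraMap R C) := algebraMap_injective_of_flat R C
  have hM : Algebra.algebraMapSubmonoid C (nonZeroDivisors R) ≤ nonZeroDivisors C := by
    rintro _ ⟨r, hr, rfl⟩
    apply mem_nonZeroDivisors_of_ne_zero
    intro h0
    exact (nonZeroDivisors.ne_zero hr) (hinjC (by rw [h0, map_zero]))
  haveI : Algebra.IsIntegral R (PB R L) := Algebra.IsIntegral.of_finite R _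
  obtain ⟨φ, hφ⟩ := exists_lift_of_isIntegral R (PB R L) C C' _ hM ψ
  refine ⟨φ, hφ, ?_⟩
  intro P hP
  obtain ⟨i, qi, hqi, hq⟩ := exists_eq_comap_eval R L (P.comap φ.toRingHom)
  -- the idempotent
  have he : IsIdempotentElem (Pi.single i 1 : PB R L) := by
    simp [IsIdempotentElem, ← Pi.single_mul]
  have heP : φ (Pi.single i 1) ∉ P := by
    intro hmem
    have h1 : (Pi.single i 1 : PB R L) ∈ P.comap φ.toRingHom := hmem
    rw [hq, Ideal.mem_comap] at h1
    have h2 : (1 : BB R L i) ∈ qi := by simpa using h1
    exact hqi.ne_top ((Ideal.eq_top_iff_one _).2 h2)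
  have he1 : φ (Pi.single i 1) = 1 := by
    have h1 : φ (Pi.single i 1) * (φ (Pi.single i 1) - 1) = 0 := by
      rw [mul_sub, mul_one, ← map_mul, he.eq, sub_self]
    rcases mul_eq_zero.1 h1 with h2 | h2
    · exact absurd (by rw [h2]; exact P.zero_mem) heP
    · exact sub_eq_zero.1 h2
  let φi : BB R L i →ₐ[R] C :=
    { toFun := fun y => φ (Pi.single i y)
      map_one' := he1
      map_mul' := fun x y => by rw [← map_mul, ← Pi.single_mul]
      map_zero' := by rw [Pi.single_zero, map_zero]
      map_add' := fun x y => by rw [← map_add, ← Pi.single_add]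
      commutes' := fun r => by
        have h1 : (Pi.single i (algebraMap R (BB R L i) r) : PB R L) =
            algebraMap R (PB R L) r * Pi.single i 1 := by
          funext j
          by_cases hj : j = i
          · subst hj
            simp
          · simp [Pi.single_eq_of_ne hj]
        show φ (Pi.single i (algebraMap R (BB R L i) r)) = _
        rw [h1, map_mul, he1, mul_one, AlgHom.commutes] }
  letI : Algebra (BB R L i) C := φi.toRingHom.toAlgebra
  haveI : IsScalarTower R (BB R L i) C :=
    IsScalarTower.of_algebraMap_eq (fun r => (φi.commutes r).symm)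
  have h3 := isEtaleAt_comap R (BB R L i) C (isEtaleAt_bot_BB R L i) P
  have h4 : P.comap (algebraMap (BB R L i) C) = qi := by
    ext y
    show φ (Pi.single i y) ∈ P ↔ y ∈ qi
    have h5 : φ (Pi.single i y) ∈ P ↔ (Pi.single i y : PB R L) ∈ P.comap φ.toRingHom := Iff.rfl
    rw [h5, hq, Ideal.mem_comap]
    simp
  have h6 : Algebra.IsEtaleAt R qi := isEtaleAt_congr R _ _ h4 h3
  have h7 := isEtaleAt_comap_eval R (fun i => BB R L i) i qi h6
  exact isEtaleAt_congr R _ _ hq.symm h7

end Pi

end Groth.Agent.Lead.NeronEt
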