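import Mathlib
import Groth.Agent.Lib.Lead.NeronEt6

set_option autoImplicit false
set_option backward.isDefEq.respectTransparency.types false
set_option synthInstance.maxHeartbeats 400000
set_option linter.style.haveILetI false
set_option linter.unusedSectionVars false

universe u

open TensorProduct IsLocalRing

namespace Groth.Agent.Lead.NeronEt

/-- **The Néron ring** of a finite étale algebra over the fraction field of a Dedekind domain. -/
theorem exists_neron_ring (R : Type u) [CommRing R] [IsDedekindDomain R] (L : Type u)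
    [CommRing L] [Algebra (FractionRing R) L] [Algebra R L]
    [IsScalarTower R (FractionRing R) L] [Algebra.Etale (FractionRing R) L] :
    ∃ (B : Type u) (_ : CommRing B) (_ : Algebra R B) (ι : B →ₐ[R] L),
      Module.Finite R B ∧ Module.Flat R B ∧
      @IsLocalization B _ (Algebra.algebraMapSubmonoid B (nonZeroDivisors R)) L _
        ι.toRingHom.toAlgebra ∧
      (∀ (q : Ideal B) [q.IsPrime], q.under R = ⊥ → Algebra.IsEtaleAt R q) ∧
      ∀ (C C' : Type u) [CommRing C] [IsDomain C] [IsIntegrallyClosed C]
        [Algebra R C] [Algebra.Smooth R C] [CommRing C'] [Algebra C C'] [Algebra R C']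
        [IsScalarTower R C C']
        [IsLocalization (Algebra.algebraMapSubmonoid C (nonZeroDivisors R)) C']
        (ψ : B →ₐ[R] C'),
        ∃ φ : B →ₐ[R] C, (∀ x, algebraMap C C' (φ x) = ψ x) ∧
          ∀ (P : Ideal C) [P.IsPrime], Algebra.IsEtaleAt R (P.comap φ.toRingHom) := by
  classical
  obtain ⟨I, _, Ai, _, _, e, h⟩ :=
    (Algebra.Etale.iff_exists_algEquiv_prod (FractionRing R) L).mp inferInstance
  letI : ∀ i, Algebra R (Ai i) := fun i =>
    ((algebraMap (FractionRing R) (Ai i)).comp (algebraMap R (FractionRing R))).toAlgebra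
  haveI : ∀ i, IsScalarTower R (FractionRing R) (Ai i) := fun i =>
    IsScalarTower.of_algebraMap_eq (fun _ => rfl)
  haveI : ∀ i, Module.Finite (FractionRing R) (Ai i) := fun i => (h i).1
  haveI : ∀ i, Algebra.IsSeparable (FractionRing R) (Ai i) := fun i => (h i).2
  let incl : PB R Ai →ₐ[R] (Π i, Ai i) :=
    { toRingHom := algebraMap (PB R Ai) (Π i, Ai i)
      commutes' := fun r => by
        funext i
        rfl }
  let eR : (Π i, Ai i) ≃ₐ[R] L :=
    { e.symm.toRingEquiv with
      commutes' := fun r => by
        have h1 : algebraMap R (Π i, Ai i) r =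
            algebraMap (FractionRing R) (Π i, Ai i) (algebraMap R (FractionRing R) r) := by
          funext i
          rfl
        show e.symm (algebraMap R (Π i, Ai i) r) = algebraMap R L r
        rw [h1, AlgEquiv.commutes, ← IsScalarTower.algebraMap_apply] }
  refine ⟨PB R Ai, inferInstance, inferInstance, eR.toAlgHom.comp incl, finite_PB R Ai,
    flat_PB R Ai, ?_, fun q _ hq => isEtaleAt_of_under_eq_bot R Ai q hq,
    fun C C' _ _ _ _ _ _ _ _ _ _ ψ => exists_lift_PB R Ai C C' ψ⟩
  letI algBL : Algebra (PB R Ai) L := (eR.toAlgHom.comp incl).toRingHom.toAlgebra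
  haveI := isLocalization_PB R Ai
  let eB : (Π i, Ai i) ≃ₐ[PB R Ai] L :=
    { e.symm.toRingEquiv with
      commutes' := fun _ => rfl }
  exact IsLocalization.isLocalization_of_algEquiv
    (Algebra.algebraMapSubmonoid (PB R Ai) (nonZeroDivisors R)) eB

end Groth.Agent.Lead.NeronEt
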