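import Mathlib
import Groth.Agent.Lib.Lead.NeronEt7
import Groth.Agent.Lib.Lead.Weil6
import Groth.Agent.Lib.Helper8.Serre3

set_option autoImplicit false
set_option backward.isDefEq.respectTransparency.types false
set_option synthInstance.maxHeartbeats 400000
set_option linter.style.haveILetI false
set_option linter.unusedSectionVars false

universe u

open CategoryTheory AlgebraicGeometry Limits TopologicalSpace

namespace Groth.Agent.Lead.NeronEt

/-- a smooth domain over a Dedekind domain is integrally closed -/
theorem isIntegrallyClosed_of_smooth_dedekind (R C : Type u) [CommRing R] [IsDedekindDomain R]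
    [CommRing C] [IsDomain C] [Algebra R C] [Algebra.Smooth R C] : IsIntegrallyClosed C := by
  apply IsIntegrallyClosed.of_localization_maximal
  intro p _ hp
  have hsm : Smooth (Spec.map (CommRingCat.ofHom (algebraMap R C))) := by
    rw [HasRingHomProperty.Spec_iff (P := @Smooth)]
    exact RingHom.smooth_algebraMap.mpr inferInstance
  let x : Spec (CommRingCat.of C) := (⟨p, inferInstance⟩ : PrimeSpectrum C)
  haveI hreg := Groth.Agent.Lead.Weil.regular_of_smooth_dedekind
    (Spec.map (CommRingCat.ofHom (algebraMap R C))) x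
  haveI : IsRegularLocalRing (Localization.AtPrime p) :=
    @IsRegularLocalRing.of_ringEquiv _ _ hreg _ _ (StructureSheaf.stalkIso C x).toRingEquiv.symm
  exact Groth.Agent.Helper8.Serre.isIntegrallyClosed_of_isRegularLocalRing _

/-- a property local at the source can be checked on open immersions covering the source -/
theorem of_forall_exists_isOpenImmersion {P : MorphismProperty Scheme.{u}}
    [IsZariskiLocalAtSource P] {X Y : Scheme.{u}} (f : X ⟶ Y)
    (h : ∀ x : X, ∃ (W : Scheme.{u}) (j : W ⟶ X), IsOpenImmersion j ∧ x ∈ Set.range j ∧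
      P (j ≫ f)) : P f := by
  choose W j hj hx hP using h
  haveI := hj
  refine IsZariskiLocalAtSource.of_iSup_eq_top (fun x : X => (j x).opensRange) ?_ ?_
  · rw [eq_top_iff]
    intro x _
    exact Opens.mem_iSup.2 ⟨x, hx x⟩
  · intro x
    rw [← IsOpenImmersion.isoOfRangeEq_inv_fac (j x) (Scheme.Opens.ι _)
      (congr_arg Opens.carrier (j x).opensRange.opensRange_ι.symm), Category.assoc,
      P.cancel_left_of_respectsIso]
    exact hP x

/-- cancelling a monomorphism in a pullback square -/
theorem isPullback_of_comp_mono {C : Type*} [Category C] {X Y' Y S T : C} {f : X ⟶ Y'}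
    {m : Y' ⟶ Y} [Mono m] {g : X ⟶ T} {h : Y ⟶ S} {k : T ⟶ S}
    (hpb : IsPullback (f ≫ m) g h k) : IsPullback f g (m ≫ h) k := by
  refine ⟨⟨by rw [← Category.assoc, hpb.w]⟩, ⟨PullbackCone.IsLimit.mk _
    (fun s => hpb.lift (s.fst ≫ m) s.snd (by rw [Category.assoc, s.condition])) ?_ ?_ ?_⟩⟩
  · intro s
    rw [← cancel_mono m, Category.assoc, hpb.lift_fst]
  · intro s
    exact hpb.lift_snd _ _ _
  · intro s u hu1 hu2
    apply hpb.hom_ext
    · rw [hpb.lift_fst, ← Category.assoc, hu1]
    · rw [hpb.lift_snd, hu2]

end Groth.Agent.Lead.NeronEt
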