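import Mathlib
import Groth.Agent.Lib.Lead.NeronEt8

set_option autoImplicit false
set_option backward.isDefEq.respectTransparency.types false
set_option synthInstance.maxHeartbeats 400000
set_option linter.style.haveILetI false
set_option linter.unusedSectionVars false

universe u

open CategoryTheory AlgebraicGeometry Limits TopologicalSpace

namespace Groth.Agent.Lead.NeronEt

section N

variable (R : Type u) [CommRing R] [IsDedekindDomain R] (B : Type u) [CommRing B] [Algebra R B]
  [Module.Finite R B]

instance finitePresentation_of_finite : Algebra.FinitePresentation R B :=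
  Algebra.FinitePresentation.of_finiteType.mp inferInstance

/-- the étale locus of `Spec B` over `Spec R` as an open subscheme -/
def etU : (Spec (CommRingCat.of B)).Opens :=
  ⟨(Algebra.etaleLocus R B : Set (PrimeSpectrum B)), Algebra.isOpen_etaleLocus⟩

theorem mem_etU_iff (x : Spec (CommRingCat.of B)) :
    x ∈ etU R B ↔ Algebra.IsEtaleAt R (PrimeSpectrum.asIdeal x) := Iff.rfl

/-- the structure morphism of `Spec B` -/
noncomputable abbrev pB : Spec (CommRingCat.of B) ⟶ Spec (CommRingCat.of R) :=
  Spec.map (CommRingCat.ofHom (algebraMap R B))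

/-- the structure morphism of the étale locus -/
noncomputable abbrev pN : ((etU R B : (Spec (CommRingCat.of B)).Opens) : Scheme.{u}) ⟶
    Spec (CommRingCat.of R) :=
  (etU R B).ι ≫ pB R B

theorem etale_pN : Etale (pN R B) := by
  apply of_forall_exists_isOpenImmersion (P := @Etale)
  intro x
  have hx : Algebra.IsEtaleAt R (PrimeSpectrum.asIdeal ((etU R B).ι x)) :=
    (mem_etU_iff R B _).1 (by simpa using x.2)
  haveI := hx
  obtain ⟨f, hf, hfet⟩ := Algebra.exists_etale_of_isEtaleAt (R := R)
    (PrimeSpectrum.asIdeal ((etU R B).ι x))
  let j₀ : Spec (CommRingCat.of (Localization.Away f)) ⟶ Spec (CommRingCat.of B) :=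
    Spec.map (CommRingCat.ofHom (algebraMap B (Localization.Away f)))
  haveI : IsOpenImmersion j₀ := IsOpenImmersion.of_isLocalization f
  have hrange : Set.range j₀ = (PrimeSpectrum.basicOpen f : Set (PrimeSpectrum B)) :=
    PrimeSpectrum.localization_away_comap_range (Localization.Away f) f
  have hsub : Set.range j₀ ⊆ Set.range (etU R B).ι := by
    rw [hrange, Scheme.Opens.range_ι]
    exact (Algebra.basicOpen_subset_etaleLocus_iff_etale (R := R) (f := f)).2 hfet
  let j := IsOpenImmersion.lift (etU R B).ι j₀ hsub
  have hj : j ≫ (etU R B).ι = j₀ := IsOpenImmersion.lift_fac _ _ _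
  haveI : IsOpenImmersion j := by
    haveI : IsOpenImmersion (j ≫ (etU R B).ι) := by rw [hj]; infer_instance
    exact IsOpenImmersion.of_comp j (etU R B).ι
  refine ⟨_, j, inferInstance, ?_, ?_⟩
  · have hxm : (etU R B).ι x ∈ Set.range j₀ := by
      rw [hrange]
      exact hf
    obtain ⟨w, hw⟩ := hxm
    refine ⟨w, ?_⟩
    apply (etU R B).ι.isOpenEmbedding.injective
    rw [← Scheme.Hom.comp_apply, hj, hw]
  · rw [← Category.assoc, hj]
    show Etale (Spec.map (CommRingCat.ofHom (algebraMap B (Localization.Away f))) ≫
      Spec.map (CommRingCat.ofHom (algebraMap R B)))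
    rw [← Spec.map_comp, HasRingHomProperty.Spec_iff (P := @Etale)]
    have : (CommRingCat.ofHom (algebraMap R B) ≫
        CommRingCat.ofHom (algebraMap B (Localization.Away f))).hom =
        algebraMap R (Localization.Away f) := by
      ext r
      exact (IsScalarTower.algebraMap_apply R B (Localization.Away f) r).symm
    rw [this]
    exact RingHom.etale_algebraMap.mpr hfet

theorem isSeparated_pN : IsSeparated (pN R B) := inferInstance

theorem locallyQuasiFinite_pN : LocallyQuasiFinite (pN R B) := by
  haveI : IsFinite (pB R B) := by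
    rw [IsFinite.SpecMap_iff]
    exact RingHom.finite_algebraMap.mpr inferInstance
  infer_instance

theorem quasiCompact_pN : QuasiCompact (pN R B) := by
  haveI : IsNoetherianRing B := IsNoetherianRing.of_finite R B
  rw [HasAffineProperty.iff_of_isAffine (P := @QuasiCompact)]
  exact isCompact_iff_compactSpace.1
    (TopologicalSpace.NoetherianSpace.isCompact (etU R B : Set (Spec (CommRingCat.of B))))

end N

end Groth.Agent.Lead.NeronEt
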