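import Mathlib
import Groth.Agent.Lib.Lead.NeronEt9
import Groth.Agent.Lib.Lead.Weil12

set_option autoImplicit false
set_option backward.isDefEq.respectTransparency.types false
set_option synthInstance.maxHeartbeats 400000
set_option linter.style.haveILetI false
set_option linter.unusedSectionVars false

universe u

open CategoryTheory AlgebraicGeometry Limits TopologicalSpace TensorProduct

namespace Groth.Agent.Lead.NeronEt

section Ext

variable (R : Type u) [CommRing R] [IsDedekindDomain R] (B : Type u) [CommRing B] [Algebra R B]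
  [Module.Finite R B]

/-- the ring-theoretic extension property -/
def ExtProp : Prop :=
  ∀ (C C' : Type u) [CommRing C] [IsDomain C] [IsIntegrallyClosed C]
    [Algebra R C] [Algebra.Smooth R C] [CommRing C'] [Algebra C C'] [Algebra R C']
    [IsScalarTower R C C']
    [IsLocalization (Algebra.algebraMapSubmonoid C (nonZeroDivisors R)) C']
    (ψ : B →ₐ[R] C'),
    ∃ φ : B →ₐ[R] C, (∀ x, algebraMap C C' (φ x) = ψ x) ∧
      ∀ (P : Ideal C) [P.IsPrime], Algebra.IsEtaleAt R (P.comap φ.toRingHom)

attribute [local instance] Algebra.TensorProduct.rightAlgebra in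
theorem isLocalization_tensor (C : Type u) [CommRing C] [Algebra R C] :
    IsLocalization (Algebra.algebraMapSubmonoid C (nonZeroDivisors R))
      (C ⊗[R] FractionRing R) :=
  (Algebra.isLocalization_iff_isPushout (nonZeroDivisors R) (FractionRing R)).mpr inferInstance

variable {R B}

/-- extension from the generic fibre, concrete affine case -/
theorem exists_extension_conc (hext : ExtProp R B) (C : Type u) [CommRing C] [IsDomain C]
    [Algebra R C] [Algebra.Smooth R C]
    (v₀ : Spec (CommRingCat.of (C ⊗[R] FractionRing R)) ⟶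
      ((etU R B : (Spec (CommRingCat.of B)).Opens) : Scheme.{u}))
    (hv : v₀ ≫ pN R B =
      Spec.map (CommRingCat.ofHom (Algebra.TensorProduct.includeLeftRingHom :
        C →+* C ⊗[R] FractionRing R)) ≫ Spec.map (CommRingCat.ofHom (algebraMap R C))) :
    ∃ g : Spec (CommRingCat.of C) ⟶ ((etU R B : (Spec (CommRingCat.of B)).Opens) : Scheme.{u}),
      g ≫ pN R B = Spec.map (CommRingCat.ofHom (algebraMap R C)) ∧
      Spec.map (CommRingCat.ofHom (Algebra.TensorProduct.includeLeftRingHom :
        C →+* C ⊗[R] FractionRing R)) ≫ g = v₀ := by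
  classical
  haveI := isIntegrallyClosed_of_smooth_dedekind R C
  haveI := isLocalization_tensor R C
  obtain ⟨ψ₀, hψ₀⟩ : ∃ ψ₀ : CommRingCat.of B ⟶ CommRingCat.of (C ⊗[R] FractionRing R),
      Spec.map ψ₀ = v₀ ≫ (etU R B).ι := ⟨Spec.preimage _, Spec.map_preimage _⟩
  have hcomm : CommRingCat.ofHom (algebraMap R B) ≫ ψ₀ =
      CommRingCat.ofHom (algebraMap R C) ≫
        CommRingCat.ofHom (Algebra.TensorProduct.includeLeftRingHom :
          C →+* C ⊗[R] FractionRing R) := by
    apply Spec.map_injective
    rw [Spec.map_comp, Spec.map_comp, hψ₀, Category.assoc]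
    exact hv
  let ψ : B →ₐ[R] C ⊗[R] FractionRing R :=
    { toRingHom := ψ₀.hom
      commutes' := fun r => by
        have := congrArg (fun k => k.hom r) hcomm
        simpa [Algebra.TensorProduct.algebraMap_apply] using this }
  obtain ⟨φ, hφ1, hφ2⟩ := hext C (C ⊗[R] FractionRing R) ψ
  let g₀ : Spec (CommRingCat.of C) ⟶ Spec (CommRingCat.of B) :=
    Spec.map (CommRingCat.ofHom φ.toRingHom)
  have hsub : Set.range g₀ ⊆ Set.range (etU R B).ι := by
    rintro _ ⟨x, rfl⟩
    rw [Scheme.Opens.range_ι]
    haveI : (PrimeSpectrum.asIdeal x).IsPrime := PrimeSpectrum.isPrime x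
    exact hφ2 (PrimeSpectrum.asIdeal x)
  let g := IsOpenImmersion.lift (etU R B).ι g₀ hsub
  have hg : g ≫ (etU R B).ι = g₀ := IsOpenImmersion.lift_fac _ _ _
  refine ⟨g, ?_, ?_⟩
  · rw [← Category.assoc, hg, ← Spec.map_comp]
    congr 1
    ext r
    exact φ.commutes r
  · rw [← cancel_mono (etU R B).ι, Category.assoc, hg, ← hψ₀, ← Spec.map_comp]
    congr 1
    ext x
    exact hφ1 x

end Ext

end Groth.Agent.Lead.NeronEt
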