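import Mathlib
import Groth.Prelude
import Groth.Agent.Lib.Lead.NeronEt10
import Groth.Agent.Lib.Lead.NeronLoc1

set_option autoImplicit false
set_option backward.isDefEq.respectTransparency.types false
set_option synthInstance.maxHeartbeats 400000
set_option linter.style.haveILetI false
set_option linter.unusedSectionVars false

universe u

open CategoryTheory AlgebraicGeometry Limits TopologicalSpace TensorProduct

namespace Groth.Agent.Lead.NeronEt

section Ext

variable {R : Type u} [CommRing R] [IsDedekindDomain R] {B : Type u} [CommRing B] [Algebra R B]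
  [Module.Finite R B]

open Groth.Agent.Lead.Weil

/-- extension from the generic fibre, affine integral case -/
theorem exists_extension_affine (hext : ExtProp R B) {Y Z : Scheme.{u}} [IsAffine Y]
    [IsIntegral Y] (pY : Y ⟶ Spec (CommRingCat.of R)) [Smooth pY]
    (a : Z ⟶ Y) (b : Z ⟶ Spec (CommRingCat.of (FractionRing R)))
    (hpb : IsPullback a b pY (jK R))
    (v : Z ⟶ ((etU R B : (Spec (CommRingCat.of B)).Opens) : Scheme.{u}))
    (hv : v ≫ pN R B = a ≫ pY) :
    ∃ g : Y ⟶ ((etU R B : (Spec (CommRingCat.of B)).Opens) : Scheme.{u}),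
      g ≫ pN R B = pY ∧ a ≫ g = v := by
  classical
  obtain ⟨β, hβ⟩ : ∃ β : CommRingCat.of R ⟶ Γ(Y, ⊤), Spec.map β = Y.isoSpec.inv ≫ pY :=
    ⟨Spec.preimage _, Spec.map_preimage _⟩
  have hsm : Smooth (Spec.map β) := by rw [hβ]; infer_instance
  have hβsm : RingHom.Smooth β.hom := (HasRingHomProperty.Spec_iff (P := @Smooth)).mp hsm
  letI algRC : Algebra R Γ(Y, ⊤) := β.hom.toAlgebra
  haveI : Algebra.Smooth R Γ(Y, ⊤) := hβsm
  haveI : IsDomain Γ(Y, ⊤) := inferInstance
  have hpC : Spec.map (CommRingCat.ofHom (algebraMap R Γ(Y, ⊤))) = Spec.map β := rfl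
  have hpY : pY = Y.isoSpec.hom ≫ Spec.map (CommRingCat.ofHom (algebraMap R Γ(Y, ⊤))) := by
    rw [hpC, hβ, Iso.hom_inv_id_assoc]
  have hpb' : IsPullback (a ≫ Y.isoSpec.hom) b
      (Spec.map (CommRingCat.ofHom (algebraMap R Γ(Y, ⊤)))) (jK R) :=
    IsPullback.of_iso hpb (Iso.refl _) Y.isoSpec (Iso.refl _) (Iso.refl _)
      (by simp) (by simp) (by rw [Iso.refl_hom, Category.comp_id]; exact hpY) (by simp)
  have hpbT : IsPullback
      (Spec.map (CommRingCat.ofHom (Algebra.TensorProduct.includeLeftRingHom :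
        Γ(Y, ⊤) →+* Γ(Y, ⊤) ⊗[R] FractionRing R)))
      (Spec.map (CommRingCat.ofHom (Algebra.TensorProduct.includeRight :
        FractionRing R →ₐ[R] Γ(Y, ⊤) ⊗[R] FractionRing R).toRingHom))
      (Spec.map (CommRingCat.ofHom (algebraMap R Γ(Y, ⊤)))) (jK R) :=
    isPullback_SpecMap_of_isPushout _ _ _ _
      (CommRingCat.isPushout_tensorProduct R Γ(Y, ⊤) (FractionRing R))
  let eZ := hpb'.isoIsPullback _ _ hpbT
  have heZ : eZ.hom ≫ Spec.map (CommRingCat.ofHom (Algebra.TensorProduct.includeLeftRingHom :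
      Γ(Y, ⊤) →+* Γ(Y, ⊤) ⊗[R] FractionRing R)) = a ≫ Y.isoSpec.hom :=
    IsPullback.isoIsPullback_hom_fst _ _ _ _
  obtain ⟨g', hg'1, hg'2⟩ := exists_extension_conc hext Γ(Y, ⊤) (eZ.inv ≫ v) (by
    rw [Category.assoc, hv, hpY, ← Category.assoc a, ← heZ, Category.assoc,
      Iso.inv_hom_id_assoc])
  refine ⟨Y.isoSpec.hom ≫ g', ?_, ?_⟩
  · rw [Category.assoc, hg'1, ← hpY]
  · rw [← Category.assoc, ← heZ, Category.assoc, hg'2, Iso.hom_inv_id_assoc]

/-- **Extension from the generic fibre** into the étale locus of the Néron ring -/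
theorem exists_unique_extension (hext : ExtProp R B) {Y Z : Scheme.{u}}
    (pY : Y ⟶ Spec (CommRingCat.of R)) [Smooth pY]
    (a : Z ⟶ Y) (b : Z ⟶ Spec (CommRingCat.of (FractionRing R)))
    (hpb : IsPullback a b pY (jK R))
    (v : Z ⟶ ((etU R B : (Spec (CommRingCat.of B)).Opens) : Scheme.{u}))
    (hv : v ≫ pN R B = a ≫ pY) :
    ∃! g : Y ⟶ ((etU R B : (Spec (CommRingCat.of B)).Opens) : Scheme.{u}),
      g ≫ pN R B = pY ∧ a ≫ g = v := by
  classical
  haveI : IsLocallyNoetherian Y := LocallyOfFiniteType.isLocallyNoetherian pY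
  haveI hYred := isReduced_of_regular Y (regular_of_smooth_dedekind pY)
  haveI hadom : IsDominant a := isDominant_of_isPullback hpb
  haveI : IsSeparated (pN R B) := isSeparated_pN R B
  have hdom : ∀ W : Y.Opens, IsDominant (a ∣_ W) := fun W =>
    isDominant_of_isPullback (isPullback_restrict hpb W)
  have hloc : ∀ y : Y, ∃ (W : Y.Opens)
      (g : (W : Scheme.{u}) ⟶ ((etU R B : (Spec (CommRingCat.of B)).Opens) : Scheme.{u})),
      y ∈ W ∧ g ≫ pN R B = W.ι ≫ pY ∧ (a ∣_ W) ≫ g = (a ⁻¹ᵁ W).ι ≫ v := by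
    intro y
    obtain ⟨W, hyW, hW, hinj⟩ := Y.exists_germ_injective y
    haveI : IsAffine (W : Scheme.{u}) := hW
    haveI := regular_of_smooth_dedekind pY y
    haveI : IsDomain (Y.presheaf.stalk y) := Groth.Agent.Helper8.RLR.isDomain _
    haveI hdomW : IsDomain Γ(Y, W) := hinj.isDomain _
    haveI : IsDomain Γ((W : Scheme.{u}), ⊤) :=
      MulEquiv.isDomain Γ(Y, W) W.topIso.commRingCatIsoToRingEquiv.toMulEquiv
    haveI : Nonempty (W : Scheme.{u}) := ⟨⟨y, hyW⟩⟩
    haveI hint : IsIntegral (W : Scheme.{u}) := isIntegral_of_isAffine_of_isDomain _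
    obtain ⟨g, hg1, hg2⟩ := exists_extension_affine hext (W.ι ≫ pY) (a ∣_ W)
      ((a ⁻¹ᵁ W).ι ≫ b) (isPullback_restrict hpb W) ((a ⁻¹ᵁ W).ι ≫ v)
      (by rw [Category.assoc, hv, ← Category.assoc, ← morphismRestrict_ι, Category.assoc])
    exact ⟨W, g, hyW, hg1, hg2⟩
  obtain ⟨gg, h1, h2⟩ := Groth.Agent.Lead.NeronLoc.exists_glue pY (pN R B) a hdom v hloc
  refine ⟨gg, ⟨h1, h2⟩, ?_⟩
  rintro g' ⟨hg'1, hg'2⟩
  refine ext_of_isDominant_of_isSeparated (pN R B) ?_ a ?_
  · rw [hg'1, h1]
  · rw [hg'2, h2]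

/-- the Néron mapping property of the étale locus of the Néron ring -/
theorem bijective_genericFibre_map (hext : ExtProp R B)
    (Y : Over (Spec (CommRingCat.of R))) (hY : Smooth Y.hom) :
    Function.Bijective (fun g : Y ⟶ Over.mk (pN R B) => (Neron.genericFibre R).map g) := by
  classical
  haveI : Smooth Y.hom := hY
  set G : Over (Spec (CommRingCat.of R)) := Over.mk (pN R B) with hG
  have hbc1 : ∀ g : Y ⟶ G, ((Over.pullback (Neron.genPt R)).map g).left ≫
      pullback.fst G.hom (Neron.genPt R) = pullback.fst Y.hom (Neron.genPt R) ≫ g.left := by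
    intro g
    simp only [Over.pullback_map_left]
    exact pullback.lift_fst _ _ _
  have hbc2 : ∀ g : Y ⟶ G, ((Over.pullback (Neron.genPt R)).map g).left ≫
      pullback.snd G.hom (Neron.genPt R) = pullback.snd Y.hom (Neron.genPt R) := by
    intro g
    simp only [Over.pullback_map_left]
    exact pullback.lift_snd _ _ _
  constructor
  · intro g g' hgg
    have hgg' : (Over.pullback (Neron.genPt R)).map g = (Over.pullback (Neron.genPt R)).map g' := hgg
    have hl : pullback.fst Y.hom (Neron.genPt R) ≫ g.left =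
        pullback.fst Y.hom (Neron.genPt R) ≫ g'.left := by
      rw [← hbc1 g, ← hbc1 g', hgg']
    obtain ⟨g₀, -, huniq⟩ := exists_unique_extension hext Y.hom
      (pullback.fst Y.hom (Neron.genPt R)) (pullback.snd Y.hom (Neron.genPt R))
      (IsPullback.of_hasPullback _ _) (pullback.fst Y.hom (Neron.genPt R) ≫ g.left)
      (by rw [Category.assoc]; exact congrArg _ (Over.w g))
    apply Over.OverMorphism.ext
    rw [huniq g.left ⟨Over.w g, rfl⟩, huniq g'.left ⟨Over.w g', hl.symm⟩]
  · intro w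
    have hw : w.left ≫ pullback.snd G.hom (Neron.genPt R) = pullback.snd Y.hom (Neron.genPt R) :=
      Over.w w
    obtain ⟨g₀, ⟨hg1, hg2⟩, -⟩ := exists_unique_extension hext Y.hom
      (pullback.fst Y.hom (Neron.genPt R)) (pullback.snd Y.hom (Neron.genPt R))
      (IsPullback.of_hasPullback _ _) (w.left ≫ pullback.fst G.hom (Neron.genPt R))
      (by
        rw [Category.assoc]
        have := pullback.condition (f := G.hom) (g := Neron.genPt R)
        rw [show pN R B = G.hom from rfl, this, ← Category.assoc, hw, pullback.condition])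
    refine ⟨Over.homMk g₀ hg1, ?_⟩
    show (Over.pullback (Neron.genPt R)).map (Over.homMk g₀ hg1) = w
    apply Over.OverMorphism.ext
    apply pullback.hom_ext
    · rw [hbc1]; exact hg2
    · rw [hbc2]; exact hw.symm

end Ext

end Groth.Agent.Lead.NeronEt
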