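import Mathlib
import Groth.Prelude
import Groth.Agent.Lib.Lead.NeronEt11

set_option autoImplicit false
set_option backward.isDefEq.respectTransparency.types false
set_option synthInstance.maxHeartbeats 400000
set_option linter.style.haveILetI false
set_option linter.unusedSectionVars false

universe u

open CategoryTheory AlgebraicGeometry Limits TopologicalSpace TensorProduct

namespace Groth.Agent.Lead.NeronEt

/-- **Néron models of finite étale schemes over the fraction field of a Dedekind domain.** -/
theorem main (R : Type u) [CommRing R] [IsDedekindDomain R]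
    (G : Over (Spec (CommRingCat.of (FractionRing R)))) [IsFinite G.hom] [Etale G.hom] :
    ∃ (N : Over (Spec (CommRingCat.of R))) (e : (Neron.genericFibre R).obj N ≅ G),
      Neron.IsNeronModelOf R N G e ∧ Etale N.hom ∧ LocallyQuasiFinite N.hom := by
  classical
  haveI : IsAffine G.left := isAffine_of_isAffineHom G.hom
  obtain ⟨β, hβ⟩ : ∃ β : CommRingCat.of (FractionRing R) ⟶ Γ(G.left, ⊤),
      Spec.map β = G.left.isoSpec.inv ≫ G.hom := ⟨Spec.preimage _, Spec.map_preimage _⟩
  have het : Etale (Spec.map β) := by rw [hβ]; infer_instance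
  have hβet : RingHom.Etale β.hom := (HasRingHomProperty.Spec_iff (P := @Etale)).mp het
  letI algKL : Algebra (FractionRing R) Γ(G.left, ⊤) := β.hom.toAlgebra
  haveI : Algebra.Etale (FractionRing R) Γ(G.left, ⊤) := hβet
  letI algRL : Algebra R Γ(G.left, ⊤) :=
    ((algebraMap (FractionRing R) Γ(G.left, ⊤)).comp (algebraMap R (FractionRing R))).toAlgebra
  haveI : IsScalarTower R (FractionRing R) Γ(G.left, ⊤) :=
    IsScalarTower.of_algebraMap_eq (fun _ => rfl)
  obtain ⟨B, _, _, ι, hfin, hflat, hloc, hgen, hext⟩ := exists_neron_ring R Γ(G.left, ⊤)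
  haveI := hfin
  have hext' : ExtProp R B := hext
  letI algBL : Algebra B Γ(G.left, ⊤) := ι.toRingHom.toAlgebra
  haveI hloc' : IsLocalization (Submonoid.map (algebraMap R B) (nonZeroDivisors R))
      Γ(G.left, ⊤) := hloc
  have H : (algebraMap (FractionRing R) Γ(G.left, ⊤)).comp (algebraMap R (FractionRing R)) =
      (algebraMap B Γ(G.left, ⊤)).comp (algebraMap R B) := by
    ext r
    exact (ι.commutes r).symm
  have hpush := CommRingCat.isPushout_of_isLocalization (algebraMap R B)
    (algebraMap (FractionRing R) Γ(G.left, ⊤)) H (nonZeroDivisors R)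
  have hpbL : IsPullback (Spec.map (CommRingCat.ofHom (algebraMap B Γ(G.left, ⊤))))
      (Spec.map (CommRingCat.ofHom (algebraMap (FractionRing R) Γ(G.left, ⊤))))
      (pB R B) (Neron.genPt R) :=
    isPullback_SpecMap_of_isPushout _ _ _ _ hpush
  -- the generic fibre lands in the étale locus
  have hsub : Set.range (Spec.map (CommRingCat.ofHom (algebraMap B Γ(G.left, ⊤)))) ⊆
      Set.range (etU R B).ι := by
    rintro _ ⟨x, rfl⟩
    rw [Scheme.Opens.range_ι]
    haveI : (PrimeSpectrum.asIdeal x).IsPrime := PrimeSpectrum.isPrime x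
    refine hgen ((PrimeSpectrum.asIdeal x).comap (algebraMap B Γ(G.left, ⊤))) ?_
    rw [Ideal.under_def, Ideal.comap_comap, ← H, ← Ideal.comap_comap]
    have h0 : (PrimeSpectrum.asIdeal x).comap (algebraMap (FractionRing R) Γ(G.left, ⊤)) = ⊥ :=
      (Ideal.eq_bot_or_top _).resolve_right (Ideal.IsPrime.ne_top inferInstance)
    rw [h0]
    exact Ideal.comap_bot_of_injective _ (IsFractionRing.injective R (FractionRing R))
  let jU := IsOpenImmersion.lift (etU R B).ι
    (Spec.map (CommRingCat.ofHom (algebraMap B Γ(G.left, ⊤)))) hsub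
  have hjU : jU ≫ (etU R B).ι = Spec.map (CommRingCat.ofHom (algebraMap B Γ(G.left, ⊤))) :=
    IsOpenImmersion.lift_fac _ _ _
  have hpbU : IsPullback jU
      (Spec.map (CommRingCat.ofHom (algebraMap (FractionRing R) Γ(G.left, ⊤))))
      (pN R B) (Neron.genPt R) :=
    isPullback_of_comp_mono (by rw [hjU]; exact hpbL)
  have hbL : Spec.map (CommRingCat.ofHom (algebraMap (FractionRing R) Γ(G.left, ⊤))) =
      G.left.isoSpec.inv ≫ G.hom := hβ
  have hpbG : IsPullback (G.left.isoSpec.hom ≫ jU) G.hom (pN R B) (Neron.genPt R) :=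
    IsPullback.of_iso hpbU G.left.isoSpec.symm (Iso.refl _) (Iso.refl _) (Iso.refl _)
      (by simp) (by rw [Iso.refl_hom, Category.comp_id, hbL]; rfl) (by simp) (by simp)
  let N : Over (Spec (CommRingCat.of R)) := Over.mk (pN R B)
  let e : (Neron.genericFibre R).obj N ≅ G :=
    Over.isoMk hpbG.isoPullback.symm (hpbG.isoPullback_inv_snd)
  haveI hEt : Etale N.hom := etale_pN R B
  refine ⟨N, e, ⟨inferInstance, isSeparated_pN R B, inferInstance, quasiCompact_pN R B, ?_⟩,
    hEt, locallyQuasiFinite_pN R B⟩
  intro Y hY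
  exact (Iso.homToEquiv e).bijective.comp (bijective_genericFibre_map hext' Y hY)

end Groth.Agent.Lead.NeronEt
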