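import Mathlib
import Groth.Prelude
import Groth.Agent.Lib.Lead.EtDesc1
import Groth.Agent.Lib.Helper6.Normal.Scheme

set_option autoImplicit false
set_option linter.style.haveILetI false
set_option linter.unusedSectionVars false

universe u

open CategoryTheory CategoryTheory.Limits AlgebraicGeometry TopologicalSpace

namespace Groth.Agent.Lead.NeronFin1

/-- A morphism from a smooth `S`-scheme to a normal scheme `T`, finite and locally of finite
presentation over `S`, lands in the smooth locus of `T → S`. -/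
theorem mem_smoothLocus_of_section {S T Z : Scheme.{u}} (π : T ⟶ S) [IsFinite π]
    [LocallyOfFinitePresentation π] (hT : Pi1.IsNormalScheme T) (h : Z ⟶ S) [Smooth h]
    (g : Z ⟶ T) (hg : g ≫ π = h) (z : Z) : g z ∈ π.smoothLocus := by
  obtain ⟨_, ⟨U, hU : IsAffineOpen U, rfl⟩, hzU, -⟩ :=
    S.isBasis_affineOpens.exists_subset_of_mem_open (Set.mem_univ (h z)) isOpen_univ
  have hV : IsAffineOpen (π ⁻¹ᵁ U) := hU.preimage π
  have hzU' : z ∈ h ⁻¹ᵁ U := hzU
  obtain ⟨_, ⟨W, hW : IsAffineOpen W, rfl⟩, hzW, hWU : W ≤ h ⁻¹ᵁ U⟩ :=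
    Z.isBasis_affineOpens.exists_subset_of_mem_open hzU' (h ⁻¹ᵁ U).isOpen
  have hWV : W ≤ g ⁻¹ᵁ (π ⁻¹ᵁ U) := by
    intro x hx
    have := hWU hx
    simp only [Scheme.Hom.mem_preimage] at this ⊢
    rw [← Scheme.Hom.comp_apply, hg]
    exact this
  have hgzV : g z ∈ π ⁻¹ᵁ U := hWV hzW
  have hfp := π.finitePresentation_appLE hU hV le_rfl
  have hsm := h.smooth_appLE hU hW hWU
  have hfin : (π.appLE U (π ⁻¹ᵁ U) le_rfl).hom.Finite := by
    rw [← Scheme.Hom.app_eq_appLE]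
    exact IsFinite.finite_app π _ hU
  algebraize [(π.appLE U (π ⁻¹ᵁ U) le_rfl).hom, (h.appLE U W hWU).hom]
  rw [Scheme.Hom.mem_smoothLocus, formallySmooth_stalkMap_iff U hU (π ⁻¹ᵁ U) hV le_rfl hgzV]
  have hB : EGA4.IsNormalRing Γ(T, π ⁻¹ᵁ U) :=
    (Groth.Agent.Lib.Helper6.Normal.isNormalRing_iff_affine hV).mpr fun x _ => hT x
  let φ : Γ(T, π ⁻¹ᵁ U) →ₐ[Γ(S, U)] Γ(Z, W) :=
    { (g.appLE (π ⁻¹ᵁ U) W hWV).hom with
      commutes' := fun a => by
        simp only [RingHom.algebraMap_toAlgebra]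
        change ((π.appLE U (π ⁻¹ᵁ U) le_rfl) ≫ (g.appLE (π ⁻¹ᵁ U) W hWV)).hom a = _
        rw [Scheme.Hom.appLE_comp_appLE]
        subst hg
        rfl }
  haveI : Algebra.IsIntegral Γ(S, U) Γ(T, π ⁻¹ᵁ U) := Algebra.IsIntegral.of_finite _ _
  have key := Groth.Agent.Lead.EtDesc1.isSmoothAt_comap_of_section hB φ
    (hW.primeIdealOf ⟨z, hzW⟩).asIdeal
  have hcomap := IsAffineOpen.comap_primeIdealOf_appLE (f := g) (π ⁻¹ᵁ U) hV W hW hWV hzW
  rw [← hcomap]
  exact key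

end Groth.Agent.Lead.NeronFin1
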