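import Mathlib
import Groth.Prelude
import Groth.Agent.Lib.Lead.PicExt2
import Groth.Agent.Lib.Helper4.IntSection1

set_option autoImplicit false
set_option linter.style.haveILetI false
set_option linter.unusedSectionVars false

universe u

open CategoryTheory CategoryTheory.Limits AlgebraicGeometry TopologicalSpace

namespace Groth.Agent.Lead.NeronFin2

variable {S T Z : Scheme.{u}}

/-- local extension over an integral normal open subscheme -/
theorem exists_local_extension (π : T ⟶ S) [IsIntegralHom π] (f : Z ⟶ S)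
    (hZ : Pi1.IsNormalScheme Z) (Z₀ : Z.Opens) (hd : Dense (Z₀ : Set Z))
    (g₀ : (Z₀ : Scheme.{u}) ⟶ T) (hg₀ : g₀ ≫ π = Z₀.ι ≫ f)
    (W : Z.Opens) [IsIntegral (W : Scheme.{u})] :
    ∃ gW : (W : Scheme.{u}) ⟶ T, gW ≫ π = W.ι ≫ f ∧
      ∀ (Q : Scheme.{u}) (a : Q ⟶ (W : Scheme.{u})) (c : Q ⟶ (Z₀ : Scheme.{u})),
        a ≫ W.ι = c ≫ Z₀.ι → a ≫ gW = c ≫ g₀ := by
  have hW : Pi1.IsNormalScheme (W : Scheme.{u}) := by
    intro x
    obtain ⟨h1, h2⟩ := hZ x.1
    haveI := h1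
    haveI := h2
    let e := (W.stalkIso x).commRingCatIsoToRingEquiv
    exact ⟨e.toMulEquiv.isDomain _, IsIntegrallyClosed.of_equiv e.symm⟩
  let U : (W : Scheme.{u}).Opens := W.ι ⁻¹ᵁ Z₀
  have hU : Dense (U : Set (W : Scheme.{u})) := by
    apply IsOpen.dense U.isOpen
    obtain ⟨x, hx⟩ : ((W : Set Z) ∩ (Z₀ : Set Z)).Nonempty := by
      apply hd.inter_open_nonempty _ W.isOpen
      obtain ⟨w⟩ := (inferInstance : Nonempty (W : Scheme.{u}))
      exact ⟨w.1, w.2⟩
    exact ⟨⟨x, hx.1⟩, hx.2⟩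
  let p : pullback (W.ι ≫ f) π ⟶ (W : Scheme.{u}) := pullback.fst _ _
  let s : (U : Scheme.{u}) ⟶ pullback (W.ι ≫ f) π :=
    pullback.lift U.ι (W.ι.resLE Z₀ U le_rfl ≫ g₀) (by
      rw [Category.assoc, hg₀, Scheme.Hom.resLE_comp_ι_assoc])
  have hs : s ≫ p = U.ι := pullback.lift_fst _ _ _
  obtain ⟨s', hs'1, hs'2⟩ := Groth.Agent.Lib.Helper4.IntSection1.S2358_main hW p U hU s hs
  refine ⟨s' ≫ pullback.snd _ _, ?_, ?_⟩
  · rw [Category.assoc, ← pullback.condition, ← Category.assoc]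
    change (s' ≫ p) ≫ _ = _
    rw [hs'1, Category.id_comp]
  · intro Q a c hac
    have hrange : Set.range a ⊆ Set.range U.ι := by
      rintro _ ⟨q, rfl⟩
      rw [Scheme.Opens.range_ι]
      change W.ι (a q) ∈ Z₀
      rw [← Scheme.Hom.comp_apply, hac, Scheme.Hom.comp_apply]
      exact (c q).2
    let a' : Q ⟶ (U : Scheme.{u}) := IsOpenImmersion.lift U.ι a hrange
    have ha' : a' ≫ U.ι = a := IsOpenImmersion.lift_fac _ _ _
    have hc : a' ≫ W.ι.resLE Z₀ U le_rfl = c := by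
      rw [← cancel_mono Z₀.ι, Category.assoc, Scheme.Hom.resLE_comp_ι, ← Category.assoc, ha', hac]
    rw [← ha', Category.assoc, ← Category.assoc U.ι, hs'2, pullback.lift_snd, ← Category.assoc, hc]

/-- **Extension of morphisms to integral schemes over a normal base**: a morphism from a dense open
subscheme of a locally Noetherian normal scheme `Z` to a scheme `T` integral over `S` extends to
`Z` (as a morphism of `S`-schemes). -/
theorem exists_extension [IsLocallyNoetherian Z] (π : T ⟶ S) [IsIntegralHom π] (f : Z ⟶ S)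
    (hZ : Pi1.IsNormalScheme Z) (Z₀ : Z.Opens) (hd : Dense (Z₀ : Set Z))
    (g₀ : (Z₀ : Scheme.{u}) ⟶ T) (hg₀ : g₀ ≫ π = Z₀.ι ≫ f) :
    ∃ g : Z ⟶ T, g ≫ π = f ∧ Z₀.ι ≫ g = g₀ := by
  have hex : ∀ z : Z, ∃ W : Z.Opens, z ∈ W ∧ IsIntegral (W : Scheme.{u}) := fun z => by
    haveI := (hZ z).1
    exact Groth.Agent.Lead.PicExt2.exists_integral_nhd_of_isDomain z
  choose W hzW hWint using hex
  haveI : ∀ z, IsIntegral (W z : Scheme.{u}) := hWint
  let 𝒰 : Z.OpenCover := {
    I₀ := Z, X i := (W i), f i := (W i).ι,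
    mem₀ := by
      rw [Scheme.presieve₀_mem_precoverage_iff]
      refine ⟨fun x ↦ ⟨x, by simpa using hzW x⟩, inferInstance⟩ }
  choose gW hgW1 hgW2 using fun z => exists_local_extension π f hZ Z₀ hd g₀ hg₀ (W z)
  haveI : IsReduced Z := by
    haveI : ∀ x : Z, _root_.IsReduced (Z.presheaf.stalk x) := fun x => by
      haveI := (hZ x).1
      infer_instance
    exact isReduced_of_isReduced_stalk Z
  have hglue : ∀ x y : Z, pullback.fst (𝒰.f x) (𝒰.f y) ≫ gW x = pullback.snd _ _ ≫ gW y := by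
    intro x y
    change pullback.fst (W x).ι (W y).ι ≫ gW x = pullback.snd (W x).ι (W y).ι ≫ gW y
    let q : pullback (W x).ι (W y).ι ⟶ Z := pullback.fst _ _ ≫ (W x).ι
    haveI : IsReduced (pullback (W x).ι (W y).ι) := isReduced_of_isOpenImmersion q
    haveI : IsDominant (pullback.fst q Z₀.ι) := by
      constructor
      rw [DenseRange, Scheme.Pullback.range_fst, Scheme.Opens.range_ι]
      exact hd.preimage q.isOpenEmbedding.isOpenMap
    refine ext_of_isDominant_of_isSeparated π ?_ (pullback.fst q Z₀.ι) ?_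
    · rw [Category.assoc, Category.assoc, hgW1, hgW1, pullback.condition_assoc]
    · rw [← Category.assoc, ← Category.assoc,
        hgW2 x _ (pullback.fst q Z₀.ι ≫ pullback.fst _ _) (pullback.snd q Z₀.ι) ?_,
        hgW2 y _ (pullback.fst q Z₀.ι ≫ pullback.snd _ _) (pullback.snd q Z₀.ι) ?_]
      · rw [Category.assoc, ← pullback.condition, ← pullback.condition]
      · rw [Category.assoc, ← pullback.condition]
  let g : Z ⟶ T := 𝒰.glueMorphisms gW hglue
  have hg : ∀ z, (W z).ι ≫ g = gW z := fun z => 𝒰.ι_glueMorphisms gW hglue z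
  refine ⟨g, ?_, ?_⟩
  · refine 𝒰.hom_ext _ _ fun z => ?_
    change (W z).ι ≫ g ≫ π = (W z).ι ≫ f
    rw [← Category.assoc, hg, hgW1]
  · refine Scheme.Cover.hom_ext (𝒰.pullback₁ Z₀.ι) _ _ fun (z : Z) => ?_
    change pullback.fst Z₀.ι (W z).ι ≫ Z₀.ι ≫ g = pullback.fst Z₀.ι (W z).ι ≫ g₀
    rw [pullback.condition_assoc, hg z]
    exact hgW2 z _ _ _ pullback.condition.symm

end Groth.Agent.Lead.NeronFin2
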