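import Mathlib
import Groth.Prelude
import Groth.Agent.Lib.Lead.NeronFin1
import Groth.Agent.Lib.Lead.NeronFin2
import Groth.Agent.Lib.Lead.EtDense1

set_option autoImplicit false
set_option linter.style.haveILetI false
set_option linter.unusedSectionVars false

universe u

open CategoryTheory CategoryTheory.Limits AlgebraicGeometry TopologicalSpace

namespace Groth.Agent.Lead.NeronFin3

theorem main {S : Scheme.{u}} [IsLocallyNoetherian S] (hS : Pi1.IsNormalScheme S)
    (S₀ : S.Opens) (hd : Dense (S₀ : Set S))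
    {T : Scheme.{u}} (π : T ⟶ S) [IsFinite π] [LocallyOfFinitePresentation π]
    (hT : Pi1.IsNormalScheme T) (Z : Over S) [Smooth Z.hom] :
    Function.Bijective (fun g : Z ⟶ Over.mk (π.smoothLocus.ι ≫ π) =>
      (Over.pullback S₀.ι).map g) := by
  have hZn : Pi1.IsNormalScheme Z.left :=
    Groth.Agent.Lib.Helper6.Normal.isNormalScheme_of_smooth Z.hom hS
  haveI : IsLocallyNoetherian Z.left := LocallyOfFiniteType.isLocallyNoetherian Z.hom
  let Z₀ : Z.left.Opens := Z.hom ⁻¹ᵁ S₀
  have hdZ : Dense (Z₀ : Set Z.left) := hd.preimage Z.hom.isOpenMap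
  let j : pullback Z.hom S₀.ι ⟶ Z.left := pullback.fst _ _
  have hrange : Set.range j = (Z₀ : Set Z.left) := by
    rw [Scheme.Pullback.range_fst, Scheme.Opens.range_ι]
    rfl
  haveI : IsReduced Z.left := by
    haveI : ∀ x : Z.left, _root_.IsReduced (Z.left.presheaf.stalk x) := fun x => by
      haveI := (hZn x).1
      infer_instance
    exact isReduced_of_isReduced_stalk Z.left
  haveI : IsDominant j := ⟨by rw [DenseRange, hrange]; exact hdZ⟩
  constructor
  · intro G₁ G₂ hG
    have hG' : (Over.pullback S₀.ι).map G₁ = (Over.pullback S₀.ι).map G₂ := hG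
    have hfst : ∀ G : Z ⟶ Over.mk (π.smoothLocus.ι ≫ π),
        ((Over.pullback S₀.ι).map G).left ≫ pullback.fst (π.smoothLocus.ι ≫ π) S₀.ι =
          j ≫ G.left := fun G => pullback.lift_fst _ _ _
    have h1 : j ≫ G₁.left = j ≫ G₂.left := by
      rw [← hfst G₁, ← hfst G₂, hG']
    ext1
    exact ext_of_isDominant_of_isSeparated (π.smoothLocus.ι ≫ π)
      (by
        have w1 : G₁.left ≫ π.smoothLocus.ι ≫ π = Z.hom := Over.w G₁
        have w2 : G₂.left ≫ π.smoothLocus.ι ≫ π = Z.hom := Over.w G₂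
        rw [w1, w2]) j h1
  · intro h
    let e : (Z₀ : Scheme.{u}) ⟶ pullback Z.hom S₀.ι :=
      IsOpenImmersion.lift j Z₀.ι (by rw [hrange, Scheme.Opens.range_ι])
    have he : e ≫ j = Z₀.ι := IsOpenImmersion.lift_fac _ _ _
    let e' : pullback Z.hom S₀.ι ⟶ (Z₀ : Scheme.{u}) :=
      IsOpenImmersion.lift Z₀.ι j (by rw [hrange, Scheme.Opens.range_ι])
    have he' : e' ≫ Z₀.ι = j := IsOpenImmersion.lift_fac _ _ _
    have hee : e' ≫ e = 𝟙 _ := by
      rw [← cancel_mono j, Category.assoc, he, he', Category.id_comp]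
    let g₀ : (Z₀ : Scheme.{u}) ⟶ T :=
      e ≫ h.left ≫ pullback.fst (π.smoothLocus.ι ≫ π) S₀.ι ≫ π.smoothLocus.ι
    have hw : h.left ≫ pullback.snd (π.smoothLocus.ι ≫ π) S₀.ι = pullback.snd Z.hom S₀.ι :=
      Over.w h
    have hg₀ : g₀ ≫ π = Z₀.ι ≫ Z.hom := by
      simp only [g₀, Category.assoc]
      rw [← he, Category.assoc]
      congr 1
      have hc : pullback.fst (π.smoothLocus.ι ≫ π) S₀.ι ≫ π.smoothLocus.ι ≫ π =
          pullback.snd _ _ ≫ S₀.ι := pullback.condition
      rw [hc, ← Category.assoc, hw, ← pullback.condition]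
    obtain ⟨g, hg1, hg2⟩ :=
      Groth.Agent.Lead.NeronFin2.exists_extension π Z.hom hZn Z₀ hdZ g₀ hg₀
    have hmem : ∀ z, g z ∈ π.smoothLocus :=
      Groth.Agent.Lead.NeronFin1.mem_smoothLocus_of_section π hT Z.hom g hg1
    let g' : Z.left ⟶ (π.smoothLocus : Scheme.{u}) :=
      IsOpenImmersion.lift π.smoothLocus.ι g (by
        rintro _ ⟨z, rfl⟩
        rw [Scheme.Opens.range_ι]
        exact hmem z)
    have hg' : g' ≫ π.smoothLocus.ι = g := IsOpenImmersion.lift_fac _ _ _
    refine ⟨Over.homMk g' (by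
      change g' ≫ π.smoothLocus.ι ≫ π = Z.hom
      rw [← Category.assoc, hg', hg1]), ?_⟩
    ext1
    apply pullback.hom_ext
    · simp only [Over.pullback_map_left, Over.homMk_left, pullback.lift_fst]
      rw [← cancel_mono π.smoothLocus.ι, Category.assoc, hg']
      change j ≫ g = _
      rw [← he', Category.assoc, hg2]
      simp only [g₀]
      rw [← Category.assoc e', hee, Category.id_comp]
      rfl
    · simp only [Over.pullback_map_left, Over.homMk_left, pullback.lift_snd]
      exact hw.symm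

end Groth.Agent.Lead.NeronFin3
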