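import Mathlib
import Groth.Prelude.Def_WeilRes
import Groth.Prelude.Def_GmPts

/-!
# S18694: sections of `R_{B/A}(G_m)` over a semilocal ring lift from the closed points (lead)
-/

set_option backward.isDefEq.respectTransparency.types false
set_option synthInstance.maxHeartbeats 400000
set_option linter.style.haveILetI false
set_option linter.unusedSectionVars false
set_option autoImplicit false

universe u
open CategoryTheory CategoryTheory.Limits AlgebraicGeometry Opposite

namespace Groth.Agent.Lead.WeilGm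

section Sq

variable {S S' : Scheme.{u}} (f : S' ⟶ S) {T T' : Over S} (g : T' ⟶ T)

theorem bc_left_fst : ((Over.pullback f).map g).left ≫ pullback.fst T.hom f =
    pullback.fst T'.hom f ≫ g.left := by
  simp only [Over.pullback_map_left]
  exact pullback.lift_fst _ _ _

theorem bc_left_snd : ((Over.pullback f).map g).left ≫ pullback.snd T.hom f =
    pullback.snd T'.hom f := by
  simp only [Over.pullback_map_left]
  exact pullback.lift_snd _ _ _

theorem isPullback_bc_left : IsPullback ((Over.pullback f).map g).left (pullback.fst T'.hom f)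
    (pullback.fst T.hom f) g.left := by
  refine IsPullback.of_right ?_ (bc_left_fst f g) (IsPullback.of_hasPullback T.hom f).flip
  rw [bc_left_snd, Over.w g]
  exact (IsPullback.of_hasPullback T'.hom f).flip

end Sq

section UnitLift

variable {A : Type u} [CommRing A]

/-- structure map on global sections -/
noncomputable def θ {Z : Scheme.{u}} (p : Z ⟶ Spec (CommRingCat.of A)) : A →+* Γ(Z, ⊤) :=
  ((Scheme.ΓSpecIso (CommRingCat.of A)).inv ≫ p.appTop).hom

theorem θ_comp {Z Z' : Scheme.{u}} (j : Z' ⟶ Z) (p : Z ⟶ Spec (CommRingCat.of A)) (a : A) :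
    j.appTop.hom (θ p a) = θ (j ≫ p) a := by
  simp [θ]

theorem θ_specMap {A' : Type u} [CommRing A'] (φ : A →+* A') {Z : Scheme.{u}}
    (p : Z ⟶ Spec (CommRingCat.of A')) (a : A) :
    θ (p ≫ Spec.map (CommRingCat.ofHom φ)) a = θ p (φ a) := by
  have h := Scheme.ΓSpecIso_inv_naturality (CommRingCat.ofHom φ)
  have h2 : (Scheme.ΓSpecIso (CommRingCat.of A)).inv ≫ (p ≫ Spec.map (CommRingCat.ofHom φ)).appTop =
      CommRingCat.ofHom φ ≫ (Scheme.ΓSpecIso (CommRingCat.of A')).inv ≫ p.appTop := by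
    rw [Scheme.Hom.comp_appTop, ← Category.assoc, ← h, Category.assoc]
  change ((Scheme.ΓSpecIso (CommRingCat.of A)).inv ≫
    (p ≫ Spec.map (CommRingCat.ofHom φ)).appTop).hom a = _
  rw [h2]
  rfl


variable [Finite (MaximalSpectrum A)]

theorem exists_unit_lift {Z₀ : Scheme.{u}} [IsAffine Z₀] (p₀ : Z₀ ⟶ Spec (CommRingCat.of A))
    [IsFinite p₀] (Z : MaximalSpectrum A → Scheme.{u}) (j : ∀ m, Z m ⟶ Z₀)
    (p : ∀ m : MaximalSpectrum A, Z m ⟶ Spec (CommRingCat.of (A ⧸ m.asIdeal)))
    (sq : ∀ m : MaximalSpectrum A, IsPullback (j m) (p m) p₀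
      (Spec.map (CommRingCat.ofHom (Ideal.Quotient.mk m.asIdeal))))
    (ν : ∀ m, (Γ(Z m, ⊤))ˣ) :
    ∃ w : (Γ(Z₀, ⊤))ˣ, ∀ m, Units.map (j m).appTop.hom.toMonoidHom w = ν m := by
  -- closed immersions
  have hci : ∀ m, IsClosedImmersion (j m) := by
    intro m
    have h0 : IsClosedImmersion (Spec.map (CommRingCat.ofHom (Ideal.Quotient.mk m.asIdeal))) :=
      IsClosedImmersion.spec_of_surjective _ Ideal.Quotient.mk_surjective
    exact MorphismProperty.of_isPullback (P := @IsClosedImmersion) (sq m).flip h0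
  have hsurj : ∀ m, Function.Surjective (j m).appTop.hom := fun m =>
    (IsClosedImmersion.isAffine_surjective_of_isAffine (j m)).2
  -- kernels are pairwise coprime
  have hker : ∀ (m : MaximalSpectrum A) (a : A), a ∈ m.asIdeal →
      θ p₀ a ∈ RingHom.ker (j m).appTop.hom := by
    intro m a ha
    rw [RingHom.mem_ker, θ_comp, (sq m).w, θ_specMap]
    rw [Ideal.Quotient.eq_zero_iff_mem.mpr ha, map_zero]
  have hcop : Pairwise (Function.onFun IsCoprime fun m => RingHom.ker (j m).appTop.hom) := by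
    intro m m' hne
    rw [Function.onFun, Ideal.isCoprime_iff_exists]
    have hsup : m.asIdeal ⊔ m'.asIdeal = ⊤ :=
      Ideal.IsMaximal.coprime_of_ne m.isMaximal m'.isMaximal
        (fun h => hne (MaximalSpectrum.ext h))
    have h1 : (1 : A) ∈ m.asIdeal ⊔ m'.asIdeal := hsup ▸ Submodule.mem_top
    obtain ⟨a, ha, a', ha', haa⟩ := Submodule.mem_sup.mp h1
    refine ⟨θ p₀ a, hker m a ha, θ p₀ a', hker m' a' ha', ?_⟩
    rw [← map_add, haa, map_one]
  choose x hx using fun m => hsurj m (ν m : Γ(Z m, ⊤))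
  obtain ⟨r, hr⟩ := Ideal.exists_forall_sub_mem_ideal hcop x
  have hrm : ∀ m, (j m).appTop.hom r = (ν m : Γ(Z m, ⊤)) := by
    intro m
    have := hr m
    rw [RingHom.mem_ker, map_sub, sub_eq_zero, hx m] at this
    exact this
  have hunit : IsUnit r := by
    by_contra hnu
    obtain ⟨𝔫, h𝔫, hr𝔫⟩ := exists_max_ideal_of_mem_nonunits (show r ∈ nonunits _ from hnu)
    let zs : Spec Γ(Z₀, ⊤) := (⟨𝔫, h𝔫.isPrime⟩ : PrimeSpectrum Γ(Z₀, ⊤))
    let z : Z₀ := Z₀.isoSpec.inv zs
    have hz1 : Z₀.toSpecΓ z = zs := by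
      rw [← Scheme.isoSpec_hom]
      exact Scheme.inv_hom_apply Z₀.isoSpec zs
    -- `z` is a closed point
    have hzcl : IsClosed ({z} : Set Z₀) := by
      have h1 : IsClosed ({zs} : Set (Spec Γ(Z₀, ⊤))) :=
        (PrimeSpectrum.isClosed_singleton_iff_isMaximal _).mpr h𝔫
      have h2 : ({z} : Set Z₀) = Z₀.toSpecΓ ⁻¹' {zs} := by
        ext y
        simp only [Set.mem_singleton_iff, Set.mem_preimage]
        constructor
        · rintro rfl; exact hz1
        · intro hy
          have : Z₀.isoSpec.inv (Z₀.isoSpec.hom y) = y := Scheme.hom_inv_apply Z₀.isoSpec y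
          rw [← this, Scheme.isoSpec_hom, hy]
      rw [h2]
      exact h1.preimage Z₀.toSpecΓ.continuous
    -- its image is a closed point of `Spec A`
    have himcl : IsClosed ({p₀ z} : Set (Spec (CommRingCat.of A))) := by
      have := p₀.isClosedMap _ hzcl
      rwa [Set.image_singleton] at this
    have hmax : (p₀ z : PrimeSpectrum A).asIdeal.IsMaximal :=
      (PrimeSpectrum.isClosed_singleton_iff_isMaximal _).mp himcl
    let m : MaximalSpectrum A := ⟨(p₀ z : PrimeSpectrum A).asIdeal, hmax⟩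
    have hfield : (⊥ : Ideal (A ⧸ m.asIdeal)).IsPrime := by
      have : IsDomain (A ⧸ m.asIdeal) := (Ideal.Quotient.isDomain_iff_prime _).mpr hmax.isPrime
      exact Ideal.isPrime_bot
    let y : Spec (CommRingCat.of (A ⧸ m.asIdeal)) :=
      (⟨⊥, hfield⟩ : PrimeSpectrum (A ⧸ m.asIdeal))
    have hy : p₀ z = Spec.map (CommRingCat.ofHom (Ideal.Quotient.mk m.asIdeal)) y := by
      rw [Spec.map_apply]
      apply PrimeSpectrum.ext
      change (p₀ z : PrimeSpectrum A).asIdeal = Ideal.comap (Ideal.Quotient.mk m.asIdeal) ⊥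
      rw [← RingHom.ker_eq_comap_bot, Ideal.mk_ker]
    obtain ⟨z', hz'1, hz'2⟩ := Scheme.exists_preimage_of_isPullback (sq m) z y hy
    have hz'3 : z' ∈ (j m) ⁻¹ᵁ (Z₀.basicOpen r) := by
      rw [Scheme.preimage_basicOpen]
      have hu : IsUnit ((j m).app ⊤ r) := by
        have := hrm m
        rw [Scheme.Hom.appTop] at this
        rw [show ((j m).app ⊤) r = (ν m : Γ(Z m, ⊤)) from this]
        exact (ν m).isUnit
      rw [Scheme.basicOpen_of_isUnit _ hu]
      trivial
    have hz4 : z ∈ Z₀.basicOpen r := by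
      rw [← hz'1]; exact hz'3
    rw [← Scheme.toSpecΓ_preimage_basicOpen] at hz4
    have h5 : Z₀.toSpecΓ z ∈ PrimeSpectrum.basicOpen r := hz4
    rw [hz1] at h5
    exact h5 hr𝔫
  exact ⟨hunit.unit, fun m => Units.ext (hrm m)⟩

end UnitLift


section Main

variable (A : Type u) [CommRing A] [Finite (MaximalSpectrum A)]

theorem main_aux {S' : Scheme.{u}} (f : S' ⟶ Spec (CommRingCat.of A)) [IsFinite f] [IsAffine S']
    (P : Over (Spec (CommRingCat.of A)))
    (q : Red.bc f P ⟶ Red.Gm S')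
    (hP : WeilRes.IsWeilRes f (Red.Gm S') P q)
    (u : ∀ m : MaximalSpectrum A, Spec (CommRingCat.of (A ⧸ m.asIdeal)) ⟶ P.left)
    (hu : ∀ m : MaximalSpectrum A, u m ≫ P.hom =
      (Spec.map (CommRingCat.ofHom (Ideal.Quotient.mk m.asIdeal)))) :
    ∃ s : Spec (CommRingCat.of A) ⟶ P.left, s ≫ P.hom = 𝟙 (Spec (CommRingCat.of A)) ∧
      ∀ m : MaximalSpectrum A,
        (Spec.map (CommRingCat.ofHom (Ideal.Quotient.mk m.asIdeal))) ≫ s = u m := by
  let T₀ : Over (Spec (CommRingCat.of A)) := Over.mk (𝟙 _)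
  let T : MaximalSpectrum A → Over (Spec (CommRingCat.of A)) := fun m =>
    Over.mk (Spec.map (CommRingCat.ofHom (Ideal.Quotient.mk m.asIdeal)))
  let i : ∀ m, T m ⟶ T₀ := fun m =>
    Over.homMk (Spec.map (CommRingCat.ofHom (Ideal.Quotient.mk m.asIdeal))) (by simp [T₀, T])
  let û : ∀ m, T m ⟶ P := fun m => Over.homMk (u m) (hu m)
  let v : ∀ m, Red.bc f (T m) ⟶ Red.Gm _ := fun m => WeilRes.restr f q (T m) (û m)
  have hfin₀ : IsFinite (pullback.fst T₀.hom f) :=
    MorphismProperty.pullback_fst (P := @IsFinite) _ _ inferInstance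
  have haff : IsAffine (Red.bc f T₀).left := by
    change IsAffine (pullback (𝟙 (Spec (CommRingCat.of A))) f)
    infer_instance
  obtain ⟨w, hw⟩ := exists_unit_lift (A := A) (Z₀ := (Red.bc f T₀).left) (pullback.fst T₀.hom f)
    (fun m => (Red.bc f (T m)).left) (fun m => ((Over.pullback f).map (i m)).left)
    (fun m => pullback.fst (T m).hom f)
    (fun m => isPullback_bc_left f (i m)) (fun m => GmPts.unitOfPt (v m))
  let s₀ : T₀ ⟶ P := hP.lift T₀ (GmPts.ptOfUnit w)
  refine ⟨s₀.left, Over.w s₀, fun m => ?_⟩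
  have key : i m ≫ s₀ = û m := by
    apply (hP (T m)).1
    rw [WeilRes.restr_comp, WeilRes.IsWeilRes.restr_lift, GmPts.ptOfUnit_comp, hw m,
      GmPts.ptOfUnit_unitOfPt]
  exact congrArg (fun k => k.left) key

theorem main (B : Type u) [CommRing B] [Algebra A B] [Module.Finite A B]
    (P : Over (Spec (CommRingCat.of A)))
    (q : Red.bc (Spec.map (CommRingCat.ofHom (algebraMap A B))) P ⟶
      Red.Gm (Spec (CommRingCat.of B)))
    (hP : WeilRes.IsWeilRes (Spec.map (CommRingCat.ofHom (algebraMap A B)))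
      (Red.Gm (Spec (CommRingCat.of B))) P q)
    (u : ∀ m : MaximalSpectrum A, Spec (CommRingCat.of (A ⧸ m.asIdeal)) ⟶ P.left)
    (hu : ∀ m : MaximalSpectrum A, u m ≫ P.hom =
      (Spec.map (CommRingCat.ofHom (Ideal.Quotient.mk m.asIdeal)))) :
    ∃ s : Spec (CommRingCat.of A) ⟶ P.left, s ≫ P.hom = 𝟙 (Spec (CommRingCat.of A)) ∧
      ∀ m : MaximalSpectrum A,
        (Spec.map (CommRingCat.ofHom (Ideal.Quotient.mk m.asIdeal))) ≫ s = u m := by
  have hfin : IsFinite (Spec.map (CommRingCat.ofHom (algebraMap A B))) := by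
    rw [IsFinite.SpecMap_iff]
    exact RingHom.finite_algebraMap.mpr inferInstance
  exact main_aux A _ P q hP u hu

end Main

end Groth.Agent.Lead.WeilGm
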