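import Mathlib
import Groth.Agent.Lib.Lead.NeronLoc1
import Groth.Agent.Lib.Lead.WeilGm1

set_option autoImplicit false
set_option backward.isDefEq.respectTransparency.types false
set_option synthInstance.maxHeartbeats 400000
set_option linter.style.haveILetI false
set_option linter.unusedSectionVars false

universe u

open CategoryTheory AlgebraicGeometry Limits TopologicalSpace

namespace Groth.Agent.Lead.NeronLoc

section Key

variable {S : Scheme.{u}} [IsIntegral S] (Y G : Over S) (p : S)

/-- `Spec K → Spec O_p` -/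
noncomputable abbrev sg : Spec (S.presheaf.stalk (genericPoint S)) ⟶ Spec (S.presheaf.stalk p) :=
  Spec.map (S.presheaf.stalkSpecializes (genericPoint_specializes p))

theorem sg_fromSpecStalk : sg p ≫ S.fromSpecStalk p = S.fromSpecStalk (genericPoint S) :=
  Scheme.SpecMap_stalkSpecializes_fromSpecStalk _

/-- the comparison `Y_{p,η} → Y_η` -/
noncomputable def alpha : pullback (pullback.snd Y.hom (S.fromSpecStalk p)) (sg p) ⟶
    pullback Y.hom (S.fromSpecStalk (genericPoint S)) :=
  pullback.lift (pullback.fst _ _ ≫ pullback.fst _ _) (pullback.snd _ _) (by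
    rw [Category.assoc, pullback.condition, ← Category.assoc, pullback.condition, Category.assoc,
      sg_fromSpecStalk])

theorem alpha_fst : alpha Y p ≫ pullback.fst _ _ = pullback.fst _ _ ≫ pullback.fst _ _ :=
  pullback.lift_fst _ _ _

theorem alpha_snd : alpha Y p ≫ pullback.snd _ _ = pullback.snd _ _ :=
  pullback.lift_snd _ _ _

variable {Y G}

/-- Key step: from the local Néron property at `p`, a morphism `Y_p → G_p` inducing `v`. -/
theorem exists_local_hom
    (hsurj : ∀ u : (Over.pullback (sg p)).obj ((Over.pullback (S.fromSpecStalk p)).obj Y) ⟶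
        (Over.pullback (sg p)).obj ((Over.pullback (S.fromSpecStalk p)).obj G),
      ∃ g : (Over.pullback (S.fromSpecStalk p)).obj Y ⟶ (Over.pullback (S.fromSpecStalk p)).obj G,
        (Over.pullback (sg p)).map g = u)
    (v : pullback Y.hom (S.fromSpecStalk (genericPoint S)) ⟶ G.left)
    (hv : v ≫ G.hom = pullback.fst Y.hom (S.fromSpecStalk (genericPoint S)) ≫ Y.hom) :
    ∃ gp : pullback Y.hom (S.fromSpecStalk p) ⟶ pullback G.hom (S.fromSpecStalk p),
      gp ≫ pullback.snd _ _ = pullback.snd _ _ ∧
      pullback.fst (pullback.snd Y.hom (S.fromSpecStalk p)) (sg p) ≫ gp ≫ pullback.fst _ _ =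
        alpha Y p ≫ v := by
  have c1 : (alpha Y p ≫ v) ≫ G.hom =
      (pullback.fst (pullback.snd Y.hom (S.fromSpecStalk p)) (sg p) ≫ pullback.snd _ _) ≫
        S.fromSpecStalk p := by
    rw [Category.assoc, hv, ← Category.assoc, alpha_fst, Category.assoc, Category.assoc,
      pullback.condition]
  have c2 : pullback.lift (alpha Y p ≫ v)
      (pullback.fst (pullback.snd Y.hom (S.fromSpecStalk p)) (sg p) ≫ pullback.snd _ _) c1 ≫
        pullback.snd G.hom (S.fromSpecStalk p) = pullback.snd _ _ ≫ sg p := by
    rw [pullback.lift_snd, pullback.condition]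
  let up : (Over.pullback (sg p)).obj ((Over.pullback (S.fromSpecStalk p)).obj Y) ⟶
      (Over.pullback (sg p)).obj ((Over.pullback (S.fromSpecStalk p)).obj G) :=
    Over.homMk (pullback.lift (pullback.lift (alpha Y p ≫ v)
      (pullback.fst (pullback.snd Y.hom (S.fromSpecStalk p)) (sg p) ≫ pullback.snd _ _) c1)
      (pullback.snd _ _) c2) (pullback.lift_snd _ _ _)
  obtain ⟨g, hg⟩ := hsurj up
  refine ⟨g.left, Over.w g, ?_⟩
  have h1 := Groth.Agent.Lead.WeilGm.bc_left_fst (sg p) g
  rw [hg] at h1
  have h2 : up.left ≫ pullback.fst _ _ = pullback.lift (alpha Y p ≫ v)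
      (pullback.fst (pullback.snd Y.hom (S.fromSpecStalk p)) (sg p) ≫ pullback.snd _ _) c1 :=
    pullback.lift_fst _ _ _
  have h3 : pullback.fst (pullback.snd Y.hom (S.fromSpecStalk p)) (sg p) ≫ g.left =
      pullback.lift (alpha Y p ≫ v)
      (pullback.fst (pullback.snd Y.hom (S.fromSpecStalk p)) (sg p) ≫ pullback.snd _ _) c1 :=
    h1.symm.trans h2
  rw [← Category.assoc, h3, pullback.lift_fst]

end Key

end Groth.Agent.Lead.NeronLoc
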