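import Mathlib
import Groth.Agent.Lib.Lead.NeronLoc2
import Groth.Agent.Lib.Lead.Weil6

set_option autoImplicit false
set_option backward.isDefEq.respectTransparency.types false
set_option synthInstance.maxHeartbeats 400000
set_option linter.style.haveILetI false
set_option linter.unusedSectionVars false

universe u

open CategoryTheory AlgebraicGeometry Limits TopologicalSpace

namespace Groth.Agent.Lead.NeronLoc

/-- a flat morphism of irreducible schemes maps the generic point to the generic point -/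
theorem map_genericPoint_of_flat {W S : Scheme.{u}} [IrreducibleSpace W] [IrreducibleSpace S]
    (f : W ⟶ S) [Flat f] : f (genericPoint W) = genericPoint S := by
  obtain ⟨y', hy'y, hy'⟩ := Flat.generalizingMap f (genericPoint_specializes (f (genericPoint W)))
  have h1 : genericPoint W ⤳ y' := genericPoint_specializes y'
  have : y' = genericPoint W := (hy'y.antisymm h1).eq
  rw [← this, hy']

section Local

variable {S : Scheme.{u}} [IsIntegral S] {Y G : Over S}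

/-- `Spec O_{Y,y} → Spec O_{S,p}` for `Y.hom y ⤳ p`. -/
noncomputable def toOp (p : S) (y : Y.left) (hy : Y.hom y ⤳ p) :
    Spec (Y.left.presheaf.stalk y) ⟶ Spec (S.presheaf.stalk p) :=
  Spec.map (Y.hom.stalkMap y) ≫ Spec.map (S.presheaf.stalkSpecializes hy)

theorem toOp_fromSpecStalk (p : S) (y : Y.left) (hy : Y.hom y ⤳ p) :
    toOp p y hy ≫ S.fromSpecStalk p = Y.left.fromSpecStalk y ≫ Y.hom := by
  rw [toOp, Category.assoc, Scheme.SpecMap_stalkSpecializes_fromSpecStalk,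
    Scheme.SpecMap_stalkMap_fromSpecStalk]

/-- `Spec O_{Y,y} → Y_p` -/
noncomputable def lam (p : S) (y : Y.left) (hy : Y.hom y ⤳ p) :
    Spec (Y.left.presheaf.stalk y) ⟶ pullback Y.hom (S.fromSpecStalk p) :=
  pullback.lift (Y.left.fromSpecStalk y) (toOp p y hy) (toOp_fromSpecStalk p y hy).symm

theorem lam_fst (p : S) (y : Y.left) (hy : Y.hom y ⤳ p) :
    lam p y hy ≫ pullback.fst _ _ = Y.left.fromSpecStalk y := pullback.lift_fst _ _ _

theorem lam_snd (p : S) (y : Y.left) (hy : Y.hom y ⤳ p) :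
    lam p y hy ≫ pullback.snd _ _ = toOp p y hy := pullback.lift_snd _ _ _

/-- Local extension near `y`. -/
theorem exists_local_extension [IsLocallyNoetherian Y.left] [Flat Y.hom]
    [LocallyOfFiniteType G.hom] [IsSeparated G.hom]
    [IsReduced (pullback Y.hom (S.fromSpecStalk (genericPoint S)))]
    (hYdom : ∀ y : Y.left, IsDomain (Y.left.presheaf.stalk y))
    (p : S) (gp : pullback Y.hom (S.fromSpecStalk p) ⟶ pullback G.hom (S.fromSpecStalk p))
    (hgp1 : gp ≫ pullback.snd _ _ = pullback.snd _ _)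
    (v : pullback Y.hom (S.fromSpecStalk (genericPoint S)) ⟶ G.left)
    (hv : v ≫ G.hom = pullback.fst Y.hom (S.fromSpecStalk (genericPoint S)) ≫ Y.hom)
    (hgp2 : pullback.fst (pullback.snd Y.hom (S.fromSpecStalk p)) (sg p) ≫ gp ≫ pullback.fst _ _ =
        alpha Y p ≫ v)
    (y : Y.left) (hy : Y.hom y ⤳ p) :
    ∃ (W : Y.left.Opens) (w : (W : Scheme.{u}) ⟶ G.left), y ∈ W ∧ w ≫ G.hom = W.ι ≫ Y.hom ∧
      (pullback.fst Y.hom (S.fromSpecStalk (genericPoint S)) ∣_ W) ≫ w =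
        (pullback.fst Y.hom (S.fromSpecStalk (genericPoint S)) ⁻¹ᵁ W).ι ≫ v := by
  classical
  obtain ⟨a, ha⟩ : ∃ a : pullback Y.hom (S.fromSpecStalk (genericPoint S)) ⟶ Y.left,
    a = pullback.fst Y.hom (S.fromSpecStalk (genericPoint S)) := ⟨_, rfl⟩
  rw [← ha] at hv ⊢
  -- the morphism on `Spec O_{Y,y}`
  obtain ⟨φ, hφdef⟩ : ∃ φ : Spec (Y.left.presheaf.stalk y) ⟶ G.left,
    φ = lam p y hy ≫ gp ≫ pullback.fst G.hom (S.fromSpecStalk p) := ⟨_, rfl⟩
  have hφ : φ ≫ G.hom = Y.left.fromSpecStalk y ≫ Y.hom := by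
    rw [hφdef, Category.assoc, Category.assoc, pullback.condition, ← Category.assoc gp, hgp1,
      ← Category.assoc, lam_snd, toOp_fromSpecStalk]
  obtain ⟨W₀, hyW₀, w₀, hφw₀, hw₀⟩ := spread_out_of_isGermInjective' Y.hom G.hom φ hφ
  obtain ⟨W₁, hyW₁, hW₁, hinj⟩ := Y.left.exists_germ_injective y
  haveI := hYdom y
  haveI : IsAffine (W₁ : Scheme.{u}) := hW₁
  haveI hdomW : IsDomain Γ(Y.left, W₁) := hinj.isDomain _
  haveI : IsDomain Γ((W₁ : Scheme.{u}), ⊤) :=
    MulEquiv.isDomain Γ(Y.left, W₁) W₁.topIso.commRingCatIsoToRingEquiv.toMulEquiv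
  haveI : Nonempty (W₁ : Scheme.{u}) := ⟨⟨y, hyW₁⟩⟩
  haveI hint₁ : IsIntegral (W₁ : Scheme.{u}) := isIntegral_of_isAffine_of_isDomain _
  obtain ⟨W, hWle0, hWle1, hyW⟩ : ∃ W : Y.left.Opens, W ≤ W₀ ∧ W ≤ W₁ ∧ y ∈ W :=
    ⟨W₀ ⊓ W₁, inf_le_left, inf_le_right, hyW₀, hyW₁⟩
  haveI : Nonempty (W : Scheme.{u}) := ⟨⟨y, hyW⟩⟩
  haveI hint : IsIntegral (W : Scheme.{u}) :=
    isIntegral_of_isOpenImmersion (Y.left.homOfLE hWle1)
  refine ⟨W, Y.left.homOfLE hWle0 ≫ w₀, hyW, ?_, ?_⟩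
  · rw [Category.assoc, hw₀, Scheme.homOfLE_ι_assoc]
  -- the test scheme `T`
  let τ : pullback (toOp p y hy) (sg p) ⟶ pullback (pullback.snd Y.hom (S.fromSpecStalk p)) (sg p) :=
    pullback.lift (pullback.fst (toOp p y hy) (sg p) ≫ lam p y hy) (pullback.snd _ _) (by
      rw [Category.assoc, lam_snd, pullback.condition])
  have hτ1 : τ ≫ pullback.fst _ _ = pullback.fst (toOp p y hy) (sg p) ≫ lam p y hy :=
    pullback.lift_fst _ _ _
  have hκa : (τ ≫ alpha Y p) ≫ a =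
      pullback.fst (toOp p y hy) (sg p) ≫ Y.left.fromSpecStalk y := by
    rw [ha, Category.assoc, alpha_fst, ← Category.assoc, hτ1, Category.assoc, lam_fst]
  have hrange : Set.range (τ ≫ alpha Y p) ⊆ Set.range (a ⁻¹ᵁ W).ι := by
    rw [Scheme.Opens.range_ι]
    rintro _ ⟨t, rfl⟩
    show a ((τ ≫ alpha Y p) t) ∈ W
    rw [← Scheme.Hom.comp_apply, hκa, Scheme.Hom.comp_apply]
    have hsp : Y.left.fromSpecStalk y (pullback.fst (toOp p y hy) (sg p) t) ⤳ y := by
      have : Y.left.fromSpecStalk y (pullback.fst (toOp p y hy) (sg p) t) ∈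
          Set.range (Y.left.fromSpecStalk y) := ⟨_, rfl⟩
      rw [Scheme.range_fromSpecStalk] at this
      exact this
    exact hsp.mem_open W.2 hyW
  haveI : IsReduced ((a ⁻¹ᵁ W : (pullback Y.hom (S.fromSpecStalk (genericPoint S))).Opens) :
      Scheme.{u}) := isReduced_of_isOpenImmersion (a ⁻¹ᵁ W).ι
  have hιT : IsOpenImmersion.lift (a ⁻¹ᵁ W).ι (τ ≫ alpha Y p) hrange ≫ (a ⁻¹ᵁ W).ι =
      τ ≫ alpha Y p := IsOpenImmersion.lift_fac _ _ _
  -- the key compatibility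
  have hkey : IsOpenImmersion.lift (a ⁻¹ᵁ W).ι (τ ≫ alpha Y p) hrange ≫ (a ∣_ W) =
      pullback.fst (toOp p y hy) (sg p) ≫ W.fromSpecStalkOfMem y hyW := by
    rw [← cancel_mono W.ι, Category.assoc, morphismRestrict_ι, ← Category.assoc, hιT, hκa,
      Category.assoc, Scheme.Opens.fromSpecStalkOfMem_ι]
  have hkey2 : W.fromSpecStalkOfMem y hyW ≫ Y.left.homOfLE hWle0 =
      W₀.fromSpecStalkOfMem y hyW₀ := by
    rw [← cancel_mono W₀.ι, Category.assoc, Scheme.homOfLE_ι, Scheme.Opens.fromSpecStalkOfMem_ι,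
      Scheme.Opens.fromSpecStalkOfMem_ι]
  have hdomT : IsDominant (IsOpenImmersion.lift (a ⁻¹ᵁ W).ι (τ ≫ alpha Y p) hrange) := by
    obtain ⟨ζ, hζ⟩ : ∃ ζ : ↥(W : Scheme.{u}), ζ = genericPoint ↥(W : Scheme.{u}) := ⟨_, rfl⟩
    have hζη : Y.hom (W.ι ζ) = genericPoint S := by
      rw [hζ, ← Scheme.Hom.comp_apply]
      exact map_genericPoint_of_flat (W.ι ≫ Y.hom)
    have hζy : W.ι ζ ⤳ y := by
      have h0 : ζ ⤳ (⟨y, hyW⟩ : ↥(W : Scheme.{u})) := hζ ▸ genericPoint_specializes _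
      exact h0.map W.ι.continuous
    obtain ⟨q, hq⟩ := Groth.Agent.Lead.Weil.exists_fromSpecStalk_eq hζy
    have hq2 : toOp p y hy q =
        sg p (IsLocalRing.closedPoint (S.presheaf.stalk (genericPoint S))) := by
      apply (S.fromSpecStalk p).isEmbedding.injective
      rw [← Scheme.Hom.comp_apply, ← Scheme.Hom.comp_apply, toOp_fromSpecStalk, sg_fromSpecStalk,
        Scheme.Hom.comp_apply, hq, hζη, Scheme.fromSpecStalk_closedPoint]
    obtain ⟨t, ht1, ht2⟩ := Scheme.Pullback.exists_preimage_pullback (f := toOp p y hy)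
      (g := sg p) q _ hq2
    refine ⟨fun z => ?_⟩
    have hsub : ({IsOpenImmersion.lift (a ⁻¹ᵁ W).ι (τ ≫ alpha Y p) hrange t} :
        Set ↥((a ⁻¹ᵁ W : (pullback Y.hom (S.fromSpecStalk (genericPoint S))).Opens) :
          Scheme.{u})) ⊆
        Set.range (IsOpenImmersion.lift (a ⁻¹ᵁ W).ι (τ ≫ alpha Y p) hrange) := by
      rintro _ rfl
      exact ⟨t, rfl⟩
    refine closure_mono hsub ?_
    rw [← specializes_iff_mem_closure]
    haveI : IsPreimmersion a := by rw [ha]; infer_instance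
    have hemb : Topology.IsInducing ((a ⁻¹ᵁ W).ι ≫ a) :=
      a.isEmbedding.isInducing.comp (a ⁻¹ᵁ W).ι.isOpenEmbedding.isInducing
    rw [← hemb.specializes_iff]
    have h1 : ((a ⁻¹ᵁ W).ι ≫ a) (IsOpenImmersion.lift (a ⁻¹ᵁ W).ι (τ ≫ alpha Y p) hrange t) =
        W.ι ζ := by
      rw [← Scheme.Hom.comp_apply, ← Category.assoc, hιT, hκa, Scheme.Hom.comp_apply, ht1, hq]
    rw [h1]
    have h2 : ((a ⁻¹ᵁ W).ι ≫ a) z ∈ W := z.2
    have h3 : ζ ⤳ (⟨_, h2⟩ : ↥(W : Scheme.{u})) := hζ ▸ genericPoint_specializes _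
    exact h3.map W.ι.continuous
  refine ext_of_isDominant_of_isSeparated G.hom ?_
    (IsOpenImmersion.lift (a ⁻¹ᵁ W).ι (τ ≫ alpha Y p) hrange) ?_
  · rw [Category.assoc, Category.assoc, hw₀, Scheme.homOfLE_ι_assoc, morphismRestrict_ι_assoc,
      Category.assoc, hv]
  · rw [← Category.assoc, hkey, Category.assoc, ← Category.assoc (W.fromSpecStalkOfMem y hyW),
      hkey2, ← hφw₀, hφdef, ← Category.assoc _ (a ⁻¹ᵁ W).ι, hιT, Category.assoc τ, ← hgp2,
      ← Category.assoc τ, hτ1, Category.assoc]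

end Local

end Groth.Agent.Lead.NeronLoc
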