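import Mathlib
import Groth.Agent.Lib.Lead.NeronLoc3

set_option autoImplicit false
set_option backward.isDefEq.respectTransparency.types false
set_option synthInstance.maxHeartbeats 400000
set_option linter.style.haveILetI false
set_option linter.unusedSectionVars false

universe u

open CategoryTheory AlgebraicGeometry Limits TopologicalSpace

namespace Groth.Agent.Lead.NeronLoc

/-- the generic fibre of a smooth scheme over an integral scheme is reduced -/
theorem isReduced_genericFibre {S : Scheme.{u}} [IsIntegral S] (Y : Over S) [Smooth Y.hom] :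
    IsReduced (pullback Y.hom (S.fromSpecStalk (genericPoint S))) := by
  have hD : @IsDedekindDomain (↑S.functionField) (S.functionField).commRing := by
    haveI : IsDomain (↑S.functionField) := inferInstance
    have hF : IsField (↑S.functionField) := Field.toIsField _
    haveI : IsPrincipalIdealRing (↑S.functionField) := hF.isPrincipalIdealRing
    exact IsPrincipalIdealRing.isDedekindDomain _
  have hK : ∀ w : ↥(Spec (S.presheaf.stalk (genericPoint S))),
      IsRegularLocalRing ((Spec (S.presheaf.stalk (genericPoint S))).presheaf.stalk w) :=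
    fun w => @Groth.Agent.Lead.Weil.isRegularLocalRing_stalk_spec (↑S.functionField)
      (S.functionField).commRing hD w
  haveI : IsNoetherianRing (S.presheaf.stalk (genericPoint S)) :=
    inferInstanceAs (IsNoetherianRing S.functionField)
  haveI : IsLocallyNoetherian (Spec (S.presheaf.stalk (genericPoint S))) := inferInstance
  exact Groth.Agent.Lead.Weil.isReduced_of_regular _
    (Groth.Agent.Lead.Weil.regular_of_smooth_over_regular
      (pullback.snd Y.hom (S.fromSpecStalk (genericPoint S))) hK)

/-- **Local-to-global for the Néron mapping property** over a regular integral noetherian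
base. -/
theorem neron_of_local {S : Scheme.{u}} [IsIntegral S] [IsNoetherian S]
    (hreg : ∀ s : S, IsRegularLocalRing (S.presheaf.stalk s))
    (G : Over S) [Smooth G.hom] [IsSeparated G.hom]
    (hloc : ∀ p : S, IsClosed ({p} : Set S) →
      ∀ Y : Over (Spec (S.presheaf.stalk p)), Smooth Y.hom →
        Function.Bijective (fun g : Y ⟶ (Over.pullback (S.fromSpecStalk p)).obj G =>
          (Over.pullback (Spec.map (S.presheaf.stalkSpecializes
            (genericPoint_specializes p)))).map g)) :
    ∀ Y : Over S, Smooth Y.hom →
      Function.Bijective (fun g : Y ⟶ G =>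
        (Over.pullback (S.fromSpecStalk (genericPoint S))).map g) := by
  classical
  intro Y hY
  haveI := hY
  haveI : IsLocallyNoetherian Y.left := LocallyOfFiniteType.isLocallyNoetherian Y.hom
  have hYreg : ∀ y : Y.left, IsRegularLocalRing (Y.left.presheaf.stalk y) :=
    Groth.Agent.Lead.Weil.regular_of_smooth_over_regular Y.hom hreg
  have hYdom : ∀ y : Y.left, IsDomain (Y.left.presheaf.stalk y) := fun y => by
    haveI := hYreg y
    exact Groth.Agent.Helper8.RLR.isDomain _
  haveI : IsReduced Y.left := Groth.Agent.Lead.Weil.isReduced_of_regular _ hYreg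
  haveI := isReduced_genericFibre Y
  have hη : genericPoint S ∈ Set.range (S.fromSpecStalk (genericPoint S)) :=
    ⟨IsLocalRing.closedPoint _, Scheme.fromSpecStalk_closedPoint⟩
  have hdom : ∀ W : Y.left.Opens,
      IsDominant (pullback.fst Y.hom (S.fromSpecStalk (genericPoint S)) ∣_ W) := fun W =>
    isDominant_of_isPullback_generic (W.ι ≫ Y.hom) _ hη
      (isPullback_restrict (IsPullback.of_hasPullback Y.hom _) W)
  haveI hdomA : IsDominant (pullback.fst Y.hom (S.fromSpecStalk (genericPoint S))) :=
    isDominant_of_isPullback_generic Y.hom _ hη (IsPullback.of_hasPullback Y.hom _)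
  constructor
  · intro g₁ g₂ h
    have h' : ((Over.pullback (S.fromSpecStalk (genericPoint S))).map g₁).left =
        ((Over.pullback (S.fromSpecStalk (genericPoint S))).map g₂).left := congrArg (·.left) h
    have e1 := Groth.Agent.Lead.WeilGm.bc_left_fst (S.fromSpecStalk (genericPoint S)) g₁
    have e2 := Groth.Agent.Lead.WeilGm.bc_left_fst (S.fromSpecStalk (genericPoint S)) g₂
    rw [h'] at e1
    apply Over.OverMorphism.ext
    refine ext_of_isDominant_of_isSeparated G.hom ?_
      (pullback.fst Y.hom (S.fromSpecStalk (genericPoint S))) (e1.symm.trans e2)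
    rw [Over.w g₁, Over.w g₂]
  · intro u
    obtain ⟨v, hvdef⟩ : ∃ v : pullback Y.hom (S.fromSpecStalk (genericPoint S)) ⟶ G.left,
      v = u.left ≫ pullback.fst G.hom (S.fromSpecStalk (genericPoint S)) := ⟨_, rfl⟩
    have hu : u.left ≫ pullback.snd G.hom (S.fromSpecStalk (genericPoint S)) =
        pullback.snd Y.hom (S.fromSpecStalk (genericPoint S)) := Over.w u
    have hv : v ≫ G.hom = pullback.fst Y.hom (S.fromSpecStalk (genericPoint S)) ≫ Y.hom := by
      rw [hvdef, Category.assoc, pullback.condition, ← Category.assoc, hu, pullback.condition]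
    have hlocal : ∀ y : Y.left, ∃ (W : Y.left.Opens) (w : (W : Scheme.{u}) ⟶ G.left), y ∈ W ∧
        w ≫ G.hom = W.ι ≫ Y.hom ∧
        (pullback.fst Y.hom (S.fromSpecStalk (genericPoint S)) ∣_ W) ≫ w =
          (pullback.fst Y.hom (S.fromSpecStalk (genericPoint S)) ⁻¹ᵁ W).ι ≫ v := by
      intro y
      obtain ⟨p, hp_mem, hp_closed⟩ := IsClosed.exists_closed_singleton
        (isClosed_closure : IsClosed (closure ({Y.hom y} : Set S)))
        ⟨Y.hom y, subset_closure rfl⟩
      have hy : Y.hom y ⤳ p := specializes_iff_mem_closure.2 hp_mem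
      have hsurj := (hloc p hp_closed ((Over.pullback (S.fromSpecStalk p)).obj Y)
        (by dsimp; infer_instance)).2
      obtain ⟨gp, hgp1, hgp2⟩ := exists_local_hom p hsurj v hv
      exact exists_local_extension hYdom p gp hgp1 v hv hgp2 y hy
    obtain ⟨g, hg1, hg2⟩ := exists_glue Y.hom G.hom _ hdom v hlocal
    refine ⟨Over.homMk g hg1, ?_⟩
    apply Over.OverMorphism.ext
    apply pullback.hom_ext
    · rw [Groth.Agent.Lead.WeilGm.bc_left_fst]
      show pullback.fst Y.hom _ ≫ g = _
      rw [hg2, hvdef]
    · rw [Groth.Agent.Lead.WeilGm.bc_left_snd, hu]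

end Groth.Agent.Lead.NeronLoc
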