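import Mathlib
import Groth.Prelude.Def_Red
import Groth.Prelude.Def_SGA3x
import Groth.Agent.Lib.Lead.NeutF1
import Groth.Agent.Lib.Lead.IsogF2
import Groth.Agent.S5322

set_option backward.isDefEq.respectTransparency.types false
set_option autoImplicit false
set_option synthInstance.maxHeartbeats 400000
set_option maxHeartbeats 1000000
set_option linter.style.haveILetI false
set_option linter.unusedSectionVars false
set_option linter.unusedSimpArgs false

universe u

open CategoryTheory CategoryTheory.Limits AlgebraicGeometry
open MonoidalCategory CartesianMonoidalCategory MonObj GrpObj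

namespace Groth.Agent.Lead.Neut

section rel

variable {S : Scheme.{u}} (G H : Over S) [GrpObj G] [GrpObj H] (u : G ⟶ H) [IsMonHom u]

/-- membership in the neutral set can be tested on the fibre -/
theorem mem_neutralSet_iff (s : S) (z : (Red.bc (S.fromSpecResidueField s) G).left) :
    z ∈ connectedComponent ((η[Red.bc (S.fromSpecResidueField s) G]).left
        (IsLocalRing.closedPoint (S.residueField s))) ↔
      (pullback.fst G.hom (S.fromSpecResidueField s)) z ∈ SGA3x.neutralSet G := by
  have h1 := Groth.Agent.S5322.result S _ (S.fromSpecResidueField s) G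
  rw [neutralSet_field (S.residueField s) (Red.bc (S.fromSpecResidueField s) G)] at h1
  rw [h1]
  rfl

theorem fst_map (s : S) (z : (Red.bc (S.fromSpecResidueField s) G).left) :
    (pullback.fst H.hom (S.fromSpecResidueField s))
        (((Over.pullback (S.fromSpecResidueField s)).map u).left z) =
      u.left ((pullback.fst G.hom (S.fromSpecResidueField s)) z) := by
  have sq := Groth.Agent.Lead.GrpMonoCl.isPullback_map_left (S.fromSpecResidueField s) u
  rw [← Scheme.Hom.comp_apply, ← Scheme.Hom.comp_apply, sq.w]

/-- the image of the neutral set is always contained in the neutral set -/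
theorem image_neutralSet_subset : u.left '' SGA3x.neutralSet G ⊆ SGA3x.neutralSet H := by
  rintro _ ⟨x, hx, rfl⟩
  let s : S := G.hom x
  let z : (Red.bc (S.fromSpecResidueField s) G).left := G.hom.asFiber x
  have hz : (pullback.fst G.hom (S.fromSpecResidueField s)) z = x := G.hom.fiberι_asFiber x
  have hz' := (mem_neutralSet_iff G s z).mpr (by rw [hz]; exact hx)
  let uk := (Over.pullback (S.fromSpecResidueField s)).map u
  haveI : IsMonHom uk := inferInstance
  have h3 := (Scheme.Hom.continuous uk.left).image_connectedComponent_subset _ ⟨z, hz', rfl⟩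
  have h4 : uk.left ((η[Red.bc (S.fromSpecResidueField s) G]).left
      (IsLocalRing.closedPoint (S.residueField s))) =
        (η[Red.bc (S.fromSpecResidueField s) H]).left
          (IsLocalRing.closedPoint (S.residueField s)) := by
    have := IsMonHom.one_hom (f := uk)
    rw [← this]
    rfl
  rw [h4] at h3
  have h5 := (mem_neutralSet_iff H s (uk.left z)).mp h3
  rw [fst_map G H u s z, hz] at h5
  exact h5

end rel

theorem main5328 (S : Scheme.{u}) (G H : Over S) [GrpObj G] [GrpObj H]
    [LocallyOfFinitePresentation G.hom] [LocallyOfFinitePresentation H.hom]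
    (u : G ⟶ H) [IsMonHom u] :
    (Flat u.left → u.left.base '' SGA3x.neutralSet G = SGA3x.neutralSet H) ∧
    (Flat G.hom → (∀ s : S, IsReduced (H.hom.fiber s)) →
      u.left.base '' SGA3x.neutralSet G = SGA3x.neutralSet H → Flat u.left) := by
  have hlft : ∀ s : S, LocallyOfFiniteType (Red.bc (S.fromSpecResidueField s) G).hom ∧
      LocallyOfFiniteType (Red.bc (S.fromSpecResidueField s) H).hom := fun s =>
    ⟨MorphismProperty.pullback_snd _ _ inferInstance, MorphismProperty.pullback_snd _ _ inferInstance⟩
  constructor
  · intro hfl
    apply Set.eq_of_subset_of_subset (image_neutralSet_subset G H u)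
    intro y hy
    let s : S := H.hom y
    let w : (Red.bc (S.fromSpecResidueField s) H).left := H.hom.asFiber y
    have hw : (pullback.fst H.hom (S.fromSpecResidueField s)) w = y := H.hom.fiberι_asFiber y
    have hw' := (mem_neutralSet_iff H s w).mpr (by rw [hw]; exact hy)
    obtain ⟨h1, h2⟩ := hlft s
    let uk := (Over.pullback (S.fromSpecResidueField s)).map u
    haveI : IsMonHom uk := inferInstance
    haveI : Flat uk.left := MorphismProperty.of_isPullback (P := @Flat)
      (Groth.Agent.Lead.GrpMonoCl.isPullback_map_left (S.fromSpecResidueField s) u) hfl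
    obtain ⟨z, hz, hzw⟩ := neutral_subset_image_of_flat (S.residueField s) _ _ uk hw'
    refine ⟨(pullback.fst G.hom (S.fromSpecResidueField s)) z,
      (mem_neutralSet_iff G s z).mp hz, ?_⟩
    have := fst_map G H u s z
    rw [← this]
    show (pullback.fst H.hom (S.fromSpecResidueField s)) (uk.left z) = y
    rw [hzw, hw]
  · intro hGfl hred himg
    haveI := hGfl
    haveI : LocallyOfFinitePresentation (u.left ≫ H.hom) := by rw [Over.w u]; infer_instance
    haveI : Flat (u.left ≫ H.hom) := by rw [Over.w u]; infer_instance
    have hflat : ∀ s : S, Flat (pullback.snd u.left (H.hom.fiberι s)) := by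
      intro s
      obtain ⟨h1, h2⟩ := hlft s
      let uk := (Over.pullback (S.fromSpecResidueField s)).map u
      haveI : IsMonHom uk := inferInstance
      haveI : IsReduced (Red.bc (S.fromSpecResidueField s) H).left := hred s
      have hsub : connectedComponent ((η[Red.bc (S.fromSpecResidueField s) H]).left
            (IsLocalRing.closedPoint (S.residueField s))) ⊆
          uk.left '' connectedComponent ((η[Red.bc (S.fromSpecResidueField s) G]).left
            (IsLocalRing.closedPoint (S.residueField s))) := by
        intro w hw
        have hy := (mem_neutralSet_iff H s w).mp hw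
        rw [← himg] at hy
        obtain ⟨x, hx, hxy⟩ := hy
        have hxs : x ∈ G.hom ⁻¹' {s} := by
          have e1 : G.hom x = H.hom (u.left x) := by
            rw [← Scheme.Hom.comp_apply, Over.w u]
          have e2 : u.left x = (H.hom.fiberι s) w := hxy
          have e3 : (H.hom.fiberι s) w ∈ H.hom ⁻¹' {s} := by
            rw [← H.hom.range_fiberι s]; exact ⟨w, rfl⟩
          rw [Set.mem_preimage, Set.mem_singleton_iff, e1, e2]
          exact e3
        rw [← G.hom.range_fiberι s] at hxs
        obtain ⟨z, hz⟩ := hxs
        have hz' : (pullback.fst G.hom (S.fromSpecResidueField s)) z = x := hz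
        refine ⟨z, (mem_neutralSet_iff G s z).mpr (by rw [hz']; exact hx), ?_⟩
        apply (H.hom.fiberι s).isEmbedding.injective
        have := fst_map G H u s z
        rw [hz'] at this
        exact this.trans hxy
      have := flat_of_neutral_subset_image (S.residueField s) _ _ uk hsub
      exact (Groth.Agent.Lead.Isog.snd_eq G H u s @Flat).mpr this
    refine Flat.of_stalkMap u.left fun x => ?_
    have key := Groth.Agent.Lead.CritFib.critere_fibre u.left H.hom x
    have h1 : ((u.left ≫ H.hom).stalkMap x).hom.Flat := Flat.stalkMap (u.left ≫ H.hom) x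
    have hF : Flat (MoreMor.fiberMap u.left H.hom (H.hom (u.left x))) := by
      rw [← Groth.Agent.Lead.CritFib.fiberMapOver_eq]
      exact Groth.Agent.Helper3.FibCrit.fiberMapOver_of_snd @Flat H.hom u.left _ (hflat _)
    have h2 := Flat.stalkMap (MoreMor.fiberMap u.left H.hom (H.hom (u.left x)))
      ((u.left ≫ H.hom).asFiber x)
    exact (key.mp ⟨h1, h2⟩).2

end Groth.Agent.Lead.Neut
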