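import Mathlib
import Groth.Agent.S17858
import Groth.Agent.S17865
import Groth.Agent.S17866
import Groth.Agent.S17869

/-!
# S17868: uniform affine Nisnevich covers factoring through a given one (lead)
-/

set_option autoImplicit false
set_option backward.isDefEq.respectTransparency.types false
set_option synthInstance.maxHeartbeats 400000
set_option maxHeartbeats 1000000
set_option linter.style.haveILetI false
set_option linter.unusedSectionVars false

universe u
open CategoryTheory CategoryTheory.Limits AlgebraicGeometry TopologicalSpace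

namespace Groth.Agent.Lead.NisFac

theorem isQuasiAffine_of_isAffine {U Y : Scheme.{u}} [IsAffine U] [QuasiSeparatedSpace Y]
    (f : U ⟶ Y) : Mor2.IsQuasiAffine f := by
  haveI : QuasiCompact f := inferInstance
  refine ⟨inferInstance, fun V hV => ?_⟩
  haveI : CompactSpace ((f ⁻¹ᵁ V : U.Opens) : Scheme.{u}) :=
    isCompact_iff_compactSpace.mp (QuasiCompact.isCompact_preimage (f := f) _ V.2 hV.isCompact)
  exact Scheme.IsQuasiAffine.of_isImmersion (f ⁻¹ᵁ V).ι

theorem main17868 {U Y : Scheme.{u}} [IsAffine U]
    [CompactSpace Y] [QuasiSeparatedSpace Y] (f : U ⟶ Y) (m' : ℕ)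
    (hf : W4c5algebraiztannaka.IsNisCoverLen f m') :
    ∃ m : ℕ, ∀ (B : CommRingCat.{u}) (g : Spec B ⟶ Y),
      ∃ (V : Scheme.{u}) (_ : IsAffine V) (v : V ⟶ Spec B) (w : V ⟶ U),
        W4c5algebraiztannaka.IsNisCoverLen v m ∧ w ≫ f = v ≫ g := by
  obtain ⟨n, hn⟩ := Groth.Agent.S17858.result f (isQuasiAffine_of_isAffine f)
  refine ⟨n * m', fun B g => ?_⟩
  obtain ⟨O, hO, hcov⟩ := hn B g
  haveI : CompactSpace ↥(pullback f g) := by
    haveI : QuasiCompact (pullback.snd f g) :=
      MorphismProperty.pullback_snd _ _ (inferInstance : QuasiCompact f)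
    exact QuasiCompact.compactSpace_of_compactSpace (pullback.snd f g)
  haveI : QuasiSeparatedSpace ↥(pullback f g) := by
    haveI : QuasiSeparated (pullback.snd f g) :=
      MorphismProperty.pullback_snd _ _ (inferInstance : QuasiSeparated f)
    exact quasiSeparatedSpace_of_quasiSeparated (pullback.snd f g)
  haveI : ∀ k, IsAffine ((O k : (pullback f g).Opens) : Scheme.{u}) := fun k => hO k
  let d : (∐ fun k => ((O k : (pullback f g).Opens) : Scheme.{u})) ⟶ pullback f g :=
    Sigma.desc (fun k => (O k).ι)
  have h1 : W4c5algebraiztannaka.IsNisCoverLen d n :=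
    Groth.Agent.S17869.result n O (fun k => (hO k).isCompact) hcov
  have h2 : W4c5algebraiztannaka.IsNisCoverLen (pullback.snd f g) m' :=
    Groth.Agent.S17865.result f g m' hf
  haveI : IsAffine (∐ fun k => ((O k : (pullback f g).Opens) : Scheme.{u})) := inferInstance
  refine ⟨_, inferInstance, d ≫ pullback.snd f g, d ≫ pullback.fst f g, ?_, ?_⟩
  · exact Groth.Agent.S17866.result d (pullback.snd f g) n m' h1 h2
  · rw [Category.assoc, Category.assoc, pullback.condition]

end Groth.Agent.Lead.NisFac
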