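import Mathlib
import Groth.Agent.S8869
import Groth.Agent.Lib.Helper1.CurveFin1
import Groth.Prelude.Def_FDesc

/-!
# Reduced global sections on a one-dimensional Noetherian scheme exclude embedded points (lead)
-/

set_option autoImplicit false
set_option linter.style.haveILetI false
universe u
open CategoryTheory CategoryTheory.Limits AlgebraicGeometry TopologicalSpace Opposite

namespace Groth.Agent.Lead.NoEmb

variable {C : Scheme.{u}}

/-- membership in the prime ideal of a point of an affine open -/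
theorem mem_primeIdealOf_iff {W : C.Opens} (hW : IsAffineOpen W) (p : C) (hp : p ∈ W)
    (g : Γ(C, W)) : g ∈ (hW.primeIdealOf ⟨p, hp⟩).asIdeal ↔ p ∉ C.basicOpen g := by
  have h4 : hW.fromSpec (hW.primeIdealOf ⟨p, hp⟩) = p := hW.fromSpec_primeIdealOf ⟨p, hp⟩
  have h3 : hW.primeIdealOf ⟨p, hp⟩ ∈ hW.fromSpec ⁻¹ᵁ C.basicOpen g ↔
      g ∉ (hW.primeIdealOf ⟨p, hp⟩).asIdeal := by
    rw [hW.fromSpec_preimage_basicOpen]
    rfl
  have h5 : hW.primeIdealOf ⟨p, hp⟩ ∈ hW.fromSpec ⁻¹ᵁ C.basicOpen g ↔ p ∈ C.basicOpen g := by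
    change hW.fromSpec (hW.primeIdealOf ⟨p, hp⟩) ∈ C.basicOpen g ↔ _
    rw [h4]
  rw [← h5, h3, not_not]

/-- a point of an affine open all of whose functions vanishing at the closed point `x` vanish at it
is `x` -/
theorem eq_of_forall_notMem_basicOpen {W : C.Opens} (hW : IsAffineOpen W) (x : C) (hx : x ∈ W)
    (hxc : IsClosed ({x} : Set C)) (p : C) (hp : p ∈ W)
    (h : ∀ g : Γ(C, W), x ∉ C.basicOpen g → p ∉ C.basicOpen g) : p = x := by
  haveI hmax : (hW.primeIdealOf ⟨x, hx⟩).asIdeal.IsMaximal :=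
    hW.primeIdealOf_isMaximal_of_isClosed ⟨x, hx⟩ hxc
  have hle : (hW.primeIdealOf ⟨x, hx⟩).asIdeal ≤ (hW.primeIdealOf ⟨p, hp⟩).asIdeal := by
    intro g hg
    rw [mem_primeIdealOf_iff] at hg ⊢
    exact h g hg
  have heq : (hW.primeIdealOf ⟨x, hx⟩).asIdeal = (hW.primeIdealOf ⟨p, hp⟩).asIdeal :=
    hmax.eq_of_le (hW.primeIdealOf ⟨p, hp⟩).isPrime.ne_top hle
  have h1 : hW.primeIdealOf ⟨x, hx⟩ = hW.primeIdealOf ⟨p, hp⟩ := PrimeSpectrum.ext heq
  have h2 := congrArg (fun q => hW.fromSpec q) h1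
  simp only [hW.fromSpec_primeIdealOf] at h2
  exact h2.symm

/-- variant with a generating set -/
theorem eq_of_forall_mem_notMem_basicOpen {W : C.Opens} (hW : IsAffineOpen W) (x : C) (hx : x ∈ W)
    (hxc : IsClosed ({x} : Set C)) (S : Set Γ(C, W))
    (hS : Ideal.span S = (hW.primeIdealOf ⟨x, hx⟩).asIdeal) (p : C) (hp : p ∈ W)
    (h : ∀ g ∈ S, p ∉ C.basicOpen g) : p = x := by
  haveI hmax : (hW.primeIdealOf ⟨x, hx⟩).asIdeal.IsMaximal :=
    hW.primeIdealOf_isMaximal_of_isClosed ⟨x, hx⟩ hxc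
  have hle : (hW.primeIdealOf ⟨x, hx⟩).asIdeal ≤ (hW.primeIdealOf ⟨p, hp⟩).asIdeal := by
    rw [← hS, Ideal.span_le]
    intro g hg
    exact (mem_primeIdealOf_iff hW p hp g).mpr (h g hg)
  have heq : (hW.primeIdealOf ⟨x, hx⟩).asIdeal = (hW.primeIdealOf ⟨p, hp⟩).asIdeal :=
    hmax.eq_of_le (hW.primeIdealOf ⟨p, hp⟩).isPrime.ne_top hle
  have h1 : hW.primeIdealOf ⟨x, hx⟩ = hW.primeIdealOf ⟨p, hp⟩ := PrimeSpectrum.ext heq
  have h2 := congrArg (fun q => hW.fromSpec q) h1
  simp only [hW.fromSpec_primeIdealOf] at h2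
  exact h2.symm

/-- a section whose germ at `x` is zero vanishes near `x` -/
theorem exists_res_eq_zero {W : C.Opens} (x : C) (hx : x ∈ W) (b : Γ(C, W))
    (hb : C.presheaf.germ W x hx b = 0) :
    ∃ (V : C.Opens) (hV : V ≤ W), x ∈ V ∧ C.presheaf.map (homOfLE hV).op b = 0 := by
  have h0 : C.presheaf.germ W x hx b = C.presheaf.germ W x hx 0 := by rw [hb, map_zero]
  obtain ⟨V, hxV, i1, i2, e⟩ := TopCat.Presheaf.germ_eq C.presheaf x hx hx _ _ h0
  refine ⟨V, i1.le, hxV, ?_⟩
  rw [map_zero] at e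
  exact e

/-- simultaneous vanishing near `x` of finitely many sections with zero germ -/
theorem exists_res_eq_zero_finset {W : C.Opens} (x : C) (hx : x ∈ W) (T : Finset Γ(C, W))
    (hT : ∀ b ∈ T, C.presheaf.germ W x hx b = 0) :
    ∃ (V : C.Opens) (hV : V ≤ W), x ∈ V ∧ ∀ b ∈ T, C.presheaf.map (homOfLE hV).op b = 0 := by
  classical
  induction T using Finset.induction_on with
  | empty => exact ⟨W, le_rfl, hx, fun b hb => absurd hb (Finset.notMem_empty b)⟩
  | insert a T ha ih =>
    obtain ⟨V, hV, hxV, h1⟩ := ih (fun b hb => hT b (Finset.mem_insert_of_mem hb))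
    obtain ⟨V', hV', hxV', h2⟩ := exists_res_eq_zero x hx a (hT a (Finset.mem_insert_self a T))
    refine ⟨V ⊓ V', inf_le_left.trans hV, ⟨hxV, hxV'⟩, ?_⟩
    intro b hb
    rcases Finset.mem_insert.mp hb with rfl | hb
    · have : C.presheaf.map (homOfLE (inf_le_left.trans hV : V ⊓ V' ≤ W)).op b =
          C.presheaf.map (homOfLE (inf_le_right : V ⊓ V' ≤ V')).op
            (C.presheaf.map (homOfLE hV').op b) := by
        rw [← ConcreteCategory.comp_apply, ← Functor.map_comp]
        rfl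
      rw [this, h2, map_zero]
    · have : C.presheaf.map (homOfLE (inf_le_left.trans hV : V ⊓ V' ≤ W)).op b =
          C.presheaf.map (homOfLE (inf_le_left : V ⊓ V' ≤ V)).op
            (C.presheaf.map (homOfLE hV).op b) := by
        rw [← ConcreteCategory.comp_apply, ← Functor.map_comp]
        rfl
      rw [this, h1 b hb, map_zero]

theorem germ_map {U V : C.Opens} (hVU : V ≤ U) (p : C) (hp : p ∈ V) (a : Γ(C, U)) :
    C.presheaf.germ V p hp (C.presheaf.map (homOfLE hVU).op a) = C.presheaf.germ U p (hVU hp) a :=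
  TopCat.Presheaf.germ_res_apply C.presheaf (homOfLE hVU) p hp a

/-- a local section killed by the maximal ideal at a closed point `x` spreads out to a global
section vanishing away from `x` -/
theorem exists_global_section [IsNoetherian C] (x : C) (hxc : IsClosed ({x} : Set C))
    {U : C.Opens} (hxU : x ∈ U) (a : Γ(C, U))
    (ha : ∀ r ∈ IsLocalRing.maximalIdeal (C.presheaf.stalk x),
      r * C.presheaf.germ U x hxU a = 0) :
    ∃ t : Γ(C, ⊤), C.presheaf.germ ⊤ x trivial t = C.presheaf.germ U x hxU a ∧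
      ∀ p : C, p ≠ x → C.presheaf.germ ⊤ p trivial t = 0 := by
  classical
  obtain ⟨_, ⟨W, hW, rfl⟩, hxW, hWU⟩ := C.isBasis_affineOpens.exists_subset_of_mem_open
    hxU U.isOpen
  have hWU' : W ≤ U := hWU
  have hW' : IsAffineOpen W := hW
  set a' : Γ(C, W) := C.presheaf.map (homOfLE hWU').op a with ha'
  have hga' : C.presheaf.germ W x hxW a' = C.presheaf.germ U x hxU a := germ_map hWU' x hxW a
  haveI : IsNoetherianRing Γ(C, W) := IsLocallyNoetherian.component_noetherian ⟨W, hW⟩
  obtain ⟨S, hS⟩ := (isNoetherianRing_iff_ideal_fg Γ(C, W)).mp inferInstance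
    (hW'.primeIdealOf ⟨x, hxW⟩).asIdeal
  -- the products `g * a'` have zero germ at `x`
  have hT : ∀ b ∈ S.image (fun g => g * a'), C.presheaf.germ W x hxW b = 0 := by
    intro b hb
    obtain ⟨g, hg, rfl⟩ := Finset.mem_image.mp hb
    have hgm : g ∈ (hW'.primeIdealOf ⟨x, hxW⟩).asIdeal := by
      rw [← hS]
      exact Ideal.subset_span hg
    have hnu : ¬ IsUnit (C.presheaf.germ W x hxW g) := by
      rw [← Scheme.mem_basicOpen]
      exact (mem_primeIdealOf_iff hW' x hxW g).mp hgm
    rw [map_mul, hga']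
    exact ha _ hnu
  obtain ⟨V, hV, hxV, hVz⟩ := exists_res_eq_zero_finset x hxW _ hT
  set b : Γ(C, V) := C.presheaf.map (homOfLE hV).op a' with hb
  -- germs of `b` away from `x` vanish
  have hbz : ∀ (p : C) (hp : p ∈ V), p ≠ x → C.presheaf.germ V p hp b = 0 := by
    intro p hp hpx
    have hex : ∃ g ∈ S, p ∈ C.basicOpen g := by
      by_contra hcon
      push Not at hcon
      exact hpx (eq_of_forall_mem_notMem_basicOpen hW' x hxW hxc (↑S) hS p (hV hp)
        (fun g hg => hcon g hg))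
    obtain ⟨g, hg, hpg⟩ := hex
    have hu : IsUnit (C.presheaf.germ W p (hV hp) g) :=
      (Scheme.mem_basicOpen C g p (hV hp)).mp hpg
    have h1 : C.presheaf.germ W p (hV hp) (g * a') = 0 := by
      rw [← germ_map hV p hp (g * a'), hVz _ (Finset.mem_image_of_mem _ hg), map_zero]
    rw [map_mul] at h1
    have h2 : C.presheaf.germ W p (hV hp) a' = 0 := (hu.mul_right_eq_zero).mp h1
    rw [hb, germ_map hV p hp a', h2]
  -- glue
  let W' : C.Opens := ⟨({x} : Set C)ᶜ, hxc.isOpen_compl⟩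
  let Uc : ULift.{u} Bool → C.Opens := fun i => if i.down then V else W'
  let sf : ∀ i : ULift.{u} Bool, Γ(C, Uc i) := fun i =>
    match i with
    | ⟨true⟩ => b
    | ⟨false⟩ => 0
  have hcov : (⊤ : C.Opens) ≤ iSup Uc := by
    intro p _
    by_cases hpx : p = x
    · exact Opens.mem_iSup.mpr ⟨⟨true⟩, hpx ▸ hxV⟩
    · exact Opens.mem_iSup.mpr ⟨⟨false⟩, hpx⟩
  have hcompat : TopCat.Presheaf.IsCompatible C.sheaf.1 Uc sf := by
    have key : C.presheaf.map (homOfLE (inf_le_left : V ⊓ W' ≤ V)).op b = 0 := by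
      apply TopCat.Presheaf.section_ext C.sheaf
      intro p hp
      have h3 := germ_map (inf_le_left : V ⊓ W' ≤ V) p hp b
      change C.presheaf.germ (V ⊓ W') p hp _ = C.presheaf.germ (V ⊓ W') p hp 0
      rw [map_zero, h3]
      exact hbz p hp.1 hp.2
    rintro ⟨i⟩ ⟨j⟩
    cases i <;> cases j
    · rfl
    · change C.presheaf.map _ 0 = C.presheaf.map _ b
      rw [map_zero]
      have h4 : C.presheaf.map (homOfLE (inf_le_right : W' ⊓ V ≤ V)).op b = 0 := by
        apply TopCat.Presheaf.section_ext C.sheaf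
        intro p hp
        have h3 := germ_map (inf_le_right : W' ⊓ V ≤ V) p hp b
        change C.presheaf.germ (W' ⊓ V) p hp _ = C.presheaf.germ (W' ⊓ V) p hp 0
        rw [map_zero, h3]
        exact hbz p hp.2 hp.1
      exact h4.symm
    · change C.presheaf.map _ b = C.presheaf.map _ 0
      rw [map_zero]
      exact key
    · rfl
  obtain ⟨t, ht, -⟩ := C.sheaf.existsUnique_gluing' Uc ⊤ (fun i => homOfLE le_top) hcov sf hcompat
  refine ⟨t, ?_, ?_⟩
  · have h1 := ht ⟨true⟩
    have h2 : C.presheaf.germ V x hxV (C.presheaf.map (homOfLE (le_top : V ≤ ⊤)).op t) =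
        C.presheaf.germ ⊤ x trivial t := germ_map le_top x hxV t
    rw [← h2]
    have h3 : C.presheaf.map (homOfLE (le_top : V ≤ ⊤)).op t = b := h1
    rw [h3, hb, germ_map hV x hxV a', hga']
  · intro p hpx
    have h1 := ht ⟨false⟩
    have hpW' : p ∈ W' := hpx
    have h2 : C.presheaf.germ W' p hpW' (C.presheaf.map (homOfLE (le_top : W' ≤ ⊤)).op t) =
        C.presheaf.germ ⊤ p trivial t := germ_map le_top p hpW' t
    rw [← h2]
    have h3 : C.presheaf.map (homOfLE (le_top : W' ≤ ⊤)).op t = 0 := h1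
    rw [h3, map_zero]

open Groth.Agent.S8869 in
theorem noEmbedded [IsNoetherian C] (hdim : topologicalKrullDim C = 1)
    (hred : IsReduced Γ(C, ⊤)) : AssSch.NoEmbedded (Coh.structureModule C) := by
  intro x hx y hy hyx
  by_contra hne
  -- `x` is a closed point
  have hxcl : closure ({x} : Set C) = {x} := by
    apply Groth.Agent.Helper1.CurveFin.closure_singleton_of_ne hdim.le (Z := closure {y})
      isIrreducible_singleton.closure isClosed_closure
    · exact hyx.mem_closure
    · intro h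
      exact hne ((inseparable_iff_closure_eq.2 h).eq)
  have hxc : IsClosed ({x} : Set C) := by
    rw [← hxcl]
    exact isClosed_closure
  -- the element of the stalk with annihilator the maximal ideal
  haveI : IsNoetherianRing (C.presheaf.stalk x) := inferInstance
  have hx' : IsAssociatedPrime (IsLocalRing.maximalIdeal (C.presheaf.stalk x))
      ((Coh.structureModule C).presheaf.stalk x) := hx
  obtain ⟨-, m, hm⟩ := isAssociatedPrime_iff.mp hx'
  obtain ⟨U, hxU, m', rfl⟩ := TopCat.Presheaf.exists_germ_eq (Coh.structureModule C).presheaf m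
  obtain ⟨s, rfl⟩ := H8869.toM_surj C m'
  have hann : ∀ r : C.presheaf.stalk x,
      r ∈ IsLocalRing.maximalIdeal (C.presheaf.stalk x) ↔ r * C.presheaf.germ U x hxU s = 0 := by
    intro r
    rw [hm, Submodule.mem_colon_singleton, Submodule.mem_bot]
    exact H8869.ann_iff C x hxU s r
  have hσm : C.presheaf.germ U x hxU s ∈ IsLocalRing.maximalIdeal (C.presheaf.stalk x) := by
    by_contra hσ
    have hu : IsUnit (C.presheaf.germ U x hxU s) := by
      rwa [IsLocalRing.mem_maximalIdeal, mem_nonunits_iff, not_not] at hσ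
    have hbot : ∀ r ∈ IsLocalRing.maximalIdeal (C.presheaf.stalk x), r = 0 :=
      fun r hr => (hu.mul_left_eq_zero).mp ((hann r).mp hr)
    have hy' : y ∈ Set.range (C.fromSpecStalk x) := by
      rw [Scheme.range_fromSpecStalk]
      exact hyx
    obtain ⟨Q, rfl⟩ := hy'
    have hQ : Q.asIdeal = IsLocalRing.maximalIdeal (C.presheaf.stalk x) :=
      le_antisymm (IsLocalRing.le_maximalIdeal Q.isPrime.ne_top)
        (fun r hr => by rw [hbot r hr]; exact Q.asIdeal.zero_mem)
    have hQ' : Q = IsLocalRing.closedPoint (C.presheaf.stalk x) := PrimeSpectrum.ext hQ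
    apply hne
    rw [hQ', Scheme.fromSpecStalk_closedPoint]
  have hσσ := (hann _).mp hσm
  obtain ⟨t, ht, htz⟩ := exists_global_section x hxc hxU s
    (fun r hr => (hann r).mp hr)
  have htt : t * t = 0 := by
    apply TopCat.Presheaf.section_ext C.sheaf
    intro p hp
    change C.presheaf.germ ⊤ p trivial (t * t) = C.presheaf.germ ⊤ p trivial 0
    rw [map_mul, map_zero]
    by_cases hpx : p = x
    · subst hpx
      rw [ht]
      exact hσσ
    · rw [htz p hpx, mul_zero]
  have ht0 : t = 0 := hred.eq_zero t ⟨2, by rw [sq]; exact htt⟩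
  have hσ0 : C.presheaf.germ U x hxU s = 0 := by
    rw [← ht, ht0, map_zero]
  have h1 : (1 : C.presheaf.stalk x) ∈ IsLocalRing.maximalIdeal (C.presheaf.stalk x) :=
    (hann 1).mpr (by rw [hσ0, mul_zero])
  exact (Ideal.ne_top_iff_one _).mp (IsLocalRing.maximalIdeal.isMaximal _).ne_top h1

end Groth.Agent.Lead.NoEmb
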