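import Mathlib

set_option autoImplicit false
set_option backward.isDefEq.respectTransparency.types false
set_option synthInstance.maxHeartbeats 400000
set_option linter.style.haveILetI false
set_option linter.unusedSectionVars false
universe u
open CategoryTheory CategoryTheory.Limits AlgebraicGeometry TopologicalSpace Opposite

namespace Groth.Agent.Lead.NormFLF

section Algebra

variable {A B : Type u} [CommRing A] [CommRing B] [Algebra A B]

/-- the norm of `b` is a multiple of `b` (Cayley--Hamilton) -/
theorem exists_norm_eq_mul [Module.Free A B] [Module.Finite A B] (b : B) :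
    ∃ c : B, algebraMap A B (Algebra.norm A b) = b * c := by
  set φ : B →ₗ[A] B := Algebra.lmul A B b with hφ
  have hCH : Polynomial.aeval φ φ.charpoly = 0 := LinearMap.aeval_self_charpoly φ
  have h1 : Polynomial.aeval b φ.charpoly = 0 := by
    have h2 : Polynomial.aeval (Algebra.lmul A B b) φ.charpoly =
        Algebra.lmul A B (Polynomial.aeval b φ.charpoly) :=
      Polynomial.aeval_algHom_apply (Algebra.lmul A B) b φ.charpoly
    rw [← hφ, hCH] at h2
    have h3 := LinearMap.congr_fun h2 (1 : B)
    simpa using h3.symm
  have h4 : Polynomial.aeval b (φ.charpoly.divX * Polynomial.X +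
      Polynomial.C (φ.charpoly.coeff 0)) = 0 := by
    rw [Polynomial.divX_mul_X_add]; exact h1
  rw [map_add, map_mul, Polynomial.aeval_X, Polynomial.aeval_C] at h4
  have hdet : Algebra.norm A b = (-1) ^ Module.finrank A B * φ.charpoly.coeff 0 := by
    rw [Algebra.norm_apply, ← hφ]
    exact LinearMap.det_eq_sign_charpoly_coeff φ
  refine ⟨(-1) ^ (Module.finrank A B + 1) * Polynomial.aeval b φ.charpoly.divX, ?_⟩
  rw [hdet, map_mul, map_pow, map_neg, map_one]
  have h5 : algebraMap A B (φ.charpoly.coeff 0) = -(Polynomial.aeval b φ.charpoly.divX * b) :=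
    eq_neg_of_add_eq_zero_right h4
  rw [h5, pow_succ]
  ring

/-- the norm of an element of an ideal lies in the contraction -/
theorem norm_mem_comap [Module.Free A B] [Module.Finite A B] (q : Ideal B) (b : B) (hb : b ∈ q) :
    Algebra.norm A b ∈ q.comap (algebraMap A B) := by
  obtain ⟨c, hc⟩ := exists_norm_eq_mul (A := A) b
  rw [Ideal.mem_comap, hc]
  exact Ideal.mul_mem_right _ _ hb

/-- finite flat finitely presented modules are free near every prime -/
theorem exists_free_away [Module.Finite A B] [Module.Flat A B] [Module.FinitePresentation A B]
    (p : Ideal A) [p.IsPrime] :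
    ∃ r : A, r ∉ p ∧ Module.Free (Localization (Submonoid.powers r)) (LocalizedModule.Away r B) := by
  haveI : Module.Free (Localization.AtPrime p) (LocalizedModule p.primeCompl B) :=
    Module.free_of_flat_of_isLocalRing
  obtain ⟨r, hr, hfree, -⟩ := Module.FinitePresentation.exists_free_localizedModule_powers
    p.primeCompl (LocalizedModule.mkLinearMap p.primeCompl B) (Localization.AtPrime p)
  exact ⟨r, hr, hfree⟩

/-- transport of freeness to any model of the localization -/
theorem free_of_free_localizedModule (r : A) (A' B' : Type u) [CommRing A'] [CommRing B']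
    [Algebra A A'] [Algebra B B'] [Algebra A' B'] [Algebra A B'] [IsScalarTower A A' B']
    [IsScalarTower A B B'] [IsLocalization.Away r A']
    [IsLocalization.Away (algebraMap A B r) B']
    [Module.Free (Localization (Submonoid.powers r)) (LocalizedModule.Away r B)] :
    Module.Free A' B' := by
  haveI hloc : IsLocalization (Algebra.algebraMapSubmonoid B (Submonoid.powers r)) B' := by
    rw [Algebra.algebraMapSubmonoid_powers]
    infer_instance
  haveI : IsLocalizedModule (Submonoid.powers r) (IsScalarTower.toAlgHom A B B').toLinearMap :=
    isLocalizedModule_iff_isLocalization.2 hloc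
  let b := Module.Free.chooseBasis (Localization (Submonoid.powers r)) (LocalizedModule.Away r B)
  let e : LocalizedModule.Away r B ≃ₗ[A] B' :=
    IsLocalizedModule.iso (Submonoid.powers r) (IsScalarTower.toAlgHom A B B').toLinearMap
  let σ : Localization (Submonoid.powers r) ≃ₐ[A] A' :=
    IsLocalization.algEquiv (Submonoid.powers r) _ _
  letI : Module (Localization (Submonoid.powers r)) B' := Module.compHom B' σ.toRingEquiv.toRingHom
  haveI : IsScalarTower A (Localization (Submonoid.powers r)) B' := by
    refine ⟨fun a c x => ?_⟩
    change σ (a • c) • x = a • (σ c • x)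
    rw [map_smul, smul_assoc]
  let e' : LocalizedModule.Away r B ≃ₗ[Localization (Submonoid.powers r)] B' :=
    { e with
      toLinearMap := e.toLinearMap.extendScalarsOfIsLocalization (Submonoid.powers r)
        (Localization (Submonoid.powers r)) }
  let b' : Module.Basis _ (Localization (Submonoid.powers r)) B' := b.map e'
  exact Module.Free.of_basis (b'.mapCoeffs σ.toRingEquiv (fun c x => rfl))

end Algebra

end Groth.Agent.Lead.NormFLF
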