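import Mathlib
import Groth.Prelude.Def_Fitting
import Groth.Prelude.Def_Mor2
import Groth.Agent.Lib.Lead.NormFLF1
import Groth.Agent.Lib.Lead.CodimTwo2

set_option autoImplicit false
set_option backward.isDefEq.respectTransparency.types false
set_option synthInstance.maxHeartbeats 400000
set_option linter.style.haveILetI false
set_option linter.unusedSectionVars false
universe u
open CategoryTheory CategoryTheory.Limits AlgebraicGeometry TopologicalSpace Opposite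

namespace Groth.Agent.Lead.NormFLF

variable {X Y : Scheme.{u}} (π : X ⟶ Y)

/-- the algebra structure on sections over an open and its preimage -/
@[reducible] noncomputable def alg (V : Y.Opens) : Algebra Γ(Y, V) Γ(X, π ⁻¹ᵁ V) :=
  (π.app V).hom.toAlgebra

/-- opens over which the morphism is finite free (and which are affine) -/
def IsGood (V : Y.Opens) : Prop :=
  IsAffineOpen V ∧ (letI := alg π V; Module.Free Γ(Y, V) Γ(X, π ⁻¹ᵁ V)) ∧
    (letI := alg π V; Module.Finite Γ(Y, V) Γ(X, π ⁻¹ᵁ V))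

/-- the norm over a (good) open -/
noncomputable def normV (V : Y.Opens) : Γ(X, π ⁻¹ᵁ V) →* Γ(Y, V) :=
  letI := alg π V; Algebra.norm Γ(Y, V)

/-- restriction of sections of the source over opens of the target -/
noncomputable abbrev resX {U V : Y.Opens} (h : V ≤ U) : Γ(X, π ⁻¹ᵁ U) →+* Γ(X, π ⁻¹ᵁ V) :=
  (X.presheaf.map ((Opens.map π.base).map (homOfLE h)).op).hom

/-- restriction of sections of the target -/
noncomputable abbrev resY {U V : Y.Opens} (h : V ≤ U) : Γ(Y, U) →+* Γ(Y, V) :=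
  (Y.presheaf.map (homOfLE h).op).hom

variable [IsAffineHom π]

theorem good_basicOpen {V : Y.Opens} (hV : IsGood π V) (f : Γ(Y, V)) :
    IsGood π (Y.basicOpen f) ∧ ∀ b : Γ(X, π ⁻¹ᵁ V),
      resY (Y.basicOpen_le f) (normV π V b) =
        normV π (Y.basicOpen f) (resX π (Y.basicOpen_le f) b) := by
  obtain ⟨hVa, hfree, hfin⟩ := hV
  letI := alg π V
  letI := alg π (Y.basicOpen f)
  let i : π ⁻¹ᵁ (Y.basicOpen f) ⟶ π ⁻¹ᵁ V := (Opens.map π.base).map (homOfLE (Y.basicOpen_le f))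
  letI a3 : Algebra Γ(X, π ⁻¹ᵁ V) Γ(X, π ⁻¹ᵁ (Y.basicOpen f)) := (X.presheaf.map i.op).hom.toAlgebra
  letI a4 : Algebra Γ(Y, V) Γ(X, π ⁻¹ᵁ (Y.basicOpen f)) :=
    ((X.presheaf.map i.op).hom.comp (π.app V).hom).toAlgebra
  haveI : IsScalarTower Γ(Y, V) Γ(X, π ⁻¹ᵁ V) Γ(X, π ⁻¹ᵁ (Y.basicOpen f)) :=
    IsScalarTower.of_algebraMap_eq (fun x => rfl)
  haveI : IsScalarTower Γ(Y, V) Γ(Y, Y.basicOpen f) Γ(X, π ⁻¹ᵁ (Y.basicOpen f)) := by
    refine IsScalarTower.of_algebraMap_eq (fun x => ?_)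
    have := π.naturality (homOfLE (Y.basicOpen_le f)).op
    exact (ConcreteCategory.congr_hom this x).symm
  haveI := hVa.isLocalization_basicOpen f
  haveI h5 : IsLocalization.Away ((π.app V).hom f) Γ(X, π ⁻¹ᵁ (Y.basicOpen f)) :=
    (hVa.preimage π).isLocalization_of_eq_basicOpen ((π.app V).hom f) i
      (Scheme.preimage_basicOpen π f)
  haveI h6 : IsLocalization (Algebra.algebraMapSubmonoid Γ(X, π ⁻¹ᵁ V) (Submonoid.powers f))
      Γ(X, π ⁻¹ᵁ (Y.basicOpen f)) := by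
    rw [Algebra.algebraMapSubmonoid_powers]
    exact h5
  refine ⟨⟨hVa.basicOpen f, ?_, ?_⟩, fun b => ?_⟩
  · let bs := Module.Free.chooseBasis Γ(Y, V) Γ(X, π ⁻¹ᵁ V)
    exact Module.Free.of_basis (bs.localizationLocalization Γ(Y, Y.basicOpen f)
      (Submonoid.powers f) Γ(X, π ⁻¹ᵁ (Y.basicOpen f)))
  · let bs := Module.Free.chooseBasis Γ(Y, V) Γ(X, π ⁻¹ᵁ V)
    exact Module.Finite.of_basis (bs.localizationLocalization Γ(Y, Y.basicOpen f)
      (Submonoid.powers f) Γ(X, π ⁻¹ᵁ (Y.basicOpen f)))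
  · exact (Algebra.norm_localization Γ(Y, V) (Submonoid.powers f) (Rₘ := Γ(Y, Y.basicOpen f))
      (Sₘ := Γ(X, π ⁻¹ᵁ (Y.basicOpen f))) b).symm

theorem good_of_eq_basicOpen {V W : Y.Opens} (hV : IsGood π V) (f : Γ(Y, V))
    (e : W = Y.basicOpen f) (hWV : W ≤ V) :
    IsGood π W ∧ ∀ b : Γ(X, π ⁻¹ᵁ V),
      resY hWV (normV π V b) = normV π W (resX π hWV b) := by
  subst e
  exact good_basicOpen π hV f

omit [IsAffineHom π] in
theorem exists_good [IsFinite π] [Flat π] [LocallyOfFinitePresentation π] (U : Y.Opens) (y : Y)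
    (hy : y ∈ U) : ∃ W : Y.Opens, IsGood π W ∧ y ∈ W ∧ W ≤ U := by
  obtain ⟨V, hV, hyV, hVU⟩ := Opens.isBasis_iff_nbhd.1 Y.isBasis_affineOpens hy
  letI := alg π V
  have hV' : IsAffineOpen (π ⁻¹ᵁ V) := hV.preimage π
  haveI hfin : Module.Finite Γ(Y, V) Γ(X, π ⁻¹ᵁ V) := IsFinite.finite_app π V hV
  haveI hflat : Module.Flat Γ(Y, V) Γ(X, π ⁻¹ᵁ V) := by
    have h := π.flat_appLE hV hV' le_rfl
    rw [← Scheme.Hom.app_eq_appLE] at h
    exact h
  haveI hfp : Algebra.FinitePresentation Γ(Y, V) Γ(X, π ⁻¹ᵁ V) := by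
    have h := π.finitePresentation_appLE hV hV' le_rfl
    rw [← Scheme.Hom.app_eq_appLE] at h
    exact h
  haveI : Module.FinitePresentation Γ(Y, V) Γ(X, π ⁻¹ᵁ V) :=
    Module.FinitePresentation.of_finite_of_finitePresentation _ _
  obtain ⟨r, hr, hfree⟩ := exists_free_away (A := Γ(Y, V)) (B := Γ(X, π ⁻¹ᵁ V))
    (hV.primeIdealOf ⟨y, hyV⟩).asIdeal
  have hyr : y ∈ Y.basicOpen r := by
    by_contra hc
    exact hr ((Groth.Agent.Lead.CodimTwo.mem_primeIdealOf_iff hV y hyV r).2 hc)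
  refine ⟨Y.basicOpen r, ⟨hV.basicOpen r, ?_, ?_⟩, hyr, (Y.basicOpen_le r).trans hVU⟩
  · letI := alg π (Y.basicOpen r)
    let i : π ⁻¹ᵁ (Y.basicOpen r) ⟶ π ⁻¹ᵁ V :=
      (Opens.map π.base).map (homOfLE (Y.basicOpen_le r))
    letI a3 : Algebra Γ(X, π ⁻¹ᵁ V) Γ(X, π ⁻¹ᵁ (Y.basicOpen r)) :=
      (X.presheaf.map i.op).hom.toAlgebra
    letI a4 : Algebra Γ(Y, V) Γ(X, π ⁻¹ᵁ (Y.basicOpen r)) :=
      ((X.presheaf.map i.op).hom.comp (π.app V).hom).toAlgebra
    haveI : IsScalarTower Γ(Y, V) Γ(X, π ⁻¹ᵁ V) Γ(X, π ⁻¹ᵁ (Y.basicOpen r)) :=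
      IsScalarTower.of_algebraMap_eq (fun x => rfl)
    haveI : IsScalarTower Γ(Y, V) Γ(Y, Y.basicOpen r) Γ(X, π ⁻¹ᵁ (Y.basicOpen r)) := by
      refine IsScalarTower.of_algebraMap_eq (fun x => ?_)
      have := π.naturality (homOfLE (Y.basicOpen_le r)).op
      exact (ConcreteCategory.congr_hom this x).symm
    haveI := hV.isLocalization_basicOpen r
    haveI h5 : IsLocalization.Away (algebraMap Γ(Y, V) Γ(X, π ⁻¹ᵁ V) r)
        Γ(X, π ⁻¹ᵁ (Y.basicOpen r)) :=
      hV'.isLocalization_of_eq_basicOpen ((π.app V).hom r) i (Scheme.preimage_basicOpen π r)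
    exact free_of_free_localizedModule (A := Γ(Y, V)) (B := Γ(X, π ⁻¹ᵁ V)) r
      Γ(Y, Y.basicOpen r) Γ(X, π ⁻¹ᵁ (Y.basicOpen r))
  · exact IsFinite.finite_app π _ (hV.basicOpen r)

omit [IsAffineHom π] in
/-- locality of equality of sections -/
theorem eq_of_locally {U : Y.Opens} (t t' : Γ(Y, U))
    (h : ∀ y ∈ U, ∃ (D : Y.Opens) (hD : D ≤ U), y ∈ D ∧ resY hD t = resY hD t') : t = t' := by
  choose D hD hyD hres using h
  refine TopCat.Sheaf.eq_of_locally_eq' Y.sheaf (fun y : U => D y.1 y.2) U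
    (fun y => homOfLE (hD y.1 y.2)) ?_ t t' (fun y => hres y.1 y.2)
  intro y hy
  exact Opens.mem_iSup.mpr ⟨⟨y, hy⟩, hyD y hy⟩

omit [IsAffineHom π] in
theorem resY_resY {U V W : Y.Opens} (h1 : V ≤ U) (h2 : W ≤ V) (t : Γ(Y, U)) :
    resY h2 (resY h1 t) = resY (h2.trans h1) t := by
  change (Y.presheaf.map (homOfLE h1).op ≫ Y.presheaf.map (homOfLE h2).op).hom t = _
  rw [← Y.presheaf.map_comp]
  rfl

omit [IsAffineHom π] in
theorem resX_resX {U V W : Y.Opens} (h1 : V ≤ U) (h2 : W ≤ V) (s : Γ(X, π ⁻¹ᵁ U)) :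
    resX π h2 (resX π h1 s) = resX π (h2.trans h1) s := by
  change (X.presheaf.map ((Opens.map π.base).map (homOfLE h1)).op ≫
    X.presheaf.map ((Opens.map π.base).map (homOfLE h2)).op).hom s = _
  rw [← X.presheaf.map_comp]
  rfl

/-- the norms over good opens are compatible with restriction -/
theorem normV_res {V W : Y.Opens} (hV : IsGood π V) (hW : IsGood π W) (h : W ≤ V)
    (b : Γ(X, π ⁻¹ᵁ V)) : resY h (normV π V b) = normV π W (resX π h b) := by
  apply eq_of_locally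
  intro y hy
  obtain ⟨f, g, e, hyf⟩ := exists_basicOpen_le_affine_inter hW.1 hV.1 y ⟨hy, h hy⟩
  have hDW : Y.basicOpen f ≤ W := Y.basicOpen_le f
  refine ⟨Y.basicOpen f, hDW, hyf, ?_⟩
  have h1 := (good_of_eq_basicOpen π hV g e (hDW.trans h)).2 b
  have h2 := (good_basicOpen π hW f).2 (resX π h b)
  rw [resY_resY, h1, h2, resX_resX]

/-- the characterisation of the glued norm -/
def IsNormOf (U : Y.Opens) (s : Γ(X, π ⁻¹ᵁ U)) (t : Γ(Y, U)) : Prop :=
  ∀ (W : Y.Opens), IsGood π W → ∀ h : W ≤ U, resY h t = normV π W (resX π h s)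

variable [IsFinite π] [Flat π] [LocallyOfFinitePresentation π]

omit [IsAffineHom π] in
theorem isNormOf_unique {U : Y.Opens} {s : Γ(X, π ⁻¹ᵁ U)} {t t' : Γ(Y, U)}
    (h : IsNormOf π U s t) (h' : IsNormOf π U s t') : t = t' := by
  apply eq_of_locally
  intro y hy
  obtain ⟨W, hW, hyW, hWU⟩ := exists_good π U y hy
  exact ⟨W, hWU, hyW, (h W hW hWU).trans (h' W hW hWU).symm⟩

theorem exists_isNormOf (U : Y.Opens) (s : Γ(X, π ⁻¹ᵁ U)) : ∃ t, IsNormOf π U s t := by
  have hloc : ∀ y : U, ∃ W : Y.Opens, IsGood π W ∧ y.1 ∈ W ∧ W ≤ U :=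
    fun y => exists_good π U y.1 y.2
  choose W hW hyW hWU using hloc
  let sf : ∀ y : U, Γ(Y, W y) := fun y => normV π (W y) (resX π (hWU y) s)
  have hcompat : TopCat.Presheaf.IsCompatible Y.presheaf W sf := by
    intro i j
    apply eq_of_locally
    intro z hz
    obtain ⟨D, hD, hzD, hDij⟩ := exists_good π (W i ⊓ W j) z hz
    refine ⟨D, hDij, hzD, ?_⟩
    have e1 : resY hDij (resY (inf_le_left : W i ⊓ W j ≤ W i) (sf i)) =
        normV π D (resX π ((hDij.trans inf_le_left).trans (hWU i)) s) := by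
      rw [resY_resY, normV_res π (hW i) hD, resX_resX]
    have e2 : resY hDij (resY (inf_le_right : W i ⊓ W j ≤ W j) (sf j)) =
        normV π D (resX π ((hDij.trans inf_le_right).trans (hWU j)) s) := by
      rw [resY_resY, normV_res π (hW j) hD, resX_resX]
    exact e1.trans e2.symm
  have hcover : U ≤ iSup W := by
    intro x hx
    exact Opens.mem_iSup.mpr ⟨⟨x, hx⟩, hyW ⟨x, hx⟩⟩
  obtain ⟨t, ht, -⟩ := Y.sheaf.existsUnique_gluing' W U (fun y => homOfLE (hWU y)) hcover sf hcompat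
  refine ⟨t, fun V hV hVU => ?_⟩
  apply eq_of_locally
  intro z hz
  obtain ⟨D, hD, hzD, hDle⟩ := exists_good π (V ⊓ W ⟨z, hVU hz⟩) z ⟨hz, hyW ⟨z, hVU hz⟩⟩
  refine ⟨D, hDle.trans inf_le_left, hzD, ?_⟩
  have h1 : resY (hWU ⟨z, hVU hz⟩) t = sf ⟨z, hVU hz⟩ := ht ⟨z, hVU hz⟩
  have e1 : resY (hDle.trans inf_le_left) (resY hVU t) =
      resY (hDle.trans inf_le_right) (resY (hWU ⟨z, hVU hz⟩) t) := by
    rw [resY_resY, resY_resY]
  rw [e1, h1, normV_res π (hW _) hD, normV_res π hV hD, resX_resX, resX_resX]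

omit [LocallyOfFinitePresentation π] [Flat π] [IsFinite π] in
theorem isPullback_fromSpec {W : Y.Opens} (hW : IsAffineOpen W) :
    IsPullback (hW.preimage π).fromSpec (Spec.map (π.app W)) π hW.fromSpec := by
  refine (IsOpenImmersion.isPullback (Spec.map (π.app W)) (hW.preimage π).fromSpec hW.fromSpec π
    ?_ ?_).flip
  · have := IsAffineOpen.SpecMap_appLE_fromSpec π hW (hW.preimage π) le_rfl
    rw [← Scheme.Hom.app_eq_appLE] at this
    exact this.symm
  · rw [IsAffineOpen.opensRange_fromSpec, IsAffineOpen.opensRange_fromSpec]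

/-- the rank of the sections over a good open -/
theorem finrank_good {W : Y.Opens} (hW : IsGood π W) (d : ℕ) (hd : ∀ y, π.finrank y = d)
    [Nontrivial Γ(Y, W)] :
    (letI := alg π W; Module.finrank Γ(Y, W) Γ(X, π ⁻¹ᵁ W)) = d := by
  obtain ⟨hWa, hfree, hfin⟩ := hW
  letI := alg π W
  obtain ⟨p⟩ : Nonempty (PrimeSpectrum Γ(Y, W)) := inferInstance
  have h1 := Scheme.Hom.finrank_of_isPullback _ _ _ _ (isPullback_fromSpec π hWa) p
  rw [hd] at h1
  haveI : Module.Flat Γ(Y, W) Γ(X, π ⁻¹ᵁ W) := inferInstance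
  have h2 := Scheme.Hom.finrank_SpecMap_algebraMap Γ(Y, W) Γ(X, π ⁻¹ᵁ W) p
  rw [Module.rankAtStalk_eq_finrank_of_free] at h2
  exact h2.symm.trans h1

theorem normV_app {W : Y.Opens} (hW : IsGood π W) (d : ℕ) (hd : ∀ y, π.finrank y = d)
    (g : Γ(Y, W)) : normV π W ((π.app W).hom g) = g ^ d := by
  rcases subsingleton_or_nontrivial Γ(Y, W) with hs | hn
  · exact Subsingleton.elim _ _
  · have hr := finrank_good π hW d hd
    obtain ⟨hWa, hfree, hfin⟩ := hW
    letI := alg π W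
    let bs := Module.Free.chooseBasis Γ(Y, W) Γ(X, π ⁻¹ᵁ W)
    have h1 : Algebra.norm Γ(Y, W) (algebraMap Γ(Y, W) Γ(X, π ⁻¹ᵁ W) g) = g ^ _ :=
      Algebra.norm_algebraMap_of_basis bs g
    rw [← Module.finrank_eq_card_basis bs, hr] at h1
    exact h1

omit [LocallyOfFinitePresentation π] [Flat π] [IsFinite π] in
theorem normV_mem {W : Y.Opens} (hW : IsGood π W) (s : Γ(X, π ⁻¹ᵁ W)) (x : X)
    (hx : π.base x ∈ W)
    (h : X.presheaf.germ (π ⁻¹ᵁ W) x hx s ∈ IsLocalRing.maximalIdeal (X.presheaf.stalk x)) :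
    Y.presheaf.germ W (π.base x) hx (normV π W s) ∈
      IsLocalRing.maximalIdeal (Y.presheaf.stalk (π.base x)) := by
  obtain ⟨hWa, hfree, hfin⟩ := hW
  letI := alg π W
  have hW' : IsAffineOpen (π ⁻¹ᵁ W) := hWa.preimage π
  have h1 : x ∉ X.basicOpen s := by
    intro hc
    rw [X.mem_basicOpen s x hx] at hc
    exact (IsLocalRing.mem_maximalIdeal _).1 h hc
  have h2 : s ∈ (hW'.primeIdealOf ⟨x, hx⟩).asIdeal :=
    (Groth.Agent.Lead.CodimTwo.mem_primeIdealOf_iff hW' x hx s).2 h1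
  have h3 := norm_mem_comap (A := Γ(Y, W)) _ s h2
  rw [Ideal.mem_comap] at h3
  have h4 : x ∉ X.basicOpen ((π.app W).hom (Algebra.norm Γ(Y, W) s)) :=
    (Groth.Agent.Lead.CodimTwo.mem_primeIdealOf_iff hW' x hx _).1 h3
  have h5 : π.base x ∉ Y.basicOpen (normV π W s) := by
    intro hc
    apply h4
    rw [← Scheme.preimage_basicOpen]
    exact hc
  rw [IsLocalRing.mem_maximalIdeal]
  intro hu
  exact h5 ((Y.mem_basicOpen _ _ hx).2 hu)

/-- the glued norm -/
noncomputable def normU (U : Y.Opens) (s : Γ(X, π ⁻¹ᵁ U)) : Γ(Y, U) :=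
  (exists_isNormOf π U s).choose

theorem normU_spec (U : Y.Opens) (s : Γ(X, π ⁻¹ᵁ U)) : IsNormOf π U s (normU π U s) :=
  (exists_isNormOf π U s).choose_spec

theorem normU_eq {U : Y.Opens} {s : Γ(X, π ⁻¹ᵁ U)} {t : Γ(Y, U)} (h : IsNormOf π U s t) :
    normU π U s = t :=
  isNormOf_unique π (normU_spec π U s) h

theorem normU_one (U : Y.Opens) : normU π U 1 = 1 := by
  apply normU_eq
  intro W hW h
  rw [map_one, map_one, map_one]

theorem normU_mul (U : Y.Opens) (s s' : Γ(X, π ⁻¹ᵁ U)) :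
    normU π U (s * s') = normU π U s * normU π U s' := by
  apply normU_eq
  intro W hW h
  rw [map_mul, map_mul, map_mul, normU_spec π U s W hW h, normU_spec π U s' W hW h]

theorem normU_res {U V : Y.Opens} (h : V ≤ U) (s : Γ(X, π ⁻¹ᵁ U)) :
    resY h (normU π U s) = normU π V (resX π h s) := by
  symm
  apply normU_eq
  intro W hW hWV
  rw [resY_resY, resX_resX]
  exact normU_spec π U s W hW (hWV.trans h)

theorem normU_app (d : ℕ) (hd : ∀ y, π.finrank y = d) (U : Y.Opens) (g : Γ(Y, U)) :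
    normU π U ((π.app U).hom g) = g ^ d := by
  apply normU_eq
  intro W hW h
  rw [map_pow, ← normV_app π hW d hd]
  congr 1
  have := π.naturality (homOfLE h).op
  exact (ConcreteCategory.congr_hom this g)

theorem normU_mem (U : Y.Opens) (s : Γ(X, π ⁻¹ᵁ U)) (x : X) (hx : π.base x ∈ U)
    (h : X.presheaf.germ (π ⁻¹ᵁ U) x hx s ∈ IsLocalRing.maximalIdeal (X.presheaf.stalk x)) :
    Y.presheaf.germ U (π.base x) hx (normU π U s) ∈
      IsLocalRing.maximalIdeal (Y.presheaf.stalk (π.base x)) := by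
  obtain ⟨W, hW, hxW, hWU⟩ := exists_good π U (π.base x) hx
  have h1 : X.presheaf.germ (π ⁻¹ᵁ W) x hxW (resX π hWU s) = X.presheaf.germ (π ⁻¹ᵁ U) x hx s := by
    have e : X.presheaf.map ((Opens.map π.base).map (homOfLE hWU)).op ≫
        X.presheaf.germ (π ⁻¹ᵁ W) x hxW = X.presheaf.germ (π ⁻¹ᵁ U) x hx :=
      X.presheaf.germ_res _ x hxW
    exact ConcreteCategory.congr_hom e s
  have h2 := normV_mem π hW (resX π hWU s) x hxW (h1 ▸ h)
  rw [← normU_spec π U s W hW hWU] at h2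
  have h3 : Y.presheaf.germ W (π.base x) hxW (resY hWU (normU π U s)) =
      Y.presheaf.germ U (π.base x) hx (normU π U s) := by
    have e : Y.presheaf.map (homOfLE hWU).op ≫ Y.presheaf.germ W (π.base x) hxW =
        Y.presheaf.germ U (π.base x) hx := Y.presheaf.germ_res _ (π.base x) hxW
    exact ConcreteCategory.congr_hom e _
  rw [← h3]
  exact h2

end Groth.Agent.Lead.NormFLF

namespace Groth.Agent.Lead.NormFLF

/-- a finite locally free morphism of degree `d ≥ 1` has a norm of degree `d` -/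
theorem main {X Y : Scheme.{u}} (π : X ⟶ Y) (d : ℕ) (hd : 1 ≤ d)
    (hπ : Mor2.IsFinLocFreeOfDeg d π) : Nrm.HasNorm π d := by
  obtain ⟨⟨h1, h2, h3⟩, hrank⟩ := hπ
  haveI := h1
  haveI := h2
  haveI := h3
  exact ⟨{ one_le := hd
           norm := fun U => ⟨⟨normU π U, normU_one π U⟩, normU_mul π U⟩
           norm_res := fun i s => normU_res π (leOfHom i) s
           norm_app := fun U g => normU_app π d hrank U g
           norm_mem := fun U s x hx h => normU_mem π U s x hx h }⟩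

end Groth.Agent.Lead.NormFLF
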