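import Mathlib
import Groth.Prelude.Def_Fitting
import Groth.Agent.Lib.Lead.NormFLF2

set_option autoImplicit false
set_option backward.isDefEq.respectTransparency.types false
set_option synthInstance.maxHeartbeats 400000
set_option linter.style.haveILetI false
set_option linter.unusedSectionVars false
universe u
open CategoryTheory CategoryTheory.Limits AlgebraicGeometry TopologicalSpace Opposite

namespace Groth.Agent.Lead.NormGlue

open Groth.Agent.Lead.NormFLF

variable {X Y : Scheme.{u}} (π : X ⟶ Y)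

/-- local data for a norm of degree `d`: multiplicative maps over a basis-like class of opens -/
structure LocalNorm (d : ℕ) where
  /-- the good opens -/
  G : Y.Opens → Prop
  /-- the local norms -/
  nV : ∀ V : Y.Opens, Γ(X, π ⁻¹ᵁ V) →* Γ(Y, V)
  exists_good : ∀ (U : Y.Opens) (y : Y), y ∈ U → ∃ W : Y.Opens, G W ∧ y ∈ W ∧ W ≤ U
  res : ∀ {V W : Y.Opens} (_ : G V) (_ : G W) (h : W ≤ V) (b : Γ(X, π ⁻¹ᵁ V)),
    resY h (nV V b) = nV W (resX π h b)
  app : ∀ {W : Y.Opens} (_ : G W) (g : Γ(Y, W)), nV W ((π.app W).hom g) = g ^ d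
  mem : ∀ {W : Y.Opens} (_ : G W) (s : Γ(X, π ⁻¹ᵁ W)) (x : X) (hx : π.base x ∈ W),
    X.presheaf.germ (π ⁻¹ᵁ W) x hx s ∈ IsLocalRing.maximalIdeal (X.presheaf.stalk x) →
      Y.presheaf.germ W (π.base x) hx (nV W s) ∈
        IsLocalRing.maximalIdeal (Y.presheaf.stalk (π.base x))

variable {π} {d : ℕ} (L : LocalNorm π d)

/-- the characterisation of the glued norm -/
def IsNormOf (U : Y.Opens) (s : Γ(X, π ⁻¹ᵁ U)) (t : Γ(Y, U)) : Prop :=
  ∀ (W : Y.Opens), L.G W → ∀ h : W ≤ U, resY h t = L.nV W (resX π h s)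

theorem isNormOf_unique {U : Y.Opens} {s : Γ(X, π ⁻¹ᵁ U)} {t t' : Γ(Y, U)}
    (h : IsNormOf L U s t) (h' : IsNormOf L U s t') : t = t' := by
  apply eq_of_locally
  intro y hy
  obtain ⟨W, hW, hyW, hWU⟩ := L.exists_good U y hy
  exact ⟨W, hWU, hyW, (h W hW hWU).trans (h' W hW hWU).symm⟩

theorem exists_isNormOf (U : Y.Opens) (s : Γ(X, π ⁻¹ᵁ U)) : ∃ t, IsNormOf L U s t := by
  have hloc : ∀ y : U, ∃ W : Y.Opens, L.G W ∧ y.1 ∈ W ∧ W ≤ U :=
    fun y => L.exists_good U y.1 y.2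
  choose W hW hyW hWU using hloc
  let sf : ∀ y : U, Γ(Y, W y) := fun y => L.nV (W y) (resX π (hWU y) s)
  have hcompat : TopCat.Presheaf.IsCompatible Y.presheaf W sf := by
    intro i j
    apply eq_of_locally
    intro z hz
    obtain ⟨D, hD, hzD, hDij⟩ := L.exists_good (W i ⊓ W j) z hz
    refine ⟨D, hDij, hzD, ?_⟩
    have e1 : resY hDij (resY (inf_le_left : W i ⊓ W j ≤ W i) (sf i)) =
        L.nV D (resX π ((hDij.trans inf_le_left).trans (hWU i)) s) := by
      rw [resY_resY, L.res (hW i) hD, resX_resX]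
    have e2 : resY hDij (resY (inf_le_right : W i ⊓ W j ≤ W j) (sf j)) =
        L.nV D (resX π ((hDij.trans inf_le_right).trans (hWU j)) s) := by
      rw [resY_resY, L.res (hW j) hD, resX_resX]
    exact e1.trans e2.symm
  have hcover : U ≤ iSup W := by
    intro x hx
    exact Opens.mem_iSup.mpr ⟨⟨x, hx⟩, hyW ⟨x, hx⟩⟩
  obtain ⟨t, ht, -⟩ := Y.sheaf.existsUnique_gluing' W U (fun y => homOfLE (hWU y)) hcover sf hcompat
  refine ⟨t, fun V hV hVU => ?_⟩
  apply eq_of_locally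
  intro z hz
  obtain ⟨D, hD, hzD, hDle⟩ := L.exists_good (V ⊓ W ⟨z, hVU hz⟩) z ⟨hz, hyW ⟨z, hVU hz⟩⟩
  refine ⟨D, hDle.trans inf_le_left, hzD, ?_⟩
  have h1 : resY (hWU ⟨z, hVU hz⟩) t = sf ⟨z, hVU hz⟩ := ht ⟨z, hVU hz⟩
  have e1 : resY (hDle.trans inf_le_left) (resY hVU t) =
      resY (hDle.trans inf_le_right) (resY (hWU ⟨z, hVU hz⟩) t) := by
    rw [resY_resY, resY_resY]
  rw [e1, h1, L.res (hW _) hD, L.res hV hD, resX_resX, resX_resX]

/-- the glued norm -/
noncomputable def normU (U : Y.Opens) (s : Γ(X, π ⁻¹ᵁ U)) : Γ(Y, U) :=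
  (exists_isNormOf L U s).choose

theorem normU_spec (U : Y.Opens) (s : Γ(X, π ⁻¹ᵁ U)) : IsNormOf L U s (normU L U s) :=
  (exists_isNormOf L U s).choose_spec

theorem normU_eq {U : Y.Opens} {s : Γ(X, π ⁻¹ᵁ U)} {t : Γ(Y, U)} (h : IsNormOf L U s t) :
    normU L U s = t :=
  isNormOf_unique L (normU_spec L U s) h

theorem normU_one (U : Y.Opens) : normU L U 1 = 1 := by
  apply normU_eq
  intro W hW h
  rw [map_one, map_one, map_one]

theorem normU_mul (U : Y.Opens) (s s' : Γ(X, π ⁻¹ᵁ U)) :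
    normU L U (s * s') = normU L U s * normU L U s' := by
  apply normU_eq
  intro W hW h
  rw [map_mul, map_mul, map_mul, normU_spec L U s W hW h, normU_spec L U s' W hW h]

theorem normU_res {U V : Y.Opens} (h : V ≤ U) (s : Γ(X, π ⁻¹ᵁ U)) :
    resY h (normU L U s) = normU L V (resX π h s) := by
  symm
  apply normU_eq
  intro W hW hWV
  rw [resY_resY, resX_resX]
  exact normU_spec L U s W hW (hWV.trans h)

theorem normU_app (U : Y.Opens) (g : Γ(Y, U)) :
    normU L U ((π.app U).hom g) = g ^ d := by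
  apply normU_eq
  intro W hW h
  rw [map_pow, ← L.app hW]
  congr 1
  have := π.naturality (homOfLE h).op
  exact (ConcreteCategory.congr_hom this g)

theorem normU_mem (U : Y.Opens) (s : Γ(X, π ⁻¹ᵁ U)) (x : X) (hx : π.base x ∈ U)
    (h : X.presheaf.germ (π ⁻¹ᵁ U) x hx s ∈ IsLocalRing.maximalIdeal (X.presheaf.stalk x)) :
    Y.presheaf.germ U (π.base x) hx (normU L U s) ∈
      IsLocalRing.maximalIdeal (Y.presheaf.stalk (π.base x)) := by
  obtain ⟨W, hW, hxW, hWU⟩ := L.exists_good U (π.base x) hx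
  have h1 : X.presheaf.germ (π ⁻¹ᵁ W) x hxW (resX π hWU s) = X.presheaf.germ (π ⁻¹ᵁ U) x hx s := by
    have e : X.presheaf.map ((Opens.map π.base).map (homOfLE hWU)).op ≫
        X.presheaf.germ (π ⁻¹ᵁ W) x hxW = X.presheaf.germ (π ⁻¹ᵁ U) x hx :=
      X.presheaf.germ_res _ x hxW
    exact ConcreteCategory.congr_hom e s
  have h2 := L.mem hW (resX π hWU s) x hxW (h1 ▸ h)
  rw [← normU_spec L U s W hW hWU] at h2
  have h3 : Y.presheaf.germ W (π.base x) hxW (resY hWU (normU L U s)) =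
      Y.presheaf.germ U (π.base x) hx (normU L U s) := by
    have e : Y.presheaf.map (homOfLE hWU).op ≫ Y.presheaf.germ W (π.base x) hxW =
        Y.presheaf.germ U (π.base x) hx := Y.presheaf.germ_res _ (π.base x) hxW
    exact ConcreteCategory.congr_hom e _
  rw [← h3]
  exact h2

/-- local norm data glue to a norm -/
theorem hasNorm (hd : 1 ≤ d) (L : LocalNorm π d) : Nrm.HasNorm π d :=
  ⟨{ one_le := hd
     norm := fun U => ⟨⟨normU L U, normU_one L U⟩, normU_mul L U⟩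
     norm_res := fun i s => normU_res L (leOfHom i) s
     norm_app := fun U g => normU_app L U g
     norm_mem := fun U s x hx h => normU_mem L U s x hx h }⟩

end Groth.Agent.Lead.NormGlue
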