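import Mathlib
import Groth.Prelude
import Groth.Agent.Lib.Helper7.GeomConn.NormalGlue
import Groth.Agent.Lib.Helper4.UnitFLF2

set_option autoImplicit false
set_option backward.isDefEq.respectTransparency.types false
set_option synthInstance.maxHeartbeats 400000
set_option linter.style.haveILetI false
set_option linter.unusedSectionVars false
universe u

open CategoryTheory CategoryTheory.Limits AlgebraicGeometry TopologicalSpace IsLocalRing Opposite

namespace Groth.Agent.Lead.NormFib

/-- sections of a normal integral scheme over a nonempty open form an integrally closed domain -/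
theorem isIntegrallyClosed_sections_open {X : Scheme.{u}} [IsIntegral X]
    (hN : Pi1.IsNormalScheme X) (W : X.Opens) [Nonempty W] : IsIntegrallyClosed Γ(X, W) := by
  rw [isIntegrallyClosed_iff (FractionRing Γ(X, W))]
  intro z hz
  have hinj : Function.Injective (algebraMap Γ(X, W) X.functionField) :=
    Scheme.germToFunctionField_injective X W
  let φ : FractionRing Γ(X, W) →ₐ[Γ(X, W)] X.functionField :=
    IsFractionRing.liftAlgHom (g := Algebra.ofId Γ(X, W) X.functionField) hinj
  have hφz : IsIntegral Γ(X, W) (φ z) := hz.map φ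
  obtain ⟨a, ha⟩ := Groth.Agent.Helper7.GeomConn.NG.exists_section_of_isIntegral
    (fun x => (hN x).2) W (φ z) hφz
  refine ⟨a, ?_⟩
  apply φ.toRingHom.injective
  show φ (algebraMap _ _ a) = φ z
  rw [φ.commutes]
  exact ha

/-- normality descends along a surjective morphism `f` of integral schemes with `O_Y = f_* O_X` -/
theorem isNormalScheme_of_app_bijective {X Y : Scheme.{u}} [IsIntegral X] [IsIntegral Y]
    (f : X ⟶ Y) [Surjective f] (hbij : ∀ U : Y.Opens, Function.Bijective (f.app U))
    (hX : Pi1.IsNormalScheme X) : Pi1.IsNormalScheme Y := by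
  intro y
  refine ⟨inferInstance, ?_⟩
  obtain ⟨_, ⟨V, hV, rfl⟩, hyV, -⟩ :=
    Y.isBasis_affineOpens.exists_subset_of_mem_open (Set.mem_univ y) isOpen_univ
  obtain ⟨x, hx⟩ := f.surjective y
  haveI : Nonempty (f ⁻¹ᵁ V : X.Opens) := ⟨⟨x, by
    show f x ∈ V
    rw [hx]
    exact hyV⟩⟩
  haveI : Nonempty V := ⟨⟨y, hyV⟩⟩
  have h1 := isIntegrallyClosed_sections_open hX (f ⁻¹ᵁ V)
  let e : Γ(Y, V) ≃+* Γ(X, f ⁻¹ᵁ V) := RingEquiv.ofBijective (f.app V).hom (hbij V)
  haveI h2 : IsIntegrallyClosed Γ(Y, V) := IsIntegrallyClosed.of_equiv e.symm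
  haveI : IsDomain Γ(Y, V) := inferInstance
  letI : Algebra Γ(Y, V) (Y.presheaf.stalk y) :=
    TopCat.Presheaf.algebra_section_stalk Y.presheaf (⟨y, hyV⟩ : V)
  haveI := hV.isLocalization_stalk ⟨y, hyV⟩
  exact isIntegrallyClosed_of_isLocalization (Y.presheaf.stalk y)
    (hV.primeIdealOf ⟨y, hyV⟩).asIdeal.primeCompl
    (Ideal.primeCompl_le_nonZeroDivisors _)

theorem S17584_main {X Y : Scheme.{u}} [IsIntegral X] [IsIntegral Y]
    (f : X ⟶ Y) [Surjective f] (hfs : IsIso (ClSub.unitToPush f))
    (hX : Pi1.IsNormalScheme X) : Pi1.IsNormalScheme Y :=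
  isNormalScheme_of_app_bijective f
    (Groth.Agent.Lib.Helper4.UnitFLF2.bijective_app_of_isIso_unitToPush f hfs) hX

end Groth.Agent.Lead.NormFib
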