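import Mathlib

set_option autoImplicit false
set_option backward.isDefEq.respectTransparency.types false
set_option synthInstance.maxHeartbeats 400000
set_option linter.style.haveILetI false
set_option linter.unusedSectionVars false
universe u
open CategoryTheory CategoryTheory.Limits AlgebraicGeometry TopologicalSpace Opposite

namespace Groth.Agent.Lead.NormNormal

section Alg

open scoped nonZeroDivisors
open IntermediateField

variable {A B K L : Type u} [CommRing A] [CommRing B] [IsDomain A] [IsDomain B] [Field K] [Field L]
  [Algebra A B] [Algebra A K] [Algebra B L] [Algebra K L] [Algebra A L]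
  [IsScalarTower A K L] [IsScalarTower A B L] [IsFractionRing A K] [IsFractionRing B L]

include K L in
theorem algebraMap_injective_AB : Function.Injective (algebraMap A B) := by
  intro a a' h
  have h1 : algebraMap A L a = algebraMap A L a' := by
    rw [IsScalarTower.algebraMap_apply A B L, h, ← IsScalarTower.algebraMap_apply A B L]
  rw [IsScalarTower.algebraMap_apply A K L, IsScalarTower.algebraMap_apply A K L] at h1
  exact IsFractionRing.injective A K ((algebraMap K L).injective h1)

theorem finite_KL [Module.Finite A B] : Module.Finite K L := by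
  haveI : FaithfulSMul A B :=
    (faithfulSMul_iff_algebraMap_injective A B).2 (algebraMap_injective_AB (K := K) (L := L))
  haveI : Algebra.IsAlgebraic A B := inferInstance
  haveI : IsLocalization (Algebra.algebraMapSubmonoid B A⁰) L := inferInstance
  exact Module.Finite.of_isLocalization A B A⁰

variable [IsIntegrallyClosed A]

theorem exists_norm_lift [Algebra.IsIntegral A B] (b : B) :
    ∃ a : A, algebraMap A K a = Algebra.norm K (algebraMap B L b) := by
  have hb : IsIntegral A (algebraMap B L b) :=
    (Algebra.IsIntegral.isIntegral (R := A) b).map (IsScalarTower.toAlgHom A B L)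
  have h1 : IsIntegral A (Algebra.norm K (algebraMap B L b)) := Algebra.isIntegral_norm K hb
  exact IsIntegrallyClosed.isIntegral_iff.1 h1

theorem norm_lift_mem [Module.Finite A B] (q : Ideal B) [q.IsPrime] (b : B) (hb : b ∈ q) (a : A)
    (ha : algebraMap A K a = Algebra.norm K (algebraMap B L b)) :
    a ∈ q.comap (algebraMap A B) := by
  haveI : Module.Finite K L := finite_KL (A := A) (B := B)
  have hbint : IsIntegral A b := Algebra.IsIntegral.isIntegral (R := A) b
  set x : L := algebraMap B L b with hx
  have hxint : IsIntegral K x := Algebra.IsIntegral.isIntegral (R := K) x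
  -- the constant term of the minimal polynomial
  set a₀ : A := (minpoly A b).coeff 0 with ha₀
  have hmin : minpoly K x = (minpoly A b).map (algebraMap A K) :=
    minpoly.isIntegrallyClosed_eq_field_fractions K L hbint
  have ha₀q : algebraMap A B a₀ ∈ q := by
    have h1 : Polynomial.aeval b (minpoly A b) = 0 := minpoly.aeval A b
    have h2 : Polynomial.aeval b ((minpoly A b).divX * Polynomial.X +
        Polynomial.C ((minpoly A b).coeff 0)) = 0 := by
      rw [Polynomial.divX_mul_X_add]; exact h1
    rw [map_add, map_mul, Polynomial.aeval_X, Polynomial.aeval_C] at h2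
    have h3 : algebraMap A B a₀ = -(Polynomial.aeval b (minpoly A b).divX * b) :=
      eq_neg_of_add_eq_zero_right h2
    rw [h3]
    exact neg_mem (Ideal.mul_mem_left _ _ hb)
  -- the norm in terms of the constant term
  set n := (minpoly K x).natDegree with hn
  set m := Module.finrank K⟮x⟯ L with hm
  have hmpos : 0 < m := Module.finrank_pos
  have h4 : Algebra.norm K x = ((-1) ^ n * algebraMap A K a₀) ^ m := by
    rw [Algebra.norm_eq_norm_adjoin K x]
    congr 1
    have h5 := Algebra.PowerBasis.norm_gen_eq_coeff_zero_minpoly (adjoin.powerBasis hxint)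
    rw [adjoin.powerBasis_gen, adjoin.powerBasis_dim, minpoly_gen] at h5
    have h7 : (minpoly K x).coeff 0 = algebraMap A K a₀ := by rw [hmin, Polynomial.coeff_map]
    rw [h5, h7]
  have h6 : a = ((-1) ^ n * a₀) ^ m := by
    apply IsFractionRing.injective A K
    rw [ha, h4, map_pow, map_mul, map_pow, map_neg, map_one]
  rw [Ideal.mem_comap, h6, map_pow, map_mul]
  obtain ⟨m', hm'⟩ := Nat.exists_eq_succ_of_ne_zero hmpos.ne'
  rw [hm', pow_succ]
  exact Ideal.mul_mem_left _ _ (Ideal.mul_mem_left _ _ ha₀q)

end Alg

end Groth.Agent.Lead.NormNormal
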