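import Mathlib
import Groth.Prelude.Def_Fitting
import Groth.Prelude.Def_Pi1
import Groth.Agent.Lib.Lead.NormNormal1
import Groth.Agent.Lib.Lead.NormGlue
import Groth.Agent.Lib.Lead.NormFib1

set_option autoImplicit false
set_option backward.isDefEq.respectTransparency.types false
set_option synthInstance.maxHeartbeats 400000
set_option linter.style.haveILetI false
set_option linter.unusedSectionVars false
universe u
open CategoryTheory CategoryTheory.Limits AlgebraicGeometry TopologicalSpace Opposite

namespace Groth.Agent.Lead.NormNormal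

open Groth.Agent.Lead.NormFLF

variable {X Y : Scheme.{u}} (π : X ⟶ Y) [IsIntegral X] [IsIntegral Y] [Surjective π]

theorem map_genericPoint : π.base (genericPoint X) = genericPoint Y := by
  obtain ⟨x, hx⟩ := π.surjective (genericPoint Y)
  have h1 : genericPoint X ⤳ x := genericPoint_specializes x
  have h2 : π.base (genericPoint X) ⤳ π.base x := h1.map π.continuous
  rw [hx] at h2
  exact (h2.antisymm (genericPoint_specializes _)).eq

theorem specializes_aux : π.base (genericPoint X) ⤳ genericPoint Y := by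
  rw [map_genericPoint]

/-- the inclusion of function fields -/
noncomputable def fieldMap : Y.functionField →+* X.functionField :=
  (π.stalkMap (genericPoint X)).hom.comp
    (Y.presheaf.stalkSpecializes (specializes_aux π)).hom

/-- sections to the function field -/
noncomputable def toK {Z : Scheme.{u}} [IsIntegral Z] (U : Z.Opens) (hη : genericPoint Z ∈ U) :
    Γ(Z, U) →+* Z.functionField :=
  (Z.presheaf.germ U (genericPoint Z) hη).hom

theorem toK_injective {Z : Scheme.{u}} [IsIntegral Z] (U : Z.Opens) (hη : genericPoint Z ∈ U) :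
    Function.Injective (toK U hη) :=
  germ_injective_of_isIntegral Z (genericPoint Z) hη

theorem toK_res {Z : Scheme.{u}} [IsIntegral Z] {U V : Z.Opens} (h : V ≤ U)
    (hη : genericPoint Z ∈ V) (r : Γ(Z, U)) :
    toK V hη (Z.presheaf.map (homOfLE h).op r) = toK U (h hη) r :=
  TopCat.Presheaf.germ_res_apply Z.presheaf (homOfLE h) (genericPoint Z) hη r

theorem mem_preimage {W : Y.Opens} (hη : genericPoint Y ∈ W) : genericPoint X ∈ π ⁻¹ᵁ W := by
  change π.base (genericPoint X) ∈ W
  rw [map_genericPoint]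
  exact hη

theorem fieldMap_toK (W : Y.Opens) (hη : genericPoint Y ∈ W) (g : Γ(Y, W)) :
    fieldMap π (toK W hη g) = toK (π ⁻¹ᵁ W) (mem_preimage π hη) ((π.app W).hom g) := by
  have hx : π.base (genericPoint X) ∈ W := mem_preimage π hη
  have e1 : Y.presheaf.germ W (genericPoint Y) hη ≫
      Y.presheaf.stalkSpecializes (specializes_aux π) =
      Y.presheaf.germ W (π.base (genericPoint X)) hx :=
    TopCat.Presheaf.germ_stalkSpecializes Y.presheaf hη (specializes_aux π)
  have e2 := Scheme.Hom.germ_stalkMap π W (genericPoint X) hx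
  have e3 := ConcreteCategory.congr_hom e1 g
  have e4 := ConcreteCategory.congr_hom e2 g
  change (π.stalkMap (genericPoint X)).hom ((Y.presheaf.stalkSpecializes (specializes_aux π)).hom
    ((Y.presheaf.germ W (genericPoint Y) hη).hom g)) = _
  exact (congrArg (π.stalkMap (genericPoint X)).hom e3).trans e4

/-- the algebra structure on function fields -/
@[reducible] noncomputable def algKL : Algebra Y.functionField X.functionField :=
  (fieldMap π).toAlgebra

/-- the field norm -/
noncomputable def normKL : X.functionField →* Y.functionField :=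
  letI := algKL π; Algebra.norm Y.functionField

/-- the degree -/
noncomputable def deg : ℕ := letI := algKL π; Module.finrank Y.functionField X.functionField

theorem normKL_fieldMap (c : Y.functionField) : normKL π (fieldMap π c) = c ^ deg π := by
  letI := algKL π
  exact Algebra.norm_algebraMap c

theorem good_package [IsFinite π] (hY : Pi1.IsNormalScheme Y) {W : Y.Opens}
    (hW : IsAffineOpen W) (hη : genericPoint Y ∈ W) :
    1 ≤ deg π ∧
    (∀ s : Γ(X, π ⁻¹ᵁ W), ∃ t : Γ(Y, W),
      toK W hη t = normKL π (toK (π ⁻¹ᵁ W) (mem_preimage π hη) s)) ∧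
    (∀ (s : Γ(X, π ⁻¹ᵁ W)) (t : Γ(Y, W)),
      toK W hη t = normKL π (toK (π ⁻¹ᵁ W) (mem_preimage π hη) s) →
      ∀ q : Ideal Γ(X, π ⁻¹ᵁ W), q.IsPrime → s ∈ q → (π.app W).hom t ∈ q) := by
  haveI : Nonempty W := ⟨⟨_, hη⟩⟩
  haveI : Nonempty (π ⁻¹ᵁ W : X.Opens) := ⟨⟨_, mem_preimage π hη⟩⟩
  letI := algKL π
  letI := alg π W
  letI a5 : Algebra Γ(Y, W) X.functionField :=
    ((algebraMap Y.functionField X.functionField).comp
      (algebraMap Γ(Y, W) Y.functionField)).toAlgebra
  haveI : IsScalarTower Γ(Y, W) Y.functionField X.functionField :=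
    IsScalarTower.of_algebraMap_eq (fun _ => rfl)
  haveI : IsScalarTower Γ(Y, W) Γ(X, π ⁻¹ᵁ W) X.functionField :=
    IsScalarTower.of_algebraMap_eq (fun g => fieldMap_toK π W hη g)
  haveI := functionField_isFractionRing_of_isAffineOpen Y W hW
  haveI := functionField_isFractionRing_of_isAffineOpen X (π ⁻¹ᵁ W) (hW.preimage π)
  haveI : IsIntegrallyClosed Γ(Y, W) :=
    Groth.Agent.Lead.NormFib.isIntegrallyClosed_sections_open hY W
  haveI : Module.Finite Γ(Y, W) Γ(X, π ⁻¹ᵁ W) := IsFinite.finite_app π W hW
  haveI : Module.Finite Y.functionField X.functionField :=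
    finite_KL (A := Γ(Y, W)) (B := Γ(X, π ⁻¹ᵁ W))
  refine ⟨?_, ?_, ?_⟩
  · exact Nat.succ_le_of_lt Module.finrank_pos
  · intro s
    exact exists_norm_lift (A := Γ(Y, W)) (B := Γ(X, π ⁻¹ᵁ W)) (K := Y.functionField)
      (L := X.functionField) s
  · intro s t ht q hq hs
    haveI := hq
    exact norm_lift_mem (A := Γ(Y, W)) (B := Γ(X, π ⁻¹ᵁ W)) (K := Y.functionField)
      (L := X.functionField) q s hs t ht

/-- the good opens: affine and nonempty -/
abbrev G (W : Y.Opens) : Prop := IsAffineOpen W ∧ genericPoint Y ∈ W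

variable [IsFinite π] (hY : Pi1.IsNormalScheme Y)

/-- the local norms -/
noncomputable def nV (W : Y.Opens) : Γ(X, π ⁻¹ᵁ W) →* Γ(Y, W) := by
  classical
  exact
  if h : G W then
    { toFun := fun s => ((good_package π hY h.1 h.2).2.1 s).choose
      map_one' := by
        apply toK_injective W h.2
        rw [((good_package π hY h.1 h.2).2.1 1).choose_spec, map_one, map_one, map_one]
      map_mul' := fun s s' => by
        apply toK_injective W h.2
        have e1 := ((good_package π hY h.1 h.2).2.1 (s * s')).choose_spec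
        have e2 := ((good_package π hY h.1 h.2).2.1 s).choose_spec
        have e3 := ((good_package π hY h.1 h.2).2.1 s').choose_spec
        refine e1.trans ?_
        rw [map_mul (toK W h.2), e2, e3, map_mul, map_mul] }
  else 1

theorem nV_spec {W : Y.Opens} (h : G W) (s : Γ(X, π ⁻¹ᵁ W)) :
    toK W h.2 (nV π hY W s) = normKL π (toK (π ⁻¹ᵁ W) (mem_preimage π h.2) s) := by
  unfold nV
  rw [dif_pos h]
  exact ((good_package π hY h.1 h.2).2.1 s).choose_spec

omit [IsFinite π] in
theorem toK_resX {V W : Y.Opens} (h : W ≤ V) (hη : genericPoint Y ∈ W) (b : Γ(X, π ⁻¹ᵁ V)) :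
    toK (π ⁻¹ᵁ W) (mem_preimage π hη) (resX π h b) = toK (π ⁻¹ᵁ V) (mem_preimage π (h hη)) b :=
  TopCat.Presheaf.germ_res_apply X.presheaf ((Opens.map π.base).map (homOfLE h))
    (genericPoint X) (mem_preimage π hη) b

/-- the local norm data -/
noncomputable def localNorm : Groth.Agent.Lead.NormGlue.LocalNorm π (deg π) where
  G := G
  nV := nV π hY
  exists_good := by
    intro U y hy
    obtain ⟨V, hV, hyV, hVU⟩ := Opens.isBasis_iff_nbhd.1 Y.isBasis_affineOpens hy
    exact ⟨V, ⟨hV, (genericPoint_specializes y).mem_open V.2 hyV⟩, hyV, hVU⟩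
  res := by
    intro V W hV hW h b
    apply toK_injective W hW.2
    have e1 : toK W hW.2 (resY h (nV π hY V b)) = toK V hV.2 (nV π hY V b) :=
      toK_res h hW.2 _
    rw [e1, nV_spec π hY hV, nV_spec π hY hW, toK_resX π h hW.2]
  app := by
    intro W hW g
    apply toK_injective W hW.2
    rw [nV_spec π hY hW, ← fieldMap_toK π W hW.2, normKL_fieldMap, map_pow]
  mem := by
    intro W hW s x hx h
    have hW' : IsAffineOpen (π ⁻¹ᵁ W) := hW.1.preimage π
    have h1 : x ∉ X.basicOpen s := by
      intro hc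
      rw [X.mem_basicOpen s x hx] at hc
      exact (IsLocalRing.mem_maximalIdeal _).1 h hc
    have h2 : s ∈ (hW'.primeIdealOf ⟨x, hx⟩).asIdeal :=
      (Groth.Agent.Lead.CodimTwo.mem_primeIdealOf_iff hW' x hx s).2 h1
    have h3 := (good_package π hY hW.1 hW.2).2.2 s (nV π hY W s) (nV_spec π hY hW s)
      (hW'.primeIdealOf ⟨x, hx⟩).asIdeal inferInstance h2
    have h4 : x ∉ X.basicOpen ((π.app W).hom (nV π hY W s)) :=
      (Groth.Agent.Lead.CodimTwo.mem_primeIdealOf_iff hW' x hx _).1 h3
    have h5 : π.base x ∉ Y.basicOpen (nV π hY W s) := by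
      intro hc
      apply h4
      rw [← Scheme.preimage_basicOpen]
      exact hc
    rw [IsLocalRing.mem_maximalIdeal]
    intro hu
    exact h5 ((Y.mem_basicOpen _ _ hx).2 hu)

include hY in
theorem main : ∃ d : ℕ, Nrm.HasNorm π d := by
  obtain ⟨V, hV, hηV, -⟩ := Opens.isBasis_iff_nbhd.1 Y.isBasis_affineOpens
    (show genericPoint Y ∈ (⊤ : Y.Opens) from trivial)
  exact ⟨deg π, Groth.Agent.Lead.NormGlue.hasNorm (good_package π hY hV hηV).1
    (localNorm π hY)⟩

end Groth.Agent.Lead.NormNormal
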