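import Mathlib
import Groth.Prelude.Def_Fitting

set_option autoImplicit false
set_option backward.isDefEq.respectTransparency.types false
set_option synthInstance.maxHeartbeats 400000
set_option linter.style.haveILetI false
set_option linter.unusedSectionVars false
universe u
open CategoryTheory CategoryTheory.Limits AlgebraicGeometry TopologicalSpace Opposite

namespace Groth.Agent.Lead.NormQA

variable {X Y : Scheme.{u}} {π : X ⟶ Y} {d : ℕ}

/-- an open with trivial ring of sections is empty -/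
theorem eq_bot_of_subsingleton (V : Y.Opens) (h : Subsingleton Γ(Y, V)) : V = ⊥ := by
  rw [eq_bot_iff]
  intro y hy
  exfalso
  have h1 : (1 : Γ(Y, V)) = 0 := Subsingleton.elim _ _
  have h2 := congrArg (Y.presheaf.germ V y hy).hom h1
  rw [map_one, map_zero] at h2
  exact one_ne_zero h2

/-- a finite morphism with a norm is surjective -/
theorem surjective (N : Nrm.NormOfDegree π d) [IsFinite π] : Function.Surjective π.base := by
  intro y
  by_contra hy
  have hcl : IsClosed (Set.range π.base) := π.isClosedMap.isClosed_range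
  let V : Y.Opens := ⟨(Set.range π.base)ᶜ, hcl.isOpen_compl⟩
  have hyV : y ∈ V := fun ⟨x, hx⟩ => hy ⟨x, hx⟩
  have hpre : π ⁻¹ᵁ V = ⊥ := by
    rw [eq_bot_iff]
    intro x hx
    exact hx ⟨x, rfl⟩
  have hsub : Subsingleton Γ(X, π ⁻¹ᵁ V) := by
    rw [hpre]
    exact CommRingCat.subsingleton_of_isTerminal X.sheaf.isTerminalOfEmpty
  have h0 : (0 : Γ(Y, V)) = 1 := by
    have h1 := N.norm_app V (0 : Γ(Y, V))
    rw [zero_pow (by have := N.one_le; omega)] at h1
    have h2 : (π.app V).hom (0 : Γ(Y, V)) = 1 := Subsingleton.elim _ _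
    have h3 : N.norm V ((π.app V).hom (0 : Γ(Y, V))) = 1 := by rw [h2, map_one]
    exact h1.symm.trans h3
  have hV : V = ⊥ := eq_bot_of_subsingleton V (subsingleton_of_zero_eq_one h0)
  rw [hV] at hyV
  exact hyV

/-- the norm of a function not vanishing on the fibre does not vanish -/
theorem mem_basicOpen_norm (N : Nrm.NormOfDegree π d) [IsFinite π] (U : Y.Opens)
    (r : Γ(X, π ⁻¹ᵁ U)) (y : Y) (hy : y ∈ U)
    (h : ∀ x : X, π.base x = y → x ∈ X.basicOpen r) : y ∈ Y.basicOpen (N.norm U r) := by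
  have hcl : IsClosed (π.base '' ((X.basicOpen r : Set X)ᶜ)) :=
    π.isClosedMap _ (X.basicOpen r).2.isClosed_compl
  let V₀ : Y.Opens := ⟨(π.base '' ((X.basicOpen r : Set X)ᶜ))ᶜ, hcl.isOpen_compl⟩
  let V' : Y.Opens := U ⊓ V₀
  have hyV' : y ∈ V' := by
    refine ⟨hy, ?_⟩
    rintro ⟨x, hx, hxy⟩
    exact hx (h x hxy)
  have hle : π ⁻¹ᵁ V' ≤ X.basicOpen r := by
    intro x hx
    by_contra hcon
    exact hx.2 ⟨x, hcon, rfl⟩
  let i : V' ⟶ U := homOfLE inf_le_left
  have hunit : IsUnit (X.presheaf.map ((Opens.map π.base).map i).op r) := by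
    apply RingedSpace.isUnit_of_isUnit_germ X.toRingedSpace
    intro x hx
    have e : X.presheaf.map ((Opens.map π.base).map i).op ≫ X.presheaf.germ (π ⁻¹ᵁ V') x hx =
        X.presheaf.germ (π ⁻¹ᵁ U) x hx.1 :=
      X.presheaf.germ_res ((Opens.map π.base).map i) x hx
    have e' := ConcreteCategory.congr_hom e r
    have hx' : x ∈ X.basicOpen r := hle hx
    have hu := (X.mem_basicOpen r x hx.1).1 hx'
    change IsUnit ((X.presheaf.germ (π ⁻¹ᵁ V') x hx).hom
      ((X.presheaf.map ((Opens.map π.base).map i).op).hom r))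
    rw [show (X.presheaf.germ (π ⁻¹ᵁ V') x hx).hom
      ((X.presheaf.map ((Opens.map π.base).map i).op).hom r) =
      (X.presheaf.germ (π ⁻¹ᵁ U) x hx.1).hom r from e']
    exact hu
  have hres := N.norm_res i r
  have hunit' : IsUnit ((Y.presheaf.map i.op).hom (N.norm U r)) := by
    rw [show (Y.presheaf.map i.op).hom (N.norm U r) = N.norm V' _ from hres]
    exact hunit.map (N.norm V')
  rw [Y.mem_basicOpen (N.norm U r) y hy]
  have e : Y.presheaf.map i.op ≫ Y.presheaf.germ V' y hyV' = Y.presheaf.germ U y hy :=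
    Y.presheaf.germ_res i y hyV'
  have e' := ConcreteCategory.congr_hom e (N.norm U r)
  rw [show (Y.presheaf.germ U y hy).hom (N.norm U r) =
    (Y.presheaf.germ V' y hyV').hom ((Y.presheaf.map i.op).hom (N.norm U r)) from e'.symm]
  exact hunit'.map _

/-- the preimage of the nonvanishing locus of the norm lies in the nonvanishing locus -/
theorem preimage_basicOpen_norm_le (N : Nrm.NormOfDegree π d) (U : Y.Opens)
    (r : Γ(X, π ⁻¹ᵁ U)) : π ⁻¹ᵁ (Y.basicOpen (N.norm U r)) ≤ X.basicOpen r := by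
  intro x hx
  have hxU : π.base x ∈ U := Y.basicOpen_le _ hx
  have hx' : π.base x ∈ Y.basicOpen (N.norm U r) := hx
  rw [Y.mem_basicOpen (N.norm U r) (π.base x) hxU] at hx'
  by_contra hcon
  have hcon' : ¬ IsUnit ((X.presheaf.germ (π ⁻¹ᵁ U) x hxU).hom r) := by
    intro hu
    exact hcon ((X.mem_basicOpen r x hxU).2 hu)
  have hm := N.norm_mem U r x hxU ((IsLocalRing.mem_maximalIdeal _).2 hcon')
  exact ((IsLocalRing.mem_maximalIdeal _).1 hm) hx'

/-- in a quasi-affine scheme a finite set in an open lies in an affine basic open inside it -/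
theorem exists_basicOpen_affine (X : Scheme.{u}) [X.IsQuasiAffine] (F : Set X) (hF : F.Finite)
    (W : X.Opens) (hFW : F ⊆ W) :
    ∃ r : Γ(X, ⊤), IsAffineOpen (X.basicOpen r) ∧ F ⊆ X.basicOpen r ∧ X.basicOpen r ≤ W := by
  classical
  rcases F.eq_empty_or_nonempty with hFe | ⟨x₀, hx₀⟩
  · refine ⟨0, ?_, ?_, ?_⟩
    · rw [Scheme.basicOpen_zero]; exact isAffineOpen_bot X
    · rw [hFe]; exact Set.empty_subset _
    · rw [Scheme.basicOpen_zero]; exact bot_le
  let W' : Set (PrimeSpectrum Γ(X, ⊤)) :=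
    (fun x : X => (X.toSpecΓ.base x : PrimeSpectrum Γ(X, ⊤))) '' (W : Set X)
  have hW'o : IsOpen W' := X.toSpecΓ.isOpenEmbedding.isOpenMap _ W.2
  let I : Ideal Γ(X, ⊤) := PrimeSpectrum.vanishingIdeal W'ᶜ
  have hzero : PrimeSpectrum.zeroLocus (I : Set Γ(X, ⊤)) = W'ᶜ := by
    rw [PrimeSpectrum.zeroLocus_vanishingIdeal_eq_closure]
    exact hW'o.isClosed_compl.closure_eq
  have hnot : ¬ ((I : Set Γ(X, ⊤)) ⊆
      ⋃ x ∈ (hF.toFinset : Set X), ((X.toSpecΓ.base x : PrimeSpectrum Γ(X, ⊤)).asIdeal :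
        Set Γ(X, ⊤))) := by
    intro hsub
    have h1 := (Ideal.subset_union_prime (s := hF.toFinset)
      (f := fun x : X => (X.toSpecΓ.base x : PrimeSpectrum Γ(X, ⊤)).asIdeal)
      x₀ x₀
      (fun x _ _ _ => (X.toSpecΓ.base x : PrimeSpectrum Γ(X, ⊤)).isPrime)).1 hsub
    obtain ⟨x, hxF, hle⟩ := h1
    have hxF' : x ∈ F := hF.mem_toFinset.1 hxF
    have hmem : (X.toSpecΓ.base x : PrimeSpectrum Γ(X, ⊤)) ∈
        PrimeSpectrum.zeroLocus (I : Set Γ(X, ⊤)) := hle
    rw [hzero] at hmem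
    exact hmem ⟨x, hFW hxF', rfl⟩
  obtain ⟨r, hrI, hr⟩ := Set.not_subset.1 hnot
  have hD : (PrimeSpectrum.basicOpen r : Set (PrimeSpectrum Γ(X, ⊤))) ⊆ W' := by
    intro p hp
    by_contra hcon
    have : p ∈ PrimeSpectrum.zeroLocus (I : Set Γ(X, ⊤)) := by rw [hzero]; exact hcon
    exact hp (this hrI)
  refine ⟨r, ?_, ?_, ?_⟩
  · rw [← X.toSpecΓ_preimage_basicOpen r]
    apply (IsAffineOpen.Spec_basicOpen r).preimage_of_isOpenImmersion X.toSpecΓ
    intro p hp
    obtain ⟨x, -, hx⟩ := hD hp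
    exact ⟨x, hx⟩
  · intro x hxF
    rw [← X.toSpecΓ_preimage_basicOpen r]
    change X.toSpecΓ.base x ∈ PrimeSpectrum.basicOpen r
    intro hcon
    apply hr
    simp only [Set.mem_iUnion]
    exact ⟨x, hF.mem_toFinset.2 hxF, hcon⟩
  · rw [← X.toSpecΓ_preimage_basicOpen r]
    intro x hx
    obtain ⟨x', hx'W, hx'⟩ := hD hx
    have : x' = x := X.toSpecΓ.isOpenEmbedding.injective hx'
    rw [← this]
    exact hx'W

/-- **quasi-affineness descends along a finite morphism with a norm** -/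
theorem isQuasiAffine_of_hasNorm (π : X ⟶ Y) [IsFinite π] (d : ℕ) (hN : Nrm.HasNorm π d)
    (hX : X.IsQuasiAffine) : Y.IsQuasiAffine := by
  obtain ⟨N⟩ := hN
  haveI := hX
  have hsurj := surjective N
  haveI : CompactSpace Y := by
    constructor
    rw [← Set.range_eq_univ.2 hsurj]
    exact isCompact_range π.continuous
  refine Scheme.IsQuasiAffine.of_forall_exists_mem_basicOpen Y fun y => ?_
  obtain ⟨_, ⟨V, hV, rfl⟩, hyV, -⟩ :=
    Y.isBasis_affineOpens.exists_subset_of_mem_open (Set.mem_univ y) isOpen_univ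
  obtain ⟨r, hraff, hFr, hrW⟩ := exists_basicOpen_affine X (π.base ⁻¹' {y})
    (π.finite_preimage_singleton y) (π ⁻¹ᵁ V) (by
      intro x hx
      change π.base x ∈ V
      rw [show π.base x = y from hx]
      exact hyV)
  let r' : Γ(X, π ⁻¹ᵁ (⊤ : Y.Opens)) := r
  refine ⟨N.norm ⊤ r', ?_, ?_⟩
  · have hle : Y.basicOpen (N.norm ⊤ r') ≤ V := by
      intro y' hy'
      obtain ⟨x, rfl⟩ := hsurj y'
      have hx : x ∈ X.basicOpen r' := preimage_basicOpen_norm_le N ⊤ r' hy'
      exact hrW hx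
    have h1 : Y.basicOpen ((Y.presheaf.map (homOfLE le_top : V ⟶ ⊤).op).hom (N.norm ⊤ r')) =
        Y.basicOpen (N.norm ⊤ r') := by
      rw [Scheme.basicOpen_res]
      exact inf_eq_right.2 hle
    rw [← h1]
    exact hV.basicOpen _
  · exact mem_basicOpen_norm N ⊤ r' y trivial (fun x hx => hFr hx)

end Groth.Agent.Lead.NormQA
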