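import Mathlib
import Groth.Prelude.Def_Fitting
import Groth.Prelude.Def_Mor2
import Groth.Prelude.Def_Pi1
import Groth.Agent.Lib.Lead.NormFLF2
import Groth.Agent.Lib.Lead.NormGlue
import Groth.Agent.Lib.Lead.NormNormal2
import Groth.Agent.Lib.Lead.NormQA
import Groth.Agent.Lib.Helper1.Dv19

set_option autoImplicit false
set_option backward.isDefEq.respectTransparency.types false
set_option synthInstance.maxHeartbeats 400000
set_option linter.style.haveILetI false
set_option linter.unusedSectionVars false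
universe u
open CategoryTheory CategoryTheory.Limits AlgebraicGeometry TopologicalSpace Opposite

namespace Groth.Agent.Lead.NormFLF

variable {X Y : Scheme.{u}} (π : X ⟶ Y) [IsFinite π] [Flat π] [LocallyOfFinitePresentation π]

/-- the rank of the sections over a good open of constant rank -/
theorem finrank_good' {W : Y.Opens} (hW : IsGood π W) (d : ℕ) (hd : ∀ y ∈ W, π.finrank y = d)
    [Nontrivial Γ(Y, W)] :
    (letI := alg π W; Module.finrank Γ(Y, W) Γ(X, π ⁻¹ᵁ W)) = d := by
  obtain ⟨hWa, hfree, hfin⟩ := hW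
  letI := alg π W
  obtain ⟨p⟩ : Nonempty (PrimeSpectrum Γ(Y, W)) := inferInstance
  have h1 := Scheme.Hom.finrank_of_isPullback _ _ _ _ (isPullback_fromSpec π hWa) p
  have hmem : hWa.fromSpec p ∈ W := by
    have : hWa.fromSpec p ∈ Set.range hWa.fromSpec := Set.mem_range_self p
    rw [hWa.range_fromSpec] at this
    exact this
  rw [hd _ hmem] at h1
  haveI : Module.Flat Γ(Y, W) Γ(X, π ⁻¹ᵁ W) := inferInstance
  have h2 := Scheme.Hom.finrank_SpecMap_algebraMap Γ(Y, W) Γ(X, π ⁻¹ᵁ W) p
  rw [Module.rankAtStalk_eq_finrank_of_free] at h2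
  exact h2.symm.trans h1

theorem normV_app' {W : Y.Opens} (hW : IsGood π W) (d : ℕ) (hd : ∀ y ∈ W, π.finrank y = d)
    (g : Γ(Y, W)) : normV π W ((π.app W).hom g) = g ^ d := by
  rcases subsingleton_or_nontrivial Γ(Y, W) with hs | hn
  · exact Subsingleton.elim _ _
  · have hr := finrank_good' π hW d hd
    obtain ⟨hWa, hfree, hfin⟩ := hW
    letI := alg π W
    let bs := Module.Free.chooseBasis Γ(Y, W) Γ(X, π ⁻¹ᵁ W)
    have h1 : Algebra.norm Γ(Y, W) (algebraMap Γ(Y, W) Γ(X, π ⁻¹ᵁ W) g) = g ^ _ :=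
      Algebra.norm_algebraMap_of_basis bs g
    rw [← Module.finrank_eq_card_basis bs, hr] at h1
    exact h1

/-- the rank attached to an open -/
noncomputable def rk (W : Y.Opens) : ℕ := by
  classical
  exact if h : ∃ y, y ∈ W then π.finrank h.choose else 1

theorem rk_eq {W : Y.Opens} (d : ℕ) (hd : ∀ y ∈ W, π.finrank y = d) (y : Y) (hy : y ∈ W) :
    rk π W = d := by
  unfold rk
  rw [dif_pos ⟨y, hy⟩]
  exact hd _ (Exists.choose_spec (⟨y, hy⟩ : ∃ y, y ∈ W))

/-- the local norm data in the case of several ranks -/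
noncomputable def localNormMulti (D : ℕ) (hD : ∀ y, π.finrank y ∣ D) (hD1 : 1 ≤ D) :
    Groth.Agent.Lead.NormGlue.LocalNorm π D where
  G := fun W => IsGood π W ∧ ∀ y ∈ W, π.finrank y = rk π W
  nV := fun W => (powMonoidHom (D / rk π W)).comp (normV π W)
  exists_good := by
    intro U y hy
    have hlc : IsLocallyConstant (Scheme.Hom.finrank π) := Scheme.Hom.isLocallyConstant_finrank π
    let U' : Y.Opens := U ⊓ ⟨Scheme.Hom.finrank π ⁻¹' {π.finrank y}, hlc.isOpen_fiber _⟩
    have hyU' : y ∈ U' := ⟨hy, rfl⟩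
    obtain ⟨W, hW, hyW, hWU'⟩ := exists_good π U' y hyU'
    have hconst : ∀ z ∈ W, π.finrank z = π.finrank y := fun z hz => (hWU' hz).2
    have hrk : rk π W = π.finrank y := rk_eq π _ hconst y hyW
    exact ⟨W, ⟨hW, fun z hz => (hconst z hz).trans hrk.symm⟩, hyW, hWU'.trans inf_le_left⟩
  res := by
    intro V W hV hW h b
    rcases (W : Set Y).eq_empty_or_nonempty with he | ⟨z, hz⟩
    · have : W = ⊥ := Opens.ext he
      subst this
      exact Subsingleton.elim _ _
    · have e : rk π V = rk π W := (hV.2 z (h hz)).symm.trans (hW.2 z hz)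
      change resY h ((normV π V b) ^ (D / rk π V)) = (normV π W (resX π h b)) ^ (D / rk π W)
      rw [map_pow, normV_res π hV.1 hW.1, e]
  app := by
    intro W hW g
    change (normV π W ((π.app W).hom g)) ^ (D / rk π W) = g ^ D
    rcases (W : Set Y).eq_empty_or_nonempty with he | ⟨z, hz⟩
    · have : W = ⊥ := Opens.ext he
      subst this
      exact Subsingleton.elim _ _
    · rw [normV_app' π hW.1 (rk π W) hW.2, ← pow_mul]
      have hdvd : rk π W ∣ D := by
        rw [← hW.2 z hz]
        exact hD z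
      rw [Nat.mul_div_cancel' hdvd]
  mem := by
    intro W hW s x hx h
    change Y.presheaf.germ W (π.base x) hx ((normV π W s) ^ (D / rk π W)) ∈ _
    have h1 := normV_mem π hW.1 s x hx h
    have hdvd : rk π W ∣ D := by
      rw [← hW.2 _ hx]
      exact hD _
    have hpos : 0 < D / rk π W :=
      Nat.div_pos (Nat.le_of_dvd hD1 hdvd) (Nat.pos_of_dvd_of_pos hdvd hD1)
    obtain ⟨k, hk⟩ := Nat.exists_eq_succ_of_ne_zero hpos.ne'
    rw [hk, pow_succ, map_mul]
    exact Ideal.mul_mem_left _ _ h1

end Groth.Agent.Lead.NormFLF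

namespace Groth.Agent.Lead.NormFLF

/-- quasi-affineness descends along finite surjective morphisms which are finite locally free,
or whose target is integral and normal -/
theorem quasiAffine_descends {X Y : Scheme.{u}} (π : X ⟶ Y) [IsFinite π] [Surjective π]
    (hX : X.IsQuasiAffine) (h : Mor2.IsFinLocFree π ∨ (IsIntegral Y ∧ Pi1.IsNormalScheme Y)) :
    Y.IsQuasiAffine := by
  rcases h with ⟨h1, h2, h3⟩ | ⟨hYi, hYn⟩
  · haveI := h2
    haveI := h3
    haveI : CompactSpace X := hX.toCompactSpace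
    haveI : CompactSpace Y := ⟨by
      rw [← π.surjective.range_eq]
      exact isCompact_range π.continuous⟩
    have hlc := Scheme.Hom.isLocallyConstant_finrank π
    have hfin : (Set.range π.finrank).Finite := hlc.range_finite
    let D := ∏ d ∈ hfin.toFinset, d
    have hD : ∀ y, π.finrank y ∣ D :=
      fun y => Finset.dvd_prod_of_mem _ (hfin.mem_toFinset.2 ⟨y, rfl⟩)
    have hpos : ∀ y, 1 ≤ π.finrank y :=
      (Scheme.Hom.one_le_finrank_iff_surjective π).2 inferInstance
    have hD1 : 1 ≤ D := Finset.prod_pos (f := fun d : ℕ => d) (fun d hd => by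
      obtain ⟨y, rfl⟩ := hfin.mem_toFinset.1 hd
      exact hpos y)
    exact Groth.Agent.Lead.NormQA.isQuasiAffine_of_hasNorm π D
      (Groth.Agent.Lead.NormGlue.hasNorm hD1 (localNormMulti π D hD hD1)) hX
  · haveI := hYi
    haveI := hX
    obtain ⟨x, hx⟩ := π.surjective (genericPoint Y)
    obtain ⟨X', i, hi, hX'int, hrange, -⟩ := Groth.Agent.Helper1.Dv.exists_integral_subscheme
      (closure {x}) isClosed_closure isIrreducible_singleton.closure x rfl
    haveI := hi
    haveI := hX'int
    haveI : IsFinite (i ≫ π) := inferInstance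
    haveI : Surjective (i ≫ π) := by
      refine ⟨fun y => ?_⟩
      have hcl : IsClosed (π.base '' (closure {x})) := π.isClosedMap _ isClosed_closure
      have hmem : genericPoint Y ∈ π.base '' (closure {x}) := ⟨x, subset_closure rfl, hx⟩
      have hy : y ∈ π.base '' (closure {x}) :=
        (genericPoint_specializes y).mem_closed hcl hmem
      obtain ⟨z, hz, rfl⟩ := hy
      rw [← hrange] at hz
      obtain ⟨w, rfl⟩ := hz
      exact ⟨w, rfl⟩
    haveI : X'.IsQuasiAffine := Scheme.IsQuasiAffine.of_isAffineHom i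
    obtain ⟨d, hN⟩ := Groth.Agent.Lead.NormNormal.main (i ≫ π) hYn
    exact Groth.Agent.Lead.NormQA.isQuasiAffine_of_hasNorm (i ≫ π) d hN inferInstance

end Groth.Agent.Lead.NormFLF
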