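import Mathlib
import Groth.Prelude.Def_Fitting
import Groth.Agent.Lib.Lead.NormGlue

set_option autoImplicit false
set_option backward.isDefEq.respectTransparency.types false
set_option synthInstance.maxHeartbeats 400000
set_option linter.style.haveILetI false
set_option linter.unusedSectionVars false
universe u
open CategoryTheory CategoryTheory.Limits AlgebraicGeometry TopologicalSpace Opposite

namespace Groth.Agent.Lead.NormFrob

open Groth.Agent.Lead.NormFLF

/-- in characteristic `p`, high `p`-powers do not see nilpotents -/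
theorem pow_eq_of_sub_nilpotent {A : Type*} [CommRing A] (p : ℕ) (hp : p.Prime)
    (hpA : (p : A) = 0) (e n : ℕ) (hn : n ≤ p ^ e) (a a' : A) (h : (a - a') ^ n = 0) :
    a ^ p ^ e = a' ^ p ^ e := by
  obtain ⟨r, hr⟩ := exists_add_pow_prime_pow_eq hp a' (a - a') e
  have h1 : a' + (a - a') = a := by ring
  rw [h1] at hr
  have h2 : (a - a') ^ (p ^ e) = 0 := by
    rw [← Nat.sub_add_cancel hn, pow_add, h, mul_zero]
  rw [hr, hpA, h2, zero_mul, zero_mul, zero_mul, add_zero, add_zero]

/-- nilpotents in a localization of a ring whose nilradical has vanishing `n`-th power -/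
theorem pow_eq_zero_of_isLocalization {A B : Type*} [CommRing A] [CommRing B] [Algebra A B]
    (M : Submonoid A) [IsLocalization M B] (n : ℕ) (hn : nilradical A ^ n = ⊥) (b : B)
    (hb : IsNilpotent b) : b ^ n = 0 := by
  have h1 : nilradical B = (nilradical A).map (algebraMap A B) := by
    have := IsLocalization.map_radical M B (⊥ : Ideal A)
    rw [Ideal.map_bot] at this
    exact this.symm
  have h2 : b ∈ nilradical B := mem_nilradical.2 hb
  have h3 : b ^ n ∈ nilradical B ^ n := Ideal.pow_mem_pow h2 n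
  rw [h1, ← Ideal.map_pow, hn, Ideal.map_bot] at h3
  exact h3

/-- on a Noetherian scheme the nilpotent sections have uniformly bounded order -/
theorem exists_uniform_nilpotency (X : Scheme.{u}) [IsNoetherian X] :
    ∃ n : ℕ, ∀ (U : X.Opens) (ε : Γ(X, U)), IsNilpotent ε → ε ^ n = 0 := by
  classical
  have hloc : ∀ x : X, ∃ V : X.Opens, IsAffineOpen V ∧ x ∈ V := by
    intro x
    obtain ⟨V, hV, hxV, -⟩ := Opens.isBasis_iff_nbhd.1 X.isBasis_affineOpens
      (show x ∈ (⊤ : X.Opens) from trivial)
    exact ⟨V, hV, hxV⟩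
  choose V hV hxV using hloc
  have hn : ∀ x : X, ∃ n : ℕ, nilradical Γ(X, V x) ^ n = ⊥ := by
    intro x
    haveI : IsNoetherianRing Γ(X, V x) :=
      IsLocallyNoetherian.component_noetherian ⟨V x, hV x⟩
    exact IsNoetherianRing.isNilpotent_nilradical Γ(X, V x)
  choose n hn using hn
  obtain ⟨t, ht⟩ := CompactSpace.elim_nhds_subcover (fun x => (V x : Set X))
    (fun x => (V x).2.mem_nhds (hxV x))
  refine ⟨t.sup n, fun U ε hε => ?_⟩
  apply eq_of_locally
  intro y hy
  have hy' : y ∈ ⋃ x ∈ t, (V x : Set X) := by rw [ht]; trivial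
  obtain ⟨x, hxt, hyx⟩ := Set.mem_iUnion₂.1 hy'
  obtain ⟨f, hfU, hyf⟩ := (hV x).exists_basicOpen_le (V := U) ⟨y, hy⟩ hyx
  refine ⟨X.basicOpen f, hfU, hyf, ?_⟩
  rw [map_pow, map_zero]
  haveI := (hV x).isLocalization_basicOpen f
  have hnil : IsNilpotent (resY hfU ε) := hε.map _
  have h1 := pow_eq_zero_of_isLocalization (A := Γ(X, V x)) (B := Γ(X, X.basicOpen f))
    (Submonoid.powers f) (n x) (hn x) _ hnil
  have hle : n x ≤ t.sup n := Finset.le_sup hxt
  rw [← Nat.sub_add_cancel hle, pow_add, h1, mul_zero]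

section Main

variable (X : Scheme.{u}) (p : ℕ) (hp : p.Prime) (hpX : (p : Γ(X, ⊤)) = 0)
  (n e : ℕ) (hn : ∀ (U : X.Opens) (ε : Γ(X, U)), IsNilpotent ε → ε ^ n = 0) (hne : n ≤ p ^ e)

/-- the reduction morphism -/
noncomputable abbrev red : X.nilradical.subscheme ⟶ X := X.nilradical.subschemeι

include hpX in
theorem natCast_eq_zero (U : X.Opens) : (p : Γ(X, U)) = 0 := by
  have h := congrArg (X.presheaf.map (homOfLE (le_top : U ≤ ⊤)).op).hom hpX
  rw [map_natCast, map_zero] at h
  exact h

theorem isNilpotent_of_app_eq {W : X.Opens} (hW : IsAffineOpen W) (a a' : Γ(X, W))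
    (h : ((red X).app W).hom a = ((red X).app W).hom a') : IsNilpotent (a - a') := by
  have h1 : a - a' ∈ RingHom.ker ((red X).app W).hom := by
    rw [RingHom.mem_ker, map_sub, h, sub_self]
  have h2 := X.nilradical.ker_subschemeι_app ⟨W, hW⟩
  rw [h2] at h1
  have h3 : X.nilradical.ideal ⟨W, hW⟩ = nilradical Γ(X, W) := by
    change ((⊥ : X.IdealSheafData).ideal ⟨W, hW⟩).radical = _
    rw [Scheme.IdealSheafData.ideal_bot]
    rfl
  rw [h3] at h1
  exact mem_nilradical.1 h1

include hp hpX hn hne in
theorem pow_eq_of_app_eq {W : X.Opens} (hW : IsAffineOpen W) (a a' : Γ(X, W))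
    (h : ((red X).app W).hom a = ((red X).app W).hom a') : a ^ p ^ e = a' ^ p ^ e :=
  pow_eq_of_sub_nilpotent p hp (natCast_eq_zero X p hpX W) e n hne a a'
    (hn W _ (isNilpotent_of_app_eq X hW a a' h))

theorem exists_lift {W : X.Opens} (hW : IsAffineOpen W) (s : Γ(X.nilradical.subscheme, red X ⁻¹ᵁ W)) :
    ∃ a : Γ(X, W), ((red X).app W).hom a = s :=
  X.nilradical.subschemeι_app_surjective ⟨W, hW⟩ s

/-- the local norms: the `p^e`-th power of a lift -/
noncomputable def nV (W : X.Opens) : Γ(X.nilradical.subscheme, red X ⁻¹ᵁ W) →* Γ(X, W) := by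
  classical
  exact
  if h : IsAffineOpen W then
    { toFun := fun s => (exists_lift X h s).choose ^ p ^ e
      map_one' := by
        have h1 := (exists_lift X h 1).choose_spec
        rw [pow_eq_of_app_eq X p hp hpX n e hn hne h _ 1 (h1.trans (map_one _).symm), one_pow]
      map_mul' := fun s s' => by
        have h1 := (exists_lift X h (s * s')).choose_spec
        have h2 := (exists_lift X h s).choose_spec
        have h3 := (exists_lift X h s').choose_spec
        rw [← mul_pow]
        apply pow_eq_of_app_eq X p hp hpX n e hn hne h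
        rw [h1, map_mul, h2, h3] }
  else 1

theorem nV_eq {W : X.Opens} (hW : IsAffineOpen W) (a : Γ(X, W)) :
    nV X p hp hpX n e hn hne W (((red X).app W).hom a) = a ^ p ^ e := by
  unfold nV
  rw [dif_pos hW]
  exact pow_eq_of_app_eq X p hp hpX n e hn hne hW _ a
    (exists_lift X hW (((red X).app W).hom a)).choose_spec

include hp in
theorem pow_pos' : 1 ≤ p ^ e := Nat.one_le_two_pow.trans (Nat.pow_le_pow_left hp.two_le e)

/-- the local norm data -/
noncomputable def localNorm : Groth.Agent.Lead.NormGlue.LocalNorm (red X) (p ^ e) where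
  G := IsAffineOpen
  nV := nV X p hp hpX n e hn hne
  exists_good := by
    intro U y hy
    obtain ⟨V, hV, hyV, hVU⟩ := Opens.isBasis_iff_nbhd.1 X.isBasis_affineOpens hy
    exact ⟨V, hV, hyV, hVU⟩
  res := by
    intro V W hV hW h b
    obtain ⟨a, rfl⟩ := exists_lift X hV b
    have hnat : resX (red X) h (((red X).app V).hom a) = ((red X).app W).hom (resY h a) := by
      have := (red X).naturality (homOfLE h).op
      exact (ConcreteCategory.congr_hom this a).symm
    rw [hnat, nV_eq X p hp hpX n e hn hne hV, nV_eq X p hp hpX n e hn hne hW, map_pow]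
  app := by
    intro W hW g
    exact nV_eq X p hp hpX n e hn hne hW g
  mem := by
    intro W hW s x hx h
    obtain ⟨a, rfl⟩ := exists_lift X hW s
    rw [nV_eq X p hp hpX n e hn hne hW, map_pow]
    have h1 : x ∉ X.nilradical.subscheme.basicOpen (((red X).app W).hom a) := by
      intro hc
      rw [X.nilradical.subscheme.mem_basicOpen _ x hx] at hc
      exact (IsLocalRing.mem_maximalIdeal _).1 h hc
    have h2 : (red X).base x ∉ X.basicOpen a := by
      intro hc
      apply h1
      rw [← Scheme.preimage_basicOpen]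
      exact hc
    have h3 : X.presheaf.germ W ((red X).base x) hx a ∈
        IsLocalRing.maximalIdeal (X.presheaf.stalk ((red X).base x)) := by
      rw [IsLocalRing.mem_maximalIdeal]
      intro hu
      exact h2 ((X.mem_basicOpen _ _ hx).2 hu)
    obtain ⟨k, hk⟩ := Nat.exists_eq_succ_of_ne_zero
      (Nat.one_le_iff_ne_zero.1 (pow_pos' p hp e))
    rw [hk, pow_succ]
    exact Ideal.mul_mem_left _ _ h3

end Main

/-- in characteristic `p` the reduction of a Noetherian scheme has a norm of degree a power of `p` -/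
theorem main (X : Scheme.{u}) [IsNoetherian X] (p : ℕ) (hp : p.Prime)
    (hpX : (p : Γ(X, ⊤)) = 0) :
    ∃ e : ℕ, 0 < e ∧ Nrm.HasNorm X.nilradical.subschemeι (p ^ e) := by
  obtain ⟨n, hn⟩ := exists_uniform_nilpotency X
  have hne : n ≤ p ^ (n + 1) :=
    (Nat.lt_pow_self hp.one_lt).le.trans (Nat.pow_le_pow_right hp.pos (Nat.le_succ n))
  exact ⟨n + 1, Nat.succ_pos n, Groth.Agent.Lead.NormGlue.hasNorm (pow_pos' p hp (n + 1))
    (localNorm X p hp hpX n (n + 1) hn hne)⟩

end Groth.Agent.Lead.NormFrob
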