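import Groth.Prelude.Def_Models
import Mathlib

/-! Helper lemmas on numerical types (lead). -/

set_option autoImplicit false
open Finset

namespace Groth.Agent.Lead.NumType

open Models

variable {n : ℕ} (T : Models.NumericalType n)

theorem row_eq (i : Fin n) : ∑ j, T.a i j * T.m j = 0 := by
  have := congrFun T.mulVec_m i
  simpa [Matrix.mulVec, dotProduct] using this

theorem diag_eq (i : Fin n) :
    T.a i i * T.m i = - ∑ j ∈ univ.erase i, T.a i j * T.m j := by
  have h := row_eq T i
  rw [← Finset.add_sum_erase univ _ (Finset.mem_univ i)] at h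
  linarith

theorem offsum_nonneg (i : Fin n) : 0 ≤ ∑ j ∈ univ.erase i, T.a i j * T.m j := by
  refine Finset.sum_nonneg fun j hj => ?_
  have hji : j ≠ i := (Finset.mem_erase.mp hj).1
  exact mul_nonneg (T.offDiag_nonneg i j hji.symm) (T.m_pos j).le

theorem diag_nonpos (i : Fin n) : T.a i i ≤ 0 := by
  have h1 := diag_eq T i
  have h2 := offsum_nonneg T i
  have h3 := T.m_pos i
  by_contra hcon
  have hcon := not_le.mp hcon
  have : 0 < T.a i i * T.m i := mul_pos hcon h3
  linarith

theorem exists_nbr (hn : 1 < n) (i : Fin n) : ∃ j, j ≠ i ∧ 0 < T.a i j := by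
  have hne : ({i} : Finset (Fin n)) ≠ univ := by
    intro h
    have := congrArg Finset.card h
    rw [Finset.card_singleton, Finset.card_univ, Fintype.card_fin] at this
    omega
  obtain ⟨i', hi', j, hj, hij⟩ := T.connected {i} (Finset.singleton_nonempty i) hne
  rw [Finset.mem_singleton] at hi'
  subst hi'
  rw [Finset.mem_singleton] at hj
  refine ⟨j, hj, lt_of_le_of_ne (T.offDiag_nonneg i' j (Ne.symm hj)) (Ne.symm hij)⟩

theorem diag_neg (hn : 1 < n) (i : Fin n) : T.a i i < 0 := by
  obtain ⟨j, hji, hpos⟩ := exists_nbr T hn i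
  have h1 := diag_eq T i
  have h3 := T.m_pos i
  have h2 : 0 < ∑ j ∈ univ.erase i, T.a i j * T.m j := by
    refine Finset.sum_pos' (fun k hk => ?_) ⟨j, Finset.mem_erase.mpr ⟨hji, Finset.mem_univ j⟩,
      mul_pos hpos (T.m_pos j)⟩
    have hki : k ≠ i := (Finset.mem_erase.mp hk).1
    exact mul_nonneg (T.offDiag_nonneg i k hki.symm) (T.m_pos k).le
  by_contra hcon
  have hcon := not_lt.mp hcon
  have : 0 ≤ T.a i i * T.m i := mul_nonneg hcon h3.le
  linarith

/-- off-diagonal term bounded by the diagonal: `a j i * m i ≤ - a j j * m j` for `i ≠ j`. -/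
theorem off_le_diag (i j : Fin n) (hij : i ≠ j) :
    T.a j i * T.m i ≤ - (T.a j j * T.m j) := by
  have h1 := diag_eq T j
  rw [h1, neg_neg]
  exact Finset.single_le_sum (f := fun k => T.a j k * T.m k)
    (fun k hk => mul_nonneg (T.offDiag_nonneg j k ((Finset.mem_erase.mp hk).1).symm) (T.m_pos k).le)
    (Finset.mem_erase.mpr ⟨hij, Finset.mem_univ i⟩)

theorem sum_symm_offdiag {n : ℕ} (f : Fin n → Fin n → ℤ) (hf : ∀ i j, f i j = f j i) :
    ∑ i, ∑ j, f i j = 2 * (∑ i, ∑ j, if i < j then f i j else 0) + ∑ i, f i i := by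
  have h1 : ∀ i j, f i j = (if i < j then f i j else 0) + (if j < i then f i j else 0) +
      (if i = j then f i j else 0) := by
    intro i j
    rcases lt_trichotomy i j with h | h | h
    · simp [h, h.ne, not_lt_of_gt h]
    · subst h; simp
    · simp [h, h.ne', not_lt_of_gt h]
  have h2 : ∑ i, ∑ j, (if j < i then f i j else 0) = ∑ i, ∑ j, (if i < j then f i j else 0) := by
    rw [Finset.sum_comm]
    refine Finset.sum_congr rfl fun i _ => Finset.sum_congr rfl fun j _ => ?_
    rw [hf j i]
  calc ∑ i, ∑ j, f i j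
      = ∑ i, ∑ j, ((if i < j then f i j else 0) + (if j < i then f i j else 0) +
          (if i = j then f i j else 0)) :=
        Finset.sum_congr rfl fun i _ => Finset.sum_congr rfl fun j _ => h1 i j
    _ = (∑ i, ∑ j, (if i < j then f i j else 0)) + (∑ i, ∑ j, (if j < i then f i j else 0)) +
          ∑ i, ∑ j, (if i = j then f i j else 0) := by
        simp only [Finset.sum_add_distrib]
    _ = 2 * (∑ i, ∑ j, if i < j then f i j else 0) + ∑ i, f i i := by
        rw [h2]
        have : ∀ i : Fin n, ∑ j, (if i = j then f i j else 0) = f i i := by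
          intro i
          rw [Finset.sum_ite_eq]
          simp
        rw [Finset.sum_congr rfl fun i _ => this i]
        ring

end Groth.Agent.Lead.NumType
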