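import Groth.Agent.Lib.Lead.NumType

/-! More helper lemmas on numerical types (lead): genus formulas. -/

set_option autoImplicit false
open Finset

namespace Groth.Agent.Lead.NumType

open Models

variable {n : ℕ} (T : Models.NumericalType n)

theorem two_dvd_sum : (2 : ℤ) ∣ ∑ i, T.m i * T.a i i := by
  have h0 : ∑ i, ∑ j, T.m i * T.a i j * T.m j = 0 := by
    refine Finset.sum_eq_zero fun i _ => ?_
    have : ∑ j, T.m i * T.a i j * T.m j = T.m i * ∑ j, T.a i j * T.m j := by
      rw [Finset.mul_sum]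
      exact Finset.sum_congr rfl fun j _ => by ring
    rw [this, row_eq T i, mul_zero]
  have hs := sum_symm_offdiag (fun i j => T.m i * T.a i j * T.m j) (by
    intro i j
    have := T.symm.apply i j
    show T.m i * T.a i j * T.m j = T.m j * T.a j i * T.m i
    rw [this]; ring)
  rw [h0] at hs
  have hsq : (2 : ℤ) ∣ ∑ i, T.m i * T.a i i * T.m i := by
    refine ⟨-(∑ i, ∑ j, if i < j then T.m i * T.a i j * T.m j else 0), ?_⟩
    have hs' : (0 : ℤ) = 2 * (∑ i, ∑ j, if i < j then T.m i * T.a i j * T.m j else 0) +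
        ∑ i, T.m i * T.a i i * T.m i := hs
    linarith
  have hdiff : (2 : ℤ) ∣ ∑ i, (T.m i * T.a i i * T.m i - T.m i * T.a i i) := by
    refine Finset.dvd_sum fun i _ => ?_
    have h2 : (2 : ℤ) ∣ T.m i * (T.m i - 1) := by
      have := Int.even_mul_pred_self (T.m i)
      exact even_iff_two_dvd.mp this
    have : T.m i * T.a i i * T.m i - T.m i * T.a i i = T.a i i * (T.m i * (T.m i - 1)) := by ring
    rw [this]
    exact Dvd.dvd.mul_left h2 _
  rw [Finset.sum_sub_distrib] at hdiff
  have := (Int.dvd_sub hsq hdiff)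
  simpa using this

theorem two_genus :
    2 * T.genus = 2 + ∑ i, T.m i * (2 * T.w i * (T.g i - 1) - T.a i i) := by
  obtain ⟨c, hc⟩ := two_dvd_sum T
  unfold NumericalType.genus
  rw [hc, Int.mul_ediv_cancel_left _ (by norm_num : (2 : ℤ) ≠ 0)]
  have : ∑ i, T.m i * (2 * T.w i * (T.g i - 1) - T.a i i) =
      2 * (∑ i, T.m i * T.w i * (T.g i - 1)) - ∑ i, T.m i * T.a i i := by
    rw [Finset.mul_sum, ← Finset.sum_sub_distrib]
    exact Finset.sum_congr rfl fun i _ => by ring
  rw [this, hc]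
  ring

/-- `k i = - a i i / w i` as an exact quotient. -/
theorem exists_k (i : Fin n) : ∃ k : ℤ, T.a i i = - (T.w i * k) ∧ 0 ≤ k := by
  obtain ⟨c, hc⟩ := T.w_dvd i i
  refine ⟨-c, by rw [hc]; ring, ?_⟩
  have h1 := diag_nonpos T i
  have h2 := T.w_pos i
  rw [hc] at h1
  by_contra hcon
  have hcon := not_le.mp hcon
  have : 0 < T.w i * c := mul_pos h2 (by linarith)
  linarith

theorem theta_ge (hmin : T.IsMinimal) (hn : 1 < n) (i : Fin n) (k : ℤ)
    (hk : T.a i i = - (T.w i * k)) :
    k - 2 ≤ T.m i * (2 * T.w i * (T.g i - 1) - T.a i i) ∧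
      0 ≤ T.m i * (2 * T.w i * (T.g i - 1) - T.a i i) := by
  have hw := T.w_pos i
  have hm := T.m_pos i
  have hg := T.g_nonneg i
  have hneg := diag_neg T hn i
  have hkpos : 0 < k := by
    rw [hk] at hneg
    by_contra hcon
    have hcon := not_lt.mp hcon
    have : T.w i * k ≤ 0 := mul_nonpos_of_nonneg_of_nonpos hw.le hcon
    linarith
  have hexpr : 2 * T.w i * (T.g i - 1) - T.a i i = T.w i * (2 * T.g i - 2 + k) := by
    rw [hk]; ring
  have hq : 0 ≤ 2 * T.g i - 2 + k := by
    rcases eq_or_lt_of_le hg with h0 | hpos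
    · -- g i = 0; then k ≠ 1 by minimality
      have hk1 : k ≠ 1 := by
        intro h1
        apply hmin i
        refine ⟨h0.symm, ?_⟩
        rw [hk, h1, mul_one]
      omega
    · omega
  have hwq : 2 * T.g i - 2 + k ≤ T.w i * (2 * T.g i - 2 + k) := by nlinarith
  have hmq : T.w i * (2 * T.g i - 2 + k) ≤ T.m i * (T.w i * (2 * T.g i - 2 + k)) := by
    have : 0 ≤ T.w i * (2 * T.g i - 2 + k) := mul_nonneg hw.le hq
    nlinarith
  rw [hexpr]
  constructor
  · linarith
  · exact mul_nonneg hm.le (mul_nonneg hw.le hq)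

theorem genus_ge_one (hmin : T.IsMinimal) (hn : 1 < n) : 1 ≤ T.genus := by
  have h2 := two_genus T
  have hs : 0 ≤ ∑ i, T.m i * (2 * T.w i * (T.g i - 1) - T.a i i) := by
    refine Finset.sum_nonneg fun i _ => ?_
    obtain ⟨k, hk, _⟩ := exists_k T i
    exact (theta_ge T hmin hn i k hk).2
  omega

end Groth.Agent.Lead.NumType
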