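import Groth.Agent.Lib.Lead.NumType2

/-! Numerical types: topological genus bound (lead). -/

set_option autoImplicit false
open Finset

namespace Groth.Agent.Lead.NumType

open Models

theorem sum_offdiag_pair {n : ℕ} (f : Fin n → Fin n → ℚ) :
    ∑ i, ∑ j, f i j = (∑ i, ∑ j, if i < j then f i j + f j i else 0) + ∑ i, f i i := by
  have h1 : ∀ i j, f i j = (if i < j then f i j else 0) + (if j < i then f i j else 0) +
      (if i = j then f i j else 0) := by
    intro i j
    rcases lt_trichotomy i j with h | h | h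
    · simp [h, h.ne, not_lt_of_gt h]
    · subst h; simp
    · simp [h, h.ne', not_lt_of_gt h]
  have h2 : ∑ i, ∑ j, (if j < i then f i j else 0) = ∑ i, ∑ j, (if i < j then f j i else 0) := by
    rw [Finset.sum_comm]
  have h3 : ∀ i : Fin n, ∑ j, (if i = j then f i j else 0) = f i i := by
    intro i
    rw [Finset.sum_ite_eq]
    simp
  calc ∑ i, ∑ j, f i j
      = ∑ i, ∑ j, ((if i < j then f i j else 0) + (if j < i then f i j else 0) +
          (if i = j then f i j else 0)) :=
        Finset.sum_congr rfl fun i _ => Finset.sum_congr rfl fun j _ => h1 i j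
    _ = (∑ i, ∑ j, (if i < j then f i j else 0)) + (∑ i, ∑ j, (if j < i then f i j else 0)) +
          ∑ i, ∑ j, (if i = j then f i j else 0) := by
        simp only [Finset.sum_add_distrib]
    _ = (∑ i, ∑ j, if i < j then f i j + f j i else 0) + ∑ i, f i i := by
        rw [h2, Finset.sum_congr rfl fun i _ => h3 i, ← Finset.sum_add_distrib]
        congr 1
        refine Finset.sum_congr rfl fun i _ => ?_
        rw [← Finset.sum_add_distrib]
        refine Finset.sum_congr rfl fun j _ => ?_
        split_ifs <;> simp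

variable {n : ℕ} (T : Models.NumericalType n)

theorem edgeCount_eq_sum :
    (T.edgeCount : ℚ) = ∑ i, ∑ j, if (i < j ∧ 0 < T.a i j) then (1 : ℚ) else 0 := by
  unfold NumericalType.edgeCount
  rw [Finset.card_filter, Nat.cast_sum, Fintype.sum_prod_type]
  refine Finset.sum_congr rfl fun i _ => Finset.sum_congr rfl fun j _ => ?_
  split_ifs <;> simp

/-- the key inequality `2 e ≤ Σ k_i`. -/
theorem two_edge_le (k : Fin n → ℤ) (hk : ∀ i, T.a i i = - (T.w i * k i)) :
    2 * (T.edgeCount : ℚ) ≤ ∑ i, (k i : ℚ) := by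
  -- f i j = m_j / m_i on edges
  set f : Fin n → Fin n → ℚ := fun i j =>
    if (i ≠ j ∧ 0 < T.a i j) then (T.m j : ℚ) / (T.m i : ℚ) else 0 with hf
  have hmpos : ∀ i, (0 : ℚ) < (T.m i : ℚ) := fun i => by exact_mod_cast T.m_pos i
  have hwpos : ∀ i, (0 : ℚ) < (T.w i : ℚ) := fun i => by exact_mod_cast T.w_pos i
  -- Claim 1
  have h1 : ∀ i, ∑ j, f i j ≤ (k i : ℚ) := by
    intro i
    have hd := diag_eq T i
    rw [hk i] at hd
    have hd' : (T.w i : ℚ) * (k i : ℚ) * (T.m i : ℚ) =
        ∑ j ∈ univ.erase i, (T.a i j : ℚ) * (T.m j : ℚ) := by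
      have : T.w i * k i * T.m i = ∑ j ∈ univ.erase i, T.a i j * T.m j := by linarith
      exact_mod_cast this
    have hle : ∑ j, f i j * ((T.w i : ℚ) * (T.m i : ℚ)) ≤
        ∑ j ∈ univ.erase i, (T.a i j : ℚ) * (T.m j : ℚ) := by
      rw [← Finset.add_sum_erase univ _ (Finset.mem_univ i)]
      have hii : f i i = 0 := by simp [hf]
      rw [hii, zero_mul, zero_add]
      refine Finset.sum_le_sum fun j hj => ?_
      have hji : j ≠ i := (Finset.mem_erase.mp hj).1
      simp only [hf]
      split_ifs with hcond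
      · have hwa : T.w i ≤ T.a i j := Int.le_of_dvd hcond.2 (T.w_dvd i j)
        have hwa' : (T.w i : ℚ) ≤ (T.a i j : ℚ) := by exact_mod_cast hwa
        have : (T.m j : ℚ) / (T.m i : ℚ) * ((T.w i : ℚ) * (T.m i : ℚ)) =
            (T.w i : ℚ) * (T.m j : ℚ) := by
          have hmi := (hmpos i).ne'
          field_simp
        rw [this]
        exact mul_le_mul_of_nonneg_right hwa' (hmpos j).le
      · rw [zero_mul]
        have : (0 : ℚ) ≤ (T.a i j : ℚ) := by exact_mod_cast T.offDiag_nonneg i j hji.symm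
        exact mul_nonneg this (hmpos j).le
    rw [← Finset.sum_mul, ← hd'] at hle
    have hpos : (0 : ℚ) < (T.w i : ℚ) * (T.m i : ℚ) := mul_pos (hwpos i) (hmpos i)
    have : (T.w i : ℚ) * (k i : ℚ) * (T.m i : ℚ) = (k i : ℚ) * ((T.w i : ℚ) * (T.m i : ℚ)) := by
      ring
    rw [this] at hle
    exact le_of_mul_le_mul_right hle hpos
  -- Claim 2
  have h2 : 2 * (T.edgeCount : ℚ) ≤ ∑ i, ∑ j, f i j := by
    rw [sum_offdiag_pair f, edgeCount_eq_sum, Finset.mul_sum]
    have hdiag : ∑ i, f i i = 0 := Finset.sum_eq_zero fun i _ => by simp [hf]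
    rw [hdiag, add_zero]
    refine Finset.sum_le_sum fun i _ => ?_
    rw [Finset.mul_sum]
    refine Finset.sum_le_sum fun j _ => ?_
    by_cases hij : i < j
    · by_cases ha : 0 < T.a i j
      · have ha' : 0 < T.a j i := by rw [T.symm.apply i j]; exact ha
        have hne : i ≠ j := hij.ne
        simp only [hf, hij, ha, ha', hne, hne.symm, and_self, if_true, ne_eq, not_false_eq_true,
          mul_one]
        have hx := hmpos i
        have hy := hmpos j
        rw [div_add_div _ _ hx.ne' hy.ne', le_div_iff₀ (mul_pos hx hy)]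
        nlinarith [sq_nonneg ((T.m i : ℚ) - (T.m j : ℚ))]
      · have ha' : ¬ 0 < T.a j i := by rw [T.symm.apply i j]; exact ha
        simp [hf, hij, ha, ha']
    · simp [hij]
  calc 2 * (T.edgeCount : ℚ) ≤ ∑ i, ∑ j, f i j := h2
    _ ≤ ∑ i, (k i : ℚ) := Finset.sum_le_sum fun i _ => h1 i

theorem topGenus_le_genus (hmin : T.IsMinimal) (hn : 1 < n) : T.topGenus ≤ T.genus := by
  choose k hk _ using exists_k T
  have h2 := two_genus T
  have hs : ∑ i, (k i - 2) ≤ ∑ i, T.m i * (2 * T.w i * (T.g i - 1) - T.a i i) :=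
    Finset.sum_le_sum fun i _ => (theta_ge T hmin hn i (k i) (hk i)).1
  rw [Finset.sum_sub_distrib, Finset.sum_const, Finset.card_univ, Fintype.card_fin] at hs
  have he := two_edge_le T k hk
  have he' : 2 * (T.edgeCount : ℤ) ≤ ∑ i, k i := by
    have : ((2 * (T.edgeCount : ℤ) : ℤ) : ℚ) ≤ ((∑ i, k i : ℤ) : ℚ) := by
      push_cast
      exact he
    exact_mod_cast this
  unfold NumericalType.topGenus
  simp only [nsmul_eq_mul] at hs
  linarith

end Groth.Agent.Lead.NumType
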