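import Groth.Agent.Lib.Lead.NumType3

/-! Numerical types: the kernel of the intersection matrix and the rank of Pic (lead). -/

set_option autoImplicit false
open Finset

namespace Groth.Agent.Lead.NumType

open Models

variable {n : ℕ} (T : Models.NumericalType n)

/-- A nonnegative vector in the kernel of `a` with a zero entry is zero. -/
theorem ker_nonneg_zero (z : Fin n → ℤ) (hz : T.a.mulVec z = 0) (hnn : ∀ i, 0 ≤ z i)
    (i₀ : Fin n) (h0 : z i₀ = 0) : ∀ i, z i = 0 := by
  classical
  set I : Finset (Fin n) := univ.filter fun i => z i = 0 with hI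
  have hi₀ : i₀ ∈ I := by simp [hI, h0]
  by_contra hcon
  have hne : I ≠ univ := by
    intro h
    apply hcon
    intro i
    have : i ∈ I := by rw [h]; exact Finset.mem_univ i
    simpa [hI] using this
  obtain ⟨i, hi, j, hj, hij⟩ := T.connected I ⟨i₀, hi₀⟩ hne
  have hzi : z i = 0 := by simpa [hI] using hi
  have hzj : z j ≠ 0 := by simpa [hI] using hj
  have hji : j ≠ i := by
    rintro rfl
    exact hj hi
  have hrow : ∑ k, T.a i k * z k = 0 := by
    have := congrFun hz i
    simpa [Matrix.mulVec, dotProduct] using this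
  have hterm : ∀ k ∈ (univ : Finset (Fin n)), 0 ≤ T.a i k * z k := by
    intro k _
    by_cases hk : k = i
    · subst hk
      rw [hzi, mul_zero]
    · exact mul_nonneg (T.offDiag_nonneg i k (Ne.symm hk)) (hnn k)
  have := (Finset.sum_eq_zero_iff_of_nonneg hterm).mp hrow j (Finset.mem_univ j)
  rcases mul_eq_zero.mp this with h | h
  · exact hij h
  · exact hzj h

/-- Elements of the kernel of `a` are proportional to `m`. -/
theorem ker_prop (y : Fin n → ℤ) (hy : T.a.mulVec y = 0) (i j : Fin n) :
    y i * T.m j = y j * T.m i := by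
  classical
  have hne : (univ : Finset (Fin n)).Nonempty := ⟨⟨0, T.pos⟩, Finset.mem_univ _⟩
  obtain ⟨i₀, -, hmin⟩ := Finset.exists_min_image univ (fun i => (y i : ℚ) / (T.m i : ℚ)) hne
  have hmpos : ∀ i, (0 : ℚ) < (T.m i : ℚ) := fun i => by exact_mod_cast T.m_pos i
  have hmin' : ∀ i, y i₀ * T.m i ≤ y i * T.m i₀ := by
    intro i
    have := hmin i (Finset.mem_univ i)
    rw [div_le_div_iff₀ (hmpos i₀) (hmpos i)] at this
    exact_mod_cast this
  set z : Fin n → ℤ := fun i => T.m i₀ * y i - y i₀ * T.m i with hzdef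
  have hz : T.a.mulVec z = 0 := by
    have : z = T.m i₀ • y - y i₀ • T.m := by
      funext i
      simp [hzdef]
    rw [this, Matrix.mulVec_sub, Matrix.mulVec_smul, Matrix.mulVec_smul, hy, T.mulVec_m]
    simp
  have hnn : ∀ i, 0 ≤ z i := by
    intro i
    have := hmin' i
    simp only [hzdef]
    linarith
  have h0 : z i₀ = 0 := by simp only [hzdef]; ring
  have hall := ker_nonneg_zero T z hz hnn i₀ h0
  have hi := hall i
  have hj := hall j
  simp only [hzdef] at hi hj
  have hm0 := T.m_pos i₀
  have : T.m i₀ * (y i * T.m j) = T.m i₀ * (y j * T.m i) := by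
    have e1 : T.m i₀ * y i = y i₀ * T.m i := by linarith
    have e2 : T.m i₀ * y j = y i₀ * T.m j := by linarith
    calc T.m i₀ * (y i * T.m j) = (T.m i₀ * y i) * T.m j := by ring
      _ = (y i₀ * T.m i) * T.m j := by rw [e1]
      _ = (y i₀ * T.m j) * T.m i := by ring
      _ = (T.m i₀ * y j) * T.m i := by rw [e2]
      _ = T.m i₀ * (y j * T.m i) := by ring
  exact mul_left_cancel₀ hm0.ne' this

theorem picMatrix_mulVec_eq_zero_iff (y : Fin n → ℤ) :
    T.picMatrix.mulVec y = 0 ↔ T.a.mulVec y = 0 := by
  have hkey : ∀ i, T.w i * (T.picMatrix.mulVec y) i = (T.a.mulVec y) i := by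
    intro i
    simp only [Matrix.mulVec, dotProduct, Finset.mul_sum]
    refine Finset.sum_congr rfl fun j _ => ?_
    unfold Models.NumericalType.picMatrix
    rw [← mul_assoc, Int.mul_ediv_cancel' (T.w_dvd i j)]
  constructor
  · intro h
    funext i
    rw [← hkey i, h]
    simp
  · intro h
    funext i
    have := hkey i
    rw [h] at this
    have hw := T.w_pos i
    rcases mul_eq_zero.mp this with h1 | h1
    · omega
    · exact h1

theorem finrank_ker_picMatrix :
    Module.finrank ℤ (LinearMap.ker (Matrix.mulVecLin T.picMatrix)) = 1 := by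
  set K := LinearMap.ker (Matrix.mulVecLin T.picMatrix) with hK
  have i0 : Fin n := ⟨0, T.pos⟩
  -- evaluation at i0 is injective on K
  let ev : K →ₗ[ℤ] ℤ := (LinearMap.proj i0).comp K.subtype
  have hev : Function.Injective ev := by
    rw [← LinearMap.ker_eq_bot, Submodule.eq_bot_iff]
    rintro ⟨y, hyK⟩ hy0
    have hy : T.a.mulVec y = 0 := by
      rw [← picMatrix_mulVec_eq_zero_iff]
      simpa [hK] using hyK
    have h0 : y i0 = 0 := by simpa [ev] using hy0
    apply Subtype.ext
    funext i
    have := ker_prop T y hy i i0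
    rw [h0, zero_mul] at this
    rcases mul_eq_zero.mp this with h | h
    · exact h
    · have := T.m_pos i0
      omega
  have hle : Module.finrank ℤ K ≤ 1 := by
    have := LinearMap.finrank_le_finrank_of_injective hev
    simpa using this
  -- m is a nonzero element of K
  have hmK : T.m ∈ K := by
    rw [hK, LinearMap.mem_ker, Matrix.mulVecLin_apply, picMatrix_mulVec_eq_zero_iff]
    exact T.mulVec_m
  have hge : 1 ≤ Module.finrank ℤ K := by
    let φ : ℤ →ₗ[ℤ] K := LinearMap.toSpanSingleton ℤ K ⟨T.m, hmK⟩
    have hφ : Function.Injective φ := by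
      rw [← LinearMap.ker_eq_bot, Submodule.eq_bot_iff]
      intro c hc
      have : c • (⟨T.m, hmK⟩ : K) = 0 := by simpa [φ] using hc
      have h2 := congrArg (fun v : K => (v : Fin n → ℤ) i0) this
      simp only [Submodule.coe_smul, Pi.smul_apply, smul_eq_mul, Submodule.coe_zero,
        Pi.zero_apply] at h2
      rcases mul_eq_zero.mp h2 with h | h
      · exact h
      · have := T.m_pos i0
        omega
    have := LinearMap.finrank_le_finrank_of_injective hφ
    simpa using this
  omega

theorem finrank_pic : Module.finrank ℤ T.Pic = 1 := by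
  have h1 := (LinearMap.range (Matrix.mulVecLin T.picMatrix)).finrank_quotient_add_finrank
  have h2 := (LinearMap.ker (Matrix.mulVecLin T.picMatrix)).finrank_quotient_add_finrank
  have h3 : Module.finrank ℤ ((Fin n → ℤ) ⧸ LinearMap.ker (Matrix.mulVecLin T.picMatrix)) =
      Module.finrank ℤ (LinearMap.range (Matrix.mulVecLin T.picMatrix)) :=
    LinearEquiv.finrank_eq (Matrix.mulVecLin T.picMatrix).quotKerEquivRange
  have h4 := finrank_ker_picMatrix T
  have h5 : Module.finrank ℤ (Fin n → ℤ) = n := by simp
  have hpos := T.pos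
  show Module.finrank ℤ ((Fin n → ℤ) ⧸ LinearMap.range (Matrix.mulVecLin T.picMatrix)) = 1
  omega

end Groth.Agent.Lead.NumType
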