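import Groth.Agent.Lib.Lead.NumType4

/-! Numerical types: bounds for non-(-2)-indices (lead). -/

set_option autoImplicit false
open Finset

namespace Groth.Agent.Lead.NumType

open Models

variable {n : ℕ} (T : Models.NumericalType n)

/-- the summand `τ i` of `2g - 2`. -/
def tau (i : Fin n) : ℤ := T.m i * (2 * T.w i * (T.g i - 1) - T.a i i)

theorem two_genus_tau : 2 * T.genus - 2 = ∑ i, tau T i := by
  have := two_genus T
  unfold tau
  linarith

theorem tau_nonneg (hmin : T.IsMinimal) (hn : 1 < n) (i : Fin n) : 0 ≤ tau T i := by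
  obtain ⟨k, hk, _⟩ := exists_k T i
  exact (theta_ge T hmin hn i k hk).2

theorem tau_le (hmin : T.IsMinimal) (hn : 1 < n) (i : Fin n) : tau T i ≤ 2 * T.genus - 2 := by
  rw [two_genus_tau]
  exact Finset.single_le_sum (fun j _ => tau_nonneg T hmin hn j) (Finset.mem_univ i)

theorem k_facts (hmin : T.IsMinimal) (hn : 1 < n) (i : Fin n) (k : ℤ)
    (hk : T.a i i = - (T.w i * k)) :
    1 ≤ k ∧ (T.g i = 0 → 2 ≤ k) ∧ tau T i = T.m i * (T.w i * (2 * T.g i - 2 + k)) := by
  have hw := T.w_pos i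
  have hneg := diag_neg T hn i
  have hkpos : 0 < k := by
    rw [hk] at hneg
    by_contra hcon
    have hcon := not_lt.mp hcon
    have : T.w i * k ≤ 0 := mul_nonpos_of_nonneg_of_nonpos hw.le hcon
    linarith
  refine ⟨hkpos, ?_, ?_⟩
  · intro h0
    have hk1 : k ≠ 1 := by
      intro h1
      apply hmin i
      refine ⟨h0, ?_⟩
      rw [hk, h1, mul_one]
    omega
  · unfold tau
    rw [hk]; ring

theorem nonMinusTwo_bounds (hmin : T.IsMinimal) (hn : 1 < n) (j : Fin n)
    (hj : ¬ T.IsMinusTwo j) :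
    1 ≤ tau T j ∧ 2 * T.g j - 1 ≤ tau T j ∧ T.m j * |T.a j j| ≤ 3 * tau T j := by
  obtain ⟨k, hk, _⟩ := exists_k T j
  obtain ⟨hk1, hk2, htau⟩ := k_facts T hmin hn j k hk
  have hw := T.w_pos j
  have hm := T.m_pos j
  have hg := T.g_nonneg j
  have habs : |T.a j j| = T.w j * k := by
    rw [abs_of_nonpos (diag_nonpos T j), hk, neg_neg]
  -- q = 2 g - 2 + k ≥ 1
  have hq : 1 ≤ 2 * T.g j - 2 + k := by
    rcases eq_or_lt_of_le hg with h0 | hpos
    · have h2 := hk2 h0.symm
      have hk2' : k ≠ 2 := by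
        intro hk2'
        apply hj
        refine ⟨h0.symm, ?_⟩
        rw [hk, hk2']; ring
      omega
    · omega
  have hmw : 1 ≤ T.m j * T.w j := by nlinarith
  have h1 : 2 * T.g j - 2 + k ≤ tau T j := by
    rw [htau, ← mul_assoc]
    nlinarith
  refine ⟨by linarith, by linarith, ?_⟩
  rw [habs, htau]
  -- m w k ≤ 3 m w (2g - 2 + k)
  have hk3 : k ≤ 3 * (2 * T.g j - 2 + k) := by
    rcases eq_or_lt_of_le hg with h0 | hpos
    · have h2 := hk2 h0.symm
      have hk2' : k ≠ 2 := by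
        intro hk2'
        apply hj
        refine ⟨h0.symm, ?_⟩
        rw [hk, hk2']; ring
      omega
    · omega
  have hmw0 : 0 ≤ T.m j * T.w j := by positivity
  calc T.m j * (T.w j * k) = (T.m j * T.w j) * k := by ring
    _ ≤ (T.m j * T.w j) * (3 * (2 * T.g j - 2 + k)) := mul_le_mul_of_nonneg_left hk3 hmw0
    _ = 3 * (T.m j * (T.w j * (2 * T.g j - 2 + k))) := by ring

end Groth.Agent.Lead.NumType
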