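import Mathlib
import Groth.Agent.Lib.Lead.ODiv1
import Groth.Agent.Lib.Lead.CompAff2
import Groth.Agent.Lib.Helper1.VT16
import Groth.Agent.Lib.Helper9.RegUFD.Main
import Groth.Prelude.Def_MoreMor

set_option autoImplicit false
set_option backward.isDefEq.respectTransparency.types false
set_option synthInstance.maxHeartbeats 400000
set_option linter.style.haveILetI false
set_option linter.unusedSectionVars false
universe u
open CategoryTheory CategoryTheory.Limits AlgebraicGeometry TopologicalSpace Opposite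

namespace Groth.Agent.Lead.ODiv

open Groth.Agent.Helper1

/-- in a noetherian scheme every point has a dense affine open neighbourhood -/
theorem exists_affine_dense (X : Scheme.{u}) [IsNoetherian X] (x : X) :
    ∃ U : X.Opens, IsAffineOpen U ∧ x ∈ U ∧ Dense (U : Set X) := by
  let S : Set X.Opens := {U | IsAffineOpen U ∧ x ∈ U}
  have hne : S.Nonempty := by
    obtain ⟨W, hW, hxW, -⟩ := exists_isAffineOpen_mem_and_subset (x := x) (U := ⊤) trivial
    exact ⟨W, hW, hxW⟩
  haveI : NoetherianSpace X := inferInstance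
  have hwf : WellFounded ((· > ·) : X.Opens → X.Opens → Prop) :=
    (inferInstance : WellFoundedGT X.Opens).wf
  obtain ⟨U, ⟨hU, hxU⟩, hmax⟩ := hwf.has_min S hne
  refine ⟨U, hU, hxU, ?_⟩
  by_contra hnd
  rw [dense_iff_inter_open] at hnd
  simp only [not_forall] at hnd
  obtain ⟨V, hVo, hVne, hVU⟩ := hnd
  obtain ⟨z, hzV⟩ := hVne
  obtain ⟨W, hW, hzW, hWV⟩ := exists_isAffineOpen_mem_and_subset (x := z) (U := ⟨V, hVo⟩) hzV
  have hdisj : Disjoint U W := by
    rw [disjoint_iff]
    ext y
    simp only [Opens.coe_inf, Set.mem_inter_iff, SetLike.mem_coe, Opens.coe_bot, Set.mem_empty_iff_false,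
      iff_false, not_and]
    intro hyU hyW
    exact hVU ⟨y, hWV hyW, hyU⟩
  have haff : IsAffineOpen (U ⊔ W) := hU.sup_of_disjoint hW hdisj
  have hzU : z ∉ U := fun hzU => hVU ⟨z, hzV, hzU⟩
  have hlt : U < U ⊔ W := by
    refine lt_of_le_of_ne le_sup_left ?_
    intro heq
    apply hzU
    rw [heq]
    exact Or.inr hzW
  exact hmax (U ⊔ W) ⟨haff, Or.inl hxU⟩ hlt

/-- a noetherian scheme with affine diagonal (in the form: affine opens are stable under
intersection) all of whose local rings are factorial domains has an ample family -/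
theorem hasAmpleFamily_of_ufd (X : Scheme.{u}) [IsNoetherian X]
    (hΔ : ∀ V W : X.Opens, IsAffineOpen V → IsAffineOpen W → IsAffineOpen (V ⊓ W))
    (hufd : ∀ x : X, IsDomain (X.presheaf.stalk x) ∧
      UniqueFactorizationMonoid (X.presheaf.stalk x)) :
    MoreMor.HasAmpleFamily X := by
  refine ⟨inferInstance, fun x => ?_⟩
  obtain ⟨U, hU, hxU, hd⟩ := exists_affine_dense X x
  obtain ⟨I, hI, hsupp⟩ := Groth.Agent.Lead.CompAff.S1687_main X hΔ U hU hd (fun z _ => hufd z)
  obtain ⟨e⟩ := VT.nonempty_unit_tensorMod_iso (OD I)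
  have hgl : CohB1.genLocus (CohB1.tensorPow (OD I) 1) (secHom I ≫ e.inv) =
      CohB1.genLocus (OD I) (secHom I) :=
    TwistAmple.genLocus_comp_iso (secHom I) e.symm
  have hU' : CohB1.genLocus (OD I) (secHom I) = U := by
    ext z
    change z ∈ CohB1.genLocus (OD I) (secHom I) ↔ z ∈ U
    rw [mem_genLocus_secHom_iff I hI]
    have : z ∈ (I.support : Set X) ↔ z ∈ (U : Set X)ᶜ := by rw [hsupp]
    constructor
    · intro h
      by_contra hzU
      exact h (this.2 hzU)
    · intro h hz
      exact (this.1 hz) h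
  refine ⟨OD I, 1, secHom I ≫ e.inv, isInvertible_OD I hI, le_rfl, ?_, ?_⟩
  · rw [hgl, hU']
    exact hxU
  · rw [hgl, hU']
    exact hU

theorem S4272_main (X : Scheme.{u}) [IsNoetherian X] [X.IsSeparated]
    (hfact : ∀ x : X, ∃ _ : IsDomain (X.presheaf.stalk x),
      UniqueFactorizationMonoid (X.presheaf.stalk x)) :
    MoreMor.HasAmpleFamily X :=
  hasAmpleFamily_of_ufd X (fun V W hV hW => hV.inf hW) (fun x => by
    obtain ⟨h1, h2⟩ := hfact x
    exact ⟨h1, h2⟩)

theorem S4271_main (X : Scheme.{u}) [CompactSpace X] [IsLocallyNoetherian X]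
    (hreg : ∀ x : X, IsRegularLocalRing (X.presheaf.stalk x))
    (hdiag : ∀ U V : X.Opens, IsAffineOpen U → IsAffineOpen V → IsAffineOpen (U ⊓ V)) :
    MoreMor.HasAmpleFamily X := by
  haveI : IsNoetherian X := {}
  exact hasAmpleFamily_of_ufd X hdiag (fun x => by
    haveI := hreg x
    exact ⟨Groth.Agent.Helper8.RLR.isDomain _, Groth.Agent.Helper9.RegUFD.ufd _⟩)

end Groth.Agent.Lead.ODiv
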