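import Mathlib
import Groth.Prelude

set_option autoImplicit false
set_option backward.isDefEq.respectTransparency.types false
set_option synthInstance.maxHeartbeats 400000
set_option linter.style.haveILetI false
set_option linter.unusedSectionVars false
universe u

open TensorProduct IsLocalRing

namespace Groth.Agent.Lead.OmCot

section Ker

variable (k R K : Type u) [CommRing k] [CommRing R] [CommRing K]
  [Algebra k R] [Algebra k K] [Algebra R K] [IsScalarTower k R K]

/-- the conormal map of a surjection onto a formally smooth algebra is injective -/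
theorem kerCotangentToTensor_injective (hf : Function.Surjective (algebraMap R K))
    [Algebra.FormallySmooth k K] :
    Function.Injective (KaehlerDifferential.kerCotangentToTensor k R K) := by
  let φ := (IsScalarTower.toAlgHom k R K).kerSquareLift
  have hφ : Function.Surjective φ := by
    intro y
    obtain ⟨x, rfl⟩ := hf y
    exact ⟨Ideal.Quotient.mk _ x, rfl⟩
  have hnil : IsNilpotent (RingHom.ker (φ : (R ⧸ RingHom.ker (IsScalarTower.toAlgHom k R
      K).toRingHom ^ 2) →+* K)) := by
    refine ⟨2, ?_⟩
    have h0 := AlgHom.ker_kerSquareLift (IsScalarTower.toAlgHom k R K)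
    change RingHom.ker (IsScalarTower.toAlgHom k R K).kerSquareLift.toRingHom ^ 2 = ⊥
    rw [h0]
    exact Ideal.cotangentIdeal_square _
  let g := Algebra.FormallySmooth.liftOfSurjective (AlgHom.id k K) φ hφ hnil
  have hg : φ.comp g = AlgHom.id k K :=
    Algebra.FormallySmooth.comp_liftOfSurjective _ _ hφ hnil
  obtain ⟨l, hl⟩ := (retractionKerCotangentToTensorEquivSection (R := k) hf).symm ⟨g, hg⟩
  exact Function.LeftInverse.injective (g := l) fun x => LinearMap.congr_fun hl x

/-- the conormal map of a surjection onto an algebra without differentials is surjective -/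
theorem kerCotangentToTensor_surjective (hf : Function.Surjective (algebraMap R K))
    [Subsingleton Ω[K⁄k]] :
    Function.Surjective (KaehlerDifferential.kerCotangentToTensor k R K) := by
  intro y
  exact (KaehlerDifferential.exact_kerCotangentToTensor_mapBaseChange k R K hf y).mp
    (Subsingleton.elim _ _)

end Ker

section Congr

variable {R S : Type u} [CommRing R] [CommRing S]

/-- injectivity of the cotangent map does not depend on the presentation of the data -/
theorem mapCotangent_injective_congr {R₁ : Type*} {R₂ : Type*} [CommRing R₁] [CommRing R₂]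
    [Algebra R₁ R] [Algebra R₁ S] [Algebra R₂ R] [Algebra R₂ S]
    {I I' : Ideal R} {J J' : Ideal S} (hI : I = I') (hJ : J = J')
    (f₁ : R →ₐ[R₁] S) (f₂ : R →ₐ[R₂] S) (hf : ∀ x, f₁ x = f₂ x)
    (h1 : I ≤ J.comap f₁) (h2 : I' ≤ J'.comap f₂) :
    Function.Injective (Ideal.mapCotangent I J f₁ h1) ↔
      Function.Injective (Ideal.mapCotangent I' J' f₂ h2) := by
  subst hI hJ
  have : ∀ x, Ideal.mapCotangent I J f₁ h1 x = Ideal.mapCotangent I J f₂ h2 x := by
    intro x
    obtain ⟨y, rfl⟩ := Ideal.toCotangent_surjective _ x
    simp only [Ideal.mapCotangent_toCotangent]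
    congr 1
    exact Subtype.ext (hf y.1)
  constructor
  · intro h a b hab
    exact h (by rw [this, this]; exact hab)
  · intro h a b hab
    exact h (by rw [← this, ← this]; exact hab)

end Congr

section Square

variable (k R S : Type u) [CommRing k] [CommRing R] [CommRing S]
  [Algebra k R] [Algebra k S] [Algebra R S] [IsScalarTower k R S] [IsLocalRing S]

local notation "K" => ResidueField S

theorem ker_le_comap : RingHom.ker (algebraMap R K) ≤
    (RingHom.ker (algebraMap S K)).comap (IsScalarTower.toAlgHom k R S) := by
  intro x hx
  rw [Ideal.mem_comap, RingHom.mem_ker, IsScalarTower.coe_toAlgHom',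
    ← IsScalarTower.algebraMap_apply]
  exact hx

/-- the conormal maps are compatible with the cotangent map and the base change of differentials -/
theorem square (x : (RingHom.ker (algebraMap R K)).Cotangent) :
    (KaehlerDifferential.mapBaseChange k R S).lTensor K
      ((TensorProduct.AlgebraTensorModule.cancelBaseChange R S S K Ω[R⁄k]).symm
        (KaehlerDifferential.kerCotangentToTensor k R K x)) =
      KaehlerDifferential.kerCotangentToTensor k S K
        (Ideal.mapCotangent _ _ (IsScalarTower.toAlgHom k R S) (ker_le_comap k R S) x) := by
  obtain ⟨y, rfl⟩ := Ideal.toCotangent_surjective _ x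
  rw [KaehlerDifferential.kerCotangentToTensor_toCotangent,
    TensorProduct.AlgebraTensorModule.cancelBaseChange_symm_tmul, LinearMap.lTensor_tmul,
    KaehlerDifferential.mapBaseChange_tmul, one_smul, KaehlerDifferential.map_D,
    Ideal.mapCotangent_toCotangent, KaehlerDifferential.kerCotangentToTensor_toCotangent]
  rfl

/-- the cotangent map is injective iff the differentials inject modulo the maximal ideal -/
theorem injective_mapCotangent_ker_iff (hk : Function.Bijective (algebraMap k K)) :
    Function.Injective (Ideal.mapCotangent _ _ (IsScalarTower.toAlgHom k R S)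
      (ker_le_comap k R S)) ↔
    Function.Injective ((KaehlerDifferential.mapBaseChange k R S).lTensor K) := by
  have hRK : Function.Surjective (algebraMap R K) := by
    intro y
    obtain ⟨a, rfl⟩ := hk.2 y
    exact ⟨algebraMap k R a, (IsScalarTower.algebraMap_apply k R K a).symm⟩
  have hSK : Function.Surjective (algebraMap S K) := IsLocalRing.residue_surjective
  haveI : Algebra.FormallySmooth k K :=
    Algebra.FormallySmooth.of_equiv (AlgEquiv.ofBijective (Algebra.ofId k K) hk)
  haveI : Subsingleton Ω[K⁄k] := KaehlerDifferential.subsingleton_of_surjective k K hk.2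
  have aR_inj := kerCotangentToTensor_injective k R K hRK
  have aR_surj := kerCotangentToTensor_surjective k R K hRK
  have aS_inj := kerCotangentToTensor_injective k S K hSK
  have hsq := square k R S
  constructor
  · intro hc a b hab
    obtain ⟨a', rfl⟩ := (TensorProduct.AlgebraTensorModule.cancelBaseChange R S S K
      Ω[R⁄k]).symm.surjective a
    obtain ⟨b', rfl⟩ := (TensorProduct.AlgebraTensorModule.cancelBaseChange R S S K
      Ω[R⁄k]).symm.surjective b
    obtain ⟨a'', rfl⟩ := aR_surj a'
    obtain ⟨b'', rfl⟩ := aR_surj b'
    rw [hsq, hsq] at hab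
    rw [hc (aS_inj hab)]
  · intro hL a b hab
    apply aR_inj
    apply (TensorProduct.AlgebraTensorModule.cancelBaseChange R S S K Ω[R⁄k]).symm.injective
    apply hL
    rw [hsq, hsq, hab]

end Square

end Groth.Agent.Lead.OmCot
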