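import Mathlib
import Groth.Prelude
import Groth.Agent.Lib.Lead.OmCot1

set_option autoImplicit false
set_option backward.isDefEq.respectTransparency.types false
set_option synthInstance.maxHeartbeats 400000
set_option linter.style.haveILetI false
set_option linter.unusedSectionVars false
universe u

open TensorProduct IsLocalRing

namespace Groth.Agent.Lead.OmCot

section Local

variable (k R S : Type u) [CommRing k] [CommRing R] [CommRing S]
  [Algebra k R] [Algebra k S] [Algebra R S] [IsScalarTower k R S] [IsLocalRing R] [IsLocalRing S]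
  [IsLocalHom (algebraMap R S)]

theorem ker_algebraMap_residueField_eq :
    RingHom.ker (algebraMap R (ResidueField S)) = maximalIdeal R := by
  ext x
  rw [RingHom.mem_ker, IsScalarTower.algebraMap_apply R S (ResidueField S)]
  change IsLocalRing.residue S (algebraMap R S x) = 0 ↔ _
  rw [IsLocalRing.residue_eq_zero_iff, mem_maximalIdeal, mem_nonunits_iff, mem_maximalIdeal,
    mem_nonunits_iff, isUnit_map_iff]

theorem ker_algebraMap_residueField_self :
    RingHom.ker (algebraMap S (ResidueField S)) = maximalIdeal S :=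
  IsLocalRing.ker_residue

/-- the cotangent map of a local homomorphism of local algebras with residue field the base is
injective iff the differentials inject modulo the maximal ideal -/
theorem injective_mapCotangent_iff (ψ : R →ₐ[ℤ] S) (hψ : ∀ x, ψ x = algebraMap R S x)
    (h : maximalIdeal R ≤ (maximalIdeal S).comap ψ)
    (hk : Function.Bijective (algebraMap k (ResidueField S))) :
    Function.Injective (Ideal.mapCotangent (maximalIdeal R) (maximalIdeal S) ψ h) ↔
      Function.Injective ((KaehlerDifferential.mapBaseChange k R S).lTensor (ResidueField S)) := by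
  refine Iff.trans ?_ (injective_mapCotangent_ker_iff k R S hk)
  exact (mapCotangent_injective_congr (ker_algebraMap_residueField_eq R S)
    (ker_algebraMap_residueField_self S) (IsScalarTower.toAlgHom k R S) ψ
    (fun x => by rw [hψ]; rfl) (ker_le_comap k R S) h).symm

/-- injectivity modulo the maximal ideal makes the relative differentials free -/
theorem free_kaehler_of_injective [Module.Finite R Ω[R⁄k]] [Module.Finite S Ω[S⁄k]]
    [Module.Free S Ω[S⁄k]]
    (hinj : Function.Injective
      ((KaehlerDifferential.mapBaseChange k R S).lTensor (ResidueField S))) :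
    Module.Free S Ω[S⁄R] :=
  Module.free_of_lTensor_residueField_injective (KaehlerDifferential.mapBaseChange k R S)
    (KaehlerDifferential.map k R S S) (KaehlerDifferential.map_surjective k R S)
    (KaehlerDifferential.exact_mapBaseChange_map k R S) hinj

theorem finrank_kaehler_of_injective [Module.Finite R Ω[R⁄k]] [Module.Free R Ω[R⁄k]]
    [Module.Finite S Ω[S⁄k]] [Module.Free S Ω[S⁄k]]
    (hinj : Function.Injective
      ((KaehlerDifferential.mapBaseChange k R S).lTensor (ResidueField S))) :
    Module.finrank S Ω[S⁄k] = Module.finrank R Ω[R⁄k] + Module.finrank S Ω[S⁄R] := by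
  haveI := free_kaehler_of_injective k R S hinj
  haveI : Module.Finite S Ω[S⁄R] :=
    Module.Finite.of_surjective (KaehlerDifferential.map k R S S)
      (KaehlerDifferential.map_surjective k R S)
  obtain ⟨l, hl⟩ := (IsLocalRing.split_injective_iff_lTensor_residueField_injective
    (KaehlerDifferential.mapBaseChange k R S)).mpr hinj
  obtain ⟨e, -, -⟩ := ((KaehlerDifferential.exact_mapBaseChange_map k R S).splitInjectiveEquiv
    (KaehlerDifferential.map_surjective k R S)) ⟨l, hl⟩
  rw [e.finrank_eq, Module.finrank_prod, Module.finrank_baseChange]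

end Local

section Smooth

variable (k R S : Type u) [CommRing k] [CommRing R] [CommRing S]
  [Algebra k R] [Algebra k S] [Algebra R S] [IsScalarTower k R S]

/-- for a formally smooth algebra the differentials of the base inject after any base change -/
theorem lTensor_injective_of_formallySmooth [Algebra.FormallySmooth R S] (M : Type u)
    [AddCommGroup M] [Module S M] :
    Function.Injective ((KaehlerDifferential.mapBaseChange k R S).lTensor M) := by
  have hinj : Function.Injective (KaehlerDifferential.mapBaseChange k R S) := by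
    rw [injective_iff_map_eq_zero]
    intro a ha
    obtain ⟨z, rfl⟩ := (Algebra.H1Cotangent.exact_δ_mapBaseChange k R S a).mp ha
    rw [Subsingleton.elim z 0, map_zero]
  obtain ⟨s, hs⟩ := Module.projective_lifting_property (KaehlerDifferential.map k R S S)
    LinearMap.id (KaehlerDifferential.map_surjective k R S)
  have htf := ((KaehlerDifferential.exact_mapBaseChange_map k R S).split_tfae hinj
    (KaehlerDifferential.map_surjective k R S)).out 0 1
  obtain ⟨l, hl⟩ := htf.mp ⟨s, hs⟩
  have : l.lTensor M ∘ₗ (KaehlerDifferential.mapBaseChange k R S).lTensor M = LinearMap.id := by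
    rw [← LinearMap.lTensor_comp, hl, LinearMap.lTensor_id]
  exact Function.HasLeftInverse.injective ⟨_, LinearMap.congr_fun this⟩

end Smooth

section Transfer

variable {R S R' S' : Type u} [CommRing R] [CommRing S] [CommRing R'] [CommRing S']

theorem mapCotangent_comp_apply {T : Type u} [CommRing T] (I : Ideal R) (J : Ideal S) (K : Ideal T)
    (f : R →ₐ[ℤ] S) (g : S →ₐ[ℤ] T) (h : R →ₐ[ℤ] T) (hh : ∀ x, h x = g (f x))
    (hf : I ≤ J.comap f) (hg : J ≤ K.comap g) (hh' : I ≤ K.comap h) (x : I.Cotangent) :
    Ideal.mapCotangent J K g hg (Ideal.mapCotangent I J f hf x) = Ideal.mapCotangent I K h hh' x := by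
  obtain ⟨y, rfl⟩ := Ideal.toCotangent_surjective _ x
  simp only [Ideal.mapCotangent_toCotangent]
  congr 1
  exact Subtype.ext (hh y.1).symm

/-- injectivity of the cotangent map is invariant under isomorphisms of arrows -/
theorem injective_mapCotangent_of_square (I : Ideal R) (J : Ideal S) (I' : Ideal R') (J' : Ideal S')
    (φ : R →ₐ[ℤ] S) (φ' : R' →ₐ[ℤ] S') (e₁ : R ≃+* R') (e₂ : S ≃+* S')
    (hsq : ∀ x, φ' (e₁ x) = e₂ (φ x)) (hI : I'.comap (e₁ : R →+* R') = I)
    (hJ : J'.comap (e₂ : S →+* S') = J)
    (h : I ≤ J.comap φ) (h' : I' ≤ J'.comap φ')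
    (hinj : Function.Injective (Ideal.mapCotangent I' J' φ' h')) :
    Function.Injective (Ideal.mapCotangent I J φ h) := by
  have h1 : I ≤ I'.comap (e₁ : R →+* R').toIntAlgHom := by rw [← hI]; exact le_rfl
  have h1' : I' ≤ I.comap (e₁.symm : R' →+* R).toIntAlgHom := by
    intro x hx
    rw [← hI]
    simp only [Ideal.mem_comap, RingHom.toIntAlgHom_apply, RingEquiv.coe_toRingHom,
      RingEquiv.apply_symm_apply]
    exact hx
  have h2 : J ≤ J'.comap (e₂ : S →+* S').toIntAlgHom := by rw [← hJ]; exact le_rfl
  intro a b hab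
  have ha : ∀ c : I.Cotangent, Ideal.mapCotangent I' I (e₁.symm : R' →+* R).toIntAlgHom h1'
      (Ideal.mapCotangent I I' (e₁ : R →+* R').toIntAlgHom h1 c) = c := by
    intro c
    rw [mapCotangent_comp_apply I I' I _ _ (AlgHom.id ℤ R) (fun x => by simp) h1 h1'
      (fun x hx => hx)]
    obtain ⟨y, rfl⟩ := Ideal.toCotangent_surjective _ c
    rfl
  have key : ∀ c : I.Cotangent, Ideal.mapCotangent J J' (e₂ : S →+* S').toIntAlgHom h2
      (Ideal.mapCotangent I J φ h c) = Ideal.mapCotangent I' J' φ' h'
        (Ideal.mapCotangent I I' (e₁ : R →+* R').toIntAlgHom h1 c) := by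
    intro c
    have hle : I ≤ J'.comap ((e₂ : S →+* S').toIntAlgHom.comp φ) := fun x hx => h2 (h hx)
    rw [mapCotangent_comp_apply I J J' φ _ ((e₂ : S →+* S').toIntAlgHom.comp φ) (fun x => rfl) h h2
      hle, mapCotangent_comp_apply I I' J' _ φ' ((e₂ : S →+* S').toIntAlgHom.comp φ)
      (fun x => by simp [hsq]) h1 h' hle]
  have := hinj ((key a).symm.trans ((congrArg _ hab).trans (key b)))
  rw [← ha a, ← ha b, this]


/-- injectivity of a cotangent map in elementary terms -/
theorem injective_mapCotangent_iff_forall (I : Ideal R) (J : Ideal S) (ψ : R →ₐ[ℤ] S)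
    (h : I ≤ J.comap ψ) :
    Function.Injective (Ideal.mapCotangent I J ψ h) ↔ ∀ a ∈ I, ψ a ∈ J ^ 2 → a ∈ I ^ 2 := by
  rw [injective_iff_map_eq_zero]
  constructor
  · intro hinj a ha haJ
    have := hinj (Ideal.toCotangent I ⟨a, ha⟩) (by
      rw [Ideal.mapCotangent_toCotangent, Ideal.toCotangent_eq_zero]
      exact haJ)
    exact (Ideal.toCotangent_eq_zero I ⟨a, ha⟩).mp this
  · intro hall x hx
    obtain ⟨y, rfl⟩ := Ideal.toCotangent_surjective _ x
    rw [Ideal.mapCotangent_toCotangent, Ideal.toCotangent_eq_zero] at hx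
    rw [Ideal.toCotangent_eq_zero]
    exact hall y.1 y.2 hx

/-- the elementary form of injectivity of the cotangent map is invariant under isomorphisms -/
theorem cotInj_of_square (I : Ideal R) (J : Ideal S) (I' : Ideal R') (J' : Ideal S')
    (φ : R →+* S) (φ' : R' →+* S') (e₁ : R ≃+* R') (e₂ : S ≃+* S')
    (hsq : ∀ x, φ' (e₁ x) = e₂ (φ x)) (hI : I'.comap (e₁ : R →+* R') = I)
    (hJ : J'.comap (e₂ : S →+* S') = J)
    (H : ∀ a ∈ I', φ' a ∈ J' ^ 2 → a ∈ I' ^ 2) :
    ∀ a ∈ I, φ a ∈ J ^ 2 → a ∈ I ^ 2 := by
  intro a ha haJ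
  have h1 : e₁ a ∈ I' := by rw [← hI] at ha; exact ha
  have hJ' : J.map (e₂ : S →+* S') = J' := by
    rw [← hJ]; exact Ideal.map_comap_of_surjective _ e₂.surjective _
  have h2 : φ' (e₁ a) ∈ J' ^ 2 := by
    rw [hsq, ← hJ', ← Ideal.map_pow]
    exact Ideal.mem_map_of_mem _ haJ
  have h3 := H _ h1 h2
  have hI' : I'.map (e₁.symm : R' →+* R) = I := by
    rw [← hI]
    exact Ideal.map_symm (I := I') e₁
  have h4 : e₁.symm (e₁ a) ∈ I ^ 2 := by
    rw [← hI', ← Ideal.map_pow]
    exact Ideal.mem_map_of_mem _ h3
  rwa [RingEquiv.symm_apply_apply] at h4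

end Transfer

section Elementary

variable (k R S : Type u) [CommRing k] [CommRing R] [CommRing S]
  [Algebra k R] [Algebra k S] [Algebra R S] [IsScalarTower k R S] [IsLocalRing R] [IsLocalRing S]
  [IsLocalHom (algebraMap R S)]

/-- elementary form of `injective_mapCotangent_iff` -/
theorem cotInj_iff (hk : Function.Bijective (algebraMap k (ResidueField S))) :
    (∀ a ∈ maximalIdeal R, algebraMap R S a ∈ maximalIdeal S ^ 2 → a ∈ maximalIdeal R ^ 2) ↔
      Function.Injective ((KaehlerDifferential.mapBaseChange k R S).lTensor (ResidueField S)) := by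
  have h : maximalIdeal R ≤ (maximalIdeal S).comap (algebraMap R S).toIntAlgHom := by
    intro a ha
    rw [Ideal.mem_comap, RingHom.toIntAlgHom_apply, mem_maximalIdeal, mem_nonunits_iff,
      isUnit_map_iff]
    exact ha
  rw [← injective_mapCotangent_iff k R S (algebraMap R S).toIntAlgHom (fun x => rfl) h hk,
    injective_mapCotangent_iff_forall]
  rfl

end Elementary

end Groth.Agent.Lead.OmCot
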