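import Mathlib
import Groth.Prelude
import Groth.Agent.Lib.Lead.OmCot2
import Groth.Agent.Lib.Lead.LFA

set_option autoImplicit false
set_option backward.isDefEq.respectTransparency.types false
set_option synthInstance.maxHeartbeats 400000
set_option linter.style.haveILetI false
set_option linter.unusedSectionVars false
universe u

open TensorProduct IsLocalRing

namespace Groth.Agent.Lead.OmCot

section Loc

/-- differentials of a localization at a prime of an algebra with projective differentials -/
theorem kaehler_localization (K₀ B : Type u) [CommRing K₀] [CommRing B] [Algebra K₀ B]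
    [Module.Finite B Ω[B⁄K₀]] [Module.Projective B Ω[B⁄K₀]] (q : Ideal B) [q.IsPrime] :
    Module.Finite (Localization.AtPrime q) Ω[Localization.AtPrime q⁄K₀] ∧
    Module.Free (Localization.AtPrime q) Ω[Localization.AtPrime q⁄K₀] ∧
    Module.finrank (Localization.AtPrime q) Ω[Localization.AtPrime q⁄K₀] =
      Module.rankAtStalk Ω[B⁄K₀] ⟨q, inferInstance⟩ := by
  haveI : IsLocalizedModule q.primeCompl
      (KaehlerDifferential.map K₀ K₀ B (Localization.AtPrime q)) :=
    KaehlerDifferential.isLocalizedModule_map K₀ B (Localization.AtPrime q) q.primeCompl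
  have h1 : Module.Finite (Localization.AtPrime q) Ω[Localization.AtPrime q⁄K₀] :=
    Module.Finite.of_isLocalizedModule q.primeCompl (Rₚ := Localization.AtPrime q)
      (KaehlerDifferential.map K₀ K₀ B (Localization.AtPrime q))
  have h2 : Module.Projective (Localization.AtPrime q) Ω[Localization.AtPrime q⁄K₀] :=
    Module.projective_of_isLocalizedModule q.primeCompl
      (KaehlerDifferential.map K₀ K₀ B (Localization.AtPrime q))
  haveI := h1
  haveI := h2
  refine ⟨h1, Module.free_of_flat_of_isLocalRing, ?_⟩
  exact Groth.Agent.Lead.LFA.finrank_eq_rankAtStalk (⟨q, inferInstance⟩ : PrimeSpectrum B)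
    (Localization.AtPrime q) Ω[Localization.AtPrime q⁄K₀]
    (KaehlerDifferential.map K₀ K₀ B (Localization.AtPrime q))

/-- changing the base to a localization does not change the differentials -/
theorem kaehler_map_localization_bijective (A R S : Type u) [CommRing A] [CommRing R] [CommRing S]
    [Algebra A R] [Algebra A S] [Algebra R S] [IsScalarTower A R S] (M : Submonoid A)
    [IsLocalization M R] : Function.Bijective (KaehlerDifferential.map A R S S) := by
  refine ⟨?_, KaehlerDifferential.map_surjective A R S⟩
  haveI : Algebra.FormallyUnramified A R := Algebra.FormallyUnramified.of_isLocalization M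
  rw [injective_iff_map_eq_zero]
  intro x hx
  obtain ⟨y, rfl⟩ := (KaehlerDifferential.exact_mapBaseChange_map A R S x).mp hx
  rw [Subsingleton.elim y 0, map_zero]

end Loc

section Affine

variable (K₀ A B : Type u) [CommRing K₀] [CommRing A] [CommRing B] [Algebra K₀ A] [Algebra A B]
  [Algebra K₀ B] [IsScalarTower K₀ A B]

/-- local freeness of the relative differentials at a prime from the injectivity modulo the prime -/
theorem mem_freeLocus_kaehler (p : Ideal A) [p.IsPrime] (q : Ideal B) [q.IsPrime] [q.LiesOver p]
    [Module.Finite A Ω[A⁄K₀]] [Module.Projective A Ω[A⁄K₀]]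
    [Module.Finite B Ω[B⁄K₀]] [Module.Projective B Ω[B⁄K₀]]
    (hinj : letI := Localization.AtPrime.algebraOfLiesOver p q
      Function.Injective ((KaehlerDifferential.mapBaseChange K₀ (Localization.AtPrime p)
        (Localization.AtPrime q)).lTensor (ResidueField (Localization.AtPrime q)))) :
    (⟨q, inferInstance⟩ : PrimeSpectrum B) ∈ Module.freeLocus B Ω[B⁄A] ∧
      Module.rankAtStalk Ω[B⁄K₀] ⟨q, inferInstance⟩ =
        Module.rankAtStalk Ω[A⁄K₀] ⟨p, inferInstance⟩ +
          Module.rankAtStalk Ω[B⁄A] ⟨q, inferInstance⟩ := by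
  letI := Localization.AtPrime.algebraOfLiesOver p q
  haveI : IsLocalHom (algebraMap (Localization.AtPrime p) (Localization.AtPrime q)) := by
    rw [RingHom.algebraMap_toAlgebra]; infer_instance
  obtain ⟨a1, a2, a3⟩ := kaehler_localization K₀ A p
  obtain ⟨b1, b2, b3⟩ := kaehler_localization K₀ B q
  haveI := a1; haveI := a2; haveI := b1; haveI := b2
  have hfree := free_kaehler_of_injective K₀ (Localization.AtPrime p) (Localization.AtPrime q) hinj
  have hrank := finrank_kaehler_of_injective K₀ (Localization.AtPrime p) (Localization.AtPrime q)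
    hinj
  have hbij := kaehler_map_localization_bijective A (Localization.AtPrime p)
    (Localization.AtPrime q) p.primeCompl
  let e : Ω[Localization.AtPrime q⁄A] ≃ₗ[B] Ω[Localization.AtPrime q⁄Localization.AtPrime p] :=
    (LinearEquiv.ofBijective (KaehlerDifferential.map A (Localization.AtPrime p)
      (Localization.AtPrime q) (Localization.AtPrime q)) hbij).restrictScalars B
  haveI : IsLocalizedModule q.primeCompl
      (KaehlerDifferential.map A A B (Localization.AtPrime q)) :=
    KaehlerDifferential.isLocalizedModule_map A B (Localization.AtPrime q) q.primeCompl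
  let ψ : Ω[B⁄A] →ₗ[B] Ω[Localization.AtPrime q⁄Localization.AtPrime p] :=
    e.toLinearMap ∘ₗ (KaehlerDifferential.map A A B (Localization.AtPrime q))
  haveI : IsLocalizedModule q.primeCompl ψ := IsLocalizedModule.of_linearEquiv q.primeCompl
    (KaehlerDifferential.map A A B (Localization.AtPrime q)) e
  refine ⟨?_, ?_⟩
  · exact (Module.mem_freeLocus_of_isLocalization (⟨q, inferInstance⟩ : PrimeSpectrum B)
      (Localization.AtPrime q) Ω[Localization.AtPrime q⁄Localization.AtPrime p] ψ).mpr hfree
  · have hc := Groth.Agent.Lead.LFA.finrank_eq_rankAtStalk (⟨q, inferInstance⟩ : PrimeSpectrum B)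
      (Localization.AtPrime q) Ω[Localization.AtPrime q⁄Localization.AtPrime p] ψ
    rw [← a3, ← b3, ← hc]
    exact hrank

/-- an open subset of the prime spectrum containing all maximal ideals is everything -/
theorem eq_univ_of_isOpen_of_maximal {B : Type u} [CommRing B] (U : Set (PrimeSpectrum B))
    (hU : IsOpen U) (h : ∀ (m : Ideal B) [m.IsMaximal], (⟨m, inferInstance⟩ : PrimeSpectrum B) ∈ U) :
    U = Set.univ := by
  by_contra hne
  obtain ⟨x, hx⟩ := (Set.ne_univ_iff_exists_notMem U).mp hne
  obtain ⟨I, hI⟩ := (PrimeSpectrum.isClosed_iff_zeroLocus_ideal _).mp hU.isClosed_compl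
  have hxI : x ∈ PrimeSpectrum.zeroLocus (I : Set B) := by rw [← hI]; exact hx
  have hIne : I ≠ ⊤ := by
    rintro rfl
    rw [PrimeSpectrum.mem_zeroLocus] at hxI
    exact x.2.ne_top (top_le_iff.mp hxI)
  obtain ⟨m, hm, hIm⟩ := Ideal.exists_le_maximal I hIne
  haveI := hm
  have : (⟨m, inferInstance⟩ : PrimeSpectrum B) ∈ Uᶜ := by
    rw [hI, PrimeSpectrum.mem_zeroLocus]
    exact hIm
  exact this (h m)

/-- the relative differentials are projective of the expected rank once the differentials of the
base inject modulo all maximal ideals -/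
theorem projective_kaehler_of_injective
    [Module.Finite A Ω[A⁄K₀]] [Module.Projective A Ω[A⁄K₀]]
    [Module.Finite B Ω[B⁄K₀]] [Module.Projective B Ω[B⁄K₀]]
    [Module.FinitePresentation B Ω[B⁄A]] (a n : ℕ)
    (ha : ∀ p : PrimeSpectrum A, Module.rankAtStalk Ω[A⁄K₀] p = a)
    (hb : ∀ q : PrimeSpectrum B, Module.rankAtStalk Ω[B⁄K₀] q = a + n)
    (H : ∀ (q : Ideal B) [q.IsMaximal],
      letI := Localization.AtPrime.algebraOfLiesOver (q.under A) q
      Function.Injective ((KaehlerDifferential.mapBaseChange K₀ (Localization.AtPrime (q.under A))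
        (Localization.AtPrime q)).lTensor (ResidueField (Localization.AtPrime q)))) :
    Module.Projective B Ω[B⁄A] ∧ ∀ q : PrimeSpectrum B, Module.rankAtStalk Ω[B⁄A] q = n := by
  have hall : ∀ (m : Ideal B) [m.IsMaximal],
      (⟨m, inferInstance⟩ : PrimeSpectrum B) ∈ Module.freeLocus B Ω[B⁄A] ∧
        Module.rankAtStalk Ω[B⁄A] ⟨m, inferInstance⟩ = n := by
    intro m hm
    obtain ⟨h1, h2⟩ := mem_freeLocus_kaehler K₀ A B (m.under A) m (H m)
    refine ⟨h1, ?_⟩
    rw [ha, hb] at h2
    omega
  have huniv : Module.freeLocus B Ω[B⁄A] = Set.univ :=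
    eq_univ_of_isOpen_of_maximal _ Module.isOpen_freeLocus fun m hm => (hall m).1
  have hproj : Module.Projective B Ω[B⁄A] := Module.freeLocus_eq_univ_iff.mp huniv
  refine ⟨hproj, fun q => ?_⟩
  obtain ⟨m, hm, hqm⟩ := Ideal.exists_le_maximal q.asIdeal q.2.ne_top
  haveI := hm
  have hle : q ≤ (⟨m, inferInstance⟩ : PrimeSpectrum B) := hqm
  rw [Module.rankAtStalk_eq_of_le_of_finite_of_flat Ω[B⁄A] hle]
  exact (hall m).2

end Affine

end Groth.Agent.Lead.OmCot
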