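import Mathlib
import Groth.Prelude
import Groth.Agent.Lib.Lead.OmCot3

set_option autoImplicit false
set_option backward.isDefEq.respectTransparency.types false
set_option synthInstance.maxHeartbeats 400000
set_option linter.style.haveILetI false
set_option linter.unusedSectionVars false
universe u

open TensorProduct IsLocalRing

namespace Groth.Agent.Lead.OmCot

/-- residue fields at maximal ideals of algebras of finite type over an algebraically closed field -/
theorem bijective_residueField_of_isAlgClosed {k K₀ B : Type u} [Field k] [IsAlgClosed k]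
    [CommRing K₀] [CommRing B] (e : k ≃+* K₀) (φX : K₀ →+* B) (hft : φX.FiniteType)
    (q : Ideal B) [q.IsMaximal] :
    Function.Bijective ((algebraMap B (ResidueField (Localization.AtPrime q))).comp φX) := by
  have hψ : (φX.comp (e : k →+* K₀)).FiniteType :=
    hft.comp (RingHom.FiniteType.of_surjective _ e.surjective)
  algebraize [φX.comp (e : k →+* K₀)]
  letI : Field (B ⧸ q) := Ideal.Quotient.field q
  haveI : Module.Finite k (B ⧸ q) := finite_of_finite_type_of_isJacobsonRing k (B ⧸ q)
  have h1 : Function.Bijective (algebraMap k (B ⧸ q)) :=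
    IsAlgClosed.algebraMap_bijective_of_isIntegral
  have h2 : Function.Bijective (algebraMap (B ⧸ q) q.ResidueField) :=
    Ideal.bijective_algebraMap_quotient_residueField q
  have h3 : Function.Bijective (((algebraMap B (ResidueField (Localization.AtPrime q))).comp φX).comp
      (e : k →+* K₀)) := by
    have : ⇑(((algebraMap B (ResidueField (Localization.AtPrime q))).comp φX).comp
        (e : k →+* K₀)) = ⇑(algebraMap (B ⧸ q) q.ResidueField) ∘ ⇑(algebraMap k (B ⧸ q)) := by
      funext a
      simp only [RingHom.coe_comp, Function.comp_apply]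
      rfl
    rw [this]
    exact h2.comp h1
  have h4 : ⇑((algebraMap B (ResidueField (Localization.AtPrime q))).comp φX) =
      ⇑(((algebraMap B (ResidueField (Localization.AtPrime q))).comp φX).comp
        (e : k →+* K₀)) ∘ ⇑e.symm := by
    funext a
    simp
  rw [h4]
  exact h3.comp e.symm.bijective

section RingHom

variable {K₀ A B : Type u} [CommRing K₀] [CommRing A] [CommRing B]

/-- ring-hom form of `projective_kaehler_of_injective`, with the cotangent maps -/
theorem projective_of_cotangent
    (φY : K₀ →+* A) (φ : A →+* B) (φX : K₀ →+* B) (hcomp : φ.comp φY = φX)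
    (hfp : φ.FinitePresentation)
    (hA : letI := φY.toAlgebra; Module.Finite A Ω[A⁄K₀] ∧ Module.Projective A Ω[A⁄K₀])
    (hB : letI := φX.toAlgebra; Module.Finite B Ω[B⁄K₀] ∧ Module.Projective B Ω[B⁄K₀])
    (a n : ℕ)
    (ha : letI := φY.toAlgebra; ∀ p : PrimeSpectrum A, Module.rankAtStalk (R := A) Ω[A⁄K₀] p = a)
    (hb : letI := φX.toAlgebra;
      ∀ q : PrimeSpectrum B, Module.rankAtStalk (R := B) Ω[B⁄K₀] q = a + n)
    (H : ∀ (q : Ideal B) [q.IsMaximal],
      Function.Bijective ((algebraMap B (ResidueField (Localization.AtPrime q))).comp φX) ∧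
      ∃ (p : Ideal A) (_ : p.IsPrime) (hp : p = q.comap φ),
        ∀ a ∈ maximalIdeal (Localization.AtPrime p),
          Localization.localRingHom p q φ hp a ∈ maximalIdeal (Localization.AtPrime q) ^ 2 →
            a ∈ maximalIdeal (Localization.AtPrime p) ^ 2) :
    letI := φ.toAlgebra
    Module.Projective B Ω[B⁄A] ∧
      ∀ q : PrimeSpectrum B, Module.rankAtStalk (R := B) Ω[B⁄A] q = n := by
  algebraize [φY, φ, φX]
  haveI : IsScalarTower K₀ A B := .of_algebraMap_eq' (by
    rw [RingHom.algebraMap_toAlgebra, RingHom.algebraMap_toAlgebra, RingHom.algebraMap_toAlgebra,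
      hcomp])
  haveI := hA.1
  haveI := hA.2
  haveI := hB.1
  haveI := hB.2
  refine projective_kaehler_of_injective K₀ A B a n ha hb ?_
  intro q hq
  obtain ⟨hk, p, hpp, hp, hinj⟩ := H q
  subst hp
  letI := Localization.AtPrime.algebraOfLiesOver (q.under A) q
  haveI : IsLocalHom (algebraMap (Localization.AtPrime (q.under A)) (Localization.AtPrime q)) := by
    rw [RingHom.algebraMap_toAlgebra]; infer_instance
  have hk' : Function.Bijective (algebraMap K₀ (ResidueField (Localization.AtPrime q))) := by
    have : algebraMap K₀ (ResidueField (Localization.AtPrime q)) =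
        (algebraMap B (ResidueField (Localization.AtPrime q))).comp φX :=
      IsScalarTower.algebraMap_eq K₀ B (ResidueField (Localization.AtPrime q))
    rw [this]
    exact hk
  exact (cotInj_iff K₀ (Localization.AtPrime (q.under A)) (Localization.AtPrime q) hk').mp hinj

/-- for a formally smooth algebra the cotangent maps are injective -/
theorem injective_cotangent_of_formallySmooth
    (φY : K₀ →+* A) (φ : A →+* B) (φX : K₀ →+* B) (hcomp : φ.comp φY = φX)
    (hsm : φ.FormallySmooth) (q : Ideal B) [q.IsPrime]
    (hk : Function.Bijective ((algebraMap B (ResidueField (Localization.AtPrime q))).comp φX))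
    (p : Ideal A) [p.IsPrime] (hp : p = q.comap φ) :
    ∀ a ∈ maximalIdeal (Localization.AtPrime p),
      Localization.localRingHom p q φ hp a ∈ maximalIdeal (Localization.AtPrime q) ^ 2 →
        a ∈ maximalIdeal (Localization.AtPrime p) ^ 2 := by
  subst hp
  algebraize [φY, φ, φX]
  haveI : IsScalarTower K₀ A B := .of_algebraMap_eq' (by
    rw [RingHom.algebraMap_toAlgebra, RingHom.algebraMap_toAlgebra, RingHom.algebraMap_toAlgebra,
      hcomp])
  letI := Localization.AtPrime.algebraOfLiesOver (q.under A) q
  haveI : IsLocalHom (algebraMap (Localization.AtPrime (q.under A)) (Localization.AtPrime q)) := by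
    rw [RingHom.algebraMap_toAlgebra]; infer_instance
  haveI : Algebra.FormallySmooth A B := hsm
  haveI : Algebra.FormallyEtale A (Localization.AtPrime (q.under A)) :=
    Algebra.FormallyEtale.of_isLocalization (q.under A).primeCompl
  haveI : Algebra.FormallySmooth (Localization.AtPrime (q.under A)) (Localization.AtPrime q) :=
    (Algebra.FormallySmooth.iff_restrictScalars (R := A) (A := Localization.AtPrime (q.under A))
      (B := Localization.AtPrime q)).mp inferInstance
  have hk' : Function.Bijective (algebraMap K₀ (ResidueField (Localization.AtPrime q))) := by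
    have : algebraMap K₀ (ResidueField (Localization.AtPrime q)) =
        (algebraMap B (ResidueField (Localization.AtPrime q))).comp φX :=
      IsScalarTower.algebraMap_eq K₀ B (ResidueField (Localization.AtPrime q))
    rw [this]
    exact hk
  exact (cotInj_iff K₀ (Localization.AtPrime (q.under A)) (Localization.AtPrime q) hk').mpr
    (lTensor_injective_of_formallySmooth K₀ (Localization.AtPrime (q.under A))
      (Localization.AtPrime q) (ResidueField (Localization.AtPrime q)))

end RingHom

end Groth.Agent.Lead.OmCot
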