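import Mathlib
import Groth.Prelude
import Groth.Agent.Lib.Lead.OmCot4
import Groth.Agent.Lib.Lead.OmSm12

set_option autoImplicit false
set_option backward.isDefEq.respectTransparency.types false
set_option synthInstance.maxHeartbeats 400000
set_option linter.style.haveILetI false
set_option linter.unusedSectionVars false
universe u

open CategoryTheory CategoryTheory.Limits AlgebraicGeometry IsLocalRing Topology TopologicalSpace
open TensorProduct

namespace Groth.Agent.Lead.OmCot

open OmegaSh Groth.Agent.Lead.OmU Groth.Agent.Lead.FLF Groth.Agent.Lead.OmSm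

theorem comap_maximalIdeal_ringEquiv {R R' : Type u} [CommRing R] [CommRing R'] [IsLocalRing R]
    [IsLocalRing R'] (e : R ≃+* R') :
    (maximalIdeal R').comap (e : R →+* R') = maximalIdeal R := by
  ext a
  simp only [Ideal.mem_comap, mem_maximalIdeal, mem_nonunits_iff, RingEquiv.coe_toRingHom]
  exact not_congr (isUnit_map_iff e a)

/-- the stalk map at a point, with the trivial transport -/
theorem stalkMapAt_rfl {X Y : Scheme.{u}} (f : X ⟶ Y) (x : X) (a : Y.presheaf.stalk (f x)) :
    FixPt.stalkMapAt f x (f x) rfl a = (f.stalkMap x).hom a := by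
  unfold FixPt.stalkMapAt
  have : (Y.presheaf.stalkCongr (Inseparable.of_eq (rfl : f x = f x))).inv = 𝟙 _ := by
    simp [TopCat.Presheaf.stalkCongr]
  rw [this, Category.id_comp]

/-- injectivity of the cotangent map at a point in elementary terms -/
theorem cotangentMapAt_injective_iff {X Y : Scheme.{u}} (f : X ⟶ Y) (x : X) :
    Function.Injective (FixPt.cotangentMapAt f x (f x) rfl) ↔
      ∀ a ∈ maximalIdeal (Y.presheaf.stalk (f x)),
        (f.stalkMap x).hom a ∈ maximalIdeal (X.presheaf.stalk x) ^ 2 →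
          a ∈ maximalIdeal (Y.presheaf.stalk (f x)) ^ 2 := by
  unfold FixPt.cotangentMapAt
  rw [injective_mapCotangent_iff_forall]
  constructor
  · intro h a ha ha2
    refine h a ha ?_
    rw [RingHom.toIntAlgHom_apply, stalkMapAt_rfl]
    exact ha2
  · intro h a ha ha2
    refine h a ha ?_
    rw [RingHom.toIntAlgHom_apply, stalkMapAt_rfl] at ha2
    exact ha2

/-- transfer of the cotangent condition from stalks to localizations of sections -/
theorem cotInj_stalk_iff {X Y : Scheme.{u}} (f : X ⟶ Y) {U : Y.Opens} (hU : IsAffineOpen U)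
    {V : X.Opens} (hV : IsAffineOpen V) (e : V ≤ f ⁻¹ᵁ U) (x : X) (hx : x ∈ V) :
    (∀ a ∈ maximalIdeal (Y.presheaf.stalk (f x)),
        (f.stalkMap x).hom a ∈ maximalIdeal (X.presheaf.stalk x) ^ 2 →
          a ∈ maximalIdeal (Y.presheaf.stalk (f x)) ^ 2) ↔
    (∀ a ∈ maximalIdeal (Localization.AtPrime (hU.primeIdealOf ⟨f x, e hx⟩).asIdeal),
      Localization.localRingHom (hU.primeIdealOf ⟨f x, e hx⟩).asIdeal
        (hV.primeIdealOf ⟨x, hx⟩).asIdeal (f.appLE U V e).hom
        congr($(IsAffineOpen.comap_primeIdealOf_appLE U hU V hV e hx).1).symm a ∈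
          maximalIdeal (Localization.AtPrime (hV.primeIdealOf ⟨x, hx⟩).asIdeal) ^ 2 →
        a ∈ maximalIdeal (Localization.AtPrime (hU.primeIdealOf ⟨f x, e hx⟩).asIdeal) ^ 2) := by
  let α := IsAffineOpen.arrowStalkMapIso f U hU V hV e hx
  let eA : Y.presheaf.stalk (f x) ≅ CommRingCat.of
      (Localization.AtPrime (hU.primeIdealOf ⟨f x, e hx⟩).asIdeal) := Comma.leftIso α
  let eB : X.presheaf.stalk x ≅ CommRingCat.of
      (Localization.AtPrime (hV.primeIdealOf ⟨x, hx⟩).asIdeal) := Comma.rightIso α
  have hw : f.stalkMap x ≫ eB.hom = eA.hom ≫ CommRingCat.ofHom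
      (Localization.localRingHom (hU.primeIdealOf ⟨f x, e hx⟩).asIdeal
        (hV.primeIdealOf ⟨x, hx⟩).asIdeal (f.appLE U V e).hom
        congr($(IsAffineOpen.comap_primeIdealOf_appLE U hU V hV e hx).1).symm) := α.hom.w.symm
  have hsq : ∀ r, Localization.localRingHom (hU.primeIdealOf ⟨f x, e hx⟩).asIdeal
        (hV.primeIdealOf ⟨x, hx⟩).asIdeal (f.appLE U V e).hom
        congr($(IsAffineOpen.comap_primeIdealOf_appLE U hU V hV e hx).1).symm
        (eA.commRingCatIsoToRingEquiv r) = eB.commRingCatIsoToRingEquiv ((f.stalkMap x).hom r) := by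
    intro r
    exact (congr($(hw).hom r)).symm
  constructor
  · intro H
    refine cotInj_of_square _ _ _ _ _ (f.stalkMap x).hom eA.commRingCatIsoToRingEquiv.symm
      eB.commRingCatIsoToRingEquiv.symm ?_ (comap_maximalIdeal_ringEquiv _)
      (comap_maximalIdeal_ringEquiv _) H
    intro r
    apply eB.commRingCatIsoToRingEquiv.injective
    rw [RingEquiv.apply_symm_apply, ← hsq, RingEquiv.apply_symm_apply]
  · intro H
    exact cotInj_of_square _ _ _ _ (f.stalkMap x).hom _ eA.commRingCatIsoToRingEquiv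
      eB.commRingCatIsoToRingEquiv hsq (comap_maximalIdeal_ringEquiv _)
      (comap_maximalIdeal_ringEquiv _) H

theorem exists_of_eq {A B : Type u} [CommRing A] [CommRing B] (φ : A →+* B) (q' : Ideal B)
    [q'.IsPrime] (p : Ideal A) [p.IsPrime] (hp : p = q'.comap φ)
    (h : ∀ a ∈ maximalIdeal (Localization.AtPrime p),
      Localization.localRingHom p q' φ hp a ∈ maximalIdeal (Localization.AtPrime q') ^ 2 →
        a ∈ maximalIdeal (Localization.AtPrime p) ^ 2) (q : Ideal B) [q.IsPrime] (hq : q' = q) :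
    ∃ (p : Ideal A) (_ : p.IsPrime) (hp : p = q.comap φ),
      ∀ a ∈ maximalIdeal (Localization.AtPrime p),
        Localization.localRingHom p q φ hp a ∈ maximalIdeal (Localization.AtPrime q) ^ 2 →
          a ∈ maximalIdeal (Localization.AtPrime p) ^ 2 := by
  subst hq
  exact ⟨p, inferInstance, hp, h⟩

end Groth.Agent.Lead.OmCot
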