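import Mathlib
import Groth.Prelude
import Groth.Agent.Lib.Lead.OmCot5

set_option autoImplicit false
set_option backward.isDefEq.respectTransparency.types false
set_option synthInstance.maxHeartbeats 400000
set_option linter.style.haveILetI false
set_option linter.unusedSectionVars false
universe u

open CategoryTheory CategoryTheory.Limits AlgebraicGeometry IsLocalRing Topology TopologicalSpace
open TensorProduct

namespace Groth.Agent.Lead.OmCot

open OmegaSh Groth.Agent.Lead.OmU Groth.Agent.Lead.FLF Groth.Agent.Lead.OmSm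

/-- injective cotangent maps at closed points make the relative differentials of a morphism of
smooth varieties locally free of the expected rank -/
theorem isFinLocFreeOfRank_omega_of_cotangent (k : Type u) [Field k] [IsAlgClosed k]
    {X Y : Scheme.{u}} (qY : Y ⟶ Spec (CommRingCat.of k)) (f : X ⟶ Y)
    [IrreducibleSpace X] [QuasiSeparated (f ≫ qY)] [Smooth (f ≫ qY)]
    [IrreducibleSpace Y] [QuasiSeparated qY] [Smooth qY] [QuasiSeparated f]
    (n dY : ℕ) (hY : topologicalKrullDim ↥Y = dY)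
    (hX : topologicalKrullDim ↥X = ((dY + n : ℕ) : WithBot ℕ∞))
    (hT : ∀ x : X, IsClosed ({x} : Set X) →
      Function.Injective (FixPt.cotangentMapAt f x (f x) rfl)) :
    FlatMod.IsFinLocFreeOfRank n (Omega.sheaf f) := by
  haveI : LocallyOfFiniteType f := locallyOfFiniteType_of_comp f qY
  haveI : IsLocallyNoetherian Y := LocallyOfFiniteType.isLocallyNoetherian qY
  haveI : LocallyOfFinitePresentation f :=
    LocallyOfFinitePresentation.iff_locallyOfFiniteType.mpr inferInstance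
  haveI : JacobsonSpace X := LocallyOfFiniteType.jacobsonSpace (f ≫ qY)
  have htop : IsAffineOpen (⊤ : (Spec (CommRingCat.of k)).Opens) := isAffineOpen_top _
  have key : ∀ {U : Y.Opens} (hU : IsAffineOpen U) {V : X.Opens} (hV : IsAffineOpen V)
      (e : V ≤ f ⁻¹ᵁ U), letI := (f.appLE U V e).hom.toAlgebra
      Module.Projective Γ(X, V) Ω[Γ(X, V)⁄Γ(Y, U)] ∧
        ∀ q : PrimeSpectrum Γ(X, V),
          Module.rankAtStalk (R := Γ(X, V)) Ω[Γ(X, V)⁄Γ(Y, U)] q = n := by
    intro U hU V hV e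
    have eY : U ≤ qY ⁻¹ᵁ ⊤ := fun _ _ => trivial
    have eX : V ≤ (f ≫ qY) ⁻¹ᵁ ⊤ := fun _ _ => trivial
    have hcomp : (f.appLE U V e).hom.comp (qY.appLE ⊤ U eY).hom =
        ((f ≫ qY).appLE ⊤ V eX).hom := by
      rw [← CommRingCat.hom_comp, Scheme.Hom.appLE_comp_appLE]
    obtain ⟨a1, a2, a3⟩ := rank_kaehler_of_isFinLocFreeOfRank qY (Omega.sheaf qY) (dOmega qY)
      (isUniversal_dOmega qY) dY (isFinLocFreeOfRank_omega_of_smooth k qY dY hY) htop hU eY
    obtain ⟨b1, b2, b3⟩ := rank_kaehler_of_isFinLocFreeOfRank (f ≫ qY) (Omega.sheaf (f ≫ qY))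
      (dOmega (f ≫ qY)) (isUniversal_dOmega (f ≫ qY)) (dY + n)
      (isFinLocFreeOfRank_omega_of_smooth k (f ≫ qY) (dY + n) hX) htop hV eX
    refine projective_of_cotangent (qY.appLE ⊤ U eY).hom (f.appLE U V e).hom
      ((f ≫ qY).appLE ⊤ V eX).hom hcomp (f.finitePresentation_appLE hU hV e) ⟨a1, a2⟩ ⟨b1, b2⟩
      dY n a3 b3 ?_
    intro q hq
    let y : PrimeSpectrum Γ(X, V) := ⟨q, inferInstance⟩
    have hxV : hV.fromSpec y ∈ V := SD.fromSpec_mem hV y
    have hxcl : IsClosed ({hV.fromSpec y} : Set X) := by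
      have h1 : y ∈ closedPoints (Spec Γ(X, V)) :=
        (PrimeSpectrum.isClosed_singleton_iff_isMaximal y).mpr hq
      rw [← hV.fromSpec.isOpenEmbedding.preimage_closedPoints] at h1
      exact h1
    have hq' : (hV.primeIdealOf ⟨hV.fromSpec y, hxV⟩).asIdeal = q :=
      congrArg PrimeSpectrum.asIdeal (SD.primeIdealOf_fromSpec hV y)
    refine ⟨bijective_residueField_of_isAlgClosed
      (Scheme.ΓSpecIso (CommRingCat.of k)).symm.commRingCatIsoToRingEquiv
      ((f ≫ qY).appLE ⊤ V eX).hom ((f ≫ qY).finiteType_appLE htop hV eX) q, ?_⟩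
    have h1 := (cotInj_stalk_iff f hU hV e (hV.fromSpec y) hxV).mp
      ((cotangentMapAt_injective_iff f (hV.fromSpec y)).mp (hT _ hxcl))
    exact exists_of_eq _ _ _ _ h1 q hq'
  haveI := isQuasicoherent_of_universal (dOmega f) (isUniversal_dOmega f)
  have hM : FlatMod.IsFinLocFree (Omega.sheaf f) := by
    apply isFinLocFree_of_affine_nhds
    intro x
    obtain ⟨_, ⟨U, hU, rfl⟩, hxU, -⟩ := Y.isBasis_affineOpens.exists_subset_of_mem_open
      (Set.mem_univ (f x)) isOpen_univ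
    obtain ⟨_, ⟨V, hV, rfl⟩, hxV, hVU⟩ := X.isBasis_affineOpens.exists_subset_of_mem_open
      (show x ∈ f ⁻¹ᵁ U from hxU) (f ⁻¹ᵁ U).2
    obtain ⟨h1, h2⟩ := key hU hV hVU
    have E := sectionsKaehler f (dOmega f) (isUniversal_dOmega f) hV hU hVU
    letI := (f.appLE U V hVU).hom.toAlgebra
    haveI : Algebra.FinitePresentation Γ(Y, U) Γ(X, V) := f.finitePresentation_appLE hU hV hVU
    exact ⟨V, hV, hxV, Module.Finite.equiv E.symm, Module.Projective.of_equiv E.symm⟩
  intro x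
  obtain ⟨W, m, hxW, ⟨eW⟩⟩ := hM x
  obtain ⟨_, ⟨U, hU, rfl⟩, hxU, -⟩ := Y.isBasis_affineOpens.exists_subset_of_mem_open
    (Set.mem_univ (f x)) isOpen_univ
  obtain ⟨_, ⟨V, hV, rfl⟩, hxV, hVU⟩ := X.isBasis_affineOpens.exists_subset_of_mem_open
    (show x ∈ f ⁻¹ᵁ U from hxU) (f ⁻¹ᵁ U).2
  have r1 := rankAtStalk_of_free_nhds (Omega.sheaf f) hM hV ⟨x, hxV⟩ W hxW m eW
  have E := sectionsKaehler f (dOmega f) (isUniversal_dOmega f) hV hU hVU
  rw [Module.rankAtStalk_eq_of_equiv E, (key hU hV hVU).2] at r1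
  subst r1
  exact ⟨W, hxW, ⟨eW⟩⟩

/-- for a smooth morphism of varieties over an algebraically closed field the cotangent maps at
closed points are injective -/
theorem cotangent_injective_of_smooth (k : Type u) [Field k] [IsAlgClosed k]
    {X Y : Scheme.{u}} (qY : Y ⟶ Spec (CommRingCat.of k)) (f : X ⟶ Y)
    [LocallyOfFiniteType (f ≫ qY)] [Smooth f] (x : X) (hx : IsClosed ({x} : Set X)) :
    Function.Injective (FixPt.cotangentMapAt f x (f x) rfl) := by
  rw [cotangentMapAt_injective_iff]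
  have htop : IsAffineOpen (⊤ : (Spec (CommRingCat.of k)).Opens) := isAffineOpen_top _
  obtain ⟨_, ⟨U, hU, rfl⟩, hxU, -⟩ := Y.isBasis_affineOpens.exists_subset_of_mem_open
    (Set.mem_univ (f x)) isOpen_univ
  obtain ⟨_, ⟨V, hV, rfl⟩, hxV, hVU⟩ := X.isBasis_affineOpens.exists_subset_of_mem_open
    (show x ∈ f ⁻¹ᵁ U from hxU) (f ⁻¹ᵁ U).2
  rw [cotInj_stalk_iff f hU hV hVU x hxV]
  have eY : U ≤ qY ⁻¹ᵁ ⊤ := fun _ _ => trivial
  have eX : V ≤ (f ≫ qY) ⁻¹ᵁ ⊤ := fun _ _ => trivial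
  have hcomp : (f.appLE U V hVU).hom.comp (qY.appLE ⊤ U eY).hom =
      ((f ≫ qY).appLE ⊤ V eX).hom := by
    rw [← CommRingCat.hom_comp, Scheme.Hom.appLE_comp_appLE]
  haveI := hV.primeIdealOf_isMaximal_of_isClosed ⟨x, hxV⟩ hx
  exact injective_cotangent_of_formallySmooth (qY.appLE ⊤ U eY).hom (f.appLE U V hVU).hom
    ((f ≫ qY).appLE ⊤ V eX).hom hcomp (f.smooth_appLE hU hV hVU).formallySmooth _
    (bijective_residueField_of_isAlgClosed
      (Scheme.ΓSpecIso (CommRingCat.of k)).symm.commRingCatIsoToRingEquiv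
      ((f ≫ qY).appLE ⊤ V eX).hom ((f ≫ qY).finiteType_appLE htop hV eX) _) _ _

end Groth.Agent.Lead.OmCot
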