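import Mathlib
import Groth.Prelude
import Groth.Agent.Lib.Lead.OmCot6

set_option autoImplicit false
set_option backward.isDefEq.respectTransparency.types false
set_option synthInstance.maxHeartbeats 400000
set_option linter.style.haveILetI false
set_option linter.unusedSectionVars false
universe u

open CategoryTheory CategoryTheory.Limits AlgebraicGeometry IsLocalRing Topology TopologicalSpace
open TensorProduct

namespace Groth.Agent.Lead.OmCot

open OmegaSh Groth.Agent.Lead.OmU Groth.Agent.Lead.FLF Groth.Agent.Lead.OmSm

/-- S10936 -/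
theorem S10936_main (k : Type u) [Field k] [IsAlgClosed k]
    {X Y : Scheme.{u}} (qX : X ⟶ Spec (CommRingCat.of k)) (qY : Y ⟶ Spec (CommRingCat.of k))
    [IsIntegral X] [IsSeparated qX] [Smooth qX]
    [IsIntegral Y] [IsSeparated qY] [Smooth qY]
    (f : X ⟶ Y) (hf : f ≫ qY = qX) (n dY : ℕ) (hY : topologicalKrullDim ↥Y = dY)
    (hX : topologicalKrullDim ↥X = ((dY + n : ℕ) : WithBot ℕ∞)) :
    SmoothOfRelativeDimension n f ↔
      ∀ x : X, IsClosed ({x} : Set ↥X) →
        Function.Injective (FixPt.cotangentMapAt f x (f.base x) rfl) := by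
  subst hf
  haveI : IsSeparated f := IsSeparated.of_comp f qY
  constructor
  · intro h x hx
    haveI : Smooth f := SmoothOfRelativeDimension.smooth n f
    exact cotangent_injective_of_smooth k qY f x hx
  · intro hT
    exact (S10937_main k (f ≫ qY) qY f rfl n dY hY hX).mpr
      (isFinLocFreeOfRank_omega_of_cotangent k qY f n dY hY hX hT)

end Groth.Agent.Lead.OmCot
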