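import Mathlib
import Groth.Prelude
import Groth.Agent.Lib.Lead.OmCot7
import Groth.Agent.Lib.Helper4.FlatDimK1

set_option autoImplicit false
set_option backward.isDefEq.respectTransparency.types false
set_option synthInstance.maxHeartbeats 400000
set_option linter.style.haveILetI false
set_option linter.unusedSectionVars false
universe u

open CategoryTheory CategoryTheory.Limits AlgebraicGeometry IsLocalRing Topology TopologicalSpace
open TensorProduct

namespace Groth.Agent.Lead.OmCot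

open OmegaSh Groth.Agent.Lead.OmU Groth.Agent.Lead.FLF Groth.Agent.Lead.OmSm

section RingHom

variable {K₀ A B : Type u} [CommRing K₀] [CommRing A] [CommRing B]

/-- an injective cotangent map forces the ranks of differentials to increase -/
theorem rank_le_of_cotangent
    (φY : K₀ →+* A) (φ : A →+* B) (φX : K₀ →+* B) (hcomp : φ.comp φY = φX)
    (hA : letI := φY.toAlgebra; Module.Finite A Ω[A⁄K₀] ∧ Module.Projective A Ω[A⁄K₀])
    (hB : letI := φX.toAlgebra; Module.Finite B Ω[B⁄K₀] ∧ Module.Projective B Ω[B⁄K₀])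
    (a b : ℕ)
    (ha : letI := φY.toAlgebra; ∀ p : PrimeSpectrum A, Module.rankAtStalk (R := A) Ω[A⁄K₀] p = a)
    (hb : letI := φX.toAlgebra; ∀ q : PrimeSpectrum B, Module.rankAtStalk (R := B) Ω[B⁄K₀] q = b)
    (q : Ideal B) [q.IsPrime]
    (hk : Function.Bijective ((algebraMap B (ResidueField (Localization.AtPrime q))).comp φX))
    (p : Ideal A) [p.IsPrime] (hp : p = q.comap φ)
    (hinj : ∀ a ∈ maximalIdeal (Localization.AtPrime p),
      Localization.localRingHom p q φ hp a ∈ maximalIdeal (Localization.AtPrime q) ^ 2 →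
        a ∈ maximalIdeal (Localization.AtPrime p) ^ 2) : a ≤ b := by
  subst hp
  algebraize [φY, φ, φX]
  haveI : IsScalarTower K₀ A B := .of_algebraMap_eq' (by
    rw [RingHom.algebraMap_toAlgebra, RingHom.algebraMap_toAlgebra, RingHom.algebraMap_toAlgebra,
      hcomp])
  haveI := hA.1
  haveI := hA.2
  haveI := hB.1
  haveI := hB.2
  letI := Localization.AtPrime.algebraOfLiesOver (q.under A) q
  haveI : IsLocalHom (algebraMap (Localization.AtPrime (q.under A)) (Localization.AtPrime q)) := by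
    rw [RingHom.algebraMap_toAlgebra]; infer_instance
  have hk' : Function.Bijective (algebraMap K₀ (ResidueField (Localization.AtPrime q))) := by
    have : algebraMap K₀ (ResidueField (Localization.AtPrime q)) =
        (algebraMap B (ResidueField (Localization.AtPrime q))).comp φX :=
      IsScalarTower.algebraMap_eq K₀ B (ResidueField (Localization.AtPrime q))
    rw [this]
    exact hk
  obtain ⟨-, h2⟩ := mem_freeLocus_kaehler K₀ A B (q.under A) q
    ((cotInj_iff K₀ (Localization.AtPrime (q.under A)) (Localization.AtPrime q) hk').mp hinj)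
  rw [ha, hb] at h2
  omega

end RingHom

/-- an injective cotangent map at a closed point bounds the dimension of the target -/
theorem dim_le_of_cotangent (k : Type u) [Field k] [IsAlgClosed k]
    {X Y : Scheme.{u}} (qY : Y ⟶ Spec (CommRingCat.of k)) (f : X ⟶ Y)
    [IrreducibleSpace X] [QuasiSeparated (f ≫ qY)] [Smooth (f ≫ qY)]
    [IrreducibleSpace Y] [QuasiSeparated qY] [Smooth qY]
    (dX dY : ℕ) (hY : topologicalKrullDim ↥Y = dY) (hX : topologicalKrullDim ↥X = dX)
    (x : X) (hx : IsClosed ({x} : Set X))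
    (hT : Function.Injective (FixPt.cotangentMapAt f x (f x) rfl)) : dY ≤ dX := by
  have htop : IsAffineOpen (⊤ : (Spec (CommRingCat.of k)).Opens) := isAffineOpen_top _
  obtain ⟨_, ⟨U, hU, rfl⟩, hxU, -⟩ := Y.isBasis_affineOpens.exists_subset_of_mem_open
    (Set.mem_univ (f x)) isOpen_univ
  obtain ⟨_, ⟨V, hV, rfl⟩, hxV, hVU⟩ := X.isBasis_affineOpens.exists_subset_of_mem_open
    (show x ∈ f ⁻¹ᵁ U from hxU) (f ⁻¹ᵁ U).2
  have eY : U ≤ qY ⁻¹ᵁ ⊤ := fun _ _ => trivial
  have eX : V ≤ (f ≫ qY) ⁻¹ᵁ ⊤ := fun _ _ => trivial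
  have hcomp : (f.appLE U V hVU).hom.comp (qY.appLE ⊤ U eY).hom =
      ((f ≫ qY).appLE ⊤ V eX).hom := by
    rw [← CommRingCat.hom_comp, Scheme.Hom.appLE_comp_appLE]
  obtain ⟨a1, a2, a3⟩ := rank_kaehler_of_isFinLocFreeOfRank qY (Omega.sheaf qY) (dOmega qY)
    (isUniversal_dOmega qY) dY (isFinLocFreeOfRank_omega_of_smooth k qY dY hY) htop hU eY
  obtain ⟨b1, b2, b3⟩ := rank_kaehler_of_isFinLocFreeOfRank (f ≫ qY) (Omega.sheaf (f ≫ qY))
    (dOmega (f ≫ qY)) (isUniversal_dOmega (f ≫ qY)) dX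
    (isFinLocFreeOfRank_omega_of_smooth k (f ≫ qY) dX hX) htop hV eX
  haveI := hV.primeIdealOf_isMaximal_of_isClosed ⟨x, hxV⟩ hx
  exact rank_le_of_cotangent (qY.appLE ⊤ U eY).hom (f.appLE U V hVU).hom
    ((f ≫ qY).appLE ⊤ V eX).hom hcomp ⟨a1, a2⟩ ⟨b1, b2⟩ dY dX a3 b3 _
    (bijective_residueField_of_isAlgClosed
      (Scheme.ΓSpecIso (CommRingCat.of k)).symm.commRingCatIsoToRingEquiv
      ((f ≫ qY).appLE ⊤ V eX).hom ((f ≫ qY).finiteType_appLE htop hV eX) _) _ _
    ((cotInj_stalk_iff f hU hV hVU x hxV).mp ((cotangentMapAt_injective_iff f x).mp hT))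

theorem withBot_cancel (D : WithBot ℕ∞) (a b : ℕ) (h : D + (a : WithBot ℕ∞) = (b : WithBot ℕ∞)) :
    D = ((b - a : ℕ) : WithBot ℕ∞) := by
  induction D using WithBot.recBotCoe with
  | bot => rw [WithBot.bot_add] at h; exact absurd h (by simp)
  | coe D =>
    induction D using ENat.recTopCoe with
    | top =>
      exfalso
      have h1 : ((⊤ : ℕ∞) : WithBot ℕ∞) + ((a : ℕ∞) : WithBot ℕ∞) = ((b : ℕ∞) : WithBot ℕ∞) := h
      rw [← WithBot.coe_add, WithBot.coe_inj, top_add] at h1
      exact ENat.top_ne_coe _ h1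
    | coe m =>
      have h1 : (((m : ℕ∞) + (a : ℕ∞) : ℕ∞) : WithBot ℕ∞) = ((b : ℕ∞) : WithBot ℕ∞) := h
      rw [WithBot.coe_inj] at h1
      have h2 : m + a = b := by exact_mod_cast h1
      have : m = b - a := by omega
      rw [this]
      rfl

/-- S19460 -/
theorem S19460_main (k : Type u) [Field k] [IsAlgClosed k]
    {X Y : Scheme.{u}} (qX : X ⟶ Spec (CommRingCat.of k)) (qY : Y ⟶ Spec (CommRingCat.of k))
    [AlgebraicGeometry.IsIntegral X] [IsSeparated qX] [Smooth qX]
    [AlgebraicGeometry.IsIntegral Y] [IsSeparated qY] [Smooth qY]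
    (f : X ⟶ Y) (hf : f ≫ qY = qX) (dX dY : ℕ) (hX : topologicalKrullDim ↥X = dX)
    (hY : topologicalKrullDim ↥Y = dY)
    (hT : ∀ x : X, IsClosed ({x} : Set ↥X) →
      Function.Injective (FixPt.cotangentMapAt f x (f.base x) rfl)) :
    DenseRange f.base ∧ dY ≤ dX ∧
      ∀ y : Y, IsClosed ({y} : Set ↥Y) → y ∈ Set.range f.base →
        Smooth (f.fiberToSpecResidueField y) ∧
          ∀ Z ∈ irreducibleComponents ↥(f.fiber y),
            topologicalKrullDim ↥Z = ((dX - dY : ℕ) : WithBot ℕ∞) := by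
  subst hf
  haveI : JacobsonSpace X := LocallyOfFiniteType.jacobsonSpace (f ≫ qY)
  obtain ⟨x₀, -, hx₀⟩ := nonempty_inter_closedPoints (X := X) (Z := Set.univ) Set.univ_nonempty
    isOpen_univ.isLocallyClosed
  have hle : dY ≤ dX := dim_le_of_cotangent k qY f dX dY hY hX x₀ hx₀ (hT x₀ hx₀)
  have hX' : topologicalKrullDim ↥X = ((dY + (dX - dY) : ℕ) : WithBot ℕ∞) := by
    rw [hX, Nat.add_sub_cancel' hle]
  have hsm : SmoothOfRelativeDimension (dX - dY) f :=
    (S10936_main k (f ≫ qY) qY f rfl (dX - dY) dY hY hX').mpr hT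
  haveI : Smooth f := SmoothOfRelativeDimension.smooth (dX - dY) f
  refine ⟨?_, hle, ?_⟩
  · exact (f.isOpenMap.isOpen_range.dense (Set.range_nonempty _))
  · intro y _ _
    refine ⟨?_, ?_⟩
    · exact MorphismProperty.pullback_snd (P := @Smooth) _ _ inferInstance
    · intro Z hZ
      have h := (Groth.Agent.Lib.Helper4.FlatDimK1.S14404_main k (f ≫ qY) qY f rfl).2 y Z hZ
      rw [hX, hY] at h
      exact withBot_cancel _ dY dX h

end Groth.Agent.Lead.OmCot
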