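import Mathlib
import Groth.Prelude
import Groth.Agent.S2063
import Groth.Agent.Lib.Helper4.StalkEtale1

set_option autoImplicit false
set_option backward.isDefEq.respectTransparency.types false
set_option synthInstance.maxHeartbeats 400000
set_option linter.style.haveILetI false
set_option linter.unusedSectionVars false
universe u

open CategoryTheory CategoryTheory.Limits AlgebraicGeometry IsLocalRing Topology TopologicalSpace
open TensorProduct

namespace Groth.Agent.Lead.OmSm

variable {A B : Type u} [CommRing A] [CommRing B] [Algebra A B]

set_option backward.isDefEq.respectTransparency false in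
/-- residue field tensor a local algebra is the quotient -/
noncomputable def residueTensorEquiv (R S : Type u) [CommRing R] [CommRing S] [Algebra R S]
    [IsLocalRing R] :
    ResidueField R ⊗[R] S ≃ₐ[R] S ⧸ (maximalIdeal R).map (algebraMap R S) :=
  (Algebra.TensorProduct.comm _ _ _).trans
    ((Algebra.TensorProduct.quotIdealMapEquivTensorQuot S (maximalIdeal R)).symm.restrictScalars _)

open Algebra.TensorProduct in
theorem formallySmooth_residue_tensor_of_fiber (p : Ideal A) [p.IsPrime]
    (Q : Ideal (p.Fiber B)) [Q.IsPrime]
    (h : Algebra.FormallySmooth p.ResidueField (Localization.AtPrime Q)) :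
    letI := Localization.AtPrime.algebraOfLiesOver p (Q.comap includeRight)
    Algebra.FormallySmooth (ResidueField (Localization.AtPrime p))
      (ResidueField (Localization.AtPrime p) ⊗[Localization.AtPrime p]
        Localization.AtPrime (Q.comap includeRight)) := by
  letI := Localization.AtPrime.algebraOfLiesOver p (Q.comap includeRight)
  let e1 := Ideal.Fiber.localizationAlgEquivQuotient p Q
  let e2 := residueTensorEquiv (Localization.AtPrime p) (Localization.AtPrime (Q.comap includeRight))
  have hI : (maximalIdeal (Localization.AtPrime p)).map
      (algebraMap (Localization.AtPrime p) (Localization.AtPrime (Q.comap includeRight))) =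
      p.map (algebraMap A (Localization.AtPrime (Q.comap includeRight))) := by
    rw [← Localization.AtPrime.map_eq_maximalIdeal, Ideal.map_map, ← IsScalarTower.algebraMap_eq]
  let e3 : ResidueField (Localization.AtPrime p) ⊗[Localization.AtPrime p]
        Localization.AtPrime (Q.comap includeRight) ≃ₐ[Localization.AtPrime p] Localization.AtPrime Q :=
    (e2.trans (Ideal.quotientEquivAlgOfEq (Localization.AtPrime p) hI)).trans e1.symm
  let e4 : ResidueField (Localization.AtPrime p) ⊗[Localization.AtPrime p]
        Localization.AtPrime (Q.comap includeRight) ≃ₐ[ResidueField (Localization.AtPrime p)]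
        Localization.AtPrime Q :=
    { e3 with
      commutes' := fun r => by
        obtain ⟨a, rfl⟩ := IsLocalRing.residue_surjective r
        have h1 : algebraMap (ResidueField (Localization.AtPrime p))
            (ResidueField (Localization.AtPrime p) ⊗[Localization.AtPrime p]
              Localization.AtPrime (Q.comap includeRight)) (IsLocalRing.residue _ a) =
            algebraMap (Localization.AtPrime p) _ a := by
          rw [IsScalarTower.algebraMap_apply (Localization.AtPrime p)
            (ResidueField (Localization.AtPrime p))]
          rfl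
        have h2 : algebraMap (ResidueField (Localization.AtPrime p))
            (Localization.AtPrime Q) (IsLocalRing.residue _ a) =
            algebraMap (Localization.AtPrime p) _ a := by
          rw [IsScalarTower.algebraMap_apply (Localization.AtPrime p)
            (ResidueField (Localization.AtPrime p))]
          rfl
        change e3 _ = _
        rw [h1, h2]
        exact e3.commutes a }
  exact Algebra.FormallySmooth.of_equiv (A := Localization.AtPrime Q) e4.symm


section
attribute [local instance] Algebra.TensorProduct.rightAlgebra

/-- the differentials of the fibre ring are free of the same rank -/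
theorem free_kaehler_fiber (p : Ideal A) [p.IsPrime] [Module.Free B Ω[B⁄A]]
    [Module.Finite B Ω[B⁄A]] [Nontrivial (p.Fiber B)] :
    Module.Free (p.Fiber B) Ω[p.Fiber B⁄p.ResidueField] ∧
    Module.Finite (p.Fiber B) Ω[p.Fiber B⁄p.ResidueField] ∧
    Module.finrank (p.Fiber B) Ω[p.Fiber B⁄p.ResidueField] = Module.finrank B Ω[B⁄A] := by
  have E := KaehlerDifferential.tensorKaehlerEquiv A p.ResidueField B (p.Fiber B)
  haveI : Nontrivial B := (algebraMap B (p.Fiber B)).domain_nontrivial
  refine ⟨Module.Free.of_equiv E, Module.Finite.equiv E, ?_⟩
  rw [← E.finrank_eq, Module.finrank_baseChange]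

end

/-- the fibre is smooth at a point where the differentials are free of rank the local dimension -/
theorem isSmoothAt_fiber_of_free (p : Ideal A) [p.IsPrime] [Algebra.FiniteType A B]
    [Module.Free B Ω[B⁄A]] [Module.Finite B Ω[B⁄A]]
    (Q : Ideal (p.Fiber B)) [Q.IsPrime]
    (hdim : ((Module.finrank B Ω[B⁄A] : ℕ∞) : WithBot ℕ∞) ≤
      FlatMor.localDim (PrimeSpectrum (p.Fiber B)) ⟨Q, inferInstance⟩) :
    Algebra.IsSmoothAt p.ResidueField Q := by
  haveI : Nontrivial (p.Fiber B) := (⟨Q, inferInstance⟩ : PrimeSpectrum (p.Fiber B)).nontrivial
  obtain ⟨h1, h2, h3⟩ := free_kaehler_fiber (B := B) p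
  rw [Groth.Agent.S2063.result]
  have : Module.finrank Q.ResidueField (Q.ResidueField ⊗[p.Fiber B] Ω[p.Fiber B⁄p.ResidueField]) =
      Module.finrank B Ω[B⁄A] := by
    rw [Module.finrank_baseChange, h3]
  rw [this]
  exact hdim

open Algebra.TensorProduct in
/-- **flat, with free differentials of rank the fibre dimension, implies smooth** -/
theorem isSmoothAt_of_flat_of_free [Algebra.FinitePresentation A B] (p : Ideal A) [p.IsPrime]
    (q : Ideal B) [q.IsPrime] [q.LiesOver p]
    [Module.Free B Ω[B⁄A]] [Module.Finite B Ω[B⁄A]]
    (hflat : letI := Localization.AtPrime.algebraOfLiesOver p q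
      Module.Flat (Localization.AtPrime p) (Localization.AtPrime q))
    (Q : Ideal (p.Fiber B)) [Q.IsPrime] (hQ : Q.comap includeRight = q)
    (hdim : ((Module.finrank B Ω[B⁄A] : ℕ∞) : WithBot ℕ∞) ≤
      FlatMor.localDim (PrimeSpectrum (p.Fiber B)) ⟨Q, inferInstance⟩) :
    Algebra.IsSmoothAt A q := by
  subst hQ
  have h1 : Algebra.FormallySmooth p.ResidueField (Localization.AtPrime Q) :=
    isSmoothAt_fiber_of_free p Q hdim
  have h2 := formallySmooth_residue_tensor_of_fiber p Q h1
  exact Groth.Agent.Lib.Helper4.StalkEtale1.isSmoothAt_of_flat_of_formallySmooth_fiber p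
    (Q.comap includeRight) hflat h2

end Groth.Agent.Lead.OmSm
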