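import Mathlib
import Groth.Prelude
import Groth.Agent.Lib.Lead.OmSm1
import Groth.Agent.Lib.Lead.OmU5
import Groth.Agent.Lib.Lead.FLF6
import Groth.Agent.Lib.Helper4.Chev2

set_option autoImplicit false
set_option backward.isDefEq.respectTransparency.types false
set_option synthInstance.maxHeartbeats 400000
set_option linter.style.haveILetI false
set_option linter.unusedSectionVars false
universe u

open CategoryTheory CategoryTheory.Limits AlgebraicGeometry IsLocalRing Topology TopologicalSpace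
open TensorProduct

namespace Groth.Agent.Lead.OmSm

open OmegaSh Groth.Agent.Lead.OmU Groth.Agent.Lead.FLF

/-- flat at `x`, differentials free near `x` of rank the fibre dimension: smooth at `x` -/
theorem mem_smoothLocus_of_flat_of_free {X Y : Scheme.{u}} (f : X ⟶ Y)
    [LocallyOfFinitePresentation f]
    (Ω' : X.Modules) (d : OmegaSh.Der f Ω') (hd : OmegaSh.IsUniversal d) (x : X)
    (hflat : (f.stalkMap x).hom.Flat) (U : X.Opens) (n : ℕ) (hxU : x ∈ U)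
    (e : Ω'.restrict U.ι ≅ FlatMod.freeMod (↑U) n)
    (hn : FlatMor.fibreDimAt f x = (n : WithBot ℕ∞)) :
    x ∈ f.smoothLocus := by
  classical
  obtain ⟨_, ⟨VY, hVY, rfl⟩, hxVY, -⟩ :=
    Y.isBasis_affineOpens.exists_subset_of_mem_open (Set.mem_univ (f x)) isOpen_univ
  obtain ⟨_, ⟨V, hV, rfl⟩, hxV, hVle⟩ :=
    X.isBasis_affineOpens.exists_subset_of_mem_open
      (show x ∈ (U ⊓ f ⁻¹ᵁ VY : X.Opens) from ⟨hxU, hxVY⟩) (U ⊓ f ⁻¹ᵁ VY).2
  have hVU : V ≤ U := fun y hy => (hVle hy).1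
  have eV : V ≤ f ⁻¹ᵁ VY := fun y hy => (hVle hy).2
  have hfp := f.finitePresentation_appLE hVY hV eV
  rw [Scheme.Hom.mem_smoothLocus, formallySmooth_stalkMap_iff VY hVY V hV eV hxV]
  algebraize [(f.appLE VY V eV).hom]
  have E1 := sectionsKaehler f d hd hV hVY eV
  have E2 := sectionsFreeEquiv hV Ω' n (freeOfLE hVU Ω' n e)
  have E := E1.symm ≪≫ₗ E2
  haveI : Nontrivial Γ(X, V) := by
    haveI : Nonempty ↥V := ⟨⟨x, hxV⟩⟩
    infer_instance
  haveI : Module.Free Γ(X, V) Ω[Γ(X, V)⁄Γ(Y, VY)] := Module.Free.of_equiv E.symm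
  haveI : Module.Finite Γ(X, V) Ω[Γ(X, V)⁄Γ(Y, VY)] := Module.Finite.equiv E.symm
  have hrank : Module.finrank Γ(X, V) Ω[Γ(X, V)⁄Γ(Y, VY)] = n := by
    rw [E.finrank_eq]
    simp
  have hpq : (hV.primeIdealOf ⟨x, hxV⟩).asIdeal.LiesOver (hVY.primeIdealOf ⟨f x, eV hxV⟩).asIdeal :=
    ⟨congr($(IsAffineOpen.comap_primeIdealOf_appLE VY hVY V hV eV hxV).1).symm⟩
  letI := Localization.AtPrime.algebraOfLiesOver (hVY.primeIdealOf ⟨f x, eV hxV⟩).asIdeal
    (hV.primeIdealOf ⟨x, hxV⟩).asIdeal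
  have hfl : Module.Flat (Localization.AtPrime (hVY.primeIdealOf ⟨f x, eV hxV⟩).asIdeal)
      (Localization.AtPrime (hV.primeIdealOf ⟨x, hxV⟩).asIdeal) := by
    rw [← RingHom.flat_algebraMap_iff]
    exact (RingHom.Flat.respectsIso.arrow_mk_iso_iff
      (IsAffineOpen.arrowStalkMapIso f VY hVY V hV eV hxV)).mp hflat
  -- the prime of the fibre ring
  let q0 : PrimeSpectrum.comap (algebraMap Γ(Y, VY) Γ(X, V)) ⁻¹' {hVY.primeIdealOf ⟨f x, eV hxV⟩} :=
    ⟨hV.primeIdealOf ⟨x, hxV⟩, PrimeSpectrum.ext hpq.over.symm⟩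
  let Q := PrimeSpectrum.preimageEquivFiber Γ(Y, VY) Γ(X, V) (hVY.primeIdealOf ⟨f x, eV hxV⟩) q0
  have hQ : Q.asIdeal.comap Algebra.TensorProduct.includeRight.toRingHom =
      (hV.primeIdealOf ⟨x, hxV⟩).asIdeal := by
    have := (PrimeSpectrum.preimageEquivFiber Γ(Y, VY) Γ(X, V)
      (hVY.primeIdealOf ⟨f x, eV hxV⟩)).symm_apply_apply q0
    exact congr($(this).1.asIdeal)
  have hdim := Groth.Agent.Lib.Helper4.Chev2.fibreDimAt_eq_localDim_fiberRing f x hV hVY eV hxV Q hQ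
  refine isSmoothAt_of_flat_of_free (hVY.primeIdealOf ⟨f x, eV hxV⟩).asIdeal
    (hV.primeIdealOf ⟨x, hxV⟩).asIdeal hfl Q.asIdeal hQ ?_
  rw [hrank, ← hdim, hn]
  rfl

end Groth.Agent.Lead.OmSm
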