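import Mathlib
import Groth.Prelude
import Groth.Agent.Lib.Lead.OmU5
import Groth.Agent.Lib.Lead.FLF6
import Groth.Agent.Lib.Helper2.Sch.SmoothOmegaRank

set_option autoImplicit false
set_option backward.isDefEq.respectTransparency.types false
set_option synthInstance.maxHeartbeats 400000
set_option linter.style.haveILetI false
set_option linter.unusedSectionVars false
universe u

open CategoryTheory CategoryTheory.Limits AlgebraicGeometry IsLocalRing Topology TopologicalSpace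
open TensorProduct

namespace Groth.Agent.Lead.OmSm

open OmegaSh Groth.Agent.Lead.OmU Groth.Agent.Lead.FLF Scheme.Modules Groth.Agent.Helper1

/-- a quasi-coherent module with free sections over an affine open is free on it -/
theorem nonempty_restrict_iso_free {X : Scheme.{u}} (M : X.Modules) [M.IsQuasicoherent]
    {V : X.Opens} (hV : IsAffineOpen V) (n : ℕ)
    (E : Γ(M, V) ≃ₗ[Γ(X, V)] (ULift.{u} (Fin n) →₀ Γ(X, V))) :
    Nonempty (M.restrict V.ι ≅ FlatMod.freeMod (↑V) n) := by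
  haveI : IsIso (M.restrict hV.fromSpec).fromTildeΓ := inferInstance
  let G : ModuleCat.{u} Γ(X, V) :=
    (modulesSpecToSheaf.obj (M.restrict hV.fromSpec)).presheaf.obj (.op ⊤)
  have e : tilde G ≅ M.restrict hV.fromSpec := asIso (M.restrict hV.fromSpec).fromTildeΓ
  let L : G ≃ₗ[Γ(X, V)] (ULift.{u} (Fin n) →₀ Γ(X, V)) := (sectionsLinearEquiv hV M) ≪≫ₗ E
  have e2 : tilde G ≅ FlatMod.freeMod (Spec Γ(X, V)) n :=
    tildeCongr L.toModuleIso ≪≫ tildeFreeIso Γ(X, V) n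
  have h : hV.isoSpec.hom ≫ hV.fromSpec = V.ι := by
    unfold IsAffineOpen.fromSpec
    exact Iso.hom_inv_id_assoc _ _
  exact ⟨freeOfComp hV.isoSpec.hom hV.fromSpec V.ι h M n (e.symm ≪≫ e2)⟩

/-- at a smooth point there is a standard smooth chart -/
theorem exists_affine_standardSmooth_of_mem {X Y : Scheme.{u}} (f : X ⟶ Y)
    [LocallyOfFinitePresentation f] (x : X) (hx : x ∈ f.smoothLocus) :
    ∃ (U : Y.Opens) (_ : IsAffineOpen U) (V : X.Opens) (_ : IsAffineOpen V) (_ : x ∈ V)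
      (e : V ≤ f ⁻¹ᵁ U) (n : ℕ),
      RingHom.IsStandardSmoothOfRelativeDimension n (f.appLE U V e).hom ∧
        FlatMor.fibreDimAt f x = (n : WithBot ℕ∞) := by
  haveI : Smooth (f.smoothLocus.ι ≫ f) := by
    rw [← Scheme.Hom.smoothLocus_eq_top_iff, ← Scheme.Hom.preimage_smoothLocus_eq]
    ext y
    simp
  obtain ⟨U, hU, V₀, hV₀, hxV₀, e₀, n, hn, hfib⟩ :=
    Groth.Agent.Helper2.SmoothRelDim.exists_affine_standardSmooth (f.smoothLocus.ι ≫ f) ⟨x, hx⟩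
  have hV : IsAffineOpen (f.smoothLocus.ι ''ᵁ V₀) := hV₀.image_of_isOpenImmersion _
  have hxV : x ∈ f.smoothLocus.ι ''ᵁ V₀ := ⟨⟨x, hx⟩, hxV₀, rfl⟩
  have eV : f.smoothLocus.ι ''ᵁ V₀ ≤ f ⁻¹ᵁ U := by
    rintro _ ⟨y, hy, rfl⟩
    exact e₀ hy
  refine ⟨U, hU, _, hV, hxV, eV, n, ?_, ?_⟩
  · have e₂ : V₀ ≤ f.smoothLocus.ι ⁻¹ᵁ (f.smoothLocus.ι ''ᵁ V₀) := fun y hy => ⟨y, hy, rfl⟩
    have h1 := Scheme.Hom.appLE_comp_appLE f.smoothLocus.ι f U (f.smoothLocus.ι ''ᵁ V₀) V₀ eV e₂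
    have h2 : f.smoothLocus.ι.appLE (f.smoothLocus.ι ''ᵁ V₀) V₀ e₂ = 𝟙 _ := by
      rw [Scheme.Opens.ι_appLE]
      exact X.presheaf.map_id _
    rw [h2] at h1
    have h3 : f.appLE U (f.smoothLocus.ι ''ᵁ V₀) eV = (f.smoothLocus.ι ≫ f).appLE U V₀ e₀ :=
      (Category.comp_id _).symm.trans h1
    have h4 : (f.appLE U (f.smoothLocus.ι ''ᵁ V₀) eV).hom =
        ((f.smoothLocus.ι ≫ f).appLE U V₀ e₀).hom := congrArg CommRingCat.Hom.hom h3
    exact h4 ▸ hn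
  · have h1 := Groth.Agent.Helper2.FibDim.S7408_main f (f.smoothLocus.ι ≫ f) f.smoothLocus.ι (𝟙 Y)
      (by simp) ⟨x, hx⟩
    have h2 := hfib ⟨x, hx⟩ hxV₀
    rw [← h2, ← h1]
    rfl

end Groth.Agent.Lead.OmSm
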