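import Mathlib
import Groth.Prelude
import Groth.Agent.Lib.Lead.OmSm2
import Groth.Agent.Lib.Lead.OmSm3
import Groth.Agent.Lib.Helper6.EtLoc.SmoothFiber

set_option autoImplicit false
set_option backward.isDefEq.respectTransparency.types false
set_option synthInstance.maxHeartbeats 400000
set_option linter.style.haveILetI false
set_option linter.unusedSectionVars false
universe u

open CategoryTheory CategoryTheory.Limits AlgebraicGeometry IsLocalRing Topology TopologicalSpace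
open TensorProduct

namespace Groth.Agent.Lead.OmSm

open OmegaSh Groth.Agent.Lead.OmU Groth.Agent.Lead.FLF

/-- at a smooth point the differentials are free of rank the fibre dimension -/
theorem exists_free_of_mem_smoothLocus {X Y : Scheme.{u}} (f : X ⟶ Y)
    [LocallyOfFinitePresentation f]
    (Ω' : X.Modules) (d : OmegaSh.Der f Ω') (hd : OmegaSh.IsUniversal d) (x : X)
    (hx : x ∈ f.smoothLocus) :
    ∃ (U : X.Opens) (n : ℕ), x ∈ U ∧ Nonempty (Ω'.restrict U.ι ≅ FlatMod.freeMod (↑U) n) ∧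
      FlatMor.fibreDimAt f x = (n : WithBot ℕ∞) := by
  haveI := isQuasicoherent_of_universal d hd
  obtain ⟨U, hU, V, hV, hxV, e, n, hn, hfib⟩ := exists_affine_standardSmooth_of_mem f x hx
  refine ⟨V, n, hxV, ?_, hfib⟩
  letI := (f.appLE U V e).hom.toAlgebra
  haveI : Algebra.IsStandardSmoothOfRelativeDimension n Γ(Y, U) Γ(X, V) := hn
  haveI : Algebra.IsStandardSmooth Γ(Y, U) Γ(X, V) :=
    Algebra.IsStandardSmoothOfRelativeDimension.isStandardSmooth n
  haveI : Nontrivial Γ(X, V) := by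
    haveI : Nonempty ↥V := ⟨⟨x, hxV⟩⟩
    infer_instance
  have E := sectionsKaehler f d hd hV hU e
  haveI : Module.Free Γ(X, V) Ω[Γ(X, V)⁄Γ(Y, U)] := inferInstance
  haveI : Module.Finite Γ(X, V) Ω[Γ(X, V)⁄Γ(Y, U)] := inferInstance
  have h1 : Module.rank Γ(X, V) Ω[Γ(X, V)⁄Γ(Y, U)] = n :=
    Algebra.IsStandardSmoothOfRelativeDimension.rank_kaehlerDifferential n
  have h2 : Module.finrank Γ(X, V) Ω[Γ(X, V)⁄Γ(Y, U)] = n := by
    rw [Module.finrank, h1]
    simp
  let b := Module.finBasis Γ(X, V) Ω[Γ(X, V)⁄Γ(Y, U)]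
  let E2 : Ω[Γ(X, V)⁄Γ(Y, U)] ≃ₗ[Γ(X, V)] (ULift.{u} (Fin n) →₀ Γ(X, V)) :=
    b.repr ≪≫ₗ Finsupp.domLCongr ((finCongr h2).trans Equiv.ulift.symm)
  exact nonempty_restrict_iso_free Ω' hV n (E ≪≫ₗ E2)

/-- S5022 -/
theorem S5022_main {X Y : Scheme.{u}} (f : X ⟶ Y)
    [LocallyOfFinitePresentation f] (Ω' : X.Modules) (d : OmegaSh.Der f Ω')
    (hd : OmegaSh.IsUniversal d) (x : ↥X) :
    x ∈ f.smoothLocus ↔
      (f.stalkMap x).hom.Flat ∧
        ∃ (U : X.Opens) (n : ℕ), x ∈ U ∧ Nonempty (Ω'.restrict U.ι ≅ FlatMod.freeMod (↑U) n) ∧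
          FlatMor.fibreDimAt f x = (n : WithBot ℕ∞) := by
  constructor
  · intro hx
    exact ⟨Groth.Agent.Lib.Helper6.EtLoc.flat_stalkMap_of_mem_smoothLocus f x hx,
      exists_free_of_mem_smoothLocus f Ω' d hd x hx⟩
  · rintro ⟨hflat, U, n, hxU, ⟨e⟩, hn⟩
    exact mem_smoothLocus_of_flat_of_free f Ω' d hd x hflat U n hxU e hn

end Groth.Agent.Lead.OmSm
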