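import Mathlib
import Groth.Prelude
import Groth.Agent.Lib.Lead.OmSm4
import Groth.Agent.Lib.Lead.OmSm12
import Groth.Agent.Lib.Lead.FittSh
import Groth.Agent.Lib.Lead.FittBC
import Groth.Agent.Lib.Helper4.Fitting9

set_option autoImplicit false
set_option backward.isDefEq.respectTransparency.types false
set_option synthInstance.maxHeartbeats 400000
set_option linter.style.haveILetI false
set_option linter.unusedSectionVars false
universe u

open CategoryTheory CategoryTheory.Limits AlgebraicGeometry IsLocalRing Topology TopologicalSpace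
open TensorProduct

namespace Groth.Agent.Lead.OmFit

open OmegaSh Groth.Agent.Lead.OmU Groth.Agent.Lead.FLF Groth.Agent.Lead.OmSm
  Groth.Agent.Helper4.Fitting

section Alg

variable {A B : Type u} [CommRing A] [CommRing B] [Algebra A B]

attribute [local instance] Algebra.TensorProduct.rightAlgebra in
open Algebra.TensorProduct in
/-- the fibre is smooth at a point where the `n`-th Fitting ideal of the differentials is the unit
ideal, `n` being at most the local dimension of the fibre -/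
theorem isSmoothAt_fiber_of_fitting (p : Ideal A) [p.IsPrime] [Algebra.FiniteType A B]
    (Q : Ideal (p.Fiber B)) [Q.IsPrime] (n : ℕ)
    (hfit : ¬ Fitt.ideal B Ω[B⁄A] n ≤ Q.comap (algebraMap B (p.Fiber B)))
    (hdim : ((n : ℕ∞) : WithBot ℕ∞) ≤
      FlatMor.localDim (PrimeSpectrum (p.Fiber B)) ⟨Q, inferInstance⟩) :
    Algebra.IsSmoothAt p.ResidueField Q := by
  rw [Groth.Agent.S2063.result]
  have E := KaehlerDifferential.tensorKaehlerEquiv A p.ResidueField B (p.Fiber B)
  have hF : ¬ Fitt.ideal (p.Fiber B) Ω[p.Fiber B⁄p.ResidueField] n ≤ Q := by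
    rw [← ideal_congr E n, ideal_baseChange]
    intro hle
    apply hfit
    intro b hb
    exact hle (Ideal.mem_map_of_mem _ hb)
  have h := (not_le_iff_finrank n Q).mp hF
  refine le_trans ?_ hdim
  exact_mod_cast h

open Algebra.TensorProduct in
/-- **flat, with the `n`-th Fitting ideal of the differentials trivial at the point, `n` at most the
fibre dimension, implies smooth** -/
theorem isSmoothAt_of_flat_of_fitting [Algebra.FinitePresentation A B] (p : Ideal A) [p.IsPrime]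
    (q : Ideal B) [q.IsPrime] [q.LiesOver p]
    (hflat : letI := Localization.AtPrime.algebraOfLiesOver p q
      Module.Flat (Localization.AtPrime p) (Localization.AtPrime q))
    (Q : Ideal (p.Fiber B)) [Q.IsPrime] (hQ : Q.comap includeRight = q) (n : ℕ)
    (hfit : ¬ Fitt.ideal B Ω[B⁄A] n ≤ q)
    (hdim : ((n : ℕ∞) : WithBot ℕ∞) ≤
      FlatMor.localDim (PrimeSpectrum (p.Fiber B)) ⟨Q, inferInstance⟩) :
    Algebra.IsSmoothAt A q := by
  subst hQ
  have h1 : Algebra.FormallySmooth p.ResidueField (Localization.AtPrime Q) :=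
    isSmoothAt_fiber_of_fitting p Q n hfit hdim
  have h2 := formallySmooth_residue_tensor_of_fiber p Q h1
  exact Groth.Agent.Lib.Helper4.StalkEtale1.isSmoothAt_of_flat_of_formallySmooth_fiber p
    (Q.comap includeRight) hflat h2

end Alg

section Sch

/-- flat at `x`, the `n`-th Fitting ideal of the differentials trivial at `x`, `n` at most the fibre
dimension at `x`: smooth at `x` -/
theorem mem_smoothLocus_of_flat_of_notMem_support {X Y : Scheme.{u}} (f : X ⟶ Y)
    [LocallyOfFinitePresentation f] [QuasiSeparated f] (x : X)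
    (hflat : (f.stalkMap x).hom.Flat) (n : ℕ)
    (hx : x ∉ (Fitt.sheafIdeal (Omega.sheaf f) n).support)
    (hn : (n : WithBot ℕ∞) ≤ FlatMor.fibreDimAt f x) :
    x ∈ f.smoothLocus := by
  classical
  have hd := isUniversal_dOmega f
  haveI := isQuasicoherent_of_universal (dOmega f) hd
  have hft := isFT_of_universal (dOmega f) hd
  obtain ⟨_, ⟨VY, hVY, rfl⟩, hxVY, -⟩ :=
    Y.isBasis_affineOpens.exists_subset_of_mem_open (Set.mem_univ (f x)) isOpen_univ
  obtain ⟨_, ⟨V, hV, rfl⟩, hxV, hVle⟩ :=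
    X.isBasis_affineOpens.exists_subset_of_mem_open
      (show x ∈ (f ⁻¹ᵁ VY : X.Opens) from hxVY) (f ⁻¹ᵁ VY).2
  have eV : V ≤ f ⁻¹ᵁ VY := hVle
  have hfp := f.finitePresentation_appLE hVY hV eV
  rw [Scheme.Hom.mem_smoothLocus, formallySmooth_stalkMap_iff VY hVY V hV eV hxV]
  algebraize [(f.appLE VY V eV).hom]
  have E1 := sectionsKaehler f (dOmega f) hd hV hVY eV
  have hfit : ¬ Fitt.ideal Γ(X, V) Ω[Γ(X, V)⁄Γ(Y, VY)] n ≤
      (hV.primeIdealOf ⟨x, hxV⟩).asIdeal := by
    rw [← ideal_congr E1 n, ← Groth.Agent.Lead.FittSh.sheafIdeal_ideal _ hft n ⟨V, hV⟩,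
      ← Groth.Agent.Lead.FittSh.mem_support_iff_le _ hV ⟨x, hxV⟩]
    exact hx
  have hpq : (hV.primeIdealOf ⟨x, hxV⟩).asIdeal.LiesOver (hVY.primeIdealOf ⟨f x, eV hxV⟩).asIdeal :=
    ⟨congr($(IsAffineOpen.comap_primeIdealOf_appLE VY hVY V hV eV hxV).1).symm⟩
  letI := Localization.AtPrime.algebraOfLiesOver (hVY.primeIdealOf ⟨f x, eV hxV⟩).asIdeal
    (hV.primeIdealOf ⟨x, hxV⟩).asIdeal
  have hfl : Module.Flat (Localization.AtPrime (hVY.primeIdealOf ⟨f x, eV hxV⟩).asIdeal)
      (Localization.AtPrime (hV.primeIdealOf ⟨x, hxV⟩).asIdeal) := by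
    rw [← RingHom.flat_algebraMap_iff]
    exact (RingHom.Flat.respectsIso.arrow_mk_iso_iff
      (IsAffineOpen.arrowStalkMapIso f VY hVY V hV eV hxV)).mp hflat
  let q0 : PrimeSpectrum.comap (algebraMap Γ(Y, VY) Γ(X, V)) ⁻¹' {hVY.primeIdealOf ⟨f x, eV hxV⟩} :=
    ⟨hV.primeIdealOf ⟨x, hxV⟩, PrimeSpectrum.ext hpq.over.symm⟩
  let Q := PrimeSpectrum.preimageEquivFiber Γ(Y, VY) Γ(X, V) (hVY.primeIdealOf ⟨f x, eV hxV⟩) q0
  have hQ : Q.asIdeal.comap Algebra.TensorProduct.includeRight.toRingHom =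
      (hV.primeIdealOf ⟨x, hxV⟩).asIdeal := by
    have := (PrimeSpectrum.preimageEquivFiber Γ(Y, VY) Γ(X, V)
      (hVY.primeIdealOf ⟨f x, eV hxV⟩)).symm_apply_apply q0
    exact congr($(this).1.asIdeal)
  have hdim := Groth.Agent.Lib.Helper4.Chev2.fibreDimAt_eq_localDim_fiberRing f x hV hVY eV hxV Q hQ
  refine isSmoothAt_of_flat_of_fitting (hVY.primeIdealOf ⟨f x, eV hxV⟩).asIdeal
    (hV.primeIdealOf ⟨x, hxV⟩).asIdeal hfl Q.asIdeal hQ n hfit ?_
  rw [← hdim]
  exact hn

theorem span_single_ulift (R : Type u) [CommRing R] (m : ℕ) :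
    Submodule.span R (Set.range (fun i : Fin m =>
      (Finsupp.single (ULift.up.{u} i) (1 : R) : ULift.{u} (Fin m) →₀ R))) = ⊤ := by
  have h := (Finsupp.basisSingleOne (R := R) (ι := ULift.{u} (Fin m))).span_eq
  convert h using 2
  ext z
  constructor
  · rintro ⟨i, rfl⟩
    exact ⟨ULift.up i, by simp⟩
  · rintro ⟨⟨i⟩, rfl⟩
    exact ⟨i, by simp⟩

/-- at a smooth point the `n`-th Fitting ideal of the differentials is trivial for `n` at least the
fibre dimension -/
theorem notMem_support_of_mem_smoothLocus {X Y : Scheme.{u}} (f : X ⟶ Y)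
    [LocallyOfFinitePresentation f] [QuasiSeparated f] (x : X) (hx : x ∈ f.smoothLocus) (n : ℕ)
    (hn : FlatMor.fibreDimAt f x ≤ (n : WithBot ℕ∞)) :
    x ∉ (Fitt.sheafIdeal (Omega.sheaf f) n).support := by
  have hd := isUniversal_dOmega f
  haveI := isQuasicoherent_of_universal (dOmega f) hd
  have hft := isFT_of_universal (dOmega f) hd
  obtain ⟨hflat, U, m, hxU, ⟨e⟩, hm⟩ := (S5022_main f (Omega.sheaf f) (dOmega f) hd x).mp hx
  have hmn : m ≤ n := by
    rw [hm] at hn
    exact_mod_cast hn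
  obtain ⟨_, ⟨V, hV, rfl⟩, hxV, hVU⟩ := X.isBasis_affineOpens.exists_subset_of_mem_open hxU U.2
  have E2 := sectionsFreeEquiv hV (Omega.sheaf f) m (freeOfLE hVU _ m e)
  rw [Groth.Agent.Lead.FittSh.mem_support_iff_le _ hV ⟨x, hxV⟩,
    Groth.Agent.Lead.FittSh.sheafIdeal_ideal _ hft n ⟨V, hV⟩]
  have htop : Fitt.ideal Γ(X, V) Γ(Omega.sheaf f, V) n = ⊤ := by
    rw [ideal_congr E2 n]
    exact ideal_eq_top_of_span _ (span_single_ulift Γ(X, V) m) n hmn
  rw [htop]
  intro h
  exact (hV.primeIdealOf ⟨x, hxV⟩).isPrime.ne_top (top_le_iff.mp h)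

end Sch

end Groth.Agent.Lead.OmFit
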