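import Mathlib
import Groth.Prelude
import Groth.Agent.Lib.Helper4.PropDim1
import Groth.Agent.Lib.Helper4.TopDim2

set_option autoImplicit false
set_option backward.isDefEq.respectTransparency.types false
set_option synthInstance.maxHeartbeats 400000
set_option linter.style.haveILetI false
set_option linter.unusedSectionVars false
universe u

open CategoryTheory CategoryTheory.Limits AlgebraicGeometry IsLocalRing Topology TopologicalSpace

namespace Groth.Agent.Lead.OmFit

open Groth.Agent.Lib.Helper4.FibDim1 Groth.Agent.Lib.Helper4.Chev8 Groth.Agent.Lib.Helper4.PropDim1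
  Groth.Agent.Lib.Helper4.Chev2

/-- on a scheme locally of finite type over a field all of whose irreducible components have
dimension `d`, the local dimension at every point is `d` -/
theorem localDim_eq_of_equidim (K : Type u) [Field K] {W : Scheme.{u}}
    (q : W ⟶ Spec (CommRingCat.of K)) [LocallyOfFiniteType q] (d : ℕ)
    (hcomp : ∀ T ∈ irreducibleComponents ↥W, topologicalKrullDim ↥T = (d : WithBot ℕ∞)) (t : W) :
    FlatMor.localDim W t = (d : WithBot ℕ∞) := by
  apply le_antisymm
  · refine (localDim_le_topologicalKrullDim t).trans ?_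
    rw [Groth.Agent.Helper4.TD.topologicalKrullDim_eq_iSup_irreducibleComponents]
    exact iSup₂_le fun Y hY => (hcomp Y hY).le
  · unfold FlatMor.localDim
    refine le_iInf ?_
    rintro ⟨U, htU⟩
    obtain ⟨T, hT, htT⟩ := exists_mem_irreducibleComponents_subset_of_isIrreducible
      ({t} : Set W) isIrreducible_singleton
    have hTirr : IsIrreducible T := hT.1
    have hTcl : IsClosed T := isClosed_of_mem_irreducibleComponents T hT
    obtain ⟨ξ, hξ⟩ := QuasiSober.sober hTirr hTcl
    have hξU : ξ ∈ U := (hξ.mem_open_set_iff U.2).mpr ⟨t, htT rfl, htU⟩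
    have h1 : topologicalKrullDim ↥T = ((tr q ξ : ℕ) : WithBot ℕ∞) := by
      rw [← hξ.def]
      exact dim_closure_of_field K q ξ
    have h2 := dim_closure_of_field K ((Scheme.Opens.ι U) ≫ q)
      (⟨ξ, hξU⟩ : ((U : W.Opens) : Scheme.{u}))
    rw [tr_restrict] at h2
    calc (d : WithBot ℕ∞) = topologicalKrullDim ↥T := (hcomp T hT).symm
      _ = ((tr q ξ : ℕ) : WithBot ℕ∞) := h1
      _ = topologicalKrullDim ↥(closure ({⟨ξ, hξU⟩} : Set ↥U)) := h2.symm
      _ ≤ topologicalKrullDim ↥(U : Set W) := topologicalKrullDim_subspace_le _ _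

end Groth.Agent.Lead.OmFit
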