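import Mathlib
import Groth.Prelude
import Groth.Agent.Lib.Lead.OmFit1
import Groth.Agent.Lib.Lead.OmFit2

set_option autoImplicit false
set_option backward.isDefEq.respectTransparency.types false
set_option synthInstance.maxHeartbeats 400000
set_option linter.style.haveILetI false
set_option linter.unusedSectionVars false
universe u

open CategoryTheory CategoryTheory.Limits AlgebraicGeometry IsLocalRing Topology TopologicalSpace

namespace Groth.Agent.Lead.OmFit

/-- a point lies in the smooth locus iff it has an open neighbourhood smooth over the base -/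
theorem mem_smoothLocus_iff_exists {X Y : Scheme.{u}} (f : X ⟶ Y) [LocallyOfFinitePresentation f]
    (x : X) : x ∈ f.smoothLocus ↔ ∃ U : X.Opens, x ∈ U ∧ Smooth (U.ι ≫ f) := by
  constructor
  · intro hx
    refine ⟨f.smoothLocus, hx, ?_⟩
    rw [← Scheme.Hom.smoothLocus_eq_top_iff, ← Scheme.Hom.preimage_smoothLocus_eq]
    ext y
    constructor
    · intro _
      trivial
    · intro _
      exact y.2
  · rintro ⟨U, hxU, hsm⟩
    have h := Scheme.Hom.preimage_smoothLocus_eq U.ι f
    rw [Scheme.Hom.smoothLocus_eq_top_iff.mpr hsm] at h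
    have h2 : (⟨x, hxU⟩ : ↥U) ∈ U.ι ⁻¹ᵁ f.smoothLocus := by
      rw [h]
      trivial
    exact h2

theorem S8916_main {X S : Scheme.{u}} (f : X ⟶ S) [Flat f] [LocallyOfFinitePresentation f]
    [QuasiSeparated f] (d : ℕ)
    (hdim : ∀ s : ↥S, ∀ T ∈ irreducibleComponents ↥(f.fiber s), topologicalKrullDim ↥T = d)
    (x : ↥X) :
    x ∈ (Fitt.sheafIdeal (Omega.sheaf f) d).support ↔
      ¬ ∃ U : X.Opens, x ∈ U ∧ Smooth (U.ι ≫ f) := by
  have hfd : FlatMor.fibreDimAt f x = (d : WithBot ℕ∞) := by
    unfold FlatMor.fibreDimAt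
    haveI : LocallyOfFiniteType (f.fiberToSpecResidueField (f x)) :=
      MorphismProperty.pullback_snd _ _ inferInstance
    exact localDim_eq_of_equidim (S.residueField (f x)) (f.fiberToSpecResidueField (f x)) d
      (hdim (f x)) _
  rw [← mem_smoothLocus_iff_exists f x]
  constructor
  · intro hx hsmx
    exact notMem_support_of_mem_smoothLocus f x hsmx d hfd.le hx
  · intro hns
    by_contra hx
    exact hns (mem_smoothLocus_of_flat_of_notMem_support f x (Flat.stalkMap f x) d hx hfd.ge)

end Groth.Agent.Lead.OmFit
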