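import Mathlib
import Groth.Prelude
import Groth.Agent.Lib.Helper7.StdSmNbhd.Main

set_option autoImplicit false
set_option backward.isDefEq.respectTransparency.types false
set_option synthInstance.maxHeartbeats 400000
set_option linter.style.haveILetI false
set_option linter.unusedSectionVars false
universe u

open scoped TensorProduct

namespace Groth.Agent.Lead.OmFit

/-- a finite type algebra whose differentials are generated by at most `p` elements at a prime is,
near that prime, a quotient of a standard smooth algebra of relative dimension `p` -/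
theorem exists_stdSmooth_surjection (A B : Type u) [CommRing A] [CommRing B] [Algebra A B]
    [Algebra.FiniteType A B] (q : Ideal B) [q.IsPrime] (p : ℕ)
    (hp : Module.finrank q.ResidueField (q.ResidueField ⊗[B] Ω[B⁄A]) ≤ p) :
    ∃ g : B, g ∉ q ∧ ∃ (D : Type u) (_ : CommRing D) (_ : Algebra A D),
      Algebra.IsStandardSmoothOfRelativeDimension p A D ∧
        ∃ φ : D →ₐ[A] Localization.Away g, Function.Surjective φ := by
  obtain ⟨g, hg, D, _, _, hD, φ, hφ⟩ := Groth.Agent.Helper7.StdSmNbhd.main A B q _ rfl
  set r := Module.finrank q.ResidueField (q.ResidueField ⊗[B] Ω[B⁄A]) with hr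
  refine ⟨g, hg, MvPolynomial (Fin (p - r)) D, inferInstance, inferInstance, ?_, ?_⟩
  · haveI := hD
    haveI := Groth.Agent.Helper7.StdSmNbhd.mvPolynomial_stdSmooth D (p - r)
    have h := Algebra.IsStandardSmoothOfRelativeDimension.trans (n := r) (m := p - r) A D
      (MvPolynomial (Fin (p - r)) D)
    rwa [Nat.sub_add_cancel hp] at h
  · letI : Algebra D (Localization.Away g) := φ.toRingHom.toAlgebra
    haveI : IsScalarTower A D (Localization.Away g) :=
      IsScalarTower.of_algebraMap_eq (fun a => (φ.commutes a).symm)
    let φ' : MvPolynomial (Fin (p - r)) D →ₐ[D] Localization.Away g :=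
      MvPolynomial.aeval (fun _ => 0)
    refine ⟨φ'.restrictScalars A, ?_⟩
    intro y
    obtain ⟨d, rfl⟩ := hφ y
    refine ⟨MvPolynomial.C d, ?_⟩
    show φ' (MvPolynomial.C d) = φ d
    rw [MvPolynomial.aeval_C]
    rfl

end Groth.Agent.Lead.OmFit
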