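import Mathlib
import Groth.Prelude
import Groth.Agent.Lib.Lead.OmFit1
import Groth.Agent.Lib.Lead.OmFit4

set_option autoImplicit false
set_option backward.isDefEq.respectTransparency.types false
set_option synthInstance.maxHeartbeats 400000
set_option linter.style.haveILetI false
set_option linter.unusedSectionVars false
universe u

open CategoryTheory CategoryTheory.Limits AlgebraicGeometry IsLocalRing Topology TopologicalSpace
open TensorProduct

namespace Groth.Agent.Lead.OmFit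

open OmegaSh Groth.Agent.Lead.OmU Groth.Agent.Lead.FLF Groth.Agent.Lead.OmSm
  Groth.Agent.Helper4.Fitting

theorem appLE_of_eq {X Y : Scheme.{u}} {h₁ h₂ : X ⟶ Y} (e : h₁ = h₂) (U : Y.Opens) (V : X.Opens)
    (e₁ : V ≤ h₁ ⁻¹ᵁ U) (e₂ : V ≤ h₂ ⁻¹ᵁ U) : h₁.appLE U V e₁ = h₂.appLE U V e₂ := by
  subst e
  rfl

theorem smoothOfRelativeDimension_SpecMap (p : ℕ) {R S : CommRingCat.{u}} (φ : R ⟶ S)
    (h : RingHom.IsStandardSmoothOfRelativeDimension p φ.hom) :
    SmoothOfRelativeDimension p (Spec.map φ) := by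
  rw [HasRingHomProperty.Spec_iff (P := @SmoothOfRelativeDimension p)]
  exact RingHom.locally_of RingHom.isStandardSmoothOfRelativeDimension_respectsIso _ h

theorem exists_closedImmersion_of_notMem_support {X Y : Scheme.{u}} (f : X ⟶ Y)
    [LocallyOfFinitePresentation f] [QuasiSeparated f] (p : ℕ) (x : X)
    (hx : x ∉ (Fitt.sheafIdeal (Omega.sheaf f) p).support) :
    ∃ (U : X.Opens) (U' : Scheme.{u}) (i : (U : Scheme.{u}) ⟶ U') (g : U' ⟶ Y),
      x ∈ U ∧ IsClosedImmersion i ∧ SmoothOfRelativeDimension p g ∧ i ≫ g = U.ι ≫ f := by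
  classical
  have hd := isUniversal_dOmega f
  haveI := isQuasicoherent_of_universal (dOmega f) hd
  have hft := isFT_of_universal (dOmega f) hd
  obtain ⟨_, ⟨VY, hVY, rfl⟩, hxVY, -⟩ :=
    Y.isBasis_affineOpens.exists_subset_of_mem_open (Set.mem_univ (f x)) isOpen_univ
  obtain ⟨_, ⟨V, hV, rfl⟩, hxV, hVle⟩ :=
    X.isBasis_affineOpens.exists_subset_of_mem_open
      (show x ∈ (f ⁻¹ᵁ VY : X.Opens) from hxVY) (f ⁻¹ᵁ VY).2
  have eV : V ≤ f ⁻¹ᵁ VY := hVle
  have hfp := f.finitePresentation_appLE hVY hV eV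
  algebraize [(f.appLE VY V eV).hom]
  have E1 := sectionsKaehler f (dOmega f) hd hV hVY eV
  have hfit : ¬ Fitt.ideal Γ(X, V) Ω[Γ(X, V)⁄Γ(Y, VY)] p ≤
      (hV.primeIdealOf ⟨x, hxV⟩).asIdeal := by
    rw [← ideal_congr E1 p, ← Groth.Agent.Lead.FittSh.sheafIdeal_ideal _ hft p ⟨V, hV⟩,
      ← Groth.Agent.Lead.FittSh.mem_support_iff_le _ hV ⟨x, hxV⟩]
    exact hx
  rw [not_le_iff_finrank] at hfit
  obtain ⟨g₀, hg₀, D, _, _, hD, φ, hφ⟩ := exists_stdSmooth_surjection Γ(Y, VY) Γ(X, V)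
    (hV.primeIdealOf ⟨x, hxV⟩).asIdeal p hfit
  let U : X.Opens := X.basicOpen g₀
  have hU : IsAffineOpen U := hV.basicOpen g₀
  have hUV : U ≤ V := X.basicOpen_le g₀
  have hxU : x ∈ U := by
    rw [Scheme.mem_basicOpen _ _ _ hxV]
    by_contra hnu
    apply hg₀
    rw [hV.primeIdealOf_eq_map_closedPoint]
    exact hnu
  have eU : U ≤ f ⁻¹ᵁ VY := hUV.trans eV
  letI : Algebra Γ(X, V) Γ(X, U) := (X.presheaf.map (homOfLE hUV).op).hom.toAlgebra
  haveI : IsLocalization.Away g₀ Γ(X, U) := hV.isLocalization_basicOpen g₀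
  let e : Localization.Away g₀ ≃ₐ[Γ(X, V)] Γ(X, U) :=
    IsLocalization.algEquiv (Submonoid.powers g₀) _ _
  let ψ : D →+* Γ(X, U) := e.toRingEquiv.toRingHom.comp φ.toRingHom
  have hψ : Function.Surjective ψ := e.surjective.comp hφ
  have hcomp : CommRingCat.ofHom (algebraMap Γ(Y, VY) D) ≫ CommRingCat.ofHom ψ =
      f.appLE VY U eU := by
    ext a
    show e (φ (algebraMap Γ(Y, VY) D a)) = _
    rw [φ.commutes, IsScalarTower.algebraMap_apply Γ(Y, VY) Γ(X, V) (Localization.Away g₀),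
      e.commutes]
    show (X.presheaf.map (homOfLE hUV).op).hom ((f.appLE VY V eV).hom a) = _
    rw [← CommRingCat.comp_apply, Scheme.Hom.appLE_map]
  refine ⟨U, Spec (.of D), hU.isoSpec.hom ≫ Spec.map (CommRingCat.ofHom ψ),
    Spec.map (CommRingCat.ofHom (algebraMap Γ(Y, VY) D)) ≫ hVY.fromSpec, hxU, ?_, ?_, ?_⟩
  · haveI := IsClosedImmersion.spec_of_surjective (CommRingCat.ofHom ψ) hψ
    infer_instance
  · haveI := smoothOfRelativeDimension_SpecMap p (CommRingCat.ofHom (algebraMap Γ(Y, VY) D))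
      (by
        show RingHom.IsStandardSmoothOfRelativeDimension p (algebraMap Γ(Y, VY) D)
        rw [RingHom.isStandardSmoothOfRelativeDimension_algebraMap]
        exact hD)
    exact inferInstanceAs (SmoothOfRelativeDimension (p + 0) _)
  · rw [Category.assoc, ← Spec.map_comp_assoc, hcomp, IsAffineOpen.SpecMap_appLE_fromSpec f hVY hU eU,
      ← Category.assoc, hU.isoSpec_hom_fromSpec]

theorem notMem_support_of_closedImmersion {X Y : Scheme.{u}} (f : X ⟶ Y)
    [LocallyOfFinitePresentation f] [QuasiSeparated f] (p : ℕ) (x : X)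
    (U : X.Opens) (U' : Scheme.{u}) (i : (U : Scheme.{u}) ⟶ U') (g : U' ⟶ Y) (hxU : x ∈ U)
    [IsClosedImmersion i] [SmoothOfRelativeDimension p g] (w : i ≫ g = U.ι ≫ f) :
    x ∉ (Fitt.sheafIdeal (Omega.sheaf f) p).support := by
  classical
  have hd := isUniversal_dOmega f
  haveI := isQuasicoherent_of_universal (dOmega f) hd
  have hft := isFT_of_universal (dOmega f) hd
  let x' : (U : Scheme.{u}) := ⟨x, hxU⟩
  obtain ⟨VY, hVY, W', hW', hzW', e', hstd⟩ :=
    SmoothOfRelativeDimension.exists_isStandardSmoothOfRelativeDimension (n := p) (f := g) (i x')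
  let W : (U : Scheme.{u}).Opens := i ⁻¹ᵁ W'
  have hW : IsAffineOpen W := hW'.preimage i
  let V : X.Opens := U.ι ''ᵁ W
  have hV : IsAffineOpen V := hW.image_of_isOpenImmersion U.ι
  have hxV : x ∈ V := ⟨x', hzW', rfl⟩
  have eW : W ≤ (U.ι ≫ f) ⁻¹ᵁ VY := by
    intro w' hw'
    show (U.ι ≫ f) w' ∈ VY
    rw [← w]
    exact e' hw'
  have eV : V ≤ f ⁻¹ᵁ VY := by
    rintro _ ⟨w', hw', rfl⟩
    exact eW hw'
  have hVW : W ≤ U.ι ⁻¹ᵁ V := (Scheme.Hom.preimage_image_eq U.ι W).ge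
  have hcomp : g.appLE VY W' e' ≫ i.app W' = f.appLE VY V eV ≫ U.ι.appLE V W hVW := by
    rw [Scheme.Hom.app_eq_appLE, Scheme.Hom.appLE_comp_appLE, Scheme.Hom.appLE_comp_appLE]
    exact appLE_of_eq w VY W _ _
  have hiso : IsIso (U.ι.appLE V W hVW) := by
    rw [← Scheme.Hom.appIso_hom' U.ι W]
    infer_instance
  let ψ : Γ(U', W') ⟶ Γ(X, V) := i.app W' ≫ inv (U.ι.appLE V W hVW)
  have hψs : Function.Surjective ψ.hom := by
    have h1 : Function.Surjective (i.app W').hom := i.app_surjective W' hW'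
    have h2 : Function.Surjective (inv (U.ι.appLE V W hVW)).hom :=
      (ConcreteCategory.bijective_of_isIso (inv (U.ι.appLE V W hVW))).2
    exact h2.comp h1
  have hψc : g.appLE VY W' e' ≫ ψ = f.appLE VY V eV := by
    rw [← Category.assoc, hcomp, Category.assoc, IsIso.hom_inv_id, Category.comp_id]
  algebraize [(f.appLE VY V eV).hom, (g.appLE VY W' e').hom, ψ.hom]
  haveI : IsScalarTower Γ(Y, VY) Γ(U', W') Γ(X, V) :=
    IsScalarTower.of_algebraMap_eq (fun a => by
      show (f.appLE VY V eV).hom a = ψ.hom ((g.appLE VY W' e').hom a)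
      rw [← hψc]
      rfl)
  haveI : Nonempty W' := ⟨⟨i x', hzW'⟩⟩
  have hrank := Algebra.IsStandardSmoothOfRelativeDimension.rank_kaehlerDifferential
    (R := Γ(Y, VY)) (S := Γ(U', W')) p
  haveI : Algebra.IsStandardSmooth Γ(Y, VY) Γ(U', W') :=
    Algebra.IsStandardSmoothOfRelativeDimension.isStandardSmooth p
  have hfr : Module.finrank Γ(U', W') Ω[Γ(U', W')⁄Γ(Y, VY)] = p := by
    rw [Module.finrank, hrank]
    simp
  let b := Module.finBasisOfFinrankEq Γ(U', W') Ω[Γ(U', W')⁄Γ(Y, VY)] hfr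
  let y : Fin p → Ω[Γ(X, V)⁄Γ(Y, VY)] :=
    fun j => KaehlerDifferential.map Γ(Y, VY) Γ(Y, VY) Γ(U', W') Γ(X, V) (b j)
  have hy : Submodule.span Γ(X, V) (Set.range y) = ⊤ := by
    rw [eq_top_iff]
    rintro z -
    obtain ⟨z', rfl⟩ := KaehlerDifferential.map_surjective_of_surjective Γ(Y, VY) Γ(Y, VY)
      Γ(U', W') Γ(X, V) hψs z
    have hz' : z' ∈ Submodule.span Γ(U', W') (Set.range b) := by
      rw [b.span_eq]
      trivial
    induction hz' using Submodule.span_induction with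
    | mem z hz =>
      obtain ⟨j, rfl⟩ := hz
      exact Submodule.subset_span ⟨j, rfl⟩
    | zero => simp
    | add a c _ _ ha hc =>
      rw [map_add]
      exact Submodule.add_mem _ ha hc
    | smul r a _ ha =>
      rw [map_smul, ← algebraMap_smul Γ(X, V) r]
      exact Submodule.smul_mem _ _ ha
  have E1 := sectionsKaehler f (dOmega f) hd hV hVY eV
  rw [Groth.Agent.Lead.FittSh.mem_support_iff_le _ hV ⟨x, hxV⟩,
    Groth.Agent.Lead.FittSh.sheafIdeal_ideal _ hft p ⟨V, hV⟩]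
  have htop : Fitt.ideal Γ(X, V) Γ(Omega.sheaf f, V) p = ⊤ := by
    rw [ideal_congr E1 p]
    exact ideal_eq_top_of_span y hy p le_rfl
  rw [htop]
  intro h
  exact (hV.primeIdealOf ⟨x, hxV⟩).isPrime.ne_top (top_le_iff.mp h)

theorem S16253_main {X Y : Scheme.{u}} (f : X ⟶ Y) [LocallyOfFinitePresentation f]
    [QuasiSeparated f] (p : ℕ) (x : X) :
    x ∉ (Fitt.sheafIdeal (Omega.sheaf f) p).support ↔
      ∃ (U : X.Opens) (U' : Scheme.{u}) (i : (U : Scheme.{u}) ⟶ U') (g : U' ⟶ Y),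
        x ∈ U ∧ IsClosedImmersion i ∧ SmoothOfRelativeDimension p g ∧ i ≫ g = U.ι ≫ f := by
  constructor
  · exact exists_closedImmersion_of_notMem_support f p x
  · rintro ⟨U, U', i, g, hxU, hi, hg, w⟩
    exact notMem_support_of_closedImmersion f p x U U' i g hxU w

end Groth.Agent.Lead.OmFit
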