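import Mathlib
import Groth.Prelude
import Groth.Agent.Lib.Helper2.Synt.JacPrime
import Groth.Agent.Lib.Helper2.Synt.JacMain
import Groth.Agent.Lib.Helper4.Fitting19

set_option autoImplicit false
set_option backward.isDefEq.respectTransparency.types false
set_option synthInstance.maxHeartbeats 400000
set_option linter.style.haveILetI false
set_option linter.unusedSectionVars false
universe u

open TensorProduct KaehlerDifferential

namespace Groth.Agent.Lead.OmFit

open Groth.Agent.Helper4.Fitting Groth.Agent.Lib.Helper4.Fitting19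

section JacFit

variable {R A S : Type u} [CommRing R] [CommRing A] [Algebra R A] [CommRing S] [Algebra R S]
  [Algebra A S] [IsScalarTower R A S]
  (hsurj : Function.Surjective (algebraMap A S))
  {n c : ℕ} (bP : Module.Basis (Fin n) A Ω[A⁄R]) (F : Fin c → A)
  (hF : Ideal.span (Set.range F) = RingHom.ker (algebraMap A S))
  (q : Ideal S) [q.IsPrime]

/-- the Jacobian matrix over `S` -/
noncomputable def jacS : Matrix (Fin c) (Fin n) S :=
  fun j i => algebraMap A S (bP.repr (D R A (F j)) i)

theorem equivFun_one_tmul (j : Fin c) :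
    (bP.baseChange S).equivFun ((1 : S) ⊗ₜ[A] D R A (F j)) = jacS bP F j := by
  ext i
  unfold jacS
  rw [Module.Basis.equivFun_apply, Module.Basis.baseChange_repr_tmul, Algebra.smul_def, mul_one]

include hF in
theorem mapBaseChange_one_tmul (j : Fin c) :
    mapBaseChange R A S ((1 : S) ⊗ₜ[A] D R A (F j)) = 0 := by
  rw [mapBaseChange_tmul, one_smul, map_D]
  have : algebraMap A S (F j) = 0 := by
    rw [← RingHom.mem_ker, ← hF]
    exact Ideal.subset_span ⟨j, rfl⟩
  rw [this, map_zero]

include hsurj hF in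
theorem mem_span_of_mem_ker (w : S ⊗[A] Ω[A⁄R]) (hw : mapBaseChange R A S w = 0) :
    ∃ s : Fin c → S, w = ∑ j, s j • ((1 : S) ⊗ₜ[A] D R A (F j)) := by
  have h1 : w ∈ (LinearMap.ker (mapBaseChange R A S)).restrictScalars A := hw
  rw [← range_kerCotangentToTensor R A S hsurj] at h1
  obtain ⟨xb, rfl⟩ := h1
  obtain ⟨x, rfl⟩ := Ideal.toCotangent_surjective _ xb
  rw [kerCotangentToTensor_toCotangent]
  obtain ⟨x, hx⟩ := x
  have hx' := hx
  rw [← hF] at hx'
  obtain ⟨t, ht⟩ := (Ideal.mem_span_range_iff_exists_fun).mp hx'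
  refine ⟨fun j => algebraMap A S (t j), ?_⟩
  show (1 : S) ⊗ₜ[A] D R A x = _
  rw [← ht, map_sum, tmul_sum]
  refine Finset.sum_congr rfl fun j _ => ?_
  rw [Derivation.leibniz, tmul_add, tmul_smul, tmul_smul, smul_tmul', smul_tmul']
  have : algebraMap A S (F j) = 0 := by
    rw [← RingHom.mem_ker, ← hF]
    exact Ideal.subset_span ⟨j, rfl⟩
  rw [Algebra.smul_def (F j) (1 : S), this, zero_mul, zero_tmul, add_zero,
    Algebra.smul_def (t j) (1 : S), mul_one, smul_tmul', smul_eq_mul, mul_one]

/-- the presentation map `S^c → S^n` given by the Jacobian matrix -/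
noncomputable def tauS : (Fin c → S) →ₗ[S] (Fin n → S) := Matrix.vecMulLinear (jacS bP F)

theorem tauS_single (j : Fin c) : tauS bP F (Pi.single j (1 : S)) = jacS bP F j := by
  unfold tauS
  rw [Matrix.vecMulLinear_apply, Matrix.single_one_vecMul]
  rfl

theorem tauS_apply (s : Fin c → S) : tauS bP F s = ∑ j, s j • jacS bP F j := by
  unfold tauS
  rw [Matrix.vecMulLinear_apply]
  ext i
  simp [Matrix.vecMul, dotProduct, Finset.sum_apply]

/-- the surjection `S^n → Ω[S/R]` -/
noncomputable def phiS : (Fin n → S) →ₗ[S] Ω[S⁄R] :=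
  (mapBaseChange R A S) ∘ₗ (bP.baseChange S).equivFun.symm.toLinearMap

include hsurj in
theorem phiS_surjective : Function.Surjective (phiS (S := S) bP) := by
  unfold phiS
  rw [LinearMap.coe_comp]
  exact (mapBaseChange_surjective R A S hsurj).comp (LinearEquiv.surjective _)

include hsurj hF in
theorem ker_phiS : LinearMap.ker (phiS (S := S) bP) = LinearMap.range (tauS bP F) := by
  apply le_antisymm
  · intro v hv
    have hv' : mapBaseChange R A S ((bP.baseChange S).equivFun.symm v) = 0 := hv
    obtain ⟨s, hs⟩ := mem_span_of_mem_ker hsurj F hF _ hv'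
    refine ⟨s, ?_⟩
    rw [tauS_apply]
    have := congrArg (bP.baseChange S).equivFun hs
    rw [LinearEquiv.apply_symm_apply, map_sum] at this
    rw [this]
    refine Finset.sum_congr rfl fun j _ => ?_
    rw [map_smul, equivFun_one_tmul]
  · rintro _ ⟨s, rfl⟩
    rw [tauS_apply, LinearMap.mem_ker, map_sum]
    refine Finset.sum_eq_zero fun j _ => ?_
    rw [map_smul, ← equivFun_one_tmul]
    show s j • mapBaseChange R A S ((bP.baseChange S).equivFun.symm _) = 0
    rw [LinearEquiv.symm_apply_apply, mapBaseChange_one_tmul F hF, smul_zero]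

include hsurj hF in
theorem fitt_kaehler_eq (m : ℕ) :
    Fitt.ideal S Ω[S⁄R] m = minorIdeal (tauS bP F) (n - m) := by
  have e1 : ((Fin n → S) ⧸ LinearMap.ker (phiS (S := S) bP)) ≃ₗ[S] Ω[S⁄R] :=
    (phiS (S := S) bP).quotKerEquivOfSurjective (phiS_surjective hsurj bP)
  have e2 : ((Fin n → S) ⧸ LinearMap.range (tauS bP F)) ≃ₗ[S]
      ((Fin n → S) ⧸ LinearMap.ker (phiS (S := S) bP)) :=
    Submodule.quotEquivOfEq _ _ (ker_phiS hsurj bP F hF).symm
  rw [← ideal_coker, ideal_congr (e2.trans e1) m]

theorem jacAt_eq_map :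
    Groth.Agent.Helper2.Synt.jacAt bP F q = (jacS bP F).map (algebraMap S q.ResidueField) := rfl

include hsurj hF in
theorem not_fitt_le_iff_linearIndependent (m : ℕ) (hn : n = m + c) :
    ¬ Fitt.ideal S Ω[S⁄R] m ≤ q ↔
      LinearIndependent q.ResidueField (Groth.Agent.Helper2.Synt.jacAt bP F q).row := by
  rw [fitt_kaehler_eq hsurj bP F hF m]
  have hnm : n - m = c := by omega
  rw [hnm]
  have hdet : ∀ (e : Fin c → Fin n) (c' : Fin c → Fin c),
      algebraMap S q.ResidueField
        (Matrix.of fun r s => tauS bP F (Pi.single (c' s) 1) (e r)).det =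
      ((Groth.Agent.Helper2.Synt.jacAt bP F q).submatrix c' e).det := by
    intro e c'
    rw [RingHom.map_det, ← Matrix.det_transpose]
    congr 1
    ext r s
    simp only [Matrix.transpose_apply, RingHom.mapMatrix_apply, Matrix.map_apply, Matrix.of_apply,
      Matrix.submatrix_apply, tauS_single]
    rfl
  constructor
  · intro h
    have h2 : ∃ d ∈ {d | ∃ (e : Fin c → Fin n) (c' : Fin c → Fin c),
        d = (Matrix.of fun r s => tauS bP F (Pi.single (c' s) 1) (e r)).det}, d ∉ q := by
      by_contra hcon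
      apply h
      apply Ideal.span_le.mpr
      intro d hd
      by_contra hdq
      exact hcon ⟨d, hd, hdq⟩
    obtain ⟨d, ⟨e, c', rfl⟩, hdq⟩ := h2
    have hne : algebraMap S q.ResidueField
        (Matrix.of fun r s => tauS bP F (Pi.single (c' s) 1) (e r)).det ≠ 0 := by
      intro h0
      exact hdq ((Ideal.algebraMap_residueField_eq_zero).mp h0)
    rw [hdet] at hne
    have hli := Groth.Agent.Helper2.Synt.linearIndependent_of_minor_ne_zero
      ((Groth.Agent.Helper2.Synt.jacAt bP F q).submatrix c' id) e hne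
    have hrow : ((Groth.Agent.Helper2.Synt.jacAt bP F q).submatrix c' id).row =
        (Groth.Agent.Helper2.Synt.jacAt bP F q).row ∘ c' := by
      ext j i
      rfl
    rw [hrow] at hli
    have hinj : Function.Injective c' := by
      have := hli.injective
      intro a b hab
      apply this
      show (Groth.Agent.Helper2.Synt.jacAt bP F q).row (c' a) = _
      rw [hab]
      rfl
    have hbij : Function.Bijective c' := Finite.injective_iff_bijective.mp hinj
    exact (linearIndependent_equiv (Equiv.ofBijective c' hbij)).mp hli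
  · intro hli h
    obtain ⟨I, hI⟩ := Groth.Agent.Helper2.Synt.exists_minor_ne_zero_of_linearIndependent _ hli
    have hmem : (Matrix.of fun r s => tauS bP F (Pi.single ((id : Fin c → Fin c) s) (1 : S)) (I r)).det ∈
        minorIdeal (tauS bP F) c := Ideal.subset_span ⟨I, id, rfl⟩
    have := h hmem
    rw [← Ideal.algebraMap_residueField_eq_zero, hdet] at this
    exact hI this

include hsurj hF bP in
/-- Jacobian criterion in terms of the Fitting ideal of the differentials -/
theorem isSmoothAt_iff_not_fitt_le [Algebra.FormallySmooth R A] (m : ℕ) (hn : n = m + c)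
    (hcoef : ∀ a : Fin c → A, ∑ j, a j * F j = 0 →
      ∀ j, a j ∈ RingHom.ker (algebraMap A S)) :
    Algebra.IsSmoothAt R q ↔ ¬ Fitt.ideal S Ω[S⁄R] m ≤ q := by
  rw [not_fitt_le_iff_linearIndependent hsurj bP F hF q m hn]
  exact Groth.Agent.Helper2.Synt.isSmoothAt_iff_linearIndependent_jacAt hsurj bP F hF q
    (fun _ => hcoef)

end JacFit

section Loc

/-- the coefficient property of `H_1`-regular sequences passes to localizations -/
theorem coeff_mem_ker_of_isLocalization {A₀ A B : Type u} [CommRing A₀] [CommRing A] [CommRing B]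
    [Algebra A₀ A] (M : Submonoid A₀) [IsLocalization M A] {c : ℕ} (r : Fin c → A₀)
    (hr : ∀ a : Fin c → A₀, ∑ j, a j * r j = 0 → ∀ j, a j ∈ Ideal.span (Set.range r))
    (φ : A →+* B) (hφ : ∀ j, φ (algebraMap A₀ A (r j)) = 0)
    (a : Fin c → A) (ha : ∑ j, a j * algebraMap A₀ A (r j) = 0) (j : Fin c) : φ (a j) = 0 := by
  obtain ⟨s, hs⟩ := IsLocalization.exist_integer_multiples_of_finite M a
  choose b hb using hs
  have h1 : algebraMap A₀ A (∑ j, b j * r j) = 0 := by
    rw [map_sum]
    simp_rw [map_mul, hb, Algebra.smul_def, mul_assoc]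
    rw [← Finset.mul_sum, ha, mul_zero]
  obtain ⟨t, ht⟩ := (IsLocalization.map_eq_zero_iff M A _).mp h1
  have h2 : ∀ j, (t : A₀) * b j ∈ Ideal.span (Set.range r) :=
    hr (fun j => t * b j) (by
      simp_rw [mul_assoc]
      rw [← Finset.mul_sum]
      exact ht)
  have h3 : ∀ x ∈ Ideal.span (Set.range r), φ (algebraMap A₀ A x) = 0 := by
    intro x hx
    induction hx using Submodule.span_induction with
    | mem x hx =>
      obtain ⟨j, rfl⟩ := hx
      exact hφ j
    | zero => simp
    | add x y _ _ hx hy => rw [map_add, map_add, hx, hy, add_zero]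
    | smul a x _ hx => rw [smul_eq_mul, map_mul, map_mul, hx, mul_zero]
  have h4 := h3 _ (h2 j)
  rw [map_mul, map_mul] at h4
  have hu : ∀ x : M, IsUnit (φ (algebraMap A₀ A (x : A₀))) := fun x =>
    (IsLocalization.map_units A x).map φ
  have h5 := (hu t).mul_right_eq_zero.mp h4
  rw [hb j, Algebra.smul_def, map_mul] at h5
  exact (hu s).mul_right_eq_zero.mp h5

/-- localizing a surjection away from an element -/
theorem away_map_surjective_ker {A₀ B₀ A B : Type u} [CommRing A₀] [CommRing B₀] [CommRing A]
    [CommRing B] [Algebra A₀ A] [Algebra B₀ B] (g : A₀) (φ₀ : A₀ →+* B₀)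
    [IsLocalization.Away g A] [IsLocalization.Away (φ₀ g) B] (φ : A →+* B)
    (hφ : φ.comp (algebraMap A₀ A) = (algebraMap B₀ B).comp φ₀)
    (hsurj : Function.Surjective φ₀) :
    Function.Surjective φ ∧ RingHom.ker φ = (RingHom.ker φ₀).map (algebraMap A₀ A) := by
  have hT : Submonoid.map φ₀ (Submonoid.powers g) = Submonoid.powers (φ₀ g) :=
    Submonoid.map_powers _ _
  haveI : IsLocalization (Submonoid.map φ₀ (Submonoid.powers g)) B := by
    rw [hT]
    infer_instance
  have hφ' : φ = IsLocalization.map B φ₀ (Submonoid.powers g).le_comap_map := by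
    apply IsLocalization.ringHom_ext (Submonoid.powers g)
    rw [hφ, IsLocalization.map_comp]
  constructor
  · rw [hφ']
    exact IsLocalization.map_surjective_of_surjective (Submonoid.powers g) A B hsurj
  · rw [hφ']
    exact IsLocalization.ker_map B φ₀ rfl

end Loc

end Groth.Agent.Lead.OmFit
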