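import Mathlib
import Groth.Prelude
import Groth.Agent.Lib.Lead.OmFit5
import Groth.Agent.Lib.Lead.OmFit6
import Groth.Agent.Lib.Lead.OmFit3
import Groth.Agent.Lib.Helper4.KosH1b

set_option autoImplicit false
set_option backward.isDefEq.respectTransparency.types false
set_option synthInstance.maxHeartbeats 400000
set_option linter.style.haveILetI false
set_option linter.unusedSectionVars false
universe u

open CategoryTheory CategoryTheory.Limits AlgebraicGeometry IsLocalRing Topology TopologicalSpace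
open TensorProduct

namespace Groth.Agent.Lead.OmFit

open OmegaSh Groth.Agent.Lead.OmU Groth.Agent.Lead.FLF Groth.Agent.Lead.OmSm
  Groth.Agent.Helper4.Fitting

theorem app_surjective_congr {Z P : Scheme.{u}} (i : Z ⟶ P) {W W' : P.Opens} (h : W = W')
    (hs : Function.Surjective (i.app W).hom) : Function.Surjective (i.app W').hom := by
  subst h
  exact hs

/-- if `i` restricts to a closed immersion over the affine open `W₀`, then `i⁻¹ W₀` is affine and
`Γ(P, W₀) → Γ(Z, i⁻¹ W₀)` is surjective -/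
theorem affine_surjective_of_restrict {Z P : Scheme.{u}} (i : Z ⟶ P) (W₀ : P.Opens)
    (hW₀ : IsAffineOpen W₀) [IsClosedImmersion (i ∣_ W₀)] :
    IsAffineOpen (i ⁻¹ᵁ W₀) ∧ Function.Surjective (i.app W₀).hom := by
  haveI : IsAffine (W₀ : Scheme.{u}) := hW₀
  have h := (HasAffineProperty.iff_of_isAffine (P := @IsClosedImmersion) (f := i ∣_ W₀)).mp
    inferInstance
  refine ⟨h.1, ?_⟩
  have h2 := h.2
  rw [morphismRestrict_appTop] at h2
  have h3 : Function.Surjective (i.app (W₀.ι ''ᵁ ⊤)).hom := by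
    intro b
    obtain ⟨a, ha⟩ := h2 ((Z.presheaf.map
      (eqToHom (image_morphismRestrict_preimage i W₀ ⊤)).op).hom b)
    refine ⟨a, ?_⟩
    have hinj : Function.Injective (Z.presheaf.map
      (eqToHom (image_morphismRestrict_preimage i W₀ ⊤)).op).hom :=
      (ConcreteCategory.bijective_of_isIso _).1
    exact hinj ha
  exact app_surjective_congr i (Scheme.Opens.ι_image_top W₀) h3

theorem isLocalization_away_of_eq {X : Scheme.{u}} {V : X.Opens} (hV : IsAffineOpen V)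
    (g : Γ(X, V)) (W : X.Opens) (hW : W = X.basicOpen g) (hle : W ≤ V) :
    letI := (X.presheaf.map (homOfLE hle).op).hom.toAlgebra
    IsLocalization.Away g Γ(X, W) := by
  subst hW
  exact hV.isLocalization_basicOpen g

theorem S16256_main {Y X : Scheme.{u}} (f : Y ⟶ X) [LocallyOfFinitePresentation f]
    [QuasiSeparated f] (m : ℕ) (y : ↥Y)
    (hlci : ∃ (U : Y.Opens) (P : Scheme.{u}) (i : (U : Scheme.{u}) ⟶ P) (π : P ⟶ X) (c : ℕ),
      y ∈ U ∧ RegImm.IsRegularImmersionOfCodim RegImm.Kind.koszul c i ∧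
        SmoothOfRelativeDimension (m + c) π ∧ i ≫ π = U.ι ≫ f) :
    (∃ V : Y.Opens, y ∈ V ∧ Smooth (V.ι ≫ f)) ↔
      y ∉ (Fitt.sheafIdeal (Omega.sheaf f) m).support := by
  classical
  obtain ⟨U, P, i, π, c, hyU, hreg, hsm, w⟩ := hlci
  have hd := isUniversal_dOmega f
  haveI := isQuasicoherent_of_universal (dOmega f) hd
  have hft := isFT_of_universal (dOmega f) hd
  let z : (U : Scheme.{u}) := ⟨y, hyU⟩
  obtain ⟨W₀, hzW₀, hci, rs, hlen, hkos, hker⟩ := hreg.2 z
  subst hlen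
  haveI := hci
  haveI := hsm
  obtain ⟨VX, hVX, W₁, hW₁, hzW₁, e₁, hstd⟩ :=
    SmoothOfRelativeDimension.exists_isStandardSmoothOfRelativeDimension (n := m + rs.length)
      (f := π) (i z)
  obtain ⟨g₀, g₁, hgeq, hzW⟩ := exists_basicOpen_le_affine_inter W₀.2 hW₁ (i z) ⟨hzW₀, hzW₁⟩
  obtain ⟨hZ₀, hφ₀surj⟩ := affine_surjective_of_restrict i W₀.1 W₀.2
  let W : P.Opens := P.basicOpen g₀
  have hW : IsAffineOpen W := W₀.2.basicOpen g₀
  have hWW₀ : W ≤ W₀.1 := P.basicOpen_le g₀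
  have hWeq₁ : W = P.basicOpen g₁ := hgeq
  have hWW₁ : W ≤ W₁ := by
    rw [hWeq₁]
    exact P.basicOpen_le g₁
  let V : (U : Scheme.{u}).Opens := (U : Scheme.{u}).basicOpen ((i.app W₀.1).hom g₀)
  have hV : IsAffineOpen V := hZ₀.basicOpen _
  have hVeq : i ⁻¹ᵁ W = V := Scheme.preimage_basicOpen i g₀
  have hVW : V ≤ i ⁻¹ᵁ W := hVeq.ge
  have hzV : z ∈ V := by
    rw [← hVeq]
    exact hzW
  let V' : Y.Opens := U.ι ''ᵁ V
  have hV' : IsAffineOpen V' := hV.image_of_isOpenImmersion U.ι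
  have hyV' : y ∈ V' := ⟨z, hzV, rfl⟩
  have eW : W ≤ π ⁻¹ᵁ VX := hWW₁.trans e₁
  have eVU : V ≤ (U.ι ≫ f) ⁻¹ᵁ VX := by
    intro v hv
    show (U.ι ≫ f) v ∈ VX
    rw [← w]
    exact eW (hVW hv)
  have eV : V' ≤ f ⁻¹ᵁ VX := by
    rintro _ ⟨v, hv, rfl⟩
    exact eVU hv
  have hV'V : V ≤ U.ι ⁻¹ᵁ V' := (Scheme.Hom.preimage_image_eq U.ι V).ge
  have hcomp : π.appLE VX W eW ≫ i.appLE W V hVW =
      f.appLE VX V' eV ≫ U.ι.appLE V' V hV'V := by
    rw [Scheme.Hom.appLE_comp_appLE, Scheme.Hom.appLE_comp_appLE]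
    exact appLE_of_eq w VX V _ _
  have hiso : IsIso (U.ι.appLE V' V hV'V) := by
    rw [← Scheme.Hom.appIso_hom' U.ι V]
    infer_instance
  let φ : Γ(P, W) ⟶ Γ((U : Scheme.{u}), V) := i.appLE W V hVW
  let ψ : Γ(P, W) ⟶ Γ(Y, V') := φ ≫ inv (U.ι.appLE V' V hV'V)
  have hψc : π.appLE VX W eW ≫ ψ = f.appLE VX V' eV := by
    rw [← Category.assoc, hcomp, Category.assoc, IsIso.hom_inv_id, Category.comp_id]
  -- localization structure
  letI algA₀ : Algebra Γ(P, W₀.1) Γ(P, W) := (P.presheaf.map (homOfLE hWW₀).op).hom.toAlgebra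
  haveI locA₀ : IsLocalization.Away g₀ Γ(P, W) := W₀.2.isLocalization_basicOpen g₀
  letI algB₀ : Algebra Γ((U : Scheme.{u}), i ⁻¹ᵁ W₀.1) Γ((U : Scheme.{u}), V) :=
    ((U : Scheme.{u}).presheaf.map
      (homOfLE ((U : Scheme.{u}).basicOpen_le ((i.app W₀.1).hom g₀))).op).hom.toAlgebra
  haveI locB₀ : IsLocalization.Away ((i.app W₀.1).hom g₀) Γ((U : Scheme.{u}), V) :=
    hZ₀.isLocalization_basicOpen _
  have hφsq : φ.hom.comp (algebraMap Γ(P, W₀.1) Γ(P, W)) =
      (algebraMap Γ((U : Scheme.{u}), i ⁻¹ᵁ W₀.1) Γ((U : Scheme.{u}), V)).comp (i.app W₀.1).hom := by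
    have h1 : P.presheaf.map (homOfLE hWW₀).op ≫ i.appLE W V hVW =
        i.app W₀.1 ≫ (U : Scheme.{u}).presheaf.map
          (homOfLE ((U : Scheme.{u}).basicOpen_le ((i.app W₀.1).hom g₀))).op := by
      rw [Scheme.Hom.map_appLE]
      rfl
    exact congrArg CommRingCat.Hom.hom h1
  obtain ⟨hφs, hφk⟩ := away_map_surjective_ker g₀ (i.app W₀.1).hom φ.hom hφsq hφ₀surj
  have hinvinj : Function.Injective (inv (U.ι.appLE V' V hV'V)).hom :=
    (ConcreteCategory.bijective_of_isIso (inv (U.ι.appLE V' V hV'V))).1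
  have hinvsurj : Function.Surjective (inv (U.ι.appLE V' V hV'V)).hom :=
    (ConcreteCategory.bijective_of_isIso (inv (U.ι.appLE V' V hV'V))).2
  have hψs : Function.Surjective ψ.hom := hinvsurj.comp hφs
  have hψk : RingHom.ker ψ.hom = RingHom.ker φ.hom := by
    ext a
    rw [RingHom.mem_ker, RingHom.mem_ker]
    show (inv (U.ι.appLE V' V hV'V)).hom (φ.hom a) = 0 ↔ _
    rw [← map_zero (inv (U.ι.appLE V' V hV'V)).hom, hinvinj.eq_iff]
  algebraize [(f.appLE VX V' eV).hom, (π.appLE VX W eW).hom, ψ.hom, (π.appLE VX W₁ e₁).hom]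
  haveI : IsScalarTower Γ(X, VX) Γ(P, W) Γ(Y, V') :=
    IsScalarTower.of_algebraMap_eq (fun a => by
      show (f.appLE VX V' eV).hom a = ψ.hom ((π.appLE VX W eW).hom a)
      rw [← hψc]
      rfl)
  letI algA₁ : Algebra Γ(P, W₁) Γ(P, W) := (P.presheaf.map (homOfLE hWW₁).op).hom.toAlgebra
  haveI locA₁ : IsLocalization.Away g₁ Γ(P, W) := isLocalization_away_of_eq hW₁ g₁ W hWeq₁ hWW₁
  haveI : IsScalarTower Γ(X, VX) Γ(P, W₁) Γ(P, W) :=
    IsScalarTower.of_algebraMap_eq (fun a => by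
      show (π.appLE VX W eW).hom a =
        (P.presheaf.map (homOfLE hWW₁).op).hom ((π.appLE VX W₁ e₁).hom a)
      rw [← CommRingCat.comp_apply, Scheme.Hom.appLE_map])
  haveI : Algebra.IsStandardSmoothOfRelativeDimension 0 Γ(P, W₁) Γ(P, W) :=
    Algebra.IsStandardSmoothOfRelativeDimension.localization_away g₁
  have hstdA : Algebra.IsStandardSmoothOfRelativeDimension (m + rs.length) Γ(X, VX) Γ(P, W) := by
    have := Algebra.IsStandardSmoothOfRelativeDimension.trans (n := m + rs.length) (m := 0)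
      Γ(X, VX) Γ(P, W₁) Γ(P, W)
    rwa [zero_add] at this
  haveI := hstdA
  haveI : Nonempty W := ⟨⟨i z, hzW⟩⟩
  have hrank := Algebra.IsStandardSmoothOfRelativeDimension.rank_kaehlerDifferential
    (R := Γ(X, VX)) (S := Γ(P, W)) (m + rs.length)
  haveI : Algebra.IsStandardSmooth Γ(X, VX) Γ(P, W) :=
    Algebra.IsStandardSmoothOfRelativeDimension.isStandardSmooth (m + rs.length)
  have hfr : Module.finrank Γ(P, W) Ω[Γ(P, W)⁄Γ(X, VX)] = m + rs.length := by
    rw [Module.finrank, hrank]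
    simp
  let b := Module.finBasisOfFinrankEq Γ(P, W) Ω[Γ(P, W)⁄Γ(X, VX)] hfr
  let F : Fin rs.length → Γ(P, W) := fun j => algebraMap Γ(P, W₀.1) Γ(P, W) (rs.get j)
  have hF : Ideal.span (Set.range F) = RingHom.ker (algebraMap Γ(P, W) Γ(Y, V')) := by
    show _ = RingHom.ker ψ.hom
    rw [hψk, hφk, hker, Ideal.ofList, Ideal.map_span, ← Set.range_list_get, ← Set.range_comp]
    rfl
  have hH1 := Groth.Agent.Lib.Helper4.KosH1.isH1Regular_of_koszul rs hkos
  have hr : ∀ a : Fin rs.length → Γ(P, W₀.1), ∑ j, a j * rs.get j = 0 →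
      ∀ j, a j ∈ Ideal.span (Set.range rs.get) := by
    intro a ha j
    exact Groth.Agent.Lib.Helper4.KosH1b.coord_mem_of_mem_span rs.get
      (Ideal.span (Set.range rs.get))
      (fun k => Ideal.subset_span (Set.mem_range_self k)) a (hH1 a ha) j
  have hFz : ∀ j, algebraMap Γ(P, W) Γ(Y, V') (F j) = 0 := by
    intro j
    rw [← RingHom.mem_ker, ← hF]
    exact Ideal.subset_span ⟨j, rfl⟩
  have hcoef : ∀ a : Fin rs.length → Γ(P, W), ∑ j, a j * F j = 0 →
      ∀ j, a j ∈ RingHom.ker (algebraMap Γ(P, W) Γ(Y, V')) := by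
    intro a ha j
    rw [RingHom.mem_ker]
    exact coeff_mem_ker_of_isLocalization (Submonoid.powers g₀) rs.get hr
      (algebraMap Γ(P, W) Γ(Y, V')) hFz a ha j
  have E1 := sectionsKaehler f (dOmega f) hd hV' hVX eV
  rw [← mem_smoothLocus_iff_exists f y, Scheme.Hom.mem_smoothLocus,
    formallySmooth_stalkMap_iff VX hVX V' hV' eV hyV',
    Groth.Agent.Lead.FittSh.mem_support_iff_le _ hV' ⟨y, hyV'⟩,
    Groth.Agent.Lead.FittSh.sheafIdeal_ideal _ hft m ⟨V', hV'⟩, ideal_congr E1 m]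
  exact isSmoothAt_iff_not_fitt_le hψs b F hF (hV'.primeIdealOf ⟨y, hyV'⟩).asIdeal m rfl hcoef

end Groth.Agent.Lead.OmFit
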