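import Mathlib
import Groth.Prelude.Def_Omega4
import Groth.Agent.Lib.Lead.OmU6
import Groth.Agent.Lib.Lead.OmU9c

set_option autoImplicit false
universe u
open CategoryTheory CategoryTheory.Limits AlgebraicGeometry TopologicalSpace Opposite

set_option backward.isDefEq.respectTransparency.types false

namespace Groth.Agent.Lead.OmProd

open OmegaSh Groth.Agent.Lead.DerU Groth.Agent.Lead.OmU

section Cat

variable {C : Type*} [Category C] [Abelian C] {A B M : C} (c₁ : A ⟶ M) (c₂ : B ⟶ M)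

/-- a categorical criterion for a coproduct decomposition. -/
theorem isIso_desc_of_cokernels [IsIso (c₁ ≫ cokernel.π c₂)] [IsIso (c₂ ≫ cokernel.π c₁)] :
    IsIso (coprod.desc c₁ c₂) := by
  let u := c₁ ≫ cokernel.π c₂
  let v := c₂ ≫ cokernel.π c₁
  let ρ : M ⟶ A ⨿ B := (cokernel.π c₂ ≫ inv u) ≫ coprod.inl + (cokernel.π c₁ ≫ inv v) ≫ coprod.inr
  have hρ : coprod.desc c₁ c₂ ≫ ρ = 𝟙 _ := by
    apply coprod.hom_ext
    · rw [← Category.assoc, coprod.inl_desc, Category.comp_id]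
      change c₁ ≫ ((cokernel.π c₂ ≫ inv u) ≫ coprod.inl + (cokernel.π c₁ ≫ inv v) ≫ coprod.inr) = _
      rw [Preadditive.comp_add, ← Category.assoc, ← Category.assoc, ← Category.assoc c₁,
        ← Category.assoc c₁, cokernel.condition, zero_comp, zero_comp, add_zero]
      change (u ≫ inv u) ≫ _ = _
      rw [IsIso.hom_inv_id, Category.id_comp]
    · rw [← Category.assoc, coprod.inr_desc, Category.comp_id]
      change c₂ ≫ ((cokernel.π c₂ ≫ inv u) ≫ coprod.inl + (cokernel.π c₁ ≫ inv v) ≫ coprod.inr) = _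
      rw [Preadditive.comp_add, ← Category.assoc, ← Category.assoc, ← Category.assoc c₂,
        ← Category.assoc c₂, cokernel.condition, zero_comp, zero_comp, zero_add]
      change (v ≫ inv v) ≫ _ = _
      rw [IsIso.hom_inv_id, Category.id_comp]
  haveI : Mono (coprod.desc c₁ c₂) := (IsSplitMono.mk' ⟨ρ, hρ⟩).mono
  haveI : Epi (coprod.desc c₁ c₂) := by
    apply Preadditive.epi_of_cancel_zero
    intro R t ht
    have h2 : c₂ ≫ t = 0 := by
      rw [← coprod.inr_desc c₁ c₂, Category.assoc, ht, comp_zero]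
    have h1 : c₁ ≫ t = 0 := by
      rw [← coprod.inl_desc c₁ c₂, Category.assoc, ht, comp_zero]
    have h3 : cokernel.π c₂ ≫ cokernel.desc c₂ t h2 = t := cokernel.π_desc _ _ _
    have h4 : u ≫ cokernel.desc c₂ t h2 = 0 := by
      change (c₁ ≫ cokernel.π c₂) ≫ _ = 0
      rw [Category.assoc, h3, h1]
    have h5 : cokernel.desc c₂ t h2 = 0 := by
      have := congrArg (fun x => inv u ≫ x) h4
      simpa using this
    rw [← h3, h5, comp_zero]
  exact isIso_of_mono_of_epi _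

end Cat

section Prod

variable {X Y S Z : Scheme.{u}} (a : X ⟶ S) (b : Y ⟶ S) (p : Z ⟶ X) (q : Z ⟶ Y)
    (hZ : IsPullback p q a b)
    {ΩX : X.Modules} (dX : Der a ΩX) (hX : IsUniversal dX)
    {ΩY : Y.Modules} (dY : Der b ΩY) (hY : IsUniversal dY)
    {ΩZ : Z.Modules} (dZ : Der (p ≫ a) ΩZ) (hZu : IsUniversal dZ)
    (c₁ : (Scheme.Modules.pullback p).obj ΩX ⟶ ΩZ) (hc₁ : IsDiffCompat p dX dZ c₁)
    (c₂ : (Scheme.Modules.pullback q).obj ΩY ⟶ ΩZ)
    (hc₂ : IsDiffCompat q dY (castDer hZ.w dZ) c₂)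

include hZ hX hY hZu hc₁ hc₂ in
theorem isIso_cokernel_left : IsIso (c₁ ≫ cokernel.π c₂) := by
  have hu2 := isUniversal_cokerDer q b dY hY (castDer hZ.w dZ) (isUniversal_castDer hZ.w dZ hZu)
    c₂ hc₂
  refine isIso_of_isPullback a b p q hZ dX hX (cokerDer q b dY (castDer hZ.w dZ) c₂ hc₂) hu2
    (c₁ ≫ cokernel.π c₂) ?_
  intro U s
  rw [cokerDer_app, castDer_app, ← hc₁ U s]
  rfl

end Prod

section Main

variable {X Y S Z : Scheme.{u}} (a : X ⟶ S) (b : Y ⟶ S) (p : Z ⟶ X) (q : Z ⟶ Y)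
    (hZ : IsPullback p q a b)
    {ΩX : X.Modules} (dX : Der a ΩX) (hX : IsUniversal dX)
    {ΩY : Y.Modules} (dY : Der b ΩY) (hY : IsUniversal dY)
    {ΩZ : Z.Modules} (dZ : Der (p ≫ a) ΩZ) (hZu : IsUniversal dZ)
    (c₁ : (Scheme.Modules.pullback p).obj ΩX ⟶ ΩZ) (hc₁ : IsDiffCompat p dX dZ c₁)
    (c₂ : (Scheme.Modules.pullback q).obj ΩY ⟶ ΩZ)
    (hc₂ : IsDiffCompat q dY (castDer hZ.w dZ) c₂)

include hZ hX hY hZu hc₁ hc₂ in
/-- **the sheaf of differentials of a fibre product** -/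
theorem isIso_desc : IsIso (coprod.desc c₁ c₂) := by
  haveI := isIso_cokernel_left a b p q hZ dX hX dY hY dZ hZu c₁ hc₁ c₂ hc₂
  have hZu' := isUniversal_castDer hZ.w dZ hZu
  have hc₁' : IsDiffCompat p dX (castDer hZ.flip.w (castDer hZ.w dZ)) c₁ := by
    intro U s
    rw [castDer_app, castDer_app]
    exact hc₁ U s
  haveI := isIso_cokernel_left b a q p hZ.flip dY hY dX hX (castDer hZ.w dZ) hZu' c₂ hc₂ c₁ hc₁'
  exact isIso_desc_of_cokernels c₁ c₂

end Main

end Groth.Agent.Lead.OmProd
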