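import Mathlib
import Groth.Prelude
import Groth.Agent.Lib.Lead.OmSm4
import Groth.Agent.Lib.Lead.OmSm10
import Groth.Agent.Lib.Helper2.Sch.SmoothFieldRegular2
import Groth.Agent.Lib.Helper2.Sch.SmoothFieldRegular

set_option autoImplicit false
set_option backward.isDefEq.respectTransparency.types false
set_option synthInstance.maxHeartbeats 400000
set_option linter.style.haveILetI false
set_option linter.unusedSectionVars false
universe u

open CategoryTheory CategoryTheory.Limits AlgebraicGeometry IsLocalRing Topology TopologicalSpace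
open TensorProduct

namespace Groth.Agent.Lead.OmSm

open OmegaSh Groth.Agent.Lead.OmU Groth.Agent.Lead.FLF

/-- any ring map out of a field is flat -/
theorem flat_of_isField {A B : Type u} [CommRing A] [CommRing B] (φ : A →+* B) (hA : IsField A) :
    φ.Flat := by
  letI := hA.toField
  letI := φ.toAlgebra
  show Module.Flat A B
  infer_instance

/-- S12422: over a perfect field, differentials locally free of rank the dimension iff regular -/
theorem S12422_main (k : Type u) [Field k] [PerfectField k] (n : ℕ)
    (X : Scheme.{u}) (f : X ⟶ Spec (CommRingCat.of k)) [IrreducibleSpace ↥X]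
    [LocallyOfFiniteType f]
    (hn : topologicalKrullDim ↥X = (n : WithBot ℕ∞))
    (Ω : X.Modules) (d : OmegaSh.Der f Ω) (hd : OmegaSh.IsUniversal d) :
    FlatMod.IsFinLocFreeOfRank n Ω ↔ ∀ x : ↥X, IsRegularLocalRing ↑(X.presheaf.stalk x) := by
  haveI : LocallyOfFinitePresentation f :=
    LocallyOfFinitePresentation.iff_locallyOfFiniteType.mpr inferInstance
  haveI : Subsingleton ↥(Spec (CommRingCat.of k)) :=
    inferInstanceAs (Subsingleton (PrimeSpectrum k))
  haveI : IsLocallyNoetherian X := LocallyOfFiniteType.isLocallyNoetherian f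
  have hdim : ∀ x, FlatMor.fibreDimAt f x = (n : WithBot ℕ∞) := fun x => by
    rw [Groth.Agent.Helper2.FibreDimField.fibreDimAt_eq_localDim_of_subsingleton,
      localDim_eq_dim_of_irreducible k f, hn]
  constructor
  · intro h x
    obtain ⟨U, hxU, ⟨e⟩⟩ := h x
    have hflat : (f.stalkMap x).hom.Flat := flat_of_isField _
      (Groth.Agent.Helper2.SmoothFieldRegular.isField_stalk_spec_field k (f x))
    have hx := mem_smoothLocus_of_flat_of_free f Ω d hd x hflat U n hxU e (hdim x)
    exact Groth.Agent.Helper2.SmoothFieldRegular.isRegularLocalRing_stalk_of_formallySmooth k f x hx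
  · intro h x
    have hx := Groth.Agent.Helper2.SmoothFieldRegular.mem_smoothLocus_of_isRegularLocalRing f x (h x)
    obtain ⟨_, U, m, hxU, he, hm⟩ := (S5022_main f Ω d hd x).1 hx
    rw [hdim x] at hm
    have : n = m := by exact_mod_cast hm
    subst this
    exact ⟨U, hxU, he⟩

end Groth.Agent.Lead.OmSm
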