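import Mathlib
import Groth.Prelude
import Groth.Agent.Lib.Lead.OmSm1
import Groth.Agent.Lib.Helper8.Andre2
import Groth.Agent.Lib.Helper8.AdicFS7
import Groth.Agent.Lib.Helper8.Depth30
import Groth.Agent.Lib.Helper3.FibStalk2

set_option autoImplicit false
set_option backward.isDefEq.respectTransparency.types false
set_option synthInstance.maxHeartbeats 400000
set_option linter.style.haveILetI false
set_option linter.unusedSectionVars false
universe u

open CategoryTheory CategoryTheory.Limits AlgebraicGeometry IsLocalRing Topology TopologicalSpace
open TensorProduct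

namespace Groth.Agent.Lead.OmSm

variable {A B : Type u} [CommRing A] [CommRing B] [Algebra A B]

/-- a Noetherian local ring formally smooth over a field is regular -/
theorem isRegularLocalRing_of_formallySmooth_field (k C : Type u) [Field k] [CommRing C]
    [IsLocalRing C] [IsNoetherianRing C] [Algebra k C] [Algebra.FormallySmooth k C] :
    IsRegularLocalRing C := by
  haveI : IsRegularLocalRing k :=
    Groth.Agent.Helper8.Depth.isRegularLocalRing_of_isField k (Field.toIsField k)
  haveI : IsLocalHom (algebraMap k C) := by
    constructor
    intro a ha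
    rcases eq_or_ne a 0 with rfl | h
    · rw [map_zero] at ha
      exact (not_isUnit_zero ha).elim
    · exact h.isUnit
  exact Groth.Agent.Helper8.Andre.isRegularLocalRing_of_isAdicFormallySmooth (A₁ := k)
    (Groth.Agent.Helper8.AdicFS.of_formallySmooth (R := k) _)

open Algebra.TensorProduct in
theorem isRegularLocalRing_quotient_of_fiber [Algebra.FiniteType A B] (p : Ideal A) [p.IsPrime]
    (Q : Ideal (p.Fiber B)) [Q.IsPrime]
    (h : Algebra.FormallySmooth p.ResidueField (Localization.AtPrime Q)) :
    letI := Localization.AtPrime.algebraOfLiesOver p (Q.comap includeRight)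
    IsRegularLocalRing (Localization.AtPrime (Q.comap includeRight) ⧸
      (maximalIdeal (Localization.AtPrime p)).map
        (algebraMap (Localization.AtPrime p) (Localization.AtPrime (Q.comap includeRight)))) := by
  letI := Localization.AtPrime.algebraOfLiesOver p (Q.comap includeRight)
  haveI : IsNoetherianRing (p.Fiber B) := Algebra.FiniteType.isNoetherianRing p.ResidueField _
  haveI : IsNoetherianRing (Localization.AtPrime Q) :=
    IsLocalization.isNoetherianRing Q.primeCompl _ inferInstance
  haveI := isRegularLocalRing_of_formallySmooth_field p.ResidueField (Localization.AtPrime Q)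
  let e1 := Ideal.Fiber.localizationAlgEquivQuotient p Q
  have hI : p.map (algebraMap A (Localization.AtPrime (Q.comap includeRight))) =
      (maximalIdeal (Localization.AtPrime p)).map
      (algebraMap (Localization.AtPrime p) (Localization.AtPrime (Q.comap includeRight))) := by
    rw [← Localization.AtPrime.map_eq_maximalIdeal, Ideal.map_map, ← IsScalarTower.algebraMap_eq]
  exact IsRegularLocalRing.of_ringEquiv (R := Localization.AtPrime Q)
    (e1.toRingEquiv.trans (Ideal.quotEquivOfEq hI))

/-- isomorphism of the closed fibre rings along an isomorphism of arrows -/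
noncomputable def quotientEquivOfArrowIso {A B A' B' : CommRingCat.{u}} [IsLocalRing A]
    [IsLocalRing A'] (α : A ⟶ B) (β : A' ⟶ B') (e : Arrow.mk α ≅ Arrow.mk β) :
    (B ⧸ (maximalIdeal A).map α.hom) ≃+* (B' ⧸ (maximalIdeal A').map β.hom) := by
  let eA : A ≅ A' := Comma.leftIso e
  let eB : B ≅ B' := Comma.rightIso e
  have hw : α ≫ eB.hom = eA.hom ≫ β := e.hom.w.symm
  have hAmax : (maximalIdeal A).map eA.hom.hom = maximalIdeal A' := by
    exact Groth.Agent.Helper3.FibStalk.map_maximalIdeal_of_surjective eA.hom.hom
      eA.commRingCatIsoToRingEquiv.surjective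
  have hJ : (maximalIdeal A').map β.hom =
      ((maximalIdeal A).map α.hom).map (eB.commRingCatIsoToRingEquiv : B →+* B') := by
    rw [← hAmax, Ideal.map_map, Ideal.map_map]
    congr 1
    have := congrArg CommRingCat.Hom.hom hw
    exact this.symm
  exact Ideal.quotientEquiv ((maximalIdeal A).map α.hom) ((maximalIdeal A').map β.hom)
    eB.commRingCatIsoToRingEquiv hJ

end Groth.Agent.Lead.OmSm
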