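import Mathlib
import Groth.Prelude
import Groth.Agent.Lib.Lead.OmSm4
import Groth.Agent.Lib.Lead.OmSm5
import Groth.Agent.Lib.Helper8.LocalHomReg

set_option autoImplicit false
set_option backward.isDefEq.respectTransparency.types false
set_option synthInstance.maxHeartbeats 400000
set_option linter.style.haveILetI false
set_option linter.unusedSectionVars false
universe u

open CategoryTheory CategoryTheory.Limits AlgebraicGeometry IsLocalRing Topology TopologicalSpace
open TensorProduct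

namespace Groth.Agent.Lead.OmSm

open OmegaSh Groth.Agent.Lead.OmU Groth.Agent.Lead.FLF

/-- regularity of the closed fibre ring of the stalk map when the differentials are free of rank
the fibre dimension -/
theorem isRegularLocalRing_fibre_of_free {X Y : Scheme.{u}} (f : X ⟶ Y)
    [LocallyOfFinitePresentation f]
    (Ω' : X.Modules) (d : OmegaSh.Der f Ω') (hd : OmegaSh.IsUniversal d) (x : X)
    (U : X.Opens) (n : ℕ) (hxU : x ∈ U)
    (e : Ω'.restrict U.ι ≅ FlatMod.freeMod (↑U) n)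
    (hn : FlatMor.fibreDimAt f x = (n : WithBot ℕ∞)) :
    IsRegularLocalRing (X.presheaf.stalk x ⧸
      (maximalIdeal (Y.presheaf.stalk (f x))).map (f.stalkMap x).hom) := by
  classical
  obtain ⟨_, ⟨VY, hVY, rfl⟩, hxVY, -⟩ :=
    Y.isBasis_affineOpens.exists_subset_of_mem_open (Set.mem_univ (f x)) isOpen_univ
  obtain ⟨_, ⟨V, hV, rfl⟩, hxV, hVle⟩ :=
    X.isBasis_affineOpens.exists_subset_of_mem_open
      (show x ∈ (U ⊓ f ⁻¹ᵁ VY : X.Opens) from ⟨hxU, hxVY⟩) (U ⊓ f ⁻¹ᵁ VY).2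
  have hVU : V ≤ U := fun y hy => (hVle hy).1
  have eV : V ≤ f ⁻¹ᵁ VY := fun y hy => (hVle hy).2
  have hfp := f.finitePresentation_appLE hVY hV eV
  have earr := IsAffineOpen.arrowStalkMapIso f VY hVY V hV eV hxV
  algebraize [(f.appLE VY V eV).hom]
  have E1 := sectionsKaehler f d hd hV hVY eV
  have E2 := sectionsFreeEquiv hV Ω' n (freeOfLE hVU Ω' n e)
  have E := E1.symm ≪≫ₗ E2
  haveI : Nontrivial Γ(X, V) := by
    haveI : Nonempty ↥V := ⟨⟨x, hxV⟩⟩
    infer_instance
  haveI : Module.Free Γ(X, V) Ω[Γ(X, V)⁄Γ(Y, VY)] := Module.Free.of_equiv E.symm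
  haveI : Module.Finite Γ(X, V) Ω[Γ(X, V)⁄Γ(Y, VY)] := Module.Finite.equiv E.symm
  have hrank : Module.finrank Γ(X, V) Ω[Γ(X, V)⁄Γ(Y, VY)] = n := by
    rw [E.finrank_eq]
    simp
  have hpq : (hV.primeIdealOf ⟨x, hxV⟩).asIdeal.LiesOver (hVY.primeIdealOf ⟨f x, eV hxV⟩).asIdeal :=
    ⟨congr($(IsAffineOpen.comap_primeIdealOf_appLE VY hVY V hV eV hxV).1).symm⟩
  letI := Localization.AtPrime.algebraOfLiesOver (hVY.primeIdealOf ⟨f x, eV hxV⟩).asIdeal
    (hV.primeIdealOf ⟨x, hxV⟩).asIdeal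
  let q0 : PrimeSpectrum.comap (algebraMap Γ(Y, VY) Γ(X, V)) ⁻¹' {hVY.primeIdealOf ⟨f x, eV hxV⟩} :=
    ⟨hV.primeIdealOf ⟨x, hxV⟩, PrimeSpectrum.ext hpq.over.symm⟩
  let Q := PrimeSpectrum.preimageEquivFiber Γ(Y, VY) Γ(X, V) (hVY.primeIdealOf ⟨f x, eV hxV⟩) q0
  have hQ : Q.asIdeal.comap Algebra.TensorProduct.includeRight.toRingHom =
      (hV.primeIdealOf ⟨x, hxV⟩).asIdeal := by
    have := (PrimeSpectrum.preimageEquivFiber Γ(Y, VY) Γ(X, V)
      (hVY.primeIdealOf ⟨f x, eV hxV⟩)).symm_apply_apply q0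
    exact congr($(this).1.asIdeal)
  have hdim := Groth.Agent.Lib.Helper4.Chev2.fibreDimAt_eq_localDim_fiberRing f x hV hVY eV hxV Q hQ
  have hsm : Algebra.IsSmoothAt (hVY.primeIdealOf ⟨f x, eV hxV⟩).asIdeal.ResidueField Q.asIdeal := by
    apply isSmoothAt_fiber_of_free
    rw [hrank, ← hdim, hn]
    rfl
  have key : ∀ (q' : Ideal Γ(X, V)) [q'.IsPrime]
      [q'.LiesOver (hVY.primeIdealOf ⟨f x, eV hxV⟩).asIdeal],
      Q.asIdeal.comap Algebra.TensorProduct.includeRight.toRingHom = q' →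
      letI := Localization.AtPrime.algebraOfLiesOver (hVY.primeIdealOf ⟨f x, eV hxV⟩).asIdeal q'
      IsRegularLocalRing (Localization.AtPrime q' ⧸
        (maximalIdeal (Localization.AtPrime (hVY.primeIdealOf ⟨f x, eV hxV⟩).asIdeal)).map
          (algebraMap (Localization.AtPrime (hVY.primeIdealOf ⟨f x, eV hxV⟩).asIdeal)
            (Localization.AtPrime q'))) := by
    rintro q' _ _ rfl
    exact isRegularLocalRing_quotient_of_fiber _ Q.asIdeal hsm
  have hreg := key _ hQ
  have Eq := quotientEquivOfArrowIso _ _ earr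
  exact IsRegularLocalRing.of_ringEquiv Eq.symm


/-- S11581 -/
theorem S11581_main {X S : Scheme.{u}} (f : X ⟶ S)
    [IsLocallyNoetherian S] (hreg : ∀ s : S, IsRegularLocalRing (S.presheaf.stalk s))
    [LocallyOfFinitePresentation f]
    (Ω' : X.Modules) (d : OmegaSh.Der f Ω') (hd : OmegaSh.IsUniversal d) (x : X)
    (hdim : ringKrullDim (X.presheaf.stalk x) =
      ringKrullDim ((f.fiber (f x)).presheaf.stalk (f.asFiber x)) +
        ringKrullDim (S.presheaf.stalk (f x))) :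
    x ∈ f.smoothLocus ↔
      ∃ (U : X.Opens) (n : ℕ), x ∈ U ∧ Nonempty (Ω'.restrict U.ι ≅ FlatMod.freeMod (↑U) n) ∧
        FlatMor.fibreDimAt f x = (n : WithBot ℕ∞) := by
  constructor
  · intro hx
    exact exists_free_of_mem_smoothLocus f Ω' d hd x hx
  · rintro ⟨U, n, hxU, ⟨e⟩, hn⟩
    refine mem_smoothLocus_of_flat_of_free f Ω' d hd x ?_ U n hxU e hn
    haveI : IsLocallyNoetherian X := LocallyOfFiniteType.isLocallyNoetherian f
    have h0 := isRegularLocalRing_fibre_of_free f Ω' d hd x U n hxU e hn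
    haveI := hreg (f x)
    obtain ⟨γ, hγ, hk⟩ := Groth.Agent.Helper3.FibStalk.exists_fibre_presentation f x
    have eq := (Ideal.quotEquivOfEq hk.symm).trans (RingHom.quotientKerEquivOfSurjective hγ)
    have hd2 : ringKrullDim ((f.fiber (f x)).presheaf.stalk (f.asFiber x)) =
        ringKrullDim (X.presheaf.stalk x ⧸
          (maximalIdeal (S.presheaf.stalk (f x))).map (f.stalkMap x).hom) :=
      (ringKrullDim_eq_of_ringEquiv eq).symm
    algebraize [(f.stalkMap x).hom]
    haveI : IsLocalHom (algebraMap (S.presheaf.stalk (f x)) (X.presheaf.stalk x)) :=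
      inferInstanceAs (IsLocalHom (f.stalkMap x).hom)
    haveI : IsRegularLocalRing (X.presheaf.stalk x ⧸
        (maximalIdeal (S.presheaf.stalk (f x))).map
          (algebraMap (S.presheaf.stalk (f x)) (X.presheaf.stalk x))) := h0
    have h4 : ringKrullDim (X.presheaf.stalk x) = ringKrullDim (S.presheaf.stalk (f x)) +
        ringKrullDim (X.presheaf.stalk x ⧸ (maximalIdeal (S.presheaf.stalk (f x))).map
          (algebraMap (S.presheaf.stalk (f x)) (X.presheaf.stalk x))) := by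
      rw [hdim, hd2, add_comm]
      rfl
    have h5 := (Groth.Agent.Helper8.LocalHomReg.tfae_regular (S.presheaf.stalk (f x))
      (X.presheaf.stalk x)).out 3 2
    have h6 := h5.mp ⟨inferInstance, inferInstance, h4⟩
    exact (RingHom.flat_algebraMap_iff).mp h6.2.2

end Groth.Agent.Lead.OmSm
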