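import Mathlib
import Groth.Prelude

set_option autoImplicit false
set_option backward.isDefEq.respectTransparency.types false
set_option synthInstance.maxHeartbeats 400000
set_option linter.style.haveILetI false
set_option linter.unusedSectionVars false
universe u

open IsLocalRing TensorProduct

namespace Groth.Agent.Lead.OmSm

/-- the cotangent map of the residue field of a local algebra over a field of characteristic zero
is injective -/
theorem kerCotangentToTensor_injective (k R : Type u) [Field k] [CommRing R] [Algebra k R]
    [IsLocalRing R] [Algebra.FormallySmooth k (ResidueField R)] :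
    Function.Injective (KaehlerDifferential.kerCotangentToTensor k R (ResidueField R)) := by
  have hf : Function.Surjective (algebraMap R (ResidueField R)) := IsLocalRing.residue_surjective
  let φ := (IsScalarTower.toAlgHom k R (ResidueField R)).kerSquareLift
  have hφ : Function.Surjective φ := by
    intro y
    obtain ⟨x, rfl⟩ := hf y
    exact ⟨Ideal.Quotient.mk _ x, rfl⟩
  have hnil : IsNilpotent (RingHom.ker (φ : (R ⧸ RingHom.ker (IsScalarTower.toAlgHom k R
      (ResidueField R)).toRingHom ^ 2) →+* ResidueField R)) := by
    refine ⟨2, ?_⟩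
    have h0 := AlgHom.ker_kerSquareLift (IsScalarTower.toAlgHom k R (ResidueField R))
    change RingHom.ker (IsScalarTower.toAlgHom k R (ResidueField R)).kerSquareLift.toRingHom ^ 2 = ⊥
    rw [h0]
    exact Ideal.cotangentIdeal_square _
  let g := Algebra.FormallySmooth.liftOfSurjective (AlgHom.id k (ResidueField R)) φ hφ hnil
  have hg : φ.comp g = AlgHom.id k (ResidueField R) :=
    Algebra.FormallySmooth.comp_liftOfSurjective _ _ hφ hnil
  obtain ⟨l, hl⟩ := (retractionKerCotangentToTensorEquivSection (R := k) hf).symm
    ⟨g, hg⟩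
  exact Function.LeftInverse.injective (g := l) fun x => LinearMap.congr_fun hl x


/-- a local algebra over a field of characteristic zero with nilpotent maximal ideal and free
module of differentials is a field -/
theorem isField_of_free_kaehler (k R : Type u) [Field k] [CharZero k] [CommRing R] [Algebra k R]
    [IsLocalRing R] [IsNoetherianRing R] [Algebra.FormallySmooth k (ResidueField R)]
    (hnil : ∀ x ∈ maximalIdeal R, IsNilpotent x) [Module.Free R Ω[R⁄k]] : IsField R := by
  classical
  rw [IsLocalRing.isField_iff_maximalIdeal_eq]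
  by_contra hne
  have hnot : ¬ (maximalIdeal R ≤ maximalIdeal R ^ 2) := by
    intro hle
    apply hne
    refine Submodule.eq_bot_of_le_smul_of_le_jacobson_bot (maximalIdeal R) (maximalIdeal R)
      (IsNoetherian.noetherian _) ?_ (IsLocalRing.maximalIdeal_le_jacobson _)
    rw [smul_eq_mul, ← pow_two]
    exact hle
  obtain ⟨x, hx, hx2⟩ : ∃ x ∈ maximalIdeal R, x ∉ maximalIdeal R ^ 2 := by
    by_contra hcon
    apply hnot
    intro x hx
    by_contra hx2
    exact hcon ⟨x, hx, hx2⟩
  have hker : RingHom.ker (algebraMap R (ResidueField R)) = maximalIdeal R :=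
    IsLocalRing.ker_residue
  have hxI : x ∈ RingHom.ker (algebraMap R (ResidueField R)) := by rw [hker]; exact hx
  have h1 : KaehlerDifferential.kerCotangentToTensor k R (ResidueField R)
      ((RingHom.ker (algebraMap R (ResidueField R))).toCotangent ⟨x, hxI⟩) =
      1 ⊗ₜ KaehlerDifferential.D k R x :=
    KaehlerDifferential.kerCotangentToTensor_toCotangent k R (ResidueField R) ⟨x, hxI⟩
  have h2 : (RingHom.ker (algebraMap R (ResidueField R))).toCotangent ⟨x, hxI⟩ ≠ 0 := by
    rw [Ne, Ideal.toCotangent_eq_zero]
    intro hmem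
    apply hx2
    have : (x : R) ∈ RingHom.ker (algebraMap R (ResidueField R)) ^ 2 := hmem
    rwa [hker] at this
  have h3 : (1 : ResidueField R) ⊗ₜ[R] KaehlerDifferential.D k R x ≠ 0 := by
    rw [← h1]
    intro h
    exact h2 (kerCotangentToTensor_injective k R (h.trans (map_zero _).symm))
  let b := Module.Free.chooseBasis R Ω[R⁄k]
  have h4 : ∃ i, IsUnit (b.repr (KaehlerDifferential.D k R x) i) := by
    by_contra hno
    have hall : ∀ i, b.repr (KaehlerDifferential.D k R x) i ∈ maximalIdeal R := fun i =>
      (IsLocalRing.mem_maximalIdeal _).mpr (not_exists.mp hno i)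
    apply h3
    rw [← b.linearCombination_repr (KaehlerDifferential.D k R x), Finsupp.linearCombination_apply,
      Finsupp.sum, TensorProduct.tmul_sum]
    apply Finset.sum_eq_zero
    intro i _
    rw [TensorProduct.tmul_smul, TensorProduct.smul_tmul', Algebra.smul_def, mul_one]
    have : algebraMap R (ResidueField R) (b.repr (KaehlerDifferential.D k R x) i) = 0 := by
      rw [← RingHom.mem_ker, hker]
      exact hall i
    rw [this, TensorProduct.zero_tmul]
  obtain ⟨i, hi⟩ := h4
  have hex : ∃ m, x ^ m = 0 := hnil x hx
  have hm : x ^ Nat.find hex = 0 := Nat.find_spec hex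
  have hm0 : Nat.find hex ≠ 0 := by
    intro h0
    rw [h0, pow_zero] at hm
    exact one_ne_zero hm
  have hD := (KaehlerDifferential.D k R).leibniz_pow x (Nat.find hex)
  rw [hm, map_zero] at hD
  have h5 := congrArg (fun v => b.repr v i) hD
  simp only [map_zero, Finsupp.coe_zero, Pi.zero_apply, map_nsmul, map_smul, Finsupp.coe_smul,
    Pi.smul_apply, smul_eq_mul] at h5
  have h6 : ((Nat.find hex : ℕ) : R) * x ^ (Nat.find hex - 1) = 0 := by
    have h7 : ((Nat.find hex : ℕ) : R) * x ^ (Nat.find hex - 1) *
        b.repr (KaehlerDifferential.D k R x) i = 0 := by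
      rw [mul_assoc, ← nsmul_eq_mul]
      exact h5.symm
    exact (hi.mul_left_eq_zero).mp h7
  have h8 : IsUnit ((Nat.find hex : ℕ) : R) := by
    have : ((Nat.find hex : ℕ) : R) = algebraMap k R ((Nat.find hex : ℕ) : k) := by
      rw [map_natCast]
    rw [this]
    exact (IsUnit.mk0 _ (Nat.cast_ne_zero.mpr hm0)).map _
  have h9 : x ^ (Nat.find hex - 1) = 0 := (h8.mul_right_eq_zero).mp h6
  exact Nat.find_min hex (Nat.sub_lt (Nat.pos_of_ne_zero hm0) Nat.one_pos) h9

end Groth.Agent.Lead.OmSm
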