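import Mathlib
import Groth.Prelude
import Groth.Agent.S2063
import Groth.Agent.Lib.Helper7.SmoothBC.MinPrime
import Groth.Agent.Lib.Helper2.Sch.SmoothRelDim

set_option autoImplicit false
set_option backward.isDefEq.respectTransparency.types false
set_option synthInstance.maxHeartbeats 400000
set_option linter.style.haveILetI false
set_option linter.unusedSectionVars false
universe u

open CategoryTheory CategoryTheory.Limits AlgebraicGeometry IsLocalRing Topology TopologicalSpace
open TensorProduct

namespace Groth.Agent.Lead.SmProj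

theorem localDim_mono {X : Type*} [TopologicalSpace X] {x y : X} (h : x ⤳ y) :
    FlatMor.localDim X x ≤ FlatMor.localDim X y := by
  unfold FlatMor.localDim
  exact le_iInf fun U => iInf_le_of_le ⟨U.1, h.mem_open U.1.2 U.2⟩ le_rfl

/-- S4999 -/
theorem S4999_main (k A : Type u) [Field k] [CommRing A] [Algebra k A] [Algebra.FiniteType k A] :
    Algebra.Smooth k A ↔
      Module.Projective A (Ω[A⁄k]) ∧
        ∀ (p : Ideal A) [p.IsPrime], p ∈ minimalPrimes A →
          Algebra.IsGeometricallyReduced k (Localization.AtPrime p) := by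
  haveI : Algebra.FinitePresentation k A :=
    Algebra.FinitePresentation.of_finiteType.mp inferInstance
  constructor
  · intro hsm
    haveI := hsm
    refine ⟨inferInstance, fun p _ _ => ?_⟩
    rw [Algebra.isGeometricallyReduced_field_iff]
    haveI : Algebra.Smooth (AlgebraicClosure k) (AlgebraicClosure k ⊗[k] A) := inferInstance
    haveI : IsReduced (AlgebraicClosure k ⊗[k] A) :=
      Groth.Agent.Helper7.SmoothBC.isReduced_of_smooth_field (AlgebraicClosure k) _
    exact Groth.Agent.Helper7.SmoothBC.isReduced_tensor_of_isLocalization k (AlgebraicClosure k) A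
      (Localization.AtPrime p) p.primeCompl
  · rintro ⟨hproj, hmin⟩
    haveI := hproj
    refine ⟨?_, inferInstance⟩
    rw [← Algebra.smoothLocus_eq_univ_iff, Set.eq_univ_iff_forall]
    intro q
    obtain ⟨p, hp, hpq⟩ := Ideal.exists_minimalPrimes_le (I := (⊥ : Ideal A)) (J := q.asIdeal) bot_le
    haveI : p.IsPrime := hp.1.1
    have hgr : IsReduced (AlgebraicClosure k ⊗[k] Localization.AtPrime p) :=
      (Algebra.isGeometricallyReduced_field_iff k _).mp (hmin p hp)
    haveI hsmp : Algebra.IsSmoothAt k p :=
      Groth.Agent.Helper7.SmoothBC.isSmoothAt_of_isReduced_tensor_of_minimal k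
        (AlgebraicClosure k) A p hp hgr
    have h1 := Groth.Agent.Helper2.SmoothRelDim.localDim_eq_finrank_of_isSmoothAt (k := k) p
    have h2 : Module.finrank q.asIdeal.ResidueField (q.asIdeal.ResidueField ⊗[A] Ω[A⁄k]) =
        Module.finrank p.ResidueField (p.ResidueField ⊗[A] Ω[A⁄k]) := by
      have e1 := Ideal.finrank_fiber_eq_rankAtStalk (M := Ω[A⁄k]) q.asIdeal
      have e2 := Ideal.finrank_fiber_eq_rankAtStalk (M := Ω[A⁄k]) p
      have e3 := Module.rankAtStalk_eq_of_le_of_finite_of_flat' (Ω[A⁄k]) hpq
      exact e1.trans (e3.symm.trans e2.symm)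
    have h3 : (⟨p, inferInstance⟩ : PrimeSpectrum A) ⤳ q :=
      (PrimeSpectrum.le_iff_specializes _ _).mp hpq
    have h4 := localDim_mono h3
    show Algebra.IsSmoothAt k q.asIdeal
    rw [Groth.Agent.S2063.result, h2]
    rw [h1] at h4
    exact h4

end Groth.Agent.Lead.SmProj
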