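import Mathlib
import Groth.Prelude
import Groth.Agent.Lib.Lead.OmSm7
import Groth.Agent.Lib.Lead.SmProj1
import Groth.Agent.Lib.Helper2.SepGen

set_option autoImplicit false
set_option backward.isDefEq.respectTransparency.types false
set_option synthInstance.maxHeartbeats 400000
set_option linter.style.haveILetI false
set_option linter.unusedSectionVars false
universe u

open IsLocalRing TensorProduct

namespace Groth.Agent.Lead.OmSm

/-- freeness of the differentials of the local ring in terms of the free locus -/
theorem mem_freeLocus_kaehler_iff (k A : Type u) [CommRing k] [CommRing A] [Algebra k A]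
    (p : PrimeSpectrum A) :
    p ∈ Module.freeLocus A Ω[A⁄k] ↔
      Module.Free (Localization.AtPrime p.asIdeal) Ω[Localization.AtPrime p.asIdeal⁄k] := by
  rw [Module.mem_freeLocus]
  have := IsLocalizedModule.iso p.asIdeal.primeCompl
    (KaehlerDifferential.map k k A (Localization.AtPrime p.asIdeal))
  have := this.extendScalarsOfIsLocalization
    p.asIdeal.primeCompl (Localization.AtPrime p.asIdeal)
  exact ⟨fun H ↦ H.of_equiv' this, fun H ↦ H.of_equiv' this.symm⟩

/-- in characteristic zero, a finite type algebra with projective differentials is smooth -/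
theorem smooth_of_projective_kaehler (k A : Type u) [Field k] [CharZero k] [CommRing A]
    [Algebra k A] [Algebra.FiniteType k A] [Module.Projective A Ω[A⁄k]] :
    Algebra.Smooth k A := by
  haveI : Algebra.FinitePresentation k A :=
    Algebra.FinitePresentation.of_finiteType.mp inferInstance
  rw [Groth.Agent.Lead.SmProj.S4999_main]
  refine ⟨inferInstance, fun p _ hp => ?_⟩
  haveI : IsNoetherianRing A := Algebra.FiniteType.isNoetherianRing k A
  haveI : IsNoetherianRing (Localization.AtPrime p) :=
    IsLocalization.isNoetherianRing p.primeCompl _ inferInstance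
  haveI : Algebra.EssFiniteType A (Localization.AtPrime p) :=
    .of_isLocalization _ p.primeCompl
  haveI : Algebra.EssFiniteType k (Localization.AtPrime p) := .comp _ A _
  haveI : Algebra.EssFiniteType k (ResidueField (Localization.AtPrime p)) := .comp _ (Localization.AtPrime p) _
  haveI : Algebra.FormallySmooth k (ResidueField (Localization.AtPrime p)) :=
    Algebra.FormallySmooth.of_perfectField
  haveI : Module.Free (Localization.AtPrime p) Ω[Localization.AtPrime p⁄k] := by
    have h1 : (⟨p, inferInstance⟩ : PrimeSpectrum A) ∈ Module.freeLocus A Ω[A⁄k] := by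
      rw [Module.freeLocus_eq_univ_iff.mpr inferInstance]
      trivial
    exact (mem_freeLocus_kaehler_iff k A ⟨p, inferInstance⟩).mp h1
  have hnil : ∀ x ∈ maximalIdeal (Localization.AtPrime p), IsNilpotent x := by
    intro x hx
    have h2 := IsLocalization.AtPrime.radical_map_of_mem_minimalPrimes
      (A := Localization.AtPrime p) p ⊥ hp
    rw [Ideal.map_bot, Localization.AtPrime.map_eq_maximalIdeal] at h2
    rw [← h2] at hx
    exact (mem_nilradical.mp hx)
  have hF := isField_of_free_kaehler k (Localization.AtPrime p) hnil
  letI := hF.toField
  exact Groth.Agent.Helper2.Sep.isGeometricallyReduced_of_charZero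


/-- S5000 -/
theorem S5000_main (k A : Type u) [Field k] [CharZero k] [CommRing A]
    [Algebra k A] [Algebra.FiniteType k A] (q : Ideal A) [q.IsPrime] :
    Algebra.IsSmoothAt k q ↔
      Module.Free (Localization.AtPrime q) (KaehlerDifferential k (Localization.AtPrime q)) := by
  haveI : Algebra.FinitePresentation k A :=
    Algebra.FinitePresentation.of_finiteType.mp inferInstance
  haveI : Algebra.EssFiniteType A (Localization.AtPrime q) :=
    .of_isLocalization _ q.primeCompl
  haveI : Algebra.EssFiniteType k (Localization.AtPrime q) := .comp _ A _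
  constructor
  · intro h
    haveI : Algebra.FormallySmooth k (Localization.AtPrime q) := h
    exact Module.free_of_flat_of_isLocalRing
  · intro h
    have h1 : (⟨q, inferInstance⟩ : PrimeSpectrum A) ∈ Module.freeLocus A Ω[A⁄k] :=
      (mem_freeLocus_kaehler_iff k A ⟨q, inferInstance⟩).mpr h
    obtain ⟨_, ⟨_, ⟨f, rfl⟩, rfl⟩, hqf, hsub⟩ :=
      PrimeSpectrum.isBasis_basic_opens.exists_subset_of_mem_open h1 Module.isOpen_freeLocus
    have h2 : Module.Projective (Localization.Away f) (LocalizedModule.Away f Ω[A⁄k]) :=
      Module.basicOpen_subset_freeLocus_iff.mp hsub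
    have e1 := IsLocalizedModule.iso (Submonoid.powers f)
      (KaehlerDifferential.map k k A (Localization.Away f))
    have e2 := e1.extendScalarsOfIsLocalization (Submonoid.powers f) (Localization.Away f)
    haveI : Module.Projective (Localization.Away f) Ω[Localization.Away f⁄k] :=
      Module.Projective.of_equiv e2
    haveI : Algebra.FiniteType A (Localization.Away f) :=
      IsLocalization.finiteType_of_monoid_fg (Submonoid.powers f) _
    haveI : Algebra.FiniteType k (Localization.Away f) := Algebra.FiniteType.trans ‹_› ‹_›
    haveI := smooth_of_projective_kaehler k (Localization.Away f)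
    have h3 : (PrimeSpectrum.basicOpen f : Set (PrimeSpectrum A)) ⊆ Algebra.smoothLocus k A :=
      Algebra.basicOpen_subset_smoothLocus_iff.mpr inferInstance
    exact h3 hqf

end Groth.Agent.Lead.OmSm
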