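import Mathlib

set_option autoImplicit false
universe u
open TensorProduct

namespace Groth.Agent.Lead.OmU

section Alg

attribute [local instance] SMulCommClass.of_commMonoid

variable {R₁ R₂ A₁ A₂ : Type u} [CommRing R₁] [CommRing R₂] [CommRing A₁] [CommRing A₂]
    [Algebra R₁ R₂] [Algebra R₁ A₁] [Algebra R₂ A₂] [Algebra A₁ A₂] [Algebra R₁ A₂]
    [IsScalarTower R₁ A₁ A₂] [IsScalarTower R₁ R₂ A₂]

theorem map_eq_map_map (ω : Ω[A₁⁄R₁]) :
    KaehlerDifferential.map R₁ R₂ A₁ A₂ ω =
      KaehlerDifferential.map R₁ R₂ A₂ A₂ (KaehlerDifferential.map R₁ R₁ A₁ A₂ ω) := by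
  let G₁ : Ω[A₁⁄R₁] →ₗ[A₁] Ω[A₂⁄R₂] := KaehlerDifferential.map R₁ R₂ A₁ A₂
  let G₂ : Ω[A₁⁄R₁] →ₗ[A₁] Ω[A₂⁄R₂] :=
    ((KaehlerDifferential.map R₁ R₂ A₂ A₂).restrictScalars A₁) ∘ₗ
      (KaehlerDifferential.map R₁ R₁ A₁ A₂)
  have hspan := KaehlerDifferential.span_range_derivation R₁ A₁
  have key : G₁ = G₂ := by
    apply LinearMap.ext_on_range hspan
    intro a
    change KaehlerDifferential.map R₁ R₂ A₁ A₂ (KaehlerDifferential.D R₁ A₁ a) =
      KaehlerDifferential.map R₁ R₂ A₂ A₂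
        (KaehlerDifferential.map R₁ R₁ A₁ A₂ (KaehlerDifferential.D R₁ A₁ a))
    rw [KaehlerDifferential.map_D, KaehlerDifferential.map_D, KaehlerDifferential.map_D]
    rfl
  exact congrArg (fun G => G ω) key

theorem map_bijective_of_formallyUnramified [Algebra.FormallyUnramified R₁ R₂] :
    Function.Bijective (KaehlerDifferential.map R₁ R₂ A₂ A₂) := by
  refine ⟨?_, KaehlerDifferential.map_surjective R₁ R₂ A₂⟩
  rw [injective_iff_map_eq_zero]
  intro x hx
  obtain ⟨y, rfl⟩ := (KaehlerDifferential.exact_mapBaseChange_map R₁ R₂ A₂ x).mp hx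
  rw [Subsingleton.elim y 0, map_zero]

/-- for an étale square the linearised map of differentials is bijective. -/
theorem liftBaseChange_map_bijective_of_formallyEtale [Algebra.FormallyEtale A₁ A₂]
    [Algebra.FormallyUnramified R₁ R₂] :
    Function.Bijective ((KaehlerDifferential.map R₁ R₂ A₁ A₂).liftBaseChange A₂) := by
  have h1 := (KaehlerDifferential.tensorKaehlerEquivOfFormallyEtale R₁ A₁ A₂).bijective
  have h2 := map_bijective_of_formallyUnramified (R₁ := R₁) (R₂ := R₂) (A₂ := A₂)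
  have : ∀ z, (KaehlerDifferential.map R₁ R₂ A₁ A₂).liftBaseChange A₂ z =
      KaehlerDifferential.map R₁ R₂ A₂ A₂
        (KaehlerDifferential.tensorKaehlerEquivOfFormallyEtale R₁ A₁ A₂ z) := by
    intro z
    induction z using TensorProduct.induction_on with
    | zero => simp
    | tmul b ω =>
      rw [LinearMap.liftBaseChange_tmul, KaehlerDifferential.tensorKaehlerEquivOfFormallyEtale_apply,
        KaehlerDifferential.mapBaseChange_tmul, map_smul, map_eq_map_map]
    | add x y hx hy => simp only [map_add, hx, hy]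
  have e : ⇑((KaehlerDifferential.map R₁ R₂ A₁ A₂).liftBaseChange A₂) =
      (fun z => KaehlerDifferential.map R₁ R₂ A₂ A₂
        (KaehlerDifferential.tensorKaehlerEquivOfFormallyEtale R₁ A₁ A₂ z)) := funext this
  rw [e]
  exact h2.comp h1

end Alg

end Groth.Agent.Lead.OmU
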