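import Mathlib
import Groth.Prelude.Def_Omega4
import Groth.Agent.Lib.Lead.OmU9c
import Groth.Agent.Lib.Lead.OmU10a
import Groth.Agent.Lib.Helper2.Formal.EtaleHom

set_option autoImplicit false
universe u
open CategoryTheory CategoryTheory.Limits AlgebraicGeometry TopologicalSpace Opposite TensorProduct

set_option backward.isDefEq.respectTransparency.types false

namespace Groth.Agent.Lead.OmU

open OmegaSh Groth.Agent.Lead.DerU Groth.Agent.Lead.BCU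

section Alg

attribute [local instance] SMulCommClass.of_commMonoid

variable {R₁ R₂ A₁ A₂ : Type u} [CommRing R₁] [CommRing R₂] [CommRing A₁] [CommRing A₂]

theorem sqProp_bijective_of_formallyEtale
    (α₁ : R₁ →+* A₁) (α₂ : R₂ →+* A₂) (ρ : R₁ →+* R₂) (φ : A₁ →+* A₂)
    (hsq : φ.comp α₁ = α₂.comp ρ) (hφ : φ.FormallyEtale) (hρ : ρ.FormallyUnramified) :
    SqProp (fun {_ _} F => Function.Bijective F) α₁ α₂ ρ φ hsq := by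
  unfold SqProp
  letI := α₁.toAlgebra
  letI := α₂.toAlgebra
  letI := ρ.toAlgebra
  letI := φ.toAlgebra
  letI := (φ.comp α₁).toAlgebra
  haveI : IsScalarTower R₁ A₁ A₂ := IsScalarTower.of_algebraMap_eq' rfl
  haveI : IsScalarTower R₁ R₂ A₂ := IsScalarTower.of_algebraMap_eq' hsq
  haveI : Algebra.FormallyEtale A₁ A₂ := hφ
  haveI : Algebra.FormallyUnramified R₁ R₂ := hρ
  exact liftBaseChange_map_bijective_of_formallyEtale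

end Alg

section Etale

variable {X₁ S₁ X₂ S₂ : Scheme.{u}} (p₁ : X₁ ⟶ S₁) (p₂ : X₂ ⟶ S₂) (f : X₂ ⟶ X₁) (g : S₂ ⟶ S₁)
    (hsq : f ≫ p₁ = p₂ ≫ g)
    {Ω₁ : X₁.Modules} (d₁ : Der p₁ Ω₁) (hd₁ : IsUniversal d₁)
    {Ω₂ : X₂.Modules} (d₂ : Der p₂ Ω₂) (hd₂ : IsUniversal d₂)
    (c : (Scheme.Modules.pullback f).obj Ω₁ ⟶ Ω₂) (hc : IsDiffCompat f d₁ d₂ c)

open Groth.Agent.Helper2.FormalLib in
include hsq hd₁ hd₂ hc in
/-- for a commutative square with both horizontal maps affine-locally formally étale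
(resp. unramified on the base), the canonical map `f^*Ω₁ ⟶ Ω₂` is an isomorphism. -/
theorem isIso_of_locFEt (hf : LocFEt f) (hg : LocFUnr g) : IsIso c := by
  haveI := isQuasicoherent_of_universal d₁ hd₁
  haveI : ((Scheme.Modules.pullback f).obj Ω₁).IsQuasicoherent :=
    Groth.Agent.Lead.PB.isQuasicoherent_pullback _ _
  haveI := isQuasicoherent_of_universal d₂ hd₂
  apply Groth.Agent.Lead.QcIso.isIso_of_bijective_affine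
  intro x
  obtain ⟨_, ⟨W₁, hW₁, rfl⟩, hxW₁, -⟩ := S₁.isBasis_affineOpens.exists_subset_of_mem_open
    (Set.mem_univ (g (p₂ x))) isOpen_univ
  obtain ⟨_, ⟨W₂, hW₂, rfl⟩, hxW₂, hW₂W₁⟩ := S₂.isBasis_affineOpens.exists_subset_of_mem_open
    (show p₂ x ∈ ((g ⁻¹ᵁ W₁ : S₂.Opens) : Set S₂) from hxW₁) (g ⁻¹ᵁ W₁).2
  have hx1 : f x ∈ ((p₁ ⁻¹ᵁ W₁ : X₁.Opens) : Set X₁) := by
    change p₁ (f x) ∈ W₁
    rw [← Scheme.Hom.comp_apply, hsq, Scheme.Hom.comp_apply]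
    exact hxW₁
  obtain ⟨_, ⟨U₁, hU₁, rfl⟩, hxU₁, hU₁W₁⟩ := X₁.isBasis_affineOpens.exists_subset_of_mem_open
    hx1 (p₁ ⁻¹ᵁ W₁).2
  obtain ⟨_, ⟨U₂, hU₂, rfl⟩, hxU₂, hU₂le⟩ := X₂.isBasis_affineOpens.exists_subset_of_mem_open
    (show x ∈ ((f ⁻¹ᵁ U₁ ⊓ p₂ ⁻¹ᵁ W₂ : X₂.Opens) : Set X₂) from ⟨hxU₁, hxW₂⟩)
    (f ⁻¹ᵁ U₁ ⊓ p₂ ⁻¹ᵁ W₂).2
  have eW : W₂ ≤ g ⁻¹ᵁ W₁ := hW₂W₁
  have e₁ : U₁ ≤ p₁ ⁻¹ᵁ W₁ := hU₁W₁
  have e₂ : U₂ ≤ p₂ ⁻¹ᵁ W₂ := fun y hy => (hU₂le hy).2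
  have eU : U₂ ≤ f ⁻¹ᵁ U₁ := fun y hy => (hU₂le hy).1
  refine ⟨U₂, hU₂, hxU₂, ?_⟩
  refine ((sq_app_iff p₁ p₂ f g hsq d₁ hd₁ d₂ hd₂ c hc eW e₁ e₂ eU hW₁ hW₂ hU₁ hU₂).2.2).2 ?_
  exact sqProp_bijective_of_formallyEtale _ _ _ _ _ (hf U₂ U₁ hU₂ hU₁ eU) (hg W₂ W₁ hW₂ hW₁ eW)

open Groth.Agent.Helper2.FormalLib in
include hsq hd₁ hd₂ hc in
theorem isIso_of_etale [Etale f] [Etale g] : IsIso c := by
  refine isIso_of_locFEt p₁ p₂ f g hsq d₁ hd₁ d₂ hd₂ c hc (locFEt_of_etale f) ?_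
  intro U V hU hV hUV
  have h := locFEt_of_etale g U V hU hV hUV
  algebraize [(g.appLE V U hUV).hom]
  have : Algebra.FormallyEtale Γ(S₁, V) Γ(S₂, U) := h
  exact (inferInstance : Algebra.FormallyUnramified Γ(S₁, V) Γ(S₂, U))

end Etale

end Groth.Agent.Lead.OmU
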