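import Mathlib
import Groth.Prelude.Def_Omega4
import Groth.Prelude.Def_MoreMor
import Groth.Prelude.Def_FlatMod2
import Groth.Agent.Lib.Lead.OmU5
import Groth.Agent.Lib.Lead.FSm1
import Groth.Agent.Lib.Lead.FLF4

set_option autoImplicit false
universe u
open CategoryTheory CategoryTheory.Limits AlgebraicGeometry TopologicalSpace Opposite

set_option backward.isDefEq.respectTransparency.types false

namespace Groth.Agent.Lead.OmU

open OmegaSh Groth.Agent.Lead.DerU

section FLF

variable {X Y : Scheme.{u}} {f : X ⟶ Y} {Ω' : X.Modules} (d : Der f Ω')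

include d in
/-- **the sheaf of differentials of a formally smooth morphism locally of finite type is finite
locally free** -/
theorem isFinLocFree_of_formallySmooth [LocallyOfFiniteType f] (hd : IsUniversal d)
    (hf : MoreMor.IsFormallySmoothHom f) : FlatMod.IsFinLocFree Ω' := by
  haveI := isQuasicoherent_of_universal d hd
  apply Groth.Agent.Lead.FLF.isFinLocFree_of_affine_nhds
  intro x
  obtain ⟨_, ⟨V, hV, rfl⟩, hxV, -⟩ := Y.isBasis_affineOpens.exists_subset_of_mem_open
    (Set.mem_univ (f x)) isOpen_univ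
  obtain ⟨_, ⟨U, hU, rfl⟩, hxU, hUV⟩ := X.isBasis_affineOpens.exists_subset_of_mem_open
    (show x ∈ ((f ⁻¹ᵁ V : X.Opens) : Set X) from hxV) (f ⁻¹ᵁ V).2
  have e : U ≤ f ⁻¹ᵁ V := hUV
  refine ⟨U, hU, hxU, ?_⟩
  letI := (f.appLE V U e).hom.toAlgebra
  haveI : Algebra.FormallySmooth Γ(Y, V) Γ(X, U) := FSm.formallySmooth_appLE hf hU hV e
  have hft : Algebra.FiniteType Γ(Y, V) Γ(X, U) :=
    HasRingHomProperty.appLE (P := @LocallyOfFiniteType) f inferInstance ⟨V, hV⟩ ⟨U, hU⟩ e
  exact ⟨Module.Finite.equiv (sectionsKaehler f d hd hU hV e).symm,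
    Module.Projective.of_equiv (sectionsKaehler f d hd hU hV e).symm⟩

end FLF

end Groth.Agent.Lead.OmU
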