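import Mathlib
import Groth.Agent.Lib.Helper4.DimFT2

/-!
# The fibre of the module of differentials at a rational point dominates the cotangent space of a
subvariety of the fibre (lead)
-/

set_option autoImplicit false
set_option synthInstance.maxHeartbeats 400000
set_option linter.style.haveILetI false
set_option linter.unusedSectionVars false
universe u

namespace Groth.Agent.Lead.OmZ

open IsLocalRing Groth.Agent.Lib.Helper4.DimFT2

section Alg

variable (k : Type u) [Field k] {A B : Type u} [CommRing A] [CommRing B] [Algebra k A] [Algebra k B]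
  [Algebra A B] [IsScalarTower k A B] (𝔫 : Ideal B) [h𝔫 : 𝔫.IsMaximal] (P : Ideal B) [hP : P.IsPrime]
  (hP𝔫 : P ≤ 𝔫) [hq : (𝔫.map (Ideal.Quotient.mk P)).IsMaximal]
  (hk : Function.Surjective (algebraMap k (B ⧸ 𝔫)))

local notation "𝔮" => Ideal.map (Ideal.Quotient.mk P) 𝔫
local notation "Rq" => Localization.AtPrime (Ideal.map (Ideal.Quotient.mk P) 𝔫)
local notation "T" => CotangentSpace (Localization.AtPrime (Ideal.map (Ideal.Quotient.mk P) 𝔫))

omit [IsScalarTower k A B] in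
include hP𝔫 in
theorem algebraMap_mem_maximalIdeal (b : B) (hb : b ∈ 𝔫) :
    algebraMap B Rq b ∈ maximalIdeal Rq := by
  rw [IsScalarTower.algebraMap_apply B (B ⧸ P) Rq, Ideal.Quotient.algebraMap_eq,
    IsLocalization.AtPrime.to_map_mem_maximal_iff Rq 𝔮]
  exact Ideal.mem_map_of_mem _ hb

include hP𝔫 in
theorem isUnit_algebraMap (s : B) (hs : s ∉ 𝔫) : IsUnit (algebraMap B Rq s) := by
  rw [IsScalarTower.algebraMap_apply B (B ⧸ P) Rq, Ideal.Quotient.algebraMap_eq]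
  have h1 : Ideal.Quotient.mk P s ∉ 𝔮 := by
    intro h
    apply hs
    rw [← comap_map_mk' P 𝔫 hP𝔫]
    exact h
  exact IsLocalization.map_units Rq (⟨Ideal.Quotient.mk P s, h1⟩ : (𝔮).primeCompl)

theorem algebraMap_eq_zero (b : B) (hb : b ∈ P) : algebraMap B Rq b = 0 := by
  rw [IsScalarTower.algebraMap_apply B (B ⧸ P) Rq, Ideal.Quotient.algebraMap_eq,
    Ideal.Quotient.eq_zero_iff_mem.mpr hb, map_zero]

/-- the value at the point: the inverse of `k ≃ B/𝔫`. -/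
noncomputable def cHom : B →+* k :=
  ((RingEquiv.ofBijective (algebraMap k (B ⧸ 𝔫))
    ⟨(algebraMap k (B ⧸ 𝔫)).injective, hk⟩).symm : (B ⧸ 𝔫) →+* k).comp (Ideal.Quotient.mk 𝔫)

theorem algebraMap_cHom (b : B) :
    algebraMap k (B ⧸ 𝔫) (cHom k 𝔫 hk b) = Ideal.Quotient.mk 𝔫 b :=
  (RingEquiv.ofBijective (algebraMap k (B ⧸ 𝔫))
    ⟨(algebraMap k (B ⧸ 𝔫)).injective, hk⟩).apply_symm_apply _

theorem sub_cHom_mem (b : B) : b - algebraMap k B (cHom k 𝔫 hk b) ∈ 𝔫 := by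
  rw [← Ideal.Quotient.eq, ← algebraMap_cHom k 𝔫 hk b, IsScalarTower.algebraMap_apply k B (B ⧸ 𝔫),
    Ideal.Quotient.algebraMap_eq]

theorem cHom_algebraMap (t : k) : cHom k 𝔫 hk (algebraMap k B t) = t := by
  apply (algebraMap k (B ⧸ 𝔫)).injective
  rw [algebraMap_cHom, IsScalarTower.algebraMap_apply k B (B ⧸ 𝔫), Ideal.Quotient.algebraMap_eq]

theorem cHom_eq_zero (b : B) (hb : b ∈ 𝔫) : cHom k 𝔫 hk b = 0 := by
  apply (algebraMap k (B ⧸ 𝔫)).injective
  rw [algebraMap_cHom, map_zero, Ideal.Quotient.eq_zero_iff_mem]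
  exact hb

theorem cHom_ne_zero (s : B) (hs : s ∉ 𝔫) : cHom k 𝔫 hk s ≠ 0 := by
  intro h
  apply hs
  have := sub_cHom_mem k 𝔫 hk s
  rwa [h, map_zero, sub_zero] at this

/-- `b ↦ b - b(x)` into the maximal ideal of the local ring of the subvariety. -/
noncomputable def theta : B →ₗ[k] (maximalIdeal Rq) where
  toFun b := ⟨algebraMap B Rq (b - algebraMap k B (cHom k 𝔫 hk b)),
    algebraMap_mem_maximalIdeal 𝔫 P hP𝔫 _ (sub_cHom_mem k 𝔫 hk b)⟩
  map_add' a b := by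
    apply Subtype.ext
    simp only [map_add, map_sub, Submodule.coe_add]
    ring
  map_smul' t b := by
    apply Subtype.ext
    simp only [RingHom.id_apply, Submodule.coe_smul_of_tower]
    rw [Algebra.smul_def, map_mul, cHom_algebraMap, map_mul, ← mul_sub, map_mul,
      ← IsScalarTower.algebraMap_apply k B Rq, Algebra.smul_def]

theorem theta_coe (b : B) :
    ((theta k 𝔫 P hP𝔫 hk b : maximalIdeal Rq) : Rq) =
      algebraMap B Rq (b - algebraMap k B (cHom k 𝔫 hk b)) := rfl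

/-- the derivation, as a `k`-linear map. -/
noncomputable def D₀ : B →ₗ[k] T :=
  ((maximalIdeal Rq).toCotangent.restrictScalars k) ∘ₗ theta k 𝔫 P hP𝔫 hk

theorem D₀_apply (b : B) :
    D₀ k 𝔫 P hP𝔫 hk b = (maximalIdeal Rq).toCotangent (theta k 𝔫 P hP𝔫 hk b) := rfl

theorem smul_cotangent (b : B) (t : T) : b • t = algebraMap B Rq b • t :=
  (algebraMap_smul Rq b t).symm

include hP𝔫 in
theorem smul_cotangent_eq_zero (b : B) (hb : b ∈ 𝔫) (t : T) : b • t = 0 := by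
  rw [smul_cotangent]
  exact Ideal.Cotangent.smul_eq_zero_of_mem (algebraMap_mem_maximalIdeal 𝔫 P hP𝔫 b hb) t

theorem D₀_mul (a b : B) :
    D₀ k 𝔫 P hP𝔫 hk (a * b) = a • D₀ k 𝔫 P hP𝔫 hk b + b • D₀ k 𝔫 P hP𝔫 hk a := by
  have e1 : a • D₀ k 𝔫 P hP𝔫 hk b = (maximalIdeal Rq).toCotangent
      (algebraMap B Rq a • theta k 𝔫 P hP𝔫 hk b) := by
    rw [D₀_apply, smul_cotangent, LinearMap.map_smul]
  have e2 : b • D₀ k 𝔫 P hP𝔫 hk a = (maximalIdeal Rq).toCotangent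
      (algebraMap B Rq b • theta k 𝔫 P hP𝔫 hk a) := by
    rw [D₀_apply, smul_cotangent, LinearMap.map_smul]
  rw [e1, e2, D₀_apply, ← map_add, Ideal.toCotangent_eq]
  have h1 : ((theta k 𝔫 P hP𝔫 hk (a * b) : maximalIdeal Rq) : Rq) -
      ((algebraMap B Rq a • theta k 𝔫 P hP𝔫 hk b + algebraMap B Rq b • theta k 𝔫 P hP𝔫 hk a :
        maximalIdeal Rq) : Rq) =
      - ((theta k 𝔫 P hP𝔫 hk a : maximalIdeal Rq) : Rq) *
        ((theta k 𝔫 P hP𝔫 hk b : maximalIdeal Rq) : Rq) := by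
    simp only [Submodule.coe_add, Submodule.coe_smul, smul_eq_mul, theta_coe, map_mul, map_sub]
    ring
  rw [h1, pow_two]
  exact Ideal.mul_mem_mul (neg_mem (theta k 𝔫 P hP𝔫 hk a).2) (theta k 𝔫 P hP𝔫 hk b).2

include hP𝔫 in
theorem D₀_of_mem (b : B) (hb : b ∈ 𝔫) :
    D₀ k 𝔫 P hP𝔫 hk b = (maximalIdeal Rq).toCotangent
      ⟨algebraMap B Rq b, algebraMap_mem_maximalIdeal 𝔫 P hP𝔫 b hb⟩ := by
  rw [D₀_apply]
  congr 1
  apply Subtype.ext
  rw [theta_coe, cHom_eq_zero k 𝔫 hk b hb, map_zero, sub_zero]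

variable (hAP : ∀ a : A, algebraMap A B a ∈ 𝔫 → algebraMap A B a ∈ P)

include hAP in
theorem D₀_algebraMap (a : A) : D₀ k 𝔫 P hP𝔫 hk (algebraMap A B a) = 0 := by
  rw [D₀_apply]
  have h0 : theta k 𝔫 P hP𝔫 hk (algebraMap A B a) = 0 := by
    apply Subtype.ext
    rw [theta_coe]
    have h1 : algebraMap A B a - algebraMap k B (cHom k 𝔫 hk (algebraMap A B a)) =
        algebraMap A B (a - algebraMap k A (cHom k 𝔫 hk (algebraMap A B a))) := by
      rw [map_sub, ← IsScalarTower.algebraMap_apply k A B]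
    have h2 := sub_cHom_mem k 𝔫 hk (algebraMap A B a)
    rw [h1] at h2 ⊢
    exact algebraMap_eq_zero 𝔫 P _ (hAP _ h2)
  rw [h0, map_zero]

/-- the derivation `B → 𝔪/𝔪²` over `A`. -/
noncomputable def der : Derivation A B T :=
  Derivation.mk'
    { toFun := D₀ k 𝔫 P hP𝔫 hk
      map_add' := fun a b => map_add _ a b
      map_smul' := fun a b => by
        simp only [RingHom.id_apply]
        rw [Algebra.smul_def, D₀_mul, D₀_algebraMap k 𝔫 P hP𝔫 hk hAP, smul_zero, add_zero,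
          algebraMap_smul] }
    (fun a b => D₀_mul k 𝔫 P hP𝔫 hk a b)

theorem der_apply (b : B) : der k 𝔫 P hP𝔫 hk hAP b = D₀ k 𝔫 P hP𝔫 hk b := rfl

/-- the induced linear map from the module of differentials. -/
noncomputable def hLin : Ω[B⁄A] →ₗ[B] T := (der k 𝔫 P hP𝔫 hk hAP).liftKaehlerDifferential

theorem hLin_D (b : B) :
    hLin k 𝔫 P hP𝔫 hk hAP (KaehlerDifferential.D A B b) = D₀ k 𝔫 P hP𝔫 hk b :=
  Derivation.liftKaehlerDifferential_comp_D _ b

theorem hLin_surjective : Function.Surjective (hLin k 𝔫 P hP𝔫 hk hAP) := by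
  intro t
  obtain ⟨⟨y, hy⟩, rfl⟩ := Ideal.toCotangent_surjective _ t
  obtain ⟨⟨x1, x2⟩, hx⟩ := IsLocalization.surj (𝔮).primeCompl y
  obtain ⟨b, rfl⟩ := Ideal.Quotient.mk_surjective x1
  obtain ⟨s, hs⟩ := Ideal.Quotient.mk_surjective x2.1
  have hs𝔫 : s ∉ 𝔫 := by
    intro h
    apply x2.2
    rw [← hs]
    exact Ideal.mem_map_of_mem _ h
  have hx' : y * algebraMap B Rq s = algebraMap B Rq b := by
    rw [IsScalarTower.algebraMap_apply B (B ⧸ P) Rq, IsScalarTower.algebraMap_apply B (B ⧸ P) Rq,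
      Ideal.Quotient.algebraMap_eq, hs]
    exact hx
  have hb𝔫 : b ∈ 𝔫 := by
    rw [← comap_map_mk' P 𝔫 hP𝔫, Ideal.mem_comap,
      ← IsLocalization.AtPrime.to_map_mem_maximal_iff Rq 𝔮]
    have : algebraMap (B ⧸ P) Rq (Ideal.Quotient.mk P b) = y * algebraMap B Rq s := by
      rw [hx', IsScalarTower.algebraMap_apply B (B ⧸ P) Rq, Ideal.Quotient.algebraMap_eq]
    rw [this]
    exact Ideal.mul_mem_right _ _ hy
  refine ⟨(cHom k 𝔫 hk s)⁻¹ • KaehlerDifferential.D A B b, ?_⟩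
  rw [LinearMap.map_smul_of_tower, hLin_D, D₀_of_mem k 𝔫 P hP𝔫 hk b hb𝔫]
  have h1 : (maximalIdeal Rq).toCotangent
      ⟨algebraMap B Rq b, algebraMap_mem_maximalIdeal 𝔫 P hP𝔫 b hb𝔫⟩ =
      s • (maximalIdeal Rq).toCotangent ⟨y, hy⟩ := by
    rw [smul_cotangent, ← map_smul]
    congr 1
    apply Subtype.ext
    show algebraMap B Rq b = algebraMap B Rq s * y
    rw [← hx', mul_comm]
  have h2 : s • (maximalIdeal Rq).toCotangent ⟨y, hy⟩ =
      cHom k 𝔫 hk s • (maximalIdeal Rq).toCotangent ⟨y, hy⟩ := by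
    have h3 := smul_cotangent_eq_zero 𝔫 P hP𝔫 _ (sub_cHom_mem k 𝔫 hk s)
      ((maximalIdeal Rq).toCotangent ⟨y, hy⟩)
    rw [sub_smul, sub_eq_zero, algebraMap_smul] at h3
    exact h3
  rw [h1, h2, smul_smul, inv_mul_cancel₀ (cHom_ne_zero k 𝔫 hk s hs𝔫), one_smul]

theorem hLin_smul_le :
    𝔫 • (⊤ : Submodule B Ω[B⁄A]) ≤ LinearMap.ker (hLin k 𝔫 P hP𝔫 hk hAP) := by
  rw [Submodule.smul_le]
  intro b hb ω _
  rw [LinearMap.mem_ker, map_smul]
  exact smul_cotangent_eq_zero 𝔫 P hP𝔫 b hb _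

/-- the induced map on the fibre of the module of differentials. -/
noncomputable def hBar : (Ω[B⁄A] ⧸ (𝔫 • (⊤ : Submodule B Ω[B⁄A]))) →ₗ[B] T :=
  (𝔫 • (⊤ : Submodule B Ω[B⁄A])).liftQ (hLin k 𝔫 P hP𝔫 hk hAP) (hLin_smul_le k 𝔫 P hP𝔫 hk hAP)

theorem hBar_surjective : Function.Surjective (hBar k 𝔫 P hP𝔫 hk hAP) := by
  intro t
  obtain ⟨ω, rfl⟩ := hLin_surjective k 𝔫 P hP𝔫 hk hAP t
  exact ⟨Submodule.Quotient.mk ω, rfl⟩

end Alg

section Finrank

variable (k : Type u) [Field k] {A B : Type u} [CommRing A] [CommRing B] [Algebra k A] [Algebra k B]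
  [Algebra A B] [IsScalarTower k A B] (𝔫 : Ideal B) [h𝔫 : 𝔫.IsMaximal] (P : Ideal B) [hP : P.IsPrime]
  (hP𝔫 : P ≤ 𝔫) [hq : (𝔫.map (Ideal.Quotient.mk P)).IsMaximal]
  (hk : Function.Surjective (algebraMap k (B ⧸ 𝔫)))
  (hAP : ∀ a : A, algebraMap A B a ∈ 𝔫 → algebraMap A B a ∈ P)

local notation "𝔮" => Ideal.map (Ideal.Quotient.mk P) 𝔫
local notation "Rq" => Localization.AtPrime (Ideal.map (Ideal.Quotient.mk P) 𝔫)
local notation "T" => CotangentSpace (Localization.AtPrime (Ideal.map (Ideal.Quotient.mk P) 𝔫))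

theorem smul_quotient_eq (b : B) (n : Ω[B⁄A] ⧸ (𝔫 • (⊤ : Submodule B Ω[B⁄A]))) :
    b • n = cHom k 𝔫 hk b • n := by
  obtain ⟨ω, rfl⟩ := Submodule.Quotient.mk_surjective _ n
  have h1 : (b - algebraMap k B (cHom k 𝔫 hk b)) •
      (Submodule.Quotient.mk ω : Ω[B⁄A] ⧸ (𝔫 • (⊤ : Submodule B Ω[B⁄A]))) = 0 := by
    rw [← Submodule.Quotient.mk_smul, Submodule.Quotient.mk_eq_zero]
    exact Submodule.smul_mem_smul (sub_cHom_mem k 𝔫 hk b) Submodule.mem_top
  rw [sub_smul, sub_eq_zero, algebraMap_smul] at h1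
  exact h1

include hk in
theorem finite_quotient [Algebra.FiniteType A B] :
    Module.Finite k (Ω[B⁄A] ⧸ (𝔫 • (⊤ : Submodule B Ω[B⁄A]))) := by
  obtain ⟨S, hS⟩ := (Module.Finite.fg_top :
    (⊤ : Submodule B (Ω[B⁄A] ⧸ (𝔫 • (⊤ : Submodule B Ω[B⁄A])))).FG)
  refine ⟨⟨S, ?_⟩⟩
  rw [eq_top_iff]
  intro n _
  have hn : n ∈ Submodule.span B (S : Set (Ω[B⁄A] ⧸ (𝔫 • (⊤ : Submodule B Ω[B⁄A])))) := by
    rw [hS]; exact Submodule.mem_top
  refine Submodule.span_induction (fun x hx => Submodule.subset_span hx) (zero_mem _)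
    (fun x y _ _ hx hy => add_mem hx hy) (fun b x _ hx => ?_) hn
  rw [smul_quotient_eq k 𝔫 hk b x]
  exact Submodule.smul_mem _ _ hx

include hP𝔫 hk hAP in
theorem finrank_cotangent_le [Algebra.FiniteType A B] :
    Module.finrank k T ≤ Module.finrank k (Ω[B⁄A] ⧸ (𝔫 • (⊤ : Submodule B Ω[B⁄A]))) := by
  haveI := finite_quotient (A := A) k 𝔫 hk
  exact LinearMap.finrank_le_finrank_of_surjective
    (f := (hBar k 𝔫 P hP𝔫 hk hAP).restrictScalars k) (hBar_surjective k 𝔫 P hP𝔫 hk hAP)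

include hP𝔫 hk in
theorem bijective_algebraMap_residueField :
    Function.Bijective (algebraMap k (ResidueField Rq)) := by
  refine ⟨(algebraMap k (ResidueField Rq)).injective, ?_⟩
  intro z
  obtain ⟨w, rfl⟩ := (IsLocalization.AtPrime.equivQuotMaximalIdeal 𝔮 Rq).surjective z
  obtain ⟨w, rfl⟩ := Ideal.Quotient.mk_surjective w
  obtain ⟨b, rfl⟩ := Ideal.Quotient.mk_surjective w
  refine ⟨cHom k 𝔫 hk b, ?_⟩
  change IsLocalRing.residue Rq (algebraMap k Rq (cHom k 𝔫 hk b)) =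
    IsLocalRing.residue Rq (algebraMap (B ⧸ P) Rq (Ideal.Quotient.mk P b))
  rw [← sub_eq_zero, ← map_sub, IsLocalRing.residue_eq_zero_iff, ← neg_mem_iff, neg_sub]
  have h1 := algebraMap_mem_maximalIdeal 𝔫 P hP𝔫 _ (sub_cHom_mem k 𝔫 hk b)
  rw [map_sub, ← IsScalarTower.algebraMap_apply k B Rq,
    IsScalarTower.algebraMap_apply B (B ⧸ P) Rq, Ideal.Quotient.algebraMap_eq] at h1
  exact h1

include hP𝔫 hk in
theorem finrank_cotangent_eq :
    Module.finrank k T = Module.finrank (ResidueField Rq) T := by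
  haveI : IsScalarTower k Rq (ResidueField Rq) := IsScalarTower.of_algebraMap_eq (fun c => rfl)
  haveI : IsScalarTower k (ResidueField Rq) T := IsScalarTower.of_algebraMap_smul (fun c t => by
    rw [IsScalarTower.algebraMap_apply k Rq (ResidueField Rq), algebraMap_smul, algebraMap_smul])
  have h1 := Module.finrank_mul_finrank k (ResidueField Rq) T
  have h2 : Module.finrank k (ResidueField Rq) = 1 := by
    rw [← Module.finrank_self k]
    exact (LinearEquiv.ofBijective (Algebra.linearMap k (ResidueField Rq))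
      (bijective_algebraMap_residueField k 𝔫 P hP𝔫 hk)).finrank_eq.symm
  rw [h2, one_mul] at h1
  exact h1.symm

include hP𝔫 hk hAP in
/-- **Main algebraic inequality**: the dimension of `B/P` is at most the dimension of the fibre
of `Ω_{B/A}` at the `k`-rational maximal ideal `𝔫 ⊇ P`, when `P` contains the image of `𝔫 ∩ A`. -/
theorem le_finrank_of_le_ringKrullDim [Algebra.FiniteType k B] (r : ℕ)
    (hr : (r : WithBot ℕ∞) ≤ ringKrullDim (B ⧸ P)) :
    r ≤ Module.finrank k (Ω[B⁄A] ⧸ (𝔫 • (⊤ : Submodule B Ω[B⁄A]))) := by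
  haveI : IsNoetherianRing B := Algebra.FiniteType.isNoetherianRing k B
  haveI : Algebra.FiniteType A B := Algebra.FiniteType.of_restrictScalars_finiteType k A B
  have h1 : ((𝔮).height : WithBot ℕ∞) = ringKrullDim (B ⧸ P) :=
    height_map_eq_dim_of_isMaximal k B P 𝔫 hP𝔫
  have h2 : ringKrullDim Rq = ((𝔮).height : WithBot ℕ∞) :=
    IsLocalization.AtPrime.ringKrullDim_eq_height 𝔮 Rq
  have h3 := ringKrullDim_le_spanFinrank_maximalIdeal Rq
  rw [IsLocalRing.spanFinrank_maximalIdeal_eq_finrank_cotangentSpace,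
    ← finrank_cotangent_eq k 𝔫 P hP𝔫 hk, h2, h1] at h3
  have h4 : (r : WithBot ℕ∞) ≤ ((Module.finrank k T : ℕ) : WithBot ℕ∞) := hr.trans h3
  have h5 : r ≤ Module.finrank k T := by exact_mod_cast h4
  exact h5.trans (finrank_cotangent_le k 𝔫 P hP𝔫 hk hAP)

end Finrank

end Groth.Agent.Lead.OmZ
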