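import Mathlib

/-!
# The fibre of a localized module at a maximal ideal (lead)
-/

set_option autoImplicit false
set_option synthInstance.maxHeartbeats 400000
set_option linter.style.haveILetI false
set_option linter.unusedSectionVars false
universe u

namespace Groth.Agent.Lead.OmZ

open IsLocalRing

section Fib

variable {B : Type*} [CommRing B] (𝔫 : Ideal B) [h𝔫 : 𝔫.IsMaximal] (R : Type*) [CommRing R]
  [Algebra B R] [IsLocalization.AtPrime R 𝔫] [IsLocalRing R]
  {M N : Type*} [AddCommGroup M] [Module B M] [AddCommGroup N] [Module B N] [Module R N]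
  [IsScalarTower B R N] (g : M →ₗ[B] N) [IsLocalizedModule 𝔫.primeCompl g]

theorem smul_top_le_comap :
    𝔫 • (⊤ : Submodule B M) ≤
      Submodule.comap g ((maximalIdeal R • (⊤ : Submodule R N)).restrictScalars B) := by
  rw [Submodule.smul_le]
  intro b hb m _
  rw [Submodule.mem_comap, Submodule.restrictScalars_mem, map_smul, ← algebraMap_smul R b (g m)]
  refine Submodule.smul_mem_smul ?_ Submodule.mem_top
  rw [IsLocalization.AtPrime.to_map_mem_maximal_iff R 𝔫]
  exact hb

/-- the map `M/𝔫M → M_𝔫/𝔪 M_𝔫`. -/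
noncomputable def fiberMap :
    (M ⧸ (𝔫 • (⊤ : Submodule B M))) →ₗ[B] (N ⧸ (maximalIdeal R • (⊤ : Submodule R N))) :=
  (Submodule.Quotient.restrictScalarsEquiv B (maximalIdeal R • (⊤ : Submodule R N))).toLinearMap ∘ₗ
    Submodule.mapQ (𝔫 • (⊤ : Submodule B M))
      ((maximalIdeal R • (⊤ : Submodule R N)).restrictScalars B) g (smul_top_le_comap 𝔫 R g)

theorem fiberMap_mk (m : M) :
    fiberMap 𝔫 R g (Submodule.Quotient.mk m) = Submodule.Quotient.mk (g m) := rfl

theorem smul_top_eq_localized' :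
    (maximalIdeal R • (⊤ : Submodule R N)) =
      (𝔫 • (⊤ : Submodule B M)).localized' R 𝔫.primeCompl g := by
  rw [Submodule.localized'_smul, Ideal.localized'_eq_map, Submodule.localized'_top,
    IsLocalization.AtPrime.map_eq_maximalIdeal 𝔫 R]

theorem exists_mul_add_eq_one (s : B) (hs : s ∉ 𝔫) : ∃ v : B, ∃ i ∈ 𝔫, v * s + i = 1 :=
  h𝔫.exists_inv hs

theorem fiberMap_injective : Function.Injective (fiberMap 𝔫 R g) := by
  rw [injective_iff_map_eq_zero]
  intro z hz
  obtain ⟨m, rfl⟩ := Submodule.Quotient.mk_surjective _ z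
  rw [fiberMap_mk, Submodule.Quotient.mk_eq_zero, smul_top_eq_localized' 𝔫 R g,
    Submodule.mem_localized'] at hz
  obtain ⟨m', hm', s, hs⟩ := hz
  rw [IsLocalizedModule.mk'_eq_iff, Submonoid.smul_def, ← map_smul] at hs
  obtain ⟨s', hs'⟩ := IsLocalizedModule.exists_of_eq (S := 𝔫.primeCompl) hs
  rw [Submodule.Quotient.mk_eq_zero]
  have hu : (s' * s : 𝔫.primeCompl).1 ∉ 𝔫 := (s' * s).2
  obtain ⟨v, i, hi, hvi⟩ := exists_mul_add_eq_one 𝔫 _ hu
  have h1 : (s' * s : 𝔫.primeCompl).1 • m ∈ 𝔫 • (⊤ : Submodule B M) := by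
    have : (s' * s : 𝔫.primeCompl).1 • m = s' • m' := by
      rw [hs', Submonoid.smul_def, Submonoid.coe_mul, mul_smul]
    rw [this]
    exact Submodule.smul_mem _ _ hm'
  have h2 : m = v • ((s' * s : 𝔫.primeCompl).1 • m) + i • m := by
    rw [← mul_smul, ← add_smul, hvi, one_smul]
  rw [h2]
  exact add_mem (Submodule.smul_mem _ _ h1) (Submodule.smul_mem_smul hi Submodule.mem_top)

theorem fiberMap_surjective : Function.Surjective (fiberMap 𝔫 R g) := by
  intro z
  obtain ⟨n, rfl⟩ := Submodule.Quotient.mk_surjective _ z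
  obtain ⟨⟨m, s⟩, rfl⟩ := IsLocalizedModule.mk'_surjective 𝔫.primeCompl g n
  simp only [Function.uncurry_apply_pair]
  obtain ⟨v, i, hi, hvi⟩ := exists_mul_add_eq_one 𝔫 s.1 s.2
  refine ⟨Submodule.Quotient.mk (v • m), ?_⟩
  rw [fiberMap_mk, eq_comm, ← sub_eq_zero, ← Submodule.Quotient.mk_sub,
    Submodule.Quotient.mk_eq_zero]
  have h1 : IsLocalizedModule.mk' g m s - g (v • m) = i • IsLocalizedModule.mk' g m s := by
    have h2 : g (v • m) = (v * s.1) • IsLocalizedModule.mk' g m s := by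
      rw [mul_smul, map_smul]
      congr 1
      have := IsLocalizedModule.mk'_cancel' g m s
      rw [Submonoid.smul_def] at this
      exact this.symm
    rw [h2, ← sub_eq_zero, sub_sub, ← add_smul, hvi, one_smul, sub_self]
  rw [h1, ← algebraMap_smul R i]
  refine Submodule.smul_mem_smul ?_ Submodule.mem_top
  rw [IsLocalization.AtPrime.to_map_mem_maximal_iff R 𝔫]
  exact hi

theorem fiberMap_bijective : Function.Bijective (fiberMap 𝔫 R g) :=
  ⟨fiberMap_injective 𝔫 R g, fiberMap_surjective 𝔫 R g⟩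

end Fib

end Groth.Agent.Lead.OmZ
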