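import Mathlib
import Groth.Agent.Lib.Helper4.DimFT4

/-!
# The dimension of the closure of a point of a scheme of finite type over a field, on a chart (lead)
-/

set_option autoImplicit false
set_option backward.isDefEq.respectTransparency.types false
set_option synthInstance.maxHeartbeats 400000
set_option linter.style.haveILetI false
set_option linter.unusedSectionVars false
universe u

open CategoryTheory CategoryTheory.Limits AlgebraicGeometry TopologicalSpace IsLocalRing Opposite

namespace Groth.Agent.Lead.OmZ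

open Groth.Agent.Lib.Helper4.RadBir3 Groth.Agent.Lib.Helper4.DimFT3 Groth.Agent.Lib.Helper4.DimFT4
open Topology

/-- the trace of the closure of a point on an affine chart has dimension at most that of the
quotient by the prime of the point -/
theorem dim_preimage_le {X : Scheme.{u}} (ξ : X) {U : X.Opens} (hU : IsAffineOpen U)
    (hξU : ξ ∈ U) :
    topologicalKrullDim ↥((Subtype.val : ↥(closure ({ξ} : Set X)) → X) ⁻¹' (U : Set X)) ≤
      ringKrullDim (Γ(X, U) ⧸ (hU.primeIdealOf ⟨ξ, hξU⟩).asIdeal) := by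
  set P : Ideal Γ(X, U) := (hU.primeIdealOf ⟨ξ, hξU⟩).asIdeal with hP
  let j : PrimeSpectrum (Γ(X, U) ⧸ P) → X :=
    fun q => hU.fromSpec (PrimeSpectrum.comap (Ideal.Quotient.mk P) q)
  have hj : IsEmbedding j :=
    hU.fromSpec.isOpenEmbedding.isEmbedding.comp
      (PrimeSpectrum.isEmbedding_comap_of_surjective _ _ Ideal.Quotient.mk_surjective)
  have hrange : ∀ y : X, y ∈ closure ({ξ} : Set X) → y ∈ U → ∃ q, j q = y := by
    intro y hy hyU
    have hsp : ξ ⤳ y := specializes_iff_mem_closure.mpr hy
    have hle := (specializes_iff_primeIdealOf_le hU ⟨ξ, hξU⟩ ⟨y, hyU⟩).mp hsp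
    have hmem : hU.primeIdealOf ⟨y, hyU⟩ ∈
        Set.range (PrimeSpectrum.comap (Ideal.Quotient.mk P)) := by
      rw [range_comap_of_surjective _ _ Ideal.Quotient.mk_surjective,
        Ideal.mk_ker, PrimeSpectrum.mem_zeroLocus]
      exact hle
    obtain ⟨q, hq⟩ := hmem
    refine ⟨q, ?_⟩
    change hU.fromSpec (PrimeSpectrum.comap (Ideal.Quotient.mk P) q) = y
    rw [hq]
    exact hU.fromSpec_primeIdealOf ⟨y, hyU⟩
  choose φ hφ using fun w : ↥((Subtype.val : ↥(closure ({ξ} : Set X)) → X) ⁻¹' (U : Set X)) =>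
    hrange w.1.1 w.1.2 w.2
  have hcomp : j ∘ φ = fun w => w.1.1 := funext hφ
  have hind : IsInducing (j ∘ φ) := by
    rw [hcomp]
    exact IsInducing.subtypeVal.comp IsInducing.subtypeVal
  have hφc : Continuous φ := by
    rw [hj.isInducing.continuous_iff, hcomp]
    exact continuous_subtype_val.comp continuous_subtype_val
  have hφi : IsInducing φ := IsInducing.of_comp hφc hj.continuous hind
  rw [← PrimeSpectrum.topologicalKrullDim_eq_ringKrullDim]
  exact hφi.topologicalKrullDim_le

/-- the dimension of the closure of a point is at most the dimension of the quotient of any affine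
chart by the prime of the point -/
theorem dim_closure_le (k : Type u) [Field k] (X : Scheme.{u}) [X.Over (Spec (CommRingCat.of k))]
    [LocallyOfFiniteType (X ↘ (Spec (CommRingCat.of k)))]
    (ξ : X) {U : X.Opens} (hU : IsAffineOpen U) (hξU : ξ ∈ U) :
    topologicalKrullDim ↥(closure ({ξ} : Set X)) ≤
      ringKrullDim (Γ(X, U) ⧸ (hU.primeIdealOf ⟨ξ, hξU⟩).asIdeal) := by
  obtain ⟨n, hn1, hn2⟩ := exists_dim_quotient_eq_trdeg k X hU ξ hξU
  rw [hn2]
  apply topologicalKrullDim_le_of_forall_open
  intro z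
  obtain ⟨U', hU', hzU', -⟩ := exists_isAffineOpen_mem_and_subset (U := (⊤ : X.Opens)) (x := z.1)
    trivial
  have hξz : ξ ⤳ z.1 := specializes_iff_mem_closure.mpr z.2
  have hξU' : ξ ∈ U' := hξz.mem_open U'.2 hzU'
  obtain ⟨n', hn1', hn2'⟩ := exists_dim_quotient_eq_trdeg k X hU' ξ hξU'
  have hnn : n' = n := by
    have := hn1'.symm.trans hn1
    exact_mod_cast this
  refine ⟨Subtype.val ⁻¹' (U' : Set X), U'.2.preimage continuous_subtype_val, hzU', ?_⟩
  rw [← hnn, ← hn2']
  exact dim_preimage_le ξ hU' hξU'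

end Groth.Agent.Lead.OmZ
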