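import Mathlib
import Groth.Prelude
import Groth.Agent.Lib.Lead.OmZ1
import Groth.Agent.Lib.Lead.OmZ2
import Groth.Agent.Lib.Lead.OmZ3
import Groth.Agent.Lib.Lead.OmFit5
import Groth.Agent.Lib.Lead.SD1

/-!
# The fibre of the sheaf of differentials at a closed point bounds the dimension of the components
of the fibre through it (lead)
-/

set_option autoImplicit false
set_option backward.isDefEq.respectTransparency.types false
set_option synthInstance.maxHeartbeats 400000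
set_option linter.style.haveILetI false
set_option linter.unusedSectionVars false
universe u

open CategoryTheory CategoryTheory.Limits AlgebraicGeometry TopologicalSpace IsLocalRing Opposite

namespace Groth.Agent.Lead.OmZ

open OmegaSh Groth.Agent.Lead.OmU Groth.Agent.Lead.SD Groth.Agent.Lead.OmFit
open Groth.Agent.Lib.Helper4.RadBir3 Groth.Agent.Lib.Helper4.DimFT3
open Scheme.Modules

section Chart

variable (k : Type u) [Field k] {X Y : Scheme.{u}} [X.Over (Spec (CommRingCat.of k))]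
  [Y.Over (Spec (CommRingCat.of k))]

theorem germ_secMap {U : X.Opens} (x : X) (hx : x ∈ U) (c : k) :
    X.presheaf.germ U x hx (secMap k X U c) = Curv2.stalkMap k X x c := by
  unfold Curv2.stalkMap secMap
  rw [← TopCat.Presheaf.germ_res X.presheaf (homOfLE (le_top : U ≤ ⊤)) x hx]
  rfl

theorem appLE_secMap (f : X ⟶ Y)
    (hf : f ≫ (Y ↘ Spec (CommRingCat.of k)) = X ↘ Spec (CommRingCat.of k))
    {U : X.Opens} {V : Y.Opens} (e : U ≤ f ⁻¹ᵁ V) (c : k) :
    (f.appLE V U e).hom (secMap k Y V c) = secMap k X U c := by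
  have h : (Y ↘ Spec (CommRingCat.of k)).appLE ⊤ V le_top ≫ f.appLE V U e =
      (X ↘ Spec (CommRingCat.of k)).appLE ⊤ U le_top := by
    rw [Scheme.Hom.appLE_comp_appLE]
    exact appLE_of_eq hf ⊤ U _ _
  rw [secMap_eq, secMap_eq, ← h]
  rfl

end Chart

section ChartLemma

variable (k : Type u) [Field k] [IsAlgClosed k] {X Y : Scheme.{u}}
  [X.Over (Spec (CommRingCat.of k))] [Y.Over (Spec (CommRingCat.of k))]
  [LocallyOfFiniteType (X ↘ Spec (CommRingCat.of k))]

attribute [local instance] FixPt.fiberModule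
attribute [local instance] Groth.Agent.Lead.SD.stalkModule

theorem le_finrank_chart (f : X ⟶ Y) [QuasiSeparated f]
    (hf : f ≫ (Y ↘ Spec (CommRingCat.of k)) = X ↘ Spec (CommRingCat.of k))
    {U : X.Opens} (hU : IsAffineOpen U) {V : Y.Opens} (hV : IsAffineOpen V) (hUV : U ≤ f ⁻¹ᵁ V)
    (x ξ : U) (hx : IsClosed ({x.1} : Set X)) (hsp : ξ.1 ⤳ x.1) (hfξ : f ξ.1 = f x.1) (r : ℕ)
    (hr : (r : WithBot ℕ∞) ≤ ringKrullDim (Γ(X, U) ⧸ (hU.primeIdealOf ξ).asIdeal)) :
    r ≤ Module.finrank k (FixPt.fiber (Omega.sheaf f) x.1) := by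
  classical
  have hd := isUniversal_dOmega f
  haveI := isQuasicoherent_of_universal (dOmega f) hd
  letI := (f.appLE V U hUV).hom.toAlgebra
  letI := secAlgebra k X U
  letI := secAlgebra k Y V
  haveI : IsScalarTower k Γ(Y, V) Γ(X, U) :=
    IsScalarTower.of_algebraMap_eq (fun c => (appLE_secMap k f hf hUV c).symm)
  haveI : Algebra.FiniteType k Γ(X, U) := finiteType_sections k X hU
  haveI h𝔫 : (hU.primeIdealOf x).asIdeal.IsMaximal :=
    hU.primeIdealOf_isMaximal_of_isClosed x hx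
  have hP𝔫 : (hU.primeIdealOf ξ).asIdeal ≤ (hU.primeIdealOf x).asIdeal :=
    (specializes_iff_primeIdealOf_le hU ξ x).mp hsp
  haveI hq : ((hU.primeIdealOf x).asIdeal.map
      (Ideal.Quotient.mk (hU.primeIdealOf ξ).asIdeal)).IsMaximal :=
    Ideal.IsMaximal.map_of_surjective_of_ker_le Ideal.Quotient.mk_surjective
      (by rw [Ideal.mk_ker]; exact hP𝔫)
  have hk : Function.Surjective (algebraMap k (Γ(X, U) ⧸ (hU.primeIdealOf x).asIdeal)) := by
    letI : Field (Γ(X, U) ⧸ (hU.primeIdealOf x).asIdeal) := Ideal.Quotient.field _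
    haveI : Module.Finite k (Γ(X, U) ⧸ (hU.primeIdealOf x).asIdeal) :=
      finite_of_finite_type_of_isJacobsonRing k _
    haveI : Algebra.IsIntegral k (Γ(X, U) ⧸ (hU.primeIdealOf x).asIdeal) :=
      Algebra.IsIntegral.of_finite k _
    exact (IsAlgClosed.algebraMap_bijective_of_isIntegral (k := k)
      (K := Γ(X, U) ⧸ (hU.primeIdealOf x).asIdeal)).2
  have hAP : ∀ a : Γ(Y, V), algebraMap Γ(Y, V) Γ(X, U) a ∈ (hU.primeIdealOf x).asIdeal →
      algebraMap Γ(Y, V) Γ(X, U) a ∈ (hU.primeIdealOf ξ).asIdeal := by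
    intro a ha
    have h1 := IsAffineOpen.comap_primeIdealOf_appLE (f := f) V hV U hU hUV x.2
    have h2 := IsAffineOpen.comap_primeIdealOf_appLE (f := f) V hV U hU hUV ξ.2
    have h3 : hV.primeIdealOf ⟨f ξ.1, hUV ξ.2⟩ = hV.primeIdealOf ⟨f x.1, hUV x.2⟩ := by
      congr 1
      exact Subtype.ext hfξ
    have h4 : (hU.primeIdealOf ξ).comap (f.appLE V U hUV).hom =
        (hU.primeIdealOf x).comap (f.appLE V U hUV).hom :=
      h2.trans (h3.trans h1.symm)
    have h5 : a ∈ ((hU.primeIdealOf x).comap (f.appLE V U hUV).hom).asIdeal := ha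
    rw [← h4] at h5
    exact h5
  have h6 := le_finrank_of_le_ringKrullDim k (hU.primeIdealOf x).asIdeal
    (hU.primeIdealOf ξ).asIdeal hP𝔫 hk hAP r hr
  have E1 : Γ(Omega.sheaf f, U) ≃ₗ[Γ(X, U)] Ω[Γ(X, U)⁄Γ(Y, V)] :=
    sectionsKaehler f (dOmega f) hd hU hV hUV
  let E2 := Submodule.Quotient.equiv
    ((hU.primeIdealOf x).asIdeal • (⊤ : Submodule Γ(X, U) Γ(Omega.sheaf f, U)))
    ((hU.primeIdealOf x).asIdeal • (⊤ : Submodule Γ(X, U) Ω[Γ(X, U)⁄Γ(Y, V)])) E1
    (by rw [Submodule.map_smul'', Submodule.map_top, LinearEquiv.range])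
  haveI := hU.isLocalization_stalk x
  haveI := isLocalizedModule_germ (Omega.sheaf f) hU x
  let E3 := LinearEquiv.ofBijective
    (fiberMap (hU.primeIdealOf x).asIdeal (X.presheaf.stalk x.1) (germₗ (Omega.sheaf f) x))
    (fiberMap_bijective (hU.primeIdealOf x).asIdeal (X.presheaf.stalk x.1)
      (germₗ (Omega.sheaf f) x))
  haveI : IsScalarTower k Γ(X, U) (FixPt.fiber (Omega.sheaf f) x.1) :=
    IsScalarTower.of_algebraMap_smul (fun c w => by
      obtain ⟨y, rfl⟩ := Submodule.Quotient.mk_surjective _ w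
      change Submodule.Quotient.mk (X.presheaf.germ U x.1 x.2 (secMap k X U c) • y) =
        Submodule.Quotient.mk (Curv2.stalkMap k X x.1 c • y)
      rw [germ_secMap])
  have hfin : Module.finrank k (Ω[Γ(X, U)⁄Γ(Y, V)] ⧸
        ((hU.primeIdealOf x).asIdeal • (⊤ : Submodule Γ(X, U) Ω[Γ(X, U)⁄Γ(Y, V)]))) =
      Module.finrank k (FixPt.fiber (Omega.sheaf f) x.1) :=
    ((E2.symm ≪≫ₗ E3).restrictScalars k).finrank_eq
  rw [← hfin]
  exact h6

end ChartLemma

section Main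

variable (k : Type u) [Field k] [IsAlgClosed k] {X Y : Scheme.{u}}
  [X.Over (Spec (CommRingCat.of k))] [Y.Over (Spec (CommRingCat.of k))]
  [LocallyOfFiniteType (X ↘ Spec (CommRingCat.of k))]

attribute [local instance] FixPt.fiberModule

theorem S14443_main (f : X ⟶ Y)
    (hf : f ≫ (Y ↘ Spec (CommRingCat.of k)) = X ↘ Spec (CommRingCat.of k))
    (x : X) (hx : IsClosed ({x} : Set X)) (Z : Set X) (hZ : IsIrreducible Z) (hZc : IsClosed Z)
    (hxZ : x ∈ Z) (hZf : Z ⊆ f.base ⁻¹' {f.base x}) (r : ℕ)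
    (hr : topologicalKrullDim ↥Z = (r : WithBot ℕ∞)) :
    r ≤ Module.finrank k (FixPt.fiber (Omega.sheaf f) x) := by
  haveI : IsLocallyNoetherian X :=
    LocallyOfFiniteType.isLocallyNoetherian (X ↘ Spec (CommRingCat.of k))
  haveI : QuasiSeparated f := inferInstance
  obtain ⟨ξ, hξ⟩ := QuasiSober.sober hZ hZc
  obtain rfl : closure {ξ} = Z := hξ.def
  have hsp : ξ ⤳ x := specializes_iff_mem_closure.mpr hxZ
  have hfξ : f ξ = f x := hZf (subset_closure (Set.mem_singleton ξ))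
  obtain ⟨_, ⟨V, hV, rfl⟩, hxV, -⟩ := Y.isBasis_affineOpens.exists_subset_of_mem_open
    (Set.mem_univ (f x)) isOpen_univ
  obtain ⟨_, ⟨U, hU, rfl⟩, hxU, hUV'⟩ := X.isBasis_affineOpens.exists_subset_of_mem_open
    (show x ∈ ((f ⁻¹ᵁ V : X.Opens) : Set X) from hxV) (f ⁻¹ᵁ V).2
  have hUV : U ≤ f ⁻¹ᵁ V := hUV'
  have hξU : ξ ∈ U := hsp.mem_open U.2 hxU
  have hr' : (r : WithBot ℕ∞) ≤
      ringKrullDim (Γ(X, U) ⧸ (hU.primeIdealOf ⟨ξ, hξU⟩).asIdeal) := by
    rw [← hr]
    exact dim_closure_le k X ξ hU hξU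
  exact le_finrank_chart k f hf hU hV hUV ⟨x, hxU⟩ ⟨ξ, hξU⟩ hx hsp hfξ r hr'

end Main

end Groth.Agent.Lead.OmZ
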