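import Mathlib
import Groth.Agent.Lib.Lead.NeronEt4

/-!
# Generic étaleness of a generically quasi-finite extension of domains in characteristic zero (lead)
-/

set_option backward.isDefEq.respectTransparency.types false
set_option synthInstance.maxHeartbeats 400000
set_option autoImplicit false
set_option linter.unusedSectionVars false
set_option linter.style.haveILetI false
universe u v w

namespace Groth.Agent.Lead.OpImm

open Groth.Agent.Lead.NeronEt

attribute [local instance] FractionRing.liftAlgebra

/-- A finitely presented injective extension of domains of characteristic zero which is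
quasi-finite at some prime is étale after inverting a nonzero element. -/
theorem exists_etale_away (A B : Type u) [CommRing A] [IsDomain A] [CommRing B] [IsDomain B]
    [Algebra A B] [Algebra.FinitePresentation A B] [CharZero A]
    (hinj : Function.Injective (algebraMap A B)) (Q : Ideal B) [Q.IsPrime]
    [Algebra.QuasiFiniteAt A Q] :
    ∃ r : B, r ≠ 0 ∧ Algebra.Etale A (Localization.Away r) := by
  haveI : Algebra.QuasiFiniteAt A (⊥ : Ideal B) :=
    Algebra.QuasiFiniteAt.of_le (R := A) (P := (⊥ : Ideal B)) (Q := Q) bot_le
  haveI : FaithfulSMul A B := (faithfulSMul_iff_algebraMap_injective A B).2 hinj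
  let K := FractionRing A
  let L := FractionRing B
  haveI : IsFractionRing B (Localization.AtPrime (⊥ : Ideal B)) := by
    simpa [Ideal.primeCompl_bot] using Localization.isLocalization (M := (⊥ : Ideal B).primeCompl)
  let e : Localization.AtPrime (⊥ : Ideal B) ≃ₐ[B] L :=
    IsLocalization.algEquiv (nonZeroDivisors B) _ _
  haveI : Algebra.QuasiFinite A L :=
    (Algebra.QuasiFinite.iff_of_algEquiv (e.restrictScalars A)).1 inferInstance
  haveI : Algebra.QuasiFinite K L := Algebra.QuasiFinite.of_restrictScalars A K L
  haveI : Module.Finite K L := Module.Finite.of_quasiFinite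
  haveI : CharZero K := charZero_of_injective_algebraMap (IsFractionRing.injective A K)
  haveI : Algebra.IsSeparable K L := Algebra.IsAlgebraic.isSeparable_of_perfectField
  haveI : Algebra.IsEtaleAt A (⊥ : Ideal B) := isEtaleAt_bot A K B L
  obtain ⟨r, hr, het⟩ := Algebra.exists_etale_of_isEtaleAt (R := A) (⊥ : Ideal B)
  exact ⟨r, fun h => hr (by rw [h]; exact Ideal.zero_mem _), het⟩

end Groth.Agent.Lead.OpImm
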