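import Mathlib
import Groth.Agent.Lib.Lead.OpImm1
import Groth.Agent.Lib.Helper4.ZMTNormalPt1

/-!
# Morphisms of varieties injective on rational points are quasi-finite (lead)
-/

set_option backward.isDefEq.respectTransparency.types false
set_option synthInstance.maxHeartbeats 400000
set_option autoImplicit false
set_option linter.unusedSectionVars false
set_option linter.style.haveILetI false
universe u v w

open CategoryTheory CategoryTheory.Limits AlgebraicGeometry TopologicalSpace

namespace Groth.Agent.Lead.OpImm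

section
variable {k : Type u} [Field k] [IsAlgClosed k]
  {X Y : Scheme.{u}} (sX : X ⟶ Spec (CommRingCat.of k)) (sY : Y ⟶ Spec (CommRingCat.of k))
  [LocallyOfFiniteType sX] [LocallyOfFiniteType sY]
  (f : X ⟶ Y) (hf : f ≫ sY = sX)

include hf in
theorem isClosed_singleton_apply {x : X} (hx : IsClosed ({x} : Set X)) :
    IsClosed ({f x} : Set Y) := by
  let a := pointOfClosedPoint sX x hx
  have ha : (a ≫ f) ≫ sY = 𝟙 _ := by
    rw [Category.assoc, hf]; exact pointOfClosedPoint_comp sX x hx
  have h1 := (pointEquivClosedPoint sY ⟨a ≫ f, ha⟩).2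
  have h2 : ((pointEquivClosedPoint sY ⟨a ≫ f, ha⟩ : closedPoints Y) : Y) = f x := by
    simp [a]
  rw [← h2]; exact h1

include hf in
theorem eq_of_isClosed_of_apply_eq
    (hinj : ∀ a b : Spec (CommRingCat.of k) ⟶ X, a ≫ sX = 𝟙 _ → b ≫ sX = 𝟙 _ →
      a ≫ f = b ≫ f → a = b)
    {x₁ x₂ : X} (h₁ : IsClosed ({x₁} : Set X)) (h₂ : IsClosed ({x₂} : Set X))
    (h : f x₁ = f x₂) : x₁ = x₂ := by
  let a := pointOfClosedPoint sX x₁ h₁
  let b := pointOfClosedPoint sX x₂ h₂
  have ha : a ≫ sX = 𝟙 _ := pointOfClosedPoint_comp sX x₁ h₁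
  have hb : b ≫ sX = 𝟙 _ := pointOfClosedPoint_comp sX x₂ h₂
  have hab : a ≫ f = b ≫ f := by
    refine ext_of_apply_closedPoint_eq sY ?_ ?_ ?_
    · rw [Category.assoc, hf]; exact ha
    · rw [Category.assoc, hf]; exact hb
    · simp [a, b, h]
  have := hinj a b ha hb hab
  have h3 : a (IsLocalRing.closedPoint k) = b (IsLocalRing.closedPoint k) := by rw [this]
  simpa [a, b] using h3

include hf in
theorem quasiFiniteAt_of_isClosed
    (hinj : ∀ a b : Spec (CommRingCat.of k) ⟶ X, a ≫ sX = 𝟙 _ → b ≫ sX = 𝟙 _ →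
      a ≫ f = b ≫ f → a = b)
    {x : X} (hx : IsClosed ({x} : Set X)) : f.QuasiFiniteAt x := by
  haveI : LocallyOfFiniteType (f ≫ sY) := by rw [hf]; infer_instance
  haveI : LocallyOfFiniteType f := locallyOfFiniteType_of_comp f sY
  rw [Scheme.Hom.quasiFiniteAt_iff_isOpen_singleton_asFiber]
  have hy : IsClosed ({f x} : Set Y) := isClosed_singleton_apply sX sY f hf hx
  have hrange : IsClosed (Set.range (f.fiberι (f x))) := by
    rw [Scheme.Hom.range_fiberι]
    exact hy.preimage f.continuous
  have hce : Topology.IsClosedEmbedding (f.fiberι (f x)) :=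
    ⟨(f.fiberι (f x)).isEmbedding, hrange⟩
  have hcl : closedPoints (f.fiber (f x)) ⊆ {f.asFiber x} := by
    intro z hz
    rw [mem_closedPoints_iff] at hz
    have hz' : IsClosed ({f.fiberι (f x) z} : Set X) := by
      rw [← Set.image_singleton]
      exact hce.isClosedMap _ hz
    have hfz : f (f.fiberι (f x) z) = f x := by
      have : f.fiberι (f x) z ∈ Set.range (f.fiberι (f x)) := ⟨z, rfl⟩
      rw [Scheme.Hom.range_fiberι] at this
      exact this
    have := eq_of_isClosed_of_apply_eq sX sY f hf hinj hz' hx hfz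
    rw [Set.mem_singleton_iff]
    apply (f.fiberι (f x)).isEmbedding.injective
    rw [this, Scheme.Hom.fiberι_asFiber]
  have hclosed : IsClosed ({f.asFiber x} : Set (f.fiber (f x))) := by
    have : ({f.asFiber x} : Set (f.fiber (f x))) = (f.fiberι (f x)) ⁻¹' {x} := by
      ext z
      simp only [Set.mem_singleton_iff, Set.mem_preimage]
      constructor
      · rintro rfl; exact Scheme.Hom.fiberι_asFiber f x
      · intro h
        apply (f.fiberι (f x)).isEmbedding.injective
        rw [h, Scheme.Hom.fiberι_asFiber]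
    rw [this]
    exact hx.preimage (f.fiberι (f x)).continuous
  have huniv : ({f.asFiber x} : Set (f.fiber (f x))) = Set.univ := by
    apply Set.eq_univ_of_univ_subset
    rw [← closure_closedPoints (X := f.fiber (f x))]
    exact closure_minimal hcl hclosed
  rw [huniv]
  exact isOpen_univ

include hf in
theorem quasiFiniteAt_of_injective_on_points
    (hinj : ∀ a b : Spec (CommRingCat.of k) ⟶ X, a ≫ sX = 𝟙 _ → b ≫ sX = 𝟙 _ →
      a ≫ f = b ≫ f → a = b)
    (x : X) : f.QuasiFiniteAt x := by
  haveI : LocallyOfFiniteType (f ≫ sY) := by rw [hf]; infer_instance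
  haveI : LocallyOfFiniteType f := locallyOfFiniteType_of_comp f sY
  haveI : JacobsonSpace X := LocallyOfFiniteType.jacobsonSpace sX
  have hopen : IsOpen {x | f.QuasiFiniteAt x} := f.isOpen_quasiFiniteAt
  by_contra hx
  have hne : ({x | f.QuasiFiniteAt x}ᶜ : Set X).Nonempty := ⟨x, hx⟩
  obtain ⟨z, hz1, hz2⟩ := nonempty_inter_closedPoints hne hopen.isClosed_compl.isLocallyClosed
  exact hz1 (quasiFiniteAt_of_isClosed sX sY f hf hinj hz2)

end

end Groth.Agent.Lead.OpImm
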