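import Mathlib
import Groth.Agent.Lib.Lead.OpImm2

/-!
# Étale separated morphisms of varieties injective on rational points are open immersions (lead)
-/

set_option backward.isDefEq.respectTransparency.types false
set_option synthInstance.maxHeartbeats 400000
set_option autoImplicit false
set_option linter.unusedSectionVars false
set_option linter.style.haveILetI false
universe u v w

open CategoryTheory CategoryTheory.Limits AlgebraicGeometry TopologicalSpace

namespace Groth.Agent.Lead.OpImm

section
variable {k : Type u} [Field k] [IsAlgClosed k]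
  {W Y : Scheme.{u}} (sW : W ⟶ Spec (CommRingCat.of k)) (sY : Y ⟶ Spec (CommRingCat.of k))
  [LocallyOfFiniteType sW]
  (g : W ⟶ Y) (hg : g ≫ sY = sW)

include hg in
theorem surjective_diagonal_of_injective_on_points [Etale g] [IsSeparated g]
    (hinj : ∀ a b : Spec (CommRingCat.of k) ⟶ W, a ≫ sW = 𝟙 _ → b ≫ sW = 𝟙 _ →
      a ≫ g = b ≫ g → a = b) :
    Surjective (pullback.diagonal g) := by
  constructor
  let sP : pullback g g ⟶ Spec (CommRingCat.of k) := pullback.fst g g ≫ sW
  haveI : LocallyOfFiniteType sP := inferInstance
  haveI : JacobsonSpace ↥(pullback g g : Scheme.{u}) := LocallyOfFiniteType.jacobsonSpace sP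
  have hclosed : IsClosed (Set.range (pullback.diagonal g)) :=
    (pullback.diagonal g).isClosedEmbedding.isClosed_range
  by_contra hns
  have hne : ((Set.range (pullback.diagonal g))ᶜ).Nonempty := by
    rw [Set.nonempty_compl]
    intro h
    exact hns (Set.range_eq_univ.mp h)
  obtain ⟨w₀, hw1, hw2⟩ := nonempty_inter_closedPoints hne hclosed.isOpen_compl.isLocallyClosed
  rw [mem_closedPoints_iff] at hw2
  let c := pointOfClosedPoint sP w₀ hw2
  have hc : c ≫ sP = 𝟙 _ := pointOfClosedPoint_comp sP w₀ hw2
  let a := c ≫ pullback.fst g g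
  let b := c ≫ pullback.snd g g
  have ha : a ≫ sW = 𝟙 _ := by simpa [a, sP] using hc
  have hb : b ≫ sW = 𝟙 _ := by
    rw [← hc]
    simp only [b, sP, Category.assoc, ← hg]
    rw [← pullback.condition_assoc]
  have hab : a ≫ g = b ≫ g := by
    simp only [a, b, Category.assoc, pullback.condition]
  have h := hinj a b ha hb hab
  have hcd : c = a ≫ pullback.diagonal g := by
    apply pullback.hom_ext
    · simp [a]
    · simp only [Category.assoc, pullback.diagonal_snd, Category.comp_id]
      exact h.symm
  apply hw1
  have : w₀ = c (IsLocalRing.closedPoint k) := (pointOfClosedPoint_apply sP w₀ hw2 _).symm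
  rw [this, hcd]
  exact ⟨a (IsLocalRing.closedPoint k), rfl⟩

include hg in
theorem isOpenImmersion_of_etale_of_injective_on_points [Etale g] [IsSeparated g]
    (hinj : ∀ a b : Spec (CommRingCat.of k) ⟶ W, a ≫ sW = 𝟙 _ → b ≫ sW = 𝟙 _ →
      a ≫ g = b ≫ g → a = b) :
    IsOpenImmersion g := by
  haveI : Surjective (pullback.diagonal g) :=
    surjective_diagonal_of_injective_on_points sW sY g hg hinj
  haveI : IsIso (pullback.diagonal g) :=
    (isIso_iff_isOpenImmersion_and_surjective _).mpr ⟨inferInstance, inferInstance⟩
  haveI : Mono g := (pullback.isIso_diagonal_iff g).mp inferInstance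
  exact IsOpenImmersion.of_flat_of_mono g

end

end Groth.Agent.Lead.OpImm
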