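import Mathlib
import Groth.Agent.Lib.Lead.OpImm3

/-!
# A generically quasi-finite dominant morphism of integral schemes in characteristic zero
is étale on a nonempty open (lead)
-/

set_option backward.isDefEq.respectTransparency.types false
set_option synthInstance.maxHeartbeats 400000
set_option autoImplicit false
set_option linter.unusedSectionVars false
set_option linter.style.haveILetI false
universe u v w

open CategoryTheory CategoryTheory.Limits AlgebraicGeometry TopologicalSpace

namespace Groth.Agent.Lead.OpImm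

theorem etale_ι_comp_of_etale_appLE {X Y : Scheme.{u}} (f : X ⟶ Y) {V : Y.Opens}
    (hV : IsAffineOpen V) {U : X.Opens} (hU : IsAffineOpen U) (hUV : U ≤ f ⁻¹ᵁ V)
    (H : (f.appLE V U hUV).hom.Etale) : Etale (U.ι ≫ f) := by
  have h1 : Etale (f.resLE V U hUV) := by
    have : IsAffine _ := hU
    have : IsAffine _ := hV
    rw [HasRingHomProperty.iff_of_isAffine (P := @Etale)]
    exact (RingHom.Etale.propertyIsLocal.respectsIso.arrow_mk_iso_iff
      (arrowResLEAppIso f V U hUV)).mpr H
  rw [← Scheme.Hom.resLE_comp_ι f hUV]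
  infer_instance

set_option backward.defeqAttrib.useBackward true in
set_option backward.isDefEq.respectTransparency false in
theorem exists_opens_etale {X Y : Scheme.{u}} [IsIntegral X] [IsIntegral Y] (f : X ⟶ Y)
    [LocallyOfFiniteType f] [QuasiCompact f] [IsDominant f] [IsLocallyNoetherian Y]
    (hchar : ∀ V : Y.Opens, IsAffineOpen V → Nonempty V → CharZero Γ(Y, V))
    (hqf : ∀ x, f.QuasiFiniteAt x) :
    ∃ U' : X.Opens, (U' : Set X).Nonempty ∧ Etale (U'.ι ≫ f) := by
  obtain ⟨x₀⟩ : Nonempty X := inferInstance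
  obtain ⟨_, ⟨V, hV, rfl⟩, hxV, -⟩ :=
    Y.isBasis_affineOpens.exists_subset_of_mem_open (Set.mem_univ (f x₀)) isOpen_univ
  obtain ⟨_, ⟨U, hU, rfl⟩, hxU, hUV0⟩ :=
    X.isBasis_affineOpens.exists_subset_of_mem_open hxV (V.2.preimage f.continuous)
  have hUV : U ≤ f ⁻¹ᵁ V := hUV0
  haveI : Nonempty V := ⟨⟨f x₀, hxV⟩⟩
  haveI : Nonempty U := ⟨⟨x₀, hxU⟩⟩
  have hft := f.finiteType_appLE hV hU hUV
  algebraize [(f.appLE V U hUV).hom]
  haveI : IsNoetherianRing Γ(Y, V) := IsLocallyNoetherian.component_noetherian ⟨V, hV⟩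
  haveI : Algebra.FinitePresentation Γ(Y, V) Γ(X, U) :=
    Algebra.FinitePresentation.of_finiteType.mp inferInstance
  haveI := hchar V hV inferInstance
  have hinj : Function.Injective (algebraMap Γ(Y, V) Γ(X, U)) := by
    haveI := IsSchemeTheoreticallyDominant.of_isDominant f
    have h1 := f.app_injective V
    have h2 := map_injective_of_isIntegral X (homOfLE hUV)
    have : (algebraMap Γ(Y, V) Γ(X, U)) = (f.appLE V U hUV).hom := rfl
    rw [this, Scheme.Hom.appLE]
    exact h2.comp h1
  haveI : Algebra.QuasiFiniteAt Γ(Y, V) (hU.primeIdealOf ⟨x₀, hxU⟩).asIdeal :=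
    (hqf x₀).quasiFiniteAt hU hV hUV hxU
  obtain ⟨r, hr, het⟩ :=
    exists_etale_away Γ(Y, V) Γ(X, U) hinj (hU.primeIdealOf ⟨x₀, hxU⟩).asIdeal
  refine ⟨X.basicOpen r, ?_, ?_⟩
  · rw [Set.nonempty_iff_ne_empty]
    intro h
    apply hr
    have h3 : X.basicOpen r = ⊥ := by ext1; exact h
    exact (basicOpen_eq_bot_iff r).mp h3
  · refine etale_ι_comp_of_etale_appLE f hV (hU.basicOpen r) ((X.basicOpen_le r).trans hUV) ?_
    have := hU.isLocalization_basicOpen r
    rw [← RingHom.etale_algebraMap] at het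
    convert!
      RingHom.Etale.propertyIsLocal.respectsIso.1 _
        (IsLocalization.algEquiv (.powers r) _ Γ(X, X.basicOpen r)).toRingEquiv het
    ext
    dsimp
    simp only [IsScalarTower.algebraMap_apply Γ(Y, V) Γ(X, U) (Localization _),
      IsLocalization.map_eq]
    simp only [RingHom.algebraMap_toAlgebra, RingHomCompTriple.comp_apply, ← ConcreteCategory.comp_apply,
      Scheme.Hom.appLE_map]

end Groth.Agent.Lead.OpImm
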