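import Mathlib
import Groth.Agent.Lib.Lead.OpImm4
import Groth.Prelude.Def_Pi1

/-!
# A dominant morphism to a normal variety in characteristic zero which is injective on rational
points is an open immersion (lead)
-/

set_option backward.isDefEq.respectTransparency.types false
set_option synthInstance.maxHeartbeats 400000
set_option autoImplicit false
set_option linter.unusedSectionVars false
set_option linter.style.haveILetI false
universe u v w

open CategoryTheory CategoryTheory.Limits AlgebraicGeometry TopologicalSpace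
open Groth.Agent.Lib.Helper4.LocalIso2

namespace Groth.Agent.Lead.OpImm

theorem isOpenImmersion_of_forall_exists_isIso_restrict {X Y : Scheme.{u}} (f : X ⟶ Y)
    (h : ∀ x : X, ∃ U : Y.Opens, f x ∈ U ∧ IsIso (f ∣_ U)) : IsOpenImmersion f := by
  choose U hU hiso using h
  have hoi : ∀ x, IsOpenImmersion ((f ⁻¹ᵁ U x).ι ≫ f) := by
    intro x
    haveI := hiso x
    rw [← morphismRestrict_ι]
    infer_instance
  haveI : ∀ x, IsIso (f.stalkMap x) := by
    intro x
    haveI := hoi x
    exact isIso_stalkMap_of_localIso f x (f ⁻¹ᵁ U x) (hU x)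
  refine IsOpenImmersion.of_isIso_stalkMap f ?_
  refine Topology.IsOpenEmbedding.of_continuous_injective_isOpenMap f.continuous ?_ ?_
  · intro x₁ x₂ h12
    haveI := hoi x₁
    have h2 : x₂ ∈ f ⁻¹ᵁ U x₁ := by
      show f x₂ ∈ U x₁
      rw [← h12]; exact hU x₁
    have h3 : ((f ⁻¹ᵁ U x₁).ι ≫ f) ⟨x₁, hU x₁⟩ = ((f ⁻¹ᵁ U x₁).ι ≫ f) ⟨x₂, h2⟩ := by
      simpa using h12
    have := ((f ⁻¹ᵁ U x₁).ι ≫ f).isOpenEmbedding.injective h3
    exact congrArg Subtype.val this
  · intro O hO
    rw [isOpen_iff_forall_mem_open]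
    rintro _ ⟨z, hz, rfl⟩
    haveI := hoi z
    refine ⟨((f ⁻¹ᵁ U z).ι ≫ f) '' ((f ⁻¹ᵁ U z).ι ⁻¹' O), ?_, ?_, ?_⟩
    · rintro _ ⟨w, hw, rfl⟩
      exact ⟨(f ⁻¹ᵁ U z).ι w, hw, by simp⟩
    · exact ((f ⁻¹ᵁ U z).ι ≫ f).isOpenEmbedding.isOpenMap _
        (hO.preimage (f ⁻¹ᵁ U z).ι.continuous)
    · exact ⟨⟨z, hU z⟩, hz, by simp⟩

theorem apply_genericPoint_of_isDominant {X Y : Scheme.{u}} [IrreducibleSpace X]
    [IrreducibleSpace Y] (f : X ⟶ Y) [IsDominant f] :
    f (genericPoint X) = genericPoint Y := by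
  have h1 : IsGenericPoint (f (genericPoint X)) (closure (f '' Set.univ)) :=
    (genericPoint_spec X).image f.continuous
  rw [Set.image_univ, f.denseRange.closure_range] at h1
  exact ((genericPoint_spec Y).eq h1).symm

section
variable {k : Type u} [Field k] [IsAlgClosed k] [CharZero k]
  {X Y : Scheme.{u}} (sX : X ⟶ Spec (CommRingCat.of k)) (sY : Y ⟶ Spec (CommRingCat.of k))
  [IsIntegral X] [IsIntegral Y] [IsSeparated sX] [IsSeparated sY]
  [LocallyOfFiniteType sX] [QuasiCompact sX] [LocallyOfFiniteType sY] [QuasiCompact sY]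

include sY in
theorem charZero_sections (V : Y.Opens) (hV : Nonempty V) : CharZero Γ(Y, V) := by
  let ψ : k →+* Γ(Y, V) :=
    ((Scheme.ΓSpecIso (CommRingCat.of k)).inv ≫ sY.appTop ≫
      Y.presheaf.map (homOfLE (le_top : V ≤ ⊤)).op).hom
  exact charZero_of_injective_ringHom ψ.injective

theorem main (hY : Pi1.IsNormalScheme Y)
    (f : X ⟶ Y) (hf : f ≫ sY = sX) [IsDominant f]
    (hinj : ∀ a b : Spec (CommRingCat.of k) ⟶ X, a ≫ sX = 𝟙 _ → b ≫ sX = 𝟙 _ →
      a ≫ f = b ≫ f → a = b) :
    IsOpenImmersion f := by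
  haveI : LocallyOfFiniteType (f ≫ sY) := by rw [hf]; infer_instance
  haveI : LocallyOfFiniteType f := locallyOfFiniteType_of_comp f sY
  haveI : IsSeparated (f ≫ sY) := by rw [hf]; infer_instance
  haveI : IsSeparated f := IsSeparated.of_comp f sY
  haveI : QuasiCompact (f ≫ sY) := by rw [hf]; infer_instance
  haveI : QuasiCompact f := QuasiCompact.of_comp f sY
  haveI : IsLocallyNoetherian Y := LocallyOfFiniteType.isLocallyNoetherian sY
  have hqf : ∀ x, f.QuasiFiniteAt x :=
    quasiFiniteAt_of_injective_on_points sX sY f hf hinj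
  obtain ⟨U', hne, het⟩ := exists_opens_etale f
    (fun V _ hVne => charZero_sections sY V hVne) hqf
  -- the restriction to `U'` is an open immersion
  haveI : IsOpenImmersion (U'.ι ≫ f) := by
    refine isOpenImmersion_of_etale_of_injective_on_points (U'.ι ≫ sX) sY (U'.ι ≫ f)
      (by rw [Category.assoc, hf]) ?_
    intro a b ha hb hab
    have := hinj (a ≫ U'.ι) (b ≫ U'.ι) (by simpa using ha) (by simpa using hb)
      (by simpa using hab)
    exact (cancel_mono U'.ι).mp this
  have hηU : genericPoint X ∈ U' :=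
    ((genericPoint_spec X).mem_open_set_iff U'.isOpen).mpr (by simpa using hne)
  have hbir : IsIso (f.stalkMap (genericPoint X)) :=
    isIso_stalkMap_of_localIso f (genericPoint X) U' hηU
  have hgen : f (genericPoint X) = genericPoint Y := apply_genericPoint_of_isDominant f
  refine isOpenImmersion_of_forall_exists_isIso_restrict f fun x => ?_
  exact Groth.Agent.Lib.Helper4.ZMTNormalPt1.main f hgen hbir x (hY (f x)).2 (hqf x)

end

end Groth.Agent.Lead.OpImm
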