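import Mathlib
import Groth.Prelude.Def_PCone
import Groth.Agent.Lib.Lead.AwayApp
import Groth.Agent.Lib.Helper1.QcCech

/-!
# The chart lemma for a morphism `G(φ) ⟶ Proj 𝒜` compatible with the standard charts (lead)
-/

set_option autoImplicit false
universe u
open CategoryTheory AlgebraicGeometry TopologicalSpace Opposite HomogeneousLocalization

namespace Groth.Agent.Lead.PConeChart

open Groth.Agent.Helper1 Groth.Agent.Helper1.QcCech Groth.Agent.Lead.AwayApp

variable {R A : Type u} [CommRing R] [CommRing A] [Algebra R A] {𝒜 : ℕ → Submodule R A}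
  [GradedAlgebra 𝒜]
  {B : Type u} [CommRing B] [Algebra R B] {ℬ : ℕ → Submodule R B} [GradedAlgebra ℬ]
  (φ : 𝒜 →+*ᵍ ℬ)

theorem chart_ι {d : ℕ} {f : A} (hf : f ∈ 𝒜 d) (hd : 0 < d) :
    PCone.chart φ hf hd ≫ (PCone.dom φ).ι = Proj.awayι ℬ (φ f) (φ.2 hf) hd :=
  IsOpenImmersion.lift_fac _ _ _

theorem basicOpen_le_dom {d : ℕ} {f : A} (hf : f ∈ 𝒜 d) (hd : 0 < d) :
    Proj.basicOpen ℬ (φ f) ≤ PCone.dom φ :=
  le_iSup (fun f : {f : A // ∃ d : ℕ, 0 < d ∧ f ∈ 𝒜 d} => Proj.basicOpen ℬ (φ f.1)) ⟨f, d, hd, hf⟩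

/-- the open of `G(φ)` over `D₊(φ f)` -/
noncomputable abbrev W (f : A) : (PCone.dom φ : Scheme.{u}).Opens :=
  (PCone.dom φ).ι ⁻¹ᵁ Proj.basicOpen ℬ (φ f)

variable (p : (PCone.dom φ : Scheme.{u}) ⟶ Proj 𝒜)
  (hp : ∀ (d : ℕ) (f : A) (hd : 0 < d) (hf : f ∈ 𝒜 d),
    PCone.chart φ hf hd ≫ p =
      Spec.map (CommRingCat.ofHom (HomogeneousLocalization.Away.map φ f)) ≫ Proj.awayι 𝒜 f hf hd)

include hp in
theorem W_le {d : ℕ} {f : A} (hf : f ∈ 𝒜 d) (hd : 0 < d) :
    W φ f ≤ p ⁻¹ᵁ Proj.basicOpen 𝒜 f := by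
  intro x hx
  have hx' : (PCone.dom φ).ι x ∈ (Proj.awayι ℬ (φ f) (φ.2 hf) hd).opensRange := by
    rw [Proj.opensRange_awayι]; exact hx
  obtain ⟨y, hy⟩ := hx'
  have h1 : PCone.chart φ hf hd y = x := by
    apply (PCone.dom φ).ι.isOpenEmbedding.injective
    rw [← hy, ← chart_ι φ hf hd]
    rfl
  change p x ∈ Proj.basicOpen 𝒜 f
  rw [← h1, ← Proj.opensRange_awayι 𝒜 f hf hd]
  refine ⟨Spec.map (CommRingCat.ofHom (HomogeneousLocalization.Away.map φ f)) y, ?_⟩
  have := congrArg (fun q => q y) (hp d f hd hf)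
  exact this.symm

theorem appLE_congr_hom {X Y : Scheme.{u}} {g g' : X ⟶ Y} (e : g = g') (U : Y.Opens) (V : X.Opens)
    (h : V ≤ g ⁻¹ᵁ U) : g.appLE U V h = g'.appLE U V (e ▸ h) := by
  subst e; rfl

theorem appLE_top_top {X Y : Scheme.{u}} (g : X ⟶ Y) (e : (⊤ : X.Opens) ≤ g ⁻¹ᵁ ⊤) :
    g.appLE ⊤ ⊤ e = g.appTop := by
  exact Scheme.Hom.appLE_eq_app g (U := ⊤)

theorem exists_resR_eq {X : Scheme.{u}} {O O' : X.Opens} (h : O' = O) (r : Γ(X, O')) :
    ∃ s : Γ(X, O), resR (le_of_eq h) s = r := by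
  subst h
  refine ⟨r, ?_⟩
  change (X.presheaf.map (homOfLE (le_refl O')).op).hom r = r
  have : (homOfLE (le_refl O')).op = 𝟙 _ := rfl
  rw [this, X.presheaf.map_id]
  rfl

theorem img_W {d : ℕ} {f : A} (hf : f ∈ 𝒜 d) (hd : 0 < d) :
    (PCone.dom φ).ι ''ᵁ (W φ f) = Proj.basicOpen ℬ (φ f) := by
  rw [Scheme.Hom.image_preimage_eq_opensRange_inf, Scheme.Opens.opensRange_ι,
    inf_eq_right.2 (basicOpen_le_dom φ hf hd)]

theorem top_le_chart {d : ℕ} {f : A} (hf : f ∈ 𝒜 d) (hd : 0 < d) :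
    (⊤ : (Spec (CommRingCat.of (Away ℬ (φ f)))).Opens) ≤ (PCone.chart φ hf hd) ⁻¹ᵁ (W φ f) := by
  intro y _
  change ((PCone.chart φ hf hd) ≫ (PCone.dom φ).ι) y ∈ Proj.basicOpen ℬ (φ f)
  rw [chart_ι, ← Proj.opensRange_awayι ℬ (φ f) (φ.2 hf) hd]
  exact ⟨y, rfl⟩

include hp in
/-- **the chart lemma**: `p` pulls `awayToSection z` back to `awayToSection (φ z)` -/
theorem chart_lemma {d : ℕ} {f : A} (hf : f ∈ 𝒜 d) (hd : 0 < d) (z : Away 𝒜 f) :
    resR (W_le φ p hp hf hd) ((p.app (Proj.basicOpen 𝒜 f)).hom ((Proj.awayToSection 𝒜 f).hom z)) =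
      (show Γ((PCone.dom φ : Scheme.{u}), W φ f) from
        resR ((PCone.dom φ).ι.image_preimage_le (Proj.basicOpen ℬ (φ f)))
          ((Proj.awayToSection ℬ (φ f)).hom (Away.map φ f z))) := by
  set c := PCone.chart φ hf hd with hc
  set U := Proj.basicOpen 𝒜 f with hU
  set V := Proj.basicOpen ℬ (φ f) with hV
  have hct := top_le_chart φ hf hd
  -- write the left side as a restricted `awayToSection`
  obtain ⟨s, hs⟩ := exists_resR_eq (img_W φ hf hd)
    (show Γ(Proj ℬ, (PCone.dom φ).ι ''ᵁ (W φ f)) from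
      resR (W_le φ p hp hf hd) ((p.app U).hom ((Proj.awayToSection 𝒜 f).hom z)))
  have hbij : Function.Bijective (Proj.awayToSection ℬ (φ f)).hom := by
    have hiso : IsIso (Proj.awayToSection ℬ (φ f)) := by
      have := (Proj.basicOpenIsoAway ℬ (φ f) (φ.2 hf) hd).isIso_hom
      rwa [Proj.basicOpenIsoAway_hom] at this
    exact (ConcreteCategory.isIso_iff_bijective _).1 hiso
  obtain ⟨w, rfl⟩ := hbij.2 s
  -- compute both sides after pulling back along the chart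
  have H1 : ((c.appLE (W φ f) ⊤ hct).hom
      (resR (W_le φ p hp hf hd) ((p.app U).hom ((Proj.awayToSection 𝒜 f).hom z)))) =
      (Scheme.ΓSpecIso _).inv.hom (Away.map φ f z) := by
    have e1 := Scheme.Hom.appLE_comp_appLE c p U (W φ f) ⊤ (W_le φ p hp hf hd) hct
    have e2 := appLE_congr_hom (hp d f hd hf) U ⊤
      (hct.trans ((Opens.map c.base).map (homOfLE (W_le φ p hp hf hd))).le)
    have e3 := Scheme.Hom.appLE_comp_appLE
      (Spec.map (CommRingCat.ofHom (HomogeneousLocalization.Away.map φ f)))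
      (Proj.awayι 𝒜 f hf hd) U ⊤ ⊤ (by rw [awayι_preimage_self]) le_top
    have e4 := appLE_top_top (Spec.map (CommRingCat.ofHom (HomogeneousLocalization.Away.map φ f)))
      le_top
    have e5 := Scheme.ΓSpecIso_inv_naturality
      (CommRingCat.ofHom (HomogeneousLocalization.Away.map φ f))
    have e6 := key 𝒜 f hf hd
    have hfin : p.appLE U (W φ f) (W_le φ p hp hf hd) ≫ c.appLE (W φ f) ⊤ hct =
        (Proj.awayι 𝒜 f hf hd).appLE U ⊤ (by rw [awayι_preimage_self]) ≫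
          (Spec.map (CommRingCat.ofHom (HomogeneousLocalization.Away.map φ f))).appTop := by
      rw [e1, e2, ← e4, e3]
    have := congrArg (fun k => k.hom ((Proj.awayToSection 𝒜 f).hom z)) hfin
    refine this.trans ?_
    have e7 := congrArg (fun k => k.hom z) e6
    have e8 := congrArg (fun k => k.hom z) e5
    change (Spec.map (CommRingCat.ofHom (HomogeneousLocalization.Away.map φ f))).appTop.hom
      (((Proj.awayι 𝒜 f hf hd).appLE U ⊤ _).hom ((Proj.awayToSection 𝒜 f).hom z)) = _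
    change ((Proj.awayι 𝒜 f hf hd).appLE U ⊤ _).hom ((Proj.awayToSection 𝒜 f).hom z) = _ at e7
    rw [e7]
    exact e8.symm
  have H2 : ((c.appLE (W φ f) ⊤ hct).hom
      (show Γ((PCone.dom φ : Scheme.{u}), W φ f) from
        resR (le_of_eq (img_W φ hf hd)) ((Proj.awayToSection ℬ (φ f)).hom w))) =
      (Scheme.ΓSpecIso _).inv.hom w := by
    have e1 := Scheme.Hom.appLE_comp_appLE c (PCone.dom φ).ι V (W φ f) ⊤ le_rfl hct
    have e2 := appLE_congr_hom (chart_ι φ hf hd) V ⊤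
      (hct.trans ((Opens.map c.base).map (homOfLE (le_refl (W φ f)))).le)
    have e3 := key ℬ (φ f) (φ.2 hf) hd
    have e4 : (PCone.dom φ).ι.appLE V (W φ f) le_rfl =
        (Proj ℬ).presheaf.map (homOfLE (le_of_eq (img_W φ hf hd))).op :=
      Scheme.Opens.ι_appLE _ _ _ _
    have hfin : (PCone.dom φ).ι.appLE V (W φ f) le_rfl ≫
        c.appLE (W φ f) ⊤ hct = (Proj.awayι ℬ (φ f) (φ.2 hf) hd).appLE V ⊤
          (by rw [awayι_preimage_self]) := e1.trans e2
    have h5 := congrArg (fun k => k.hom ((Proj.awayToSection ℬ (φ f)).hom w)) hfin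
    have h6 : ((PCone.dom φ).ι.appLE V (W φ f) le_rfl).hom ((Proj.awayToSection ℬ (φ f)).hom w) =
        (show Γ((PCone.dom φ : Scheme.{u}), W φ f) from
          resR (le_of_eq (img_W φ hf hd)) ((Proj.awayToSection ℬ (φ f)).hom w)) := by
      rw [e4]; rfl
    rw [← h6]
    refine h5.trans ?_
    exact congrArg (fun k => k.hom w) e3
  have hw : w = Away.map φ f z := by
    have h3 : (Scheme.ΓSpecIso (CommRingCat.of (Away ℬ (φ f)))).inv.hom w =
        (Scheme.ΓSpecIso (CommRingCat.of (Away ℬ (φ f)))).inv.hom (Away.map φ f z) := by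
      rw [← H1, ← H2]
      exact congrArg _ hs
    have hinj : Function.Injective (Scheme.ΓSpecIso (CommRingCat.of (Away ℬ (φ f)))).inv.hom :=
      ((ConcreteCategory.isIso_iff_bijective _).1 inferInstance).1
    exact hinj h3
  rw [← hw]
  exact hs.symm

end Groth.Agent.Lead.PConeChart
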