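import Mathlib
import Groth.Agent.Lib.Lead.PnEv

/-!
# The standard generators `f^n` of `O(n)` on `D₊(f)`, `f` of degree one, and their transitions (lead)
-/

set_option autoImplicit false
universe u
open CategoryTheory AlgebraicGeometry TopologicalSpace Opposite HomogeneousLocalization

namespace Groth.Agent.Lead.TwGen

open Groth.Agent.Helper1 Groth.Agent.Helper1.LGen Groth.Agent.Helper1.QcCech
  Groth.Agent.Lead.PnEv

variable {R A : Type u} [CommRing R] [CommRing A] [Algebra R A] (𝒜 : ℕ → Submodule R A)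
  [GradedAlgebra 𝒜]

/-- sections of the twisting sheaf are determined by their values -/
theorem sec_ext (n : ℤ) (V : (Proj 𝒜).Opens) (t t' : Γ(Twist.twist 𝒜 n, V))
    (h : ∀ (x : ProjectiveSpectrum 𝒜) (hx : x ∈ V), evT 𝒜 x n V hx t = evT 𝒜 x n V hx t') :
    t = t' := by
  apply Subtype.ext
  funext x
  apply Subtype.ext
  exact h x.1 x.2

/-- functions are determined by their values -/
theorem fun_ext (V : (Proj 𝒜).Opens) (r r' : Γ(Proj 𝒜, V))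
    (h : ∀ (x : ProjectiveSpectrum 𝒜) (hx : x ∈ V), ev 𝒜 x V hx r = ev 𝒜 x V hx r') :
    r = r' := by
  apply Subtype.ext
  funext x
  apply HomogeneousLocalization.val_injective
  exact h x.1 x.2

/-- the unit of the localization at `x` given by an element outside `x` -/
noncomputable def lu (x : ProjectiveSpectrum 𝒜) (f : A) (hf : f ∉ x.asHomogeneousIdeal) :
    (Twist.Loc 𝒜 x)ˣ :=
  IsUnit.unit (IsLocalization.map_units (Twist.Loc 𝒜 x)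
    (⟨f, hf⟩ : x.asHomogeneousIdeal.toIdeal.primeCompl))

theorem lu_val (x : ProjectiveSpectrum 𝒜) (f : A) (hf : f ∉ x.asHomogeneousIdeal) :
    ((lu 𝒜 x f hf : (Twist.Loc 𝒜 x)ˣ) : Twist.Loc 𝒜 x) = algebraMap A (Twist.Loc 𝒜 x) f := rfl

theorem pow_not_mem {f : A} (j : ℕ) (x : ProjectiveSpectrum 𝒜) (hx : f ∉ x.asHomogeneousIdeal) :
    f ^ j ∉ x.asHomogeneousIdeal := fun h => hx (x.isPrime.mem_of_pow_mem _ h)

theorem toNat_eq (n : ℤ) : ((n.toNat • 1 : ℕ) : ℤ) = ((-n).toNat • 1 : ℕ) + n := by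
  simp only [smul_eq_mul, mul_one]
  omega

/-- the generator `f^n` of `O(n)` over `D₊(f)` -/
noncomputable def gen {f : A} (hf : f ∈ 𝒜 1) (n : ℤ) :
    Γ(Twist.twist 𝒜 n, Proj.basicOpen 𝒜 f) :=
  frac 𝒜 (SetLike.pow_mem_graded n.toNat hf) (SetLike.pow_mem_graded (-n).toNat hf) (toNat_eq n)
    (Proj.basicOpen 𝒜 f) (fun x => pow_not_mem 𝒜 _ x.1 x.2)

theorem isGen_gen {f : A} (hf : f ∈ 𝒜 1) (n : ℤ) :
    IsGen (Twist.twist 𝒜 n) (Proj.basicOpen 𝒜 f) (gen 𝒜 hf n) :=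
  isGen_frac 𝒜 _ _ _ _ _ (fun x => pow_not_mem 𝒜 _ x.1 x.2)

theorem evT_gen {f : A} (hf : f ∈ 𝒜 1) (n : ℤ) (x : ProjectiveSpectrum 𝒜)
    (hx : x ∈ Proj.basicOpen 𝒜 f) :
    evT 𝒜 x n (Proj.basicOpen 𝒜 f) hx (gen 𝒜 hf n) =
      ((lu 𝒜 x f hx ^ n : (Twist.Loc 𝒜 x)ˣ) : Twist.Loc 𝒜 x) := by
  change Localization.mk (f ^ n.toNat) ⟨f ^ (-n).toNat, _⟩ = _
  rw [Localization.mk_eq_mk', IsLocalization.mk'_eq_iff_eq_mul]
  change algebraMap A (Twist.Loc 𝒜 x) (f ^ n.toNat) = _ * algebraMap A (Twist.Loc 𝒜 x) (f ^ (-n).toNat)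
  rw [map_pow, map_pow, ← lu_val 𝒜 x f hx, ← Units.val_pow_eq_pow_val, ← Units.val_pow_eq_pow_val,
    ← Units.val_mul]
  congr 1
  rw [← zpow_natCast, ← zpow_natCast, ← zpow_add]
  congr 1
  omega

theorem mem_two {f g h : A} (hf : f ∈ 𝒜 1) (hg : g ∈ 𝒜 1) (hh : h = f * g) : h ∈ 𝒜 2 := by
  subst hh
  exact SetLike.mul_mem_graded hf hg

theorem mul_mem_two {f g : A} (hf : f ∈ 𝒜 1) (hg : g ∈ 𝒜 1) : f * g ∈ 𝒜 (1 • 2) :=
  SetLike.mul_mem_graded hf hg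

/-- the unit `f/g` of `A_(fg)` -/
noncomputable def uu {f g h : A} (hf : f ∈ 𝒜 1) (hg : g ∈ 𝒜 1) (hh : h = f * g) : (Away 𝒜 h)ˣ where
  val := Away.mk 𝒜 (mem_two 𝒜 hf hg hh) 1 (f * f) (mul_mem_two 𝒜 hf hf)
  inv := Away.mk 𝒜 (mem_two 𝒜 hf hg hh) 1 (g * g) (mul_mem_two 𝒜 hg hg)
  val_inv := by
    apply HomogeneousLocalization.val_injective
    rw [HomogeneousLocalization.val_mul, Away.val_mk, Away.val_mk, HomogeneousLocalization.val_one,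
      Localization.mk_mul]
    have : f * f * (g * g) = h ^ 1 * h ^ 1 := by subst hh; ring
    rw [← Localization.mk_self (⟨h ^ 1, 1, rfl⟩ * ⟨h ^ 1, 1, rfl⟩ : Submonoid.powers h)]
    congr 1
  inv_val := by
    apply HomogeneousLocalization.val_injective
    rw [HomogeneousLocalization.val_mul, Away.val_mk, Away.val_mk, HomogeneousLocalization.val_one,
      Localization.mk_mul]
    have : g * g * (f * f) = h ^ 1 * h ^ 1 := by subst hh; ring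
    rw [← Localization.mk_self (⟨h ^ 1, 1, rfl⟩ * ⟨h ^ 1, 1, rfl⟩ : Submonoid.powers h)]
    congr 1

theorem uu_val {f g h : A} (hf : f ∈ 𝒜 1) (hg : g ∈ 𝒜 1) (hh : h = f * g) :
    ((uu 𝒜 hf hg hh : (Away 𝒜 h)ˣ) : Away 𝒜 h) =
      Away.mk 𝒜 (mem_two 𝒜 hf hg hh) 1 (f * f) (mul_mem_two 𝒜 hf hf) := rfl

theorem not_mem_left {f g h : A} (hh : h = f * g) (x : ProjectiveSpectrum 𝒜)
    (hx : x ∈ Proj.basicOpen 𝒜 h) : f ∉ x.asHomogeneousIdeal := fun hf =>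
  hx (by subst hh; exact Ideal.mul_mem_right _ _ hf)

theorem not_mem_right {f g h : A} (hh : h = f * g) (x : ProjectiveSpectrum 𝒜)
    (hx : x ∈ Proj.basicOpen 𝒜 h) : g ∉ x.asHomogeneousIdeal := fun hg =>
  hx (by subst hh; exact Ideal.mul_mem_left _ _ hg)

/-- evaluation of units of `A_(h)` at a point of `D₊(h)` -/
noncomputable def evU (h : A) (x : ProjectiveSpectrum 𝒜) (hx : x ∈ Proj.basicOpen 𝒜 h) :
    (Away 𝒜 h)ˣ →* (Twist.Loc 𝒜 x)ˣ :=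
  Units.map ((ev 𝒜 x (Proj.basicOpen 𝒜 h) hx).comp (Proj.awayToSection 𝒜 h).hom).toMonoidHom

theorem evU_val (h : A) (x : ProjectiveSpectrum 𝒜) (hx : x ∈ Proj.basicOpen 𝒜 h)
    (w : (Away 𝒜 h)ˣ) : ((evU 𝒜 h x hx w : (Twist.Loc 𝒜 x)ˣ) : Twist.Loc 𝒜 x) =
      ev 𝒜 x (Proj.basicOpen 𝒜 h) hx ((Proj.awayToSection 𝒜 h).hom (w : Away 𝒜 h)) := rfl

theorem evU_uu {f g h : A} (hf : f ∈ 𝒜 1) (hg : g ∈ 𝒜 1) (hh : h = f * g)
    (x : ProjectiveSpectrum 𝒜) (hx : x ∈ Proj.basicOpen 𝒜 h) :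
    evU 𝒜 h x hx (uu 𝒜 hf hg hh) =
      lu 𝒜 x f (not_mem_left 𝒜 hh x hx) / lu 𝒜 x g (not_mem_right 𝒜 hh x hx) := by
  rw [eq_div_iff_mul_eq']
  apply Units.ext
  rw [Units.val_mul, evU_val, uu_val, lu_val, lu_val]
  have h1 := ev_awayToSection_mk 𝒜 x (mem_two 𝒜 hf hg hh) hx 1 (f * f) (mul_mem_two 𝒜 hf hf)
  rw [pow_one] at h1
  have hG : IsUnit (algebraMap A (Twist.Loc 𝒜 x) f) :=
    (lu 𝒜 x f (not_mem_left 𝒜 hh x hx)).isUnit
  apply hG.mul_left_injective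
  change _ * algebraMap A (Twist.Loc 𝒜 x) g * algebraMap A (Twist.Loc 𝒜 x) f =
    algebraMap A (Twist.Loc 𝒜 x) f * algebraMap A (Twist.Loc 𝒜 x) f
  rw [mul_assoc, ← map_mul, ← map_mul, mul_comm g f, ← hh, h1]

/-- **the transition between the standard generators** -/
theorem gen_trans {f g h : A} (hf : f ∈ 𝒜 1) (hg : g ∈ 𝒜 1) (hh : h = f * g) (n : ℤ)
    (hlf : Proj.basicOpen 𝒜 h ≤ Proj.basicOpen 𝒜 f) (hlg : Proj.basicOpen 𝒜 h ≤ Proj.basicOpen 𝒜 g) :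
    res (Twist.twist 𝒜 n) hlf (gen 𝒜 hf n) =
      ((Proj.awayToSection 𝒜 h).hom ((uu 𝒜 hf hg hh ^ n : (Away 𝒜 h)ˣ) : Away 𝒜 h)) •
        res (Twist.twist 𝒜 n) hlg (gen 𝒜 hg n) := by
  apply sec_ext
  intro x hx
  rw [evT_smul, evT_res, evT_res, evT_gen, evT_gen, ← evU_val, map_zpow, evU_uu, ← Units.val_mul]
  congr 1
  rw [div_zpow, div_mul_cancel]

end Groth.Agent.Lead.TwGen
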