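import Mathlib
import Groth.Prelude.Def_PCone
import Groth.Prelude.Def_Twist2
import Groth.Agent.Lib.Lead.PConeChart
import Groth.Agent.Lib.Lead.TwGen
import Groth.Agent.Lib.Helper1.CocycleIso
import Groth.Agent.Lib.Helper1.PullGen
import Groth.Agent.Lib.Helper1.TwRestr

/-!
# The pullback of `O(n)` along `G(φ) ⟶ Proj 𝒜` is `O(n)` restricted to `G(φ)` (lead)
-/

set_option autoImplicit false
universe u
open CategoryTheory AlgebraicGeometry TopologicalSpace Opposite HomogeneousLocalization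

namespace Groth.Agent.Lead.PConeMain

open Groth.Agent.Helper1 Groth.Agent.Helper1.QcCech Groth.Agent.Helper1.LGen
  Groth.Agent.Helper1.CocycleIso Groth.Agent.Helper1.TwForm Groth.Agent.Helper1.PullSec
  Groth.Agent.Helper1.SubSh
  Groth.Agent.Lead.AwayApp Groth.Agent.Lead.PConeChart Groth.Agent.Lead.TwGen

variable {R A : Type u} [CommRing R] [CommRing A] [Algebra R A] (𝒜 : ℕ → Submodule R A)
  [GradedAlgebra 𝒜]
  {B : Type u} [CommRing B] [Algebra R B] (ℬ : ℕ → Submodule R B) [GradedAlgebra ℬ]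
  (φ : 𝒜 →+*ᵍ ℬ)

theorem map_uu {f g h : A} (hf : f ∈ 𝒜 1) (hg : g ∈ 𝒜 1) (hh : h = f * g)
    (hh' : φ h = φ f * φ g) (n : ℤ) :
    Away.map φ h ((uu 𝒜 hf hg hh ^ n : (Away 𝒜 h)ˣ) : Away 𝒜 h) =
      ((uu ℬ (φ.2 hf) (φ.2 hg) hh' ^ n : (Away ℬ (φ h))ˣ) : Away ℬ (φ h)) := by
  have h1 : Units.map (Away.map φ h).toMonoidHom (uu 𝒜 hf hg hh) = uu ℬ (φ.2 hf) (φ.2 hg) hh' := by
    apply Units.ext
    change Away.map φ h (Away.mk 𝒜 (mem_two 𝒜 hf hg hh) 1 (f * f) (mul_mem_two 𝒜 hf hf)) =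
      Away.mk ℬ (mem_two ℬ (φ.2 hf) (φ.2 hg) hh') 1 (φ f * φ f) (mul_mem_two ℬ (φ.2 hf) (φ.2 hf))
    rw [Away.map_mk]
    apply HomogeneousLocalization.val_injective
    rw [Away.val_mk, Away.val_mk, map_mul]
  rw [← h1, ← map_zpow]
  rfl

include 𝒜 in
theorem cov (hgen : (HomogeneousIdeal.irrelevant 𝒜).toIdeal = Ideal.span (𝒜 1 : Set A))
    (x : (PCone.dom φ : Scheme.{u})) : ∃ i : {f : A // f ∈ 𝒜 1}, x ∈ W φ i.1 := by
  have hx : (PCone.dom φ).ι x ∈ PCone.dom φ := x.2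
  obtain ⟨⟨f', d, hd, hf'⟩, hxf⟩ := Opens.mem_iSup.1 hx
  by_contra hcon
  simp only [not_exists] at hcon
  apply hxf
  have hmem : f' ∈ (HomogeneousIdeal.irrelevant 𝒜).toIdeal := by
    change f' ∈ HomogeneousIdeal.irrelevant 𝒜
    rw [HomogeneousIdeal.mem_irrelevant_iff, GradedRing.proj_apply,
      DirectSum.decompose_of_mem_ne 𝒜 hf' hd.ne']
  rw [hgen] at hmem
  have hle : Ideal.span (𝒜 1 : Set A) ≤
      Ideal.comap φ ((PCone.dom φ).ι x).asHomogeneousIdeal.toIdeal := by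
    rw [Ideal.span_le]
    intro g hg
    by_contra hgx
    exact hcon ⟨g, hg⟩ hgx
  exact hle hmem

variable {𝒜 ℬ}
variable (p : (PCone.dom φ : Scheme.{u}) ⟶ Proj 𝒜)
  (hp : ∀ (d : ℕ) (f : A) (hd : 0 < d) (hf : f ∈ 𝒜 d),
    PCone.chart φ hf hd ≫ p =
      Spec.map (CommRingCat.ofHom (HomogeneousLocalization.Away.map φ f)) ≫ Proj.awayι 𝒜 f hf hd)
  (n : ℤ)

/-- the pulled back module -/
noncomputable abbrev MA : (PCone.dom φ : Scheme.{u}).Modules :=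
  (Scheme.Modules.pullback p).obj (Twist.twist 𝒜 n)

/-- the restricted module -/
noncomputable abbrev MB : (PCone.dom φ : Scheme.{u}).Modules :=
  (Twist.twist ℬ n).restrict (PCone.dom φ).ι

/-- the generators of the pullback -/
noncomputable def ga (i : {f : A // f ∈ 𝒜 1}) : Γ(MA φ p n, W φ i.1) :=
  res (MA φ p n) (W_le φ p hp i.2 one_pos)
    (σ p (Twist.twist 𝒜 n) (Proj.basicOpen 𝒜 i.1) (gen 𝒜 i.2 n))

theorem isGen_ga (i : {f : A // f ∈ 𝒜 1}) : IsGen (MA φ p n) (W φ i.1) (ga φ p hp n i) :=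
  (PullGen.isGen_σ p (isGen_gen 𝒜 i.2 n)).res (W_le φ p hp i.2 one_pos)

/-- the generators of the restriction -/
noncomputable def gb (i : {f : A // f ∈ 𝒜 1}) : Γ(MB φ n, W φ i.1) :=
  (show Γ(MB φ n, W φ i.1) from
    res (Twist.twist ℬ n) ((PCone.dom φ).ι.image_preimage_le (Proj.basicOpen ℬ (φ i.1)))
      (gen ℬ (φ.2 i.2) n))

theorem isGen_gb (i : {f : A // f ∈ 𝒜 1}) : IsGen (MB φ n) (W φ i.1) (gb φ n i) :=
  isGen_restrict_of_isGen_image (PCone.dom φ).ι (Twist.twist ℬ n) (W φ i.1) _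
    ((isGen_gen ℬ (φ.2 i.2) n).res _)

theorem ga_res {h : A} (hh2 : h ∈ 𝒜 2) (T : (PCone.dom φ : Scheme.{u}).Opens) (hTh : T ≤ W φ h)
    (i : {f : A // f ∈ 𝒜 1}) (hTf : T ≤ W φ i.1)
    (hU : Proj.basicOpen 𝒜 h ≤ Proj.basicOpen 𝒜 i.1) :
    res (MA φ p n) hTf (ga φ p hp n i) =
      res (MA φ p n) (hTh.trans (W_le φ p hp hh2 two_pos))
        (σ p (Twist.twist 𝒜 n) (Proj.basicOpen 𝒜 h) (res (Twist.twist 𝒜 n) hU (gen 𝒜 i.2 n))) := by
  unfold ga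
  rw [res_res, ← σ_res, res_res]

theorem gb_res (T : (PCone.dom φ : Scheme.{u}).Opens) (i : {f : A // f ∈ 𝒜 1}) (hTf : T ≤ W φ i.1) :
    res (MB φ n) hTf (gb φ n i) =
      (show Γ(MB φ n, T) from res (Twist.twist ℬ n)
        (((PCone.dom φ).ι.image_mono hTf).trans ((PCone.dom φ).ι.image_preimage_le _))
        (gen ℬ (φ.2 i.2) n)) := by
  unfold gb
  rw [res_restrict]
  exact res_res _ _ _ _

theorem smul_MB (T : (PCone.dom φ : Scheme.{u}).Opens) (r : Γ((PCone.dom φ : Scheme.{u}), T))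
    (t : Γ(MB φ n, T)) :
    r • t = (show Γ(MB φ n, T) from
      ((show Γ(Proj ℬ, (PCone.dom φ).ι ''ᵁ T) from r) • (show Γ(Twist.twist ℬ n, (PCone.dom φ).ι ''ᵁ T) from t))) := by
  rw [smul_restrict]
  congr 1
  rw [Scheme.Opens.ι_appIso]
  rfl

theorem compat (i j : {f : A // f ∈ 𝒜 1})
    (v : Γ((PCone.dom φ : Scheme.{u}), W φ i.1 ⊓ W φ j.1))
    (hv : res (MA φ p n) inf_le_left (ga φ p hp n i) =
      v • res (MA φ p n) inf_le_right (ga φ p hp n j)) :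
    res (MB φ n) inf_le_left (gb φ n i) = v • res (MB φ n) inf_le_right (gb φ n j) := by
  obtain ⟨f, hf⟩ := i
  obtain ⟨g, hg⟩ := j
  have hh' : φ (f * g) = φ f * φ g := map_mul φ f g
  have hh2 : f * g ∈ 𝒜 2 := mem_two 𝒜 hf hg rfl
  have hTh : W φ f ⊓ W φ g ≤ W φ (f * g) := by
    intro x hx
    change (PCone.dom φ).ι x ∈ Proj.basicOpen ℬ (φ (f * g))
    rw [hh', Proj.basicOpen_mul]
    exact ⟨hx.1, hx.2⟩
  have hUf : Proj.basicOpen 𝒜 (f * g) ≤ Proj.basicOpen 𝒜 f := by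
    rw [Proj.basicOpen_mul]; exact inf_le_left
  have hUg : Proj.basicOpen 𝒜 (f * g) ≤ Proj.basicOpen 𝒜 g := by
    rw [Proj.basicOpen_mul]; exact inf_le_right
  have hVf : Proj.basicOpen ℬ (φ (f * g)) ≤ Proj.basicOpen ℬ (φ f) := by
    rw [hh', Proj.basicOpen_mul]; exact inf_le_left
  have hVg : Proj.basicOpen ℬ (φ (f * g)) ≤ Proj.basicOpen ℬ (φ g) := by
    rw [hh', Proj.basicOpen_mul]; exact inf_le_right
  have GA := gen_trans 𝒜 hf hg rfl n hUf hUg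
  have GB := gen_trans ℬ (φ.2 hf) (φ.2 hg) hh' n hVf hVg
  have hle_h : W φ f ⊓ W φ g ≤ p ⁻¹ᵁ Proj.basicOpen 𝒜 (f * g) :=
    hTh.trans (W_le φ p hp hh2 two_pos)
  -- step a
  have ea : res (MA φ p n) inf_le_left (ga φ p hp n ⟨f, hf⟩) =
      resR hle_h ((p.app (Proj.basicOpen 𝒜 (f * g))).hom
        ((Proj.awayToSection 𝒜 (f * g)).hom
          ((uu 𝒜 hf hg rfl ^ n : (Away 𝒜 (f * g))ˣ) : Away 𝒜 (f * g)))) •
        res (MA φ p n) inf_le_right (ga φ p hp n ⟨g, hg⟩) := by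
    rw [ga_res φ p hp n hh2 _ hTh ⟨f, hf⟩ inf_le_left hUf,
      ga_res φ p hp n hh2 _ hTh ⟨g, hg⟩ inf_le_right hUg, GA, σ_smul, res_smul]
  -- step b
  have eb : v = resR hle_h ((p.app (Proj.basicOpen 𝒜 (f * g))).hom
        ((Proj.awayToSection 𝒜 (f * g)).hom
          ((uu 𝒜 hf hg rfl ^ n : (Away 𝒜 (f * g))ˣ) : Away 𝒜 (f * g)))) := by
    apply (isGen_ga φ p hp n ⟨g, hg⟩ _ inf_le_right).1
    change v • res (MA φ p n) inf_le_right (ga φ p hp n ⟨g, hg⟩) = _ •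
      res (MA φ p n) inf_le_right (ga φ p hp n ⟨g, hg⟩)
    rw [← hv, ea]
  -- step c
  have CL := chart_lemma φ p hp hh2 two_pos
    ((uu 𝒜 hf hg rfl ^ n : (Away 𝒜 (f * g))ˣ) : Away 𝒜 (f * g))
  rw [map_uu 𝒜 ℬ φ hf hg rfl hh' n] at CL
  have ec : (show Γ(Proj ℬ, (PCone.dom φ).ι ''ᵁ (W φ f ⊓ W φ g)) from v) =
      resR (((PCone.dom φ).ι.image_mono hTh).trans ((PCone.dom φ).ι.image_preimage_le _))
        ((Proj.awayToSection ℬ (φ (f * g))).hom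
          ((uu ℬ (φ.2 hf) (φ.2 hg) hh' ^ n : (Away ℬ (φ (f * g)))ˣ) : Away ℬ (φ (f * g)))) := by
    rw [eb]
    have : resR hle_h ((p.app (Proj.basicOpen 𝒜 (f * g))).hom
        ((Proj.awayToSection 𝒜 (f * g)).hom
          ((uu 𝒜 hf hg rfl ^ n : (Away 𝒜 (f * g))ˣ) : Away 𝒜 (f * g)))) =
        resR hTh (resR (W_le φ p hp hh2 two_pos) ((p.app (Proj.basicOpen 𝒜 (f * g))).hom
        ((Proj.awayToSection 𝒜 (f * g)).hom
          ((uu 𝒜 hf hg rfl ^ n : (Away 𝒜 (f * g))ˣ) : Away 𝒜 (f * g))))) :=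
      (resR_resR _ _ _).symm
    rw [this, CL]
    exact resR_resR (X := Proj ℬ) _ _ _
  -- step d
  rw [gb_res φ n _ ⟨f, hf⟩ inf_le_left, gb_res φ n _ ⟨g, hg⟩ inf_le_right, smul_MB]
  have e1 := congrArg (res (Twist.twist ℬ n)
    (((PCone.dom φ).ι.image_mono hTh).trans ((PCone.dom φ).ι.image_preimage_le _))) GB
  rw [res_smul, res_res, res_res] at e1
  rw [ec]
  exact e1

include hp in
/-- **the pullback of `O(n)` along `G(φ) ⟶ Proj 𝒜` is the restriction of `O(n)`** -/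
theorem main (hgen : (HomogeneousIdeal.irrelevant 𝒜).toIdeal = Ideal.span (𝒜 1 : Set A)) :
    Nonempty ((Scheme.Modules.pullback p).obj (Twist.twist 𝒜 n) ≅
      (Twist.twist ℬ n).restrict (PCone.dom φ).ι) := by
  let F : GenFam (MA φ p n) (MB φ n) :=
    { ι := {f : A // f ∈ 𝒜 1}
      W := fun i => W φ i.1
      a := fun i => ga φ p hp n i
      b := fun i => gb φ n i
      ha := fun i => isGen_ga φ p hp n i
      hb := fun i => isGen_gb φ n i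
      cov := cov 𝒜 ℬ φ hgen
      compat := fun i j v hv => compat φ p hp n i j v hv }
  exact ⟨F.iso⟩

end Groth.Agent.Lead.PConeMain
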