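import Mathlib
import Groth.Prelude.Def_OmegaPn
import Groth.Prelude.Def_Coh
import Groth.Agent.Lib.Lead.PP2

set_option autoImplicit false
universe u
open CategoryTheory CategoryTheory.Limits AlgebraicGeometry TopologicalSpace Opposite

set_option backward.isDefEq.respectTransparency.types false

namespace Groth.Agent.Lead.PP

open PrinPart OmegaSh

section IsoPull

variable {X Y : Scheme.{u}} (p : X ⟶ Y) [IsIso p]

instance essSurj_pushforward : (Scheme.Modules.pushforward p).EssSurj where
  mem_essImage M := ⟨(Scheme.Modules.pushforward (inv p)).obj M,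
    ⟨(Scheme.Modules.pushforwardComp (inv p) p).app M ≪≫
      (Scheme.Modules.pushforwardCongr (IsIso.inv_hom_id p)).app M ≪≫
      (Scheme.Modules.pushforwardId Y).app M⟩⟩

instance isEquivalence_pushforward : (Scheme.Modules.pushforward p).IsEquivalence where

instance isEquivalence_pullback : (Scheme.Modules.pullback p).IsEquivalence :=
  (Scheme.Modules.pullbackPushforwardAdjunction p).isEquivalence_left_of_isEquivalence_right

instance isIso_unit : IsIso (Scheme.Modules.pullbackPushforwardAdjunction p).unit :=
  (Scheme.Modules.pullbackPushforwardAdjunction p).unit_isIso_of_L_fully_faithful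

theorem pullSect_bijective (M : Y.Modules) (U : Y.Opens) :
    Function.Bijective (pullSect p M U) := by
  have h : IsIso ((Scheme.Modules.pullbackPushforwardAdjunction p).unit.app M) := inferInstance
  have h2 : IsIso (((Scheme.Modules.pullbackPushforwardAdjunction p).unit.app M).app U) :=
    inferInstance
  exact (ConcreteCategory.isIso_iff_bijective _).1 h2

end IsoPull

section Zero

theorem isIso_inclusion_of_eq {Z : Scheme.{u}} {I J : Z.IdealSheafData} (h : I = J) :
    IsIso (Scheme.IdealSheafData.inclusion h.le) := by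
  subst h
  rw [Scheme.IdealSheafData.inclusion_id]
  infer_instance

theorem isIso_toInfNbhd_zero {Y Z : Scheme.{u}} (i : Y ⟶ Z) [IsClosedImmersion i] :
    IsIso (toInfNbhd i 0) := by
  have h : i.ker ^ (0 + 1) = i.ker := pow_one _
  haveI := isIso_inclusion_of_eq h
  have h2 : toInfNbhd i 0 = i.toImage ≫ Scheme.IdealSheafData.inclusion h.le := rfl
  rw [h2]
  infer_instance

variable {X S : Scheme.{u}} (f : X ⟶ S)

instance isIso_toNbhd_zero : IsIso (toNbhd f 0) := isIso_toInfNbhd_zero (diagCl f)

theorem pr1_zero_eq : pr1 f 0 = inv (toNbhd f 0) := by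
  rw [← cancel_epi (toNbhd f 0), toNbhd_pr1, IsIso.hom_inv_id]

theorem pr2_zero_eq : pr2 f 0 = inv (toNbhd f 0) := by
  rw [← cancel_epi (toNbhd f 0), toNbhd_pr2, IsIso.hom_inv_id]

instance isIso_pr1_zero : IsIso (pr1 f 0) := by rw [pr1_zero_eq]; infer_instance

instance isIso_pr2_zero : IsIso (pr2 f 0) := by rw [pr2_zero_eq]; infer_instance

theorem dP_zero_bijective (F : X.Modules) (U : X.Opens) : Function.Bijective (dP f 0 F U) := by
  have h1 := pullSect_bijective (pr2 f 0) F U
  have h2 : Function.Bijective (((Scheme.Modules.pullback (pr2 f 0)).obj F).presheaf.map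
      (homOfLE (preimage_pr1 f 0 U).le).op) := by
    have : IsIso (homOfLE (preimage_pr1 f 0 U).le) :=
      ⟨homOfLE (preimage_pr1 f 0 U).ge, rfl, rfl⟩
    exact (ConcreteCategory.isIso_iff_bijective _).1 inferInstance
  exact h2.comp h1

end Zero

end Groth.Agent.Lead.PP
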