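import Mathlib
import Groth.Prelude.Def_OmegaPn
import Groth.Prelude.Def_Coh
import Groth.Agent.Lib.Lead.PP3

set_option autoImplicit false
universe u
open CategoryTheory CategoryTheory.Limits AlgebraicGeometry TopologicalSpace Opposite

set_option backward.isDefEq.respectTransparency.types false

namespace Groth.Agent.Lead.PP

open PrinPart OmegaSh

section Nil

variable {Y Z : Scheme.{u}} (i : Y ⟶ Z) [IsClosedImmersion i] (n : ℕ)

/-- a function on the `n`-th infinitesimal neighbourhood vanishing on `Y` has vanishing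
`(n+1)`-st power: the affine-local statement. -/
theorem pow_eq_zero_of_affine (W : Z.affineOpens) (c : Γ(Z, W.1))
    (hc : (toInfNbhd i n).app (infNbhdι i n ⁻¹ᵁ W.1) ((infNbhdι i n).app W.1 c) = 0) :
    (infNbhdι i n).app W.1 (c ^ (n + 1)) = 0 := by
  have h1 : c ∈ i.ker.ideal W := by
    rw [Scheme.Hom.ker_apply, RingHom.mem_ker]
    have hle : i ⁻¹ᵁ W.1 ≤ toInfNbhd i n ⁻¹ᵁ (infNbhdι i n ⁻¹ᵁ W.1) := by
      intro y hy
      change (toInfNbhd i n ≫ infNbhdι i n) y ∈ W.1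
      rw [toInfNbhd_ι]
      exact hy
    have e1 : i.app W.1 = (toInfNbhd i n ≫ infNbhdι i n).appLE W.1 (i ⁻¹ᵁ W.1) hle := by
      rw [Scheme.Hom.app_eq_appLE]
      exact appLE_congr_hom (toInfNbhd_ι i n).symm _ _
    have e2 : (toInfNbhd i n ≫ infNbhdι i n).appLE W.1 (i ⁻¹ᵁ W.1) hle =
        (infNbhdι i n).appLE W.1 (infNbhdι i n ⁻¹ᵁ W.1) le_rfl ≫
          (toInfNbhd i n).appLE (infNbhdι i n ⁻¹ᵁ W.1) (i ⁻¹ᵁ W.1) hle :=
      (Scheme.Hom.appLE_comp_appLE _ _ _ _ _ _ _).symm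
    rw [e1, e2, Scheme.Hom.appLE_eq_app, ConcreteCategory.comp_apply, Scheme.Hom.appLE,
      ConcreteCategory.comp_apply, hc, map_zero]
  have h2 : c ^ (n + 1) ∈ (i.ker ^ (n + 1)).ideal W := Ideal.pow_mem_pow h1 (n + 1)
  rw [← Scheme.IdealSheafData.ker_subschemeι_app, RingHom.mem_ker] at h2
  exact h2

instance isClosedImmersion_infNbhdι : IsClosedImmersion (infNbhdι i n) :=
  inferInstanceAs (IsClosedImmersion (i.ker ^ (n + 1)).subschemeι)

/-- a function on the `n`-th infinitesimal neighbourhood vanishing on `Y` has vanishing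
`(n+1)`-st power. -/
theorem pow_eq_zero_of_toInfNbhd (O : (infNbhd i n).Opens) (k : Γ(infNbhd i n, O))
    (hk : (toInfNbhd i n).app O k = 0) : k ^ (n + 1) = 0 := by
  let ι := infNbhdι i n
  refine (infNbhd i n).sheaf.eq_of_locally_eq'
    (fun W : {W : Z.affineOpens // ι ⁻¹ᵁ (W : Z.Opens) ≤ O} => ι ⁻¹ᵁ (W.1 : Z.Opens))
    O (fun W => homOfLE W.2) ?_ _ _ ?_
  · intro x hx
    obtain ⟨O'', hO'', hO''eq⟩ := (infNbhdι i n).isClosedEmbedding.isInducing.isOpen_iff.mp O.2
    have hx'' : ι x ∈ O'' := by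
      have : x ∈ ι ⁻¹' O'' := by rw [hO''eq]; exact hx
      exact this
    obtain ⟨_, ⟨W, hW, rfl⟩, hxW, hWO⟩ :=
      Z.isBasis_affineOpens.exists_subset_of_mem_open hx'' hO''
    refine Opens.mem_iSup.mpr ⟨⟨⟨W, hW⟩, ?_⟩, hxW⟩
    intro y hy
    have : y ∈ ι ⁻¹' O'' := hWO hy
    rw [hO''eq] at this
    exact this
  · intro W
    change (infNbhd i n).presheaf.map (homOfLE W.2).op (k ^ (n + 1)) =
      (infNbhd i n).presheaf.map (homOfLE W.2).op 0
    rw [map_zero, map_pow]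
    obtain ⟨c, hc⟩ := Scheme.Hom.app_surjective ι (W.1 : Z.Opens) W.1.2
      ((infNbhd i n).presheaf.map (homOfLE W.2).op k)
    rw [← hc, ← map_pow]
    apply pow_eq_zero_of_affine i n W.1 c
    have hc' : (infNbhdι i n).app (W.1 : Z.Opens) c =
      (infNbhd i n).presheaf.map (homOfLE W.2).op k := hc
    rw [hc', ← ConcreteCategory.comp_apply, Scheme.Hom.naturality, ConcreteCategory.comp_apply,
      hk, map_zero]

end Nil

section Gen

variable {A X : Scheme.{u}} (s : X ⟶ A) (p : A ⟶ X) (h : s ≫ p = 𝟙 X)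

include h in
theorem le_sec (U : X.Opens) : U ≤ s ⁻¹ᵁ (p ⁻¹ᵁ U) := by
  intro x hx
  change (s ≫ p) x ∈ U
  rw [h]
  exact hx

include h in
theorem sec_le (U : X.Opens) : s ⁻¹ᵁ (p ⁻¹ᵁ U) ≤ U := by
  intro x hx
  have : (s ≫ p) x ∈ U := hx
  rw [h] at this
  exact this

theorem app_comp_sec (U : X.Opens) :
    p.app U ≫ s.appLE (p ⁻¹ᵁ U) U (le_sec s p h U) = 𝟙 _ := by
  rw [Scheme.Hom.app_eq_appLE, Scheme.Hom.appLE_comp_appLE]
  exact id_appLE_eq_id h _

include h in
theorem isIntegralHom_of_section [IsAffineHom p] (N : ℕ)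
    (hnil : ∀ (O : A.Opens) (k : Γ(A, O)), s.app O k = 0 → k ^ N = 0) : IsIntegralHom p where
  isIntegral_app U hU := by
    intro x
    let φ := (p.app U).hom
    let π := (s.appLE (p ⁻¹ᵁ U) U (le_sec s p h U)).hom
    have hπφ : ∀ b, π (φ b) = b := fun b =>
      congrArg (fun ψ => ψ.hom b) (app_comp_sec s p h U)
    have hk : (x - φ (π x)) ^ N = 0 := by
      apply hnil
      have hinj : Function.Injective (X.presheaf.map (homOfLE (le_sec s p h U)).op) := by
        have : IsIso (homOfLE (le_sec s p h U)) := ⟨homOfLE (sec_le s p h U), rfl, rfl⟩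
        exact ((ConcreteCategory.isIso_iff_bijective _).1 inferInstance).1
      apply hinj
      rw [map_zero]
      change π (x - φ (π x)) = 0
      rw [map_sub, hπφ, sub_self]
    have h1 : φ.IsIntegralElem (φ (π x)) := φ.isIntegralElem_map
    have h2 : φ.IsIntegralElem (x - φ (π x)) := by
      refine ⟨Polynomial.X ^ N, Polynomial.monic_X_pow _, ?_⟩
      simp [hk]
    have h3 := RingHom.IsIntegralElem.add φ h1 h2
    have e : φ (π x) + (x - φ (π x)) = x := by ring
    rw [e] at h3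
    exact h3

end Gen

section Int

variable {X S : Scheme.{u}} (f : X ⟶ S) (n : ℕ)

instance isIntegralHom_pr1 : IsIntegralHom (pr1 f n) :=
  isIntegralHom_of_section (toNbhd f n) (pr1 f n) (toNbhd_pr1 f n) (n + 1)
    (fun O k hk => pow_eq_zero_of_toInfNbhd (diagCl f) n O k hk)

instance isFinite_pr1 [LocallyOfFiniteType f] : IsFinite (pr1 f n) := by
  rw [IsFinite.iff_isIntegralHom_and_locallyOfFiniteType]
  refine ⟨inferInstance, ?_⟩
  unfold pr1 nbhdι
  infer_instance

end Int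

end Groth.Agent.Lead.PP
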