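import Mathlib
import Groth.Prelude.Def_OmegaPn
import Groth.Prelude.Def_Coh
import Groth.Agent.Lib.Lead.PP4

set_option autoImplicit false
universe u
open CategoryTheory CategoryTheory.Limits AlgebraicGeometry TopologicalSpace Opposite

set_option backward.isDefEq.respectTransparency.types false

namespace Groth.Agent.Lead.PP

open PrinPart OmegaSh

section Cancel

theorem fp_stableSource :
    RingHom.StableUnderCompositionWithLocalizationAwaySource @RingHom.FinitePresentation :=
  (RingHom.StableUnderComposition.stableUnderCompositionWithLocalizationAway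
    RingHom.finitePresentation_stableUnderComposition
    RingHom.finitePresentation_holdsForLocalizationAway).1

/-- cancellation: if `f ≫ g` is locally of finite presentation and `g` locally of finite type then
`f` is locally of finite presentation. -/
theorem lofp_of_comp {X Y Z : Scheme.{u}} (f : X ⟶ Y) (g : Y ⟶ Z)
    [hfg : LocallyOfFinitePresentation (f ≫ g)] [hg : LocallyOfFiniteType g] :
    LocallyOfFinitePresentation f := by
  rw [HasRingHomProperty.iff_exists_appLE (P := @LocallyOfFinitePresentation) fp_stableSource]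
  intro x
  obtain ⟨_, ⟨W, hW, rfl⟩, hxW, -⟩ := Z.isBasis_affineOpens.exists_subset_of_mem_open
    (Set.mem_univ (g (f x))) isOpen_univ
  obtain ⟨_, ⟨V, hV, rfl⟩, hxV, hVW⟩ := Y.isBasis_affineOpens.exists_subset_of_mem_open
    (show f x ∈ g ⁻¹ᵁ W from hxW) (g ⁻¹ᵁ W).isOpen
  obtain ⟨_, ⟨U, hU, rfl⟩, hxU, hUV⟩ := X.isBasis_affineOpens.exists_subset_of_mem_open
    (show x ∈ f ⁻¹ᵁ V from hxV) (f ⁻¹ᵁ V).isOpen
  refine ⟨⟨V, hV⟩, ⟨U, hU⟩, hxU, hUV, ?_⟩
  have h1 : ((f ≫ g).appLE W U
      (hUV.trans ((Opens.map f.base).map (homOfLE hVW)).le)).hom.FinitePresentation :=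
    HasRingHomProperty.appLE (P := @LocallyOfFinitePresentation) (f ≫ g) hfg ⟨W, hW⟩ ⟨U, hU⟩ _
  have h2 : (g.appLE W V hVW).hom.FiniteType :=
    HasRingHomProperty.appLE (P := @LocallyOfFiniteType) g hg ⟨W, hW⟩ ⟨V, hV⟩ _
  rw [← Scheme.Hom.appLE_comp_appLE _ _ _ _ _ hVW hUV] at h1
  exact RingHom.FinitePresentation.of_comp_finiteType _ h1 h2

end Cancel

section Fp

variable {Y Z : Scheme.{u}} (i : Y ⟶ Z) [IsClosedImmersion i]

theorem ker_ideal_fg [LocallyOfFinitePresentation i] (W : Z.Opens) (hW : IsAffineOpen W) :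
    (i.ker.ideal ⟨W, hW⟩).FG := by
  rw [Scheme.Hom.ker_apply]
  have hV : IsAffineOpen (i ⁻¹ᵁ W) := hW.preimage i
  have hs : Function.Surjective (i.app W).hom := i.app_surjective W hW
  letI := (i.app W).hom.toAlgebra
  have hfp : Algebra.FinitePresentation Γ(Z, W) Γ(Y, i ⁻¹ᵁ W) := by
    have := HasRingHomProperty.appLE (P := @LocallyOfFinitePresentation) i inferInstance
      ⟨W, hW⟩ ⟨i ⁻¹ᵁ W, hV⟩ le_rfl
    rw [Scheme.Hom.appLE_eq_app] at this
    exact this
  exact Algebra.FinitePresentation.ker_fG_of_surjective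
    (Algebra.ofId Γ(Z, W) Γ(Y, i ⁻¹ᵁ W)) hs

/-- the closed subscheme of a locally finitely generated ideal sheaf is locally of finite
presentation over the ambient scheme. -/
theorem lofp_subschemeι (J : Z.IdealSheafData)
    (hJ : ∀ (W : Z.Opens) (hW : IsAffineOpen W), (J.ideal ⟨W, hW⟩).FG) :
    LocallyOfFinitePresentation J.subschemeι := by
  rw [HasRingHomProperty.iff_exists_appLE (P := @LocallyOfFinitePresentation) fp_stableSource]
  intro x
  obtain ⟨_, ⟨W, hW, rfl⟩, hxW, -⟩ := Z.isBasis_affineOpens.exists_subset_of_mem_open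
    (Set.mem_univ (J.subschemeι x)) isOpen_univ
  refine ⟨⟨W, hW⟩, ⟨J.subschemeι ⁻¹ᵁ W, hW.preimage J.subschemeι⟩, hxW, le_rfl, ?_⟩
  rw [Scheme.Hom.appLE_eq_app]
  apply RingHom.FinitePresentation.of_surjective _ (J.subschemeι_app_surjective ⟨W, hW⟩)
  rw [Scheme.IdealSheafData.ker_subschemeι_app]
  exact hJ W hW

instance lofp_infNbhdι [LocallyOfFinitePresentation i] (n : ℕ) :
    LocallyOfFinitePresentation (infNbhdι i n) := by
  apply lofp_subschemeι
  intro W hW
  have : (i.ker ^ (n + 1)).ideal ⟨W, hW⟩ = (i.ker.ideal ⟨W, hW⟩) ^ (n + 1) := rfl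
  rw [this]
  exact (ker_ideal_fg i W hW).pow

end Fp

section Diag

variable {X S : Scheme.{u}} (f : X ⟶ S)

instance lofp_diagonal [LocallyOfFiniteType f] :
    LocallyOfFinitePresentation (pullback.diagonal f) := by
  haveI : LocallyOfFinitePresentation (pullback.diagonal f ≫ pullback.fst f f) := by
    rw [pullback.diagonal_fst]; infer_instance
  exact lofp_of_comp (pullback.diagonal f) (pullback.fst f f)

instance lofp_diagCl [LocallyOfFiniteType f] : LocallyOfFinitePresentation (diagCl f) := by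
  haveI : LocallyOfFinitePresentation (diagCl f ≫ (pullback.diagonal f).coborderRange.ι) := by
    rw [Scheme.Hom.liftCoborder_ι]; infer_instance
  exact lofp_of_comp (diagCl f) (pullback.diagonal f).coborderRange.ι

instance lofp_pr1 [LocallyOfFinitePresentation f] (n : ℕ) :
    LocallyOfFinitePresentation (pr1 f n) := by
  unfold pr1 nbhdι
  infer_instance

end Diag

end Groth.Agent.Lead.PP
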