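import Mathlib
import Groth.Prelude.Def_OmegaPn
import Groth.Prelude.Def_Coh
import Groth.Agent.Lib.Lead.PP5

set_option autoImplicit false
universe u
open CategoryTheory CategoryTheory.Limits AlgebraicGeometry TopologicalSpace Opposite TensorProduct

set_option backward.isDefEq.respectTransparency.types false

namespace Groth.Agent.Lead.PPA

section Tens

variable (A B : Type u) [CommRing A] [CommRing B] [Algebra A B]

/-- the morphism `Spec B ⟶ Spec A`. -/
noncomputable abbrev fAB : Spec (CommRingCat.of B) ⟶ Spec (CommRingCat.of A) :=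
  Spec.map (CommRingCat.ofHom (algebraMap A B))

variable {A B} {ZS : Scheme.{u}} (z : ZS ⟶ pullback (fAB A B) (fAB A B))

/-- `B ⊗ B ⟶ Γ(ZS, ⊤)`. -/
noncomputable def γ : CommRingCat.of (B ⊗[A] B) ⟶ Γ(ZS, ⊤) :=
  (Scheme.ΓSpecIso (CommRingCat.of (B ⊗[A] B))).inv ≫ (pullbackSpecIso A B B).hom.appTop ≫ z.appTop

theorem γ_left (b : B) :
    (γ z).hom (b ⊗ₜ[A] 1) = (z ≫ pullback.fst _ _).appTop
      ((Scheme.ΓSpecIso (CommRingCat.of B)).inv b) := by
  have h1 := Scheme.ΓSpecIso_inv_naturality
    (CommRingCat.ofHom (Algebra.TensorProduct.includeLeftRingHom (R := A) (A := B) (B := B)))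
  have h2 : (z ≫ pullback.fst (fAB A B) (fAB A B)).appTop =
      (Spec.map (CommRingCat.ofHom
        (Algebra.TensorProduct.includeLeftRingHom (R := A) (A := B) (B := B)))).appTop ≫
      (pullbackSpecIso A B B).hom.appTop ≫ z.appTop := by
    rw [← Scheme.Hom.comp_appTop, ← Scheme.Hom.comp_appTop, Category.assoc, pullbackSpecIso_hom_fst]
  rw [h2]
  have h3 := congrArg (fun φ => φ.hom b) h1
  simp only [CommRingCat.hom_comp, RingHom.coe_comp, Function.comp_apply] at h3 ⊢
  rw [← h3]
  rfl

theorem γ_right (b : B) :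
    (γ z).hom (1 ⊗ₜ[A] b) = (z ≫ pullback.snd _ _).appTop
      ((Scheme.ΓSpecIso (CommRingCat.of B)).inv b) := by
  have h1 := Scheme.ΓSpecIso_inv_naturality
    (CommRingCat.ofHom (RingHomClass.toRingHom
      (Algebra.TensorProduct.includeRight (R := A) (A := B) (B := B))))
  have h2 : (z ≫ pullback.snd (fAB A B) (fAB A B)).appTop =
      (Spec.map (CommRingCat.ofHom (RingHomClass.toRingHom
        (Algebra.TensorProduct.includeRight (R := A) (A := B) (B := B))))).appTop ≫
      (pullbackSpecIso A B B).hom.appTop ≫ z.appTop := by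
    rw [← Scheme.Hom.comp_appTop, ← Scheme.Hom.comp_appTop, Category.assoc, pullbackSpecIso_hom_snd]
  rw [h2]
  have h3 := congrArg (fun φ => φ.hom b) h1
  simp only [CommRingCat.hom_comp, RingHom.coe_comp, Function.comp_apply] at h3 ⊢
  rw [← h3]
  rfl

theorem γ_tmul (b b' : B) :
    (γ z).hom (b ⊗ₜ[A] b') =
      (z ≫ pullback.fst _ _).appTop ((Scheme.ΓSpecIso (CommRingCat.of B)).inv b) *
      (z ≫ pullback.snd _ _).appTop ((Scheme.ΓSpecIso (CommRingCat.of B)).inv b') := by
  rw [← γ_left, ← γ_right, ← map_mul, Algebra.TensorProduct.tmul_mul_tmul, mul_one, one_mul]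

set_option backward.isDefEq.respectTransparency false in
theorem γ_bijective [IsIso z] : Function.Bijective (γ z).hom := by
  have h1 : IsIso z.appTop := by
    rw [Scheme.Hom.appTop]; infer_instance
  have h2 : IsIso (pullbackSpecIso A B B).hom.appTop := by
    rw [Scheme.Hom.appTop]; infer_instance
  have : IsIso (γ z) := by unfold γ; infer_instance
  exact (ConcreteCategory.isIso_iff_bijective (γ z)).1 this

variable (s : Spec (CommRingCat.of B) ⟶ ZS) (hs : s ≫ z = pullback.diagonal (fAB A B))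

include hs in
theorem sec_appTop_fst (y : Γ(Spec (CommRingCat.of B), ⊤)) :
    s.appTop ((z ≫ pullback.fst (fAB A B) (fAB A B)).appTop y) = y := by
  rw [← ConcreteCategory.comp_apply, ← Scheme.Hom.comp_appTop, ← Category.assoc, hs,
    pullback.diagonal_fst]
  rfl

include hs in
theorem sec_appTop_snd (y : Γ(Spec (CommRingCat.of B), ⊤)) :
    s.appTop ((z ≫ pullback.snd (fAB A B) (fAB A B)).appTop y) = y := by
  rw [← ConcreteCategory.comp_apply, ← Scheme.Hom.comp_appTop, ← Category.assoc, hs,
    pullback.diagonal_snd]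
  rfl

include hs in
theorem sec_γ (x : B ⊗[A] B) :
    s.appTop ((γ z).hom x) =
      (Scheme.ΓSpecIso (CommRingCat.of B)).inv (Algebra.TensorProduct.lmul' A x) := by
  induction x using TensorProduct.induction_on with
  | zero => simp
  | tmul b b' =>
    rw [γ_tmul, map_mul, sec_appTop_fst z s hs, sec_appTop_snd z s hs,
      Algebra.TensorProduct.lmul'_apply_tmul, map_mul]
  | add x y hx hy => rw [map_add, map_add, hx, hy, map_add, map_add]

include hs in
theorem ker_sec_appTop [IsIso z] :
    RingHom.ker s.appTop.hom = (KaehlerDifferential.ideal A B).map (γ z).hom := by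
  have hb := γ_bijective z
  have hinj : Function.Injective (Scheme.ΓSpecIso (CommRingCat.of B)).inv.hom :=
    ((ConcreteCategory.isIso_iff_bijective (Scheme.ΓSpecIso (CommRingCat.of B)).inv).1
      inferInstance).1
  ext y
  obtain ⟨x, rfl⟩ := hb.2 y
  rw [RingHom.mem_ker, Ideal.mem_map_iff_of_surjective _ hb.2]
  constructor
  · intro h
    refine ⟨x, ?_, rfl⟩
    rw [RingHom.mem_ker]
    apply hinj
    rw [map_zero]
    exact (sec_γ z s hs x).symm.trans h
  · rintro ⟨x', hx', hxx'⟩
    have : x' = x := hb.1 hxx'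
    subst this
    rw [RingHom.mem_ker] at hx'
    have := sec_γ z s hs x'
    rw [hx', map_zero] at this
    exact this

end Tens

section Cob

theorem coborderRange_eq_top {Y Z : Scheme.{u}} (j : Y ⟶ Z) [IsClosedImmersion j] :
    j.coborderRange = ⊤ := by
  ext1
  exact j.isClosedEmbedding.isClosed_range.coborder_eq

instance isIso_coborderRange_ι {Y Z : Scheme.{u}} (j : Y ⟶ Z) [IsClosedImmersion j] :
    IsIso j.coborderRange.ι := by
  haveI : Epi j.coborderRange.ι.base := by
    rw [TopCat.epi_iff_surjective]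
    intro x
    have hx : x ∈ j.coborderRange := by rw [coborderRange_eq_top]; trivial
    exact ⟨⟨x, hx⟩, rfl⟩
  exact IsOpenImmersion.isIso _

end Cob

section Nb

variable {Y ZS : Scheme.{u}} [IsAffine ZS] (s : Y ⟶ ZS) [IsClosedImmersion s] (n : ℕ)

open PrinPart

theorem infNbhdι_appTop_surjective : Function.Surjective (infNbhdι s n).appTop.hom :=
  (s.ker ^ (n + 1)).subschemeι_app_surjective ⟨⊤, isAffineOpen_top ZS⟩

theorem ker_infNbhdι_appTop :
    RingHom.ker (infNbhdι s n).appTop.hom = (RingHom.ker s.appTop.hom) ^ (n + 1) := by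
  have h1 : RingHom.ker (infNbhdι s n).appTop.hom =
      (s.ker ^ (n + 1)).ideal ⟨⊤, isAffineOpen_top ZS⟩ :=
    (s.ker ^ (n + 1)).ker_subschemeι_app ⟨⊤, isAffineOpen_top ZS⟩
  have h2 : (s.ker ^ (n + 1)).ideal ⟨⊤, isAffineOpen_top ZS⟩ =
      (s.ker.ideal ⟨⊤, isAffineOpen_top ZS⟩) ^ (n + 1) := rfl
  rw [h1, h2, Scheme.Hom.ker_apply]
  rfl

end Nb

section Assemble

open PrinPart

variable (A B : Type u) [CommRing A] [CommRing B] [Algebra A B] (n : ℕ)

instance : IsClosedImmersion (pullback.diagonal (fAB A B)) := inferInstance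

instance isAffine_coborder :
    IsAffine ((pullback.diagonal (fAB A B)).coborderRange : Scheme.{u}) :=
  IsAffine.of_isIso (pullback.diagonal (fAB A B)).coborderRange.ι

/-- the ring homomorphism `B ⊗ B ⟶ Γ(nbhd, ⊤)`. -/
noncomputable def θ : CommRingCat.of (B ⊗[A] B) ⟶ Γ(nbhd (fAB A B) n, ⊤) :=
  γ (pullback.diagonal (fAB A B)).coborderRange.ι ≫ (infNbhdι (diagCl (fAB A B)) n).appTop

theorem θ_surjective : Function.Surjective (θ A B n).hom := by
  have h1 := (γ_bijective (pullback.diagonal (fAB A B)).coborderRange.ι).2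
  have h2 := infNbhdι_appTop_surjective (diagCl (fAB A B)) n
  exact h2.comp h1

theorem ker_θ : RingHom.ker (θ A B n).hom = KaehlerDifferential.ideal A B ^ (n + 1) := by
  have hb := γ_bijective (pullback.diagonal (fAB A B)).coborderRange.ι
  have h1 := ker_infNbhdι_appTop (diagCl (fAB A B)) n
  have h2 := ker_sec_appTop (pullback.diagonal (fAB A B)).coborderRange.ι (diagCl (fAB A B))
    (Scheme.Hom.liftCoborder_ι _)
  have h3 : RingHom.ker (θ A B n).hom =
      (RingHom.ker (infNbhdι (diagCl (fAB A B)) n).appTop.hom).comap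
        (γ (pullback.diagonal (fAB A B)).coborderRange.ι).hom := rfl
  rw [h3, h1, h2, ← Ideal.map_pow]
  exact Ideal.comap_map_of_bijective _ hb

theorem θ_tmul (b b' : B) :
    (θ A B n).hom (b ⊗ₜ[A] b') =
      (pr1 (fAB A B) n).appTop ((Scheme.ΓSpecIso (CommRingCat.of B)).inv b) *
      (pr2 (fAB A B) n).appTop ((Scheme.ΓSpecIso (CommRingCat.of B)).inv b') := by
  have h := γ_tmul (pullback.diagonal (fAB A B)).coborderRange.ι b b'
  have e : (θ A B n).hom (b ⊗ₜ[A] b') = (infNbhdι (diagCl (fAB A B)) n).appTop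
      ((γ (pullback.diagonal (fAB A B)).coborderRange.ι).hom (b ⊗ₜ[A] b')) := rfl
  have e1 : ∀ y, (infNbhdι (diagCl (fAB A B)) n).appTop
      (((pullback.diagonal (fAB A B)).coborderRange.ι ≫
        pullback.fst (fAB A B) (fAB A B)).appTop y) = (pr1 (fAB A B) n).appTop y := fun y => by
    rw [← ConcreteCategory.comp_apply, ← Scheme.Hom.comp_appTop]
    rfl
  have e2 : ∀ y, (infNbhdι (diagCl (fAB A B)) n).appTop
      (((pullback.diagonal (fAB A B)).coborderRange.ι ≫
        pullback.snd (fAB A B) (fAB A B)).appTop y) = (pr2 (fAB A B) n).appTop y := fun y => by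
    rw [← ConcreteCategory.comp_apply, ← Scheme.Hom.comp_appTop]
    rfl
  rw [e, h, map_mul, e1, e2]

end Assemble

end Groth.Agent.Lead.PPA
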