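import Mathlib
import Groth.Prelude.Def_OmegaPn
import Groth.Agent.Lib.Lead.PP1
import Groth.Agent.Lib.Helper5.Misc.ClosedPushMod

set_option autoImplicit false
universe u
open CategoryTheory CategoryTheory.Limits AlgebraicGeometry TopologicalSpace Opposite

namespace Groth.Agent.Lead.PPCol

open PrinPart Groth.Agent.Lead.PP Groth.Agent.Lib.Helper5

/-- pushforward of modules along a morphism which is a closed embedding on points preserves
colimits -/
theorem preservesColimits_pushforward_of_isClosedEmbedding {Z X : Scheme.{u}} (i : Z ⟶ X)
    (hi : Topology.IsClosedEmbedding i) :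
    PreservesColimitsOfSize.{u, u} (Scheme.Modules.pushforward i) := by
  change PreservesColimitsOfSize.{u, u} (ClosedPushMod.push' i)
  constructor
  intro K _
  have h0 := ClosedPush.preservesColimits_pushforward i.base hi
  haveI := SheafModGen.toSheaf_preservesColimits Z.ringCatSheaf
  haveI := SheafModGen.toSheaf_reflectsColimits X.ringCatSheaf
  haveI : PreservesColimitsOfShape K
      (ClosedPushMod.push' i ⋙ SheafOfModules.toSheaf X.ringCatSheaf) := by
    rw [ClosedPushMod.push'_toSheaf]
    have h1 : PreservesColimitsOfShape K (SheafOfModules.toSheaf Z.ringCatSheaf) := inferInstance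
    have h2 : PreservesColimitsOfShape K (TopCat.Sheaf.pushforward AddCommGrpCat.{u} i.base) :=
      h0.preservesColimitsOfShape
    exact @comp_preservesColimitsOfShape _ _ _ _ _ _ _ _ (SheafOfModules.toSheaf Z.ringCatSheaf)
      (TopCat.Sheaf.pushforward AddCommGrpCat.{u} i.base) h1 h2
  exact preservesColimitsOfShape_of_reflects_of_preserves (ClosedPushMod.push' i)
    (SheafOfModules.toSheaf X.ringCatSheaf)

variable {X S : Scheme.{u}} (f : X ⟶ S) (n : ℕ)

theorem preservesColimits_pushforward_pr1 :
    PreservesColimitsOfSize.{u, u} (Scheme.Modules.pushforward (pr1 f n)) :=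
  preservesColimits_pushforward_of_isClosedEmbedding _ (pr1Homeo f n).isClosedEmbedding

theorem preservesColimits_principalParts :
    PreservesColimitsOfSize.{u, u}
      ((Scheme.Modules.pullback (PrinPart.pr2 f n)) ⋙
        (Scheme.Modules.pushforward (PrinPart.pr1 f n))) := by
  haveI := preservesColimits_pushforward_pr1 f n
  haveI : PreservesColimitsOfSize.{u, u} (Scheme.Modules.pullback (PrinPart.pr2 f n)) :=
    (Scheme.Modules.pullbackPushforwardAdjunction (PrinPart.pr2 f n)).leftAdjoint_preservesColimits
  infer_instance

end Groth.Agent.Lead.PPCol
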