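import Mathlib
import Groth.Prelude.Def_OmegaPn
import Groth.Agent.Lib.Lead.PP4

set_option autoImplicit false
universe u
open CategoryTheory CategoryTheory.Limits AlgebraicGeometry TopologicalSpace Opposite

set_option backward.isDefEq.respectTransparency.types false

namespace Groth.Agent.Lead.Sym1

open PrinPart Groth.Agent.Lead.PP

section General

variable {Y Z : Scheme.{u}} (i : Y ⟶ Z) (θ : Z ⟶ Z)

/-- an endomorphism of the ambient scheme fixing the subscheme maps the kernel into the kernel. -/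
theorem app_eq_zero (h : i ≫ θ = i) (U : Z.Opens) (b : Γ(Z, U))
    (hb : i.app U b = 0) : i.app (θ ⁻¹ᵁ U) (θ.app U b) = 0 := by
  have key : (i ≫ θ).appLE U (i ⁻¹ᵁ θ ⁻¹ᵁ U) le_rfl b = 0 := by
    have h1 : ∀ (j : Y ⟶ Z) (hj : j = i) (e : i ⁻¹ᵁ θ ⁻¹ᵁ U ≤ j ⁻¹ᵁ U),
        j.appLE U (i ⁻¹ᵁ θ ⁻¹ᵁ U) e b = 0 := by
      intro j hj e
      subst hj
      rw [Scheme.Hom.appLE, CommRingCat.comp_apply, hb, map_zero]
    exact h1 _ h _
  rw [Scheme.Hom.comp_appLE, CommRingCat.comp_apply, ← Scheme.Hom.app_eq_appLE] at key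
  exact key

variable [IsClosedImmersion i] [IsIso θ]

theorem pow_ker_le (h : i ≫ θ = i) (n : ℕ) :
    i.ker ^ (n + 1) ≤ (infNbhdι i n ≫ θ).ker := by
  refine Scheme.IdealSheafData.le_ofIdeals_iff.mpr ?_
  intro U a ha
  rw [Scheme.IdealSheafData.ideal_pow] at ha
  change a ∈ (i.ker.ideal U) ^ (n + 1) at ha
  rw [RingHom.mem_ker]
  change ((infNbhdι i n).app (θ ⁻¹ᵁ U.1)).hom ((θ.app U.1).hom a) = 0
  let V : Z.affineOpens := ⟨θ ⁻¹ᵁ U.1, U.2.preimage_of_isIso θ⟩
  have h1 : Ideal.map (θ.app U.1).hom (i.ker.ideal U) ≤ i.ker.ideal V := by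
    rw [Ideal.map_le_iff_le_comap]
    intro b hb
    rw [Scheme.Hom.ker_apply, RingHom.mem_ker] at hb
    rw [Ideal.mem_comap, Scheme.Hom.ker_apply, RingHom.mem_ker]
    exact app_eq_zero i θ h U.1 b hb
  have h2 : (θ.app U.1).hom a ∈ (i.ker.ideal V) ^ (n + 1) := by
    have := Ideal.mem_map_of_mem (θ.app U.1).hom ha
    rw [Ideal.map_pow] at this
    exact Ideal.pow_right_mono h1 _ this
  have h3 : RingHom.ker ((infNbhdι i n).app V.1).hom = (i.ker ^ (n + 1)).ideal V :=
    Scheme.IdealSheafData.ker_subschemeι_app _ V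
  have h4 : (θ.app U.1).hom a ∈ RingHom.ker ((infNbhdι i n).app V.1).hom := by
    rw [h3, Scheme.IdealSheafData.ideal_pow]
    exact h2
  exact h4

/-- the induced endomorphism of the infinitesimal neighbourhood -/
noncomputable def sig (h : i ≫ θ = i) (n : ℕ) : infNbhd i n ⟶ infNbhd i n :=
  IsClosedImmersion.lift (infNbhdι i n) (infNbhdι i n ≫ θ) (by
    have : (infNbhdι i n).ker = i.ker ^ (n + 1) := Scheme.IdealSheafData.ker_subschemeι _
    rw [this]
    exact pow_ker_le i θ h n)

theorem sig_ι (h : i ≫ θ = i) (n : ℕ) : sig i θ h n ≫ infNbhdι i n = infNbhdι i n ≫ θ :=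
  IsClosedImmersion.lift_fac _ _ _

end General

section Diag

variable {X S : Scheme.{u}} (f : X ⟶ S) (n : ℕ)

theorem diag_symm : pullback.diagonal f ≫ (pullbackSymmetry f f).hom = pullback.diagonal f := by
  apply pullback.hom_ext <;> simp

theorem symm_symm : (pullbackSymmetry f f).hom ≫ (pullbackSymmetry f f).hom = 𝟙 _ := by
  apply pullback.hom_ext <;> simp

theorem symm_apply_apply (x : ↥(pullback f f)) :
    (pullbackSymmetry f f).hom ((pullbackSymmetry f f).hom x) = x := by
  rw [← Scheme.Hom.comp_apply, symm_symm]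
  rfl

theorem preimage_range :
    (pullbackSymmetry f f).hom ⁻¹' Set.range (pullback.diagonal f) =
      Set.range (pullback.diagonal f) := by
  ext x
  constructor
  · rintro ⟨y, hy⟩
    refine ⟨y, ?_⟩
    rw [← symm_apply_apply f x, ← hy, ← Scheme.Hom.comp_apply, diag_symm]
  · rintro ⟨y, rfl⟩
    refine ⟨y, ?_⟩
    rw [← Scheme.Hom.comp_apply, diag_symm]

theorem le_preimage : (pullback.diagonal f).coborderRange ≤
    (pullbackSymmetry f f).hom ⁻¹ᵁ (pullback.diagonal f).coborderRange := by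
  intro x hx
  have h1 := coborder_preimage (f := (pullbackSymmetry f f).hom)
    (pullbackSymmetry f f).hom.isOpenEmbedding.isOpenMap (pullbackSymmetry f f).hom.continuous
    (Set.range (pullback.diagonal f))
  rw [preimage_range] at h1
  have hx' : x ∈ coborder (Set.range (pullback.diagonal f)) := hx
  rw [h1] at hx'
  exact hx'

/-- the symmetry restricted to the open where the diagonal is closed -/
noncomputable def τC : ((pullback.diagonal f).coborderRange : Scheme.{u}) ⟶
    ((pullback.diagonal f).coborderRange : Scheme.{u}) :=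
  (pullbackSymmetry f f).hom.resLE _ _ (le_preimage f)

theorem τC_ι : τC f ≫ (pullback.diagonal f).coborderRange.ι =
    (pullback.diagonal f).coborderRange.ι ≫ (pullbackSymmetry f f).hom :=
  Scheme.Hom.resLE_comp_ι _ _

theorem τC_τC : τC f ≫ τC f = 𝟙 _ := by
  rw [← cancel_mono (pullback.diagonal f).coborderRange.ι, Category.assoc, τC_ι, ← Category.assoc,
    τC_ι, Category.assoc, symm_symm, Category.comp_id, Category.id_comp]

instance : IsIso (τC f) := ⟨τC f, τC_τC f, τC_τC f⟩

theorem diagCl_τC : diagCl f ≫ τC f = diagCl f := by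
  rw [← cancel_mono (pullback.diagonal f).coborderRange.ι, Category.assoc, τC_ι, ← Category.assoc]
  rw [show diagCl f ≫ (pullback.diagonal f).coborderRange.ι = pullback.diagonal f from
    (pullback.diagonal f).liftCoborder_ι]
  exact diag_symm f

/-- the symmetry of the infinitesimal neighbourhood of the diagonal -/
noncomputable def σ : nbhd f n ⟶ nbhd f n := sig (diagCl f) (τC f) (diagCl_τC f) n

theorem σ_ι : σ f n ≫ nbhdι f n = nbhdι f n ≫ (pullbackSymmetry f f).hom := by
  unfold nbhdι σ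
  rw [← Category.assoc, sig_ι, Category.assoc, τC_ι, Category.assoc]

instance : Mono (nbhdι f n) := by
  unfold nbhdι
  infer_instance

theorem exists_symmetry :
    ∃ σ : PrinPart.nbhd f n ⟶ PrinPart.nbhd f n,
      σ ≫ PrinPart.nbhdι f n = PrinPart.nbhdι f n ≫ (pullbackSymmetry f f).hom ∧
      σ ≫ σ = 𝟙 (PrinPart.nbhd f n) ∧
      σ ≫ PrinPart.pr1 f n = PrinPart.pr2 f n ∧ σ ≫ PrinPart.pr2 f n = PrinPart.pr1 f n ∧
      PrinPart.toNbhd f n ≫ σ = PrinPart.toNbhd f n := by
  refine ⟨σ f n, σ_ι f n, ?_, ?_, ?_, ?_⟩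
  · rw [← cancel_mono (nbhdι f n), Category.assoc, σ_ι, ← Category.assoc, σ_ι, Category.assoc,
      symm_symm, Category.comp_id, Category.id_comp]
  · unfold pr1 pr2
    rw [← Category.assoc, σ_ι, Category.assoc, pullbackSymmetry_hom_comp_fst]
  · unfold pr1 pr2
    rw [← Category.assoc, σ_ι, Category.assoc, pullbackSymmetry_hom_comp_snd]
  · rw [← cancel_mono (nbhdι f n), Category.assoc, σ_ι, ← Category.assoc, toNbhd_ι, diag_symm]

end Diag

end Groth.Agent.Lead.Sym1
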