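import Mathlib
import Groth.Prelude.Def_OmegaPn
import Groth.Prelude.Def_FlatMod2
import Groth.Agent.Lib.Lead.PP7b
import Groth.Agent.Lib.Lead.SD1
import Groth.Agent.Lib.Lead.Sym1
import Groth.Agent.Lib.Lead.PP1
import Groth.Agent.Lib.Helper1.IdealModL
import Groth.Agent.Lib.Helper5.Stalk.FlatPull

/-!
# Flat principal parts: if `P^n_{X/S}` is a flat `O_X`-module then both projections of the
`n`-th infinitesimal neighbourhood of the diagonal are flat, and `F ↦ P^n(F)` is exact (lead)
-/

set_option autoImplicit false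
universe u
open CategoryTheory CategoryTheory.Limits AlgebraicGeometry TopologicalSpace Opposite

set_option backward.isDefEq.respectTransparency.types false

namespace Groth.Agent.Lead.PPFlat

open PrinPart Groth.Agent.Lead.PP7 Groth.Agent.Lead.PP Groth.Agent.Helper1

variable {X S : Scheme.{u}} (f : X ⟶ S) (n : ℕ)

theorem flat_app_pr1 (hP : FlatMod.IsFlat (P f n)) (U : X.Opens) (hU : IsAffineOpen U) :
    ((pr1 f n).app U).hom.Flat := by
  have : (Coh.structureModule X).IsQuasicoherent := inferInstance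
  have : (P f n).IsQuasicoherent := isQCoh_PMod f n _ inferInstance
  have h1 : Module.Flat Γ(X, U) Γ(P f n, U) :=
    SD.flat_sections_of_flat_stalks (P f n) hU (fun z => hP z.1)
  algebraize [((pr1 f n).app U).hom]
  let e : Γ(P f n, U) ≃ₗ[Γ(X, U)] Γ(nbhd f n, pr1 f n ⁻¹ᵁ U) :=
    { AddEquiv.ofBijective (εP f n U) (εP_bijective f n U) with
      map_smul' := fun b y => by
        simp only [RingHom.id_apply, Algebra.smul_def]
        exact εP_smul f n U b y }
  exact Module.Flat.of_linearEquiv e.symm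

theorem flat_pr1 (hP : FlatMod.IsFlat (P f n)) : Flat (pr1 f n) := by
  refine ⟨fun {U} hU {V} hV e => ?_⟩
  have h1 := flat_app_pr1 f n hP U hU
  have hW : IsAffineOpen (pr1 f n ⁻¹ᵁ U) := hU.preimage (pr1 f n)
  have h2 : ((nbhd f n).presheaf.map (homOfLE e).op).hom.Flat := by
    have := Flat.flat_appLE (𝟙 (nbhd f n)) hW hV e
    have h4 : Scheme.Hom.appLE (𝟙 (nbhd f n)) (pr1 f n ⁻¹ᵁ U) V e =
        (nbhd f n).presheaf.map (homOfLE e).op := by
      simp [Scheme.Hom.appLE]
      exact Category.id_comp _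
    rwa [h4] at this
  have h3 : (pr1 f n).appLE U V e =
      (pr1 f n).app U ≫ (nbhd f n).presheaf.map (homOfLE e).op := by
    rw [← Scheme.Hom.appLE_eq_app, Scheme.Hom.appLE_map]
  rw [h3]
  exact RingHom.Flat.comp h1 h2

theorem flat_pr2 (hP : FlatMod.IsFlat (P f n)) : Flat (pr2 f n) := by
  obtain ⟨σ, -, hσσ, h12, -, -⟩ := Sym1.exists_symmetry f n
  have : IsIso σ := ⟨σ, hσσ, hσσ⟩
  have := flat_pr1 f n hP
  rw [← h12]
  infer_instance

theorem preservesFiniteLimits_principalParts_of_flat (hP : FlatMod.IsFlat (P f n)) :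
    PreservesFiniteLimits
      ((Scheme.Modules.pullback (pr2 f n)) ⋙ (Scheme.Modules.pushforward (pr1 f n))) := by
  have := flat_pr2 f n hP
  have : PreservesLimits (Scheme.Modules.pushforward (pr1 f n)) :=
    (Scheme.Modules.pullbackPushforwardAdjunction (pr1 f n)).rightAdjoint_preservesLimits
  have : PreservesFiniteLimits (Scheme.Modules.pushforward (pr1 f n)) := inferInstance
  have : PreservesFiniteLimits (Scheme.Modules.pullback (pr2 f n)) := inferInstance
  exact comp_preservesFiniteLimits _ _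

end Groth.Agent.Lead.PPFlat
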