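import Mathlib
import Groth.Prelude.Def_OmegaPn
import Groth.Agent.Lib.Lead.PP3
import Groth.Agent.Lib.Helper1.PullSec
import Groth.Agent.Lib.Helper1.PullGen

set_option autoImplicit false
universe u
open CategoryTheory CategoryTheory.Limits AlgebraicGeometry TopologicalSpace Opposite

set_option backward.isDefEq.respectTransparency.types false

namespace Groth.Agent.Lead.PPT

open Groth.Agent.Helper1.PullSec Groth.Agent.Helper1.QcCech Groth.Agent.Helper1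

variable {A B X : Scheme.{u}} (t : A ⟶ B) (p1 p2 : B ⟶ X) (q1 q2 : A ⟶ X)
  (h1 : t ≫ p1 = q1) (h2 : t ≫ p2 = q2) (F : X.Modules)

/-- `t^* p2^* F ≅ q2^* F`. -/
noncomputable def pullIso :
    (Scheme.Modules.pullback t).obj ((Scheme.Modules.pullback p2).obj F) ≅
      (Scheme.Modules.pullback q2).obj F :=
  (Scheme.Modules.pullbackComp t p2).app F ≪≫ (Scheme.Modules.pullbackCongr h2).app F

theorem pullIso_σσ (U : X.Opens) (s : Γ(F, U)) :
    (pullIso t p2 q2 h2 F).hom.app (t ⁻¹ᵁ (p2 ⁻¹ᵁ U))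
      (σ t ((Scheme.Modules.pullback p2).obj F) (p2 ⁻¹ᵁ U) (σ p2 F U s)) =
      res ((Scheme.Modules.pullback q2).obj F)
        (le_of_eq (by rw [h2]) : (t ≫ p2) ⁻¹ᵁ U ≤ q2 ⁻¹ᵁ U) (σ q2 F U s) := by
  have e0 := σ_comp t p2 F U s
  have e := σ_congr' h2 F U s
  rw [← e0, ← e]
  have e1 : (pullIso t p2 q2 h2 F).hom = (Scheme.Modules.pullbackComp t p2).hom.app F ≫
    (Scheme.Modules.pullbackCongr h2).hom.app F := rfl
  rw [e1, Scheme.Modules.Hom.comp_app, ConcreteCategory.comp_apply]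
  congr 1
  exact PullGen.iso_hom_inv_app ((Scheme.Modules.pullbackComp t p2).app F) _ _

/-- `p2^* F ⟶ t_* q2^* F`. -/
noncomputable def α : (Scheme.Modules.pullback p2).obj F ⟶
    (Scheme.Modules.pushforward t).obj ((Scheme.Modules.pullback q2).obj F) :=
  (Scheme.Modules.pullbackPushforwardAdjunction t).unit.app ((Scheme.Modules.pullback p2).obj F) ≫
    (Scheme.Modules.pushforward t).map (pullIso t p2 q2 h2 F).hom

theorem α_app (W : B.Opens) (x : Γ((Scheme.Modules.pullback p2).obj F, W)) :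
    (α t p2 q2 h2 F).app W x = (pullIso t p2 q2 h2 F).hom.app (t ⁻¹ᵁ W)
      (σ t ((Scheme.Modules.pullback p2).obj F) W x) := rfl

/-- the transition map `p1_* p2^* F ⟶ q1_* q2^* F`. -/
noncomputable def ρ : (Scheme.Modules.pushforward p1).obj ((Scheme.Modules.pullback p2).obj F) ⟶
    (Scheme.Modules.pushforward q1).obj ((Scheme.Modules.pullback q2).obj F) :=
  (Scheme.Modules.pushforward p1).map (α t p2 q2 h2 F) ≫
    (Scheme.Modules.pushforwardComp t p1).hom.app _ ≫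
    (Scheme.Modules.pushforwardCongr h1).hom.app _

include h1 in
theorem le1 (U : X.Opens) : q1 ⁻¹ᵁ U ≤ t ⁻¹ᵁ (p1 ⁻¹ᵁ U) := by
  subst h1; exact le_rfl

include h2 in
theorem le2 (U : X.Opens) : t ⁻¹ᵁ (p2 ⁻¹ᵁ U) ≤ q2 ⁻¹ᵁ U := by
  subst h2; exact le_rfl

theorem ρ_app (U : X.Opens) (x : Γ((Scheme.Modules.pullback p2).obj F, p1 ⁻¹ᵁ U)) :
    (ρ t p1 p2 q1 q2 h1 h2 F).app U x =
      res ((Scheme.Modules.pullback q2).obj F) (le1 t p1 q1 h1 U)
        ((α t p2 q2 h2 F).app (p1 ⁻¹ᵁ U) x) := by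
  unfold ρ
  rw [Scheme.Modules.Hom.comp_app, Scheme.Modules.Hom.comp_app, ConcreteCategory.comp_apply,
    ConcreteCategory.comp_apply, Scheme.Modules.pushforwardComp_hom_app_app,
    Scheme.Modules.pushforwardCongr_hom_app_app]
  rfl

theorem ρ_res_σ (U : X.Opens) (hp : p1 ⁻¹ᵁ U ≤ p2 ⁻¹ᵁ U) (hq : q1 ⁻¹ᵁ U ≤ q2 ⁻¹ᵁ U) (s : Γ(F, U)) :
    (ρ t p1 p2 q1 q2 h1 h2 F).app U
      (res ((Scheme.Modules.pullback p2).obj F) hp (σ p2 F U s)) =
      res ((Scheme.Modules.pullback q2).obj F) hq (σ q2 F U s) := by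
  have a1 := ρ_app t p1 p2 q1 q2 h1 h2 F U (res ((Scheme.Modules.pullback p2).obj F) hp (σ p2 F U s))
  have a2 := α_app t p2 q2 h2 F (p1 ⁻¹ᵁ U) (res ((Scheme.Modules.pullback p2).obj F) hp (σ p2 F U s))
  have a3 := σ_res t ((Scheme.Modules.pullback p2).obj F) hp (σ p2 F U s)
  have a4 := QcExt.app_res (pullIso t p2 q2 h2 F).hom
    (show t ⁻¹ᵁ (p1 ⁻¹ᵁ U) ≤ t ⁻¹ᵁ (p2 ⁻¹ᵁ U) from fun _ hx => hp hx)
    (σ t ((Scheme.Modules.pullback p2).obj F) (p2 ⁻¹ᵁ U) (σ p2 F U s))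
  have a5 := pullIso_σσ t p2 q2 h2 F U s
  rw [a1, a2, ← a3, a4]
  have a6 : (pullIso t p2 q2 h2 F).hom.app (t ⁻¹ᵁ (p2 ⁻¹ᵁ U))
      (σ t ((Scheme.Modules.pullback p2).obj F) (p2 ⁻¹ᵁ U) (σ p2 F U s)) =
      res ((Scheme.Modules.pullback q2).obj F) (le2 t p2 q2 h2 U) (σ q2 F U s) := a5
  rw [a6, res_res, res_res]

end Groth.Agent.Lead.PPT
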