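import Mathlib
import Groth.Agent.Lib.Lead.CV12

/-!
# The positive subbundle of a degree zero rank two extension is unique (lead)
-/

set_option autoImplicit false
set_option backward.isDefEq.respectTransparency.types false
set_option synthInstance.maxHeartbeats 400000
set_option linter.style.haveILetI false
set_option linter.unusedSectionVars false
set_option linter.unusedVariables false
universe u
open CategoryTheory CategoryTheory.Limits AlgebraicGeometry TopologicalSpace Opposite

namespace Groth.Agent.Lead.PS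

open Groth.Agent.Helper1.QcCech Groth.Agent.Helper1.SubSh Groth.Agent.Helper1.LGen
open Groth.Agent.Helper1.TmulLib Groth.Agent.Helper1 Groth.Agent.Helper1.TwForm
open Groth.Agent.Helper1.TensGen Groth.Agent.Lib.Helper4.TwExact Groth.Agent.Helper1.Dv
open Groth.Agent.Lib.Helper4 Groth.Agent.Helper1.CurveAmp Groth.Agent.Helper1.FinSupp
open Groth.Agent.Helper1.Euler Groth.Agent.Helper1.Curve Groth.Agent.Helper1.CurveLin
open Groth.Agent.Helper1.CurveDual Groth.Agent.Lead.HN Groth.Agent.Lead.VBL
open Groth.Agent.Helper1.CurvePt Groth.Agent.Helper1.PtInv Groth.Agent.Helper1.ProjF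

section PS

variable (k : Type u) [Field k] (X : Scheme.{u}) [X.Over (Spec (CommRingCat.of k))]
  [IsIntegral X] [IsProper (X ↘ Spec (CommRingCat.of k))]

omit [IsProper (X ↘ Spec (CommRingCat.of k))] in
/-- a monomorphism out of an invertible module is nonzero -/
theorem ne_zero_of_mono {N E : X.Modules} (hN : PicF.IsInvertible N) (j : N ⟶ E) [Mono j] :
    j ≠ 0 := by
  intro h
  apply VB.not_isZero_of_rank_pos X one_pos (isFinLocFreeOfRank_one hN)
  rw [IsZero.iff_id_eq_zero]
  rw [← cancel_mono j, h, comp_zero, zero_comp]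

/-- a nonzero map from an invertible module of degree `> deg S.X₃` into the middle term of a short
exact sequence with invertible ends factors through `S.X₁` -/
theorem exists_lift (hdim : topologicalKrullDim X = 1) {S : ShortComplex X.Modules}
    (hS : S.ShortExact) (hL : PicF.IsInvertible S.X₁) (hM : PicF.IsInvertible S.X₃)
    {N : X.Modules} (hN : PicF.IsInvertible N) (j : N ⟶ S.X₂) (hj : j ≠ 0)
    (hd : Curv2.deg k X S.X₃ 1 < Curv2.deg k X N 1) :
    ∃ l : N ⟶ S.X₁, l ≫ S.f = j ∧ l ≠ 0 ∧ Curv2.deg k X N 1 ≤ Curv2.deg k X S.X₁ 1 := by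
  haveI := hS.mono_f
  have h0 : j ≫ S.g = 0 := by
    by_contra hne
    have := (deg_le_of_hom k X hdim hN hM (j ≫ S.g) hne).1
    omega
  have hl : hS.exact.lift j h0 ≠ 0 := by
    intro hz
    apply hj
    rw [← hS.exact.lift_f j h0, hz, zero_comp]
  exact ⟨hS.exact.lift j h0, hS.exact.lift_f j h0, hl,
    (deg_le_of_hom k X hdim hN hL _ hl).1⟩

/-- S13934 -/
theorem positive_subbundle (hdim : topologicalKrullDim X = 1)
    (S : ShortComplex X.Modules) (hS : S.ShortExact)
    (hE : FlatMod.IsFinLocFreeOfRank 2 S.X₂) (hE0 : Curv2.deg k X S.X₂ 2 = 0)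
    (hL : PicF.IsInvertible S.X₁) (hM : PicF.IsInvertible S.X₃) (hpos : 0 < Curv2.deg k X S.X₁ 1) :
    (∀ (N : X.Modules), PicF.IsInvertible N → ∀ j : N ⟶ S.X₂, j ≠ 0 →
        Curv2.deg k X N 1 ≤ Curv2.deg k X S.X₁ 1) ∧
    (∀ (N : X.Modules), PicF.IsInvertible N → ∀ (j : N ⟶ S.X₂), Mono j →
        PicF.IsInvertible (cokernel j) → 0 < Curv2.deg k X N 1 → ∃ φ : N ≅ S.X₁, φ.hom ≫ S.f = j) ∧
    (∀ (N N' : X.Modules), PicF.IsInvertible N → PicF.IsInvertible N' →
        Curv2.deg k X N 1 = 0 → Curv2.deg k X N' 1 = 0 →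
        ∀ (a : N ⟶ S.X₂) (b : S.X₂ ⟶ N') (w : a ≫ b = 0), ¬ (ShortComplex.mk a b w).ShortExact) := by
  haveI := hS.mono_f
  have hadd := deg_additive k X S hS 1 2 1 (isFinLocFreeOfRank_one hL) hE (isFinLocFreeOfRank_one hM)
  have hdM : Curv2.deg k X S.X₃ 1 < 0 := by omega
  have hf : S.f ≠ 0 := ne_zero_of_mono X hL S.f
  refine ⟨?_, ?_, ?_⟩
  · intro N hN j hj
    by_cases hd : Curv2.deg k X S.X₃ 1 < Curv2.deg k X N 1
    · obtain ⟨l, -, -, h⟩ := exists_lift k X hdim hS hL hM hN j hj hd
      exact h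
    · omega
  · intro N hN j hjm hC hdN
    haveI := hjm
    have hj : j ≠ 0 := ne_zero_of_mono X hN j
    obtain ⟨l, hlf, hl, hle⟩ := exists_lift k X hdim hS hL hM hN j hj (by omega)
    -- the short exact sequence `N → E → C`
    let T : ShortComplex X.Modules := ShortComplex.mk j (cokernel.π j) (cokernel.condition j)
    have hT : T.ShortExact :=
      { exact := ShortComplex.exact_cokernel j
        mono_f := hjm
        epi_g := inferInstanceAs (Epi (cokernel.π j)) }
    have hadd' := deg_additive k X T hT 1 2 1 (isFinLocFreeOfRank_one hN) hE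
      (isFinLocFreeOfRank_one hC)
    change Curv2.deg k X S.X₂ 2 = Curv2.deg k X N 1 + Curv2.deg k X (cokernel j) 1 at hadd'
    obtain ⟨m, hmf, hm, hle'⟩ := exists_lift k X hdim hT hN hC hL S.f hf (by
      change Curv2.deg k X (cokernel j) 1 < _
      omega)
    have hiso := (deg_le_of_hom k X hdim hN hL l hl).2 (le_antisymm hle hle')
    exact ⟨asIso l, hlf⟩
  · intro N N' hN hN' hdN hdN' a b w hT
    haveI := hT.mono_f
    have ha : a ≠ 0 := ne_zero_of_mono X hN a
    obtain ⟨m, hmf, hm, hle'⟩ := exists_lift k X hdim hT hN hN' hL S.f hf (by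
      change Curv2.deg k X N' 1 < _
      omega)
    change _ ≤ Curv2.deg k X N 1 at hle'
    omega

end PS

end Groth.Agent.Lead.PS
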