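import Mathlib
namespace Groth.Agent.Lead.PSEval
open PowerSeries

variable {K : Type*} {A : Type*} [CommRing K] [CommRing A] [Algebra K A]

theorem aeval_sub_trunc_mem (I : Ideal A) (x : A) (hx : x ∈ I) (p : Polynomial K) (n : ℕ) :
    Polynomial.aeval x p - Polynomial.aeval x (trunc n (p : PowerSeries K)) ∈ I ^ n := by
  have hdvd : (Polynomial.X : Polynomial K) ^ n ∣ p - trunc n (p : PowerSeries K) := by
    rw [Polynomial.X_pow_dvd_iff]
    intro d hd
    rw [Polynomial.coeff_sub, coeff_trunc, if_pos hd, Polynomial.coeff_coe, sub_self]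
  obtain ⟨q, hq⟩ := hdvd
  rw [← map_sub, hq, map_mul, map_pow, Polynomial.aeval_X]
  exact Ideal.mul_mem_right _ _ (Ideal.pow_mem_pow hx n)

/-- evaluation of truncations modulo `I ^ n` -/
noncomputable def fN (I : Ideal A) (x : A) (hx : x ∈ I) (n : ℕ) :
    PowerSeries K →ₐ[K] A ⧸ I ^ n where
  toFun g := Ideal.Quotient.mk (I ^ n) (Polynomial.aeval x (trunc n g))
  map_one' := by
    have h := aeval_sub_trunc_mem (K := K) I x hx 1 n
    rw [Polynomial.coe_one, map_one] at h
    rw [← map_one (Ideal.Quotient.mk (I ^ n)), eq_comm, Ideal.Quotient.eq]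
    exact h
  map_mul' g h := by
    rw [← map_mul, ← map_mul, eq_comm, Ideal.Quotient.eq, ← trunc_trunc_mul_trunc,
      ← Polynomial.coe_mul]
    exact aeval_sub_trunc_mem I x hx _ n
  map_zero' := by
    rw [map_zero, map_zero, map_zero]
  map_add' g h := by
    rw [map_add, map_add, map_add]
  commutes' r := by
    have h := aeval_sub_trunc_mem (K := K) I x hx (Polynomial.C r) n
    rw [Polynomial.coe_C, Polynomial.aeval_C] at h
    have e1 : algebraMap K (A ⧸ I ^ n) r = Ideal.Quotient.mk (I ^ n) (algebraMap K A r) := rfl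
    rw [e1, eq_comm]
    change _ = Ideal.Quotient.mk (I ^ n) (Polynomial.aeval x (trunc n (PowerSeries.C r)))
    rw [Ideal.Quotient.eq]
    exact h

theorem fN_apply (I : Ideal A) (x : A) (hx : x ∈ I) (n : ℕ) (g : PowerSeries K) :
    fN I x hx n g = Ideal.Quotient.mk (I ^ n) (Polynomial.aeval x (trunc n g)) := rfl

theorem fN_compat (I : Ideal A) (x : A) (hx : x ∈ I) {m n : ℕ} (hle : m ≤ n) :
    (Ideal.Quotient.factorₐ K (Ideal.pow_le_pow_right hle)).comp (fN (K := K) I x hx n) =
      fN I x hx m := by
  ext g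
  rw [AlgHom.comp_apply, fN_apply, fN_apply, Ideal.Quotient.factorₐ_apply_mk, Ideal.Quotient.eq,
    ← trunc_trunc_of_le g hle]
  exact aeval_sub_trunc_mem I x hx _ m

/-- evaluation of power series at an element of `I`, `A` being `I`-adically complete -/
noncomputable def evalPS (I : Ideal A) [IsAdicComplete I A] (x : A) (hx : x ∈ I) :
    PowerSeries K →ₐ[K] A :=
  IsAdicComplete.liftAlgHom I (fN I x hx) (fun hle => fN_compat I x hx hle)

theorem evalPS_spec (I : Ideal A) [IsAdicComplete I A] (x : A) (hx : x ∈ I) (g : PowerSeries K)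
    (n : ℕ) :
    evalPS I x hx g - (Finset.range n).sum (fun i => algebraMap K A (coeff i g) * x ^ i) ∈
      I ^ n := by
  have h := IsAdicComplete.mk_liftAlgHom I (fN (K := K) I x hx)
    (fun hle => fN_compat I x hx hle) n g
  rw [fN_apply, Ideal.Quotient.eq] at h
  have h2 : Polynomial.aeval x (trunc n g) =
      (Finset.range n).sum (fun i => algebraMap K A (coeff i g) * x ^ i) := by
    rw [Polynomial.aeval_def, eval₂_trunc_eq_sum_range]
  rw [← h2]
  exact h

theorem eq_of_forall_sub_mem (I : Ideal A) [IsHausdorff I A] (a b : A)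
    (h : ∀ n : ℕ, a - b ∈ I ^ n) : a = b := by
  rw [← sub_eq_zero]
  apply IsHausdorff.haus (I := I) inferInstance
  intro n
  rw [SModEq.zero, smul_eq_mul, Ideal.mul_top]
  exact h n

theorem evalPS_X (I : Ideal A) [IsAdicComplete I A] (x : A) (hx : x ∈ I) :
    evalPS (K := K) I x hx PowerSeries.X = x := by
  apply eq_of_forall_sub_mem I
  intro n
  have h := evalPS_spec (K := K) I x hx PowerSeries.X (n + 2)
  have h2 : (Finset.range (n + 2)).sum
      (fun i => algebraMap K A (coeff i (PowerSeries.X : PowerSeries K)) * x ^ i) = x := by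
    rw [Finset.sum_eq_single 1]
    · simp
    · intro i _ hi
      rw [coeff_X, if_neg hi, map_zero, zero_mul]
    · intro h
      exact absurd (Finset.mem_range.2 (by omega)) h
  rw [h2] at h
  exact Ideal.pow_le_pow_right (by omega) h

end Groth.Agent.Lead.PSEval

namespace Groth.Agent.Lead.PSEval
open PowerSeries IsLocalRing

theorem dvr_iso (K : Type*) (A : Type*) [Field K]
    [CommRing A] [IsDomain A] [IsDiscreteValuationRing A] [Algebra K A]
    [IsAdicComplete (maximalIdeal A) A]
    (hK : Function.Surjective ((residue A).comp (algebraMap K A)))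
    (x : A) (hx : maximalIdeal A = Ideal.span {x}) :
    ∃ φ : PowerSeries K →ₐ[K] A, φ PowerSeries.X = x ∧ Function.Bijective φ ∧
      ∀ (f : PowerSeries K) (n : ℕ),
        φ f - (Finset.range n).sum (fun i => algebraMap K A (PowerSeries.coeff i f) * x ^ i) ∈
          maximalIdeal A ^ n := by
  classical
  have hxm : x ∈ maximalIdeal A := by
    rw [hx]
    exact Ideal.mem_span_singleton_self x
  have hx0 : x ≠ 0 := by
    intro h0
    apply IsDiscreteValuationRing.not_a_field A
    rw [hx, h0, Ideal.span_singleton_eq_bot]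
  have hxnu : ¬ IsUnit x := by
    rwa [← mem_nonunits_iff, ← IsLocalRing.mem_maximalIdeal]
  have hpow : ∀ n : ℕ, maximalIdeal A ^ n = Ideal.span {x ^ n} := by
    intro n
    rw [hx, Ideal.span_singleton_pow]
  refine ⟨evalPS (maximalIdeal A) x hxm, evalPS_X _ x hxm, ⟨?_, ?_⟩,
    evalPS_spec (maximalIdeal A) x hxm⟩
  · -- injective
    rw [injective_iff_map_eq_zero]
    intro g hg
    by_contra hg0
    obtain ⟨d0, hd0⟩ := (PowerSeries.exists_coeff_ne_zero_iff_ne_zero (φ := g)).2 hg0
    let d := Nat.find (⟨d0, hd0⟩ : ∃ d, coeff d g ≠ 0)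
    have hd : coeff d g ≠ 0 := Nat.find_spec (⟨d0, hd0⟩ : ∃ d, coeff d g ≠ 0)
    have hlt : ∀ i < d, coeff i g = 0 := fun i hi => by
      have := Nat.find_min (⟨d0, hd0⟩ : ∃ d, coeff d g ≠ 0) hi
      exact not_not.1 this
    have hs := evalPS_spec (K := K) (maximalIdeal A) x hxm g (d + 1)
    rw [hg, zero_sub, neg_mem_iff, Finset.sum_range_succ, Finset.sum_eq_zero, zero_add, hpow,
      Ideal.mem_span_singleton] at hs
    · have hu : IsUnit (algebraMap K A (coeff d g)) := (IsUnit.mk0 _ hd).map _
      have h2 : x ^ (d + 1) ∣ x ^ d := by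
        obtain ⟨c, hc⟩ := hs
        obtain ⟨u, hu'⟩ := hu
        refine ⟨(↑u⁻¹ : A) * c, ?_⟩
        have : x ^ d = ↑u⁻¹ * (algebraMap K A (coeff d g) * x ^ d) := by
          rw [← hu', ← mul_assoc, Units.inv_mul, one_mul]
        rw [this, hc]
        ring
      obtain ⟨c, hc⟩ := h2
      have h3 : x ^ d * (1 - x * c) = 0 := by
        rw [mul_sub, mul_one, sub_eq_zero]
        conv_lhs => rw [hc]
        ring
      rcases mul_eq_zero.1 h3 with h4 | h4
      · exact hx0 (pow_eq_zero_iff (by
          intro hd0'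
          rw [hd0', pow_zero] at h4
          exact one_ne_zero h4) |>.1 h4)
      · apply hxnu
        exact IsUnit.of_mul_eq_one c (sub_eq_zero.1 h4).symm
    · intro i hi
      rw [hlt i (Finset.mem_range.1 hi), map_zero, zero_mul]
  · -- surjective
    intro a
    have hstep : ∀ b : A, ∃ cb : K × A, b = algebraMap K A cb.1 + x * cb.2 := by
      intro b
      obtain ⟨c, hc⟩ := hK (residue A b)
      have h1 : b - algebraMap K A c ∈ maximalIdeal A := by
        rw [← Ideal.Quotient.eq]
        exact hc.symm
      rw [hx, Ideal.mem_span_singleton'] at h1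
      obtain ⟨b', hb'⟩ := h1
      refine ⟨(c, b'), ?_⟩
      change b = algebraMap K A c + x * b'
      rw [mul_comm, hb']
      ring
    choose step hstepspec using hstep
    let r : ℕ → A := fun n => (fun b => (step b).2)^[n] a
    let c : ℕ → K := fun n => (step (r n)).1
    have hr : ∀ n, r n = algebraMap K A (c n) + x * r (n + 1) := by
      intro n
      have := hstepspec (r n)
      change r n = algebraMap K A (step (r n)).1 + x * ((fun b => (step b).2)^[n + 1] a)
      rw [Function.iterate_succ_apply']
      exact this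
    have hsum : ∀ n, a = (Finset.range n).sum (fun i => algebraMap K A (c i) * x ^ i) +
        x ^ n * r n := by
      intro n
      induction n with
      | zero => simp [r]
      | succ n ih =>
        rw [Finset.sum_range_succ]
        conv_lhs => rw [ih, hr n]
        ring
    refine ⟨PowerSeries.mk c, ?_⟩
    apply eq_of_forall_sub_mem (maximalIdeal A)
    intro n
    have hs := evalPS_spec (K := K) (maximalIdeal A) x hxm (PowerSeries.mk c) n
    simp only [coeff_mk] at hs
    have : evalPS (maximalIdeal A) x hxm (PowerSeries.mk c) - a =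
        (evalPS (maximalIdeal A) x hxm (PowerSeries.mk c) -
          (Finset.range n).sum (fun i => algebraMap K A (c i) * x ^ i)) - x ^ n * r n := by
      conv_lhs => rw [hsum n]
      ring
    rw [this]
    apply sub_mem hs
    rw [hpow]
    exact Ideal.mul_mem_right _ _ (Ideal.mem_span_singleton_self _)

end Groth.Agent.Lead.PSEval
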