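import Mathlib

set_option autoImplicit false

namespace Groth.Agent.Lead

open Matrix

theorem padicInt_eq_zero_of_forall_mem_span (l : ℕ) [Fact l.Prime] (x : ℤ_[l])
    (h : ∀ N : ℕ, x ∈ Ideal.span {(l : ℤ_[l]) ^ N}) : x = 0 := by
  rw [← PadicInt.ext_of_toZModPow]
  intro N
  rw [map_zero, ← RingHom.mem_ker, PadicInt.ker_toZModPow]
  exact h N

section

variable {R : Type*} [AddCommGroup R] (B : R →+ R →+ ℤ)

theorem B_sum_left {ι : Type*} [Fintype ι] (n : ι → ℤ) (a : ι → R) (b : R) :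
    B (∑ i, n i • a i) b = ∑ i, n i * B (a i) b := by
  rw [map_sum, AddMonoidHom.finsetSum_apply]
  refine Finset.sum_congr rfl fun i _ => ?_
  rw [map_zsmul, AddMonoidHom.smul_apply, smul_eq_mul]

theorem B_sum_right {ι : Type*} [Fintype ι] (n : ι → ℤ) (a : ι → R) (b : R) :
    B b (∑ i, n i • a i) = ∑ i, n i * B b (a i) := by
  rw [map_sum]
  refine Finset.sum_congr rfl fun i _ => ?_
  rw [map_zsmul, smul_eq_mul]

/-- Gram determinant is nonzero for an independent family and a positive definite form. -/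
theorem gram_det_ne_zero (hBpos : ∀ a : R, a ≠ 0 → 0 < B a a) {ι : Type*} [Fintype ι]
    [DecidableEq ι] (a : ι → R) (ha : LinearIndependent ℤ a) :
    (Matrix.of fun i j => B (a i) (a j)).det ≠ 0 := by
  intro hdet
  obtain ⟨v, hv0, hv⟩ := Matrix.exists_mulVec_eq_zero_iff.mpr hdet
  have hB : B (∑ i, v i • a i) (∑ i, v i • a i) = 0 := by
    rw [B_sum_left]
    refine Finset.sum_eq_zero fun i _ => ?_
    rw [B_sum_right]
    have := congrFun hv i
    simp only [Matrix.mulVec, dotProduct, Matrix.of_apply, Pi.zero_apply] at this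
    rw [show ∑ j, v j * B (a i) (a j) = ∑ j, B (a i) (a j) * v j from
      Finset.sum_congr rfl fun j _ => mul_comm _ _, this, mul_zero]
  have hβ : ∑ i, v i • a i = 0 := by
    by_contra h
    exact (hBpos _ h).ne' hB
  have := Fintype.linearIndependent_iff.mp ha v hβ
  exact hv0 (funext this)

end

end Groth.Agent.Lead

namespace Groth.Agent.Lead

open Matrix

theorem padic_indep_fintype (l : ℕ) [Fact l.Prime]
    {R : Type*} [AddCommGroup R] (B : R →+ R →+ ℤ)
    (hBpos : ∀ a : R, a ≠ 0 → 0 < B a a)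
    {V : Type*} [AddCommGroup V] [Module ℤ_[l] V] (M : R →+ Module.End ℤ_[l] V)
    (hdiv : ∀ (β : R) (n : ℕ), (∀ v : V, ∃ w : V, M β v = ((l : ℤ_[l]) ^ n) • w) →
      ∃ β₁ : R, β = (l ^ n) • β₁)
    {ι : Type*} [Fintype ι] [DecidableEq ι] (a : ι → R) (ha : LinearIndependent ℤ a) :
    LinearIndependent ℤ_[l] (fun i => M (a i)) := by
  rw [Fintype.linearIndependent_iff]
  intro c hc i₀
  set G : Matrix ι ι ℤ := Matrix.of fun i j => B (a i) (a j) with hG
  have hD : G.det ≠ 0 := gram_det_ne_zero B hBpos a ha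
  suffices h : ((G.det : ℤ) : ℤ_[l]) * c i₀ = 0 by
    rcases mul_eq_zero.mp h with h | h
    · exact absurd (by exact_mod_cast h) hD
    · exact h
  apply padicInt_eq_zero_of_forall_mem_span
  intro N
  have hn : ∀ i, ∃ d : ℤ_[l], c i = (((c i).appr N : ℤ) : ℤ_[l]) + (l : ℤ_[l]) ^ N * d := by
    intro i
    have := PadicInt.appr_spec N (c i)
    rw [Ideal.mem_span_singleton] at this
    obtain ⟨d, hd⟩ := this
    refine ⟨d, ?_⟩
    push_cast
    linear_combination hd
  choose d hd using hn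
  set n : ι → ℤ := fun i => ((c i).appr N : ℤ) with hndef
  have hMβ : ∀ v : V, ∃ w : V, M (∑ i, n i • a i) v = ((l : ℤ_[l]) ^ N) • w := by
    intro v
    refine ⟨-(∑ i, d i • M (a i) v), ?_⟩
    have h0 : ∑ i, c i • M (a i) v = 0 := by
      have := LinearMap.congr_fun hc v
      simpa using this
    have h1 : M (∑ i, n i • a i) v = ∑ i, (n i : ℤ_[l]) • M (a i) v := by
      rw [map_sum, LinearMap.sum_apply]
      refine Finset.sum_congr rfl fun i _ => ?_
      rw [map_zsmul, ← Int.cast_smul_eq_zsmul ℤ_[l], LinearMap.smul_apply]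
    rw [h1, smul_neg, Finset.smul_sum, eq_neg_iff_add_eq_zero, ← Finset.sum_add_distrib, ← h0]
    refine Finset.sum_congr rfl fun i _ => ?_
    rw [smul_smul, ← add_smul]
    congr 1
    exact (hd i).symm
  obtain ⟨β₁, hβ₁⟩ := hdiv _ N hMβ
  have hGn : n ᵥ* G = ((l : ℤ) ^ N) • (fun j => B β₁ (a j)) := by
    funext j
    have h1 : B (∑ i, n i • a i) (a j) = ∑ i, n i * G i j := by
      rw [B_sum_left]
      rfl
    have h2 : B (∑ i, n i • a i) (a j) = (l : ℤ) ^ N * B β₁ (a j) := by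
      rw [hβ₁, map_nsmul, AddMonoidHom.smul_apply]
      simp
    simp only [Matrix.vecMul, dotProduct, Pi.smul_apply, smul_eq_mul]
    rw [← h1, h2]
  have hadj : G.det • n = ((l : ℤ) ^ N) • ((fun j => B β₁ (a j)) ᵥ* adjugate G) := by
    have : (n ᵥ* G) ᵥ* adjugate G = G.det • n := by
      rw [Matrix.vecMul_vecMul, Matrix.mul_adjugate, Matrix.vecMul_smul, Matrix.vecMul_one]
    rw [← this, hGn, Matrix.smul_vecMul]
  have hi := congrFun hadj i₀
  simp only [Pi.smul_apply, smul_eq_mul] at hi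
  rw [Ideal.mem_span_singleton]
  refine ⟨((((fun j => B β₁ (a j)) ᵥ* adjugate G) i₀ : ℤ) : ℤ_[l]) + (G.det : ℤ_[l]) * d i₀, ?_⟩
  rw [hd i₀, mul_add, mul_add]
  have hi' : ((G.det : ℤ) : ℤ_[l]) * ((n i₀ : ℤ) : ℤ_[l]) =
      (l : ℤ_[l]) ^ N * ((((fun j => B β₁ (a j)) ᵥ* adjugate G) i₀ : ℤ) : ℤ_[l]) := by
    exact_mod_cast congrArg (Int.cast : ℤ → ℤ_[l]) hi
  rw [hi']
  ring

end Groth.Agent.Lead
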