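import Mathlib
import Groth.Agent.Lib.Helper1.PerfTor

set_option backward.isDefEq.respectTransparency.types false
set_option autoImplicit false
set_option synthInstance.maxHeartbeats 400000
set_option maxHeartbeats 1000000
set_option linter.style.haveILetI false
set_option linter.unusedSectionVars false

universe u
open CategoryTheory CategoryTheory.Limits

namespace Groth.Agent.Lead.PerfTorWrap

/-- Bhatt–Scholze 3.16 in the form requested by helper5 (wrapper around
`Groth.Agent.Helper1.PerfTor.main`; the trivial ring is treated separately). -/
theorem isZero_tor_of_perfect (p : ℕ) [Fact p.Prime] (R A B : Type u) [CommRing R] [CommRing A]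
    [CommRing B] [Algebra R A] [Algebra R B]
    (hR : (p : R) = 0 ∧ Function.Bijective fun x : R => x ^ p)
    (hA : (p : A) = 0 ∧ Function.Bijective fun x : A => x ^ p)
    (hB : (p : B) = 0 ∧ Function.Bijective fun x : B => x ^ p) (i : ℕ) (hi : 0 < i) :
    IsZero (((CategoryTheory.Tor (ModuleCat.{u} R) i).obj (ModuleCat.of R A)).obj
      (ModuleCat.of R B)) := by
  by_cases hRt : Subsingleton R
  · haveI : Subsingleton (((CategoryTheory.Tor (ModuleCat.{u} R) i).obj (ModuleCat.of R A)).obj
      (ModuleCat.of R B)) := Module.subsingleton R _
    exact ModuleCat.isZero_of_subsingleton _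
  · haveI : Nontrivial R := not_subsingleton_iff_nontrivial.mp hRt
    haveI : CharP R p := (CharP.charP_iff_prime_eq_zero (Fact.out : p.Prime)).mpr hR.1
    exact Groth.Agent.Helper1.PerfTor.main p R A B hR.2 hA.2 hB.2 i hi

end Groth.Agent.Lead.PerfTorWrap
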