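import Mathlib
set_option backward.isDefEq.respectTransparency.types false
set_option autoImplicit false
set_option synthInstance.maxHeartbeats 400000
set_option maxHeartbeats 1000000
set_option linter.style.haveILetI false
set_option linter.unusedSectionVars false
set_option linter.unusedSimpArgs false

namespace Groth.Agent.Lead.PiHens
open TensorProduct

universe u

section
variable {ι : Type u} (A : ι → Type u) (B : ι → Type u) [∀ i, CommRing (A i)] [∀ i, CommRing (B i)]
  [∀ i, Algebra (A i) (B i)]

/-- the product algebra -/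
@[reducible] noncomputable def piAlgebra : Algebra (∀ i, A i) (∀ i, B i) where
  algebraMap := Pi.ringHom (fun i => (algebraMap (A i) (B i)).comp (Pi.evalRingHom A i))
  smul := fun a b i => a i • b i
  commutes' := by
    intro a b
    funext i
    exact mul_comm _ _
  smul_def' := by
    intro a b
    funext i
    exact Algebra.smul_def _ _

attribute [local instance] piAlgebra

/-- the `A`-algebra structure on a component tensor square -/
@[reducible] noncomputable def compAlgebra (i : ι) : Algebra (∀ i, A i) (B i ⊗[A i] B i) :=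
  ((algebraMap (A i) (B i ⊗[A i] B i)).comp (Pi.evalRingHom A i)).toAlgebra

/-- evaluation as an algebra map -/
noncomputable def evalAlg (i : ι) :
    letI := compAlgebra A B i
    (∀ i, B i) →ₐ[∀ i, A i] (B i ⊗[A i] B i) :=
  letI := compAlgebra A B i
  { toRingHom := (Algebra.TensorProduct.includeLeftRingHom).comp (Pi.evalRingHom B i)
    commutes' := by
      intro a
      show (algebraMap (A i) (B i) (a i)) ⊗ₜ[A i] (1 : B i) = _
      rfl }

noncomputable def evalAlg' (i : ι) :
    letI := compAlgebra A B i
    (∀ i, B i) →ₐ[∀ i, A i] (B i ⊗[A i] B i) :=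
  letI := compAlgebra A B i
  { toRingHom := (Algebra.TensorProduct.includeRight (R := A i) (A := B i) (B := B i)).toRingHom.comp
      (Pi.evalRingHom B i)
    commutes' := by
      intro a
      show (1 : B i) ⊗ₜ[A i] (algebraMap (A i) (B i) (a i)) = _
      show _ = algebraMap (A i) (B i ⊗[A i] B i) (a i)
      rw [Algebra.TensorProduct.algebraMap_apply, ← Algebra.TensorProduct.tmul_one_eq_one_tmul] }

/-- the canonical map to a component -/
noncomputable def thetaComp (i : ι) : (∀ i, B i) ⊗[∀ i, A i] (∀ i, B i) →+* (B i ⊗[A i] B i) :=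
  letI := compAlgebra A B i
  (Algebra.TensorProduct.lift (evalAlg A B i) (evalAlg' A B i)
    (fun _ _ => Commute.all _ _)).toRingHom

theorem thetaComp_tmul (i : ι) (x y : ∀ i, B i) :
    thetaComp A B i (x ⊗ₜ y) = x i ⊗ₜ[A i] y i := by
  letI := compAlgebra A B i
  show (Algebra.TensorProduct.lift (evalAlg A B i) (evalAlg' A B i)
    (fun _ _ => Commute.all _ _)) (x ⊗ₜ y) = _
  rw [Algebra.TensorProduct.lift_tmul]
  show (x i ⊗ₜ[A i] (1 : B i)) * ((1 : B i) ⊗ₜ[A i] y i) = _
  rw [Algebra.TensorProduct.tmul_mul_tmul, mul_one, one_mul]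

/-- the canonical map `(Π B) ⊗_{Π A} (Π B) → Π (B ⊗_A B)` -/
noncomputable def theta : (∀ i, B i) ⊗[∀ i, A i] (∀ i, B i) →+* ∀ i, (B i ⊗[A i] B i) :=
  Pi.ringHom (thetaComp A B)

theorem theta_tmul (x y : ∀ i, B i) (i : ι) :
    theta A B (x ⊗ₜ y) i = x i ⊗ₜ[A i] y i := thetaComp_tmul A B i x y

theorem theta_smul (a : ∀ i, A i) (t : (∀ i, B i) ⊗[∀ i, A i] (∀ i, B i)) (i : ι) :
    theta A B (a • t) i = a i • theta A B t i := by
  induction t using TensorProduct.induction_on with
  | zero => simp
  | tmul x y =>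
    rw [TensorProduct.smul_tmul', theta_tmul, theta_tmul]
    show (a i • x i) ⊗ₜ[A i] y i = _
    rw [TensorProduct.smul_tmul']
  | add x y hx hy =>
    rw [smul_add, map_add, map_add, Pi.add_apply, Pi.add_apply, hx, hy, smul_add]

section coord
variable {A B}
variable (n : ℕ) (β : ∀ i, Fin n → B i) (σ : ∀ i, Fin n → (B i →ₗ[A i] A i))
  (hβ : ∀ i (x : B i), ∑ k, σ i k x • β i k = x)

/-- coefficient functional on a component -/
noncomputable def coef (i : ι) (k l : Fin n) : (B i ⊗[A i] B i) →ₗ[A i] A i :=
  (TensorProduct.lid (A i) (A i)).toLinearMap ∘ₗ TensorProduct.map (σ i k) (σ i l)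

theorem coef_tmul (i : ι) (k l : Fin n) (x y : B i) :
    coef n σ i k l (x ⊗ₜ y) = σ i k x * σ i l y := by
  simp [coef]

include hβ in
theorem comp_expand (i : ι) (c : B i ⊗[A i] B i) :
    ∑ k, ∑ l, coef n σ i k l c • (β i k ⊗ₜ[A i] β i l) = c := by
  induction c using TensorProduct.induction_on with
  | zero => simp
  | tmul x y =>
    simp only [coef_tmul]
    conv_rhs => rw [← hβ i x, ← hβ i y]
    rw [TensorProduct.sum_tmul]
    refine Finset.sum_congr rfl fun k _ => ?_
    rw [TensorProduct.tmul_sum]
    refine Finset.sum_congr rfl fun l _ => ?_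
    rw [TensorProduct.smul_tmul_smul]
  | add x y hx hy =>
    simp only [map_add, add_smul, Finset.sum_add_distrib, hx, hy]

/-- the inverse map -/
noncomputable def rho (c : ∀ i, (B i ⊗[A i] B i)) : (∀ i, B i) ⊗[∀ i, A i] (∀ i, B i) :=
  ∑ k, ∑ l, (fun i => coef n σ i k l (c i) : ∀ i, A i) •
    ((fun i => β i k : ∀ i, B i) ⊗ₜ[∀ i, A i] (fun i => β i l : ∀ i, B i))

include hβ in
theorem theta_rho (c : ∀ i, (B i ⊗[A i] B i)) : theta A B (rho n β σ c) = c := by
  funext i
  rw [rho, map_sum, Finset.sum_apply]
  conv_rhs => rw [← comp_expand n β σ hβ i (c i)]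
  refine Finset.sum_congr rfl fun k _ => ?_
  rw [map_sum, Finset.sum_apply]
  refine Finset.sum_congr rfl fun l _ => ?_
  rw [theta_smul, theta_tmul]

include hβ in
theorem rho_theta (t : (∀ i, B i) ⊗[∀ i, A i] (∀ i, B i)) : rho n β σ (theta A B t) = t := by
  induction t using TensorProduct.induction_on with
  | zero =>
    simp only [rho, map_zero, Pi.zero_apply]
    refine Finset.sum_eq_zero fun k _ => Finset.sum_eq_zero fun l _ => ?_
    have : (fun i => (0 : A i) : ∀ i, A i) = 0 := rfl
    rw [this, zero_smul]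
  | tmul x y =>
    have hx : ∑ k, (fun i => σ i k (x i) : ∀ i, A i) • (fun i => β i k : ∀ i, B i) = x := by
      funext i
      rw [Finset.sum_apply]
      exact hβ i (x i)
    have hy : ∑ k, (fun i => σ i k (y i) : ∀ i, A i) • (fun i => β i k : ∀ i, B i) = y := by
      funext i
      rw [Finset.sum_apply]
      exact hβ i (y i)
    conv_rhs => rw [← hx, ← hy]
    rw [rho, TensorProduct.sum_tmul]
    refine Finset.sum_congr rfl fun k _ => ?_
    rw [TensorProduct.tmul_sum]
    refine Finset.sum_congr rfl fun l _ => ?_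
    rw [TensorProduct.smul_tmul_smul]
    congr 1
    funext i
    rw [theta_tmul, coef_tmul]
    rfl
  | add x y hx hy =>
    have hadd : ∀ c d : ∀ i, (B i ⊗[A i] B i), rho n β σ (c + d) = rho n β σ c + rho n β σ d := by
      intro c d
      simp only [rho, Pi.add_apply, map_add]
      rw [← Finset.sum_add_distrib]
      refine Finset.sum_congr rfl fun k _ => ?_
      rw [← Finset.sum_add_distrib]
      refine Finset.sum_congr rfl fun l _ => ?_
      rw [← add_smul]
      rfl
    rw [map_add, hadd, hx, hy]

include hβ in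
theorem theta_bijective : Function.Bijective (theta A B) :=
  ⟨Function.LeftInverse.injective (rho_theta n β σ hβ),
    Function.RightInverse.surjective (theta_rho n β σ hβ)⟩

end coord

end

end Groth.Agent.Lead.PiHens
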