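import Mathlib
import Groth.Agent.Lib.Lead.ZmtFin
set_option backward.isDefEq.respectTransparency.types false
set_option autoImplicit false
set_option synthInstance.maxHeartbeats 400000
set_option maxHeartbeats 1000000
set_option linter.style.haveILetI false
set_option linter.unusedSectionVars false
set_option linter.unusedSimpArgs false

namespace Groth.Agent.Lead.PiHens
open AlgebraicGeometry CategoryTheory Limits

universe u

/-- Zariski's main theorem with a finite algebra: a quasi-finite separated morphism of finite type
to an affine scheme is an open immersion into the spectrum of a finite algebra. -/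
theorem exists_finite_open_embedding {R : Type u} [CommRing R] {Y : Scheme.{u}}
    (s : Y ⟶ Spec (.of R))
    [LocallyQuasiFinite s] [LocallyOfFiniteType s] [IsSeparated s] [QuasiCompact s] :
    ∃ (C : Type u) (_ : CommRing C) (_ : Algebra R C) (_ : Module.Finite R C)
      (j : Y ⟶ Spec (.of C)),
      IsOpenImmersion j ∧ j ≫ Spec.map (CommRingCat.ofHom (algebraMap R C)) = s := by
  let N := s.normalization
  let p := s.fromNormalization
  haveI hN : IsAffine N := isAffine_of_isAffineHom s.fromNormalization
  haveI hopen : IsOpenImmersion s.toNormalization := inferInstance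
  let Bn : Type u := Γ(N, ⊤)
  let ψ : R →+* Bn := ((Scheme.ΓSpecIso (.of R)).inv ≫ p.appTop).hom
  letI : Algebra R Bn := ψ.toAlgebra
  have hψint : ψ.IsIntegral := by
    have h1 := IsIntegralHom.isIntegral_app p ⊤ (isAffineOpen_top _)
    have h2 : ((Scheme.ΓSpecIso (.of R)).inv).hom.IsIntegral :=
      RingHom.isIntegral_of_surjective _
        ((ConcreteCategory.bijective_of_isIso (Scheme.ΓSpecIso (.of R)).inv).surjective)
    exact RingHom.IsIntegral.trans _ _ h2 h1
  haveI : Algebra.IsIntegral R Bn := ⟨hψint⟩
  let j' : Y ⟶ Spec (.of Bn) := s.toNormalization ≫ N.isoSpec.hom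
  haveI : IsOpenImmersion j' := inferInstance
  have hfac : N.isoSpec.hom ≫ Spec.map (CommRingCat.ofHom ψ) = p := by
    have h1 : CommRingCat.ofHom ψ = (Scheme.ΓSpecIso (.of R)).inv ≫ p.appTop := rfl
    rw [h1, Spec.map_comp, Scheme.isoSpec_hom, ← Category.assoc, ← Scheme.toSpecΓ_naturality,
      Category.assoc, ← SpecMap_ΓSpecIso_hom, ← Spec.map_comp, Iso.inv_hom_id, Spec.map_id]
    exact Category.comp_id _
  have hj' : j' ≫ Spec.map (CommRingCat.ofHom (algebraMap R Bn)) = s := by
    show (s.toNormalization ≫ N.isoSpec.hom) ≫ Spec.map (CommRingCat.ofHom ψ) = s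
    rw [Category.assoc, hfac]
    exact s.toNormalization_fromNormalization
  haveI : CompactSpace Y := by
    have : QuasiCompact (s ≫ 𝟙 _) := by rw [Category.comp_id]; infer_instance
    exact (quasiCompact_iff_compactSpace s).mp inferInstance
  haveI : LocallyOfFiniteType (j' ≫ Spec.map (CommRingCat.ofHom (algebraMap R Bn))) := by
    rw [hj']; infer_instance
  obtain ⟨B₀, hfin, hopen'⟩ := Groth.Agent.Lead.AffDimNN.exists_finite_subalgebra
    (R := R) (B := Bn) j'
  refine ⟨B₀, inferInstance, inferInstance, hfin,
    j' ≫ Spec.map (CommRingCat.ofHom (algebraMap B₀ Bn)), hopen', ?_⟩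
  rw [Category.assoc, ← Spec.map_comp, ← hj']
  rfl

end Groth.Agent.Lead.PiHens
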