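import Mathlib
import Groth.Agent.Lib.Helper9.FE.HensC
set_option backward.isDefEq.respectTransparency.types false
set_option autoImplicit false
set_option synthInstance.maxHeartbeats 400000
set_option maxHeartbeats 1000000
set_option linter.style.haveILetI false
set_option linter.unusedSectionVars false
set_option linter.unusedSimpArgs false

namespace Groth.Agent.Lead.PiHens
open AlgebraicGeometry CategoryTheory Limits

universe u

/-- Over a henselian local ring, an étale scheme with a point over the closed point contains an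
open subscheme which is finite étale over the base and contains the point. -/
theorem exists_finite_etale_lift (A : Type u) [CommRing A] [HenselianLocalRing A] {W : Scheme.{u}}
    (q : W ⟶ Spec (.of A)) [Etale q] (w : W) (hw : q w = IsLocalRing.closedPoint A) :
    ∃ (B : Type u) (_ : CommRing B) (_ : Algebra A B) (_ : Module.Finite A B)
      (_ : Algebra.Etale A B) (_ : Nontrivial B) (v : Spec (.of B) ⟶ W),
      Mono v ∧ v ≫ q = Spec.map (CommRingCat.ofHom (algebraMap A B)) := by
  obtain ⟨U, hU, hwU, -⟩ := exists_isAffineOpen_mem_and_subset (x := w) (U := ⊤) trivial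
  let j : Spec Γ(W, U) ⟶ W := hU.fromSpec
  obtain ⟨ψ, hψ⟩ := Spec.map_surjective (j ≫ q)
  have hψet : ψ.hom.Etale := by
    have h1 : Etale (Spec.map ψ) := by rw [hψ]; infer_instance
    exact (HasRingHomProperty.Spec_iff (P := @Etale)).1 h1
  algebraize [ψ.hom]
  obtain ⟨y, hy⟩ : ∃ y : Spec Γ(W, U), j y = w := by
    have : w ∈ Set.range j := by
      rw [hU.range_fromSpec]; exact hwU
    exact this
  have hyA : (Spec.map ψ) y = IsLocalRing.closedPoint A := by
    have h1 : (Spec.map ψ) y = (j ≫ q) y :=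
      congrArg (fun f : Spec Γ(W, U) ⟶ Spec (CommRingCat.of A) => f y) hψ
    have h2 : (j ≫ q) y = q (j y) := rfl
    exact h1.trans (h2.trans ((congrArg (fun z => q z) hy).trans hw))
  have hq : y.asIdeal.comap (algebraMap A Γ(W, U)) = IsLocalRing.maximalIdeal A :=
    congrArg PrimeSpectrum.asIdeal hyA
  obtain ⟨e, he, hfin, hey⟩ := H9FE.HensC.ring_split A Γ(W, U) y.asIdeal hq
  let I : Ideal Γ(W, U) := Ideal.span {1 - e}
  haveI : IsLocalization.Away e (Γ(W, U) ⧸ I) :=
    IsLocalization.Away.quotient_of_isIdempotentElem he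
  let π : Γ(W, U) ⟶ CommRingCat.of (Γ(W, U) ⧸ I) :=
    CommRingCat.ofHom (algebraMap Γ(W, U) (Γ(W, U) ⧸ I))
  haveI : IsOpenImmersion (Spec.map π) := IsOpenImmersion.of_isLocalization e
  have hrange := PrimeSpectrum.localization_away_comap_range (Γ(W, U) ⧸ I) e
  have hyb : y ∈ (PrimeSpectrum.basicOpen e : Set (PrimeSpectrum Γ(W, U))) := hey
  rw [← hrange] at hyb
  obtain ⟨w', hw'⟩ := hyb
  haveI hnt : Nontrivial (Γ(W, U) ⧸ I) := ⟨⟨0, 1, fun h => by
    have : (1 : Γ(W, U) ⧸ I) ∈ w'.asIdeal := by rw [← h]; exact Ideal.zero_mem _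
    exact w'.isPrime.ne_top ((Ideal.eq_top_iff_one _).mpr this)⟩⟩
  haveI het : Algebra.Etale A (Γ(W, U) ⧸ I) := by
    haveI : Algebra.Etale Γ(W, U) (Γ(W, U) ⧸ I) := Algebra.Etale.of_isLocalizationAway e
    exact Algebra.Etale.comp A Γ(W, U) (Γ(W, U) ⧸ I)
  refine ⟨Γ(W, U) ⧸ I, inferInstance, inferInstance, hfin, het, hnt, Spec.map π ≫ j,
    inferInstance, ?_⟩
  rw [Category.assoc, ← hψ, ← Spec.map_comp]
  congr 1

end Groth.Agent.Lead.PiHens
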