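import Mathlib
set_option backward.isDefEq.respectTransparency.types false
set_option autoImplicit false
set_option synthInstance.maxHeartbeats 400000
set_option maxHeartbeats 1000000
set_option linter.style.haveILetI false
set_option linter.unusedSectionVars false
set_option linter.unusedSimpArgs false

namespace Groth.Agent.Lead.PiHens
open AlgebraicGeometry CategoryTheory Limits TensorProduct

universe u

/-- a ring map inducing a finite monomorphism on spectra is surjective -/
theorem surjective_of_mono_finite {P Q : Type u} [CommRing P] [CommRing Q] (γ : P →+* Q)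
    (hfin : γ.Finite) (hmono : Mono (Spec.map (CommRingCat.ofHom γ))) : Function.Surjective γ := by
  haveI : IsFinite (Spec.map (CommRingCat.ofHom γ)) := (IsFinite.SpecMap_iff _).2 hfin
  have hci : IsClosedImmersion (Spec.map (CommRingCat.ofHom γ)) :=
    (IsClosedImmersion.iff_isFinite_and_mono _).2 ⟨inferInstance, hmono⟩
  have h2 := (HasAffineProperty.iff_of_isAffine (P := @IsClosedImmersion)).1 hci
  have h3 : Function.Surjective (Spec.map (CommRingCat.ofHom γ)).appTop := h2.2
  have hnat := Scheme.ΓSpecIso_inv_naturality (CommRingCat.ofHom γ)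
  intro z
  obtain ⟨y, hy⟩ := h3 ((Scheme.ΓSpecIso (.of Q)).inv z)
  refine ⟨(Scheme.ΓSpecIso (.of P)).hom y, ?_⟩
  have h4 : (CommRingCat.ofHom γ ≫ (Scheme.ΓSpecIso (.of Q)).inv) ((Scheme.ΓSpecIso (.of P)).hom y) =
      ((Scheme.ΓSpecIso (.of P)).inv ≫ (Spec.map (CommRingCat.ofHom γ)).appTop)
        ((Scheme.ΓSpecIso (.of P)).hom y) := by rw [hnat]
  have h5 : ((Scheme.ΓSpecIso (.of P)).inv ≫ (Spec.map (CommRingCat.ofHom γ)).appTop)
        ((Scheme.ΓSpecIso (.of P)).hom y) = (Spec.map (CommRingCat.ofHom γ)).appTop y := by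
    rw [CommRingCat.comp_apply]
    congr 1
    exact (Scheme.ΓSpecIso (.of P)).hom_inv_id_apply y
  have h6 : (Scheme.ΓSpecIso (.of Q)).inv (γ ((Scheme.ΓSpecIso (.of P)).hom y)) =
      (Scheme.ΓSpecIso (.of Q)).inv z := by
    rw [← hy, ← h5, ← h4]
    rfl
  exact (ConcreteCategory.bijective_of_isIso (Scheme.ΓSpecIso (.of Q)).inv).injective h6

section gamma
variable {O C₀ A B : Type u} [CommRing O] [CommRing C₀] [CommRing A] [CommRing B]
  [Algebra O C₀] [Algebra O B] [Algebra A B] [Module.Finite A B]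

/-- the key surjection: if `Spec (B ⊗_A B)` embeds into `R ×_U Spec B` with `R` embedded in the
spectrum of `C₀`, then `C₀ ⊗_O B → B ⊗_A B` is surjective. -/
theorem exists_gamma {Rr : Scheme.{u}} (s : Rr ⟶ Spec (.of O)) (j₀ : Rr ⟶ Spec (.of C₀)) [Mono j₀]
    (hj₀ : j₀ ≫ Spec.map (CommRingCat.ofHom (algebraMap O C₀)) = s)
    (ψ : Spec (.of (B ⊗[A] B)) ⟶ Rr)
    (hψ : ψ ≫ s = Spec.map (CommRingCat.ofHom
      (Algebra.TensorProduct.includeLeftRingHom : B →+* B ⊗[A] B)) ≫
        Spec.map (CommRingCat.ofHom (algebraMap O B)))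
    (hmono : ∀ (T' : Scheme.{u}) (a b : T' ⟶ Spec (.of (B ⊗[A] B))), a ≫ ψ = b ≫ ψ →
      a ≫ Spec.map (CommRingCat.ofHom
        (Algebra.TensorProduct.includeLeftRingHom : B →+* B ⊗[A] B)) =
      b ≫ Spec.map (CommRingCat.ofHom
        (Algebra.TensorProduct.includeLeftRingHom : B →+* B ⊗[A] B)) → a = b) :
    ∃ γ : C₀ ⊗[O] B →+* B ⊗[A] B, Function.Surjective γ ∧
      (∀ b : B, γ (1 ⊗ₜ b) = b ⊗ₜ 1) := by
  let inl : B →+* B ⊗[A] B := Algebra.TensorProduct.includeLeftRingHom
  obtain ⟨c₀', hc₀'⟩ := Spec.map_surjective (ψ ≫ j₀)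
  let c₀ : C₀ →+* B ⊗[A] B := c₀'.hom
  have hc₀ : Spec.map (CommRingCat.ofHom c₀) = ψ ≫ j₀ := hc₀'
  have hcompat : c₀.comp (algebraMap O C₀) = inl.comp (algebraMap O B) := by
    have h1 : Spec.map (CommRingCat.ofHom (c₀.comp (algebraMap O C₀))) =
        Spec.map (CommRingCat.ofHom (inl.comp (algebraMap O B))) := by
      rw [CommRingCat.ofHom_comp, CommRingCat.ofHom_comp, Spec.map_comp, Spec.map_comp, hc₀,
        Category.assoc, hj₀, hψ]
    have h2 := Spec.map_injective h1
    exact congrArg CommRingCat.Hom.hom h2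
  let c₀a : C₀ →ₐ[O] B ⊗[A] B :=
    { toRingHom := c₀
      commutes' := fun o => by
        have := congrArg (fun f : O →+* B ⊗[A] B => f o) hcompat
        exact this }
  let inla : B →ₐ[O] B ⊗[A] B := Algebra.TensorProduct.includeLeft
  let γa : C₀ ⊗[O] B →ₐ[O] B ⊗[A] B :=
    Algebra.TensorProduct.lift c₀a inla (fun _ _ => Commute.all _ _)
  let γ : C₀ ⊗[O] B →+* B ⊗[A] B := γa.toRingHom
  have hγl : ∀ c : C₀, γ (c ⊗ₜ 1) = c₀ c := by
    intro c
    show γa (c ⊗ₜ 1) = _
    rw [Algebra.TensorProduct.lift_tmul, map_one, mul_one]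
    rfl
  have hγr : ∀ b : B, γ (1 ⊗ₜ b) = b ⊗ₜ 1 := by
    intro b
    show γa (1 ⊗ₜ b) = _
    rw [Algebra.TensorProduct.lift_tmul, map_one, one_mul]
    rfl
  refine ⟨γ, ?_, hγr⟩
  apply surjective_of_mono_finite
  · -- finiteness
    have h1 : γ.comp (Algebra.TensorProduct.includeRight (R := O) (A := C₀) (B := B)).toRingHom =
        inl := by
      ext b
      exact hγr b
    have h2 : inl.Finite := by
      have : Module.Finite B (B ⊗[A] B) := inferInstance
      exact RingHom.finite_algebraMap.mpr this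
    exact RingHom.Finite.of_comp_finite (f :=
      (Algebra.TensorProduct.includeRight (R := O) (A := C₀) (B := B)).toRingHom) (by rw [h1]; exact h2)
  · -- monomorphism
    constructor
    intro T' a b hab
    apply hmono T' a b
    · -- composites to `Rr`
      have h1 : γ.comp (Algebra.TensorProduct.includeLeftRingHom : C₀ →+* C₀ ⊗[O] B) = c₀ := by
        ext c
        exact hγl c
      have h2 := congrArg (fun f => f ≫ Spec.map (CommRingCat.ofHom
        (Algebra.TensorProduct.includeLeftRingHom : C₀ →+* C₀ ⊗[O] B))) hab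
      simp only [Category.assoc, ← Spec.map_comp, ← CommRingCat.ofHom_comp] at h2
      rw [h1, hc₀, ← Category.assoc, ← Category.assoc] at h2
      exact (cancel_mono j₀).mp h2
    · have h1 : γ.comp (Algebra.TensorProduct.includeRight (R := O) (A := C₀) (B := B)).toRingHom =
          inl := by
        ext b
        exact hγr b
      have h2 := congrArg (fun f => f ≫ Spec.map (CommRingCat.ofHom
        ((Algebra.TensorProduct.includeRight (R := O) (A := C₀) (B := B)).toRingHom))) hab
      simp only [Category.assoc, ← Spec.map_comp, ← CommRingCat.ofHom_comp] at h2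
      rw [h1] at h2
      exact h2

end gamma

section coords
variable {O C₀ A B : Type u} [CommRing O] [CommRing C₀] [CommRing A] [CommRing B]
  [Algebra O C₀] [Algebra O B] [Algebra A B] [IsLocalRing A] [Module.Finite A B] [Module.Flat A B]
  [Nontrivial B]

theorem exists_coords (n : ℕ) (c : Fin n → C₀) (hc : Submodule.span O (Set.range c) = ⊤)
    (γ : C₀ ⊗[O] B →+* B ⊗[A] B) (hγ : Function.Surjective γ)
    (hγB : ∀ b : B, γ (1 ⊗ₜ b) = b ⊗ₜ 1) :
    ∃ (β : Fin n → B) (σ : Fin n → (B →ₗ[A] A)), ∀ x, ∑ k, σ k x • β k = x := by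
  classical
  haveI : Module.Free A B := Module.free_of_flat_of_isLocalRing
  set d := Module.finrank A B with hd
  let b : Module.Basis (Fin d) A B := Module.finBasis A B
  have hfr : Module.finrank B (B ⊗[A] B) = d := Module.finrank_baseChange
  let g : Fin n → B ⊗[A] B := fun k => γ (c k ⊗ₜ 1)
  have hspan : Submodule.span B (Set.range g) = ⊤ := by
    rw [eq_top_iff]
    rintro z -
    obtain ⟨w, rfl⟩ := hγ z
    induction w using TensorProduct.induction_on with
    | zero => rw [map_zero]; exact Submodule.zero_mem _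
    | add x y hx hy => rw [map_add]; exact Submodule.add_mem _ hx hy
    | tmul c' b' =>
      have hc' : c' ∈ Submodule.span O (Set.range c) := by rw [hc]; trivial
      obtain ⟨o, rfl⟩ := (Submodule.mem_span_range_iff_exists_fun O).mp hc'
      rw [TensorProduct.sum_tmul, map_sum]
      refine Submodule.sum_mem _ fun k _ => ?_
      have h1 : (o k • c k) ⊗ₜ[O] b' = (c k ⊗ₜ[O] (1 : B)) * ((1 : C₀) ⊗ₜ[O] (o k • b')) := by
        rw [Algebra.TensorProduct.tmul_mul_tmul, mul_one, one_mul, TensorProduct.smul_tmul]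
      rw [h1, map_mul, hγB]
      have hgen : ∀ (y : B) (m : B ⊗[A] B), m * (y ⊗ₜ[A] (1 : B)) = y • m := by
        intro y m
        induction m using TensorProduct.induction_on with
        | zero => rw [zero_mul, smul_zero]
        | add m₁ m₂ h₁ h₂ => rw [add_mul, smul_add, h₁, h₂]
        | tmul u v =>
          rw [Algebra.TensorProduct.tmul_mul_tmul, mul_one, TensorProduct.smul_tmul', smul_eq_mul,
            mul_comm]
      have h2 : γ (c k ⊗ₜ[O] (1 : B)) * ((o k • b') ⊗ₜ[A] (1 : B)) = (o k • b') • g k :=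
        hgen _ _
      rw [h2]
      exact Submodule.smul_mem _ _ (Submodule.subset_span ⟨k, rfl⟩)
  have hdn : d ≤ n := by
    have h1 := finrank_range_le_card (R := B) g
    rw [Set.finrank, hspan, finrank_top, hfr, Fintype.card_fin] at h1
    exact h1
  let e : Fin d ↪ Fin n := Fin.castLEEmb hdn
  refine ⟨fun k => if h : (k : ℕ) < d then b ⟨k, h⟩ else 0,
    fun k => if h : (k : ℕ) < d then b.coord ⟨k, h⟩ else 0, fun x => ?_⟩
  have hsub : ∑ k ∈ Finset.univ.map e,
      ((if h : (k : ℕ) < d then b.coord ⟨k, h⟩ else 0 : B →ₗ[A] A) x) •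
        (if h : (k : ℕ) < d then b ⟨k, h⟩ else 0) =
      ∑ k : Fin n, ((if h : (k : ℕ) < d then b.coord ⟨k, h⟩ else 0 : B →ₗ[A] A) x) •
        (if h : (k : ℕ) < d then b ⟨k, h⟩ else 0) := by
    apply Finset.sum_subset (Finset.subset_univ _)
    intro k _ hk
    have hkd : ¬ (k : ℕ) < d := by
      intro h
      apply hk
      rw [Finset.mem_map]
      exact ⟨⟨k, h⟩, Finset.mem_univ _, Fin.ext rfl⟩
    rw [dif_neg hkd, dif_neg hkd, smul_zero]
  rw [← hsub, Finset.sum_map]
  conv_rhs => rw [← b.sum_repr x]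
  refine Finset.sum_congr rfl fun k _ => ?_
  have hk : ((e k : Fin n) : ℕ) < d := k.2
  rw [dif_pos hk, dif_pos hk]
  rfl

end coords

end Groth.Agent.Lead.PiHens
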