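import Mathlib
import Groth.Agent.Lib.Lead.PiHensA
set_option backward.isDefEq.respectTransparency.types false
set_option autoImplicit false
set_option synthInstance.maxHeartbeats 400000
set_option maxHeartbeats 1000000
set_option linter.style.haveILetI false
set_option linter.unusedSectionVars false
set_option linter.unusedSimpArgs false

namespace Groth.Agent.Lead.PiHens
open AlgebraicGeometry CategoryTheory Limits TensorProduct

universe u

section
variable {ι : Type u} {A : ι → Type u} {B : ι → Type u} [∀ i, CommRing (A i)] [∀ i, CommRing (B i)]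
  [∀ i, Algebra (A i) (B i)]
variable (n : ℕ) (β : ∀ i, Fin n → B i) (σ : ∀ i, Fin n → (B i →ₗ[A i] A i))
  (hβ : ∀ i (x : B i), ∑ k, σ i k x • β i k = x)

attribute [local instance] piAlgebra

/-- coordinates of the product -/
noncomputable def sP : (∀ i, B i) →ₗ[∀ i, A i] (Fin n → ∀ i, A i) where
  toFun b k i := σ i k (b i)
  map_add' x y := by
    funext k i
    exact map_add (σ i k) (x i) (y i)
  map_smul' a x := by
    funext k i
    show σ i k (a i • x i) = a i • σ i k (x i)
    exact map_smul (σ i k) (a i) (x i)

noncomputable def rP : (Fin n → ∀ i, A i) →ₗ[∀ i, A i] (∀ i, B i) :=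
  Fintype.linearCombination (∀ i, A i) (fun k => (fun i => β i k : ∀ i, B i))

include hβ in
theorem rP_sP (b : ∀ i, B i) : rP n β (sP n σ b) = b := by
  rw [rP, Fintype.linearCombination_apply]
  funext i
  rw [Finset.sum_apply]
  exact hβ i (b i)

include hβ in
theorem pi_finite : Module.Finite (∀ i, A i) (∀ i, B i) :=
  Module.Finite.of_surjective (rP n β) (fun b => ⟨sP n σ b, rP_sP n β σ hβ b⟩)

include hβ in
theorem pi_projective : Module.Projective (∀ i, A i) (∀ i, B i) :=
  Module.Projective.of_split (sP n σ) (rP n β) (LinearMap.ext fun b => rP_sP n β σ hβ b)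

include hβ in
theorem pi_specMap_props (hinj : ∀ i, Function.Injective (algebraMap (A i) (B i))) :
    Flat (Spec.map (CommRingCat.ofHom (algebraMap (∀ i, A i) (∀ i, B i)))) ∧
    LocallyOfFinitePresentation (Spec.map (CommRingCat.ofHom (algebraMap (∀ i, A i) (∀ i, B i)))) ∧
    Surjective (Spec.map (CommRingCat.ofHom (algebraMap (∀ i, A i) (∀ i, B i)))) := by
  haveI := pi_finite n β σ hβ
  haveI := pi_projective n β σ hβ
  haveI : Module.Flat (∀ i, A i) (∀ i, B i) := inferInstance
  haveI : Module.FinitePresentation (∀ i, A i) (∀ i, B i) :=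
    Module.finitePresentation_of_projective _ _
  haveI : Algebra.FinitePresentation (∀ i, A i) (∀ i, B i) := inferInstance
  refine ⟨?_, ?_, ?_⟩
  · rw [HasRingHomProperty.Spec_iff (P := @Flat)]
    exact RingHom.flat_algebraMap_iff.mpr inferInstance
  · rw [HasRingHomProperty.Spec_iff (P := @LocallyOfFinitePresentation)]
    exact RingHom.finitePresentation_algebraMap.mpr inferInstance
  · have hint : (algebraMap (∀ i, A i) (∀ i, B i)).IsIntegral :=
      algebraMap_isIntegral_iff.mpr inferInstance
    have hinj' : Function.Injective (algebraMap (∀ i, A i) (∀ i, B i)) := by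
      intro x y hxy
      funext i
      exact hinj i (congrFun hxy i)
    exact ⟨RingHom.IsIntegral.comap_surjective hint hinj'⟩

end

end Groth.Agent.Lead.PiHens
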