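import Mathlib
import Groth.Prelude.Def_AlgSp4
import Groth.Agent.Lib.Helper2.AlgSp.QC
import Groth.Agent.Lib.Lead.PiHensC
import Groth.Agent.Lib.Lead.PiHensD
set_option backward.isDefEq.respectTransparency.types false
set_option autoImplicit false
set_option synthInstance.maxHeartbeats 400000
set_option maxHeartbeats 1000000
set_option linter.style.haveILetI false
set_option linter.unusedSectionVars false
set_option linter.unusedSimpArgs false

namespace Groth.Agent.Lead.PiHens
open AlgebraicGeometry CategoryTheory Limits AlgSp TensorProduct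
open Groth.Agent.Helper2.AlgSpBasic

universe u

variable {S : Scheme.{u}}

/-- joint monicity of the legs of a representable pullback square -/
theorem over_hom_ext_of_isPullback_yon {F : Sp S} {U V W : Over S} {a : (yon S).obj U ⟶ F}
    {b : (yon S).obj V ⟶ F} {f₁ : W ⟶ U} {f₂ : W ⟶ V}
    (sq : IsPullback ((yon S).map f₁) ((yon S).map f₂) a b) {T' : Over S} (x y : T' ⟶ W)
    (h₁ : x ≫ f₁ = y ≫ f₁) (h₂ : x ≫ f₂ = y ≫ f₂) : x = y := by
  apply (yon S).map_injective
  apply sq.hom_ext
  · rw [← Functor.map_comp, ← Functor.map_comp, h₁]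
  · rw [← Functor.map_comp, ← Functor.map_comp, h₂]

/-- lifting into a representable pullback square -/
theorem exists_over_lift_of_isPullback_yon {F : Sp S} {U V W : Over S} {a : (yon S).obj U ⟶ F}
    {b : (yon S).obj V ⟶ F} {f₁ : W ⟶ U} {f₂ : W ⟶ V}
    (sq : IsPullback ((yon S).map f₁) ((yon S).map f₂) a b) {T' : Over S} (x : T' ⟶ U) (y : T' ⟶ V)
    (h : (yon S).map x ≫ a = (yon S).map y ≫ b) : ∃ l : T' ⟶ W, l ≫ f₁ = x ∧ l ≫ f₂ = y := by
  obtain ⟨l, hl1, hl2⟩ := sq.exists_lift _ _ h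
  obtain ⟨l, rfl⟩ := (yon S).map_surjective l
  refine ⟨l, (yon S).map_injective ?_, (yon S).map_injective ?_⟩
  · rw [Functor.map_comp]; exact hl1
  · rw [Functor.map_comp]; exact hl2

open CommRingCat in
/-- the local step: over a henselian local ring, a point of `X` lifts to the atlas after a finite
étale extension with a uniformly bounded coordinate system. -/
theorem local_step (X : Sp S) (hX : IsAlgSpace X) {U R : Over S} [IsAffine U.left]
    (p : (yon S).obj U ⟶ X) (hpe : RepWith @Etale p) (hps : RepWith @Surjective p)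
    (a₁ a₂ : R ⟶ U) (sqR : IsPullback ((yon S).map a₁) ((yon S).map a₂) p p)
    {C₀ : Type u} [CommRing C₀] [Algebra Γ(U.left, ⊤) C₀] (j₀ : R.left ⟶ Spec (.of C₀)) [Mono j₀]
    (hj₀ : j₀ ≫ Spec.map (CommRingCat.ofHom (algebraMap Γ(U.left, ⊤) C₀)) =
      a₂.left ≫ U.left.isoSpec.hom)
    (n : ℕ) (c : Fin n → C₀) (hc : Submodule.span Γ(U.left, ⊤) (Set.range c) = ⊤)
    (A : Type u) [CommRing A] [HenselianLocalRing A] (t : Spec (.of A) ⟶ S)
    (g : (yon S).obj (Over.mk t) ⟶ X) :
    ∃ (B : Type u) (_ : CommRing B) (_ : Algebra A B) (β : Fin n → B) (σ : Fin n → B →ₗ[A] A),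
      (∀ x, ∑ k, σ k x • β k = x) ∧ Function.Injective (algebraMap A B) ∧
      Flat (Spec.map (CommRingCat.ofHom (algebraMap A B))) ∧
      LocallyOfFinitePresentation (Spec.map (CommRingCat.ofHom (algebraMap A B))) ∧
      Surjective (Spec.map (CommRingCat.ofHom (algebraMap A B))) ∧
      ∃ φ : Over.mk (Spec.map (CommRingCat.ofHom (algebraMap A B)) ≫ t) ⟶ U,
        (yon S).map φ ≫ p =
          (yon S).map (Over.homMk (Spec.map (CommRingCat.ofHom (algebraMap A B))) rfl :
            Over.mk (Spec.map (CommRingCat.ofHom (algebraMap A B)) ≫ t) ⟶ Over.mk t) ≫ g := by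
  classical
  let Ti : Over S := Over.mk t
  obtain ⟨W, r, q, sqW⟩ := exists_isPullback_yon hX.diag p g
  have hqe : Etale q.left := hpe.property g _ _ sqW
  have hqs : Surjective q.left := hps.property g _ _ sqW
  obtain ⟨w, hw⟩ := hqs.surj (IsLocalRing.closedPoint A)
  obtain ⟨B, _, _, hfin, het, hnt, v, hvm, hv⟩ := exists_finite_etale_lift A q.left w hw
  let algm : Spec (.of B) ⟶ Spec (.of A) := Spec.map (CommRingCat.ofHom (algebraMap A B))
  let TB : Over S := Over.mk (algm ≫ t)
  let cB : TB ⟶ Ti := Over.homMk algm rfl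
  let vO : TB ⟶ W := Over.homMk v (by
    show v ≫ W.hom = algm ≫ t
    rw [← Over.w q, ← Category.assoc, hv]
    rfl)
  have hvq : vO ≫ q = cB := by
    ext
    exact hv
  obtain ⟨φO, hφO⟩ : ∃ φO : TB ⟶ U, φO = vO ≫ r := ⟨_, rfl⟩
  have hstar : (yon S).map φO ≫ p = (yon S).map cB ≫ g := by
    rw [hφO, CategoryTheory.Functor.map_comp, Category.assoc, sqW.w, ← Category.assoc,
      ← CategoryTheory.Functor.map_comp, hvq]
  -- the tensor square
  let inl : B →+* B ⊗[A] B := Algebra.TensorProduct.includeLeftRingHom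
  let inr : B →+* B ⊗[A] B :=
    (Algebra.TensorProduct.includeRight (R := A) (A := B) (B := B)).toRingHom
  have hsqB : IsPullback (Spec.map (ofHom inl)) (Spec.map (ofHom inr)) algm algm :=
    isPullback_SpecMap_of_isPushout _ _ _ _ (CommRingCat.isPushout_tensorProduct A B B)
  let V2 : Over S := Over.mk (Spec.map (ofHom inl) ≫ TB.hom)
  let π₁ : V2 ⟶ TB := Over.homMk (Spec.map (ofHom inl)) rfl
  let π₂ : V2 ⟶ TB := Over.homMk (Spec.map (ofHom inr)) (by
    show Spec.map (ofHom inr) ≫ algm ≫ t = Spec.map (ofHom inl) ≫ algm ≫ t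
    rw [← Category.assoc, ← Category.assoc, hsqB.w])
  have hπc : π₁ ≫ cB = π₂ ≫ cB := by
    ext
    exact hsqB.w
  have hcompat : (yon S).map (π₂ ≫ φO) ≫ p = (yon S).map (π₁ ≫ φO) ≫ p := by
    rw [CategoryTheory.Functor.map_comp, CategoryTheory.Functor.map_comp, Category.assoc,
      Category.assoc, hstar, ← Category.assoc, ← Category.assoc,
      ← CategoryTheory.Functor.map_comp, ← CategoryTheory.Functor.map_comp, hπc]
  obtain ⟨ψO, hψ1, hψ2⟩ := exists_over_lift_of_isPullback_yon sqR (π₂ ≫ φO) (π₁ ≫ φO) hcompat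
  obtain ⟨f', hf'⟩ := Spec.map_surjective (φO.left ≫ U.left.isoSpec.hom)
  letI : Algebra Γ(U.left, ⊤) B := f'.hom.toAlgebra
  have hfalg : Spec.map (CommRingCat.ofHom (algebraMap Γ(U.left, ⊤) B)) =
      φO.left ≫ U.left.isoSpec.hom := hf'
  have hψ : ψO.left ≫ (a₂.left ≫ U.left.isoSpec.hom) =
      Spec.map (CommRingCat.ofHom inl) ≫
        Spec.map (CommRingCat.ofHom (algebraMap Γ(U.left, ⊤) B)) := by
    rw [hfalg, ← Category.assoc, ← Over.comp_left, hψ2]
    rfl
  have hmono : ∀ (T' : Scheme.{u}) (a b : T' ⟶ Spec (.of (B ⊗[A] B))),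
      a ≫ ψO.left = b ≫ ψO.left →
      a ≫ Spec.map (CommRingCat.ofHom inl) = b ≫ Spec.map (CommRingCat.ofHom inl) → a = b := by
    intro T' a b h1 h2
    apply hsqB.hom_ext h2
    let T'O : Over S := Over.mk (a ≫ V2.hom)
    let aO : T'O ⟶ V2 := Over.homMk a rfl
    let bO : T'O ⟶ V2 := Over.homMk b (by
      show b ≫ Spec.map (ofHom inl) ≫ TB.hom = a ≫ Spec.map (ofHom inl) ≫ TB.hom
      rw [← Category.assoc, ← Category.assoc, h2])
    have e1 : aO ≫ π₁ = bO ≫ π₁ := by
      ext
      exact h2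
    have e2 : aO ≫ ψO = bO ≫ ψO := by
      ext
      exact h1
    have e3 : aO ≫ π₂ ≫ vO = bO ≫ π₂ ≫ vO := by
      apply over_hom_ext_of_isPullback_yon sqW
      · show (aO ≫ π₂ ≫ vO) ≫ r = (bO ≫ π₂ ≫ vO) ≫ r
        rw [Category.assoc, Category.assoc, Category.assoc, Category.assoc, ← hφO, ← hψ1,
          ← Category.assoc, ← Category.assoc, e2]
      · rw [Category.assoc, Category.assoc, Category.assoc, Category.assoc, hvq, ← hπc,
          ← Category.assoc, ← Category.assoc, e1]
    have e4 := congrArg (fun m => m.left) e3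
    simp only [Over.comp_left] at e4
    have e5 : (a ≫ Spec.map (ofHom inr)) ≫ v = (b ≫ Spec.map (ofHom inr)) ≫ v := by
      rw [Category.assoc, Category.assoc]
      exact e4
    exact (cancel_mono v).mp e5
  obtain ⟨γ, hγ, hγB⟩ := exists_gamma (O := Γ(U.left, ⊤)) (A := A) (B := B)
    (a₂.left ≫ U.left.isoSpec.hom) j₀ hj₀ ψO.left hψ hmono
  haveI : Module.Flat A B := inferInstance
  obtain ⟨β, σ, hβ⟩ := exists_coords (O := Γ(U.left, ⊤)) (A := A) (B := B) n c hc γ hγ hγB
  haveI : Module.Free A B := Module.free_of_flat_of_isLocalRing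
  have hinj : Function.Injective (algebraMap A B) := FaithfulSMul.algebraMap_injective A B
  refine ⟨B, inferInstance, inferInstance, β, σ, hβ, hinj, ?_, ?_, ?_, φO, hstar⟩
  · rw [HasRingHomProperty.Spec_iff (P := @Flat)]
    exact RingHom.flat_algebraMap_iff.mpr inferInstance
  · rw [HasRingHomProperty.Spec_iff (P := @LocallyOfFinitePresentation)]
    exact RingHom.finitePresentation_algebraMap.mpr inferInstance
  · have hint : (algebraMap A B).IsIntegral := algebraMap_isIntegral_iff.mpr inferInstance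
    exact ⟨RingHom.IsIntegral.comap_surjective hint hinj⟩

end Groth.Agent.Lead.PiHens
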