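import Mathlib
set_option backward.isDefEq.respectTransparency.types false
set_option autoImplicit false
set_option synthInstance.maxHeartbeats 400000
set_option maxHeartbeats 1000000
set_option linter.style.haveILetI false
set_option linter.unusedSectionVars false
set_option linter.unusedSimpArgs false

namespace Groth.Agent.Lead.PiPts
open AlgebraicGeometry CategoryTheory Limits

universe u

/-- A quasi-compact open of `Spec (Π A_i)` containing the image of every `Spec A_i` is everything. -/
theorem compact_open_eq_univ {ι : Type u} (A : ι → Type u) [∀ i, CommRing (A i)]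
    (U : Set (PrimeSpectrum (∀ i, A i))) (hU : IsOpen U) (hc : IsCompact U)
    (h : ∀ i (q : PrimeSpectrum (A i)), PrimeSpectrum.comap (Pi.evalRingHom A i) q ∈ U) :
    U = Set.univ := by
  classical
  obtain ⟨t, rfl⟩ := PrimeSpectrum.isCompact_isOpen_iff.mp ⟨hc, hU⟩
  -- for each i the components generate the unit ideal
  have hi : ∀ i, Ideal.span ((fun f : (∀ i, A i) => f i) '' (t : Set (∀ i, A i))) = (⊤ : Ideal (A i)) := by
    intro i
    by_contra hne
    obtain ⟨m, hm, hle⟩ := Ideal.exists_le_maximal _ hne
    have hq := h i ⟨m, hm.isPrime⟩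
    apply hq
    rw [PrimeSpectrum.mem_zeroLocus]
    intro f hf
    show f i ∈ m
    exact hle (Ideal.subset_span ⟨f, hf, rfl⟩)
  -- choose coefficients
  have hc : ∀ i, ∃ c : (∀ i, A i) → A i, ∑ f ∈ t, c f * f i = 1 := by
    intro i
    have h1 : (1 : A i) ∈ Ideal.span ((fun f : (∀ i, A i) => f i) '' (t : Set (∀ i, A i))) := by
      rw [hi i]; trivial
    obtain ⟨c, hc⟩ := (Submodule.mem_span_image_finset_iff_exists_fun' (R := A i) (s := t)
      (v := fun f : (∀ i, A i) => f i) (x := (1 : A i))).mp h1
    exact ⟨c, by simpa [smul_eq_mul] using hc⟩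
  choose c hc using hc
  have h1 : (1 : ∀ i, A i) ∈ Ideal.span (t : Set (∀ i, A i)) := by
    have : (1 : ∀ i, A i) = ∑ f ∈ t, (fun i => c i f) * f := by
      funext i
      simp only [Pi.one_apply, Finset.sum_apply, Pi.mul_apply]
      exact (hc i).symm
    rw [this]
    exact Ideal.sum_mem _ fun f hf => Ideal.mul_mem_left _ _ (Ideal.subset_span hf)
  have : Ideal.span (t : Set (∀ i, A i)) = ⊤ := (Ideal.eq_top_iff_one _).mpr h1
  rw [← PrimeSpectrum.zeroLocus_span, this]
  simp

end Groth.Agent.Lead.PiPts
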