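import Mathlib
import Groth.Agent.Lib.Lead.PiPtsA
set_option backward.isDefEq.respectTransparency.types false
set_option autoImplicit false
set_option synthInstance.maxHeartbeats 400000
set_option maxHeartbeats 1000000
set_option linter.style.haveILetI false
set_option linter.unusedSectionVars false
set_option linter.unusedSimpArgs false

namespace Groth.Agent.Lead.PiPts
open AlgebraicGeometry CategoryTheory Limits

universe u

/-- A separated quasi-finite morphism to `Spec (Π A_i)` through which every `Spec A_i` factors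
has a section. -/
theorem exists_section {ι : Type u} (A : ι → CommRingCat.{u}) {E : Scheme.{u}}
    (e : E ⟶ Spec (CommRingCat.of (∀ i, A i))) [LocallyQuasiFinite e] [LocallyOfFiniteType e]
    [IsSeparated e] [QuasiCompact e]
    (s : ∀ i, Spec (A i) ⟶ E)
    (hs : ∀ i, s i ≫ e =
      Spec.map (CommRingCat.ofHom (Pi.evalRingHom (fun j => (A j : Type u)) i))) :
    ∃ σ : Spec (CommRingCat.of (∀ i, A i)) ⟶ E, σ ≫ e = 𝟙 _ := by
  let T := Spec (CommRingCat.of (∀ i, A i))
  let ev : ∀ i, CommRingCat.of (∀ i, A i) ⟶ A i := fun i =>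
    CommRingCat.ofHom (Pi.evalRingHom (fun j => (A j : Type u)) i)
  let N := e.normalization
  have hN : IsAffine N := isAffine_of_isAffineHom e.fromNormalization
  have hopen : IsOpenImmersion e.toNormalization := inferInstance
  let t : ∀ i, Spec (A i) ⟶ N := fun i => s i ≫ e.toNormalization
  let φi : ∀ i, Γ(N, ⊤) ⟶ A i := fun i => (t i).appTop ≫ (Scheme.ΓSpecIso (A i)).hom
  let φ : Γ(N, ⊤) ⟶ CommRingCat.of (∀ i, A i) :=
    CommRingCat.ofHom (Pi.ringHom (fun i => (φi i).hom))
  have hφ : ∀ i, φ ≫ ev i = φi i := by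
    intro i
    ext x
    rfl
  let τ : T ⟶ N := Spec.map φ ≫ N.isoSpec.inv
  have hτ : ∀ i, Spec.map (ev i) ≫ τ = t i := by
    intro i
    rw [← cancel_mono N.isoSpec.hom]
    simp only [τ, Category.assoc, Iso.inv_hom_id, Category.comp_id]
    rw [← Spec.map_comp, hφ i]
    rw [Scheme.isoSpec_hom, Scheme.toSpecΓ_naturality, ← SpecMap_ΓSpecIso_hom, ← Spec.map_comp]
  have hτe : τ ≫ e.fromNormalization = 𝟙 T := by
    obtain ⟨ψ, hψ⟩ : ∃ ψ : CommRingCat.of (∀ i, A i) ⟶ CommRingCat.of (∀ i, A i),
        Spec.map ψ = τ ≫ e.fromNormalization := ⟨Spec.preimage _, Spec.map_preimage _⟩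
    have h1 : ∀ i, ψ ≫ ev i = ev i := by
      intro i
      apply Spec.map_injective
      rw [Spec.map_comp, hψ, ← Category.assoc, hτ i]
      simp only [t, Category.assoc, Scheme.Hom.toNormalization_fromNormalization]
      exact hs i
    have h2 : ψ = 𝟙 _ := by
      ext x i
      have := congrArg (fun f => f.hom x) (h1 i)
      exact this
    rw [← hψ, h2, Spec.map_id]
  -- the preimage of the open `E ⊆ N`
  have hEc : CompactSpace E := by
    have : QuasiCompact (e ≫ 𝟙 _) := by rw [Category.comp_id]; infer_instance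
    exact (quasiCompact_iff_compactSpace e).mp inferInstance
  have hrc : IsCompact (Set.range e.toNormalization) := isCompact_range e.toNormalization.continuous
  have hro : IsOpen (Set.range e.toNormalization) := e.toNormalization.isOpenEmbedding.isOpen_range
  have hpre : τ ⁻¹' (Set.range e.toNormalization) = Set.univ := by
    refine compact_open_eq_univ (fun i => (A i : Type u)) _ (hro.preimage τ.continuous)
      (QuasiCompact.isCompact_preimage (f := τ) _ hro hrc) ?_
    intro i q
    have h1 : (Spec.map (ev i) ≫ τ) q = (t i) q := by rw [hτ i]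
    have h2 : (Spec.map (ev i) ≫ τ) q =
        τ (PrimeSpectrum.comap (Pi.evalRingHom (fun j => (A j : Type u)) i) q) := rfl
    refine Set.mem_preimage.mpr ?_
    rw [← h2, h1]
    exact ⟨s i q, rfl⟩
  have hrange : Set.range τ ⊆ Set.range e.toNormalization := by
    rintro _ ⟨x, rfl⟩
    have : x ∈ τ ⁻¹' (Set.range e.toNormalization) := by rw [hpre]; trivial
    exact this
  refine ⟨IsOpenImmersion.lift e.toNormalization τ hrange, ?_⟩
  have h := IsOpenImmersion.lift_fac e.toNormalization τ hrange
  calc IsOpenImmersion.lift e.toNormalization τ hrange ≫ e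
      = IsOpenImmersion.lift e.toNormalization τ hrange ≫ e.toNormalization ≫
          e.fromNormalization := by rw [Scheme.Hom.toNormalization_fromNormalization]
    _ = 𝟙 _ := by rw [← Category.assoc, h, hτe]

end Groth.Agent.Lead.PiPts
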