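import Mathlib
import Groth.Prelude.Def_AlgSp4
import Groth.Agent.Lib.Lead.PiPtsB
import Groth.Agent.Lib.Helper2.AlgSp.Mor
set_option backward.isDefEq.respectTransparency.types false
set_option autoImplicit false
set_option synthInstance.maxHeartbeats 400000
set_option maxHeartbeats 1000000
set_option linter.style.haveILetI false
set_option linter.unusedSectionVars false
set_option linter.unusedSimpArgs false

namespace Groth.Agent.Lead.PiPts
open AlgebraicGeometry CategoryTheory Limits AlgSp

universe u

theorem main17862 (S : Scheme.{u})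
    (X : AlgSp.Space S) (hqs : AlgSp.IsQuasiSeparatedSp X.obj)
    {ι : Type u} (A : ι → CommRingCat.{u}) (h : Spec (CommRingCat.of (∀ i, A i)) ⟶ S) :
    Function.Injective (fun g : (AlgSp.ofScheme S).obj (Over.mk h) ⟶ X => fun i : ι =>
      (AlgSp.ofScheme S).map (Over.homMk
        (Spec.map (CommRingCat.ofHom (Pi.evalRingHom (fun j => (A j : Type u)) i)))
        rfl : Over.mk (Spec.map (CommRingCat.ofHom (Pi.evalRingHom (fun j => (A j : Type u)) i)) ≫ h) ⟶
          Over.mk h) ≫ g) := by
  intro g1 g2 hg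
  let T : Over S := Over.mk h
  let Ti : ι → Over S := fun i =>
    Over.mk (Spec.map (CommRingCat.ofHom (Pi.evalRingHom (fun j => (A j : Type u)) i)) ≫ h)
  let ιi : ∀ i, Ti i ⟶ T := fun i => Over.homMk
        (Spec.map (CommRingCat.ofHom (Pi.evalRingHom (fun j => (A j : Type u)) i))) rfl
  have ha : ∃ a1 : (yon S).obj T ⟶ X.obj, a1 = g1.hom := ⟨_, rfl⟩
  obtain ⟨a1, ha1⟩ := ha
  have ha : ∃ a2 : (yon S).obj T ⟶ X.obj, a2 = g2.hom := ⟨_, rfl⟩
  obtain ⟨a2, ha2⟩ := ha
  have hgi : ∀ i, (yon S).map (ιi i) ≫ a1 = (yon S).map (ιi i) ≫ a2 := by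
    rw [ha1, ha2]
    intro i
    have := congrArg (fun f => f.hom) (congrFun hg i)
    exact this
  obtain ⟨V, snd, fst, sq⟩ := X.property.diag (prod.lift a1 a2)
  have hqc : QuasiCompact snd.left := ((repWith_iff _ _).1 hqs).2 _ fst snd sq
  obtain ⟨p1, p2, p3, p4⟩ := Groth.Agent.Helper2.AlgSpBasic.repWith_diag_properties X.property
  have hlft : LocallyOfFiniteType snd.left := ((repWith_iff _ _).1 p1).2 _ fst snd sq
  have hsep : IsSeparated snd.left := ((repWith_iff _ _).1 p3).2 _ fst snd sq
  have hlqf : LocallyQuasiFinite snd.left := (((repWith_iff _ _).1 p4).2 _ fst snd sq).1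
  -- the sections
  have hsec : ∀ i, ∃ s : Ti i ⟶ V, s ≫ snd = ιi i := by
    intro i
    have hcomm : ((yon S).map (ιi i) ≫ a1) ≫ Limits.diag X.obj =
        (yon S).map (ιi i) ≫ prod.lift a1 a2 := by
      apply Limits.prod.hom_ext
      · rw [Category.assoc, Category.assoc, Category.assoc, prod.lift_fst]
        erw [prod.lift_fst]
        rw [Category.comp_id]
      · rw [Category.assoc, Category.assoc, Category.assoc, prod.lift_snd]
        erw [prod.lift_snd]
        rw [Category.comp_id]
        exact hgi i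
    obtain ⟨l, hl1, hl2⟩ := sq.exists_lift _ _ hcomm
    obtain ⟨s, rfl⟩ := (yon S).map_surjective l
    refine ⟨s, (yon S).map_injective ?_⟩
    rw [Functor.map_comp]
    exact hl2
  choose s hs using hsec
  obtain ⟨σ, hσ⟩ := exists_section A (E := V.left) snd.left (fun i => (s i).left) (by
    intro i
    have := congrArg (fun f => f.left) (hs i)
    exact this)
  let σ' : T ⟶ V := Over.homMk σ (by
    have hw := Over.w snd
    show σ ≫ V.hom = h
    rw [← hw, ← Category.assoc, hσ]
    exact Category.id_comp _)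
  have hσ' : σ' ≫ snd = 𝟙 T := by
    ext
    exact hσ
  have e1 : (yon S).map snd ≫ a1 = fst := by
    have := congrArg (fun f => f ≫ prod.fst) sq.w
    simp only [Category.assoc] at this
    rw [prod.lift_fst] at this
    erw [prod.lift_fst] at this
    exact this.symm.trans (Category.comp_id _)
  have e2 : (yon S).map snd ≫ a2 = fst := by
    have := congrArg (fun f => f ≫ prod.snd) sq.w
    simp only [Category.assoc] at this
    rw [prod.lift_snd] at this
    erw [prod.lift_snd] at this
    exact this.symm.trans (Category.comp_id _)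
  apply ObjectProperty.hom_ext
  have c1 : a1 = (yon S).map (σ' ≫ snd) ≫ a1 := by
    rw [hσ', CategoryTheory.Functor.map_id]; exact (Category.id_comp _).symm
  have c2 : (yon S).map (σ' ≫ snd) ≫ a1 = (yon S).map σ' ≫ fst := by
    rw [Functor.map_comp, Category.assoc, e1]
  have c3 : (yon S).map σ' ≫ fst = (yon S).map (σ' ≫ snd) ≫ a2 := by
    rw [Functor.map_comp, Category.assoc, e2]
  have c4 : (yon S).map (σ' ≫ snd) ≫ a2 = a2 := by
    rw [hσ', CategoryTheory.Functor.map_id]; exact Category.id_comp _
  rw [← ha1, ← ha2]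
  exact c1.trans (c2.trans (c3.trans c4))

end Groth.Agent.Lead.PiPts
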