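import Mathlib
import Groth.Prelude.Def_AlgSp4
import Groth.Agent.Lib.Helper2.AlgSp.QC
import Groth.Agent.Lib.Helper2.AlgSp.Points
import Groth.Agent.Lib.Helper2.AlgSp.Sep
import Groth.Agent.Lib.Helper2.AlgSp.FormalLift
import Groth.Agent.Lib.Helper2.AlgSp.FormalUnr
import Groth.Agent.Lib.Lead.PiHensA
import Groth.Agent.Lib.Lead.PiHensB
import Groth.Agent.Lib.Lead.PiHensE
import Groth.Agent.Lib.Lead.PiHensF
import Groth.Agent.Lib.Lead.PiPtsC
set_option backward.isDefEq.respectTransparency.types false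
set_option autoImplicit false
set_option synthInstance.maxHeartbeats 400000
set_option maxHeartbeats 1000000
set_option linter.style.haveILetI false
set_option linter.unusedSectionVars false
set_option linter.unusedSimpArgs false

namespace Groth.Agent.Lead.PiHens
open AlgebraicGeometry CategoryTheory Limits AlgSp TensorProduct
open Groth.Agent.Helper2.AlgSpBasic Groth.Agent.Helper2.AlgSpFormal

universe u

theorem lqf_of_etale' {X Y : Scheme.{u}} (f : X ⟶ Y) [Etale f] :
    LocallyQuasiFinite f := by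
  rw [HasRingHomProperty.iff_appLE (P := @LocallyQuasiFinite)]
  intro U V e
  have h := (HasRingHomProperty.iff_appLE (P := @Etale)).mp ‹Etale f› U V e
  algebraize [(f.appLE U V e).hom]
  have : Algebra.Etale Γ(Y, U) Γ(X, V) := h
  exact (inferInstance : Algebra.QuasiFinite Γ(Y, U) Γ(X, V))

theorem spec_pi_hom_ext {S : Scheme.{u}} [IsAffine S] {ι : Type u} (B : ι → Type u)
    [∀ i, CommRing (B i)] (x y : Spec (.of (∀ i, B i)) ⟶ S)
    (H : ∀ i, Spec.map (CommRingCat.ofHom (Pi.evalRingHom B i)) ≫ x =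
      Spec.map (CommRingCat.ofHom (Pi.evalRingHom B i)) ≫ y) : x = y := by
  rw [← cancel_mono S.isoSpec.hom]
  obtain ⟨fx, hfx⟩ := Spec.map_surjective (x ≫ S.isoSpec.hom)
  obtain ⟨fy, hfy⟩ := Spec.map_surjective (y ≫ S.isoSpec.hom)
  rw [← hfx, ← hfy]
  congr 1
  ext s i
  have h2 : Spec.map (fx ≫ CommRingCat.ofHom (Pi.evalRingHom B i)) =
      Spec.map (fy ≫ CommRingCat.ofHom (Pi.evalRingHom B i)) := by
    rw [Spec.map_comp, Spec.map_comp, hfx, hfy, ← Category.assoc, ← Category.assoc, H i]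
  have h3 := Spec.map_injective h2
  exact congrArg (fun f => f.hom s) h3

theorem yon_hom_ext_pi {S : Scheme.{u}} (X : AlgSp.Space S) (hqs : IsQuasiSeparatedSp X.obj)
    {ι : Type u} (A : ι → Type u) [∀ i, CommRing (A i)] (h : Spec (.of (∀ i, A i)) ⟶ S)
    (a1 a2 : (yon S).obj (Over.mk h) ⟶ X.obj)
    (H : ∀ i, (yon S).map (Over.homMk (Spec.map (CommRingCat.ofHom (Pi.evalRingHom A i))) rfl :
        Over.mk (Spec.map (CommRingCat.ofHom (Pi.evalRingHom A i)) ≫ h) ⟶ Over.mk h) ≫ a1 =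
      (yon S).map (Over.homMk (Spec.map (CommRingCat.ofHom (Pi.evalRingHom A i))) rfl :
        Over.mk (Spec.map (CommRingCat.ofHom (Pi.evalRingHom A i)) ≫ h) ⟶ Over.mk h) ≫ a2) :
    a1 = a2 := by
  have := Groth.Agent.Lead.PiPts.main17862 S X hqs (fun i => CommRingCat.of (A i)) h
  have h2 := @this (ObjectProperty.homMk a1) (ObjectProperty.homMk a2) (by
    funext i
    apply ObjectProperty.hom_ext
    exact H i)
  exact congrArg (fun f => f.hom) h2

attribute [local instance] piAlgebra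

open CommRingCat in
theorem glue_step (S : Scheme.{u}) [IsAffine S]
    (X : AlgSp.Space S) (hqs : IsQuasiSeparatedSp X.obj)
    {ι : Type u} (A B : ι → Type u) [∀ i, CommRing (A i)] [∀ i, CommRing (B i)]
    [∀ i, Algebra (A i) (B i)]
    (h : Spec (.of (∀ i, A i)) ⟶ S)
    (g : ∀ i, (yon S).obj (Over.mk (Spec.map (CommRingCat.ofHom (Pi.evalRingHom A i)) ≫ h)) ⟶
      X.obj)
    {U : Over S} [IsAffine U.left] (p : (yon S).obj U ⟶ X.obj)
    (n : ℕ) (β : ∀ i, Fin n → B i) (σ : ∀ i, Fin n → (B i →ₗ[A i] A i))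
    (hβ : ∀ i (x : B i), ∑ k, σ i k x • β i k = x)
    (hinj : ∀ i, Function.Injective (algebraMap (A i) (B i)))
    (hflat : ∀ (i : ι), Flat (Spec.map (ofHom (algebraMap (A i) (B i)))))
    (hlfp : ∀ (i : ι), LocallyOfFinitePresentation (Spec.map (ofHom (algebraMap (A i) (B i)))))
    (hsurj : ∀ (i : ι), Surjective (Spec.map (ofHom (algebraMap (A i) (B i)))))
    (φ : (i : ι) → Over.mk (Spec.map (ofHom (algebraMap (A i) (B i))) ≫
      Spec.map (ofHom (Pi.evalRingHom A i)) ≫ h) ⟶ U)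
    (hφ : ∀ (i : ι), (yon S).map (φ i) ≫ p =
      (yon S).map (Over.homMk (Spec.map (ofHom (algebraMap (A i) (B i)))) rfl :
        Over.mk (Spec.map (ofHom (algebraMap (A i) (B i))) ≫
          Spec.map (ofHom (Pi.evalRingHom A i)) ≫ h) ⟶
          Over.mk (Spec.map (ofHom (Pi.evalRingHom A i)) ≫ h)) ≫ g i) :
    ∃ l : (yon S).obj (Over.mk h) ⟶ X.obj, ∀ i,
      (yon S).map (Over.homMk (Spec.map (CommRingCat.ofHom (Pi.evalRingHom A i))) rfl :
        Over.mk (Spec.map (CommRingCat.ofHom (Pi.evalRingHom A i)) ≫ h) ⟶ Over.mk h) ≫ l = g i := by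
  classical
  obtain ⟨hPflat, hPlfp, hPsurj⟩ := pi_specMap_props n β σ hβ hinj
  -- notation
  let T : Over S := Over.mk h
  let Ti : ι → Over S := fun i => Over.mk (Spec.map (ofHom (Pi.evalRingHom A i)) ≫ h)
  let ιi : ∀ i, Ti i ⟶ T := fun i => Over.homMk (Spec.map (ofHom (Pi.evalRingHom A i))) rfl
  let TB : ι → Over S := fun i => Over.mk (Spec.map (ofHom (algebraMap (A i) (B i))) ≫
      Spec.map (ofHom (Pi.evalRingHom A i)) ≫ h)
  let cB : ∀ i, TB i ⟶ Ti i := fun i => Over.homMk (Spec.map (ofHom (algebraMap (A i) (B i)))) rfl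
  let algP : Spec (.of (∀ i, B i)) ⟶ Spec (.of (∀ i, A i)) :=
    Spec.map (ofHom (algebraMap (∀ i, A i) (∀ i, B i)))
  let W : Over S := Over.mk (algP ≫ h)
  let pW : W ⟶ T := Over.homMk algP rfl
  -- (I3)
  have I3 : ∀ i, Spec.map (ofHom (Pi.evalRingHom B i)) ≫ algP =
      Spec.map (ofHom (algebraMap (A i) (B i))) ≫ Spec.map (ofHom (Pi.evalRingHom A i)) := by
    intro i
    rw [← Spec.map_comp, ← Spec.map_comp]
    rfl
  let κ : ∀ i, TB i ⟶ W := fun i => Over.homMk (Spec.map (ofHom (Pi.evalRingHom B i))) (by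
    show Spec.map (ofHom (Pi.evalRingHom B i)) ≫ algP ≫ h = _
    rw [← Category.assoc, I3 i, Category.assoc]
    rfl)
  have E5 : ∀ i, κ i ≫ pW = cB i ≫ ιi i := by
    intro i
    ext
    exact I3 i
  -- the map to the atlas
  have hf' : ∀ i, ∃ f' : Γ(U.left, ⊤) ⟶ CommRingCat.of (B i),
      Spec.map f' = (φ i).left ≫ U.left.isoSpec.hom := fun i => Spec.map_surjective _
  choose f' hf' using hf'
  let F : Γ(U.left, ⊤) →+* ∀ i, B i := Pi.ringHom (fun i => (f' i).hom)
  let Φ₀ : Spec (.of (∀ i, B i)) ⟶ U.left := Spec.map (ofHom F) ≫ U.left.isoSpec.inv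
  have hΦ₀ : ∀ i, Spec.map (ofHom (Pi.evalRingHom B i)) ≫ Φ₀ = (φ i).left := by
    intro i
    show Spec.map (ofHom (Pi.evalRingHom B i)) ≫ Spec.map (ofHom F) ≫ U.left.isoSpec.inv = _
    rw [← Category.assoc, ← Spec.map_comp]
    have : ofHom F ≫ ofHom (Pi.evalRingHom B i) = f' i := rfl
    rw [this, hf' i, Category.assoc, Iso.hom_inv_id, Category.comp_id]
  let Φ : W ⟶ U := Over.homMk Φ₀ (by
    show Φ₀ ≫ U.hom = algP ≫ h
    apply spec_pi_hom_ext B
    intro i
    rw [← Category.assoc, hΦ₀ i, Over.w (φ i)]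
    have e3 := I3 i
    show Spec.map (ofHom (algebraMap (A i) (B i))) ≫ Spec.map (ofHom (Pi.evalRingHom A i)) ≫ h =
      Spec.map (ofHom (Pi.evalRingHom B i)) ≫ algP ≫ h
    rw [← Category.assoc, ← e3, Category.assoc])
  have E3 : ∀ i, κ i ≫ Φ = φ i := by
    intro i
    ext
    exact hΦ₀ i
  obtain ⟨gW, hgW⟩ : ∃ gW : (yon S).obj W ⟶ X.obj, gW = (yon S).map Φ ≫ p := ⟨_, rfl⟩
  have chain : ∀ i (V : Over S) (m : V ⟶ W) (l : V ⟶ TB i), m = l ≫ κ i →
      (yon S).map m ≫ gW = (yon S).map (l ≫ cB i) ≫ g i := by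
    intro i V m l hm
    rw [hm, hgW, ← Category.assoc, ← CategoryTheory.Functor.map_comp, Category.assoc, E3 i,
      CategoryTheory.Functor.map_comp, Category.assoc, hφ i, ← Category.assoc,
      ← CategoryTheory.Functor.map_comp]
  -- the tensor square of the product cover
  let inlP : (∀ i, B i) →+* (∀ i, B i) ⊗[∀ i, A i] (∀ i, B i) :=
    Algebra.TensorProduct.includeLeftRingHom
  let inrP : (∀ i, B i) →+* (∀ i, B i) ⊗[∀ i, A i] (∀ i, B i) :=
    (Algebra.TensorProduct.includeRight (R := ∀ i, A i) (A := ∀ i, B i) (B := ∀ i, B i)).toRingHom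
  have hsqP : IsPullback (Spec.map (ofHom inlP)) (Spec.map (ofHom inrP)) algP algP :=
    isPullback_SpecMap_of_isPushout _ _ _ _
      (CommRingCat.isPushout_tensorProduct (∀ i, A i) (∀ i, B i) (∀ i, B i))
  let V2 : Over S := Over.mk (Spec.map (ofHom inlP) ≫ W.hom)
  let π₁ : V2 ⟶ W := Over.homMk (Spec.map (ofHom inlP)) rfl
  let π₂ : V2 ⟶ W := Over.homMk (Spec.map (ofHom inrP)) (by
    show Spec.map (ofHom inrP) ≫ algP ≫ h = Spec.map (ofHom inlP) ≫ algP ≫ h
    rw [← Category.assoc, ← Category.assoc, hsqP.w])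
  let D : ι → Type u := fun i => B i ⊗[A i] B i
  have hθ : Function.Bijective (theta A B) := theta_bijective n β σ hβ
  let Θ₀ : Spec (.of (∀ i, D i)) ⟶ Spec (.of ((∀ i, B i) ⊗[∀ i, A i] (∀ i, B i))) :=
    Spec.map (ofHom (theta A B))
  haveI : IsIso Θ₀ := by
    haveI : IsIso (ofHom (theta A B)) :=
      (ConcreteCategory.isIso_iff_bijective (ofHom (theta A B))).mpr hθ
    infer_instance
  let h3 : Spec (.of (∀ i, D i)) ⟶ S := Θ₀ ≫ V2.hom
  let V3 : Over S := Over.mk h3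
  let Θ : V3 ⟶ V2 := Over.homMk Θ₀ rfl
  haveI : IsIso Θ := by
    haveI : IsIso ((Over.forget S).map Θ) := (inferInstance : IsIso Θ₀)
    exact isIso_of_reflects_iso Θ (Over.forget S)
  have hkey3 : (yon S).map (Θ ≫ π₁) ≫ gW = (yon S).map (Θ ≫ π₂) ≫ gW := by
    apply yon_hom_ext_pi X hqs D h3
    intro i
    let V2i : Over S := Over.mk (Spec.map (ofHom (Pi.evalRingHom D i)) ≫ h3)
    let ε : V2i ⟶ V3 := Over.homMk (Spec.map (ofHom (Pi.evalRingHom D i))) rfl
    let inl : B i →+* D i := Algebra.TensorProduct.includeLeftRingHom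
    let inr : B i →+* D i :=
      (Algebra.TensorProduct.includeRight (R := A i) (A := B i) (B := B i)).toRingHom
    have I1 : Spec.map (ofHom (Pi.evalRingHom D i)) ≫ Θ₀ ≫ Spec.map (ofHom inlP) =
        Spec.map (ofHom inl) ≫ Spec.map (ofHom (Pi.evalRingHom B i)) := by
      rw [← Spec.map_comp, ← Spec.map_comp, ← Spec.map_comp]
      congr 1
      ext x
      show theta A B (x ⊗ₜ 1) i = x i ⊗ₜ 1
      rw [theta_tmul]
      rfl
    have I2 : Spec.map (ofHom (Pi.evalRingHom D i)) ≫ Θ₀ ≫ Spec.map (ofHom inrP) =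
        Spec.map (ofHom inr) ≫ Spec.map (ofHom (Pi.evalRingHom B i)) := by
      rw [← Spec.map_comp, ← Spec.map_comp, ← Spec.map_comp]
      congr 1
      ext x
      show theta A B (1 ⊗ₜ x) i = 1 ⊗ₜ x i
      rw [theta_tmul]
      rfl
    have I4 : Spec.map (ofHom inl) ≫ Spec.map (ofHom (algebraMap (A i) (B i))) =
        Spec.map (ofHom inr) ≫ Spec.map (ofHom (algebraMap (A i) (B i))) := by
      rw [← Spec.map_comp, ← Spec.map_comp]
      congr 1
      ext a
      show (algebraMap (A i) (B i) a) ⊗ₜ[A i] (1 : B i) = (1 : B i) ⊗ₜ[A i] (algebraMap (A i) (B i) a)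
      rw [Algebra.algebraMap_eq_smul_one, TensorProduct.smul_tmul]
    let l1 : V2i ⟶ TB i := Over.homMk (Spec.map (ofHom inl)) (by
      show Spec.map (ofHom inl) ≫ Spec.map (ofHom (algebraMap (A i) (B i))) ≫
        Spec.map (ofHom (Pi.evalRingHom A i)) ≫ h =
        Spec.map (ofHom (Pi.evalRingHom D i)) ≫ Θ₀ ≫ Spec.map (ofHom inlP) ≫ algP ≫ h
      calc Spec.map (ofHom inl) ≫ Spec.map (ofHom (algebraMap (A i) (B i))) ≫
            Spec.map (ofHom (Pi.evalRingHom A i)) ≫ h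
          = Spec.map (ofHom inl) ≫ (Spec.map (ofHom (algebraMap (A i) (B i))) ≫
            Spec.map (ofHom (Pi.evalRingHom A i))) ≫ h := by simp only [Category.assoc]
        _ = Spec.map (ofHom inl) ≫ (Spec.map (ofHom (Pi.evalRingHom B i)) ≫ algP) ≫ h := by
            rw [I3 i]
        _ = (Spec.map (ofHom inl) ≫ Spec.map (ofHom (Pi.evalRingHom B i))) ≫ algP ≫ h := by
            simp only [Category.assoc]
        _ = (Spec.map (ofHom (Pi.evalRingHom D i)) ≫ Θ₀ ≫ Spec.map (ofHom inlP)) ≫ algP ≫ h := by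
            rw [I1]
        _ = _ := by simp only [Category.assoc])
    let l2 : V2i ⟶ TB i := Over.homMk (Spec.map (ofHom inr)) (by
      have e1 := Over.w l1
      show Spec.map (ofHom inr) ≫ Spec.map (ofHom (algebraMap (A i) (B i))) ≫
        Spec.map (ofHom (Pi.evalRingHom A i)) ≫ h = V2i.hom
      rw [← Category.assoc, ← I4, Category.assoc]
      exact e1)
    have E1 : ε ≫ Θ ≫ π₁ = l1 ≫ κ i := by
      ext
      exact I1
    have E2 : ε ≫ Θ ≫ π₂ = l2 ≫ κ i := by
      ext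
      exact I2
    have E4 : l1 ≫ cB i = l2 ≫ cB i := by
      ext
      exact I4
    show (yon S).map ε ≫ (yon S).map (Θ ≫ π₁) ≫ gW = (yon S).map ε ≫ (yon S).map (Θ ≫ π₂) ≫ gW
    have c1 : (yon S).map ε ≫ (yon S).map (Θ ≫ π₁) ≫ gW = (yon S).map (ε ≫ Θ ≫ π₁) ≫ gW := by
      rw [CategoryTheory.Functor.map_comp (yon S) ε (Θ ≫ π₁), Category.assoc]
    have c2 : (yon S).map ε ≫ (yon S).map (Θ ≫ π₂) ≫ gW = (yon S).map (ε ≫ Θ ≫ π₂) ≫ gW := by
      rw [CategoryTheory.Functor.map_comp (yon S) ε (Θ ≫ π₂), Category.assoc]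
    rw [c1, c2, chain i V2i _ l1 E1, chain i V2i _ l2 E2, E4]
  have hkey : (yon S).map π₁ ≫ gW = (yon S).map π₂ ≫ gW := by
    rw [CategoryTheory.Functor.map_comp, CategoryTheory.Functor.map_comp, Category.assoc,
      Category.assoc] at hkey3
    exact (cancel_epi ((yon S).map Θ)).1 hkey3
  -- glue
  obtain ⟨l, hl⟩ := exists_glue_of_family (F := X.obj) (Z' := T) (fun _ : PUnit.{1} => W)
    (fun _ => pW) (fun _ => ⟨hPflat, hPlfp⟩) (fun x => ⟨PUnit.unit, hPsurj.surj x⟩)
    (fun _ => gW) (by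
      intro _ _ Q qi qj hq
      have hq' : qi.left ≫ algP = qj.left ≫ algP := congrArg (fun m => m.left) hq
      let d : Q.left ⟶ Spec (.of ((∀ i, B i) ⊗[∀ i, A i] (∀ i, B i))) := hsqP.lift qi.left qj.left hq'
      have hd1 : d ≫ Spec.map (ofHom inlP) = qi.left := hsqP.lift_fst _ _ _
      have hd2 : d ≫ Spec.map (ofHom inrP) = qj.left := hsqP.lift_snd _ _ _
      let dO : Q ⟶ V2 := Over.homMk d (by
        show d ≫ Spec.map (ofHom inlP) ≫ W.hom = Q.hom
        rw [← Category.assoc, hd1]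
        exact Over.w qi)
      have e1 : dO ≫ π₁ = qi := by
        ext
        exact hd1
      have e2 : dO ≫ π₂ = qj := by
        ext
        exact hd2
      rw [← e1, ← e2, CategoryTheory.Functor.map_comp, CategoryTheory.Functor.map_comp,
        Category.assoc, Category.assoc, hkey])
  have hl' : (yon S).map pW ≫ l = gW := hl PUnit.unit
  refine ⟨l, fun i => ?_⟩
  apply hom_ext_of_family (F := X.obj) (Z' := Ti i) (fun _ : PUnit.{1} => TB i) (fun _ => cB i)
    (fun _ => ⟨hflat i, hlfp i⟩) (fun x => ⟨PUnit.unit, (hsurj i).surj x⟩)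
  intro _
  show (yon S).map (cB i) ≫ (yon S).map (ιi i) ≫ l = (yon S).map (cB i) ≫ g i
  rw [← Category.assoc, ← CategoryTheory.Functor.map_comp, ← E5 i,
    CategoryTheory.Functor.map_comp, Category.assoc, hl', hgW, ← Category.assoc,
    ← CategoryTheory.Functor.map_comp, E3 i, hφ i]

open CommRingCat in
theorem main17861_surj (S : Scheme.{u}) [IsAffine S]
    (X : AlgSp.Space S) (hqc : IsQuasiCompactSp X.obj) (hqs : IsQuasiSeparatedSp X.obj)
    {ι : Type u} (A : ι → Type u) [∀ i, CommRing (A i)] [∀ i, HenselianLocalRing (A i)]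
    (h : Spec (.of (∀ i, A i)) ⟶ S)
    (g : ∀ i, (yon S).obj (Over.mk (Spec.map (CommRingCat.ofHom (Pi.evalRingHom A i)) ≫ h)) ⟶
      X.obj) :
    ∃ l : (yon S).obj (Over.mk h) ⟶ X.obj, ∀ i,
      (yon S).map (Over.homMk (Spec.map (CommRingCat.ofHom (Pi.evalRingHom A i))) rfl :
        Over.mk (Spec.map (CommRingCat.ofHom (Pi.evalRingHom A i)) ≫ h) ⟶ Over.mk h) ≫ l = g i := by
  classical
  have hX := X.property
  obtain ⟨U, p, hU, hpe, hps⟩ := (isQuasiCompactSp_iff_exists_affine_chart hX).1 hqc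
  haveI := hU
  obtain ⟨R, a₁, a₂, sqR⟩ := exists_isPullback_yon hX.diag p p
  haveI het : Etale a₂.left := hpe.property p _ _ sqR
  haveI hsepR : IsSeparated a₂.left :=
    (repWith_isSeparated_of_isSeparated_source p hpe.rep).property p _ _ sqR
  haveI : CompactSpace R.left :=
    compactSpace_of_isPullback_of_isQuasiSeparatedSp hqs U U R p p a₁ a₂ sqR
  haveI : QuasiCompact a₂.left := inferInstance
  haveI : LocallyQuasiFinite a₂.left := lqf_of_etale' _
  obtain ⟨C₀, _, _, hfinC, j₀, hj₀o, hj₀⟩ :=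
    exists_finite_open_embedding (a₂.left ≫ U.left.isoSpec.hom)
  haveI : Mono j₀ := inferInstance
  obtain ⟨n, c, hc⟩ := Module.Finite.exists_fin (R := Γ(U.left, ⊤)) (M := C₀)
  have hloc := fun i => local_step X.obj hX p hpe hps a₁ a₂ sqR j₀ hj₀ n c hc (A i)
    (Spec.map (CommRingCat.ofHom (Pi.evalRingHom A i)) ≫ h) (g i)
  choose B instB algB β σ hβ hinj hflat hlfp hsurj φ hφ using hloc
  exact glue_step S X hqs A B h g p n β σ hβ hinj hflat hlfp hsurj φ hφ

theorem main17861 (S : Scheme.{u}) [IsAffine S]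
    (X : AlgSp.Space S) (hqc : AlgSp.IsQuasiCompactSp X.obj) (hqs : AlgSp.IsQuasiSeparatedSp X.obj)
    {ι : Type u} (A : ι → CommRingCat.{u}) [∀ i, HenselianLocalRing (A i)]
    (h : Spec (CommRingCat.of (∀ i, A i)) ⟶ S) :
    Function.Bijective (fun g : (AlgSp.ofScheme S).obj (Over.mk h) ⟶ X => fun i : ι =>
      (AlgSp.ofScheme S).map (Over.homMk
        (Spec.map (CommRingCat.ofHom (Pi.evalRingHom (fun j => (A j : Type u)) i)))
        rfl : Over.mk (Spec.map (CommRingCat.ofHom (Pi.evalRingHom (fun j => (A j : Type u)) i)) ≫ h) ⟶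
          Over.mk h) ≫ g) := by
  refine ⟨Groth.Agent.Lead.PiPts.main17862 S X hqs A h, ?_⟩
  intro G
  obtain ⟨l, hl⟩ := main17861_surj S X hqc hqs (fun i => (A i : Type u)) h (fun i => (G i).hom)
  refine ⟨ObjectProperty.homMk l, ?_⟩
  funext i
  apply ObjectProperty.hom_ext
  exact hl i

end Groth.Agent.Lead.PiHens
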