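import Mathlib
import Groth.Prelude.Def_ThetaK
import Groth.Agent.Lib.Lead.PicCalcGrp

/-!
# The subscheme `K(L)`: consequences of the point form of the Mumford relation
-/

universe u

set_option backward.isDefEq.respectTransparency.types false
set_option autoImplicit false

open CategoryTheory CategoryTheory.Limits MonoidalCategory CartesianMonoidalCategory MonObj AlgebraicGeometry

namespace Groth.Agent.Lead.PicCalcKL

open Groth.Agent.Lead.PicCalc Groth.Agent.Lead.PicCalcGrp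

variable {S : Scheme.{u}}
variable (X : Over S) [GrpObj X] (L : X.left.Modules)

theorem translate_rel {T : Over S} (x : T ⟶ X) (M : T.left.Modules)
    (h : Nonempty (CohB1.tensorMod ((Scheme.Modules.pullback (fst X T).left).obj L)
          ((Scheme.Modules.pullback (snd X T).left).obj M) ≅
        (Scheme.Modules.pullback (ThetaGrp.transl X x ≫ fst X T).left).obj L))
    (T' : Over S) (a : T' ⟶ X) (b : T' ⟶ T) :
    pl a (PicF.cl L) * pl b (PicF.cl M) = pl (a * (b ≫ x)) (PicF.cl L) := by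
  have h1 : pl (fst X T) (PicF.cl L) * pl (snd X T) (PicF.cl M) =
      pl (ThetaGrp.transl X x ≫ fst X T) (PicF.cl L) := cl_eq_of_iso h.some
  rw [ThetaGrp.transl_fst] at h1
  have h2 := congrArg (pl (lift a b)) h1
  rw [pl_mul, ← pl_comp, ← pl_comp, ← pl_comp, lift_fst, lift_snd, comp_mul, lift_fst,
    lift_snd_assoc] at h2
  exact h2

section triv
variable (hS : ∀ c : PicF.Cl (𝟙_ (Over S)).left, PicF.IsInvertibleCl c → c = 1)
include hS

theorem s19767 (hL : PicF.IsInvertible L) {T : Over S} (x : T ⟶ X) (M : T.left.Modules)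
    (h : Nonempty (CohB1.tensorMod ((Scheme.Modules.pullback (fst X T).left).obj L)
          ((Scheme.Modules.pullback (snd X T).left).obj M) ≅
        (Scheme.Modules.pullback (ThetaGrp.transl X x ≫ fst X T).left).obj L)) :
    Nonempty (M ≅ (Scheme.Modules.pullback x.left).obj L) := by
  have h2 := translate_rel X L x M h T 1 (𝟙 T)
  rw [Category.id_comp, _root_.one_mul, pl_id, pl_one_hom hS (isInvertibleCl_cl hL),
    _root_.one_mul] at h2
  exact nonempty_iso_of_cl_eq h2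

theorem s19768 (hL : PicF.IsInvertible L) {K : Over S} (i : K ⟶ X) (hK : ThetaGrp.IsKL X L i) :
    AgPol.IsLambdaSheaf ((X ◁ i) ≫ μ[X]).left (fst X K).left (snd X K ≫ i).left L
      (Coh.structureModule (X ⊗ K).left) := by
  obtain ⟨c, hc, h⟩ := (isMumfordTriv_iff X L i).mp ((hK.univ K i).mpr ⟨𝟙 K, Category.id_comp i⟩)
  have hc1 := h.eq_one hS (isInvertibleCl_cl hL)
  subst hc1
  have h2 := (rel_iff X _ i _).mpr h
  rw [pl_one] at h2
  exact (isLambdaSheaf_iff _ _ _ L _).mpr h2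

theorem s19770 (hL : PicF.IsInvertible L) {K : Over S} (i : K ⟶ X) (hK : ThetaGrp.IsKL X L i)
    (B : Over S) [GrpObj B] (j : B ⟶ X) [IsMonHom j] (hj : ∃ y : B ⟶ K, y ≫ i = j) :
    Nonempty (CohB1.tensorMod ((Scheme.Modules.pullback j.left).obj L)
        ((Scheme.Modules.pullback ((𝟙 B)⁻¹ ≫ j).left).obj L) ≅ Coh.structureModule B.left) := by
  obtain ⟨c, hc, h⟩ := (isMumfordTriv_iff X L j).mp ((hK.univ B j).mpr hj)
  have hc1 := h.eq_one hS (isInvertibleCl_cl hL)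
  subst hc1
  have e := h B ((𝟙 B)⁻¹ ≫ j) (𝟙 B)
  rw [GrpObj.inv_comp, Category.id_comp, _root_.inv_mul_cancel,
    pl_one_hom hS (isInvertibleCl_cl hL), pl_one, _root_.one_mul] at e
  apply nonempty_iso_of_cl_eq
  change pl j (PicF.cl L) * pl ((𝟙 B)⁻¹ ≫ j) (PicF.cl L) = 1
  rw [GrpObj.inv_comp, Category.id_comp, _root_.mul_comm]
  exact e

theorem s19769 (hL : PicF.IsInvertible L) {K : Over S} (i : K ⟶ X) (hK : ThetaGrp.IsKL X L i)
    (T : Over S) :
    (∀ y₁ y₂ : T ⟶ K, ∃ y : T ⟶ K, y ≫ i = (y₁ ≫ i) * (y₂ ≫ i)) ∧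
      (∃ y : T ⟶ K, y ≫ i = 1) ∧
      (∀ y₁ : T ⟶ K, ∃ y : T ⟶ K, y ≫ i = (y₁ ≫ i)⁻¹) := by
  have key : ∀ z : T ⟶ X, (∃ y : T ⟶ K, y ≫ i = z) ↔
      ∃ c, PicF.IsInvertibleCl c ∧ Rel X (PicF.cl L) z c := fun z => by
    rw [← hK.univ T z, isMumfordTriv_iff]
  refine ⟨fun y₁ y₂ => ?_, ?_, fun y₁ => ?_⟩
  · obtain ⟨c1, hc1, h1⟩ := (key _).mp ⟨y₁, rfl⟩
    obtain ⟨c2, hc2, h2⟩ := (key _).mp ⟨y₂, rfl⟩
    exact (key _).mpr ⟨c1, hc1, h1.mul h2⟩
  · exact (key _).mpr ⟨1, isInvertibleCl_one, Rel.one hS (isInvertibleCl_cl hL) T⟩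
  · obtain ⟨c1, hc1, h1⟩ := (key _).mp ⟨y₁, rfl⟩
    exact (key _).mpr ⟨1, isInvertibleCl_one, h1.inv hS (isInvertibleCl_cl hL)⟩

end triv

theorem s19766 (hL : PicF.IsInvertible L) {K : Over S} (i : K ⟶ X) (hK : ThetaGrp.IsKL X L i)
    (T : Over S) (x : T ⟶ X) :
    (∃ y : T ⟶ K, y ≫ i = x) ↔ ∃ M : T.left.Modules, PicF.IsInvertible M ∧
      Nonempty (CohB1.tensorMod ((Scheme.Modules.pullback (fst X T).left).obj L)
          ((Scheme.Modules.pullback (snd X T).left).obj M) ≅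
        (Scheme.Modules.pullback (ThetaGrp.transl X x ≫ fst X T).left).obj L) := by
  rw [← hK.univ T x, isMumfordTriv_iff]
  constructor
  · rintro ⟨c, ⟨M0, rfl, hM0⟩, h⟩
    refine ⟨CohB1.tensorMod M0 ((Scheme.Modules.pullback x.left).obj L),
      Groth.Agent.Helper1.TwForm.isInvertible_tensorMod hM0
        (Groth.Agent.Helper1.PullGen.isInvertible_pullback x.left hL), ?_⟩
    apply nonempty_iso_of_cl_eq
    change pl (fst X T) (PicF.cl L) * pl (snd X T) (PicF.cl M0 * pl x (PicF.cl L)) =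
      pl (ThetaGrp.transl X x ≫ fst X T) (PicF.cl L)
    rw [ThetaGrp.transl_fst, ← h _ (fst X T) (snd X T), pl_mul, ← pl_comp]
    simp only [_root_.mul_assoc, _root_.mul_comm, _root_.mul_left_comm]
  · rintro ⟨M, hM, he⟩
    obtain ⟨d, hd, hdx⟩ :=
      exists_inv_of_isInvertibleCl (isInvertibleCl_pl x (isInvertibleCl_cl hL))
    refine ⟨PicF.cl M * d, isInvertibleCl_mul (isInvertibleCl_cl hM) hd, ?_⟩
    intro T' a b
    have h2 := translate_rel X L x M he T' a b
    have h3 : pl b d * pl b (pl x (PicF.cl L)) = 1 := by rw [← pl_mul, hdx, pl_one]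
    rw [← h2, pl_mul, pl_comp b x]
    calc pl b (PicF.cl M) * pl b d * pl a (PicF.cl L) * pl b (pl x (PicF.cl L))
        = pl a (PicF.cl L) * pl b (PicF.cl M) * (pl b d * pl b (pl x (PicF.cl L))) := by
          simp only [_root_.mul_assoc, _root_.mul_comm, _root_.mul_left_comm]
      _ = pl a (PicF.cl L) * pl b (PicF.cl M) := by rw [h3, _root_.mul_one]

end Groth.Agent.Lead.PicCalcKL
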