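import Mathlib
import Groth.Agent.Lib.Lead.PicExt3

/-!
# Extension of invertible modules across points with factorial local rings (lead)
-/

set_option autoImplicit false
set_option backward.isDefEq.respectTransparency.types false
set_option synthInstance.maxHeartbeats 400000
set_option linter.style.haveILetI false
set_option linter.unusedSectionVars false
universe u
open CategoryTheory CategoryTheory.Limits AlgebraicGeometry TopologicalSpace Opposite

namespace Groth.Agent.Lead.PicExt2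

open Groth.Agent.Helper1.QcCech Groth.Agent.Helper1.LGen Groth.Agent.Lead.RkSch
  Groth.Agent.Helper1 Groth.Agent.Lead.RH Groth.Agent.Lead.FlatHart Scheme.Modules
  Groth.Agent.Helper7.FinType

section Cat

variable {C D : Type*} [Category C] [Category D] [Preadditive C] [Preadditive D]
  [HasBinaryBiproducts C] (F : C ⥤ D) [F.Additive]

theorem isIso_map_inl (P Q : C) (hQ : IsZero (F.obj Q)) :
    IsIso (F.map (biprod.inl : P ⟶ P ⊞ Q)) := by
  refine ⟨⟨F.map biprod.fst, ?_, ?_⟩⟩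
  · rw [← F.map_comp, biprod.inl_fst, CategoryTheory.Functor.map_id]
  · rw [← F.map_comp]
    have h1 : (biprod.fst : P ⊞ Q ⟶ P) ≫ biprod.inl = 𝟙 _ - biprod.snd ≫ biprod.inr := by
      rw [eq_sub_iff_add_eq, biprod.total]
    rw [h1, F.map_sub, CategoryTheory.Functor.map_id, F.map_comp,
      hQ.eq_of_tgt (F.map biprod.snd) 0, zero_comp, sub_zero]

theorem isIso_map_inr (P Q : C) (hP : IsZero (F.obj P)) :
    IsIso (F.map (biprod.inr : Q ⟶ P ⊞ Q)) := by
  refine ⟨⟨F.map biprod.snd, ?_, ?_⟩⟩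
  · rw [← F.map_comp, biprod.inr_snd, CategoryTheory.Functor.map_id]
  · rw [← F.map_comp]
    have h1 : (biprod.snd : P ⊞ Q ⟶ Q) ≫ biprod.inr = 𝟙 _ - biprod.fst ≫ biprod.inl := by
      rw [eq_sub_iff_add_eq, add_comm, biprod.total]
    rw [h1, F.map_sub, CategoryTheory.Functor.map_id, F.map_comp,
      hP.eq_of_tgt (F.map biprod.fst) 0, zero_comp, sub_zero]

end Cat

section Sum

variable {S A B : Scheme.{u}} (j₁ : A ⟶ S) (j₂ : B ⟶ S) [IsOpenImmersion j₁] [IsOpenImmersion j₂]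

instance restrictFunctor_additive : (restrictFunctor j₁).Additive :=
  (restrictAdjunction j₁).left_adjoint_additive

theorem isZero_of_subsingleton (T : A.Modules) (h : ∀ V : A.Opens, Subsingleton Γ(T, V)) :
    IsZero T := by
  rw [IsZero.iff_id_eq_zero]
  apply Scheme.Modules.hom_ext
  intro V
  haveI := h V
  ext x
  exact Subsingleton.elim _ _

theorem isZero_restrict_pushforward (hdisj : ∀ (a : A) (b : B), j₁ a ≠ j₂ b) (M₂ : B.Modules) :
    IsZero (((Scheme.Modules.pushforward j₂).obj M₂).restrict j₁) := by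
  apply isZero_of_subsingleton
  intro V
  have hbot : j₂ ⁻¹ᵁ (j₁ ''ᵁ V) = ⊥ := by
    ext b
    simp only [Opens.coe_bot, Set.mem_empty_iff_false, iff_false]
    rintro ⟨a, -, ha⟩
    exact hdisj a b ha
  have h1 : Subsingleton Γ(B, j₂ ⁻¹ᵁ (j₁ ''ᵁ V)) := by
    rw [hbot]
    infer_instance
  change Subsingleton Γ(M₂, j₂ ⁻¹ᵁ (j₁ ''ᵁ V))
  exact Module.subsingleton Γ(B, j₂ ⁻¹ᵁ (j₁ ''ᵁ V)) _

/-- the module on a disjoint union of two opens with prescribed restrictions -/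
noncomputable def sumMod (M₁ : A.Modules) (M₂ : B.Modules) : S.Modules :=
  (Scheme.Modules.pushforward j₁).obj M₁ ⊞ (Scheme.Modules.pushforward j₂).obj M₂

theorem sumMod_restrict_fst (hdisj : ∀ (a : A) (b : B), j₁ a ≠ j₂ b) (M₁ : A.Modules)
    (M₂ : B.Modules) : Nonempty ((sumMod j₁ j₂ M₁ M₂).restrict j₁ ≅ M₁) := by
  haveI := isIso_map_inl (restrictFunctor j₁) ((Scheme.Modules.pushforward j₁).obj M₁)
    ((Scheme.Modules.pushforward j₂).obj M₂) (isZero_restrict_pushforward j₁ j₂ hdisj M₂)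
  exact ⟨(asIso ((restrictFunctor j₁).map (biprod.inl :
    (Scheme.Modules.pushforward j₁).obj M₁ ⟶ _ ⊞ (Scheme.Modules.pushforward j₂).obj M₂))).symm ≪≫
    asIso ((restrictAdjunction j₁).counit.app M₁)⟩

theorem sumMod_restrict_snd (hdisj : ∀ (a : A) (b : B), j₁ a ≠ j₂ b) (M₁ : A.Modules)
    (M₂ : B.Modules) : Nonempty ((sumMod j₁ j₂ M₁ M₂).restrict j₂ ≅ M₂) := by
  haveI := isIso_map_inr (restrictFunctor j₂) ((Scheme.Modules.pushforward j₁).obj M₁)
    ((Scheme.Modules.pushforward j₂).obj M₂)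
    (isZero_restrict_pushforward j₂ j₁ (fun b a h => hdisj a b h.symm) M₁)
  exact ⟨(asIso ((restrictFunctor j₂).map (biprod.inr :
    (Scheme.Modules.pushforward j₂).obj M₂ ⟶ (Scheme.Modules.pushforward j₁).obj M₁ ⊞ _))).symm ≪≫
    asIso ((restrictAdjunction j₂).counit.app M₂)⟩

/-- local generators from invertibility of a restriction along an open immersion -/
theorem exists_isGen_of_restrict_isInvertible' (M : S.Modules)
    (h : PicF.IsInvertible (M.restrict j₁)) (a : A) :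
    ∃ (W : S.Opens) (σ : Γ(M, W)), j₁ a ∈ W ∧ IsGen M W σ := by
  obtain ⟨W', σ, haW', hσ⟩ := exists_isGen h a
  exact ⟨j₁ ''ᵁ W', σ, ⟨a, haW', rfl⟩, TwForm.isGen_image_of_isGen_restrict j₁ M W' σ hσ⟩

theorem isInvertible_sumMod (hdisj : ∀ (a : A) (b : B), j₁ a ≠ j₂ b)
    (hcov : ∀ s : S, s ∈ Set.range j₁ ∨ s ∈ Set.range j₂)
    (M₁ : A.Modules) (M₂ : B.Modules) (h₁ : PicF.IsInvertible M₁) (h₂ : PicF.IsInvertible M₂) :
    PicF.IsInvertible (sumMod j₁ j₂ M₁ M₂) := by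
  obtain ⟨e₁⟩ := sumMod_restrict_fst j₁ j₂ hdisj M₁ M₂
  obtain ⟨e₂⟩ := sumMod_restrict_snd j₁ j₂ hdisj M₁ M₂
  apply TwForm.isInvertible_of_locGen
  intro s
  rcases hcov s with ⟨a, rfl⟩ | ⟨b, rfl⟩
  · exact exists_isGen_of_restrict_isInvertible' j₁ _
      (Groth.Agent.Lead.ParaF.isInvertible_of_iso e₁.symm h₁) a
  · exact exists_isGen_of_restrict_isInvertible' j₂ _
      (Groth.Agent.Lead.ParaF.isInvertible_of_iso e₂.symm h₂) b

end Sum

section Main

theorem S0234_main (X : Scheme.{u}) [IsLocallyNoetherian X] (U : X.Opens)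
    (L : (U : Scheme.{u}).Modules) (hL : PicF.IsInvertible L)
    (hufd : ∀ x : X, x ∉ U → UniqueFactorizationMonoid (X.presheaf.stalk x)) :
    ∃ L' : X.Modules, PicF.IsInvertible L' ∧ Nonempty (L'.restrict U.ι ≅ L) := by
  let U₃ : X.Opens := ⟨(closure (U : Set X))ᶜ, isClosed_closure.isOpen_compl⟩
  let Up : X.Opens := U ⊔ U₃
  let j₁ : (U : Scheme.{u}) ⟶ (Up : Scheme.{u}) := X.homOfLE (le_sup_left : U ≤ Up)
  let j₂ : (U₃ : Scheme.{u}) ⟶ (Up : Scheme.{u}) := X.homOfLE (le_sup_right : U₃ ≤ Up)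
  have hj₁ : ∀ a : (U : Scheme.{u}), Up.ι (j₁ a) = U.ι a := fun a => by
    rw [← Scheme.Hom.comp_apply, X.homOfLE_ι]
  have hj₂ : ∀ b : (U₃ : Scheme.{u}), Up.ι (j₂ b) = U₃.ι b := fun b => by
    rw [← Scheme.Hom.comp_apply, X.homOfLE_ι]
  have hdisj : ∀ (a : (U : Scheme.{u})) (b : (U₃ : Scheme.{u})), j₁ a ≠ j₂ b := by
    intro a b hab
    have h1 : U.ι a = U₃.ι b := by rw [← hj₁, ← hj₂, hab]
    have h2 : U.ι a ∈ U := (show U from a).2
    have h3 : U₃.ι b ∈ U₃ := (show U₃ from b).2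
    rw [← h1] at h3
    exact h3 (subset_closure h2)
  have hcov : ∀ s : (Up : Scheme.{u}), s ∈ Set.range j₁ ∨ s ∈ Set.range j₂ := by
    intro s
    rcases (show Up from s).2 with h | h
    · left
      refine ⟨(show (U : Scheme.{u}) from ⟨(show Up from s).1, h⟩), ?_⟩
      apply Up.ι.isOpenEmbedding.injective
      rw [hj₁]
      rfl
    · right
      refine ⟨(show (U₃ : Scheme.{u}) from ⟨(show Up from s).1, h⟩), ?_⟩
      apply Up.ι.isOpenEmbedding.injective
      rw [hj₂]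
      rfl
  let Lp : (Up : Scheme.{u}).Modules := sumMod j₁ j₂ L (Coh.structureModule (U₃ : Scheme.{u}))
  have hLp : PicF.IsInvertible Lp := isInvertible_sumMod j₁ j₂ hdisj hcov L _ hL
    Groth.Agent.Lead.ParaF.isInvertible_unit
  obtain ⟨e₁⟩ := sumMod_restrict_fst j₁ j₂ hdisj L (Coh.structureModule (U₃ : Scheme.{u}))
  have hufd' : ∀ x : X, x ∉ Up → UniqueFactorizationMonoid (X.presheaf.stalk x) :=
    fun x hx => hufd x (fun h => hx (Or.inl h))
  have hdense : ∀ x : X, x ∉ Up → x ∈ closure (Up : Set X) := by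
    intro x hx
    have h1 : x ∈ closure (U : Set X) := by
      by_contra hc
      exact hx (Or.inr hc)
    exact closure_mono (show (U : Set X) ⊆ (Up : Set X) from fun y hy => Or.inl hy) h1
  obtain ⟨L', hL', ⟨ep⟩⟩ := exists_extension_of_dense Up Lp hLp hufd' hdense
  refine ⟨L', hL', ⟨?_⟩⟩
  have hι : j₁ ≫ Up.ι = U.ι := X.homOfLE_ι (le_sup_left : U ≤ Up)
  exact (restrictFunctorCongr hι.symm).app L' ≪≫ (restrictFunctorComp j₁ Up.ι).app L' ≪≫
    (restrictFunctor j₁).mapIso ep ≪≫ e₁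

end Main

end Groth.Agent.Lead.PicExt2
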