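import Mathlib
import Groth.Prelude
import Groth.Agent.Lib.Helper4.UnitFLF1
import Groth.Agent.Lib.Helper1.InvInv2

set_option autoImplicit false
set_option backward.isDefEq.respectTransparency.types false
set_option synthInstance.maxHeartbeats 400000
set_option linter.style.haveILetI false
set_option linter.unusedSectionVars false

universe u

open CategoryTheory CategoryTheory.Limits AlgebraicGeometry TopologicalSpace IsLocalRing Opposite

namespace Groth.Agent.Lead.PicInj1

open Groth.Agent.Helper1

theorem isInvertible_O (X : Scheme.{u}) : PicF.IsInvertible (Coh.structureModule X) := by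
  intro y
  exact ⟨⊤, trivial, ⟨Scheme.Modules.restrictUnitIso _⟩⟩

/-- If `O_Y → f_* O_X` is an isomorphism, pullback of invertible modules along `f` has trivial
kernel. -/
theorem picPullbackInjective_of_isIso_app {X Y : Scheme.{u}} (f : X ⟶ Y)
    (hfib : ∀ V : Y.Opens, IsIso (f.app V)) : Formal2.PicPullbackInjective f := by
  intro L hL ⟨e⟩
  have hbij : ∀ U : Y.Opens, Function.Bijective (f.app U) := fun U =>
    (ConcreteCategory.isIso_iff_bijective _).mp (hfib U)
  have hLf := InvInv2.isFinLocFree_of_isInvertible hL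
  have hOf : FlatMod.IsFinLocFree (Coh.structureModule Y) :=
    InvInv2.isFinLocFree_of_isInvertible (isInvertible_O Y)
  let e' : (Scheme.Modules.pullback f).obj L ≅
      (Scheme.Modules.pullback f).obj (Coh.structureModule Y) := e ≪≫ (PullSec.unitIso f).symm
  obtain ⟨φ, hφ⟩ := (Groth.Agent.Lib.Helper4.UnitFLF1.s3222 f hbij L _ hLf hOf).2 e'.hom
  obtain ⟨ψ, hψ⟩ := (Groth.Agent.Lib.Helper4.UnitFLF1.s3222 f hbij _ L hOf hLf).2 e'.inv
  simp only at hφ hψ
  refine ⟨⟨φ, ψ, ?_, ?_⟩⟩
  · apply (Groth.Agent.Lib.Helper4.UnitFLF1.s3222 f hbij L L hLf hLf).1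
    simp only [CategoryTheory.Functor.map_comp, CategoryTheory.Functor.map_id, hφ, hψ,
      Iso.hom_inv_id]
  · apply (Groth.Agent.Lib.Helper4.UnitFLF1.s3222 f hbij _ _ hOf hOf).1
    simp only [CategoryTheory.Functor.map_comp, CategoryTheory.Functor.map_id, hφ, hψ,
      Iso.inv_hom_id]

end Groth.Agent.Lead.PicInj1
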