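import Mathlib

/-! # Derivations of polynomial expressions; the cross-product identity for plane curves (helper9) -/

namespace Groth.Agent.Lead.PlaneDiffOld

open MvPolynomial

section PD

/-- chain rule: a derivation applied to a polynomial expression -/
theorem derivation_aeval {k B M σ : Type*} [CommRing k] [CommRing B] [Algebra k B]
    [AddCommGroup M] [Module B M] [Module k M] [IsScalarTower k B M] [Fintype σ]
    (d : Derivation k B M) (g : σ → B) (f : MvPolynomial σ k) :
    d (aeval g f) = ∑ i, aeval g (pderiv i f) • d (g i) := by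
  classical
  induction f using MvPolynomial.induction_on with
  | C c =>
    simp
  | add p q hp hq =>
    simp only [map_add, hp, hq, add_smul, Finset.sum_add_distrib]
  | mul_X p j hp =>
    have h1 : ∀ i, aeval g (pderiv i (p * X j)) • d (g i) =
        (if i = j then aeval g p • d (g i) else 0) + g j • (aeval g (pderiv i p) • d (g i)) := by
      intro i
      rw [Derivation.leibniz, pderiv_X, smul_eq_mul, smul_eq_mul, map_add, map_mul, map_mul,
        aeval_X, add_smul, mul_smul]
      congr 1
      · rw [Pi.single_apply]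
        by_cases hij : j = i
        · subst hij
          simp
        · rw [if_neg hij, if_neg (Ne.symm hij)]
          simp
      · rw [mul_smul]
    simp only [h1, Finset.sum_add_distrib, Finset.sum_ite_eq', Finset.mem_univ, if_true]
    rw [map_mul, aeval_X, Derivation.leibniz, hp, Finset.smul_sum]

/-- homogeneity under scaling of the point -/
theorem aeval_smul_of_isHomogeneous {k B σ : Type*} [CommRing k] [CommRing B] [Algebra k B]
    {h : MvPolynomial σ k} {m : ℕ} (hh : h.IsHomogeneous m) (c : B) (v : σ → B) :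
    aeval (fun i => c * v i) h = c ^ m * aeval v h := by
  classical
  rw [aeval_def, aeval_def, eval₂_eq, eval₂_eq, Finset.mul_sum]
  apply Finset.sum_congr rfl
  intro d hd
  have hdeg : ∑ i ∈ d.support, d i = m := by
    have := hh (mem_support_iff.mp hd)
    rw [Finsupp.weight_apply] at this
    simpa [Finsupp.sum] using this
  simp only [mul_pow, Finset.prod_mul_distrib, Finset.prod_pow_eq_pow_sum, hdeg]
  ring

end PD

section Cross

theorem cross_core {K M : Type*} [Field K] [AddCommGroup M] [Module K M]
    (a00 a01 a02 a10 a11 a12 a20 a21 a22 u0 u1 u2 F0 F1 F2 : K) (d0 d1 d2 : M)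
    (hp0 : a00 * u0 + a01 * u1 + a02 * u2 = 1)
    (hZ : a00 • d0 + a01 • d1 + a02 • d2 = 0)
    (hE : F0 * (a00 * u0 + a01 * u1 + a02 * u2) + F1 * (a10 * u0 + a11 * u1 + a12 * u2) +
      F2 * (a20 * u0 + a21 * u1 + a22 * u2) = 0)
    (hR : F0 • (a00 • d0 + a01 • d1 + a02 • d2) + F1 • (a10 • d0 + a11 • d1 + a12 • d2) +
      F2 • (a20 • d0 + a21 • d1 + a22 • d2) = 0) :
    (a02 * F0 + a12 * F1 + a22 * F2) • (a10 • d0 + a11 • d1 + a12 • d2) =
      ((a00 * a11 * a22 - a00 * a12 * a21 - a01 * a10 * a22 + a01 * a12 * a20 + a02 * a10 * a21 -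
        a02 * a11 * a20) * F2) • (u0 • d1 - u1 • d0) := by
  linear_combination (norm := module)
    hE • ((a02 * a10 - a00 * a12) • d0 - (a01 * a12 - a02 * a11) • d1) +
    ((a01 * a12 - a02 * a11) * u1 - (a02 * a10 - a00 * a12) * u0) • hR -
    hp0 • ((a02 * F0 + a12 * F1 + a22 * F2) • (a10 • d0 + a11 • d1 + a12 • d2)) +
    ((a02 * F0 + a12 * F1 + a22 * F2) * (a10 * u0 + a11 * u1 + a12 * u2)) • hZ

end Cross

end Groth.Agent.Lead.PlaneDiffOld
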