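import Mathlib
import Groth.Agent.Lib.Lead.LaurU

set_option autoImplicit false
universe u
open CategoryTheory CategoryTheory.Limits AlgebraicGeometry TopologicalSpace Opposite

namespace Groth.Agent.Lead.ProdTorus

/-- any two ring maps out of the global sections of the terminal scheme agree. -/
theorem terminal_hom_ext {R : CommRingCat.{u}} (φ ψ : Γ(⊤_ Scheme.{u}, ⊤) ⟶ R) : φ = ψ := by
  let e : ⊤_ Scheme.{u} ≅ Spec (CommRingCat.of (ULift.{u} ℤ)) :=
    terminalIsTerminal.uniqueUpToIso specULiftZIsTerminal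
  let i : Γ(⊤_ Scheme.{u}, ⊤) ≅ CommRingCat.of (ULift.{u} ℤ) :=
    (Scheme.Γ.mapIso e.op).symm ≪≫ Scheme.ΓSpecIso _
  have key : ∀ f g : CommRingCat.of (ULift.{u} ℤ) ⟶ R, f = g := by
    intro f g
    ext x
    have hx : x = ((x.down : ℤ) : ULift.{u} ℤ) := by
      cases x; rfl
    rw [hx, map_intCast, map_intCast]
  have h1 : i.inv ≫ φ = i.inv ≫ ψ := key _ _
  exact (cancel_epi i.inv).mp h1

variable (X : Scheme.{u}) (n : ℕ)

/-- the coordinate ring of the torus. -/
noncomputable abbrev B₀ : CommRingCat.{u} := CommRingCat.of (ULift.{u} (AddMonoidAlgebra ℤ (Fin n → ℤ)))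

noncomputable abbrev T : Scheme.{u} := Spec (B₀.{u} n)

noncomputable abbrev P : Scheme.{u} := X ⨯ T.{u} n

noncomputable abbrev pfst : P X n ⟶ X := prod.fst
noncomputable abbrev psnd : P X n ⟶ T.{u} n := prod.snd

variable {X n}

/-- preimage of `U` in the product. -/
noncomputable abbrev PU (U : X.Opens) : (P X n).Opens := (pfst X n) ⁻¹ᵁ U

theorem PU_le_snd (U : X.Opens) : PU (n := n) U ≤ (psnd X n) ⁻¹ᵁ ⊤ := by
  intro x _; trivial

/-- pullback of functions from `X`. -/
noncomputable def αr (U : X.Opens) : Γ(X, U) →+* Γ(P X n, PU U) :=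
  ((pfst X n).appLE U (PU U) le_rfl).hom

/-- pullback of functions from the torus. -/
noncomputable def βr (U : X.Opens) : Γ(T.{u} n, ⊤) →+* Γ(P X n, PU U) :=
  ((psnd X n).appLE ⊤ (PU U) (PU_le_snd U)).hom

/-- pullback of Laurent polynomials. -/
noncomputable def γr (U : X.Opens) : AddMonoidAlgebra ℤ (Fin n → ℤ) →+* Γ(P X n, PU U) :=
  (βr U).comp ((Scheme.ΓSpecIso (B₀.{u} n)).inv.hom.comp
    (ULift.ringEquiv.{0, u} (R := AddMonoidAlgebra ℤ (Fin n → ℤ))).symm.toRingHom)

theorem isPushout (U : X.Opens) (hU : IsAffineOpen U) :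
    IsPushout ((terminal.from X).appLE ⊤ U le_top)
      ((terminal.from (T.{u} n)).appLE ⊤ ⊤ le_top)
      ((pfst X n).appLE U (PU U) le_rfl) ((psnd X n).appLE ⊤ (PU U) (PU_le_snd U)) := by
  have H : IsPullback (pfst X n) (psnd X n) (terminal.from X) (terminal.from (T.{u} n)) :=
    IsPullback.of_hasBinaryProduct' X (T.{u} n)
  have hUY : PU (n := n) U = (pfst X n) ⁻¹ᵁ U ⊓ (psnd X n) ⁻¹ᵁ ⊤ := by
    ext x
    simp
  have h := isIso_pushoutSection_of_isAffineOpen H (US := ⊤) (UT := ⊤) (UX := U) le_top le_top hUY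
    (isAffineOpen_top _) (isAffineOpen_top _) hU
  exact (isIso_pushoutSection_iff H le_top le_top hUY).mp h

theorem exists_desc (U : X.Opens) (hU : IsAffineOpen U) {R : Type u} [CommRing R]
    (a : Γ(X, U) →+* R) (c : AddMonoidAlgebra ℤ (Fin n → ℤ) →+* R) :
    ∃ Φ : Γ(P X n, PU U) →+* R, Φ.comp (αr U) = a ∧ Φ.comp (γr U) = c := by
  let H := isPushout (n := n) U hU
  let b : Γ(T.{u} n, ⊤) ⟶ CommRingCat.of R :=
    (Scheme.ΓSpecIso (B₀.{u} n)).hom ≫ CommRingCat.ofHom (c.comp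
      (ULift.ringEquiv.{0, u} (R := AddMonoidAlgebra ℤ (Fin n → ℤ))).toRingHom)
  let Φc := H.desc (CommRingCat.ofHom a) b (terminal_hom_ext _ _)
  refine ⟨Φc.hom, ?_, ?_⟩
  · have h1 := H.inl_desc (CommRingCat.ofHom a) b (terminal_hom_ext _ _)
    have h2 := congrArg CommRingCat.Hom.hom h1
    exact h2
  · have h1 := H.inr_desc (CommRingCat.ofHom a) b (terminal_hom_ext _ _)
    refine RingHom.ext fun x => ?_
    have h2 := congrArg (fun f => f.hom ((Scheme.ΓSpecIso (B₀.{u} n)).inv.hom (ULift.up x))) h1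
    simp only [b] at h2
    change Φc.hom ((βr U) ((Scheme.ΓSpecIso (B₀.{u} n)).inv.hom (ULift.up x))) = _
    refine h2.trans ?_
    change c (ULift.down ((Scheme.ΓSpecIso (B₀.{u} n)).hom.hom
      ((Scheme.ΓSpecIso (B₀.{u} n)).inv.hom (ULift.up x)))) = c x
    rw [← CommRingCat.comp_apply, Iso.inv_hom_id]
    rfl

theorem hom_ext' (U : X.Opens) (hU : IsAffineOpen U) {R : Type u} [CommRing R]
    (k l : Γ(P X n, PU U) →+* R) (h1 : k.comp (αr U) = l.comp (αr U))
    (h2 : k.comp (γr U) = l.comp (γr U)) : k = l := by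
  let H := isPushout (n := n) U hU
  have : CommRingCat.ofHom k = CommRingCat.ofHom l := by
    apply H.hom_ext
    · ext x
      exact RingHom.congr_fun h1 x
    · ext y
      have hy : y = (Scheme.ΓSpecIso (B₀.{u} n)).inv.hom
          (ULift.up (ULift.down ((Scheme.ΓSpecIso (B₀.{u} n)).hom.hom y))) := by
        change y = (Scheme.ΓSpecIso (B₀.{u} n)).inv.hom ((Scheme.ΓSpecIso (B₀.{u} n)).hom.hom y)
        rw [← CommRingCat.comp_apply, Iso.hom_inv_id]
        rfl
      have := RingHom.congr_fun h2 (ULift.down ((Scheme.ΓSpecIso (B₀.{u} n)).hom.hom y))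
      change k ((βr U) _) = l ((βr U) _)
      rw [hy]
      exact this
  exact congrArg CommRingCat.Hom.hom this

end Groth.Agent.Lead.ProdTorus
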