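import Mathlib
import Groth.Agent.Lib.Lead.ProdTorus1

set_option autoImplicit false
universe u
open CategoryTheory CategoryTheory.Limits AlgebraicGeometry TopologicalSpace Opposite

namespace Groth.Agent.Lead.ProdTorus

variable {X : Scheme.{u}} {n : ℕ}

/-- base change of Laurent polynomials from `ℤ` to `A`. -/
noncomputable def ιr (A : Type u) [CommRing A] :
    AddMonoidAlgebra ℤ (Fin n → ℤ) →+* AddMonoidAlgebra A (Fin n → ℤ) :=
  AddMonoidAlgebra.liftNCRingHom (Int.castRingHom _) (AddMonoidAlgebra.of A (Fin n → ℤ))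
    (fun _ _ => Commute.all _ _)

theorem ιr_single (A : Type u) [CommRing A] (m : Fin n → ℤ) :
    ιr A (AddMonoidAlgebra.single m 1) = AddMonoidAlgebra.single m 1 := by
  unfold ιr
  rw [AddMonoidAlgebra.liftNCRingHom]
  simp [AddMonoidAlgebra.liftNC_single]

/-- the inverse comparison map. -/
noncomputable def Ψr (U : X.Opens) :
    AddMonoidAlgebra Γ(X, U) (Fin n → ℤ) →+* Γ(P X n, PU U) :=
  AddMonoidAlgebra.liftNCRingHom (αr U)
    (((γr (n := n) U) : AddMonoidAlgebra ℤ (Fin n → ℤ) →* Γ(P X n, PU U)).comp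
      (AddMonoidAlgebra.of ℤ (Fin n → ℤ)))
    (fun _ _ => Commute.all _ _)

theorem Ψr_single (U : X.Opens) (m : Fin n → ℤ) (d : Γ(X, U)) :
    Ψr U (AddMonoidAlgebra.single m d) = αr U d * γr U (AddMonoidAlgebra.single m 1) := by
  unfold Ψr
  rw [AddMonoidAlgebra.liftNCRingHom]
  simp [AddMonoidAlgebra.liftNC_single]

section Chart

variable (U : X.Opens) (hU : IsAffineOpen U)

include hU in
theorem exists_Φ : ∃ Φ : Γ(P X n, PU U) →+* AddMonoidAlgebra Γ(X, U) (Fin n → ℤ),
    Φ.comp (αr U) = AddMonoidAlgebra.singleZeroRingHom ∧ Φ.comp (γr U) = ιr Γ(X, U) ∧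
    (Ψr U).comp Φ = RingHom.id _ := by
  obtain ⟨Φ, h1, h2⟩ := exists_desc (n := n) U hU
    (AddMonoidAlgebra.singleZeroRingHom : Γ(X, U) →+* AddMonoidAlgebra Γ(X, U) (Fin n → ℤ))
    (ιr Γ(X, U))
  refine ⟨Φ, h1, h2, ?_⟩
  apply hom_ext' U hU
  · rw [RingHom.comp_assoc, h1]
    refine RingHom.ext fun x => ?_
    change Ψr U (AddMonoidAlgebra.single 0 x) = αr U x
    rw [Ψr_single]
    have : (AddMonoidAlgebra.single (0 : Fin n → ℤ) (1 : ℤ)) = 1 := AddMonoidAlgebra.one_def.symm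
    rw [this, map_one, mul_one]
  · rw [RingHom.comp_assoc, h2]
    apply AddMonoidAlgebra.ringHom_ext
    · intro r
      exact RingHom.congr_fun (RingHom.ext_int
        ((((Ψr U).comp (ιr Γ(X, U)))).comp AddMonoidAlgebra.singleZeroRingHom)
        ((((RingHom.id _).comp (γr U))).comp AddMonoidAlgebra.singleZeroRingHom)) r
    · intro m
      change Ψr U (ιr Γ(X, U) (AddMonoidAlgebra.single m 1)) = γr U (AddMonoidAlgebra.single m 1)
      rw [ιr_single, Ψr_single, map_one, one_mul]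

include hU in
theorem exists_rep [IsDomain Γ(X, U)] (v : Γ(P X n, PU U)) (hv : IsUnit v) :
    ∃ (d : (Γ(X, U))ˣ) (m : Fin n → ℤ),
      v = αr U (d : Γ(X, U)) * γr U (AddMonoidAlgebra.single m 1) := by
  obtain ⟨Φ, h1, h2, h3⟩ := exists_Φ (n := n) U hU
  obtain ⟨w, hw⟩ := hv.exists_right_inv
  have hmul : Φ v * Φ w = 1 := by rw [← map_mul, hw, map_one]
  obtain ⟨m, d, hd⟩ := LaurU.exists_single_of_mul_eq_one _ _ hmul
  refine ⟨d, m, ?_⟩
  have := RingHom.congr_fun h3 v
  change Ψr U (Φ v) = v at this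
  rw [← this, hd, Ψr_single]

include hU in
theorem rep_unique [IsDomain Γ(X, U)] (d d' : Γ(X, U)) (m m' : Fin n → ℤ) (hd : d ≠ 0)
    (h : αr U d * γr U (AddMonoidAlgebra.single m 1) =
      αr U d' * γr (n := n) U (AddMonoidAlgebra.single m' 1)) : m = m' ∧ d = d' := by
  obtain ⟨Φ, h1, h2, h3⟩ := exists_Φ (n := n) U hU
  have key : ∀ (e : Γ(X, U)) (k : Fin n → ℤ),
      Φ (αr U e * γr U (AddMonoidAlgebra.single k 1)) = AddMonoidAlgebra.single k e := by
    intro e k
    rw [map_mul]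
    have e1 : Φ (αr U e) = AddMonoidAlgebra.single 0 e := RingHom.congr_fun h1 e
    have e2 : Φ (γr U (AddMonoidAlgebra.single k 1)) = AddMonoidAlgebra.single k 1 := by
      have := RingHom.congr_fun h2 (AddMonoidAlgebra.single k 1)
      change Φ (γr U (AddMonoidAlgebra.single k 1)) = _ at this
      rw [this, ιr_single]
    rw [e1, e2, AddMonoidAlgebra.single_mul_single, zero_add, mul_one]
  have := congrArg Φ h
  rw [key, key] at this
  exact LaurU.single_eq_single hd this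

end Chart

end Groth.Agent.Lead.ProdTorus
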