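import Mathlib
import Groth.Agent.Lib.Lead.ProdTorus2

set_option autoImplicit false
universe u
open CategoryTheory CategoryTheory.Limits AlgebraicGeometry TopologicalSpace Opposite

namespace Groth.Agent.Lead.ProdTorus

variable {X : Scheme.{u}} {n : ℕ}

theorem PU_mono {U V : X.Opens} (h : V ≤ U) : PU (n := n) V ≤ PU U := fun _ hx => h hx

theorem αr_res {U V : X.Opens} (h : V ≤ U) (a : Γ(X, U)) :
    (P X n).presheaf.map (homOfLE (PU_mono (n := n) h)).op (αr U a) =
      αr V (X.presheaf.map (homOfLE h).op a) := by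
  unfold αr
  change ((pfst X n).appLE U (PU U) le_rfl ≫ (P X n).presheaf.map (homOfLE (PU_mono h)).op) a =
    (X.presheaf.map (homOfLE h).op ≫ (pfst X n).appLE V (PU V) le_rfl) a
  rw [Scheme.Hom.appLE_map, Scheme.Hom.map_appLE]

theorem βr_res {U V : X.Opens} (h : V ≤ U) (c : Γ(T.{u} n, ⊤)) :
    (P X n).presheaf.map (homOfLE (PU_mono (n := n) h)).op (βr U c) = βr V c := by
  unfold βr
  change ((psnd X n).appLE ⊤ (PU U) (PU_le_snd U) ≫
    (P X n).presheaf.map (homOfLE (PU_mono h)).op) c = _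
  rw [Scheme.Hom.appLE_map]

theorem γr_res {U V : X.Opens} (h : V ≤ U) (c : AddMonoidAlgebra ℤ (Fin n → ℤ)) :
    (P X n).presheaf.map (homOfLE (PU_mono (n := n) h)).op (γr U c) = γr V c := by
  unfold γr
  exact βr_res h _

/-- `v` restricted over `U` is `d · χ^m`. -/
def IsRep (v : Γ(P X n, ⊤)) (U : X.Opens) (d : Γ(X, U)) (m : Fin n → ℤ) : Prop :=
  (P X n).presheaf.map (homOfLE (le_top : PU (n := n) U ≤ ⊤)).op v =
    αr U d * γr U (AddMonoidAlgebra.single m 1)

theorem IsRep.res {v : Γ(P X n, ⊤)} {U V : X.Opens} {d : Γ(X, U)} {m : Fin n → ℤ}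
    (h : IsRep v U d m) (hVU : V ≤ U) : IsRep v V (X.presheaf.map (homOfLE hVU).op d) m := by
  unfold IsRep at h ⊢
  have e : (P X n).presheaf.map (homOfLE (le_top : PU (n := n) V ≤ ⊤)).op v =
      (P X n).presheaf.map (homOfLE (PU_mono (n := n) hVU)).op
        ((P X n).presheaf.map (homOfLE (le_top : PU (n := n) U ≤ ⊤)).op v) := by
    rw [← CommRingCat.comp_apply, ← Functor.map_comp]
    rfl
  rw [e, h, map_mul, αr_res hVU, γr_res hVU]

theorem isRep_top_iff (v : Γ(P X n, ⊤)) (d : Γ(X, ⊤)) (m : Fin n → ℤ) :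
    IsRep v ⊤ d m ↔ v = (pfst X n).appTop d *
      (psnd X n).appTop ((Scheme.ΓSpecIso (B₀.{u} n)).inv
        (ULift.up (AddMonoidAlgebra.single m 1))) := by
  unfold IsRep
  have e1 : (P X n).presheaf.map (homOfLE (le_top : PU (n := n) (⊤ : X.Opens) ≤ ⊤)).op v = v := by
    change ((P X n).presheaf.map (𝟙 (op (⊤ : (P X n).Opens)))) v = v
    rw [CategoryTheory.Functor.map_id]
    rfl
  have e2 : αr (n := n) ⊤ d = (pfst X n).appTop d := by
    unfold αr
    rw [← Scheme.Hom.app_eq_appLE]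
    rfl
  have e3 : γr (X := X) (n := n) ⊤ (AddMonoidAlgebra.single m 1) =
      (psnd X n).appTop ((Scheme.ΓSpecIso (B₀.{u} n)).inv
        (ULift.up (AddMonoidAlgebra.single m 1))) := by
    unfold γr βr
    have : (psnd X n).appLE ⊤ (PU (n := n) (⊤ : X.Opens)) (PU_le_snd ⊤) = (psnd X n).appTop := by
      rw [Scheme.Hom.appLE]
      change (psnd X n).app ⊤ ≫ (P X n).presheaf.map (𝟙 (op ((psnd X n) ⁻¹ᵁ ⊤))) = _
      rw [CategoryTheory.Functor.map_id, Category.comp_id]
    rw [this]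
    rfl
  rw [e1, e2, e3]
  exact Iff.rfl

end Groth.Agent.Lead.ProdTorus
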