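import Mathlib
import Groth.Agent.Lib.Lead.ProdTorus3

set_option autoImplicit false
universe u
open CategoryTheory CategoryTheory.Limits AlgebraicGeometry TopologicalSpace Opposite

namespace Groth.Agent.Lead.ProdTorus

variable {X : Scheme.{u}} {n : ℕ}

theorem isRep_unique {v : Γ(P X n, ⊤)} {U : X.Opens} (hU : IsAffineOpen U) [IsDomain Γ(X, U)]
    {d d' : Γ(X, U)} {m m' : Fin n → ℤ} (hd : d ≠ 0)
    (h : IsRep v U d m) (h' : IsRep v U d' m') : m = m' ∧ d = d' :=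
  rep_unique U hU d d' m m' hd (h.symm.trans h')

theorem exists_isRep {v : Γ(P X n, ⊤)} (hv : IsUnit v) {U : X.Opens} (hU : IsAffineOpen U)
    [IsDomain Γ(X, U)] : ∃ (d : (Γ(X, U))ˣ) (m : Fin n → ℤ), IsRep v U (d : Γ(X, U)) m :=
  exists_rep U hU _ (hv.map _)

theorem germ_res {U V : X.Opens} (h : V ≤ U) (x : X) (hx : x ∈ V) (a : Γ(X, U)) :
    X.presheaf.germ V x hx (X.presheaf.map (homOfLE h).op a) = X.presheaf.germ U x (h hx) a := by
  rw [← CommRingCat.comp_apply, TopCat.Presheaf.germ_res]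

theorem main [IsIntegral X] (v : Γ(P X n, ⊤)) (hv : IsUnit v) :
    ∃! p : (Γ(X, ⊤))ˣ × (Fin n → ℤ), IsRep v ⊤ (p.1 : Γ(X, ⊤)) p.2 := by
  classical
  let ι := {V : X.Opens // IsAffineOpen V ∧ (V : Set X).Nonempty}
  have hdom : ∀ i : ι, IsDomain Γ(X, i.1) := fun i => by
    exact @IsIntegral.component_integral X _ i.1 i.2.2.to_subtype
  have hrep : ∀ i : ι, ∃ (d : (Γ(X, i.1))ˣ) (m : Fin n → ℤ), IsRep v i.1 (d : Γ(X, i.1)) m :=
    fun i => by
      haveI := hdom i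
      exact exists_isRep hv i.2.1
  choose d m hdm using hrep
  have hdne : ∀ i : ι, (d i : Γ(X, i.1)) ≠ 0 := fun i => by
    haveI := hdom i
    exact (d i).ne_zero
  -- compatibility under shrinking
  have hcomp : ∀ (i j : ι) (h : j.1 ≤ i.1), m i = m j ∧
      X.presheaf.map (homOfLE h).op (d i : Γ(X, i.1)) = (d j : Γ(X, j.1)) := by
    intro i j h
    haveI := hdom j
    have h1 := (hdm i).res h
    have hne : X.presheaf.map (homOfLE h).op (d i : Γ(X, i.1)) ≠ 0 :=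
      ((d i).isUnit.map (X.presheaf.map (homOfLE h).op).hom).ne_zero
    exact isRep_unique j.2.1 hne h1 (hdm j)
  -- every point has an index
  have hpt : ∀ (W : X.Opens) (x : X), x ∈ W → ∃ k : ι, x ∈ k.1 ∧ k.1 ≤ W := by
    intro W x hx
    obtain ⟨U', hU', hxU', hle⟩ := Opens.isBasis_iff_nbhd.mp X.isBasis_affineOpens hx
    exact ⟨⟨U', hU', ⟨x, hxU'⟩⟩, hxU', hle⟩
  have hm : ∀ i j : ι, m i = m j := by
    intro i j
    obtain ⟨x, hxi, hxj⟩ := nonempty_preirreducible_inter i.1.2 j.1.2 i.2.2 j.2.2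
    obtain ⟨k, -, hk⟩ := hpt (i.1 ⊓ j.1) x ⟨hxi, hxj⟩
    rw [(hcomp i k (hk.trans inf_le_left)).1, (hcomp j k (hk.trans inf_le_right)).1]
  have hcov : (⊤ : X.Opens) ≤ ⨆ i : ι, i.1 := by
    intro x _
    obtain ⟨k, hxk, -⟩ := hpt ⊤ x trivial
    exact Opens.mem_iSup.mpr ⟨k, hxk⟩
  let sf : ∀ i : ι, X.sheaf.1.obj (op i.1) := fun i => (d i : Γ(X, i.1))
  have hcompat : TopCat.Presheaf.IsCompatible X.sheaf.1 (fun i : ι => i.1) sf := by
    intro i j
    apply TopCat.Presheaf.section_ext X.sheaf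
    intro x hx
    obtain ⟨k, hxk, hk⟩ := hpt (i.1 ⊓ j.1) x hx
    have e1 := germ_res (inf_le_left : i.1 ⊓ j.1 ≤ i.1) x hx (d i : Γ(X, i.1))
    have e2 := germ_res (inf_le_right : i.1 ⊓ j.1 ≤ j.1) x hx (d j : Γ(X, j.1))
    have e3 := germ_res (hk.trans inf_le_left) x hxk (d i : Γ(X, i.1))
    have e4 := germ_res (hk.trans inf_le_right) x hxk (d j : Γ(X, j.1))
    rw [(hcomp i k _).2] at e3
    rw [(hcomp j k _).2] at e4
    change X.presheaf.germ (i.1 ⊓ j.1) x hx (X.presheaf.map (homOfLE inf_le_left).op (d i : Γ(X, i.1))) =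
      X.presheaf.germ (i.1 ⊓ j.1) x hx (X.presheaf.map (homOfLE inf_le_right).op (d j : Γ(X, j.1)))
    rw [e1, e2, ← e3, ← e4]
  obtain ⟨a, ha', hauniq⟩ : ∃! a : Γ(X, ⊤), ∀ i : ι,
      X.presheaf.map (homOfLE (le_top : i.1 ≤ ⊤)).op a = (d i : Γ(X, i.1)) :=
    X.sheaf.existsUnique_gluing' (fun i : ι => i.1) ⊤
      (fun i => homOfLE le_top) hcov sf hcompat
  -- `a` is a unit
  have hau : IsUnit a := by
    apply RingedSpace.isUnit_of_isUnit_germ X.toRingedSpace ⊤ a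
    intro x hx
    obtain ⟨k, hxk, -⟩ := hpt ⊤ x trivial
    have e := germ_res (le_top : k.1 ≤ ⊤) x hxk a
    rw [ha' k] at e
    change IsUnit (X.presheaf.germ ⊤ x hx a)
    rw [← e]
    exact (d k).isUnit.map _
  obtain ⟨i₀⟩ : Nonempty ι := by
    obtain ⟨x⟩ : Nonempty X := inferInstance
    obtain ⟨k, -, -⟩ := hpt ⊤ x trivial
    exact ⟨k⟩
  -- existence
  have hex : IsRep v ⊤ a (m i₀) := by
    unfold IsRep
    apply TopCat.Sheaf.eq_of_locally_eq' (P X n).sheaf (fun i : ι => PU (n := n) i.1) (PU ⊤)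
      (fun i => homOfLE (PU_mono le_top))
    · intro y _
      obtain ⟨k, hk, -⟩ := hpt ⊤ ((pfst X n).base y) trivial
      exact Opens.mem_iSup.mpr ⟨k, hk⟩
    · intro i
      change (P X n).presheaf.map (homOfLE (PU_mono le_top)).op
          ((P X n).presheaf.map (homOfLE le_top).op v) =
        (P X n).presheaf.map (homOfLE (PU_mono le_top)).op
          (αr ⊤ a * γr ⊤ (AddMonoidAlgebra.single (m i₀) 1))
      rw [map_mul, αr_res (le_top : i.1 ≤ ⊤), γr_res (le_top : i.1 ≤ ⊤), ha' i, hm i₀ i]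
      rw [← hdm i, ← CommRingCat.comp_apply, ← Functor.map_comp]
      rfl
  refine ⟨(hau.unit, m i₀), hex, ?_⟩
  rintro ⟨a', m'⟩ h'
  change IsRep v ⊤ (a' : Γ(X, ⊤)) m' at h'
  have hk : ∀ i : ι, m i = m' ∧
      (d i : Γ(X, i.1)) = X.presheaf.map (homOfLE (le_top : i.1 ≤ ⊤)).op (a' : Γ(X, ⊤)) := by
    intro i
    haveI := hdom i
    exact isRep_unique i.2.1 (hdne i) (hdm i) (h'.res le_top)
  have haa : (a' : Γ(X, ⊤)) = a := by
    apply hauniq
    intro i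
    exact (hk i).2.symm
  apply Prod.ext
  · apply Units.ext
    change (a' : Γ(X, ⊤)) = hau.unit
    rw [haa]
    rfl
  · exact (hk i₀).1.symm

end Groth.Agent.Lead.ProdTorus
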