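import Mathlib
import Groth.Agent.Lib.Lead.Blow7
import Groth.Prelude.Def_CohB1

/-!
# A surjective graded ring homomorphism induces a closed immersion of `Proj` (lead)
-/

set_option autoImplicit false
set_option backward.isDefEq.respectTransparency.types false
set_option synthInstance.maxHeartbeats 400000
set_option linter.style.haveILetI false
set_option linter.unusedSectionVars false
universe u
open CategoryTheory CategoryTheory.Limits AlgebraicGeometry TopologicalSpace Opposite

namespace Groth.Agent.Lead.ProjCI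

open HomogeneousLocalization HomogeneousIdeal

section General

variable {A B : Type u} {σ τ : Type u} [CommRing A] [SetLike σ A] [AddSubgroupClass σ A]
  [CommRing B] [SetLike τ B] [AddSubgroupClass τ B]
  {𝒜 : ℕ → σ} {ℬ : ℕ → τ} [GradedRing 𝒜] [GradedRing ℬ] (f : 𝒜 →+*ᵍ ℬ)

theorem exists_homog_preimage (hf : Function.Surjective f) (i : ℕ) (y : B) (hy : y ∈ ℬ i) :
    ∃ x ∈ 𝒜 i, f x = y := by
  obtain ⟨x, rfl⟩ := hf y
  refine ⟨DirectSum.decompose 𝒜 x i, SetLike.coe_mem _, ?_⟩
  rw [GradedRingHom.map_directSumDecompose, DirectSum.decompose_of_mem_same ℬ hy]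

theorem irrelevant_le_map (hf : Function.Surjective f) :
    HomogeneousIdeal.irrelevant ℬ ≤ (HomogeneousIdeal.irrelevant 𝒜).map f := by
  change (HomogeneousIdeal.irrelevant ℬ).toIdeal ≤
    Ideal.map f (HomogeneousIdeal.irrelevant 𝒜).toIdeal
  rw [HomogeneousIdeal.toIdeal_irrelevant_le]
  intro i hi y hy
  obtain ⟨x, hx, rfl⟩ := exists_homog_preimage f hf i y hy
  exact Ideal.mem_map_of_mem _ (HomogeneousIdeal.mem_irrelevant_of_mem _ hi hx)

theorem away_map_surjective (hf : Function.Surjective f) {i : ℕ} (s : A) (hs : s ∈ 𝒜 i) :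
    Function.Surjective (HomogeneousLocalization.Away.map f s) := by
  intro z
  obtain ⟨n, y, hy, rfl⟩ := HomogeneousLocalization.Away.mk_surjective ℬ (f.2 hs) z
  obtain ⟨x, hx, hxy⟩ := exists_homog_preimage f hf (n • i) y hy
  subst hxy
  exact ⟨HomogeneousLocalization.Away.mk 𝒜 hs n x hx,
    HomogeneousLocalization.Away.map_mk f s hs n x hx⟩

theorem isClosedImmersion_map (hf : Function.Surjective f) :
    IsClosedImmersion (Proj.map f (irrelevant_le_map f hf)) := by
  apply Groth.Agent.Lead.Blow.of_local_isPullback (P := @IsClosedImmersion)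
  intro p
  obtain ⟨i, y, hy⟩ := (Proj.affineOpenCover 𝒜).openCover.exists_eq p
  refine ⟨_, _, Proj.awayι ℬ (f i.2.1) (f.2 i.2.2) i.1.2, Proj.awayι 𝒜 i.2.1 i.2.2 i.1.2,
    Spec.map (CommRingCat.ofHom (HomogeneousLocalization.Away.map f i.2.1)),
    inferInstance, ⟨y, hy⟩, ?_, ?_⟩
  · refine (IsOpenImmersion.isPullback _ _ _ _ ?_ ?_).flip
    · exact Proj.awayι_comp_map f (irrelevant_le_map f hf) i.1.2 i.2.1 i.2.2
    · rw [Proj.opensRange_awayι, Proj.opensRange_awayι]
      rfl
  · exact IsClosedImmersion.spec_of_surjective _ (away_map_surjective f hf i.2.1 i.2.2)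

theorem map_base_apply (hf : Function.Surjective f) (p : Proj ℬ) (x : A) :
    x ∈ ((Proj.map f (irrelevant_le_map f hf)).base p).asHomogeneousIdeal ↔
      f x ∈ p.asHomogeneousIdeal := Iff.rfl

theorem chart_comm {R : Type u} [CommRing R] (hirr : HomogeneousIdeal.irrelevant ℬ ≤
      (HomogeneousIdeal.irrelevant 𝒜).map f) (a : R →+* 𝒜 0) (b : R →+* ℬ 0)
    (hab : ∀ c : R, f (a c : A) = (b c : B)) (i : ℕ) (hi : 0 < i) (s : A) (hs : s ∈ 𝒜 i) :
    Proj.awayι ℬ (f s) (f.2 hs) hi ≫ Proj.map f hirr ≫ Proj.toSpecZero 𝒜 ≫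
        Spec.map (CommRingCat.ofHom a) =
      Proj.awayι ℬ (f s) (f.2 hs) hi ≫ Proj.toSpecZero ℬ ≫ Spec.map (CommRingCat.ofHom b) := by
  rw [Proj.awayι_comp_map_assoc f hirr hi s hs, Proj.awayι_toSpecZero_assoc,
    Proj.awayι_toSpecZero_assoc, ← Spec.map_comp, ← Spec.map_comp, ← Spec.map_comp]
  congr 1
  refine CommRingCat.hom_ext (RingHom.ext fun c => ?_)
  apply HomogeneousLocalization.val_injective
  change Localization.mk (f (a c : A)) ⟨f 1, _⟩ = Localization.mk (b c : B) 1
  apply Localization.mk_eq_mk_iff.mpr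
  apply Localization.r_of_eq
  change 1 * f (a c : A) = f 1 * (b c : B)
  rw [hab, map_one]

/-- compatibility with the structure maps to the degree zero parts -/
theorem map_toSpecZero {R : Type u} [CommRing R] (hirr : HomogeneousIdeal.irrelevant ℬ ≤
      (HomogeneousIdeal.irrelevant 𝒜).map f) (a : R →+* 𝒜 0) (b : R →+* ℬ 0)
    (hab : ∀ c : R, f (a c : A) = (b c : B)) :
    Proj.map f hirr ≫ Proj.toSpecZero 𝒜 ≫ Spec.map (CommRingCat.ofHom a) =
      Proj.toSpecZero ℬ ≫ Spec.map (CommRingCat.ofHom b) := by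
  refine (Proj.mapAffineOpenCover f hirr).openCover.hom_ext _ _ fun s ↦ ?_
  exact chart_comm f hirr a b hab s.1.1 s.1.2 s.2.1 s.2.2

end General

section Linear

open MvPolynomial

variable (R : Type u) [CommRing R] (n m : ℕ)

/-- images of the variables under the first projection -/
noncomputable def v₁ : Fin (n + m + 1 + 1) → MvPolynomial (Fin (n + 1)) R :=
  fun i => if h : (i : ℕ) < n + 1 then X ⟨i, h⟩ else 0

/-- images of the variables under the second projection -/
noncomputable def v₂ : Fin (n + m + 1 + 1) → MvPolynomial (Fin (m + 1)) R :=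
  fun i => if h : n + 1 ≤ (i : ℕ) then X ⟨i - (n + 1), by have := i.2; omega⟩ else 0

/-- the first embedding of index sets -/
def emb₁ : Fin (n + 1) → Fin (n + m + 1 + 1) := fun j => ⟨j, by have := j.2; omega⟩

/-- the second embedding of index sets -/
def emb₂ : Fin (m + 1) → Fin (n + m + 1 + 1) := fun j => ⟨j + (n + 1), by have := j.2; omega⟩

theorem v₁_emb₁ : v₁ R n m ∘ emb₁ n m = X := by
  funext j
  have h : ((emb₁ n m j : Fin (n + m + 1 + 1)) : ℕ) < n + 1 := j.2
  simp only [Function.comp_apply, v₁, dif_pos h]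
  rfl

theorem v₂_emb₂ : v₂ R n m ∘ emb₂ n m = X := by
  funext j
  have h : n + 1 ≤ ((emb₂ n m j : Fin (n + m + 1 + 1)) : ℕ) := Nat.le_add_left _ _
  simp only [Function.comp_apply, v₂, dif_pos h]
  congr 1
  apply Fin.ext
  show (j : ℕ) + (n + 1) - (n + 1) = j
  omega

theorem v₁_of_ge (i : Fin (n + m + 1 + 1)) (h : ¬ (i : ℕ) < n + 1) : v₁ R n m i = 0 := by
  simp only [v₁, dif_neg h]

theorem v₂_of_lt (i : Fin (n + m + 1 + 1)) (h : (i : ℕ) < n + 1) : v₂ R n m i = 0 := by
  have h' : ¬ n + 1 ≤ (i : ℕ) := by omega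
  simp only [v₂, dif_neg h']

theorem isHomogeneous_v₁ (i : Fin (n + m + 1 + 1)) : (v₁ R n m i).IsHomogeneous 1 := by
  unfold v₁
  split_ifs
  · exact isHomogeneous_X _ _
  · exact isHomogeneous_zero _ _ _

theorem isHomogeneous_v₂ (i : Fin (n + m + 1 + 1)) : (v₂ R n m i).IsHomogeneous 1 := by
  unfold v₂
  split_ifs
  · exact isHomogeneous_X _ _
  · exact isHomogeneous_zero _ _ _

/-- the first linear projection as a graded ring homomorphism -/
noncomputable def g₁ : CohB1.polyGrading (n + m + 1) R →+*ᵍ CohB1.polyGrading n R where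
  toRingHom := (aeval (v₁ R n m) : MvPolynomial (Fin (n + m + 1 + 1)) R →ₐ[R] _).toRingHom
  map_mem := by
    intro d x hx
    have h := IsHomogeneous.aeval (n := 1) ((mem_homogeneousSubmodule _ _).1 hx) (v₁ R n m)
      (isHomogeneous_v₁ R n m)
    rw [one_mul] at h
    exact (mem_homogeneousSubmodule _ _).2 h

/-- the second linear projection as a graded ring homomorphism -/
noncomputable def g₂ : CohB1.polyGrading (n + m + 1) R →+*ᵍ CohB1.polyGrading m R where
  toRingHom := (aeval (v₂ R n m) : MvPolynomial (Fin (n + m + 1 + 1)) R →ₐ[R] _).toRingHom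
  map_mem := by
    intro d x hx
    have h := IsHomogeneous.aeval (n := 1) ((mem_homogeneousSubmodule _ _).1 hx) (v₂ R n m)
      (isHomogeneous_v₂ R n m)
    rw [one_mul] at h
    exact (mem_homogeneousSubmodule _ _).2 h

theorem g₁_apply (x : MvPolynomial (Fin (n + m + 1 + 1)) R) : g₁ R n m x = aeval (v₁ R n m) x := rfl

theorem g₂_apply (x : MvPolynomial (Fin (n + m + 1 + 1)) R) : g₂ R n m x = aeval (v₂ R n m) x := rfl

theorem g₁_surjective : Function.Surjective (g₁ R n m) := by
  intro y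
  refine ⟨rename (emb₁ n m) y, ?_⟩
  rw [g₁_apply, aeval_rename, v₁_emb₁, aeval_X_left]
  rfl

theorem g₂_surjective : Function.Surjective (g₂ R n m) := by
  intro y
  refine ⟨rename (emb₂ n m) y, ?_⟩
  rw [g₂_apply, aeval_rename, v₂_emb₂, aeval_X_left]
  rfl

/-- the first linear embedding -/
noncomputable def ι₁ : CohB1.ProjSpace n R ⟶ CohB1.ProjSpace (n + m + 1) R :=
  Proj.map (g₁ R n m) (irrelevant_le_map _ (g₁_surjective R n m))

/-- the second linear embedding -/
noncomputable def ι₂ : CohB1.ProjSpace m R ⟶ CohB1.ProjSpace (n + m + 1) R :=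
  Proj.map (g₂ R n m) (irrelevant_le_map _ (g₂_surjective R n m))

instance : IsClosedImmersion (ι₁ R n m) := isClosedImmersion_map _ (g₁_surjective R n m)

instance : IsClosedImmersion (ι₂ R n m) := isClosedImmersion_map _ (g₂_surjective R n m)

theorem ι₁_toSpec : ι₁ R n m ≫ CohB1.ProjSpace.toSpec (n + m + 1) R = CohB1.ProjSpace.toSpec n R := by
  unfold ι₁ CohB1.ProjSpace.toSpec
  refine map_toSpecZero (g₁ R n m) _ _ _ (fun c => ?_)
  rw [g₁_apply]
  exact (aeval (v₁ R n m)).commutes c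

theorem ι₂_toSpec : ι₂ R n m ≫ CohB1.ProjSpace.toSpec (n + m + 1) R = CohB1.ProjSpace.toSpec m R := by
  unfold ι₂ CohB1.ProjSpace.toSpec
  refine map_toSpecZero (g₂ R n m) _ _ _ (fun c => ?_)
  rw [g₂_apply]
  exact (aeval (v₂ R n m)).commutes c

theorem mem_span_X_of_homogeneous {σ : Type*} (d : ℕ) (hd : 0 < d) (x : MvPolynomial σ R)
    (hx : x.IsHomogeneous d) : x ∈ Ideal.span (X '' (Set.univ : Set σ)) := by
  rw [mem_ideal_span_X_image]
  intro mm hmm
  by_contra hcon
  have hz : mm = 0 := by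
    ext i
    by_contra hi
    exact hcon ⟨i, Set.mem_univ _, hi⟩
  have hc : coeff mm x = 0 := by
    apply hx.coeff_eq_zero
    rw [hz]
    simp only [map_zero]
    omega
  exact (mem_support_iff.1 hmm) hc

theorem ι₁_ne_ι₂ (p : CohB1.ProjSpace n R) (q : CohB1.ProjSpace m R) :
    (ι₁ R n m).base p ≠ (ι₂ R n m).base q := by
  intro h
  have hX : ∀ i : Fin (n + m + 1 + 1),
      (X i : MvPolynomial (Fin (n + m + 1 + 1)) R) ∈
        (((ι₁ R n m).base p : Proj (CohB1.polyGrading (n + m + 1) R))).asHomogeneousIdeal := by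
    intro i
    by_cases hi : (i : ℕ) < n + 1
    · rw [h]
      show g₂ R n m (X i) ∈ (q : Proj (CohB1.polyGrading m R)).asHomogeneousIdeal
      rw [g₂_apply, aeval_X, v₂_of_lt R n m i hi]
      exact zero_mem _
    · show g₁ R n m (X i) ∈ (p : Proj (CohB1.polyGrading n R)).asHomogeneousIdeal
      rw [g₁_apply, aeval_X, v₁_of_ge R n m i hi]
      exact zero_mem _
  apply (((ι₁ R n m).base p : Proj (CohB1.polyGrading (n + m + 1) R))).not_irrelevant_le
  change (HomogeneousIdeal.irrelevant _).toIdeal ≤ _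
  rw [HomogeneousIdeal.toIdeal_irrelevant_le]
  intro d hd x hx
  have h1 := mem_span_X_of_homogeneous R d hd x ((mem_homogeneousSubmodule _ _).1 hx)
  refine (Ideal.span_le.2 ?_) h1
  rintro _ ⟨i, -, rfl⟩
  exact hX i

end Linear

end Groth.Agent.Lead.ProjCI
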