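import Mathlib

set_option autoImplicit false
set_option linter.style.haveILetI false
set_option linter.unusedSectionVars false

namespace Groth.Agent.Lib.Lead.PsRefl1

open TensorProduct

section Rank

variable {R : Type*} [CommRing R] [IsDomain R] {M : Type*} [AddCommGroup M] [Module R M]
  [Module.Finite R M]

theorem finrank_le_spanFinrank {R : Type*} [CommRing R] [Nontrivial R] {M : Type*}
    [AddCommGroup M] [Module R M] [Module.Finite R M] :
    Module.finrank R M ≤ (⊤ : Submodule R M).spanFinrank := by
  have h := Submodule.rank_le_spanRank (R := R) (M := M)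
  have hfin : (⊤ : Submodule R M).spanRank < Cardinal.aleph0 :=
    Submodule.spanRank_finite_iff_fg.2 Module.Finite.fg_top
  exact Cardinal.toNat_le_toNat h hfin

set_option synthInstance.maxHeartbeats 400000 in
theorem finrank_le_finrank_fiber (p : Ideal R) [p.IsPrime] :
    Module.finrank R M ≤ Module.finrank p.ResidueField (p.Fiber M) := by
  let Rp := Localization.AtPrime p
  let Mp := Rp ⊗[R] M
  have h1 : Module.finrank Rp Mp = Module.finrank R M :=
    (TensorProduct.isBaseChange R M Rp).finrank_eq
  have h2 : Module.finrank Rp Mp ≤ (⊤ : Submodule Rp Mp).spanFinrank := finrank_le_spanFinrank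
  have h3 : (⊤ : Submodule p.ResidueField (p.ResidueField ⊗[Rp] (⊤ : Submodule Rp Mp))).spanFinrank
      = (⊤ : Submodule Rp Mp).spanFinrank :=
    TensorProduct.spanFinrank_top_eq_of_residueField (⊤ : Submodule Rp Mp) Module.Finite.fg_top
  have h4 : Module.finrank p.ResidueField (p.ResidueField ⊗[Rp] (⊤ : Submodule Rp Mp)) =
      (⊤ : Submodule p.ResidueField (p.ResidueField ⊗[Rp] (⊤ : Submodule Rp Mp))).spanFinrank :=
    Module.finrank_eq_spanFinrank_of_free
  let e1 : p.ResidueField ⊗[Rp] (⊤ : Submodule Rp Mp) ≃ₗ[p.ResidueField] p.ResidueField ⊗[Rp] Mp :=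
    TensorProduct.AlgebraTensorModule.congr (LinearEquiv.refl _ _) Submodule.topEquiv
  let e2 : p.ResidueField ⊗[Rp] Mp ≃ₗ[p.ResidueField] p.ResidueField ⊗[R] M :=
    TensorProduct.AlgebraTensorModule.cancelBaseChange _ _ _ _ _
  rw [← h1]
  calc Module.finrank Rp Mp ≤ (⊤ : Submodule Rp Mp).spanFinrank := h2
    _ = Module.finrank p.ResidueField (p.ResidueField ⊗[Rp] (⊤ : Submodule Rp Mp)) := by
        rw [h4, h3]
    _ = Module.finrank p.ResidueField (p.ResidueField ⊗[R] M) := (e1.trans e2).finrank_eq

end Rank

section Galois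

open scoped Pointwise

variable {B A G : Type*} [CommRing B] [CommRing A] [IsDomain A] [Algebra B A] [FaithfulSMul B A]
  [Module.Finite B A] [Group G] [Finite G] [MulSemiringAction G A] [IsGaloisGroup G B A]

open Ideal in
theorem card_stabilizer_le_ramificationIdx (q : Ideal B) [q.IsPrime] (p : Ideal A) [p.IsPrime]
    [p.LiesOver q] (hf : p.inertiaDeg B = 1) :
    Nat.card (MulAction.stabilizer G p) ≤ p.ramificationIdx B := by
  haveI : IsDomain B := IsDomain.of_faithfulSMul B A
  have : Fintype (q.primesOver A) := (Algebra.QuasiFinite.finite_primesOver q).fintype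
  have h1 := Ideal.sum_ramification_inertia_eq_finrank_fiber q A
  have h2 : ∀ P : q.primesOver A,
      P.1.ramificationIdx B * P.1.inertiaDeg B = p.ramificationIdx B := by
    intro P
    haveI := P.2.1
    haveI := P.2.2
    rw [Ideal.ramificationIdx_eq_of_isGaloisGroup q P.1 p G,
      Ideal.inertiaDeg_eq_of_isGaloisGroup q P.1 p G, hf, mul_one]
  simp_rw [h2] at h1
  rw [Finset.sum_const, smul_eq_mul, Finset.card_univ, Set.fintypeCard_eq_ncard] at h1
  have h3 : Nat.card G ≤ Module.finrank q.ResidueField (q.Fiber A) := by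
    rw [IsGaloisGroup.card_eq_finrank' G B A]
    exact finrank_le_finrank_fiber q
  have h4 : (q.primesOver A).ncard * Nat.card (MulAction.stabilizer G p) = Nat.card G := by
    rw [← Algebra.IsInvariant.orbit_eq_primesOver B A G q p]
    simpa using Nat.card_congr (MulAction.orbitProdStabilizerEquivGroup G p)
  have h5 : 0 < (q.primesOver A).ncard := by
    rw [Set.ncard_pos (Set.toFinite _)]
    exact ⟨p, inferInstance, inferInstance⟩
  rw [← h1, ← h4] at h3
  exact Nat.le_of_mul_le_mul_left h3 h5

end Galois

end Groth.Agent.Lib.Lead.PsRefl1
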