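import Mathlib

set_option autoImplicit false
set_option linter.style.haveILetI false
set_option linter.unusedSectionVars false

namespace Groth.Agent.Lib.Lead.PsRefl2

section Inertia

variable {B A : Type*} [CommRing B] [CommRing A] [Algebra B A]

theorem inertiaDeg_eq_one (q : Ideal B) [q.IsPrime] (p : Ideal A) [p.IsPrime] [p.LiesOver q]
    (hres : ∀ a : A, ∃ b c : B, c ∉ q ∧ algebraMap B A c * a - algebraMap B A b ∈ p) :
    p.inertiaDeg B = 1 := by
  let := Localization.AtPrime.algebraOfLiesOver q p
  rw [Ideal.inertiaDeg_eq q p]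
  rw [finrank_eq_one_iff_of_nonzero' (1 : p.ResidueField) one_ne_zero]
  intro w
  obtain ⟨w', rfl⟩ := IsLocalRing.residue_surjective w
  obtain ⟨a, s, rfl⟩ := IsLocalization.exists_mk'_eq p.primeCompl w'
  have hs : (s : A) ∉ p := s.2
  have hw : IsLocalRing.residue _ (IsLocalization.mk' (Localization.AtPrime p) a s) *
      algebraMap A p.ResidueField s = algebraMap A p.ResidueField a := by
    rw [IsScalarTower.algebraMap_apply A (Localization.AtPrime p) p.ResidueField (s : A),
      IsScalarTower.algebraMap_apply A (Localization.AtPrime p) p.ResidueField a,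
      IsLocalRing.ResidueField.algebraMap_eq, ← map_mul, IsLocalization.mk'_spec]
  have hs0 : algebraMap A p.ResidueField s ≠ 0 := by
    rw [Ne, Ideal.algebraMap_residueField_eq_zero]
    exact hs
  obtain ⟨b, c, hc, hbc⟩ := hres a
  obtain ⟨b', c', hc', hbc'⟩ := hres s
  have key : ∀ x : B, algebraMap A p.ResidueField (algebraMap B A x) =
      algebraMap q.ResidueField p.ResidueField (algebraMap B q.ResidueField x) := by
    intro x
    rw [← IsScalarTower.algebraMap_apply, ← IsScalarTower.algebraMap_apply]
  have e1 : algebraMap A p.ResidueField (algebraMap B A c) * algebraMap A p.ResidueField a =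
      algebraMap A p.ResidueField (algebraMap B A b) := by
    rw [← map_mul, ← sub_eq_zero, ← map_sub, Ideal.algebraMap_residueField_eq_zero]
    exact hbc
  have e2 : algebraMap A p.ResidueField (algebraMap B A c') * algebraMap A p.ResidueField s =
      algebraMap A p.ResidueField (algebraMap B A b') := by
    rw [← map_mul, ← sub_eq_zero, ← map_sub, Ideal.algebraMap_residueField_eq_zero]
    exact hbc'
  have hcA : ∀ x : B, x ∉ q → algebraMap A p.ResidueField (algebraMap B A x) ≠ 0 := by
    intro x hx
    rw [Ne, Ideal.algebraMap_residueField_eq_zero]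
    intro hmem
    apply hx
    rw [Ideal.over_def p q]
    exact hmem
  have hc0 := hcA c hc
  have hc'0 := hcA c' hc'
  have hb'0 : algebraMap A p.ResidueField (algebraMap B A b') ≠ 0 := by
    rw [← e2]
    exact mul_ne_zero hc'0 hs0
  refine ⟨algebraMap B q.ResidueField b * algebraMap B q.ResidueField c' /
    (algebraMap B q.ResidueField c * algebraMap B q.ResidueField b'), ?_⟩
  rw [Algebra.smul_def, mul_one, map_div₀, map_mul, map_mul, ← key, ← key, ← key, ← key]
  rw [div_eq_iff (mul_ne_zero hc0 hb'0)]
  have : IsLocalRing.residue _ (IsLocalization.mk' (Localization.AtPrime p) a s) =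
      algebraMap A p.ResidueField a / algebraMap A p.ResidueField s := by
    rw [eq_div_iff hs0]
    exact hw
  rw [this, ← e1, ← e2]
  field_simp

end Inertia

end Groth.Agent.Lib.Lead.PsRefl2
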