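import Mathlib

/-!
# Height one primes of a polynomial ring over a Noetherian domain (lead)

Vertical and horizontal height one primes of `MvPolynomial σ A`; horizontal primes are
"principal up to constants" because `MvPolynomial σ (Frac A)` is a unique factorization domain.
-/

set_option autoImplicit false
set_option linter.style.haveILetI false
set_option linter.unusedSectionVars false

open MvPolynomial

namespace Groth.Agent.Lead.WDivA

section Primes

variable {A : Type*} [CommRing A] {σ : Type*}

theorem comap_map_C (q : Ideal A) :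
    (q.map (C : A →+* MvPolynomial σ A)).comap (C : A →+* MvPolynomial σ A) = q := by
  classical
  ext a
  rw [Ideal.mem_comap, MvPolynomial.mem_map_C_iff]
  constructor
  · intro h
    simpa using h 0
  · intro h m
    rw [coeff_C]
    split_ifs
    · exact h
    · exact q.zero_mem

theorem isPrime_map_C (p : Ideal A) [p.IsPrime] :
    (p.map (C : A →+* MvPolynomial σ A)).IsPrime := by
  have e := MvPolynomial.quotientEquivQuotientMvPolynomial (σ := σ) p
  rw [← Ideal.Quotient.isDomain_iff_prime]
  exact MulEquiv.isDomain (MvPolynomial σ (A ⧸ p)) e.symm.toRingEquiv.toMulEquiv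

/-- a nonzero prime below a prime of height one is equal to it -/
theorem eq_of_le_of_height_one {R : Type*} [CommRing R] [IsDomain R] {Q P : Ideal R}
    [Q.IsPrime] [P.IsPrime] (hP : P.height = 1) (hQ : Q ≠ ⊥) (h : Q ≤ P) : Q = P := by
  by_contra hne
  have hlt : Q < P := lt_of_le_of_ne h hne
  have hPle : P.height ≤ ((1 : ℕ) : ℕ∞) := by rw [hP]; simp
  have := (Ideal.height_le_iff.1 hPle) Q inferInstance hlt
  have h0 : Q.height = 0 := by simpa using this
  exact hQ (Ideal.height_eq_zero_iff_eq_bot.1 h0)

theorem ne_bot_of_height_one {R : Type*} [CommRing R] [IsDomain R] {P : Ideal R}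
    (hP : P.height = 1) : P ≠ ⊥ := by
  rintro rfl
  rw [Ideal.height_bot] at hP
  exact zero_ne_one hP

variable [IsDomain A]

theorem map_C_ne_bot {p : Ideal A} (hp : p ≠ ⊥) :
    p.map (C : A →+* MvPolynomial σ A) ≠ ⊥ := by
  intro h
  apply hp
  have h1 := comap_map_C (σ := σ) p
  rw [h] at h1
  rw [← h1]
  ext a
  simp

/-- a height one prime of a polynomial ring is horizontal, or extended from a height one prime -/
theorem height_one_mv (P : Ideal (MvPolynomial σ A)) [P.IsPrime] (hP : P.height = 1) :
    P.comap (C : A →+* MvPolynomial σ A) = ⊥ ∨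
      ((P.comap (C : A →+* MvPolynomial σ A)).height = 1 ∧
        P = (P.comap (C : A →+* MvPolynomial σ A)).map C) := by
  by_cases h0 : P.comap (C : A →+* MvPolynomial σ A) = ⊥
  · exact Or.inl h0
  right
  set p := P.comap (C : A →+* MvPolynomial σ A) with hp
  haveI hpprime : p.IsPrime := Ideal.comap_isPrime _ _
  haveI hmapprime : (p.map (C : A →+* MvPolynomial σ A)).IsPrime := isPrime_map_C p
  have hle : p.map (C : A →+* MvPolynomial σ A) ≤ P := Ideal.map_comap_le
  have hEq : P = p.map (C : A →+* MvPolynomial σ A) :=
    (eq_of_le_of_height_one hP (map_C_ne_bot h0) hle).symm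
  refine ⟨?_, hEq⟩
  have hPle : P.height ≤ ((1 : ℕ) : ℕ∞) := by rw [hP]; simp
  apply le_antisymm
  · have : p.height ≤ ((1 : ℕ) : ℕ∞) := by
      rw [Ideal.height_le_iff]
      intro q hq hqp
      haveI := hq
      haveI hq' : (q.map (C : A →+* MvPolynomial σ A)).IsPrime := isPrime_map_C q
      have hlt : q.map (C : A →+* MvPolynomial σ A) < P := by
        rw [hEq]
        refine lt_of_le_of_ne (Ideal.map_mono hqp.le) ?_
        intro he
        have := congrArg (Ideal.comap (C : A →+* MvPolynomial σ A)) he
        rw [comap_map_C, comap_map_C] at this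
        exact hqp.ne this
      have := (Ideal.height_le_iff.1 hPle) _ hq' hlt
      have h0' : (q.map (C : A →+* MvPolynomial σ A)).height = 0 := by
        simpa using this
      have hqbot : q.map (C : A →+* MvPolynomial σ A) = ⊥ :=
        Ideal.height_eq_zero_iff_eq_bot.1 h0'
      have hq0 : q = ⊥ := by
        by_contra hq0
        exact map_C_ne_bot hq0 hqbot
      rw [hq0, Ideal.height_bot]
      simp
    simpa using this
  · rw [Order.one_le_iff_pos, pos_iff_ne_zero]
    intro h
    exact h0 (Ideal.height_eq_zero_iff_eq_bot.1 h)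

/-- the extension of a height one prime has height one -/
theorem height_map_C [IsNoetherianRing A] [Finite σ] (p : Ideal A) [p.IsPrime]
    (hp : p.height = 1) : (p.map (C : A →+* MvPolynomial σ A)).height = 1 := by
  haveI : (p.map (C : A →+* MvPolynomial σ A)).IsPrime := isPrime_map_C p
  have hp0 : p ≠ ⊥ := ne_bot_of_height_one hp
  obtain ⟨a, hap, ha0⟩ := Submodule.exists_mem_ne_zero_of_ne_bot hp0
  apply le_antisymm
  · apply Ideal.height_le_one_of_isPrincipal_of_mem_minimalPrimes
      (Ideal.span {(C a : MvPolynomial σ A)})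
    refine ⟨⟨inferInstance, ?_⟩, ?_⟩
    · rw [Ideal.span_singleton_le_iff_mem]
      exact Ideal.mem_map_of_mem _ hap
    · rintro Q ⟨hQ, hQa⟩ hQle
      haveI := hQ
      haveI : (Q.comap (C : A →+* MvPolynomial σ A)).IsPrime := Ideal.comap_isPrime _ _
      have h1 : Q.comap (C : A →+* MvPolynomial σ A) ≤ p := by
        have := Ideal.comap_mono (f := (C : A →+* MvPolynomial σ A)) hQle
        rwa [comap_map_C] at this
      have h2 : Q.comap (C : A →+* MvPolynomial σ A) ≠ ⊥ := by
        intro hb
        have : a ∈ Q.comap (C : A →+* MvPolynomial σ A) := by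
          rw [Ideal.mem_comap]
          exact (Ideal.span_singleton_le_iff_mem _).1 hQa
        rw [hb] at this
        exact ha0 this
      have h3 := eq_of_le_of_height_one hp h2 h1
      rw [← h3]
      exact Ideal.map_comap_le
  · rw [Order.one_le_iff_pos, pos_iff_ne_zero]
    intro h
    exact map_C_ne_bot hp0 (Ideal.height_eq_zero_iff_eq_bot.1 h)

end Primes

end Groth.Agent.Lead.WDivA
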