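import Mathlib
import Groth.Agent.Lib.Lead.WDivA1

/-!
# Horizontal height one primes of a polynomial ring over a domain (lead)
-/

set_option autoImplicit false
set_option linter.style.haveILetI false
set_option linter.unusedSectionVars false

open MvPolynomial

namespace Groth.Agent.Lead.WDivA

section Horizontal

variable {A : Type*} [CommRing A] [IsDomain A] {σ : Type*}

attribute [local instance] MvPolynomial.algebraMvPolynomial

/-- the nonzero constants -/
noncomputable abbrev MS (A : Type*) [CommRing A] (σ : Type*) : Submonoid (MvPolynomial σ A) :=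
  (nonZeroDivisors A).map (C : A →+* MvPolynomial σ A)

theorem MS_le : MS A σ ≤ nonZeroDivisors (MvPolynomial σ A) := by
  intro x hx
  obtain ⟨s, hs, rfl⟩ := Submonoid.mem_map.1 hx
  apply mem_nonZeroDivisors_of_ne_zero
  intro h
  exact nonZeroDivisors.ne_zero hs (C_injective σ A (h.trans C_0.symm))

theorem algebraMap_injective :
    Function.Injective (algebraMap (MvPolynomial σ A) (MvPolynomial σ (FractionRing A))) :=
  IsLocalization.injective (MvPolynomial σ (FractionRing A)) (MS_le (A := A) (σ := σ))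

theorem algebraMap_C (s : A) :
    algebraMap (MvPolynomial σ A) (MvPolynomial σ (FractionRing A)) (C s) =
      C (algebraMap A (FractionRing A) s) := by
  rw [MvPolynomial.algebraMap_def, map_C]

theorem disjoint_MS {Q : Ideal (MvPolynomial σ A)}
    (hh : Q.comap (C : A →+* MvPolynomial σ A) = ⊥) :
    Disjoint (MS A σ : Set (MvPolynomial σ A)) (Q : Set (MvPolynomial σ A)) := by
  rw [Set.disjoint_left]
  intro x hx hxQ
  obtain ⟨s, hs, rfl⟩ := Submonoid.mem_map.1 hx
  have : s ∈ Q.comap (C : A →+* MvPolynomial σ A) := hxQ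
  rw [hh, Ideal.mem_bot] at this
  exact nonZeroDivisors.ne_zero hs this

theorem C_not_mem {Q : Ideal (MvPolynomial σ A)}
    (hh : Q.comap (C : A →+* MvPolynomial σ A) = ⊥) {s : A} (hs : s ≠ 0) : C s ∉ Q := by
  intro h
  have : s ∈ Q.comap (C : A →+* MvPolynomial σ A) := h
  rw [hh, Ideal.mem_bot] at this
  exact hs this

/-- a horizontal height one prime is generated, up to nonzero constants, by one element -/
theorem exists_generator (Q : Ideal (MvPolynomial σ A)) [Q.IsPrime] (hQ : Q.height = 1)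
    (hh : Q.comap (C : A →+* MvPolynomial σ A) = ⊥) :
    ∃ c ∈ Q, c ≠ 0 ∧ ∀ a ∈ Q, ∃ (b : MvPolynomial σ A) (s : A), s ≠ 0 ∧ a * C s = c * b := by
  classical
  have hdisj := disjoint_MS hh
  have hinj := algebraMap_injective (A := A) (σ := σ)
  haveI hQ'prime : (Q.map (algebraMap (MvPolynomial σ A)
      (MvPolynomial σ (FractionRing A)))).IsPrime :=
    IsLocalization.isPrime_of_isPrime_disjoint (MS A σ) _ Q inferInstance hdisj
  have hunder : (Q.map (algebraMap (MvPolynomial σ A)
      (MvPolynomial σ (FractionRing A)))).under (MvPolynomial σ A) = Q :=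
    IsLocalization.under_map_of_isPrime_disjoint (MS A σ) _ inferInstance hdisj
  have hQ0 : Q ≠ ⊥ := ne_bot_of_height_one hQ
  have hQ'0 : Q.map (algebraMap (MvPolynomial σ A) (MvPolynomial σ (FractionRing A))) ≠ ⊥ := by
    intro h
    obtain ⟨a, haQ, ha0⟩ := Submodule.exists_mem_ne_zero_of_ne_bot hQ0
    have : algebraMap _ (MvPolynomial σ (FractionRing A)) a ∈
        Q.map (algebraMap (MvPolynomial σ A) (MvPolynomial σ (FractionRing A))) :=
      Ideal.mem_map_of_mem _ haQ
    rw [h, Ideal.mem_bot] at this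
    exact ha0 (hinj (this.trans (map_zero _).symm))
  obtain ⟨q, hqQ', hq⟩ := Ideal.IsPrime.exists_mem_prime_of_ne_bot hQ'prime hQ'0
  obtain ⟨⟨c₀, m⟩, hc₀⟩ := IsLocalization.surj (MS A σ) q
  simp only at hc₀
  obtain ⟨s₀, hs₀, hms₀⟩ := Submonoid.mem_map.1 m.2
  have hs₀0 : s₀ ≠ 0 := nonZeroDivisors.ne_zero hs₀
  have hm0 : algebraMap (MvPolynomial σ A) (MvPolynomial σ (FractionRing A))
      (m : MvPolynomial σ A) ≠ 0 := by
    intro h
    have h1 := hinj (h.trans (map_zero _).symm)
    rw [← hms₀] at h1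
    exact hs₀0 (C_injective σ A (h1.trans C_0.symm))
  haveI hspan : (Ideal.span {q}).IsPrime := (Ideal.span_singleton_prime hq.ne_zero).2 hq
  have hspanle : Ideal.span {q} ≤
      Q.map (algebraMap (MvPolynomial σ A) (MvPolynomial σ (FractionRing A))) :=
    (Ideal.span_singleton_le_iff_mem _).2 hqQ'
  haveI : ((Ideal.span {q}).comap (algebraMap (MvPolynomial σ A)
      (MvPolynomial σ (FractionRing A)))).IsPrime := Ideal.comap_isPrime _ _
  have hQ₁le : (Ideal.span {q}).comap (algebraMap (MvPolynomial σ A)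
      (MvPolynomial σ (FractionRing A))) ≤ Q := by
    rw [← hunder]
    exact Ideal.comap_mono hspanle
  have hc₀mem : c₀ ∈ (Ideal.span {q}).comap (algebraMap (MvPolynomial σ A)
      (MvPolynomial σ (FractionRing A))) := by
    rw [Ideal.mem_comap, ← hc₀]
    exact Ideal.mul_mem_right _ _ (Ideal.mem_span_singleton_self q)
  have hc₀0 : c₀ ≠ 0 := by
    rintro rfl
    rw [map_zero] at hc₀
    exact (mul_ne_zero hq.ne_zero hm0) hc₀
  have hQ₁0 : (Ideal.span {q}).comap (algebraMap (MvPolynomial σ A)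
      (MvPolynomial σ (FractionRing A))) ≠ ⊥ := by
    intro h
    rw [h, Ideal.mem_bot] at hc₀mem
    exact hc₀0 hc₀mem
  have hQ₁ := eq_of_le_of_height_one hQ hQ₁0 hQ₁le
  refine ⟨c₀, hQ₁le hc₀mem, hc₀0, ?_⟩
  intro a ha
  have ha' : algebraMap _ (MvPolynomial σ (FractionRing A)) a ∈ Ideal.span {q} := by
    rw [← hQ₁] at ha
    exact ha
  obtain ⟨t, ht⟩ := Ideal.mem_span_singleton'.1 ha'
  obtain ⟨⟨b', m'⟩, hb'⟩ := IsLocalization.surj (MS A σ) t
  simp only at hb'
  obtain ⟨s', hs', hms'⟩ := Submonoid.mem_map.1 m'.2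
  refine ⟨b', s' * s₀, mul_ne_zero (nonZeroDivisors.ne_zero hs') hs₀0, ?_⟩
  apply hinj
  have e1 : (C (s' * s₀) : MvPolynomial σ A) = (m' : MvPolynomial σ A) * (m : MvPolynomial σ A) := by
    rw [C_mul, hms', hms₀]
  rw [e1, map_mul, map_mul, map_mul, ← ht, ← hc₀, ← hb']
  ring

/-- the generator of a horizontal height one prime lies in no other horizontal height one prime -/
theorem generator_not_mem {Q Q₂ : Ideal (MvPolynomial σ A)} [Q.IsPrime] [Q₂.IsPrime]
    (hQ₂ : Q₂.height = 1) (hh₂ : Q₂.comap (C : A →+* MvPolynomial σ A) = ⊥) (hne : Q ≠ Q₂)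
    (hQ0 : Q ≠ ⊥) {c : MvPolynomial σ A}
    (hc : ∀ a ∈ Q, ∃ (b : MvPolynomial σ A) (s : A), s ≠ 0 ∧ a * C s = c * b) : c ∉ Q₂ := by
  intro hcQ₂
  apply hne
  apply eq_of_le_of_height_one hQ₂ hQ0
  intro a ha
  obtain ⟨b, s, hs, e⟩ := hc a ha
  have h1 : a * C s ∈ Q₂ := by
    rw [e]
    exact Ideal.mul_mem_right _ _ hcQ₂
  rcases (Ideal.IsPrime.mem_or_mem inferInstance h1) with h | h
  · exact h
  · exact absurd h (C_not_mem hh₂ hs)

/-- a fraction which is a unit at every horizontal height one prime is constant -/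
theorem const_of_unitAt [Finite σ] (a b : MvPolynomial σ A) (ha : a ≠ 0) (hb : b ≠ 0)
    (H : ∀ (Q : Ideal (MvPolynomial σ A)) [Q.IsPrime], Q.height = 1 →
      Q.comap (C : A →+* MvPolynomial σ A) = ⊥ →
        ∃ c d : MvPolynomial σ A, c ∉ Q ∧ d ∉ Q ∧ a * d = b * c) :
    ∃ u v : A, u ≠ 0 ∧ v ≠ 0 ∧ a * C v = b * C u := by
  classical
  have hinj := algebraMap_injective (A := A) (σ := σ)
  have hα : algebraMap _ (MvPolynomial σ (FractionRing A)) a ≠ 0 := fun h =>
    ha (hinj (h.trans (map_zero _).symm))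
  have hβ : algebraMap _ (MvPolynomial σ (FractionRing A)) b ≠ 0 := fun h =>
    hb (hinj (h.trans (map_zero _).symm))
  obtain ⟨a', b', c', hrel, ha', hb'⟩ :=
    UniqueFactorizationMonoid.exists_reduced_factors _ hα
      (algebraMap _ (MvPolynomial σ (FractionRing A)) b)
  have hc'0 : c' ≠ 0 := by
    rintro rfl
    rw [zero_mul] at ha'
    exact hα ha'.symm
  have ha'0 : a' ≠ 0 := by
    rintro rfl
    rw [mul_zero] at ha'
    exact hα ha'.symm
  have hb'0 : b' ≠ 0 := by
    rintro rfl
    rw [mul_zero] at hb'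
    exact hβ hb'.symm
  have key : ∀ q : MvPolynomial σ (FractionRing A), Prime q → ¬ q ∣ b' ∧ ¬ q ∣ a' := by
    intro q hq
    haveI hspan : (Ideal.span {q}).IsPrime := (Ideal.span_singleton_prime hq.ne_zero).2 hq
    haveI : ((Ideal.span {q}).comap (algebraMap (MvPolynomial σ A)
        (MvPolynomial σ (FractionRing A)))).IsPrime := Ideal.comap_isPrime _ _
    have hh : ((Ideal.span {q}).comap (algebraMap (MvPolynomial σ A)
        (MvPolynomial σ (FractionRing A)))).comap (C : A →+* MvPolynomial σ A) = ⊥ := by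
      rw [eq_bot_iff]
      intro s hs
      rw [Ideal.mem_comap, Ideal.mem_comap, algebraMap_C, Ideal.mem_span_singleton] at hs
      rw [Ideal.mem_bot]
      by_contra hs0
      have hu : IsUnit (algebraMap A (FractionRing A) s) :=
        IsUnit.mk0 _ ((map_ne_zero_iff _ (IsFractionRing.injective A (FractionRing A))).2 hs0)
      exact hq.not_isUnit (isUnit_of_dvd_unit hs (hu.map C))
    have h1 : ((Ideal.span {q}).comap (algebraMap (MvPolynomial σ A)
        (MvPolynomial σ (FractionRing A)))).height = 1 := by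
      have e := IsLocalization.height_under (MS A σ) (Ideal.span {q})
      rw [Ideal.under] at e
      rw [e]
      apply le_antisymm
      · apply Ideal.height_le_one_of_isPrincipal_of_mem_minimalPrimes (Ideal.span {q})
        exact ⟨⟨hspan, le_refl _⟩, fun J hJ _ => hJ.2⟩
      · rw [Order.one_le_iff_pos, pos_iff_ne_zero]
        intro h
        have := Ideal.height_eq_zero_iff_eq_bot.1 h
        rw [Ideal.span_singleton_eq_bot] at this
        exact hq.ne_zero this
    obtain ⟨c, d, hc, hd, e⟩ := H _ h1 hh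
    have hγ : ¬ q ∣ algebraMap _ (MvPolynomial σ (FractionRing A)) c := by
      intro h
      exact hc (Ideal.mem_comap.2 (Ideal.mem_span_singleton.2 h))
    have hδ : ¬ q ∣ algebraMap _ (MvPolynomial σ (FractionRing A)) d := by
      intro h
      exact hd (Ideal.mem_comap.2 (Ideal.mem_span_singleton.2 h))
    have e' := congrArg (algebraMap _ (MvPolynomial σ (FractionRing A))) e
    rw [map_mul, map_mul, ← ha', ← hb', mul_assoc, mul_assoc] at e'
    have e'' := mul_left_cancel₀ hc'0 e'
    constructor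
    · intro hqb
      have h2 : q ∣ a' * algebraMap _ (MvPolynomial σ (FractionRing A)) d := by
        rw [e'']
        exact Dvd.dvd.mul_right hqb _
      rcases hq.dvd_or_dvd h2 with h3 | h3
      · exact hq.not_isUnit (hrel h3 hqb)
      · exact hδ h3
    · intro hqa
      have h2 : q ∣ b' * algebraMap _ (MvPolynomial σ (FractionRing A)) c := by
        rw [← e'']
        exact Dvd.dvd.mul_right hqa _
      rcases hq.dvd_or_dvd h2 with h3 | h3
      · exact hq.not_isUnit (hrel hqa h3)
      · exact hγ h3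
  have hb'u : IsUnit b' := by
    by_contra hnu
    obtain ⟨i, hi, hib⟩ := WfDvdMonoid.exists_irreducible_factor hnu hb'0
    exact (key i (UniqueFactorizationMonoid.irreducible_iff_prime.1 hi)).1 hib
  have ha'u : IsUnit a' := by
    by_contra hnu
    obtain ⟨i, hi, hia⟩ := WfDvdMonoid.exists_irreducible_factor hnu ha'0
    exact (key i (UniqueFactorizationMonoid.irreducible_iff_prime.1 hi)).2 hia
  obtain ⟨k₁, hk₁u, hk₁⟩ := MvPolynomial.isUnit_iff_eq_C_of_isReduced.1 ha'u
  obtain ⟨k₂, hk₂u, hk₂⟩ := MvPolynomial.isUnit_iff_eq_C_of_isReduced.1 hb'u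
  obtain ⟨n₁, d₁, hd₁, e₁⟩ := IsFractionRing.div_surjective (A := A) k₁
  obtain ⟨n₂, d₂, hd₂, e₂⟩ := IsFractionRing.div_surjective (A := A) k₂
  have hd₁0 : algebraMap A (FractionRing A) d₁ ≠ 0 :=
    (map_ne_zero_iff _ (IsFractionRing.injective A (FractionRing A))).2
      (nonZeroDivisors.ne_zero hd₁)
  have hd₂0 : algebraMap A (FractionRing A) d₂ ≠ 0 :=
    (map_ne_zero_iff _ (IsFractionRing.injective A (FractionRing A))).2
      (nonZeroDivisors.ne_zero hd₂)
  have hn₁ : algebraMap A (FractionRing A) n₁ = k₁ * algebraMap A (FractionRing A) d₁ := by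
    rw [← e₁, div_mul_cancel₀ _ hd₁0]
  have hn₂ : algebraMap A (FractionRing A) n₂ = k₂ * algebraMap A (FractionRing A) d₂ := by
    rw [← e₂, div_mul_cancel₀ _ hd₂0]
  have hn₁0 : n₁ ≠ 0 := by
    rintro rfl
    rw [map_zero] at hn₁
    exact (mul_ne_zero hk₁u.ne_zero hd₁0) hn₁.symm
  have hn₂0 : n₂ ≠ 0 := by
    rintro rfl
    rw [map_zero] at hn₂
    exact (mul_ne_zero hk₂u.ne_zero hd₂0) hn₂.symm
  refine ⟨n₁ * d₂, n₂ * d₁, mul_ne_zero hn₁0 (nonZeroDivisors.ne_zero hd₂),
    mul_ne_zero hn₂0 (nonZeroDivisors.ne_zero hd₁), ?_⟩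
  apply hinj
  have lhs : algebraMap (MvPolynomial σ A) (MvPolynomial σ (FractionRing A)) (a * C (n₂ * d₁)) =
      (c' * C k₁) * (C k₂ * C (algebraMap A (FractionRing A) d₂) *
        C (algebraMap A (FractionRing A) d₁)) := by
    rw [map_mul (algebraMap (MvPolynomial σ A) (MvPolynomial σ (FractionRing A))) a, ← ha', hk₁,
      C_mul, map_mul (algebraMap (MvPolynomial σ A) (MvPolynomial σ (FractionRing A))) (C n₂),
      algebraMap_C, algebraMap_C, hn₂, C_mul]
  have rhs : algebraMap (MvPolynomial σ A) (MvPolynomial σ (FractionRing A)) (b * C (n₁ * d₂)) =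
      (c' * C k₂) * (C k₁ * C (algebraMap A (FractionRing A) d₁) *
        C (algebraMap A (FractionRing A) d₂)) := by
    rw [map_mul (algebraMap (MvPolynomial σ A) (MvPolynomial σ (FractionRing A))) b, ← hb', hk₂,
      C_mul, map_mul (algebraMap (MvPolynomial σ A) (MvPolynomial σ (FractionRing A))) (C n₁),
      algebraMap_C, algebraMap_C, hn₁, C_mul]
  rw [lhs, rhs]
  ring

end Horizontal

end Groth.Agent.Lead.WDivA
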