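import Mathlib
import Groth.Agent.Lib.Lead.WDivA2

/-!
# Orders of vanishing at the height one primes of a polynomial ring (lead)
-/

set_option autoImplicit false
set_option linter.style.haveILetI false
set_option linter.unusedSectionVars false

open MvPolynomial

namespace Groth.Agent.Lead.WDivA

section Transport

/-- transport of a localization along an isomorphism of the base ring -/
theorem isLocalization_of_ringEquiv {R B : Type*} [CommRing R] [CommRing B] (e : R ≃+* B)
    (M : Submonoid R) (N : Submonoid B) (hMN : ∀ r, r ∈ M ↔ e r ∈ N)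
    (O : Type*) [CommRing O] [Algebra B O] [IsLocalization N O] [Algebra R O]
    (h : ∀ r, algebraMap R O r = algebraMap B O (e r)) : IsLocalization M O := by
  rw [isLocalization_iff]
  refine ⟨?_, ?_, ?_⟩
  · rintro ⟨r, hr⟩
    rw [h]
    exact IsLocalization.map_units O (⟨e r, (hMN r).1 hr⟩ : N)
  · intro z
    obtain ⟨⟨b, s⟩, hz⟩ := IsLocalization.surj N z
    have hs : e.symm s ∈ M := by
      rw [hMN, e.apply_symm_apply]
      exact s.2
    refine ⟨⟨e.symm b, ⟨e.symm s, hs⟩⟩, ?_⟩
    simp only
    rw [h, h, e.apply_symm_apply, e.apply_symm_apply]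
    exact hz
  · intro x y hxy
    rw [h, h] at hxy
    obtain ⟨c, hc⟩ := IsLocalization.exists_of_eq (M := N) hxy
    have hc' : e.symm c ∈ M := by
      rw [hMN, e.apply_symm_apply]
      exact c.2
    refine ⟨⟨e.symm c, hc'⟩, ?_⟩
    apply e.injective
    simp only [map_mul, e.apply_symm_apply]
    exact hc

end Transport

section DVR

variable (O : Type*) [CommRing O] [IsDomain O] [IsNoetherianRing O] [IsLocalRing O]

theorem isDVR_of_generator (ϖ : O) (h0 : ϖ ≠ 0)
    (h : IsLocalRing.maximalIdeal O = Ideal.span {ϖ}) : IsDiscreteValuationRing O := by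
  have hnf : ¬ IsField O := by
    rw [IsLocalRing.isField_iff_maximalIdeal_eq, h, Ideal.span_singleton_eq_bot]
    exact h0
  exact ((IsDiscreteValuationRing.TFAE O hnf).out 0 4).2
    (show (IsLocalRing.maximalIdeal O).IsPrincipal from ⟨⟨ϖ, h⟩⟩)

variable [Ring.KrullDimLE 1 O] {L : Type*} [Field L] [Algebra O L] [IsFractionRing O L]

theorem ordFrac_generator (ϖ : O) (h0 : ϖ ≠ 0)
    (h : IsLocalRing.maximalIdeal O = Ideal.span {ϖ}) :
    Ring.ordFrac O (algebraMap O L ϖ) = WithZero.exp 1 := by
  haveI := isDVR_of_generator O ϖ h0 h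
  exact Ring.ordFrac_irreducible ((IsDiscreteValuationRing.irreducible_iff_uniformizer ϖ).2 h)

end DVR

section Local

variable {R : Type*} [CommRing R] [IsDomain R] (Q : Ideal R) [Q.IsPrime]
  {L : Type*} [Field L] [Algebra R L] [IsFractionRing R L]

/-- a unit at `Q` -/
def UnitAt (g : L) : Prop :=
  ∃ c d : R, c ∉ Q ∧ d ∉ Q ∧ g * algebraMap R L d = algebraMap R L c

variable (O : Type*) [CommRing O] [Algebra R O] [IsLocalization.AtPrime O Q]
  [Algebra O L] [IsScalarTower R O L]
  [IsDomain O] [IsNoetherianRing O] [Ring.KrullDimLE 1 O] [IsFractionRing O L]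

theorem ordFrac_of_unitAt {g : L} (h : UnitAt Q g) : Ring.ordFrac O g = 1 := by
  obtain ⟨c, d, hc, hd, e⟩ := h
  have huc : IsUnit (algebraMap R O c) := IsLocalization.map_units O (⟨c, hc⟩ : Q.primeCompl)
  have hud : IsUnit (algebraMap R O d) := IsLocalization.map_units O (⟨d, hd⟩ : Q.primeCompl)
  have hd0 : algebraMap R L d ≠ 0 := by
    rw [IsScalarTower.algebraMap_apply R O L]
    exact (hud.map (algebraMap O L)).ne_zero
  rw [eq_div_of_mul_eq hd0 e, map_div₀, IsScalarTower.algebraMap_apply R O L c,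
    IsScalarTower.algebraMap_apply R O L d, Ring.ordFrac_of_isUnit huc,
    Ring.ordFrac_of_isUnit hud, div_one]

theorem unitAt_of_ordFrac [IsDiscreteValuationRing O] {g : L} (h : Ring.ordFrac O g = 1) :
    UnitAt Q g := by
  obtain ⟨u, hu⟩ := Ring.associated_of_ordFrac_eq (R := O) g 1 (h.trans (map_one _).symm)
  have hg : g = algebraMap O L ((u⁻¹ : Oˣ) : O) := by
    rw [Units.smul_def, Algebra.smul_def] at hu
    have h1 : algebraMap O L ((u⁻¹ : Oˣ) : O) * algebraMap O L (u : O) = 1 := by
      rw [← map_mul, Units.inv_mul, map_one]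
    calc g = (algebraMap O L ((u⁻¹ : Oˣ) : O) * algebraMap O L (u : O)) * g := by
          rw [h1, one_mul]
      _ = algebraMap O L ((u⁻¹ : Oˣ) : O) * (algebraMap O L (u : O) * g) := by ring
      _ = _ := by rw [hu, mul_one]
  obtain ⟨c, d, hw⟩ := IsLocalization.exists_mk'_eq Q.primeCompl ((u⁻¹ : Oˣ) : O)
  have hc : c ∈ Q.primeCompl := by
    rw [← IsLocalization.AtPrime.isUnit_mk'_iff O Q c d, hw]
    exact Units.isUnit _
  refine ⟨c, d, hc, d.2, ?_⟩
  rw [hg, ← hw, IsScalarTower.algebraMap_apply R O L, IsScalarTower.algebraMap_apply R O L,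
    ← map_mul, IsLocalization.mk'_spec]

end Local

section HorizontalLocal

variable {A : Type*} [CommRing A] [IsDomain A] {σ : Type*}

/-- the maximal ideal of the local ring of a horizontal height one prime is principal -/
theorem maximalIdeal_eq_span (Q : Ideal (MvPolynomial σ A)) [Q.IsPrime]
    (hh : Q.comap (C : A →+* MvPolynomial σ A) = ⊥)
    (O : Type*) [CommRing O] [Algebra (MvPolynomial σ A) O] [IsLocalization.AtPrime O Q]
    [IsLocalRing O] {c : MvPolynomial σ A} (hcQ : c ∈ Q)
    (hc : ∀ a ∈ Q, ∃ (b : MvPolynomial σ A) (s : A), s ≠ 0 ∧ a * C s = c * b) :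
    IsLocalRing.maximalIdeal O = Ideal.span {algebraMap (MvPolynomial σ A) O c} := by
  rw [← IsLocalization.AtPrime.map_eq_maximalIdeal Q O]
  apply le_antisymm
  · rw [Ideal.map_le_iff_le_comap]
    intro a ha
    obtain ⟨b, s, hs, e⟩ := hc a ha
    have hu : IsUnit (algebraMap (MvPolynomial σ A) O (C s)) :=
      IsLocalization.map_units O (⟨C s, C_not_mem hh hs⟩ : Q.primeCompl)
    rw [Ideal.mem_comap, Ideal.mem_span_singleton]
    have e' := congrArg (algebraMap (MvPolynomial σ A) O) e
    rw [map_mul, map_mul] at e'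
    obtain ⟨v, hv⟩ := hu
    refine ⟨algebraMap (MvPolynomial σ A) O b * ((v⁻¹ : Oˣ) : O), ?_⟩
    calc algebraMap (MvPolynomial σ A) O a
        = algebraMap (MvPolynomial σ A) O a * ((v : O) * ((v⁻¹ : Oˣ) : O)) := by
          rw [Units.mul_inv, mul_one]
      _ = (algebraMap (MvPolynomial σ A) O a * algebraMap (MvPolynomial σ A) O (C s)) *
          ((v⁻¹ : Oˣ) : O) := by rw [hv]; ring
      _ = _ := by rw [e']; ring
  · rw [Ideal.span_singleton_le_iff_mem]
    exact Ideal.mem_map_of_mem _ hcQ

end HorizontalLocal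

section Vertical

/-- the order along a vertical prime divisor of a constant is its order on the base -/
theorem vertical_ord {A : Type*} [CommRing A] [IsDomain A] {σ : Type*} (p : Ideal A) [p.IsPrime]
    [(p.map (C : A →+* MvPolynomial σ A)).IsPrime]
    (OA : Type*) [CommRing OA] [Algebra A OA] [IsLocalization.AtPrime OA p] [IsDomain OA]
    [IsDiscreteValuationRing OA]
    {K : Type*} [Field K] [Algebra A K] [IsFractionRing A K] [Algebra OA K] [IsScalarTower A OA K]
    [IsFractionRing OA K]
    (OR : Type*) [CommRing OR] [Algebra (MvPolynomial σ A) OR]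
    [IsLocalization.AtPrime OR (p.map (C : A →+* MvPolynomial σ A))]
    [IsDomain OR] [IsNoetherianRing OR] [Ring.KrullDimLE 1 OR] [IsLocalRing OR]
    {L : Type*} [Field L] [Algebra (MvPolynomial σ A) L] [IsFractionRing (MvPolynomial σ A) L]
    [Algebra OR L] [IsScalarTower (MvPolynomial σ A) OR L] [IsFractionRing OR L]
    (ι : K →+* L) (hι : ∀ a, ι (algebraMap A K a) = algebraMap (MvPolynomial σ A) L (C a))
    (f : K) (hf : f ≠ 0) :
    Ring.ordFrac OR (ι f) = Ring.ordFrac OA f := by
  classical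
  have hle : p.primeCompl ≤
      (p.map (C : A →+* MvPolynomial σ A)).primeCompl.comap (C : A →+* MvPolynomial σ A) := by
    intro a ha
    rw [Submonoid.mem_comap]
    intro h
    apply ha
    have h2 : a ∈ (p.map (C : A →+* MvPolynomial σ A)).comap (C : A →+* MvPolynomial σ A) := h
    rwa [comap_map_C] at h2
  let θ : OA →+* OR := IsLocalization.map OR (C : A →+* MvPolynomial σ A) hle
  have hθ : ∀ a, θ (algebraMap A OA a) = algebraMap (MvPolynomial σ A) OR (C a) := fun a =>
    IsLocalization.map_eq hle a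
  have hcomp : ∀ z : OA, ι (algebraMap OA K z) = algebraMap OR L (θ z) := by
    have h1 : (ι.comp (algebraMap OA K)) = (algebraMap OR L).comp θ := by
      apply IsLocalization.ringHom_ext p.primeCompl
      ext a
      simp only [RingHom.comp_apply]
      rw [← IsScalarTower.algebraMap_apply A OA K, hι, hθ,
        ← IsScalarTower.algebraMap_apply (MvPolynomial σ A) OR L]
    intro z
    exact RingHom.congr_fun h1 z
  obtain ⟨ϖ, hϖ⟩ := IsDiscreteValuationRing.exists_irreducible OA
  have hmaxA := hϖ.maximalIdeal_eq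
  have hθinj : Function.Injective θ := by
    intro z w hzw
    have h1 := congrArg (algebraMap OR L) hzw
    rw [← hcomp, ← hcomp] at h1
    exact IsFractionRing.injective OA K (ι.injective h1)
  have hϖ0 : θ ϖ ≠ 0 := fun h => hϖ.ne_zero (hθinj (h.trans (map_zero _).symm))
  have hmaxR : IsLocalRing.maximalIdeal OR = Ideal.span {θ ϖ} := by
    rw [← IsLocalization.AtPrime.map_eq_maximalIdeal (p.map (C : A →+* MvPolynomial σ A)) OR,
      Ideal.map_map]
    have h1 : (algebraMap (MvPolynomial σ A) OR).comp (C : A →+* MvPolynomial σ A) =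
        θ.comp (algebraMap A OA) := by
      ext a
      simp only [RingHom.comp_apply]
      rw [hθ]
    rw [h1, ← Ideal.map_map, IsLocalization.AtPrime.map_eq_maximalIdeal p OA, hmaxA,
      Ideal.map_span, Set.image_singleton]
  have hordR : Ring.ordFrac OR (algebraMap OR L (θ ϖ)) = WithZero.exp 1 :=
    ordFrac_generator OR (θ ϖ) hϖ0 hmaxR
  have hordA : Ring.ordFrac OA (algebraMap OA K ϖ) = WithZero.exp 1 :=
    Ring.ordFrac_irreducible hϖ
  obtain ⟨x, y, hy, rfl⟩ := IsFractionRing.div_surjective (A := OA) f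
  have hy0 : y ≠ 0 := nonZeroDivisors.ne_zero hy
  have key : ∀ z : OA, z ≠ 0 →
      Ring.ordFrac OR (ι (algebraMap OA K z)) = Ring.ordFrac OA (algebraMap OA K z) := by
    intro z hz
    obtain ⟨n, u, rfl⟩ := IsDiscreteValuationRing.eq_unit_mul_pow_irreducible hz hϖ
    have e1 : Ring.ordFrac OR (ι (algebraMap OA K ((u : OA) * ϖ ^ n))) =
        Ring.ordFrac OR (algebraMap OR L (θ (u : OA))) *
          (Ring.ordFrac OR (algebraMap OR L (θ ϖ))) ^ n := by
      rw [hcomp, map_mul θ, map_pow θ, map_mul (algebraMap OR L), map_pow (algebraMap OR L),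
        map_mul (Ring.ordFrac OR (K := L)), map_pow (Ring.ordFrac OR (K := L))]
    have e2 : Ring.ordFrac OA (algebraMap OA K ((u : OA) * ϖ ^ n)) =
        Ring.ordFrac OA (algebraMap OA K (u : OA)) *
          (Ring.ordFrac OA (algebraMap OA K ϖ)) ^ n := by
      rw [map_mul (algebraMap OA K), map_pow (algebraMap OA K),
        map_mul (Ring.ordFrac OA (K := K)), map_pow (Ring.ordFrac OA (K := K))]
    rw [e1, e2, hordR, hordA, Ring.ordFrac_of_isUnit (u.isUnit.map θ),
      Ring.ordFrac_of_isUnit u.isUnit]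
  have hx0 : x ≠ 0 := by
    rintro rfl
    apply hf
    rw [map_zero, zero_div]
  rw [map_div₀ ι, map_div₀ (Ring.ordFrac OR (K := L)), map_div₀ (Ring.ordFrac OA (K := K)),
    key x hx0, key y hy0]

end Vertical

end Groth.Agent.Lead.WDivA
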