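import Mathlib
import Groth.Agent.Lib.Lead.WDivA3

set_option autoImplicit false
set_option linter.style.haveILetI false
set_option linter.unusedSectionVars false

namespace Groth.Agent.Lib.Lead.PsRefl3

open Groth.Agent.Lead.WDivA

section Ram

variable {B A : Type*} [CommRing B] [CommRing A] [IsDomain A] [IsNoetherianRing A] [Algebra B A]

theorem pow_ramificationIdx_dvd (t : A) (ht : Prime t) (p : Ideal A) (hp : p = Ideal.span {t})
    [p.IsPrime] (q : Ideal B) [p.LiesOver q] (hq0 : ∃ x ∈ q, algebraMap B A x ≠ 0)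
    (b : B) (hb : b ∈ q) : t ^ (p.ramificationIdx B) ∣ algebraMap B A b := by
  let O := Localization.AtPrime p
  have hinj : Function.Injective (algebraMap A O) :=
    IsLocalization.injective O p.primeCompl_le_nonZeroDivisors
  set ϖ : O := algebraMap A O t with hϖ
  have h0 : ϖ ≠ 0 := by
    rw [hϖ, Ne, ← map_zero (algebraMap A O)]
    intro h
    exact ht.ne_zero (hinj h)
  have hmax : IsLocalRing.maximalIdeal O = Ideal.span {ϖ} := by
    have h1 : Ideal.map (algebraMap A O) p = Ideal.map (algebraMap A O) (Ideal.span {t}) :=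
      congrArg _ hp
    rw [Ideal.map_span, Set.image_singleton] at h1
    rw [← Localization.AtPrime.map_eq_maximalIdeal]
    exact h1
  haveI : IsDiscreteValuationRing O := isDVR_of_generator O ϖ h0 hmax
  have hirr : Irreducible ϖ := (IsDiscreteValuationRing.irreducible_iff_uniformizer ϖ).2 hmax
  have hund : p.under B = q := (Ideal.over_def p q).symm
  set I : Ideal O := (p.under B).map (algebraMap B O) with hI
  have hI0 : I ≠ ⊥ := by
    obtain ⟨x, hx, hx0⟩ := hq0
    intro h
    have hmem : algebraMap B O x ∈ I := Ideal.mem_map_of_mem _ (by rw [hund]; exact hx)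
    rw [h, Ideal.mem_bot, IsScalarTower.algebraMap_apply B A O, ← map_zero (algebraMap A O)] at hmem
    exact hx0 (hinj hmem)
  obtain ⟨k, hk⟩ := IsDiscreteValuationRing.ideal_eq_span_pow_irreducible hI0 hirr
  have hk' : I = IsLocalRing.maximalIdeal O ^ k := by
    rw [hk, hmax, Ideal.span_singleton_pow]
  have he : p.ramificationIdx B = k := by
    rw [Ideal.ramificationIdx_def]
    show (Module.length O (O ⧸ I)).toNat = k
    rw [hk', IsDiscreteValuationRing.length_quotient_pow_maximalIdeal]
    rfl
  rw [he]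
  have hmem : algebraMap B O b ∈ I := Ideal.mem_map_of_mem _ (by rw [hund]; exact hb)
  rw [hk, Ideal.mem_span_singleton, IsScalarTower.algebraMap_apply B A O] at hmem
  obtain ⟨z, hz⟩ := hmem
  obtain ⟨a, s, rfl⟩ := IsLocalization.exists_mk'_eq p.primeCompl z
  have hs : ¬ t ∣ (s : A) := by
    intro hdvd
    apply s.2
    show (s : A) ∈ p
    have h3 : (s : A) ∈ Ideal.span {t} := Ideal.mem_span_singleton.2 hdvd
    rw [← hp] at h3
    exact h3
  have heq : algebraMap B A b * (s : A) = t ^ k * a := by
    apply hinj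
    rw [map_mul, hz, map_mul, map_pow, mul_assoc, IsLocalization.mk'_spec]
  exact ht.pow_dvd_of_dvd_mul_right k hs ⟨a, heq⟩

end Ram

end Groth.Agent.Lib.Lead.PsRefl3
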