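import Mathlib

set_option autoImplicit false
set_option linter.style.haveILetI false
set_option linter.unusedSectionVars false

namespace Groth.Agent.Lib.Lead.PsRefl4

open scoped Pointwise

section UFD

variable {A G : Type*} [CommRing A] [IsDomain A] [Group G] [MulSemiringAction G A]

theorem smul_span_singleton (σ : G) (t : A) :
    σ • (Ideal.span {t} : Ideal A) = Ideal.span {σ • t} := by
  rw [Ideal.pointwise_smul_def, Ideal.map_span, Set.image_singleton]
  rfl

theorem mem_stabilizer_iff (σ : G) (t : A) :
    σ ∈ MulAction.stabilizer G (Ideal.span {t} : Ideal A) ↔ Associated (σ • t) t := by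
  rw [MulAction.mem_stabilizer_iff, smul_span_singleton, Ideal.span_singleton_eq_span_singleton]

theorem prime_smul (σ : G) {t : A} (ht : Prime t) : Prime (σ • t) :=
  (MulEquiv.prime_iff (MulSemiringAction.toRingEquiv G A σ)).2 ht

theorem associated_smul (σ : G) {x y : A} (h : Associated x y) : Associated (σ • x) (σ • y) := by
  obtain ⟨u, rfl⟩ := h
  refine ⟨Units.map (MulSemiringAction.toRingEquiv G A σ).toRingHom.toMonoidHom u, ?_⟩
  rw [smul_mul']
  rfl

theorem emultiplicity_prime_prime {π ρ : A} (hπ : Prime π) (hρ : Prime ρ) [Decidable (Associated π ρ)] :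
    emultiplicity π ρ = if Associated π ρ then 1 else 0 := by
  split_ifs with h
  · rw [emultiplicity_eq_of_associated_left h.symm]
    have := emultiplicity_pow_self_of_prime hρ 1
    simpa using this
  · rw [emultiplicity_eq_zero, hπ.dvd_prime_iff_associated hρ]
    exact h

variable [Finite G] [UniqueFactorizationMonoid A]

theorem prod_smul_dvd (t : A) (ht : Prime t) (b : A) (hb : ∀ σ : G, σ • b = b)
    (hdvd : t ^ Nat.card (MulAction.stabilizer G (Ideal.span {t} : Ideal A)) ∣ b) :
    letI := Fintype.ofFinite G
    ∏ σ : G, σ • t ∣ b := by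
  classical
  letI := Fintype.ofFinite G
  have hne : ∏ σ : G, σ • t ≠ 0 := by
    rw [Finset.prod_ne_zero_iff]
    intro σ _
    exact (prime_smul σ ht).ne_zero
  rw [UniqueFactorizationMonoid.dvd_iff_emultiplicity_le hne]
  intro π hπ
  rw [Finset.emultiplicity_prod hπ]
  have hterm : ∀ σ : G, emultiplicity π (σ • t) = if Associated π (σ • t) then 1 else 0 :=
    fun σ => emultiplicity_prime_prime hπ (prime_smul σ ht)
  simp_rw [hterm]
  rw [Finset.sum_boole]
  by_cases hex : ∃ τ : G, Associated π (τ • t)
  · obtain ⟨τ, hτ⟩ := hex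
    have hcard : (Finset.univ.filter (fun σ : G => Associated π (σ • t))).card =
        Nat.card (MulAction.stabilizer G (Ideal.span {t} : Ideal A)) := by
      rw [← Fintype.card_subtype, ← Nat.card_eq_fintype_card]
      apply Nat.card_congr
      refine (Equiv.mulLeft τ⁻¹).subtypeEquiv (fun σ => ?_)
      rw [Equiv.coe_mulLeft, mem_stabilizer_iff, mul_smul]
      constructor
      · intro h
        have h2 : Associated (τ • t) (σ • t) := hτ.symm.trans h
        have h3 := associated_smul τ⁻¹ h2
        rw [inv_smul_smul] at h3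
        exact h3.symm
      · intro h
        have h3 := associated_smul τ h
        rw [smul_inv_smul] at h3
        exact hτ.trans h3.symm
    rw [hcard]
    rw [emultiplicity_eq_of_associated_left hτ.symm]
    apply le_emultiplicity_of_pow_dvd
    have h4 : τ • (t ^ Nat.card (MulAction.stabilizer G (Ideal.span {t} : Ideal A))) ∣ τ • b := by
      obtain ⟨c, hc⟩ := hdvd
      exact ⟨τ • c, by rw [hc, smul_mul']⟩
    rwa [smul_pow', hb τ] at h4
  · have hzero : (Finset.univ.filter (fun σ : G => Associated π (σ • t))).card = 0 := by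
      rw [Finset.card_eq_zero, Finset.filter_eq_empty_iff]
      intro σ _ hσ
      exact hex ⟨σ, hσ⟩
    rw [hzero]
    simp

end UFD

end Groth.Agent.Lib.Lead.PsRefl4
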