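import Mathlib
import Groth.Agent.Lib.Lead.EakinNagata
import Groth.Agent.Lib.Lead.PsRefl1
import Groth.Agent.Lib.Lead.PsRefl2
import Groth.Agent.Lib.Lead.PsRefl3
import Groth.Agent.Lib.Lead.PsRefl4
import Groth.Agent.Lib.Lead.WDivA1

set_option autoImplicit false
set_option linter.style.haveILetI false
set_option linter.unusedSectionVars false

namespace Groth.Agent.Lib.Lead.PsRefl5

open scoped Pointwise
open Groth.Agent.Lead.WDivA

universe u

section Main

variable {A B G : Type u} [CommRing A] [IsDomain A] [IsNoetherianRing A]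
    [UniqueFactorizationMonoid A]
    [CommRing B] [Algebra B A] [FaithfulSMul B A] [Module.Finite B A]
    [Group G] [Finite G] [MulSemiringAction G A] [FaithfulSMul G A] [SMulCommClass G B A]
    [Algebra.IsInvariant B A G]

include G in
theorem exists_generator (q : Ideal B) [q.IsPrime] (hq : q.height = 1) (p : Ideal A) [p.IsPrime]
    [p.LiesOver q]
    (hres : ∀ a : A, ∃ b c : B, c ∉ q ∧ algebraMap B A c * a - algebraMap B A b ∈ p) :
    ∃ u₀ : B, u₀ ≠ 0 ∧ q = Ideal.span {u₀} := by
  classical
  letI := Fintype.ofFinite G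
  haveI : IsDomain B := IsDomain.of_faithfulSMul B A
  haveI : IsGaloisGroup G B A := ⟨inferInstance, inferInstance, inferInstance⟩
  have hinj : Function.Injective (algebraMap B A) := FaithfulSMul.algebraMap_injective B A
  haveI : Algebra.IsIntegral B A := inferInstance
  have hq0 : q ≠ ⊥ := ne_bot_of_height_one hq
  have hcomap : p.comap (algebraMap B A) = q := (Ideal.over_def p q).symm
  have hp0 : p ≠ ⊥ := by
    intro h
    apply hq0
    rw [← hcomap, h, ← RingHom.ker_eq_comap_bot, (RingHom.injective_iff_ker_eq_bot _).1 hinj]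
  obtain ⟨t, htp, ht⟩ := Ideal.IsPrime.exists_mem_prime_of_ne_bot ‹p.IsPrime› hp0
  have hspan : p = Ideal.span {t} := by
    haveI hP' : (Ideal.span {t} : Ideal A).IsPrime :=
      (Ideal.span_singleton_prime ht.ne_zero).2 ht
    have hle : Ideal.span {t} ≤ p := (Ideal.span_singleton_le_iff_mem _).2 htp
    by_contra hne
    have hlt : Ideal.span {t} < p := lt_of_le_of_ne hle (Ne.symm hne)
    obtain ⟨x, hxp, hxt⟩ := SetLike.exists_of_lt hlt
    have h1 := Ideal.comap_lt_comap_of_integral_mem_sdiff (R := B) hle ⟨hxp, hxt⟩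
      (Algebra.IsIntegral.isIntegral x)
    have h2 : (Ideal.span {t} : Ideal A).comap (algebraMap B A) ≠ ⊥ :=
      Ideal.comap_ne_bot_of_integral_mem ht.ne_zero (Ideal.mem_span_singleton_self t)
        (Algebra.IsIntegral.isIntegral t)
    rw [hcomap] at h1
    haveI : ((Ideal.span {t} : Ideal A).comap (algebraMap B A)).IsPrime := Ideal.comap_isPrime _ _
    exact h1.ne (eq_of_le_of_height_one hq h2 h1.le)
  have hf := PsRefl2.inertiaDeg_eq_one q p hres
  have hD := PsRefl1.card_stabilizer_le_ramificationIdx (G := G) q p hf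
  set u : A := ∏ σ : G, σ • t with hu
  have hu_inv : ∀ τ : G, τ • u = u := by
    intro τ
    rw [hu, Finset.smul_prod']
    simp_rw [← mul_smul]
    exact Fintype.prod_equiv (Equiv.mulLeft τ) _ _ (fun σ => rfl)
  obtain ⟨u₀, hu₀⟩ := Algebra.IsInvariant.isInvariant (A := B) (G := G) u hu_inv
  have hu_ne : u ≠ 0 := by
    rw [hu, Finset.prod_ne_zero_iff]
    intro σ _
    exact (PsRefl4.prime_smul σ ht).ne_zero
  have hu₀_ne : u₀ ≠ 0 := by
    rintro rfl
    rw [map_zero] at hu₀
    exact hu_ne hu₀.symm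
  have hup : u ∈ p := by
    have h3 : u ∈ Ideal.span {t} := by
      rw [Ideal.mem_span_singleton]
      have := Finset.dvd_prod_of_mem (fun σ : G => σ • t) (Finset.mem_univ (1 : G))
      simpa using this
    rw [← hspan] at h3
    exact h3
  have hu₀q : u₀ ∈ q := by
    rw [← hcomap, Ideal.mem_comap, hu₀]
    exact hup
  refine ⟨u₀, hu₀_ne, le_antisymm ?_ ?_⟩
  · intro b hb
    have hq0' : ∃ x ∈ q, algebraMap B A x ≠ 0 := ⟨u₀, hu₀q, by rw [hu₀]; exact hu_ne⟩
    have h1 := PsRefl3.pow_ramificationIdx_dvd t ht p hspan q hq0' b hb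
    have hcard : Nat.card (MulAction.stabilizer G (Ideal.span {t} : Ideal A)) =
        Nat.card (MulAction.stabilizer G p) := by rw [← hspan]
    have h2 : t ^ Nat.card (MulAction.stabilizer G (Ideal.span {t} : Ideal A)) ∣
        algebraMap B A b := by
      refine dvd_trans (pow_dvd_pow t ?_) h1
      rw [hcard]
      exact hD
    have h3 := PsRefl4.prod_smul_dvd (G := G) t ht (algebraMap B A b)
      (fun σ => smul_algebraMap σ b) h2
    obtain ⟨a, ha⟩ : u ∣ algebraMap B A b := by
      rw [hu]
      convert h3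
    have ha_inv : ∀ σ : G, σ • a = a := by
      intro σ
      have h4 : σ • (algebraMap B A b) = σ • (u * a) := by rw [ha]
      rw [smul_algebraMap, smul_mul', hu_inv, ha] at h4
      exact (mul_left_cancel₀ hu_ne h4).symm
    obtain ⟨a₀, ha₀⟩ := Algebra.IsInvariant.isInvariant (A := B) (G := G) a ha_inv
    rw [Ideal.mem_span_singleton]
    refine ⟨a₀, hinj ?_⟩
    rw [map_mul, hu₀, ha₀, ha]
  · rw [Ideal.span_singleton_le_iff_mem]
    exact hu₀q

include G in
theorem isUnit_of_isUnit_algebraMap (b : B) (hb : IsUnit (algebraMap B A b)) : IsUnit b := by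
  have hinj : Function.Injective (algebraMap B A) := FaithfulSMul.algebraMap_injective B A
  obtain ⟨a, ha⟩ := hb.exists_right_inv
  have ha_inv : ∀ σ : G, σ • a = a := by
    intro σ
    have h1 : σ • (algebraMap B A b * a) = σ • (1 : A) := by rw [ha]
    rw [smul_mul', smul_algebraMap, smul_one] at h1
    calc σ • a = (a * algebraMap B A b) * σ • a := by rw [mul_comm a, ha, one_mul]
      _ = a * (algebraMap B A b * σ • a) := by rw [mul_assoc]
      _ = a := by rw [h1, mul_one]
  obtain ⟨a₀, ha₀⟩ := Algebra.IsInvariant.isInvariant (A := B) (G := G) a ha_inv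
  refine IsUnit.of_mul_eq_one a₀ (hinj ?_)
  rw [map_mul, ha₀, ha, map_one]

include G in
theorem isLocalRing_base [IsLocalRing A] : IsLocalRing B := by
  have hinj : Function.Injective (algebraMap B A) := FaithfulSMul.algebraMap_injective B A
  haveI : IsDomain B := IsDomain.of_faithfulSMul B A
  apply IsLocalRing.of_nonunits_add
  intro a b ha hb
  have ha' : algebraMap B A a ∈ nonunits A := fun h => ha (isUnit_of_isUnit_algebraMap (G := G) a h)
  have hb' : algebraMap B A b ∈ nonunits A := fun h => hb (isUnit_of_isUnit_algebraMap (G := G) b h)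
  have hab := IsLocalRing.nonunits_add ha' hb'
  intro h
  apply hab
  rw [← map_add]
  exact h.map _

include G in
theorem isRegular_of_quotient [IsLocalRing A] (u₀ : B) (hu₀ : u₀ ≠ 0)
    (hreg : IsRegularLocalRing (B ⧸ (Ideal.span {u₀} : Ideal B))) : IsRegularLocalRing B := by
  classical
  haveI : IsDomain B := IsDomain.of_faithfulSMul B A
  have hinj : Function.Injective (algebraMap B A) := FaithfulSMul.algebraMap_injective B A
  haveI : IsNoetherianRing B := EakinNagata.isNoetherianRing_of_finite hinj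
  haveI : IsLocalRing B := isLocalRing_base (A := A) (G := G)
  apply IsRegularLocalRing.of_spanFinrank_maximalIdeal_le
  set Q : Ideal B := Ideal.span {u₀} with hQ
  haveI : IsLocalRing (B ⧸ Q) := hreg.toIsLocalRing
  haveI : IsNoetherianRing (B ⧸ Q) := inferInstance
  have hdim : ringKrullDim (B ⧸ Q) + 1 ≤ ringKrullDim B :=
    ringKrullDim_quotient_succ_le_of_nonZeroDivisor (mem_nonZeroDivisors_of_ne_zero hu₀)
  have hregeq : ((IsLocalRing.maximalIdeal (B ⧸ Q)).spanFinrank : WithBot ℕ∞) =
      ringKrullDim (B ⧸ Q) := hreg.spanFinrank_maximalIdeal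
  obtain ⟨s, hscard, hsspan⟩ := Submodule.FG.exists_span_finset_card_eq_spanFinrank
    (IsNoetherian.noetherian (IsLocalRing.maximalIdeal (B ⧸ Q)))
  choose lift hlift using (fun x : B ⧸ Q => Ideal.Quotient.mk_surjective x)
  let s' : Finset B := s.image lift
  have himage : (Ideal.Quotient.mk Q) '' (s' : Set B) = (s : Set (B ⧸ Q)) := by
    ext x
    simp only [s', Finset.coe_image, Set.mem_image, Finset.mem_coe]
    constructor
    · rintro ⟨_, ⟨y, hy, rfl⟩, rfl⟩
      rw [hlift]
      exact hy
    · intro hx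
      exact ⟨lift x, ⟨x, hx, rfl⟩, hlift x⟩
  have hmap : (Ideal.span (s' : Set B)).map (Ideal.Quotient.mk Q) =
      IsLocalRing.maximalIdeal (B ⧸ Q) := by
    rw [Ideal.map_span, himage]
    exact hsspan
  have hmax : IsLocalRing.maximalIdeal B = Ideal.span (s' : Set B) ⊔ Q := by
    have h1 := Ideal.comap_map_of_surjective (Ideal.Quotient.mk Q) Ideal.Quotient.mk_surjective
      (Ideal.span (s' : Set B))
    rw [hmap] at h1
    have h2 : (IsLocalRing.maximalIdeal (B ⧸ Q)).comap (Ideal.Quotient.mk Q) =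
        IsLocalRing.maximalIdeal B := by
      apply IsLocalRing.eq_maximalIdeal
      exact Ideal.comap_isMaximal_of_surjective _ Ideal.Quotient.mk_surjective
    rw [h2] at h1
    rw [h1, ← RingHom.ker_eq_comap_bot, Ideal.mk_ker]
  have hle : (IsLocalRing.maximalIdeal B).spanFinrank ≤ s.card + 1 := by
    have h3 : IsLocalRing.maximalIdeal B = Ideal.span ((s' : Set B) ∪ {u₀}) := by
      rw [hmax, Ideal.span_union]
    rw [h3]
    refine le_trans (Submodule.spanFinrank_span_le_ncard_of_finite (Set.toFinite _)) ?_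
    refine le_trans (Set.ncard_union_le _ _) ?_
    rw [Set.ncard_singleton, Set.ncard_coe_finset]
    exact Nat.add_le_add_right Finset.card_image_le 1
  calc ((IsLocalRing.maximalIdeal B).spanFinrank : WithBot ℕ∞)
      ≤ ((s.card + 1 : ℕ) : WithBot ℕ∞) := by exact_mod_cast hle
    _ = ((IsLocalRing.maximalIdeal (B ⧸ Q)).spanFinrank : WithBot ℕ∞) + 1 := by
        rw [hscard]
        push_cast
        rfl
    _ = ringKrullDim (B ⧸ Q) + 1 := by rw [hregeq]
    _ ≤ ringKrullDim B := hdim

end Main

end Groth.Agent.Lib.Lead.PsRefl5
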