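import Mathlib
import Groth.Agent.Lib.Helper4.RelHartogs1

/-!
# Pure pairs descend along fpqc morphisms, part 1 (lead)
Flat base change of the Hartogs property (sections extend uniquely across `U`), using Mathlib's
`isIso_pushoutSection_of_isQuasiSeparated_of_flat_right`; the resulting Hartogs extension property
`hartogs` for schemes flat over a locally noetherian base with `depth ≥ 2` off `U` (via helper4's `relHartogs`).
-/

set_option backward.isDefEq.respectTransparency.types false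
set_option synthInstance.maxHeartbeats 400000
set_option autoImplicit false
set_option linter.style.haveILetI false
set_option linter.unusedSectionVars false
universe u
open CategoryTheory CategoryTheory.Limits AlgebraicGeometry TopologicalSpace Opposite

namespace Groth.Agent.Lead.PureDesc

/-- restriction maps between equal opens are bijective -/
lemma bij_of_eq {T : Scheme.{u}} (A B : T.Opens) (h : A = B) (hle : A ≤ B) :
    Function.Bijective (T.presheaf.map (homOfLE hle).op) := by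
  subst h
  have : homOfLE hle = 𝟙 A := rfl
  rw [this, op_id, T.presheaf.map_id]
  exact Function.bijective_id

lemma isCompact_inf {X : Scheme.{u}} (U : X.Opens) [QuasiCompact U.ι] (V₀ : X.Opens)
    (hV₀ : IsAffineOpen V₀) : IsCompact ((V₀ ⊓ U : X.Opens) : Set X) := by
  have h1 : IsCompact (U.ι ⁻¹' (V₀ : Set X)) :=
    QuasiCompact.isCompact_preimage (f := U.ι) _ V₀.2 hV₀.isCompact
  have h2 := h1.image U.ι.continuous
  rw [Set.image_preimage_eq_inter_range, Scheme.Opens.range_ι] at h2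
  exact h2

/-- Flat base change of the Hartogs property, affine-local case. -/
theorem affine_bij_of_flat {X Y : Scheme.{u}} (p : Y ⟶ X) [Flat p] (U : X.Opens) [QuasiCompact U.ι]
    (hX : ∀ W : X.Opens, Function.Bijective (X.presheaf.map (homOfLE (inf_le_left : W ⊓ U ≤ W)).op))
    (V₀ : X.Opens) (hV₀ : IsAffineOpen V₀) (V : Y.Opens) (hV : IsAffineOpen V) (hVV₀ : V ≤ p ⁻¹ᵁ V₀) :
    Function.Bijective (Y.presheaf.map (homOfLE (inf_le_left : V ⊓ p ⁻¹ᵁ U ≤ V)).op) := by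
  have H : IsPullback p (𝟙 Y) (𝟙 X) p := IsPullback.of_vert_isIso ⟨by simp⟩
  have hUST : V ≤ p ⁻¹ᵁ V₀ := hVV₀
  have hUSX : V₀ ⊓ U ≤ (𝟙 X) ⁻¹ᵁ V₀ := inf_le_left
  have hcomp : IsCompact ((V₀ ⊓ U : X.Opens) : Set X) := isCompact_inf U V₀ hV₀
  have hqs : IsQuasiSeparated ((V₀ ⊓ U : X.Opens) : Set X) :=
    hV₀.isQuasiSeparated.of_subset (by intro x hx; exact hx.1)
  haveI hiso := isIso_pushoutSection_of_isQuasiSeparated_of_flat_right H hUST hUSX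
    (UY := p ⁻¹ᵁ (V₀ ⊓ U) ⊓ (𝟙 Y) ⁻¹ᵁ V) rfl hV₀ hV hcomp hqs
  have hle : p ⁻¹ᵁ (V₀ ⊓ U) ⊓ (𝟙 Y) ⁻¹ᵁ V ≤ V := inf_le_right
  haveI hl : IsIso ((𝟙 X : X ⟶ X).appLE V₀ (V₀ ⊓ U) hUSX) := by
    rw [ConcreteCategory.isIso_iff_bijective]
    have : (𝟙 X : X ⟶ X).appLE V₀ (V₀ ⊓ U) hUSX = X.presheaf.map (homOfLE (inf_le_left : V₀ ⊓ U ≤ V₀)).op := by
      simp only [Scheme.Hom.appLE, Scheme.Hom.id_app]
      rfl
    rw [this]
    exact hX V₀
  have h3 : IsIso (pushout.inr ((𝟙 X : X ⟶ X).appLE V₀ (V₀ ⊓ U) hUSX) (p.appLE V₀ V hUST) ≫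
      pushoutSection H hUST hUSX (UY := p ⁻¹ᵁ (V₀ ⊓ U) ⊓ (𝟙 Y) ⁻¹ᵁ V) rfl) := inferInstance
  rw [pushout.inr_desc] at h3
  have h4 : (𝟙 Y : Y ⟶ Y).appLE V (p ⁻¹ᵁ (V₀ ⊓ U) ⊓ (𝟙 Y) ⁻¹ᵁ V) (by simp) =
      Y.presheaf.map (homOfLE hle).op := by
    simp only [Scheme.Hom.appLE, Scheme.Hom.id_app]
    rfl
  rw [h4, ConcreteCategory.isIso_iff_bijective] at h3
  have heq : V ⊓ p ⁻¹ᵁ U = p ⁻¹ᵁ (V₀ ⊓ U) ⊓ (𝟙 Y) ⁻¹ᵁ V := by
    ext y
    constructor
    · rintro ⟨h1, h2⟩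
      exact ⟨⟨hVV₀ h1, h2⟩, h1⟩
    · rintro ⟨⟨_, h2⟩, h1⟩
      exact ⟨h1, h2⟩
  have h5 := bij_of_eq (V ⊓ p ⁻¹ᵁ U) (p ⁻¹ᵁ (V₀ ⊓ U) ⊓ (𝟙 Y) ⁻¹ᵁ V) heq heq.le
  have h6 : Y.presheaf.map (homOfLE (inf_le_left : V ⊓ p ⁻¹ᵁ U ≤ V)).op =
      Y.presheaf.map (homOfLE hle).op ≫ Y.presheaf.map (homOfLE heq.le).op := by
    rw [← Functor.map_comp]; rfl
  rw [h6]
  exact h5.comp h3

section glue
variable {X : Scheme.{u}}

lemma res_res' {A B C : X.Opens} (i : B ⟶ A) (j : C ⟶ B) (k : C ⟶ A) (s : Γ(X, A)) :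
    X.presheaf.map j.op (X.presheaf.map i.op s) = X.presheaf.map k.op s := by
  rw [← ConcreteCategory.comp_apply, ← X.presheaf.map_comp]
  rfl

variable (P : X.Opens → Prop) (hP : ∀ (W : X.Opens) (x : X), x ∈ W → ∃ V : X.Opens, P V ∧ x ∈ V ∧ V ≤ W)

include hP in
lemma le_iSup_basis (W : X.Opens) : W ≤ ⨆ V : {V : X.Opens // P V ∧ V ≤ W}, (V.1 : X.Opens) := by
  intro x hx
  obtain ⟨V, hV, hxV, hVW⟩ := hP W x hx
  rw [Opens.mem_iSup]
  exact ⟨⟨V, hV, hVW⟩, hxV⟩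

include hP in
theorem res_injective_basis (U : X.Opens)
    (h : ∀ V : X.Opens, P V →
      Function.Injective (X.presheaf.map (homOfLE (inf_le_left : V ⊓ U ≤ V)).op))
    (W : X.Opens) :
    Function.Injective (X.presheaf.map (homOfLE (inf_le_left : W ⊓ U ≤ W)).op) := by
  intro s t hst
  apply X.sheaf.eq_of_locally_eq' (fun V : {V : X.Opens // P V ∧ V ≤ W} => (V.1 : X.Opens)) W
    (fun V => homOfLE V.2.2) (le_iSup_basis P hP W)
  intro V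
  apply h V.1 V.2.1
  show X.presheaf.map _ (X.presheaf.map _ s) = X.presheaf.map _ (X.presheaf.map _ t)
  rw [res_res' _ _ (homOfLE (le_trans inf_le_left V.2.2 : V.1 ⊓ U ≤ W)),
    res_res' _ _ (homOfLE (le_trans inf_le_left V.2.2 : V.1 ⊓ U ≤ W))]
  rw [← res_res' (homOfLE (inf_le_left : W ⊓ U ≤ W)) (homOfLE (inf_le_inf_right U V.2.2 : V.1 ⊓ U ≤ W ⊓ U)) _ s,
    ← res_res' (homOfLE (inf_le_left : W ⊓ U ≤ W)) (homOfLE (inf_le_inf_right U V.2.2 : V.1 ⊓ U ≤ W ⊓ U)) _ t, hst]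

include hP in
theorem res_surjective_basis (U : X.Opens)
    (h : ∀ V : X.Opens, P V →
      Function.Bijective (X.presheaf.map (homOfLE (inf_le_left : V ⊓ U ≤ V)).op))
    (W : X.Opens) :
    Function.Surjective (X.presheaf.map (homOfLE (inf_le_left : W ⊓ U ≤ W)).op) := by
  intro t
  have hinj := res_injective_basis P hP U (fun V hV => (h V hV).1)
  have hex : ∀ V : {V : X.Opens // P V ∧ V ≤ W}, ∃ sV : Γ(X, V.1),
      X.presheaf.map (homOfLE (inf_le_left : V.1 ⊓ U ≤ V.1)).op sV =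
        X.presheaf.map (homOfLE (inf_le_inf_right U V.2.2 : V.1 ⊓ U ≤ W ⊓ U)).op t :=
    fun V => (h V.1 V.2.1).2 _
  choose sf hsf using hex
  have hcompat : TopCat.Presheaf.IsCompatible X.presheaf
      (fun V : {V : X.Opens // P V ∧ V ≤ W} => (V.1 : X.Opens)) sf := by
    intro V V'
    apply hinj (V.1 ⊓ V'.1)
    show X.presheaf.map _ (X.presheaf.map _ (sf V)) = X.presheaf.map _ (X.presheaf.map _ (sf V'))
    have e1 : X.presheaf.map (homOfLE (inf_le_left : (V.1 ⊓ V'.1) ⊓ U ≤ V.1 ⊓ V'.1)).op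
        (X.presheaf.map (Opens.infLELeft V.1 V'.1).op (sf V)) =
        X.presheaf.map (homOfLE (inf_le_inf_right U (le_trans inf_le_left V.2.2) : (V.1 ⊓ V'.1) ⊓ U ≤ W ⊓ U)).op t := by
      rw [res_res' _ _ (homOfLE (le_trans inf_le_left inf_le_left : (V.1 ⊓ V'.1) ⊓ U ≤ V.1)),
        ← res_res' (homOfLE (inf_le_left : V.1 ⊓ U ≤ V.1))
          (homOfLE (inf_le_inf_right U inf_le_left : (V.1 ⊓ V'.1) ⊓ U ≤ V.1 ⊓ U)) _ (sf V), hsf V,
        res_res']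
    have e2 : X.presheaf.map (homOfLE (inf_le_left : (V.1 ⊓ V'.1) ⊓ U ≤ V.1 ⊓ V'.1)).op
        (X.presheaf.map (Opens.infLERight V.1 V'.1).op (sf V')) =
        X.presheaf.map (homOfLE (inf_le_inf_right U (le_trans inf_le_left V.2.2) : (V.1 ⊓ V'.1) ⊓ U ≤ W ⊓ U)).op t := by
      rw [res_res' _ _ (homOfLE (le_trans inf_le_left inf_le_right : (V.1 ⊓ V'.1) ⊓ U ≤ V'.1)),
        ← res_res' (homOfLE (inf_le_left : V'.1 ⊓ U ≤ V'.1))
          (homOfLE (inf_le_inf_right U inf_le_right : (V.1 ⊓ V'.1) ⊓ U ≤ V'.1 ⊓ U)) _ (sf V'), hsf V',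
        res_res']
    exact e1.trans e2.symm
  obtain ⟨s, hs, -⟩ := X.sheaf.existsUnique_gluing'
    (fun V : {V : X.Opens // P V ∧ V ≤ W} => (V.1 : X.Opens)) W
    (fun V => homOfLE V.2.2) (le_iSup_basis P hP W) sf hcompat
  refine ⟨s, ?_⟩
  apply X.sheaf.eq_of_locally_eq'
    (fun V : {V : X.Opens // P V ∧ V ≤ W} => (V.1 : X.Opens) ⊓ U) (W ⊓ U)
    (fun V => homOfLE (inf_le_inf_right U V.2.2)) ?_
  · intro V
    show X.presheaf.map _ (X.presheaf.map _ s) = X.presheaf.map _ t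
    rw [← hsf V, ← hs V]
    show _ = X.presheaf.map _ (X.presheaf.map _ s)
    rw [res_res' _ _ (homOfLE (le_trans inf_le_left V.2.2 : V.1 ⊓ U ≤ W)),
      res_res' _ _ (homOfLE (le_trans inf_le_left V.2.2 : V.1 ⊓ U ≤ W))]
  · intro x hx
    have := le_iSup_basis P hP W hx.1
    rw [Opens.mem_iSup] at this ⊢
    obtain ⟨V, hxV⟩ := this
    exact ⟨V, hxV, hx.2⟩

end glue

/-- Flat base change of the Hartogs property. -/
theorem hbij_of_flat {X Y : Scheme.{u}} (p : Y ⟶ X) [Flat p] (U : X.Opens) [QuasiCompact U.ι]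
    (hX : ∀ W : X.Opens, Function.Bijective (X.presheaf.map (homOfLE (inf_le_left : W ⊓ U ≤ W)).op))
    (W : Y.Opens) :
    Function.Bijective (Y.presheaf.map (homOfLE (inf_le_left : W ⊓ p ⁻¹ᵁ U ≤ W)).op) := by
  let P : Y.Opens → Prop := fun V => IsAffineOpen V ∧ ∃ V₀ : X.Opens, IsAffineOpen V₀ ∧ V ≤ p ⁻¹ᵁ V₀
  have hP : ∀ (W : Y.Opens) (y : Y), y ∈ W → ∃ V : Y.Opens, P V ∧ y ∈ V ∧ V ≤ W := by
    intro W y hy
    obtain ⟨V₀, hV₀, hyV₀, -⟩ := Opens.isBasis_iff_nbhd.1 (X.isBasis_affineOpens)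
      (show p y ∈ (⊤ : X.Opens) from trivial)
    obtain ⟨V, hV, hyV, hVW⟩ := Opens.isBasis_iff_nbhd.1 (Y.isBasis_affineOpens)
      (show y ∈ W ⊓ p ⁻¹ᵁ V₀ from ⟨hy, hyV₀⟩)
    exact ⟨V, ⟨hV, V₀, hV₀, hVW.trans inf_le_right⟩, hyV, hVW.trans inf_le_left⟩
  have h' : ∀ V : Y.Opens, P V →
      Function.Bijective (Y.presheaf.map (homOfLE (inf_le_left : V ⊓ p ⁻¹ᵁ U ≤ V)).op) := by
    rintro V ⟨hV, V₀, hV₀, hVV₀⟩
    exact affine_bij_of_flat p U hX V₀ hV₀ V hV hVV₀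
  exact ⟨res_injective_basis P hP (p ⁻¹ᵁ U) (fun V hV => (h' V hV).1) W,
    res_surjective_basis P hP (p ⁻¹ᵁ U) h' W⟩

/-- Hartogs extension property for a flat scheme `t : T ⟶ X` over a locally noetherian scheme `X` with
`depth ≥ 2` off `U`: morphisms into schemes affine over a base extend uniquely from `T ×_X U`. -/
theorem hartogs {X T : Scheme.{u}} [IsLocallyNoetherian X] (U : X.Opens)
    (hU : ∀ x : X, x ∉ U → (2 : ℕ∞) ≤ LocCoh.depth (X.presheaf.stalk x) (X.presheaf.stalk x))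
    (t : T ⟶ X) [Flat t] {S Z : Scheme.{u}} (p : T ⟶ S) (q : Z ⟶ S) [IsAffineHom q]
    (ψ : pullback t U.ι ⟶ Z) (hψ : ψ ≫ q = pullback.fst t U.ι ≫ p) :
    ∃! g : T ⟶ Z, g ≫ q = p ∧ pullback.fst t U.ι ≫ g = ψ := by
  have hX := Groth.Agent.Lib.Helper4.RelHartogs1.hbij_of_depth X U hU
  have hT := hbij_of_flat t U hX
  have hψ' : ((pullbackRestrictIsoRestrict t U).inv ≫ ψ) ≫ q = (t ⁻¹ᵁ U).ι ≫ p := by
    rw [Category.assoc, hψ, ← Category.assoc, pullbackRestrictIsoRestrict_inv_fst]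
  obtain ⟨g, ⟨hg1, hg2⟩, hu⟩ := Groth.Agent.Lib.Helper4.RelHartogs1.relHartogs (t ⁻¹ᵁ U) hT p q
    ((pullbackRestrictIsoRestrict t U).inv ≫ ψ) hψ'
  refine ⟨g, ⟨hg1, ?_⟩, ?_⟩
  · rw [← pullbackRestrictIsoRestrict_hom_ι, Category.assoc, hg2, Iso.hom_inv_id_assoc]
  · rintro g' ⟨h1, h2⟩
    apply hu
    refine ⟨h1, ?_⟩
    rw [← h2, ← Category.assoc, pullbackRestrictIsoRestrict_inv_fst]

end Groth.Agent.Lead.PureDesc
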