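import Mathlib
import Groth.Prelude.Def_Desc

/-!
# Pure pairs descend along fpqc morphisms, part 2 (lead)
From a finite etale `E'` over `X₁` whose restriction to `f⁻¹U` is the pullback of `E` over `U`, and the
Hartogs extension property, the descent datum `dd` on `E'` relative to `f : X₁ ⟶ X`.
-/

set_option backward.isDefEq.respectTransparency.types false
set_option synthInstance.maxHeartbeats 400000
set_option autoImplicit false
set_option linter.style.haveILetI false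
set_option linter.unusedSectionVars false
universe u
open CategoryTheory CategoryTheory.Limits AlgebraicGeometry TopologicalSpace Opposite

namespace Groth.Agent.Lead.PureDesc

section DD

variable {X X₁ : Scheme.{u}} (f : X₁ ⟶ X) (U : X.Opens)
  (E' : Over X₁) (E : Over (U : Scheme.{u}))
  (κ : pullback (E'.hom ≫ f) U.ι ⟶ E.left)
  (hκ : IsPullback κ (pullback.fst (E'.hom ≫ f) U.ι ≫ E'.hom) (E.hom ≫ U.ι) f)

include hκ in
lemma kappa_hom : κ ≫ E.hom = pullback.snd (E'.hom ≫ f) U.ι := by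
  rw [← cancel_mono U.ι, Category.assoc, hκ.w, Category.assoc, pullback.condition]

/-- the `E`-component of a point of `E'` lying over `U` -/
noncomputable def cc {T : Scheme.{u}} (u : T ⟶ (U : Scheme.{u})) (v : T ⟶ E'.left)
    (h : v ≫ E'.hom ≫ f = u ≫ U.ι) : T ⟶ E.left :=
  pullback.lift v u h ≫ κ

include hκ in
lemma cc_hom {T : Scheme.{u}} (u : T ⟶ (U : Scheme.{u})) (v : T ⟶ E'.left)
    (h : v ≫ E'.hom ≫ f = u ≫ U.ι) : cc f U E' E κ u v h ≫ E.hom = u := by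
  rw [cc, Category.assoc, kappa_hom f U E' E κ hκ, pullback.lift_snd]

lemma cc_comp {T T' : Scheme.{u}} (g : T' ⟶ T) (u : T ⟶ (U : Scheme.{u})) (v : T ⟶ E'.left)
    (h : v ≫ E'.hom ≫ f = u ≫ U.ι) :
    g ≫ cc f U E' E κ u v h = cc f U E' E κ (g ≫ u) (g ≫ v) (by rw [Category.assoc, h, Category.assoc]) := by
  rw [cc, cc, ← Category.assoc]
  congr 1
  apply pullback.hom_ext
  · rw [Category.assoc, pullback.lift_fst, pullback.lift_fst]
  · rw [Category.assoc, pullback.lift_snd, pullback.lift_snd]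

lemma cc_congr {T : Scheme.{u}} {u u' : T ⟶ (U : Scheme.{u})} {v v' : T ⟶ E'.left}
    (hu : u = u') (hv : v = v') (h : v ≫ E'.hom ≫ f = u ≫ U.ι) :
    cc f U E' E κ u v h = cc f U E' E κ u' v' (by rw [← hu, ← hv]; exact h) := by
  subst hu; subst hv; rfl

include hκ in
lemma cc_inj {T : Scheme.{u}} (u : T ⟶ (U : Scheme.{u})) (v v' : T ⟶ E'.left)
    (h : v ≫ E'.hom ≫ f = u ≫ U.ι) (h' : v' ≫ E'.hom ≫ f = u ≫ U.ι)
    (hvv : v ≫ E'.hom = v' ≫ E'.hom) (hc : cc f U E' E κ u v h = cc f U E' E κ u v' h') : v = v' := by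
  have : pullback.lift v u h = pullback.lift v' u h' := by
    apply hκ.hom_ext
    · exact hc
    · rw [← Category.assoc, ← Category.assoc, pullback.lift_fst, pullback.lift_fst, hvv]
  have h2 := congr($this ≫ pullback.fst (E'.hom ≫ f) U.ι)
  rwa [pullback.lift_fst, pullback.lift_fst] at h2

include hκ in
lemma cc_exists {T : Scheme.{u}} (e : T ⟶ E.left) (x : T ⟶ X₁) (h : e ≫ E.hom ≫ U.ι = x ≫ f) :
    ∃ (v : T ⟶ E'.left) (hv : v ≫ E'.hom = x),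
      cc f U E' E κ (e ≫ E.hom) v (by rw [← Category.assoc, hv, ← h, Category.assoc]) = e := by
  refine ⟨hκ.lift e x h ≫ pullback.fst _ _, by rw [Category.assoc, hκ.lift_snd], ?_⟩
  rw [cc]
  have : pullback.lift (hκ.lift e x h ≫ pullback.fst (E'.hom ≫ f) U.ι) (e ≫ E.hom)
      (by rw [Category.assoc, ← Category.assoc (pullback.fst _ _), hκ.lift_snd_assoc, ← h, Category.assoc]) = hκ.lift e x h := by
    apply pullback.hom_ext
    · rw [pullback.lift_fst]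
    · rw [pullback.lift_snd, ← kappa_hom f U E' E κ hκ, hκ.lift_fst_assoc]
  rw [this, hκ.lift_fst]

end DD

section Hart

variable {X X₁ : Scheme.{u}} (f : X₁ ⟶ X) [Flat f] (U : X.Opens)
  (E' : Over X₁) [IsAffineHom E'.hom] [Flat E'.hom] (E : Over (U : Scheme.{u}))
  (κ : pullback (E'.hom ≫ f) U.ι ⟶ E.left)
  (hκ : IsPullback κ (pullback.fst (E'.hom ≫ f) U.ι ≫ E'.hom) (E.hom ≫ U.ι) f)
  (hH : ∀ {T : Scheme.{u}} (t : T ⟶ X) [Flat t] {S Z : Scheme.{u}} (p : T ⟶ S) (q : Z ⟶ S)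
    [IsAffineHom q] (ψ : pullback t U.ι ⟶ Z) (_ : ψ ≫ q = pullback.fst t U.ι ≫ p),
    ∃! g : T ⟶ Z, g ≫ q = p ∧ pullback.fst t U.ι ≫ g = ψ)

/-- the `E`-component of the restriction to `T ×_X U` of a point of `E'` -/
noncomputable def c {T : Scheme.{u}} (t : T ⟶ X) (v : T ⟶ E'.left) (h : v ≫ E'.hom ≫ f = t) :
    pullback t U.ι ⟶ E.left :=
  cc f U E' E κ (pullback.snd t U.ι) (pullback.fst t U.ι ≫ v)
    (by rw [Category.assoc, h, pullback.condition])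

include hκ hH in
/-- uniqueness: a lift is determined by its `E`-component over `U` -/
lemma c_inj {T : Scheme.{u}} (t : T ⟶ X) [Flat t] (v v' : T ⟶ E'.left)
    (h : v ≫ E'.hom ≫ f = t) (h' : v' ≫ E'.hom ≫ f = t) (hvv : v ≫ E'.hom = v' ≫ E'.hom)
    (hc : c f U E' E κ t v h = c f U E' E κ t v' h') : v = v' := by
  have h1 : pullback.fst t U.ι ≫ v = pullback.fst t U.ι ≫ v' :=
    cc_inj f U E' E κ hκ _ _ _ _ _ (by rw [Category.assoc, Category.assoc, hvv]) hc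
  obtain ⟨g, -, hu⟩ := hH t (v ≫ E'.hom) E'.hom (pullback.fst t U.ι ≫ v) (by rw [Category.assoc])
  rw [hu v ⟨rfl, rfl⟩, hu v' ⟨hvv.symm, h1.symm⟩]

include hκ hH in
/-- existence: every `E`-component over `U` comes from a lift -/
lemma c_exists {T : Scheme.{u}} (t : T ⟶ X) [Flat t] (x : T ⟶ X₁) (hx : x ≫ f = t)
    (e : pullback t U.ι ⟶ E.left) (he : e ≫ E.hom = pullback.snd t U.ι) :
    ∃ (v : T ⟶ E'.left) (hv : v ≫ E'.hom = x),
      c f U E' E κ t v (by rw [← Category.assoc, hv, hx]) = e := by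
  obtain ⟨ψ, hψ, hψc⟩ := cc_exists f U E' E κ hκ e (pullback.fst t U.ι ≫ x)
    (by rw [← Category.assoc, he, ← pullback.condition, Category.assoc, hx])
  obtain ⟨v, ⟨hv1, hv2⟩, -⟩ := hH t x E'.hom ψ hψ
  refine ⟨v, hv1, ?_⟩
  rw [c, ← hψc]
  exact cc_congr f U E' E κ he.symm hv2 _

/-- the universal scheme `E' ×_X X₁` -/
noncomputable abbrev T₂ : Scheme.{u} := pullback (E'.hom ≫ f) f

/-- its structure map to `X` -/
noncomputable abbrev t₂ : T₂ f E' ⟶ X := pullback.fst (E'.hom ≫ f) f ≫ E'.hom ≫ f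

include hκ hH in
lemma exists_v₁ : ∃ (v₁ : T₂ f E' ⟶ E'.left) (hv : v₁ ≫ E'.hom = pullback.snd (E'.hom ≫ f) f),
    c f U E' E κ (t₂ f E') v₁ (by rw [← Category.assoc, hv, ← pullback.condition]) =
      c f U E' E κ (t₂ f E') (pullback.fst (E'.hom ≫ f) f) rfl := by
  apply c_exists f U E' E κ hκ hH (t₂ f E') (pullback.snd (E'.hom ≫ f) f)
    (by rw [← pullback.condition])
  rw [c, cc_hom f U E' E κ hκ]

end Hart

section Fm

variable {X X₁ : Scheme.{u}} (f : X₁ ⟶ X) [Flat f] (U : X.Opens)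
  (E' : Over X₁) [IsAffineHom E'.hom] [Flat E'.hom] (E : Over (U : Scheme.{u}))
  (κ : pullback (E'.hom ≫ f) U.ι ⟶ E.left)
  (hκ : IsPullback κ (pullback.fst (E'.hom ≫ f) U.ι ≫ E'.hom) (E.hom ≫ U.ι) f)
  (hH : ∀ {T : Scheme.{u}} (t : T ⟶ X) [Flat t] {S Z : Scheme.{u}} (p : T ⟶ S) (q : Z ⟶ S)
    [IsAffineHom q] (ψ : pullback t U.ι ⟶ Z) (_ : ψ ≫ q = pullback.fst t U.ι ≫ p),
    ∃! g : T ⟶ Z, g ≫ q = p ∧ pullback.fst t U.ι ≫ g = ψ)

/-- the universal transition morphism -/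
noncomputable def v₁ : T₂ f E' ⟶ E'.left := (exists_v₁ f U E' E κ hκ hH).choose

lemma v₁_hom : v₁ f U E' E κ hκ hH ≫ E'.hom = pullback.snd (E'.hom ≫ f) f :=
  (exists_v₁ f U E' E κ hκ hH).choose_spec.choose

lemma v₁_c : c f U E' E κ (t₂ f E') (v₁ f U E' E κ hκ hH)
      (by rw [← Category.assoc, v₁_hom, ← pullback.condition]) =
      c f U E' E κ (t₂ f E') (pullback.fst (E'.hom ≫ f) f) rfl :=
  (exists_v₁ f U E' E κ hκ hH).choose_spec.choose_spec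

/-- the transition maps on points -/
noncomputable def Fm {T : Scheme.{u}} (x₁ : T ⟶ X₁) (v : T ⟶ E'.left)
    (h : v ≫ E'.hom ≫ f = x₁ ≫ f) : T ⟶ E'.left :=
  pullback.lift v x₁ h ≫ v₁ f U E' E κ hκ hH

lemma Fm_hom {T : Scheme.{u}} (x₁ : T ⟶ X₁) (v : T ⟶ E'.left)
    (h : v ≫ E'.hom ≫ f = x₁ ≫ f) : Fm f U E' E κ hκ hH x₁ v h ≫ E'.hom = x₁ := by
  rw [Fm, Category.assoc, v₁_hom, pullback.lift_snd]

lemma Fm_comp {T T' : Scheme.{u}} (g : T' ⟶ T) (x₁ : T ⟶ X₁) (v : T ⟶ E'.left)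
    (h : v ≫ E'.hom ≫ f = x₁ ≫ f) :
    g ≫ Fm f U E' E κ hκ hH x₁ v h =
      Fm f U E' E κ hκ hH (g ≫ x₁) (g ≫ v) (by rw [Category.assoc, h, Category.assoc]) := by
  rw [Fm, Fm, ← Category.assoc]
  congr 1
  apply pullback.hom_ext
  · rw [Category.assoc, pullback.lift_fst, pullback.lift_fst]
  · rw [Category.assoc, pullback.lift_snd, pullback.lift_snd]

lemma Fm_congr {T : Scheme.{u}} {x₁ x₁' : T ⟶ X₁} {v v' : T ⟶ E'.left} (hx : x₁ = x₁') (hv : v = v')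
    (h : v ≫ E'.hom ≫ f = x₁ ≫ f) :
    Fm f U E' E κ hκ hH x₁ v h = Fm f U E' E κ hκ hH x₁' v' (by rw [← hx, ← hv]; exact h) := by
  subst hx; subst hv; rfl

/-- the transition maps preserve the `E`-component over `U` -/
lemma Fm_cc {T : Scheme.{u}} (x₁ : T ⟶ X₁) (v : T ⟶ E'.left)
    (h : v ≫ E'.hom ≫ f = x₁ ≫ f) (u : T ⟶ (U : Scheme.{u})) (hu : x₁ ≫ f = u ≫ U.ι) :
    cc f U E' E κ u (Fm f U E' E κ hκ hH x₁ v h)
      (by rw [← Category.assoc, Fm_hom, hu]) = cc f U E' E κ u v (h.trans hu) := by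
  have hg : pullback.lift v x₁ h ≫ t₂ f E' = u ≫ U.ι := by
    rw [← Category.assoc, pullback.lift_fst, h, hu]
  have e1 := cc_comp f U E' E κ (pullback.lift (pullback.lift v x₁ h) u hg)
    (pullback.snd (t₂ f E') U.ι) (pullback.fst (t₂ f E') U.ι ≫ v₁ f U E' E κ hκ hH)
    (by rw [Category.assoc, ← Category.assoc (v₁ f U E' E κ hκ hH), v₁_hom, ← pullback.condition,
      pullback.condition])
  have e2 := cc_comp f U E' E κ (pullback.lift (pullback.lift v x₁ h) u hg)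
    (pullback.snd (t₂ f E') U.ι) (pullback.fst (t₂ f E') U.ι ≫ pullback.fst (E'.hom ≫ f) f)
    (by rw [Category.assoc, pullback.condition])
  have e3 := v₁_c f U E' E κ hκ hH
  rw [c, c] at e3
  rw [e3] at e1
  rw [e1] at e2
  rw [cc_congr f U E' E κ (pullback.lift_snd _ _ _) (show _ = Fm f U E' E κ hκ hH x₁ v h by
      rw [← Category.assoc, pullback.lift_fst]; rfl) _,
    cc_congr f U E' E κ (u := pullback.lift (pullback.lift v x₁ h) u hg ≫ pullback.snd (t₂ f E') U.ι)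
      (pullback.lift_snd _ _ _) (show pullback.lift (pullback.lift v x₁ h) u hg ≫ pullback.fst (t₂ f E') U.ι ≫
        pullback.fst (E'.hom ≫ f) f = v by
      rw [← Category.assoc, pullback.lift_fst, pullback.lift_fst]) _] at e2
  exact e2

end Fm

section Fm2

variable {X X₁ : Scheme.{u}} (f : X₁ ⟶ X) [Flat f] (U : X.Opens)
  (E' : Over X₁) [IsAffineHom E'.hom] [Flat E'.hom] (E : Over (U : Scheme.{u}))
  (κ : pullback (E'.hom ≫ f) U.ι ⟶ E.left)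
  (hκ : IsPullback κ (pullback.fst (E'.hom ≫ f) U.ι ≫ E'.hom) (E.hom ≫ U.ι) f)
  (hH : ∀ {T : Scheme.{u}} (t : T ⟶ X) [Flat t] {S Z : Scheme.{u}} (p : T ⟶ S) (q : Z ⟶ S)
    [IsAffineHom q] (ψ : pullback t U.ι ⟶ Z) (_ : ψ ≫ q = pullback.fst t U.ι ≫ p),
    ∃! g : T ⟶ Z, g ≫ q = p ∧ pullback.fst t U.ι ≫ g = ψ)

lemma Fm_c {T : Scheme.{u}} (t : T ⟶ X) (x₁ : T ⟶ X₁) (v : T ⟶ E'.left)
    (h : v ≫ E'.hom ≫ f = x₁ ≫ f) (ht : x₁ ≫ f = t) :
    c f U E' E κ t (Fm f U E' E κ hκ hH x₁ v h) (by rw [← Category.assoc, Fm_hom, ht]) =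
      c f U E' E κ t v (h.trans ht) := by
  rw [c, c]
  rw [cc_congr f U E' E κ rfl (Fm_comp f U E' E κ hκ hH (pullback.fst t U.ι) x₁ v h) _]
  exact Fm_cc f U E' E κ hκ hH _ _ _ _ (by rw [Category.assoc, ht, pullback.condition])

include hκ hH in
lemma Fm_self {T : Scheme.{u}} (v : T ⟶ E'.left) :
    Fm f U E' E κ hκ hH (v ≫ E'.hom) v (by rw [Category.assoc]) = v := by
  have hw : Fm f U E' E κ hκ hH E'.hom (𝟙 E'.left) (by rw [Category.id_comp]) = 𝟙 E'.left := by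
    apply c_inj f U E' E κ hκ hH (E'.hom ≫ f) _ _ (by rw [← Category.assoc, Fm_hom])
      (by rw [Category.id_comp]) (by rw [Fm_hom, Category.id_comp])
    exact Fm_c f U E' E κ hκ hH (E'.hom ≫ f) E'.hom (𝟙 _) (by rw [Category.id_comp]) rfl
  have h1 := Fm_comp f U E' E κ hκ hH v E'.hom (𝟙 E'.left) (by rw [Category.id_comp])
  calc Fm f U E' E κ hκ hH (v ≫ E'.hom) v (by rw [Category.assoc])
      = Fm f U E' E κ hκ hH (v ≫ E'.hom) (v ≫ 𝟙 E'.left) _ :=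
        Fm_congr f U E' E κ hκ hH rfl (Category.comp_id v).symm _
    _ = v ≫ Fm f U E' E κ hκ hH E'.hom (𝟙 E'.left) (by rw [Category.id_comp]) := h1.symm
    _ = v := by rw [hw, Category.comp_id]

/-- the universal scheme `E' ×_X X₁ ×_X X₁` -/
noncomputable abbrev T₃ : Scheme.{u} := pullback (t₂ f E') f

include hκ hH in
lemma Fm_trans {T : Scheme.{u}} (x₁ x₂ : T ⟶ X₁) (v : T ⟶ E'.left)
    (h₁ : v ≫ E'.hom ≫ f = x₁ ≫ f) (h₂ : x₁ ≫ f = x₂ ≫ f) :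
    Fm f U E' E κ hκ hH x₂ (Fm f U E' E κ hκ hH x₁ v h₁) (by rw [← Category.assoc, Fm_hom, h₂]) =
      Fm f U E' E κ hκ hH x₂ v (h₁.trans h₂) := by
  -- universal case
  let a : T₃ f E' ⟶ T₂ f E' := pullback.fst (t₂ f E') f
  let v3 : T₃ f E' ⟶ E'.left := a ≫ pullback.fst (E'.hom ≫ f) f
  let x13 : T₃ f E' ⟶ X₁ := a ≫ pullback.snd (E'.hom ≫ f) f
  let x23 : T₃ f E' ⟶ X₁ := pullback.snd (t₂ f E') f
  have h13 : v3 ≫ E'.hom ≫ f = x13 ≫ f := by
    simp only [v3, x13, Category.assoc]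
    rw [pullback.condition (f := E'.hom ≫ f) (g := f)]
  have h23 : x13 ≫ f = x23 ≫ f := by
    simp only [x13, x23, Category.assoc]
    rw [← pullback.condition (f := E'.hom ≫ f) (g := f)]
    exact pullback.condition
  have huniv : Fm f U E' E κ hκ hH x23 (Fm f U E' E κ hκ hH x13 v3 h13)
      (by rw [← Category.assoc, Fm_hom, h23]) = Fm f U E' E κ hκ hH x23 v3 (h13.trans h23) := by
    apply c_inj f U E' E κ hκ hH (x23 ≫ f) _ _ (by rw [← Category.assoc, Fm_hom])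
      (by rw [← Category.assoc, Fm_hom]) (by rw [Fm_hom, Fm_hom])
    rw [Fm_c f U E' E κ hκ hH (x23 ≫ f) x23 _ _ rfl, Fm_c f U E' E κ hκ hH (x23 ≫ f) x23 _ _ rfl]
    exact Fm_c f U E' E κ hκ hH (x23 ≫ f) x13 v3 h13 h23
  -- general case
  let g : T ⟶ T₃ f E' := pullback.lift (pullback.lift v x₁ h₁) x₂
    (by rw [← Category.assoc, pullback.lift_fst, h₁, h₂])
  have hgv : g ≫ v3 = v := by
    simp only [g, v3, a]; rw [← Category.assoc, pullback.lift_fst, pullback.lift_fst]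
  have hg1 : g ≫ x13 = x₁ := by
    simp only [g, x13, a]; rw [← Category.assoc, pullback.lift_fst, pullback.lift_snd]
  have hg2 : g ≫ x23 = x₂ := by
    simp only [g, x23]; rw [pullback.lift_snd]
  have e := congr(g ≫ $huniv)
  have hA : g ≫ Fm f U E' E κ hκ hH x13 v3 h13 = Fm f U E' E κ hκ hH x₁ v h₁ :=
    (Fm_comp f U E' E κ hκ hH g x13 v3 h13).trans (Fm_congr f U E' E κ hκ hH hg1 hgv _)
  have e1 := (Fm_comp f U E' E κ hκ hH g x23 (Fm f U E' E κ hκ hH x13 v3 h13)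
    (by rw [← Category.assoc, Fm_hom, h23])).trans (Fm_congr f U E' E κ hκ hH hg2 hA _)
  have e2 := (Fm_comp f U E' E κ hκ hH g x23 v3 (h13.trans h23)).trans
    (Fm_congr f U E' E κ hκ hH hg2 hgv _)
  exact e1.symm.trans (e.trans e2)

include hκ hH in
lemma Fm_Fm {T : Scheme.{u}} (x₁ : T ⟶ X₁) (v : T ⟶ E'.left) (h : v ≫ E'.hom ≫ f = x₁ ≫ f) :
    Fm f U E' E κ hκ hH (v ≫ E'.hom) (Fm f U E' E κ hκ hH x₁ v h)
      (by rw [← Category.assoc, Fm_hom, ← h, Category.assoc]) = v := by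
  rw [Fm_trans f U E' E κ hκ hH x₁ (v ≫ E'.hom) v h (by rw [← h, Category.assoc])]
  exact Fm_self f U E' E κ hκ hH v

end Fm2

section DDdef

variable {X X₁ : Scheme.{u}} (f : X₁ ⟶ X) [Flat f] (U : X.Opens)
  (E' : Over X₁) [IsAffineHom E'.hom] [Flat E'.hom] (E : Over (U : Scheme.{u}))
  (κ : pullback (E'.hom ≫ f) U.ι ⟶ E.left)
  (hκ : IsPullback κ (pullback.fst (E'.hom ≫ f) U.ι ≫ E'.hom) (E.hom ≫ U.ι) f)
  (hH : ∀ {T : Scheme.{u}} (t : T ⟶ X) [Flat t] {S Z : Scheme.{u}} (p : T ⟶ S) (q : Z ⟶ S)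
    [IsAffineHom q] (ψ : pullback t U.ι ⟶ Z) (_ : ψ ≫ q = pullback.fst t U.ι ≫ p),
    ∃! g : T ⟶ Z, g ≫ q = p ∧ pullback.fst t U.ι ≫ g = ψ)

/-- the transition map on lifts -/
noncomputable def tr {T : Scheme.{u}} (x₀ x₁ : T ⟶ X₁) (h : x₀ ≫ f = x₁ ≫ f)
    (v : Desc.Lifts E' x₀) : Desc.Lifts E' x₁ :=
  ⟨Fm f U E' E κ hκ hH x₁ v.1 (by rw [← Category.assoc, v.2, h]), Fm_hom f U E' E κ hκ hH _ _ _⟩

lemma tr_val {T : Scheme.{u}} (x₀ x₁ : T ⟶ X₁) (h : x₀ ≫ f = x₁ ≫ f) (v : Desc.Lifts E' x₀) :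
    (tr f U E' E κ hκ hH x₀ x₁ h v).1 =
      Fm f U E' E κ hκ hH x₁ v.1 (by rw [← Category.assoc, v.2, h]) := rfl

include hκ hH in
lemma tr_tr {T : Scheme.{u}} (x₀ x₁ : T ⟶ X₁) (h : x₀ ≫ f = x₁ ≫ f) (v : Desc.Lifts E' x₀) :
    tr f U E' E κ hκ hH x₁ x₀ h.symm (tr f U E' E κ hκ hH x₀ x₁ h v) = v := by
  apply Subtype.ext
  show Fm f U E' E κ hκ hH x₀ (Fm f U E' E κ hκ hH x₁ v.1 _) _ = v.1
  exact (Fm_congr f U E' E κ hκ hH v.2.symm rfl _).trans (Fm_Fm f U E' E κ hκ hH x₁ v.1 _)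

/-- the descent datum on `E'` -/
noncomputable def dd : Desc.SchDD f where
  obj := E'
  φ T x₀ x₁ h :=
    { toFun := tr f U E' E κ hκ hH x₀ x₁ h
      invFun := tr f U E' E κ hκ hH x₁ x₀ h.symm
      left_inv := tr_tr f U E' E κ hκ hH x₀ x₁ h
      right_inv := tr_tr f U E' E κ hκ hH x₁ x₀ h.symm }
  φ_natural T T' g x₀ x₁ h h' v v' hv' := by
    show (tr f U E' E κ hκ hH _ _ h' v').1 = g ≫ (tr f U E' E κ hκ hH _ _ h v).1
    rw [tr_val, tr_val, Fm_comp]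
    exact Fm_congr f U E' E κ hκ hH rfl hv' _
  φ_self T x v := by
    apply Subtype.ext
    show (tr f U E' E κ hκ hH _ _ rfl v).1 = v.1
    rw [tr_val]
    exact (Fm_congr f U E' E κ hκ hH v.2.symm rfl _).trans (Fm_self f U E' E κ hκ hH v.1)
  φ_comp T x₀ x₁ x₂ h₀₁ h₁₂ v := by
    apply Subtype.ext
    show Fm f U E' E κ hκ hH x₂ (Fm f U E' E κ hκ hH x₁ v.1 _) _ = Fm f U E' E κ hκ hH x₂ v.1 _
    exact Fm_trans f U E' E κ hκ hH x₁ x₂ v.1 _ h₁₂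

lemma dd_obj : (dd f U E' E κ hκ hH).obj = E' := rfl

lemma dd_φ_val {T : Scheme.{u}} (x₀ x₁ : T ⟶ X₁) (h : x₀ ≫ f = x₁ ≫ f) (v : Desc.Lifts E' x₀) :
    ((dd f U E' E κ hκ hH).φ x₀ x₁ h v).1 =
      Fm f U E' E κ hκ hH x₁ v.1 (by rw [← Category.assoc, v.2, h]) := rfl

end DDdef

end Groth.Agent.Lead.PureDesc
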