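import Mathlib
import Groth.Prelude.Def_FEt
import Groth.Agent.Lib.Lead.PureDesc1
import Groth.Agent.Lib.Lead.PureDesc2
import Groth.Agent.Lib.Lead.FpqcProp1
import Groth.Agent.S2906

/-!
# Pure pairs descend along fpqc morphisms, part 3 (lead)
Effectivity (S2906), finiteness by descent and identification over `U`; the main lemma
`essSurj_of_fpqc`.
-/

set_option backward.isDefEq.respectTransparency.types false
set_option synthInstance.maxHeartbeats 400000
set_option autoImplicit false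
set_option linter.style.haveILetI false
set_option linter.unusedSectionVars false
universe u
open CategoryTheory CategoryTheory.Limits AlgebraicGeometry TopologicalSpace Opposite

namespace Groth.Agent.Lead.PureDesc

/-- From an isomorphism between the restriction of `π : A ⟶ X₁` to `f⁻¹U` and the pullback of
`ρ : B ⟶ U`, the cartesian square exhibiting `A ×_X U` as `B ×_X X₁`. -/
theorem exists_kappa_aux {X X₁ : Scheme.{u}} (f : X₁ ⟶ X) (U : X.Opens) {A B : Scheme.{u}}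
    (π : A ⟶ X₁) (ρ : B ⟶ (U : Scheme.{u}))
    (e : pullback π (f ⁻¹ᵁ U).ι ⟶ pullback ρ (f ∣_ U)) [IsIso e]
    (hew : e ≫ pullback.snd ρ (f ∣_ U) = pullback.snd π (f ⁻¹ᵁ U).ι) :
    ∃ κ : pullback (π ≫ f) U.ι ⟶ B,
      IsPullback κ (pullback.fst (π ≫ f) U.ι ≫ π) (ρ ≫ U.ι) f := by
  let a := pullback.fst (π ≫ f) U.ι
  let b := pullback.snd (π ≫ f) U.ι
  have hab : a ≫ π ≫ f = b ≫ U.ι := pullback.condition
  have hmr := isPullback_morphismRestrict f U
  let y : pullback (π ≫ f) U.ι ⟶ (f ⁻¹ᵁ U : Scheme.{u}) :=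
    hmr.lift b (a ≫ π) (by rw [Category.assoc, hab])
  have hy1 : y ≫ f ∣_ U = b := hmr.lift_fst _ _ _
  have hy2 : y ≫ (f ⁻¹ᵁ U).ι = a ≫ π := hmr.lift_snd _ _ _
  have hbig : IsPullback (y ≫ f ∣_ U) a U.ι (π ≫ f) := by
    rw [hy1]
    exact (IsPullback.of_hasPullback (π ≫ f) U.ι).flip
  have hsq : IsPullback y a (f ⁻¹ᵁ U).ι π := IsPullback.of_right hbig hy2 hmr
  let α : pullback (π ≫ f) U.ι ⟶ pullback π (f ⁻¹ᵁ U).ι := pullback.lift a y hy2.symm
  have hα : α = hsq.flip.isoPullback.hom := by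
    apply pullback.hom_ext
    · rw [pullback.lift_fst, IsPullback.isoPullback_hom_fst]
    · rw [pullback.lift_snd, IsPullback.isoPullback_hom_snd]
  haveI : IsIso α := by rw [hα]; infer_instance
  let β := α ≫ e
  have hβ : β ≫ pullback.snd ρ (f ∣_ U) ≫ (f ⁻¹ᵁ U).ι = a ≫ π := by
    simp only [β, Category.assoc]
    rw [← Category.assoc e, hew, ← Category.assoc, pullback.lift_snd, hy2]
  refine ⟨β ≫ pullback.fst ρ (f ∣_ U), ?_⟩
  have hQ : IsPullback (pullback.fst ρ (f ∣_ U)) (pullback.snd ρ (f ∣_ U) ≫ (f ⁻¹ᵁ U).ι) (ρ ≫ U.ι) f :=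
    (IsPullback.of_hasPullback ρ (f ∣_ U)).paste_vert hmr
  refine IsPullback.of_iso hQ (asIso β).symm (Iso.refl _) (Iso.refl _) (Iso.refl _) ?_ ?_ ?_ ?_
  · simp
  · simp only [Iso.refl_hom, Category.comp_id, Iso.symm_hom, asIso_inv, IsIso.eq_inv_comp]
    exact hβ
  · simp
  · simp

section C6

variable {X X₁ : Scheme.{u}} (f : X₁ ⟶ X) [Flat f] [Surjective f] [QuasiCompact f] (U : X.Opens)
  (E' : Over X₁) [IsAffineHom E'.hom] [Flat E'.hom] (E : Over (U : Scheme.{u}))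
  (κ : pullback (E'.hom ≫ f) U.ι ⟶ E.left)
  (hκ : IsPullback κ (pullback.fst (E'.hom ≫ f) U.ι ≫ E'.hom) (E.hom ≫ U.ι) f)
  (hH : ∀ {T : Scheme.{u}} (t : T ⟶ X) [Flat t] {S Z : Scheme.{u}} (p : T ⟶ S) (q : Z ⟶ S)
    [IsAffineHom q] (ψ : pullback t U.ι ⟶ Z) (_ : ψ ≫ q = pullback.fst t U.ι ≫ p),
    ∃! g : T ⟶ Z, g ≫ q = p ∧ pullback.fst t U.ι ≫ g = ψ)
  (E'' : Over X) (η : (Desc.toDD f).obj E'' ≅ dd f U E' E κ hκ hH)

include η in
/-- The descended scheme restricts over `U` to `E`. -/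
theorem exists_iso_restrict :
    ∃ m : pullback E''.hom U.ι ⟶ E.left, IsIso m ∧ m ≫ E.hom = pullback.snd E''.hom U.ι := by
  -- the underlying isomorphism `X₁ ×_X E'' ≅ E'`
  let h : pullback f E''.hom ⟶ E'.left := η.hom.hom.left
  let hinv : E'.left ⟶ pullback f E''.hom := η.inv.hom.left
  have hh1 : h ≫ hinv = 𝟙 _ := by
    have := congrArg (fun a => a.hom.left) η.hom_inv_id
    exact this
  have hh2 : hinv ≫ h = 𝟙 _ := by
    have := congrArg (fun a => a.hom.left) η.inv_hom_id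
    exact this
  have hhw : h ≫ E'.hom = pullback.fst f E''.hom := Over.w η.hom.hom
  have hinvw : hinv ≫ pullback.fst f E''.hom = E'.hom := by
    rw [← hhw, ← Category.assoc, hh2, Category.id_comp]
  let a := pullback.fst (E'.hom ≫ f) U.ι
  let b := pullback.snd (E'.hom ≫ f) U.ι
  let p₁ := pullback.fst E''.hom U.ι
  let p₂ := pullback.snd E''.hom U.ι
  have hq : (hinv ≫ pullback.snd f E''.hom) ≫ E''.hom = E'.hom ≫ f := by
    rw [Category.assoc, ← pullback.condition, ← Category.assoc, hinvw]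
  let κ'' : pullback (E'.hom ≫ f) U.ι ⟶ pullback E''.hom U.ι :=
    pullback.lift (a ≫ hinv ≫ pullback.snd f E''.hom) b
      (by rw [Category.assoc, Category.assoc, ← Category.assoc hinv, hq]; exact pullback.condition)
  have hκ1 : κ'' ≫ p₁ = a ≫ hinv ≫ pullback.snd f E''.hom := pullback.lift_fst _ _ _
  have hκ2 : κ'' ≫ p₂ = b := pullback.lift_snd _ _ _
  -- the square exhibiting `E'` as `E'' ×_X X₁`
  have sqh : IsPullback (hinv ≫ pullback.snd f E''.hom) E'.hom E''.hom f := by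
    refine IsPullback.of_iso (IsPullback.of_hasPullback f E''.hom).flip
      (⟨h, hinv, hh1, hh2⟩ : pullback f E''.hom ≅ E'.left) (Iso.refl _) (Iso.refl _) (Iso.refl _)
      ?_ ?_ ?_ ?_
    · simp only [Iso.refl_hom, Category.comp_id]
      rw [← Category.assoc, hh1, Category.id_comp]
    · simp only [Iso.refl_hom, Category.comp_id]
      exact hhw.symm
    · simp
    · simp
  have sqA : IsPullback κ'' a p₁ (hinv ≫ pullback.snd f E''.hom) := by
    refine IsPullback.of_right (h₁₂ := p₂) (h₂₂ := E''.hom) (v₁₃ := U.ι) ?_ hκ1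
      (IsPullback.of_hasPullback E''.hom U.ι).flip
    rw [hκ2, hq]
    exact (IsPullback.of_hasPullback (E'.hom ≫ f) U.ι).flip
  have sq2 : IsPullback κ'' (a ≫ E'.hom) (p₁ ≫ E''.hom) f := sqA.paste_vert sqh
  -- `κ''` and `κ` are fpqc
  haveI : Flat κ'' := MorphismProperty.of_isPullback (P := @Flat) sq2.flip inferInstance
  haveI : Surjective κ'' := MorphismProperty.of_isPullback (P := @Surjective) sq2.flip inferInstance
  haveI : QuasiCompact κ'' := MorphismProperty.of_isPullback (P := @QuasiCompact) sq2.flip inferInstance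
  haveI : Flat κ := MorphismProperty.of_isPullback (P := @Flat) hκ.flip inferInstance
  haveI : Surjective κ := MorphismProperty.of_isPullback (P := @Surjective) hκ.flip inferInstance
  haveI : QuasiCompact κ := MorphismProperty.of_isPullback (P := @QuasiCompact) hκ.flip inferInstance
  -- descent condition
  have hcond : ∀ {T : Scheme.{u}} (g₁ g₂ : T ⟶ pullback (E'.hom ≫ f) U.ι),
      g₁ ≫ κ'' = g₂ ≫ κ'' → g₁ ≫ κ = g₂ ≫ κ := by
    intro T g₁ g₂ hg
    have hu : g₁ ≫ b = g₂ ≫ b := by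
      have := congr($hg ≫ p₂)
      simpa only [Category.assoc, hκ2] using this
    have he'' : (g₁ ≫ a) ≫ hinv ≫ pullback.snd f E''.hom = (g₂ ≫ a) ≫ hinv ≫ pullback.snd f E''.hom := by
      have := congr($hg ≫ p₁)
      simpa only [Category.assoc, hκ1] using this
    have hc1 : (g₁ ≫ a) ≫ E'.hom ≫ f = (g₁ ≫ b) ≫ U.ι := by
      rw [Category.assoc, Category.assoc]; exact congrArg (g₁ ≫ ·) pullback.condition
    have hc2 : (g₂ ≫ a) ≫ E'.hom ≫ f = (g₁ ≫ b) ≫ U.ι := by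
      rw [hu, Category.assoc, Category.assoc]; exact congrArg (g₂ ≫ ·) pullback.condition
    have hx : ((g₁ ≫ a) ≫ E'.hom) ≫ f = ((g₂ ≫ a) ≫ E'.hom) ≫ f :=
      (Category.assoc _ _ _).trans (hc1.trans (hc2.symm.trans (Category.assoc _ _ _).symm))
    -- the two points of `X₁ ×_X E''`
    let v1 : Desc.Lifts ((Desc.toDD f).obj E'').obj ((g₁ ≫ a) ≫ E'.hom) :=
      ⟨(g₁ ≫ a) ≫ hinv, by
        show ((g₁ ≫ a) ≫ hinv) ≫ pullback.fst f E''.hom = _
        rw [Category.assoc, hinvw]⟩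
    let w1 : Desc.Lifts (dd f U E' E κ hκ hH).obj ((g₁ ≫ a) ≫ E'.hom) := ⟨g₁ ≫ a, rfl⟩
    have hcomm := η.hom.comm ((g₁ ≫ a) ≫ E'.hom) ((g₂ ≫ a) ≫ E'.hom) hx v1 w1
      (by show g₁ ≫ a = ((g₁ ≫ a) ≫ hinv) ≫ h
          rw [Category.assoc, hh2, Category.comp_id])
    have hlift : (((Desc.toDD f).obj E'').φ ((g₁ ≫ a) ≫ E'.hom) ((g₂ ≫ a) ≫ E'.hom) hx v1).1 =
        (g₂ ≫ a) ≫ hinv := by
      show pullback.lift _ _ _ = _
      apply pullback.hom_ext
      · rw [pullback.lift_fst]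
        simp only [Category.assoc, hinvw]
      · rw [pullback.lift_snd]
        show ((g₁ ≫ a) ≫ hinv) ≫ pullback.snd f E''.hom = _
        simp only [Category.assoc] at he'' ⊢
        exact he''
    have hw2 : g₂ ≫ a = Fm f U E' E κ hκ hH ((g₂ ≫ a) ≫ E'.hom) (g₁ ≫ a)
        ((Category.assoc _ _ _).symm.trans hx) := by
      have e1 : ((dd f U E' E κ hκ hH).φ ((g₁ ≫ a) ≫ E'.hom) ((g₂ ≫ a) ≫ E'.hom) hx w1).1 =
          (g₂ ≫ a) := by
        rw [hcomm, hlift]
        show ((g₂ ≫ a) ≫ hinv) ≫ h = _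
        rw [Category.assoc, hh2, Category.comp_id]
      exact e1.symm.trans rfl
    have hk1 : g₁ ≫ κ = cc f U E' E κ (g₁ ≫ b) (g₁ ≫ a) hc1 := by
      rw [cc]
      congr 1
      apply pullback.hom_ext
      · rw [pullback.lift_fst]
      · rw [pullback.lift_snd]
    have hk2 : g₂ ≫ κ = cc f U E' E κ (g₁ ≫ b) (g₂ ≫ a) hc2 := by
      rw [cc]
      congr 1
      apply pullback.hom_ext
      · rw [pullback.lift_fst]
      · rw [pullback.lift_snd, hu]
    rw [hk1, hk2]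
    rw [cc_congr f U E' E κ rfl hw2 hc2]
    exact (Fm_cc f U E' E κ hκ hH ((g₂ ≫ a) ≫ E'.hom) (g₁ ≫ a)
      ((Category.assoc _ _ _).symm.trans hx) (g₁ ≫ b)
      ((Category.assoc _ _ _).trans hc2)).symm
  let m : pullback E''.hom U.ι ⟶ E.left := EffectiveEpi.desc κ'' κ hcond
  have hm : κ'' ≫ m = κ := EffectiveEpi.fac κ'' κ hcond
  have hmE : m ≫ E.hom = p₂ := by
    rw [← cancel_epi κ'', ← Category.assoc, hm, kappa_hom f U E' E κ hκ, hκ2]
  refine ⟨m, ?_, hmE⟩
  have sqtop : IsPullback κ'' (𝟙 _) m κ := by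
    refine IsPullback.of_bot (v₂₁ := a ≫ E'.hom) (v₂₂ := E.hom ≫ U.ι) (h₃₁ := f) ?_
      (by rw [hm, Category.id_comp]) hκ
    rw [Category.id_comp, ← Category.assoc, hmE]
    have : p₂ ≫ U.ι = p₁ ≫ E''.hom := pullback.condition.symm
    rw [this]
    exact sq2
  have := MorphismProperty.of_isPullback_of_descendsAlong
    (P := MorphismProperty.isomorphisms Scheme.{u}) (Q := @Surjective ⊓ @Flat ⊓ @QuasiCompact)
    sqtop.flip ⟨⟨inferInstance, inferInstance⟩, inferInstance⟩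
    (MorphismProperty.isomorphisms.infer_property _)
  exact this

end C6

/-- **Main lemma**: essential surjectivity of restriction of finite étale covers to an open with
`depth ≥ 2` complement descends along fpqc morphisms. -/
theorem essSurj_of_fpqc {X X₁ : Scheme.{u}} [IsLocallyNoetherian X] (U : X.Opens)
    (hU : ∀ x : X, x ∉ U → (2 : ℕ∞) ≤ LocCoh.depth (X.presheaf.stalk x) (X.presheaf.stalk x))
    (f : X₁ ⟶ X) [Flat f] [Surjective f] [QuasiCompact f]
    (hes : (FEt.restrict (f ⁻¹ᵁ U).ι).EssSurj) : (FEt.restrict U.ι).EssSurj := by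
  constructor
  intro E
  obtain ⟨E'c, ⟨ε⟩⟩ := hes.mem_essImage ((FEt.restrict (f ∣_ U)).obj E)
  haveI : IsFinite (E'c.hom : E'c.left ⟶ X₁) := E'c.prop.1
  haveI : Etale (E'c.hom : E'c.left ⟶ X₁) := E'c.prop.2
  let e : pullback (E'c.hom : E'c.left ⟶ X₁) (f ⁻¹ᵁ U).ι ⟶
      pullback (E.hom : E.left ⟶ (U : Scheme.{u})) (f ∣_ U) := ε.hom.left
  have hew : e ≫ pullback.snd (E.hom : E.left ⟶ (U : Scheme.{u})) (f ∣_ U) =
      pullback.snd (E'c.hom : E'c.left ⟶ X₁) (f ⁻¹ᵁ U).ι := MorphismProperty.Over.w ε.hom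
  let e' : pullback (E.hom : E.left ⟶ (U : Scheme.{u})) (f ∣_ U) ⟶
      pullback (E'c.hom : E'c.left ⟶ X₁) (f ⁻¹ᵁ U).ι := ε.inv.left
  have h1 : e ≫ e' = 𝟙 _ := by
    have := congrArg (fun a => a.left) ε.hom_inv_id
    exact this
  have h2 : e' ≫ e = 𝟙 _ := by
    have := congrArg (fun a => a.left) ε.inv_hom_id
    exact this
  haveI : IsIso e := ⟨e', h1, h2⟩
  obtain ⟨κ, hκ⟩ := exists_kappa_aux f U (E'c.hom : E'c.left ⟶ X₁)
    (E.hom : E.left ⟶ (U : Scheme.{u})) e hew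
  let E' : Over X₁ := Over.mk (E'c.hom : E'c.left ⟶ X₁)
  let Eo : Over (U : Scheme.{u}) := Over.mk (E.hom : E.left ⟶ (U : Scheme.{u}))
  haveI : IsFinite E'.hom := E'c.prop.1
  haveI : Etale E'.hom := E'c.prop.2
  haveI : IsAffineHom E'.hom := inferInstance
  haveI : Flat E'.hom := inferInstance
  have hH : ∀ {T : Scheme.{u}} (t : T ⟶ X) [Flat t] {S Z : Scheme.{u}} (p : T ⟶ S) (q : Z ⟶ S)
      [IsAffineHom q] (ψ : pullback t U.ι ⟶ Z) (_ : ψ ≫ q = pullback.fst t U.ι ≫ p),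
      ∃! g : T ⟶ Z, g ≫ q = p ∧ pullback.fst t U.ι ≫ g = ψ :=
    fun t _ _ _ p q _ ψ hψ => hartogs U hU t p q ψ hψ
  let D : Desc.SchDD f := dd f U E' Eo κ hκ hH
  haveI : QuasiCompact D.obj.hom := (inferInstance : QuasiCompact E'.hom)
  haveI : IsSeparated D.obj.hom := (inferInstance : IsSeparated E'.hom)
  haveI : Etale D.obj.hom := (inferInstance : Etale E'.hom)
  obtain ⟨E'', -, -, het, ⟨η⟩⟩ := Groth.Agent.S2906.result f D
  -- finiteness by descent
  have hfin : IsFinite E''.hom := by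
    let h : pullback f E''.hom ⟶ E'.left := η.hom.hom.left
    let hinv : E'.left ⟶ pullback f E''.hom := η.inv.hom.left
    have hh1 : h ≫ hinv = 𝟙 _ := by
      have := congrArg (fun a => a.hom.left) η.hom_inv_id
      exact this
    have hh2 : hinv ≫ h = 𝟙 _ := by
      have := congrArg (fun a => a.hom.left) η.inv_hom_id
      exact this
    haveI : IsIso h := ⟨hinv, hh1, hh2⟩
    have hhw : h ≫ E'.hom = pullback.fst f E''.hom := Over.w η.hom.hom
    have hf1 : IsFinite (pullback.fst f E''.hom) := by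
      rw [← hhw]; infer_instance
    exact MorphismProperty.of_pullback_fst_of_descendsAlong (P := @IsFinite)
      (Q := @Surjective ⊓ @Flat ⊓ @QuasiCompact) (f := f) (g := E''.hom)
      ⟨⟨inferInstance, inferInstance⟩, inferInstance⟩ hf1
  obtain ⟨m, hm, hmE⟩ := exists_iso_restrict f U E' Eo κ hκ hH E'' η
  let E''c : FEt.Cat X := MorphismProperty.Over.mk ⊤ E''.hom ⟨hfin, het⟩
  refine ⟨E''c, ⟨?_⟩⟩
  let mi : pullback E''.hom U.ι ≅ Eo.left := @asIso _ _ _ _ m hm
  exact MorphismProperty.Over.isoMk (A := (FEt.restrict U.ι).obj E''c) (B := E) mi hmE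

end Groth.Agent.Lead.PureDesc
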