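import Mathlib
import Groth.Prelude.Def_FEt
import Groth.Prelude.Def_SGA2
import Groth.Agent.Lib.Lead.PureDesc3
import Groth.Agent.Lib.Helper4.FEtHartogs1

/-!
# Pure pairs descend along fpqc morphisms, part 4 (lead)
Transport of properties of `FEt.restrict` along isomorphisms and the final statement
`isPurePair_of_fpqc` (S2937).
-/

set_option backward.isDefEq.respectTransparency.types false
set_option synthInstance.maxHeartbeats 400000
set_option autoImplicit false
set_option linter.style.haveILetI false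
set_option linter.unusedSectionVars false
universe u
open CategoryTheory CategoryTheory.Limits AlgebraicGeometry TopologicalSpace Opposite

namespace Groth.Agent.Lead.PureDesc

/-- restriction along the identity is the identity -/
noncomputable def restrictId (A : Scheme.{u}) : FEt.restrict (𝟙 A) ≅ 𝟭 (FEt.Cat A) :=
  NatIso.ofComponents
    (fun Y =>
      let y : Y.left ⟶ A := Y.hom
      let i : pullback y (𝟙 A) ≅ Y.left := asIso (pullback.fst y (𝟙 A))
      MorphismProperty.Over.isoMk (A := (FEt.restrict (𝟙 A)).obj Y) (B := Y) i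
      (by
        show pullback.fst y (𝟙 A) ≫ y = pullback.snd y (𝟙 A)
        rw [pullback.condition, Category.comp_id]))
    (by
      intro Y Z g
      apply MorphismProperty.Over.Hom.ext
      show pullback.lift _ _ _ ≫ pullback.fst (Z.hom : Z.left ⟶ A) (𝟙 A) =
        pullback.fst (Y.hom : Y.left ⟶ A) (𝟙 A) ≫ g.left
      rw [pullback.lift_fst]
      rfl)

/-- restriction commutes with composition -/
noncomputable def restrictComp {A B C : Scheme.{u}} (a : A ⟶ B) (b : B ⟶ C) (ab : A ⟶ C)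
    (hab : ab = a ≫ b) : FEt.restrict ab ≅ FEt.restrict b ⋙ FEt.restrict a :=
  MorphismProperty.Over.pullbackComp a b ab hab

/-- restriction along an isomorphism is an equivalence -/
noncomputable def restrictEquiv {A A' : Scheme.{u}} (θ : A' ≅ A) : FEt.Cat A ≌ FEt.Cat A' :=
  CategoryTheory.Equivalence.mk (FEt.restrict θ.hom) (FEt.restrict θ.inv)
    ((restrictId A).symm ≪≫ restrictComp θ.inv θ.hom (𝟙 A) (by simp))
    ((restrictComp θ.hom θ.inv (𝟙 A') (by simp)).symm ≪≫ restrictId A')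

instance {A A' : Scheme.{u}} (θ : A' ≅ A) : (FEt.restrict θ.hom).IsEquivalence :=
  inferInstanceAs (restrictEquiv θ).functor.IsEquivalence

section transport

variable {A A' B : Scheme.{u}} (j : A ⟶ B) (j' : A' ⟶ B) (θ : A' ≅ A) (hθ : θ.hom ≫ j = j')

include hθ in
lemma essSurj_transport (h : (FEt.restrict j).EssSurj) : (FEt.restrict j').EssSurj :=
  Functor.essSurj_of_iso (restrictComp θ.hom j j' hθ.symm).symm

include hθ in
lemma full_transport (h : (FEt.restrict j).Full) : (FEt.restrict j').Full :=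
  Functor.Full.of_iso (restrictComp θ.hom j j' hθ.symm).symm

include hθ in
lemma faithful_transport (h : (FEt.restrict j).Faithful) : (FEt.restrict j').Faithful :=
  Functor.Faithful.of_iso (restrictComp θ.hom j j' hθ.symm).symm

end transport

/-- fpqc descent of purity of a pair. -/
theorem isPurePair_of_fpqc (X X₁ : Scheme.{u}) [IsLocallyNoetherian X] (U : X.Opens)
    (hU : ∀ x : X, x ∉ U → (2 : ℕ∞) ≤ LocCoh.depth (X.presheaf.stalk x) (X.presheaf.stalk x))
    (f : X₁ ⟶ X) [Flat f] [Surjective f] [QuasiCompact f]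
    (h : SGA2.IsPurePair X₁ (f ⁻¹ᵁ U)) : SGA2.IsPurePair X U := by
  intro V
  let UV : (V : Scheme.{u}).Opens := V.ι ⁻¹ᵁ (V ⊓ U)
  -- depth hypothesis on `V`
  have hdV : ∀ x : (V : Scheme.{u}), x ∉ UV →
      (2 : ℕ∞) ≤ LocCoh.depth ((V : Scheme.{u}).presheaf.stalk x) ((V : Scheme.{u}).presheaf.stalk x) := by
    intro x hx
    have hx' : V.ι x ∉ U := fun hxU => hx ⟨x.2, hxU⟩
    rw [Groth.Agent.Lib.Helper4.Hartogs4.depth_self_eq_of_ringEquiv
      (V.stalkIso x).commRingCatIsoToRingEquiv.symm]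
    exact hU _ hx'
  -- the comparison isomorphism on `X`
  let j : (↑(V ⊓ U) : Scheme.{u}) ⟶ (V : Scheme.{u}) := X.homOfLE (inf_le_left : V ⊓ U ≤ V)
  have hrange : Set.range j = Set.range UV.ι := by
    have := congrArg (fun W : (V : Scheme.{u}).Opens => (W : Set (V : Scheme.{u})))
      (Scheme.opensRange_homOfLE (X := X) (inf_le_left : V ⊓ U ≤ V))
    rw [Scheme.Opens.range_ι]
    exact this
  let θ : (↑(V ⊓ U) : Scheme.{u}) ≅ (UV : Scheme.{u}) := IsOpenImmersion.isoOfRangeEq j UV.ι hrange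
  have hθ : θ.hom ≫ UV.ι = j := IsOpenImmersion.isoOfRangeEq_hom_fac j UV.ι hrange
  -- fully faithful
  obtain ⟨hfull, hfaith⟩ := Groth.Agent.Lib.Helper4.FEtHartogs1.restrict_full_faithful UV hdV
  -- essentially surjective
  let V₁ : X₁.Opens := f ⁻¹ᵁ V
  let fV : (V₁ : Scheme.{u}) ⟶ (V : Scheme.{u}) := f ∣_ V
  let j₁ : (↑(V₁ ⊓ f ⁻¹ᵁ U) : Scheme.{u}) ⟶ (V₁ : Scheme.{u}) :=
    X₁.homOfLE (inf_le_left : V₁ ⊓ f ⁻¹ᵁ U ≤ V₁)
  have hrange₁ : Set.range (fV ⁻¹ᵁ UV).ι = Set.range j₁ := by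
    have h1 := congrArg (fun W : (V₁ : Scheme.{u}).Opens => (W : Set (V₁ : Scheme.{u})))
      (Scheme.opensRange_homOfLE (X := X₁) (inf_le_left : V₁ ⊓ f ⁻¹ᵁ U ≤ V₁))
    rw [Scheme.Opens.range_ι]
    refine Eq.trans ?_ h1.symm
    ext z
    have hz : V.ι (fV z) = f (V₁.ι z) := by
      have h3 : (fV ≫ V.ι) z = (V₁.ι ≫ f) z := by rw [morphismRestrict_ι]
      exact h3
    constructor
    · rintro ⟨_, h2⟩
      exact ⟨z.2, by show f (V₁.ι z) ∈ U; rw [← hz]; exact h2⟩
    · rintro ⟨_, h2⟩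
      exact ⟨(fV z).2, by show V.ι (fV z) ∈ U; rw [hz]; exact h2⟩
  let θ₁ : (↑(fV ⁻¹ᵁ UV) : Scheme.{u}) ≅ (↑(V₁ ⊓ f ⁻¹ᵁ U) : Scheme.{u}) :=
    IsOpenImmersion.isoOfRangeEq (fV ⁻¹ᵁ UV).ι j₁ hrange₁
  have hθ₁ : θ₁.hom ≫ j₁ = (fV ⁻¹ᵁ UV).ι := IsOpenImmersion.isoOfRangeEq_hom_fac _ _ hrange₁
  haveI := h V₁
  have hes₁ : (FEt.restrict (fV ⁻¹ᵁ UV).ι).EssSurj :=
    essSurj_transport j₁ (fV ⁻¹ᵁ UV).ι θ₁ hθ₁ inferInstance
  haveI : Flat fV :=
    MorphismProperty.of_isPullback (P := @Flat) (isPullback_morphismRestrict f V).flip inferInstance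
  haveI : Surjective fV :=
    MorphismProperty.of_isPullback (P := @Surjective) (isPullback_morphismRestrict f V).flip inferInstance
  haveI : QuasiCompact fV :=
    MorphismProperty.of_isPullback (P := @QuasiCompact) (isPullback_morphismRestrict f V).flip inferInstance
  have hes : (FEt.restrict UV.ι).EssSurj := essSurj_of_fpqc UV hdV fV hes₁
  haveI := essSurj_transport UV.ι j θ hθ hes
  haveI := full_transport UV.ι j θ hθ hfull
  haveI := faithful_transport UV.ι j θ hθ hfaith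
  exact Functor.IsEquivalence.mk

end Groth.Agent.Lead.PureDesc
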