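import Mathlib

/-!
# Quasi-finite presentation with prescribed preimage: polynomial bookkeeping (lead)
-/

set_option autoImplicit false
set_option backward.isDefEq.respectTransparency.types false
set_option synthInstance.maxHeartbeats 400000
set_option linter.style.haveILetI false
set_option linter.unusedSectionVars false

universe u

namespace Groth.Agent.Lead.QFP

open MvPolynomial

/-- projection killing the variables of index `≥ r` -/
noncomputable def proj (R : Type u) [CommRing R] (n r : ℕ) :
    MvPolynomial (Fin n) R →ₐ[R] MvPolynomial {i : Fin n // ¬ r ≤ (i : ℕ)} R :=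
  aeval (fun i => if h : r ≤ (i : ℕ) then 0 else X ⟨i, h⟩)

theorem proj_X_of_le (R : Type u) [CommRing R] (n r : ℕ) (i : Fin n) (h : r ≤ (i : ℕ)) :
    proj R n r (X i) = 0 := by
  simp [proj, h]

theorem proj_X_of_not_le (R : Type u) [CommRing R] (n r : ℕ) (i : Fin n) (h : ¬ r ≤ (i : ℕ)) :
    proj R n r (X i) = X ⟨i, h⟩ := by
  simp [proj, h]

/-- the ideal generated by the variables of index `≥ r` -/
noncomputable def tailIdeal (R : Type u) [CommRing R] (n r : ℕ) : Ideal (MvPolynomial (Fin n) R) :=
  Ideal.span (Set.range fun i : {i : Fin n // r ≤ (i : ℕ)} =>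
    (X (i : Fin n) : MvPolynomial (Fin n) R))

theorem X_mem_tailIdeal (R : Type u) [CommRing R] (n r : ℕ) (i : Fin n) (h : r ≤ (i : ℕ)) :
    (X i : MvPolynomial (Fin n) R) ∈ tailIdeal R n r :=
  Ideal.subset_span ⟨⟨i, h⟩, rfl⟩

theorem sub_rename_proj_mem {R : Type u} [CommRing R] (n r : ℕ) (F : MvPolynomial (Fin n) R) :
    F - rename Subtype.val (proj R n r F) ∈ tailIdeal R n r := by
  induction F using MvPolynomial.induction_on with
  | C a =>
    have : proj R n r (C a) = C a := by
      rw [← MvPolynomial.algebraMap_eq, AlgHom.commutes, MvPolynomial.algebraMap_eq]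
    rw [this, rename_C, sub_self]
    exact Ideal.zero_mem _
  | add p q hp hq =>
    have : (p + q) - rename Subtype.val (proj R n r (p + q)) =
        (p - rename Subtype.val (proj R n r p)) + (q - rename Subtype.val (proj R n r q)) := by
      rw [map_add, map_add]; ring
    rw [this]
    exact Ideal.add_mem _ hp hq
  | mul_X p i hp =>
    by_cases h : r ≤ (i : ℕ)
    · rw [map_mul, proj_X_of_le R n r i h, mul_zero, map_zero, sub_zero]
      exact Ideal.mul_mem_left _ _ (X_mem_tailIdeal R n r i h)
    · rw [map_mul, proj_X_of_not_le R n r i h, map_mul, rename_X]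
      have : p * X i - rename Subtype.val (proj R n r p) * X i =
          (p - rename Subtype.val (proj R n r p)) * X i := by ring
      rw [this]
      exact Ideal.mul_mem_right _ _ hp

/-- the contraction of the kernel of `ρ` along `aeval b`, when the first `r` images are
algebraically independent and the remaining ones vanish -/
theorem comap_aeval_eq {R S K L : Type u} [CommRing R] [CommRing S] [Algebra R S] [CommRing K]
    [Algebra R K] [CommRing L] [Algebra K L] [Algebra R L] [IsScalarTower R K L]
    (ρ : S →ₐ[R] L) (n r : ℕ) (b : Fin n → S)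
    (hb : ∀ i : Fin n, r ≤ (i : ℕ) → ρ (b i) = 0)
    (hind : AlgebraicIndependent K (fun i : {i : Fin n // ¬ r ≤ (i : ℕ)} => ρ (b i))) :
    (RingHom.ker ρ.toRingHom).comap (aeval b : MvPolynomial (Fin n) R →ₐ[R] S).toRingHom =
      (RingHom.ker (algebraMap R K)).map (algebraMap R (MvPolynomial (Fin n) R)) ⊔
        tailIdeal R n r := by
  apply le_antisymm
  · intro F hF
    rw [Ideal.mem_comap, RingHom.mem_ker] at hF
    have hF' : ρ (aeval b F) = 0 := hF
    have key : ρ.comp (aeval b : MvPolynomial (Fin n) R →ₐ[R] S) =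
        (aeval (fun j : {i : Fin n // ¬ r ≤ (i : ℕ)} => ρ (b j))).comp (proj R n r) := by
      apply MvPolynomial.algHom_ext
      intro i
      by_cases h : r ≤ (i : ℕ)
      · simp [proj_X_of_le R n r i h, hb i h]
      · simp [proj_X_of_not_le R n r i h]
    have h1 : aeval (fun j : {i : Fin n // ¬ r ≤ (i : ℕ)} => ρ (b j)) (proj R n r F) = 0 := by
      have := congrArg (fun φ => φ F) key
      simp only [AlgHom.comp_apply] at this
      rw [← this, hF']
    rw [← MvPolynomial.aeval_map_algebraMap K] at h1
    have h2 : map (algebraMap R K) (proj R n r F) = 0 := by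
      have hinj : Function.Injective
          (aeval (fun j : {i : Fin n // ¬ r ≤ (i : ℕ)} => ρ (b j)) :
            MvPolynomial {i : Fin n // ¬ r ≤ (i : ℕ)} K →ₐ[K] L) := hind
      exact hinj (by rw [h1, map_zero])
    have h3 : proj R n r F ∈ (RingHom.ker (algebraMap R K)).map
        (C : R →+* MvPolynomial {i : Fin n // ¬ r ≤ (i : ℕ)} R) := by
      rw [MvPolynomial.mem_map_C_iff]
      intro m
      rw [RingHom.mem_ker, ← MvPolynomial.coeff_map, h2, coeff_zero]
    have h4 : rename Subtype.val (proj R n r F) ∈ (RingHom.ker (algebraMap R K)).map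
        (algebraMap R (MvPolynomial (Fin n) R)) := by
      have h5 := Ideal.mem_map_of_mem
        (rename (R := R) (Subtype.val : {i : Fin n // ¬ r ≤ (i : ℕ)} → Fin n)).toRingHom h3
      rw [Ideal.map_map] at h5
      have h6 : (rename (R := R) (Subtype.val : {i : Fin n // ¬ r ≤ (i : ℕ)} → Fin n)).toRingHom.comp
          (C : R →+* MvPolynomial {i : Fin n // ¬ r ≤ (i : ℕ)} R) =
          algebraMap R (MvPolynomial (Fin n) R) := by
        ext a
        simp [MvPolynomial.algebraMap_eq]
      rw [h6] at h5
      exact h5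
    have h7 : F = rename Subtype.val (proj R n r F) + (F - rename Subtype.val (proj R n r F)) := by
      ring
    rw [h7]
    exact Ideal.add_mem _ (Ideal.mem_sup_left h4)
      (Ideal.mem_sup_right (sub_rename_proj_mem n r F))
  · apply sup_le
    · rw [Ideal.map_le_iff_le_comap]
      intro a ha
      rw [RingHom.mem_ker] at ha
      rw [Ideal.mem_comap, Ideal.mem_comap, RingHom.mem_ker]
      show ρ (aeval b (algebraMap R (MvPolynomial (Fin n) R) a)) = 0
      rw [AlgHom.commutes, AlgHom.commutes, IsScalarTower.algebraMap_apply R K L, ha, map_zero]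
    · rw [tailIdeal, Ideal.span_le]
      rintro _ ⟨i, rfl⟩
      rw [SetLike.mem_coe, Ideal.mem_comap, RingHom.mem_ker]
      show ρ (aeval b (X (i : Fin n))) = 0
      rw [aeval_X]
      exact hb i i.2

/-- clearing denominators in a polynomial over a residue field -/
theorem exists_smul_eq_map {R : Type u} [CommRing R] (p : Ideal R) [p.IsPrime] {σ : Type*}
    (G : MvPolynomial σ p.ResidueField) :
    ∃ s ∉ p, ∃ G' : MvPolynomial σ R,
      map (algebraMap R p.ResidueField) G' = algebraMap R p.ResidueField s • G := by
  obtain ⟨s, hs, G', e⟩ := Ideal.Fiber.exists_smul_eq_one_tmul p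
    ((MvPolynomial.algebraTensorAlgEquiv R p.ResidueField).symm G)
  refine ⟨s, hs, G', ?_⟩
  have h1 := congrArg (MvPolynomial.algebraTensorAlgEquiv R p.ResidueField) e
  rw [MvPolynomial.algebraTensorAlgEquiv_tmul, one_smul] at h1
  rw [← h1, ← algebraMap_smul p.ResidueField s, map_smul, AlgEquiv.apply_symm_apply]

end Groth.Agent.Lead.QFP
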