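import Mathlib
import Groth.Prelude.Def_Flat
import Groth.Agent.Lib.Helper4.DimFT1
import Groth.Agent.Lib.Helper4.DimFT2

/-!
# Quasi-finite presentation with prescribed preimage: parameters over a field (lead)
-/

set_option autoImplicit false
set_option backward.isDefEq.respectTransparency.types false
set_option synthInstance.maxHeartbeats 400000
set_option linter.style.haveILetI false
set_option linter.unusedSectionVars false

universe u

namespace Groth.Agent.Lead.QFP

open Groth.Agent.Lib.Helper4.DimFT1 Groth.Agent.Lib.Helper4.DimFT2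

/-- indices below `m` -/
def equivLow (n m : ℕ) (hmn : m ≤ n) : {i : Fin n // ¬ m ≤ (i : ℕ)} ≃ Fin m where
  toFun i := ⟨i.1, by have := i.2; omega⟩
  invFun j := ⟨⟨j, by have := j.2; omega⟩, by have := j.2; simp⟩
  left_inv i := by ext; rfl
  right_inv j := by ext; rfl

/-- indices at least `m` -/
def equivHigh (n m h : ℕ) (hn : n = h + m) : {i : Fin n // m ≤ (i : ℕ)} ≃ Fin h where
  toFun i := ⟨i.1 - m, by have := i.2; have := i.1.2; omega⟩
  invFun j := ⟨⟨j + m, by have := j.2; omega⟩, by simp⟩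
  left_inv i := by
    have := i.2
    ext
    simp only
    omega
  right_inv j := by ext; simp

theorem exists_sop (K C : Type u) [Field K] [CommRing C] [Algebra K C] [Algebra.FiniteType K C]
    (Q : Ideal C) [hQ : Q.IsPrime] (G : Set C) (hG : ∀ x : C, ∃ u : K, u ≠ 0 ∧ u • x ∈ G)
    (n r : ℕ) (hdim : FlatMor.localDim (PrimeSpectrum C) ⟨Q, hQ⟩ = (n : WithBot ℕ∞))
    (hr : Algebra.trdeg K (C ⧸ Q) = r) :
    ∃ c : Fin n → C, (∀ i, c i ∈ G) ∧
      AlgebraicIndependent K
        (fun i : {i : Fin n // ¬ r ≤ (i : ℕ)} => Ideal.Quotient.mk Q (c i)) ∧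
      Algebra.IsAlgebraic (Algebra.adjoin K (Set.range
        (fun i : {i : Fin n // ¬ r ≤ (i : ℕ)} => Ideal.Quotient.mk Q (c i)))) (C ⧸ Q) ∧
      Q ∈ (Ideal.span (Set.range fun i : {i : Fin n // r ≤ (i : ℕ)} => c i)).minimalPrimes := by
  classical
  haveI : Algebra.FiniteType K (C ⧸ Q) :=
    .of_surjective (Ideal.Quotient.mkₐ K Q) (Ideal.Quotient.mkₐ_surjective K Q)
  haveI : IsNoetherianRing C := Algebra.FiniteType.isNoetherianRing K C
  obtain ⟨m, htr, hdimD⟩ := exists_dim_eq_trdeg K (C ⧸ Q)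
  have hmr : m = r := by rw [htr] at hr; exact_mod_cast hr
  subst hmr
  have h1 := localDim_spec_eq (k := K) Q
  rw [hdim, hdimD] at h1
  have hfin : Q.height ≠ ⊤ := Ideal.height_ne_top hQ.ne_top
  obtain ⟨h, hh⟩ : ∃ h : ℕ, Q.height = h := ⟨Q.height.toNat, (ENat.coe_toNat hfin).symm⟩
  have hn : n = h + m := by
    rw [hh] at h1
    exact_mod_cast h1
  obtain ⟨s, hs, hcard⟩ := Q.exists_finset_card_eq_height_of_isNoetherianRing
  have hcard' : s.card = h := by
    rw [hh] at hcard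
    exact_mod_cast hcard
  choose uu huu hGu using hG
  -- the high part
  let es : {i : Fin n // m ≤ (i : ℕ)} ≃ s :=
    (equivHigh n m h hn).trans (s.equivFinOfCardEq hcard').symm
  let c₂ : {i : Fin n // m ≤ (i : ℕ)} → C := fun i => uu (es i : C) • (es i : C)
  have hspan : Ideal.span (Set.range c₂) = Ideal.span (s : Set C) := by
    apply le_antisymm
    · rw [Ideal.span_le]
      rintro _ ⟨i, rfl⟩
      show uu (es i : C) • (es i : C) ∈ Ideal.span (s : Set C)
      rw [Algebra.smul_def]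
      exact Ideal.mul_mem_left _ _ (Ideal.subset_span (es i).2)
    · rw [Ideal.span_le]
      intro x hx
      have h2 : x = algebraMap K C (uu x)⁻¹ * c₂ (es.symm ⟨x, hx⟩) := by
        show x = algebraMap K C (uu x)⁻¹ * (uu (es (es.symm ⟨x, hx⟩) : C) • (es (es.symm ⟨x, hx⟩) : C))
        rw [Equiv.apply_symm_apply, ← Algebra.smul_def, smul_smul, inv_mul_cancel₀ (huu x),
          one_smul]
      rw [h2]
      exact Ideal.mul_mem_left _ _ (Ideal.subset_span ⟨_, rfl⟩)
  -- the low part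
  let t : Set (C ⧸ Q) := (Ideal.Quotient.mk Q) '' G
  haveI : Algebra.IsAlgebraic (Algebra.adjoin K t) (C ⧸ Q) := by
    refine ⟨fun d => ?_⟩
    obtain ⟨x, rfl⟩ := Ideal.Quotient.mk_surjective d
    have hmem : Ideal.Quotient.mk Q x ∈ Algebra.adjoin K t := by
      have h2 : Ideal.Quotient.mk Q x = (uu x)⁻¹ • Ideal.Quotient.mk Q (uu x • x) := by
        rw [← Ideal.Quotient.mkₐ_eq_mk K, ← map_smul, smul_smul, inv_mul_cancel₀ (huu x),
          one_smul]
      rw [h2]
      have h3 : Ideal.Quotient.mk Q (uu x • x) ∈ t := ⟨_, hGu x, rfl⟩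
      exact Subalgebra.smul_mem _ (Algebra.subset_adjoin h3) _
    exact isAlgebraic_algebraMap (⟨_, hmem⟩ : Algebra.adjoin K t)
  haveI : FaithfulSMul K (C ⧸ Q) := inferInstance
  obtain ⟨u, hut, hu⟩ := exists_isTranscendenceBasis_subset (R := K) t
  have hcardu : Cardinal.mk u = m := by rw [hu.cardinalMk_eq_trdeg, htr]
  obtain ⟨eu⟩ := Cardinal.mk_eq_nat_iff.mp hcardu
  have hpre : ∀ y : u, ∃ x ∈ G, Ideal.Quotient.mk Q x = y := fun y => hut y.2
  choose c₁ hc₁G hc₁ using hpre
  have hmn : m ≤ n := by omega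
  let el : {i : Fin n // ¬ m ≤ (i : ℕ)} ≃ u := (equivLow n m hmn).trans eu.symm
  refine ⟨fun i => if h : m ≤ (i : ℕ) then c₂ ⟨i, h⟩ else c₁ (el ⟨i, h⟩), ?_, ?_, ?_, ?_⟩
  · intro i
    by_cases h : m ≤ (i : ℕ)
    · simp only [h, dif_pos]
      exact hGu _
    · simp only [h, dif_neg, not_false_eq_true]
      exact hc₁G _
  · have hfun : (fun i : {i : Fin n // ¬ m ≤ (i : ℕ)} => Ideal.Quotient.mk Q
        (if h : m ≤ ((i : Fin n) : ℕ) then c₂ ⟨i, h⟩ else c₁ (el ⟨i, h⟩))) =
        (Subtype.val : u → C ⧸ Q) ∘ el := by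
      funext i
      simp only [i.2, dif_neg, not_false_eq_true, Function.comp_apply]
      rw [hc₁]
    rw [hfun]
    exact hu.1.comp el el.injective
  · have hfun : (fun i : {i : Fin n // ¬ m ≤ (i : ℕ)} => Ideal.Quotient.mk Q
        (if h : m ≤ ((i : Fin n) : ℕ) then c₂ ⟨i, h⟩ else c₁ (el ⟨i, h⟩))) =
        (Subtype.val : u → C ⧸ Q) ∘ el := by
      funext i
      simp only [i.2, dif_neg, not_false_eq_true, Function.comp_apply]
      rw [hc₁]
    rw [hfun, EquivLike.range_comp]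
    exact hu.isAlgebraic
  · have hfun : (fun i : {i : Fin n // m ≤ (i : ℕ)} =>
        (if h : m ≤ ((i : Fin n) : ℕ) then c₂ ⟨i, h⟩ else c₁ (el ⟨i, h⟩))) = c₂ := by
      funext i
      simp only [i.2, dif_pos]
    rw [hfun, hspan]
    exact hs

end Groth.Agent.Lead.QFP
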