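import Mathlib
import Groth.Agent.Lib.Helper4.DimFT1
import Groth.Agent.Lib.Lead.QFP1

/-!
# Quasi-finite presentation with prescribed preimage: isolated points of fibres (lead)
-/

set_option autoImplicit false
set_option backward.isDefEq.respectTransparency.types false
set_option synthInstance.maxHeartbeats 400000
set_option linter.style.haveILetI false
set_option linter.unusedSectionVars false

universe u

namespace Groth.Agent.Lead.QFP

open MvPolynomial TensorProduct
open Groth.Agent.Lib.Helper4.DimFT1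

/-- a prime which is maximal and minimal among the primes of its fibre is a quasi-finite point -/
theorem quasiFiniteAt_of_isolated {T S : Type u} [CommRing T] [CommRing S] [Algebra T S]
    [Algebra.FiniteType T S] (q : Ideal S) [q.IsPrime]
    (hmax : ∀ q' : Ideal S, q'.IsPrime → q ≤ q' → q'.under T = q.under T → q' ≤ q)
    (hmin : ∀ q' : Ideal S, q'.IsPrime → q' ≤ q → q'.under T = q.under T → q ≤ q') :
    Algebra.QuasiFiniteAt T q := by
  let P := q.under T
  haveI : q.LiesOver P := ⟨rfl⟩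
  let e := PrimeSpectrum.primesOverOrderIsoFiber T S P
  let x₀ : P.primesOver S := ⟨q, inferInstance, inferInstance⟩
  let QP := e x₀
  have hQP : QP.asIdeal.comap Algebra.TensorProduct.includeRight.toRingHom = q :=
    congr($(e.symm_apply_apply x₀).1)
  haveI : Algebra.QuasiFiniteAt P.ResidueField QP.asIdeal := by
    refine .of_isOpen_singleton QP ?_
    haveI : IsNoetherianRing (P.Fiber S) := Algebra.FiniteType.isNoetherianRing P.ResidueField _
    haveI : IsJacobsonRing (P.Fiber S) := isJacobsonRing_of_finiteType (A := P.ResidueField)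
    have htfae := (PrimeSpectrum.isOpen_singleton_tfae_of_isNoetherian_of_isJacobsonRing QP).out 2 0
    refine htfae.mp ⟨?_, ?_⟩
    · rw [PrimeSpectrum.isClosed_singleton_iff_isMaximal, ← PrimeSpectrum.isMax_iff]
      show IsMax (e x₀)
      rw [OrderIso.isMax_apply]
      intro y hy
      exact hmax y.1 y.2.1 hy (y.2.2.over).symm
    · rw [PrimeSpectrum.stableUnderGeneralization_singleton, ← PrimeSpectrum.isMin_iff]
      show IsMin (e x₀)
      rw [OrderIso.isMin_apply]
      intro y hy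
      exact hmin y.1 y.2.1 hy (y.2.2.over).symm
  exact .of_quasiFiniteAt_residueField P q QP.asIdeal hQP

section Fibre

variable {R S : Type u} [CommRing R] [CommRing S] [Algebra R S] (p : Ideal R) [p.IsPrime]

/-- every element of the fibre is a unit multiple of an element coming from `S` -/
theorem exists_unit_smul_mem_range (x : p.Fiber S) :
    ∃ u : p.ResidueField, u ≠ 0 ∧
      u • x ∈ Set.range (Algebra.TensorProduct.includeRight : S →ₐ[R] p.Fiber S) := by
  obtain ⟨a, ha, s, e⟩ := Ideal.Fiber.exists_smul_eq_one_tmul p x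
  refine ⟨algebraMap R p.ResidueField a, ?_, s, ?_⟩
  · rwa [Ne, Ideal.algebraMap_residueField_eq_zero]
  · rw [algebraMap_smul, e]
    rfl

variable (q : Ideal S) [q.IsPrime] [q.LiesOver p]
    [Algebra (Localization.AtPrime p) (Localization.AtPrime q)]
    [Localization.AtPrime.IsLiesOverAlgebra p q] (Q : PrimeSpectrum (p.Fiber S))
    (hQ : Q.asIdeal.comap (Algebra.TensorProduct.includeRight.toRingHom) = q)

include hQ in
theorem trdeg_quotient_eq :
    Algebra.trdeg p.ResidueField (p.Fiber S ⧸ Q.asIdeal) =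
      Algebra.trdeg p.ResidueField q.ResidueField := by
  letI algκ : Algebra p.ResidueField Q.asIdeal.ResidueField :=
    ((algebraMap (p.Fiber S) Q.asIdeal.ResidueField).comp
      (algebraMap p.ResidueField (p.Fiber S))).toAlgebra
  haveI : IsScalarTower p.ResidueField (p.Fiber S ⧸ Q.asIdeal) Q.asIdeal.ResidueField := by
    refine ⟨fun x y z => ?_⟩
    obtain ⟨y, rfl⟩ := Ideal.Quotient.mk_surjective y
    rw [Algebra.smul_def, Algebra.smul_def, Algebra.smul_def, Algebra.smul_def, map_mul, mul_assoc]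
    rfl
  rw [← trdeg_fractionRing_eq p.ResidueField (p.Fiber S ⧸ Q.asIdeal) Q.asIdeal.ResidueField]
  have hq' : q = Q.asIdeal.comap (Algebra.TensorProduct.includeRight : S →ₐ[R] p.Fiber S).toRingHom :=
    hQ.symm
  let m : q.ResidueField →+* Q.asIdeal.ResidueField :=
    Ideal.ResidueField.map q Q.asIdeal _ hq'
  have hbij : Function.Bijective m :=
    p.surjectiveOnStalks_residueField.baseChange'.residueFieldMap_bijective q Q.asIdeal hq'
  have hcomm : m.comp (algebraMap p.ResidueField q.ResidueField) =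
      algebraMap p.ResidueField Q.asIdeal.ResidueField := by
    apply Ideal.ResidueField.ringHom_ext
    ext a
    simp only [RingHom.comp_apply]
    rw [← IsScalarTower.algebraMap_apply R p.ResidueField q.ResidueField,
      IsScalarTower.algebraMap_apply R S q.ResidueField]
    show Ideal.ResidueField.map q Q.asIdeal _ hq' _ =
      algebraMap (p.Fiber S) Q.asIdeal.ResidueField (algebraMap p.ResidueField (p.Fiber S) _)
    rw [Ideal.ResidueField.map_algebraMap, ← IsScalarTower.algebraMap_apply R p.ResidueField (p.Fiber S)]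
    congr 1
    simp
  let e : q.ResidueField ≃ₐ[p.ResidueField] Q.asIdeal.ResidueField :=
    AlgEquiv.ofBijective ⟨m, fun k => congr($hcomm k)⟩ hbij
  exact e.trdeg_eq.symm


end Fibre

section Abstract

variable {R S K : Type u} [CommRing R] [CommRing S] [Algebra R S] [Field K] [Algebra R K]

/-- an ideal of a domain, algebraic over the subalgebra generated by the first `r` images, is zero
as soon as its contraction to the polynomial ring is contained in that of the kernel -/
theorem eq_bot_of_comap_le {D : Type u} [CommRing D] [IsDomain D] [Algebra K D] [Algebra R D]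
    [IsScalarTower R K D] (n r : ℕ)
    (hclear : ∀ (G : MvPolynomial {i : Fin n // ¬ r ≤ (i : ℕ)} K), ∃ s : R,
      algebraMap R K s ≠ 0 ∧ ∃ G' : MvPolynomial {i : Fin n // ¬ r ≤ (i : ℕ)} R,
        map (algebraMap R K) G' = algebraMap R K s • G)
    (ρ : S →ₐ[R] D) (b : Fin n → S)
    (halg : Algebra.IsAlgebraic (Algebra.adjoin K (Set.range
      (fun i : {i : Fin n // ¬ r ≤ (i : ℕ)} => ρ (b i)))) D)
    (𝔞 : Ideal D)
    (h𝔞 : (𝔞.comap ρ.toRingHom).comap (aeval b : MvPolynomial (Fin n) R →ₐ[R] S).toRingHom ≤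
      (RingHom.ker ρ.toRingHom).comap (aeval b : MvPolynomial (Fin n) R →ₐ[R] S).toRingHom) :
    𝔞 = ⊥ := by
  by_contra hne0
  obtain ⟨x, hxmem, hx0⟩ := Submodule.exists_mem_ne_zero_of_ne_bot hne0
  let cbar : {i : Fin n // ¬ r ≤ (i : ℕ)} → D := fun i => ρ (b i)
  have halgx : IsAlgebraic (Algebra.adjoin K (Set.range cbar)) x := halg.isAlgebraic _
  have hne := Ideal.comap_ne_bot_of_algebraic_mem hx0 hxmem halgx
  obtain ⟨a, ha, ha0⟩ := Submodule.exists_mem_ne_zero_of_ne_bot hne
  have harange : (a : D) ∈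
      (aeval cbar : MvPolynomial {i : Fin n // ¬ r ≤ (i : ℕ)} K →ₐ[K] D).range := by
    rw [← Algebra.adjoin_range_eq_range_aeval]
    exact a.2
  obtain ⟨G, hGa⟩ := harange
  obtain ⟨s, hs, G', hG'⟩ := hclear G
  set y : S := aeval (fun i : {i : Fin n // ¬ r ≤ (i : ℕ)} => b i) G' with hy
  have hρy : ρ y = algebraMap R K s • (a : D) := by
    rw [hy, MvPolynomial.comp_aeval_apply]
    have h1 : (aeval (fun i : {i : Fin n // ¬ r ≤ (i : ℕ)} => ρ (b i)) :
        MvPolynomial {i : Fin n // ¬ r ≤ (i : ℕ)} R →ₐ[R] D) G' =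
        aeval cbar (map (algebraMap R K) G') := by
      rw [MvPolynomial.aeval_map_algebraMap]
    have hGa' : aeval cbar G = (a : D) := hGa
    rw [h1, hG', map_smul, hGa']
  have h2 : ρ y ∈ 𝔞 := by
    rw [hρy, Algebra.smul_def]
    exact Ideal.mul_mem_left _ _ ha
  have h3 : rename Subtype.val G' ∈ (𝔞.comap ρ.toRingHom).comap
        (aeval b : MvPolynomial (Fin n) R →ₐ[R] S).toRingHom := by
    rw [Ideal.mem_comap, Ideal.mem_comap]
    show ρ (aeval b (rename Subtype.val G')) ∈ 𝔞
    rw [aeval_rename]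
    exact h2
  have h4 := h𝔞 h3
  rw [Ideal.mem_comap, RingHom.mem_ker] at h4
  have h5 : ρ (aeval b (rename Subtype.val G')) = 0 := h4
  rw [aeval_rename] at h5
  have h6 : ρ y = 0 := h5
  rw [hρy, smul_eq_zero] at h6
  rcases h6 with h6 | h6
  · exact hs h6
  · exact ha0 (Subtype.ext h6)

variable {C : Type u} [CommRing C] [Algebra K C] [Algebra R C] [IsScalarTower R K C]

theorem fibre_max (n r : ℕ)
    (hclear : ∀ (G : MvPolynomial {i : Fin n // ¬ r ≤ (i : ℕ)} K), ∃ s : R,
      algebraMap R K s ≠ 0 ∧ ∃ G' : MvPolynomial {i : Fin n // ¬ r ≤ (i : ℕ)} R,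
        map (algebraMap R K) G' = algebraMap R K s • G)
    (ι : S →ₐ[R] C) (Q : Ideal C) [Q.IsPrime] (b : Fin n → S)
    (halg : Algebra.IsAlgebraic (Algebra.adjoin K (Set.range
      (fun i : {i : Fin n // ¬ r ≤ (i : ℕ)} => Ideal.Quotient.mk Q (ι (b i))))) (C ⧸ Q))
    (Q' : Ideal C) (hle : Q ≤ Q')
    (hP : (Q'.comap ι.toRingHom).comap (aeval b : MvPolynomial (Fin n) R →ₐ[R] S).toRingHom =
      (Q.comap ι.toRingHom).comap (aeval b : MvPolynomial (Fin n) R →ₐ[R] S).toRingHom) :
    Q' ≤ Q := by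
  let ρ : S →ₐ[R] (C ⧸ Q) := (Ideal.Quotient.mkₐ R Q).comp ι
  have hρ : ∀ y, ρ y = Ideal.Quotient.mk Q (ι y) := fun y => rfl
  have hker : RingHom.ker ρ.toRingHom = Q.comap ι.toRingHom := by
    ext y
    rw [RingHom.mem_ker, Ideal.mem_comap]
    show ρ y = 0 ↔ _
    rw [hρ, Ideal.Quotient.eq_zero_iff_mem]
    rfl
  have hcomap : (Q'.map (Ideal.Quotient.mk Q)).comap ρ.toRingHom = Q'.comap ι.toRingHom := by
    ext y
    rw [Ideal.mem_comap, Ideal.mem_comap]
    show ρ y ∈ _ ↔ _
    rw [hρ, Ideal.mem_quotient_iff_mem hle]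
    rfl
  have hbot := eq_bot_of_comap_le (K := K) n r hclear ρ b halg (Q'.map (Ideal.Quotient.mk Q))
    (by rw [hcomap, hker, hP])
  intro x hx
  have h1 : Ideal.Quotient.mk Q x ∈ Q'.map (Ideal.Quotient.mk Q) := Ideal.mem_map_of_mem _ hx
  rw [hbot, Ideal.mem_bot, Ideal.Quotient.eq_zero_iff_mem] at h1
  exact h1

omit [Field K] [Algebra R K] in
theorem fibre_min (n r : ℕ) (ι : S →ₐ[R] C) (Q : Ideal C) (b : Fin n → S)
    (hmin : Q ∈ (Ideal.span (Set.range fun i : {i : Fin n // r ≤ (i : ℕ)} =>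
      ι (b i))).minimalPrimes)
    (Q' : Ideal C) [hQ' : Q'.IsPrime] (hle : Q' ≤ Q)
    (hP : (Q'.comap ι.toRingHom).comap (aeval b : MvPolynomial (Fin n) R →ₐ[R] S).toRingHom =
      (Q.comap ι.toRingHom).comap (aeval b : MvPolynomial (Fin n) R →ₐ[R] S).toRingHom) :
    Q ≤ Q' := by
  refine hmin.2 ⟨hQ', ?_⟩ hle
  rw [Ideal.span_le]
  rintro _ ⟨i, rfl⟩
  have h1 : ι (b i) ∈ Q := hmin.1.2 (Ideal.subset_span ⟨i, rfl⟩)
  have h3 : (X (i : Fin n) : MvPolynomial (Fin n) R) ∈
      (Q.comap ι.toRingHom).comap (aeval b : MvPolynomial (Fin n) R →ₐ[R] S).toRingHom := by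
    rw [Ideal.mem_comap, Ideal.mem_comap]
    show ι (aeval b (X (i : Fin n))) ∈ Q
    rw [aeval_X]
    exact h1
  rw [← hP, Ideal.mem_comap, Ideal.mem_comap] at h3
  have h4 : ι (aeval b (X (i : Fin n))) ∈ Q' := h3
  rw [aeval_X] at h4
  exact h4

end Abstract

end Groth.Agent.Lead.QFP
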