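import Mathlib
import Groth.Prelude.Def_Flat
import Groth.Agent.Lib.Lead.QFP1
import Groth.Agent.Lib.Lead.QFP2
import Groth.Agent.Lib.Lead.QFP3

/-!
# Quasi-finite presentation with prescribed preimage: the main statement (lead)
-/

set_option autoImplicit false
set_option backward.isDefEq.respectTransparency.types false
set_option synthInstance.maxHeartbeats 400000
set_option linter.style.haveILetI false
set_option linter.unusedSectionVars false

universe u

namespace Groth.Agent.Lead.QFP

open MvPolynomial TensorProduct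

/-- ring-level openness of the quasi-finite locus -/
theorem exists_away_quasiFinite {T S : Type u} [CommRing T] [CommRing S] [Algebra T S]
    [Algebra.FiniteType T S] (q : Ideal S) [q.IsPrime] [Algebra.QuasiFiniteAt T q] :
    ∃ g : S, g ∉ q ∧ Algebra.QuasiFinite T (Localization.Away g) := by
  obtain ⟨S', hS', g, hgq, H⟩ :=
    Algebra.QuasiFiniteAt.exists_fg_and_exists_notMem_and_awayMap_bijective (R := T) q
  have : Module.Finite T S' := ⟨(Submodule.fg_top _).mpr hS'⟩
  have : Algebra.QuasiFinite T (Localization.Away g) := .trans _ S' _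
  have : Algebra.QuasiFinite T (Localization.Away g.1) :=
    .of_surjective_algHom (Localization.awayMapₐ S'.val g) H.2
  exact ⟨g.1, hgq, this⟩

section Abstract

variable {R S K C : Type u} [CommRing R] [CommRing S] [Algebra R S] [Field K] [Algebra R K]
  [CommRing C] [Algebra K C] [Algebra R C] [IsScalarTower R K C]

theorem contraction_abs (ι : S →ₐ[R] C) (Q : Ideal C) (n r : ℕ) (b : Fin n → S)
    (hb0 : ∀ i : Fin n, r ≤ (i : ℕ) → ι (b i) ∈ Q)
    (hind : AlgebraicIndependent K
      (fun i : {i : Fin n // ¬ r ≤ (i : ℕ)} => Ideal.Quotient.mk Q (ι (b i)))) :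
    (Q.comap ι.toRingHom).comap (aeval b : MvPolynomial (Fin n) R →ₐ[R] S).toRingHom =
      (RingHom.ker (algebraMap R K)).map (algebraMap R (MvPolynomial (Fin n) R)) ⊔
        tailIdeal R n r := by
  let ρ : S →ₐ[R] (C ⧸ Q) := (Ideal.Quotient.mkₐ R Q).comp ι
  have hρ : ∀ y, ρ y = Ideal.Quotient.mk Q (ι y) := fun y => rfl
  have hker : RingHom.ker ρ.toRingHom = Q.comap ι.toRingHom := by
    ext y
    rw [RingHom.mem_ker, Ideal.mem_comap]
    show ρ y = 0 ↔ _
    rw [hρ, Ideal.Quotient.eq_zero_iff_mem]
    rfl
  have hb0' : ∀ i : Fin n, r ≤ (i : ℕ) → ρ (b i) = 0 := by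
    intro i hi
    rw [hρ, Ideal.Quotient.eq_zero_iff_mem]
    exact hb0 i hi
  have h1 := comap_aeval_eq (K := K) ρ n r b hb0' hind
  rw [hker] at h1
  exact h1

end Abstract

section Params

variable (R S : Type u) [CommRing R] [CommRing S] [Algebra R S] [Algebra.FiniteType R S]
    (p : Ideal R) [p.IsPrime] (q : Ideal S) [q.IsPrime] [q.LiesOver p]
    [Algebra (Localization.AtPrime p) (Localization.AtPrime q)]
    [Localization.AtPrime.IsLiesOverAlgebra p q] (Q : PrimeSpectrum (p.Fiber S))
    (hQ : Q.asIdeal.comap (Algebra.TensorProduct.includeRight.toRingHom) = q) (n r : ℕ)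
    (hdim : FlatMor.localDim (PrimeSpectrum (p.Fiber S)) Q = (n : WithBot ℕ∞))
    (hr : Algebra.trdeg p.ResidueField q.ResidueField = r)

include hQ hdim hr in
theorem exists_params : ∃ b : Fin n → S, ∃ g : S, g ∉ q ∧
    ((algebraMap S (Localization.Away g)).comp
      (aeval b : MvPolynomial (Fin n) R →ₐ[R] S).toRingHom).QuasiFinite ∧
    q.comap (aeval b : MvPolynomial (Fin n) R →ₐ[R] S).toRingHom =
      p.map (algebraMap R (MvPolynomial (Fin n) R)) ⊔ tailIdeal R n r := by
  have hr' : Algebra.trdeg p.ResidueField (p.Fiber S ⧸ Q.asIdeal) = r := by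
    rw [trdeg_quotient_eq p q Q hQ, hr]
  obtain ⟨c, hcG, hind, halg, hmin⟩ := exists_sop p.ResidueField (p.Fiber S) Q.asIdeal
    (Set.range (Algebra.TensorProduct.includeRight : S →ₐ[R] p.Fiber S))
    (exists_unit_smul_mem_range p) n r hdim hr'
  choose b hb using hcG
  have hc : c = fun i => (Algebra.TensorProduct.includeRight : S →ₐ[R] p.Fiber S) (b i) :=
    funext fun i => (hb i).symm
  subst hc
  have hclear : ∀ (G : MvPolynomial {i : Fin n // ¬ r ≤ (i : ℕ)} p.ResidueField), ∃ s : R,
      algebraMap R p.ResidueField s ≠ 0 ∧ ∃ G' : MvPolynomial {i : Fin n // ¬ r ≤ (i : ℕ)} R,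
        map (algebraMap R p.ResidueField) G' = algebraMap R p.ResidueField s • G := by
    intro G
    obtain ⟨s, hs, G', h⟩ := exists_smul_eq_map p G
    exact ⟨s, by rwa [Ne, Ideal.algebraMap_residueField_eq_zero], G', h⟩
  -- the contraction
  have hcontr : q.comap (aeval b : MvPolynomial (Fin n) R →ₐ[R] S).toRingHom =
      p.map (algebraMap R (MvPolynomial (Fin n) R)) ⊔ tailIdeal R n r := by
    have h1 := contraction_abs (K := p.ResidueField)
      (Algebra.TensorProduct.includeRight : S →ₐ[R] p.Fiber S) Q.asIdeal n r b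
      (fun i hi => hmin.1.2 (Ideal.subset_span ⟨⟨i, hi⟩, rfl⟩)) hind
    rw [hQ, Ideal.ker_algebraMap_residueField] at h1
    exact h1
  -- quasi-finiteness at `q`
  letI alg : Algebra (MvPolynomial (Fin n) R) S :=
    (aeval b : MvPolynomial (Fin n) R →ₐ[R] S).toRingHom.toAlgebra
  haveI tow : IsScalarTower R (MvPolynomial (Fin n) R) S :=
    IsScalarTower.of_algebraMap_eq (fun x =>
      ((aeval b : MvPolynomial (Fin n) R →ₐ[R] S).commutes x).symm)
  haveI ft : Algebra.FiniteType (MvPolynomial (Fin n) R) S :=
    Algebra.FiniteType.of_restrictScalars_finiteType R _ _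
  have hover : ∀ q' : Ideal S, q'.under (MvPolynomial (Fin n) R) = q.under (MvPolynomial (Fin n) R) →
      p = q'.under R := by
    intro q' h
    have h1 : p = q.under R := Ideal.LiesOver.over
    rw [h1, ← Ideal.under_under (A := R) (B := MvPolynomial (Fin n) R) q, ← h, Ideal.under_under]
  let e_p := PrimeSpectrum.primesOverOrderIsoFiber R S p
  let y : p.primesOver S := ⟨q, inferInstance, inferInstance⟩
  have hQy : e_p y = Q := by
    have h1 : e_p.symm Q = y := Subtype.ext hQ
    rw [← h1, OrderIso.apply_symm_apply]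
  haveI qf : Algebra.QuasiFiniteAt (MvPolynomial (Fin n) R) q := by
    apply quasiFiniteAt_of_isolated q
    · intro q' hq' hle hunder
      haveI : q'.LiesOver p := ⟨hover q' hunder⟩
      let y' : p.primesOver S := ⟨q', hq', inferInstance⟩
      have hQ'comap : (e_p y').asIdeal.comap
          (Algebra.TensorProduct.includeRight : S →ₐ[R] p.Fiber S).toRingHom = q' :=
        congr($(e_p.symm_apply_apply y').1)
      have hle' : Q.asIdeal ≤ (e_p y').asIdeal := by
        have h1 : e_p y ≤ e_p y' := e_p.monotone hle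
        rw [hQy] at h1
        exact h1
      have h2 := fibre_max (K := p.ResidueField) n r hclear
        (Algebra.TensorProduct.includeRight : S →ₐ[R] p.Fiber S) Q.asIdeal b halg
        (e_p y').asIdeal hle' (by rw [hQ'comap, hQ]; exact hunder)
      rw [← hQ'comap, ← hQ]
      exact Ideal.comap_mono h2
    · intro q' hq' hle hunder
      haveI : q'.LiesOver p := ⟨hover q' hunder⟩
      let y' : p.primesOver S := ⟨q', hq', inferInstance⟩
      have hQ'comap : (e_p y').asIdeal.comap
          (Algebra.TensorProduct.includeRight : S →ₐ[R] p.Fiber S).toRingHom = q' :=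
        congr($(e_p.symm_apply_apply y').1)
      have hle' : (e_p y').asIdeal ≤ Q.asIdeal := by
        have h1 : e_p y' ≤ e_p y := e_p.monotone hle
        rw [hQy] at h1
        exact h1
      have h2 := fibre_min n r
        (Algebra.TensorProduct.includeRight : S →ₐ[R] p.Fiber S) Q.asIdeal b hmin
        (e_p y').asIdeal hle' (by rw [hQ'comap, hQ]; exact hunder)
      rw [← hQ'comap, ← hQ]
      exact Ideal.comap_mono h2
  obtain ⟨g, hg, hqf⟩ := exists_away_quasiFinite (T := MvPolynomial (Fin n) R) q
  refine ⟨b, g, hg, ?_, hcontr⟩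
  have h1 : (algebraMap (MvPolynomial (Fin n) R) (Localization.Away g)).QuasiFinite :=
    RingHom.quasiFinite_algebraMap.mpr hqf
  rw [IsScalarTower.algebraMap_eq (MvPolynomial (Fin n) R) S (Localization.Away g)] at h1
  exact h1

include hQ hdim hr in
theorem main :
    ∃ (f : R) (g : S), f ∉ p ∧ g ∉ q ∧
      ∃ φ : MvPolynomial (Fin n) (Localization.Away f) →ₐ[R] Localization.Away g,
        φ.toRingHom.FiniteType ∧ φ.toRingHom.QuasiFinite ∧
        (q.map (algebraMap S (Localization.Away g))).comap φ =
          p.map (algebraMap R (MvPolynomial (Fin n) (Localization.Away f))) ⊔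
            Ideal.span (Set.range fun i : {i : Fin n // r ≤ (i : ℕ)} =>
              (MvPolynomial.X (i : Fin n) : MvPolynomial (Fin n) (Localization.Away f))) := by
  obtain ⟨b, g, hg, hqf, hcontr⟩ := exists_params R S p q Q hQ n r hdim hr
  refine ⟨1, g, fun h => (inferInstance : p.IsPrime).ne_top ((Ideal.eq_top_iff_one p).mpr h), hg, ?_⟩
  let e₁ : R ≃ₐ[R] Localization.Away (1 : R) := IsLocalization.atOne R _
  let E : MvPolynomial (Fin n) R ≃ₐ[R] MvPolynomial (Fin n) (Localization.Away (1 : R)) :=
    MvPolynomial.mapAlgEquiv (Fin n) e₁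
  let ψ : MvPolynomial (Fin n) R →ₐ[R] Localization.Away g :=
    (IsScalarTower.toAlgHom R S (Localization.Away g)).comp (aeval b)
  let φ : MvPolynomial (Fin n) (Localization.Away (1 : R)) →ₐ[R] Localization.Away g :=
    ψ.comp E.symm.toAlgHom
  have hφ : φ.toRingHom = ((algebraMap S (Localization.Away g)).comp
      (aeval b : MvPolynomial (Fin n) R →ₐ[R] S).toRingHom).comp E.symm.toRingEquiv.toRingHom := by
    ext x <;> rfl
  have hdisj : Disjoint (Submonoid.powers g : Set S) (q : Set S) := by
    rw [Set.disjoint_left]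
    rintro x ⟨k, rfl⟩ hx
    exact hg (Ideal.IsPrime.mem_of_pow_mem inferInstance k hx)
  have hcomap : (q.map (algebraMap S (Localization.Away g))).comap
      (algebraMap S (Localization.Away g)) = q :=
    IsLocalization.under_map_of_isPrime_disjoint (Submonoid.powers g) _ inferInstance hdisj
  refine ⟨φ, ?_, ?_, ?_⟩
  · apply RingHom.FiniteType.of_comp_finiteType
      (f := algebraMap R (MvPolynomial (Fin n) (Localization.Away (1 : R))))
    have h1 : φ.toRingHom.comp (algebraMap R (MvPolynomial (Fin n) (Localization.Away (1 : R)))) =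
        algebraMap R (Localization.Away g) := by
      ext x
      exact φ.commutes x
    rw [h1, RingHom.finiteType_algebraMap]
    exact Algebra.FiniteType.trans (inferInstanceAs (Algebra.FiniteType R S))
      (IsLocalization.finiteType_of_monoid_fg (Submonoid.powers g) _)
  · rw [hφ]
    exact RingHom.QuasiFinite.comp hqf (RingHom.QuasiFinite.of_finite
      (RingHom.Finite.of_surjective _ E.symm.surjective))
  · have h1 : (q.map (algebraMap S (Localization.Away g))).comap φ =
        (q.comap (aeval b : MvPolynomial (Fin n) R →ₐ[R] S).toRingHom).comap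
          E.toRingEquiv.symm := by
      ext x
      rw [Ideal.mem_comap, Ideal.mem_comap, Ideal.mem_comap]
      conv_rhs => rw [← hcomap, Ideal.mem_comap]
      rfl
    rw [h1, Ideal.comap_symm, hcontr, Ideal.map_sup]
    congr 1
    · rw [← Ideal.map_coe (E.toRingEquiv), Ideal.map_map]
      congr 1
      apply RingHom.ext
      intro x
      exact E.commutes x
    · rw [tailIdeal, ← Ideal.map_coe (E.toRingEquiv), Ideal.map_span, ← Set.range_comp]
      congr 2
      funext i
      show E (X (i : Fin n)) = X (i : Fin n)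
      rw [MvPolynomial.mapAlgEquiv_apply, map_X]

end Params

end Groth.Agent.Lead.QFP
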