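import Mathlib
import Groth.Prelude.Def_SymProd

set_option backward.isDefEq.respectTransparency.types false
set_option synthInstance.maxHeartbeats 400000
set_option linter.style.haveILetI false
set_option linter.unusedSectionVars false
set_option autoImplicit false

open CategoryTheory AlgebraicGeometry Opposite Limits TopologicalSpace

namespace Groth.Agent.Lead.SymAff

universe u

variable {X S : Scheme.{u}} (f : X ⟶ S) (d : ℕ)

/-- the open `b⁻¹ V ∩ ⋂ π_i⁻¹ U` of the fibre power -/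
noncomputable def boxOpen (U : X.Opens) (V : S.Opens) : (SymProd.fibPow f d).Opens :=
  (WidePullback.base (fun _ : Fin d => f)) ⁻¹ᵁ V ⊓
    ⨅ i : Fin d, (WidePullback.π (fun _ : Fin d => f) i) ⁻¹ᵁ U

theorem mem_boxOpen (U : X.Opens) (V : S.Opens) (y : SymProd.fibPow f d) :
    y ∈ boxOpen f d U V ↔ (WidePullback.base (fun _ : Fin d => f)) y ∈ V ∧
      ∀ i : Fin d, (WidePullback.π (fun _ : Fin d => f) i) y ∈ U := by
  unfold boxOpen
  rw [Opens.mem_inf]
  have h2 : y ∈ (⨅ i : Fin d, (WidePullback.π (fun _ : Fin d => f) i) ⁻¹ᵁ U) ↔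
      ∀ i : Fin d, (WidePullback.π (fun _ : Fin d => f) i) y ∈ U := by
    rw [← SetLike.mem_coe, Opens.coe_iInf, Set.mem_iInter]
    rfl
  rw [h2]
  rfl

theorem isAffineOpen_boxOpen (U : X.Opens) (hU : IsAffineOpen U) (V : S.Opens)
    (hV : IsAffineOpen V) (hUV : U ≤ f ⁻¹ᵁ V) : IsAffineOpen (boxOpen f d U V) := by
  have : IsAffine U := hU
  have : IsAffine V := hV
  -- restriction of `f`
  let fUV : (U : Scheme.{u}) ⟶ (V : Scheme.{u}) := IsOpenImmersion.lift V.ι (U.ι ≫ f) (by
    rintro _ ⟨x, rfl⟩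
    rw [Scheme.Opens.range_ι]
    exact hUV x.2)
  have hfUV : fUV ≫ V.ι = U.ι ≫ f := IsOpenImmersion.lift_fac _ _ _
  -- the affine model
  let L : Scheme.{u} := widePullback (V : Scheme.{u}) (fun _ : Fin d => (U : Scheme.{u})) (fun _ => fUV)
  have hL : IsAffine L := by
    have hj : ∀ j, IsAffine ((WidePullbackShape.wideCospan
        (V : Scheme.{u}) (fun _ : Fin d => (U : Scheme.{u})) (fun _ => fUV)).obj j) := by
      intro j
      cases j with
      | none => exact ‹IsAffine V›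
      | some i => exact ‹IsAffine U›
    exact Scheme.isAffine_of_isLimit _ (limit.isLimit (WidePullbackShape.wideCospan
      (V : Scheme.{u}) (fun _ : Fin d => (U : Scheme.{u})) (fun _ => fUV)))
  set B := boxOpen f d U V with hB
  -- the map from the model
  let φ : L ⟶ SymProd.fibPow f d := WidePullback.lift
      (WidePullback.base (fun _ : Fin d => fUV) ≫ V.ι)
      (fun i => WidePullback.π (fun _ : Fin d => fUV) i ≫ U.ι) (by
        intro i
        rw [Category.assoc, ← hfUV, ← Category.assoc, WidePullback.π_arrow])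
  have hφπ : ∀ i, φ ≫ WidePullback.π (fun _ : Fin d => f) i =
      WidePullback.π (fun _ : Fin d => fUV) i ≫ U.ι := fun i => WidePullback.lift_π _ _ _ _ i
  have hφb : φ ≫ WidePullback.base (fun _ : Fin d => f) =
      WidePullback.base (fun _ : Fin d => fUV) ≫ V.ι := WidePullback.lift_base _ _ _ _
  have hrange : Set.range φ ⊆ Set.range B.ι := by
    rintro _ ⟨y, rfl⟩
    rw [Scheme.Opens.range_ι]
    show φ y ∈ B
    rw [mem_boxOpen]
    constructor
    · rw [← Scheme.Hom.comp_apply, hφb, Scheme.Hom.comp_apply]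
      exact Subtype.property _
    · intro i
      rw [← Scheme.Hom.comp_apply, hφπ, Scheme.Hom.comp_apply]
      exact Subtype.property _
  let φ' : L ⟶ (B : Scheme.{u}) := IsOpenImmersion.lift B.ι φ hrange
  have hφ' : φ' ≫ B.ι = φ := IsOpenImmersion.lift_fac _ _ _
  -- the map to the model
  let ψb : (B : Scheme.{u}) ⟶ (V : Scheme.{u}) :=
    IsOpenImmersion.lift V.ι (B.ι ≫ WidePullback.base (fun _ : Fin d => f)) (by
      rintro _ ⟨y, rfl⟩
      rw [Scheme.Opens.range_ι]
      exact ((mem_boxOpen f d U V y.1).mp y.2).1)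
  have hψb : ψb ≫ V.ι = B.ι ≫ WidePullback.base (fun _ : Fin d => f) :=
    IsOpenImmersion.lift_fac _ _ _
  let ψπ : ∀ _ : Fin d, (B : Scheme.{u}) ⟶ (U : Scheme.{u}) := fun i =>
    IsOpenImmersion.lift U.ι (B.ι ≫ WidePullback.π (fun _ : Fin d => f) i) (by
      rintro _ ⟨y, rfl⟩
      rw [Scheme.Opens.range_ι]
      exact ((mem_boxOpen f d U V y.1).mp y.2).2 i)
  have hψπ : ∀ i, ψπ i ≫ U.ι = B.ι ≫ WidePullback.π (fun _ : Fin d => f) i :=
    fun i => IsOpenImmersion.lift_fac _ _ _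
  let ψ : (B : Scheme.{u}) ⟶ L := WidePullback.lift ψb ψπ (by
    intro i
    rw [← cancel_mono V.ι, Category.assoc, hfUV, ← Category.assoc, hψπ, Category.assoc,
      WidePullback.π_arrow, hψb])
  have hψφ : ψ ≫ φ = B.ι := by
    apply WidePullback.hom_ext
    · intro i
      rw [Category.assoc, hφπ, ← Category.assoc, WidePullback.lift_π, hψπ]
    · rw [Category.assoc, hφb, ← Category.assoc, WidePullback.lift_base, hψb]
  have h1 : ψ ≫ φ' = 𝟙 _ := by
    rw [← cancel_mono B.ι, Category.assoc, hφ', hψφ, Category.id_comp]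
  have hψπL : ∀ i, ψ ≫ WidePullback.π (fun _ : Fin d => fUV) i = ψπ i :=
    fun i => WidePullback.lift_π _ _ _ _ i
  have hψbL : ψ ≫ WidePullback.base (fun _ : Fin d => fUV) = ψb :=
    WidePullback.lift_base _ _ _ _
  have h2 : φ' ≫ ψ = 𝟙 _ := by
    apply WidePullback.hom_ext
    · intro i
      rw [← cancel_mono U.ι]
      calc ((φ' ≫ ψ) ≫ WidePullback.π (fun _ : Fin d => fUV) i) ≫ U.ι
          = φ' ≫ (ψ ≫ WidePullback.π (fun _ : Fin d => fUV) i) ≫ U.ι := by
            simp only [Category.assoc]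
        _ = φ' ≫ B.ι ≫ WidePullback.π (fun _ : Fin d => f) i := by rw [hψπL, hψπ]
        _ = φ ≫ WidePullback.π (fun _ : Fin d => f) i := by rw [← Category.assoc, hφ']
        _ = (𝟙 L ≫ WidePullback.π (fun _ : Fin d => fUV) i) ≫ U.ι := by
            rw [hφπ, Category.id_comp]
    · rw [← cancel_mono V.ι]
      calc ((φ' ≫ ψ) ≫ WidePullback.base (fun _ : Fin d => fUV)) ≫ V.ι
          = φ' ≫ (ψ ≫ WidePullback.base (fun _ : Fin d => fUV)) ≫ V.ι := by
            simp only [Category.assoc]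
        _ = φ' ≫ B.ι ≫ WidePullback.base (fun _ : Fin d => f) := by rw [hψbL, hψb]
        _ = φ ≫ WidePullback.base (fun _ : Fin d => f) := by rw [← Category.assoc, hφ']
        _ = (𝟙 L ≫ WidePullback.base (fun _ : Fin d => fUV)) ≫ V.ι := by
            rw [hφb, Category.id_comp]
  have hiso : IsIso ψ := ⟨φ', h1, h2⟩
  exact IsAffine.of_isIso ψ

/-- finitely many points of an affine open lying in an open set lie in a basic open inside it -/
theorem exists_basicOpen_finset {X : Scheme.{u}} {U : X.Opens} (hU : IsAffineOpen U)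
    (O : X.Opens) (T : Finset X) (hTU : ∀ x ∈ T, x ∈ U) (hTO : ∀ x ∈ T, x ∈ O) :
    ∃ h : Γ(X, U), X.basicOpen h ≤ O ∧ ∀ x ∈ T, x ∈ X.basicOpen h := by
  classical
  by_cases hT : T = ∅
  · subst hT
    refine ⟨0, ?_, fun x hx => (Finset.notMem_empty x hx).elim⟩
    rw [X.basicOpen_zero]; exact bot_le
  obtain ⟨x0, hx0⟩ := Finset.nonempty_iff_ne_empty.mpr hT
  -- the ideal of functions whose basic open lies in `O`
  let I : Ideal Γ(X, U) :=
    { carrier := {h | X.basicOpen h ≤ O}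
      add_mem' := by
        intro a b ha hb x hx
        by_contra hxO
        have hxU : x ∈ U := X.basicOpen_le _ hx
        rw [X.mem_basicOpen _ x hxU, map_add] at hx
        have ha' : ¬ IsUnit (X.presheaf.germ U x hxU a) := fun h =>
          hxO (ha ((X.mem_basicOpen a x hxU).mpr h))
        have hb' : ¬ IsUnit (X.presheaf.germ U x hxU b) := fun h =>
          hxO (hb ((X.mem_basicOpen b x hxU).mpr h))
        have ha'' := (IsLocalRing.mem_maximalIdeal _).mpr ha'
        have hb'' := (IsLocalRing.mem_maximalIdeal _).mpr hb'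
        exact (IsLocalRing.mem_maximalIdeal _).mp (Ideal.add_mem _ ha'' hb'') hx
      zero_mem' := by
        show X.basicOpen (0 : Γ(X, U)) ≤ O
        rw [X.basicOpen_zero]; exact bot_le
      smul_mem' := by
        intro c a ha
        show X.basicOpen (c * a) ≤ O
        rw [X.basicOpen_mul]
        exact inf_le_right.trans ha }
  -- the primes of the points
  let P : {x // x ∈ T} → Ideal Γ(X, U) := fun x =>
    (IsLocalRing.maximalIdeal (X.presheaf.stalk x.1)).comap
      (X.presheaf.germ U x.1 (hTU x.1 x.2)).hom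
  have hP : ∀ x, (P x).IsPrime := fun x => Ideal.comap_isPrime _ _
  have hmem : ∀ (x : {x // x ∈ T}) (h : Γ(X, U)), h ∈ P x ↔ x.1 ∉ X.basicOpen h := by
    intro x h
    rw [X.mem_basicOpen h x.1 (hTU x.1 x.2)]
    exact IsLocalRing.mem_maximalIdeal _
  have hnot : ¬ ((I : Set Γ(X, U)) ⊆ ⋃ x ∈ ((T.attach : Finset {x // x ∈ T}) : Set {x // x ∈ T}), P x) := by
    rw [Ideal.subset_union_prime (⟨x0, hx0⟩ : {x // x ∈ T}) ⟨x0, hx0⟩ (fun i _ _ _ => hP i)]
    rintro ⟨x, -, hx⟩
    obtain ⟨h, hhO, hxh⟩ := hU.exists_basicOpen_le ⟨x.1, hTO x.1 x.2⟩ (hTU x.1 x.2)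
    have : h ∈ P x := hx (show h ∈ I from hhO)
    exact (hmem x h).mp this hxh
  rw [Set.not_subset] at hnot
  obtain ⟨h, hhI, hh⟩ := hnot
  refine ⟨h, hhI, fun x hx => ?_⟩
  by_contra hxh
  apply hh
  simp only [Set.mem_iUnion]
  exact ⟨⟨x, hx⟩, Finset.mem_coe.mpr (Finset.mem_attach _ _), (hmem ⟨x, hx⟩ h).mpr hxh⟩


theorem main {X S : Scheme.{u}} (f : X ⟶ S) (hAF : SymProd.IsAF f) (d : ℕ)
    (x : ↥(SymProd.fibPow f d)) :
    ∃ U : (SymProd.fibPow f d).Opens, IsAffineOpen U ∧
      ∀ σ : Equiv.Perm (Fin d), (SymProd.permHom f d σ).base x ∈ U := by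
  classical
  set s : S := (WidePullback.base (fun _ : Fin d => f)) x with hs
  let T : Finset X := Finset.univ.image (fun i => (WidePullback.π (fun _ : Fin d => f) i) x)
  have hT : ∀ y ∈ T, f.base y = s := by
    intro y hy
    obtain ⟨i, -, rfl⟩ := Finset.mem_image.mp hy
    show f ((WidePullback.π (fun _ : Fin d => f) i) x) = s
    rw [← Scheme.Hom.comp_apply, WidePullback.π_arrow]
  obtain ⟨U, hU, hTU⟩ := hAF s T hT
  obtain ⟨_, ⟨V, hV, rfl⟩, hsV, -⟩ :=
    S.isBasis_affineOpens.exists_subset_of_mem_open (Set.mem_univ s) isOpen_univ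
  obtain ⟨h, hhO, hTh⟩ := exists_basicOpen_finset hU (U ⊓ f ⁻¹ᵁ V) T hTU (fun y hy =>
    ⟨hTU y hy, by show f y ∈ V; rw [show f y = s from hT y hy]; exact hsV⟩)
  have hU' : IsAffineOpen (X.basicOpen h) := hU.basicOpen h
  have hU'V : X.basicOpen h ≤ f ⁻¹ᵁ V := hhO.trans inf_le_right
  refine ⟨boxOpen f d (X.basicOpen h) V,
    isAffineOpen_boxOpen f d (X.basicOpen h) hU' V hV hU'V, fun σ => ?_⟩
  show (SymProd.permHom f d σ) x ∈ boxOpen f d (X.basicOpen h) V
  rw [mem_boxOpen]
  constructor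
  · rw [← Scheme.Hom.comp_apply, SymProd.permHom_base]
    exact hsV
  · intro i
    rw [← Scheme.Hom.comp_apply, SymProd.permHom_π]
    exact hTh _ (Finset.mem_image.mpr ⟨σ.symm i, Finset.mem_univ _, rfl⟩)

end Groth.Agent.Lead.SymAff
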