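import Mathlib
import Groth.Prelude.Def_SGA1
import Groth.Prelude.Def_SymProd
import Groth.Agent.Lib.Lead.SymAff1

set_option backward.isDefEq.respectTransparency.types false
set_option synthInstance.maxHeartbeats 400000
set_option linter.style.haveILetI false
set_option linter.unusedSectionVars false
set_option autoImplicit false

open CategoryTheory AlgebraicGeometry Opposite Limits TopologicalSpace

namespace Groth.Agent.Lead.QuotFin

universe u

section Alg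

variable {A B : Type*} [CommRing A] [CommRing B] (φ : A →+* B) {G : Type*} [Group G]
  (act : G → B →+* B)

/-- a (right) action of `G` on `B` by ring maps whose invariants are the image of `φ` -/
structure IsAct : Prop where
  one : ∀ b, act 1 b = b
  mul : ∀ g h b, act (g * h) b = act h (act g b)
  range : ∀ b, b ∈ Set.range φ ↔ ∀ g, act g b = b

variable {φ act}

theorem norm_invariant [Fintype G] (h : IsAct φ act) (b : B) (g : G) :
    act g (∏ x : G, act x b) = ∏ x : G, act x b := by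
  rw [map_prod]
  simp_rw [← h.mul]
  exact Fintype.prod_equiv (Equiv.mulRight g) _ _ (fun x => rfl)

theorem norm_mem_range [Fintype G] (h : IsAct φ act) (b : B) :
    ∃ a, φ a = ∏ x : G, act x b :=
  (h.range _).2 (norm_invariant h b)

theorem norm_eq_mul [Fintype G] [DecidableEq G] (h : IsAct φ act) (b : B) :
    ∃ c, ∏ x : G, act x b = b * c := by
  refine ⟨∏ x ∈ Finset.univ.erase (1 : G), act x b, ?_⟩
  rw [← Finset.mul_prod_erase Finset.univ (fun x => act x b) (Finset.mem_univ (1 : G)), h.one]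

theorem isIntegral [Finite G] (h : IsAct φ act) : φ.IsIntegral := by
  cases nonempty_fintype G
  letI : MulSemiringAction G B :=
    { smul := fun g b => act g⁻¹ b
      one_smul := fun b => by show act (1 : G)⁻¹ b = b; rw [inv_one, h.one]
      mul_smul := fun g k b => by
        show act (g * k)⁻¹ b = act g⁻¹ (act k⁻¹ b)
        rw [mul_inv_rev, h.mul]
      smul_zero := fun g => map_zero (act g⁻¹)
      smul_add := fun g a b => map_add (act g⁻¹) a b
      smul_one := fun g => map_one (act g⁻¹)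
      smul_mul := fun g a b => map_mul (act g⁻¹) a b }
  letI : Algebra A B := φ.toAlgebra
  haveI : Algebra.IsInvariant A B G := ⟨fun b hb => by
    have : b ∈ Set.range φ := (h.range b).2 (fun g => by
      have := hb g⁻¹
      rw [show g⁻¹ • b = act g⁻¹⁻¹ b from rfl, inv_inv] at this
      exact this)
    exact this⟩
  have := Algebra.IsInvariant.isIntegral A B G
  exact algebraMap_isIntegral_iff.mpr this

end Alg

section Sch

variable {P Y : Scheme.{u}} {G : Type u} [Group G] {ρ : G →* Aut P} {q : P ⟶ Y}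

/-- the action of `g` on the sections over an invariant open `q⁻¹ U` -/
noncomputable def act (hq : SGA1.IsQuot ρ q) (U : Y.Opens) (g : G) :
    Γ(P, q ⁻¹ᵁ U) →+* Γ(P, q ⁻¹ᵁ U) :=
  ((ρ g).hom.appLE (q ⁻¹ᵁ U) (q ⁻¹ᵁ U) (SGA1.preimage_le_of_inv ρ q hq.inv g U)).hom

theorem appLE_eq_of_eq {f f' : P ⟶ P} (h : f = f') (U V : P.Opens) (e : V ≤ f ⁻¹ᵁ U) :
    f.appLE U V e = f'.appLE U V (h ▸ e) := by subst h; rfl

theorem id_appLE' (U : P.Opens) (e : U ≤ (𝟙 P : P ⟶ P) ⁻¹ᵁ U) :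
    Scheme.Hom.appLE (𝟙 P : P ⟶ P) U U e = 𝟙 _ := by
  have h : Scheme.Hom.appLE (𝟙 P : P ⟶ P) U U e =
      Scheme.Hom.appLE (𝟙 P : P ⟶ P) U ((𝟙 P : P ⟶ P) ⁻¹ᵁ U) le_rfl := rfl
  rw [h, Scheme.Hom.appLE_eq_app, Scheme.Hom.id_app]

theorem isAct (hq : SGA1.IsQuot ρ q) (U : Y.Opens) : IsAct (q.app U).hom (act hq U) where
  one b := by
    unfold act
    have h1 : (ρ 1).hom = 𝟙 P := by rw [map_one]; rfl
    rw [appLE_eq_of_eq h1, id_appLE']
    rfl
  mul g h b := by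
    unfold act
    have h1 : (ρ (g * h)).hom = (ρ h).hom ≫ (ρ g).hom := by rw [map_mul]; rfl
    rw [appLE_eq_of_eq h1, ← CommRingCat.comp_apply, Scheme.Hom.appLE_comp_appLE]
  range := hq.range_iff U

theorem basicOpen_act (hq : SGA1.IsQuot ρ q) (U : Y.Opens) (g : G) (b : Γ(P, q ⁻¹ᵁ U)) :
    P.basicOpen (act hq U g b) = (ρ g).hom ⁻¹ᵁ (P.basicOpen b) := by
  unfold act
  rw [Scheme.basicOpen_appLE]
  apply le_antisymm inf_le_right
  refine le_inf ?_ le_rfl
  intro x hx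
  have h1 : (ρ g).hom x ∈ q ⁻¹ᵁ U := P.basicOpen_le b hx
  have h2 : q ((ρ g).hom x) = q x := by
    rw [← Scheme.Hom.comp_apply, hq.inv]
  show q x ∈ U
  rw [← h2]; exact h1

theorem apply_act_eq (hq : SGA1.IsQuot ρ q) (g : G) (p : P) : q ((ρ g).hom p) = q p := by
  rw [← Scheme.Hom.comp_apply, hq.inv]

theorem surjective [Finite G] (hq : SGA1.IsQuot ρ q) : Function.Surjective q := by
  intro y
  obtain ⟨_, ⟨U, hU, rfl⟩, hyU, -⟩ :=
    Y.isBasis_affineOpens.exists_subset_of_mem_open (Set.mem_univ y) isOpen_univ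
  have hV : IsAffineOpen (q ⁻¹ᵁ U) := haveI := hq.affine; hU.preimage q
  have hint := isIntegral (isAct hq U)
  have hsurj := hint.comap_surjective (hq.injective U)
  obtain ⟨𝔓, h𝔓⟩ := hsurj (hU.primeIdealOf ⟨y, hyU⟩)
  refine ⟨hV.fromSpec 𝔓, ?_⟩
  have h1 := IsAffineOpen.SpecMap_appLE_fromSpec q hU hV le_rfl
  rw [← Scheme.Hom.comp_apply, ← h1, Scheme.Hom.comp_apply]
  have h2 : (Spec.map (q.appLE U (q ⁻¹ᵁ U) le_rfl)) 𝔓 = hU.primeIdealOf ⟨y, hyU⟩ := by
    rw [← h𝔓, Scheme.Hom.appLE_eq_app]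
    rfl
  rw [h2]
  exact hU.fromSpec_primeIdealOf ⟨y, hyU⟩

/-- the norm trick: a point all of whose translates lie in the open `O`, over an open `U` with affine
preimage, has an invariant basic neighbourhood inside `O` -/
theorem exists_basicOpen_invariant [Finite G] (hq : SGA1.IsQuot ρ q) (U : Y.Opens)
    (hV : IsAffineOpen (q ⁻¹ᵁ U)) (O : P.Opens) (p : P) (hpU : q p ∈ U)
    (hpO : ∀ g : G, (ρ g).hom p ∈ O) :
    ∃ a : Γ(Y, U), q p ∈ Y.basicOpen a ∧ q ⁻¹ᵁ (Y.basicOpen a) ≤ O := by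
  classical
  cases nonempty_fintype G
  let T : Finset P := Finset.univ.image (fun g : G => (ρ g).hom p)
  have hTU : ∀ x ∈ T, x ∈ q ⁻¹ᵁ U := by
    intro x hx
    obtain ⟨g, -, rfl⟩ := Finset.mem_image.mp hx
    show q ((ρ g).hom p) ∈ U
    rw [apply_act_eq hq]; exact hpU
  have hTO : ∀ x ∈ T, x ∈ O := by
    intro x hx
    obtain ⟨g, -, rfl⟩ := Finset.mem_image.mp hx
    exact hpO g
  obtain ⟨b, hbO, hbT⟩ := SymAff.exists_basicOpen_finset hV O T hTU hTO
  obtain ⟨a, ha⟩ := norm_mem_range (isAct hq U) b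
  obtain ⟨c, hc⟩ := norm_eq_mul (isAct hq U) b
  have hpre : q ⁻¹ᵁ (Y.basicOpen a) = P.basicOpen (∏ x : G, act hq U x b) := by
    rw [Scheme.preimage_basicOpen, ← ha]
  refine ⟨a, ?_, ?_⟩
  · show p ∈ q ⁻¹ᵁ (Y.basicOpen a)
    rw [hpre, P.mem_basicOpen _ p hpU, map_prod, IsUnit.prod_univ_iff]
    intro g
    rw [← P.mem_basicOpen _ p hpU, basicOpen_act]
    exact hbT _ (Finset.mem_image.mpr ⟨g, Finset.mem_univ _, rfl⟩)
  · rw [hpre, hc, P.basicOpen_mul]
    exact inf_le_left.trans hbO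

/-- an invariant open is the preimage of an open of the quotient -/
theorem exists_opens_preimage_eq [Finite G] (hq : SGA1.IsQuot ρ q) (W : P.Opens)
    (hW : ∀ g : G, (ρ g).hom ⁻¹ᵁ W = W) : ∃ W' : Y.Opens, q ⁻¹ᵁ W' = W := by
  refine ⟨sSup {W'' : Y.Opens | q ⁻¹ᵁ W'' ≤ W}, le_antisymm ?_ ?_⟩
  · intro x hx
    obtain ⟨W'', hW'', hxW''⟩ := Opens.mem_sSup.mp (show q x ∈ _ from hx)
    exact hW'' hxW''
  · intro p hp
    obtain ⟨_, ⟨U, hU, rfl⟩, hyU, -⟩ :=
      Y.isBasis_affineOpens.exists_subset_of_mem_open (Set.mem_univ (q p)) isOpen_univ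
    have hV : IsAffineOpen (q ⁻¹ᵁ U) := haveI := hq.affine; hU.preimage q
    obtain ⟨a, ha1, ha2⟩ := exists_basicOpen_invariant hq U hV W p hyU (fun g => by
      have : p ∈ (ρ g).hom ⁻¹ᵁ W := by rw [hW g]; exact hp
      exact this)
    exact Opens.mem_sSup.mpr ⟨Y.basicOpen a, ha2, ha1⟩

/-- an open of the quotient with affine preimage is affine -/
theorem isAffineOpen_of_preimage [Finite G] (hq : SGA1.IsQuot ρ q) (W' : Y.Opens)
    (hW : IsAffineOpen (q ⁻¹ᵁ W')) : IsAffineOpen W' := by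
  let s : Set Γ(Y, W') := {a | IsAffineOpen (Y.basicOpen a)}
  refine isAffineOpen_of_isAffineOpen_basicOpen W' s ?_ (fun i hi => hi)
  by_contra hne
  obtain ⟨m, hm, hsm⟩ := Ideal.exists_le_maximal _ hne
  have hint := isIntegral (isAct hq W')
  have hsurj := hint.comap_surjective (hq.injective W')
  obtain ⟨𝔓, h𝔓⟩ := hsurj ⟨m, hm.isPrime⟩
  set p' : P := hW.fromSpec 𝔓 with hp'
  have hp'W : p' ∈ q ⁻¹ᵁ W' := by
    have : p' ∈ Set.range hW.fromSpec := ⟨𝔓, rfl⟩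
    rw [hW.range_fromSpec] at this
    exact this
  obtain ⟨_, ⟨U, hU, rfl⟩, hyU, hUW⟩ :=
    Y.isBasis_affineOpens.exists_subset_of_mem_open (show q p' ∈ (W' : Set Y) from hp'W) W'.2
  obtain ⟨a, ha1, ha2⟩ := exists_basicOpen_invariant hq W' hW (q ⁻¹ᵁ U) p' hp'W (fun g => by
    show q ((ρ g).hom p') ∈ U
    rw [apply_act_eq hq]; exact hyU)
  have haU : Y.basicOpen a ≤ U := by
    intro y hy
    obtain ⟨x, rfl⟩ := surjective hq y
    exact ha2 hy
  have haff : IsAffineOpen (Y.basicOpen a) := by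
    have h1 := hU.basicOpen (Y.presheaf.map (homOfLE hUW).op a)
    rw [Y.basicOpen_res] at h1
    rwa [inf_eq_right.mpr haU] at h1
  have ham : a ∈ m := hsm (Ideal.subset_span haff)
  have h1 : (q.app W').hom a ∈ 𝔓.asIdeal := by
    have : a ∈ (PrimeSpectrum.comap (q.app W').hom 𝔓).asIdeal := by rw [h𝔓]; exact ham
    exact this
  have h2 : 𝔓 ∈ hW.fromSpec ⁻¹ᵁ (P.basicOpen ((q.app W').hom a)) := by
    show p' ∈ P.basicOpen ((q.app W').hom a)
    have : p' ∈ q ⁻¹ᵁ (Y.basicOpen a) := ha1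
    rwa [Scheme.preimage_basicOpen] at this
  rw [hW.fromSpec_preimage_basicOpen] at h2
  exact h2 h1

end Sch

section Main

theorem main {X S Y : Scheme.{u}} (f : X ⟶ S) (hAF : SymProd.IsAF f)
    (𝒮 : Set S.Opens) (h𝒮 : ∀ V ∈ 𝒮, IsAffineOpen V) (hcov : ∀ s : S, ∃ V ∈ 𝒮, s ∈ V)
    (d : ℕ) (hd : 0 < d) (q : SymProd.fibPow f d ⟶ Y) (g : Y ⟶ S)
    (hq : SymProd.IsSymProd f d q g) (y : Y) :
    ∃ V ∈ 𝒮, ∃ U : X.Opens, IsAffineOpen U ∧ U ≤ f ⁻¹ᵁ V ∧
      ∃ W : (SymProd.fibPow f d).Opens,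
        (W : Set ↥(SymProd.fibPow f d)) =
          ⋂ i : Fin d, (WidePullback.π (fun _ : Fin d => f) i).base ⁻¹' (U : Set X) ∧
        IsAffineOpen W ∧ (∀ σ : Equiv.Perm (Fin d), (SymProd.permHom f d σ) ⁻¹ᵁ W = W) ∧
        ∃ W' : Y.Opens, y ∈ W' ∧ IsAffineOpen W' ∧ q ⁻¹ᵁ W' = W := by
  classical
  haveI : Finite (ULift.{u} (Equiv.Perm (Fin d))) := inferInstance
  obtain ⟨p, rfl⟩ := surjective hq.isQuot y
  set s : S := (WidePullback.base (fun _ : Fin d => f)) p with hs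
  obtain ⟨V, hV𝒮, hsV⟩ := hcov s
  let T : Finset X := Finset.univ.image (fun i => (WidePullback.π (fun _ : Fin d => f) i) p)
  have hT : ∀ x ∈ T, f.base x = s := by
    intro x hx
    obtain ⟨i, -, rfl⟩ := Finset.mem_image.mp hx
    show f ((WidePullback.π (fun _ : Fin d => f) i) p) = s
    rw [← Scheme.Hom.comp_apply, WidePullback.π_arrow]
  obtain ⟨U₀, hU₀, hTU₀⟩ := hAF s T hT
  obtain ⟨h, hhO, hTh⟩ := SymAff.exists_basicOpen_finset hU₀ (U₀ ⊓ f ⁻¹ᵁ V) T hTU₀ (fun x hx =>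
    ⟨hTU₀ x hx, by show f x ∈ V; rw [show f x = s from hT x hx]; exact hsV⟩)
  have hU' : IsAffineOpen (X.basicOpen h) := hU₀.basicOpen h
  have hU'V : X.basicOpen h ≤ f ⁻¹ᵁ V := hhO.trans inf_le_right
  have hWaff := SymAff.isAffineOpen_boxOpen f d (X.basicOpen h) hU' V (h𝒮 V hV𝒮) hU'V
  have hinv : ∀ σ : Equiv.Perm (Fin d),
      (SymProd.permHom f d σ) ⁻¹ᵁ (SymAff.boxOpen f d (X.basicOpen h) V) =
        SymAff.boxOpen f d (X.basicOpen h) V := by
    intro σ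
    ext z
    show (SymProd.permHom f d σ) z ∈ SymAff.boxOpen f d (X.basicOpen h) V ↔
      z ∈ SymAff.boxOpen f d (X.basicOpen h) V
    rw [SymAff.mem_boxOpen, SymAff.mem_boxOpen, ← Scheme.Hom.comp_apply, SymProd.permHom_base]
    constructor
    · rintro ⟨h1, h2⟩
      refine ⟨h1, fun i => ?_⟩
      have := h2 (σ i)
      rwa [← Scheme.Hom.comp_apply, SymProd.permHom_π, Equiv.symm_apply_apply] at this
    · rintro ⟨h1, h2⟩
      refine ⟨h1, fun i => ?_⟩
      rw [← Scheme.Hom.comp_apply, SymProd.permHom_π]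
      exact h2 _
  obtain ⟨W', hW'⟩ := exists_opens_preimage_eq hq.isQuot (SymAff.boxOpen f d (X.basicOpen h) V)
    (fun σ => hinv σ.down)
  refine ⟨V, hV𝒮, X.basicOpen h, hU', hU'V, SymAff.boxOpen f d (X.basicOpen h) V, ?_, hWaff, hinv,
    W', ?_, ?_, hW'⟩
  · ext z
    rw [SetLike.mem_coe, SymAff.mem_boxOpen, Set.mem_iInter]
    constructor
    · exact fun hz => hz.2
    · intro hz
      refine ⟨?_, hz⟩
      have h0 : f ((WidePullback.π (fun _ : Fin d => f) ⟨0, hd⟩) z) ∈ V := hU'V (hz ⟨0, hd⟩)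
      rwa [← Scheme.Hom.comp_apply, WidePullback.π_arrow] at h0
  · show p ∈ q ⁻¹ᵁ W'
    rw [hW', SymAff.mem_boxOpen]
    exact ⟨hsV, fun i => hTh _ (Finset.mem_image.mpr ⟨i, Finset.mem_univ _, rfl⟩)⟩
  · apply isAffineOpen_of_preimage hq.isQuot W'
    rw [hW']; exact hWaff

end Main

end Groth.Agent.Lead.QuotFin
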