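import Mathlib
import Groth.Agent.Lib.Helper4.GrpKer2
import Groth.Agent.Lib.Helper2.Sch.SubGrpMono

set_option backward.isDefEq.respectTransparency.types false
set_option autoImplicit false
set_option synthInstance.maxHeartbeats 400000
set_option maxHeartbeats 1000000
set_option linter.style.haveILetI false
set_option linter.unusedSectionVars false
set_option linter.unusedSimpArgs false

universe u

open CategoryTheory CategoryTheory.Limits
open MonoidalCategory CartesianMonoidalCategory MonObj GrpObj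
open Groth.Agent.Lib.Helper4.GrpKer2

namespace Groth.Agent.Lead.QuotFl

section cat
variable {C : Type*} [Category C] [CartesianMonoidalCategory C]

theorem lift_one_act {G' G T : C} [GrpObj G] (b : G' ⟶ G) (g' : T ⟶ G') :
    lift g' (toUnit T ≫ η[G]) ≫ (b ▷ G) ≫ μ[G] = g' ≫ b := by
  rw [lift_whiskerRight_assoc, ← Hom.mul_def, ← Hom.one_def, _root_.mul_one]

/-- the fibre of the quotient map `G ⟶ G/G'` over the unit point is `G'` -/
theorem isPullback_fibre_of_quot {G' G Y : C} [GrpObj G] (b : G' ⟶ G) (q : G ⟶ Y)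
    (hq : IsPullback ((b ▷ G) ≫ μ[G]) (snd G' G) q q) :
    IsPullback b (toUnit G') q (η[G] ≫ q) := by
  refine isPullback_of_points _ _ _ _ ?_ ?_ ?_
  · have h2 := congrArg (fun f => lift (𝟙 G') (toUnit G' ≫ η[G]) ≫ f) hq.w
    simp only [Category.assoc] at h2
    rw [← Category.assoc (b ▷ G), ← Category.assoc, lift_one_act, lift_snd_assoc,
      Category.id_comp] at h2
    simpa only [Category.assoc] using h2
  · intro T a t hat
    have ht : t = toUnit T := toUnit_unique _ _
    subst ht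
    let z : T ⟶ G' ⊗ G := hq.lift a (toUnit T ≫ η[G]) (by simpa only [Category.assoc] using hat)
    have hz1 : z ≫ (b ▷ G) ≫ μ[G] = a := hq.lift_fst _ _ _
    have hz2 : z ≫ snd G' G = toUnit T ≫ η[G] := hq.lift_snd _ _ _
    refine ⟨z ≫ fst G' G, ?_, toUnit_unique _ _⟩
    have hz : z = lift (z ≫ fst G' G) (toUnit T ≫ η[G]) := by
      apply CartesianMonoidalCategory.hom_ext
      · rw [lift_fst]
      · rw [lift_snd, hz2]
    rw [← lift_one_act b (z ≫ fst G' G), ← hz, hz1]
  · intro T s t h1 _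
    have h3 : lift s (toUnit T ≫ η[G]) = lift t (toUnit T ≫ η[G]) := by
      apply hq.hom_ext
      · rw [lift_one_act, lift_one_act, h1]
      · rw [lift_snd, lift_snd]
    have := congrArg (fun f => f ≫ fst G' G) h3
    simpa only [lift_fst] using this

/-- the pullback of a homomorphism along a monomorphic homomorphism is a group object -/
theorem exists_grpObj_pullback {F G G' K : C} [GrpObj F] [GrpObj G] [GrpObj G']
    (u : F ⟶ G) [IsMonHom u] (b : G' ⟶ G) [IsMonHom b] [Mono b]
    (i : K ⟶ F) (j : K ⟶ G') (h : IsPullback i j u b) :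
    ∃ (_ : GrpObj K), IsMonHom i ∧ IsMonHom j := by
  haveI : Mono i := h.mono_fst_of_mono
  have w1 : η[F] ≫ u = η[G'] ≫ b := by
    rw [IsMonHom.one_hom (f := u), IsMonHom.one_hom (f := b)]
  have w2 : ((i ⊗ₘ i) ≫ μ[F]) ≫ u = ((j ⊗ₘ j) ≫ μ[G']) ≫ b := by
    rw [Category.assoc, Category.assoc, IsMonHom.mul_hom (f := u), IsMonHom.mul_hom (f := b),
      ← Category.assoc, ← Category.assoc, tensorHom_comp_tensorHom,
      tensorHom_comp_tensorHom, h.w]
  have w3 : (i ≫ ι[F]) ≫ u = (j ≫ ι[G']) ≫ b := by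
    rw [← Hom.inv_def, ← Hom.inv_def, GrpObj.inv_comp, GrpObj.inv_comp, h.w]
  let e : 𝟙_ C ⟶ K := h.lift η[F] η[G'] w1
  let m : K ⊗ K ⟶ K := h.lift _ _ w2
  let v : K ⟶ K := h.lift _ _ w3
  have he : e ≫ i = η[F] := h.lift_fst _ _ _
  have hm : m ≫ i = (i ⊗ₘ i) ≫ μ[F] := h.lift_fst _ _ _
  have hv : v ≫ i = i ≫ ι[F] := h.lift_fst _ _ _
  letI inst : GrpObj K := Groth.Agent.Helper2.SubGrp.grpObjOfMono i e he m hm v hv
  refine ⟨inst, ⟨he, hm⟩, ⟨?_, ?_⟩⟩
  · exact h.lift_snd _ _ _
  · exact h.lift_snd _ _ _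

end cat

end Groth.Agent.Lead.QuotFl
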