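import Mathlib

set_option backward.isDefEq.respectTransparency.types false
set_option autoImplicit false
set_option synthInstance.maxHeartbeats 400000
set_option maxHeartbeats 1000000
set_option linter.style.haveILetI false
set_option linter.unusedSectionVars false
set_option linter.unusedSimpArgs false

universe u

namespace Groth.Agent.Lead.QuotRed

/-- Noetherianity descends along faithfully flat ring maps -/
theorem isNoetherianRing_of_faithfullyFlat (B C : Type*) [CommRing B] [CommRing C] [Algebra B C]
    [Module.FaithfullyFlat B C] [IsNoetherianRing C] : IsNoetherianRing B := by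
  rw [isNoetherianRing_iff, isNoetherian_iff'] 
  have hmono : StrictMono (Ideal.map (algebraMap B C)) :=
    Monotone.strictMono_of_injective (fun _ _ h => Ideal.map_mono h)
      Ideal.map_injective_of_faithfullyFlat
  haveI : WellFoundedGT (Ideal C) := (isNoetherian_iff' (R := C) (M := C)).mp inferInstance
  exact hmono.wellFoundedGT

/-- Lemma D: a `k`-algebra with a unique prime, a `k`-rational point and a flat map to a nonzero
Noetherian ring is finite over `k`. -/
theorem finite_of_unique_prime (k B C : Type*) [Field k] [CommRing B] [CommRing C] [Algebra k B]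
    (ε : B →ₐ[k] k) (hprime : ∀ P Q : Ideal B, P.IsPrime → Q.IsPrime → P = Q)
    [Algebra B C] [Module.Flat B C] [Nontrivial C] [IsNoetherianRing C] : Module.Finite k B := by
  haveI : Nontrivial B := ε.toRingHom.domain_nontrivial
  -- faithfully flat
  haveI : Module.FaithfullyFlat B C := by
    refine Module.FaithfullyFlat.of_comap_surjective fun P => ?_
    obtain ⟨Q⟩ := (inferInstance : Nonempty (PrimeSpectrum C))
    refine ⟨Q, ?_⟩
    apply PrimeSpectrum.ext
    exact hprime _ _ (PrimeSpectrum.comap (algebraMap B C) Q).isPrime P.isPrime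
  haveI : IsNoetherianRing B := isNoetherianRing_of_faithfullyFlat B C
  have hmax : ∀ I : Ideal B, I.IsPrime → I.IsMaximal := by
    intro I hI
    obtain ⟨M, hM⟩ := Ideal.exists_maximal B
    rw [hprime I M hI hM.isPrime]
    exact hM
  haveI : Ring.KrullDimLE 0 B := Ring.KrullDimLE.mk₀ hmax
  haveI : IsArtinianRing B := IsNoetherianRing.isArtinianRing_of_krullDimLE_zero
  -- the kernel of ε is the Jacobson radical
  have hker : RingHom.ker ε.toRingHom = Ring.jacobson B := by
    haveI : (RingHom.ker ε.toRingHom).IsPrime := RingHom.ker_isPrime _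
    apply le_antisymm
    · rw [Ring.jacobson_eq_sInf_isMaximal]
      refine le_sInf fun M hM => ?_
      rw [hprime M _ (Ideal.IsMaximal.isPrime hM) (inferInstance : (RingHom.ker ε.toRingHom).IsPrime)]
    · rw [Ring.jacobson_eq_sInf_isMaximal]
      exact sInf_le (hmax _ inferInstance)
  haveI : Module.Finite k (B ⧸ Ring.jacobson B) := by
    refine Module.Finite.of_surjective
      ((Ideal.Quotient.mkₐ k (Ring.jacobson B)).toLinearMap.comp (Algebra.linearMap k B)) ?_
    intro y
    obtain ⟨b, rfl⟩ := Ideal.Quotient.mk_surjective y
    refine ⟨ε b, ?_⟩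
    show Ideal.Quotient.mk _ (algebraMap k B (ε b)) = Ideal.Quotient.mk _ b
    rw [Ideal.Quotient.eq, ← hker, RingHom.mem_ker]
    simp
  exact IsSemiprimaryRing.finite_of_isArtinian k B B

end Groth.Agent.Lead.QuotRed
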