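import Mathlib
import Groth.Prelude.Def_Red
import Groth.Agent.Lib.Lead.QuotRed1
import Groth.Agent.Lib.Helper4.GrpKer2

set_option backward.isDefEq.respectTransparency.types false
set_option autoImplicit false
set_option synthInstance.maxHeartbeats 400000
set_option maxHeartbeats 1000000
set_option linter.style.haveILetI false
set_option linter.unusedSectionVars false
set_option linter.unusedSimpArgs false

universe u

open CategoryTheory CategoryTheory.Limits AlgebraicGeometry
open MonoidalCategory CartesianMonoidalCategory MonObj GrpObj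
open Groth.Agent.Lib.Helper4.GrpKer2

namespace Groth.Agent.Lead.QuotRed

section cat
variable {C : Type*} [Category C] [CartesianMonoidalCategory C]

theorem isPullback_whiskerRight {F G : C} (u : F ⟶ G) (Y : C) :
    IsPullback (u ▷ Y) (fst F Y) (fst G Y) u := by
  refine isPullback_of_points _ _ _ _ (whiskerRight_fst u Y) ?_ ?_
  · intro T a b hab
    refine ⟨lift b (a ≫ snd G Y), ?_, lift_fst _ _⟩
    apply CartesianMonoidalCategory.hom_ext
    · rw [Category.assoc, whiskerRight_fst, lift_fst_assoc, hab]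
    · rw [Category.assoc, whiskerRight_snd, lift_snd]
  · intro T s t h1 h2
    apply CartesianMonoidalCategory.hom_ext
    · exact h2
    · have := congrArg (· ≫ snd G Y) h1
      simpa only [Category.assoc, whiskerRight_snd] using this

theorem psi_mul {G : C} [GrpObj G] :
    lift (fst G G * (snd G G)⁻¹) (snd G G) ≫ μ[G] = fst G G := by
  rw [← Hom.mul_def, inv_mul_cancel_right]

end cat

theorem main6084 (k : Type u) [Field k]
    (F G : Over (Spec (CommRingCat.of k))) [GrpObj F] [GrpObj G] [LocallyOfFiniteType G.hom]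
    (u : F ⟶ G) [Surjective u.left]
    (X : Over (Spec (CommRingCat.of k))) (p : G ⟶ X) [Flat p.left] [Surjective p.left]
    (hw : ((u ▷ G) ≫ μ[G]) ≫ p = snd F G ≫ p) :
    IsAffine X.left ∧
      (∃ x : X.left, (Set.univ : Set X.left) = {x} ∧ IsIso (X.hom.residueFieldMap x)) ∧
      ((Scheme.ΓSpecIso (CommRingCat.of k)).inv ≫ X.hom.appTop).hom.Finite := by
  haveI : Subsingleton ↥(Spec (CommRingCat.of k)) :=
    inferInstanceAs (Subsingleton (PrimeSpectrum k))
  let pt : ↥(Spec (CommRingCat.of k)) := IsLocalRing.closedPoint k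
  -- Step A: any two points of `G` have the same image
  have hA : ∀ g1 g2 : G.left, p.left g1 = p.left g2 := by
    intro g1 g2
    obtain ⟨z, hz1, hz2⟩ := Scheme.Pullback.exists_preimage_pullback (f := G.hom) (g := G.hom)
      g1 g2 (Subsingleton.elim _ _)
    let ψ : G ⊗ G ⟶ G ⊗ G := lift (fst G G * (snd G G)⁻¹) (snd G G)
    haveI : Surjective (u ▷ G).left := MorphismProperty.of_isPullback (P := @Surjective)
      (isPullback_left (isPullback_whiskerRight u G).flip) inferInstance
    obtain ⟨t, ht⟩ := (u ▷ G).left.surjective (ψ.left z)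
    have e1 : ((u ▷ G) ≫ μ[G]).left t = g1 := by
      have h1 : ((u ▷ G) ≫ μ[G]).left t = (ψ ≫ μ[G]).left z := by
        rw [Over.comp_left, Over.comp_left, Scheme.Hom.comp_apply, Scheme.Hom.comp_apply, ht]
      rw [h1, psi_mul, Over.fst_left]
      exact hz1
    have e2 : (snd F G).left t = g2 := by
      have h0 : snd F G = (u ▷ G) ≫ snd G G := (whiskerRight_snd u G).symm
      have h1 : (snd F G).left t = (ψ ≫ snd G G).left z := by
        rw [h0, Over.comp_left, Over.comp_left, Scheme.Hom.comp_apply, Scheme.Hom.comp_apply, ht]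
      rw [h1, lift_snd, Over.snd_left]
      exact hz2
    have h3 := congrArg (fun f => f.left t) hw
    simp only [Over.comp_left, Scheme.Hom.comp_apply] at h3
    rw [← e1, ← e2]
    simp only [Over.comp_left, Scheme.Hom.comp_apply]
    exact h3
  let x : X.left := p.left ((η[G]).left pt)
  have hx : ∀ y : X.left, y = x := by
    intro y
    obtain ⟨g, rfl⟩ := p.left.surjective y
    exact hA _ _
  -- Step B
  haveI hAff : IsAffine X.left := by
    obtain ⟨W, hW, hxW, -⟩ := exists_isAffineOpen_mem_and_subset (x := x)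
      (U := (⊤ : X.left.Opens)) trivial
    have hWtop : W = ⊤ := by
      ext y
      simp only [TopologicalSpace.Opens.coe_top, Set.mem_univ, iff_true, SetLike.mem_coe]
      rw [hx y]; exact hxW
    rw [hWtop] at hW
    haveI : IsAffine (↑(⊤ : X.left.Opens)) := hW
    exact IsAffine.of_isIso (X.left.topIso.inv)
  -- the rational point
  let e : 𝟙_ (Over (Spec (CommRingCat.of k))) ⟶ X := η[G] ≫ p
  have he : e.left ≫ X.hom = 𝟙 _ := Over.w e
  refine ⟨hAff, ⟨x, ?_, ?_⟩, ?_⟩
  · ext y
    simp only [Set.mem_univ, Set.mem_singleton_iff, true_iff]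
    exact hx y
  · -- Step C
    have h1 : (e.left ≫ X.hom).residueFieldMap pt =
        X.hom.residueFieldMap (e.left pt) ≫ e.left.residueFieldMap pt :=
      Scheme.residueFieldMap_comp _ _ _
    haveI : IsOpenImmersion (e.left ≫ X.hom) := by rw [he]; infer_instance
    haveI h2' : IsIso ((e.left ≫ X.hom).residueFieldMap pt) :=
      Scheme.instIsIsoCommRingCatResidueFieldMapOfIsOpenImmersion (e.left ≫ X.hom) pt
    haveI h2 : IsIso (X.hom.residueFieldMap (e.left pt) ≫ e.left.residueFieldMap pt) := by
      rw [← h1]; exact h2'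
    haveI : Mono (e.left.residueFieldMap pt) :=
      ConcreteCategory.mono_of_injective _ (e.left.residueFieldMap pt).hom.injective
    haveI : IsSplitEpi (e.left.residueFieldMap pt) :=
      ⟨⟨inv (X.hom.residueFieldMap (e.left pt) ≫ e.left.residueFieldMap pt) ≫
        X.hom.residueFieldMap (e.left pt), by rw [Category.assoc, IsIso.inv_hom_id]⟩⟩
    haveI : IsIso (e.left.residueFieldMap pt) := isIso_of_mono_of_isSplitEpi _
    exact IsIso.of_isIso_comp_right (X.hom.residueFieldMap (e.left pt))
      (e.left.residueFieldMap pt)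
  · -- Step D
    haveI : IsLocallyNoetherian G.left := LocallyOfFiniteType.isLocallyNoetherian G.hom
    obtain ⟨V, hV, hgV, -⟩ := exists_isAffineOpen_mem_and_subset (x := (η[G]).left pt)
      (U := (⊤ : G.left.Opens)) trivial
    have hle : V ≤ p.left ⁻¹ᵁ (⊤ : X.left.Opens) := fun _ _ => trivial
    let ψ : Γ(X.left, ⊤) ⟶ Γ(G.left, V) := p.left.appLE ⊤ V hle
    have hψ : ψ.hom.Flat := HasRingHomProperty.appLE (P := @Flat) p.left inferInstance
      ⟨⊤, isAffineOpen_top X.left⟩ ⟨V, hV⟩ hle
    let φ : CommRingCat.of k ⟶ Γ(X.left, ⊤) :=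
      (Scheme.ΓSpecIso (CommRingCat.of k)).inv ≫ X.hom.appTop
    let ε0 : Γ(X.left, ⊤) ⟶ CommRingCat.of k :=
      e.left.appTop ≫ (Scheme.ΓSpecIso (CommRingCat.of k)).hom
    have hφε : φ ≫ ε0 = 𝟙 _ := by
      show ((Scheme.ΓSpecIso (CommRingCat.of k)).inv ≫ X.hom.appTop) ≫
        e.left.appTop ≫ (Scheme.ΓSpecIso (CommRingCat.of k)).hom = 𝟙 _
      rw [Category.assoc, ← Category.assoc X.hom.appTop, ← Scheme.Hom.comp_appTop, he]
      simp
    letI algB : Algebra k Γ(X.left, ⊤) := φ.hom.toAlgebra
    letI algC : Algebra Γ(X.left, ⊤) Γ(G.left, V) := ψ.hom.toAlgebra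
    haveI : Module.Flat Γ(X.left, ⊤) Γ(G.left, V) := hψ
    haveI : Nonempty ↥V := ⟨⟨_, hgV⟩⟩
    haveI : Nontrivial Γ(G.left, V) := inferInstance
    haveI : IsNoetherianRing Γ(G.left, V) :=
      IsLocallyNoetherian.component_noetherian (X := G.left) ⟨V, hV⟩
    let ε : Γ(X.left, ⊤) →ₐ[k] k :=
      { ε0.hom with
        commutes' := fun r => by
          have := congrArg (fun f => f.hom r) hφε
          exact this }
    have hprime : ∀ P Q : Ideal Γ(X.left, ⊤), P.IsPrime → Q.IsPrime → P = Q := by
      intro P Q hP hQ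
      haveI : Subsingleton X.left := ⟨fun a b => (hx a).trans (hx b).symm⟩
      haveI : Subsingleton ↥(Spec Γ(X.left, ⊤)) :=
        X.left.isoSpec.hom.homeomorph.symm.subsingleton
      have := Subsingleton.elim (α := ↥(Spec Γ(X.left, ⊤))) ⟨P, hP⟩ ⟨Q, hQ⟩
      exact congrArg PrimeSpectrum.asIdeal this
    exact finite_of_unique_prime k Γ(X.left, ⊤) Γ(G.left, V) ε hprime

end Groth.Agent.Lead.QuotRed
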