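import Mathlib
import Groth.Prelude.Def_Red
import Groth.Agent.Lib.Lead.QuotFl1
import Groth.Agent.Lib.Lead.QuotFl2
import Groth.Agent.Lib.Lead.QuotRed2
import Groth.Agent.Lib.Lead.NeutF1
import Groth.Agent.Lib.Helper7.FlatDescentScheme

set_option backward.isDefEq.respectTransparency.types false
set_option autoImplicit false
set_option synthInstance.maxHeartbeats 400000
set_option maxHeartbeats 1000000
set_option linter.style.haveILetI false
set_option linter.unusedSectionVars false
set_option linter.unusedSimpArgs false

universe u

open CategoryTheory CategoryTheory.Limits AlgebraicGeometry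
open MonoidalCategory CartesianMonoidalCategory MonObj GrpObj
open Groth.Agent.Lib.Helper4.GrpKer2

namespace Groth.Agent.Lead.QuotFl

/-- transport of the dominance condition on neutral components along homeomorphisms -/
theorem neutral_closure_transport {A B A' B' : Type*} [TopologicalSpace A] [TopologicalSpace B]
    [TopologicalSpace A'] [TopologicalSpace B'] (f : A → B) (j : A' → B') (i : A' → A)
    (b : B' → B) (hcomm : ∀ x, f (i x) = b (j x)) (hi : IsHomeomorph i)
    (hb : Topology.IsClosedEmbedding b) (eA : A') (eB : B')
    (h : connectedComponent (b eB) ⊆ closure (f '' connectedComponent (i eA))) :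
    connectedComponent eB ⊆ closure (j '' connectedComponent eA) := by
  intro g' hg'
  have h1 : b g' ∈ connectedComponent (b eB) :=
    hb.continuous.image_connectedComponent_subset eB ⟨g', hg', rfl⟩
  have h2 := h h1
  have h3 : connectedComponent (i eA) ⊆ i '' connectedComponent eA := by
    intro z hz
    have hz' : (hi.homeomorph i).symm z ∈ connectedComponent ((hi.homeomorph i).symm (i eA)) :=
      (hi.homeomorph i).symm.continuous.image_connectedComponent_subset (i eA) ⟨z, hz, rfl⟩
    have e1 : (hi.homeomorph i).symm (i eA) = eA := (hi.homeomorph i).symm_apply_apply eA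
    rw [e1] at hz'
    exact ⟨_, hz', (hi.homeomorph i).apply_symm_apply z⟩
  have h4 : f '' (i '' connectedComponent eA) = b '' (j '' connectedComponent eA) := by
    rw [Set.image_image, Set.image_image]
    exact Set.image_congr fun x _ => hcomm x
  have h5 : b g' ∈ closure (b '' (j '' connectedComponent eA)) := by
    rw [← h4]
    exact closure_mono (Set.image_mono h3) h2
  rw [hb.closure_image_eq] at h5
  obtain ⟨z, hz, hzg⟩ := h5
  rw [← hb.injective hzg]
  exact hz

/-- a homomorphism to a reduced group whose image of the neutral component is dense in the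
neutral component is flat -/
theorem flat_of_neutral_subset_closure_image (k : Type u) [Field k]
    (G H : Over (Spec (CommRingCat.of k))) [GrpObj G] [GrpObj H]
    [LocallyOfFiniteType G.hom] [LocallyOfFiniteType H.hom] [IsReduced H.left]
    (u : G ⟶ H) [IsMonHom u]
    (hsub : connectedComponent ((η[H]).left (IsLocalRing.closedPoint k)) ⊆
      closure (u.left '' connectedComponent ((η[G]).left (IsLocalRing.closedPoint k)))) :
    Flat u.left := by
  obtain ⟨G₀, H₀, instG, instH, iG, iH, φ, hiG, hiH, hφm, hoG, hoH, hφ, hrG, hrH, hirr, hcG,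
    hlG, hlH⟩ := Groth.Agent.Lead.Neut.exists_neutral_hom k G H u
  letI := instG
  letI := instH
  haveI := hiG
  haveI := hiH
  haveI := hφm
  haveI := hoG
  haveI := hoH
  haveI := hlG
  haveI := hlH
  haveI := hcG
  have hφl : φ.left ≫ iH.left = iG.left ≫ u.left := by
    have := congrArg (fun f => f.left) hφ
    exact this
  haveI : IsReduced H₀.left := isReduced_of_isOpenImmersion iH.left
  haveI : IsLocallyNoetherian H₀.left := LocallyOfFiniteType.isLocallyNoetherian H₀.hom
  haveI : QuasiSeparatedSpace ↥H₀.left := inferInstance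
  haveI : QuasiCompact φ.left := inferInstance
  have hdense : DenseRange φ.left := by
    intro h₀
    rw [iH.left.isOpenEmbedding.isInducing.closure_eq_preimage_closure_image]
    have h1 : iH.left h₀ ∈ connectedComponent ((η[H]).left (IsLocalRing.closedPoint k)) := by
      rw [← hrH]; exact ⟨h₀, rfl⟩
    have h2 := hsub h1
    have h3 : u.left '' connectedComponent ((η[G]).left (IsLocalRing.closedPoint k)) =
        iH.left '' Set.range φ.left := by
      rw [← hrG]
      ext z
      constructor
      · rintro ⟨_, ⟨g₀, rfl⟩, rfl⟩
        refine ⟨φ.left g₀, ⟨g₀, rfl⟩, ?_⟩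
        rw [← Scheme.Hom.comp_apply, hφl, Scheme.Hom.comp_apply]
      · rintro ⟨_, ⟨g₀, rfl⟩, rfl⟩
        refine ⟨iG.left g₀, ⟨g₀, rfl⟩, ?_⟩
        rw [← Scheme.Hom.comp_apply, ← hφl, Scheme.Hom.comp_apply]
    rw [h3] at h2
    exact h2
  haveI : Flat φ.left := Groth.Agent.Helper2.GrpHom.flat_of_denseRange_of_isReduced φ hdense
  haveI : Flat (iG.left ≫ u.left) := by rw [← hφl]; infer_instance
  let e₀ : G₀.left := (η[G₀]).left (IsLocalRing.closedPoint k)
  have h1 : Groth.Agent.Helper2.FlatPt.FlatAt (iG.left ≫ u.left) e₀ :=
    Groth.Agent.Helper2.FlatPt.flatAt_of_flat _ _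
  have h2 := (Groth.Agent.Helper2.FlatPt.flatAt_comp_openImmersion_iff iG.left u.left e₀).1 h1
  exact Groth.Agent.Helper2.GrpHom.flat_of_flatAt_field u _ h2

theorem main6089 (k : Type u) [Field k]
    (F G G' : Over (Spec (CommRingCat.of k))) [GrpObj F] [GrpObj G] [GrpObj G']
    [LocallyOfFiniteType F.hom] [LocallyOfFiniteType G.hom] (u : F ⟶ G) [IsMonHom u]
    [IsReduced G'.left] (b : G' ⟶ G) [IsMonHom b] [IsClosedImmersion b.left] [Surjective b.left]
    (X Y : Over (Spec (CommRingCat.of k))) (p : F ⟶ X) [Flat p.left] [Surjective p.left]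
    (q : G ⟶ Y) [Flat q.left] [Surjective q.left] [LocallyOfFinitePresentation q.left]
    (hq : IsPullback ((b ▷ G) ≫ μ[G]) (snd G' G) q q)
    (v : X ⟶ Y) (hv : p ≫ v = u ≫ q) :
    Flat u.left ↔
      ((∀ p₀ : (𝟙_ (Over (Spec (CommRingCat.of k)))).left,
          connectedComponent ((η[G] : (𝟙_ (Over (Spec (CommRingCat.of k)))) ⟶ G).left.base p₀) ⊆
          closure (u.left.base '' connectedComponent
            ((η[F] : (𝟙_ (Over (Spec (CommRingCat.of k)))) ⟶ F).left.base p₀))) ∧
        Flat v.left) := by
  haveI : Subsingleton ↥(Spec (CommRingCat.of k)) :=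
    inferInstanceAs (Subsingleton (PrimeSpectrum k))
  let pt : ↥(Spec (CommRingCat.of k)) := IsLocalRing.closedPoint k
  have hvl : p.left ≫ v.left = u.left ≫ q.left := by
    rw [← Over.comp_left, ← Over.comp_left, hv]
  constructor
  · intro hfl
    haveI := hfl
    refine ⟨fun p₀ => ?_, ?_⟩
    · have hp₀ : p₀ = pt := Subsingleton.elim (α := ↥(Spec (CommRingCat.of k))) p₀ pt
      rw [hp₀]
      exact (Groth.Agent.Lead.Neut.neutral_subset_image_of_flat k F G u).trans subset_closure
    · haveI : Flat (p.left ≫ v.left) := by rw [hvl]; infer_instance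
      exact Groth.Agent.Helper7.flat_of_flat_comp_of_surjective p.left v.left
  · rintro ⟨hcl, hv'⟩
    haveI : Flat v.left := hv'
    obtain ⟨-, ⟨y, hy, -⟩, -⟩ := Groth.Agent.Lead.QuotRed.main6084 k G' G b Y q hq.w
    haveI : Mono b := Over.mono_of_mono_left b
    let K : Over (Spec (CommRingCat.of k)) := pullback u b
    let i : K ⟶ F := pullback.fst u b
    let j : K ⟶ G' := pullback.snd u b
    have hK : IsPullback i j u b := IsPullback.of_hasPullback u b
    obtain ⟨instK, hi, hj⟩ := exists_grpObj_pullback u b i j hK
    letI := instK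
    haveI := hi
    haveI := hj
    have hKl : IsPullback i.left j.left u.left b.left := isPullback_left hK
    haveI : IsClosedImmersion i.left :=
      MorphismProperty.of_isPullback (P := @IsClosedImmersion) hKl.flip inferInstance
    haveI : Surjective i.left :=
      MorphismProperty.of_isPullback (P := @Surjective) hKl.flip inferInstance
    haveI : LocallyOfFiniteType K.hom := by rw [← Over.w i]; infer_instance
    haveI : LocallyOfFiniteType G'.hom := by rw [← Over.w b]; infer_instance
    have hiK : i.left ((η[K]).left pt) = (η[F]).left pt := by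
      rw [← Scheme.Hom.comp_apply, ← Over.comp_left, IsMonHom.one_hom (f := i)]
    have hbG : b.left ((η[G']).left pt) = (η[G]).left pt := by
      rw [← Scheme.Hom.comp_apply, ← Over.comp_left, IsMonHom.one_hom (f := b)]
    have hsub : connectedComponent ((η[G']).left pt) ⊆
        closure (j.left '' connectedComponent ((η[K]).left pt)) := by
      refine neutral_closure_transport u.left j.left i.left b.left ?_ ?_
        b.left.isClosedEmbedding _ _ ?_
      · intro x
        rw [← Scheme.Hom.comp_apply, ← Scheme.Hom.comp_apply, hKl.w]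
      · exact isHomeomorph_iff_isEmbedding_surjective.2
          ⟨i.left.isClosedEmbedding.isEmbedding, i.left.surjective⟩
      · rw [hiK, hbG]
        exact hcl pt
    haveI : Flat j.left := flat_of_neutral_subset_closure_image k K G' j hsub
    have sqG : IsPullback b.left (toUnit G').left q.left (η[G] ≫ q).left :=
      isPullback_left (isPullback_fibre_of_quot b q hq)
    let e₀ : Spec (CommRingCat.of k) ⟶ Y.left := (η[G] ≫ q).left
    have hA : Flat (pullback.snd u.left (q.left.fiberι (e₀ (IsLocalRing.closedPoint k)))) :=
      flat_snd_fiberι_of_field_point u.left q.left k e₀ i.left j.left b.left (toUnit G').left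
        hKl sqG
    have hall : ∀ s : Y.left, Flat (pullback.snd u.left (q.left.fiberι s)) := by
      intro s
      have h1 : s ∈ ({y} : Set Y.left) := hy ▸ Set.mem_univ s
      have h2 : e₀ (IsLocalRing.closedPoint k) ∈ ({y} : Set Y.left) := hy ▸ Set.mem_univ _
      rw [Set.mem_singleton_iff] at h1 h2
      rw [h1, ← h2]
      exact hA
    haveI : IsLocallyNoetherian G.left := LocallyOfFiniteType.isLocallyNoetherian G.hom
    haveI : LocallyOfFiniteType (u.left ≫ G.hom) := by rw [Over.w u]; infer_instance
    haveI : LocallyOfFiniteType u.left := locallyOfFiniteType_of_comp u.left G.hom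
    haveI : LocallyOfFinitePresentation u.left :=
      LocallyOfFinitePresentation.iff_locallyOfFiniteType.2 inferInstance
    haveI : LocallyOfFinitePresentation (u.left ≫ q.left) := inferInstance
    haveI : Flat (u.left ≫ q.left) := by rw [← hvl]; infer_instance
    exact Flat.of_stalkMap _ fun x =>
      (Groth.Agent.Lead.CritFib.flat_stalkMap_of_flat_fibres u.left q.left hall x).2

end Groth.Agent.Lead.QuotFl
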