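import Mathlib
import Groth.Prelude.Def_SGA1
import Groth.Agent.Lib.Lead.QuotBC2

/-!
# Products of quotients by finite groups (lead)
-/

set_option backward.isDefEq.respectTransparency.types false
set_option synthInstance.maxHeartbeats 400000
set_option autoImplicit false
set_option linter.unusedSectionVars false
set_option linter.style.haveILetI false

universe u
open CategoryTheory CategoryTheory.Limits AlgebraicGeometry TopologicalSpace

namespace Groth.Agent.Lead.QuotProd

open Groth.Agent.Lead.QuotSub Groth.Agent.Lead.QuotBC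

section Comp

variable {W M Z : Scheme.{u}} {G H : Type u} [Group G] [Group H]

/-- a quotient by `G` followed by a quotient by `H` is a quotient by `G × H` -/
theorem isQuot_comp (θ : G × H →* Aut W) (τ : H →* Aut M) (π₁ : W ⟶ M) (π₂ : M ⟶ Z)
    (h₁ : SGA1.IsQuot (θ.comp (MonoidHom.inl G H)) π₁) (h₂ : SGA1.IsQuot τ π₂)
    (heq : ∀ gh : G × H, (θ gh).hom ≫ π₁ = π₁ ≫ (τ gh.2).hom) : SGA1.IsQuot θ (π₁ ≫ π₂) := by
  haveI := h₁.affine
  haveI := h₂.affine
  have hinv : ∀ gh : G × H, (θ gh).hom ≫ π₁ ≫ π₂ = π₁ ≫ π₂ := by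
    intro gh
    rw [← Category.assoc, heq gh, Category.assoc, h₂.inv]
  refine ⟨inferInstance, hinv, fun U => ?_, fun U s => ⟨?_, ?_⟩⟩
  · intro r r' hrr'
    apply h₂.injective U
    apply h₁.injective (π₂ ⁻¹ᵁ U)
    exact hrr'
  · rintro ⟨r, rfl⟩ gh
    exact congrArg (fun φ => φ.hom r) (app_comp_appLE_of_inv (θ gh).hom (π₁ ≫ π₂) (hinv gh) U _)
  · intro hs
    obtain ⟨t, ht⟩ := (h₁.range_iff (π₂ ⁻¹ᵁ U) s).2 (fun g => hs (g, 1))
    have htinv : ∀ h : H, ((τ h).hom.appLE (π₂ ⁻¹ᵁ U) (π₂ ⁻¹ᵁ U)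
        (SGA1.preimage_le_of_inv τ π₂ h₂.inv h U)).hom t = t := by
      intro h
      apply h₁.injective (π₂ ⁻¹ᵁ U)
      have e1 := Scheme.Hom.appLE_comp_appLE π₁ (τ h).hom (π₂ ⁻¹ᵁ U) (π₂ ⁻¹ᵁ U)
        (π₁ ⁻¹ᵁ (π₂ ⁻¹ᵁ U)) (SGA1.preimage_le_of_inv τ π₂ h₂.inv h U) le_rfl
      have e2 := Scheme.Hom.appLE_comp_appLE (θ (1, h)).hom π₁ (π₂ ⁻¹ᵁ U)
        (π₁ ⁻¹ᵁ (π₂ ⁻¹ᵁ U)) (π₁ ⁻¹ᵁ (π₂ ⁻¹ᵁ U)) le_rfl
        (SGA1.preimage_le_of_inv θ (π₁ ≫ π₂) hinv (1, h) U)
      have e3 := e1.trans ((appLE_congr' _ _ (heq (1, h)).symm _ _ _ _).trans e2.symm)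
      rw [Scheme.Hom.appLE_eq_app] at e3
      have e4 := congrArg (fun φ => φ.hom t) e3
      simp only [CommRingCat.hom_comp, RingHom.comp_apply] at e4
      rw [e4, ht]
      exact hs (1, h)
    obtain ⟨r, hr⟩ := (h₂.range_iff U t).2 htinv
    refine ⟨r, ?_⟩
    change (π₁.app (π₂ ⁻¹ᵁ U)).hom ((π₂.app U).hom r) = s
    rw [hr, ht]

end Comp

section Prod

variable {S X Y XG YH : Scheme.{u}} {G H : Type u} [Group G] [Finite G] [Group H] [Finite H]

/-- the action of `H` on `XG ×_S Y` through the second factor, as endomorphisms -/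
noncomputable def tauEnd (gX : XG ⟶ S) (fY : Y ⟶ S) (σ : H →* Aut Y)
    (hσ : ∀ h, (σ h).hom ≫ fY = fY) : H →* End (pullback gX fY) where
  toFun h := pullback.lift (pullback.fst gX fY) (pullback.snd gX fY ≫ (σ h).hom)
    (by rw [Category.assoc, hσ h, pullback.condition])
  map_one' := by
    apply pullback.hom_ext
    · rw [pullback.lift_fst]
      exact (Category.id_comp _).symm
    · rw [pullback.lift_snd, map_one]
      exact (Category.comp_id _).trans (Category.id_comp _).symm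
  map_mul' h h' := by
    apply pullback.hom_ext
    · rw [pullback.lift_fst, End.mul_def, Category.assoc, pullback.lift_fst, pullback.lift_fst]
    · rw [pullback.lift_snd, End.mul_def, Category.assoc, pullback.lift_snd,
        pullback.lift_snd_assoc, map_mul]
      rfl

/-- the action of `H` on `XG ×_S Y` through the second factor -/
noncomputable def tau (gX : XG ⟶ S) (fY : Y ⟶ S) (σ : H →* Aut Y)
    (hσ : ∀ h, (σ h).hom ≫ fY = fY) : H →* Aut (pullback gX fY) :=
  (Aut.unitsEndEquivAut (pullback gX fY)).toMonoidHom.comp (tauEnd gX fY σ hσ).toHomUnits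

theorem tau_hom (gX : XG ⟶ S) (fY : Y ⟶ S) (σ : H →* Aut Y)
    (hσ : ∀ h, (σ h).hom ≫ fY = fY) (h : H) :
    (tau gX fY σ hσ h).hom = pullback.lift (pullback.fst gX fY)
      (pullback.snd gX fY ≫ (σ h).hom) (by rw [Category.assoc, hσ h, pullback.condition]) :=
  rfl

/-- **the product of two quotients by finite groups is a quotient by the product group** -/
theorem isQuot_prod (fX : X ⟶ S) (fY : Y ⟶ S) (gX : XG ⟶ S) (gY : YH ⟶ S) [Flat fY] [Flat gX]
    (ρ : G →* Aut X) (σ : H →* Aut Y) (hσ : ∀ h, (σ h).hom ≫ fY = fY)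
    (p : X ⟶ XG) (hp : p ≫ gX = fX) (q : Y ⟶ YH) (hq : q ≫ gY = fY)
    (hP : SGA1.IsQuot ρ p) (hQ : SGA1.IsQuot σ q)
    (θ : G × H →* Aut (pullback fX fY))
    (hθ1 : ∀ gh : G × H, (θ gh).hom ≫ pullback.fst fX fY = pullback.fst fX fY ≫ (ρ gh.1).hom)
    (hθ2 : ∀ gh : G × H, (θ gh).hom ≫ pullback.snd fX fY = pullback.snd fX fY ≫ (σ gh.2).hom)
    (π : pullback fX fY ⟶ pullback gX gY)
    (hπ1 : π ≫ pullback.fst gX gY = pullback.fst fX fY ≫ p)
    (hπ2 : π ≫ pullback.snd gX gY = pullback.snd fX fY ≫ q) : SGA1.IsQuot θ π := by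
  -- the intermediate quotient
  let π₁ : pullback fX fY ⟶ pullback gX fY :=
    pullback.lift (pullback.fst fX fY ≫ p) (pullback.snd fX fY)
      (by rw [Category.assoc, hp, pullback.condition])
  let π₂ : pullback gX fY ⟶ pullback gX gY :=
    pullback.lift (pullback.fst gX fY) (pullback.snd gX fY ≫ q)
      (by rw [Category.assoc, hq, pullback.condition])
  have h11 : π₁ ≫ pullback.fst gX fY = pullback.fst fX fY ≫ p := pullback.lift_fst _ _ _
  have h12 : π₁ ≫ pullback.snd gX fY = pullback.snd fX fY := pullback.lift_snd _ _ _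
  have h21 : π₂ ≫ pullback.fst gX gY = pullback.fst gX fY := pullback.lift_fst _ _ _
  have h22 : π₂ ≫ pullback.snd gX gY = pullback.snd gX fY ≫ q := pullback.lift_snd _ _ _
  have hπ : π = π₁ ≫ π₂ := by
    apply pullback.hom_ext
    · rw [hπ1, Category.assoc, h21, h11]
    · rw [hπ2, Category.assoc, h22, ← Category.assoc, h12]
  have ht1 : ∀ h : H, (tau gX fY σ hσ h).hom ≫ pullback.fst gX fY = pullback.fst gX fY :=
    fun h => pullback.lift_fst _ _ _
  have ht2 : ∀ h : H, (tau gX fY σ hσ h).hom ≫ pullback.snd gX fY =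
      pullback.snd gX fY ≫ (σ h).hom := fun h => pullback.lift_snd _ _ _
  -- first quotient
  have hX : IsPullback (pullback.fst fX fY) π₁ p (pullback.fst gX fY) := by
    have hr : IsPullback (pullback.snd gX fY) (pullback.fst gX fY) fY gX :=
      (IsPullback.of_hasPullback gX fY).flip
    have ho : IsPullback (π₁ ≫ pullback.snd gX fY) (pullback.fst fX fY) fY (p ≫ gX) := by
      rw [h12, hp]
      exact (IsPullback.of_hasPullback fX fY).flip
    exact (IsPullback.of_right ho h11 hr).flip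
  have hq1 : SGA1.IsQuot (θ.comp (MonoidHom.inl G H)) π₁ := by
    refine isQuot_baseChange ρ p hP (pullback.fst gX fY) (pullback.fst fX fY) π₁ hX
      (θ.comp (MonoidHom.inl G H)) (fun g => hθ1 (g, 1)) (fun g => ?_)
    apply pullback.hom_ext
    · rw [Category.assoc, h11]
      change (θ (g, 1)).hom ≫ _ = _
      rw [← Category.assoc, hθ1 (g, 1), Category.assoc, hP.inv]
    · rw [Category.assoc, h12]
      change (θ (g, 1)).hom ≫ _ = _
      rw [hθ2 (g, 1), map_one]
      exact Category.comp_id _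
  -- second quotient
  have hX' : IsPullback (pullback.snd gX fY) π₂ q (pullback.snd gX gY) := by
    have hr : IsPullback (pullback.fst gX gY) (pullback.snd gX gY) gX gY :=
      IsPullback.of_hasPullback gX gY
    have ho : IsPullback (π₂ ≫ pullback.fst gX gY) (pullback.snd gX fY) gX (q ≫ gY) := by
      rw [h21, hq]
      exact IsPullback.of_hasPullback gX fY
    exact (IsPullback.of_right ho h22 hr).flip
  have hq2 : SGA1.IsQuot (tau gX fY σ hσ) π₂ := by
    refine isQuot_baseChange σ q hQ (pullback.snd gX gY) (pullback.snd gX fY) π₂ hX'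
      (tau gX fY σ hσ) ht2 (fun h => ?_)
    apply pullback.hom_ext
    · rw [Category.assoc, h21, ht1]
    · rw [Category.assoc, h22, ← Category.assoc, ht2, Category.assoc, hQ.inv]
  rw [hπ]
  refine isQuot_comp θ (tau gX fY σ hσ) π₁ π₂ hq1 hq2 (fun gh => ?_)
  apply pullback.hom_ext
  · rw [Category.assoc, h11, Category.assoc, ht1, h11, ← Category.assoc, hθ1, Category.assoc,
      hP.inv]
  · rw [Category.assoc, h12, Category.assoc, ht2, ← Category.assoc, h12, hθ2]

end Prod

end Groth.Agent.Lead.QuotProd
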