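import Mathlib

/-!
# Universal property of quotient ringed spaces (lead)
-/

set_option autoImplicit false
universe u v
open CategoryTheory TopologicalSpace Opposite AlgebraicGeometry Topology TopCat

namespace Groth.Agent.Lead.QuotRS

section Alg

variable {A B C : Type u} [CommRing A] [CommRing B] [CommRing C]

/-- lift a ring map through an injective ring map containing its image -/
noncomputable def liftRing (i : B →+* C) (hi : Function.Injective i) (φ : A →+* C)
    (h : ∀ a, φ a ∈ Set.range i) : A →+* B where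
  toFun a := Classical.choose (h a)
  map_one' := hi (by rw [Classical.choose_spec (h 1), map_one, map_one])
  map_mul' a b := hi (by
    rw [Classical.choose_spec (h (a * b)), map_mul, map_mul, Classical.choose_spec (h a),
      Classical.choose_spec (h b)])
  map_zero' := hi (by rw [Classical.choose_spec (h 0), map_zero, map_zero])
  map_add' a b := hi (by
    rw [Classical.choose_spec (h (a + b)), map_add, map_add, Classical.choose_spec (h a),
      Classical.choose_spec (h b)])

theorem liftRing_spec (i : B →+* C) (hi : Function.Injective i) (φ : A →+* C)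
    (h : ∀ a, φ a ∈ Set.range i) (a : A) : i (liftRing i hi φ h a) = φ a :=
  Classical.choose_spec (h a)

end Alg

section Core

variable {X Y Z : PresheafedSpace CommRingCat.{u}} {Γ : Type v}
  (τ : Γ → (X ⟶ X)) (π : X ⟶ Y) (hτ : ∀ g : Γ, τ g ≫ π = π)
  (h3 : ∀ V : Opens Y, Function.Injective (π.c.app (op V)) ∧
      Set.range (π.c.app (op V)) =
        {s | ∀ g : Γ, (τ g).c.app (op ((Opens.map π.base).obj V)) s =
          X.presheaf.map (eqToHom (congrArg (fun f : X ⟶ Y => op ((Opens.map f.base).obj V))
            (hτ g).symm)) s})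

include h3 in
theorem exists_c (q : (Y : TopCat) ⟶ (Z : TopCat))
    (fc : Z.presheaf ⟶ (π.base ≫ q) _* X.presheaf)
    (hf : ∀ g : Γ, τ g ≫ (⟨π.base ≫ q, fc⟩ : X ⟶ Z) = (⟨π.base ≫ q, fc⟩ : X ⟶ Z)) :
    ∃ c : Z.presheaf ⟶ q _* Y.presheaf, π ≫ (⟨q, c⟩ : Y ⟶ Z) = (⟨π.base ≫ q, fc⟩ : X ⟶ Z) := by
  -- images of `fc` are invariant
  have hmem : ∀ (W : Opens Z) (s : Z.presheaf.obj (op W)),
      (fc.app (op W)).hom s ∈ Set.range (π.c.app (op ((Opens.map q).obj W))).hom := by
    intro W s
    have := (h3 ((Opens.map q).obj W)).2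
    have hs : (fc.app (op W)).hom s ∈ Set.range (π.c.app (op ((Opens.map q).obj W))) := by
      rw [this]
      intro g
      have h1 := PresheafedSpace.congr_app (hf g) (op W)
      have h2 := congrArg (fun φ => φ.hom s) h1
      simp only [PresheafedSpace.comp_c_app, CommRingCat.hom_comp, RingHom.comp_apply] at h2
      exact h2
    exact hs
  let cApp : ∀ W : Opens Z, Z.presheaf.obj (op W) ⟶ Y.presheaf.obj (op ((Opens.map q).obj W)) :=
    fun W => CommRingCat.ofHom (liftRing (π.c.app (op ((Opens.map q).obj W))).hom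
      (h3 ((Opens.map q).obj W)).1 (fc.app (op W)).hom (hmem W))
  have hspec : ∀ (W : Opens Z) (s : Z.presheaf.obj (op W)),
      (π.c.app (op ((Opens.map q).obj W))).hom ((cApp W).hom s) = (fc.app (op W)).hom s := by
    intro W s
    exact liftRing_spec (π.c.app (op ((Opens.map q).obj W))).hom
      (h3 ((Opens.map q).obj W)).1 (fc.app (op W)).hom (hmem W) s
  let c : Z.presheaf ⟶ q _* Y.presheaf :=
    { app := fun W => cApp W.unop
      naturality := by
        intro W W' j
        apply CommRingCat.hom_ext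
        apply RingHom.ext
        intro s
        apply (h3 ((Opens.map q).obj W'.unop)).1
        have e1 : (π.c.app (op ((Opens.map q).obj W'.unop))).hom
            ((cApp W'.unop).hom ((Z.presheaf.map j).hom s)) =
            (fc.app W').hom ((Z.presheaf.map j).hom s) := hspec W'.unop _
        have e2 : (fc.app W').hom ((Z.presheaf.map j).hom s) =
            (((π.base ≫ q) _* X.presheaf).map j).hom ((fc.app W).hom s) := by
          have n1 := congrArg (fun φ => φ.hom s) (fc.naturality j)
          simpa only [CommRingCat.hom_comp, RingHom.comp_apply] using n1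
        have e3 : (π.c.app (op ((Opens.map q).obj W'.unop))).hom
            ((Y.presheaf.map ((Opens.map q).op.map j)).hom ((cApp W.unop).hom s)) =
            ((π.base _* X.presheaf).map ((Opens.map q).op.map j)).hom
              ((π.c.app (op ((Opens.map q).obj W.unop))).hom ((cApp W.unop).hom s)) := by
          have n2 := congrArg (fun φ => φ.hom ((cApp W.unop).hom s))
            (π.c.naturality ((Opens.map q).op.map j))
          simp only [CommRingCat.hom_comp, RingHom.comp_apply] at n2
          exact n2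
        have e4 := hspec W.unop s
        show (π.c.app (op ((Opens.map q).obj W'.unop))).hom
            ((cApp W'.unop).hom ((Z.presheaf.map j).hom s)) =
          (π.c.app (op ((Opens.map q).obj W'.unop))).hom
            ((Y.presheaf.map ((Opens.map q).op.map j)).hom ((cApp W.unop).hom s))
        rw [e1, e2, e3, e4]
        rfl }
  refine ⟨c, ?_⟩
  refine PresheafedSpace.ext _ _ rfl ?_
  erw [Functor.whiskerRight_id', Category.comp_id]
  ext W s
  simp only [PresheafedSpace.comp_c_app]
  exact hspec W s

include h3 in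
theorem unique_c (hsurj : Function.Surjective π.base) (a b : Y ⟶ Z) (hab : π ≫ a = π ≫ b) :
    a = b := by
  obtain ⟨ab, ac⟩ := a
  obtain ⟨bb, bc⟩ := b
  have hbase : ab = bb := by
    have h : π.base ≫ ab = π.base ≫ bb := congrArg PresheafedSpace.Hom.base hab
    haveI : Epi π.base := (TopCat.epi_iff_surjective _).2 hsurj
    exact (cancel_epi π.base).1 h
  subst hbase
  have hc : ac = bc := by
    ext W s
    apply (h3 ((Opens.map ab).obj W)).1
    have h1 := PresheafedSpace.congr_app hab (op W)
    have h2 := congrArg (fun φ => φ.hom s) h1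
    simp only [PresheafedSpace.comp_c_app, CommRingCat.hom_comp, RingHom.comp_apply] at h2
    refine h2.trans ?_
    change (X.presheaf.map (eqToHom (Eq.refl (op ((Opens.map π.base).obj
      ((Opens.map ab).obj W)))))).hom
      ((π.c.app (op ((Opens.map ab).obj W))).hom ((bc.app (op W)).hom s)) = _
    rw [eqToHom_refl, X.presheaf.map_id]
    rfl
  rw [hc]

include h3 in
theorem main_psh (h1 : IsQuotientMap π.base)
    (h2 : ∀ x x' : X, π.base x = π.base x' ↔ ∃ g : Γ, (τ g).base x = x')
    (f : X ⟶ Z) (hf : ∀ g : Γ, τ g ≫ f = f) : ∃! fbar : Y ⟶ Z, π ≫ fbar = f := by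
  have hfac : Function.FactorsThrough f.base.hom π.base.hom := by
    intro x x' hxx'
    obtain ⟨g, rfl⟩ := (h2 x x').1 hxx'
    have := congrArg (fun φ : X ⟶ Z => φ.base x) (hf g)
    exact this.symm
  obtain ⟨q, hq⟩ : ∃ q : (Y : TopCat) ⟶ (Z : TopCat), π.base ≫ q = f.base := by
    refine ⟨TopCat.ofHom (h1.lift f.base.hom hfac), ?_⟩
    apply TopCat.hom_ext
    exact h1.lift_comp f.base.hom hfac
  obtain ⟨fb, fc⟩ := f
  dsimp only at hq
  subst hq
  obtain ⟨c, hc⟩ := exists_c τ π hτ h3 q fc hf
  refine ⟨⟨q, c⟩, hc, ?_⟩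
  intro b hb
  exact unique_c τ π hτ h3 h1.surjective b ⟨q, c⟩ (hb.trans hc.symm)

end Core

section Sheafed

theorem main (X Y : SheafedSpace CommRingCat.{u}) (Γ : Type v) [Group Γ]
    (τ : Γ →* Aut X) (π : X ⟶ Y) (hτ : ∀ g : Γ, (τ g).hom ≫ π = π)
    (h1 : IsQuotientMap π.hom.base)
    (h2 : ∀ x x' : X, π.hom.base x = π.hom.base x' ↔ ∃ g : Γ, (τ g).hom.hom.base x = x')
    (h3 : ∀ V : Opens Y, Function.Injective (π.hom.c.app (op V)) ∧
      Set.range (π.hom.c.app (op V)) =
        {s | ∀ g : Γ, (τ g).hom.hom.c.app (op ((Opens.map π.hom.base).obj V)) s =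
          X.presheaf.map (eqToHom (congrArg (fun f : X ⟶ Y => op ((Opens.map f.hom.base).obj V)) (hτ g).symm)) s})
    (Z : SheafedSpace CommRingCat.{u}) (f : X ⟶ Z) (hf : ∀ g : Γ, (τ g).hom ≫ f = f) :
    ∃! fbar : Y ⟶ Z, π ≫ fbar = f := by
  have hτ' : ∀ g : Γ, (τ g).hom.hom ≫ π.hom = π.hom := fun g => congrArg (fun φ => φ.hom) (hτ g)
  have hf' : ∀ g : Γ, (τ g).hom.hom ≫ f.hom = f.hom := fun g => congrArg (fun φ => φ.hom) (hf g)
  obtain ⟨fbar', h, huniq⟩ := main_psh (fun g => (τ g).hom.hom) π.hom hτ' h3 h1 h2 f.hom hf'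
  refine ⟨InducedCategory.homMk fbar', InducedCategory.hom_ext h, ?_⟩
  intro b hb
  apply InducedCategory.hom_ext
  exact huniq b.hom (congrArg (fun φ => φ.hom) hb)

end Sheafed

end Groth.Agent.Lead.QuotRS
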