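import Mathlib
import Groth.Prelude.Def_RefHull
import Groth.Prelude.Def_CohB1
import Groth.Agent.Lib.Lead.RH1
import Groth.Agent.Lib.Helper1.FtGen

/-!
# The sheaf Hom of `RefHull`: injectivity of evaluation on stalks for a source of finite type
(without quasi-coherence) (lead)
-/

set_option autoImplicit false
set_option backward.isDefEq.respectTransparency.types false
set_option synthInstance.maxHeartbeats 400000
set_option linter.style.haveILetI false
set_option linter.unusedSectionVars false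
universe u

open CategoryTheory CategoryTheory.Limits AlgebraicGeometry TopologicalSpace Opposite

namespace Groth.Agent.Lead.RHft

open Groth.Agent.Helper7.FinType Groth.Agent.Lead.RH Groth.Agent.Helper1.QcCech

variable {X : Scheme.{u}} {F G : X.Modules}

/-- finitely many sections over a neighbourhood generate all nearby stalks -/
theorem exists_finite_gen (hft : SheafOfModules.IsFiniteType.{u, u, u} F) (x : X) :
    ∃ (V : X.Opens) (_ : x ∈ V) (ι : Type u) (_ : Finite ι) (m : ι → Γ(F, V)),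
      ∀ (y : X) (hy : y ∈ V), Submodule.span (X.presheaf.stalk y)
        (Set.range fun i => F.presheaf.germ V y hy (m i)) = ⊤ := by
  obtain ⟨W, hxW, ι, hι, σ, hσ⟩ := Groth.Agent.Helper1.FtGen.exists_local_generators F hft x
  refine ⟨W, hxW, ι, hι, σ, fun y hy => ?_⟩
  rw [eq_top_iff]
  intro v _
  obtain ⟨O, hyO, t, rfl⟩ := TopCat.Presheaf.exists_germ_eq F.presheaf v
  have hyOW : y ∈ O ⊓ W := ⟨hyO, hy⟩
  obtain ⟨O', hO', hyO', hmem⟩ := hσ (O ⊓ W) inf_le_right (res F (inf_le_left : O ⊓ W ≤ O) t) y hyOW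
  have e1 : F.presheaf.germ O y hyO t = F.presheaf.germ O' y hyO'
      (res F hO' (res F (inf_le_left : O ⊓ W ≤ O) t)) := by
    have h1 : F.presheaf.germ O' y hyO' (res F hO' (res F (inf_le_left : O ⊓ W ≤ O) t)) =
        F.presheaf.germ (O ⊓ W) y hyOW (res F (inf_le_left : O ⊓ W ≤ O) t) :=
      TopCat.Presheaf.germ_res_apply F.presheaf (homOfLE hO') y hyO' _
    have h2 : F.presheaf.germ (O ⊓ W) y hyOW (res F (inf_le_left : O ⊓ W ≤ O) t) =
        F.presheaf.germ O y hyO t :=
      TopCat.Presheaf.germ_res_apply F.presheaf (homOfLE (inf_le_left : O ⊓ W ≤ O)) y hyOW _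
    rw [h1, h2]
  rw [e1]
  generalize res F hO' (res F (inf_le_left : O ⊓ W ≤ O) t) = s at hmem
  induction hmem using Submodule.span_induction with
  | mem s hs =>
    obtain ⟨i, rfl⟩ := hs
    refine Submodule.subset_span ⟨i, ?_⟩
    exact (TopCat.Presheaf.germ_res_apply F.presheaf (homOfLE (hO'.trans inf_le_right)) y hyO' _).symm
  | zero => rw [map_zero]; exact Submodule.zero_mem _
  | add a b _ _ ha hb => rw [map_add]; exact Submodule.add_mem _ ha hb
  | smul r a _ ha =>
    have := Mero.germ_smul F O' y hyO' r a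
    rw [this]
    exact Submodule.smul_mem _ _ ha

/-- a section of the sheaf Hom which vanishes at `x` as a map of stalks vanishes near `x`, when the
source is of finite type -/
theorem exists_res_eq_zero (hft : SheafOfModules.IsFiniteType.{u, u, u} F) {U : X.Opens}
    (g : Γ(RefHull.homSh F G, U))
    (x : X) (hx : x ∈ U) (h0 : g.1 ⟨x, hx⟩ = 0) :
    ∃ (W : X.Opens) (_ : x ∈ W) (i : W ⟶ U), (RefHull.homSh F G).presheaf.map i.op g = 0 := by
  obtain ⟨V, hxV, ι, hι, m, hm⟩ := exists_finite_gen hft x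
  haveI := hι
  have key : ∀ i : ι, ∃ (W : X.Opens), x ∈ W ∧ W ≤ V ⊓ U ∧ ∀ (y : X) (hy : y ∈ W) (hyV : y ∈ V)
      (hyU : y ∈ U), g.1 ⟨y, hyU⟩ (F.presheaf.germ V y hyV (m i)) = 0 := by
    intro i
    obtain ⟨W, hxW, j, t, ht⟩ := RefHull.isLocSect_of_mem g (V ⊓ U) (homOfLE inf_le_right)
      (F.presheaf.map (homOfLE (inf_le_left : V ⊓ U ≤ V)).op (m i)) ⟨x, hxV, hx⟩
    have e := ht ⟨x, hxW⟩
    rw [TopCat.Presheaf.germ_res_apply] at e
    have e0 : G.presheaf.germ W x hxW t = 0 := by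
      rw [← e]
      have : g.1 ⟨x, (homOfLE (inf_le_right : V ⊓ U ≤ U)).le (j.le hxW)⟩ = 0 := h0
      rw [this, LinearMap.zero_apply]
    obtain ⟨W', hxW', iW, _, e'⟩ := TopCat.Presheaf.germ_eq G.presheaf x hxW hxW t 0
      (by rw [e0, map_zero])
    rw [map_zero] at e'
    refine ⟨W', hxW', iW.le.trans j.le, fun y hy hyV hyU => ?_⟩
    have e2 := ht ⟨y, iW.le hy⟩
    rw [TopCat.Presheaf.germ_res_apply] at e2
    rw [e2, ← TopCat.Presheaf.germ_res_apply G.presheaf iW y hy t, e', map_zero]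
  choose W hxW hWle hW using key
  let W0 : X.Opens := ⟨⋂ i, (W i : Set X), isOpen_iInter_of_finite fun i => (W i).2⟩
  have hW0 : ∀ y, y ∈ W0 ↔ ∀ i, y ∈ W i := fun y => Set.mem_iInter
  have hxW0 : x ∈ W0 ⊓ (V ⊓ U) := ⟨(hW0 x).2 hxW, hxV, hx⟩
  refine ⟨W0 ⊓ (V ⊓ U), hxW0, homOfLE (inf_le_right.trans inf_le_right), hom_ext _ _ fun y => ?_⟩
  rw [map_apply, zero_apply]
  refine LinearMap.ext_on_range (hm y.1 y.2.2.1) fun i => ?_
  rw [LinearMap.zero_apply]
  exact hW i y.1 ((hW0 y.1).1 y.2.1 i) y.2.2.1 _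

/-- evaluation at a point of the germs of the sheaf Hom is injective when the source is of finite
type -/
theorem evalStalk_injective (hft : SheafOfModules.IsFiniteType.{u, u, u} F) (x : X) :
    Function.Injective (RefHull.evalStalk F G x) := by
  rw [injective_iff_map_eq_zero]
  intro θ hθ
  obtain ⟨U, hx, g, rfl⟩ := TopCat.Presheaf.exists_germ_eq (RefHull.homSh F G).presheaf θ
  rw [RefHull.evalStalk_germ] at hθ
  obtain ⟨W, hxW, i, e⟩ := exists_res_eq_zero hft g x hx hθ
  rw [← TopCat.Presheaf.germ_res_apply (RefHull.homSh F G).presheaf i x hxW g, e, map_zero]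

end Groth.Agent.Lead.RHft
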