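import Mathlib
import Groth.Prelude.Def_RefHull
import Groth.Prelude.Def_CohB1
import Groth.Agent.Lib.Lead.RH4
import Groth.Agent.Lib.Lead.RHft1
import Groth.Agent.Lib.Lead.FP2
import Groth.Agent.Lib.Lead.TorSh2

/-!
# The sheaf Hom of `RefHull`: surjectivity of evaluation on stalks for a finitely presented source,
with no assumption on the target (lead)
-/

set_option autoImplicit false
set_option backward.isDefEq.respectTransparency.types false
set_option synthInstance.maxHeartbeats 400000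
set_option linter.style.haveILetI false
set_option linter.unusedSectionVars false
universe u

open CategoryTheory CategoryTheory.Limits AlgebraicGeometry TopologicalSpace Opposite

namespace Groth.Agent.Lead.RHft

open Groth.Agent.Helper7.FinType Groth.Agent.Lead.RH Groth.Agent.Helper1.QcCech
  Groth.Agent.Lead.SD Groth.Agent.Helper1

variable {X : Scheme.{u}} {F G : X.Modules}

section Affine

attribute [local instance] SD.stalkModule

variable {U : X.Opens} (hU : IsAffineOpen U) [F.IsQuasicoherent]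
  (α : Γ(F, U) →ₗ[Γ(X, U)] Γ(G, U))

include hU in
theorem isUnit_algebraMap_end (y : U) (s : (hU.primeIdealOf y).asIdeal.primeCompl) :
    IsUnit (algebraMap Γ(X, U) (Module.End Γ(X, U) (G.presheaf.stalk y.1)) s) := by
  have hu : IsUnit (X.presheaf.germ U y.1 y.2 s.1) := (isUnit_germ_iff hU y s.1).2 s.2
  rw [Module.End.isUnit_iff]
  obtain ⟨u, hu'⟩ := hu
  refine ⟨fun a b hab => ?_, fun b => ⟨(↑u⁻¹ : X.presheaf.stalk y.1) • b, ?_⟩⟩
  · have h1 : (u : X.presheaf.stalk y.1) • a = (u : X.presheaf.stalk y.1) • b := by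
      rw [hu']; exact hab
    have := congrArg (fun z => (↑u⁻¹ : X.presheaf.stalk y.1) • z) h1
    simpa [smul_smul] using this
  · change s.1 • ((↑u⁻¹ : X.presheaf.stalk y.1) • b) = b
    rw [smul_stalk_def, ← hu', smul_smul, Units.mul_inv, one_smul]

/-- the map on stalks induced by a linear map on the sections over an affine open -/
noncomputable def stalkOfLin (y : U) : RefHull.StalkHom F G y.1 :=
  haveI := isLocalizedModule_germ F hU y
  haveI := hU.isLocalization_stalk y
  (IsLocalizedModule.lift (hU.primeIdealOf y).asIdeal.primeCompl (germₗ F y)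
    ((germₗ G y).comp α) (isUnit_algebraMap_end hU y)).extendScalarsOfIsLocalization
    (hU.primeIdealOf y).asIdeal.primeCompl (X.presheaf.stalk y.1)

theorem stalkOfLin_germ (y : U) (m : Γ(F, U)) :
    stalkOfLin hU α y (F.presheaf.germ U y.1 y.2 m) = G.presheaf.germ U y.1 y.2 (α m) := by
  haveI := isLocalizedModule_germ F hU y
  haveI := hU.isLocalization_stalk y
  exact IsLocalizedModule.lift_apply (hU.primeIdealOf y).asIdeal.primeCompl (germₗ F y)
    ((germₗ G y).comp α) (isUnit_algebraMap_end hU y) m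

theorem isLocSect_stalkOfLin : RefHull.IsLocSect F G (fun y : U => stalkOfLin hU α y) := by
  intro V i m x
  obtain ⟨f, hfV, hxf⟩ := hU.exists_basicOpen_le ⟨x.1, x.2⟩ (i.le x.2)
  obtain ⟨n, t', ht'⟩ := QcLoc.exists_extend hU F f (F.presheaf.map (homOfLE hfV).op m)
  have hu : IsUnit ((X.presheaf.map (homOfLE (X.basicOpen_le f)).op).hom f) :=
    X.toRingedSpace.isUnit_res_basicOpen f
  refine ⟨X.basicOpen f, hxf, homOfLE hfV,
    ((hu.unit⁻¹ ^ n : (Γ(X, X.basicOpen f))ˣ) : Γ(X, X.basicOpen f)) •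
      G.presheaf.map (homOfLE (X.basicOpen_le f)).op (α t'), fun y => ?_⟩
  have hyU : y.1 ∈ U := X.basicOpen_le f y.2
  have hfy : IsUnit (X.presheaf.germ U y.1 hyU f) := (Scheme.mem_basicOpen X f y.1 hyU).1 y.2
  have hinj : Function.Injective
      (fun v : G.presheaf.stalk y.1 => (X.presheaf.germ U y.1 hyU f) ^ n • v) := by
    intro a b hab
    have := congrArg (fun v => ((hfy.pow n).unit⁻¹ : (X.presheaf.stalk y.1)ˣ) • v) hab
    simpa [Units.smul_def, smul_smul] using this
  apply hinj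
  dsimp only
  have e1 : X.presheaf.germ U y.1 hyU f ^ n • F.presheaf.germ V y.1 (hfV y.2) m =
      F.presheaf.germ U y.1 hyU t' := by
    have := congrArg (F.presheaf.germ (X.basicOpen f) y.1 y.2) ht'
    rw [TopCat.Presheaf.germ_res_apply, Mero.germ_smul, TopCat.Presheaf.germ_res_apply, map_pow,
      TopCat.Presheaf.germ_res_apply] at this
    exact this.symm
  rw [← map_smul, e1]
  have e2 := stalkOfLin_germ hU α ⟨y.1, hyU⟩ t'
  refine e2.trans ?_
  rw [← TopCat.Presheaf.germ_res_apply G.presheaf (homOfLE (X.basicOpen_le f)) y.1 y.2 (α t'),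
    Mero.germ_smul, smul_smul]
  have e3 : X.presheaf.germ U y.1 hyU f ^ n *
      X.presheaf.germ (X.basicOpen f) y.1 y.2 ((hu.unit⁻¹ ^ n : (Γ(X, X.basicOpen f))ˣ) : Γ(X, X.basicOpen f)) = 1 := by
    rw [← TopCat.Presheaf.germ_res_apply X.presheaf (homOfLE (X.basicOpen_le f)) y.1 y.2 f, ← map_pow,
      ← map_mul]
    have : ((X.presheaf.map (homOfLE (X.basicOpen_le f)).op).hom f) ^ n *
        ((hu.unit⁻¹ ^ n : (Γ(X, X.basicOpen f))ˣ) : Γ(X, X.basicOpen f)) = 1 := by
      rw [Units.val_pow_eq_pow_val, ← mul_pow]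
      have : ((X.presheaf.map (homOfLE (X.basicOpen_le f)).op).hom f) * ((hu.unit⁻¹ : (Γ(X, X.basicOpen f))ˣ) : Γ(X, X.basicOpen f)) = 1 :=
        hu.mul_val_inv
      rw [this, one_pow]
    rw [this, map_one]
  rw [e3, one_smul]

/-- the section of the sheaf Hom over an affine open defined by a linear map on sections -/
noncomputable def ofLin : Γ(RefHull.homSh F G, U) :=
  ⟨fun y => stalkOfLin hU α y, isLocSect_stalkOfLin hU α⟩

theorem ofLin_apply (y : U) : (ofLin hU α).1 y = stalkOfLin hU α y := rfl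

end Affine

section Lift

attribute [local instance] SD.stalkModule
attribute [local instance] SD.basicOpenModule

variable {U : X.Opens} (hU : IsAffineOpen U)

include hU in
theorem exists_basicOpen_sections (y : U) {n : ℕ} (v : Fin n → G.presheaf.stalk y.1) :
    ∃ (f : Γ(X, U)) (hf : y.1 ∈ X.basicOpen f) (g : Fin n → Γ(G, X.basicOpen f)),
      ∀ i, G.presheaf.germ (X.basicOpen f) y.1 hf (g i) = v i := by
  have h1 : ∀ i, ∃ (W : X.Opens) (hW : y.1 ∈ W) (t : Γ(G, W)), G.presheaf.germ W y.1 hW t = v i :=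
    fun i => TopCat.Presheaf.exists_germ_eq G.presheaf (v i)
  choose W hW t ht using h1
  let W0 : X.Opens := ⟨⋂ i, (W i : Set X), isOpen_iInter_of_finite fun i => (W i).2⟩
  have hW0 : ∀ z, z ∈ W0 ↔ ∀ i, z ∈ W i := fun z => Set.mem_iInter
  have hyW0 : y.1 ∈ W0 := (hW0 y.1).2 hW
  obtain ⟨f, hfW, hyf⟩ := hU.exists_basicOpen_le ⟨y.1, hyW0⟩ y.2
  have hle : ∀ i, X.basicOpen f ≤ W i := fun i z hz => (hW0 z).1 (hfW hz) i
  refine ⟨f, hyf, fun i => res G (hle i) (t i), fun i => ?_⟩
  rw [← ht i]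
  exact TopCat.Presheaf.germ_res_apply G.presheaf (homOfLE (hle i)) y.1 hyf (t i)

include hU in
theorem exists_basicOpen_vanish (y : U) (f₁ : Γ(X, U)) (hf₁ : y.1 ∈ X.basicOpen f₁) {r : ℕ}
    (h : Fin r → Γ(G, X.basicOpen f₁))
    (h0 : ∀ k, G.presheaf.germ (X.basicOpen f₁) y.1 hf₁ (h k) = 0) :
    ∃ (f : Γ(X, U)) (_ : y.1 ∈ X.basicOpen f) (hle : X.basicOpen f ≤ X.basicOpen f₁),
      ∀ k, res G hle (h k) = 0 := by
  have h1 : ∀ k, ∃ (W : X.Opens) (hWle : W ≤ X.basicOpen f₁), y.1 ∈ W ∧ res G hWle (h k) = 0 :=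
    fun k => Groth.Agent.Lead.TorShL.exists_res_eq_zero_of_germ G y.1 hf₁ (h k) (h0 k)
  choose W hWle hW hres using h1
  let W0 : X.Opens := ⟨⋂ i, (W i : Set X), isOpen_iInter_of_finite fun i => (W i).2⟩
  have hW0 : ∀ z, z ∈ W0 ↔ ∀ i, z ∈ W i := fun z => Set.mem_iInter
  have hyW0 : y.1 ∈ W0 ⊓ X.basicOpen f₁ := ⟨(hW0 y.1).2 hW, hf₁⟩
  obtain ⟨f, hfW, hyf⟩ := hU.exists_basicOpen_le ⟨y.1, hyW0⟩ y.2
  have hle : ∀ i, X.basicOpen f ≤ W i := fun i z hz => (hW0 z).1 (hfW hz).1 i
  refine ⟨f, hyf, fun z hz => (hfW hz).2, fun k => ?_⟩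
  have := congrArg (res G (hle k)) (hres k)
  rw [res_res, map_zero] at this
  exact this

/-- the germ at a point of a basic open, as a linear map over the sections of the ambient affine -/
noncomputable def germB (G : X.Modules) (y : U) (f : Γ(X, U)) (hf : y.1 ∈ X.basicOpen f) :
    Γ(G, X.basicOpen f) →ₗ[Γ(X, U)] G.presheaf.stalk y.1 where
  toFun m := G.presheaf.germ (X.basicOpen f) y.1 hf m
  map_add' a b := map_add _ a b
  map_smul' r m := by
    simp only [RingHom.id_apply]
    rw [smul_basicOpen_def, SD.germ_smul, smul_stalk_def, TopCat.Presheaf.germ_res_apply]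

theorem germB_apply (y : U) (f : Γ(X, U)) (hf : y.1 ∈ X.basicOpen f) (m : Γ(G, X.basicOpen f)) :
    germB G y f hf m = G.presheaf.germ (X.basicOpen f) y.1 hf m := rfl

theorem exists_desc {R : Type*} [CommRing R] {A B N : Type*} [AddCommGroup A] [Module R A]
    [AddCommGroup B] [Module R B] [AddCommGroup N] [Module R N] (f : A →ₗ[R] B)
    (hf : Function.Surjective f) (β₁ : A →ₗ[R] N) (h : LinearMap.ker f ≤ LinearMap.ker β₁) :
    ∃ β : B →ₗ[R] N, ∀ a, β (f a) = β₁ a := by
  refine ⟨((LinearMap.ker f).liftQ β₁ h).comp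
    (f.quotKerEquivOfSurjective hf).symm.toLinearMap, fun a => ?_⟩
  have e : (f.quotKerEquivOfSurjective hf).symm (f a) = Submodule.Quotient.mk a := by
    rw [LinearEquiv.symm_apply_eq]
    rfl
  rw [LinearMap.comp_apply, LinearEquiv.coe_coe, e]
  rfl

theorem isUnit_algebraMap_end_basicOpen (G : X.Modules) (f : Γ(X, U)) (s : Submonoid.powers f) :
    IsUnit (algebraMap Γ(X, U) (Module.End Γ(X, U) Γ(G, X.basicOpen f)) s) := by
  obtain ⟨s, k, rfl⟩ := s
  have hu0 : IsUnit ((X.presheaf.map (homOfLE (X.basicOpen_le f)).op).hom f) :=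
    X.toRingedSpace.isUnit_res_basicOpen f
  have hu : IsUnit ((X.presheaf.map (homOfLE (X.basicOpen_le f)).op).hom (f ^ k)) := by
    rw [map_pow]
    exact hu0.pow k
  rw [Module.End.isUnit_iff]
  obtain ⟨u, hu'⟩ := hu
  refine ⟨fun a b hab => ?_, fun b => ⟨(↑u⁻¹ : Γ(X, X.basicOpen f)) • b, ?_⟩⟩
  · have h1 : (u : Γ(X, X.basicOpen f)) • a = (u : Γ(X, X.basicOpen f)) • b := by
      rw [hu']; exact hab
    have := congrArg (fun z => (↑u⁻¹ : Γ(X, X.basicOpen f)) • z) h1
    simpa [smul_smul] using this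
  · change (f ^ k) • ((↑u⁻¹ : Γ(X, X.basicOpen f)) • b) = b
    rw [smul_basicOpen_def, ← hu', smul_smul, Units.mul_inv, one_smul]

theorem res_linearCombination (G : X.Modules) {f₁ f : Γ(X, U)}
    (hle : X.basicOpen f ≤ X.basicOpen f₁) {n : ℕ} (g : Fin n → Γ(G, X.basicOpen f₁))
    (c : Fin n → Γ(X, U)) :
    res G hle (Fintype.linearCombination Γ(X, U) g c) =
      Fintype.linearCombination Γ(X, U) (fun i => res G hle (g i)) c := by
  rw [Fintype.linearCombination_apply, Fintype.linearCombination_apply, map_sum]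
  refine Finset.sum_congr rfl fun i _ => ?_
  rw [smul_basicOpen_def, smul_basicOpen_def]
  have h1 := Scheme.Modules.map_smul G (homOfLE hle)
    ((X.presheaf.map (homOfLE (X.basicOpen_le f₁)).op).hom (c i)) (g i)
  refine h1.trans ?_
  congr 1
  rw [← ConcreteCategory.comp_apply, ← Functor.map_comp]
  rfl

include hU in
/-- auxiliary form of the surjectivity of evaluation -/
theorem evalStalk_surjective_aux (hF : CohB1.IsFP F) [F.IsQuasicoherent] (y : U)
    (l : RefHull.StalkHom F G y.1) : ∃ θ, RefHull.evalStalk F G y.1 θ = l := by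
  haveI := FP.fp_sections_of_isFP F hF hU
  obtain ⟨n, m, p, q, hp, hpq⟩ := Module.FinitePresentation.exists_fin' Γ(X, U) Γ(F, U)
  let l' : Γ(F, U) →ₗ[Γ(X, U)] G.presheaf.stalk y.1 :=
    (l.restrictScalars Γ(X, U)).comp (germₗ F y)
  obtain ⟨f₁, hf₁, g, hg⟩ := exists_basicOpen_sections (G := G) hU y
    (fun i => l' (p (Pi.single i 1)))
  let β₀ : (Fin n → Γ(X, U)) →ₗ[Γ(X, U)] Γ(G, X.basicOpen f₁) :=
    Fintype.linearCombination Γ(X, U) g
  have hβ₀ : (germB G y f₁ hf₁).comp β₀ = l'.comp p := by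
    apply LinearMap.pi_ext'
    intro i
    apply LinearMap.ext_ring
    show germB G y f₁ hf₁ (Fintype.linearCombination Γ(X, U) g (Pi.single i 1)) =
      l' (p (Pi.single i 1))
    rw [Fintype.linearCombination_apply_single, one_smul, germB_apply]
    exact hg i
  have h0 : ∀ k, G.presheaf.germ (X.basicOpen f₁) y.1 hf₁ (β₀ (q (Pi.single k 1))) = 0 := by
    intro k
    have h1 := congrArg (fun φ => φ (q (Pi.single k 1))) hβ₀
    have h2 : p (q (Pi.single k 1)) = 0 := hpq.apply_apply_eq_zero _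
    have h3 : germB G y f₁ hf₁ (β₀ (q (Pi.single k 1))) = l' (p (q (Pi.single k 1))) := h1
    rw [h2, map_zero] at h3
    exact h3
  obtain ⟨f, hf, hle, hres⟩ := exists_basicOpen_vanish hU y f₁ hf₁
    (fun k => β₀ (q (Pi.single k 1))) h0
  let β₁ : (Fin n → Γ(X, U)) →ₗ[Γ(X, U)] Γ(G, X.basicOpen f) :=
    Fintype.linearCombination Γ(X, U) (fun i => res G hle (g i))
  have hβ₁ : ∀ c, β₁ c = res G hle (β₀ c) := fun c => (res_linearCombination G hle g c).symm
  have hq : β₁.comp q = 0 := by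
    apply LinearMap.pi_ext'
    intro k
    apply LinearMap.ext_ring
    show β₁ (q (Pi.single k 1)) = 0
    rw [hβ₁]
    exact hres k
  have hker : LinearMap.ker p ≤ LinearMap.ker β₁ := by
    intro c hc
    rw [LinearMap.exact_iff.1 hpq] at hc
    obtain ⟨d, rfl⟩ := hc
    rw [LinearMap.mem_ker]
    exact congrArg (fun φ => φ d) hq
  obtain ⟨β, hβ⟩ := exists_desc p hp β₁ hker
  have hgermβ : ∀ a, G.presheaf.germ (X.basicOpen f) y.1 hf (β a) = l' a := by
    intro a
    obtain ⟨c, rfl⟩ := hp a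
    rw [hβ, hβ₁]
    have h1 := congrArg (fun φ => φ c) hβ₀
    refine Eq.trans ?_ h1
    exact TopCat.Presheaf.germ_res_apply G.presheaf (homOfLE hle) y.1 hf (β₀ c)
  haveI := isLocalizedModule_res F hU f
  haveI := hU.isLocalization_basicOpen f
  let α₀ : Γ(F, X.basicOpen f) →ₗ[Γ(X, U)] Γ(G, X.basicOpen f) :=
    IsLocalizedModule.lift (Submonoid.powers f) (resₗ F f) β (isUnit_algebraMap_end_basicOpen G f)
  have hα₀ : ∀ a, α₀ (resₗ F f a) = β a :=
    IsLocalizedModule.lift_apply (Submonoid.powers f) (resₗ F f) β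
      (isUnit_algebraMap_end_basicOpen G f)
  let α : Γ(F, X.basicOpen f) →ₗ[Γ(X, X.basicOpen f)] Γ(G, X.basicOpen f) :=
    α₀.extendScalarsOfIsLocalization (Submonoid.powers f) Γ(X, X.basicOpen f)
  have hfy : f ∈ (hU.primeIdealOf y).asIdeal.primeCompl := (mem_basicOpen_iff hU y f).1 hf
  have hunits : ∀ s : Submonoid.powers f,
      IsUnit (algebraMap Γ(X, U) (Module.End Γ(X, U) (G.presheaf.stalk y.1)) s) := by
    rintro ⟨s, k, rfl⟩
    exact isUnit_algebraMap_end hU y ⟨f ^ k, Submonoid.pow_mem _ hfy k⟩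
  have hE : (germB G y f hf).comp α₀ = (l.restrictScalars Γ(X, U)).comp (germB F y f hf) := by
    apply IsLocalizedModule.ext (Submonoid.powers f) (resₗ F f) hunits
    apply LinearMap.ext
    intro a
    show G.presheaf.germ (X.basicOpen f) y.1 hf (α₀ (resₗ F f a)) =
      l (F.presheaf.germ (X.basicOpen f) y.1 hf (resₗ F f a))
    rw [hα₀, hgermβ]
    show l (F.presheaf.germ U y.1 y.2 a) = _
    congr 1
    exact (TopCat.Presheaf.germ_res_apply F.presheaf (homOfLE (X.basicOpen_le f)) y.1 hf a).symm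
  have hU' : IsAffineOpen (X.basicOpen f) := hU.basicOpen f
  refine ⟨(RefHull.homSh F G).presheaf.germ (X.basicOpen f) y.1 hf (ofLin hU' α), ?_⟩
  rw [RefHull.evalStalk_germ, ofLin_apply]
  refine LinearMap.ext_on_range (spanGerms_of_isAffineOpen inferInstance hU' y.1 hf) fun a => ?_
  rw [stalkOfLin_germ hU' α ⟨y.1, hf⟩ a]
  exact congrArg (fun φ => φ a) hE

end Lift

/-- evaluation at a point of the germs of the sheaf Hom is surjective when the source is finitely
presented -/
theorem evalStalk_surjective (hF : CohB1.IsFP F) (x : X) :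
    Function.Surjective (RefHull.evalStalk F G x) := by
  haveI : SheafOfModules.IsFinitePresentation (R := X.ringCatSheaf) F := hF
  haveI : F.IsQuasicoherent := inferInstance
  intro l
  obtain ⟨_, ⟨U, hU, rfl⟩, hxU, -⟩ := X.isBasis_affineOpens.exists_subset_of_mem_open
    (Set.mem_univ x) isOpen_univ
  have hU' : IsAffineOpen U := hU
  exact evalStalk_surjective_aux hU' hF ⟨x, hxU⟩ l

theorem evalStalk_bijective (hF : CohB1.IsFP F) (x : X) :
    Function.Bijective (RefHull.evalStalk F G x) := by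
  haveI : SheafOfModules.IsFinitePresentation (R := X.ringCatSheaf) F := hF
  exact ⟨evalStalk_injective inferInstance x, evalStalk_surjective hF x⟩

end Groth.Agent.Lead.RHft
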