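import Mathlib
import Groth.Prelude.Def_BlowUp2
import Groth.Agent.Lib.Helper4.P1Curve1
import Groth.Agent.Lib.Helper4.EffCartier

set_option autoImplicit false
set_option backward.isDefEq.respectTransparency.types false
set_option synthInstance.maxHeartbeats 400000
set_option linter.style.haveILetI false
set_option linter.unusedSectionVars false

universe u
open CategoryTheory CategoryTheory.Limits AlgebraicGeometry TopologicalSpace Opposite

namespace Groth.Agent.Lead.RatCurve
open Groth.Agent.Helper4 Groth.Agent.Lib.Helper4.P1Curve1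

/-- an ideal sheaf which is nonzero on a cover by affine opens whose rings are principal ideal
domains is effective Cartier. -/
theorem isEffCartier_of_pid_charts {Y : Scheme.{u}} (𝒥 : Y.IdealSheafData)
    (h : ∀ y : Y, ∃ U : Y.affineOpens, y ∈ U.1 ∧ IsDomain Γ(Y, U.1) ∧
      IsPrincipalIdealRing Γ(Y, U.1) ∧ 𝒥.ideal U ≠ ⊥) : BlowUp.IsEffCartierIdeal 𝒥 := by
  intro y
  obtain ⟨U, hyU, hdom, hpid, hne⟩ := h y
  obtain ⟨a, ha⟩ := (IsPrincipalIdealRing.principal (𝒥.ideal U)).principal
  refine ⟨U, hyU, a, ?_, ha⟩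
  apply mem_nonZeroDivisors_of_ne_zero
  rintro rfl
  apply hne
  rw [ha]
  simp

/-- an ideal sheaf vanishing on an affine open has support containing that open. -/
theorem le_support_of_ideal_eq_bot {Y : Scheme.{u}} (𝒥 : Y.IdealSheafData) (U : Y.affineOpens)
    (h : 𝒥.ideal U = ⊥) : (U.1 : Set Y) ⊆ 𝒥.support := by
  intro x hx
  rw [SetLike.mem_coe, Scheme.IdealSheafData.mem_support_iff_of_mem hx, h,
    Scheme.mem_zeroLocus_iff]
  intro f hf
  have : f = 0 := hf
  rw [this]
  intro hx'
  simp at hx'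

/-- S17086: a morphism from the projective line not landing in the centre lifts uniquely to
the blow-up. -/
theorem existsUnique_lift_P1 {k : Type u} [Field k] {X Z B : Scheme.{u}} (iZ : Z ⟶ X)
    [IsClosedImmersion iZ] (σ : B ⟶ X) (hσ : BlowUp.IsBlowUp σ iZ.ker) (f : P1 k ⟶ X)
    (hfZ : ¬ Set.range f ⊆ Set.range iZ) : ∃! g : P1 k ⟶ B, g ≫ σ = f := by
  apply hσ.2 (P1 k) f
  apply isEffCartier_of_pid_charts
  intro y
  obtain ⟨i, p, rfl⟩ := exists_chart k y
  obtain ⟨j, hij⟩ : ∃ j : Fin (1 + 1), j ≠ i := by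
    fin_cases i
    · exact ⟨1, by decide⟩
    · exact ⟨0, by decide⟩
  let e₀ := chartEquiv k i j hij
  haveI : IsDomain (Chart k i) := e₀.toMulEquiv.isDomain (Polynomial k)
  haveI : IsPrincipalIdealRing (Chart k i) :=
    IsPrincipalIdealRing.of_surjective e₀.symm.toRingHom e₀.symm.surjective
  let U : (P1 k).affineOpens := ⟨(chartι k i) ''ᵁ ⊤,
    (isAffineOpen_top _).image_of_isOpenImmersion (chartι k i)⟩
  let e : Γ(P1 k, U.1) ≃+* Chart k i :=
    ((chartι k i).appIso ⊤ ≪≫ Scheme.ΓSpecIso _).commRingCatIsoToRingEquiv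
  have hyU : chartι k i p ∈ U.1 := ⟨p, trivial, rfl⟩
  refine ⟨U, hyU, e.toMulEquiv.isDomain (Chart k i),
    IsPrincipalIdealRing.of_surjective e.symm.toRingHom e.symm.surjective, ?_⟩
  intro hbot
  apply hfZ
  have h1 := le_support_of_ideal_eq_bot _ U hbot
  rw [Scheme.IdealSheafData.support_comap] at h1
  have hint : IsIntegral (P1 k) := isIntegral_P1 k
  have hirr : IrreducibleSpace (P1 k) := inferInstance
  have hdense : Dense (U.1 : Set (P1 k)) := U.1.2.dense ⟨_, hyU⟩
  have hcl : IsClosed (f ⁻¹' (Set.range iZ)) :=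
    iZ.isClosedEmbedding.isClosed_range.preimage f.continuous
  have h2 : (f ⁻¹' (Set.range iZ)) = Set.univ := by
    rw [← hcl.closure_eq, ← Set.univ_subset_iff, ← hdense.closure_eq]
    apply closure_mono
    intro x hx
    have := h1 hx
    rw [Closeds.coe_preimage, Set.mem_preimage, Scheme.Hom.support_ker,
      iZ.isClosedEmbedding.isClosed_range.closure_eq] at this
    exact this
  rintro _ ⟨x, rfl⟩
  have : x ∈ f ⁻¹' (Set.range iZ) := by rw [h2]; trivial
  exact this

end Groth.Agent.Lead.RatCurve
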