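import Mathlib
import Groth.Prelude
import Groth.Agent.Lib.Lead.RkCons7
import Groth.Agent.Lib.Helper2.FibDim.FlatGen3

set_option autoImplicit false
set_option backward.isDefEq.respectTransparency.types false
set_option synthInstance.maxHeartbeats 400000
set_option linter.style.haveILetI false
set_option linter.unusedSectionVars false
universe u

open CategoryTheory CategoryTheory.Limits AlgebraicGeometry IsLocalRing TopologicalSpace Topology

namespace Groth.Agent.Lead.ReLoc

open LocCoh Groth.Agent.Helper8.FlatReg Groth.Agent.Lead.Coprof Groth.Agent.Lead.SkLoc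
  Groth.Agent.Helper3.FibDepth Groth.Agent.Lead.RkLoc Groth.Agent.Lead.RkCons
open Groth.Agent.Helper3.FibStalk Groth.Agent.Lead.FibCons
open Groth.Agent.Lib.Helper4.FibDim1 Groth.Agent.Lib.Helper4.FibDim2
open Groth.Agent.Lib.Helper4.FibDimComp1 Groth.Agent.Lib.Helper4.Equi10

variable {Y T : Scheme.{u}}

set_option maxHeartbeats 2000000 in
/-- the key transfer over a Dedekind base, without smoothness -/
theorem exists_fibMax_dim_le_dedekind (A : Type u) [CommRing A] [IsDedekindDomain A]
    (f : Y ⟶ Spec (CommRingCat.of A)) [Flat f] [LocallyOfFinitePresentation f] (k : ℕ)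
    (ζ y₀ : Y) (hsp : ζ ⤳ y₀) (hf : f ζ ≠ f y₀)
    (hζ : ringKrullDim ((f.fiber (f ζ)).presheaf.stalk (f.asFiber ζ)) ≤ k)
    (hS : y₀ ∈ skLocus (k + 1) f) :
    ∃ z : Y, ζ ⤳ z ∧ z ⤳ y₀ ∧ f z = f y₀ ∧ IsFibMax f (closure {ζ}) z ∧
      ringKrullDim ((f.fiber (f z)).presheaf.stalk (f.asFiber z)) ≤ k := by
  haveI : IsNoetherianRing A := IsDedekindRing.toIsNoetherian
  haveI : IsLocallyNoetherian (Spec (CommRingCat.of A)) := isLocallyNoetherian_Spec.mpr ‹_›
  haveI : IsLocallyNoetherian Y := LocallyOfFiniteType.isLocallyNoetherian f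
  have hsp' : f ζ ⤳ f y₀ := hsp.map f.continuous
  have hle : (f ζ).asIdeal ≤ (f y₀).asIdeal :=
    (PrimeSpectrum.le_iff_specializes _ _).mpr hsp'
  have hbot : (f ζ).asIdeal = ⊥ := by
    by_contra hne
    have hmax : (f ζ).asIdeal.IsMaximal := (f ζ).isPrime.isMaximal hne
    have : (f ζ).asIdeal = (f y₀).asIdeal := hmax.eq_of_le (f y₀).isPrime.ne_top hle
    exact hf (PrimeSpectrum.ext this)
  have hne : (f y₀).asIdeal ≠ ⊥ := by
    intro h0
    exact hf (PrimeSpectrum.ext (hbot.trans h0.symm))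
  obtain ⟨z, hzT, hzy, hfz, hmax⟩ := exists_fibMax_ge f (closure {ζ}) isClosed_closure y₀
    (specializes_iff_mem_closure.mp hsp)
  have hζz : ζ ⤳ z := specializes_iff_mem_closure.mpr hzT
  refine ⟨z, hζz, hzy, hfz, hmax, ?_⟩
  obtain ⟨hdom, ϖ, hϖ⟩ := stalk_Spec_dedekind A (f z)
  have hϖ0 : ϖ ≠ 0 := by
    intro h0
    rw [h0, Ideal.span_singleton_eq_bot.mpr rfl] at hϖ
    letI : Algebra A ((Spec (CommRingCat.of A)).presheaf.stalk (f z)) :=
      StructureSheaf.stalkAlgebra A (f z)
    haveI : IsLocalization.AtPrime ((Spec (CommRingCat.of A)).presheaf.stalk (f z))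
        (f z).asIdeal := StructureSheaf.IsLocalization.to_stalk A (f z)
    have hfld : IsField ((Spec (CommRingCat.of A)).presheaf.stalk (f z)) :=
      IsLocalRing.isField_iff_maximalIdeal_eq.mpr hϖ
    have hne' : (f z).asIdeal ≠ ⊥ := by rw [hfz]; exact hne
    exact IsLocalization.AtPrime.not_isField A hne' _ hfld
  obtain ⟨γ, hγ, hk⟩ := exists_fibre_presentation f z
  have hker : RingHom.ker γ = Ideal.span {(f.stalkMap z).hom ϖ} := by
    rw [hk, hϖ, Ideal.map_span, Set.image_singleton]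
  have hreg : IsSMulRegular (Y.presheaf.stalk z) ((f.stalkMap z).hom ϖ) := by
    letI := (f.stalkMap z).hom.toAlgebra
    haveI : Module.Flat ((Spec (CommRingCat.of A)).presheaf.stalk (f z))
        (Y.presheaf.stalk z) := Flat.stalkMap f z
    have h1 : IsSMulRegular (Y.presheaf.stalk z) ϖ :=
      Module.Flat.isSMulRegular_of_nonZeroDivisors (mem_nonZeroDivisors_of_ne_zero hϖ0)
    intro a b hab
    apply h1
    simpa [Algebra.smul_def, RingHom.algebraMap_toAlgebra] using hab
  have hmem : (f.stalkMap z).hom ϖ ∈ maximalIdeal (Y.presheaf.stalk z) := by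
    have h1 : ϖ ∈ maximalIdeal ((Spec (CommRingCat.of A)).presheaf.stalk (f z)) := by
      rw [hϖ]; exact Ideal.mem_span_singleton_self ϖ
    rw [mem_maximalIdeal, mem_nonunits_iff] at h1 ⊢
    exact fun hu => h1 (isUnit_of_map_unit (f.stalkMap z).hom ϖ hu)
  let e : (Y.presheaf.stalk z ⧸ Ideal.span {(f.stalkMap z).hom ϖ}) ≃+*
      (f.fiber (f z)).presheaf.stalk (f.asFiber z) :=
    (Ideal.quotEquivOfEq hker.symm).trans (RingHom.quotientKerEquivOfSurjective hγ)
  obtain ⟨p, hp⟩ : ζ ∈ Set.range (Y.fromSpecStalk z) := by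
    rw [Scheme.range_fromSpecStalk]; exact hζz
  subst hp
  haveI : p.asIdeal.IsPrime := p.isPrime
  have hmin : ∀ q : Ideal (Y.presheaf.stalk z), q.IsPrime → p.asIdeal ≤ q →
      (f.stalkMap z).hom ϖ ∈ q → q = maximalIdeal (Y.presheaf.stalk z) := by
    intro q hq hpq htq
    let q' : Spec (Y.presheaf.stalk z) := ⟨q, hq⟩
    have h1 : Y.fromSpecStalk z q' = z := by
      apply hmax
      · have h5 : p ⤳ q' := (PrimeSpectrum.le_iff_specializes p q').mp hpq
        exact specializes_iff_mem_closure.mp (h5.map (Y.fromSpecStalk z).continuous)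
      · have h5 : Y.fromSpecStalk z q' ∈ Set.range (Y.fromSpecStalk z) := ⟨q', rfl⟩
        rw [Scheme.range_fromSpecStalk] at h5
        exact h5
      · have nat := Scheme.SpecMap_stalkMap_fromSpecStalk f (x := z)
        have h2 : f (Y.fromSpecStalk z q') =
            (Spec (CommRingCat.of A)).fromSpecStalk (f z) (Spec.map (f.stalkMap z) q') := by
          rw [← Scheme.Hom.comp_apply, ← Scheme.Hom.comp_apply, nat]
        rw [h2]
        have h3 : Spec.map (f.stalkMap z) q' =
            closedPoint ((Spec (CommRingCat.of A)).presheaf.stalk (f z)) := by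
          apply PrimeSpectrum.ext
          have h6 : maximalIdeal ((Spec (CommRingCat.of A)).presheaf.stalk (f z)) ≤
              q.comap (f.stalkMap z).hom := by
            rw [hϖ, Ideal.span_singleton_le_iff_mem, Ideal.mem_comap]
            exact htq
          have h7 : q.comap (f.stalkMap z).hom ≠ ⊤ := (Ideal.IsPrime.comap _).ne_top
          exact ((maximalIdeal.isMaximal _).eq_of_le h7 h6).symm
        rw [h3, Scheme.fromSpecStalk_closedPoint]
    have h4 : q' = closedPoint (Y.presheaf.stalk z) :=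
      (Y.fromSpecStalk z).isEmbedding.injective (h1.trans Scheme.fromSpecStalk_closedPoint.symm)
    exact congrArg PrimeSpectrum.asIdeal h4
  have hdimp : ringKrullDim (Localization.AtPrime p.asIdeal) ≤ k := by
    rw [← dim_stalk_fromSpecStalk z p]
    obtain ⟨e2⟩ := fiberStalk_equiv_of_maximalIdeal_eq_bot f (Y.fromSpecStalk z p)
      (maximalIdeal_stalk_Spec_eq_bot A _ hbot)
    rw [ringKrullDim_eq_of_ringEquiv e2]
    exact hζ
  have hSz : SkLocal (k + 1) ((f.fiber (f z)).presheaf.stalk (f.asFiber z)) :=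
    (mem_skLocus_iff (k + 1) f y₀).mp hS z hzy hfz
  haveI : IsLocallyNoetherian (f.fiber (f z)) :=
    Groth.Agent.Lead.CMQF.isLocallyNoetherian_fiber f (f z)
  exact dim_fibre_le_of_depth ((f.stalkMap z).hom ϖ) hmem hreg e p.asIdeal hmin k hdimp hSz


section General

variable {X S : Scheme.{u}} (f : X ⟶ S)

/-- fibre-maximal points are the points whose fibre local ring has dimension zero -/
theorem fibreMax_iff_dim_le_zero (z : X) :
    (∀ z' : X, f z' = f z → z' ⤳ z → z' = z) ↔
      ringKrullDim ((f.fiber (f z)).presheaf.stalk (f.asFiber z)) ≤ 0 := by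
  have hnn : (0 : WithBot ℕ∞) ≤ ringKrullDim ((f.fiber (f z)).presheaf.stalk (f.asFiber z)) :=
    ringKrullDim_nonneg_of_nontrivial
  rw [show ringKrullDim ((f.fiber (f z)).presheaf.stalk (f.asFiber z)) ≤ 0 ↔
    ringKrullDim ((f.fiber (f z)).presheaf.stalk (f.asFiber z)) = 0 from
      ⟨fun h => le_antisymm h hnn, fun h => h.le⟩, stalk_fiber_dim_eq_zero_iff]
  constructor
  · intro h b hb
    have h1 : b.1 ⤳ z := hb
    have h2 := h b.1 b.2 h1
    have h3 : b = ⟨z, rfl⟩ := Subtype.ext h2
    rw [h3]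
  · intro h z' hz' hsp
    have h1 : (⟨z, rfl⟩ : {t : X // f t = f z}) ≤ ⟨z', hz'⟩ := hsp
    have h2 : (⟨z', hz'⟩ : {t : X // f t = f z}) ≤ ⟨z, rfl⟩ := h h1
    have h3 : z ⤳ z' := h2
    exact (hsp.antisymm h3).eq

variable [LocallyOfFiniteType f]

/-- the residual transcendence degree does not drop at fibrewise maximal points of the closure -/
theorem tr_le_tr_of_isFibMax (ζ t : X) (hζt : ζ ⤳ t) (hmax : IsFibMax f (closure {ζ}) t) :
    tr f ζ ≤ tr f t := by
  set 𝓘 := Scheme.IdealSheafData.vanishingIdeal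
    (⟨closure {ζ}, isClosed_closure⟩ : Closeds X) with h𝓘
  set i := 𝓘.subschemeι with hi
  have hrange : Set.range i = closure {ζ} := by
    rw [hi, Scheme.IdealSheafData.range_subschemeι,
      Scheme.IdealSheafData.coe_support_vanishingIdeal]
    rfl
  obtain ⟨ζ', hζ'⟩ : ζ ∈ Set.range i := hrange ▸ subset_closure rfl
  obtain ⟨t', ht'⟩ : t ∈ Set.range i := hrange ▸ specializes_iff_mem_closure.mp hζt
  have hsp' : ζ' ⤳ t' := by
    rw [← i.isClosedEmbedding.isEmbedding.isInducing.specializes_iff, hζ', ht']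
    exact hζt
  have hmax' : ∀ z' : 𝓘.subscheme, (i ≫ f) z' = (i ≫ f) t' → z' ⤳ t' → z' = t' := by
    intro z' hfz' hz'
    apply i.isClosedEmbedding.isEmbedding.injective
    rw [ht']
    apply hmax
    · rw [← hrange]; exact ⟨z', rfl⟩
    · rw [← ht']; exact hz'.map i.continuous
    · rw [← ht']; exact hfz'
  have h1 := fibreDimAt_mono_of_specializes (i ≫ f) ζ' t' hsp'
  rw [fibreDimAt_eq_tr_of_max_nn (i ≫ f) t' hmax'] at h1
  have h2 := tr_le_fibreDimAt_nn (i ≫ f) ζ'
  have h3 := h2.trans h1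
  rw [tr_comp_closedImmersion, tr_comp_closedImmersion, hζ', ht'] at h3
  exact_mod_cast h3

end General

/-- for flat morphisms of finite presentation, the fibre dimension is constant along
generizations of fibrewise maximal points -/
theorem fibreDimAt_eq_of_fibreMax {X S : Scheme.{u}} (f : X ⟶ S) [Flat f]
    [LocallyOfFinitePresentation f] (t ζ : X) (hsp : ζ ⤳ t)
    (hmax : ∀ z' : X, f z' = f t → z' ⤳ t → z' = t) :
    FlatMor.fibreDimAt f ζ = FlatMor.fibreDimAt f t := by
  apply le_antisymm (fibreDimAt_mono_of_specializes f ζ t hsp)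
  rw [fibreDimAt_eq_tr_of_max_nn f t hmax]
  exact Groth.Agent.Helper2.FibDim.tr_le_fibreDimAt_of_specializes_of_flat_fp f t ζ hsp

end Groth.Agent.Lead.ReLoc
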