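import Mathlib
import Groth.Prelude
import Groth.Agent.Lib.Lead.ReLoc1

set_option autoImplicit false
set_option backward.isDefEq.respectTransparency.types false
set_option synthInstance.maxHeartbeats 400000
set_option linter.style.haveILetI false
set_option linter.unusedSectionVars false
universe u

open CategoryTheory CategoryTheory.Limits AlgebraicGeometry IsLocalRing TopologicalSpace Topology

namespace Groth.Agent.Lead.ReLoc

open LocCoh Groth.Agent.Helper8.FlatReg Groth.Agent.Lead.Coprof Groth.Agent.Lead.SkLoc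
  Groth.Agent.Helper3.FibDepth Groth.Agent.Lead.RkLoc Groth.Agent.Lead.RkCons
open Groth.Agent.Helper3.FibStalk Groth.Agent.Lead.FibCons
open Groth.Agent.Lib.Helper4.FibDim1 Groth.Agent.Lib.Helper4.FibDim2
open Groth.Agent.Lib.Helper4.FibDimComp1 Groth.Agent.Lib.Helper4.Equi10
open Groth.Agent.Lib.Helper4.FibDimBC2

/-- the locus where the fibre is geometrically `(R_k)`, equidimensional and `(S_1)` -/
def reLocus (k : ℕ) {X S : Scheme.{u}} (f : X ⟶ S) : Set X :=
  rkLocus k f ∩ eqLocus f ∩ skLocus 1 f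

theorem reLocus_baseChange (n : ℕ) {X Y X' Y' : Scheme.{u}} (f : X ⟶ Y)
    [LocallyOfFinitePresentation f]
    (g : Y' ⟶ Y) (f' : X' ⟶ Y') (g' : X' ⟶ X) (hsq : IsPullback g' f' f g) :
    reLocus n f' = g' ⁻¹' reLocus n f := by
  unfold reLocus
  rw [rkLocus_baseChange n f g f' g' hsq, skLocus_baseChange 1 f g f' g' hsq,
    eqLocus_baseChange f g f' g' hsq, Set.preimage_inter, Set.preimage_inter]

theorem reLocus_comp_openImmersion (n : ℕ) {P Z S : Scheme.{u}} (j : P ⟶ Z)
    [IsOpenImmersion j] (g : Z ⟶ S) : reLocus n (j ≫ g) = j ⁻¹' reLocus n g := by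
  unfold reLocus
  rw [rkLocus_comp_openImmersion, skLocus_comp_openImmersion, eqLocus_comp_openImmersion,
    Set.preimage_inter, Set.preimage_inter]

section Dedekind

variable {Y : Scheme.{u}} (A : Type u) [CommRing A] [IsDedekindDomain A]
  (f : Y ⟶ Spec (CommRingCat.of A)) [Flat f] [LocallyOfFinitePresentation f]

theorem fibreDimAt_eq_of_specializes_dedekind (y₀ z : Y) (hS : y₀ ∈ skLocus 1 f)
    (hE : y₀ ∈ eqLocus f) (hz : z ⤳ y₀) (hf : f z ≠ f y₀) :
    FlatMor.fibreDimAt f z = FlatMor.fibreDimAt f y₀ := by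
  obtain ⟨ζ, hζz, hfζ, hζmax⟩ := exists_fibreMax_ge f z
  have hζy : ζ ⤳ y₀ := hζz.trans hz
  have hfζ' : f ζ ≠ f y₀ := by rw [hfζ]; exact hf
  have hdim : ringKrullDim ((f.fiber (f ζ)).presheaf.stalk (f.asFiber ζ)) ≤ ((0 : ℕ) : WithBot ℕ∞) := by
    have := (fibreMax_iff_dim_le_zero f ζ).mp hζmax
    exact_mod_cast this
  obtain ⟨t, hζt, hty, hft, -, htdim⟩ :=
    exists_fibMax_dim_le_dedekind A f 0 ζ y₀ hζy hfζ' hdim hS
  have htmax := (fibreMax_iff_dim_le_zero f t).mpr (by exact_mod_cast htdim)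
  have h1 : FlatMor.fibreDimAt f ζ = FlatMor.fibreDimAt f t :=
    fibreDimAt_eq_of_fibreMax f t ζ hζt htmax
  have h2 : FlatMor.fibreDimAt f t = FlatMor.fibreDimAt f y₀ := hE t hty hft
  have h3 := fibreDimAt_mono_of_specializes f ζ z hζz
  have h4 := fibreDimAt_mono_of_specializes f z y₀ hz
  exact le_antisymm h4 (by rw [← h2, ← h1]; exact h3)

set_option maxHeartbeats 1000000 in
theorem mem_rkLocus_of_specializes_dedekind (k : ℕ) (y₀ y₁ : Y) (hy₀ : y₀ ∈ reLocus k f)
    (hsp : y₁ ⤳ y₀) (hf : f y₁ ≠ f y₀) : y₁ ∈ rkLocus k f := by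
  obtain ⟨⟨hR, hE⟩, hS⟩ := hy₀
  haveI : IsNoetherianRing A := IsDedekindRing.toIsNoetherian
  haveI : IsLocallyNoetherian (Spec (CommRingCat.of A)) := isLocallyNoetherian_Spec.mpr ‹_›
  haveI : IsLocallyNoetherian Y := LocallyOfFiniteType.isLocallyNoetherian f
  intro ζ hζy hfζ hbad
  have hζy₀ : ζ ⤳ y₀ := hζy.trans hsp
  obtain ⟨t, htT, hty, hft, hmax⟩ := exists_fibMax_ge f (closure {ζ}) isClosed_closure y₀
    (specializes_iff_mem_closure.mp hζy₀)
  have hζt : ζ ⤳ t := specializes_iff_mem_closure.mpr htT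
  apply hR t hty hft
  refine ⟨?_, ?_⟩
  · intro ht
    have hopen : IsOpen (smLocus f) := by
      rw [smLocus_eq_of_flat]; exact f.smoothLocus.isOpen
    exact hbad.1 (hζt.mem_open hopen ht)
  · have h1 := Groth.Agent.Helper2.FibDim.fibreDimAt_eq_stalk_add_tr f t
    have h2 := Groth.Agent.Helper2.FibDim.fibreDimAt_eq_stalk_add_tr f ζ
    have h3 : FlatMor.fibreDimAt f t = FlatMor.fibreDimAt f y₀ := hE t hty hft
    have h4 : FlatMor.fibreDimAt f ζ = FlatMor.fibreDimAt f y₀ :=
      fibreDimAt_eq_of_specializes_dedekind A f y₀ ζ hS hE hζy₀ (by rw [hfζ]; exact hf)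
    have h5 := tr_le_tr_of_isFibMax f ζ t hζt hmax
    haveI : IsLocallyNoetherian (f.fiber (f t)) :=
      Groth.Agent.Lead.CMQF.isLocallyNoetherian_fiber f (f t)
    haveI : IsLocallyNoetherian (f.fiber (f ζ)) :=
      Groth.Agent.Lead.CMQF.isLocallyNoetherian_fiber f (f ζ)
    obtain ⟨a, ha⟩ := exists_stalk_dim_nat (Y := f.fiber (f t)) (f.asFiber t)
    obtain ⟨b, hb⟩ := exists_stalk_dim_nat (Y := f.fiber (f ζ)) (f.asFiber ζ)
    have h6 := hbad.2
    rw [hb] at h6
    rw [ha]
    rw [h3, ha] at h1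
    rw [h4, hb, h1] at h2
    have h7 : a + tr f t = b + tr f ζ := by exact_mod_cast h2
    have h8 : b ≤ k := by exact_mod_cast h6
    have h9 : a ≤ k := by omega
    exact_mod_cast h9

theorem stableUnderGeneralization_reLocus_dedekind (k : ℕ) :
    StableUnderGeneralization (reLocus k f) := by
  intro y₀ y₁ hsp hy₀
  by_cases hf : f y₁ = f y₀
  · obtain ⟨⟨hR, hE⟩, hS⟩ := hy₀
    refine ⟨⟨?_, ?_⟩, ?_⟩
    · intro z hz hfz
      exact hR z (hz.trans hsp) (hfz.trans hf)
    · intro z hz hfz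
      rw [hE z (hz.trans hsp) (hfz.trans hf), hE y₁ hsp hf]
    · rw [mem_skLocus_iff] at hS ⊢
      intro z hz hfz
      exact hS z (hz.trans hsp) (hfz.trans hf)
  · refine ⟨⟨mem_rkLocus_of_specializes_dedekind A f k y₀ y₁ hy₀ hsp hf, ?_⟩, ?_⟩
    · obtain ⟨⟨hR, hE⟩, hS⟩ := hy₀
      intro z hz hfz
      rw [fibreDimAt_eq_of_specializes_dedekind A f y₀ z hS hE (hz.trans hsp)
        (by rw [hfz]; exact hf),
        fibreDimAt_eq_of_specializes_dedekind A f y₀ y₁ hS hE hsp hf]
    · exact stableUnderGeneralization_skLocus_dedekind A f 1 hsp hy₀.2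

end Dedekind


set_option maxHeartbeats 1000000 in
/-- over a locally Noetherian base, the locus is stable under generization -/
theorem stableUnderGeneralization_reLocus {X S : Scheme.{u}} [IsLocallyNoetherian S]
    (f : X ⟶ S) [Flat f] [LocallyOfFinitePresentation f] (k : ℕ) :
    StableUnderGeneralization (reLocus k f) := by
  intro x₀ x₁ hsp hx₀
  by_cases hne : x₁ = x₀
  · rw [hne]; exact hx₀
  haveI : IsLocallyNoetherian X := LocallyOfFiniteType.isLocallyNoetherian f
  obtain ⟨A, h, hdvr, hcl, hgen⟩ :=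
    Groth.Agent.Lib.Helper4.DomDVR.S4450_main (𝟙 X) x₁ x₀ hsp (Ne.symm hne)
  haveI := hdvr
  let f' : pullback f (h ≫ f) ⟶ Spec (CommRingCat.of A) := pullback.snd f (h ≫ f)
  let g' : pullback f (h ≫ f) ⟶ X := pullback.fst f (h ≫ f)
  have hsq : IsPullback g' f' f (h ≫ f) := IsPullback.of_hasPullback _ _
  let σ : Spec (CommRingCat.of A) ⟶ pullback f (h ≫ f) :=
    pullback.lift h (𝟙 _) (by simp)
  have hσg : σ ≫ g' = h := pullback.lift_fst _ _ _
  have hbc := reLocus_baseChange k f (h ≫ f) f' g' hsq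
  haveI : Flat f' := MorphismProperty.pullback_snd _ _ inferInstance
  haveI : LocallyOfFinitePresentation f' := MorphismProperty.pullback_snd _ _ inferInstance
  have hG := stableUnderGeneralization_reLocus_dedekind A f' k
  let t₀ : Spec (CommRingCat.of A) := closedPoint A
  let t₁ : Spec (CommRingCat.of A) :=
    (Spec.map (CommRingCat.ofHom A.subtype)) (closedPoint (X.residueField x₁))
  have ht : t₁ ⤳ t₀ := specializes_closedPoint t₁
  have h0 : g' (σ t₀) = x₀ := by
    rw [← Scheme.Hom.comp_apply, hσg]; exact hcl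
  have h1 : g' (σ t₁) = x₁ := by
    rw [← Scheme.Hom.comp_apply, hσg]
    change h ((Spec.map (CommRingCat.ofHom A.subtype)) (closedPoint (X.residueField x₁))) = x₁
    rw [← Scheme.Hom.comp_apply, hgen, Category.comp_id]
    exact Scheme.fromSpecResidueField_apply x₁ _
  have hy₀ : σ t₀ ∈ reLocus k f' := by
    rw [hbc, Set.mem_preimage, h0]; exact hx₀
  have hy₁ : σ t₁ ∈ reLocus k f' := hG (ht.map σ.continuous) hy₀
  rw [hbc, Set.mem_preimage, h1] at hy₁
  exact hy₁

/-- locally constructible sets stable under generization are open -/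
theorem isOpen_of_isLocallyConstructible_of_stableUnderGeneralization {X : Scheme.{u}}
    {T : Set X} (hT : IsLocallyConstructible T) (hg : StableUnderGeneralization T) :
    IsOpen T := by
  rw [isOpen_iff_mem_nhds]
  intro y hy
  obtain ⟨_, ⟨V, hV : IsAffineOpen V, rfl⟩, hyV, -⟩ :=
    X.isBasis_affineOpens.exists_subset_of_mem_open (Set.mem_univ y) isOpen_univ
  let φ := hV.fromSpec
  have h1 : IsLocallyConstructible (φ ⁻¹' T) :=
    hT.preimage_of_isOpenEmbedding φ.isOpenEmbedding
  have h1' : IsConstructible (φ ⁻¹' T) := by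
    haveI : CompactSpace (Spec Γ(X, V)) := inferInstance
    exact h1.isConstructible
  have h2 : StableUnderGeneralization (φ ⁻¹' T) := hg.preimage φ.continuous
  have h3 : IsOpen (φ ⁻¹' T) :=
    PrimeSpectrum.isOpen_of_stableUnderGeneralization_of_isConstructible h2 h1'
  have h4 : IsOpen (φ '' (φ ⁻¹' T)) := φ.isOpenEmbedding.isOpenMap _ h3
  rw [Set.image_preimage_eq_inter_range, hV.range_fromSpec] at h4
  exact Filter.mem_of_superset (h4.mem_nhds ⟨hy, hyV⟩) Set.inter_subset_left

theorem isLocallyConstructible_reLocus {X S : Scheme.{u}} (f : X ⟶ S)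
    [LocallyOfFinitePresentation f] (k : ℕ) : IsLocallyConstructible (reLocus k f) :=
  ((isLocallyConstructible_rkLocus f k).inter (isLocallyConstructible_eqLocus f)).inter
    ((fibLocus_skLocus 1).isLocallyConstructible f)

theorem approxLocus_reLocus (k : ℕ) :
    ApproxLocus (fun {X S : Scheme.{u}} (f : X ⟶ S) => reLocus k f) where
  baseChange := fun f _ g f' g' hsq => reLocus_baseChange k f g f' g' hsq
  openImm := fun j _ g => reLocus_comp_openImmersion k j g
  isOpenNoeth := fun h _ _ =>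
    isOpen_of_isLocallyConstructible_of_stableUnderGeneralization
      (isLocallyConstructible_reLocus h k) (stableUnderGeneralization_reLocus h k)

/-- for `f` flat and locally of finite presentation, the set of points where
the fibre is geometrically `(R_k)`, equidimensional and without embedded components is open. -/
theorem isOpen_reLocus {X S : Scheme.{u}} (f : X ⟶ S) [Flat f] [LocallyOfFinitePresentation f]
    (k : ℕ) : IsOpen (reLocus k f) :=
  (approxLocus_reLocus k).isOpen f

end Groth.Agent.Lead.ReLoc
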