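import Mathlib
import Groth.Prelude
import Groth.Agent.Lib.Lead.ReLoc2

set_option autoImplicit false
set_option backward.isDefEq.respectTransparency.types false
set_option synthInstance.maxHeartbeats 400000
set_option linter.style.haveILetI false
set_option linter.unusedSectionVars false
universe u

open CategoryTheory CategoryTheory.Limits AlgebraicGeometry IsLocalRing TopologicalSpace Topology

namespace Groth.Agent.Lead.ReLoc

open Groth.Agent.Lib.Helper4.FibDim1 Groth.Agent.Lib.Helper4.FibDim2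
open Groth.Agent.Lib.Helper4.FibDimComp1 Groth.Agent.Lib.Helper4.Equi10
open Groth.Agent.Lib.Helper4.FibDim3 Groth.Agent.Lib.Helper4.FibDim4

theorem ringKrullDim_quotient_eq_coheight {R : Type*} [CommRing R] (p : PrimeSpectrum R) :
    ringKrullDim (R ⧸ p.asIdeal) = Order.coheight p := by
  rw [ringKrullDim_quotient, Order.coheight_eq_krullDim_Ici]
  have : PrimeSpectrum.zeroLocus (R := R) p.asIdeal = Set.Ici p := by
    ext q
    simp only [PrimeSpectrum.mem_zeroLocus, SetLike.coe_subset_coe, Set.mem_Ici]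
    rfl
  rw [this]

section Field

variable {κ : Type u} [Field κ] {F : Scheme.{u}} (h : F ⟶ Spec (CommRingCat.of κ))
  [LocallyOfFiniteType h]

theorem map_eq_of_field (a b : F) : h a = h b :=
  Subsingleton.elim (α := PrimeSpectrum κ) _ _

theorem fromSpecStalk_specializes (w : F) (p : PrimeSpectrum (F.presheaf.stalk w)) :
    F.fromSpecStalk w p ⤳ w := by
  have h1 : F.fromSpecStalk w p ∈ Set.range (F.fromSpecStalk w) := ⟨p, rfl⟩
  rw [Scheme.range_fromSpecStalk] at h1
  exact h1

theorem fromSpecStalk_specializes_iff (w : F) (p q : PrimeSpectrum (F.presheaf.stalk w)) :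
    F.fromSpecStalk w p ⤳ F.fromSpecStalk w q ↔ p ≤ q := by
  rw [(F.fromSpecStalk w).isEmbedding.isInducing.specializes_iff]
  exact (PrimeSpectrum.le_iff_specializes p q).symm

set_option maxHeartbeats 1000000 in
/-- upper bound for the dimension of the quotient of a local ring of a scheme locally of finite
type over a field by a prime -/
theorem dim_quotient_add_tr_le (w : F) (p : PrimeSpectrum (F.presheaf.stalk w)) :
    ringKrullDim (F.presheaf.stalk w ⧸ p.asIdeal) + ((tr h w : ℕ) : WithBot ℕ∞) ≤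
      ((tr h (F.fromSpecStalk w p) : ℕ) : WithBot ℕ∞) := by
  rw [ringKrullDim_quotient_eq_coheight p]
  set ζ := F.fromSpecStalk w p with hζ
  let a : {z : F // h z = h w} := ⟨w, rfl⟩
  let b : {z : F // h z = h w} := ⟨ζ, map_eq_of_field h _ _⟩
  have hab : a ≤ b := fromSpecStalk_specializes w p
  let k : (PrimeSpectrum (F.presheaf.stalk w))ᵒᵈ → Set.Ici a := fun q =>
    ⟨⟨F.fromSpecStalk w (OrderDual.ofDual q), map_eq_of_field h _ _⟩,
      fromSpecStalk_specializes w (OrderDual.ofDual q)⟩
  have hk : StrictMono k := by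
    intro q₁ q₂ hlt
    have h1 : OrderDual.ofDual q₂ < OrderDual.ofDual q₁ := hlt
    have h2 : F.fromSpecStalk w (OrderDual.ofDual q₂) ⤳ F.fromSpecStalk w (OrderDual.ofDual q₁) :=
      (fromSpecStalk_specializes_iff w _ _).mpr h1.le
    have h3 : ¬ F.fromSpecStalk w (OrderDual.ofDual q₁) ⤳
        F.fromSpecStalk w (OrderDual.ofDual q₂) := by
      intro h4
      exact (not_le_of_gt h1) ((fromSpecStalk_specializes_iff w _ _).mp h4)
    exact lt_of_le_not_ge h2 h3
  have h1 : Order.coheight p ≤ Order.height (k (OrderDual.toDual p)) :=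
    Order.height_le_height_apply_of_strictMono k hk (OrderDual.toDual p)
  have h2 := height_add_height_Ici_le a b hab
  rw [height_fib_nn h (h w) w rfl, height_fib_nn h (h w) ζ (map_eq_of_field h _ _)] at h2
  have h3 : (tr h w : ℕ∞) + Order.coheight p ≤ (tr h ζ : ℕ∞) :=
    le_trans (add_le_add le_rfl h1) h2
  have h4 : ((Order.coheight p + (tr h w : ℕ∞) : ℕ∞) : WithBot ℕ∞) ≤ ((tr h ζ : ℕ∞) : WithBot ℕ∞) := by
    rw [add_comm]
    exact_mod_cast h3
  exact_mod_cast h4

set_option maxHeartbeats 1000000 in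
theorem tr_le_dim_quotient_add_tr_aux {Z : Scheme.{u}} (i : Z ⟶ F) [IsClosedImmersion i] (w : F)
    (p : PrimeSpectrum (F.presheaf.stalk w))
    (hrange : Set.range i = closure {F.fromSpecStalk w p}) (ζ' w' : Z)
    (hζ' : i ζ' = F.fromSpecStalk w p) (hw' : i w' = w) :
    ((tr h (F.fromSpecStalk w p) : ℕ) : WithBot ℕ∞) ≤
      ringKrullDim (F.presheaf.stalk w ⧸ p.asIdeal) + ((tr h w : ℕ) : WithBot ℕ∞) := by
  subst hw'
  have hζw : F.fromSpecStalk (i w') p ⤳ i w' := fromSpecStalk_specializes (i w') p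
  have hsp' : ζ' ⤳ w' := by
    rw [← i.isClosedEmbedding.isEmbedding.isInducing.specializes_iff, hζ']
    exact hζw
  haveI : IsLocallyNoetherian (Spec (CommRingCat.of κ)) :=
    isLocallyNoetherian_Spec.mpr inferInstance
  have h1 := tr_le_coheight_add (i ≫ h) w' ζ' hsp' (map_eq_of_field (i ≫ h) _ _)
  rw [tr_comp_closedImmersion, tr_comp_closedImmersion, hζ'] at h1
  have h2 : Order.coheight (⟨w', rfl⟩ : {z' : Z // (i ≫ h) z' = (i ≫ h) w'}) ≤
      Order.coheight w' :=
    Order.coheight_le_coheight_apply_of_strictMono Subtype.val (fun _ _ hlt => hlt) _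
  have h3 : (Order.coheight w' : WithBot ℕ∞) =
      ringKrullDim (Z.presheaf.stalk w') :=
    (AlgebraicGeometry.ringKrullDim_stalk_eq_coheight w').symm
  -- Path A
  have h4 : ringKrullDim (Z.presheaf.stalk w') ≤
      ringKrullDim (F.presheaf.stalk (i w') ⧸ p.asIdeal) := by
    rw [ringKrullDim_quotient]
    unfold ringKrullDim
    have hsurj : Function.Surjective (i.stalkMap w').hom := i.stalkMap_surjective w'
    let c : PrimeSpectrum (Z.presheaf.stalk w') →
        PrimeSpectrum.zeroLocus (R := F.presheaf.stalk (i w')) p.asIdeal := fun q' =>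
      ⟨PrimeSpectrum.comap (i.stalkMap w').hom q', by
        have nat := Scheme.SpecMap_stalkMap_fromSpecStalk i (x := w')
        have h5 : F.fromSpecStalk (i w') (PrimeSpectrum.comap (i.stalkMap w').hom q') =
            i (Z.fromSpecStalk w' q') := by
          change F.fromSpecStalk (i w') (Spec.map (i.stalkMap w') q') = i (Z.fromSpecStalk w' q')
          rw [← Scheme.Hom.comp_apply, ← Scheme.Hom.comp_apply, nat]
        have h6 : F.fromSpecStalk (i w') p ⤳
            F.fromSpecStalk (i w') (PrimeSpectrum.comap (i.stalkMap w').hom q') := by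
          rw [specializes_iff_mem_closure, ← hrange, h5]
          exact ⟨_, rfl⟩
        exact (fromSpecStalk_specializes_iff (i w') p _).mp h6⟩
    have hc : StrictMono c := by
      have hmono : Monotone c := fun q₁ q₂ hle =>
        Ideal.comap_mono (f := (i.stalkMap w').hom) hle
      apply hmono.strictMono_of_injective
      intro q₁ q₂ heq
      have := congrArg Subtype.val heq
      exact PrimeSpectrum.comap_injective_of_surjective _ hsurj this
    exact Order.krullDim_le_of_strictMono c hc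
  have h5 : ((tr h (F.fromSpecStalk (i w') p) : ℕ∞) : WithBot ℕ∞) ≤
      ((Order.coheight w' + (tr h (i w') : ℕ∞) : ℕ∞) : WithBot ℕ∞) := by
    have := le_trans h1 (add_le_add h2 le_rfl)
    exact_mod_cast this
  rw [WithBot.coe_add, h3] at h5
  refine le_trans ?_ (le_trans h5 (add_le_add h4 ?_))
  · exact_mod_cast le_rfl
  · exact_mod_cast le_rfl

/-- lower bound -/
theorem tr_le_dim_quotient_add_tr (w : F) (p : PrimeSpectrum (F.presheaf.stalk w)) :
    ((tr h (F.fromSpecStalk w p) : ℕ) : WithBot ℕ∞) ≤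
      ringKrullDim (F.presheaf.stalk w ⧸ p.asIdeal) + ((tr h w : ℕ) : WithBot ℕ∞) := by
  have hrange : Set.range (Scheme.IdealSheafData.vanishingIdeal
      (⟨closure {F.fromSpecStalk w p}, isClosed_closure⟩ : Closeds F)).subschemeι =
        closure {F.fromSpecStalk w p} := by
    rw [Scheme.IdealSheafData.range_subschemeι,
      Scheme.IdealSheafData.coe_support_vanishingIdeal]
    rfl
  have hζw : F.fromSpecStalk w p ⤳ w := fromSpecStalk_specializes w p
  obtain ⟨ζ', hζ'⟩ : F.fromSpecStalk w p ∈ Set.range (Scheme.IdealSheafData.vanishingIdeal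
      (⟨closure {F.fromSpecStalk w p}, isClosed_closure⟩ : Closeds F)).subschemeι :=
    by rw [hrange]; exact subset_closure rfl
  obtain ⟨w', hw'⟩ : w ∈ Set.range (Scheme.IdealSheafData.vanishingIdeal
      (⟨closure {F.fromSpecStalk w p}, isClosed_closure⟩ : Closeds F)).subschemeι :=
    by rw [hrange]; exact specializes_iff_mem_closure.mp hζw
  exact tr_le_dim_quotient_add_tr_aux h _ w p hrange ζ' w' hζ' hw'

end Field


section Fibre

open Groth.Agent.Helper3.FibStalk Groth.Agent.Lead.RkCons Groth.Agent.Lib.Helper4.Aff2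

variable {X S : Scheme.{u}} (f : X ⟶ S) [LocallyOfFiniteType f]

/-- the point of `X` attached to a prime of the local ring of the fibre at `x` -/
noncomputable def ptOf (x : X)
    (P : PrimeSpectrum ((f.fiber (f x)).presheaf.stalk (f.asFiber x))) : X :=
  f.fiberι (f x) ((f.fiber (f x)).fromSpecStalk (f.asFiber x) P)

theorem ptOf_specializes (x : X)
    (P : PrimeSpectrum ((f.fiber (f x)).presheaf.stalk (f.asFiber x))) : ptOf f x P ⤳ x := by
  have h1 := (fromSpecStalk_specializes (f.asFiber x) P).map (f.fiberι (f x)).continuous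
  rwa [f.fiberι_asFiber] at h1

theorem apply_ptOf (x : X)
    (P : PrimeSpectrum ((f.fiber (f x)).presheaf.stalk (f.asFiber x))) : f (ptOf f x P) = f x :=
  apply_fiberι f (f x) _

theorem ptOf_specializes_iff (x : X)
    (P Q : PrimeSpectrum ((f.fiber (f x)).presheaf.stalk (f.asFiber x))) :
    ptOf f x P ⤳ ptOf f x Q ↔ P ≤ Q := by
  unfold ptOf
  rw [(f.fiberι (f x)).isEmbedding.isInducing.specializes_iff, fromSpecStalk_specializes_iff]

theorem ptOf_injective (x : X) : Function.Injective (ptOf f x) := by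
  intro P Q hPQ
  exact (f.fiber (f x)).fromSpecStalk (f.asFiber x) |>.isEmbedding.injective
    ((f.fiberι (f x)).isEmbedding.injective hPQ)

theorem exists_ptOf_eq (x z : X) (hz : z ⤳ x) (hfz : f z = f x) :
    ∃ P, ptOf f x P = z := by
  obtain ⟨w', hw'⟩ : z ∈ Set.range (f.fiberι (f x)) := by
    rw [Scheme.Hom.range_fiberι]; exact hfz
  have hsp : w' ⤳ f.asFiber x := by
    rw [← (f.fiberι (f x)).isEmbedding.isInducing.specializes_iff, hw', f.fiberι_asFiber]
    exact hz
  obtain ⟨P, hP⟩ : w' ∈ Set.range ((f.fiber (f x)).fromSpecStalk (f.asFiber x)) := by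
    rw [Scheme.range_fromSpecStalk]; exact hsp
  exact ⟨P, by unfold ptOf; rw [hP, hw']⟩

theorem dim_quotient_add_tr_eq (x : X)
    (P : PrimeSpectrum ((f.fiber (f x)).presheaf.stalk (f.asFiber x))) :
    ringKrullDim ((f.fiber (f x)).presheaf.stalk (f.asFiber x) ⧸ P.asIdeal) +
      ((tr f x : ℕ) : WithBot ℕ∞) = ((tr f (ptOf f x P) : ℕ) : WithBot ℕ∞) := by
  haveI : LocallyOfFiniteType (f.fiberToSpecResidueField (f x)) :=
    MorphismProperty.pullback_snd _ _ inferInstance
  have h1 := dim_quotient_add_tr_le (κ := S.residueField (f x))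
    (f.fiberToSpecResidueField (f x)) (f.asFiber x) P
  have h2 := tr_le_dim_quotient_add_tr (κ := S.residueField (f x))
    (f.fiberToSpecResidueField (f x)) (f.asFiber x) P
  rw [tr_fiber, tr_fiber, f.fiberι_asFiber] at h1 h2
  exact le_antisymm h1 h2

theorem fibreMax_ptOf_iff (x : X)
    (P : PrimeSpectrum ((f.fiber (f x)).presheaf.stalk (f.asFiber x))) :
    (∀ z' : X, f z' = f (ptOf f x P) → z' ⤳ ptOf f x P → z' = ptOf f x P) ↔
      P.asIdeal ∈ minimalPrimes ((f.fiber (f x)).presheaf.stalk (f.asFiber x)) := by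
  constructor
  · intro hmax
    refine ⟨⟨P.isPrime, bot_le⟩, ?_⟩
    rintro q ⟨hq, -⟩ hqP
    let Q : PrimeSpectrum ((f.fiber (f x)).presheaf.stalk (f.asFiber x)) := ⟨q, hq⟩
    have h1 : ptOf f x Q ⤳ ptOf f x P := (ptOf_specializes_iff f x Q P).mpr hqP
    have h2 := hmax _ ((apply_ptOf f x Q).trans (apply_ptOf f x P).symm) h1
    have h3 : Q = P := ptOf_injective f x h2
    rw [← h3]
  · intro hmin z' hfz' hz'
    obtain ⟨Q, rfl⟩ := exists_ptOf_eq f x z' (hz'.trans (ptOf_specializes f x P))
      (hfz'.trans (apply_ptOf f x P))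
    have h1 : Q ≤ P := (ptOf_specializes_iff f x Q P).mp hz'
    have h2 : P.asIdeal ≤ Q.asIdeal := hmin.2 ⟨Q.isPrime, bot_le⟩ h1
    rw [le_antisymm h1 h2]

/-- **Equidimensionality of the local ring of the fibre** in terms of the local dimensions of
the fibre at generizations. -/
theorem isEquidim_stalk_iff_mem_eqLocus (x : X) :
    EGA4.IsEquidim ((f.fiber (f x)).presheaf.stalk (f.asFiber x)) ↔ x ∈ eqLocus f := by
  have hfd := Groth.Agent.Helper2.FibDim.fibreDimAt_eq_stalk_add_tr f x
  constructor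
  · intro hE z hz hfz
    obtain ⟨ζ, hfζ, hζz, hζmax, hfdz⟩ := exists_fibreMax_tr_eq f z
    obtain ⟨P, rfl⟩ := exists_ptOf_eq f x ζ (hζz.trans hz) (hfζ.trans hfz)
    have hmin := (fibreMax_ptOf_iff f x P).mp hζmax
    have h1 := hE _ hmin
    rw [hfdz, ← dim_quotient_add_tr_eq f x P, h1, hfd]
  · intro hx p hp
    have hpp : p.IsPrime := hp.1.1
    let P : PrimeSpectrum ((f.fiber (f x)).presheaf.stalk (f.asFiber x)) := ⟨p, hpp⟩
    have hmax := (fibreMax_ptOf_iff f x P).mpr hp
    have h1 := fibreDimAt_eq_tr_of_max_nn f _ hmax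
    have h2 := hx _ (ptOf_specializes f x P) (apply_ptOf f x P)
    have h3 := dim_quotient_add_tr_eq f x P
    rw [← h1, h2, hfd] at h3
    exact add_natCast_cancel _ _ _ h3

end Fibre

end Groth.Agent.Lead.ReLoc
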