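import Mathlib
import Groth.Prelude
import Groth.Agent.Lib.Lead.ReLoc3
import Groth.Agent.Lib.Lead.RkLoc7
import Groth.Agent.Lib.Helper8.Depth29

set_option autoImplicit false
set_option backward.isDefEq.respectTransparency.types false
set_option synthInstance.maxHeartbeats 400000
set_option linter.style.haveILetI false
set_option linter.unusedSectionVars false
universe u

open CategoryTheory CategoryTheory.Limits AlgebraicGeometry IsLocalRing TopologicalSpace Topology

namespace Groth.Agent.Lead.ReLoc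

open LocCoh Groth.Agent.Lead.FibCons Groth.Agent.Lead.SkLoc Groth.Agent.Lead.RkLoc
  Groth.Agent.Lead.RkCons

theorem noEmbedded_iff_hasSk_one (R : Type u) [CommRing R] [IsNoetherianRing R] :
    (∀ p ∈ associatedPrimes R R, p ∈ minimalPrimes R) ↔ HasSk 1 R R := by
  rw [← Groth.Agent.Helper8.Depth.noEmbeddedPrimes_iff_hasSk_one]
  have h : Module.annihilator R R = ⊥ := by
    rw [Module.annihilator_eq_bot]
    infer_instance
  rw [h]

/-- the condition of S5931 at a point of a fibre -/
theorem cond_iff {X Y : Scheme.{u}} (f : X ⟶ Y) [LocallyOfFinitePresentation f] (k : ℕ) (y : Y)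
    (x : ↥(f.fiber y)) :
    ((∀ (K : Type u) [Field K] [Algebra (IsLocalRing.ResidueField (Y.presheaf.stalk y)) K],
        Module.Finite (IsLocalRing.ResidueField (Y.presheaf.stalk y)) K →
        ∀ x' : ↥(FBase.bc (f.fiberToSpecResidueField y) K),
          (FBase.bcπ (f.fiberToSpecResidueField y) K).base x' = x →
          LocCoh.HasRk k ((FBase.bc (f.fiberToSpecResidueField y) K).presheaf.stalk x')) ∧
      EGA4.IsEquidim ↑((f.fiber y).presheaf.stalk x) ∧
      (∀ p ∈ associatedPrimes ↑((f.fiber y).presheaf.stalk x) ↑((f.fiber y).presheaf.stalk x),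
        p ∈ minimalPrimes ↑((f.fiber y).presheaf.stalk x)))
      ↔ f.fiberι y x ∈ reLocus k f := by
  haveI := lfp_fiber f y
  haveI : IsLocallyNoetherian (f.fiber y) := Groth.Agent.Lead.CMQF.isLocallyNoetherian_fiber f y
  have h3 := fiber_congr f (fun y w => RkAt k (f.fiberToSpecResidueField y) w ∧
    EGA4.IsEquidim ((f.fiber y).presheaf.stalk w) ∧
    HasSk 1 ((f.fiber y).presheaf.stalk w) ((f.fiber y).presheaf.stalk w))
    (f.asFiber (f.fiberι y x)) x (f.fiberι_asFiber _)
  have h4 : f.fiberι y x ∈ reLocus k f ↔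
      RkAt k (f.fiberToSpecResidueField (f (f.fiberι y x))) (f.asFiber (f.fiberι y x)) ∧
      EGA4.IsEquidim ((f.fiber (f (f.fiberι y x))).presheaf.stalk (f.asFiber (f.fiberι y x))) ∧
      HasSk 1 ((f.fiber (f (f.fiberι y x))).presheaf.stalk (f.asFiber (f.fiberι y x)))
        ((f.fiber (f (f.fiberι y x))).presheaf.stalk (f.asFiber (f.fiberι y x))) := by
    unfold reLocus
    rw [Set.mem_inter_iff, Set.mem_inter_iff, mem_rkLocus_iff_rkAt,
      ← isEquidim_stalk_iff_mem_eqLocus, and_assoc]
    rfl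
  rw [h4, h3]
  refine and_congr ?_ (and_congr Iff.rfl ?_)
  · exact forall_hasRk_iff_rkAt (κ := Y.residueField y) (f.fiberToSpecResidueField y)
      (fun K _ _ => Module.Finite (Y.residueField y) K) (fun _ _ _ h => h) k x
  · exact noEmbedded_iff_hasSk_one _

/-- S5931 -/
theorem S5931_main {X Y : Scheme.{u}} (f : X ⟶ Y) [Flat f]
    [LocallyOfFinitePresentation f] (k : ℕ) :
    IsOpen {x : X | (∀ (K : Type u) [Field K] [Algebra (IsLocalRing.ResidueField (Y.presheaf.stalk (f.base x))) K],
        Module.Finite (IsLocalRing.ResidueField (Y.presheaf.stalk (f.base x))) K →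
        ∀ x' : ↥(FBase.bc (f.fiberToSpecResidueField (f.base x)) K),
          (FBase.bcπ (f.fiberToSpecResidueField (f.base x)) K).base x' = f.asFiber x →
          LocCoh.HasRk k ((FBase.bc (f.fiberToSpecResidueField (f.base x)) K).presheaf.stalk x')) ∧
      EGA4.IsEquidim ↑((f.fiber (f.base x)).presheaf.stalk (f.asFiber x)) ∧ (∀ p ∈ associatedPrimes ↑((f.fiber (f.base x)).presheaf.stalk (f.asFiber x)) ↑((f.fiber (f.base x)).presheaf.stalk (f.asFiber x)), p ∈ minimalPrimes ↑((f.fiber (f.base x)).presheaf.stalk (f.asFiber x)))} := by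
  have h1 := isOpen_reLocus f k
  convert h1 using 1
  ext x
  have h2 := cond_iff f k (f x) (f.asFiber x)
  rw [f.fiberι_asFiber] at h2
  exact h2

/-- S5932 -/
theorem S5932_main {X Y : Scheme.{u}} (f : X ⟶ Y) [IsProper f]
    [Flat f] [LocallyOfFinitePresentation f] (k : ℕ) :
    IsOpen {y : Y | ∀ x : ↥(f.fiber y), (∀ (K : Type u) [Field K] [Algebra (IsLocalRing.ResidueField (Y.presheaf.stalk y)) K],
        Module.Finite (IsLocalRing.ResidueField (Y.presheaf.stalk y)) K →
        ∀ x' : ↥(FBase.bc (f.fiberToSpecResidueField y) K),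
          (FBase.bcπ (f.fiberToSpecResidueField y) K).base x' = x →
          LocCoh.HasRk k ((FBase.bc (f.fiberToSpecResidueField y) K).presheaf.stalk x')) ∧
      EGA4.IsEquidim ↑((f.fiber y).presheaf.stalk x) ∧ (∀ p ∈ associatedPrimes ↑((f.fiber y).presheaf.stalk x) ↑((f.fiber y).presheaf.stalk x), p ∈ minimalPrimes ↑((f.fiber y).presheaf.stalk x))} := by
  have h1 : IsClosed (f '' (reLocus k f)ᶜ) :=
    f.isClosedMap _ (isOpen_reLocus f k).isClosed_compl
  convert h1.isOpen_compl using 1
  ext y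
  rw [Set.mem_setOf_eq, Set.mem_compl_iff, Set.mem_image]
  constructor
  · rintro h ⟨x, hx, hfx⟩
    apply hx
    subst hfx
    have h2 := (cond_iff f k (f x) (f.asFiber x)).mp (h (f.asFiber x))
    rwa [f.fiberι_asFiber] at h2
  · intro h x
    rw [cond_iff]
    by_contra hne
    exact h ⟨f.fiberι y x, hne, Groth.Agent.Helper3.FibStalk.apply_fiberι f y x⟩

end Groth.Agent.Lead.ReLoc
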