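import Mathlib
import Groth.Prelude.Def_C1
import Groth.Prelude.Def_Pi1
import Groth.Agent.Lib.Lead.Ref1L
import Groth.Agent.Lib.Helper7.CohStalk.AssExact

/-!
# The kernel of a map from a reflexive module to a torsion free module is normal (lead)
-/

set_option autoImplicit false
set_option backward.isDefEq.respectTransparency.types false
set_option synthInstance.maxHeartbeats 400000
set_option linter.style.haveILetI false
set_option linter.unusedSectionVars false
universe u

open CategoryTheory CategoryTheory.Limits AlgebraicGeometry TopologicalSpace Opposite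

namespace Groth.Agent.Lead.Ref1

open Groth.Agent.Helper1.QcCech Groth.Agent.Helper1.LGen Groth.Agent.Lead.RkSch Groth.Agent.Lead.SD
  Groth.Agent.Lib.Helper6.CDiv1 Groth.Agent.Helper1 Groth.Agent.Lead.RH Groth.Agent.Lead.SecOrd

theorem S16490_main (X : Scheme.{u}) [IsIntegral X] [IsLocallyNoetherian X]
    (hreg : ∀ x : X, IsRegularLocalRing (X.presheaf.stalk x)) (S : ShortComplex X.Modules)
    (hS : S.ShortExact)
    (hF : Coh.IsCoh S.X₁) (hE : Coh.IsCoh S.X₂) (hQ : Coh.IsCoh S.X₃)
    (hErefl : RefHull.IsReflexive S.X₂) (hQtf : TorSh.IsTorsionFree S.X₃) :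
    (∀ (U V : X.Opens) (hVU : V ≤ U),
      (∀ x : X, x ∈ U → x ∉ V → (2 : WithBot ℕ∞) ≤ ringKrullDim (X.presheaf.stalk x)) →
        Function.Bijective (S.X₁.presheaf.map (homOfLE hVU).op)) := by
  have hX : Pi1.IsNormalScheme X := by
    intro x
    haveI := hreg x
    haveI : UniqueFactorizationMonoid (X.presheaf.stalk x) := Groth.Agent.Helper9.RegUFD.ufd _
    exact ⟨inferInstance, inferInstance⟩
  intro U V hVU hcodim
  have hEb := restrict_bijective (spInj_of_isReflexive hE hErefl)
    (hart_of_isReflexive hX hE hErefl) U V hVU hcodim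
  have hQi : SpInj S.X₃ := spInj_of_torsionFree hQ.1 hQtf
  haveI : Mono S.f := hS.mono_f
  have hinjU : Function.Injective (S.f.app U) :=
    Groth.Agent.Helper7.FinType.injective_app_of_mono S.f U
  have hinjV : Function.Injective (S.f.app V) :=
    Groth.Agent.Helper7.FinType.injective_app_of_mono S.f V
  constructor
  · intro s s' h
    apply hinjU
    apply hEb.1
    have e1 := app_res' S.f hVU s
    have e2 := app_res' S.f hVU s'
    have h' : res S.X₁ hVU s = res S.X₁ hVU s' := h
    exact e1.trans ((congrArg (S.f.app V) h').trans e2.symm)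
  · intro t
    obtain ⟨e, he⟩ := hEb.2 (S.f.app V t)
    have he' : res S.X₂ hVU e = S.f.app V t := he
    have hg : S.g.app U e = 0 := by
      apply section_ext
      intro y hy
      have hηV : genericPoint X ∈ V := generic_mem_of_codim hcodim y hy
      apply hQi y
      rw [spM_germ, spM_germ]
      have e3 : S.X₃.presheaf.germ U (genericPoint X) (hVU hηV) (S.g.app U e) =
          S.X₃.presheaf.germ V (genericPoint X) hηV (res S.X₃ hVU (S.g.app U e)) :=
        (TopCat.Presheaf.germ_res_apply S.X₃.presheaf (homOfLE hVU) _ hηV _).symm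
      have e4 : res S.X₃ hVU (S.g.app U e) = 0 := by
        rw [app_res' S.g hVU e, he']
        have h0 := congrArg (fun φ : S.X₁ ⟶ S.X₃ => φ.app V t) S.zero
        exact h0
      rw [e3, e4, map_zero, map_zero]
    obtain ⟨s, hs⟩ := (Groth.Agent.Helper7.FinType.exact_app_of_shortExact S hS U e).1 hg
    have hs' : S.f.app U s = e := hs
    refine ⟨s, ?_⟩
    apply hinjV
    have e1 := app_res' S.f hVU s
    change S.f.app V (res S.X₁ hVU s) = _
    rw [← e1, hs', he']

end Groth.Agent.Lead.Ref1
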