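import Mathlib
import Groth.Prelude.Def_C1
import Groth.Prelude.Def_Pi1
import Groth.Agent.Lib.Lead.Ref1L
import Groth.Agent.Lib.Helper8.ABS19
import Groth.Agent.Lib.Helper4.DH1

/-!
# A reflexive module over a regular local ring of dimension at most two is free (lead)
-/

set_option autoImplicit false
set_option backward.isDefEq.respectTransparency.types false
set_option synthInstance.maxHeartbeats 400000
set_option linter.style.haveILetI false
set_option linter.unusedSectionVars false
universe u

open CategoryTheory CategoryTheory.Limits AlgebraicGeometry TopologicalSpace Opposite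

namespace Groth.Agent.Lead.Ref1

open Groth.Agent.Helper1.QcCech Groth.Agent.Helper1.LGen Groth.Agent.Lead.RkSch Groth.Agent.Lead.SD
  Groth.Agent.Lib.Helper6.CDiv1 Groth.Agent.Helper1 Groth.Agent.Lead.RH Groth.Agent.Lead.SecOrd

open LocCoh in
theorem free_of_isReflexive_of_dim_le_two (A : Type u) [CommRing A] [IsRegularLocalRing A]
    (M : Type u) [AddCommGroup M] [Module A M] [Module.Finite A M] [Module.IsReflexive A M]
    (n : ℕ) (hn : ringKrullDim A = n) (hn2 : n ≤ 2) : Module.Free A M := by
  rcases subsingleton_or_nontrivial M with hM | hM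
  · exact Module.Free.of_subsingleton A M
  have hdA : depth A A = n := by
    have h1 := Groth.Agent.Helper8.ABS.depth_eq_dim_of_regular A
    rw [hn] at h1
    exact_mod_cast h1
  -- the depth of the bidual
  have h2 : (n : ℕ∞) ≤ depth A (Module.Dual A M →ₗ[A] A) :=
    Groth.Agent.Helper4.DH.le_depth_linearMap A (Module.Dual A M) A n hn2 (by rw [hdA])
  have e : M ≃ₗ[A] Module.Dual A (Module.Dual A M) := Module.evalEquiv A M
  have hdepth : depth A M = depth A (Module.Dual A (Module.Dual A M)) :=
    Groth.Agent.Helper8.Depth.idealDepth_congr e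
  have h3 : (n : ℕ∞) ≤ depth A M := by rw [hdepth]; exact h2
  -- finite projective dimension
  obtain ⟨N, hN, hpd⟩ := Groth.Agent.Helper8.ABS.exists_hasProjectiveDimensionLT_of_regular A M
  obtain ⟨e', -, he'⟩ := Groth.Agent.Helper8.ABS.exists_projectiveDimension_eq M N hpd
  have hab := Groth.Agent.Helper8.ABS.auslander_buchsbaum A M e' he'
  rw [hdA] at hab
  have he0 : e' = 0 := by
    by_contra hne
    have h4 : (n : ℕ∞) < (e' : ℕ∞) + depth A M := by
      calc (n : ℕ∞) < (e' : ℕ∞) + n := by
            have : (1 : ℕ∞) ≤ (e' : ℕ∞) := by exact_mod_cast Nat.one_le_iff_ne_zero.2 hne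
            calc (n : ℕ∞) < 1 + n := by
                  rw [add_comm]
                  exact_mod_cast Nat.lt_succ_self n
              _ ≤ (e' : ℕ∞) + n := add_le_add_left this _
        _ ≤ (e' : ℕ∞) + depth A M := add_le_add_right h3 _
    rw [← hab] at h4
    exact lt_irrefl _ h4
  subst he0
  apply Groth.Agent.Helper8.ABS.free_of_projective_local
  exact (projectiveDimension_le_iff _ 0).mp he'.le


theorem S16488_main (X : Scheme.{u}) [IsIntegral X] [IsLocallyNoetherian X]
    (hreg : ∀ x : X, IsRegularLocalRing (X.presheaf.stalk x)) (F : X.Modules) (hF : Coh.IsCoh F)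
    (hrefl : RefHull.IsReflexive F) (x : X)
    (hx : ¬ Module.Free (X.presheaf.stalk x) (F.presheaf.stalk x)) :
    (3 : WithBot ℕ∞) ≤ ringKrullDim (X.presheaf.stalk x) := by
  haveI := hreg x
  by_contra hcon
  apply hx
  haveI : Module.Finite (X.presheaf.stalk x) (F.presheaf.stalk x) :=
    Groth.Agent.Helper7.FinType.stalk_finite_of_isCoh F hF x
  haveI : Module.IsReflexive (X.presheaf.stalk x) (F.presheaf.stalk x) :=
    (isReflexive_iff (FpLocal.isFP_of_isCoh F hF)).1 hrefl x
  have hd : ringKrullDim (X.presheaf.stalk x) =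
      ((IsLocalRing.maximalIdeal (X.presheaf.stalk x)).spanFinrank : WithBot ℕ∞) :=
    (IsRegularLocalRing.spanFinrank_maximalIdeal (R := X.presheaf.stalk x)).symm
  refine free_of_isReflexive_of_dim_le_two _ _ _ hd ?_
  by_contra h3
  apply hcon
  rw [hd]
  have : 3 ≤ (IsLocalRing.maximalIdeal (X.presheaf.stalk x)).spanFinrank := by omega
  exact_mod_cast this

end Groth.Agent.Lead.Ref1
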