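import Mathlib
import Groth.Prelude
import Groth.Agent.Lib.Lead.RegBlow1
import Groth.Agent.Lib.Helper1.RegBlowB
import Groth.Agent.Lib.Helper4.RegSpread1

set_option autoImplicit false
set_option backward.isDefEq.respectTransparency.types false
set_option synthInstance.maxHeartbeats 400000
set_option linter.style.haveILetI false
set_option linter.unusedSectionVars false

universe u

open CategoryTheory CategoryTheory.Limits AlgebraicGeometry TopologicalSpace IsLocalRing Opposite

namespace Groth.Agent.Lead.RegBlow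

/-! lead: the blow-up of a regular locally Noetherian scheme along a regular closed subscheme is
regular (S11308) -/

open Scheme.IdealSheafData

/-- being a regular closed immersion is local on the target -/
theorem isRegularClosedImmersion_of_local {Y X : Scheme.{u}} (i : Y ⟶ X) [IsClosedImmersion i]
    (h : ∀ y : Y, ∃ V : X.Opens, i y ∈ V ∧ Mor2.IsRegularClosedImmersion (i ∣_ V)) :
    Mor2.IsRegularClosedImmersion i := by
  refine ⟨inferInstance, fun y => ?_⟩
  obtain ⟨V, hyV, -, hV⟩ := h y
  obtain ⟨U', hU', hyU', rs, hrs, hker⟩ := hV ⟨y, hyV⟩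
  refine ⟨V.ι ''ᵁ U', hU'.image_of_isOpenImmersion V.ι, ?_, rs, hrs, ?_⟩
  · refine ⟨(i ∣_ V) ⟨y, hyV⟩, hyU', ?_⟩
    exact morphismRestrict_base_coe i V ⟨y, hyV⟩
  · rw [← Scheme.ker_morphismRestrict_ideal i V ⟨U', hU'⟩]
    exact hker

/-- the exceptional divisor maps to the centre -/
theorem exists_exceptional_hom {X Xt Y : Scheme.{u}} (i : Y ⟶ X) [IsClosedImmersion i]
    (π : Xt ⟶ X) :
    ∃ g : (BlowUp.exceptional π i.ker).subscheme ⟶ Y,
      g ≫ i = (BlowUp.exceptional π i.ker).subschemeι ≫ π := by
  have H : i.ker ≤ ((BlowUp.exceptional π i.ker).subschemeι ≫ π).ker := by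
    change i.ker ≤ (BlowUp.exceptional π i.ker).map π
    rw [le_map_iff_comap_le]
  exact ⟨IsClosedImmersion.lift i _ H, IsClosedImmersion.lift_fac i _ H⟩

theorem S11308_main (X : Scheme.{u}) [IsLocallyNoetherian X]
    (hreg : ∀ x : X, IsRegularLocalRing (X.presheaf.stalk x))
    (Y : Scheme.{u}) (i : Y ⟶ X) [IsClosedImmersion i]
    (hregY : ∀ y : Y, IsRegularLocalRing (Y.presheaf.stalk y))
    (Xt : Scheme.{u}) (π : Xt ⟶ X) (hπ : BlowUp.IsBlowUp π i.ker) (z : Xt) :
    IsRegularLocalRing (Xt.presheaf.stalk z) := by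
  have hi : Mor2.IsRegularClosedImmersion i := by
    apply isRegularClosedImmersion_of_local
    intro y
    haveI := hregY y
    exact (Groth.Agent.Lib.Helper4.RegSpread1.S2889_main i y).2 (hreg _)
  obtain ⟨g, hg⟩ := exists_exceptional_hom i π
  haveI : Smooth g := Groth.Agent.Helper1.RegBlowB.main i hi π hπ g hg
  have hft : BlowUp.IsFiniteTypeIdeal i.ker := by
    intro U
    haveI : IsNoetherianRing Γ(X, U.1) := IsLocallyNoetherian.component_noetherian U
    exact IsNoetherian.noetherian _
  haveI : IsProper π := Groth.Agent.Lead.Blow.isProper_of_isBlowUp i.ker hft π hπ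
  haveI : IsLocallyNoetherian Xt := LocallyOfFiniteType.isLocallyNoetherian π
  haveI : IsLocallyNoetherian Y := LocallyOfFiniteType.isLocallyNoetherian i
  by_cases hz : z ∈ (BlowUp.exceptional π i.ker).support
  · obtain ⟨e, rfl⟩ : ∃ e, (BlowUp.exceptional π i.ker).subschemeι e = z := by
      rw [← SetLike.mem_coe, ← range_subschemeι] at hz
      exact hz
    haveI hE : IsRegularLocalRing ((BlowUp.exceptional π i.ker).subscheme.presheaf.stalk e) :=
      (Groth.Agent.Lead.SmLoc.S4991_main g e ⟨⊤, trivial, inferInstance⟩).2 (hregY _)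
    have hJ : BlowUp.IsEffCartierIdeal (BlowUp.exceptional π i.ker).subschemeι.ker := by
      rw [ker_subschemeι]
      exact hπ.1
    obtain ⟨t, ht, hker⟩ := Groth.Agent.Lead.CartSec.exists_ker_stalkMap_eq_span
      (BlowUp.exceptional π i.ker).subschemeι hJ e
    exact isRegularLocalRing_of_surjective
      ((BlowUp.exceptional π i.ker).subschemeι.stalkMap e).hom
      ((BlowUp.exceptional π i.ker).subschemeι.stalkMap_surjective e) t ht hker
  · -- off the exceptional divisor the blow-up is an isomorphism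
    have hz' : π z ∉ i.ker.support := by
      intro h
      apply hz
      rw [support_comap]
      exact h
    let U₀ : X.Opens := ⟨(i.ker.support : Set X)ᶜ, i.ker.support.isClosed.isOpen_compl⟩
    have hU₀ : i.ker.comap U₀.ι = ⊤ :=
      Groth.Agent.Helper7.BlowProd.comap_compl_support_eq_top i.ker U₀ (fun x hx => hx)
    haveI : IsIso (π ∣_ U₀) :=
      Groth.Agent.Helper7.BlowProd.isIso_restrict_of_comap_eq_top i.ker π hπ U₀ hU₀
    let z' : ↥(π ⁻¹ᵁ U₀) := ⟨z, hz'⟩
    haveI : IsIso (π.stalkMap z) :=
      ((MorphismProperty.isomorphisms CommRingCat).arrow_mk_iso_iff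
        (morphismRestrictStalkMap π U₀ z')).1
          (inferInstanceAs (IsIso ((π ∣_ U₀).stalkMap z')))
    haveI := hreg (π z)
    exact isRegularLocalRing_of_iso (asIso (π.stalkMap z))

end Groth.Agent.Lead.RegBlow
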