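import Mathlib
import Groth.Agent.Lib.Helper8.FlatReg3

/-!
# Regular sequences on the fibre of a flat module: ring-level lemmas (lead)
-/

set_option autoImplicit false
set_option synthInstance.maxHeartbeats 400000
universe u v

namespace Groth.Agent.Lead.RegFib

open RingTheory.Sequence Pointwise IsLocalRing Groth.Agent.Helper8.FlatReg

section Converse
variable {A : Type*} {B : Type u} [CommRing A] [CommRing B] [Algebra A B]

/-- `J (f M) ⊆ f (J M)`. -/
theorem exists_smul_eq_of_mem_smul_smul {N : Type*} [AddCommGroup N] [Module B N] (J : Ideal B)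
    (f : B) (y : N) (hy : y ∈ J • (f • (⊤ : Submodule B N))) :
    ∃ z ∈ J • (⊤ : Submodule B N), y = f • z := by
  refine Submodule.smul_induction_on hy ?_ ?_
  · intro j hj n hn
    obtain ⟨m, -, rfl⟩ := (Submodule.mem_smul_pointwise_iff_exists _ _ _).mp hn
    exact ⟨j • m, Submodule.smul_mem_smul hj Submodule.mem_top, smul_comm j f m⟩
  · rintro a b ⟨za, hza, rfl⟩ ⟨zb, hzb, rfl⟩
    exact ⟨za + zb, add_mem hza hzb, (smul_add f za zb).symm⟩

/-- If `f` is regular on `N` and `N/fN` is flat over `A` then `f` is regular on `N/JN` for every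
ideal `J` of `A`. -/
theorem isSMulRegular_quotient_of_flat {N : Type*} [AddCommGroup N] [Module B N] [Module A N]
    [IsScalarTower A B N] (J : Ideal A) (f : B) (hf : IsSMulRegular N f)
    [Module.Flat A (QuotSMulTop f N)] :
    IsSMulRegular (N ⧸ (J.map (algebraMap A B) • (⊤ : Submodule B N))) f := by
  rw [isSMulRegular_iff_right_eq_zero_of_smul]
  intro x hx
  obtain ⟨x, rfl⟩ := Submodule.Quotient.mk_surjective _ x
  rw [← Submodule.Quotient.mk_smul, Submodule.Quotient.mk_eq_zero] at hx
  rw [Submodule.Quotient.mk_eq_zero]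
  have h1 : f • x ∈ f • (⊤ : Submodule B N) :=
    Submodule.smul_mem_pointwise_smul x f ⊤ Submodule.mem_top
  have h2 := mem_smul_of_mem_of_flat_quotient (A := A) N (f • (⊤ : Submodule B N)) J (f • x) h1 hx
  obtain ⟨z, hz, hxz⟩ := exists_smul_eq_of_mem_smul_smul _ f _ h2
  have : x = z := hf hxz
  rw [this]
  exact hz

/-- **Converse**: if `fs` is weakly regular on `N` and all the partial quotients are flat over `A`
then `fs` is weakly regular on `N/JN` for every ideal `J` of `A`. -/
theorem isWeaklyRegular_quotient_of_flat (J : Ideal A) (fs : List B) :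
    ∀ (N : Type v) [AddCommGroup N] [Module B N] [Module A N] [IsScalarTower A B N]
      (_ : IsWeaklyRegular N fs)
      (_ : ∀ i ≤ fs.length,
        Module.Flat A (N ⧸ (Ideal.ofList (fs.take i) • (⊤ : Submodule B N)))),
      IsWeaklyRegular (N ⧸ (J.map (algebraMap A B) • (⊤ : Submodule B N))) fs := by
  induction fs with
  | nil =>
    intro N _ _ _ _ _ _
    exact IsWeaklyRegular.nil B _
  | cons f rs ih =>
    intro N _ _ _ _ hreg hflat
    rw [isWeaklyRegular_cons_iff] at hreg ⊢
    have hflat' : ∀ j ≤ rs.length, Module.Flat A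
        (QuotSMulTop f N ⧸ (Ideal.ofList (rs.take j) • (⊤ : Submodule B (QuotSMulTop f N)))) := by
      intro j hj
      have h1 := hflat (j + 1) (by simpa using hj)
      rw [List.take_succ_cons] at h1
      exact flat_of_linearEquiv (A := A)
        (Submodule.quotOfListConsSMulTopEquivQuotSMulTopInner N f (rs.take j)).symm
    haveI hQ : Module.Flat A (QuotSMulTop f N) := by
      have h0 : (Ideal.ofList (rs.take 0) • (⊤ : Submodule B (QuotSMulTop f N))) = ⊥ := by
        rw [List.take_zero, Ideal.ofList_nil, Submodule.bot_smul]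
      haveI := hflat' 0 (Nat.zero_le _)
      exact flat_of_linearEquiv (A := A) (Submodule.quotEquivOfEqBot _ h0).symm
    refine ⟨isSMulRegular_quotient_of_flat J f hreg.1, ?_⟩
    have h3 := ih (QuotSMulTop f N) hreg.2 hflat'
    exact (LinearEquiv.isWeaklyRegular_congr (quotSwap N f _) rs).mp h3

end Converse

section Loc
variable {A : Type*} {B : Type u} [CommRing A] [CommRing B] [Algebra A B]
  [IsNoetherianRing B] [IsLocalRing B]

/-- The fibre criterion over a base which is not assumed local: `B` is a Noetherian local ring,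
`p` the contraction of its maximal ideal to `A`. -/
theorem isWeaklyRegular_and_flat_of_fibre' (fs : List B)
    (M : Type v) [AddCommGroup M] [Module B M] [Module A M] [IsScalarTower A B M]
    [Module.Finite B M] [Module.Flat A M]
    (h : IsWeaklyRegular
      (M ⧸ (((maximalIdeal B).comap (algebraMap A B)).map (algebraMap A B) •
        (⊤ : Submodule B M))) fs) :
    IsWeaklyRegular M fs ∧
      ∀ i ≤ fs.length, Module.Flat A (M ⧸ (Ideal.ofList (fs.take i) • (⊤ : Submodule B M))) := by
  set p : Ideal A := (maximalIdeal B).comap (algebraMap A B) with hp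
  haveI : p.IsPrime := Ideal.IsPrime.comap _
  have hunits : ∀ y : p.primeCompl, IsUnit (algebraMap A B y) := by
    intro y
    by_contra hy
    exact y.2 (show (y : A) ∈ p from Ideal.mem_comap.mpr ((mem_maximalIdeal _).mpr hy))
  letI alg' : Algebra (Localization.AtPrime p) B := (IsLocalization.lift hunits).toAlgebra
  haveI tow : IsScalarTower A (Localization.AtPrime p) B :=
    IsScalarTower.of_algebraMap_eq (fun a => (IsLocalization.lift_eq hunits a).symm)
  letI mod' : Module (Localization.AtPrime p) M := Module.compHom M (algebraMap (Localization.AtPrime p) B)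
  haveI tow2 : IsScalarTower (Localization.AtPrime p) B M :=
    IsScalarTower.of_algebraMap_smul (fun r x => rfl)
  haveI tow3 : IsScalarTower A (Localization.AtPrime p) M :=
    IsScalarTower.of_algebraMap_smul (fun r x => by
      show algebraMap (Localization.AtPrime p) B (algebraMap A (Localization.AtPrime p) r) • x = r • x
      rw [← IsScalarTower.algebraMap_apply A (Localization.AtPrime p) B, algebraMap_smul])
  have hmap : (maximalIdeal (Localization.AtPrime p)).map (algebraMap (Localization.AtPrime p) B) =
      p.map (algebraMap A B) := by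
    rw [← Localization.AtPrime.map_eq_maximalIdeal, Ideal.map_map,
      ← IsScalarTower.algebraMap_eq]
  haveI : IsLocalHom (algebraMap (Localization.AtPrime p) B) := by
    refine ((IsLocalRing.local_hom_TFAE (algebraMap (Localization.AtPrime p) B)).out 0 2).mpr ?_
    rw [hmap]
    exact Ideal.map_comap_le
  haveI : Module.Flat (Localization.AtPrime p) M :=
    (Module.flat_iff_of_isLocalization (Localization.AtPrime p) p.primeCompl M).mpr inferInstance
  rw [← hmap] at h
  obtain ⟨h1, h2⟩ := isWeaklyRegular_and_flat_of_fibre (A := Localization.AtPrime p) fs M h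
  refine ⟨h1, fun i hi => ?_⟩
  haveI := h2 i hi
  exact (Module.flat_iff_of_isLocalization (Localization.AtPrime p) p.primeCompl _).mp inferInstance

end Loc

section Transfer
variable {B B' : Type*} [CommRing B] [CommRing B'] [Algebra B B']
  {N₀ N : Type*} [AddCommGroup N₀] [Module B N₀] [AddCommGroup N] [Module B N] [Module B' N]
  [IsScalarTower B B' N]

/-- Transfer of the fibre condition along an extension of scalars and a linear equivalence. -/
theorem isWeaklyRegular_quot_iff (e : N₀ ≃ₗ[B] N) (J : Ideal B) (bs : List B) :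
    IsWeaklyRegular (N ⧸ (J.map (algebraMap B B') • (⊤ : Submodule B' N)))
        (bs.map (algebraMap B B')) ↔
      IsWeaklyRegular (N₀ ⧸ (J • (⊤ : Submodule B N₀))) bs := by
  rw [isWeaklyRegular_map_algebraMap_iff]
  have h1 : (J.map (algebraMap B B') • (⊤ : Submodule B' N)).restrictScalars B =
      J • (⊤ : Submodule B N) := by
    rw [Ideal.smul_restrictScalars, Submodule.restrictScalars_top]
  let e1 : (N ⧸ (J.map (algebraMap B B') • (⊤ : Submodule B' N))) ≃ₗ[B]
      N ⧸ (J • (⊤ : Submodule B N)) :=
    (Submodule.Quotient.restrictScalarsEquiv B _).symm ≪≫ₗ Submodule.quotEquivOfEq _ _ h1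
  let e2 : (N₀ ⧸ (J • (⊤ : Submodule B N₀))) ≃ₗ[B] (N ⧸ (J • (⊤ : Submodule B N))) :=
    Submodule.Quotient.equiv _ _ e (by
      rw [Submodule.map_smul'', Submodule.map_top, LinearEquiv.range])
  exact LinearEquiv.isWeaklyRegular_congr (e1 ≪≫ₗ e2.symm) bs

end Transfer

end Groth.Agent.Lead.RegFib
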