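import Mathlib
import Groth.Agent.Lib.Lead.RegFib1
import Groth.Agent.Lib.Lead.FlatLoc4

/-!
# Regular sequences on the fibre of a flat module: openness at ring level (lead)
-/

set_option autoImplicit false
set_option synthInstance.maxHeartbeats 400000
universe u v

namespace Groth.Agent.Lead.RegFib

open RingTheory.Sequence Pointwise IsLocalRing Groth.Agent.Helper8.FlatReg

section Regular
variable {B : Type*} [CommRing B] (N : Type*) [AddCommGroup N] [Module B N]

/-- The locus where `b` is a non-zero-divisor on the localization of `N`. -/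
theorem setOf_isSMulRegular_localizedModule (b : B) :
    {q : PrimeSpectrum B | IsSMulRegular (LocalizedModule q.asIdeal.primeCompl N) b} =
      (Module.support B (LinearMap.ker (LinearMap.lsmul B N b)))ᶜ := by
  ext q
  rw [Set.mem_setOf_eq, Set.mem_compl_iff, Module.notMem_support_iff',
    isSMulRegular_iff_right_eq_zero_of_smul]
  constructor
  · intro h m
    have hm : b • (m : N) = 0 := LinearMap.mem_ker.mp m.2
    have h0 : LocalizedModule.mkLinearMap q.asIdeal.primeCompl N (m : N) = 0 := by
      apply h
      rw [← map_smul, hm, map_zero]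
    obtain ⟨s, hs⟩ := (IsLocalizedModule.eq_zero_iff q.asIdeal.primeCompl
      (LocalizedModule.mkLinearMap q.asIdeal.primeCompl N)).mp h0
    exact ⟨s.1, s.2, Subtype.ext hs⟩
  · intro h x hx
    obtain ⟨⟨m, t⟩, rfl⟩ := IsLocalizedModule.mk'_surjective q.asIdeal.primeCompl
      (LocalizedModule.mkLinearMap q.asIdeal.primeCompl N) x
    simp only [Function.uncurry_apply_pair] at hx ⊢
    rw [← IsLocalizedModule.mk'_smul, IsLocalizedModule.mk'_eq_zero'] at hx
    obtain ⟨s, hs⟩ := hx
    have hk : s.1 • m ∈ LinearMap.ker (LinearMap.lsmul B N b) := by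
      rw [LinearMap.mem_ker, LinearMap.lsmul_apply, smul_comm]
      exact hs
    obtain ⟨r, hr, hrm⟩ := h ⟨s.1 • m, hk⟩
    rw [IsLocalizedModule.mk'_eq_zero']
    refine ⟨⟨r, hr⟩ * s, ?_⟩
    have h2 : r • s.1 • m = 0 := congrArg Subtype.val hrm
    rw [Submonoid.smul_def, Submonoid.coe_mul, mul_smul]
    exact h2

theorem isOpen_setOf_isSMulRegular_localizedModule [IsNoetherianRing B] [Module.Finite B N]
    (b : B) :
    IsOpen {q : PrimeSpectrum B | IsSMulRegular (LocalizedModule q.asIdeal.primeCompl N) b} := by
  rw [setOf_isSMulRegular_localizedModule]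
  exact Module.isClosed_support.isOpen_compl

end Regular

section Equiv
variable {B : Type*} [CommRing B] (M : Type*) [AddCommGroup M] [Module B M]

/-- `(M/IM)_S ≃ M_S / I M_S`. -/
noncomputable def locQuotEquiv (S : Submonoid B) (I : Ideal B) :
    LocalizedModule S (M ⧸ (I • (⊤ : Submodule B M))) ≃ₗ[Localization S]
      (LocalizedModule S M ⧸ (I.map (algebraMap B (Localization S)) •
        (⊤ : Submodule (Localization S) (LocalizedModule S M)))) :=
  (localizedQuotientEquiv S (I • (⊤ : Submodule B M))).symm ≪≫ₗ
    Submodule.quotEquivOfEq _ _ (by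
      rw [Submodule.localized, Submodule.localized'_smul, Ideal.localized'_eq_map,
        Submodule.localized'_top])

/-- `(M/(b₁,…,bᵢ)M)_S ≃ M_S / (b₁,…,bᵢ) M_S`. -/
noncomputable def locQuotEquivTake (S : Submonoid B) (bs : List B) (i : ℕ) :
    LocalizedModule S (M ⧸ (Ideal.ofList (bs.take i) • (⊤ : Submodule B M))) ≃ₗ[Localization S]
      (LocalizedModule S M ⧸
        (Ideal.ofList ((bs.map (algebraMap B (Localization S))).take i) •
          (⊤ : Submodule (Localization S) (LocalizedModule S M)))) :=
  locQuotEquiv M S (Ideal.ofList (bs.take i)) ≪≫ₗ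
    Submodule.quotEquivOfEq _ _ (by rw [← List.map_take, ← Ideal.map_ofList])

end Equiv

section Main
variable {A B M : Type u} [CommRing A] [CommRing B] [Algebra A B] [IsNoetherianRing B]
  [AddCommGroup M] [Module B M] [Module A M] [IsScalarTower A B M] [Module.Finite B M]

/-- The fibre condition at a prime `q` of `B`, in terms of the localizations of the partial
quotients. -/
theorem fibre_isWeaklyRegular_iff (q : Ideal B) [q.IsPrime]
    [Module.Flat A (LocalizedModule q.primeCompl M)] (bs : List B) :
    IsWeaklyRegular (LocalizedModule q.primeCompl M ⧸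
        ((q.comap (algebraMap A B)).map (algebraMap A (Localization.AtPrime q)) •
          (⊤ : Submodule (Localization.AtPrime q) (LocalizedModule q.primeCompl M))))
        (bs.map (algebraMap B (Localization.AtPrime q))) ↔
      (∀ (i : ℕ) (h : i < bs.length), IsSMulRegular
        (LocalizedModule q.primeCompl (M ⧸ (Ideal.ofList (bs.take i) • (⊤ : Submodule B M))))
        bs[i]) ∧
      (∀ i ≤ bs.length, Module.Flat A
        (LocalizedModule q.primeCompl (M ⧸ (Ideal.ofList (bs.take i) • (⊤ : Submodule B M))))) := by
  have hlen : (bs.map (algebraMap B (Localization.AtPrime q))).length = bs.length :=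
    List.length_map _
  have hrw : (maximalIdeal (Localization.AtPrime q)).comap
      (algebraMap A (Localization.AtPrime q)) = q.comap (algebraMap A B) := by
    rw [IsScalarTower.algebraMap_eq A B (Localization.AtPrime q), ← Ideal.comap_comap]
    congr 1
    exact Localization.AtPrime.under_maximalIdeal
  constructor
  · intro h
    rw [← hrw] at h
    obtain ⟨h1, h2⟩ := isWeaklyRegular_and_flat_of_fibre' (A := A)
      (bs.map (algebraMap B (Localization.AtPrime q))) (LocalizedModule q.primeCompl M) h
    refine ⟨fun i hi => ?_, fun i hi => ?_⟩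
    · have h3 := (isWeaklyRegular_iff (LocalizedModule q.primeCompl M)
        (bs.map (algebraMap B (Localization.AtPrime q)))).mp h1 i (hlen.symm ▸ hi)
      have h4 := (LinearEquiv.isSMulRegular_congr (locQuotEquivTake M q.primeCompl bs i) _).mpr h3
      rw [List.getElem_map, isSMulRegular_algebraMap_iff] at h4
      exact h4
    · haveI := h2 i (hlen.symm ▸ hi)
      exact flat_of_linearEquiv (A := A) (locQuotEquivTake M q.primeCompl bs i)
  · rintro ⟨h1, h2⟩
    have h3 : IsWeaklyRegular (LocalizedModule q.primeCompl M)
        (bs.map (algebraMap B (Localization.AtPrime q))) := by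
      rw [isWeaklyRegular_iff]
      intro i hi
      have hi' : i < bs.length := hlen ▸ hi
      have h4 := h1 i hi'
      rw [← isSMulRegular_algebraMap_iff (Localization.AtPrime q)] at h4
      rw [List.getElem_map]
      exact (LinearEquiv.isSMulRegular_congr (locQuotEquivTake M q.primeCompl bs i) _).mp h4
    have h5 : ∀ i ≤ (bs.map (algebraMap B (Localization.AtPrime q))).length, Module.Flat A
        (LocalizedModule q.primeCompl M ⧸
          (Ideal.ofList ((bs.map (algebraMap B (Localization.AtPrime q))).take i) •
            (⊤ : Submodule (Localization.AtPrime q) (LocalizedModule q.primeCompl M)))) := by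
      intro i hi
      haveI := h2 i (hlen ▸ hi)
      exact flat_of_linearEquiv (A := A) (locQuotEquivTake M q.primeCompl bs i).symm
    exact isWeaklyRegular_quotient_of_flat (A := A) (q.comap (algebraMap A B))
      (bs.map (algebraMap B (Localization.AtPrime q))) (LocalizedModule q.primeCompl M) h3 h5

variable [IsNoetherianRing A] [Algebra.FiniteType A B]

/-- **Openness of the locus where a sequence is weakly regular on the fibre** (ring level). -/
theorem isOpen_setOf_fibre_isWeaklyRegular
    (hflat : ∀ q : PrimeSpectrum B, Module.Flat A (LocalizedModule q.asIdeal.primeCompl M))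
    (bs : List B) :
    IsOpen {q : PrimeSpectrum B |
      IsWeaklyRegular (LocalizedModule q.asIdeal.primeCompl M ⧸
        ((q.asIdeal.comap (algebraMap A B)).map (algebraMap A (Localization.AtPrime q.asIdeal)) •
          (⊤ : Submodule (Localization.AtPrime q.asIdeal)
            (LocalizedModule q.asIdeal.primeCompl M))))
        (bs.map (algebraMap B (Localization.AtPrime q.asIdeal)))} := by
  have hset : {q : PrimeSpectrum B |
      IsWeaklyRegular (LocalizedModule q.asIdeal.primeCompl M ⧸
        ((q.asIdeal.comap (algebraMap A B)).map (algebraMap A (Localization.AtPrime q.asIdeal)) •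
          (⊤ : Submodule (Localization.AtPrime q.asIdeal)
            (LocalizedModule q.asIdeal.primeCompl M))))
        (bs.map (algebraMap B (Localization.AtPrime q.asIdeal)))} =
      (⋂ i : Fin bs.length, {q : PrimeSpectrum B | IsSMulRegular
        (LocalizedModule q.asIdeal.primeCompl
          (M ⧸ (Ideal.ofList (bs.take i.1) • (⊤ : Submodule B M)))) bs[i.1]}) ∩
      (⋂ i : Fin (bs.length + 1), {q : PrimeSpectrum B | Module.Flat A
        (LocalizedModule q.asIdeal.primeCompl
          (M ⧸ (Ideal.ofList (bs.take i.1) • (⊤ : Submodule B M))))}) := by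
    ext q
    haveI := hflat q
    rw [Set.mem_setOf_eq, fibre_isWeaklyRegular_iff q.asIdeal bs]
    simp only [Set.mem_inter_iff, Set.mem_iInter, Set.mem_setOf_eq]
    constructor
    · rintro ⟨h1, h2⟩
      exact ⟨fun i => h1 i.1 i.2, fun i => h2 i.1 (Nat.lt_succ_iff.mp i.2)⟩
    · rintro ⟨h1, h2⟩
      exact ⟨fun i hi => h1 ⟨i, hi⟩, fun i hi => h2 ⟨i, Nat.lt_succ_iff.mpr hi⟩⟩
  rw [hset]
  refine IsOpen.inter (isOpen_iInter_of_finite fun i => ?_) (isOpen_iInter_of_finite fun i => ?_)
  · exact isOpen_setOf_isSMulRegular_localizedModule _ _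
  · exact Groth.Agent.Lead.FlatLoc.isOpen_flatLocus_of_isNoetherianRing
      (M ⧸ (Ideal.ofList (bs.take i.1) • (⊤ : Submodule B M)))

end Main

end Groth.Agent.Lead.RegFib
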