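import Mathlib
import Groth.Prelude.Def_FlatMod2
import Groth.Prelude.Def_Coh
import Groth.Agent.Lib.Lead.RegFib2
import Groth.Agent.Lib.Lead.FO1
import Groth.Agent.Lib.Helper1.FinPush

/-!
# Openness of the locus where a sequence of sections is regular on the fibres of a flat coherent
module (lead)
-/

set_option autoImplicit false
set_option backward.isDefEq.respectTransparency.types false
set_option synthInstance.maxHeartbeats 400000
set_option linter.style.haveILetI false
set_option linter.unusedSectionVars false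
universe u

open CategoryTheory CategoryTheory.Limits AlgebraicGeometry TopologicalSpace IsLocalRing Opposite

namespace Groth.Agent.Lead.RegFib

open RingTheory.Sequence Groth.Agent.Lead.FO Groth.Agent.Lead.SD Scheme.Modules

attribute [local instance] stalkModule

theorem map_stalkMap_maximalIdeal {X Y : Scheme.{u}} (f : X ⟶ Y) {U : X.Opens} {V : Y.Opens}
    (hU : IsAffineOpen U) (hV : IsAffineOpen V) (hUV : U ≤ f ⁻¹ᵁ V) (y : U) :
    Ideal.map (f.stalkMap y.1).hom (maximalIdeal (Y.presheaf.stalk (f y.1))) =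
      Ideal.map (algebraMap Γ(X, U) (X.presheaf.stalk y.1))
        (((hU.primeIdealOf y).asIdeal.comap (f.appLE V U hUV).hom).map (f.appLE V U hUV).hom) := by
  let y' : V := ⟨f y.1, hUV y.2⟩
  letI := Y.presheaf.algebra_section_stalk y'
  haveI := hV.isLocalization_stalk y'
  have h1 : Ideal.map (algebraMap Γ(Y, V) (Y.presheaf.stalk (f y.1))) (hV.primeIdealOf y').asIdeal =
      maximalIdeal (Y.presheaf.stalk (f y.1)) :=
    IsLocalization.AtPrime.map_eq_maximalIdeal (hV.primeIdealOf y').asIdeal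
      (Y.presheaf.stalk (f y.1))
  have h2 : (hV.primeIdealOf y').asIdeal =
      (hU.primeIdealOf y).asIdeal.comap (f.appLE V U hUV).hom := by
    have := IsAffineOpen.comap_primeIdealOf_appLE (f := f) V hV U hU hUV y.2
    exact (congrArg PrimeSpectrum.asIdeal this).symm
  have h3 : (f.stalkMap y.1).hom.comp (algebraMap Γ(Y, V) (Y.presheaf.stalk (f y.1))) =
      (algebraMap Γ(X, U) (X.presheaf.stalk y.1)).comp (f.appLE V U hUV).hom := by
    ext r
    exact stalkMap_germ_eq f hUV y r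
  rw [← h1, Ideal.map_map, h3, ← Ideal.map_map, h2]

theorem isOpen_setOf_fibre_isWeaklyRegular_scheme {X Y : Scheme.{u}} [IsLocallyNoetherian Y]
    (f : X ⟶ Y) [LocallyOfFiniteType f] (F : X.Modules) (hF : Coh.IsCoh F)
    (hflat : FlatMod.IsFlatOver f F) (n : ℕ) (g : Fin n → Γ(X, ⊤)) :
    IsOpen {x : X |
      RingTheory.Sequence.IsWeaklyRegular
        (↑(F.presheaf.stalk x) ⧸ (Ideal.map (f.stalkMap x).hom (IsLocalRing.maximalIdeal ↑(Y.presheaf.stalk (f x))) •
          (⊤ : Submodule ↑(X.presheaf.stalk x) ↑(F.presheaf.stalk x))))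
        (List.ofFn fun i => (X.presheaf.germ ⊤ x trivial) (g i))} := by
  haveI : F.IsQuasicoherent := hF.1
  rw [isOpen_iff_forall_mem_open]
  intro x hx
  obtain ⟨_, ⟨V, hV, rfl⟩, hxV, -⟩ :=
    Y.isBasis_affineOpens.exists_subset_of_mem_open (Set.mem_univ (f x)) isOpen_univ
  obtain ⟨_, ⟨U, hU, rfl⟩, hxU, hUV⟩ :=
    X.isBasis_affineOpens.exists_subset_of_mem_open (show x ∈ (f ⁻¹ᵁ V : Set X) from hxV)
      (f ⁻¹ᵁ V).isOpen
  have hUV' : U ≤ f ⁻¹ᵁ V := hUV
  have hφ : (f.appLE V U hUV').hom.FiniteType :=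
    HasRingHomProperty.appLE (P := @LocallyOfFiniteType) f inferInstance ⟨V, hV⟩ ⟨U, hU⟩ hUV'
  letI alg : Algebra Γ(Y, V) Γ(X, U) := (f.appLE V U hUV').hom.toAlgebra
  letI m1 := sectionsOver f F hUV'
  haveI t1 : IsScalarTower Γ(Y, V) Γ(X, U) Γ(F, U) :=
    IsScalarTower.of_algebraMap_smul fun r m => rfl
  haveI : Algebra.FiniteType Γ(Y, V) Γ(X, U) := hφ
  haveI : IsNoetherianRing Γ(Y, V) := IsLocallyNoetherian.component_noetherian ⟨V, hV⟩
  haveI : IsNoetherianRing Γ(X, U) := Algebra.FiniteType.isNoetherianRing Γ(Y, V) Γ(X, U)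
  haveI : Module.Finite Γ(X, U) Γ(F, U) := Groth.Agent.Helper1.FinPush.finite_sections F hF hU
  haveI hMflat : Module.Flat Γ(Y, V) Γ(F, U) :=
    flat_sectionsOver_of_isFlatOverAt f F hU hV hUV' (fun z => hflat z.1)
  have hfl : ∀ q : PrimeSpectrum Γ(X, U),
      Module.Flat Γ(Y, V) (LocalizedModule q.asIdeal.primeCompl Γ(F, U)) := fun q =>
    flat_of_isLocalizedModule_algebra (R := Γ(Y, V)) q.asIdeal.primeCompl
      (LocalizedModule.mkLinearMap q.asIdeal.primeCompl Γ(F, U))
  let bs : List Γ(X, U) := List.ofFn fun i => X.presheaf.map (homOfLE (le_top : U ≤ ⊤)).op (g i)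
  let W : Set (PrimeSpectrum Γ(X, U)) := {q |
      IsWeaklyRegular (LocalizedModule q.asIdeal.primeCompl Γ(F, U) ⧸
        ((q.asIdeal.comap (algebraMap Γ(Y, V) Γ(X, U))).map
            (algebraMap Γ(Y, V) (Localization.AtPrime q.asIdeal)) •
          (⊤ : Submodule (Localization.AtPrime q.asIdeal)
            (LocalizedModule q.asIdeal.primeCompl Γ(F, U)))))
        (bs.map (algebraMap Γ(X, U) (Localization.AtPrime q.asIdeal)))}
  have hopen : IsOpen W := isOpen_setOf_fibre_isWeaklyRegular hfl bs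
  have key : ∀ y : U,
      RingTheory.Sequence.IsWeaklyRegular
        (↑(F.presheaf.stalk y.1) ⧸ (Ideal.map (f.stalkMap y.1).hom (IsLocalRing.maximalIdeal ↑(Y.presheaf.stalk (f y.1))) •
          (⊤ : Submodule ↑(X.presheaf.stalk y.1) ↑(F.presheaf.stalk y.1))))
        (List.ofFn fun i => (X.presheaf.germ ⊤ y.1 trivial) (g i)) ↔ hU.primeIdealOf y ∈ W := by
    intro y
    haveI := isLocalizedModule_germ F hU y
    let e : LocalizedModule (hU.primeIdealOf y).asIdeal.primeCompl Γ(F, U) ≃ₗ[Γ(X, U)]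
        F.presheaf.stalk y.1 :=
      IsLocalizedModule.iso (hU.primeIdealOf y).asIdeal.primeCompl (germₗ F y)
    let J : Ideal Γ(X, U) := ((hU.primeIdealOf y).asIdeal.comap
      (algebraMap Γ(Y, V) Γ(X, U))).map (algebraMap Γ(Y, V) Γ(X, U))
    have hJ : Ideal.map (f.stalkMap y.1).hom (maximalIdeal (Y.presheaf.stalk (f y.1))) =
        J.map (algebraMap Γ(X, U) (X.presheaf.stalk y.1)) :=
      map_stalkMap_maximalIdeal f hU hV hUV' y
    have hbs : (List.ofFn fun i => (X.presheaf.germ ⊤ y.1 trivial) (g i)) =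
        bs.map (algebraMap Γ(X, U) (X.presheaf.stalk y.1)) := by
      rw [List.map_ofFn]
      congr 1
      funext i
      exact (X.presheaf.germ_res_apply (homOfLE (le_top : U ≤ ⊤)) y.1 y.2 (g i)).symm
    have hJ' : ((hU.primeIdealOf y).asIdeal.comap (algebraMap Γ(Y, V) Γ(X, U))).map
        (algebraMap Γ(Y, V) (Localization.AtPrime (hU.primeIdealOf y).asIdeal)) =
        J.map (algebraMap Γ(X, U) (Localization.AtPrime (hU.primeIdealOf y).asIdeal)) := by
      rw [Ideal.map_map, ← IsScalarTower.algebraMap_eq]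
    have s1 := isWeaklyRegular_quot_iff (B := Γ(X, U)) (B' := X.presheaf.stalk y.1) e J bs
    have s2 := isWeaklyRegular_quot_iff (B := Γ(X, U))
      (B' := Localization.AtPrime (hU.primeIdealOf y).asIdeal)
      (LinearEquiv.refl Γ(X, U) (LocalizedModule (hU.primeIdealOf y).asIdeal.primeCompl Γ(F, U)))
      J bs
    rw [← hJ, ← hbs] at s1
    rw [← hJ'] at s2
    exact s1.trans s2.symm
  refine ⟨hU.fromSpec '' W, ?_, hU.fromSpec.isOpenEmbedding.isOpenMap _ hopen, ?_⟩
  · rintro _ ⟨P, hP, rfl⟩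
    have hyU : hU.fromSpec P ∈ U := by
      rw [← SetLike.mem_coe, ← hU.range_fromSpec]
      exact ⟨P, rfl⟩
    have hPy : hU.primeIdealOf ⟨hU.fromSpec P, hyU⟩ = P := by
      apply hU.fromSpec.isOpenEmbedding.injective
      exact hU.fromSpec_primeIdealOf ⟨hU.fromSpec P, hyU⟩
    refine (key ⟨hU.fromSpec P, hyU⟩).mpr ?_
    rw [hPy]
    exact hP
  · exact ⟨hU.primeIdealOf ⟨x, hxU⟩, (key ⟨x, hxU⟩).mp hx, hU.fromSpec_primeIdealOf ⟨x, hxU⟩⟩

end Groth.Agent.Lead.RegFib
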