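import Mathlib
import Groth.Prelude.Def_CAlg
import Groth.Agent.Lib.Lead.KoszCM1
import Groth.Agent.Lib.Helper4.KosRes3
import Groth.Agent.Lib.Helper8.Koszul6
import Groth.Agent.Lib.Helper1.TorBC3
import Groth.Agent.Lib.Helper1.TorBal

/-!
# Intersections of regular ideals in Cohen–Macaulay rings: algebra (lead)
-/

set_option backward.isDefEq.respectTransparency.types false
set_option synthInstance.maxHeartbeats 400000
set_option autoImplicit false
set_option linter.unusedSectionVars false
set_option linter.style.haveILetI false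
universe u
open CategoryTheory CategoryTheory.Limits TensorProduct RingTheory.Sequence

namespace Groth.Agent.Lead.RegInt

open Groth.Agent.Helper1.TorL

/-- in a Cohen–Macaulay local ring a list all of whose containing primes have height at least its
length is a regular sequence -/
theorem isRegular_of_forall_height_ge (A : Type u) [CommRing A]
    [LocCoh.IsCohenMacaulayLocalRing A] (xs : List A) (hne : Ideal.ofList xs ≠ ⊤)
    (h : ∀ P : Ideal A, P.IsPrime → Ideal.ofList xs ≤ P → (xs.length : ℕ∞) ≤ P.height) :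
    IsRegular A xs := by
  apply Groth.Agent.Lead.KoszCM.isRegular_of_height_ge A xs hne
  rw [Ideal.height_eq_inf_minimalPrimes]
  refine le_iInf₂ fun P hP => ?_
  haveI hPp : P.IsPrime := hP.1.1
  exact h P hPp hP.1.2

/-- `Tor_{n+1}(A/(f), A/(g)) = 0` when `f` is regular on `A` and `g ++ f` is regular on `A` -/
theorem isZero_tor_of_isWeaklyRegular_append (A : Type u) [CommRing A] (fs gs : List A)
    (hf : IsWeaklyRegular A fs) (hgf : IsWeaklyRegular A (gs ++ fs)) (n : ℕ) :
    IsZero (T (n + 1) (ModuleCat.of A (A ⧸ Ideal.ofList fs))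
      (ModuleCat.of A (A ⧸ Ideal.ofList gs))) := by
  have hl : LCI.IsKoszulRegularSeq A fs :=
    (Groth.Agent.Helper8.KoszulLib.koszul_regular fs hf).1
  rw [isWeaklyRegular_append_iff] at hgf
  obtain ⟨-, hfq⟩ := hgf
  have hsm : (Ideal.ofList gs • ⊤ : Submodule A A) = Ideal.ofList gs := by
    rw [smul_eq_mul, Ideal.mul_top]
  have hfq' : IsWeaklyRegular (A ⧸ Ideal.ofList gs) fs :=
    (LinearEquiv.isWeaklyRegular_congr (Submodule.quotEquivOfEq _ _ hsm) fs).mp hfq
  have hfq'' : IsWeaklyRegular (A ⧸ Ideal.ofList gs)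
      (fs.map (algebraMap A (A ⧸ Ideal.ofList gs))) :=
    (isWeaklyRegular_map_algebraMap_iff (A ⧸ Ideal.ofList gs) (A ⧸ Ideal.ofList gs) fs).mpr hfq'
  have hl' : LCI.IsKoszulRegularSeq (A ⧸ Ideal.ofList gs)
      (fs.map (algebraMap A (A ⧸ Ideal.ofList gs))) :=
    (Groth.Agent.Helper8.KoszulLib.koszul_regular _ hfq'').1
  exact Groth.Agent.Lib.Helper4.KosRes3.isZero_tor_quotient A (A ⧸ Ideal.ofList gs) fs hl hl' n

/-- a module is zero if its base changes to local rings at all maximal ideals vanish -/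
theorem subsingleton_of_forall_maximal (S : Type u) [CommRing S] (M : Type u) [AddCommGroup M]
    [Module S M]
    (h : ∀ (P : Ideal S) [P.IsMaximal], ∃ (A' : Type u) (_ : CommRing A') (_ : Algebra S A')
      (_ : IsLocalization.AtPrime A' P), Subsingleton (A' ⊗[S] M)) : Subsingleton M := by
  apply Module.subsingleton_of_localization_maximal (R := S) (M := M)
    (fun (P : Ideal S) (_ : P.IsMaximal) => LocalizedModule P.primeCompl M)
    (fun (P : Ideal S) (_ : P.IsMaximal) => LocalizedModule.mkLinearMap P.primeCompl M)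
  intro P hP
  obtain ⟨A', _, _, _, hsub⟩ := h P
  have e : LocalizedModule P.primeCompl M ≃ₗ[S] A' ⊗[S] M :=
    IsLocalizedModule.linearEquiv P.primeCompl (LocalizedModule.mkLinearMap P.primeCompl M)
      (TensorProduct.mk S A' M 1)
  exact e.toEquiv.subsingleton

/-- Tor of two cyclic modules vanishes if it does so over the local rings at all maximal
ideals -/
theorem subsingleton_tor_quotient_of_local (S : Type u) [CommRing S] (I J : Ideal S) (n : ℕ)
    (h : ∀ (P : Ideal S) [P.IsMaximal], ∃ (A' : Type u) (_ : CommRing A') (_ : Algebra S A')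
      (_ : IsLocalization.AtPrime A' P),
      IsZero (T n (ModuleCat.of A' (A' ⧸ I.map (algebraMap S A')))
        (ModuleCat.of A' (A' ⧸ J.map (algebraMap S A'))))) :
    Subsingleton (T n (ModuleCat.of S (S ⧸ I)) (ModuleCat.of S (S ⧸ J))) := by
  apply subsingleton_of_forall_maximal S
  intro P hP
  obtain ⟨A', _, _, hloc, hz⟩ := h P
  refine ⟨A', inferInstance, inferInstance, hloc, ?_⟩
  haveI : Module.Flat S A' := IsLocalization.flat A' P.primeCompl
  obtain ⟨e⟩ := Groth.Agent.Helper1.TorBC3.full S A' (S ⧸ J) n (S ⧸ I)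
  have e1 : ModuleCat.of A' (A' ⧸ I.map (algebraMap S A')) ≅ ModuleCat.of A' (A' ⊗[S] (S ⧸ I)) :=
    (Ideal.qoutMapEquivTensorQout A' (I := I)).toModuleIso
  have e2 : ModuleCat.of A' (A' ⧸ J.map (algebraMap S A')) ≅ ModuleCat.of A' (A' ⊗[S] (S ⧸ J)) :=
    (Ideal.qoutMapEquivTensorQout A' (I := J)).toModuleIso
  have hz' : IsZero (T n (ModuleCat.of A' (A' ⊗[S] (S ⧸ I)))
      (ModuleCat.of A' (A' ⊗[S] (S ⧸ J)))) :=
    (hz.of_iso (torCongrLeft e1.symm _ n)).of_iso (torCongrRight _ e2.symm n)
  haveI := ModuleCat.subsingleton_of_isZero hz'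
  exact e.toEquiv.subsingleton

end Groth.Agent.Lead.RegInt
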