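import Mathlib
import Groth.Prelude.Def_IntMult
import Groth.Prelude.Def_RegImm
import Groth.Agent.Lib.Lead.RegInt1
import Groth.Agent.Lib.Lead.IntTrans2
import Groth.Agent.Lib.Helper4.RegSpread2

/-!
# Intersections of regular immersions in Cohen–Macaulay schemes: local analysis (lead)
-/

set_option backward.isDefEq.respectTransparency.types false
set_option synthInstance.maxHeartbeats 400000
set_option autoImplicit false
set_option linter.unusedSectionVars false
set_option linter.style.haveILetI false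
universe u
open CategoryTheory CategoryTheory.Limits AlgebraicGeometry TopologicalSpace IsLocalRing
open RingTheory.Sequence

namespace Groth.Agent.Lead.RegInt

open Groth.Agent.Lead.IntCart Groth.Agent.Lead.IntTrans

variable {X : Scheme.{u}}

section Chart

variable {U : X.Opens} (hU : IsAffineOpen U)

theorem chart_isRegular (x : X) (hx : x ∈ U) (rs : List Γ(X, U)) (hrs : IsRegular Γ(X, U) rs)
    (hmem : ∀ r ∈ rs, r ∈ (hU.primeIdealOf ⟨x, hx⟩).asIdeal) :
    IsRegular (X.presheaf.stalk x) (rs.map (X.presheaf.germ U x hx).hom) := by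
  letI := X.presheaf.algebra_section_stalk ⟨x, hx⟩
  haveI := hU.isLocalization_stalk ⟨x, hx⟩
  exact IsWeaklyRegular.isRegular_of_isLocalization_of_mem (X.presheaf.stalk x)
    (hU.primeIdealOf ⟨x, hx⟩).asIdeal hrs.toIsWeaklyRegular hmem

theorem primeIdealOf_fromSpec (q : PrimeSpectrum Γ(X, U)) (hq : hU.fromSpec q ∈ U) :
    hU.primeIdealOf ⟨hU.fromSpec q, hq⟩ = q :=
  hU.fromSpec.isOpenEmbedding.injective (hU.fromSpec_primeIdealOf ⟨hU.fromSpec q, hq⟩)

theorem fromSpec_mem (q : PrimeSpectrum Γ(X, U)) : hU.fromSpec q ∈ U := by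
  rw [← SetLike.mem_coe, ← hU.range_fromSpec]
  exact ⟨q, rfl⟩

end Chart

section ClosedImm

variable {Y : Scheme.{u}} (ι : Y ⟶ X) [IsClosedImmersion ι]

/-- a point of an affine chart whose prime contains the ideal of a closed subscheme lies on it -/
theorem mem_range_of_ker_le (U : X.Opens) (hU : IsAffineOpen U) (x : X) (hx : x ∈ U)
    (h : RingHom.ker (ι.app U).hom ≤ (hU.primeIdealOf ⟨x, hx⟩).asIdeal) : x ∈ Set.range ⇑ι := by
  have h1 : x ∈ ι.ker.support := by
    rw [mem_support_iff_le ι.ker ⟨U, hU⟩ x hx, Scheme.Hom.ker_apply]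
    exact h
  have h2 : x ∈ (ι.ker.support : Set X) := h1
  rw [Scheme.Hom.support_ker, ι.isClosedEmbedding.isClosed_range.closure_eq] at h2
  exact h2

theorem stalkIdeal_ker_eq_map (x : X) (U : X.Opens) (hU : IsAffineOpen U) (hx : x ∈ U) :
    IntMult.stalkIdeal ι.ker x =
      (RingHom.ker (ι.app U).hom).map (X.presheaf.germ U x hx).hom := by
  rw [stalkIdeal_eq_map ι.ker x ⟨U, hU⟩ hx, Scheme.Hom.ker_apply]

theorem stalkIdeal_ker_eq_ker_stalkMap (y : Y) :
    IntMult.stalkIdeal ι.ker (ι y) = RingHom.ker (ι.stalkMap y).hom := by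
  obtain ⟨U, hU, hyU, -⟩ := exists_isAffineOpen_mem_and_subset (x := ι y) (U := ⊤) trivial
  rw [stalkIdeal_ker_eq_map ι (ι y) U hU hyU, ker_stalkMap_eq_map ι y U hU hyU]

/-- a regular immersion of codimension `a` gives a regular sequence of length `a` generating the
stalk of the ideal -/
theorem exists_regular_stalk (a : ℕ)
    (hι : RegImm.IsRegularImmersionOfCodim RegImm.Kind.regular a ι) (y : Y) (x : X)
    (hy : ι y = x) :
    ∃ fs : List (X.presheaf.stalk x), fs.length = a ∧ IsRegular (X.presheaf.stalk x) fs ∧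
      Ideal.ofList fs = IntMult.stalkIdeal ι.ker x := by
  subst hy
  obtain ⟨U, hyU, -, rs, hlen, hreg, hker⟩ := hι.2 y
  have hreg' : IsRegular Γ(X, U.1) rs := hreg
  refine ⟨rs.map (X.presheaf.germ U.1 (ι y) hyU).hom, by rw [List.length_map, hlen], ?_, ?_⟩
  · apply chart_isRegular U.2 (ι y) hyU rs hreg'
    intro r hr
    apply ker_app_le ι y U.1 U.2 hyU
    rw [hker]
    exact Ideal.subset_span hr
  · rw [stalkIdeal_ker_eq_map ι (ι y) U.1 U.2 hyU, hker, Ideal.map_ofList]

end ClosedImm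

section Pullback

variable {Y Z : Scheme.{u}} (iY : Y ⟶ X) (iZ : Z ⟶ X) [IsClosedImmersion iY]
  [IsClosedImmersion iZ]

theorem ker_app_le_left (U : X.Opens) :
    RingHom.ker (iY.app U).hom ≤ RingHom.ker ((pullback.fst iY iZ ≫ iY).app U).hom := by
  intro s hs
  rw [RingHom.mem_ker] at hs ⊢
  rw [Scheme.Hom.comp_app]
  change ((pullback.fst iY iZ).app (iY ⁻¹ᵁ U)).hom ((iY.app U).hom s) = 0
  rw [hs, map_zero]

theorem ker_app_le_right (U : X.Opens) :
    RingHom.ker (iZ.app U).hom ≤ RingHom.ker ((pullback.fst iY iZ ≫ iY).app U).hom := by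
  intro s hs
  rw [RingHom.mem_ker] at hs ⊢
  rw [Scheme.Hom.congr_app (pullback.condition (f := iY) (g := iZ)) U, Scheme.Hom.comp_app]
  change ((pullback iY iZ).presheaf.map _).hom
    (((pullback.snd iY iZ).app (iZ ⁻¹ᵁ U)).hom ((iZ.app U).hom s)) = 0
  rw [hs, map_zero, map_zero]

/-- the ideal of the scheme-theoretic intersection is the sum of the ideals, at every point of
the intersection -/
theorem stalkIdeal_ker_pullback (w : ↑(pullback iY iZ)) (x : X)
    (hw : (pullback.fst iY iZ ≫ iY) w = x) :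
    IntMult.stalkIdeal (pullback.fst iY iZ ≫ iY).ker x =
      IntMult.stalkIdeal iY.ker x ⊔ IntMult.stalkIdeal iZ.ker x := by
  subst hw
  obtain ⟨U, hU, hxU, -⟩ := exists_isAffineOpen_mem_and_subset
    (x := (pullback.fst iY iZ ≫ iY) w) (U := ⊤) trivial
  apply le_antisymm
  · rw [stalkIdeal_ker_eq_ker_stalkMap (pullback.fst iY iZ ≫ iY) w,
      stalkIdeal_ker_eq_map iY _ U hU hxU, stalkIdeal_ker_eq_map iZ _ U hU hxU]
    exact ker_stalkMap_pullback_le iY iZ w U hU hxU
  · rw [stalkIdeal_ker_eq_map (pullback.fst iY iZ ≫ iY) _ U hU hxU,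
      stalkIdeal_ker_eq_map iY _ U hU hxU, stalkIdeal_ker_eq_map iZ _ U hU hxU]
    exact sup_le (Ideal.map_mono (ker_app_le_left iY iZ U))
      (Ideal.map_mono (ker_app_le_right iY iZ U))

/-- primes of the local ring containing the ideal of the intersection have height at least the
expected codimension -/
theorem height_ge_of_le (c : ℕ)
    (hcodim : ∀ w : ↥(pullback iY iZ), ((c : ℕ) : WithBot ℕ∞) ≤
      ringKrullDim (X.presheaf.stalk ((pullback.fst iY iZ ≫ iY).base w)))
    (x : X) (P : Ideal (X.presheaf.stalk x)) [P.IsPrime]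
    (hP : IntMult.stalkIdeal (pullback.fst iY iZ ≫ iY).ker x ≤ P) : (c : ℕ∞) ≤ P.height := by
  obtain ⟨U, hU, hxU, -⟩ := exists_isAffineOpen_mem_and_subset (x := x) (U := ⊤) trivial
  letI := X.presheaf.algebra_section_stalk ⟨x, hxU⟩
  haveI := hU.isLocalization_stalk ⟨x, hxU⟩
  set q : PrimeSpectrum Γ(X, U) :=
    ⟨P.comap (algebraMap Γ(X, U) (X.presheaf.stalk x)), Ideal.comap_isPrime _ _⟩ with hq
  have hξU := fromSpec_mem hU q
  have hξ := primeIdealOf_fromSpec hU q hξU
  have hle : RingHom.ker ((pullback.fst iY iZ ≫ iY).app U).hom ≤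
      (hU.primeIdealOf ⟨hU.fromSpec q, hξU⟩).asIdeal := by
    rw [hξ]
    rw [stalkIdeal_ker_eq_map _ x U hU hxU] at hP
    exact Ideal.le_comap_map.trans (Ideal.comap_mono hP)
  obtain ⟨w, hw⟩ := mem_range_of_ker_le (pullback.fst iY iZ ≫ iY) U hU _ hξU hle
  have h1 := hcodim w
  have hw' : (pullback.fst iY iZ ≫ iY).base w = hU.fromSpec q := hw
  rw [hw'] at h1
  have h2 : ringKrullDim (X.presheaf.stalk (hU.fromSpec q)) = q.asIdeal.height := by
    letI := X.presheaf.algebra_section_stalk ⟨hU.fromSpec q, hξU⟩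
    haveI := hU.isLocalization_stalk ⟨hU.fromSpec q, hξU⟩
    rw [IsLocalization.AtPrime.ringKrullDim_eq_height
      (hU.primeIdealOf ⟨hU.fromSpec q, hξU⟩).asIdeal, hξ]
  have h3 : q.asIdeal.height = P.height :=
    IsLocalization.height_under (hU.primeIdealOf ⟨x, hxU⟩).asIdeal.primeCompl P
  rw [h2, h3] at h1
  exact_mod_cast h1

end Pullback

end Groth.Agent.Lead.RegInt
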