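import Mathlib
import Groth.Prelude.Def_IntMult
import Groth.Prelude.Def_RegImm
import Groth.Prelude.Def_DRing2
import Groth.Agent.Lib.Lead.RegInt1
import Groth.Agent.Lib.Lead.RegInt2
import Groth.Agent.Lib.Lead.IntSerre1

/-!
# Intersections of regular immersions in Cohen–Macaulay schemes: main theorem (lead)
-/

set_option backward.isDefEq.respectTransparency.types false
set_option synthInstance.maxHeartbeats 400000
set_option autoImplicit false
set_option linter.unusedSectionVars false
set_option linter.style.haveILetI false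
universe u
open CategoryTheory CategoryTheory.Limits AlgebraicGeometry TopologicalSpace IsLocalRing
open RingTheory.Sequence

namespace Groth.Agent.Lead.RegInt

open Groth.Agent.Lead.IntCart Groth.Agent.Lead.IntTrans Groth.Agent.Helper1.TorL

section Alg

theorem isZero_tor_of_subsingleton_right {A : Type u} [CommRing A] (M N : ModuleCat.{u} A)
    [Subsingleton N] (n : ℕ) : IsZero (T n M N) := by
  rw [IsZero.iff_id_eq_zero]
  have := Groth.Agent.Lead.IntSerre.smul_id_tor_eq_zero M N (1 : A)
    (fun m => Subsingleton.elim _ _) n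
  rwa [one_smul] at this

theorem isZero_tor_of_subsingleton_left {A : Type u} [CommRing A] (M N : ModuleCat.{u} A)
    [Subsingleton M] (n : ℕ) : IsZero (T n M N) :=
  (Groth.Agent.Helper1.TorBal.isZero_tor_symm n M N).2 (isZero_tor_of_subsingleton_right N M n)

/-- Tor of two quotient rings, with module structures through the quotient maps -/
theorem subsingleton_tor_of_surjective {S B C : Type u} [CommRing S] [CommRing B] [CommRing C]
    (φ : S →+* B) (ψ : S →+* C) (hφ : Function.Surjective φ) (hψ : Function.Surjective ψ) (n : ℕ)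
    (h : Subsingleton (T n (ModuleCat.of S (S ⧸ RingHom.ker φ))
      (ModuleCat.of S (S ⧸ RingHom.ker ψ)))) :
    Subsingleton (@DRing.Tor S _ n B C _ φ.toModule _ ψ.toModule) := by
  letI := φ.toModule
  letI := ψ.toModule
  let eB : (S ⧸ RingHom.ker φ) ≃ₗ[S] B :=
    { (RingHom.quotientKerEquivOfSurjective hφ) with
      map_smul' := fun s x => by
        obtain ⟨x, rfl⟩ := Ideal.Quotient.mk_surjective x
        change RingHom.quotientKerEquivOfSurjective hφ (s • Ideal.Quotient.mk _ x) =
          φ s * RingHom.quotientKerEquivOfSurjective hφ (Ideal.Quotient.mk _ x)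
        rw [← Ideal.Quotient.mk_eq_mk, ← Submodule.Quotient.mk_smul]
        simp [RingHom.quotientKerEquivOfSurjective] }
  let eC : (S ⧸ RingHom.ker ψ) ≃ₗ[S] C :=
    { (RingHom.quotientKerEquivOfSurjective hψ) with
      map_smul' := fun s x => by
        obtain ⟨x, rfl⟩ := Ideal.Quotient.mk_surjective x
        change RingHom.quotientKerEquivOfSurjective hψ (s • Ideal.Quotient.mk _ x) =
          ψ s * RingHom.quotientKerEquivOfSurjective hψ (Ideal.Quotient.mk _ x)
        rw [← Ideal.Quotient.mk_eq_mk, ← Submodule.Quotient.mk_smul]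
        simp [RingHom.quotientKerEquivOfSurjective] }
  have iso : T n (ModuleCat.of S (S ⧸ RingHom.ker φ)) (ModuleCat.of S (S ⧸ RingHom.ker ψ)) ≅
      T n (ModuleCat.of S B) (ModuleCat.of S C) :=
    (torCongrLeft eB.toModuleIso _ n) ≪≫ (torCongrRight _ eC.toModuleIso n)
  exact iso.toLinearEquiv.symm.toEquiv.subsingleton

end Alg

section Main

variable {X Y Z : Scheme.{u}} (iY : Y ⟶ X) (iZ : Z ⟶ X) [IsClosedImmersion iY]
  [IsClosedImmersion iZ]

/-- the local structure at a point of the intersection -/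
theorem local_regular
    (hCM : ∀ x : X, LocCoh.IsCohenMacaulayLocalRing (X.presheaf.stalk x)) (a b : ℕ)
    (hY : RegImm.IsRegularImmersionOfCodim RegImm.Kind.regular a iY)
    (hZ : RegImm.IsRegularImmersionOfCodim RegImm.Kind.regular b iZ)
    (hcodim : ∀ w : ↥(pullback iY iZ), ((a + b : ℕ) : WithBot ℕ∞) ≤
      ringKrullDim (X.presheaf.stalk ((pullback.fst iY iZ ≫ iY).base w)))
    (w : ↑(pullback iY iZ)) (x : X) (hw : (pullback.fst iY iZ ≫ iY) w = x) :
    ∃ fs gs : List (X.presheaf.stalk x), fs.length = a ∧ gs.length = b ∧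
      Ideal.ofList fs = IntMult.stalkIdeal iY.ker x ∧
      Ideal.ofList gs = IntMult.stalkIdeal iZ.ker x ∧
      IsRegular (X.presheaf.stalk x) fs ∧ IsRegular (X.presheaf.stalk x) (fs ++ gs) ∧
      IsRegular (X.presheaf.stalk x) (gs ++ fs) := by
  have hy : iY (pullback.fst iY iZ w) = x := hw
  have hz : iZ (pullback.snd iY iZ w) = x :=
    (Groth.Agent.Helper7.ProjF.pullback_pt_eq iY iZ w).symm.trans hy
  obtain ⟨fs, hfl, hfr, hfI⟩ := exists_regular_stalk iY a hY _ x hy
  obtain ⟨gs, hgl, -, hgI⟩ := exists_regular_stalk iZ b hZ _ x hz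
  haveI := hCM x
  have hsup := stalkIdeal_ker_pullback iY iZ w x hw
  have hne : IntMult.stalkIdeal (pullback.fst iY iZ ≫ iY).ker x ≠ ⊤ := by
    subst hw
    rw [stalkIdeal_ker_eq_ker_stalkMap]
    exact RingHom.ker_ne_top _
  have key : ∀ xs : List (X.presheaf.stalk x),
      Ideal.ofList xs = IntMult.stalkIdeal (pullback.fst iY iZ ≫ iY).ker x →
      xs.length = a + b → IsRegular (X.presheaf.stalk x) xs := by
    intro xs hxs hlen
    apply isRegular_of_forall_height_ge (X.presheaf.stalk x) xs (hxs ▸ hne)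
    intro P hP hle
    rw [hlen]
    haveI := hP
    exact height_ge_of_le iY iZ (a + b) hcodim x P (hxs ▸ hle)
  refine ⟨fs, gs, hfl, hgl, hfI, hgI, hfr, key _ ?_ ?_, key _ ?_ ?_⟩
  · rw [Ideal.ofList_append, hfI, hgI, hsup]
  · rw [List.length_append, hfl, hgl]
  · rw [Ideal.ofList_append, hfI, hgI, hsup, sup_comm]
  · rw [List.length_append, hfl, hgl, add_comm]

theorem main15825 [IsLocallyNoetherian X]
    (hCM : ∀ x : X, LocCoh.IsCohenMacaulayLocalRing (X.presheaf.stalk x)) (a b : ℕ)
    (hY : RegImm.IsRegularImmersionOfCodim RegImm.Kind.regular a iY)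
    (hZ : RegImm.IsRegularImmersionOfCodim RegImm.Kind.regular b iZ)
    (hcodim : ∀ w : ↥(pullback iY iZ), ((a + b : ℕ) : WithBot ℕ∞) ≤
      ringKrullDim (X.presheaf.stalk ((pullback.fst iY iZ ≫ iY).base w))) :
    RegImm.IsRegularImmersionOfCodim RegImm.Kind.regular (a + b) (pullback.fst iY iZ ≫ iY) ∧
      ∀ (U : X.Opens), IsAffineOpen U → ∀ (i : ℕ), 0 < i →
        Subsingleton (@DRing.Tor Γ(X, U) _ i Γ(Y, iY ⁻¹ᵁ U) Γ(Z, iZ ⁻¹ᵁ U) _
          (iY.app U).hom.toModule _ (iZ.app U).hom.toModule) := by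
  refine ⟨⟨inferInstance, fun w => ?_⟩, ?_⟩
  · obtain ⟨fs, gs, hfl, hgl, hfI, hgI, -, hreg, -⟩ :=
      local_regular iY iZ hCM a b hY hZ hcodim w _ rfl
    obtain ⟨U, hU, hxU, -⟩ := exists_isAffineOpen_mem_and_subset
      (x := (pullback.fst iY iZ ≫ iY) w) (U := ⊤) trivial
    have hker : RingHom.ker ((pullback.fst iY iZ ≫ iY).stalkMap w).hom =
        Ideal.ofList (fs ++ gs) := by
      rw [← stalkIdeal_ker_eq_ker_stalkMap, stalkIdeal_ker_pullback iY iZ w _ rfl,
        Ideal.ofList_append, hfI, hgI]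
    obtain ⟨r, hzr, as, hlen, hreg', hkas⟩ :=
      Groth.Agent.Lib.Helper4.RegSpread2.affine_regular_of_stalk (pullback.fst iY iZ ≫ iY) w U hU
        hxU (hU.preimage _) ((pullback.fst iY iZ ≫ iY).app_surjective U hU) (fs ++ gs) hreg hker
    refine ⟨⟨X.basicOpen r, hU.basicOpen r⟩, hzr, inferInstance, as, ?_, hreg', hkas⟩
    rw [hlen, List.length_append, hfl, hgl]
  · intro U hU i hi
    obtain ⟨n, rfl⟩ : ∃ n, i = n + 1 := ⟨i - 1, by omega⟩
    apply subsingleton_tor_of_surjective (iY.app U).hom (iZ.app U).hom (iY.app_surjective U hU)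
      (iZ.app_surjective U hU)
    apply subsingleton_tor_quotient_of_local
    intro P hP
    haveI : P.IsPrime := hP.isPrime
    set q : PrimeSpectrum Γ(X, U) := ⟨P, hP.isPrime⟩ with hq
    have hxU := fromSpec_mem hU q
    have hξ := primeIdealOf_fromSpec hU q hxU
    letI := X.presheaf.algebra_section_stalk ⟨hU.fromSpec q, hxU⟩
    have hloc := hU.isLocalization_stalk ⟨hU.fromSpec q, hxU⟩
    rw [hξ] at hloc
    refine ⟨X.presheaf.stalk (hU.fromSpec q), inferInstance, inferInstance, hloc, ?_⟩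
    have hJY : (RingHom.ker (iY.app U).hom).map
        (algebraMap Γ(X, U) (X.presheaf.stalk (hU.fromSpec q))) =
          IntMult.stalkIdeal iY.ker (hU.fromSpec q) :=
      (stalkIdeal_ker_eq_map iY (hU.fromSpec q) U hU hxU).symm
    have hJZ : (RingHom.ker (iZ.app U).hom).map
        (algebraMap Γ(X, U) (X.presheaf.stalk (hU.fromSpec q))) =
          IntMult.stalkIdeal iZ.ker (hU.fromSpec q) :=
      (stalkIdeal_ker_eq_map iZ (hU.fromSpec q) U hU hxU).symm
    have htop : ∀ I : Ideal Γ(X, U), ¬ I ≤ P →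
        I.map (algebraMap Γ(X, U) (X.presheaf.stalk (hU.fromSpec q))) = ⊤ := by
      intro I hI
      obtain ⟨s, hsI, hsP⟩ := Set.not_subset.mp hI
      have hu : IsUnit (algebraMap Γ(X, U) (X.presheaf.stalk (hU.fromSpec q)) s) :=
        IsLocalization.map_units (M := P.primeCompl) _ ⟨s, hsP⟩
      exact Ideal.eq_top_of_isUnit_mem _ (Ideal.mem_map_of_mem _ hsI) hu
    by_cases hY' : RingHom.ker (iY.app U).hom ≤ P
    · by_cases hZ' : RingHom.ker (iZ.app U).hom ≤ P
      · obtain ⟨y, hy⟩ := mem_range_of_ker_le iY U hU (hU.fromSpec q) hxU (by rw [hξ]; exact hY')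
        obtain ⟨z, hz⟩ := mem_range_of_ker_le iZ U hU (hU.fromSpec q) hxU (by rw [hξ]; exact hZ')
        obtain ⟨w, hw1, hw2⟩ := Scheme.Pullback.exists_preimage_pullback y z (hy.trans hz.symm)
        have hw : (pullback.fst iY iZ ≫ iY) w = hU.fromSpec q := by
          change iY (pullback.fst iY iZ w) = _
          rw [hw1, hy]
        obtain ⟨fs, gs, -, -, hfI, hgI, hfr, -, hgf⟩ :=
          local_regular iY iZ hCM a b hY hZ hcodim w _ hw
        have := isZero_tor_of_isWeaklyRegular_append (X.presheaf.stalk (hU.fromSpec q)) fs gs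
          hfr.toIsWeaklyRegular hgf.toIsWeaklyRegular n
        rw [hfI, hgI, ← hJY, ← hJZ] at this
        exact this
      · have ht := htop _ hZ'
        haveI : Subsingleton (↑(X.presheaf.stalk (hU.fromSpec q)) ⧸
            (RingHom.ker (iZ.app U).hom).map
              (algebraMap Γ(X, U) (X.presheaf.stalk (hU.fromSpec q)))) := by
          rw [ht]; exact Ideal.Quotient.subsingleton_iff.mpr rfl
        exact isZero_tor_of_subsingleton_right _ _ _
    · have ht := htop _ hY'
      haveI : Subsingleton (↑(X.presheaf.stalk (hU.fromSpec q)) ⧸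
          (RingHom.ker (iY.app U).hom).map
            (algebraMap Γ(X, U) (X.presheaf.stalk (hU.fromSpec q)))) := by
        rw [ht]; exact Ideal.Quotient.subsingleton_iff.mpr rfl
      exact isZero_tor_of_subsingleton_left _ _ _

end Main

end Groth.Agent.Lead.RegInt
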