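import Mathlib
import Groth.Agent.Lib.Lead.KaeAlg

/-!
# Regular sequences: relations have coefficients in the ideal; the conormal module is free (lead)
-/

set_option autoImplicit false
universe u
open TensorProduct

namespace Groth.Agent.Lead.RegSeq

variable {A : Type u} [CommRing A]

theorem ofList_ofFn {n : ℕ} (f : Fin n → A) :
    Ideal.ofList (List.ofFn f) = Ideal.span (Set.range f) := by
  have : {r | r ∈ List.ofFn f} = Set.range f := by
    ext x
    exact List.mem_ofFn' f x
  change Ideal.span {r | r ∈ List.ofFn f} = _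
  rw [this]

/-- relations among the members of a weakly regular sequence have coefficients in the ideal
they generate -/
theorem rel_mem : ∀ (n : ℕ) (f : Fin n → A),
    RingTheory.Sequence.IsWeaklyRegular A (List.ofFn f) →
    ∀ c : Fin n → A, ∑ k, c k * f k = 0 → ∀ k, c k ∈ Ideal.span (Set.range f) := by
  intro n
  induction n with
  | zero => intro f _ c _ k; exact k.elim0
  | succ n ih =>
    intro f hf c hc
    rw [List.ofFn_succ', List.concat_eq_append,
      RingTheory.Sequence.isWeaklyRegular_append_iff] at hf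
    obtain ⟨h1, h2⟩ := hf
    rw [RingTheory.Sequence.isWeaklyRegular_singleton_iff, ofList_ofFn] at h2
    set f' : Fin n → A := fun i => f (Fin.castSucc i) with hf'
    set I' : Ideal A := Ideal.span (Set.range f') with hI'
    have hI'le : I' ≤ Ideal.span (Set.range f) := by
      apply Ideal.span_mono
      rintro _ ⟨i, rfl⟩
      exact ⟨Fin.castSucc i, rfl⟩
    have hlast : f (Fin.last n) ∈ Ideal.span (Set.range f) :=
      Ideal.subset_span ⟨Fin.last n, rfl⟩
    rw [Fin.sum_univ_castSucc] at hc
    -- the last coefficient lies in `I'`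
    have hsum' : ∑ i : Fin n, c (Fin.castSucc i) * f' i ∈ I' := by
      refine Ideal.sum_mem _ (fun i _ => ?_)
      exact Ideal.mul_mem_left _ _ (Ideal.subset_span ⟨i, rfl⟩)
    have hcl : c (Fin.last n) ∈ I' := by
      have hq : f (Fin.last n) • (Submodule.Quotient.mk (c (Fin.last n)) :
          A ⧸ (I' • ⊤ : Submodule A A)) = 0 := by
        rw [← Submodule.Quotient.mk_smul, Submodule.Quotient.mk_eq_zero]
        have : f (Fin.last n) • c (Fin.last n) = -(∑ i : Fin n, c (Fin.castSucc i) * f' i) := by
          rw [smul_eq_mul, mul_comm]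
          exact eq_neg_of_add_eq_zero_right hc
        rw [this]
        have h3 : (I' • ⊤ : Submodule A A) = I' := by
          rw [smul_eq_mul, Ideal.mul_top]
        rw [h3]
        exact neg_mem hsum'
      have h4 := h2 (by rw [hq, smul_zero] :
        f (Fin.last n) • (Submodule.Quotient.mk (c (Fin.last n)) :
          A ⧸ (I' • ⊤ : Submodule A A)) = f (Fin.last n) • 0)
      rw [Submodule.Quotient.mk_eq_zero] at h4
      have h3 : (I' • ⊤ : Submodule A A) = I' := by
        rw [smul_eq_mul, Ideal.mul_top]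
      rw [h3] at h4
      exact h4
    obtain ⟨d, hd⟩ := (Ideal.mem_span_range_iff_exists_fun (R := A)).1 hcl
    have hrel : ∑ i : Fin n, (c (Fin.castSucc i) + d i * f (Fin.last n)) * f' i = 0 := by
      have : ∑ i : Fin n, (c (Fin.castSucc i) + d i * f (Fin.last n)) * f' i =
          ∑ i : Fin n, c (Fin.castSucc i) * f' i + (∑ i : Fin n, d i * f' i) * f (Fin.last n) := by
        rw [Finset.sum_mul, ← Finset.sum_add_distrib]
        refine Finset.sum_congr rfl (fun i _ => ?_)
        ring
      rw [this, hd]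
      exact hc
    have hih := ih f' h1 _ hrel
    intro k
    refine Fin.lastCases ?_ (fun i => ?_) k
    · exact hI'le hcl
    · have h5 := hI'le (hih i)
      have h6 : d i * f (Fin.last n) ∈ Ideal.span (Set.range f) :=
        Ideal.mul_mem_left _ _ hlast
      have h7 := Ideal.sub_mem _ h5 h6
      rwa [add_sub_cancel_right] at h7

/-- if a combination of a weakly regular sequence lies in the square of its ideal, the coefficients
lie in the ideal -/
theorem coeff_mem_of_mem_sq {n : ℕ} (f : Fin n → A)
    (hf : RingTheory.Sequence.IsWeaklyRegular A (List.ofFn f)) (c : Fin n → A)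
    (hc : ∑ k, c k * f k ∈ (Ideal.span (Set.range f)) ^ 2) (k : Fin n) :
    c k ∈ Ideal.span (Set.range f) := by
  set I := Ideal.span (Set.range f) with hI
  rw [pow_two] at hc
  have h1 : ∑ k, c k * f k ∈ I • (Submodule.span A (Set.range f)) := hc
  rw [Submodule.mem_ideal_smul_span_iff_exists_sum] at h1
  obtain ⟨a, ha, hsum⟩ := h1
  have h2 : (a.sum fun i r => r • f i) = ∑ i, a i * f i := by
    rw [Finsupp.sum_fintype]
    · rfl
    · intro i; exact zero_smul _ _
  rw [h2] at hsum
  have hrel : ∑ i, (c i - a i) * f i = 0 := by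
    have : ∑ i, (c i - a i) * f i = ∑ i, c i * f i - ∑ i, a i * f i := by
      rw [← Finset.sum_sub_distrib]
      refine Finset.sum_congr rfl (fun i _ => ?_)
      ring
    rw [this, hsum, sub_self]
  have h3 := rel_mem n f hf _ hrel k
  have h4 := Ideal.add_mem _ h3 (ha k)
  rwa [sub_add_cancel] at h4

section Conormal

variable {B : Type u} [CommRing B] [Algebra A B]

theorem one_tmul_eq_zero_iff (hs : Function.Surjective (algebraMap A B))
    (x : RingHom.ker (algebraMap A B)) :
    ((1 : B) ⊗ₜ[A] x = 0) ↔ (x : A) ∈ (RingHom.ker (algebraMap A B)) ^ 2 := by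
  rw [← Ideal.toCotangent_eq_zero,
    ← (Groth.Agent.Lead.KaeAlg.tensorKerEquivCotangent hs).map_eq_zero_iff]
  have : (Groth.Agent.Lead.KaeAlg.tensorKerEquivCotangent hs) ((1 : B) ⊗ₜ[A] x) =
      (RingHom.ker (algebraMap A B)).toCotangent x := by
    unfold Groth.Agent.Lead.KaeAlg.tensorKerEquivCotangent
    erw [LinearEquiv.trans_apply, TensorProduct.congr_tmul]
    have h1 : (Ideal.quotientKerAlgEquivOfSurjective (f := Algebra.ofId A B)
        hs).symm.toLinearEquiv (1 : B) = Ideal.Quotient.mk _ (1 : A) := by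
      change (Ideal.quotientKerAlgEquivOfSurjective (f := Algebra.ofId A B) hs).symm 1 = _
      rw [map_one, map_one]
    rw [h1, LinearEquiv.refl_apply]
    erw [TensorProduct.quotTensorEquivQuotSMul_mk_tmul]
    rw [one_smul]
    rfl
  rw [this]

/-- **the conormal module of a weakly regular sequence is free** -/
theorem nonempty_equiv {n : ℕ} (f : Fin n → A)
    (hf : RingTheory.Sequence.IsWeaklyRegular A (List.ofFn f))
    (hs : Function.Surjective (algebraMap A B))
    (hker : RingHom.ker (algebraMap A B) = Ideal.span (Set.range f)) :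
    Nonempty ((ULift.{u} (Fin n) →₀ B) ≃ₗ[B] (B ⊗[A] (RingHom.ker (algebraMap A B)))) := by
  set K := RingHom.ker (algebraMap A B) with hK
  have hfK : ∀ k, f k ∈ K := fun k => by
    rw [hker]; exact Ideal.subset_span ⟨k, rfl⟩
  let v : Fin n → B ⊗[A] K := fun k => (1 : B) ⊗ₜ[A] ⟨f k, hfK k⟩
  let Φ : (Fin n → B) →ₗ[B] B ⊗[A] K := Fintype.linearCombination B v
  have hΦ : ∀ a : Fin n → A, Φ (fun k => algebraMap A B (a k)) =
      (1 : B) ⊗ₜ[A] (⟨∑ k, a k * f k, Ideal.sum_mem _ (fun k _ => Ideal.mul_mem_left _ _ (hfK k))⟩ : K) := by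
    intro a
    change Fintype.linearCombination B v _ = _
    rw [Fintype.linearCombination_apply]
    have h1 : (⟨∑ k, a k * f k,
        Ideal.sum_mem _ (fun k _ => Ideal.mul_mem_left _ _ (hfK k))⟩ : K) =
        ∑ k, a k • (⟨f k, hfK k⟩ : K) := by
      apply Subtype.ext
      rw [AddSubmonoidClass.coe_finsetSum]
      rfl
    rw [h1, TensorProduct.tmul_sum]
    refine Finset.sum_congr rfl (fun k _ => ?_)
    rw [TensorProduct.tmul_smul, algebraMap_smul]
  have hinj : Function.Injective Φ := by
    rw [injective_iff_map_eq_zero]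
    intro c hc
    choose a ha using fun k => hs (c k)
    have hca : c = fun k => algebraMap A B (a k) := funext (fun k => (ha k).symm)
    rw [hca, hΦ, one_tmul_eq_zero_iff hs] at hc
    have hc' : ∑ k, a k * f k ∈ (Ideal.span (Set.range f)) ^ 2 := by
      rw [← hker]; exact hc
    have h2 := coeff_mem_of_mem_sq f hf a hc'
    rw [hca]
    funext k
    have h3 : a k ∈ K := by rw [hker]; exact h2 k
    exact h3
  have hsurj : Function.Surjective Φ := by
    intro z
    induction z using TensorProduct.induction_on with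
    | zero => exact ⟨0, map_zero _⟩
    | add z w hz hw =>
      obtain ⟨c, rfl⟩ := hz
      obtain ⟨c', rfl⟩ := hw
      exact ⟨c + c', map_add _ _ _⟩
    | tmul b x =>
      have hx : (x : A) ∈ Ideal.span (Set.range f) := by rw [← hker]; exact x.2
      obtain ⟨a, ha⟩ := (Ideal.mem_span_range_iff_exists_fun (R := A)).1 hx
      refine ⟨b • (fun k => algebraMap A B (a k)), ?_⟩
      rw [map_smul, hΦ]
      have h1 : (⟨∑ k, a k * f k,
          Ideal.sum_mem _ (fun k _ => Ideal.mul_mem_left _ _ (hfK k))⟩ : K) = x :=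
        Subtype.ext ha
      rw [h1, TensorProduct.smul_tmul', smul_eq_mul, mul_one]
  let e1 : (Fin n → B) ≃ₗ[B] B ⊗[A] K := LinearEquiv.ofBijective Φ ⟨hinj, hsurj⟩
  let e2 : (ULift.{u} (Fin n) →₀ B) ≃ₗ[B] (Fin n → B) :=
    (Finsupp.domLCongr Equiv.ulift) ≪≫ₗ (Finsupp.linearEquivFunOnFinite B B (Fin n))
  exact ⟨e2 ≪≫ₗ e1⟩

end Conormal

end Groth.Agent.Lead.RegSeq
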