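import Mathlib
import Groth.Prelude
import Groth.Agent.Lib.Lead.ParaF1
import Groth.Agent.Lib.Helper3.FibDepth
import Groth.Agent.Lib.Helper4.RelHartogs1
import Groth.Agent.Lib.Helper8.FlatReg5
import Groth.Agent.Lib.Helper2.Sch.SmoothFieldRegular

set_option autoImplicit false
set_option linter.style.haveILetI false
universe u
open CategoryTheory CategoryTheory.Limits AlgebraicGeometry TopologicalSpace

namespace Groth.Agent.Lead.RelHart

theorem cm_fiberStalk {X S : Scheme.{u}} (f : X ⟶ S) [Smooth f] (x : X) :
    LocCoh.IsCohenMacaulayLocalRing (CInt.fiberStalk f x) := by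
  haveI : Smooth (f.fiberToSpecResidueField (f.base x)) := by
    show Smooth (pullback.snd f (S.fromSpecResidueField (f.base x)))
    infer_instance
  haveI : IsRegularLocalRing (CInt.fiberStalk f x) :=
    Groth.Agent.Helper2.SmoothFieldRegular.S1535_main (S.residueField (f.base x))
      (f.fiberToSpecResidueField (f.base x)) (f.asFiber x)
  exact Groth.Agent.Helper8.FlatReg.isCohenMacaulayLocalRing_of_isRegularLocalRing _

theorem unit_isIso_of_fibre_codim {X S : Scheme.{u}} [IsLocallyNoetherian S] (f : X ⟶ S) [Smooth f]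
    (E : X.Modules) (hE : FlatMod.IsFinLocFree E) (Z : Closeds ↥X)
    (hZ : ∀ x : ↥X, x ∈ Z → (2 : WithBot ℕ∞) ≤ ringKrullDim ↑(CInt.fiberStalk f x)) :
    IsIso ((Scheme.Modules.restrictAdjunction (Scheme.Opens.ι (Z.compl : X.Opens))).unit.app E) := by
  haveI : IsLocallyNoetherian X := LocallyOfFiniteType.isLocallyNoetherian f
  have hdepth := Groth.Agent.Helper3.FibDepth.main_S14107 f (fun x => cm_fiberStalk f x)
    (Z : Set X) Z.isClosed 2 (by exact_mod_cast hZ)
  have key : ∀ (W : X.Opens), W = (Z.compl : X.Opens) → ∀ V : X.Opens,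
      Function.Bijective (X.presheaf.map (homOfLE (inf_le_left : V ⊓ W ≤ V)).op) := by
    intro W hW V
    subst hW
    exact Groth.Agent.Lib.Helper4.RelHartogs1.hbij_of_depth X (Z.compl : X.Opens)
      (fun x hx => by
        have hxZ : x ∈ Z := by
          by_contra hc
          exact hx hc
        exact_mod_cast hdepth x hxZ) V
  refine Groth.Agent.Lead.ParaF.unit_isIso _ ?_ E hE
  intro V
  exact key _ (Scheme.Opens.opensRange_ι _) V

end Groth.Agent.Lead.RelHart
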