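import Mathlib
import Groth.Agent.Lib.Lead.FlatArtRel
import Groth.Agent.Lib.Lead.HartogsNI

/-!
# Hartogs extension for a flat algebra over a local Artinian ring with normal fibre (lead)
-/

set_option autoImplicit false
universe u
open CategoryTheory CategoryTheory.Limits AlgebraicGeometry TopologicalSpace Opposite

namespace Groth.Agent.Lead.RelHartogs

open Groth.Agent.Lead.FlatArt Groth.Agent.Lead.FlatArtRel

section Height

theorem height_comap_le_of_nil {A A₀ : Type*} [CommRing A] [CommRing A₀] (π : A →+* A₀)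
    (hπ : Function.Surjective π) (hker : RingHom.ker π ≤ nilradical A)
    (p₀ : Ideal A₀) [hp₀ : p₀.IsPrime] : (p₀.comap π).height ≤ p₀.height := by
  have hkq : ∀ q : PrimeSpectrum A, RingHom.ker π ≤ q.asIdeal := fun q =>
    hker.trans (nilradical_le_prime q.asIdeal)
  let f : PrimeSpectrum A → PrimeSpectrum A₀ := fun q =>
    ⟨q.asIdeal.map π, Ideal.map_isPrime_of_surjective hπ (hkq q)⟩
  have hcm : ∀ q : PrimeSpectrum A, (q.asIdeal.map π).comap π = q.asIdeal := by
    intro q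
    rw [Ideal.comap_map_of_surjective π hπ]
    exact sup_eq_left.2 (hkq q)
  have hf : StrictMono f := by
    intro q q' hqq'
    refine lt_of_le_of_ne (Ideal.map_mono (show q.asIdeal ≤ q'.asIdeal from hqq'.le)) ?_
    intro e
    have e' : q.asIdeal.map π = q'.asIdeal.map π := congrArg PrimeSpectrum.asIdeal e
    have : q.asIdeal = q'.asIdeal := by rw [← hcm q, ← hcm q', e']
    exact hqq'.ne (PrimeSpectrum.ext this)
  have h1 := Order.height_le_height_apply_of_strictMono f hf
    ⟨p₀.comap π, Ideal.IsPrime.comap π⟩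
  have h2 : f ⟨p₀.comap π, Ideal.IsPrime.comap π⟩ = ⟨p₀, hp₀⟩ := by
    apply PrimeSpectrum.ext
    exact Ideal.map_comap_of_surjective π hπ p₀
  rw [h2, ← PrimeSpectrum.height_eq_orderHeight, ← PrimeSpectrum.height_eq_orderHeight] at h1
  exact h1

theorem dim_stalk_Spec (R : Type u) [CommRing R] (x : PrimeSpectrum R) :
    ringKrullDim ((Spec (CommRingCat.of R)).presheaf.stalk x) = x.asIdeal.height := by
  exact IsLocalization.AtPrime.ringKrullDim_eq_height x.asIdeal
    ((Spec.structureSheaf R).presheaf.stalk x)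

end Height

section Top

variable {Y : Scheme.{u}} (U : Y.Opens)

theorem ι_appTop_eq :
    U.ι.appTop = Y.presheaf.map (homOfLE (le_top : U ≤ ⊤)).op ≫ U.topIso.inv := by
  rw [Scheme.Opens.ι_appTop]
  show _ = Y.presheaf.map _ ≫ Y.presheaf.map _
  rw [← Functor.map_comp]
  rfl

/-- the ring map `R → Γ(U, O)` for an open of `Spec R` -/
noncomputable def sig (R : Type u) [CommRing R] (U : (Spec (CommRingCat.of R)).Opens) :
    R →+* Γ((U : Scheme.{u}), ⊤) :=
  (U.ι.appTop).hom.comp (Scheme.ΓSpecIso (CommRingCat.of R)).inv.hom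

theorem bijective_res_iff (R : Type u) [CommRing R] (U : (Spec (CommRingCat.of R)).Opens) :
    Function.Bijective ((Spec (CommRingCat.of R)).presheaf.map (homOfLE (le_top : U ≤ ⊤)).op) ↔
      Function.Bijective (sig R U) := by
  have e : ⇑(sig R U) = ⇑(U.topIso.inv.hom) ∘
      ⇑((Spec (CommRingCat.of R)).presheaf.map (homOfLE (le_top : U ≤ ⊤)).op).hom ∘
      ⇑(Scheme.ΓSpecIso (CommRingCat.of R)).inv.hom := by
    funext r
    show (U.ι.appTop).hom _ = _
    rw [ι_appTop_eq]
    rfl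
  have b1 : Function.Bijective ⇑(U.topIso.inv.hom) :=
    ConcreteCategory.bijective_of_isIso U.topIso.inv
  have b2 : Function.Bijective ⇑(Scheme.ΓSpecIso (CommRingCat.of R)).inv.hom :=
    ConcreteCategory.bijective_of_isIso (Scheme.ΓSpecIso (CommRingCat.of R)).inv
  rw [e]
  constructor
  · intro h
    exact b1.comp (h.comp b2)
  · intro h
    have h1 : Function.Bijective
        (⇑((Spec (CommRingCat.of R)).presheaf.map (homOfLE (le_top : U ≤ ⊤)).op).hom ∘
          ⇑(Scheme.ΓSpecIso (CommRingCat.of R)).inv.hom) :=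
      (Function.Bijective.of_comp_iff' b1 _).1 h
    exact (Function.Bijective.of_comp_iff _ b2).1 h1

end Top

section Main

variable (C : Type u) [CommRing C] [IsLocalRing C] (A : Type u) [CommRing A] [Algebra C A]

/-- the special fibre ring -/
abbrev A0 : Type u := A ⧸ (IsLocalRing.maximalIdeal C).map (algebraMap C A)

/-- the quotient map -/
abbrev pi0 : A →+* A0 C A := Ideal.Quotient.mk _

/-- the closed immersion of the special fibre -/
noncomputable abbrev Spi : Spec (CommRingCat.of (A0 C A)) ⟶ Spec (CommRingCat.of A) :=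
  Spec.map (CommRingCat.ofHom (pi0 C A))

variable (U : (Spec (CommRingCat.of A)).Opens)

/-- the structure morphism of the open subscheme -/
noncomputable abbrev gU : (U : Scheme.{u}) ⟶ Spec (CommRingCat.of C) :=
  U.ι ≫ Spec.map (CommRingCat.ofHom (algebraMap C A))

/-- the special fibre of the open subscheme -/
noncomputable abbrev iU : ((Spi C A ⁻¹ᵁ U : (Spec (CommRingCat.of (A0 C A))).Opens) : Scheme.{u}) ⟶
    (U : Scheme.{u}) := Spi C A ∣_ U

theorem iU_gU : iU C A U ≫ gU C A U = (Spi C A ⁻¹ᵁ U).ι ≫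
    Spec.map (CommRingCat.ofHom ((pi0 C A).comp (algebraMap C A))) := by
  show (Spi C A ∣_ U) ≫ U.ι ≫ _ = _
  rw [← Category.assoc, morphismRestrict_ι, Category.assoc, CommRingCat.ofHom_comp,
    Spec.map_comp]

theorem hw (V : (U : Scheme.{u}).Opens) (c : C) (hc : c ∈ IsLocalRing.maximalIdeal C) :
    ((iU C A U).app V).hom (secMap (gU C A U) V c) = 0 := by
  rw [← secMap_comp, iU_gU, secMap_comp_SpecMap]
  have : ((pi0 C A).comp (algebraMap C A)) c = 0 :=
    Ideal.Quotient.eq_zero_iff_mem.2 (Ideal.mem_map_of_mem _ hc)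
  rw [this, map_zero]

theorem hasLift : HasLift (gU C A U) (iU C A U) := by
  intro B _ z hz
  let α : A →+* B := (Spec.preimage (z ≫ U.ι)).hom
  have hα : Spec.map (CommRingCat.ofHom α) = z ≫ U.ι := Spec.map_preimage _
  have hzg : z ≫ gU C A U = Spec.map (CommRingCat.ofHom (α.comp (algebraMap C A))) := by
    show z ≫ U.ι ≫ _ = _
    rw [← Category.assoc, ← hα, ← Spec.map_comp, ← CommRingCat.ofHom_comp]
  have hkill : (IsLocalRing.maximalIdeal C).map (algebraMap C A) ≤ RingHom.ker α := by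
    refine Ideal.map_le_iff_le_comap.2 (fun c hc => ?_)
    rw [Ideal.mem_comap, RingHom.mem_ker]
    have h1 := hz c hc
    rw [hzg, secMap_SpecMap] at h1
    have h2 := congrArg (Scheme.ΓSpecIso (CommRingCat.of B)).hom.hom h1
    rw [map_zero] at h2
    have h3 : (Scheme.ΓSpecIso (CommRingCat.of B)).hom.hom
        ((Scheme.ΓSpecIso (CommRingCat.of B)).inv.hom ((α.comp (algebraMap C A)) c)) =
        (α.comp (algebraMap C A)) c :=
      congrArg (fun k => k.hom ((α.comp (algebraMap C A)) c))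
        (Scheme.ΓSpecIso (CommRingCat.of B)).inv_hom_id
    rw [h3] at h2
    exact h2
  let α₀ : A0 C A →+* B := Ideal.Quotient.lift _ α (fun a ha => RingHom.mem_ker.1 (hkill ha))
  have hα₀ : α₀.comp (pi0 C A) = α := Ideal.Quotient.lift_comp_mk _ _ _
  let z₀ : Spec (CommRingCat.of B) ⟶ Spec (CommRingCat.of (A0 C A)) :=
    Spec.map (CommRingCat.ofHom α₀)
  have hz₀ : z₀ ≫ Spi C A = z ≫ U.ι := by
    show Spec.map _ ≫ Spec.map _ = _
    rw [← Spec.map_comp, ← CommRingCat.ofHom_comp, hα₀, hα]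
  have hr : Set.range z₀.base ⊆ Set.range (Spi C A ⁻¹ᵁ U).ι.base := by
    rw [Scheme.Opens.range_ι]
    rintro _ ⟨p, rfl⟩
    show (Spi C A).base (z₀.base p) ∈ U
    have e1 : (Spi C A).base (z₀.base p) = (z ≫ U.ι).base p := by
      rw [← hz₀]
      rfl
    rw [e1]
    exact (z.base p).2
  refine ⟨IsOpenImmersion.lift (Spi C A ⁻¹ᵁ U).ι z₀ hr, ?_⟩
  rw [← cancel_mono U.ι, Category.assoc]
  show _ ≫ (Spi C A ∣_ U) ≫ U.ι = _
  rw [morphismRestrict_ι, ← Category.assoc, IsOpenImmersion.lift_fac, hz₀]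

theorem sig_algebraMap (c : C) :
    sig A U (algebraMap C A c) = secMap (gU C A U) ⊤ c := by
  rw [secMap_top]
  have h1 : (gU C A U).appTop =
      (Spec.map (CommRingCat.ofHom (algebraMap C A))).appTop ≫ U.ι.appTop :=
    Scheme.Hom.comp_appTop _ _
  rw [h1]
  have h2 := Scheme.ΓSpecIso_inv_naturality (CommRingCat.ofHom (algebraMap C A))
  show (U.ι.appTop).hom ((Scheme.ΓSpecIso (CommRingCat.of A)).inv.hom (algebraMap C A c)) =
    (U.ι.appTop).hom (((Scheme.ΓSpecIso (CommRingCat.of C)).inv ≫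
      (Spec.map (CommRingCat.ofHom (algebraMap C A))).appTop).hom c)
  rw [← h2]
  rfl

theorem iU_sig (a : A) :
    (iU C A U).appTop.hom (sig A U a) = sig (A0 C A) (Spi C A ⁻¹ᵁ U) (pi0 C A a) := by
  have h1 : (iU C A U) ≫ U.ι = (Spi C A ⁻¹ᵁ U).ι ≫ Spi C A := morphismRestrict_ι _ _
  have h2 : U.ι.appTop ≫ (iU C A U).appTop = (Spi C A).appTop ≫ (Spi C A ⁻¹ᵁ U).ι.appTop := by
    rw [← Scheme.Hom.comp_appTop, ← Scheme.Hom.comp_appTop, h1]
  have h3 := Scheme.ΓSpecIso_inv_naturality (CommRingCat.ofHom (pi0 C A))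
  show (U.ι.appTop ≫ (iU C A U).appTop).hom
    ((Scheme.ΓSpecIso (CommRingCat.of A)).inv.hom a) = _
  rw [h2]
  show ((Spi C A ⁻¹ᵁ U).ι.appTop).hom (((Scheme.ΓSpecIso (CommRingCat.of A)).inv ≫
    (Spi C A).appTop).hom a) = _
  rw [← h3]
  rfl

theorem ker_pi0_le_nilradical [IsArtinianRing C] :
    RingHom.ker (pi0 C A) ≤ nilradical A := by
  rw [Ideal.mk_ker]
  obtain ⟨n, hn⟩ : IsNilpotent (IsLocalRing.maximalIdeal C) := by
    have := IsArtinianRing.isNilpotent_jacobson_bot (R := C)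
    rwa [IsLocalRing.jacobson_eq_maximalIdeal ⊥ bot_ne_top] at this
  intro a ha
  refine ⟨n, ?_⟩
  have h1 : a ^ n ∈ ((IsLocalRing.maximalIdeal C).map (algebraMap C A)) ^ n :=
    Ideal.pow_mem_pow ha n
  rw [← Ideal.map_pow, hn, Ideal.zero_eq_bot, Ideal.map_bot] at h1
  exact h1

set_option backward.isDefEq.respectTransparency false in
theorem isAffineHom_iU : IsAffineHom (iU C A U) := by
  have h : IsAffineHom (Spi C A) := inferInstance
  exact IsZariskiLocalAtTarget.restrict h U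

/-- the main theorem -/
theorem main [IsArtinianRing C] [IsNoetherianRing A] [Module.Flat C A]
    (hnorm : Pi1.IsNormalScheme (Spec (CommRingCat.of (A0 C A))))
    (hU : ∀ p : ↥(Spec (CommRingCat.of A)), p ∉ U → (2 : ℕ∞) ≤ p.asIdeal.height) :
    Function.Bijective ((Spec (CommRingCat.of A)).presheaf.map (homOfLE (le_top : U ≤ ⊤)).op) := by
  rw [bijective_res_iff]
  -- Hartogs on the special fibre
  have hcod : ∀ x : (Spec (CommRingCat.of (A0 C A))), x ∈ (⊤ : (Spec (CommRingCat.of (A0 C A))).Opens) →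
      x ∉ Spi C A ⁻¹ᵁ U →
      (2 : WithBot ℕ∞) ≤ ringKrullDim ((Spec (CommRingCat.of (A0 C A))).presheaf.stalk x) := by
    intro x _ hx
    have h1 : (2 : ℕ∞) ≤ ((Spi C A).base x).asIdeal.height := hU _ hx
    have h2 : ((Spi C A).base x).asIdeal = x.asIdeal.comap (pi0 C A) := rfl
    rw [h2] at h1
    let x' : PrimeSpectrum (A0 C A) := x
    haveI : x'.asIdeal.IsPrime := x'.isPrime
    have h3 : (2 : ℕ∞) ≤ x'.asIdeal.height :=
      h1.trans (height_comap_le_of_nil (pi0 C A) Ideal.Quotient.mk_surjective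
        (ker_pi0_le_nilradical C A) x'.asIdeal)
    have h4 : ((2 : ℕ∞) : WithBot ℕ∞) ≤ (x'.asIdeal.height : WithBot ℕ∞) :=
      WithBot.coe_le_coe.2 h3
    exact h4.trans_eq (dim_stalk_Spec (A0 C A) x').symm
  have hH := Groth.Agent.Lead.HartogsNI.hartogs_bijective' hnorm
    (A := ⊤) (B := Spi C A ⁻¹ᵁ U) le_top hcod
  have hσ₀ : Function.Bijective (sig (A0 C A) (Spi C A ⁻¹ᵁ U)) :=
    (bijective_res_iff (A0 C A) (Spi C A ⁻¹ᵁ U)).1 hH
  have hfl : Flat (Spec.map (CommRingCat.ofHom (algebraMap C A))) := by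
    rw [HasRingHomProperty.Spec_iff (P := @Flat)]
    exact RingHom.flat_algebraMap_iff.2 inferInstance
  have hflg : Flat (gU C A U) := inferInstance
  have haff : IsAffineHom (iU C A U) := isAffineHom_iU C A U
  refine FlatArtRel.main (gU C A U) (iU C A U) (hw C A U) (algebraMap C A) (sig A U)
    (sig_algebraMap C A U) (hasLift C A U) ?_ ?_
  · intro t
    obtain ⟨a₀, ha₀⟩ := hσ₀.2 t
    obtain ⟨a, rfl⟩ := Ideal.Quotient.mk_surjective a₀
    exact ⟨a, (iU_sig C A U a).trans ha₀⟩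
  · intro a ha
    rw [iU_sig] at ha
    have h1 : pi0 C A a = 0 := hσ₀.1 (ha.trans (map_zero _).symm)
    exact Ideal.Quotient.eq_zero_iff_mem.1 h1

end Main

end Groth.Agent.Lead.RelHartogs
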