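import Mathlib
import Groth.Prelude.Def_PicRel2
import Groth.Prelude.Def_PicGrp2

set_option backward.isDefEq.respectTransparency.types false
set_option synthInstance.maxHeartbeats 400000
set_option linter.style.haveILetI false
set_option linter.unusedSectionVars false
set_option autoImplicit false
set_option linter.unusedSimpArgs false

/-!
# Base change of `PicRel.IsRelPic` (S17906)
-/

universe u

open CategoryTheory CategoryTheory.Limits AlgebraicGeometry

namespace Groth.Agent.Lead.RelPicBC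

variable {X S S' : Scheme.{u}} (f : X ⟶ S) (g : S' ⟶ S)

/-- push an `S'`-scheme down to `S` -/
abbrev dn (T : Over S') : Over S := Over.mk (T.hom ≫ g)

/-- push a morphism of `S'`-schemes down to `S` -/
abbrev dnHom {T₁ T₂ : Over S'} (h : T₁ ⟶ T₂) : dn g T₁ ⟶ dn g T₂ :=
  Over.homMk h.left (by
    change h.left ≫ T₂.hom ≫ g = T₁.hom ≫ g
    rw [← Category.assoc, Over.w h])

/-- the comparison iso `X' ×_{S'} T ≅ X ×_S T` -/
noncomputable abbrev ci (T : Over S') :
    PicF.XT (pullback.snd f g) T ≅ PicF.XT f (dn g T) :=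
  pullbackLeftPullbackSndIso f g T.hom

theorem ci_hom_XTmap {T₁ T₂ : Over S'} (h : T₁ ⟶ T₂) :
    PicF.XTmap (pullback.snd f g) h ≫ (ci f g T₂).hom =
      (ci f g T₁).hom ≫ PicF.XTmap f (dnHom g h) := by
  apply pullback.hom_ext
  · simp only [PicF.XTmap, pullback.map, Category.assoc, pullback.lift_fst, pullback.lift_fst_assoc,
      Category.comp_id, pullbackLeftPullbackSndIso_hom_fst, pullbackLeftPullbackSndIso_hom_fst_assoc,
      Over.mk_hom, ci, dn]
  · simp only [PicF.XTmap, pullback.map, Category.assoc, pullback.lift_snd, pullback.lift_snd_assoc,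
      Category.comp_id, pullbackLeftPullbackSndIso_hom_snd, pullbackLeftPullbackSndIso_hom_snd_assoc,
      Over.homMk_left, Over.mk_hom, ci, dn]

theorem ci_inv_XTmap {T₁ T₂ : Over S'} (h : T₁ ⟶ T₂) :
    (ci f g T₁).inv ≫ PicF.XTmap (pullback.snd f g) h =
      PicF.XTmap f (dnHom g h) ≫ (ci f g T₂).inv := by
  rw [Iso.inv_comp_eq, ← Category.assoc, Iso.eq_comp_inv]
  exact ci_hom_XTmap f g h

theorem pullCl_iso_inv_hom {Y Y' : Scheme.{u}} (e : Y ≅ Y') (c : PicF.Cl Y') :
    PicF.pullCl e.inv (PicF.pullCl e.hom c) = c := by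
  rw [← PicLoc.pullCl_comp, e.inv_hom_id, PicLoc.pullCl_id]

theorem pullCl_iso_hom_inv {Y Y' : Scheme.{u}} (e : Y ≅ Y') (c : PicF.Cl Y) :
    PicF.pullCl e.hom (PicF.pullCl e.inv c) = c := by
  rw [← PicLoc.pullCl_comp, e.hom_inv_id, PicLoc.pullCl_id]

variable (P : Over S) (φ : ∀ T : Over S, PicF.Cl (PicF.XT f T) → (T ⟶ P))

/-- the base-changed classifying maps -/
noncomputable def φ' (T : Over S') (c : PicF.Cl (PicF.XT (pullback.snd f g) T)) :
    T ⟶ Over.mk (pullback.snd P.hom g) :=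
  Over.homMk
    (pullback.lift (φ (Over.mk (T.hom ≫ g)) (PicF.pullCl (pullbackLeftPullbackSndIso f g T.hom).inv c)).left T.hom
      (Over.w (φ (Over.mk (T.hom ≫ g)) (PicF.pullCl (pullbackLeftPullbackSndIso f g T.hom).inv c))))
    (pullback.lift_snd _ _ _)

theorem φ'_left_fst (T : Over S') (c : PicF.Cl (PicF.XT (pullback.snd f g) T)) :
    (φ' f g P φ T c).left ≫ pullback.fst P.hom g =
      (φ (dn g T) (PicF.pullCl (ci f g T).inv c)).left := by
  simp only [φ', Over.homMk_left]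
  exact pullback.lift_fst _ _ _

theorem φ'_left_snd (T : Over S') (c : PicF.Cl (PicF.XT (pullback.snd f g) T)) :
    (φ' f g P φ T c).left ≫ pullback.snd P.hom g = T.hom := by
  simp only [φ', Over.homMk_left]
  exact pullback.lift_snd _ _ _

theorem φ'_ext {T : Over S'} (a b : T ⟶ Over.mk (pullback.snd P.hom g))
    (h : a.left ≫ pullback.fst P.hom g = b.left ≫ pullback.fst P.hom g) : a = b := by
  apply Over.OverMorphism.ext
  apply pullback.hom_ext h
  have ha := Over.w a
  have hb := Over.w b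
  simp only [Over.mk_hom] at ha hb
  rw [ha, hb]

variable {f g P φ}

theorem natural' (hP : PicRel.IsRelPic f P φ) (T T' : Over S') (h : T' ⟶ T)
    (c : PicF.Cl (PicF.XT (pullback.snd f g) T)) (hc : PicF.IsInvertibleCl c) :
    φ' f g P φ T' (PicF.pullCl (PicF.XTmap (pullback.snd f g) h) c) = h ≫ φ' f g P φ T c := by
  apply φ'_ext
  rw [φ'_left_fst, Over.comp_left, Category.assoc, φ'_left_fst, ← PicLoc.pullCl_comp, ci_inv_XTmap,
    PicLoc.pullCl_comp,
    hP.natural (dn g T) (dn g T') (dnHom g h) _ (PicLoc.isInvertibleCl_pullCl _ hc)]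
  rfl

variable (g) in
/-- comparison `(ovr T U)↓ ⟶ ovr T↓ U` (identity on the underlying scheme) -/
def al (T : Over S') (U : T.left.Etale) : dn g (PicRel.ovr T U) ⟶ PicRel.ovr (dn g T) U :=
  Over.homMk (𝟙 _) (by
    change 𝟙 _ ≫ U.hom ≫ T.hom ≫ g = (U.hom ≫ T.hom) ≫ g
    rw [Category.id_comp, Category.assoc])

theorem dnHom_ovrHom (T : Over S') (U : T.left.Etale) :
    dnHom g (PicRel.ovrHom T U) = al g T U ≫ PicRel.ovrHom (dn g T) U := by
  apply Over.OverMorphism.ext
  change U.hom = 𝟙 _ ≫ U.hom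
  rw [Category.id_comp]

theorem key (T : Over S') (U : T.left.Etale) (c : PicF.Cl (PicF.XT (pullback.snd f g) T)) :
    PicF.pullCl (ci f g (PicRel.ovr T U)).inv
        (PicF.pullCl (PicF.XTmap (pullback.snd f g) (PicRel.ovrHom T U)) c) =
      PicF.pullCl (PicF.XTmap f (al g T U))
        (PicF.pullCl (PicF.XTmap f (PicRel.ovrHom (dn g T) U)) (PicF.pullCl (ci f g T).inv c)) := by
  rw [← PicLoc.pullCl_comp, ci_inv_XTmap, PicLoc.pullCl_comp, dnHom_ovrHom, PicGrp.XTmap_comp,
    PicLoc.pullCl_comp]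

theorem locallyInjective' (hP : PicRel.IsRelPic f P φ) (T : Over S')
    (c c' : PicF.Cl (PicF.XT (pullback.snd f g) T)) (hc : PicF.IsInvertibleCl c)
    (hc' : PicF.IsInvertibleCl c') (h : φ' f g P φ T c = φ' f g P φ T c') :
    ∃ (ι : Type u) (U : ι → T.left.Etale), EtCoh.Covers U ∧
      ∀ i, PicF.pullCl (PicF.XTmap (pullback.snd f g) (PicRel.ovrHom T (U i))) c =
        PicF.pullCl (PicF.XTmap (pullback.snd f g) (PicRel.ovrHom T (U i))) c' := by
  have h1 : φ (dn g T) (PicF.pullCl (ci f g T).inv c) = φ (dn g T) (PicF.pullCl (ci f g T).inv c') := by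
    apply Over.OverMorphism.ext
    rw [← φ'_left_fst, ← φ'_left_fst, h]
  obtain ⟨ι, U, hU, hi⟩ := hP.locallyInjective (dn g T) _ _ (PicLoc.isInvertibleCl_pullCl _ hc)
    (PicLoc.isInvertibleCl_pullCl _ hc') h1
  refine ⟨ι, U, hU, fun i => ?_⟩
  have h2 := key (f := f) (g := g) T (U i) c
  have h3 := key (f := f) (g := g) T (U i) c'
  rw [hi i, ← h3] at h2
  have h4 := congrArg (PicF.pullCl (ci f g (PicRel.ovr T (U i))).hom) h2
  rwa [pullCl_iso_hom_inv, pullCl_iso_hom_inv] at h4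

theorem locallySurjective' (hP : PicRel.IsRelPic f P φ) (T : Over S')
    (γ : T ⟶ Over.mk (pullback.snd P.hom g)) :
    ∃ (ι : Type u) (U : ι → T.left.Etale), EtCoh.Covers U ∧
      ∀ i, ∃ c : PicF.Cl (PicF.XT (pullback.snd f g) (PicRel.ovr T (U i))), PicF.IsInvertibleCl c ∧
        φ' f g P φ (PicRel.ovr T (U i)) c = PicRel.ovrHom T (U i) ≫ γ := by
  have hγ : γ.left ≫ pullback.snd P.hom g = T.hom := Over.w γ
  let γd : dn g T ⟶ P := Over.homMk (γ.left ≫ pullback.fst P.hom g) (by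
    change (γ.left ≫ pullback.fst P.hom g) ≫ P.hom = T.hom ≫ g
    rw [Category.assoc, pullback.condition, ← Category.assoc, hγ])
  obtain ⟨ι, U, hU, hi⟩ := hP.locallySurjective (dn g T) γd
  refine ⟨ι, U, hU, fun i => ?_⟩
  obtain ⟨c, hc, hφ⟩ := hi i
  refine ⟨PicF.pullCl (ci f g (PicRel.ovr T (U i))).hom (PicF.pullCl (PicF.XTmap f (al g T (U i))) c),
    PicLoc.isInvertibleCl_pullCl _ (PicLoc.isInvertibleCl_pullCl _ hc), ?_⟩
  apply φ'_ext
  rw [φ'_left_fst, pullCl_iso_inv_hom,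
    hP.natural _ _ (al g T (U i)) c hc, hφ]
  rfl

theorem main (hP : PicRel.IsRelPic f P φ) :
    PicRel.IsRelPic (pullback.snd f g) (Over.mk (pullback.snd P.hom g)) (φ' f g P φ) where
  natural := natural' hP
  locallySurjective := locallySurjective' hP
  locallyInjective := locallyInjective' hP

end Groth.Agent.Lead.RelPicBC
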