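import Mathlib
import Groth.Agent.Lib.Lead.RelReg16
import Groth.Agent.Lib.Helper8.Depth15

set_option autoImplicit false
set_option backward.isDefEq.respectTransparency.types false
set_option synthInstance.maxHeartbeats 400000
set_option linter.style.haveILetI false

universe u

open AlgebraicGeometry CategoryTheory CategoryTheory.Limits TopologicalSpace IsLocalRing
open RingTheory.Sequence

namespace Groth.Agent.Lead.RelReg

set_option maxHeartbeats 1000000 in
theorem S9756_main {X S : Scheme.{u}} (f : X ⟶ S) [LocallyOfFinitePresentation f] (x : X)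
    (hflat : (f.stalkMap x).hom.Flat)
    (hdepth : 1 ≤ LocCoh.depth ↑((f.fiber (f x)).presheaf.stalk (f.asFiber x)) ↑((f.fiber (f x)).presheaf.stalk (f.asFiber x))) :
    ∃ (U : X.Opens) (hU : IsAffineOpen U) (hx : x ∈ U) (h' : Γ(X, U)), h' ∈ nonZeroDivisors Γ(X, U) ∧
      X.presheaf.germ U x hx h' ∈ IsLocalRing.maximalIdeal ↑(X.presheaf.stalk x) ∧
      Flat (Spec.map (CommRingCat.ofHom (Ideal.Quotient.mk (Ideal.span {h'}))) ≫ hU.fromSpec ≫ f) ∧
      LocallyOfFinitePresentation (Spec.map (CommRingCat.ofHom (Ideal.Quotient.mk (Ideal.span {h'}))) ≫ hU.fromSpec ≫ f) := by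
  haveI : LocallyOfFiniteType (f.fiberToSpecResidueField (f x)) :=
    MorphismProperty.pullback_snd _ _ inferInstance
  haveI : IsLocallyNoetherian (f.fiber (f x)) :=
    LocallyOfFiniteType.isLocallyNoetherian (f.fiberToSpecResidueField (f x))
  haveI : IsNoetherianRing ((f.fiber (f x)).presheaf.stalk (f.asFiber x)) := inferInstance
  obtain ⟨γ, hγ, hk⟩ := Groth.Agent.Helper3.FibStalk.exists_fibre_presentation f x
  have htop : maximalIdeal ((f.fiber (f x)).presheaf.stalk (f.asFiber x)) •
      (⊤ : Submodule ((f.fiber (f x)).presheaf.stalk (f.asFiber x))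
        ((f.fiber (f x)).presheaf.stalk (f.asFiber x))) ≠ ⊤ :=
    Groth.Agent.Helper8.Depth.smul_top_ne_top_of_local _ _
  obtain ⟨rs, hlen, hw, hmem⟩ :=
    (Groth.Agent.Helper8.Depth.le_idealDepth_iff htop 1).mp (by exact_mod_cast hdepth)
  obtain ⟨t, rfl⟩ := List.length_eq_one_iff.mp hlen
  have ht : t ∈ maximalIdeal ((f.fiber (f x)).presheaf.stalk (f.asFiber x)) :=
    hmem t (List.mem_singleton_self t)
  have hreg : IsRegular ((f.fiber (f x)).presheaf.stalk (f.asFiber x)) [t] :=
    IsRegular.of_isWeaklyRegular_of_mem_maximalIdeal _ (fun r hr => hmem r hr) hw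
  obtain ⟨a, rfl⟩ := hγ t
  have hreg' := isRegular_quot_of_surjective γ hγ _ hk [a] hreg
  obtain ⟨U, hU, hx, hs', hgerm, hw', -, -, hfl, hfp, -⟩ := S1459_main' f x hflat [a] hreg'
  have hlen' : hs'.length = 1 := by
    have := congrArg List.length hgerm
    simpa using this
  obtain ⟨h', rfl⟩ := List.length_eq_one_iff.mp hlen'
  have hg : X.presheaf.germ U x hx h' = a := by
    have := hgerm
    simpa using this
  refine ⟨U, hU, hx, h', ?_, ?_, ?_, ?_⟩
  · have h1 : IsSMulRegular Γ(X, U) h' := ((isWeaklyRegular_cons_iff Γ(X, U) h' []).mp hw').1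
    rw [mem_nonZeroDivisors_iff_right]
    intro z hz
    apply h1
    change h' * z = h' * 0
    rw [mul_zero, mul_comm]
    exact hz
  · rw [hg]
    by_contra hna
    have hu : IsUnit a := by
      by_contra hnu
      exact hna ((mem_maximalIdeal a).mpr hnu)
    exact ((mem_maximalIdeal (γ a)).mp ht) (hu.map γ)
  · have key : ∀ I : Ideal Γ(X, U), I = Ideal.ofList [h'] →
        Flat (Spec.map (CommRingCat.ofHom (Ideal.Quotient.mk I)) ≫ hU.fromSpec ≫ f) := by
      rintro I rfl
      exact hfl
    exact key _ (Ideal.ofList_singleton h').symm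
  · have key : ∀ I : Ideal Γ(X, U), I = Ideal.ofList [h'] →
        LocallyOfFinitePresentation
          (Spec.map (CommRingCat.ofHom (Ideal.Quotient.mk I)) ≫ hU.fromSpec ≫ f) := by
      rintro I rfl
      exact hfp
    exact key _ (Ideal.ofList_singleton h').symm

end Groth.Agent.Lead.RelReg
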