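import Mathlib
import Groth.Agent.Lib.Helper9.ThickAff

/-!
# Split square-zero thickenings of smooth affine schemes (lead)
-/

set_option autoImplicit false
set_option linter.style.haveILetI false
universe u
open CategoryTheory CategoryTheory.Limits AlgebraicGeometry TopologicalSpace Opposite

namespace Groth.Agent.Lead.Rib

/-- a morphism to an affine scheme with prescribed map on global sections -/
theorem exists_hom_appTop_eq (C Z : Scheme.{u}) [IsAffine Z] (σ : Γ(Z, ⊤) ⟶ Γ(C, ⊤)) :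
    ∃ r : C ⟶ Z, r.appTop = σ := by
  refine ⟨C.toSpecΓ ≫ Spec.map σ ≫ Z.isoSpec.inv, ?_⟩
  have h1 : Z.isoSpec.inv.appTop = (Scheme.ΓSpecIso Γ(Z, ⊤)).inv := by
    have h2 : Z.isoSpec.inv.appTop ≫ Z.isoSpec.hom.appTop = 𝟙 _ := by
      rw [← Scheme.Hom.comp_appTop, Iso.hom_inv_id]
      rfl
    have h3 : Z.isoSpec.hom.appTop = (Scheme.ΓSpecIso Γ(Z, ⊤)).hom := Scheme.toSpecΓ_appTop Z
    rw [h3] at h2
    rw [← cancel_mono (Scheme.ΓSpecIso Γ(Z, ⊤)).hom, h2, Iso.inv_hom_id]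
  rw [Scheme.Hom.comp_appTop, Scheme.Hom.comp_appTop, h1, Scheme.toSpecΓ_appTop,
    ← Scheme.ΓSpecIso_inv_naturality, Category.assoc, Iso.inv_hom_id, Category.comp_id]

/-- a square-zero thickening of a smooth affine scheme over an affine base retracts onto it -/
theorem exists_retraction {C S : Scheme.{u}} [IsAffine S] (f : C ⟶ S)
    (I : C.IdealSheafData) (hI : I ^ 2 = ⊥) [IsAffine I.subscheme]
    [Smooth (I.subschemeι ≫ f)] :
    ∃ r : C ⟶ I.subscheme, I.subschemeι ≫ r = 𝟙 I.subscheme ∧ r ≫ I.subschemeι ≫ f = f := by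
  have hsurj : Function.Surjective I.subschemeι := by
    rw [← Set.range_eq_univ, I.range_subschemeι]
    have h1 : (I ^ 2).support = I.support :=
      Scheme.IdealSheafData.support_pow I 2 (by norm_num)
    rw [hI, Scheme.IdealSheafData.support_bot] at h1
    rw [← h1]
    rfl
  haveI : IsAffine C := H9ThickAff.isAffine_of_thickening I.subschemeι hsurj
  let φ : Γ(C, ⊤) ⟶ Γ(I.subscheme, ⊤) := I.subschemeι.appTop
  have hφs : Function.Surjective φ.hom :=
    (IsClosedImmersion.isAffine_surjective_of_isAffine I.subschemeι).2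
  have hker : RingHom.ker φ.hom = I.ideal ⟨⊤, isAffineOpen_top C⟩ :=
    I.ker_subschemeι_app ⟨⊤, isAffineOpen_top C⟩
  have hnil : IsNilpotent (RingHom.ker φ.hom) := by
    refine ⟨2, ?_⟩
    rw [hker]
    have h1 : (I ^ 2).ideal ⟨⊤, isAffineOpen_top C⟩ = (I.ideal ⟨⊤, isAffineOpen_top C⟩) ^ 2 := rfl
    rw [← h1, hI]
    rfl
  have hsm : RingHom.Smooth (I.subschemeι ≫ f).appTop.hom :=
    (HasRingHomProperty.iff_of_isAffine (P := @Smooth)).mp inferInstance
  letI algC : Algebra Γ(S, ⊤) Γ(C, ⊤) := f.appTop.hom.toAlgebra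
  letI algZ : Algebra Γ(S, ⊤) Γ(I.subscheme, ⊤) := (I.subschemeι ≫ f).appTop.hom.toAlgebra
  haveI hfs : Algebra.FormallySmooth Γ(S, ⊤) Γ(I.subscheme, ⊤) := by
    have := hsm
    unfold RingHom.Smooth at this
    exact this.formallySmooth
  let g : Γ(C, ⊤) →ₐ[Γ(S, ⊤)] Γ(I.subscheme, ⊤) :=
    { φ.hom with
      commutes' := by
        intro c
        rfl }
  let σ : Γ(I.subscheme, ⊤) →ₐ[Γ(S, ⊤)] Γ(C, ⊤) :=
    Algebra.FormallySmooth.liftOfSurjective (AlgHom.id _ _) g hφs hnil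
  have hσ : ∀ x, φ.hom (σ x) = x := fun x =>
    Algebra.FormallySmooth.liftOfSurjective_apply (AlgHom.id _ _) g hφs hnil x
  obtain ⟨r, hr⟩ := exists_hom_appTop_eq C I.subscheme (CommRingCat.ofHom σ.toRingHom)
  refine ⟨r, ?_, ?_⟩
  · apply ext_of_isAffine
    rw [Scheme.Hom.comp_appTop, hr]
    ext x
    exact hσ x
  · apply ext_of_isAffine
    rw [Scheme.Hom.comp_appTop, Scheme.Hom.comp_appTop, hr]
    ext c
    change σ (φ.hom (f.appTop.hom c)) = f.appTop.hom c
    exact σ.commutes c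

end Groth.Agent.Lead.Rib
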