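import Mathlib
import Groth.Prelude
import Groth.Agent.Lib.Lead.RkCons4

set_option autoImplicit false
set_option backward.isDefEq.respectTransparency.types false
set_option synthInstance.maxHeartbeats 400000
set_option linter.style.haveILetI false
set_option linter.unusedSectionVars false
universe u

open CategoryTheory CategoryTheory.Limits AlgebraicGeometry IsLocalRing TensorProduct Topology
  TopologicalSpace

namespace Groth.Agent.Lead.RkCons

open Groth.Agent.Lead.RkLoc Groth.Agent.Lead.SkLoc Groth.Agent.Lead.FibCons LocCoh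
open Groth.Agent.Helper3.FibStalk

theorem hasRkAll_fiber_iff {X Y : Scheme.{u}} (f : X ⟶ Y) [LocallyOfFinitePresentation f] (k : ℕ)
    (y : Y) (x : ↥(f.fiber y)) :
    (∀ (K : Type u) [Field K] [Algebra (IsLocalRing.ResidueField (Y.presheaf.stalk y)) K]
        (x' : ↥(FBase.bc (f.fiberToSpecResidueField y) K)),
          (FBase.bcπ (f.fiberToSpecResidueField y) K).base x' = x →
          LocCoh.HasRk k ((FBase.bc (f.fiberToSpecResidueField y) K).presheaf.stalk x'))
      ↔ f.fiberι y x ∈ rkLocus k f := by
  haveI := lfp_fiber f y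
  rw [mem_rkLocus_iff_rkAt]
  have h3 := fiber_congr f (fun y w => RkAt k (f.fiberToSpecResidueField y) w)
    (f.asFiber (f.fiberι y x)) x (f.fiberι_asFiber _)
  rw [h3, ← forall_hasRk_iff_rkAt (κ := Y.residueField y) (f.fiberToSpecResidueField y)
      (fun K _ _ => True) (fun _ _ _ _ => trivial) k x]
  constructor
  · intro H K i1 i2 _ x' hx'
    exact @H K i1 i2 x' hx'
  · intro H K i1 i2 x' hx'
    exact @H K i1 i2 trivial x' hx'

theorem normalAll_fiber_iff {X Y : Scheme.{u}} (f : X ⟶ Y) [LocallyOfFinitePresentation f]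
    (y : Y) (x : ↥(f.fiber y)) :
    (∀ (K : Type u) [Field K] [Algebra (IsLocalRing.ResidueField (Y.presheaf.stalk y)) K]
        (x' : ↥(FBase.bc (f.fiberToSpecResidueField y) K)),
          (FBase.bcπ (f.fiberToSpecResidueField y) K).base x' = x →
          IsDomain ((FBase.bc (f.fiberToSpecResidueField y) K).presheaf.stalk x') ∧
            IsIntegrallyClosed ((FBase.bc (f.fiberToSpecResidueField y) K).presheaf.stalk x'))
      ↔ f.fiberι y x ∈ rsLocus 1 f := by
  haveI := lfp_fiber f y
  rw [mem_rsLocus_iff]
  have h3 := fiber_congr f (fun y w => RkAt 1 (f.fiberToSpecResidueField y) w ∧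
    HasSk (1 + 1) ((f.fiber y).presheaf.stalk w) ((f.fiber y).presheaf.stalk w))
    (f.asFiber (f.fiberι y x)) x (f.fiberι_asFiber _)
  rw [h3, ← forall_normal_iff (κ := Y.residueField y) (f.fiberToSpecResidueField y)
    (fun K _ _ => True) (fun _ _ _ _ => trivial) x]
  constructor
  · intro H K i1 i2 _ x' hx'
    exact @H K i1 i2 x' hx'
  · intro H K i1 i2 x' hx'
    exact @H K i1 i2 trivial x' hx'

/-- the set of points of the base over which a fibrewise locus is the whole fibre -/
theorem isLocallyConstructible_forall_fibre {X S : Scheme.{u}} (f : X ⟶ S)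
    [LocallyOfFinitePresentation f] [QuasiCompact f] (L : Set X)
    (hL : IsLocallyConstructible L) :
    IsLocallyConstructible {s : S | ∀ x : ↥(f.fiber s), f.fiberι s x ∈ L} := by
  have h1 : IsLocallyConstructible (f '' Lᶜ) :=
    f.isLocallyConstructible_image
      (Groth.Agent.Helper7.ProConsLib.isLocallyConstructible_compl hL)
  have h2 := Groth.Agent.Helper7.ProConsLib.isLocallyConstructible_compl h1
  convert h2 using 1
  ext s
  simp only [Set.mem_setOf_eq, Set.mem_compl_iff, Set.mem_image, not_exists, not_and]
  constructor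
  · intro h x hx hfx
    subst hfx
    apply hx
    have := h (f.asFiber x)
    rwa [f.fiberι_asFiber] at this
  · intro h z
    by_contra hne
    exact h (f.fiberι s z) hne (apply_fiberι f s z)

/-- S4828 -/
theorem S4828_main {X S : Scheme.{u}} (f : X ⟶ S)
    [LocallyOfFinitePresentation f] [QuasiCompact f] (k : ℕ) :
    Topology.IsLocallyConstructible {s : S |
      ∀ (K : Type u) [Field K] [Algebra (IsLocalRing.ResidueField (S.presheaf.stalk s)) K]
        (x' : ↥(FBase.bc (f.fiberToSpecResidueField s) K)),
        LocCoh.HasRk k ((FBase.bc (f.fiberToSpecResidueField s) K).presheaf.stalk x')} := by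
  have h1 := isLocallyConstructible_forall_fibre f (rkLocus k f)
    (isLocallyConstructible_rkLocus f k)
  convert h1 using 1
  ext s
  simp only [Set.mem_setOf_eq]
  constructor
  · intro H x
    rw [← hasRkAll_fiber_iff]
    intro K i1 i2 x' _
    exact @H K i1 i2 x'
  · intro H K i1 i2 x'
    exact ((hasRkAll_fiber_iff f k s _).mpr (H _)) K x' rfl

/-- S4827 -/
theorem S4827_main {X S : Scheme.{u}} (f : X ⟶ S)
    [LocallyOfFinitePresentation f] [QuasiCompact f] :
    Topology.IsLocallyConstructible {s : S |
      ∀ (K : Type u) [Field K] [Algebra (IsLocalRing.ResidueField (S.presheaf.stalk s)) K]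
        (x' : ↥(FBase.bc (f.fiberToSpecResidueField s) K)),
        IsDomain ((FBase.bc (f.fiberToSpecResidueField s) K).presheaf.stalk x') ∧
          IsIntegrallyClosed ((FBase.bc (f.fiberToSpecResidueField s) K).presheaf.stalk x')} := by
  have h1 := isLocallyConstructible_forall_fibre f (rsLocus 1 f)
    ((fibLocus_rsLocus 1).isLocallyConstructible f)
  convert h1 using 1
  ext s
  simp only [Set.mem_setOf_eq]
  constructor
  · intro H x
    rw [← normalAll_fiber_iff]
    intro K i1 i2 x' _
    exact @H K i1 i2 x'
  · intro H K i1 i2 x'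
    exact ((normalAll_fiber_iff f s _).mpr (H _)) K x' rfl

end Groth.Agent.Lead.RkCons
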