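import Mathlib
open scoped TensorProduct
universe u v w
namespace Groth.Agent.Lead.S2F2

variable {V : Type v} [AddCommGroup V] [Module (ZMod 2) V]

/-- span of v ⊗ v -/
def Na (V : Type v) [AddCommGroup V] [Module (ZMod 2) V] : Submodule (ZMod 2) (V ⊗[ZMod 2] V) :=
  Submodule.span (ZMod 2) (Set.range fun v : V => v ⊗ₜ[ZMod 2] v)

def Ns (V : Type v) [AddCommGroup V] [Module (ZMod 2) V] : Submodule (ZMod 2) (V ⊗[ZMod 2] V) :=
  Submodule.span (ZMod 2) (Set.range fun p : V × V => p.1 ⊗ₜ[ZMod 2] p.2 + p.2 ⊗ₜ[ZMod 2] p.1)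

theorem Ns_le_Na : Ns V ≤ Na V := by
  refine Submodule.span_le.2 ?_
  rintro _ ⟨⟨x, y⟩, rfl⟩
  have h : x ⊗ₜ[ZMod 2] y + y ⊗ₜ[ZMod 2] x
      = (x + y) ⊗ₜ[ZMod 2] (x + y) - x ⊗ₜ[ZMod 2] x - y ⊗ₜ[ZMod 2] y := by
    simp only [TensorProduct.add_tmul, TensorProduct.tmul_add]; abel
  show x ⊗ₜ[ZMod 2] y + y ⊗ₜ[ZMod 2] x ∈ Na V
  rw [h]
  refine Submodule.sub_mem _ (Submodule.sub_mem _ ?_ ?_) ?_ <;>
    exact Submodule.subset_span ⟨_, rfl⟩

/-- the swap -/
noncomputable def τ (V : Type v) [AddCommGroup V] [Module (ZMod 2) V] :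
    V ⊗[ZMod 2] V →ₗ[ZMod 2] V ⊗[ZMod 2] V := (TensorProduct.comm (ZMod 2) V V).toLinearMap

@[simp] theorem τ_tmul (x y : V) : τ V (x ⊗ₜ[ZMod 2] y) = y ⊗ₜ[ZMod 2] x := rfl

theorem τ_fix_of_mem_Na {t : V ⊗[ZMod 2] V} (ht : t ∈ Na V) : τ V t = t := by
  induction ht using Submodule.span_induction with
  | mem x hx => obtain ⟨v, rfl⟩ := hx; simp
  | zero => simp
  | add x y _ _ hx hy => rw [map_add, hx, hy]
  | smul a x _ hx => rw [map_smul, hx]

theorem add_τ_mem_Ns (u : V ⊗[ZMod 2] V) : u + τ V u ∈ Ns V := by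
  induction u using TensorProduct.induction_on with
  | zero => simp
  | tmul x y => exact Submodule.subset_span ⟨(x, y), rfl⟩
  | add a b ha hb =>
    have : a + b + τ V (a + b) = (a + τ V a) + (b + τ V b) := by rw [map_add]; abel
    rw [this]; exact Submodule.add_mem _ ha hb

section basis
variable {ι : Type w} (b : Module.Basis ι (ZMod 2) V)

/-- off-diagonal span -/
def Wb : Submodule (ZMod 2) (V ⊗[ZMod 2] V) :=
  Submodule.span (ZMod 2) {t | ∃ i j : ι, i ≠ j ∧ t = b i ⊗ₜ[ZMod 2] b j}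

theorem two_tmul_zero (t : V ⊗[ZMod 2] V) : t + t = 0 := by
  have : (2 : ZMod 2) = 0 := by decide
  rw [← two_smul (ZMod 2) t, this, zero_smul]

theorem add_τ_mem_Wb (u : V ⊗[ZMod 2] V) : u + τ V u ∈ Wb b := by
  have hu : u ∈ Submodule.span (ZMod 2) (Set.range (b.tensorProduct b)) := by
    rw [(b.tensorProduct b).span_eq]; trivial
  induction hu using Submodule.span_induction with
  | mem x hx =>
    obtain ⟨⟨i, j⟩, rfl⟩ := hx
    rw [Module.Basis.tensorProduct_apply, τ_tmul]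
    by_cases hij : i = j
    · subst hij; rw [two_tmul_zero]; exact Submodule.zero_mem _
    · exact Submodule.add_mem _ (Submodule.subset_span ⟨i, j, hij, rfl⟩)
        (Submodule.subset_span ⟨j, i, Ne.symm hij, rfl⟩)
  | zero => simp
  | add x y _ _ hx hy =>
    have : x + y + τ V (x + y) = (x + τ V x) + (y + τ V y) := by rw [map_add]; abel
    rw [this]; exact Submodule.add_mem _ hx hy
  | smul a x _ hx =>
    have : a • x + τ V (a • x) = a • (x + τ V x) := by rw [map_smul, smul_add]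
    rw [this]; exact Submodule.smul_mem _ _ hx

theorem Ns_le_Wb : Ns V ≤ Wb b := by
  refine Submodule.span_le.2 ?_
  rintro _ ⟨⟨x, y⟩, rfl⟩
  exact add_τ_mem_Wb b (x ⊗ₜ[ZMod 2] y)

variable [LinearOrder ι]

noncomputable def Dg : V ⊗[ZMod 2] V →ₗ[ZMod 2] V ⊗[ZMod 2] V :=
  (b.tensorProduct b).constr (ZMod 2) (fun p => if p.1 = p.2 then (b.tensorProduct b) p else 0)

noncomputable def Up : V ⊗[ZMod 2] V →ₗ[ZMod 2] V ⊗[ZMod 2] V :=
  (b.tensorProduct b).constr (ZMod 2) (fun p => if p.1 < p.2 then (b.tensorProduct b) p else 0)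

theorem decomp (t : V ⊗[ZMod 2] V) : t = Dg b t + Up b t + τ V (Up b (τ V t)) := by
  have h : (LinearMap.id : V ⊗[ZMod 2] V →ₗ[ZMod 2] V ⊗[ZMod 2] V)
      = Dg b + Up b + (τ V) ∘ₗ (Up b) ∘ₗ (τ V) := by
    refine (b.tensorProduct b).ext ?_
    rintro ⟨i, j⟩
    have hτ : τ V ((b.tensorProduct b) (i, j)) = (b.tensorProduct b) (j, i) := by
      simp [Module.Basis.tensorProduct_apply]
    simp only [LinearMap.id_apply, LinearMap.add_apply, LinearMap.comp_apply, Dg, Up, hτ,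
      Module.Basis.constr_basis]
    rcases lt_trichotomy i j with h | h | h
    · simp [h, h.ne, not_lt.2 h.le]
    · subst h; simp
    · have hτ' : τ V ((b.tensorProduct b) (j, i)) = (b.tensorProduct b) (i, j) := by
        simp [Module.Basis.tensorProduct_apply]
      simp [h, h.ne', not_lt.2 h.le]
  exact LinearMap.congr_fun h t

theorem Dg_eq_zero_of_mem_Wb {t : V ⊗[ZMod 2] V} (ht : t ∈ Wb b) : Dg b t = 0 := by
  induction ht using Submodule.span_induction with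
  | mem x hx =>
    obtain ⟨i, j, hij, rfl⟩ := hx
    rw [← Module.Basis.tensorProduct_apply, Dg, Module.Basis.constr_basis]
    simp [hij]
  | zero => simp
  | add x y _ _ hx hy => rw [map_add, hx, hy, add_zero]
  | smul a x _ hx => rw [map_smul, hx, smul_zero]

theorem inf_le : Wb b ⊓ Na V ≤ Ns V := by
  rintro t ⟨h1, h2⟩
  have h3 := decomp b t
  rw [Dg_eq_zero_of_mem_Wb b h1, zero_add, τ_fix_of_mem_Na h2] at h3
  rw [h3]
  exact add_τ_mem_Ns _

end basis

theorem Wb_sup (ι : Type w) (b : Module.Basis ι (ZMod 2) V) : Wb b ⊔ Na V = ⊤ := by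
  rw [eq_top_iff, ← (b.tensorProduct b).span_eq]
  refine Submodule.span_le.2 ?_
  rintro _ ⟨⟨i, j⟩, rfl⟩
  rw [Module.Basis.tensorProduct_apply]
  by_cases hij : i = j
  · subst hij
    exact (le_sup_right : Na V ≤ _) (Submodule.subset_span ⟨_, rfl⟩)
  · exact (le_sup_left : Wb b ≤ _) (Submodule.subset_span ⟨i, j, hij, rfl⟩)

theorem Wb_inf (ι : Type w) (b : Module.Basis ι (ZMod 2) V) : Wb b ⊓ Na V = Ns V := by
  obtain ⟨lo, _⟩ := exists_wellFoundedLT (α := ι)
  exact le_antisymm (inf_le b) (le_inf (Ns_le_Wb b) Ns_le_Na)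

theorem perm_split (G : Type u) [Group G] (V : Type v)
    [AddCommGroup V] [Module (ZMod 2) V] (ρ : Representation (ZMod 2) G V)
    (ι : Type w) (b : Module.Basis ι (ZMod 2) V) (hb : ∀ g : G, ∀ i : ι, ∃ j : ι, ρ g (b i) = b j) :
    ∃ W : Submodule (ZMod 2) (V ⊗[ZMod 2] V),
      (∀ g : G, ∀ w ∈ W, ρ.tprod ρ g w ∈ W) ∧
      W ⊓ Submodule.span (ZMod 2) (Set.range fun v : V => v ⊗ₜ[ZMod 2] v) =
        Submodule.span (ZMod 2) (Set.range fun p : V × V => p.1 ⊗ₜ[ZMod 2] p.2 + p.2 ⊗ₜ[ZMod 2] p.1) ∧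
      W ⊔ Submodule.span (ZMod 2) (Set.range fun v : V => v ⊗ₜ[ZMod 2] v) = ⊤ := by
  refine ⟨Wb b, ?_, Wb_inf ι b, Wb_sup ι b⟩
  intro g w hw
  have hinj : Function.Injective (ρ g) := by
    intro x y hxy
    have := congrArg (ρ g⁻¹) hxy
    simpa [← Module.End.mul_apply, ← map_mul] using this
  induction hw using Submodule.span_induction with
  | mem x hx =>
    obtain ⟨i, j, hij, rfl⟩ := hx
    obtain ⟨i', hi'⟩ := hb g i
    obtain ⟨j', hj'⟩ := hb g j
    have : ρ.tprod ρ g (b i ⊗ₜ[ZMod 2] b j) = b i' ⊗ₜ[ZMod 2] b j' := by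
      rw [Representation.tprod_apply, TensorProduct.map_tmul, hi', hj']
    rw [this]
    refine Submodule.subset_span ⟨i', j', ?_, rfl⟩
    rintro rfl
    exact hij (b.injective (hinj (hi'.trans hj'.symm)))
  | zero => simp
  | add x y _ _ hx hy => rw [map_add]; exact Submodule.add_mem _ hx hy
  | smul a x _ hx => rw [map_smul]; exact Submodule.smul_mem _ _ hx

end Groth.Agent.Lead.S2F2
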