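import Mathlib
import Groth.Agent.Lib.Lead.S2F2
open scoped TensorProduct
universe u v w
namespace Groth.Agent.Lead.S2F2

variable {V : Type v} [AddCommGroup V] [Module (ZMod 2) V]

theorem f2_facts : ∀ a b c d : ZMod 2, a * d + b * c = 1 →
    a * a + a * b + b * b = 1 ∧ c * c + c * d + d * d = 1 ∧
    (a * c + a * d + b * d) - 1 = c * a + c * b + d * b := by decide

theorem quad_inv (x y : V) (a b c d : ZMod 2) (h : a * d + b * c = 1) :
    ((a • x + c • y) ⊗ₜ[ZMod 2] (a • x + c • y) + (a • x + c • y) ⊗ₜ[ZMod 2] (b • x + d • y)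
      + (b • x + d • y) ⊗ₜ[ZMod 2] (b • x + d • y))
      - (x ⊗ₜ[ZMod 2] x + x ⊗ₜ[ZMod 2] y + y ⊗ₜ[ZMod 2] y) ∈ Ns V := by
  obtain ⟨h1, h2, h3⟩ := f2_facts a b c d h
  have key : ((a • x + c • y) ⊗ₜ[ZMod 2] (a • x + c • y) + (a • x + c • y) ⊗ₜ[ZMod 2] (b • x + d • y)
      + (b • x + d • y) ⊗ₜ[ZMod 2] (b • x + d • y))
      - (x ⊗ₜ[ZMod 2] x + x ⊗ₜ[ZMod 2] y + y ⊗ₜ[ZMod 2] y)
      = (c * a + c * b + d * b) • (x ⊗ₜ[ZMod 2] y + y ⊗ₜ[ZMod 2] x) := by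
    simp only [TensorProduct.add_tmul, TensorProduct.tmul_add, ← TensorProduct.smul_tmul',
      TensorProduct.tmul_smul]
    linear_combination (norm := module) h1 • (x ⊗ₜ[ZMod 2] x) + h2 • (y ⊗ₜ[ZMod 2] y) + h3 • (x ⊗ₜ[ZMod 2] y)
  rw [key]
  exact Submodule.smul_mem _ _ (Submodule.subset_span ⟨(x, y), rfl⟩)

theorem Ns_stable (f : V →ₗ[ZMod 2] V) {t : V ⊗[ZMod 2] V} (ht : t ∈ Ns V) :
    TensorProduct.map f f t ∈ Ns V := by
  induction ht using Submodule.span_induction with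
  | mem x hx =>
    obtain ⟨⟨p, q⟩, rfl⟩ := hx
    simp only [map_add, TensorProduct.map_tmul]
    exact Submodule.subset_span ⟨(f p, f q), rfl⟩
  | zero => simp
  | add x y _ _ hx hy => rw [map_add]; exact Submodule.add_mem _ hx hy
  | smul a x _ hx => rw [map_smul]; exact Submodule.smul_mem _ _ hx

theorem Na_stable (f : V →ₗ[ZMod 2] V) {t : V ⊗[ZMod 2] V} (ht : t ∈ Na V) :
    TensorProduct.map f f t ∈ Na V := by
  induction ht using Submodule.span_induction with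
  | mem x hx =>
    obtain ⟨p, rfl⟩ := hx
    simp only [TensorProduct.map_tmul]
    exact Submodule.subset_span ⟨f p, rfl⟩
  | zero => simp
  | add x y _ _ hx hy => rw [map_add]; exact Submodule.add_mem _ hx hy
  | smul a x _ hx => rw [map_smul]; exact Submodule.smul_mem _ _ hx

theorem f2_unit : ∀ z : ZMod 2, z ≠ 0 → z = 1 := by decide
theorem f2_det : ∀ a b c d : ZMod 2, a * d - b * c = 1 → a * d + b * c = 1 := by decide

/-- the invariant quadratic tensor -/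
def om (x y : V) : V ⊗[ZMod 2] V := x ⊗ₜ[ZMod 2] x + x ⊗ₜ[ZMod 2] y + y ⊗ₜ[ZMod 2] y

theorem smul_om_mem_Na {x y : V} (hxy : x ⊗ₜ[ZMod 2] y ≠ y ⊗ₜ[ZMod 2] x) (c : ZMod 2)
    (h : c • om x y ∈ Na V) : c = 0 := by
  by_contra hc
  have hc1 := f2_unit c hc
  rw [hc1, one_smul] at h
  have h2 := τ_fix_of_mem_Na h
  simp only [om, map_add, τ_tmul] at h2
  apply hxy
  have h3 : x ⊗ₜ[ZMod 2] x + y ⊗ₜ[ZMod 2] x + y ⊗ₜ[ZMod 2] y
      = x ⊗ₜ[ZMod 2] x + x ⊗ₜ[ZMod 2] y + y ⊗ₜ[ZMod 2] y := h2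
  have h4 : y ⊗ₜ[ZMod 2] x = x ⊗ₜ[ZMod 2] y := by
    have := add_right_cancel h3
    exact add_left_cancel this
  exact h4.symm


end Groth.Agent.Lead.S2F2
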