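import Mathlib
import Groth.Prelude.Def_W4c6secantcecoversSchSt

/-!
# The Scheja–Storch pairing and differential (lead)
-/

set_option autoImplicit false
set_option linter.unusedSectionVars false

universe u v
open TensorProduct W4c6secantcecovers

namespace Groth.Agent.Lead.SSPair

section Ext

variable (R : Type u) [CommRing R] (r : ℕ)

theorem ιMulti_eq_zero_of_lt {n : ℕ} (hn : r < n) (v : Fin n → (Fin r → R)) :
    ExteriorAlgebra.ιMulti R n v = 0 := by
  classical
  have hv : v = fun i => ∑ j, v i j • (Pi.single j (1 : R) : Fin r → R) := by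
    funext i
    exact pi_eq_sum_univ' (v i)
  have h1 : ExteriorAlgebra.ιMulti R n v =
      (ExteriorAlgebra.ιMulti R n).toMultilinearMap
        (fun i => ∑ j, v i j • (Pi.single j (1 : R) : Fin r → R)) := by
    conv_lhs => rw [hv]
    rfl
  rw [h1, MultilinearMap.map_sum]
  apply Finset.sum_eq_zero
  intro g _
  rw [MultilinearMap.map_smul_univ]
  have hg : ¬ Function.Injective g := by
    intro hinj
    have := Fintype.card_le_of_injective g hinj
    simp only [Fintype.card_fin] at this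
    omega
  have h2 : (ExteriorAlgebra.ιMulti R n).toMultilinearMap
      (fun i => (Pi.single (g i) (1 : R) : Fin r → R)) = 0 := by
    apply (ExteriorAlgebra.ιMulti R n).map_eq_zero_of_not_injective
    intro hinj
    apply hg
    intro a b hab
    exact hinj (by show (Pi.single (g a) (1 : R) : Fin r → R) = Pi.single (g b) 1; rw [hab])
  rw [h2, smul_zero]

variable {R}

theorem contract_mul {M : Type*} [AddCommGroup M] [Module R M] (d : Module.Dual R M) :
    ∀ (n : ℕ) (e : Fin n → M) (η : ExteriorAlgebra R M),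
      CliffordAlgebra.contractLeft (Q := (0 : QuadraticForm R M)) d (ExteriorAlgebra.ιMulti R n e * η) =
        CliffordAlgebra.contractLeft (Q := (0 : QuadraticForm R M)) d (ExteriorAlgebra.ιMulti R n e) * η +
          (-1 : R) ^ n • (ExteriorAlgebra.ιMulti R n e *
            CliffordAlgebra.contractLeft (Q := (0 : QuadraticForm R M)) d η)
  | 0, e, η => by
    simp [CliffordAlgebra.contractLeft_one]
  | n + 1, e, η => by
    rw [ExteriorAlgebra.ιMulti_succ_apply, mul_assoc]
    have h1 := CliffordAlgebra.contractLeft_ι_mul (Q := (0 : QuadraticForm R M)) (d := d) (e 0)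
      (ExteriorAlgebra.ιMulti R n (Matrix.vecTail e) * η)
    have h2 := CliffordAlgebra.contractLeft_ι_mul (Q := (0 : QuadraticForm R M)) (d := d) (e 0)
      (ExteriorAlgebra.ιMulti R n (Matrix.vecTail e))
    have h3 := contract_mul d n (Matrix.vecTail e) η
    change CliffordAlgebra.contractLeft (Q := (0 : QuadraticForm R M)) d
      (CliffordAlgebra.ι (0 : QuadraticForm R M) (e 0) *
        (ExteriorAlgebra.ιMulti R n (Matrix.vecTail e) * η)) = _
    rw [h1, h3]
    change _ = CliffordAlgebra.contractLeft (Q := (0 : QuadraticForm R M)) d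
      (CliffordAlgebra.ι (0 : QuadraticForm R M) (e 0) *
        ExteriorAlgebra.ιMulti R n (Matrix.vecTail e)) * η + _
    rw [h2, sub_mul, mul_add, pow_succ, mul_smul_comm, smul_mul_assoc, mul_assoc, mul_assoc]
    simp only [mul_neg, mul_one, neg_smul]
    change _ = _ + -((-1 : R) ^ n • (CliffordAlgebra.ι (0 : QuadraticForm R M) (e 0) * _))
    abel

theorem key (k : ℕ) (hk : k < r) (j : Fin r) (e : Fin (k + 1) → (Fin r → R))
    (f : Fin (r - k) → (Fin r → R)) :
    ssContr R r j (ExteriorAlgebra.ιMulti R (k + 1) e) * ExteriorAlgebra.ιMulti R (r - k) f =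
      (-1 : R) ^ k • (ExteriorAlgebra.ιMulti R (k + 1) e *
        ssContr R r j (ExteriorAlgebra.ιMulti R (r - k) f)) := by
  have h0 : ExteriorAlgebra.ιMulti R (k + 1) e * ExteriorAlgebra.ιMulti R (r - k) f = 0 := by
    rw [ExteriorAlgebra.ιMulti_mul_ιMulti]
    exact ιMulti_eq_zero_of_lt R r (by omega) _
  have h1 := contract_mul (LinearMap.proj (R := R) (φ := fun _ : Fin r => R) j) (k + 1) e
    (ExteriorAlgebra.ιMulti R (r - k) f)
  rw [h0, map_zero] at h1
  unfold ssContr
  have h2 := eq_neg_of_add_eq_zero_left h1.symm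
  rw [h2, pow_succ, mul_neg, mul_one, neg_smul, neg_neg]

end Ext

section Main

variable (R : Type u) [CommRing R] (r : ℕ) (N : Type v) [AddCommGroup N] [Module R N]

theorem ssDelta_tmul (φ : Fin r → (N →ₗ[R] N)) (a : SSLam R r) (s : MvPolynomial (Fin r) R)
    (n : N) :
    ssDelta R r N φ ((a ⊗ₜ[R] s) ⊗ₜ[R] n) =
      ∑ j, (((ssContr R r j a) ⊗ₜ[R] (MvPolynomial.X j * s)) ⊗ₜ[R] n +
        (-1 : R) • (((ssContr R r j a) ⊗ₜ[R] s) ⊗ₜ[R] (φ j n))) := by
  unfold ssDelta ssDKoszul ssDAct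
  rw [LinearMap.sum_apply]
  apply Finset.sum_congr rfl
  intro j _
  rw [LinearMap.add_apply, LinearMap.smul_apply, TensorProduct.map_tmul, TensorProduct.map_tmul,
    TensorProduct.map_tmul, TensorProduct.map_tmul]
  rfl

theorem ssPair_tmul (β : N →ₗ[R] N →ₗ[R] R) (k : ℕ) (a b : SSLam R r)
    (s t : MvPolynomial (Fin r) R) (n m : N) :
    ssPair R r N β k ((a ⊗ₜ[R] s) ⊗ₜ[R] n) ((b ⊗ₜ[R] t) ⊗ₜ[R] m) =
      ((-1 : R) ^ (k.choose 2) * β n m) • ((a * b) ⊗ₜ[R] (s * t)) := by
  unfold ssPair ssPairAux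
  rw [LinearMap.smul_apply, LinearMap.smul_apply, TensorProduct.curry_apply,
    LinearMap.comp_apply, LinearMap.comp_apply]
  simp only [LinearEquiv.coe_coe, TensorProduct.tensorTensorTensorComm_tmul,
    TensorProduct.map_tmul, TensorProduct.lift.tmul, LinearMap.mul'_apply,
    TensorProduct.rid_tmul, Algebra.TensorProduct.tmul_mul_tmul]
  rw [smul_smul]

theorem main (φ : Fin r → (N →ₗ[R] N)) (β : N →ₗ[R] N →ₗ[R] R)
    (hβ : ∀ (j : Fin r) (n m : N), β (φ j n) m = β n (φ j m))
    (k : ℕ) (hk : k < r)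
    (e : Fin (k + 1) → (Fin r → R)) (f : Fin (r - k) → (Fin r → R))
    (s t : MvPolynomial (Fin r) R) (n m : N) :
    W4c6secantcecovers.ssPair R r N β k
        (W4c6secantcecovers.ssDelta R r N φ ((ExteriorAlgebra.ιMulti R (k + 1) e ⊗ₜ[R] s) ⊗ₜ[R] n))
        ((ExteriorAlgebra.ιMulti R (r - k) f ⊗ₜ[R] t) ⊗ₜ[R] m) =
      W4c6secantcecovers.ssPair R r N β (k + 1)
        ((ExteriorAlgebra.ιMulti R (k + 1) e ⊗ₜ[R] s) ⊗ₜ[R] n)
        (W4c6secantcecovers.ssDelta R r N φ ((ExteriorAlgebra.ιMulti R (r - k) f ⊗ₜ[R] t) ⊗ₜ[R] m)) := by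
  rw [ssDelta_tmul, ssDelta_tmul, map_sum, LinearMap.sum_apply, map_sum]
  apply Finset.sum_congr rfl
  intro j _
  rw [map_add, LinearMap.add_apply, map_smul, LinearMap.smul_apply, map_add, map_smul,
    ssPair_tmul, ssPair_tmul, ssPair_tmul, ssPair_tmul, key r k hk j e f, hβ j n m]
  have hc : (k + 1).choose 2 = k + k.choose 2 := by
    rw [Nat.choose_succ_succ, Nat.choose_one_right]
  rw [hc, pow_add]
  have hX : MvPolynomial.X j * s * t = s * (MvPolynomial.X j * t) := by ring
  rw [hX]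
  simp only [TensorProduct.smul_tmul', smul_smul]
  have e1 : (-1 : R) ^ k.choose 2 * (β n) m * (-1) ^ k =
      (-1) ^ k * (-1) ^ k.choose 2 * (β n) m := by ring
  have e2 : -1 * ((-1 : R) ^ k.choose 2 * (β n) ((φ j) m) * (-1) ^ k) =
      -1 * ((-1) ^ k * (-1) ^ k.choose 2 * (β n) ((φ j) m)) := by ring
  rw [e1, e2]

end Main

end Groth.Agent.Lead.SSPair
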