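import Mathlib
import Groth.Prelude.Def_C1
import Groth.Agent.Lib.Lead.SecOrd1
import Groth.Agent.Lib.Helper1.TensGen

/-!
# The divisor of a tensor product of rational sections (lead)
-/

set_option autoImplicit false
set_option backward.isDefEq.respectTransparency.types false
set_option synthInstance.maxHeartbeats 400000
set_option linter.style.haveILetI false
set_option linter.unusedSectionVars false
universe u

open CategoryTheory CategoryTheory.Limits AlgebraicGeometry TopologicalSpace Opposite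

namespace Groth.Agent.Lead.SecOrd

open Groth.Agent.Helper1.QcCech Groth.Agent.Helper1.LGen Groth.Agent.Lead.RkSch Groth.Agent.Lead.SD
  Groth.Agent.Helper1.TmulLib Groth.Agent.Helper1.TensGen

variable {X : Scheme.{u}} [IsIntegral X] [IsLocallyNoetherian X]

theorem S16092_main (L N : X.Modules) (hL : PicF.IsInvertible L) (hN : PicF.IsInvertible N)
    (s : Cyc.secFibre L (genericPoint X)) (hs : s ≠ 0)
    (t : Cyc.secFibre N (genericPoint X)) (ht : t ≠ 0) :
    ∃ w : Cyc.secFibre (CohB1.tensorMod L N) (genericPoint X), w ≠ 0 ∧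
      ∀ (x : X), ringKrullDim (X.presheaf.stalk x) = 1 →
        Cyc.secOrdAt (CohB1.tensorMod L N) (genericPoint X) x
            ((genericPoint_spec X).specializes (Set.mem_univ x)) w =
          Cyc.secOrdAt L (genericPoint X) x ((genericPoint_spec X).specializes (Set.mem_univ x)) s +
            Cyc.secOrdAt N (genericPoint X) x
              ((genericPoint_spec X).specializes (Set.mem_univ x)) t := by
  obtain ⟨W₀, a₀, b₀, hηW₀, ha₀, hb₀⟩ := exists_isGen₂ hL hN (genericPoint X)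
  obtain ⟨g₀, hg₀⟩ := exists_eq_mkη_smul ha₀ hηW₀ s
  obtain ⟨g₀', hg₀'⟩ := exists_eq_mkη_smul hb₀ hηW₀ t
  have hc₀ : IsGen (CohB1.tensorMod L N) W₀ (tm L N W₀ a₀ b₀) := isGen_tm ha₀ hb₀
  have hg₀0 : g₀ ≠ 0 := by
    rintro rfl
    exact hs (hg₀.trans ((mkη_smul_eq_zero_iff ha₀ hηW₀ 0).2 rfl))
  have hg₀0' : g₀' ≠ 0 := by
    rintro rfl
    exact ht (hg₀'.trans ((mkη_smul_eq_zero_iff hb₀ hηW₀ 0).2 rfl))
  refine ⟨mkη _ ((g₀ * g₀') • (CohB1.tensorMod L N).presheaf.germ W₀ _ hηW₀ (tm L N W₀ a₀ b₀)),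
    ?_, ?_⟩
  · rw [Ne, mkη_smul_eq_zero_iff hc₀ hηW₀]
    exact mul_ne_zero hg₀0 hg₀0'
  · intro x hdim
    haveI : Ring.KrullDimLE 1 (X.presheaf.stalk x) := Ring.krullDimLE_iff.2 hdim.le
    obtain ⟨W, a, b, hxW, ha, hb⟩ := exists_isGen₂ hL hN x
    have hηW : genericPoint X ∈ W := genericPoint_mem W x hxW
    have hηU : genericPoint X ∈ W₀ ⊓ W := ⟨hηW₀, hηW⟩
    obtain ⟨r, hr⟩ := (ha (W₀ ⊓ W) inf_le_right).2 (res L inf_le_left a₀)
    obtain ⟨r', hr'⟩ := (hb (W₀ ⊓ W) inf_le_right).2 (res N inf_le_left b₀)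
    simp only [] at hr hr'
    have e1 : L.presheaf.germ W₀ _ hηW₀ a₀ =
        X.presheaf.germ (W₀ ⊓ W) _ hηU r • L.presheaf.germ W _ hηW a := by
      have := congrArg (L.presheaf.germ (W₀ ⊓ W) _ hηU) hr
      rw [gsm, germ_res, germ_res] at this
      exact this.symm
    have e2 : N.presheaf.germ W₀ _ hηW₀ b₀ =
        X.presheaf.germ (W₀ ⊓ W) _ hηU r' • N.presheaf.germ W _ hηW b := by
      have := congrArg (N.presheaf.germ (W₀ ⊓ W) _ hηU) hr'
      rw [gsm, germ_res, germ_res] at this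
      exact this.symm
    have e3 : (CohB1.tensorMod L N).presheaf.germ W₀ _ hηW₀ (tm L N W₀ a₀ b₀) =
        (X.presheaf.germ (W₀ ⊓ W) _ hηU r * X.presheaf.germ (W₀ ⊓ W) _ hηU r') •
          (CohB1.tensorMod L N).presheaf.germ W _ hηW (tm L N W a b) := by
      have h1 : res (CohB1.tensorMod L N) (inf_le_left : W₀ ⊓ W ≤ W₀) (tm L N W₀ a₀ b₀) =
          (r * r') • res (CohB1.tensorMod L N) (inf_le_right : W₀ ⊓ W ≤ W) (tm L N W a b) := by
        rw [res_tm, res_tm, ← hr, ← hr', tm_smul_left, tm_smul_right, smul_smul]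
      have := congrArg ((CohB1.tensorMod L N).presheaf.germ (W₀ ⊓ W) _ hηU) h1
      rw [germ_res, gsm, germ_res, map_mul] at this
      exact this
    have hs' : s = mkη L ((g₀ * X.presheaf.germ (W₀ ⊓ W) _ hηU r) •
        L.presheaf.germ W _ hηW a) := by
      rw [hg₀, e1, smul_smul]
    have ht' : t = mkη N ((g₀' * X.presheaf.germ (W₀ ⊓ W) _ hηU r') •
        N.presheaf.germ W _ hηW b) := by
      rw [hg₀', e2, smul_smul]
    have hw' : mkη (CohB1.tensorMod L N)
        ((g₀ * g₀') • (CohB1.tensorMod L N).presheaf.germ W₀ _ hηW₀ (tm L N W₀ a₀ b₀)) =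
        mkη (CohB1.tensorMod L N) (((g₀ * X.presheaf.germ (W₀ ⊓ W) _ hηU r) *
          (g₀' * X.presheaf.germ (W₀ ⊓ W) _ hηU r')) •
          (CohB1.tensorMod L N).presheaf.germ W _ hηW (tm L N W a b)) := by
      rw [e3, smul_smul]
      congr 2
      ring
    have hn1 : g₀ * X.presheaf.germ (W₀ ⊓ W) _ hηU r ≠ 0 := by
      intro h0
      apply hs
      rw [hs', h0]
      exact (mkη_smul_eq_zero_iff ha hηW 0).2 rfl
    have hn2 : g₀' * X.presheaf.germ (W₀ ⊓ W) _ hηU r' ≠ 0 := by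
      intro h0
      apply ht
      rw [ht', h0]
      exact (mkη_smul_eq_zero_iff hb hηW 0).2 rfl
    rw [hw', hs', ht', secOrdAt_eq (isGen_tm ha hb) x hxW, secOrdAt_eq ha x hxW,
      secOrdAt_eq hb x hxW, ordFrac_mul _ _ hn1 hn2]

end Groth.Agent.Lead.SecOrd
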