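import Mathlib
import Groth.Prelude.Def_Mor2
import Groth.Agent.Lib.Lead.SecReg1

/-!
# Sections of smooth morphisms are regular immersions: scheme level (lead)
-/

set_option backward.isDefEq.respectTransparency.types false
set_option synthInstance.maxHeartbeats 400000
set_option autoImplicit false
set_option linter.unusedSectionVars false
set_option linter.style.haveILetI false
set_option linter.unusedSimpArgs false
universe u
open CategoryTheory CategoryTheory.Limits AlgebraicGeometry TensorProduct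

namespace Groth.Agent.Lead.SecReg

/-- local chart for a section of a smooth morphism: affine opens `U ∋ s`, `V ∋ σ s` with
`σ⁻¹ V = U`, `f` standard smooth on the chart -/
theorem exists_chart_of_section {X S : Scheme.{u}} (f : X ⟶ S) [Smooth f] (σ : S ⟶ X)
    (hσ : σ ≫ f = 𝟙 S) (s : S) :
    ∃ (U : S.Opens) (_ : IsAffineOpen U) (V : X.Opens) (_ : IsAffineOpen V) (e : V ≤ f ⁻¹ᵁ U)
      (e' : U ≤ σ ⁻¹ᵁ V), s ∈ U ∧ σ ⁻¹ᵁ V = U ∧ (f.appLE U V e).hom.IsStandardSmooth ∧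
        (σ.appLE V U e').hom.comp (f.appLE U V e).hom = RingHom.id _ := by
  have hfσ : ∀ t : S, f (σ t) = t := by
    intro t
    have := congrArg (fun g : S ⟶ S => g t) hσ
    simpa using this
  obtain ⟨U0, hU0, V0, hV0, hxV0, e0, hstd⟩ := Smooth.exists_isStandardSmooth f (σ s)
  have hsU0 : s ∈ U0 := by
    have := e0 hxV0
    rwa [Scheme.Hom.mem_preimage, hfσ] at this
  obtain ⟨a, ha_le, hsa⟩ := hU0.exists_basicOpen_le (V := σ ⁻¹ᵁ V0 ⊓ U0)
    ⟨s, ⟨hxV0, hsU0⟩⟩ hsU0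
  have hmemV1 : ∀ x : X, x ∈ X.basicOpen (f.appLE U0 V0 e0 a) ↔ x ∈ V0 ∧ f x ∈ S.basicOpen a := by
    intro x
    simp [Scheme.Hom.appLE, ← Scheme.preimage_basicOpen]
  have e1 : X.basicOpen (f.appLE U0 V0 e0 a) ≤ f ⁻¹ᵁ S.basicOpen a := by
    intro x hx
    exact ((hmemV1 x).1 hx).2
  have e' : S.basicOpen a ≤ σ ⁻¹ᵁ X.basicOpen (f.appLE U0 V0 e0 a) := by
    intro t ht
    rw [Scheme.Hom.mem_preimage, hmemV1, hfσ]
    exact ⟨(ha_le ht).1, ht⟩
  refine ⟨S.basicOpen a, hU0.basicOpen a, X.basicOpen (f.appLE U0 V0 e0 a), hV0.basicOpen _, e1, e',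
    hsa, ?_, ?_, ?_⟩
  · apply le_antisymm
    · intro t ht
      rw [Scheme.Hom.mem_preimage, hmemV1, hfσ] at ht
      exact ht.2
    · exact e'
  · have := hV0.isLocalization_basicOpen (f.appLE U0 V0 e0 a)
    have := hU0.isLocalization_basicOpen a
    rw [hU0.appLE_eq_away_map f hV0]
    exact RingHom.isStandardSmooth_localizationPreserves.away _ _ _ _ hstd
  · rw [← CommRingCat.hom_comp, Scheme.Hom.appLE_comp_appLE]
    have : (σ ≫ f).appLE (S.basicOpen a) (S.basicOpen a)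
        (e'.trans ((TopologicalSpace.Opens.map σ.base).map (homOfLE e1)).le) = 𝟙 _ := by
      have h1 : ∀ (h : S ⟶ S) (hh : h = 𝟙 S) (W : S.Opens) (eW : W ≤ h ⁻¹ᵁ W),
          h.appLE W W eW = 𝟙 _ := by
        intro h hh W eW
        subst hh
        simp only [Scheme.Hom.appLE, Scheme.Hom.id_app]
        exact (Category.id_comp _).trans (S.presheaf.map_id (Opposite.op W))
      exact h1 _ hσ _ _
    rw [this]
    rfl

/-- the kernel of `σ.appLE V U` when `σ⁻¹ V = U` is the kernel ideal of `σ` on `V` -/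
theorem ker_appLE_eq {X S : Scheme.{u}} (σ : S ⟶ X) [QuasiCompact σ] (U : S.Opens) (V : X.Opens)
    (hV : IsAffineOpen V) (e' : U ≤ σ ⁻¹ᵁ V) (hUV : σ ⁻¹ᵁ V = U) :
    RingHom.ker (σ.appLE V U e').hom = σ.ker.ideal ⟨V, hV⟩ := by
  rw [Scheme.Hom.ker_apply]
  subst hUV
  rw [Scheme.Hom.appLE_eq_app]

theorem S1676_main {X S : Scheme.{u}} (f : X ⟶ S) [Smooth f] (σ : S ⟶ X)
    (hσ : σ ≫ f = 𝟙 S) [IsClosedImmersion σ] : Mor2.IsRegularClosedImmersion σ := by
  refine ⟨inferInstance, fun s => ?_⟩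
  obtain ⟨U, hU, V, hV, e, e', hsU, hUV, hstd, hret⟩ := exists_chart_of_section f σ hσ s
  haveI : Nonempty U := ⟨⟨s, hsU⟩⟩
  obtain ⟨g, hτg, rs, H⟩ := exists_regular_of_retraction' (f.appLE U V e).hom hstd
    (σ.appLE V U e').hom hret
  haveI := hV.isLocalization_basicOpen g
  obtain ⟨hreg, hker⟩ := H Γ(X, X.basicOpen g)
  refine ⟨X.basicOpen g, hV.basicOpen g, ?_, rs.map (algebraMap Γ(X, V) Γ(X, X.basicOpen g)),
    hreg, ?_⟩
  · -- the point lies in the basic open
    have h1 : σ ⁻¹ᵁ X.basicOpen g = S.basicOpen (σ.app V g) := Scheme.preimage_basicOpen σ g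
    have h2 : (σ.appLE V U e') g = S.presheaf.map (homOfLE e').op (σ.app V g) := by
      simp [Scheme.Hom.appLE]
    have h3 : S.basicOpen ((σ.appLE V U e') g) = U := by
      have : (σ.appLE V U e') g = 1 := hτg
      rw [this]
      exact S.basicOpen_of_isUnit isUnit_one
    rw [h2, Scheme.basicOpen_res] at h3
    have h4 : s ∈ U ⊓ S.basicOpen (σ.app V g) := by rw [h3]; exact hsU
    have h5 : s ∈ σ ⁻¹ᵁ X.basicOpen g := by rw [h1]; exact h4.2
    exact h5
  · rw [← hker, ker_appLE_eq σ U V hV e' hUV]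
    exact (σ.ker.map_ideal_basicOpen ⟨V, hV⟩ g).symm

end Groth.Agent.Lead.SecReg
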