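import Mathlib
import Groth.Prelude.Def_Mor2
import Groth.Agent.Lib.Lead.SecReg2
import Groth.Agent.Lib.Helper4.RegComp1
import Groth.Agent.Lib.Helper4.RegFlatBC1

set_option backward.isDefEq.respectTransparency.types false
set_option synthInstance.maxHeartbeats 400000
set_option autoImplicit false
universe u
open CategoryTheory CategoryTheory.Limits AlgebraicGeometry

namespace Groth.Agent.Lead.SecReg

theorem S1678_main {X Y S : Scheme.{u}} (p : X ⟶ S) [Smooth p] (i : Y ⟶ X) (j : Y ⟶ S)
    [IsClosedImmersion i] [IsClosedImmersion j] (h : i ≫ p = j)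
    (hj : Mor2.IsRegularClosedImmersion j) : Mor2.IsRegularClosedImmersion i := by
  let γ : Y ⟶ pullback j p := pullback.lift (𝟙 Y) i (by rw [Category.id_comp, h])
  have hγ1 : γ ≫ pullback.fst j p = 𝟙 Y := pullback.lift_fst _ _ _
  have hγ2 : γ ≫ pullback.snd j p = i := pullback.lift_snd _ _ _
  haveI : IsClosedImmersion (γ ≫ pullback.snd j p) := by rw [hγ2]; infer_instance
  haveI : IsClosedImmersion γ := IsClosedImmersion.of_comp γ (pullback.snd j p)
  have h1 := S1676_main (pullback.fst j p) γ hγ1
  have h2 := Groth.Agent.Lib.Helper4.RegFlatBC1.S2886_main j p hj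
  have h3 := Groth.Agent.Lib.Helper4.RegComp1.S1661_main γ (pullback.snd j p) h1 h2
  rwa [hγ2] at h3

end Groth.Agent.Lead.SecReg
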