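import Mathlib
import Groth.Agent.Lib.Lead.SecReg1

/-!
# Sections of smooth morphisms of relative dimension `n`: regular sequence of length `n` (lead)
-/

set_option backward.isDefEq.respectTransparency.types false
set_option synthInstance.maxHeartbeats 400000
set_option autoImplicit false
set_option linter.unusedSectionVars false
set_option linter.style.haveILetI false
set_option linter.unusedSimpArgs false
universe u
open TensorProduct

namespace Groth.Agent.Lead.SecReg

open Groth.Agent.Helper8.RS2 RingTheory.Sequence

/-- as `exists_regular_of_retraction`, recording the length of the sequence -/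
theorem exists_regular_of_retraction_len {A B : Type u} [CommRing A] [CommRing B] [Nontrivial A]
    [Algebra A B] (n : ℕ) (φ : MvPolynomial (Fin n) A →ₐ[A] B) (hφ : φ.toRingHom.Etale)
    (τ : B →ₐ[A] A) :
    ∃ g : B, τ g = 1 ∧ ∃ rs : List B, rs.length = n ∧ ∀ (B' : Type u) [CommRing B'] [Algebra B B']
      [IsLocalization.Away g B'],
      IsRegular B' (rs.map (algebraMap B B')) ∧
        (RingHom.ker τ.toRingHom).map (algebraMap B B') =
          Ideal.ofList (rs.map (algebraMap B B')) := by
  classical
  let P := MvPolynomial (Fin n) A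
  let a : Fin n → A := fun i => τ (φ (MvPolynomial.X i))
  let y : Fin n → B := fun i => φ (MvPolynomial.X i) - algebraMap A B (a i)
  let ψ : P →ₐ[A] B := MvPolynomial.aeval y
  let sh : P →ₐ[A] P := MvPolynomial.aeval (fun i => MvPolynomial.X i - MvPolynomial.C (a i))
  let sh' : P →ₐ[A] P := MvPolynomial.aeval (fun i => MvPolynomial.X i + MvPolynomial.C (a i))
  let she : P ≃ₐ[A] P := AlgEquiv.ofAlgHom sh sh'
    (by
      apply MvPolynomial.algHom_ext
      intro i
      show sh (sh' (MvPolynomial.X i)) = MvPolynomial.X i
      show sh (MvPolynomial.aeval _ (MvPolynomial.X i)) = _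
      rw [MvPolynomial.aeval_X, map_add]
      show MvPolynomial.aeval _ (MvPolynomial.X i) + MvPolynomial.aeval _ (MvPolynomial.C (a i)) = _
      rw [MvPolynomial.aeval_X, MvPolynomial.aeval_C, MvPolynomial.algebraMap_eq]
      ring)
    (by
      apply MvPolynomial.algHom_ext
      intro i
      show sh' (sh (MvPolynomial.X i)) = MvPolynomial.X i
      show sh' (MvPolynomial.aeval _ (MvPolynomial.X i)) = _
      rw [MvPolynomial.aeval_X, map_sub]
      show MvPolynomial.aeval _ (MvPolynomial.X i) - MvPolynomial.aeval _ (MvPolynomial.C (a i)) = _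
      rw [MvPolynomial.aeval_X, MvPolynomial.aeval_C, MvPolynomial.algebraMap_eq]
      ring)
  have hψφ : ψ = φ.comp sh := by
    apply MvPolynomial.algHom_ext
    intro i
    simp [ψ, sh, y, MvPolynomial.algebraMap_eq]
  have hψ : ψ.toRingHom.Etale := by
    have h1 := RingHom.Etale.respectsIso.2 φ.toRingHom she.toRingEquiv hφ
    have h2 : ψ.toRingHom = φ.toRingHom.comp she.toRingEquiv.toRingHom := by
      rw [hψφ]
      rfl
    rw [h2]
    exact h1
  have hτy : ∀ i, τ (y i) = 0 := by
    intro i
    show τ (φ (MvPolynomial.X i) - algebraMap A B (a i)) = 0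
    rw [map_sub, AlgHom.commutes]
    exact sub_self _
  let ε : P →ₐ[A] A := τ.comp ψ
  have hε0 : ε = MvPolynomial.aeval (fun _ : Fin n => (0 : A)) := by
    apply MvPolynomial.algHom_ext
    intro i
    simp [ε, ψ, hτy]
  algebraize [ψ.toRingHom, ε.toRingHom]
  haveI : IsScalarTower A P B := IsScalarTower.of_algebraMap_eq' ψ.comp_algebraMap.symm
  haveI : Algebra.FinitePresentation A B := Algebra.FinitePresentation.trans A P B
  let τ' : B →ₐ[P] A := { τ.toRingHom with commutes' := fun p => rfl }
  have hε : Function.Surjective (algebraMap P A) := by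
    intro x
    refine ⟨MvPolynomial.C x, ?_⟩
    show ε (MvPolynomial.C x) = x
    rw [hε0, MvPolynomial.aeval_C]
    rfl
  have hτsurj : Function.Surjective τ := by
    intro x
    exact ⟨algebraMap A B x, by simp⟩
  have hJ : (RingHom.ker τ'.toRingHom).FG :=
    Algebra.FinitePresentation.ker_fG_of_surjective τ hτsurj
  obtain ⟨g, hg1, hg2⟩ := exists_mul_mem_of_formallyUnramified τ' hε hJ
  have hK : RingHom.ker (algebraMap P A) =
      Ideal.ofList (List.ofFn (MvPolynomial.X : Fin n → P)) := by
    rw [← ker_aeval_zero A n, ← hε0]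
    rfl
  have hKB : (RingHom.ker (algebraMap P A)).map (algebraMap P B) = Ideal.ofList (List.ofFn y) := by
    rw [hK, Ideal.map_ofList, List.map_ofFn]
    congr 2
    ext i
    exact MvPolynomial.aeval_X y i
  have hτg : τ g = 1 := by
    have : τ (g - 1) = 0 := hg1
    rw [map_sub, map_one, sub_eq_zero] at this
    exact this
  refine ⟨g, hτg, List.ofFn y, List.length_ofFn, ?_⟩
  intro B' _ _ _
  have hker : (RingHom.ker τ.toRingHom).map (algebraMap B B') =
      Ideal.ofList ((List.ofFn y).map (algebraMap B B')) := by
    rw [← Ideal.map_ofList]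
    apply le_antisymm
    · rw [Ideal.map_le_iff_le_comap]
      intro j hj
      rw [Ideal.mem_comap]
      have h1 := hg2 j hj
      rw [hKB] at h1
      have h2 := Ideal.mem_map_of_mem (algebraMap B B') h1
      rw [map_mul] at h2
      exact (Ideal.unit_mul_mem_iff_mem _ (IsLocalization.Away.algebraMap_isUnit g)).1 h2
    · refine Ideal.map_mono ?_
      rw [Ideal.ofList, Ideal.span_le]
      intro x hx
      obtain ⟨i, rfl⟩ := (List.mem_ofFn' _ _).1 hx
      exact hτy i
  refine ⟨⟨?_, ?_⟩, hker⟩
  · -- weak regularity from flatness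
    letI : Algebra P B' := ((algebraMap B B').comp (algebraMap P B)).toAlgebra
    haveI : IsScalarTower P B B' := IsScalarTower.of_algebraMap_eq (fun _ => rfl)
    haveI : Module.Flat B B' := IsLocalization.flat B' (Submonoid.powers g)
    haveI : Module.Flat P B' := Module.Flat.trans P B B'
    have h1 := (isWeaklyRegular_X A n).of_flat (S := B')
    have h2 : (List.ofFn (MvPolynomial.X : Fin n → P)).map (algebraMap P B') =
        (List.ofFn y).map (algebraMap B B') := by
      rw [List.map_ofFn, List.map_ofFn]
      congr 1
      ext i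
      show algebraMap B B' (ψ (MvPolynomial.X i)) = algebraMap B B' (y i)
      exact congrArg _ (MvPolynomial.aeval_X y i)
    rw [h2] at h1
    exact h1
  · -- properness
    rw [smul_eq_mul, Ideal.mul_top, ← hker]
    intro htop
    have hunit : IsUnit (τ.toRingHom g) := by
      show IsUnit (τ g)
      rw [hτg]
      exact isUnit_one
    let τg : B' →+* A := IsLocalization.Away.lift g hunit
    have hle : (RingHom.ker τ.toRingHom).map (algebraMap B B') ≤ RingHom.ker τg := by
      rw [Ideal.map_le_iff_le_comap]
      intro j hj
      rw [Ideal.mem_comap, RingHom.mem_ker]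
      show (IsLocalization.Away.lift g hunit) (algebraMap B B' j) = 0
      rw [IsLocalization.Away.lift_eq]
      exact hj
    rw [← htop] at hle
    have h1 : (1 : B') ∈ RingHom.ker τg := hle Submodule.mem_top
    rw [RingHom.mem_ker, map_one] at h1
    exact one_ne_zero h1

/-- ring-hom form with relative dimension: a retraction of a standard smooth ring map of relative
dimension `n` is cut out by a regular sequence of length `n` on a basic open containing the
section -/
theorem exists_regular_of_retraction_relDim {A B : Type u} [CommRing A] [CommRing B] [Nontrivial A]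
    (n : ℕ) (f : A →+* B) (hf : f.IsStandardSmoothOfRelativeDimension n) (τ : B →+* A)
    (hτ : τ.comp f = RingHom.id A) :
    ∃ g : B, τ g = 1 ∧ ∃ rs : List B, rs.length = n ∧ ∀ (B' : Type u) [CommRing B'] [Algebra B B']
      [IsLocalization.Away g B'],
      IsRegular B' (rs.map (algebraMap B B')) ∧
        (RingHom.ker τ).map (algebraMap B B') = Ideal.ofList (rs.map (algebraMap B B')) := by
  obtain ⟨g0, hg0, hg0e⟩ := hf.exists_etale_mvPolynomial
  letI := f.toAlgebra
  have hφc : ∀ a : A, g0 (algebraMap A (MvPolynomial (Fin n) A) a) = algebraMap A B a := by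
    intro a
    show g0 (MvPolynomial.C a) = f a
    rw [← hg0]
    rfl
  have hτc : ∀ a : A, τ (algebraMap A B a) = algebraMap A A a := by
    intro a
    show τ (f a) = a
    have := RingHom.congr_fun hτ a
    simpa using this
  let φ : MvPolynomial (Fin n) A →ₐ[A] B := { g0 with commutes' := hφc }
  let τ' : B →ₐ[A] A := { τ with commutes' := hτc }
  exact exists_regular_of_retraction_len n φ hg0e τ'

end Groth.Agent.Lead.SecReg
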