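import Mathlib
import Groth.Prelude.Def_BlowUp2
import Groth.Agent.Lib.Lead.SecReg5

/-!
# A section of a separated smooth morphism of relative dimension one is an effective Cartier
divisor (lead)
-/

set_option backward.isDefEq.respectTransparency.types false
set_option synthInstance.maxHeartbeats 400000
set_option autoImplicit false
set_option linter.unusedSectionVars false
set_option linter.style.haveILetI false
set_option linter.unusedSimpArgs false
universe u
open CategoryTheory CategoryTheory.Limits AlgebraicGeometry TensorProduct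

namespace Groth.Agent.Lead.SecReg

theorem isClosedImmersion_of_section {X Y : Scheme.{u}} (f : X ⟶ Y) [IsSeparated f]
    (σ : Y ⟶ X) (hσ : σ ≫ f = 𝟙 Y) : IsClosedImmersion σ := by
  haveI : IsClosedImmersion (σ ≫ f) := by rw [hσ]; infer_instance
  exact IsClosedImmersion.of_comp σ f

/-- away from the image of a closed immersion the kernel ideal is the unit ideal on an affine
neighbourhood -/
theorem exists_affine_ker_eq_top {X Y : Scheme.{u}} (σ : Y ⟶ X) [IsClosedImmersion σ] (x : X)
    (hx : x ∉ Set.range σ) :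
    ∃ W : X.affineOpens, x ∈ W.1 ∧ σ.ker.ideal W = ⊤ := by
  have hcl : IsClosed (Set.range σ) := σ.isClosedEmbedding.isClosed_range
  let O : X.Opens := ⟨(Set.range σ)ᶜ, hcl.isOpen_compl⟩
  obtain ⟨W, hW, hxW, hWO⟩ := exists_isAffineOpen_mem_and_subset (x := x) (U := O) hx
  refine ⟨⟨W, hW⟩, hxW, ?_⟩
  rw [Scheme.Hom.ker_apply]
  have hbot : σ ⁻¹ᵁ W = ⊥ := by
    ext y
    simp only [TopologicalSpace.Opens.coe_bot, Set.mem_empty_iff_false, iff_false]
    intro hy
    exact hWO hy ⟨y, rfl⟩
  haveI : Subsingleton Γ(Y, σ ⁻¹ᵁ W) := by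
    rw [hbot]
    infer_instance
  rw [Ideal.eq_top_iff_one, RingHom.mem_ker]
  exact Subsingleton.elim _ _

theorem S15990_main {X Y : Scheme.{u}} (f : X ⟶ Y) [IsSeparated f] [SmoothOfRelativeDimension 1 f]
    (σ : Y ⟶ X) (hσ : σ ≫ f = 𝟙 Y) :
    BlowUp.IsEffCartierIdeal σ.ker ∧ Flat (σ.ker.subschemeι ≫ f) := by
  haveI := isClosedImmersion_of_section f σ hσ
  constructor
  · intro x
    by_cases hx : x ∈ Set.range σ
    · obtain ⟨s, rfl⟩ := hx
      obtain ⟨W, hsW, rs, hlen, hreg, hker⟩ := exists_regular_gens_of_section 1 f σ hσ s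
      obtain ⟨r, rfl⟩ := List.length_eq_one_iff.mp hlen
      refine ⟨W, hsW, r, ?_, ?_⟩
      · have h1 := hreg.toIsWeaklyRegular
        rw [RingTheory.Sequence.isWeaklyRegular_cons_iff] at h1
        have h2 : IsSMulRegular Γ(X, W.1) r := h1.1
        rw [mem_nonZeroDivisors_iff_right]
        intro z hz
        apply h2
        show r * z = r * 0
        rw [mul_zero, mul_comm]
        exact hz
      · rw [hker]
        simp [Ideal.ofList]
    · obtain ⟨W, hxW, htop⟩ := exists_affine_ker_eq_top σ x hx
      refine ⟨W, hxW, 1, one_mem _, ?_⟩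
      rw [htop, Ideal.span_singleton_one]
  · have h1 : σ.ker.subschemeι ≫ f = inv σ.toImage := by
      rw [← cancel_epi σ.toImage, IsIso.hom_inv_id]
      have : σ.toImage ≫ σ.imageι = σ := σ.toImage_imageι
      rw [← Category.assoc]
      show (σ.toImage ≫ σ.imageι) ≫ f = _
      rw [this, hσ]
    rw [h1]
    infer_instance

end Groth.Agent.Lead.SecReg
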