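import Mathlib
import Groth.Prelude
import Groth.Agent.Lib.Lead.SecReg5
import Groth.Agent.Lib.Helper2.Sch.SmoothRelDim2
import Groth.Agent.Lib.Helper2.HomExt.PureDimCodim

/-!
# The diagonal of a smooth integral scheme of dimension `n` over a field is a regular immersion of
codimension `n` (lead)
-/

set_option backward.isDefEq.respectTransparency.types false
set_option synthInstance.maxHeartbeats 400000
set_option autoImplicit false
set_option linter.unusedSectionVars false
set_option linter.style.haveILetI false
set_option linter.unusedSimpArgs false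
universe u
open CategoryTheory CategoryTheory.Limits AlgebraicGeometry TensorProduct TopologicalSpace

namespace Groth.Agent.Lead.SecReg

open Groth.Agent.Helper2.SmoothRelDim Groth.Agent.Helper2

/-- local dimension at a point of a standard smooth chart over a field -/
theorem localDim_eq_of_chart (m : ℕ) {F : Scheme.{u}} (K : Type u) [Field K]
    (g : F ⟶ Spec (.of K)) (z : F) (U : (Spec (.of K)).Opens) (V : F.Opens) (hV : IsAffineOpen V)
    (hz : z ∈ V) (e : V ≤ g ⁻¹ᵁ U)
    (hstd : (g.appLE U V e).hom.IsStandardSmoothOfRelativeDimension m) :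
    FlatMor.localDim F z = (m : WithBot ℕ∞) := by
  have hUtop : U = ⊤ := by
    ext w
    simp only [Opens.coe_top, Set.mem_univ, iff_true]
    have hgz : g z ∈ U := e hz
    haveI : Subsingleton ↥(Spec (.of K)) := inferInstanceAs (Subsingleton (PrimeSpectrum K))
    rw [Subsingleton.elim w (g z)]
    exact hgz
  subst hUtop
  let eK : K ≃+* Γ(Spec (.of K), ⊤) := (Scheme.ΓSpecIso (.of K)).symm.commRingCatIsoToRingEquiv
  have hψ : ((g.appLE ⊤ V e).hom.comp eK.toRingHom).IsStandardSmoothOfRelativeDimension m :=
    (RingHom.isStandardSmoothOfRelativeDimension_respectsIso (n := m)).2 _ eK hstd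
  algebraize [(g.appLE ⊤ V e).hom.comp eK.toRingHom]
  let z' : V.toScheme := ⟨z, hz⟩
  have h1 : FlatMor.localDim V.toScheme z' = FlatMor.localDim F z :=
    LocalDimEtale.localDim_eq_of_etale V.ι z'
  have h2 : FlatMor.localDim V.toScheme z' = FlatMor.localDim (Spec Γ(F, V)) (hV.isoSpec.hom z') :=
    LocalDimEtale.localDim_eq_of_etale hV.isoSpec.hom z'
  rw [← h1, h2]
  obtain ⟨p, hp⟩ : ∃ p : PrimeSpectrum Γ(F, V), p = hV.isoSpec.hom z' := ⟨_, rfl⟩
  rw [← hp]
  haveI := p.isPrime
  exact localDim_eq_of_isStandardSmoothOfRelativeDimension (k := K) m p.asIdeal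

theorem dim_irreducibleComponent_of_irreducible (X : Type*) [TopologicalSpace X]
    [IrreducibleSpace X] (Z : Set X) (hZ : Z ∈ irreducibleComponents X) :
    topologicalKrullDim ↥Z = topologicalKrullDim X := by
  rw [irreducibleComponents_eq_singleton, Set.mem_singleton_iff] at hZ
  subst hZ
  exact IsHomeomorph.topologicalKrullDim_eq _ (Homeomorph.Set.univ X).isHomeomorph

/-- a smooth integral scheme of dimension `n` over a field is smooth of relative dimension `n` -/
theorem smoothOfRelativeDimension_of_integral (K : Type u) [Field K] {X : Scheme.{u}}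
    (f : X ⟶ Spec (.of K)) [Smooth f] [IsIntegral X] (n : ℕ)
    (hn : topologicalKrullDim X = n) : SmoothOfRelativeDimension n f := by
  constructor
  intro x
  obtain ⟨U, hU, V, hV, hx, e, hstd⟩ := Smooth.exists_isStandardSmooth f x
  obtain ⟨m, hm⟩ : ∃ m : ℕ, RingHom.IsStandardSmoothOfRelativeDimension m (f.appLE U V e).hom := by
    algebraize [(f.appLE U V e).hom]
    obtain ⟨ι, σ, _, _, ⟨P⟩⟩ := (‹Algebra.IsStandardSmooth Γ(Spec (.of K), U) Γ(X, V)›).out
    exact ⟨P.dimension, ⟨ι, σ, inferInstance, inferInstance, P, rfl⟩⟩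
  have h1 : FlatMor.localDim X x = (m : WithBot ℕ∞) := localDim_eq_of_chart m K f x U V hV hx e hm
  have h2 : FlatMor.localDim X x = (n : WithBot ℕ∞) :=
    HomExt.PureDimCodim.localDim_eq_of_pure K f n (fun Z hZ => by
      rw [dim_irreducibleComponent_of_irreducible X Z hZ, hn]) x
  have hmn : m = n := by
    have h3 : ((m : ℕ) : WithBot ℕ∞) = ((n : ℕ) : WithBot ℕ∞) := h1.symm.trans h2
    exact_mod_cast h3
  subst hmn
  exact ⟨U, hU, V, hV, hx, e, hm⟩

theorem main6472 (K : Type u) [Field K] (X : Scheme.{u}) (f : X ⟶ Spec (CommRingCat.of K))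
    [Smooth f] [IsSeparated f] [IsIntegral X] (n : ℕ) (hn : topologicalKrullDim X = n) :
    RegImm.IsRegularImmersionOfCodim RegImm.Kind.regular n (pullback.diagonal f) := by
  haveI := smoothOfRelativeDimension_of_integral K f n hn
  haveI := smoothOfRelativeDimension_isStableUnderBaseChange n
  haveI : SmoothOfRelativeDimension n (pullback.fst f f) :=
    MorphismProperty.pullback_fst (P := @SmoothOfRelativeDimension n) _ _ inferInstance
  exact isRegularImmersionOfCodim_of_section n (pullback.fst f f) (pullback.diagonal f)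
    (pullback.diagonal_fst f)

end Groth.Agent.Lead.SecReg
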