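import Mathlib
import Groth.Prelude
import Groth.Agent.Lib.Helper2.Sch.GrpSmoothUnit
import Groth.Agent.Lib.Helper3.FibStalk2
import Groth.Agent.Lib.Helper8.RegularLocal
import Groth.Agent.S2156

set_option autoImplicit false
set_option backward.isDefEq.respectTransparency.types false
set_option synthInstance.maxHeartbeats 400000
set_option linter.style.haveILetI false
set_option linter.unusedSectionVars false
universe u

open CategoryTheory CategoryTheory.Limits AlgebraicGeometry IsLocalRing Topology TopologicalSpace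

namespace Groth.Agent.Lead.SecSm

/-- algebra: a retraction onto a local domain with principal maximal ideal -/
theorem alg_key {A B : Type u} [CommRing A] [CommRing B] [IsLocalRing A]
    [IsLocalRing B] [IsDomain A] (π : A) (hπ : maximalIdeal A = Ideal.span {π})
    (φ : A →+* B) [IsLocalHom φ] (σ : B →+* A) [IsLocalHom σ]
    (hσ : ∀ a, σ (φ a) = a) [hreg : IsRegularLocalRing B] :
    IsRegularLocalRing (B ⧸ (maximalIdeal A).map φ) ∧
      (∀ b : B, ∃ a : A, b - φ a ∈ maximalIdeal B) := by
  refine ⟨?_, ?_⟩
  · rw [hπ, Ideal.map_span, Set.image_singleton]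
    by_cases h0 : π = 0
    · rw [h0, map_zero]
      have hbot : Ideal.span ({0} : Set B) = ⊥ := Ideal.span_singleton_eq_bot.mpr rfl
      rw [hbot]
      exact IsRegularLocalRing.of_ringEquiv (RingEquiv.quotientBot B).symm
    · have hm : φ π ∈ maximalIdeal B := by
        have h1 : π ∈ maximalIdeal A := by rw [hπ]; exact Ideal.mem_span_singleton_self π
        rw [mem_maximalIdeal, mem_nonunits_iff] at h1 ⊢
        exact fun hu => h1 (isUnit_of_map_unit φ π hu)
      have hm2 : φ π ∉ maximalIdeal B ^ 2 := by
        intro hmem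
        have h1 : σ (φ π) ∈ (maximalIdeal B ^ 2).map σ := Ideal.mem_map_of_mem σ hmem
        rw [Ideal.map_pow, hσ] at h1
        have h2 : (maximalIdeal B).map σ ≤ maximalIdeal A :=
          ((IsLocalRing.local_hom_TFAE σ).out 0 2 rfl rfl).mp inferInstance
        have h3 : π ∈ maximalIdeal A ^ 2 := Ideal.pow_right_mono h2 2 h1
        rw [hπ, Ideal.span_singleton_pow, Ideal.mem_span_singleton] at h3
        obtain ⟨c, hc⟩ := h3
        have h4 : π * (1 - π * c) = 0 := by
          have : π * (1 - π * c) = π - π ^ 2 * c := by ring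
          rw [this, ← hc, sub_self]
        rcases mul_eq_zero.mp h4 with h5 | h5
        · exact h0 h5
        · have h6 : π * c ∈ maximalIdeal A := by
            rw [hπ]; exact Ideal.mul_mem_right _ _ (Ideal.mem_span_singleton_self π)
          have h7 : IsUnit (1 - π * c) := by
            by_contra hnu
            have h8 : 1 - π * c ∈ maximalIdeal A := by
              rwa [mem_maximalIdeal, mem_nonunits_iff]
            have h9 : (1 : A) ∈ maximalIdeal A := by
              have := Ideal.add_mem _ h8 h6
              simpa using this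
            exact (Ideal.ne_top_iff_one _).mp (IsLocalRing.maximalIdeal.isMaximal A).ne_top h9
          rw [h5] at h7
          exact not_isUnit_zero h7
      exact (Groth.Agent.Helper8.RLR.quotient_singleton hm hm2).1
  · intro b
    refine ⟨σ b, ?_⟩
    rw [mem_maximalIdeal, mem_nonunits_iff]
    intro hu
    have h1 := hu.map σ
    rw [map_sub, hσ, sub_self] at h1
    exact not_isUnit_zero h1


/-- the local rings of the spectrum of a Dedekind domain are domains with principal maximal ideal -/
theorem exists_principal {R : Type u} [CommRing R] [IsDedekindDomain R]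
    (y : Spec (CommRingCat.of R)) :
    IsDomain ((Spec (CommRingCat.of R)).presheaf.stalk y) ∧
      ∃ π, maximalIdeal ((Spec (CommRingCat.of R)).presheaf.stalk y) = Ideal.span {π} := by
  letI alg0 : Algebra R ((Spec (CommRingCat.of R)).presheaf.stalk y) :=
    StructureSheaf.stalkAlgebra (R := R) y
  haveI loc0 : IsLocalization.AtPrime ((Spec (CommRingCat.of R)).presheaf.stalk y) y.asIdeal :=
    StructureSheaf.IsLocalization.to_stalk R y
  haveI := y.isPrime
  haveI hdom : IsDomain ((Spec (CommRingCat.of R)).presheaf.stalk y) :=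
    IsLocalization.isDomain_of_le_nonZeroDivisors
      ((Spec (CommRingCat.of R)).presheaf.stalk y)
      (Ideal.primeCompl_le_nonZeroDivisors y.asIdeal)
  refine ⟨hdom, ?_⟩
  by_cases hP : y.asIdeal = ⊥
  · refine ⟨0, ?_⟩
    rw [← IsLocalization.AtPrime.map_eq_maximalIdeal y.asIdeal, hP, Ideal.map_bot]
    exact (Ideal.span_singleton_eq_bot.mpr rfl).symm
  · haveI := IsLocalization.AtPrime.isDiscreteValuationRing_of_dedekind_domain R hP
      ((Spec (CommRingCat.of R)).presheaf.stalk y)
    obtain ⟨π, hπ⟩ := (IsPrincipalIdealRing.principal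
      (maximalIdeal ((Spec (CommRingCat.of R)).presheaf.stalk y))).principal
    exact ⟨π, hπ⟩

/-- the property transported along `fiberι_asFiber` -/
def RetractProp {X Y : Scheme.{u}} (f : X ⟶ Y) (x : X) : Prop :=
  IsRegularLocalRing (X.presheaf.stalk x ⧸
    (maximalIdeal (Y.presheaf.stalk (f x))).map (f.stalkMap x).hom) ∧
  (∀ b : X.presheaf.stalk x, ∃ a : Y.presheaf.stalk (f x),
    b - (f.stalkMap x).hom a ∈ maximalIdeal (X.presheaf.stalk x))

theorem mem_smoothLocus_fibre_of_retractProp {X Y : Scheme.{u}} (f : X ⟶ Y)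
    [LocallyOfFinitePresentation f] (y : Y) (z : f.fiber y)
    [LocallyOfFinitePresentation (f.fiberToSpecResidueField y)]
    (h : RetractProp f (f.fiberι y z)) :
    z ∈ (f.fiberToSpecResidueField y).smoothLocus := by
  obtain ⟨h1, h2⟩ := h
  have hγ : Function.Surjective ((f.fiberι y).stalkMap z).hom :=
    (f.fiberι y).stalkMap_surjective z
  have hk := Groth.Agent.Helper3.FibStalk.ker_stalkMap_fiberι f y z
  have hreg : IsRegularLocalRing ((f.fiber y).presheaf.stalk z) :=
    IsRegularLocalRing.of_ringEquiv ((Ideal.quotEquivOfEq hk.symm).trans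
      (RingHom.quotientKerEquivOfSurjective hγ))
  refine @Groth.Agent.Helper2.GrpSmoothUnit.mem_smoothLocus_of_isRegularLocalRing_of_surjective
    (Y.residueField y) _ _ (f.fiberToSpecResidueField y) ‹_› z hreg ?_
  intro c
  obtain ⟨c', rfl⟩ := IsLocalRing.residue_surjective c
  obtain ⟨b, rfl⟩ := hγ c'
  obtain ⟨a, ha⟩ := h2 b
  have e1 := Scheme.Hom.stalkMap_congr_hom _ _ (f.fiber_fac y) z
  rw [Scheme.Hom.stalkMap_comp, Scheme.Hom.stalkMap_comp] at e1
  have hsp : (f.fiberToSpecResidueField y ≫ Y.fromSpecResidueField y) z ⤳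
      (f.fiberι y ≫ f) z := specializes_of_eq (by rw [f.fiber_fac y])
  refine ⟨((Y.fromSpecResidueField y).stalkMap ((f.fiberToSpecResidueField y) z)).hom
    ((Y.presheaf.stalkSpecializes hsp).hom a), ?_⟩
  have e2 : ((f.fiberToSpecResidueField y).stalkMap z).hom
      (((Y.fromSpecResidueField y).stalkMap ((f.fiberToSpecResidueField y) z)).hom
        ((Y.presheaf.stalkSpecializes hsp).hom a)) =
      ((f.fiberι y).stalkMap z).hom ((f.stalkMap (f.fiberι y z)).hom a) := by
    have := congrArg (fun φ => φ.hom a) e1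
    exact this.symm
  show residue _ _ = residue _ _
  rw [e2, ← sub_eq_zero, ← map_sub, IsLocalRing.residue_eq_zero_iff, ← map_sub]
  have hloc : IsLocalHom ((f.fiberι y).stalkMap z).hom := inferInstance
  have h3 := ((IsLocalRing.local_hom_TFAE ((f.fiberι y).stalkMap z).hom).out 0 2 rfl rfl).mp hloc
  have h4 : (f.stalkMap (f.fiberι y z)).hom a - b ∈ maximalIdeal _ := by
    have := Ideal.neg_mem_iff _ |>.mpr ha
    simpa using this
  exact h3 (Ideal.mem_map_of_mem _ h4)


theorem retractProp_of_section {R : Type u} [CommRing R] [IsDedekindDomain R]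
    {X : Scheme.{u}} (p : X ⟶ Spec (CommRingCat.of R))
    (hreg : ∀ x : X, IsRegularLocalRing (X.presheaf.stalk x))
    (s : Spec (CommRingCat.of R) ⟶ X) (hs : s ≫ p = 𝟙 _) (t : Spec (CommRingCat.of R)) :
    RetractProp p (s t) := by
  haveI : IsIso (s ≫ p) := hs ▸ (inferInstance : IsIso (𝟙 (Spec (CommRingCat.of R))))
  haveI : IsIso ((s ≫ p).stalkMap t) := inferInstance
  let e : (Spec (CommRingCat.of R)).presheaf.stalk (p (s t)) ≃+*
      (Spec (CommRingCat.of R)).presheaf.stalk t :=
    (asIso ((s ≫ p).stalkMap t)).commRingCatIsoToRingEquiv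
  let σ : X.presheaf.stalk (s t) →+* (Spec (CommRingCat.of R)).presheaf.stalk (p (s t)) :=
    e.symm.toRingHom.comp (s.stalkMap t).hom
  have hσ : ∀ a, σ ((p.stalkMap (s t)).hom a) = a := by
    intro a
    show e.symm ((s.stalkMap t).hom ((p.stalkMap (s t)).hom a)) = a
    rw [RingEquiv.symm_apply_eq]
    have h1 := Scheme.Hom.stalkMap_comp s p t
    have := congrArg (fun φ => φ.hom a) h1
    exact this.symm
  haveI : IsLocalHom σ := by
    haveI : IsLocalHom e.symm.toRingHom :=
      ⟨fun a ha => by
        have := ha.map e.toRingHom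
        simpa using this⟩
    exact RingHom.isLocalHom_comp _ _
  obtain ⟨hdom, π, hπ⟩ := exists_principal (R := R) (p (s t))
  haveI := hdom
  haveI := hreg (s t)
  exact alg_key π hπ (p.stalkMap (s t)).hom σ hσ

/-- S11100 -/
theorem S11100_main {R : Type u} [CommRing R] [IsDedekindDomain R]
    {X : Scheme.{u}} (p : X ⟶ Spec (CommRingCat.of R)) [Flat p] [LocallyOfFinitePresentation p]
    (hreg : ∀ x : X, IsRegularLocalRing (X.presheaf.stalk x))
    (s : Spec (CommRingCat.of R) ⟶ X) (hs : s ≫ p = 𝟙 _) (t : Spec (CommRingCat.of R)) :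
    s.base t ∈ p.smoothLocus := by
  haveI hlfp : LocallyOfFinitePresentation (p.fiberToSpecResidueField (p (s t))) :=
    MorphismProperty.of_isPullback (P := @LocallyOfFinitePresentation)
      (IsPullback.of_hasPullback p ((Spec (CommRingCat.of R)).fromSpecResidueField (p (s t))))
      inferInstance
  rw [Groth.Agent.S2156.result p (s t)]
  refine ⟨Flat.stalkMap p (s t), ?_⟩
  apply mem_smoothLocus_fibre_of_retractProp p (p (s t)) (p.asFiber (s t))
  rw [p.fiberι_asFiber (s t)]
  exact retractProp_of_section p hreg s hs t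

end Groth.Agent.Lead.SecSm
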