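import Mathlib
import Groth.Agent.Lib.Lead.SeesawCor

/-!
# More corollaries of the seesaw theorem (lead): fibrewise conditions at closed points only
-/

set_option backward.isDefEq.respectTransparency.types false
set_option synthInstance.maxHeartbeats 400000
set_option autoImplicit false
set_option linter.style.haveILetI false
universe u
open CategoryTheory CategoryTheory.Limits AlgebraicGeometry TopologicalSpace Opposite

namespace Groth.Agent.Lead.SeesawCor

open Groth.Agent.Helper1 Groth.Agent.Lead.PicCalc

/-- seesaw over a reduced Jacobson base, with triviality known on the fibres over closed points -/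
theorem exists_of_trivial_closedPoints (H : SeesawStmt.{u}) {X Y : Scheme.{u}} (f : X ⟶ Y)
    [IsProper f] [Flat f] [IsLocallyNoetherian Y] [IsReduced Y] [JacobsonSpace Y]
    [GeometricallyIntegral f] (E : X.Modules) (hE : PicF.IsInvertible E)
    (h : ∀ y : Y, IsClosed ({y} : Set Y) → PicF.pullCl (f.fiberι y) (PicF.cl E) = 1) :
    ∃ N : Y.Modules, PicF.IsInvertible N ∧ PicF.cl E = PicF.pullCl f (PicF.cl N) := by
  haveI : GeometricallyConnected f := geomConnected_of_geomIrreducible f
  have hgeo : ∀ (K' : Type u) [Field K'] (x : Spec (CommRingCat.of K') ⟶ Y),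
      IsIntegral (pullback f x) := fun K' _ x =>
    GeometricallyIntegral.geometrically_isIntegral (f := f) x (pullback.fst f x)
      (pullback.snd f x) (IsPullback.of_hasPullback f x)
  have hZ := Groth.Agent.Lead.TrivLocus.isClosed_trivial_locus f hgeo E hE
  have hall : ∀ y : Y,
      Nonempty (CohIII.fiberMod f E y ≅ Coh.structureModule (f.fiber y)) := by
    have hsub : closedPoints Y ⊆
        {y | Nonempty (CohIII.fiberMod f E y ≅ Coh.structureModule (f.fiber y))} := by
      intro y hy
      apply nonempty_iso_of_cl_eq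
      exact h y hy
    have h2 := hZ.closure_subset_iff.mpr hsub
    rw [closure_closedPoints] at h2
    exact fun y => h2 (Set.mem_univ y)
  obtain ⟨N, hN, ⟨eN⟩⟩ := (H f (finrank_fiber_eq_one f) E hE).1.mpr hall
  exact ⟨N, hN, (cl_eq_of_iso eN).symm⟩

/-- two invertible modules isomorphic on the fibres over closed points differ by a pullback -/
theorem exists_iso_tensor_pullback_of_closedPoints (H : SeesawStmt.{u}) {X Y : Scheme.{u}}
    (f : X ⟶ Y) [IsProper f] [Flat f] [IsLocallyNoetherian Y] [IsReduced Y] [JacobsonSpace Y]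
    [GeometricallyIntegral f] (L M : X.Modules) (hL : PicF.IsInvertible L)
    (hM : PicF.IsInvertible M)
    (h : ∀ y : Y, IsClosed ({y} : Set Y) →
      Nonempty ((Scheme.Modules.pullback (f.fiberι y)).obj L ≅
        (Scheme.Modules.pullback (f.fiberι y)).obj M)) :
    ∃ N : Y.Modules, PicF.IsInvertible N ∧
      Nonempty (L ≅ CohB1.tensorMod M ((Scheme.Modules.pullback f).obj N)) := by
  obtain ⟨K, hK, ⟨e⟩⟩ := InvInv2.exists_inverse hM
  have hK1 : PicF.cl K * PicF.cl M = 1 := cl_eq_of_iso e
  have hE : PicF.IsInvertible (CohB1.tensorMod L K) := TwForm.isInvertible_tensorMod hL hK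
  obtain ⟨N, hN, hc⟩ := exists_of_trivial_closedPoints H f (CohB1.tensorMod L K) hE (by
    intro y hy
    rw [cl_tensor, pull_mul, pull_cl, pull_cl, cl_eq_of_iso (h y hy).some, ← pull_cl, ← pull_cl,
      ← pull_mul, mul_comm, hK1, pull_one])
  refine ⟨N, hN, ?_⟩
  apply nonempty_iso_of_cl_eq
  rw [cl_tensor, ← pull_cl, ← hc, cl_tensor, mul_comm (PicF.cl L), ← mul_assoc,
    mul_comm (PicF.cl M), hK1, one_mul]

end Groth.Agent.Lead.SeesawCor
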