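import Mathlib
import Groth.Agent.Lib.Lead.AffLoc
import Groth.Agent.Lib.Lead.FpqcGen6
import Groth.Agent.Lib.Lead.InvAff
import Groth.Agent.Lib.Helper4.Seesaw1

set_option autoImplicit false
universe u
open CategoryTheory CategoryTheory.Limits AlgebraicGeometry TopologicalSpace Opposite

namespace Groth.Agent.Lead.SemiLoc

open Groth.Agent.Helper1 Groth.Agent.Helper1.LGen

theorem pic_subsingleton_of_ringEquiv {R S : Type u} [CommRing R] [CommRing S] (e : R ≃+* S)
    [Subsingleton (CommRing.Pic R)] : Subsingleton (CommRing.Pic S) := by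
  constructor
  intro x y
  have h1 : ∀ z : CommRing.Pic S, CommRing.Pic.mapRingHom (e : R →+* S)
      (CommRing.Pic.mapRingHom (e.symm : S →+* R) z) = z := by
    intro z
    rw [CommRing.Pic.mapRingHom_mapRingHom]
    have : (e : R →+* S).comp (e.symm : S →+* R) = RingHom.id S := by
      ext s; simp
    rw [this, CommRing.Pic.mapRingHom_id_apply]
  rw [← h1 x, ← h1 y]
  congr 1
  exact Subsingleton.elim _ _

/-- every invertible module on the spectrum of a semilocal ring is trivial -/
theorem trivial_of_semilocal (C : CommRingCat.{u}) (hC : Finite (MaximalSpectrum C))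
    (N : (Spec C).Modules) (hN : PicF.IsInvertible N) :
    Nonempty (N ≅ Coh.structureModule (Spec C)) := by
  haveI : Subsingleton (CommRing.Pic C) := inferInstance
  haveI : Subsingleton (CommRing.Pic Γ(Spec C, ⊤)) :=
    pic_subsingleton_of_ringEquiv (Scheme.ΓSpecIso C).commRingCatIsoToRingEquiv.symm
  obtain ⟨a, ha⟩ := Groth.Agent.Lead.InvAff.exists_isGen_of_affine N hN
    (isAffineOpen_top (Spec C))
  exact Groth.Agent.Lib.Helper4.Seesaw1.nonempty_iso_of_isGen_top ha


open Groth.Agent.Lead.FpqcGen in
theorem s7671 (A B : Type u) [CommRing A] [CommRing B] [Algebra A B] [Module.FaithfullyFlat A B]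
    (X : Scheme.{u}) (f : X ⟶ Spec (CommRingCat.of A)) [CompactSpace X] [QuasiSeparatedSpace X]
    (hsl : Finite (MaximalSpectrum Γ(X, ⊤))) (L : X.Modules) (hL : PicF.IsInvertible L)
    (htriv : Nonempty ((Scheme.Modules.pullback
        (pullback.fst f (Spec.map (CommRingCat.ofHom (algebraMap A B))))).obj L ≅
      Coh.structureModule (pullback f (Spec.map (CommRingCat.ofHom (algebraMap A B)))))) :
    Nonempty (L ≅ Coh.structureModule X) := by
  set β := Spec.map (CommRingCat.ofHom (algebraMap A B)) with hβ
  let a : X ⟶ Spec Γ(X, ⊤) := X.toSpecΓ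
  let q : Spec Γ(X, ⊤) ⟶ Spec (CommRingCat.of A) :=
    Spec.map f.appTop ≫ (Spec (CommRingCat.of A)).isoSpec.inv
  have haq : a ≫ q = f := by
    change X.toSpecΓ ≫ Spec.map f.appTop ≫ (Spec (CommRingCat.of A)).isoSpec.inv = f
    rw [← Category.assoc, ← Scheme.toSpecΓ_naturality, Category.assoc]
    change f ≫ (Spec (CommRingCat.of A)).isoSpec.hom ≫ (Spec (CommRingCat.of A)).isoSpec.inv = f
    rw [Iso.hom_inv_id, Category.comp_id]
  haveI : Flat β := by
    rw [hβ, Flat.SpecMap_iff]
    exact (RingHom.flat_algebraMap_iff).2 inferInstance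
  haveI : Surjective β := by
    rw [hβ]
    constructor
    exact PrimeSpectrum.comap_surjective_of_faithfullyFlat
  haveI : QuasiCompact a := inferInstanceAs (QuasiCompact X.toSpecΓ)
  haveI : QuasiSeparated a := inferInstanceAs (QuasiSeparated X.toSpecΓ)
  let g := pullback.fst q β
  let g' := pullback.fst f β
  let f' : pullback f β ⟶ pullback q β :=
    pullback.lift (g' ≫ a) (pullback.snd f β) (by
      rw [Category.assoc, haq]; exact pullback.condition)
  have hpb : IsPullback g' f' a g := by
    have hbig : IsPullback (f' ≫ pullback.snd q β) g' β (a ≫ q) := by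
      have : f' ≫ pullback.snd q β = pullback.snd f β := pullback.lift_snd _ _ _
      rw [this, haq]
      exact (IsPullback.of_hasPullback f β).flip
    have hright : IsPullback (pullback.snd q β) g β q := (IsPullback.of_hasPullback q β).flip
    exact (IsPullback.of_right hbig (pullback.lift_fst _ _ _) hright).flip
  have hg : Formal2.PicPullbackInjective g := fun N hN _ =>
    trivial_of_semilocal Γ(X, ⊤) hsl N hN
  exact picPullbackInjective_of_isPullback a g g' f' hpb
    (Groth.Agent.Lead.AffLoc.toSpecΓ_app_bijective X) hg L hL htriv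

end Groth.Agent.Lead.SemiLoc
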