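import Mathlib
import Groth.Agent.Lib.Lead.InvAff
import Groth.Agent.Lib.Helper4.Seesaw1
import Groth.Agent.Lib.Helper4.SepFlatQ
import Groth.Agent.Lib.Helper1.PullGen2

set_option autoImplicit false
universe u
open CategoryTheory CategoryTheory.Limits AlgebraicGeometry TopologicalSpace Opposite

namespace Groth.Agent.Lead.SemiLoc2

open Groth.Agent.Helper1 Groth.Agent.Helper1.LGen

/-- every invertible module on an affine scheme with semilocal ring of functions is trivial -/
theorem trivial_of_affine_semilocal (Z : Scheme.{u}) [IsAffine Z]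
    (hZ : Finite (MaximalSpectrum Γ(Z, ⊤))) (N : Z.Modules) (hN : PicF.IsInvertible N) :
    Nonempty (N ≅ Coh.structureModule Z) := by
  haveI : Subsingleton (CommRing.Pic Γ(Z, ⊤)) := inferInstance
  obtain ⟨a, ha⟩ := Groth.Agent.Lead.InvAff.exists_isGen_of_affine N hN (isAffineOpen_top Z)
  exact Groth.Agent.Lib.Helper4.Seesaw1.nonempty_iso_of_isGen_top ha

/-- a scheme finite over the spectrum of a Noetherian local ring has trivial Picard group -/
theorem trivial_of_finite_over_local (R : Type u) [CommRing R] [IsLocalRing R] [IsNoetherianRing R]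
    {Z : Scheme.{u}} (h : Z ⟶ Spec (CommRingCat.of R)) [IsFinite h]
    (N : Z.Modules) (hN : PicF.IsInvertible N) : Nonempty (N ≅ Coh.structureModule Z) := by
  haveI : IsAffine Z := isAffine_of_isAffineHom h
  have hfin : h.appTop.hom.Finite := h.finite_appTop
  let φ : R →+* Γ(Z, ⊤) := h.appTop.hom.comp (Scheme.ΓSpecIso (CommRingCat.of R)).inv.hom
  have hφ : φ.Finite := by
    refine RingHom.Finite.comp hfin ?_
    apply RingHom.Finite.of_surjective
    exact ((ConcreteCategory.isIso_iff_bijective
      (Scheme.ΓSpecIso (CommRingCat.of R)).inv).1 inferInstance).2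
  algebraize [φ]
  exact trivial_of_affine_semilocal Z
    (Groth.Agent.Lib.Helper4.SepFlatQ.finite_maximalSpectrum R) N hN

end Groth.Agent.Lead.SemiLoc2
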