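import Mathlib.CategoryTheory.Sites.Pullback
import Mathlib.CategoryTheory.Sites.CoverLifting
import Mathlib.CategoryTheory.Sites.LeftExact
import Mathlib.CategoryTheory.Sites.Canonical

set_option autoImplicit false

universe u

namespace Groth.Agent.Lead

open CategoryTheory Opposite

variable {C : Type u} [SmallCategory C] {C' : Type u} [SmallCategory C']
  (J : GrothendieckTopology C) (K : GrothendieckTopology C') [J.Subcanonical] [K.Subcanonical]
  (u : C ⥤ C') [u.IsContinuous J K]

/-- presheaf-level comparison map `h_X ⟶ u^* h_{uX}`. -/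
def etaPre (X : C) : yoneda.obj X ⟶ u.op ⋙ yoneda.obj (u.obj X) where
  app Z := ↾fun f => u.map f
  naturality := by
    intro Z Z' g
    ext f
    simp

/-- sheaf-level comparison map. -/
def eta (X : C) : J.yoneda.obj X ⟶
    (u.sheafPushforwardContinuous (Type u) J K).obj (K.yoneda.obj (u.obj X)) :=
  ObjectProperty.homMk (etaPre u X)

theorem eta_naturality {X X' : C} (f : X' ⟶ X) :
    J.yoneda.map f ≫ eta J K u X =
      eta J K u X' ≫ (u.sheafPushforwardContinuous (Type u) J K).map (K.yoneda.map (u.map f)) := by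
  apply Sheaf.hom_ext
  ext Z g
  simp [eta, etaPre]
  exact u.map_comp g f

noncomputable def psi (X : C) :
    (u.sheafPullback (Type u) J K).obj (J.yoneda.obj X) ⟶ K.yoneda.obj (u.obj X) :=
  ((u.sheafAdjunctionContinuous (Type u) J K).homEquiv _ _).symm (eta J K u X)

theorem psi_naturality {X X' : C} (f : X' ⟶ X) :
    (u.sheafPullback (Type u) J K).map (J.yoneda.map f) ≫ psi J K u X =
      psi J K u X' ≫ K.yoneda.map (u.map f) := by
  apply ((u.sheafAdjunctionContinuous (Type u) J K).homEquiv _ _).injective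
  rw [Adjunction.homEquiv_naturality_left, Adjunction.homEquiv_naturality_right]
  simp only [psi, Equiv.apply_symm_apply]
  exact eta_naturality J K u f

end Groth.Agent.Lead

namespace Groth.Agent.Lead

open CategoryTheory Opposite

variable {C : Type u} [SmallCategory C] {C' : Type u} [SmallCategory C']
  (J : GrothendieckTopology C) (K : GrothendieckTopology C') [J.Subcanonical] [K.Subcanonical]
  (u : C ⥤ C') [u.IsContinuous J K]

noncomputable def e1 (X : C) (G : Sheaf K (Type u)) :
    (K.yoneda.obj (u.obj X) ⟶ G) ≃ G.obj.obj (op (u.obj X)) :=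
  (Sheaf.homEquiv).trans yonedaEquiv

noncomputable def e2 (X : C) (G : Sheaf K (Type u)) :
    ((u.sheafPullback (Type u) J K).obj (J.yoneda.obj X) ⟶ G) ≃ G.obj.obj (op (u.obj X)) :=
  ((u.sheafAdjunctionContinuous (Type u) J K).homEquiv _ _).trans
    ((Sheaf.homEquiv).trans yonedaEquiv)

theorem e2_psi_comp (X : C) (G : Sheaf K (Type u)) (k : K.yoneda.obj (u.obj X) ⟶ G) :
    e2 J K u X G (psi J K u X ≫ k) = e1 K u X G k := by
  unfold e2 e1 psi
  simp only [Equiv.trans_apply]
  rw [Adjunction.homEquiv_naturality_right, Equiv.apply_symm_apply]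
  change (ConcreteCategory.hom (k.hom.app (op (u.obj X)))) (u.map (𝟙 X)) =
    (ConcreteCategory.hom (k.hom.app (op (u.obj X)))) (𝟙 (u.obj X))
  rw [u.map_id]

instance psi_isIso (X : C) : IsIso (psi J K u X) := by
  apply isIso_of_coyoneda_map_bijective
  intro G
  have : (fun k : K.yoneda.obj (u.obj X) ⟶ G => psi J K u X ≫ k) =
      (e2 J K u X G).symm ∘ (e1 K u X G) := by
    funext k
    rw [Function.comp_apply, Equiv.eq_symm_apply]
    exact e2_psi_comp J K u X G k
  rw [this]
  exact (e2 J K u X G).symm.bijective.comp (e1 K u X G).bijective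

end Groth.Agent.Lead
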