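import Mathlib.CategoryTheory.Sites.Sheafification
import Mathlib.CategoryTheory.Sites.Closed
import Mathlib.CategoryTheory.Sites.LeftExact
import Mathlib.CategoryTheory.Sites.Limits
import Mathlib.CategoryTheory.Limits.Shapes.Products

set_option autoImplicit false

universe u

namespace Groth.Agent.Lead

open CategoryTheory CategoryTheory.Limits Opposite

section general

universe v' u'
variable {D : Type u'} [Category.{v'} D]

/-- A cofan is a colimit iff composition with injections is bijective for each target. -/
theorem cofan_nonempty_isColimit_iff_bijective {ι : Type*} {f : ι → D} (c : Cofan f) :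
    Nonempty (IsColimit c) ↔
      ∀ T : D, Function.Bijective (fun (g : c.pt ⟶ T) (i : ι) => c.inj i ≫ g) := by
  constructor
  · rintro ⟨hc⟩ T
    constructor
    · intro g g' h
      exact Cofan.IsColimit.hom_ext hc g g' (fun i => congrFun h i)
    · intro t
      exact ⟨Cofan.IsColimit.desc hc t, funext fun i => Cofan.IsColimit.fac hc t i⟩
  · intro h
    refine ⟨Cofan.IsColimit.mk c
      (fun t => (Equiv.ofBijective _ (h t.pt)).symm (fun i => t.inj i)) ?_ ?_⟩
    · intro t j
      have := (Equiv.ofBijective _ (h t.pt)).apply_symm_apply (fun i => t.inj i)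
      exact congrFun this j
    · intro t m hm
      rw [Equiv.eq_symm_apply]
      funext j
      exact hm j

end general

variable {C : Type u} [SmallCategory C] (J : GrothendieckTopology C)

/-- `Hom(a(yX), F) ≃ F(X)`. -/
noncomputable def shYEquiv (X : C) (F : Sheaf J (Type u)) :
    ((presheafToSheaf J (Type u)).obj (yoneda.obj X) ⟶ F) ≃ F.obj.obj (op X) :=
  ((sheafificationAdjunction J (Type u)).homEquiv (yoneda.obj X) F).trans yonedaEquiv

theorem shYEquiv_naturality {X Y : C} (f : Y ⟶ X) (F : Sheaf J (Type u))
    (g : (presheafToSheaf J (Type u)).obj (yoneda.obj X) ⟶ F) :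
    shYEquiv J Y F ((presheafToSheaf J (Type u)).map (yoneda.map f) ≫ g) =
      F.obj.map f.op (shYEquiv J X F g) := by
  unfold shYEquiv
  simp only [Equiv.trans_apply]
  rw [Adjunction.homEquiv_naturality_left, yonedaEquiv_naturality]

theorem nonempty_isColimit_cofan_sheafify_iff {X : C} {ι : Type u} (Y : ι → C)
    (s : ∀ i, Y i ⟶ X) :
    Nonempty (IsColimit (Cofan.mk ((presheafToSheaf J (Type u)).obj (yoneda.obj X))
      (fun i => (presheafToSheaf J (Type u)).map (yoneda.map (s i))))) ↔
    ∀ F : Sheaf J (Type u),
      Function.Bijective (fun (x : F.obj.obj (op X)) (i : ι) => F.obj.map (s i).op x) := by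
  rw [cofan_nonempty_isColimit_iff_bijective]
  refine forall_congr' fun F => ?_
  let P : (∀ i, (presheafToSheaf J (Type u)).obj (yoneda.obj (Y i)) ⟶ F) ≃
      (∀ i, F.obj.obj (op (Y i))) := Equiv.piCongrRight (fun i => shYEquiv J (Y i) F)
  let Ψ : ((presheafToSheaf J (Type u)).obj (yoneda.obj X) ⟶ F) →
      (∀ i, (presheafToSheaf J (Type u)).obj (yoneda.obj (Y i)) ⟶ F) :=
    fun g i => (presheafToSheaf J (Type u)).map (yoneda.map (s i)) ≫ g
  let R : F.obj.obj (op X) → (∀ i, F.obj.obj (op (Y i))) := fun x i => F.obj.map (s i).op x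
  have hcomm : R ∘ (shYEquiv J X F) = P ∘ Ψ := by
    funext g i
    simp only [Function.comp_apply, R, P, Ψ, Equiv.piCongrRight_apply, Pi.map_apply]
    rw [shYEquiv_naturality]
  change Function.Bijective Ψ ↔ Function.Bijective R
  rw [← Function.Bijective.of_comp_iff R (shYEquiv J X F).bijective, hcomm,
    Function.Bijective.of_comp_iff' P.bijective Ψ]

end Groth.Agent.Lead
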