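import Mathlib

set_option autoImplicit false
universe u
open CategoryTheory CategoryTheory.Limits MvPolynomial

namespace Groth.Agent.Lead.SmLift

section Pushout

variable {A B C D : CommRingCat.{u}} (f : A ⟶ B) (g : A ⟶ C)
    (inl : B ⟶ D) (inr : C ⟶ D) (w : f ≫ inl = g ≫ inr)
    (hf : Function.Surjective f.hom) (hinr : Function.Surjective inr.hom)
    (hker : RingHom.ker inr.hom ≤ Ideal.map g.hom (RingHom.ker f.hom))

include hker in
theorem ker_le_of_cocone (s : PushoutCocone f g) :
    RingHom.ker inr.hom ≤ RingHom.ker s.inr.hom := by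
  refine hker.trans ?_
  rw [Ideal.map_le_iff_le_comap]
  intro a ha
  rw [Ideal.mem_comap, RingHom.mem_ker]
  have h1 := congrArg (fun χ => χ.hom a) s.condition
  have h2 : s.inr.hom (g.hom a) = s.inl.hom (f.hom a) := h1.symm
  rw [h2, (RingHom.mem_ker).mp ha, map_zero]

/-- the descended map. -/
noncomputable def descOf (s : PushoutCocone f g) : D ⟶ s.pt :=
  CommRingCat.ofHom (RingHom.liftOfSurjective inr.hom hinr
      ⟨s.inr.hom, ker_le_of_cocone f g inr hker s⟩)

theorem descOf_apply (s : PushoutCocone f g) (c : C) :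
    (descOf f g inr hinr hker s).hom (inr.hom c) = s.inr.hom c :=
  RingHom.liftOfSurjective_comp_apply inr.hom hinr ⟨s.inr.hom, ker_le_of_cocone f g inr hker s⟩ c

include w hf hinr hker in
/-- a commutative square of commutative rings whose parallel sides are surjective, with the kernel
of the second generated by the kernel of the first, is a pushout. -/
theorem isPushout_of_surjective : IsPushout f g inl inr := by
  refine ⟨⟨w⟩, ⟨PushoutCocone.IsColimit.mk _
    (fun s => descOf f g inr hinr hker s) ?_ ?_ ?_⟩⟩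
  · intro s
    ext b
    obtain ⟨a, rfl⟩ := hf b
    have h1 := congrArg (fun χ => χ.hom a) w
    have h2 : inl.hom (f.hom a) = inr.hom (g.hom a) := h1
    change (descOf f g inr hinr hker s).hom (inl.hom (f.hom a)) = s.inl.hom (f.hom a)
    rw [h2, descOf_apply]
    have h4 := congrArg (fun χ => χ.hom a) s.condition
    exact h4.symm
  · intro s
    ext x
    exact descOf_apply f g inr hinr hker s x
  · intro s m _ hm
    ext d
    obtain ⟨c, rfl⟩ := hinr d
    have h1 := congrArg (fun χ => χ.hom c) hm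
    refine Eq.trans h1 ?_
    exact (descOf_apply f g inr hinr hker s c).symm

end Pushout

section Unit

theorem isUnit_of_map_of_sq_zero {R S : Type*} [CommRing R] [CommRing S] (ρ : R →+* S)
    (hρ : Function.Surjective ρ) (hk : RingHom.ker ρ ^ 2 = ⊥) (x : R) (hx : IsUnit (ρ x)) :
    IsUnit x := by
  obtain ⟨y, hy⟩ := hx.exists_right_inv
  obtain ⟨w, rfl⟩ := hρ y
  have h1 : x * w - 1 ∈ RingHom.ker ρ := by
    rw [RingHom.mem_ker, map_sub, map_mul, hy, map_one, sub_self]
  have h2 : (x * w - 1) ^ 2 = 0 := by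
    have : (x * w - 1) ^ 2 ∈ RingHom.ker ρ ^ 2 := Ideal.pow_mem_pow h1 2
    rw [hk] at this
    exact this
  have h3 : IsNilpotent (x * w - 1) := ⟨2, h2⟩
  have h4 : IsUnit (x * w - 1 + 1) := h3.isUnit_add_one
  rw [sub_add_cancel] at h4
  exact isUnit_of_mul_isUnit_left h4

end Unit

section Lift

variable {B' B S : Type u} [CommRing B'] [CommRing B] [CommRing S]

set_option maxHeartbeats 800000 in
theorem exists_flat_lift (φ : B' →+* B) (hφ : Function.Surjective φ)
    (hI : RingHom.ker φ ^ 2 = ⊥) (ψ : B →+* S) (hψ : ψ.IsStandardSmooth) :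
    ∃ (C' : Type u) (_ : CommRing C') (φ' : B' →+* C') (ρ : C' →+* S),
      ρ.comp φ' = ψ.comp φ ∧ Function.Surjective ρ ∧ φ'.Flat ∧
      RingHom.ker ρ ≤ Ideal.map φ' (RingHom.ker φ) := by
  algebraize [ψ]
  obtain ⟨ι, σ, hσ, hι, ⟨P⟩⟩ := (hψ : Algebra.IsStandardSmooth B S).out
  classical
  haveI : Fintype σ := Fintype.ofFinite σ
  have hΦ : Function.Surjective (MvPolynomial.map (σ := ι) φ) := MvPolynomial.map_surjective φ hφ
  choose v hv using fun j : σ => hΦ (P.relation j)
  let Q₀ : Algebra.PreSubmersivePresentation B' (MvPolynomial ι B' ⧸ Ideal.span (Set.range v)) ι σ :=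
    Algebra.PreSubmersivePresentation.naive (v := v) P.map P.map_inj
  let θ : MvPolynomial ι B' →+* S :=
    (aeval P.val : MvPolynomial ι B →ₐ[B] S).toRingHom.comp (MvPolynomial.map φ)
  have hθv : ∀ j, θ (v j) = 0 := by
    intro j
    change aeval P.val (MvPolynomial.map φ (v j)) = 0
    rw [hv]
    exact P.aeval_val_relation j
  have hθ : ∀ x ∈ Ideal.span (Set.range v), θ x = 0 := by
    intro x hx
    have : Ideal.span (Set.range v) ≤ RingHom.ker θ := by
      rw [Ideal.span_le]
      rintro _ ⟨j, rfl⟩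
      exact hθv j
    exact this hx
  let ρ : MvPolynomial ι B' ⧸ Ideal.span (Set.range v) →+* S :=
    Ideal.Quotient.lift _ θ hθ
  have hρmk : ∀ x, ρ (Ideal.Quotient.mk _ x) = θ x := fun x => Ideal.Quotient.lift_mk _ _ _
  have hθsurj : Function.Surjective θ := by
    intro c
    obtain ⟨p, hp⟩ := P.algebraMap_surjective c
    obtain ⟨p', rfl⟩ := hΦ p
    exact ⟨p', (P.algebraMap_apply _).symm.trans hp⟩
  have hρsurj : Function.Surjective ρ := by
    intro c
    obtain ⟨p, hp⟩ := hθsurj c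
    exact ⟨Ideal.Quotient.mk _ p, (hρmk p).trans hp⟩
  have hcomp : ρ.comp (algebraMap B' (MvPolynomial ι B' ⧸ Ideal.span (Set.range v))) =
      ψ.comp φ := by
    ext b
    change ρ (Ideal.Quotient.mk _ (C b)) = ψ (φ b)
    rw [hρmk]
    change aeval P.val (MvPolynomial.map φ (C b)) = ψ (φ b)
    rw [MvPolynomial.map_C, MvPolynomial.aeval_C]
    rfl
  have hker : RingHom.ker ρ ≤
      Ideal.map (algebraMap B' (MvPolynomial ι B' ⧸ Ideal.span (Set.range v))) (RingHom.ker φ) := by
    intro y hy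
    obtain ⟨x, rfl⟩ := Ideal.Quotient.mk_surjective y
    rw [RingHom.mem_ker, hρmk] at hy
    have h1 : MvPolynomial.map φ x ∈ P.ker := by
      rw [P.ker_eq_ker_aeval_val, RingHom.mem_ker]
      exact hy
    rw [← P.span_range_relation_eq_ker] at h1
    have h2 : Ideal.span (Set.range P.relation) =
        Ideal.map (MvPolynomial.map φ) (Ideal.span (Set.range v)) := by
      rw [Ideal.map_span]
      congr 1
      ext p
      constructor
      · rintro ⟨j, rfl⟩
        exact ⟨v j, ⟨j, rfl⟩, hv j⟩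
      · rintro ⟨_, ⟨j, rfl⟩, rfl⟩
        exact ⟨j, (hv j).symm⟩
    rw [h2] at h1
    obtain ⟨x', hx', hxx'⟩ := (Ideal.mem_map_iff_of_surjective _ hΦ).mp h1
    have h3 : x - x' ∈ RingHom.ker (MvPolynomial.map (σ := ι) φ) := by
      rw [RingHom.mem_ker, map_sub, hxx', sub_self]
    rw [MvPolynomial.ker_map] at h3
    have h4 : Ideal.Quotient.mk (Ideal.span (Set.range v)) x =
        Ideal.Quotient.mk (Ideal.span (Set.range v)) (x - x') := by
      rw [map_sub, Ideal.Quotient.eq_zero_iff_mem.mpr hx', sub_zero]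
    rw [h4]
    have h5 : Ideal.map (algebraMap B' (MvPolynomial ι B' ⧸ Ideal.span (Set.range v)))
        (RingHom.ker φ) = Ideal.map (Ideal.Quotient.mk (Ideal.span (Set.range v)))
          (Ideal.map (C : B' →+* MvPolynomial ι B') (RingHom.ker φ)) := by
      rw [Ideal.map_map]
      rfl
    rw [h5]
    exact Ideal.mem_map_of_mem _ h3
  have hker2 : RingHom.ker ρ ^ 2 = ⊥ := by
    rw [eq_bot_iff]
    refine (Ideal.pow_right_mono hker 2).trans ?_
    rw [← Ideal.map_pow, hI, Ideal.map_bot]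
  -- the jacobian
  have hjac : ρ Q₀.jacobian = P.jacobian := by
    rw [Algebra.PreSubmersivePresentation.jacobian_eq_jacobiMatrix_det,
      Algebra.PreSubmersivePresentation.jacobian_eq_jacobiMatrix_det]
    have hmk : ∀ x : MvPolynomial ι B', algebraMap Q₀.Ring
        (MvPolynomial ι B' ⧸ Ideal.span (Set.range v)) x = Ideal.Quotient.mk _ x := fun x => rfl
    rw [hmk, hρmk, P.algebraMap_apply]
    change aeval P.val (MvPolynomial.map φ Q₀.jacobiMatrix.det) = _
    congr 1
    rw [RingHom.map_det]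
    congr 1
    ext i j : 1
    rw [RingHom.mapMatrix_apply, Matrix.map_apply,
      Algebra.PreSubmersivePresentation.jacobiMatrix_naive,
      Algebra.PreSubmersivePresentation.jacobiMatrix_apply, ← MvPolynomial.pderiv_map, hv]
  have hunit : IsUnit Q₀.jacobian :=
    isUnit_of_map_of_sq_zero ρ hρsurj hker2 _ (hjac ▸ P.jacobian_isUnit)
  let Q : Algebra.SubmersivePresentation B' (MvPolynomial ι B' ⧸ Ideal.span (Set.range v)) ι σ :=
    { toPreSubmersivePresentation := Q₀, jacobian_isUnit := hunit }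
  haveI : Algebra.IsStandardSmooth B' (MvPolynomial ι B' ⧸ Ideal.span (Set.range v)) :=
    Q.isStandardSmooth
  refine ⟨MvPolynomial ι B' ⧸ Ideal.span (Set.range v), inferInstance,
    algebraMap B' _, ρ, hcomp, hρsurj, ?_, hker⟩
  rw [RingHom.flat_algebraMap_iff]
  infer_instance

end Lift


section Cat

/-- a standard smooth algebra over `B = B'/I`, `I² = 0`, lifts to a flat `B'`-algebra. -/
theorem exists_flat_pushout {B' B S : CommRingCat.{u}} (φ : B' ⟶ B)
    (hφ : Function.Surjective φ.hom) (hI : RingHom.ker φ.hom ^ 2 = ⊥) (ψ : B ⟶ S)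
    (hψ : ψ.hom.IsStandardSmooth) :
    ∃ (S' : CommRingCat.{u}) (φ' : B' ⟶ S') (ρ : S' ⟶ S), IsPushout φ φ' ψ ρ ∧
      Function.Surjective ρ.hom ∧ φ'.hom.Flat ∧ RingHom.ker ρ.hom ^ 2 = ⊥ := by
  obtain ⟨C', hC', φ', ρ, hcomp, hsurj, hflat, hker⟩ := exists_flat_lift φ.hom hφ hI ψ.hom hψ
  letI := hC'
  refine ⟨CommRingCat.of C', CommRingCat.ofHom φ', CommRingCat.ofHom ρ, ?_, hsurj, hflat, ?_⟩
  · apply isPushout_of_surjective φ (CommRingCat.ofHom φ') ψ (CommRingCat.ofHom ρ) ?_ hφ hsurj hker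
    ext x
    exact (congrArg (fun χ => χ x) hcomp).symm
  · change RingHom.ker ρ ^ 2 = ⊥
    rw [eq_bot_iff]
    refine (Ideal.pow_right_mono hker 2).trans ?_
    rw [← Ideal.map_pow, hI, Ideal.map_bot]

end Cat

end Groth.Agent.Lead.SmLift
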