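import Mathlib
import Groth.Prelude.Def_MoreMor
import Groth.Agent.Lib.Lead.SmLift1

set_option autoImplicit false
universe u
open CategoryTheory CategoryTheory.Limits AlgebraicGeometry TopologicalSpace Opposite

set_option backward.isDefEq.respectTransparency.types false

namespace Groth.Agent.Lead.SmLift

section Std

variable {Y P : Scheme.{u}} (π : P ⟶ Y) [Smooth π]

/-- around a point of the source of a smooth morphism, over a given affine open of the target,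
there is an affine open on which the morphism is standard smooth. -/
theorem exists_isStandardSmooth_over {V : Y.Opens} (hV : IsAffineOpen V) (x : P) (O : P.Opens)
    (hxO : x ∈ O) (hOV : O ≤ π ⁻¹ᵁ V) :
    ∃ (W : P.Opens) (hW : IsAffineOpen W) (e : W ≤ π ⁻¹ᵁ V), x ∈ W ∧ W ≤ O ∧
      (π.appLE V W e).hom.IsStandardSmooth := by
  obtain ⟨_, ⟨W₀, hW₀, rfl⟩, hxW₀, hW₀O⟩ := P.isBasis_affineOpens.exists_subset_of_mem_open hxO O.2
  have e₀ : W₀ ≤ π ⁻¹ᵁ V := fun _ h => hOV (hW₀O h)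
  have hsm : (π.appLE V W₀ e₀).hom.Smooth := π.smooth_appLE hV hW₀ e₀
  rw [RingHom.smooth_iff_locally_isStandardSmooth] at hsm
  obtain ⟨s, hs, hstd⟩ := hsm
  have hcov := iSup_basicOpen_of_span_eq_top W₀ s hs
  have hx : x ∈ (⨆ i ∈ s, P.basicOpen i : P.Opens) := by rw [hcov]; exact hxW₀
  simp only [Opens.mem_iSup] at hx
  obtain ⟨g, hg, hxg⟩ := hx
  have hle : P.basicOpen g ≤ W₀ := P.basicOpen_le g
  refine ⟨P.basicOpen g, hW₀.basicOpen g, hle.trans e₀, hxg, fun _ h => hW₀O (hle h), ?_⟩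
  haveI := hW₀.isLocalization_basicOpen g
  let eq : Localization.Away g ≃ₐ[Γ(P, W₀)] Γ(P, P.basicOpen g) :=
    IsLocalization.algEquiv (Submonoid.powers g) _ _
  have h1 := RingHom.isStandardSmooth_respectsIso.1 _ eq.toRingEquiv (hstd g hg)
  have h2 : eq.toRingEquiv.toRingHom.comp
      ((algebraMap Γ(P, W₀) (Localization.Away g)).comp (π.appLE V W₀ e₀).hom) =
      (π.appLE V (P.basicOpen g) (hle.trans e₀)).hom := by
    rw [← RingHom.comp_assoc]
    have h3 : eq.toRingEquiv.toRingHom.comp (algebraMap Γ(P, W₀) (Localization.Away g)) =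
        algebraMap Γ(P, W₀) Γ(P, P.basicOpen g) := by
      ext r
      exact eq.commutes r
    rw [h3]
    have h4 : algebraMap Γ(P, W₀) Γ(P, P.basicOpen g) =
        (P.presheaf.map (homOfLE hle).op).hom := rfl
    rw [h4, ← CommRingCat.hom_comp, Scheme.Hom.appLE_map]
  rw [h2] at h1
  exact h1

end Std


section Lift

variable {Y Y' P : Scheme.{u}} (j : Y ⟶ Y') (hj : MoreMor.IsFirstOrderThickening j)
  (π : P ⟶ Y) [Smooth π]

include hj in
theorem ker_app_sq_eq_bot {V' : Y'.Opens} (hV' : IsAffineOpen V') :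
    RingHom.ker (j.appLE V' (j ⁻¹ᵁ V') le_rfl).hom ^ 2 = ⊥ := by
  haveI : IsClosedImmersion j := hj.1.1
  have h1 : RingHom.ker (j.appLE V' (j ⁻¹ᵁ V') le_rfl).hom = j.ker.ideal ⟨V', hV'⟩ := by
    rw [Scheme.Hom.appLE_eq_app, Scheme.Hom.ker_apply]
  rw [h1, pow_two]
  have h2 := congrArg (fun I => Scheme.IdealSheafData.ideal I ⟨V', hV'⟩) hj.2
  rw [Scheme.IdealSheafData.ideal_mul] at h2
  exact h2

include hj in
/-- a smooth scheme over `Y` lifts, locally, to a flat scheme over a first order thickening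
of `Y`. -/
theorem exists_flat_lift_scheme (x : P) (O : P.Opens) (hxO : x ∈ O) :
    ∃ (W : P.Opens) (P' : Scheme.{u}) (t : (W : Scheme.{u}) ⟶ P') (π' : P' ⟶ Y'),
      x ∈ W ∧ W ≤ O ∧ IsAffineOpen W ∧ IsAffine P' ∧ IsClosedImmersion t ∧ Flat π' ∧
      IsPullback t (W.ι ≫ π) π' j := by
  haveI : IsClosedImmersion j := hj.1.1
  obtain ⟨_, ⟨V', hV', rfl⟩, hyV', -⟩ := Y'.isBasis_affineOpens.exists_subset_of_mem_open
    (Set.mem_univ (j (π x))) isOpen_univ
  have hV : IsAffineOpen (j ⁻¹ᵁ V') := hV'.preimage j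
  have hxO' : x ∈ O ⊓ π ⁻¹ᵁ (j ⁻¹ᵁ V') := ⟨hxO, hyV'⟩
  obtain ⟨W, hW, e, hxW, hWO, hstd⟩ := exists_isStandardSmooth_over π hV x
    (O ⊓ π ⁻¹ᵁ (j ⁻¹ᵁ V')) hxO' inf_le_right
  have hsurj : Function.Surjective (j.appLE V' (j ⁻¹ᵁ V') le_rfl).hom := by
    rw [Scheme.Hom.appLE_eq_app]
    exact j.app_surjective V' hV'
  obtain ⟨S', φ', ρ, hpo, hρ, hflat, -⟩ := exists_flat_pushout (j.appLE V' (j ⁻¹ᵁ V') le_rfl)
    hsurj (ker_app_sq_eq_bot j hj hV') (π.appLE (j ⁻¹ᵁ V') W e) hstd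
  have hpb1 := (isPullback_SpecMap_of_isPushout _ _ _ _ hpo).flip
  have hpb2 : IsPullback (Spec.map (j.appLE V' (j ⁻¹ᵁ V') le_rfl)) hV.fromSpec hV'.fromSpec j := by
    apply IsOpenImmersion.isPullback
    · exact (IsAffineOpen.SpecMap_appLE_fromSpec j hV' hV le_rfl).symm
    · rw [hV'.opensRange_fromSpec, hV.opensRange_fromSpec]
  have hpb3 := hpb1.paste_vert hpb2
  haveI : IsClosedImmersion (Spec.map ρ) := IsClosedImmersion.spec_of_surjective ρ hρ
  haveI : Flat (Spec.map φ') := Flat.SpecMap_iff.mpr hflat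
  refine ⟨W, Spec S', hW.isoSpec.hom ≫ Spec.map ρ, Spec.map φ' ≫ hV'.fromSpec, hxW,
    hWO.trans inf_le_left, hW, inferInstance, inferInstance, inferInstance, ?_⟩
  have hleft : hW.isoSpec.hom ≫ Spec.map (π.appLE (j ⁻¹ᵁ V') W e) ≫ hV.fromSpec = W.ι ≫ π := by
    rw [IsAffineOpen.SpecMap_appLE_fromSpec π hV hW e, ← Category.assoc, hW.isoSpec_hom_fromSpec]
  rw [← hleft]
  exact IsPullback.of_iso hpb3 hW.isoSpec.symm (Iso.refl _) (Iso.refl _) (Iso.refl _)
    (by simp) (by simp) (by simp) (by simp)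

end Lift

end Groth.Agent.Lead.SmLift
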