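import Mathlib
import Groth.Prelude
import Groth.Agent.Lib.Lead.SmLoc1
import Groth.Agent.Lib.Helper3.FibDepth

/-!
# Dimension and depth of local rings at smooth points
-/

set_option autoImplicit false
set_option backward.isDefEq.respectTransparency.types false
set_option synthInstance.maxHeartbeats 400000
set_option linter.style.haveILetI false
set_option linter.unusedSectionVars false

universe u

open AlgebraicGeometry CategoryTheory Limits TensorProduct

namespace Groth.Agent.Lead.SmLoc

open IsLocalRing LocCoh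

section Alg

variable (A B : Type u) [CommRing A] [CommRing B] [IsNoetherianRing A] [IsNoetherianRing B]
  [Algebra A B] [Module.Flat A B]

theorem dim_add_depth_atPrime_of_fibre (Q : Ideal B) [Q.IsPrime]
    (hF : IsRegularLocalRing (EGA4.FibLocRing A B Q)) :
    ringKrullDim (Localization.AtPrime Q) +
        ((depth (Localization.AtPrime (Q.comap (algebraMap A B)))
          (Localization.AtPrime (Q.comap (algebraMap A B))) : ℕ∞) : WithBot ℕ∞) =
      ringKrullDim (Localization.AtPrime (Q.comap (algebraMap A B))) +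
        ((depth (Localization.AtPrime Q) (Localization.AtPrime Q) : ℕ∞) : WithBot ℕ∞) := by
  haveI : Q.LiesOver (Q.comap (algebraMap A B)) := ⟨rfl⟩
  letI := Localization.AtPrime.algebraOfLiesOver (Q.comap (algebraMap A B)) Q
  haveI : IsLocalHom (algebraMap (Localization.AtPrime (Q.comap (algebraMap A B)))
      (Localization.AtPrime Q)) := by
    rw [RingHom.algebraMap_toAlgebra]
    exact Localization.isLocalHom_localRingHom _ Q (algebraMap A B) Ideal.LiesOver.over
  have hideal : (maximalIdeal (Localization.AtPrime (Q.comap (algebraMap A B)))).map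
      (algebraMap (Localization.AtPrime (Q.comap (algebraMap A B))) (Localization.AtPrime Q)) =
      (Q.comap (algebraMap A B)).map (algebraMap A (Localization.AtPrime Q)) := by
    rw [← Localization.AtPrime.map_eq_maximalIdeal, Ideal.map_map,
      ← IsScalarTower.algebraMap_eq]
  haveI hF' : IsRegularLocalRing (Localization.AtPrime Q ⧸
      (maximalIdeal (Localization.AtPrime (Q.comap (algebraMap A B)))).map
      (algebraMap (Localization.AtPrime (Q.comap (algebraMap A B))) (Localization.AtPrime Q))) :=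
    IsRegularLocalRing.of_ringEquiv (Ideal.quotEquivOfEq hideal.symm)
  have hCM := Groth.Agent.Helper8.FlatReg.isCohenMacaulayLocalRing_of_isRegularLocalRing
    (Localization.AtPrime Q ⧸
      (maximalIdeal (Localization.AtPrime (Q.comap (algebraMap A B)))).map
      (algebraMap (Localization.AtPrime (Q.comap (algebraMap A B))) (Localization.AtPrime Q)))
  have h1 := Groth.Agent.Helper8.FlatReg.ringKrullDim_eq_add_of_flat
    (Localization.AtPrime (Q.comap (algebraMap A B))) (Localization.AtPrime Q)
  have h2 := Groth.Agent.Helper8.FlatReg.depth_eq_add_of_flat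
    (Localization.AtPrime (Q.comap (algebraMap A B))) (Localization.AtPrime Q)
  have h3 := Groth.Agent.Helper3.FibDepth.depth_eq_dim_of_cm _ hCM
  rw [h1, h2, h3]
  push_cast
  rw [add_assoc]
  congr 1
  rw [add_comm]

end Alg

end Groth.Agent.Lead.SmLoc

namespace Groth.Agent.Lead.SmLoc

open IsLocalRing LocCoh

variable {X Y : Scheme.{u}} (f : X ⟶ Y)

theorem dim_add_depth_congr {R : Type u} [CommRing R] (p p' : Ideal R) [p.IsPrime]
    [p'.IsPrime] (h : p' = p) :
    ringKrullDim (Localization.AtPrime p') = ringKrullDim (Localization.AtPrime p) ∧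
      depth (Localization.AtPrime p') (Localization.AtPrime p') =
        depth (Localization.AtPrime p) (Localization.AtPrime p) := by
  subst h
  exact ⟨rfl, rfl⟩

theorem S5025_main [IsLocallyNoetherian Y] [LocallyOfFiniteType f] (x : X)
    (hx : ∃ U : X.Opens, x ∈ U ∧ Smooth (U.ι ≫ f)) :
    ringKrullDim (X.presheaf.stalk x) +
        ((depth (Y.presheaf.stalk (f.base x)) (Y.presheaf.stalk (f.base x)) : ℕ∞) : WithBot ℕ∞) =
      ringKrullDim (Y.presheaf.stalk (f.base x)) +
        ((depth (X.presheaf.stalk x) (X.presheaf.stalk x) : ℕ∞) : WithBot ℕ∞) := by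
  have hx' := mem_smoothLocus_of_exists f x hx
  obtain ⟨V, hV, W, hW, hWV, hxW, H⟩ := exists_smooth_of_formallySmooth_stalk f x hx'
  algebraize [(f.appLE V W hWV).hom]
  let p := (hV.primeIdealOf ⟨f x, hWV hxW⟩).asIdeal
  let q := (hW.primeIdealOf ⟨x, hxW⟩).asIdeal
  haveI hqp : q.LiesOver p :=
    ⟨congr($(IsAffineOpen.comap_primeIdealOf_appLE V hV W hW hWV hxW).1).symm⟩
  letI := Y.presheaf.algebra_section_stalk ⟨f x, hWV hxW⟩
  haveI := hV.isLocalization_stalk ⟨f x, hWV hxW⟩
  letI := X.presheaf.algebra_section_stalk ⟨x, hxW⟩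
  haveI := hW.isLocalization_stalk ⟨x, hxW⟩
  let eA : Y.presheaf.stalk (f x) ≃+* Localization.AtPrime p :=
    (IsLocalization.algEquiv p.primeCompl (Y.presheaf.stalk (f x))
      (Localization.AtPrime p)).toRingEquiv
  let eB : X.presheaf.stalk x ≃+* Localization.AtPrime q :=
    (IsLocalization.algEquiv q.primeCompl (X.presheaf.stalk x)
      (Localization.AtPrime q)).toRingEquiv
  haveI : IsNoetherianRing Γ(Y, V) := IsLocallyNoetherian.component_noetherian ⟨V, hV⟩
  haveI : IsNoetherianRing Γ(X, W) := Algebra.FiniteType.isNoetherianRing Γ(Y, V) Γ(X, W)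
  have hp : q.comap (algebraMap Γ(Y, V) Γ(X, W)) = p := (hqp.over).symm
  have hreg := Groth.Agent.Helper3.RegSm.isRegularHom_of_smooth Γ(Y, V) Γ(X, W)
  have h1 := (hreg.2 (q.comap (algebraMap Γ(Y, V) Γ(X, W)))).2
    (q.comap (algebraMap Γ(Y, V) Γ(X, W))).ResidueField inferInstance
  have h2 : IsRegularRing ((q.comap (algebraMap Γ(Y, V) Γ(X, W))).Fiber Γ(X, W)) :=
    @IsRegularRing.of_ringEquiv _ _ _ _
      (Algebra.TensorProduct.lid (q.comap (algebraMap Γ(Y, V) Γ(X, W))).ResidueField _).toRingEquiv
      h1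
  have hF := Groth.Agent.Helper8.CompFib.isRegularLocalRing_fibLocRing_of_fiber
    Γ(Y, V) Γ(X, W) q h2
  have key := dim_add_depth_atPrime_of_fibre Γ(Y, V) Γ(X, W) q hF
  obtain ⟨hc1, hc2⟩ := dim_add_depth_congr p _ hp
  rw [hc1, hc2] at key
  rw [ringKrullDim_eq_of_ringEquiv eB, ringKrullDim_eq_of_ringEquiv eA,
    ← Groth.Agent.Helper8.Serre.depth_self_eq_of_ringEquiv eB,
    ← Groth.Agent.Helper8.Serre.depth_self_eq_of_ringEquiv eA]
  exact key

end Groth.Agent.Lead.SmLoc
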