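import Mathlib
import Groth.Prelude
import Groth.Agent.Lib.Lead.SmLoc3
import Groth.Agent.Lib.Lead.SmLoc2
import Groth.Agent.Lib.Helper8.Fib6
import Groth.Agent.Lib.Helper8.CplQuot2
import Groth.Agent.Lib.Helper8.Serre3

/-!
# Serre's conditions for local rings at smooth points
-/

set_option autoImplicit false
set_option backward.isDefEq.respectTransparency.types false
set_option synthInstance.maxHeartbeats 400000
set_option linter.style.haveILetI false
set_option linter.unusedSectionVars false

universe u

open AlgebraicGeometry CategoryTheory Limits TensorProduct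

namespace Groth.Agent.Lead.SmLoc

open IsLocalRing LocCoh

theorem hasRk_of_ringEquiv {R S : Type u} [CommRing R] [CommRing S] (e : R ≃+* S) (k : ℕ)
    (h : HasRk k R) : HasRk k S := by
  intro q _ hq
  haveI : (q.comap (e : R →+* S)).IsPrime := Ideal.comap_isPrime _ _
  let e' : Localization.AtPrime (q.comap (e : R →+* S)) ≃+* Localization.AtPrime q :=
    Localization.localRingEquiv (q.comap (e : R →+* S)) q e rfl
  have hh : (q.comap (e : R →+* S)).height ≤ k := by
    have := RingEquiv.height_comap e q
    exact this.le.trans hq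
  haveI := h (q.comap (e : R →+* S)) hh
  exact IsRegularLocalRing.of_ringEquiv e'

theorem hasSk_atPrime_congr {R : Type u} [CommRing R] (k : ℕ) (p p' : Ideal R) [p.IsPrime]
    [p'.IsPrime] (h : p' = p)
    (hr : HasSk k (Localization.AtPrime p) (Localization.AtPrime p)) :
    HasSk k (Localization.AtPrime p') (Localization.AtPrime p') := by
  subst h
  exact hr

theorem hasRk_atPrime_congr {R : Type u} [CommRing R] (k : ℕ) (p p' : Ideal R) [p.IsPrime]
    [p'.IsPrime] (h : p' = p)
    (hr : HasRk k (Localization.AtPrime p)) :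
    HasRk k (Localization.AtPrime p') := by
  subst h
  exact hr

section Alg

variable (A B : Type u) [CommRing A] [CommRing B] [IsNoetherianRing A] [IsNoetherianRing B]
  [Algebra A B] [Algebra.Smooth A B]

theorem isRegularLocalRing_fibLocRing_of_smooth (q : Ideal B) [q.IsPrime] :
    IsRegularLocalRing (EGA4.FibLocRing A B q) := by
  have hreg := Groth.Agent.Helper3.RegSm.isRegularHom_of_smooth A B
  have h1 := (hreg.2 (q.comap (algebraMap A B))).2
    (q.comap (algebraMap A B)).ResidueField inferInstance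
  have h2 : IsRegularRing ((q.comap (algebraMap A B)).Fiber B) :=
    @IsRegularRing.of_ringEquiv _ _ _ _
      (Algebra.TensorProduct.lid (q.comap (algebraMap A B)).ResidueField _).toRingEquiv
      h1
  exact Groth.Agent.Helper8.CompFib.isRegularLocalRing_fibLocRing_of_fiber A B q h2

theorem hasSk_atPrime_iff_of_smooth (k : ℕ) (q : Ideal B) [q.IsPrime] :
    HasSk k (Localization.AtPrime q) (Localization.AtPrime q) ↔
      HasSk k (Localization.AtPrime (q.comap (algebraMap A B)))
        (Localization.AtPrime (q.comap (algebraMap A B))) := by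
  constructor
  · intro h
    letI := (Localization.localRingHom (q.comap (algebraMap A B)) q (algebraMap A B)
      rfl).toAlgebra
    haveI := faithfullyFlat_localRingHom A B q
    exact Groth.Agent.Helper8.Fib.hasSk_of_faithfullyFlat
      (Localization.AtPrime (q.comap (algebraMap A B))) (Localization.AtPrime q) k h
  · intro h
    refine Groth.Agent.Helper8.FlatReg.hasSk_atPrime_of_fibres A B k ?_ q h
    intro q' _
    haveI := isRegularLocalRing_fibLocRing_of_smooth A B q'
    exact Groth.Agent.Helper8.Serre.hasSk_of_isRegularLocalRing k _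

theorem hasRk_atPrime_iff_of_smooth (k : ℕ) (q : Ideal B) [q.IsPrime] :
    HasRk k (Localization.AtPrime q) ↔
      HasRk k (Localization.AtPrime (q.comap (algebraMap A B))) := by
  constructor
  · intro h
    exact Groth.Agent.Helper8.FlatReg.hasRkAt_base_of_flat k A B q h
  · intro h
    refine Groth.Agent.Helper8.FlatReg.hasRk_atPrime_of_fibres A B k ?_ q h
    intro q' _
    haveI := isRegularLocalRing_fibLocRing_of_smooth A B q'
    exact Groth.Agent.Helper8.Serre.hasRk_of_isRegularLocalRing k _

end Alg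

variable {X Y : Scheme.{u}} (f : X ⟶ Y)

theorem S5024_main [IsLocallyNoetherian Y] [LocallyOfFiniteType f] (x : X)
    (hx : ∃ U : X.Opens, x ∈ U ∧ Smooth (U.ι ≫ f)) (n : ℕ) :
    (HasSk n (X.presheaf.stalk x) (X.presheaf.stalk x) ↔
        HasSk n (Y.presheaf.stalk (f.base x)) (Y.presheaf.stalk (f.base x))) ∧
      (HasRk n (X.presheaf.stalk x) ↔ HasRk n (Y.presheaf.stalk (f.base x))) := by
  have hx' := mem_smoothLocus_of_exists f x hx
  obtain ⟨V, hV, W, hW, hWV, hxW, H⟩ := exists_smooth_of_formallySmooth_stalk f x hx'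
  algebraize [(f.appLE V W hWV).hom]
  let p := (hV.primeIdealOf ⟨f x, hWV hxW⟩).asIdeal
  let q := (hW.primeIdealOf ⟨x, hxW⟩).asIdeal
  haveI hqp : q.LiesOver p :=
    ⟨congr($(IsAffineOpen.comap_primeIdealOf_appLE V hV W hW hWV hxW).1).symm⟩
  letI := Y.presheaf.algebra_section_stalk ⟨f x, hWV hxW⟩
  haveI := hV.isLocalization_stalk ⟨f x, hWV hxW⟩
  letI := X.presheaf.algebra_section_stalk ⟨x, hxW⟩
  haveI := hW.isLocalization_stalk ⟨x, hxW⟩
  let eA : Y.presheaf.stalk (f x) ≃+* Localization.AtPrime p :=
    (IsLocalization.algEquiv p.primeCompl (Y.presheaf.stalk (f x))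
      (Localization.AtPrime p)).toRingEquiv
  let eB : X.presheaf.stalk x ≃+* Localization.AtPrime q :=
    (IsLocalization.algEquiv q.primeCompl (X.presheaf.stalk x)
      (Localization.AtPrime q)).toRingEquiv
  haveI : IsNoetherianRing Γ(Y, V) := IsLocallyNoetherian.component_noetherian ⟨V, hV⟩
  haveI : IsNoetherianRing Γ(X, W) := Algebra.FiniteType.isNoetherianRing Γ(Y, V) Γ(X, W)
  have hp : q.comap (algebraMap Γ(Y, V) Γ(X, W)) = p := (hqp.over).symm
  have hS := hasSk_atPrime_iff_of_smooth Γ(Y, V) Γ(X, W) n q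
  have hR := hasRk_atPrime_iff_of_smooth Γ(Y, V) Γ(X, W) n q
  refine ⟨⟨fun h => ?_, fun h => ?_⟩, ⟨fun h => ?_, fun h => ?_⟩⟩
  · have h1 := hS.mp (Groth.Agent.Helper8.CplQuot.hasSk_of_ringEquiv eB n h)
    exact Groth.Agent.Helper8.CplQuot.hasSk_of_ringEquiv eA.symm n
      (hasSk_atPrime_congr n _ p hp.symm h1)
  · have h1 := Groth.Agent.Helper8.CplQuot.hasSk_of_ringEquiv eA n h
    exact Groth.Agent.Helper8.CplQuot.hasSk_of_ringEquiv eB.symm n
      (hS.mpr (hasSk_atPrime_congr n p _ hp h1))
  · have h1 := hR.mp (hasRk_of_ringEquiv eB n h)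
    exact hasRk_of_ringEquiv eA.symm n (hasRk_atPrime_congr n _ p hp.symm h1)
  · have h1 := hasRk_of_ringEquiv eA n h
    exact hasRk_of_ringEquiv eB.symm n (hR.mpr (hasRk_atPrime_congr n p _ hp h1))

end Groth.Agent.Lead.SmLoc
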