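import Mathlib

/-!
# Purely inseparable residue extensions of primes of a tensor product (lead, for S1380)
-/

set_option autoImplicit false
set_option backward.isDefEq.respectTransparency.types false
set_option synthInstance.maxHeartbeats 400000
set_option linter.style.haveILetI false
set_option linter.unusedSectionVars false

universe u v w
open TensorProduct

namespace Groth.Agent.Lead.SplitInt
noncomputable section

/-- Abstract criterion: if `K → κ(r)` is a ring map from a field into the residue field of a
prime `r` of `T`, and all of `T` maps into the perfect closure, then `κ(r)` is purely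
inseparable over `K`. -/
theorem isPurelyInseparable_of_forall_mem_perfectClosure {T : Type*} [CommRing T] (r : Ideal T)
    [r.IsPrime] {K : Type*} [Field K] (φ : K →+* r.ResidueField) :
    letI := φ.toAlgebra
    (∀ t : T, algebraMap T r.ResidueField t ∈ perfectClosure K r.ResidueField) →
    IsPurelyInseparable K r.ResidueField := by
  letI := φ.toAlgebra
  intro hmem
  rw [isPurelyInseparable_iff_perfectClosure_eq_top]
  rw [eq_top_iff]
  intro x _
  obtain ⟨⟨a, b⟩, hab⟩ := IsLocalization.surj (nonZeroDivisors (T ⧸ r)) x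
  obtain ⟨a', rfl⟩ := Ideal.Quotient.mk_surjective a
  obtain ⟨b', hb'⟩ := Ideal.Quotient.mk_surjective (b : T ⧸ r)
  simp only [← hb', Ideal.algebraMap_quotient_residueField_mk] at hab
  have hb0 : algebraMap T r.ResidueField b' ≠ 0 := by
    intro h
    rw [Ideal.algebraMap_residueField_eq_zero] at h
    have : (b : T ⧸ r) = 0 := by rw [← hb']; exact Ideal.Quotient.eq_zero_iff_mem.mpr h
    exact nonZeroDivisors.coe_ne_zero b this
  have hx : x = algebraMap T r.ResidueField a' * (algebraMap T r.ResidueField b')⁻¹ := by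
    rw [← hab, mul_assoc, mul_inv_cancel₀ hb0, mul_one]
  rw [hx]
  exact mul_mem (hmem a') (inv_mem (hmem b'))

/-- Tensor version: for a prime `r` of `R₁ ⊗[R] S` over `p₁`, if every `1 ⊗ s` has a `P^n`-th
power in the image of `κ(p₁)`, then `κ(r)/κ(p₁)` is purely inseparable. -/
theorem isPurelyInseparable_tensor {R R₁ S : Type*} [CommRing R] [CommRing R₁] [CommRing S]
    [Algebra R R₁] [Algebra R S] (p₁ : Ideal R₁) [p₁.IsPrime] (r : Ideal (R₁ ⊗[R] S)) [r.IsPrime]
    (hr : p₁ = r.comap (algebraMap R₁ (R₁ ⊗[R] S))) (P : ℕ) [ExpChar p₁.ResidueField P]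
    (H : ∀ s : S, ∃ n : ℕ, (algebraMap (R₁ ⊗[R] S) r.ResidueField (1 ⊗ₜ s)) ^ (P ^ n) ∈
      (Ideal.ResidueField.map p₁ r (algebraMap R₁ (R₁ ⊗[R] S)) hr).range) :
    letI := (Ideal.ResidueField.map p₁ r (algebraMap R₁ (R₁ ⊗[R] S)) hr).toAlgebra
    IsPurelyInseparable p₁.ResidueField r.ResidueField := by
  have key := isPurelyInseparable_of_forall_mem_perfectClosure r
    (Ideal.ResidueField.map p₁ r (algebraMap R₁ (R₁ ⊗[R] S)) hr)
  letI := (Ideal.ResidueField.map p₁ r (algebraMap R₁ (R₁ ⊗[R] S)) hr).toAlgebra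
  apply key
  intro t
  induction t using TensorProduct.induction_on with
  | zero => rw [map_zero]; exact zero_mem _
  | tmul a s =>
    have e : a ⊗ₜ[R] s = (a ⊗ₜ[R] (1 : S)) * ((1 : R₁) ⊗ₜ[R] s) := by simp
    rw [e, map_mul]
    refine mul_mem ?_ ?_
    · have h1 : algebraMap (R₁ ⊗[R] S) r.ResidueField (a ⊗ₜ[R] (1 : S)) =
          algebraMap p₁.ResidueField r.ResidueField (algebraMap R₁ p₁.ResidueField a) := by
        change _ = Ideal.ResidueField.map p₁ r (algebraMap R₁ (R₁ ⊗[R] S)) hr _
        rw [Ideal.ResidueField.map_algebraMap]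
        rfl
      rw [h1]
      exact IntermediateField.algebraMap_mem _ _
    · rw [mem_perfectClosure_iff_pow_mem P]
      exact H s
  | add x y hx hy => rw [map_add]; exact add_mem hx hy

end
end Groth.Agent.Lead.SplitInt
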