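import Mathlib
import Groth.Agent.Lib.Lead.SplitInt1

/-!
# Purely inseparable residue extensions: definition `PIAt`, elementwise form and base change
(lead, for S1380)
-/

set_option autoImplicit false
set_option backward.isDefEq.respectTransparency.types false
set_option synthInstance.maxHeartbeats 400000
set_option linter.style.haveILetI false
set_option linter.unusedSectionVars false

universe u v w
open TensorProduct

namespace Groth.Agent.Lead.SplitInt
noncomputable section

/-- The residue field extension `κ(p) → κ(q)` is purely inseparable. -/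
def PIAt {R S : Type*} [CommRing R] [CommRing S] [Algebra R S] (p : Ideal R) [p.IsPrime]
    (q : Ideal S) [q.IsPrime] (h : p = q.comap (algebraMap R S)) : Prop :=
  letI := (Ideal.ResidueField.map p q (algebraMap R S) h).toAlgebra
  IsPurelyInseparable p.ResidueField q.ResidueField

theorem PIAt.pow_mem {R S : Type*} [CommRing R] [CommRing S] [Algebra R S] {p : Ideal R}
    [p.IsPrime] {q : Ideal S} [q.IsPrime] {h : p = q.comap (algebraMap R S)} (H : PIAt p q h)
    (P : ℕ) [ExpChar p.ResidueField P] (x : q.ResidueField) :
    ∃ n : ℕ, x ^ (P ^ n) ∈ (Ideal.ResidueField.map p q (algebraMap R S) h).range := by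
  letI := (Ideal.ResidueField.map p q (algebraMap R S) h).toAlgebra
  have H' : IsPurelyInseparable p.ResidueField q.ResidueField := H
  exact IsPurelyInseparable.pow_mem p.ResidueField P x

/-- Base change for `PIAt`: if `A` is a quotient of `R' ⊗[R] S` (as `R'`-algebra), `r` a prime of
`A` over `P`, `q` its contraction to `S`, lying over `p`, and `κ(q)/κ(p)` is purely inseparable,
then so is `κ(r)/κ(P)`. -/
theorem PIAt.baseChange {R R' S A : Type*} [CommRing R] [CommRing R'] [CommRing S] [CommRing A]
    [Algebra R R'] [Algebra R S] [Algebra R' A]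
    (ψ : R' ⊗[R] S →ₐ[R'] A) (hψ : Function.Surjective ψ)
    (p : Ideal R) [p.IsPrime] (P : Ideal R') [P.IsPrime] (hP : p = P.comap (algebraMap R R'))
    (r : Ideal A) [r.IsPrime] (hr : P = r.comap (algebraMap R' A))
    (q : Ideal S) [q.IsPrime]
    (hqr' : ∀ s : S, s ∈ q ↔ ψ (1 ⊗ₜ[R] s) ∈ r)
    (hq : p = q.comap (algebraMap R S)) (H : PIAt p q hq) : PIAt P r hr := by
  let ir : S →ₐ[R] R' ⊗[R] S := Algebra.TensorProduct.includeRight
  set g : S →+* A := RingHom.comp ψ.toRingHom ir.toRingHom with hg
  have hqr : q = r.comap g := by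
    ext s
    rw [hqr' s]
    rfl
  -- exponential characteristic
  obtain ⟨P0, hP0⟩ : ∃ P0 : ℕ, ExpChar p.ResidueField P0 := ⟨ringExpChar p.ResidueField, inferInstance⟩
  haveI := hP0
  haveI : ExpChar P.ResidueField P0 :=
    expChar_of_injective_ringHom (Ideal.ResidueField.map p P (algebraMap R R') hP).injective P0
  -- commutation of residue field maps
  have hcomm : (Ideal.ResidueField.map q r g hqr).comp
      (Ideal.ResidueField.map p q (algebraMap R S) hq) =
      (Ideal.ResidueField.map P r (algebraMap R' A) hr).comp
        (Ideal.ResidueField.map p P (algebraMap R R') hP) := by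
    apply Ideal.ResidueField.ringHom_ext
    refine RingHom.ext fun x => ?_
    simp only [RingHom.comp_apply, Ideal.ResidueField.map_algebraMap]
    congr 1
    rw [hg]
    simp only [AlgHom.toRingHom_eq_coe, RingHom.coe_comp, RingHom.coe_coe, Function.comp_apply]
    rw [AlgHom.commutes ir,
      IsScalarTower.algebraMap_apply R R' (R' ⊗[R] S), AlgHom.commutes]
  have key := isPurelyInseparable_of_forall_mem_perfectClosure r
    (Ideal.ResidueField.map P r (algebraMap R' A) hr)
  unfold PIAt
  letI := (Ideal.ResidueField.map P r (algebraMap R' A) hr).toAlgebra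
  apply key
  intro t
  obtain ⟨t', rfl⟩ := hψ t
  induction t' using TensorProduct.induction_on with
  | zero => rw [map_zero, map_zero]; exact zero_mem _
  | tmul a s =>
    have e : a ⊗ₜ[R] s = (a ⊗ₜ[R] (1 : S)) * ((1 : R') ⊗ₜ[R] s) := by simp
    rw [e, map_mul, map_mul]
    refine mul_mem ?_ ?_
    · have h1 : algebraMap A r.ResidueField (ψ (a ⊗ₜ[R] (1 : S))) =
          algebraMap P.ResidueField r.ResidueField (algebraMap R' P.ResidueField a) := by
        change _ = Ideal.ResidueField.map P r (algebraMap R' A) hr _
        rw [Ideal.ResidueField.map_algebraMap]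
        congr 1
        have h0 : a ⊗ₜ[R] (1 : S) = algebraMap R' (R' ⊗[R] S) a := by
          rw [Algebra.TensorProduct.algebraMap_apply]
          rfl
        rw [h0, AlgHom.commutes]
      rw [h1]
      exact IntermediateField.algebraMap_mem _ _
    · rw [mem_perfectClosure_iff_pow_mem P0]
      obtain ⟨n, c, hc⟩ := H.pow_mem P0 (algebraMap S q.ResidueField s)
      refine ⟨n, Ideal.ResidueField.map p P (algebraMap R R') hP c, ?_⟩
      change Ideal.ResidueField.map P r (algebraMap R' A) hr _ = _
      have h2 := congrArg (fun f : p.ResidueField →+* r.ResidueField => f c) hcomm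
      simp only [RingHom.comp_apply] at h2
      rw [← h2, hc, map_pow, Ideal.ResidueField.map_algebraMap]
      rfl
  | add x y hx hy => rw [map_add, map_add]; exact add_mem hx hy

end
end Groth.Agent.Lead.SplitInt
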