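import Mathlib
import Groth.Agent.Lib.Lead.SplitInt2

/-!
# Splitting an algebra by complete orthogonal idempotents into factors with a single prime
over a given prime (lead, for S1380)
-/

set_option autoImplicit false
set_option backward.isDefEq.respectTransparency.types false
set_option synthInstance.maxHeartbeats 400000
set_option linter.style.haveILetI false
set_option linter.unusedSectionVars false

universe u v w
open TensorProduct

namespace Groth.Agent.Lead.SplitInt
noncomputable section

/-- `A` is integral over `R'`, has exactly one prime over `P`, with purely inseparable residue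
extension. -/
def GoodFactor (R' : Type u) [CommRing R'] (P : Ideal R') [P.IsPrime] (A : Type u) [CommRing A]
    [Algebra R' A] : Prop :=
  Algebra.IsIntegral R' A ∧ ∃ (r : PrimeSpectrum A)
    (hr : r.asIdeal.comap (algebraMap R' A) = P),
    (∀ r' : PrimeSpectrum A, r'.asIdeal.comap (algebraMap R' A) = P → r' = r) ∧
    letI := (Ideal.ResidueField.map P r.asIdeal (algebraMap R' A) hr.symm).toAlgebra
    IsPurelyInseparable P.ResidueField r.asIdeal.ResidueField

/-- `T` is a finite product of good factors. -/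
def Splits (R' : Type u) [CommRing R'] (P : Ideal R') [P.IsPrime] (T : Type u) [CommRing T]
    [Algebra R' T] : Prop :=
  ∃ (m : ℕ) (A : Fin m → Type u) (_ : ∀ j, CommRing (A j)) (_ : ∀ j, Algebra R' (A j))
    (_ : T ≃ₐ[R'] (Π j, A j)), ∀ j, GoodFactor R' P (A j)

theorem Splits.of_algEquiv {R' : Type u} [CommRing R'] {P : Ideal R'} [P.IsPrime] {T T' : Type u}
    [CommRing T] [Algebra R' T] [CommRing T'] [Algebra R' T'] (f : T ≃ₐ[R'] T')
    (h : Splits R' P T) : Splits R' P T' := by
  obtain ⟨m, A, i1, i2, e, he⟩ := h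
  exact ⟨m, A, i1, i2, f.symm.trans e, he⟩

/-- `PIAt` passes to quotients. -/
theorem PIAt.of_surjective {R' T A : Type*} [CommRing R'] [CommRing T] [CommRing A]
    [Algebra R' T] [Algebra R' A] (f : T →ₐ[R'] A) (hf : Function.Surjective f)
    (P : Ideal R') [P.IsPrime] (r : Ideal A) [r.IsPrime] (hr : P = r.comap (algebraMap R' A))
    (ρ : Ideal T) [ρ.IsPrime] (hρr : ρ = r.comap f.toRingHom)
    (hρ : P = ρ.comap (algebraMap R' T)) (H : PIAt P ρ hρ) : PIAt P r hr := by
  obtain ⟨P0, hP0⟩ : ∃ P0 : ℕ, ExpChar P.ResidueField P0 :=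
    ⟨ringExpChar P.ResidueField, inferInstance⟩
  haveI := hP0
  have hcomm : (Ideal.ResidueField.map ρ r f.toRingHom hρr).comp
      (Ideal.ResidueField.map P ρ (algebraMap R' T) hρ) =
      Ideal.ResidueField.map P r (algebraMap R' A) hr := by
    apply Ideal.ResidueField.ringHom_ext
    refine RingHom.ext fun x => ?_
    simp only [RingHom.comp_apply, Ideal.ResidueField.map_algebraMap]
    congr 1
    exact f.commutes x
  have key := isPurelyInseparable_of_forall_mem_perfectClosure r
    (Ideal.ResidueField.map P r (algebraMap R' A) hr)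
  unfold PIAt
  letI := (Ideal.ResidueField.map P r (algebraMap R' A) hr).toAlgebra
  apply key
  intro t
  obtain ⟨t', rfl⟩ := hf t
  rw [mem_perfectClosure_iff_pow_mem P0]
  obtain ⟨n, c, hc⟩ := H.pow_mem P0 (algebraMap T ρ.ResidueField t')
  refine ⟨n, c, ?_⟩
  change Ideal.ResidueField.map P r (algebraMap R' A) hr _ = _
  rw [← hcomm, RingHom.comp_apply, hc, map_pow, Ideal.ResidueField.map_algebraMap]
  rfl

end
end Groth.Agent.Lead.SplitInt

namespace Groth.Agent.Lead.SplitInt
noncomputable section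

theorem splits_of_idempotents {R' : Type u} [CommRing R'] (P : Ideal R') [P.IsPrime] {T : Type u}
    [CommRing T] [Algebra R' T] [Algebra.IsIntegral R' T] (m : ℕ) (ē : Fin m → T)
    (he : CompleteOrthogonalIdempotents ē)
    (hex : ∀ j, ∃ ρ : Ideal T, ρ.IsPrime ∧ ρ.comap (algebraMap R' T) = P ∧ ē j ∉ ρ)
    (huniq : ∀ j (ρ ρ' : Ideal T), ρ.IsPrime → ρ'.IsPrime → ρ.comap (algebraMap R' T) = P →
      ρ'.comap (algebraMap R' T) = P → ē j ∉ ρ → ē j ∉ ρ' → ρ = ρ')
    (hPI : ∀ (ρ : Ideal T) [ρ.IsPrime] (h : P = ρ.comap (algebraMap R' T)), PIAt P ρ h) :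
    Splits R' P T := by
  classical
  let I : Fin m → Ideal T := fun j => Ideal.span {1 - ē j}
  let F : T →ₐ[R'] (Π j, T ⧸ I j) := Pi.algHom R' _ (fun j => Ideal.Quotient.mkₐ R' (I j))
  have hF : Function.Bijective F := he.bijective_pi
  refine ⟨m, fun j => T ⧸ I j, fun j => inferInstance, fun j => inferInstance,
    AlgEquiv.ofBijective F hF, fun j => ?_⟩
  have hsurj : Function.Surjective (Ideal.Quotient.mkₐ R' (I j)) :=
    Ideal.Quotient.mkₐ_surjective R' (I j)
  refine ⟨Algebra.IsIntegral.of_surjective (Ideal.Quotient.mkₐ R' (I j)) hsurj, ?_⟩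
  obtain ⟨ρ, hρp, hρP, hρe⟩ := hex j
  haveI := hρp
  have hIρ : I j ≤ ρ := by
    rw [Ideal.span_le, Set.singleton_subset_iff]
    have h0 : ē j * (1 - ē j) ∈ ρ := by
      rw [mul_sub, mul_one, (he.idem j).eq, sub_self]
      exact zero_mem _
    exact (hρp.mem_or_mem h0).resolve_left hρe
  -- contraction of a prime of the quotient
  have hcontr : ∀ r' : PrimeSpectrum (T ⧸ I j), r'.asIdeal.comap (algebraMap R' (T ⧸ I j)) = P →
      (r'.asIdeal.comap (Ideal.Quotient.mk (I j))).comap (algebraMap R' T) = P ∧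
      ē j ∉ r'.asIdeal.comap (Ideal.Quotient.mk (I j)) := by
    intro r' hr'
    refine ⟨?_, ?_⟩
    · rw [Ideal.comap_comap]
      exact hr'
    · intro hmem
      have h1 : (1 - ē j) ∈ r'.asIdeal.comap (Ideal.Quotient.mk (I j)) := by
        rw [Ideal.mem_comap]
        have : Ideal.Quotient.mk (I j) (1 - ē j) = 0 :=
          Ideal.Quotient.eq_zero_iff_mem.mpr (Ideal.subset_span rfl)
        rw [this]
        exact zero_mem _
      have h2 : (1 : T) ∈ r'.asIdeal.comap (Ideal.Quotient.mk (I j)) := by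
        have := add_mem hmem h1
        rwa [add_sub_cancel] at this
      exact (Ideal.IsPrime.ne_top inferInstance) ((Ideal.eq_top_iff_one _).mpr h2)
  have hker : RingHom.ker (Ideal.Quotient.mk (I j)) ≤ ρ := by
    rw [Ideal.mk_ker]; exact hIρ
  have hrprime : (ρ.map (Ideal.Quotient.mk (I j))).IsPrime :=
    Ideal.map_isPrime_of_surjective Ideal.Quotient.mk_surjective hker
  have hcm : (ρ.map (Ideal.Quotient.mk (I j))).comap (Ideal.Quotient.mk (I j)) = ρ := by
    rw [Ideal.comap_map_of_surjective _ Ideal.Quotient.mk_surjective, ← RingHom.ker_eq_comap_bot,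
      Ideal.mk_ker]
    exact sup_eq_left.mpr hIρ
  let r : PrimeSpectrum (T ⧸ I j) := ⟨ρ.map (Ideal.Quotient.mk (I j)), hrprime⟩
  have hr : r.asIdeal.comap (algebraMap R' (T ⧸ I j)) = P := by
    have : r.asIdeal.comap (algebraMap R' (T ⧸ I j)) =
        (r.asIdeal.comap (Ideal.Quotient.mk (I j))).comap (algebraMap R' T) := by
      rw [Ideal.comap_comap]; rfl
    rw [this, hcm, hρP]
  refine ⟨r, hr, ?_, ?_⟩
  · intro r' hr'
    obtain ⟨h1, h2⟩ := hcontr r' hr'
    have h3 : r'.asIdeal.comap (Ideal.Quotient.mk (I j)) = ρ :=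
      huniq j _ _ inferInstance hρp h1 hρP h2 hρe
    apply PrimeSpectrum.ext
    apply Ideal.comap_injective_of_surjective _ Ideal.Quotient.mk_surjective
    rw [h3]
    exact hcm.symm
  · exact PIAt.of_surjective (Ideal.Quotient.mkₐ R' (I j)) hsurj P r.asIdeal hr.symm ρ hcm.symm
      hρP.symm (hPI ρ hρP.symm)

end
end Groth.Agent.Lead.SplitInt
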