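import Mathlib

/-!
# Auxiliary lemmas for S1380: a finitely generated subalgebra separating finitely many fibre
primes, and lumping the last idempotent into the first (lead)
-/

set_option autoImplicit false
set_option backward.isDefEq.respectTransparency.types false
set_option synthInstance.maxHeartbeats 400000
set_option linter.style.haveILetI false
set_option linter.unusedSectionVars false

universe u v w
open TensorProduct

namespace Groth.Agent.Lead.SplitInt
noncomputable section

/-- Distinct primes of an integral algebra over the same prime are incomparable. -/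
theorem exists_mem_notMem_of_ne {R S : Type*} [CommRing R] [CommRing S] [Algebra R S]
    [Algebra.IsIntegral R S] (q q' : Ideal S) [q.IsPrime] [q'.IsPrime]
    (h : q.comap (algebraMap R S) = q'.comap (algebraMap R S)) (hne : q ≠ q') :
    ∃ s, s ∈ q ∧ s ∉ q' := by
  by_contra hcon
  have hle : q ≤ q' := by
    intro s hs
    by_contra hs'
    exact hcon ⟨s, hs, hs'⟩
  have hlt : q < q' := lt_of_le_of_ne hle hne
  obtain ⟨x, hx', hx⟩ := SetLike.exists_of_lt hlt
  have := Ideal.comap_lt_comap_of_integral_mem_sdiff (R := R) hle ⟨hx', hx⟩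
    (Algebra.IsIntegral.isIntegral x)
  rw [h] at this
  exact lt_irrefl _ this

theorem exists_fg_subalgebra_separating {R S : Type*} [CommRing R] [CommRing S] [Algebra R S]
    [Algebra.IsIntegral R S] (p : Ideal R) (F : Set (PrimeSpectrum S)) (hF : F.Finite)
    (hFp : ∀ q ∈ F, q.asIdeal.comap (algebraMap R S) = p) :
    ∃ S₀ : Subalgebra R S, S₀.FG ∧ ∀ q ∈ F, ∀ q' ∈ F,
      q.asIdeal.comap S₀.val.toRingHom = q'.asIdeal.comap S₀.val.toRingHom → q = q' := by
  classical
  let c : PrimeSpectrum S → PrimeSpectrum S → S := fun q q' =>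
    if h : ∃ s, s ∈ q.asIdeal ∧ s ∉ q'.asIdeal then h.choose else 0
  let G : Set S := (fun x : PrimeSpectrum S × PrimeSpectrum S => c x.1 x.2) '' (F ×ˢ F)
  have hG : G.Finite := (hF.prod hF).image _
  refine ⟨Algebra.adjoin R G, Subalgebra.fg_def.mpr ⟨G, hG, rfl⟩, ?_⟩
  intro q hq q' hq' heq
  by_contra hne
  have hne' : q.asIdeal ≠ q'.asIdeal := fun h => hne (PrimeSpectrum.ext h)
  have hex : ∃ s, s ∈ q.asIdeal ∧ s ∉ q'.asIdeal :=
    exists_mem_notMem_of_ne (R := R) q.asIdeal q'.asIdeal ((hFp q hq).trans (hFp q' hq').symm) hne'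
  have hc : c q q' = hex.choose := dif_pos hex
  have hcG : c q q' ∈ Algebra.adjoin R G :=
    Algebra.subset_adjoin ⟨(q, q'), ⟨hq, hq'⟩, rfl⟩
  have h1 : (⟨c q q', hcG⟩ : Algebra.adjoin R G) ∈
      q.asIdeal.comap (Algebra.adjoin R G).val.toRingHom := by
    rw [Ideal.mem_comap]
    change c q q' ∈ q.asIdeal
    rw [hc]
    exact hex.choose_spec.1
  rw [heq, Ideal.mem_comap] at h1
  have h2 : c q q' ∈ q'.asIdeal := h1
  rw [hc] at h2
  exact hex.choose_spec.2 h2

/-- Lump the last idempotent of a complete orthogonal family into the first one. -/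
theorem lump_last {T : Type*} [CommRing T] (k : ℕ) (e : Fin (k + 2) → T)
    (he : CompleteOrthogonalIdempotents e) :
    CompleteOrthogonalIdempotents
      (fun i : Fin (k + 1) => e i.castSucc + if i = 0 then e (Fin.last _) else 0) := by
  classical
  rw [CompleteOrthogonalIdempotents.iff_ortho_complete]
  refine ⟨?_, ?_⟩
  · intro i j hij
    have h1 : i.castSucc ≠ j.castSucc := fun h => hij (Fin.castSucc_injective _ h)
    have h2 : ∀ l : Fin (k + 1), l.castSucc ≠ Fin.last (k + 1) := fun l => (Fin.castSucc_lt_last l).ne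
    have h3 : ∀ l : Fin (k + 1), Fin.last (k + 1) ≠ l.castSucc := fun l => (h2 l).symm
    have o1 : e i.castSucc * e j.castSucc = 0 := he.ortho h1
    have o2 : ∀ l : Fin (k + 1), e l.castSucc * e (Fin.last (k + 1)) = 0 := fun l => he.ortho (h2 l)
    have o3 : ∀ l : Fin (k + 1), e (Fin.last (k + 1)) * e l.castSucc = 0 := fun l => he.ortho (h3 l)
    change (e i.castSucc + if i = 0 then e (Fin.last _) else 0) *
      (e j.castSucc + if j = 0 then e (Fin.last _) else 0) = 0
    by_cases hi : i = 0
    · have hj : j ≠ 0 := fun h => hij (hi.trans h.symm)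
      rw [if_pos hi, if_neg hj, add_zero, add_mul, o1, o3, add_zero]
    · rw [if_neg hi, add_zero]
      by_cases hj : j = 0
      · rw [if_pos hj, mul_add, o1, o2, add_zero]
      · rw [if_neg hj, add_zero, o1]
  · rw [Finset.sum_add_distrib, Finset.sum_ite_eq' Finset.univ (0 : Fin (k + 1))]
    simp only [Finset.mem_univ, if_true]
    have := he.complete
    rw [Fin.sum_univ_castSucc] at this
    exact this

end
end Groth.Agent.Lead.SplitInt
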