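import Mathlib
import Groth.Agent.Lib.Lead.SplitInt3
import Groth.Agent.Lib.Lead.SplitInt4

/-!
# Theorem B for S1380: splitting when all fibre residue extensions are purely inseparable (lead)
-/

set_option autoImplicit false
set_option backward.isDefEq.respectTransparency.types false
set_option synthInstance.maxHeartbeats 400000
set_option linter.style.haveILetI false
set_option linter.unusedSectionVars false

universe u v w
open TensorProduct

namespace Groth.Agent.Lead.SplitInt
noncomputable section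

section aux
variable {R R' S : Type*} [CommRing R] [CommRing R'] [CommRing S] [Algebra R R'] [Algebra R S]

theorem comap_includeRight_over (ρ : Ideal (R' ⊗[R] S)) :
    (ρ.comap (Algebra.TensorProduct.includeRight : S →ₐ[R] R' ⊗[R] S).toRingHom).comap
      (algebraMap R S) = (ρ.comap (algebraMap R' (R' ⊗[R] S))).comap (algebraMap R R') := by
  ext x
  simp only [Ideal.mem_comap, AlgHom.toRingHom_eq_coe, RingHom.coe_coe]
  rw [AlgHom.commutes, ← IsScalarTower.algebraMap_apply R R' (R' ⊗[R] S)]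

theorem comap_map_val (S₀ : Subalgebra R S) (ρ : Ideal (R' ⊗[R] S)) :
    (ρ.comap (Algebra.TensorProduct.map (AlgHom.id R' R') S₀.val).toRingHom).comap
      (Algebra.TensorProduct.includeRight : S₀ →ₐ[R] R' ⊗[R] S₀).toRingHom =
    (ρ.comap (Algebra.TensorProduct.includeRight : S →ₐ[R] R' ⊗[R] S).toRingHom).comap
      S₀.val.toRingHom := by
  ext x
  simp only [Ideal.mem_comap, AlgHom.toRingHom_eq_coe, RingHom.coe_coe,
    Algebra.TensorProduct.includeRight_apply, Algebra.TensorProduct.map_tmul, AlgHom.coe_id, id_eq]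

theorem comap_map_algebraMap (S₀ : Subalgebra R S) (ρ : Ideal (R' ⊗[R] S)) :
    (ρ.comap (Algebra.TensorProduct.map (AlgHom.id R' R') S₀.val).toRingHom).comap
      (algebraMap R' (R' ⊗[R] S₀)) = ρ.comap (algebraMap R' (R' ⊗[R] S)) := by
  ext x
  simp only [Ideal.mem_comap, AlgHom.toRingHom_eq_coe, RingHom.coe_coe, AlgHom.commutes]

end aux

theorem thmB {R S : Type u} [CommRing R] [CommRing S] [Algebra R S] [Algebra.IsIntegral R S]
    (p : Ideal R) [p.IsPrime]
    (hfin : {q : PrimeSpectrum S | q.asIdeal.comap (algebraMap R S) = p}.Finite)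
    (hne : ∃ q : PrimeSpectrum S, q.asIdeal.comap (algebraMap R S) = p)
    (hPI : ∀ (q : PrimeSpectrum S) (hq : q.asIdeal.comap (algebraMap R S) = p),
      PIAt p q.asIdeal hq.symm) :
    ∃ (R' : Type u) (_ : CommRing R') (_ : Algebra R R') (P : Ideal R') (_ : P.IsPrime),
      Algebra.Etale R R' ∧ P.comap (algebraMap R R') = p ∧ Splits R' P (R' ⊗[R] S) := by
  classical
  obtain ⟨S₀, hS₀fg, hS₀sep⟩ := exists_fg_subalgebra_separating p _ hfin (fun q hq => hq)
  haveI : Algebra.FiniteType R S₀ := ⟨(Subalgebra.fg_top S₀).mpr hS₀fg⟩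
  haveI : Algebra.IsIntegral R S₀ :=
    ⟨fun x => (isIntegral_algHom_iff S₀.val Subtype.val_injective).mp
      (Algebra.IsIntegral.isIntegral (x : S))⟩
  haveI : Module.Finite R S₀ := Algebra.IsIntegral.finite
  obtain ⟨R', _, _, _, P, _, _, n, e, he, P', _, _, hP, hP', H⟩ :=
    Algebra.exists_etale_completeOrthogonalIdempotents_forall_liesOver_eq (R := R) (S := S₀) p
  have hPp : P.comap (algebraMap R R') = p := (P.over_def p).symm
  refine ⟨R', inferInstance, inferInstance, P, inferInstance, inferInstance, hPp, ?_⟩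
  let Φ : R' ⊗[R] S₀ →ₐ[R'] R' ⊗[R] S := Algebra.TensorProduct.map (AlgHom.id R' R') S₀.val
  let ir : S →ₐ[R] R' ⊗[R] S := Algebra.TensorProduct.includeRight
  let ir₀ : S₀ →ₐ[R] R' ⊗[R] S₀ := Algebra.TensorProduct.includeRight
  -- generic facts about a prime of `T` over `P`
  have hq_over : ∀ ρ : Ideal (R' ⊗[R] S), ρ.comap (algebraMap R' (R' ⊗[R] S)) = P →
      (ρ.comap ir.toRingHom).comap (algebraMap R S) = p := by
    intro ρ hρ
    rw [comap_includeRight_over, hρ, hPp]
  -- a prime of `T₀` over `P` is determined by its contraction to `S₀`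
  have huniq₀ : ∀ (ρ₁ ρ₂ : Ideal (R' ⊗[R] S₀)), ρ₁.IsPrime → ρ₂.IsPrime →
      ρ₁.comap (algebraMap R' (R' ⊗[R] S₀)) = P → ρ₂.comap (algebraMap R' (R' ⊗[R] S₀)) = P →
      ρ₁.comap ir₀.toRingHom = ρ₂.comap ir₀.toRingHom → ρ₁ = ρ₂ := by
    intro ρ₁ ρ₂ h1 h2 h1P h2P h12
    haveI := h1
    haveI := h2
    haveI : ρ₁.LiesOver P := ⟨h1P.symm⟩
    haveI : ρ₂.LiesOver P := ⟨h2P.symm⟩
    exact Ideal.eq_of_comap_eq_comap_of_bijective_residueFieldMap hP ρ₁ ρ₂ h12
  have huniqT : ∀ (ρ₁ ρ₂ : Ideal (R' ⊗[R] S)), ρ₁.IsPrime → ρ₂.IsPrime →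
      ρ₁.comap (algebraMap R' (R' ⊗[R] S)) = P → ρ₂.comap (algebraMap R' (R' ⊗[R] S)) = P →
      ρ₁.comap ir.toRingHom = ρ₂.comap ir.toRingHom → ρ₁ = ρ₂ := by
    intro ρ₁ ρ₂ h1 h2 h1P h2P h12
    haveI := h1
    haveI := h2
    haveI : ρ₁.LiesOver P := ⟨h1P.symm⟩
    haveI : ρ₂.LiesOver P := ⟨h2P.symm⟩
    exact Ideal.eq_of_comap_eq_comap_of_bijective_residueFieldMap hP ρ₁ ρ₂ h12
  -- existence of a prime of `T` over `P` with prescribed contraction to `S`
  have hexT : ∀ (q : Ideal S), q.IsPrime → q.comap (algebraMap R S) = p →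
      ∃ ρ : Ideal (R' ⊗[R] S), ρ.IsPrime ∧ ρ.comap (algebraMap R' (R' ⊗[R] S)) = P ∧
        ρ.comap ir.toRingHom = q := by
    intro q hq hqp
    haveI := hq
    haveI : q.LiesOver p := ⟨hqp.symm⟩
    let Q : p.primesOver S := ⟨q, hq, inferInstance⟩
    refine ⟨((Ideal.fiberIsoOfBijectiveResidueField hP).symm Q).1,
      ((Ideal.fiberIsoOfBijectiveResidueField hP).symm Q).2.1,
      (((Ideal.fiberIsoOfBijectiveResidueField hP).symm Q).2.2.over).symm, ?_⟩
    exact Ideal.comap_fiberIsoOfBijectiveResidueField_symm hP Q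
  -- a prime of `T₀` over `P`, obtained from the nonempty fibre
  obtain ⟨q1, hq1⟩ := hne
  obtain ⟨ρ1, hρ1p, hρ1P, hρ1q⟩ := hexT q1.asIdeal q1.isPrime hq1
  haveI := hρ1p
  have hρ1₀P : (ρ1.comap Φ.toRingHom).comap (algebraMap R' (R' ⊗[R] S₀)) = P := by
    rw [comap_map_algebraMap]; exact hρ1P
  haveI : (ρ1.comap Φ.toRingHom).LiesOver P := ⟨hρ1₀P.symm⟩
  cases n with
  | zero =>
    exfalso
    have h1 := (H (ρ1.comap Φ.toRingHom) inferInstance inferInstance).1
    have h2 : e (Fin.last 0) = 1 := by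
      have := he.complete
      simpa using this
    rw [h2] at h1
    exact (Ideal.IsPrime.ne_top inferInstance) ((Ideal.eq_top_iff_one _).mpr h1)
  | succ k =>
    let e' : Fin (k + 1) → R' ⊗[R] S₀ :=
      fun i => e i.castSucc + if i = 0 then e (Fin.last _) else 0
    have he' : CompleteOrthogonalIdempotents e' := lump_last k e he
    have hē : CompleteOrthogonalIdempotents (Φ.toRingHom ∘ e') := he'.map Φ.toRingHom
    have hkey : ∀ (j : Fin (k + 1)) (ρ₀ : Ideal (R' ⊗[R] S₀)), ρ₀.IsPrime →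
        ρ₀.comap (algebraMap R' (R' ⊗[R] S₀)) = P → e' j ∉ ρ₀ → ρ₀ = P' j := by
      intro j ρ₀ h1 h1P hj
      haveI := h1
      haveI : ρ₀.LiesOver P := ⟨h1P.symm⟩
      obtain ⟨hl, hall⟩ := H ρ₀ inferInstance inferInstance
      apply hall j
      intro hmem
      apply hj
      change e j.castSucc + (if j = 0 then e (Fin.last _) else 0) ∈ ρ₀
      refine add_mem hmem ?_
      split_ifs
      · exact hl
      · exact zero_mem _
    have hnot : ∀ j : Fin (k + 1), e' j ∉ P' j := by
      intro j hmem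
      have hl := (H (P' j) inferInstance inferInstance).1
      apply hP' j
      have : e j.castSucc = e' j - (if j = 0 then e (Fin.last _) else 0) := by simp [e']
      rw [this]
      refine sub_mem hmem ?_
      split_ifs
      · exact hl
      · exact zero_mem _
    haveI : Algebra.IsIntegral S₀ S := Algebra.IsIntegral.tower_top (R := R)
    refine splits_of_idempotents P (k + 1) (Φ.toRingHom ∘ e') hē ?_ ?_ ?_
    · -- existence
      intro j
      have hq0p : ((P' j).comap ir₀.toRingHom).comap (algebraMap R S₀) = p := by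
        have h0 : (P' j).comap (algebraMap R' (R' ⊗[R] S₀)) = P := ((P' j).over_def P).symm
        rw [comap_includeRight_over, h0, hPp]
      have hker : (⊥ : Ideal S).comap (algebraMap S₀ S) ≤ (P' j).comap ir₀.toRingHom := by
        intro x hx
        rw [Ideal.mem_comap, Ideal.mem_bot] at hx
        have hx0 : x = 0 := Subtype.val_injective hx
        rw [hx0]
        exact zero_mem _
      obtain ⟨q, -, hqp, hqc⟩ := Ideal.exists_ideal_over_prime_of_isIntegral
        ((P' j).comap ir₀.toRingHom) (⊥ : Ideal S) hker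
      have hqp' : q.comap (algebraMap R S) = p := by
        rw [IsScalarTower.algebraMap_eq R S₀ S, ← Ideal.comap_comap, hqc, hq0p]
      obtain ⟨ρ, hρp, hρP, hρq⟩ := hexT q hqp hqp'
      haveI := hρp
      refine ⟨ρ, hρp, hρP, ?_⟩
      have hρ₀ : ρ.comap Φ.toRingHom = P' j := by
        refine huniq₀ _ _ inferInstance inferInstance ?_ ((P' j).over_def P).symm ?_
        · rw [comap_map_algebraMap]; exact hρP
        · rw [comap_map_val, hρq]
          exact hqc
      intro hmem
      apply hnot j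
      rw [← hρ₀]
      exact hmem
    · -- uniqueness
      intro j ρ ρ' hρ hρ' hρP hρ'P hj hj'
      haveI := hρ
      haveI := hρ'
      have h1 : ρ.comap Φ.toRingHom = P' j :=
        hkey j _ inferInstance (by rw [comap_map_algebraMap]; exact hρP) hj
      have h2 : ρ'.comap Φ.toRingHom = P' j :=
        hkey j _ inferInstance (by rw [comap_map_algebraMap]; exact hρ'P) hj'
      have h3 : (⟨ρ.comap ir.toRingHom, inferInstance⟩ : PrimeSpectrum S) =
          ⟨ρ'.comap ir.toRingHom, inferInstance⟩ := by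
        apply hS₀sep _ (hq_over ρ hρP) _ (hq_over ρ' hρ'P)
        change (ρ.comap ir.toRingHom).comap S₀.val.toRingHom =
          (ρ'.comap ir.toRingHom).comap S₀.val.toRingHom
        rw [← comap_map_val, ← comap_map_val]
        change (ρ.comap Φ.toRingHom).comap ir₀.toRingHom = (ρ'.comap Φ.toRingHom).comap ir₀.toRingHom
        rw [h1, h2]
      exact huniqT ρ ρ' hρ hρ' hρP hρ'P (congrArg PrimeSpectrum.asIdeal h3)
    · -- purely inseparable
      intro ρ _ h
      exact PIAt.baseChange (AlgHom.id R' (R' ⊗[R] S)) (fun x => ⟨x, rfl⟩) p P hPp.symm ρ h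
        (ρ.comap ir.toRingHom) (fun s => Iff.rfl) (hq_over ρ h.symm).symm
        (hPI ⟨ρ.comap ir.toRingHom, inferInstance⟩ (hq_over ρ h.symm))

end
end Groth.Agent.Lead.SplitInt
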