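import Mathlib

/-!
# A finite separable extension splitting finitely many finite separable extensions (lead, S1380)
-/

set_option autoImplicit false
set_option backward.isDefEq.respectTransparency.types false
set_option synthInstance.maxHeartbeats 400000
set_option linter.style.haveILetI false
set_option linter.unusedSectionVars false

universe u v w
open TensorProduct Polynomial

namespace Groth.Agent.Lead.SplitInt
noncomputable section

theorem exists_splitting_family {k : Type u} [Field k] {ι : Type*} [Finite ι] (E : ι → Type u)
    [∀ i, Field (E i)] [∀ i, Algebra k (E i)] [∀ i, FiniteDimensional k (E i)]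
    [∀ i, Algebra.IsSeparable k (E i)] :
    ∃ (L : Type u) (_ : Field L) (_ : Algebra k L), FiniteDimensional k L ∧
      Algebra.IsSeparable k L ∧ ∀ i (y : E i), ((minpoly k y).map (algebraMap k L)).Splits := by
  classical
  let Ω := SeparableClosure k
  let σ : ∀ i, E i →ₐ[k] Ω := fun i => IsSepClosed.lift
  let L : IntermediateField k Ω := ⨆ i, IntermediateField.normalClosure k (E i) Ω
  haveI : FiniteDimensional k L := IntermediateField.finiteDimensional_iSup_of_finite
  haveI : Normal k L := IntermediateField.normal_iSup k Ω _
  haveI : Algebra.IsSeparable k L := Algebra.isSeparable_tower_bot_of_isSeparable k L Ω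
  refine ⟨L, inferInstance, inferInstance, inferInstance, inferInstance, fun i y => ?_⟩
  have hmem : σ i y ∈ L := by
    have h1 : (σ i).fieldRange ≤ IntermediateField.normalClosure k (E i) Ω :=
      AlgHom.fieldRange_le_normalClosure (σ i)
    have h2 : IntermediateField.normalClosure k (E i) Ω ≤ L :=
      le_iSup (fun i => IntermediateField.normalClosure k (E i) Ω) i
    exact h2 (h1 ⟨y, rfl⟩)
  have h3 : minpoly k y = minpoly k (⟨σ i y, hmem⟩ : L) := by
    rw [← minpoly.algHom_eq (σ i) (σ i).injective y]
    exact (minpoly.algHom_eq L.val L.val.injective ⟨σ i y, hmem⟩)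
  rw [h3]
  exact Normal.splits inferInstance _

end
end Groth.Agent.Lead.SplitInt
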