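import Mathlib
import Groth.Agent.Lib.Helper2.Lqf.ResField

/-!
# Étale neighbourhoods with prescribed finite separable residue field extension (lead, S1380)
-/

set_option autoImplicit false
set_option backward.isDefEq.respectTransparency.types false
set_option synthInstance.maxHeartbeats 400000
set_option linter.style.haveILetI false
set_option linter.unusedSectionVars false

universe u v w
open TensorProduct Polynomial

namespace Groth.Agent.Lead.SplitInt
noncomputable section

theorem exists_etale_residueField {R : Type u} [CommRing R] (p : Ideal R) [p.IsPrime]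
    (L : Type u) [Field L] [Algebra p.ResidueField L] [FiniteDimensional p.ResidueField L]
    [Algebra.IsSeparable p.ResidueField L] :
    ∃ (R₁ : Type u) (_ : CommRing R₁) (_ : Algebra R R₁) (p₁ : Ideal R₁) (_ : p₁.IsPrime)
      (hp₁ : p = p₁.comap (algebraMap R R₁)) (ι : L →+* p₁.ResidueField),
      Algebra.Etale R R₁ ∧
      ι.comp (algebraMap p.ResidueField L) = Ideal.ResidueField.map p p₁ (algebraMap R R₁) hp₁ := by
  classical
  letI : Algebra R L :=
    ((algebraMap p.ResidueField L).comp (algebraMap R p.ResidueField)).toAlgebra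
  haveI : IsScalarTower R p.ResidueField L := IsScalarTower.of_algebraMap_eq' rfl
  obtain ⟨A₁, _, _, _, φ, hφ⟩ := Groth.Agent.Helper2.Lqf.exists_etale_to_field p L
  let p₁ : Ideal A₁ := RingHom.ker φ.toRingHom
  haveI : p₁.IsPrime := RingHom.ker_isPrime φ.toRingHom
  have hp₁ : p = p₁.comap (algebraMap R A₁) := by
    ext x
    rw [Ideal.mem_comap, RingHom.mem_ker]
    change _ ↔ φ (algebraMap R A₁ x) = 0
    rw [φ.commutes, IsScalarTower.algebraMap_apply R p.ResidueField L,
      map_eq_zero_iff _ (algebraMap p.ResidueField L).injective,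
      Ideal.algebraMap_residueField_eq_zero]
  have hunits : p₁.primeCompl ≤ (IsUnit.submonoid L).comap φ.toRingHom := by
    intro a ha
    refine IsUnit.mk0 _ ?_
    intro h0
    exact ha (RingHom.mem_ker.mpr h0)
  let θ : p₁.ResidueField →+* L := Ideal.ResidueField.lift p₁ φ.toRingHom le_rfl hunits
  have hθ : ∀ a, θ (algebraMap A₁ p₁.ResidueField a) = φ a := fun a =>
    Ideal.ResidueField.lift_algebraMap p₁ φ.toRingHom le_rfl hunits a
  have hθmap : θ.comp (Ideal.ResidueField.map p p₁ (algebraMap R A₁) hp₁) =
      algebraMap p.ResidueField L := by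
    apply Ideal.ResidueField.ringHom_ext
    refine RingHom.ext fun x => ?_
    simp only [RingHom.comp_apply, Ideal.ResidueField.map_algebraMap]
    rw [hθ, φ.commutes, IsScalarTower.algebraMap_apply R p.ResidueField L]
  letI : Algebra p₁.ResidueField L := θ.toAlgebra
  letI : Algebra p.ResidueField p₁.ResidueField :=
    (Ideal.ResidueField.map p p₁ (algebraMap R A₁) hp₁).toAlgebra
  haveI : IsScalarTower p.ResidueField p₁.ResidueField L :=
    IsScalarTower.of_algebraMap_eq' hθmap.symm
  haveI : Algebra.IsSeparable p₁.ResidueField L :=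
    Algebra.isSeparable_tower_top_of_isSeparable p.ResidueField p₁.ResidueField L
  haveI : Nonempty (L →+* AlgebraicClosure L) := ⟨algebraMap L (AlgebraicClosure L)⟩
  haveI : IsPurelyInseparable p₁.ResidueField L := by
    refine IsPurelyInseparable.of_injective_comp_algebraMap p₁.ResidueField L
      (AlgebraicClosure L) ?_
    intro f g hfg
    apply hφ (AlgebraicClosure L) f g
    refine RingHom.ext fun a => ?_
    have := congrArg (fun h : p₁.ResidueField →+* AlgebraicClosure L =>
      h (algebraMap A₁ p₁.ResidueField a)) hfg
    simp only [RingHom.comp_apply] at this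
    change f (φ a) = g (φ a)
    rw [← hθ a]
    exact this
  have hsurj : Function.Surjective θ :=
    IsPurelyInseparable.surjective_algebraMap_of_isSeparable p₁.ResidueField L
  let θe : p₁.ResidueField ≃+* L := RingEquiv.ofBijective θ ⟨θ.injective, hsurj⟩
  refine ⟨A₁, inferInstance, inferInstance, p₁, inferInstance, hp₁, θe.symm.toRingHom,
    inferInstance, ?_⟩
  refine RingHom.ext fun c => ?_
  have h1 : algebraMap p.ResidueField L c =
      θe (Ideal.ResidueField.map p p₁ (algebraMap R A₁) hp₁ c) := by
    have := congrArg (fun h : p.ResidueField →+* L => h c) hθmap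
    exact this.symm
  change θe.symm (algebraMap p.ResidueField L c) = _
  rw [h1, RingEquiv.symm_apply_apply]

end
end Groth.Agent.Lead.SplitInt
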