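import Mathlib
import Groth.Agent.Lib.Lead.SplitInt2

/-!
# Purely inseparable residue extensions after enlarging the residue field (lead, S1380)
-/

set_option autoImplicit false
set_option backward.isDefEq.respectTransparency.types false
set_option synthInstance.maxHeartbeats 400000
set_option linter.style.haveILetI false
set_option linter.unusedSectionVars false

universe u v w
open TensorProduct Polynomial

namespace Groth.Agent.Lead.SplitInt
noncomputable section

theorem isAlgebraic_residueField_map {R S : Type*} [CommRing R] [CommRing S] [Algebra R S]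
    [Algebra.IsIntegral R S]
    (p : Ideal R) [p.IsPrime] (q : Ideal S) [q.IsPrime] (hq : p = q.comap (algebraMap R S)) :
    letI := (Ideal.ResidueField.map p q (algebraMap R S) hq).toAlgebra
    Algebra.IsAlgebraic p.ResidueField q.ResidueField := by
  haveI : q.LiesOver p := ⟨hq⟩
  letI := Localization.AtPrime.algebraOfLiesOver p q
  have h : Algebra.IsAlgebraic p.ResidueField q.ResidueField := inferInstance
  have e : (Ideal.ResidueField.map p q (algebraMap R S) hq).toAlgebra =
      (IsLocalRing.ResidueField.instAlgebra : Algebra p.ResidueField q.ResidueField) := by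
    refine Algebra.algebra_ext _ _ (fun x => ?_)
    rfl
  rw [e]
  exact h

/-- If the minimal polynomials of all separable elements of `κ(q)` over `κ(p)` split in `κ(p₁)`,
then every prime `r` of `R₁ ⊗[R] S` over `p₁` and `q` has purely inseparable residue field
over `κ(p₁)`. -/
theorem PIAt.of_splits {R R₁ S : Type*} [CommRing R] [CommRing R₁] [CommRing S]
    [Algebra R R₁] [Algebra R S] [Algebra.IsIntegral R S]
    (p : Ideal R) [p.IsPrime] (p₁ : Ideal R₁) [p₁.IsPrime] (hp₁ : p = p₁.comap (algebraMap R R₁))
    (r : Ideal (R₁ ⊗[R] S)) [r.IsPrime] (hr : p₁ = r.comap (algebraMap R₁ (R₁ ⊗[R] S)))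
    (q : Ideal S) [q.IsPrime]
    (hqr' : ∀ s : S, s ∈ q ↔ (1 : R₁) ⊗ₜ[R] s ∈ r)
    (hq : p = q.comap (algebraMap R S))
    (H : letI := (Ideal.ResidueField.map p q (algebraMap R S) hq).toAlgebra
      ∀ y : q.ResidueField, IsSeparable p.ResidueField y →
        ((minpoly p.ResidueField y).map
          (Ideal.ResidueField.map p p₁ (algebraMap R R₁) hp₁)).Splits) :
    PIAt p₁ r hr := by
  let ir : S →ₐ[R] R₁ ⊗[R] S := Algebra.TensorProduct.includeRight
  have hqr : q = r.comap ir.toRingHom := by
    ext s
    rw [hqr' s]
    rfl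
  obtain ⟨P0, hP0⟩ : ∃ P0 : ℕ, ExpChar p.ResidueField P0 :=
    ⟨ringExpChar p.ResidueField, inferInstance⟩
  haveI := hP0
  haveI : ExpChar p₁.ResidueField P0 :=
    expChar_of_injective_ringHom (Ideal.ResidueField.map p p₁ (algebraMap R R₁) hp₁).injective P0
  have hcomm : (Ideal.ResidueField.map q r ir.toRingHom hqr).comp
      (Ideal.ResidueField.map p q (algebraMap R S) hq) =
      (Ideal.ResidueField.map p₁ r (algebraMap R₁ (R₁ ⊗[R] S)) hr).comp
        (Ideal.ResidueField.map p p₁ (algebraMap R R₁) hp₁) := by
    apply Ideal.ResidueField.ringHom_ext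
    refine RingHom.ext fun x => ?_
    simp only [RingHom.comp_apply, Ideal.ResidueField.map_algebraMap]
    congr 1
    simp only [AlgHom.toRingHom_eq_coe, RingHom.coe_coe]
    rw [AlgHom.commutes ir, IsScalarTower.algebraMap_apply R R₁ (R₁ ⊗[R] S)]
  have key := isPurelyInseparable_tensor p₁ r hr P0
  apply key
  intro s
  have halg := isAlgebraic_residueField_map p q hq
  letI := (Ideal.ResidueField.map p q (algebraMap R S) hq).toAlgebra
  haveI : Algebra.IsAlgebraic p.ResidueField q.ResidueField := halg
  haveI : ExpChar (separableClosure p.ResidueField q.ResidueField) P0 :=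
    expChar_of_injective_algebraMap
      (algebraMap p.ResidueField (separableClosure p.ResidueField q.ResidueField)).injective P0
  obtain ⟨n, y, hy⟩ := IsPurelyInseparable.pow_mem
    (separableClosure p.ResidueField q.ResidueField) P0 (algebraMap S q.ResidueField s)
  have hysep : IsSeparable p.ResidueField (y : q.ResidueField) := mem_separableClosure_iff.mp y.2
  have hsplit := H (y : q.ResidueField) hysep
  have hne : (minpoly p.ResidueField (y : q.ResidueField)).map
      (Ideal.ResidueField.map p p₁ (algebraMap R R₁) hp₁) ≠ 0 :=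
    Polynomial.map_ne_zero (minpoly.ne_zero hysep.isIntegral)
  have hroot : (((minpoly p.ResidueField (y : q.ResidueField)).map
      (Ideal.ResidueField.map p p₁ (algebraMap R R₁) hp₁)).map
      (Ideal.ResidueField.map p₁ r (algebraMap R₁ (R₁ ⊗[R] S)) hr)).IsRoot
      (Ideal.ResidueField.map q r ir.toRingHom hqr (y : q.ResidueField)) := by
    rw [Polynomial.map_map, ← hcomm, Polynomial.IsRoot.def, Polynomial.eval_map,
      ← Polynomial.hom_eval₂]
    have : Polynomial.eval₂ (Ideal.ResidueField.map p q (algebraMap R S) hq)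
        (y : q.ResidueField) (minpoly p.ResidueField (y : q.ResidueField)) = 0 :=
      minpoly.aeval p.ResidueField (y : q.ResidueField)
    rw [this, map_zero]
  have hmem := hsplit.mem_range_of_isRoot hne hroot
  refine ⟨n, ?_⟩
  have h1 : algebraMap (R₁ ⊗[R] S) r.ResidueField (1 ⊗ₜ[R] s) =
      Ideal.ResidueField.map q r ir.toRingHom hqr (algebraMap S q.ResidueField s) := by
    rw [Ideal.ResidueField.map_algebraMap]
    rfl
  rw [h1, ← map_pow]
  have h2 : (algebraMap S q.ResidueField s) ^ P0 ^ n = (y : q.ResidueField) := hy.symm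
  rw [h2]
  exact hmem

end
end Groth.Agent.Lead.SplitInt
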