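import Mathlib
import Groth.Agent.Lib.Lead.SplitInt6
import Groth.Agent.Lib.Lead.SplitInt7
import Groth.Agent.Lib.Lead.SplitInt8

/-!
# Theorem A for S1380: an étale neighbourhood making all fibre residue extensions purely
inseparable (lead)
-/

set_option autoImplicit false
set_option backward.isDefEq.respectTransparency.types false
set_option synthInstance.maxHeartbeats 400000
set_option linter.style.haveILetI false
set_option linter.unusedSectionVars false

universe u v w
open TensorProduct Polynomial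

namespace Groth.Agent.Lead.SplitInt
noncomputable section

theorem finite_fibre_tensor {R R₁ S : Type*} [CommRing R] [CommRing R₁] [CommRing S]
    [Algebra R R₁] [Algebra R S] [Algebra.QuasiFinite R R₁]
    (F : Set (PrimeSpectrum S)) (hF : F.Finite) :
    {r : PrimeSpectrum (R₁ ⊗[R] S) | PrimeSpectrum.comap
      (Algebra.TensorProduct.includeRight : S →ₐ[R] R₁ ⊗[R] S).toRingHom r ∈ F}.Finite := by
  let c : R₁ ⊗[R] S ≃ₐ[R] S ⊗[R] R₁ := Algebra.TensorProduct.comm R R₁ S
  have h1 := Algebra.QuasiFinite.finite_comap_preimage (R := S) (S := S ⊗[R] R₁) hF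
  let g : S ⊗[R] R₁ →+* R₁ ⊗[R] S := c.symm.toAlgHom.toRingHom
  have hginj : Function.Injective (PrimeSpectrum.comap g) :=
    PrimeSpectrum.comap_injective_of_surjective g c.symm.surjective
  refine Set.Finite.of_finite_image (f := PrimeSpectrum.comap g) ?_ hginj.injOn
  refine h1.subset ?_
  rintro _ ⟨r, hr, rfl⟩
  have : PrimeSpectrum.comap (algebraMap S (S ⊗[R] R₁)) (PrimeSpectrum.comap g r) =
      PrimeSpectrum.comap
        (Algebra.TensorProduct.includeRight : S →ₐ[R] R₁ ⊗[R] S).toRingHom r := by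
    apply PrimeSpectrum.ext
    ext s
    change g (algebraMap S (S ⊗[R] R₁) s) ∈ r.asIdeal ↔ (1 : R₁) ⊗ₜ[R] s ∈ r.asIdeal
    have : g (algebraMap S (S ⊗[R] R₁) s) = (1 : R₁) ⊗ₜ[R] s := by
      rw [Algebra.TensorProduct.algebraMap_apply]
      change c.symm (s ⊗ₜ[R] (1 : R₁)) = _
      simp [c]
    rw [this]
  change PrimeSpectrum.comap (algebraMap S (S ⊗[R] R₁)) (PrimeSpectrum.comap g r) ∈ F
  rw [this]
  exact hr

theorem thmA {R S : Type u} [CommRing R] [CommRing S] [Algebra R S] [Algebra.IsIntegral R S]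
    (p : Ideal R) [p.IsPrime]
    (hfin : {q : PrimeSpectrum S | q.asIdeal.comap (algebraMap R S) = p}.Finite)
    (hsep : ∀ (q : PrimeSpectrum S) (hq : q.asIdeal.comap (algebraMap R S) = p),
      letI := (Ideal.ResidueField.map p q.asIdeal (algebraMap R S) hq.symm).toAlgebra
      Module.Finite p.ResidueField (separableClosure p.ResidueField q.asIdeal.ResidueField)) :
    ∃ (R₁ : Type u) (_ : CommRing R₁) (_ : Algebra R R₁) (p₁ : Ideal R₁) (_ : p₁.IsPrime),
      Algebra.Etale R R₁ ∧ p₁.comap (algebraMap R R₁) = p ∧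
      {r : PrimeSpectrum (R₁ ⊗[R] S) |
        r.asIdeal.comap (algebraMap R₁ (R₁ ⊗[R] S)) = p₁}.Finite ∧
      ∀ (r : PrimeSpectrum (R₁ ⊗[R] S))
        (hr : r.asIdeal.comap (algebraMap R₁ (R₁ ⊗[R] S)) = p₁), PIAt p₁ r.asIdeal hr.symm := by
  classical
  let F : Set (PrimeSpectrum S) := {q : PrimeSpectrum S | q.asIdeal.comap (algebraMap R S) = p}
  haveI : Finite F := hfin.to_subtype
  letI alg : ∀ i : F, Algebra p.ResidueField i.1.asIdeal.ResidueField := fun i =>
    (Ideal.ResidueField.map p i.1.asIdeal (algebraMap R S) i.2.symm).toAlgebra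
  haveI hfd : ∀ i : F, FiniteDimensional p.ResidueField
      (separableClosure p.ResidueField i.1.asIdeal.ResidueField) := fun i => hsep i.1 i.2
  obtain ⟨L, _, _, hLfd, hLsep, hLsplit⟩ := exists_splitting_family (k := p.ResidueField)
    (fun i : F => ↥(separableClosure p.ResidueField i.1.asIdeal.ResidueField))
  haveI := hLfd
  haveI := hLsep
  obtain ⟨R₁, _, _, p₁, _, hp₁, ι, hét, hι⟩ := exists_etale_residueField p L
  haveI := hét
  refine ⟨R₁, inferInstance, inferInstance, p₁, inferInstance, hét, hp₁.symm, ?_, ?_⟩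
  · refine (finite_fibre_tensor (R := R) (R₁ := R₁) F hfin).subset ?_
    intro r hr
    change (r.asIdeal.comap (Algebra.TensorProduct.includeRight :
      S →ₐ[R] R₁ ⊗[R] S).toRingHom).comap (algebraMap R S) = p
    have hr' : r.asIdeal.comap (algebraMap R₁ (R₁ ⊗[R] S)) = p₁ := hr
    rw [show (r.asIdeal.comap (Algebra.TensorProduct.includeRight :
        S →ₐ[R] R₁ ⊗[R] S).toRingHom).comap (algebraMap R S) =
        (r.asIdeal.comap (algebraMap R₁ (R₁ ⊗[R] S))).comap (algebraMap R R₁) from ?_, hr', ← hp₁]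
    ext x
    simp only [Ideal.mem_comap, AlgHom.toRingHom_eq_coe, RingHom.coe_coe]
    rw [AlgHom.commutes, ← IsScalarTower.algebraMap_apply R R₁ (R₁ ⊗[R] S)]
  · intro r hr
    let q : Ideal S := r.asIdeal.comap (Algebra.TensorProduct.includeRight :
      S →ₐ[R] R₁ ⊗[R] S).toRingHom
    have hq : q.comap (algebraMap R S) = p := by
      rw [show q.comap (algebraMap R S) =
        (r.asIdeal.comap (algebraMap R₁ (R₁ ⊗[R] S))).comap (algebraMap R R₁) from ?_, hr, ← hp₁]
      ext x
      simp only [q, Ideal.mem_comap, AlgHom.toRingHom_eq_coe, RingHom.coe_coe]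
      rw [AlgHom.commutes, ← IsScalarTower.algebraMap_apply R R₁ (R₁ ⊗[R] S)]
    let i : F := ⟨⟨q, inferInstance⟩, hq⟩
    have hclaim : ∀ y : i.1.asIdeal.ResidueField, IsSeparable p.ResidueField y →
        ((minpoly p.ResidueField y).map
          (Ideal.ResidueField.map p p₁ (algebraMap R R₁) hp₁)).Splits := by
      intro y hy
      have hy' : y ∈ separableClosure p.ResidueField i.1.asIdeal.ResidueField :=
        mem_separableClosure_iff.mpr hy
      have h1 := hLsplit i ⟨y, hy'⟩
      have h2 : minpoly p.ResidueField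
          (⟨y, hy'⟩ : separableClosure p.ResidueField i.1.asIdeal.ResidueField) =
          minpoly p.ResidueField y :=
        (minpoly.algebraMap_eq (algebraMap
          (separableClosure p.ResidueField i.1.asIdeal.ResidueField)
          i.1.asIdeal.ResidueField).injective _).symm
      rw [h2] at h1
      have h3 := h1.map ι
      rw [Polynomial.map_map, hι] at h3
      exact h3
    exact PIAt.of_splits p p₁ hp₁ r.asIdeal hr.symm q (fun s => Iff.rfl) hq.symm hclaim

end
end Groth.Agent.Lead.SplitInt
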