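import Mathlib
import Groth.Agent.Lib.Lead.SplitInt5
import Groth.Agent.Lib.Lead.SplitInt9

/-!
# S1380: étale-local splitting of an integral algebra at a prime with finite fibre (lead)
-/

set_option autoImplicit false
set_option backward.isDefEq.respectTransparency.types false
set_option synthInstance.maxHeartbeats 400000
set_option linter.style.haveILetI false
set_option linter.unusedSectionVars false

universe u v w
open TensorProduct Polynomial

namespace Groth.Agent.Lead.SplitInt
noncomputable section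

/-- Empty fibre: localize away from an element of the kernel outside `p`. -/
theorem thmB0 {R S : Type u} [CommRing R] [CommRing S] [Algebra R S] [Algebra.IsIntegral R S]
    (p : Ideal R) [p.IsPrime]
    (hempty : ¬ ∃ q : PrimeSpectrum S, q.asIdeal.comap (algebraMap R S) = p) :
    ∃ (R' : Type u) (_ : CommRing R') (_ : Algebra R R') (P : Ideal R') (_ : P.IsPrime),
      Algebra.Etale R R' ∧ P.comap (algebraMap R R') = p ∧ Splits R' P (R' ⊗[R] S) := by
  classical
  have hker : ¬ RingHom.ker (algebraMap R S) ≤ p := by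
    intro hle
    obtain ⟨Q, -, hQ, hQp⟩ := Ideal.exists_ideal_over_prime_of_isIntegral p (⊥ : Ideal S)
      (by rw [← RingHom.ker_eq_comap_bot]; exact hle)
    exact hempty ⟨⟨Q, hQ⟩, hQp⟩
  obtain ⟨f, hfker, hfp⟩ := Set.not_subset.mp hker
  have hdisj : Disjoint (Submonoid.powers f : Set R) (p : Set R) := by
    rw [Ideal.disjoint_powers_iff_notMem_of_isPrime]
    exact hfp
  let R' := Localization.Away f
  let P : Ideal R' := p.map (algebraMap R R')
  haveI : P.IsPrime := IsLocalization.isPrime_of_isPrime_disjoint (.powers f) _ _ inferInstance hdisj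
  have hP : P.comap (algebraMap R R') = p :=
    IsLocalization.comap_map_of_isPrime_disjoint (.powers f) _ inferInstance hdisj
  haveI : Subsingleton (R' ⊗[R] S) := by
    have h1 : IsUnit (algebraMap R' (R' ⊗[R] S) (algebraMap R R' f)) :=
      (IsLocalization.Away.algebraMap_isUnit f).map _
    have h2 : algebraMap R' (R' ⊗[R] S) (algebraMap R R' f) = 0 := by
      rw [← IsScalarTower.algebraMap_apply R R' (R' ⊗[R] S),
        ← (Algebra.TensorProduct.includeRight : S →ₐ[R] R' ⊗[R] S).commutes,
        RingHom.mem_ker.mp hfker, map_zero]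
    rw [h2] at h1
    exact subsingleton_of_zero_eq_one (isUnit_zero_iff.mp h1)
  refine ⟨R', inferInstance, inferInstance, P, inferInstance, inferInstance, hP, ?_⟩
  let F : R' ⊗[R] S →ₐ[R'] (Π _ : Fin 0, PUnit.{u + 1}) := Pi.algHom R' _ (fun j => j.elim0)
  have hF : Function.Bijective F :=
    ⟨fun a b _ => Subsingleton.elim a b, fun y => ⟨0, Subsingleton.elim _ _⟩⟩
  exact ⟨0, fun _ => PUnit.{u + 1}, fun _ => inferInstance, fun _ => inferInstance,
    AlgEquiv.ofBijective F hF, fun j => j.elim0⟩

theorem thmB' {R S : Type u} [CommRing R] [CommRing S] [Algebra R S] [Algebra.IsIntegral R S]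
    (p : Ideal R) [p.IsPrime]
    (hfin : {q : PrimeSpectrum S | q.asIdeal.comap (algebraMap R S) = p}.Finite)
    (hPI : ∀ (q : PrimeSpectrum S) (hq : q.asIdeal.comap (algebraMap R S) = p),
      PIAt p q.asIdeal hq.symm) :
    ∃ (R' : Type u) (_ : CommRing R') (_ : Algebra R R') (P : Ideal R') (_ : P.IsPrime),
      Algebra.Etale R R' ∧ P.comap (algebraMap R R') = p ∧ Splits R' P (R' ⊗[R] S) := by
  by_cases hne : ∃ q : PrimeSpectrum S, q.asIdeal.comap (algebraMap R S) = p
  · exact thmB p hfin hne hPI
  · exact thmB0 p hne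

theorem main {R S : Type u} [CommRing R] [CommRing S] [Algebra R S] [Algebra.IsIntegral R S]
    (p : Ideal R) [p.IsPrime]
    (hfin : {q : PrimeSpectrum S | q.asIdeal.comap (algebraMap R S) = p}.Finite)
    (hsep : ∀ (q : PrimeSpectrum S) (hq : q.asIdeal.comap (algebraMap R S) = p),
      letI := (Ideal.ResidueField.map p q.asIdeal (algebraMap R S) hq.symm).toAlgebra
      Module.Finite p.ResidueField (separableClosure p.ResidueField q.asIdeal.ResidueField)) :
    ∃ (R' : Type u) (_ : CommRing R') (_ : Algebra R R') (p' : PrimeSpectrum R'),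
      Algebra.Etale R R' ∧ p'.asIdeal.comap (algebraMap R R') = p ∧
      ∃ (m : ℕ) (A : Fin m → Type u) (_ : ∀ j, CommRing (A j)) (_ : ∀ j, Algebra R' (A j))
        (e : R' ⊗[R] S ≃ₐ[R'] (Π j, A j)),
        ∀ j, Algebra.IsIntegral R' (A j) ∧ ∃ (r : PrimeSpectrum (A j))
          (hr : r.asIdeal.comap (algebraMap R' (A j)) = p'.asIdeal),
          (∀ r' : PrimeSpectrum (A j),
            r'.asIdeal.comap (algebraMap R' (A j)) = p'.asIdeal → r' = r) ∧
          letI := (Ideal.ResidueField.map p'.asIdeal r.asIdeal (algebraMap R' (A j))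
            hr.symm).toAlgebra
          IsPurelyInseparable p'.asIdeal.ResidueField r.asIdeal.ResidueField := by
  obtain ⟨R₁, _, _, p₁, _, hét₁, hp₁, hfin₁, hPI₁⟩ := thmA p hfin hsep
  obtain ⟨R', _, _, P, _, hét', hP, hsplit⟩ := thmB' (R := R₁) (S := R₁ ⊗[R] S) p₁ hfin₁ hPI₁
  letI : Algebra R R' := ((algebraMap R₁ R').comp (algebraMap R R₁)).toAlgebra
  haveI : IsScalarTower R R₁ R' := IsScalarTower.of_algebraMap_eq' rfl
  haveI : Algebra.Etale R R' := Algebra.Etale.comp R R₁ R'
  have hPp : P.comap (algebraMap R R') = p := by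
    rw [IsScalarTower.algebraMap_eq R R₁ R', ← Ideal.comap_comap, hP, hp₁]
  have hsplit' : Splits R' P (R' ⊗[R] S) :=
    Splits.of_algEquiv (Algebra.TensorProduct.cancelBaseChange R R₁ R' R' S) hsplit
  obtain ⟨m, A, i1, i2, e, he⟩ := hsplit'
  exact ⟨R', inferInstance, inferInstance, ⟨P, inferInstance⟩, inferInstance, hPp, m, A, i1, i2, e,
    he⟩

end
end Groth.Agent.Lead.SplitInt
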