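import Mathlib

/-!
# The spectrum of the fraction field as a cofiltered limit of basic opens (lead)
-/

set_option autoImplicit false
set_option backward.isDefEq.respectTransparency.types false
set_option synthInstance.maxHeartbeats 400000
set_option maxHeartbeats 1000000
set_option linter.style.haveILetI false
set_option linter.unusedVariables false
set_option linter.unusedSectionVars false

universe u

open CategoryTheory AlgebraicGeometry Limits TopologicalSpace

namespace Groth.Agent.Lead.SpreadK

variable (R : Type u) [CommRing R] [IsDomain R]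

/-- nonzero elements -/
structure Idx : Type u where
  val : R
  ne : val ≠ 0

instance : Preorder (Idx R) where
  le a b := b.val ∣ a.val
  le_refl a := dvd_refl _
  le_trans a b c hab hbc := dvd_trans hbc hab

instance : Nonempty (Idx R) := ⟨⟨1, one_ne_zero⟩⟩

instance : IsCodirectedOrder (Idx R) :=
  ⟨fun a b => ⟨⟨a.val * b.val, mul_ne_zero a.ne b.ne⟩, Dvd.intro _ rfl, Dvd.intro_left _ rfl⟩⟩

/-- the basic open attached to a nonzero element -/
noncomputable def opn (a : Idx R) : (Spec (CommRingCat.of R)).Opens :=
  (Spec (CommRingCat.of R)).basicOpen ((Scheme.ΓSpecIso (CommRingCat.of R)).inv a.val)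

theorem opn_eq (a : Idx R) : opn R a = PrimeSpectrum.basicOpen a.val :=
  basicOpen_eq_of_affine (R := CommRingCat.of R) a.val

theorem opn_mono : Monotone (opn R) := by
  intro a b hab
  obtain ⟨c, hc⟩ : b.val ∣ a.val := hab
  rw [opn_eq, opn_eq, hc, PrimeSpectrum.basicOpen_mul]
  exact inf_le_left

/-- the transition maps -/
noncomputable def tr {a b : Idx R} (h : a ≤ b) :
    ((opn R a : (Spec (CommRingCat.of R)).Opens) : Scheme.{u}) ⟶
      ((opn R b : (Spec (CommRingCat.of R)).Opens) : Scheme.{u}) :=
  (Spec (CommRingCat.of R)).homOfLE (opn_mono R h)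

theorem tr_ι {a b : Idx R} (h : a ≤ b) : tr R h ≫ (opn R b).ι = (opn R a).ι :=
  Scheme.homOfLE_ι _ _

/-- the diagram of basic opens -/
noncomputable def D : Idx R ⥤ Scheme.{u} where
  obj a := ((opn R a : (Spec (CommRingCat.of R)).Opens) : Scheme.{u})
  map {a b} f := tr R (leOfHom f)
  map_id a := Scheme.homOfLE_rfl _ _
  map_comp f g := (Scheme.homOfLE_homOfLE _ _ _).symm

theorem D_obj (a : Idx R) : (D R).obj a = ((opn R a : (Spec (CommRingCat.of R)).Opens) : Scheme.{u}) :=
  rfl

theorem D_map {a b : Idx R} (f : a ⟶ b) : (D R).map f = tr R (leOfHom f) := rfl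

instance isAffine_D (a : Idx R) : IsAffine ((D R).obj a) := by
  show IsAffine ((opn R a : (Spec (CommRingCat.of R)).Opens) : Scheme.{u})
  exact ((isAffineOpen_top (Spec (CommRingCat.of R))).basicOpen _)

instance (a b : Idx R) (f : a ⟶ b) : IsAffineHom ((D R).map f) := inferInstance

instance (a : Idx R) : CompactSpace ((D R).obj a) := inferInstance

instance (a : Idx R) : QuasiSeparatedSpace ((D R).obj a) := inferInstance

/-- the generic point -/
noncomputable abbrev gK : Spec (CommRingCat.of (FractionRing R)) ⟶ Spec (CommRingCat.of R) :=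
  Spec.map (CommRingCat.ofHom (algebraMap R (FractionRing R)))

theorem gK_mem (a : Idx R) (w : ↥(Spec (CommRingCat.of (FractionRing R)))) : gK R w ∈ opn R a := by
  rw [opn_eq]
  show a.val ∉ ((gK R) w).asIdeal
  intro h
  have h1 : algebraMap R (FractionRing R) a.val ∈ w.asIdeal := h
  have h2 : w.asIdeal = ⊥ := by
    by_contra hne
    exact w.isPrime.ne_top ((Ideal.eq_bot_or_top w.asIdeal).resolve_left hne)
  rw [h2, Ideal.mem_bot] at h1
  exact a.ne ((IsFractionRing.injective R (FractionRing R))
    (h1.trans (map_zero _).symm))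

theorem range_gK (a : Idx R) : Set.range (gK R) ⊆ Set.range (opn R a).ι := by
  rintro _ ⟨w, rfl⟩
  rw [Scheme.Opens.range_ι]
  exact gK_mem R a w

/-- the generic point, as a point of a basic open -/
noncomputable def gKa (a : Idx R) : Spec (CommRingCat.of (FractionRing R)) ⟶
    ((opn R a : (Spec (CommRingCat.of R)).Opens) : Scheme.{u}) :=
  IsOpenImmersion.lift (opn R a).ι (gK R) (range_gK R a)

theorem gKa_ι (a : Idx R) : gKa R a ≫ (opn R a).ι = gK R :=
  IsOpenImmersion.lift_fac _ _ _

/-- the cone over the diagram of basic opens with vertex the spectrum of the fraction field -/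
noncomputable def coneK : Cone (D R) where
  pt := Spec (CommRingCat.of (FractionRing R))
  π :=
    { app := fun a => gKa R a
      naturality := by
        intro a b f
        have h : gKa R a ≫ tr R (leOfHom f) = gKa R b := by
          apply (cancel_mono (opn R b).ι).1
          rw [Category.assoc, tr_ι, gKa_ι, gKa_ι]
        exact (Category.id_comp _).trans h.symm }

theorem coneK_π_ι (a : Idx R) : (coneK R).π.app a ≫ (opn R a).ι = gK R :=
  gKa_ι R a

end Groth.Agent.Lead.SpreadK
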