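import Mathlib
import Groth.Agent.Lib.Lead.SpreadK1

/-!
# The spectrum of the fraction field is the limit of the basic opens (lead)
-/

set_option autoImplicit false
set_option backward.isDefEq.respectTransparency.types false
set_option synthInstance.maxHeartbeats 400000
set_option maxHeartbeats 1000000
set_option linter.style.haveILetI false
set_option linter.unusedVariables false
set_option linter.unusedSectionVars false

universe u

open CategoryTheory AlgebraicGeometry Limits TopologicalSpace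

namespace Groth.Agent.Lead.SpreadK

variable (R : Type u) [CommRing R] [IsDomain R]

theorem isUnit_res_of_eq_basicOpen (X : Scheme.{u}) (r : Γ(X, ⊤)) (V : X.Opens)
    (hV : V = X.basicOpen r) (i : V ⟶ (⊤ : X.Opens)) : IsUnit (X.presheaf.map i.op r) := by
  subst hV
  have h := RingedSpace.isUnit_res_basicOpen X.toRingedSpace (U := ⊤) r
  have hi : i = homOfLE (X.toRingedSpace.basicOpen_le r) := Subsingleton.elim _ _
  rw [hi]
  exact h

theorem isUnit_ι_appTop (a : Idx R) :
    IsUnit ((opn R a).ι.appTop ((Scheme.ΓSpecIso (CommRingCat.of R)).inv a.val)) := by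
  rw [Scheme.Opens.ι_appTop]
  exact isUnit_res_of_eq_basicOpen _ _ _ (Scheme.Opens.ι_image_top _) _

/-- two morphisms to the spectrum of the fraction field which agree over the base agree -/
theorem hom_ext_gK {T : Scheme.{u}} (l l' : T ⟶ Spec (CommRingCat.of (FractionRing R)))
    (h : l' ≫ gK R = l ≫ gK R) : l' = l := by
  apply ext_of_isAffine
  rw [← cancel_epi (Scheme.ΓSpecIso (CommRingCat.of (FractionRing R))).inv]
  apply CommRingCat.hom_ext
  apply IsLocalization.ringHom_ext (nonZeroDivisors R)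
  have h1 := congrArg (fun k => (Scheme.ΓSpecIso (CommRingCat.of R)).inv ≫ k.appTop) h
  simp only [Scheme.Hom.comp_appTop] at h1
  rw [← Category.assoc, ← Category.assoc, ← Scheme.ΓSpecIso_inv_naturality, Category.assoc,
    Category.assoc] at h1
  exact congrArg CommRingCat.Hom.hom h1

theorem isLimit_coneK : Nonempty (IsLimit (coneK R)) := by
  refine ⟨IsLimit.ofExistsUnique fun s => ?_⟩
  obtain ⟨a₁, ha₁⟩ : ∃ a₁ : Idx R, a₁ = ⟨1, one_ne_zero⟩ := ⟨_, rfl⟩
  obtain ⟨T, hT⟩ : ∃ T : Scheme.{u}, T = s.pt := ⟨_, rfl⟩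
  subst hT
  have hsa : ∀ a : Idx R, ∃ sa : s.pt ⟶ ((opn R a : (Spec (CommRingCat.of R)).Opens) : Scheme.{u}),
      sa = s.π.app a := fun a => ⟨_, rfl⟩
  choose sa hsa using hsa
  obtain ⟨q, hq0⟩ : ∃ q : s.pt ⟶ Spec (CommRingCat.of R), q = sa a₁ ≫ (opn R a₁).ι := ⟨_, rfl⟩
  have hq : ∀ a : Idx R, sa a ≫ (opn R a).ι = q := by
    intro a
    have hle : a ≤ a₁ := by rw [ha₁]; exact one_dvd _
    have h1 : sa a ≫ tr R hle = sa a₁ := by
      rw [hsa, hsa]
      exact s.w (homOfLE hle)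
    rw [hq0, ← h1, Category.assoc, tr_ι]
  obtain ⟨φ, hφ⟩ : ∃ φ : CommRingCat.of R ⟶ Γ(s.pt, ⊤),
      φ = (Scheme.ΓSpecIso (CommRingCat.of R)).inv ≫ q.appTop := ⟨_, rfl⟩
  have hqφ : q = s.pt.toSpecΓ ≫ Spec.map φ := by
    have h1 := Scheme.toSpecΓ_naturality q
    have h2 := toSpecΓ_SpecMap_ΓSpecIso_inv (CommRingCat.of R)
    calc q = q ≫ (Spec (CommRingCat.of R)).toSpecΓ ≫
          Spec.map (Scheme.ΓSpecIso (CommRingCat.of R)).inv := by rw [h2, Category.comp_id]
      _ = s.pt.toSpecΓ ≫ Spec.map q.appTop ≫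
          Spec.map (Scheme.ΓSpecIso (CommRingCat.of R)).inv := by
        rw [← Category.assoc, h1, Category.assoc]
      _ = s.pt.toSpecΓ ≫ Spec.map φ := by rw [← Spec.map_comp, hφ]
  have hunit : ∀ a : Idx R, IsUnit (φ.hom a.val) := by
    intro a
    have h1 : q.appTop = (opn R a).ι.appTop ≫ (sa a).appTop := by
      rw [← hq a]; rfl
    have h2 := isUnit_ι_appTop R a
    have h3 : φ.hom a.val = (sa a).appTop.hom
        ((opn R a).ι.appTop ((Scheme.ΓSpecIso (CommRingCat.of R)).inv a.val)) := by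
      rw [hφ, h1]; rfl
    rw [h3]
    exact h2.map _
  obtain ⟨ψ, hψ⟩ : ∃ ψ : FractionRing R →+* Γ(s.pt, ⊤), ψ.comp (algebraMap R (FractionRing R)) = φ.hom :=
    ⟨IsLocalization.lift (M := nonZeroDivisors R) (g := φ.hom)
      (fun y => hunit ⟨y.1, nonZeroDivisors.ne_zero y.2⟩), IsLocalization.lift_comp _⟩
  obtain ⟨l, hl0⟩ : ∃ l : s.pt ⟶ Spec (CommRingCat.of (FractionRing R)),
      l = s.pt.toSpecΓ ≫ Spec.map (CommRingCat.ofHom ψ) := ⟨_, rfl⟩
  have hl : l ≫ gK R = q := by
    rw [hl0, Category.assoc, ← Spec.map_comp, hqφ]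
    congr 2
    apply CommRingCat.hom_ext
    exact hψ
  have hfac : ∀ (l' : s.pt ⟶ Spec (CommRingCat.of (FractionRing R))),
      (∀ a, l' ≫ (coneK R).π.app a = s.π.app a) ↔ l' ≫ gK R = q := by
    intro l'
    constructor
    · intro h
      have h1 : l' ≫ gKa R a₁ = sa a₁ := by rw [hsa]; exact h a₁
      rw [← gKa_ι R a₁, ← Category.assoc, h1, hq0]
    · intro h a
      have h1 : l' ≫ gKa R a = sa a := by
        apply (cancel_mono (opn R a).ι).1
        rw [Category.assoc, gKa_ι, h, hq a]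
      rw [← hsa]
      exact h1
  refine ⟨l, (hfac l).2 hl, ?_⟩
  intro l' hl'
  exact hom_ext_gK R l l' (((hfac l').1 hl').trans hl.symm)

end Groth.Agent.Lead.SpreadK
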