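import Mathlib
import Groth.Prelude.Def_CohB1
import Groth.Agent.Lib.Lead.SpreadK2
import Groth.Agent.Lib.Helper7.LimDesc4
import Groth.Agent.Lib.Helper7.LimHom
import Groth.Agent.Lib.Helper7.LimFin
import Groth.Agent.Lib.Helper7.LimModel
import Groth.Agent.Lib.Helper1.HProj2

/-!
# Spreading out a smooth projective scheme over the fraction field of a Dedekind domain (lead)
-/

set_option autoImplicit false
set_option backward.isDefEq.respectTransparency.types false
set_option synthInstance.maxHeartbeats 400000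
set_option maxHeartbeats 1000000
set_option linter.style.haveILetI false
set_option linter.unusedVariables false
set_option linter.unusedSectionVars false

universe u

open CategoryTheory AlgebraicGeometry Limits TopologicalSpace

namespace Groth.Agent.Lead.SpreadK

open Groth.Agent.Helper7.LimStage Groth.Agent.Helper1.HProj

variable (R : Type u) [CommRing R] [IsDedekindDomain R]

instance isLocallyNoetherian_D (a : Idx R) : IsLocallyNoetherian ((D R).obj a) := by
  haveI : IsNoetherianRing (CommRingCat.of R) := inferInstanceAs (IsNoetherianRing R)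
  show IsLocallyNoetherian ((opn R a : (Spec (CommRingCat.of R)).Opens) : Scheme.{u})
  infer_instance

theorem hom_subsingleton {a b : Idx R} (f g : a ⟶ b) : f = g := Subsingleton.elim _ _

theorem spread_out (C : Over (Spec (CommRingCat.of (FractionRing R)))) [Smooth C.hom]
    [IsProper C.hom] (n : ℕ)
    (ι : C.left ⟶ CohB1.ProjSpaceOver n (Spec (CommRingCat.of (FractionRing R))))
    [IsClosedImmersion ι]
    (hι : ι ≫ CohB1.ProjSpaceOver.toBase n (Spec (CommRingCat.of (FractionRing R))) = C.hom) :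
    ∃ (m : Idx R) (𝒞 : Scheme.{u})
      (π : 𝒞 ⟶ ((opn R m : (Spec (CommRingCat.of R)).Opens) : Scheme.{u})) (e : C.left ⟶ 𝒞),
      Smooth π ∧ IsProper π ∧ IsPullback e C.hom π (gKa R m) := by
  classical
  haveI hAff : ∀ {i j : Idx R} (f : i ⟶ j), IsAffineHom ((D R).map f) := fun f => inferInstance
  obtain ⟨hc⟩ := isLimit_coneK R
  -- Step A: a model of `C` over a finite stage
  obtain ⟨pC, hpC⟩ : ∃ pC : C.left ⟶ (coneK R).pt, pC = C.hom := ⟨_, rfl⟩
  haveI : Smooth pC := by subst hpC; exact inferInstanceAs (Smooth C.hom)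
  haveI : IsProper pC := by subst hpC; exact inferInstanceAs (IsProper C.hom)
  haveI : LocallyOfFinitePresentation pC := inferInstance
  haveI : QuasiCompact pC := inferInstance
  haveI : QuasiSeparated pC := inferInstance
  obtain ⟨i₁, ⟨M⟩⟩ := Groth.Agent.Helper7.LimDesc.desc_of_finitePresentation hc pC
  obtain ⟨X₁, x₁, q₁, hlfp₁, hqc₁, hqs₁, hpb₁⟩ := M
  haveI := hlfp₁
  haveI := hqc₁
  haveI := hqs₁
  haveI : CompactSpace X₁ := QuasiCompact.compactSpace_of_compactSpace x₁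
  haveI : QuasiSeparatedSpace X₁ := quasiSeparatedSpace_of_quasiSeparated x₁
  -- Step B: descend the morphism to projective space
  obtain ⟨y₁, hy₁⟩ : ∃ y₁ : CohB1.ProjSpaceOver n ((D R).obj i₁) ⟶ (D R).obj i₁,
      y₁ = CohB1.ProjSpaceOver.toBase n ((D R).obj i₁) := ⟨_, rfl⟩
  haveI : IsProper y₁ := by rw [hy₁]; infer_instance
  haveI : LocallyOfFinitePresentation y₁ := inferInstance
  haveI : CompactSpace (CohB1.ProjSpaceOver n ((D R).obj i₁)) :=
    QuasiCompact.compactSpace_of_compactSpace y₁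
  haveI : QuasiSeparatedSpace (CohB1.ProjSpaceOver n ((D R).obj i₁)) :=
    quasiSeparatedSpace_of_quasiSeparated y₁
  obtain ⟨pP, hpP⟩ : ∃ pP : CohB1.ProjSpaceOver n (coneK R).pt ⟶ (coneK R).pt,
      pP = CohB1.ProjSpaceOver.toBase n (coneK R).pt := ⟨_, rfl⟩
  have hY₁ : IsPullback (baseMap n ((coneK R).π.app i₁)) pP y₁ ((coneK R).π.app i₁) := by
    rw [hpP, hy₁]
    exact isPullback_baseMap n ((coneK R).π.app i₁)
  obtain ⟨ι', hι'⟩ : ∃ ι' : C.left ⟶ CohB1.ProjSpaceOver n (coneK R).pt, ι' = ι := ⟨_, rfl⟩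
  haveI : IsClosedImmersion ι' := by subst hι'; assumption
  have hι2 : ι' ≫ pP = pC := by rw [hι', hpP, hpC]; exact hι
  obtain ⟨j, φ, fj, sX, sY, h1, h2, h3, h4, h5, h6⟩ :=
    Groth.Agent.Helper7.LimHom.exists_hom_descend (D R) (coneK R) hc i₁ x₁ y₁ hpb₁ hY₁ ι' hι2
  -- the stage `j`
  obtain ⟨g₀, hg₀⟩ : ∃ g₀ : pullback y₁ ((D R).map φ) ⟶ (D R).obj j,
      g₀ = pullback.snd y₁ ((D R).map φ) := ⟨_, rfl⟩
  haveI : IsProper g₀ := by rw [hg₀]; infer_instance
  have hfg : fj ≫ g₀ = pullback.snd x₁ ((D R).map φ) := by rw [hg₀]; exact h1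
  haveI : LocallyOfFinitePresentation (fj ≫ g₀) := by rw [hfg]; infer_instance
  haveI : QuasiCompact (fj ≫ g₀) := by rw [hfg]; infer_instance
  haveI : QuasiSeparated (fj ≫ g₀) := by rw [hfg]; infer_instance
  haveI : LocallyOfFiniteType fj := locallyOfFiniteType_of_comp fj g₀
  haveI : CompactSpace (pullback x₁ ((D R).map φ) : Scheme.{u}) :=
    QuasiCompact.compactSpace_of_compactSpace (fj ≫ g₀)
  haveI : QuasiSeparatedSpace (pullback x₁ ((D R).map φ) : Scheme.{u}) :=
    quasiSeparatedSpace_of_quasiSeparated (fj ≫ g₀)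
  haveI : CompactSpace (pullback y₁ ((D R).map φ) : Scheme.{u}) :=
    QuasiCompact.compactSpace_of_compactSpace g₀
  haveI : QuasiSeparatedSpace (pullback y₁ ((D R).map φ) : Scheme.{u}) :=
    quasiSeparatedSpace_of_quasiSeparated g₀
  have hwj : (coneK R).π.app j ≫ (D R).map φ = (coneK R).π.app i₁ := (coneK R).w φ
  -- `C` is the base change of the stage `j`
  have hXK : IsPullback sX pC (fj ≫ g₀) ((coneK R).π.app j) := by
    rw [hfg]
    refine IsPullback.of_right ?_ h3 (IsPullback.of_hasPullback x₁ ((D R).map φ))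
    rw [h2, hwj]
    exact hpb₁
  have hYK : IsPullback sY pP g₀ ((coneK R).π.app j) := by
    rw [hg₀]
    refine IsPullback.of_right ?_ h5 (IsPullback.of_hasPullback y₁ ((D R).map φ))
    rw [h4, hwj]
    exact hY₁
  have hXY : IsPullback sX ι' fj sY :=
    IsPullback.of_bot (by rw [hι2]; exact hXK) h6 hYK
  -- Step C: the closed immersion at a finite stage
  have hci : IsClosedImmersion (bcHom fj g₀ ((coneK R).π.app j)) :=
    bcHom_of_isPullback fj g₀ @IsClosedImmersion ((coneK R).π.app j) hYK hXY inferInstance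
  obtain ⟨k, φk, hk⟩ := Groth.Agent.Helper7.LimFin.exists_stage_isClosedImmersion (D R) (coneK R) hc
    fj g₀ hci
  -- Step D: smoothness at a finite stage
  haveI : IsIso (𝟙 (coneK R).pt) := IsIso.id _
  haveI : IsIso (𝟙 ((D R).obj j)) := IsIso.id _
  have hidK : IsPullback ((coneK R).π.app j) (𝟙 (coneK R).pt) (𝟙 ((D R).obj j))
      ((coneK R).π.app j) := IsPullback.of_vert_isIso ⟨by simp⟩
  have hsm : Smooth (bcHom (fj ≫ g₀) (𝟙 ((D R).obj j)) ((coneK R).π.app j)) :=
    bcHom_of_isPullback (fj ≫ g₀) (𝟙 ((D R).obj j)) @Smooth ((coneK R).π.app j) hidK hXK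
      inferInstance
  obtain ⟨k', φk', hk'⟩ := Groth.Agent.Helper7.LimModel.exists_stage_smooth (D R) (coneK R) hc
    (fj ≫ g₀) (𝟙 ((D R).obj j)) hsm
  -- a common stage
  obtain ⟨m, a, b, -⟩ := IsCofilteredOrEmpty.cone_objs k k'
  obtain ⟨ρ, hρ⟩ : ∃ ρ : m ⟶ j, ρ = a ≫ φk := ⟨_, rfl⟩
  have hρ' : ρ = b ≫ φk' := hom_subsingleton R _ _
  have hci_m : IsClosedImmersion (bcHom fj g₀ ((D R).map ρ)) := by
    rw [hρ]
    exact stage_mono (D R) fj g₀ @IsClosedImmersion φk a hk
  have hsm_m : Smooth (bcHom (fj ≫ g₀) (𝟙 ((D R).obj j)) ((D R).map ρ)) := by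
    rw [hρ']
    exact stage_mono (D R) (fj ≫ g₀) (𝟙 ((D R).obj j)) @Smooth φk' b hk'
  -- Step E: assemble
  obtain ⟨π, hπ⟩ : ∃ π : pullback (fj ≫ g₀) ((D R).map ρ) ⟶ (D R).obj m,
      π = pullback.snd (fj ≫ g₀) ((D R).map ρ) := ⟨_, rfl⟩
  have hπsm : Smooth π := by
    haveI : IsIso (𝟙 ((D R).obj m)) := IsIso.id _
    have hidm : IsPullback ((D R).map ρ) (𝟙 ((D R).obj m)) (𝟙 ((D R).obj j)) ((D R).map ρ) :=
      IsPullback.of_vert_isIso ⟨by simp⟩
    refine of_bcHom_of_isPullback (qX := pullback.fst (fj ≫ g₀) ((D R).map ρ))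
      (fj ≫ g₀) (𝟙 ((D R).obj j)) @Smooth ((D R).map ρ) hidm ?_ hsm_m
    rw [hπ]
    exact IsPullback.of_hasPullback _ _
  have hπpr : IsProper π := by
    have h0 : π = bcHom fj g₀ ((D R).map ρ) ≫ pullback.snd g₀ ((D R).map ρ) := by
      rw [hπ, bcHom_snd]
    rw [h0]
    infer_instance
  have hwm : (coneK R).π.app m ≫ (D R).map ρ = (coneK R).π.app j := (coneK R).w ρ
  obtain ⟨e, he1, he2⟩ : ∃ e : C.left ⟶ pullback (fj ≫ g₀) ((D R).map ρ),
      e ≫ pullback.fst (fj ≫ g₀) ((D R).map ρ) = sX ∧ e ≫ π = pC ≫ (coneK R).π.app m := by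
    refine ⟨pullback.lift sX (pC ≫ (coneK R).π.app m) ?_, pullback.lift_fst _ _ _, ?_⟩
    · rw [Category.assoc, hwm]; exact hXK.w
    · rw [hπ]; exact pullback.lift_snd _ _ _
  have hpbm : IsPullback e pC π ((coneK R).π.app m) := by
    refine IsPullback.of_right ?_ he2 (hπ ▸ IsPullback.of_hasPullback (fj ≫ g₀) ((D R).map ρ))
    rw [he1, hwm]
    exact hXK
  refine ⟨m, _, π, e, hπsm, hπpr, ?_⟩
  rw [← hpC]
  exact hpbm

end Groth.Agent.Lead.SpreadK
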