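import Mathlib
import Groth.Prelude.Def_LieS

/-!
# Additivity on tangent vectors at the unit of a monoid scheme (lead)
-/

set_option autoImplicit false
universe u
open CategoryTheory CategoryTheory.Limits AlgebraicGeometry TopologicalSpace Opposite

namespace Groth.Agent.Lead.TanAdd

section JointEpi

theorem appTop_SpecMap {R R' : CommRingCat.{u}} (φ : R ⟶ R') (a : Γ(Spec R, ⊤)) :
    (Scheme.ΓSpecIso R').hom ((Spec.map φ).appTop a) = φ ((Scheme.ΓSpecIso R).hom a) := by
  have h0 : ((Spec.map φ).appTop ≫ (Scheme.ΓSpecIso R').hom) a =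
      ((Scheme.ΓSpecIso R).hom ≫ φ) a := by
    rw [Scheme.ΓSpecIso_naturality φ]
  rw [CommRingCat.comp_apply, CommRingCat.comp_apply] at h0
  exact h0

/-- two morphisms out of an affine scheme agreeing on two closed subschemes that cover it
scheme-theoretically (one of them being everything topologically) are equal -/
theorem hom_ext_of_jointly {D R₁ R₂ : CommRingCat.{u}} (q₁ : D ⟶ R₁) (q₂ : D ⟶ R₂)
    (hinj : ∀ d : D, q₁ d = 0 → q₂ d = 0 → d = 0)
    (hsurj : Function.Surjective (Spec.map q₁).base)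
    {X : Scheme.{u}} (a b : Spec D ⟶ X) (h₁ : Spec.map q₁ ≫ a = Spec.map q₁ ≫ b)
    (h₂ : Spec.map q₂ ≫ a = Spec.map q₂ ≫ b) : a = b := by
  let ι := equalizer.ι a b
  let l₁ := equalizer.lift (Spec.map q₁) h₁
  let l₂ := equalizer.lift (Spec.map q₂) h₂
  have hl₁ : l₁ ≫ ι = Spec.map q₁ := equalizer.lift_ι _ _
  have hl₂ : l₂ ≫ ι = Spec.map q₂ := equalizer.lift_ι _ _
  have hs : Function.Surjective ι.base := by
    intro z
    obtain ⟨y, rfl⟩ := hsurj z
    refine ⟨l₁.base y, ?_⟩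
    rw [← hl₁]
    rfl
  haveI : IsClosedImmersion ι :=
    IsClosedImmersion.of_isPreimmersion ι (by rw [hs.range_eq]; exact isClosed_univ)
  haveI : IsIso ι := by
    apply IsClosedImmersion.isIso_of_injective_of_isAffine (f := ι)
    rw [injective_iff_map_eq_zero]
    intro s hs0
    have e₁ : (Spec.map q₁).appTop s = 0 := by
      rw [← hl₁, Scheme.Hom.comp_appTop, CommRingCat.comp_apply, hs0, map_zero]
    have e₂ : (Spec.map q₂).appTop s = 0 := by
      rw [← hl₂, Scheme.Hom.comp_appTop, CommRingCat.comp_apply, hs0, map_zero]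
    have d₁ : q₁ ((Scheme.ΓSpecIso D).hom s) = 0 := by
      rw [← appTop_SpecMap, e₁, map_zero]
    have d₂ : q₂ ((Scheme.ΓSpecIso D).hom s) = 0 := by
      rw [← appTop_SpecMap, e₂, map_zero]
    have := hinj _ d₁ d₂
    exact (Scheme.ΓSpecIso D).commRingCatIsoToRingEquiv.injective (this.trans (map_zero _).symm)
  exact (cancel_epi ι).1 (equalizer.condition a b)

end JointEpi

section Tan

open TrivSqZeroExt MonObj

variable {S : Scheme.{u}} (B : Type u) [CommRing B] (f : Spec (CommRingCat.of B) ⟶ S)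

/-- the `S`-scheme `Spec (B ⊕ M)` -/
noncomputable def tpt (M : Type u) [AddCommGroup M] [Module B M] [Module Bᵐᵒᵖ M]
    [IsCentralScalar B M] : Over S :=
  Over.mk (Spec.map (CommRingCat.ofHom (algebraMap B (TrivSqZeroExt B M))) ≫ f)

variable {M N P : Type u} [AddCommGroup M] [Module B M] [Module Bᵐᵒᵖ M] [IsCentralScalar B M]
  [AddCommGroup N] [Module B N] [Module Bᵐᵒᵖ N] [IsCentralScalar B N]
  [AddCommGroup P] [Module B P] [Module Bᵐᵒᵖ P] [IsCentralScalar B P]

theorem map_comp_algebraMap (ℓ : M →ₗ[B] N) :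
    (TrivSqZeroExt.map ℓ).toRingHom.comp (algebraMap B (TrivSqZeroExt B M)) =
      algebraMap B (TrivSqZeroExt B N) :=
  RingHom.ext fun b => (TrivSqZeroExt.map ℓ).commutes b

/-- the morphism induced by a linear map -/
noncomputable def tmap (ℓ : M →ₗ[B] N) : tpt B f N ⟶ tpt B f M :=
  Over.homMk (Spec.map (CommRingCat.ofHom (TrivSqZeroExt.map ℓ).toRingHom)) (by
    change Spec.map _ ≫ Spec.map _ ≫ f = Spec.map _ ≫ f
    rw [← Category.assoc, LieS.specMap_comp, map_comp_algebraMap])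

theorem tmap_comp (ℓ : M →ₗ[B] N) (ℓ' : N →ₗ[B] P) :
    tmap B f (ℓ'.comp ℓ) = tmap B f ℓ' ≫ tmap B f ℓ := by
  ext
  change Spec.map _ = Spec.map _ ≫ Spec.map _
  rw [LieS.specMap_comp, TrivSqZeroExt.map_comp_map]
  rfl

/-- the zero section -/
noncomputable def zsec (M : Type u) [AddCommGroup M] [Module B M] [Module Bᵐᵒᵖ M]
    [IsCentralScalar B M] : LieS.pt B f ⟶ tpt B f M :=
  Over.homMk (Spec.map (CommRingCat.ofHom (TrivSqZeroExt.fstHom B B M).toRingHom)) (by
    change Spec.map _ ≫ Spec.map _ ≫ f = f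
    rw [← Category.assoc, LieS.specMap_comp]
    have : (TrivSqZeroExt.fstHom B B M).toRingHom.comp (algebraMap B (TrivSqZeroExt B M)) =
        RingHom.id B := RingHom.ext fun b => by simp
    rw [this, CommRingCat.ofHom_id]
    erw [Spec.map_id]
    exact Category.id_comp f)

/-- the projection -/
noncomputable def zproj (M : Type u) [AddCommGroup M] [Module B M] [Module Bᵐᵒᵖ M]
    [IsCentralScalar B M] : tpt B f M ⟶ LieS.pt B f :=
  Over.homMk (Spec.map (CommRingCat.ofHom (algebraMap B (TrivSqZeroExt B M)))) rfl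

theorem tmap_zero : tmap B f (0 : M →ₗ[B] N) = zproj B f N ≫ zsec B f M := by
  ext
  change Spec.map _ = Spec.map _ ≫ Spec.map _
  rw [LieS.specMap_comp]
  congr 2
  apply RingHom.ext
  intro x
  apply TrivSqZeroExt.ext
  · simp [TrivSqZeroExt.algebraMap_eq_inl']
  · simp [TrivSqZeroExt.algebraMap_eq_inl']

theorem scale_eq_tmap (b : B) : LieS.scale B f b = tmap B f (b • (LinearMap.id : B →ₗ[B] B)) := by
  ext
  change Spec.map _ = Spec.map _
  congr 2
  apply RingHom.ext
  intro x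
  apply TrivSqZeroExt.ext
  · simp [LieS.scaleHom, TrivSqZeroExt.algebraMap_eq_inl']
  · simp [LieS.scaleHom, TrivSqZeroExt.algebraMap_eq_inl', mul_comm]

theorem zsec_eq : zsec B f B = LieS.zeroSec B f := rfl

end Tan

section Key

open TrivSqZeroExt MonObj

variable {S : Scheme.{u}} (B : Type u) [CommRing B] (f : Spec (CommRingCat.of B) ⟶ S)

theorem surjective_Spec_map_fst :
    Function.Surjective (Spec.map (CommRingCat.ofHom
      (TrivSqZeroExt.map (LinearMap.fst B B B)).toRingHom)).base := by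
  have h : IsHomeomorph (PrimeSpectrum.comap
      (TrivSqZeroExt.map (LinearMap.fst B B B)).toRingHom) := by
    apply PrimeSpectrum.isHomeomorph_comap
    · intro x
      refine ⟨1, one_pos, ?_⟩
      rw [pow_one]
      refine ⟨TrivSqZeroExt.inl x.fst + TrivSqZeroExt.inr (x.snd, 0), ?_⟩
      apply TrivSqZeroExt.ext <;> simp
    · intro x hx
      rw [RingHom.mem_ker] at hx
      have h0 : x.fst = 0 := by
        have := congrArg TrivSqZeroExt.fst hx
        simpa using this
      rw [mem_nilradical, TrivSqZeroExt.isNilpotent_iff_isNilpotent_fst, h0]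
      exact IsNilpotent.zero
  exact h.surjective

theorem jointly_injective (d : TrivSqZeroExt B (B × B))
    (h₁ : TrivSqZeroExt.map (LinearMap.fst B B B) d = 0)
    (h₂ : TrivSqZeroExt.map (LinearMap.snd B B B) d = 0) : d = 0 := by
  apply TrivSqZeroExt.ext
  · have := congrArg TrivSqZeroExt.fst h₁
    simpa using this
  · have e1 := congrArg TrivSqZeroExt.snd h₁
    have e2 := congrArg TrivSqZeroExt.snd h₂
    simp only [TrivSqZeroExt.snd_map, TrivSqZeroExt.snd_zero, LinearMap.fst_apply,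
      LinearMap.snd_apply] at e1 e2
    exact Prod.ext e1 e2

variable (X : Over S) [MonObj X]

theorem hom_ext_pair (U V : tpt B f (B × B) ⟶ X)
    (h₁ : tmap B f (LinearMap.fst B B B) ≫ U = tmap B f (LinearMap.fst B B B) ≫ V)
    (h₂ : tmap B f (LinearMap.snd B B B) ≫ U = tmap B f (LinearMap.snd B B B) ≫ V) : U = V := by
  ext
  refine hom_ext_of_jointly
    (CommRingCat.ofHom (TrivSqZeroExt.map (LinearMap.fst B B B)).toRingHom)
    (CommRingCat.ofHom (TrivSqZeroExt.map (LinearMap.snd B B B)).toRingHom)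
    (fun d h1 h2 => jointly_injective B d h1 h2) (surjective_Spec_map_fst B) U.left V.left ?_ ?_
  · exact congrArg (fun φ => φ.left) h₁
  · exact congrArg (fun φ => φ.left) h₂

theorem tmap_zero_comp {M N : Type u} [AddCommGroup M] [Module B M] [Module Bᵐᵒᵖ M]
    [IsCentralScalar B M] [AddCommGroup N] [Module B N] [Module Bᵐᵒᵖ N] [IsCentralScalar B N]
    (u : tpt B f M ⟶ X) (hu : zsec B f M ≫ u = 1) :
    tmap B f (0 : M →ₗ[B] N) ≫ u = 1 := by
  rw [tmap_zero, Category.assoc, hu, MonObj.comp_one]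

/-- additivity -/
theorem key (u : LieS.dpt B f ⟶ X) (hu : LieS.zeroSec B f ≫ u = 1) (a b : B) :
    (LieS.scale B f a ≫ u) * (LieS.scale B f b ≫ u) = LieS.scale B f (a + b) ≫ u := by
  have hu' : zsec B f B ≫ (show tpt B f B ⟶ X from u) = 1 := hu
  let u' : tpt B f B ⟶ X := u
  let la : B →ₗ[B] B := a • LinearMap.id
  let lb : B →ₗ[B] B := b • LinearMap.id
  let ℓ₁ : B →ₗ[B] B × B := (LinearMap.inl B B B).comp la
  let ℓ₂ : B →ₗ[B] B × B := (LinearMap.inr B B B).comp lb
  let U : tpt B f (B × B) ⟶ X := (tmap B f ℓ₁ ≫ u') * (tmap B f ℓ₂ ≫ u')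
  let V : tpt B f (B × B) ⟶ X := tmap B f (ℓ₁ + ℓ₂) ≫ u'
  have f1 : (LinearMap.fst B B B).comp ℓ₁ = la := by
    apply LinearMap.ext; intro x; simp [ℓ₁]
  have f2 : (LinearMap.fst B B B).comp ℓ₂ = 0 := by
    apply LinearMap.ext; intro x; simp [ℓ₂]
  have f3 : (LinearMap.fst B B B).comp (ℓ₁ + ℓ₂) = la := by
    apply LinearMap.ext; intro x; simp [ℓ₁, ℓ₂]
  have s1 : (LinearMap.snd B B B).comp ℓ₁ = 0 := by
    apply LinearMap.ext; intro x; simp [ℓ₁]
  have s2 : (LinearMap.snd B B B).comp ℓ₂ = lb := by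
    apply LinearMap.ext; intro x; simp [ℓ₂]
  have s3 : (LinearMap.snd B B B).comp (ℓ₁ + ℓ₂) = lb := by
    apply LinearMap.ext; intro x; simp [ℓ₁, ℓ₂]
  have hUV : U = V := by
    apply hom_ext_pair B f X
    · change tmap B f (LinearMap.fst B B B) ≫ ((tmap B f ℓ₁ ≫ u') * (tmap B f ℓ₂ ≫ u')) =
        tmap B f (LinearMap.fst B B B) ≫ tmap B f (ℓ₁ + ℓ₂) ≫ u'
      rw [MonObj.comp_mul, ← Category.assoc, ← Category.assoc, ← Category.assoc, ← tmap_comp,
        ← tmap_comp, ← tmap_comp, f1, f2, f3, tmap_zero_comp B f X u' hu', _root_.mul_one]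
    · change tmap B f (LinearMap.snd B B B) ≫ ((tmap B f ℓ₁ ≫ u') * (tmap B f ℓ₂ ≫ u')) =
        tmap B f (LinearMap.snd B B B) ≫ tmap B f (ℓ₁ + ℓ₂) ≫ u'
      rw [MonObj.comp_mul, ← Category.assoc, ← Category.assoc, ← Category.assoc, ← tmap_comp,
        ← tmap_comp, ← tmap_comp, s1, s2, s3, tmap_zero_comp B f X u' hu', _root_.one_mul]
  let c : B × B →ₗ[B] B := LinearMap.coprod LinearMap.id LinearMap.id
  have c1 : c.comp ℓ₁ = la := by
    apply LinearMap.ext; intro x; simp [c, ℓ₁]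
  have c2 : c.comp ℓ₂ = lb := by
    apply LinearMap.ext; intro x; simp [c, ℓ₂]
  have c3 : c.comp (ℓ₁ + ℓ₂) = (a + b) • LinearMap.id := by
    apply LinearMap.ext; intro x; simp [c, ℓ₁, ℓ₂, la, lb, add_mul]
  have h := congrArg (fun W => tmap B f c ≫ W) hUV
  change tmap B f c ≫ ((tmap B f ℓ₁ ≫ u') * (tmap B f ℓ₂ ≫ u')) =
    tmap B f c ≫ tmap B f (ℓ₁ + ℓ₂) ≫ u' at h
  rw [MonObj.comp_mul, ← Category.assoc, ← Category.assoc, ← Category.assoc, ← tmap_comp,
    ← tmap_comp, ← tmap_comp, c1, c2, c3] at h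
  rw [scale_eq_tmap, scale_eq_tmap, scale_eq_tmap]
  exact h

end Key

section Main

open TrivSqZeroExt MonObj

variable {S : Scheme.{u}} (B : Type u) [CommRing B] (f : Spec (CommRingCat.of B) ⟶ S)

theorem scale_one : LieS.scale B f 1 = 𝟙 _ := by
  ext
  change Spec.map _ = 𝟙 _
  have : LieS.scaleHom (1 : B) = RingHom.id _ := by
    apply RingHom.ext
    intro x
    apply TrivSqZeroExt.ext
    · simp [LieS.scaleHom, TrivSqZeroExt.algebraMap_eq_inl']
    · simp [LieS.scaleHom, TrivSqZeroExt.algebraMap_eq_inl']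
  rw [this, CommRingCat.ofHom_id]
  erw [Spec.map_id]

theorem scale_zero_comp (X : Over S) [MonObj X] (u : LieS.dpt B f ⟶ X)
    (hu : LieS.zeroSec B f ≫ u = 1) : LieS.scale B f 0 ≫ u = 1 := by
  rw [scale_eq_tmap, zero_smul]
  exact tmap_zero_comp B f X (show tpt B f B ⟶ X from u) hu

theorem main8357 (G : Over S) [GrpObj G] (v : LieS.Lie G B f) (n : ℤ) :
    v ^ n = ((n : B) • v : LieS.Lie G B f) := by
  have hv : LieS.zeroSec B f ≫ v.1 = 1 := (LieS.mem_Lie_iff G B f v.1).1 v.2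
  apply Subtype.ext
  rw [LieS.smul_val, Subgroup.coe_zpow]
  let ψ : Multiplicative B →* (LieS.dpt B f ⟶ G) :=
    { toFun := fun b => LieS.scale B f (Multiplicative.toAdd b) ≫ v.1
      map_one' := scale_zero_comp B f G v.1 hv
      map_mul' := fun a b => (key B f G v.1 hv (Multiplicative.toAdd a)
        (Multiplicative.toAdd b)).symm }
  have h1 : ψ (Multiplicative.ofAdd (1 : B)) = v.1 := by
    change LieS.scale B f 1 ≫ v.1 = v.1
    rw [scale_one, Category.id_comp]
  have h2 : ψ (Multiplicative.ofAdd ((n : B))) = ψ (Multiplicative.ofAdd (1 : B)) ^ n := by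
    rw [← map_zpow, ← ofAdd_zsmul, zsmul_one]
  rw [h1] at h2
  exact h2.symm

theorem isUnit_of_zeroSec (X : Over S) [MonObj X] (u : LieS.dpt B f ⟶ X)
    (hu : LieS.zeroSec B f ≫ u = 1) : IsUnit u := by
  have k1 := key B f X u hu 1 (-1)
  have k2 := key B f X u hu (-1) 1
  rw [add_neg_cancel, scale_zero_comp B f X u hu, scale_one, Category.id_comp] at k1
  rw [neg_add_cancel, scale_zero_comp B f X u hu, scale_one, Category.id_comp] at k2
  exact isUnit_iff_exists.2 ⟨_, k1, k2⟩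

theorem main8365 (X : Over S) [MonObj X] (v : LieS.dpt B f ⟶ X) :
    IsUnit v ↔ IsUnit (LieS.zeroSec B f ≫ v) := by
  constructor
  · intro h
    let φ : (LieS.dpt B f ⟶ X) →* (LieS.pt B f ⟶ X) :=
      { toFun := fun w => LieS.zeroSec B f ≫ w
        map_one' := MonObj.comp_one _
        map_mul' := fun a b => MonObj.comp_mul _ a b }
    exact h.map φ
  · intro h
    obtain ⟨w₀, h1, h2⟩ := isUnit_iff_exists.1 h
    let w : LieS.dpt B f ⟶ X := LieS.proj B f ≫ w₀
    have hw : LieS.zeroSec B f ≫ w = w₀ := by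
      change LieS.zeroSec B f ≫ LieS.proj B f ≫ w₀ = w₀
      rw [← Category.assoc, LieS.zeroSec_proj, Category.id_comp]
    have u1 : IsUnit (v * w) := by
      apply isUnit_of_zeroSec
      rw [MonObj.comp_mul, hw, h1]
    have u2 : IsUnit (w * v) := by
      apply isUnit_of_zeroSec
      rw [MonObj.comp_mul, hw, h2]
    obtain ⟨z, hz, -⟩ := isUnit_iff_exists.1 u1
    obtain ⟨z', -, hz'⟩ := isUnit_iff_exists.1 u2
    have r1 : v * (w * z) = 1 := by rw [← _root_.mul_assoc]; exact hz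
    have l1 : (z' * w) * v = 1 := by rw [_root_.mul_assoc]; exact hz'
    have e : z' * w = w * z := by
      calc z' * w = (z' * w) * (v * (w * z)) := by rw [r1, _root_.mul_one]
        _ = ((z' * w) * v) * (w * z) := by simp only [_root_.mul_assoc]
        _ = w * z := by rw [l1, _root_.one_mul]
    exact isUnit_iff_exists.2 ⟨w * z, r1, by rw [← e]; exact l1⟩

end Main

end Groth.Agent.Lead.TanAdd
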