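import Mathlib
import Groth.Agent.Lib.Lead.TanAdd
import Groth.Prelude.Def_Red

/-!
# Points congruent to the unit modulo a square-zero ideal commute (lead)
-/

set_option autoImplicit false
universe u
open CategoryTheory CategoryTheory.Limits AlgebraicGeometry TopologicalSpace Opposite

namespace Groth.Agent.Lead.SqZComm

open TrivSqZeroExt MonObj Groth.Agent.Lead.TanAdd

section Rings

theorem surjective_Spec_of_nilp {A A' : Type u} [CommRing A] [CommRing A'] (φ : A →+* A')
    (hs : Function.Surjective φ) (hk : ∀ x ∈ RingHom.ker φ, x ∈ nilradical A) :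
    Function.Surjective (Spec.map (CommRingCat.ofHom φ)).base := by
  have h : IsHomeomorph (PrimeSpectrum.comap φ) := by
    apply PrimeSpectrum.isHomeomorph_comap
    · intro x
      refine ⟨1, one_pos, ?_⟩
      rw [pow_one]
      exact hs x
    · exact hk
  exact h.surjective

variable {B : Type u} [CommRing B] (K : Ideal B) (hK : K * K = ⊥)

include hK in
theorem mul_eq_zero_of_mem {x y : B} (hx : x ∈ K) (hy : y ∈ K) : x * y = 0 := by
  have : x * y ∈ K * K := Ideal.mul_mem_mul hx hy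
  rw [hK] at this
  exact this

/-- `(c, k) ↦ c + k` -/
def sigHom : TrivSqZeroExt B K →+* B where
  toFun x := x.fst + (x.snd : B)
  map_one' := by simp
  map_zero' := by simp
  map_add' x y := by
    simp only [TrivSqZeroExt.fst_add, TrivSqZeroExt.snd_add, Submodule.coe_add]
    ring
  map_mul' x y := by
    have h0 := mul_eq_zero_of_mem K hK x.snd.2 y.snd.2
    simp only [TrivSqZeroExt.fst_mul, TrivSqZeroExt.snd_mul, Submodule.coe_add, Submodule.coe_smul,
      smul_eq_mul, op_smul_eq_smul]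
    linear_combination (-1 : B) * h0

@[simp] theorem sigHom_apply (x : TrivSqZeroExt B K) : sigHom K hK x = x.fst + (x.snd : B) := rfl

theorem sigHom_comp_algebraMap :
    (sigHom K hK).comp (algebraMap B (TrivSqZeroExt B K)) = RingHom.id B :=
  RingHom.ext fun b => by simp [TrivSqZeroExt.algebraMap_eq_inl']

/-- `(c, (k, k')) ↦ c + k + k'` -/
def sumHom : TrivSqZeroExt B (K × K) →+* B where
  toFun x := x.fst + (x.snd.1 : B) + (x.snd.2 : B)
  map_one' := by simp
  map_zero' := by simp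
  map_add' x y := by
    simp only [TrivSqZeroExt.fst_add, TrivSqZeroExt.snd_add, Prod.fst_add, Prod.snd_add,
      Submodule.coe_add]
    ring
  map_mul' x y := by
    have h11 := mul_eq_zero_of_mem K hK x.snd.1.2 y.snd.1.2
    have h12 := mul_eq_zero_of_mem K hK x.snd.1.2 y.snd.2.2
    have h21 := mul_eq_zero_of_mem K hK x.snd.2.2 y.snd.1.2
    have h22 := mul_eq_zero_of_mem K hK x.snd.2.2 y.snd.2.2
    simp only [TrivSqZeroExt.fst_mul, TrivSqZeroExt.snd_mul, Prod.fst_add, Prod.snd_add,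
      Prod.smul_fst, Prod.smul_snd, Submodule.coe_add, Submodule.coe_smul,
      smul_eq_mul, op_smul_eq_smul]
    linear_combination (-1 : B) * h11 - h12 - h21 - h22

@[simp] theorem sumHom_apply (x : TrivSqZeroExt B (K × K)) :
    sumHom K hK x = x.fst + (x.snd.1 : B) + (x.snd.2 : B) := rfl

theorem sumHom_comp_algebraMap :
    (sumHom K hK).comp (algebraMap B (TrivSqZeroExt B (K × K))) = RingHom.id B :=
  RingHom.ext fun b => by simp [TrivSqZeroExt.algebraMap_eq_inl']

theorem sumHom_comp_inl :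
    (sumHom K hK).comp (TrivSqZeroExt.map (LinearMap.inl B K K)).toRingHom = sigHom K hK :=
  RingHom.ext fun x => by simp

theorem sumHom_comp_inr :
    (sumHom K hK).comp (TrivSqZeroExt.map (LinearMap.inr B K K)).toRingHom = sigHom K hK :=
  RingHom.ext fun x => by simp

/-- the pair of two ring maps congruent modulo `K` -/
def pairHom {A : Type u} [CommRing A] (g1 g0 : A →+* B) (h : ∀ a, g1 a - g0 a ∈ K) :
    A →+* TrivSqZeroExt B K where
  toFun a := TrivSqZeroExt.inl (g0 a) + TrivSqZeroExt.inr ⟨g1 a - g0 a, h a⟩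
  map_one' := by
    apply TrivSqZeroExt.ext
    · simp
    · apply Subtype.ext; simp
  map_zero' := by
    apply TrivSqZeroExt.ext
    · simp
    · apply Subtype.ext; simp
  map_add' a b := by
    apply TrivSqZeroExt.ext
    · simp
    · apply Subtype.ext
      simp only [TrivSqZeroExt.snd_add, TrivSqZeroExt.snd_inl, TrivSqZeroExt.snd_inr, zero_add,
        Submodule.coe_add, map_add]
      ring
  map_mul' a b := by
    have h0 := mul_eq_zero_of_mem K hK (h a) (h b)
    apply TrivSqZeroExt.ext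
    · simp
    · apply Subtype.ext
      simp only [TrivSqZeroExt.snd_add, TrivSqZeroExt.snd_inl, TrivSqZeroExt.snd_inr, zero_add,
        TrivSqZeroExt.snd_mul, TrivSqZeroExt.fst_add, TrivSqZeroExt.fst_inl, TrivSqZeroExt.fst_inr,
        add_zero, Submodule.coe_add, Submodule.coe_smul, smul_eq_mul, map_mul,
        op_smul_eq_smul]
      linear_combination h0

theorem sigHom_comp_pairHom {A : Type u} [CommRing A] (g1 g0 : A →+* B) (h : ∀ a, g1 a - g0 a ∈ K) :
    (sigHom K hK).comp (pairHom K hK g1 g0 h) = g1 :=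
  RingHom.ext fun a => by simp [pairHom]

theorem fstHom_comp_pairHom {A : Type u} [CommRing A] (g1 g0 : A →+* B) (h : ∀ a, g1 a - g0 a ∈ K) :
    (TrivSqZeroExt.fstHom B B K).toRingHom.comp (pairHom K hK g1 g0 h) = g0 :=
  RingHom.ext fun a => by simp [pairHom]

end Rings

section Sch

variable {S : Scheme.{u}} (B : Type u) [CommRing B] (f : Spec (CommRingCat.of B) ⟶ S)

theorem surjective_Spec_fstHom (M : Type u) [AddCommGroup M] [Module B M] [Module Bᵐᵒᵖ M]
    [IsCentralScalar B M] :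
    Function.Surjective (Spec.map (CommRingCat.ofHom
      (TrivSqZeroExt.fstHom B B M).toRingHom)).base := by
  apply surjective_Spec_of_nilp
  · intro b
    exact ⟨TrivSqZeroExt.inl b, by simp⟩
  · intro x hx
    rw [RingHom.mem_ker] at hx
    have h0 : x.fst = 0 := hx
    rw [mem_nilradical, TrivSqZeroExt.isNilpotent_iff_isNilpotent_fst, h0]
    exact IsNilpotent.zero

theorem surjective_Spec_map_fst' (M N : Type u) [AddCommGroup M] [Module B M] [Module Bᵐᵒᵖ M]
    [IsCentralScalar B M] [AddCommGroup N] [Module B N] [Module Bᵐᵒᵖ N] [IsCentralScalar B N] :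
    Function.Surjective (Spec.map (CommRingCat.ofHom
      (TrivSqZeroExt.map (LinearMap.fst B M N)).toRingHom)).base := by
  apply surjective_Spec_of_nilp
  · intro x
    refine ⟨TrivSqZeroExt.inl x.fst + TrivSqZeroExt.inr (x.snd, 0), ?_⟩
    apply TrivSqZeroExt.ext <;> simp
  · intro x hx
    rw [RingHom.mem_ker] at hx
    have h0 : x.fst = 0 := by
      have := congrArg TrivSqZeroExt.fst hx
      simpa using this
    rw [mem_nilradical, TrivSqZeroExt.isNilpotent_iff_isNilpotent_fst, h0]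
    exact IsNilpotent.zero

theorem hom_ext_prod {X : Over S} {M N : Type u} [AddCommGroup M] [Module B M] [Module Bᵐᵒᵖ M]
    [IsCentralScalar B M] [AddCommGroup N] [Module B N] [Module Bᵐᵒᵖ N] [IsCentralScalar B N]
    (U V : tpt B f (M × N) ⟶ X)
    (h₁ : tmap B f (LinearMap.fst B M N) ≫ U = tmap B f (LinearMap.fst B M N) ≫ V)
    (h₂ : tmap B f (LinearMap.snd B M N) ≫ U = tmap B f (LinearMap.snd B M N) ≫ V) : U = V := by
  ext
  refine hom_ext_of_jointly
    (CommRingCat.ofHom (TrivSqZeroExt.map (LinearMap.fst B M N)).toRingHom)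
    (CommRingCat.ofHom (TrivSqZeroExt.map (LinearMap.snd B M N)).toRingHom)
    (fun d h1 h2 => ?_) (surjective_Spec_map_fst' B M N) U.left V.left ?_ ?_
  · have h1' : TrivSqZeroExt.map (LinearMap.fst B M N) d = 0 := h1
    have h2' : TrivSqZeroExt.map (LinearMap.snd B M N) d = 0 := h2
    apply TrivSqZeroExt.ext
    · have := congrArg TrivSqZeroExt.fst h1'
      simpa using this
    · have e1 := congrArg TrivSqZeroExt.snd h1'
      have e2 := congrArg TrivSqZeroExt.snd h2'
      simp only [TrivSqZeroExt.snd_map, TrivSqZeroExt.snd_zero, LinearMap.fst_apply,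
        LinearMap.snd_apply] at e1 e2
      exact Prod.ext e1 e2
  · exact congrArg (fun φ => φ.left) h₁
  · exact congrArg (fun φ => φ.left) h₂

variable (K : Ideal B) (hK : K * K = ⊥)

theorem hom_ext_sig' {Z : Scheme.{u}} (a b : Spec (CommRingCat.of (TrivSqZeroExt B K)) ⟶ Z)
    (h₁ : Spec.map (CommRingCat.ofHom (TrivSqZeroExt.fstHom B B K).toRingHom) ≫ a =
      Spec.map (CommRingCat.ofHom (TrivSqZeroExt.fstHom B B K).toRingHom) ≫ b)
    (h₂ : Spec.map (CommRingCat.ofHom (sigHom K hK)) ≫ a =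
      Spec.map (CommRingCat.ofHom (sigHom K hK)) ≫ b) : a = b := by
  refine hom_ext_of_jointly
    (CommRingCat.ofHom (TrivSqZeroExt.fstHom B B K).toRingHom)
    (CommRingCat.ofHom (sigHom K hK))
    (fun d h1 h2 => ?_) (surjective_Spec_fstHom B K) a b h₁ h₂
  have h1' : d.fst = 0 := h1
  have h2' : d.fst + (d.snd : B) = 0 := h2
  rw [h1', zero_add] at h2'
  apply TrivSqZeroExt.ext
  · exact h1'
  · apply Subtype.ext
    exact h2'

/-- the section `(c, k) ↦ c + k` -/
noncomputable def sig : LieS.pt B f ⟶ tpt B f K :=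
  Over.homMk (Spec.map (CommRingCat.ofHom (sigHom K hK))) (by
    change Spec.map _ ≫ Spec.map _ ≫ f = f
    rw [← Category.assoc, LieS.specMap_comp, sigHom_comp_algebraMap, CommRingCat.ofHom_id]
    erw [Spec.map_id]
    exact Category.id_comp f)

/-- the section `(c, (k, k')) ↦ c + k + k'` -/
noncomputable def sumSec : LieS.pt B f ⟶ tpt B f (K × K) :=
  Over.homMk (Spec.map (CommRingCat.ofHom (sumHom K hK))) (by
    change Spec.map _ ≫ Spec.map _ ≫ f = f
    rw [← Category.assoc, LieS.specMap_comp, sumHom_comp_algebraMap, CommRingCat.ofHom_id]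
    erw [Spec.map_id]
    exact Category.id_comp f)

theorem sumSec_tmap_inl : sumSec B f K hK ≫ tmap B f (LinearMap.inl B K K) = sig B f K hK := by
  ext
  change Spec.map _ ≫ Spec.map _ = Spec.map _
  rw [LieS.specMap_comp, sumHom_comp_inl]

theorem sumSec_tmap_inr : sumSec B f K hK ≫ tmap B f (LinearMap.inr B K K) = sig B f K hK := by
  ext
  change Spec.map _ ≫ Spec.map _ = Spec.map _
  rw [LieS.specMap_comp, sumHom_comp_inr]

theorem hom_ext_sig {X : Over S} (U V : tpt B f K ⟶ X)
    (h₁ : zsec B f K ≫ U = zsec B f K ≫ V) (h₂ : sig B f K hK ≫ U = sig B f K hK ≫ V) : U = V := by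
  ext
  refine hom_ext_sig' B K hK U.left V.left ?_ ?_
  · exact congrArg (fun φ => φ.left) h₁
  · exact congrArg (fun φ => φ.left) h₂

end Sch

section Glue

variable {S : Scheme.{u}} (B : Type u) [CommRing B] (f : Spec (CommRingCat.of B) ⟶ S)
variable (K : Ideal B) (hK : K * K = ⊥)

/-- a morphism from an affine scheme landing in an affine open comes from a ring map -/
theorem exists_ringHom_of_range_subset {Z : Scheme.{u}} (a : Spec (CommRingCat.of B) ⟶ Z)
    (W : Z.Opens) (hW : IsAffineOpen W) (ha : Set.range a.base ⊆ (W : Set Z)) :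
    ∃ g : Γ(Z, W) ⟶ CommRingCat.of B, Spec.map g ≫ hW.fromSpec = a := by
  have ha' : Set.range a.base ⊆ Set.range W.ι.base := by
    rw [Scheme.Opens.range_ι]; exact ha
  refine ⟨Spec.preimage (IsOpenImmersion.lift W.ι a ha' ≫ hW.isoSpec.hom), ?_⟩
  rw [Spec.map_preimage, Category.assoc, IsAffineOpen.isoSpec_hom_fromSpec,
    IsOpenImmersion.lift_fac]

include hK in
theorem exists_glue (X : Over S) (u v : LieS.pt B f ⟶ X) (W : X.left.Opens) (hW : IsAffineOpen W)
    (hu : Set.range u.left.base ⊆ (W : Set X.left))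
    (hv : Set.range v.left.base ⊆ (W : Set X.left))
    (hmod : Spec.map (CommRingCat.ofHom (Ideal.Quotient.mk K)) ≫ u.left =
      Spec.map (CommRingCat.ofHom (Ideal.Quotient.mk K)) ≫ v.left) :
    ∃ G : tpt B f K ⟶ X, sig B f K hK ≫ G = u ∧ zsec B f K ≫ G = v := by
  obtain ⟨g1, hg1⟩ := exists_ringHom_of_range_subset B u.left W hW hu
  obtain ⟨g0, hg0⟩ := exists_ringHom_of_range_subset B v.left W hW hv
  have hmem : ∀ a, g1.hom a - g0.hom a ∈ K := by
    intro a
    rw [← hg1, ← hg0, ← Category.assoc, ← Category.assoc, cancel_mono, ← Spec.map_comp,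
      ← Spec.map_comp] at hmod
    have h2 := Spec.map_injective hmod
    have h3 := congrArg (fun k => k.hom a) h2
    rw [← Ideal.Quotient.eq]
    exact h3
  let Φ := pairHom K hK g1.hom g0.hom hmem
  have hσ : Spec.map (CommRingCat.ofHom (sigHom K hK)) ≫ Spec.map (CommRingCat.ofHom Φ) =
      Spec.map g1 := by
    rw [LieS.specMap_comp, sigHom_comp_pairHom]
    rfl
  have hz : Spec.map (CommRingCat.ofHom (TrivSqZeroExt.fstHom B B K).toRingHom) ≫
      Spec.map (CommRingCat.ofHom Φ) = Spec.map g0 := by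
    rw [LieS.specMap_comp, fstHom_comp_pairHom]
    rfl
  have hw : (Spec.map (CommRingCat.ofHom Φ) ≫ hW.fromSpec) ≫ X.hom = (tpt B f K).hom := by
    apply hom_ext_sig' B K hK
    · rw [← Category.assoc, ← Category.assoc, hz, hg0]
      have h1 : v.left ≫ X.hom = f := Over.w v
      have h2 : Spec.map (CommRingCat.ofHom (TrivSqZeroExt.fstHom B B K).toRingHom) ≫
          (tpt B f K).hom = f := Over.w (zsec B f K)
      rw [h1, h2]
    · rw [← Category.assoc, ← Category.assoc, hσ, hg1]
      have h1 : u.left ≫ X.hom = f := Over.w u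
      have h2 : Spec.map (CommRingCat.ofHom (sigHom K hK)) ≫ (tpt B f K).hom = f :=
        Over.w (sig B f K hK)
      rw [h1, h2]
  refine ⟨Over.homMk (Spec.map (CommRingCat.ofHom Φ) ≫ hW.fromSpec) hw, ?_, ?_⟩
  · ext
    change Spec.map (CommRingCat.ofHom (sigHom K hK)) ≫ Spec.map (CommRingCat.ofHom Φ) ≫
      hW.fromSpec = u.left
    rw [← Category.assoc, hσ, hg1]
  · ext
    change Spec.map (CommRingCat.ofHom (TrivSqZeroExt.fstHom B B K).toRingHom) ≫
      Spec.map (CommRingCat.ofHom Φ) ≫ hW.fromSpec = v.left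
    rw [← Category.assoc, hz, hg0]

end Glue

section Core

variable {S : Scheme.{u}} (B : Type u) [CommRing B] (f : Spec (CommRingCat.of B) ⟶ S)
variable (K : Ideal B) (hK : K * K = ⊥)

theorem tmap_id (M : Type u) [AddCommGroup M] [Module B M] [Module Bᵐᵒᵖ M] [IsCentralScalar B M] :
    tmap B f (LinearMap.id : M →ₗ[B] M) = 𝟙 _ := by
  ext
  change Spec.map _ = 𝟙 _
  rw [TrivSqZeroExt.map_id]
  erw [Spec.map_id]

include hK in
theorem core (X : Over S) [GrpObj X] (u u' : LieS.pt B f ⟶ X) (W : X.left.Opens)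
    (hW : IsAffineOpen W)
    (h1 : Set.range (1 : LieS.pt B f ⟶ X).left.base ⊆ (W : Set X.left))
    (hu : Set.range u.left.base ⊆ (W : Set X.left))
    (hu' : Set.range u'.left.base ⊆ (W : Set X.left))
    (hmod : Spec.map (CommRingCat.ofHom (Ideal.Quotient.mk K)) ≫ u.left =
      Spec.map (CommRingCat.ofHom (Ideal.Quotient.mk K)) ≫ (1 : LieS.pt B f ⟶ X).left)
    (hmod' : Spec.map (CommRingCat.ofHom (Ideal.Quotient.mk K)) ≫ u'.left =
      Spec.map (CommRingCat.ofHom (Ideal.Quotient.mk K)) ≫ (1 : LieS.pt B f ⟶ X).left) :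
    u * u' = u' * u := by
  obtain ⟨G₁, hG₁s, hG₁z⟩ := exists_glue B f K hK X u 1 W hW hu h1 hmod
  obtain ⟨G₂, hG₂s, hG₂z⟩ := exists_glue B f K hK X u' 1 W hW hu' h1 hmod'
  have e11 : tmap B f (LinearMap.fst B K K) ≫ tmap B f (LinearMap.inl B K K) ≫ G₁ = G₁ := by
    rw [← Category.assoc, ← tmap_comp, LinearMap.fst_comp_inl, tmap_id, Category.id_comp]
  have e12 : tmap B f (LinearMap.fst B K K) ≫ tmap B f (LinearMap.inr B K K) ≫ G₂ = 1 := by
    rw [← Category.assoc, ← tmap_comp, LinearMap.fst_comp_inr]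
    exact tmap_zero_comp B f X G₂ hG₂z
  have e21 : tmap B f (LinearMap.snd B K K) ≫ tmap B f (LinearMap.inl B K K) ≫ G₁ = 1 := by
    rw [← Category.assoc, ← tmap_comp, LinearMap.snd_comp_inl]
    exact tmap_zero_comp B f X G₁ hG₁z
  have e22 : tmap B f (LinearMap.snd B K K) ≫ tmap B f (LinearMap.inr B K K) ≫ G₂ = G₂ := by
    rw [← Category.assoc, ← tmap_comp, LinearMap.snd_comp_inr, tmap_id, Category.id_comp]
  have hcomm : (tmap B f (LinearMap.inl B K K) ≫ G₁) * (tmap B f (LinearMap.inr B K K) ≫ G₂) =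
      (tmap B f (LinearMap.inr B K K) ≫ G₂) * (tmap B f (LinearMap.inl B K K) ≫ G₁) := by
    apply hom_ext_prod B f
    · rw [MonObj.comp_mul, MonObj.comp_mul, e11, e12, _root_.mul_one, _root_.one_mul]
    · rw [MonObj.comp_mul, MonObj.comp_mul, e21, e22, _root_.mul_one, _root_.one_mul]
  have eu : sumSec B f K hK ≫ tmap B f (LinearMap.inl B K K) ≫ G₁ = u := by
    rw [← Category.assoc, sumSec_tmap_inl, hG₁s]
  have eu' : sumSec B f K hK ≫ tmap B f (LinearMap.inr B K K) ≫ G₂ = u' := by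
    rw [← Category.assoc, sumSec_tmap_inr, hG₂s]
  have := congrArg (fun φ => sumSec B f K hK ≫ φ) hcomm
  simp only [MonObj.comp_mul, eu, eu'] at this
  exact this

end Core

section Main

theorem hom_ext_of_local {Y Z : Scheme.{u}} (a b : Y ⟶ Z)
    (h : ∀ y : Y, ∃ V : Y.Opens, y ∈ V ∧ V.ι ≫ a = V.ι ≫ b) : a = b := by
  choose V hyV hV using h
  have hU : TopologicalSpace.IsOpenCover V := by
    apply eq_top_iff.2
    intro y _
    exact TopologicalSpace.Opens.mem_iSup.2 ⟨y, hyV y⟩
  apply (Y.openCoverOfIsOpenCover V hU).hom_ext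
  intro y
  exact hV y

theorem surjective_SpecMap_mk (R : Type u) [CommRing R] (J : Ideal R) (hJ : J * J = ⊥) :
    Surjective (Spec.map (CommRingCat.ofHom (Ideal.Quotient.mk J))) := by
  constructor
  have hle : J ≤ nilradical R := by
    intro j hj
    refine ⟨2, ?_⟩
    have h1 : j * j ∈ J * J := Ideal.mul_mem_mul hj hj
    rw [hJ, Ideal.mem_bot] at h1
    rw [pow_two]; exact h1
  exact (PrimeSpectrum.comap_quotientMk_bijective_of_le_nilradical hle).2

theorem main (R : Type u) [CommRing R] (J : Ideal R) (hJ : J * J = ⊥)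
    (X : Over (Spec (CommRingCat.of R))) [GrpObj X] (Y : Over (Spec (CommRingCat.of R)))
    (g g' : Y ⟶ X)
    (hg : (Over.pullback (Spec.map (CommRingCat.ofHom (Ideal.Quotient.mk J)))).map g = 1)
    (hg' : (Over.pullback (Spec.map (CommRingCat.ofHom (Ideal.Quotient.mk J)))).map g' = 1) :
    g * g' = g' * g := by
  have nat : ∀ h : Y ⟶ X,
      ((Over.pullback (Spec.map (CommRingCat.ofHom (Ideal.Quotient.mk J)))).map h).left ≫
        pullback.fst X.hom (Spec.map (CommRingCat.ofHom (Ideal.Quotient.mk J))) =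
      pullback.fst Y.hom (Spec.map (CommRingCat.ofHom (Ideal.Quotient.mk J))) ≫ h.left :=
    fun h => pullback.lift_fst _ _ _
  have hone : (Over.pullback (Spec.map (CommRingCat.ofHom (Ideal.Quotient.mk J)))).map
      (1 : Y ⟶ X) = 1 := Functor.map_one _
  have hA : pullback.fst Y.hom (Spec.map (CommRingCat.ofHom (Ideal.Quotient.mk J))) ≫ g.left =
      pullback.fst Y.hom (Spec.map (CommRingCat.ofHom (Ideal.Quotient.mk J))) ≫
        (1 : Y ⟶ X).left := by
    rw [← nat g, ← nat 1, hg, hone]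
  have hA' : pullback.fst Y.hom (Spec.map (CommRingCat.ofHom (Ideal.Quotient.mk J))) ≫ g'.left =
      pullback.fst Y.hom (Spec.map (CommRingCat.ofHom (Ideal.Quotient.mk J))) ≫
        (1 : Y ⟶ X).left := by
    rw [← nat g', ← nat 1, hg', hone]
  have hsurj := surjective_SpecMap_mk R J hJ
  have hpt : ∀ y : Y.left, g.left y = (1 : Y ⟶ X).left y := by
    intro y
    obtain ⟨z, rfl⟩ := (pullback.fst Y.hom
      (Spec.map (CommRingCat.ofHom (Ideal.Quotient.mk J)))).surjective y
    have h0 := congrArg (fun k : _ ⟶ X.left => k z) hA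
    simpa using h0
  have hpt' : ∀ y : Y.left, g'.left y = (1 : Y ⟶ X).left y := by
    intro y
    obtain ⟨z, rfl⟩ := (pullback.fst Y.hom
      (Spec.map (CommRingCat.ofHom (Ideal.Quotient.mk J)))).surjective y
    have h0 := congrArg (fun k : _ ⟶ X.left => k z) hA'
    simpa using h0
  apply Over.OverMorphism.ext
  apply hom_ext_of_local
  intro y
  -- an affine open around the image
  obtain ⟨W, hW, hxW⟩ : ∃ W : X.left.Opens, IsAffineOpen W ∧ (1 : Y ⟶ X).left y ∈ W := by
    obtain ⟨_, ⟨W, hW, rfl⟩, hx, -⟩ := X.left.isBasis_affineOpens.exists_subset_of_mem_open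
      (Set.mem_univ ((1 : Y ⟶ X).left y)) isOpen_univ
    exact ⟨W, hW, hx⟩
  let O : Y.left.Opens := (1 : Y ⟶ X).left ⁻¹ᵁ W
  have hyO : y ∈ O := hxW
  obtain ⟨_, ⟨V, hV, rfl⟩, hyV, hVO⟩ := Y.left.isBasis_affineOpens.exists_subset_of_mem_open
    hyO O.isOpen
  refine ⟨V, hyV, ?_⟩
  have hVO' : ∀ z ∈ V, (1 : Y ⟶ X).left z ∈ W := fun z hz => hVO hz
  -- the affine piece
  let f : Spec (CommRingCat.of Γ(Y.left, V)) ⟶ Spec (CommRingCat.of R) := hV.fromSpec ≫ Y.hom
  let jO : LieS.pt Γ(Y.left, V) f ⟶ Y := Over.homMk hV.fromSpec rfl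
  let ψ : R →+* Γ(Y.left, V) := (Spec.preimage f).hom
  have hψ : Spec.map (CommRingCat.ofHom ψ) = f := Spec.map_preimage f
  let K : Ideal Γ(Y.left, V) := J.map ψ
  have hK : K * K = ⊥ := by rw [← Ideal.map_mul, hJ, Ideal.map_bot]
  have hrange : ∀ z : Spec (CommRingCat.of Γ(Y.left, V)), hV.fromSpec z ∈ V := by
    intro z
    have : hV.fromSpec z ∈ Set.range hV.fromSpec.base := ⟨z, rfl⟩
    rw [hV.range_fromSpec] at this
    exact this
  -- factor the closed subscheme through the base change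
  have hw' : (CommRingCat.ofHom (Ideal.Quotient.mk J)) ≫
      CommRingCat.ofHom (Ideal.quotientMap K ψ Ideal.le_comap_map) =
      CommRingCat.ofHom ψ ≫ CommRingCat.ofHom (Ideal.Quotient.mk K) := by
    ext r
    simp
  have hcond : (Spec.map (CommRingCat.ofHom (Ideal.Quotient.mk K)) ≫ hV.fromSpec) ≫ Y.hom =
      Spec.map (CommRingCat.ofHom (Ideal.quotientMap K ψ Ideal.le_comap_map)) ≫
        Spec.map (CommRingCat.ofHom (Ideal.Quotient.mk J)) := by
    rw [Category.assoc]
    show Spec.map _ ≫ f = _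
    rw [← hψ, ← Spec.map_comp, ← Spec.map_comp, hw']
  have hfac : pullback.lift _ _ hcond ≫
      pullback.fst Y.hom (Spec.map (CommRingCat.ofHom (Ideal.Quotient.mk J))) =
      Spec.map (CommRingCat.ofHom (Ideal.Quotient.mk K)) ≫ hV.fromSpec := pullback.lift_fst _ _ _
  have hone' : jO ≫ (1 : Y ⟶ X) = (1 : LieS.pt Γ(Y.left, V) f ⟶ X) := MonObj.comp_one _
  have hmod : ∀ h : Y ⟶ X,
      pullback.fst Y.hom (Spec.map (CommRingCat.ofHom (Ideal.Quotient.mk J))) ≫ h.left =
      pullback.fst Y.hom (Spec.map (CommRingCat.ofHom (Ideal.Quotient.mk J))) ≫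
        (1 : Y ⟶ X).left →
      Spec.map (CommRingCat.ofHom (Ideal.Quotient.mk K)) ≫ (jO ≫ h).left =
      Spec.map (CommRingCat.ofHom (Ideal.Quotient.mk K)) ≫
        (1 : LieS.pt Γ(Y.left, V) f ⟶ X).left := by
    intro h hh
    rw [← hone']
    show Spec.map _ ≫ hV.fromSpec ≫ h.left = Spec.map _ ≫ hV.fromSpec ≫ (1 : Y ⟶ X).left
    rw [← Category.assoc, ← Category.assoc, ← hfac, Category.assoc, Category.assoc, hh]
  have hcore := core Γ(Y.left, V) f K hK X (jO ≫ g) (jO ≫ g') W hW ?_ ?_ ?_ (hmod g hA)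
    (hmod g' hA')
  · have h2 : jO ≫ (g * g') = jO ≫ (g' * g) := by
      rw [MonObj.comp_mul, MonObj.comp_mul]
      exact hcore
    have h3 := congrArg (fun φ => φ.left) h2
    have h4 : hV.fromSpec ≫ (g * g').left = hV.fromSpec ≫ (g' * g).left := h3
    rw [← hV.isoSpec_inv_ι, Category.assoc, Category.assoc, cancel_epi] at h4
    exact h4
  · rintro _ ⟨z, rfl⟩
    rw [← hone']
    exact hVO' _ (hrange z)
  · rintro _ ⟨z, rfl⟩
    show g.left (hV.fromSpec z) ∈ W
    rw [hpt]
    exact hVO' _ (hrange z)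
  · rintro _ ⟨z, rfl⟩
    show g'.left (hV.fromSpec z) ∈ W
    rw [hpt']
    exact hVO' _ (hrange z)

end Main

end Groth.Agent.Lead.SqZComm
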