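import Mathlib
import Groth.Prelude.Def_AlgSt4
import Groth.Prelude.Def_AlgSpCov
import Groth.Prelude.Def_AlgSpMor6
import Groth.Agent.Lib.Helper2.AlgSt.LocQ.Tower
import Groth.Agent.Lib.Helper2.AlgSt.LocQ.BaseChange
import Groth.Agent.Lib.Helper2.AlgSp.SmoothLocalSmooth
import Groth.Agent.Lib.Lead.LciCancel2
import Groth.Agent.Lib.Lead.LciSmooth2
import Groth.Agent.Lib.Lead.LciKos1

set_option autoImplicit false
set_option synthInstance.maxHeartbeats 400000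
set_option linter.style.haveILetI false
set_option linter.unusedSectionVars false

open CategoryTheory CategoryTheory.Functor CategoryTheory.Limits AlgebraicGeometry Opposite

universe u

namespace Groth.Agent.Lead.StLci

open Groth.Agent.Helper2 Groth.Agent.Helper2.FibCatLib Groth.Agent.Helper2.StkLib
open Groth.Agent.Helper2.AlgSpBasic Groth.Agent.Helper2.EtaleLocal
open Groth.Agent.Helper2.AlgStLib Groth.Agent.Helper2.AlgStLib.Pts
open Groth.Agent.Helper2.AlgStLib.LocQ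
open Groth.Agent.Lead.LciLocal

theorem lci_iff_lciMor {X Y : Scheme.{u}} (f : X ⟶ Y) : AlgSp.lci f ↔ LciMor f :=
  forall_isKoszulAt_iff_lciMor f

/-- top arrow of a chart square with smooth charts is lci if the bottom one is -/
theorem lci_of_chart {U V X Y : Scheme.{u}} {a : U ⟶ X} {b : V ⟶ Y} {h : U ⟶ V} {f : X ⟶ Y}
    (w : a ≫ f = h ≫ b) [Smooth a] [Smooth b] (hf : AlgSp.lci f) : AlgSp.lci h := by
  rw [lci_iff_lciMor] at hf ⊢
  have h1 : LciMor (a ≫ f) := (@LciMor.{u}).comp_mem _ _ (lciMor_of_smooth a) hf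
  rw [w] at h1
  exact lciMor_of_comp_smooth h b h1

variable {S : Scheme.{u}} {𝒳 𝒴 𝒵 : BasedCategory.{u, u + 1} (Over S)}

theorem isLCIMor_yon_map_iff {U V : Over S} (g : U ⟶ V) :
    AlgSp.IsLCIMor ((AlgSp.yon S).map g) ↔ AlgSp.lci g.left := by
  constructor
  · intro hf
    exact AlgSp.locP_yon_map hf
  · intro hg U' V' a b h hae hbe comm
    obtain ⟨a', rfl⟩ := (AlgSp.yon S).map_surjective a
    obtain ⟨b', rfl⟩ := (AlgSp.yon S).map_surjective b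
    have ha : Etale a'.left := (AlgSp.repWith_yon_map_iff @Etale a').1 hae
    have hb : Etale b'.left := (AlgSp.repWith_yon_map_iff @Etale b').1 hbe
    have w : a' ≫ g = h ≫ b' := (AlgSp.yon S).map_injective (by
      rw [Functor.map_comp, Functor.map_comp]; exact comm)
    have w' : a'.left ≫ g.left = h.left ≫ b'.left := by
      rw [← Over.comp_left, w, Over.comp_left]
    exact lci_of_chart w' hg

/-- `S19901` -/
theorem locQ_lci_of_comp (h𝒳 : AlgSt.IsAlgStack Scheme.fppfPrecoverage 𝒳)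
    (h𝒴 : AlgSt.IsAlgStack Scheme.fppfPrecoverage 𝒴)
    (h𝒵 : AlgSt.IsAlgStack Scheme.fppfPrecoverage 𝒵) (f : 𝒳 ⥤ᵇ 𝒴) (g : 𝒴 ⥤ᵇ 𝒵)
    (h : AlgSt.LocQ AlgSp.IsLCIMor (BasedFunctor.comp f g))
    (hg : AlgSt.LocQ (AlgSp.LocP @Smooth) g) :
    AlgSt.LocQ AlgSp.IsLCIMor f := by
  obtain ⟨U₀, W₀, x₀, z₀, h₀, α₀, hx₀, hx₀', hz₀, hh₀⟩ := h
  have h𝒬 : AlgSt.IsAlgStack Scheme.fppfPrecoverage (FibCat.fp g z₀) :=
    isAlgStack_fp _ h𝒴 (isAlgStack_overCat W₀) h𝒵 g z₀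
  obtain ⟨V, v, hv1, hv2⟩ := h𝒬.atlas
  obtain ⟨θ⟩ := nonempty_iso_overMap_classify (BasedFunctor.comp v (FibCat.fpSnd g z₀))
  have hq : AlgSp.LocP @Smooth ((AlgSp.yon S).map (OverFun.classify
      (BasedFunctor.comp v (FibCat.fpSnd g z₀)))) :=
    prop_of_locQ isSmoothLocalST_locP_smooth h𝒴 h𝒵 g hg z₀ hz₀ v hv1 _ θ
  obtain ⟨U, a₁, a₂, ⟨α⟩, hcomm, hs1, hs2⟩ :=
    exists_tower_square h𝒴 h𝒵 f g x₀ z₀ h₀ α₀ v _ θ
  have : Smooth a₁.left := hs1 hv1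
  have : Surjective a₁.left := hs2 hv2
  have hU : FibCat.IsFibGrpd (FibCat.overCat U).p := isFibGrpd_overCat U
  have hU₀ : FibCat.IsFibGrpd (FibCat.overCat U₀).p := isFibGrpd_overCat U₀
  have hV : FibCat.IsFibGrpd (FibCat.overCat V).p := isFibGrpd_overCat V
  refine ⟨U, V, _, _, a₂, α, sm_comp hU hU₀ _ _ (sm_overMap a₁) hx₀,
    sj_comp hU hU₀ _ _ (sj_overMap a₁) hx₀',
    sm_comp hV h𝒬.isStack.1 _ _ hv1 (repByAlgSpWith_fpFst _ z₀ g hz₀), ?_⟩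
  rw [isLCIMor_yon_map_iff] at hh₀ ⊢
  have hsm : Smooth (OverFun.classify (BasedFunctor.comp v (FibCat.fpSnd g z₀))).left :=
    AlgSp.locP_yon_map hq
  have w' : a₁.left ≫ h₀.left = a₂.left ≫ (OverFun.classify
      (BasedFunctor.comp v (FibCat.fpSnd g z₀))).left := by
    rw [← Over.comp_left, hcomm, Over.comp_left]
  rw [lci_iff_lciMor] at hh₀ ⊢
  have h1 : LciMor (a₁.left ≫ h₀.left) :=
    (@LciMor.{u}).comp_mem _ _ (lciMor_of_smooth a₁.left) hh₀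
  rw [w'] at h1
  exact lciMor_of_comp_smooth a₂.left _ h1

theorem main19901 (h𝒳 : AlgSt.IsAlgStack Scheme.fppfPrecoverage 𝒳)
    (h𝒴 : AlgSt.IsAlgStack Scheme.fppfPrecoverage 𝒴)
    (h𝒵 : AlgSt.IsAlgStack Scheme.fppfPrecoverage 𝒵)
    (f : 𝒳 ⥤ᵇ 𝒴) (q : 𝒴 ⥤ᵇ 𝒵) (p : 𝒳 ⥤ᵇ 𝒵) (e : BasedFunctor.comp f q ≅ p)
    (hq : AlgSt.LocQ (AlgSp.LocP @Smooth) q) (hp : AlgSt.LocQ AlgSp.IsLCIMor p) :
    AlgSt.LocQ AlgSp.IsLCIMor f :=
  locQ_lci_of_comp h𝒳 h𝒴 h𝒵 f q (locQ_congr e.symm hp) hq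

end Groth.Agent.Lead.StLci
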