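import Mathlib
import Groth.Prelude.Def_Red
import Groth.Agent.Lib.Helper4.SchClosGrp1
import Groth.Agent.Lib.Helper7.GrobFree.Scheme

set_option backward.isDefEq.respectTransparency.types false
set_option autoImplicit false
set_option synthInstance.maxHeartbeats 400000
set_option maxHeartbeats 1000000
set_option linter.style.haveILetI false
set_option linter.unusedSectionVars false

universe u
open CategoryTheory CategoryTheory.Limits AlgebraicGeometry TopologicalSpace Opposite
open MonoidalCategory CartesianMonoidalCategory MonObj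

namespace Groth.Agent.Lead.SubGrpSpread

open Groth.Agent.Lib.Helper4.SchClosGrp1

section GenPt

variable (X : Scheme.{u}) [IsIntegral X]

/-- the generic point morphism -/
noncomputable abbrev q₀ : Spec X.functionField ⟶ X := X.fromSpecStalk (genericPoint X)

instance : Mono (q₀ X) := inferInstance

theorem flat_fromSpecStalk (X : Scheme.{u}) (x : X) : Flat (X.fromSpecStalk x) := by
  obtain ⟨_, ⟨U, hU, rfl⟩, hxU, -⟩ :=
    X.isBasis_affineOpens.exists_subset_of_mem_open (Set.mem_univ x) isOpen_univ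
  rw [← hU.fromSpecStalk_eq_fromSpecStalk hxU]
  unfold IsAffineOpen.fromSpecStalk
  haveI : Flat (Spec.map (X.presheaf.germ U x hxU)) := by
    rw [Flat.SpecMap_iff]
    letI := TopCat.Presheaf.algebra_section_stalk X.presheaf ⟨x, hxU⟩
    haveI := hU.isLocalization_stalk ⟨x, hxU⟩
    exact IsLocalization.flat _ (hU.primeIdealOf ⟨x, hxU⟩).asIdeal.primeCompl
  infer_instance

instance : Flat (q₀ X) := flat_fromSpecStalk X _

instance quasiCompact_q₀ : QuasiCompact (q₀ X) := by
  haveI : Finite ↥(Spec X.functionField) := by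
    haveI : Unique (PrimeSpectrum X.functionField) := inferInstance
    exact (inferInstance : Finite (PrimeSpectrum X.functionField))
  exact ⟨fun U _ _ => (Set.toFinite _).isCompact⟩

theorem range_q₀ : Set.range (q₀ X) = {genericPoint X} := by
  ext x
  constructor
  · rintro ⟨y, rfl⟩
    haveI : Subsingleton (PrimeSpectrum X.functionField) := inferInstance
    have hy : y = IsLocalRing.closedPoint X.functionField :=
      Subsingleton.elim (α := PrimeSpectrum X.functionField) _ _
    rw [hy]
    exact Scheme.fromSpecStalk_closedPoint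
  · intro hx
    rw [Set.mem_singleton_iff] at hx
    subst hx
    exact ⟨IsLocalRing.closedPoint X.functionField, Scheme.fromSpecStalk_closedPoint⟩

instance isDominant_q₀ : IsDominant (q₀ X) := by
  constructor
  rw [DenseRange, range_q₀]
  have := (genericPoint_spec X)
  rw [dense_iff_closure_eq]
  exact this.def

instance schDominant_q₀ : IsSchemeTheoreticallyDominant (q₀ X) :=
  IsSchemeTheoreticallyDominant.of_isDominant _

theorem genericPoint_mem_of_dense (U : X.Opens) (hU : Dense (U : Set X)) :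
    genericPoint X ∈ U := by
  have hne : (U : Set X).Nonempty := hU.nonempty
  exact ((genericPoint_spec X).mem_open_set_iff U.2).2 (by simpa using hne)

theorem range_q₀_subset (U : X.Opens) (hU : Dense (U : Set X)) :
    Set.range (q₀ X) ⊆ Set.range U.ι := by
  rw [range_q₀, Scheme.Opens.range_ι]
  exact Set.singleton_subset_iff.2 (genericPoint_mem_of_dense X U hU)

/-- the generic point of a dense open -/
noncomputable def ηU (U : X.Opens) (hU : Dense (U : Set X)) :
    Spec X.functionField ⟶ (U : Scheme.{u}) :=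
  IsOpenImmersion.lift U.ι (q₀ X) (range_q₀_subset X U hU)

theorem ηU_ι (U : X.Opens) (hU : Dense (U : Set X)) : ηU X U hU ≫ U.ι = q₀ X :=
  IsOpenImmersion.lift_fac _ _ _

instance mono_ηU (U : X.Opens) (hU : Dense (U : Set X)) : Mono (ηU X U hU) := by
  haveI : Mono (ηU X U hU ≫ U.ι) := by rw [ηU_ι]; infer_instance
  exact mono_of_mono (ηU X U hU) U.ι

instance flat_ηU (U : X.Opens) (hU : Dense (U : Set X)) : Flat (ηU X U hU) := by
  have h : Flat (ηU X U hU ≫ U.ι) := by rw [ηU_ι]; infer_instance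
  exact MorphismProperty.of_postcomp (W := @Flat) (W' := @IsOpenImmersion) (ηU X U hU) U.ι
    inferInstance h

theorem isPullback_ηU (U : X.Opens) (hU : Dense (U : Set X)) :
    IsPullback (𝟙 (Spec X.functionField)) (ηU X U hU) (q₀ X) U.ι := by
  have h0 := (IsPullback.id_vert (ηU X U hU)).paste_horiz (IsKernelPair.id_of_mono U.ι)
  rw [Category.comp_id, ηU_ι] at h0
  exact h0.flip

instance schDominant_ηU (U : X.Opens) (hU : Dense (U : Set X)) :
    IsSchemeTheoreticallyDominant (ηU X U hU) :=
  IsSchemeTheoreticallyDominant.of_isPullback (isPullback_ηU X U hU)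

end GenPt

section Transport

variable {X U K : Scheme.{u}} (iU : U ⟶ X) (eta : K ⟶ U) (G : Over X) [GrpObj G]

/-- the iterated pullback is the pullback along the composite -/
theorem isPullback_iter :
    IsPullback (pullback.fst (Red.bc iU G).hom eta ≫ pullback.fst G.hom iU)
      (pullback.snd (Red.bc iU G).hom eta) G.hom (eta ≫ iU) := by
  have h1 : IsPullback (pullback.fst (Red.bc iU G).hom eta) (pullback.snd (Red.bc iU G).hom eta)
      (Red.bc iU G).hom eta := IsPullback.of_hasPullback _ _
  have h2 : IsPullback (pullback.fst G.hom iU) (Red.bc iU G).hom G.hom iU :=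
    IsPullback.of_hasPullback _ _
  exact h1.paste_horiz h2

/-- the comparison isomorphism on underlying schemes -/
noncomputable def cIso : pullback (Red.bc iU G).hom eta ≅ pullback G.hom (eta ≫ iU) :=
  (isPullback_iter iU eta G).isoPullback

theorem cIso_hom_fst : (cIso iU eta G).hom ≫ pullback.fst G.hom (eta ≫ iU) =
    pullback.fst (Red.bc iU G).hom eta ≫ pullback.fst G.hom iU :=
  (isPullback_iter iU eta G).isoPullback_hom_fst

theorem cIso_hom_snd : (cIso iU eta G).hom ≫ pullback.snd G.hom (eta ≫ iU) =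
    pullback.snd (Red.bc iU G).hom eta :=
  (isPullback_iter iU eta G).isoPullback_hom_snd

theorem cIso_inv_fst : (cIso iU eta G).inv ≫ pullback.fst (Red.bc iU G).hom eta ≫
    pullback.fst G.hom iU = pullback.fst G.hom (eta ≫ iU) :=
  (isPullback_iter iU eta G).isoPullback_inv_fst

theorem cIso_inv_snd : (cIso iU eta G).inv ≫ pullback.snd (Red.bc iU G).hom eta =
    pullback.snd G.hom (eta ≫ iU) :=
  (isPullback_iter iU eta G).isoPullback_inv_snd

/-- the comparison isomorphism over `K` -/
noncomputable def cOver : Red.bc eta (Red.bc iU G) ≅ Red.bc (eta ≫ iU) G :=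
  Over.isoMk (cIso iU eta G) (cIso_hom_snd iU eta G)

theorem cOver_hom_left : (cOver iU eta G).hom.left = (cIso iU eta G).hom := rfl

theorem cOver_inv_left : (cOver iU eta G).inv.left = (cIso iU eta G).inv := rfl

theorem tensor_c_fst :
    ((cOver iU eta G).hom ⊗ₘ (cOver iU eta G).hom).left ≫
      pullback.fst (Red.bc (eta ≫ iU) G).hom (Red.bc (eta ≫ iU) G).hom =
    pullback.fst (Red.bc eta (Red.bc iU G)).hom (Red.bc eta (Red.bc iU G)).hom ≫
      (cIso iU eta G).hom := by
  rw [Over.tensorHom_left]; exact pullback.lift_fst _ _ _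

theorem tensor_c_snd :
    ((cOver iU eta G).hom ⊗ₘ (cOver iU eta G).hom).left ≫
      pullback.snd (Red.bc (eta ≫ iU) G).hom (Red.bc (eta ≫ iU) G).hom =
    pullback.snd (Red.bc eta (Red.bc iU G)).hom (Red.bc eta (Red.bc iU G)).hom ≫
      (cIso iU eta G).hom := by
  rw [Over.tensorHom_left]; exact pullback.lift_snd _ _ _

theorem ppMap_comp :
    ppMap eta (Red.bc iU G) ≫ ppMap iU G =
      ((cOver iU eta G).hom ⊗ₘ (cOver iU eta G).hom).left ≫ ppMap (eta ≫ iU) G := by
  apply pullback.hom_ext
  · calc (ppMap eta (Red.bc iU G) ≫ ppMap iU G) ≫ pullback.fst G.hom G.hom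
        = ppMap eta (Red.bc iU G) ≫ (ppMap iU G ≫ pullback.fst G.hom G.hom) :=
          Category.assoc _ _ _
      _ = (ppMap eta (Red.bc iU G) ≫ pullback.fst (Red.bc iU G).hom (Red.bc iU G).hom) ≫
            pullback.fst G.hom iU := by
          rw [ppMap_fst]; exact (Category.assoc _ _ _).symm
      _ = (pullback.fst (Red.bc eta (Red.bc iU G)).hom (Red.bc eta (Red.bc iU G)).hom ≫
            pullback.fst (Red.bc iU G).hom eta) ≫ pullback.fst G.hom iU := by rw [ppMap_fst]
      _ = pullback.fst (Red.bc eta (Red.bc iU G)).hom (Red.bc eta (Red.bc iU G)).hom ≫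
            (cIso iU eta G).hom ≫ pullback.fst G.hom (eta ≫ iU) := by
          rw [cIso_hom_fst, Category.assoc]
      _ = (((cOver iU eta G).hom ⊗ₘ (cOver iU eta G).hom).left ≫
            pullback.fst (Red.bc (eta ≫ iU) G).hom (Red.bc (eta ≫ iU) G).hom) ≫
            pullback.fst G.hom (eta ≫ iU) := by rw [tensor_c_fst, Category.assoc]
      _ = ((cOver iU eta G).hom ⊗ₘ (cOver iU eta G).hom).left ≫
            (ppMap (eta ≫ iU) G ≫ pullback.fst G.hom G.hom) := by
          rw [ppMap_fst, Category.assoc]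
      _ = _ := (Category.assoc _ _ _).symm
  · calc (ppMap eta (Red.bc iU G) ≫ ppMap iU G) ≫ pullback.snd G.hom G.hom
        = ppMap eta (Red.bc iU G) ≫ (ppMap iU G ≫ pullback.snd G.hom G.hom) :=
          Category.assoc _ _ _
      _ = (ppMap eta (Red.bc iU G) ≫ pullback.snd (Red.bc iU G).hom (Red.bc iU G).hom) ≫
            pullback.fst G.hom iU := by
          rw [ppMap_snd]; exact (Category.assoc _ _ _).symm
      _ = (pullback.snd (Red.bc eta (Red.bc iU G)).hom (Red.bc eta (Red.bc iU G)).hom ≫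
            pullback.fst (Red.bc iU G).hom eta) ≫ pullback.fst G.hom iU := by rw [ppMap_snd]
      _ = pullback.snd (Red.bc eta (Red.bc iU G)).hom (Red.bc eta (Red.bc iU G)).hom ≫
            (cIso iU eta G).hom ≫ pullback.fst G.hom (eta ≫ iU) := by
          rw [cIso_hom_fst, Category.assoc]
      _ = (((cOver iU eta G).hom ⊗ₘ (cOver iU eta G).hom).left ≫
            pullback.snd (Red.bc (eta ≫ iU) G).hom (Red.bc (eta ≫ iU) G).hom) ≫
            pullback.fst G.hom (eta ≫ iU) := by rw [tensor_c_snd, Category.assoc]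
      _ = ((cOver iU eta G).hom ⊗ₘ (cOver iU eta G).hom).left ≫
            (ppMap (eta ≫ iU) G ≫ pullback.snd G.hom G.hom) := by
          rw [ppMap_snd, Category.assoc]
      _ = _ := (Category.assoc _ _ _).symm

instance isMonHom_cOver : IsMonHom (cOver iU eta G).hom where
  one_hom := by
    apply Over.OverMorphism.ext
    rw [Over.comp_left, cOver_hom_left]
    apply pullback.hom_ext
    · calc ((η[Red.bc eta (Red.bc iU G)]).left ≫ (cIso iU eta G).hom) ≫
              pullback.fst G.hom (eta ≫ iU)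
          = ((η[Red.bc eta (Red.bc iU G)]).left ≫ pullback.fst (Red.bc iU G).hom eta) ≫
              pullback.fst G.hom iU := by
            rw [Category.assoc, cIso_hom_fst, Category.assoc]
        _ = eta ≫ ((η[Red.bc iU G]).left ≫ pullback.fst G.hom iU) := by
            rw [one_left_pr, Category.assoc]
        _ = (eta ≫ iU) ≫ (η[G]).left := by rw [one_left_pr, Category.assoc]
        _ = _ := (one_left_pr (eta ≫ iU) G).symm
    · rw [Category.assoc, cIso_hom_snd]
      exact (Over.w η[Red.bc eta (Red.bc iU G)]).trans (Over.w η[Red.bc (eta ≫ iU) G]).symm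
  mul_hom := by
    apply Over.OverMorphism.ext
    rw [Over.comp_left, Over.comp_left, cOver_hom_left]
    apply pullback.hom_ext
    · calc ((μ[Red.bc eta (Red.bc iU G)]).left ≫ (cIso iU eta G).hom) ≫
              pullback.fst G.hom (eta ≫ iU)
          = ((μ[Red.bc eta (Red.bc iU G)]).left ≫ pullback.fst (Red.bc iU G).hom eta) ≫
              pullback.fst G.hom iU := by
            rw [Category.assoc, cIso_hom_fst, Category.assoc]
        _ = ppMap eta (Red.bc iU G) ≫ ((μ[Red.bc iU G]).left ≫ pullback.fst G.hom iU) := by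
            rw [mul_left_pr, Category.assoc]
        _ = (ppMap eta (Red.bc iU G) ≫ ppMap iU G) ≫ (μ[G]).left := by
            rw [mul_left_pr]; exact (Category.assoc _ _ _).symm
        _ = ((cOver iU eta G).hom ⊗ₘ (cOver iU eta G).hom).left ≫
              (ppMap (eta ≫ iU) G ≫ (μ[G]).left) := by rw [ppMap_comp, Category.assoc]
        _ = ((cOver iU eta G).hom ⊗ₘ (cOver iU eta G).hom).left ≫
              ((μ[Red.bc (eta ≫ iU) G]).left ≫ pullback.fst G.hom (eta ≫ iU)) := by
            rw [mul_left_pr]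
        _ = _ := (Category.assoc _ _ _).symm
    · rw [Category.assoc, cIso_hom_snd]
      have h1 := Over.w μ[Red.bc eta (Red.bc iU G)]
      have h2 := Over.w (((cOver iU eta G).hom ⊗ₘ (cOver iU eta G).hom) ≫ μ[Red.bc (eta ≫ iU) G])
      rw [Over.comp_left] at h2
      exact h1.trans h2.symm

theorem exists_transport (q : K ⟶ X) (hq : eta ≫ iU = q)
    (H : Over K) [GrpObj H] (i : H ⟶ Red.bc q G) [IsMonHom i] [IsClosedImmersion i.left] :
    ∃ (i' : H ⟶ Red.bc eta (Red.bc iU G)), IsMonHom i' ∧ IsClosedImmersion i'.left ∧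
      i'.left ≫ pullback.fst (Red.bc iU G).hom eta ≫ pullback.fst G.hom iU =
        i.left ≫ pullback.fst G.hom q := by
  subst hq
  haveI : IsMonHom (cOver iU eta G).inv := inferInstance
  refine ⟨i ≫ (cOver iU eta G).inv, inferInstance, ?_, ?_⟩
  · rw [Over.comp_left, cOver_inv_left]
    infer_instance
  · rw [Over.comp_left, cOver_inv_left, Category.assoc, cIso_inv_fst]

end Transport

section Main

variable (X : Scheme.{u}) [IsIntegral X] (G : Over X) [GrpObj G]
    [IsAffineHom G.hom] [LocallyOfFinitePresentation G.hom]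
    (Hη : Over (Spec X.functionField)) [GrpObj Hη]
    (i : Hη ⟶ Red.bc (q₀ X) G) [IsMonHom i] [IsClosedImmersion i.left]

theorem main18029 :
    ∃ (U : X.Opens) (ηU : Spec X.functionField ⟶ (U : Scheme.{u})) (HU : Over (U : Scheme.{u}))
      (_ : GrpObj HU) (j : HU ⟶ Red.bc U.ι G) (φ : Hη.left ⟶ HU.left),
      ηU ≫ U.ι = q₀ X ∧ IsMonHom j ∧ IsClosedImmersion j.left ∧
      IsPullback φ Hη.hom HU.hom ηU ∧
      φ ≫ j.left ≫ pullback.fst G.hom U.ι = i.left ≫ pullback.fst G.hom (q₀ X) := by
  let u : Hη.left ⟶ G.left := i.left ≫ pullback.fst G.hom (q₀ X)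
  haveI : QuasiCompact u := inferInstance
  let g : u.image ⟶ X := u.imageι ≫ G.hom
  haveI : LocallyOfFiniteType g := inferInstance
  haveI : QuasiCompact g := inferInstance
  obtain ⟨U, hUd, hflat, -⟩ := Groth.Agent.Helper7.GrobFree.generic_flatness_reduced g
  obtain ⟨i', hi'mon, hi'cl, hi'⟩ :=
    exists_transport U.ι (ηU X U hUd) G (q₀ X) (ηU_ι X U hUd) Hη i
  have hu : u ≫ G.hom = Hη.hom ≫ q₀ X := by
    show (i.left ≫ pullback.fst _ _) ≫ G.hom = _
    rw [Category.assoc, pullback.condition, ← Category.assoc]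
    congr 1
    exact Over.w i
  let gU : (g ⁻¹ᵁ U : Scheme.{u}) ⟶ (U : Scheme.{u}) := g ∣_ U
  have hpbZ : IsPullback (g ⁻¹ᵁ U).ι gU g U.ι := (isPullback_morphismRestrict g U).flip
  let jU : (g ⁻¹ᵁ U : Scheme.{u}) ⟶ pullback G.hom U.ι :=
    pullback.lift ((g ⁻¹ᵁ U).ι ≫ u.imageι) gU (by rw [Category.assoc]; exact hpbZ.w)
  have hjU_fst : jU ≫ pullback.fst G.hom U.ι = (g ⁻¹ᵁ U).ι ≫ u.imageι := pullback.lift_fst _ _ _
  have hjU_snd : jU ≫ pullback.snd G.hom U.ι = gU := pullback.lift_snd _ _ _
  have hpbj : IsPullback jU (g ⁻¹ᵁ U).ι (pullback.fst G.hom U.ι) u.imageι := by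
    have s0 : IsPullback (jU ≫ pullback.snd G.hom U.ι) (g ⁻¹ᵁ U).ι U.ι (u.imageι ≫ G.hom) := by
      rw [hjU_snd]; exact hpbZ.flip
    exact IsPullback.of_right s0 hjU_fst (IsPullback.of_hasPullback G.hom U.ι).flip
  haveI : IsClosedImmersion jU :=
    MorphismProperty.of_isPullback (P := @IsClosedImmersion) hpbj.flip inferInstance
  have hφw : u.toImage ≫ g = (Hη.hom ≫ ηU X U hUd) ≫ U.ι := by
    show u.toImage ≫ u.imageι ≫ G.hom = _
    rw [← Category.assoc, u.toImage_imageι, hu, Category.assoc, ηU_ι]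
  let φU : Hη.left ⟶ (g ⁻¹ᵁ U : Scheme.{u}) := hpbZ.lift u.toImage (Hη.hom ≫ ηU X U hUd) hφw
  have hφU_ι : φU ≫ (g ⁻¹ᵁ U).ι = u.toImage := hpbZ.lift_fst _ _ _
  have hφU_g : φU ≫ gU = Hη.hom ≫ ηU X U hUd := hpbZ.lift_snd _ _ _
  have hpbφ : IsPullback (𝟙 Hη.left) φU u.toImage (g ⁻¹ᵁ U).ι := by
    have h0 := (IsPullback.id_vert φU).paste_horiz (IsKernelPair.id_of_mono (g ⁻¹ᵁ U).ι)
    rw [Category.comp_id, hφU_ι] at h0
    exact h0.flip
  haveI : IsSchemeTheoreticallyDominant u.toImage := ⟨ker_toImage_eq_bot u⟩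
  haveI : QuasiCompact u.toImage := inferInstance
  haveI : IsSchemeTheoreticallyDominant φU := IsSchemeTheoreticallyDominant.of_isPullback hpbφ
  haveI : QuasiCompact φU :=
    MorphismProperty.of_isPullback (P := @QuasiCompact) hpbφ inferInstance
  have hφj : φU ≫ jU = i'.left ≫ pullback.fst (Red.bc U.ι G).hom (ηU X U hUd) := by
    apply pullback.hom_ext
    · rw [Category.assoc, hjU_fst, ← Category.assoc, hφU_ι, u.toImage_imageι, Category.assoc, hi']
    · rw [Category.assoc, hjU_snd, hφU_g, Category.assoc]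
      have h1 : pullback.fst (Red.bc U.ι G).hom (ηU X U hUd) ≫ pullback.snd G.hom U.ι =
          pullback.snd (Red.bc U.ι G).hom (ηU X U hUd) ≫ ηU X U hUd := pullback.condition
      rw [h1, ← Category.assoc]
      congr 1
      exact (Over.w i').symm
  haveI : Flat (jU ≫ (Red.bc U.ι G).hom) := by
    show Flat (jU ≫ pullback.snd G.hom U.ι)
    rw [hjU_snd]; exact hflat
  haveI : Subsingleton ↥(Spec X.functionField) :=
    (inferInstance : Subsingleton (PrimeSpectrum X.functionField))
  haveI : IsIntegral (Spec X.functionField) := inferInstance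
  haveI : Flat Hη.hom := inferInstance
  obtain ⟨inst, hmon⟩ := exists_grp (ηU X U hUd) (Red.bc U.ι G) Hη i' _ jU φU hφj
  refine ⟨U, ηU X U hUd, Over.mk (jU ≫ (Red.bc U.ι G).hom), inst, Over.homMk jU rfl, φU,
    ηU_ι X U hUd, hmon, ?_, ?_, ?_⟩
  · show IsClosedImmersion jU
    infer_instance
  · exact isPullback_toImage (ηU X U hUd) (Red.bc U.ι G).hom Hη.hom i'.left (Over.w i') jU φU hφj
  · show φU ≫ jU ≫ pullback.fst G.hom U.ι = _
    rw [← Category.assoc, hφj, Category.assoc, hi']

end Main

end Groth.Agent.Lead.SubGrpSpread
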