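import Mathlib
import Groth.Agent.Lib.Lead.VBL9
import Groth.Agent.Lib.Lead.ODiv1
import Groth.Agent.Lib.Lead.IdM1
import Groth.Agent.Lib.Helper1.CurveDual2
import Groth.Agent.Lib.Helper1.HProj

/-!
# A monomorphic endomorphism of a coherent module on a proper scheme over a field is an
isomorphism; comparable ideal sheaves with isomorphic ideal modules are equal (lead)
-/

set_option autoImplicit false
set_option backward.isDefEq.respectTransparency.types false
set_option synthInstance.maxHeartbeats 400000
set_option linter.style.haveILetI false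
set_option linter.unusedSectionVars false
set_option linter.unusedVariables false
universe u
open CategoryTheory CategoryTheory.Limits AlgebraicGeometry TopologicalSpace Opposite

namespace Groth.Agent.Lead.SubIdeal

variable (k : Type u) [Field k] (X : Scheme.{u}) [X.Over (Spec (CommRingCat.of k))]
  [IsProper (X ↘ Spec (CommRingCat.of k))]

include k in
/-- a monomorphic endomorphism of a coherent module on a proper scheme over a field is an
isomorphism -/
theorem isIso_of_mono_endo {F : X.Modules} (hF : Coh.IsCoh F) (ψ : F ⟶ F) [Mono ψ] : IsIso ψ := by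
  haveI : Module.Finite k (F ⟶ F) := Groth.Agent.Lead.VBL.finite_hom k X F F hF hF
  let L : (F ⟶ F) →ₗ[k] (F ⟶ F) :=
    { toFun := fun α => α ≫ ψ
      map_add' := fun a b => Preadditive.add_comp _ _ _ _ _ _
      map_smul' := fun c a => Linear.smul_comp _ _ _ _ _ _ }
  have hinj : Function.Injective L := fun a b h => (cancel_mono ψ).1 h
  have hsurj : Function.Surjective L := LinearMap.surjective_of_injective hinj
  obtain ⟨χ, hχ⟩ := hsurj (𝟙 F)
  have hχ' : χ ≫ ψ = 𝟙 F := hχ
  refine ⟨χ, ?_, hχ'⟩
  rw [← cancel_mono ψ, Category.assoc, hχ', Category.comp_id, Category.id_comp]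

include k in
/-- S18380 (core): comparable ideal sheaves with isomorphic ideal modules are equal -/
theorem ideal_eq_of_le_of_iso (D₁ D₂ : X.IdealSheafData) (hle : D₂ ≤ D₁)
    (e : ClSub.idealMod D₁ ≅ ClSub.idealMod D₂) : D₁ = D₂ := by
  haveI : IsLocallyNoetherian X :=
    LocallyOfFiniteType.isLocallyNoetherian (X ↘ Spec (CommRingCat.of k))
  have hz : ClSub.idealModι D₂ ≫ ClSub.toSubscheme D₁ = 0 := by
    apply Groth.Agent.Lead.IdM.comp_toSubscheme_eq_zero
    intro U m
    exact (Scheme.IdealSheafData.le_def.1 hle U) (Groth.Agent.Lead.ODiv.ι_mem_ideal D₂ U m)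
  let φ : ClSub.idealMod D₂ ⟶ ClSub.idealMod D₁ := kernel.lift (ClSub.toSubscheme D₁) _ hz
  have hφ : φ ≫ ClSub.idealModι D₁ = ClSub.idealModι D₂ := kernel.lift_ι _ _ _
  haveI : Mono (ClSub.idealModι D₂) := inferInstanceAs (Mono (kernel.ι _))
  haveI : Mono φ := mono_of_mono_fac hφ
  haveI : Mono (φ ≫ e.hom) := mono_comp _ _
  haveI hψ : IsIso (φ ≫ e.hom) :=
    isIso_of_mono_endo k X (Groth.Agent.Helper1.CurveDual.isCoh_idealMod D₂) (φ ≫ e.hom)
  haveI : IsIso φ := by
    have : φ = (φ ≫ e.hom) ≫ e.inv := by rw [Category.assoc, e.hom_inv_id, Category.comp_id]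
    rw [this]
    infer_instance
  apply Scheme.IdealSheafData.ext
  funext U
  apply SetLike.coe_injective
  rw [← Groth.Agent.Lead.IdM.range_ι_affine D₁ U, ← Groth.Agent.Lead.IdM.range_ι_affine D₂ U, ← hφ]
  ext r
  constructor
  · rintro ⟨m, rfl⟩
    exact ⟨(inv φ).app U.1 m, by
      change (ClSub.idealModι D₁).app U.1 (φ.app U.1 ((inv φ).app U.1 m)) = _
      have : φ.app U.1 ((inv φ).app U.1 m) = m := by
        have h := congrArg (fun g => g.app U.1 m) (IsIso.inv_hom_id φ)
        exact h
      rw [this]⟩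
  · rintro ⟨m, rfl⟩
    exact ⟨φ.app U.1 m, rfl⟩

end Groth.Agent.Lead.SubIdeal
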