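import Mathlib

set_option backward.isDefEq.respectTransparency.types false
set_option autoImplicit false
set_option synthInstance.maxHeartbeats 400000
set_option maxHeartbeats 1000000
set_option linter.style.haveILetI false
set_option linter.unusedSectionVars false
set_option linter.unusedVariables false

universe u

namespace Groth.Agent.Lead.SymA

open Polynomial

variable (R : Type u) [CommRing R] (n : ℕ)

/-- the coefficient ring `R[c_1, …, c_{n+1}]` -/
abbrev B : Type u := MvPolynomial (Fin (n + 1)) R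

/-- `c' j = c_{j+1}` extended by zero -/
noncomputable def c' (j : ℕ) : B R n := if h : j < n + 1 then MvPolynomial.X ⟨j, h⟩ else 0

theorem c'_of_lt {j : ℕ} (h : j < n + 1) : c' R n j = MvPolynomial.X ⟨j, h⟩ := dif_pos h

/-- the universal monic polynomial `X^{n+1} + c_1 X^n + ⋯ + c_{n+1}` -/
noncomputable def pol : (B R n)[X] :=
  X ^ (n + 1) + ∑ j ∈ Finset.range (n + 1), C (c' R n j) * X ^ (n - j)

theorem monic_pol : (pol R n).Monic := by
  apply Polynomial.monic_X_pow_add
  refine lt_of_le_of_lt (Polynomial.degree_sum_le _ _) ?_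
  rw [Finset.sup_lt_iff (WithBot.bot_lt_coe _)]
  intro j hj
  refine lt_of_le_of_lt (Polynomial.degree_C_mul_X_pow_le _ _) ?_
  exact_mod_cast Nat.lt_succ_of_le (Nat.sub_le n j)

/-- the ring `C = B[s]/(pol)` -/
abbrev CC : Type u := AdjoinRoot (pol R n)

noncomputable abbrev Ψ : B R n →+* CC R n := AdjoinRoot.of (pol R n)

noncomputable abbrev s : CC R n := AdjoinRoot.root (pol R n)

/-- `cc 0 = 1`, `cc (j+1) = c_{j+1}` -/
noncomputable def cc : ℕ → CC R n
  | 0 => 1
  | j + 1 => Ψ R n (c' R n j)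

/-- the coefficients of the quotient by the linear factor -/
noncomputable def v (k : ℕ) : CC R n := ∑ j ∈ Finset.range (k + 1), s R n ^ (k - j) * cc R n j

noncomputable def t : CC R n := - s R n

theorem v_zero : v R n 0 = 1 := by
  simp [v, cc]

theorem v_succ (k : ℕ) : v R n (k + 1) = cc R n (k + 1) + s R n * v R n k := by
  rw [v, Finset.sum_range_succ, Nat.sub_self, pow_zero, one_mul, add_comm]
  congr 1
  rw [v, Finset.mul_sum]
  refine Finset.sum_congr rfl fun j hj => ?_
  have hj' : j ≤ k := Nat.lt_succ_iff.1 (Finset.mem_range.1 hj)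
  rw [← mul_assoc, ← pow_succ', Nat.succ_sub hj']

theorem eval₂_pol {K : Type*} [CommRing K] (φ : B R n →+* K) (x : K) :
    Polynomial.eval₂ φ x (pol R n) =
      x ^ (n + 1) + ∑ j ∈ Finset.range (n + 1), φ (c' R n j) * x ^ (n - j) := by
  rw [pol, Polynomial.eval₂_add, Polynomial.eval₂_pow, Polynomial.eval₂_X,
    Polynomial.eval₂_finset_sum]
  congr 1
  refine Finset.sum_congr rfl fun j hj => ?_
  rw [Polynomial.eval₂_mul, Polynomial.eval₂_C, Polynomial.eval₂_pow, Polynomial.eval₂_X]

theorem v_last : v R n (n + 1) = 0 := by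
  have h : Polynomial.eval₂ (Ψ R n) (s R n) (pol R n) = 0 := AdjoinRoot.eval₂_root (pol R n)
  rw [eval₂_pol] at h
  rw [v, Finset.sum_range_succ']
  refine Eq.trans ?_ h
  rw [add_comm]
  congr 1
  · simp [cc]
  · refine Finset.sum_congr rfl fun j hj => ?_
    rw [Nat.succ_sub_succ, mul_comm]
    rfl

theorem rel (k : ℕ) : v R n (k + 1) + t R n * v R n k = Ψ R n (c' R n k) := by
  rw [v_succ, t]
  change Ψ R n (c' R n k) + _ + _ = _
  ring

theorem rel_lt {k : ℕ} (h : k < n + 1) :
    v R n (k + 1) + t R n * v R n k = Ψ R n (MvPolynomial.X ⟨k, h⟩) := by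
  rw [rel, c'_of_lt]

theorem rel_last : t R n * v R n n = Ψ R n (MvPolynomial.X ⟨n, Nat.lt_succ_self n⟩) := by
  have := rel_lt R n (Nat.lt_succ_self n)
  rwa [v_last, zero_add] at this

theorem Ψ_injective [IsDomain R] : Function.Injective (Ψ R n) := by
  apply AdjoinRoot.of.injective_of_degree_ne_zero
  have hlt : (∑ j ∈ Finset.range (n + 1), C (c' R n j) * X ^ (n - j) : (B R n)[X]).degree <
      ((n + 1 : ℕ) : WithBot ℕ) := by
    refine lt_of_le_of_lt (Polynomial.degree_sum_le _ _) ?_
    rw [Finset.sup_lt_iff (WithBot.bot_lt_coe _)]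
    intro j hj
    refine lt_of_le_of_lt (Polynomial.degree_C_mul_X_pow_le _ _) ?_
    exact_mod_cast Nat.lt_succ_of_le (Nat.sub_le n j)
  have h : (pol R n).degree = ((n + 1 : ℕ) : WithBot ℕ) := by
    rw [pol, Polynomial.degree_add_eq_left_of_degree_lt, Polynomial.degree_X_pow]
    rwa [Polynomial.degree_X_pow]
  rw [h]
  exact_mod_cast Nat.succ_ne_zero n

theorem Ψ_isIntegral : (Ψ R n).IsIntegral := by
  haveI : Module.Finite (B R n) (CC R n) := (monic_pol R n).finite_adjoinRoot
  intro x
  exact (Algebra.IsIntegral.isIntegral (R := B R n) x)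

theorem Ψ_C (r : R) : Ψ R n (MvPolynomial.C r) = algebraMap R (CC R n) r := rfl

end Groth.Agent.Lead.SymA
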