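import Mathlib
import Groth.Agent.Lib.Helper1.Segre
import Groth.Agent.Lib.Helper1.SecOps

set_option backward.isDefEq.respectTransparency.types false
set_option autoImplicit false
set_option synthInstance.maxHeartbeats 400000
set_option maxHeartbeats 1000000
set_option linter.style.haveILetI false
set_option linter.unusedSectionVars false
set_option linter.unusedVariables false

universe u

open CategoryTheory CategoryTheory.Limits AlgebraicGeometry TopologicalSpace Opposite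
  HomogeneousLocalization

namespace Groth.Agent.Lead.SymB

open Groth.Agent.Helper1.QcCech Groth.Agent.Helper1.SubSh Groth.Agent.Helper1.LGen
open Groth.Agent.Helper1 Groth.Agent.Helper1.AmpleLib
open Groth.Agent.Helper1.ProjUP5 Groth.Agent.Helper1.PullSec Groth.Agent.Helper1.PullGen
open Groth.Agent.Helper1.ProjUP7 Groth.Agent.Helper1.VA1 Groth.Agent.Helper1.TwForm
open Groth.Agent.Helper1.TmulLib Groth.Agent.Helper1.TensGen
open Groth.Agent.Helper1.Segre

section Gen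

variable {X : Scheme.{u}} {L : X.Modules}

theorem homOfSec_add (a b : Γ(L, ⊤)) :
    TwistAmple.homOfSec L (a + b) = TwistAmple.homOfSec L a + TwistAmple.homOfSec L b := by
  apply Scheme.Modules.hom_ext
  intro W
  ext r
  change (TwistAmple.homOfSec L (a + b)).app W r =
    (TwistAmple.homOfSec L a).app W r + (TwistAmple.homOfSec L b).app W r
  rw [TwistAmple.homOfSec_app, TwistAmple.homOfSec_app, TwistAmple.homOfSec_app, map_add, smul_add]

theorem homOfSec_zero : TwistAmple.homOfSec L (0 : Γ(L, ⊤)) = 0 := by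
  apply Scheme.Modules.hom_ext
  intro W
  ext r
  change (TwistAmple.homOfSec L 0).app W r = 0
  rw [TwistAmple.homOfSec_app, map_zero, smul_zero]

end Gen

variable (n : ℕ) (R : Type u) [CommRing R]

/-- the Segre sections on `P^n × P^1`, extended by zero -/
noncomputable def σ' (i l : ℕ) : Γ(G n 1 R, ⊤) :=
  if h : i < n + 1 then (if h' : l < 1 + 1 then σ n 1 R ⟨i, h⟩ ⟨l, h'⟩ else 0) else 0

theorem σ'_of_lt {i l : ℕ} (h : i < n + 1) (h' : l < 1 + 1) :
    σ' n R i l = σ n 1 R ⟨i, h⟩ ⟨l, h'⟩ := by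
  rw [σ', dif_pos h, dif_pos h']

theorem σ'_of_ge {i : ℕ} (l : ℕ) (h : n + 1 ≤ i) : σ' n R i l = 0 := by
  rw [σ', dif_neg (by omega)]

/-- the second summand -/
noncomputable def β (k : ℕ) : Γ(G n 1 R, ⊤) := if k = 0 then 0 else σ' n R (k - 1) 1

/-- the coefficients of the product of a form of degree `n` and a linear form -/
noncomputable def sN (k : ℕ) : Γ(G n 1 R, ⊤) := σ' n R k 0 + β n R k

noncomputable def s (k : Fin (n + 1 + 1)) : Γ(G n 1 R, ⊤) := sN n R k.val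

noncomputable abbrev gl (a : Γ(G n 1 R, ⊤)) : (X₀ n 1 R).Opens :=
  CohB1.genLocus (G n 1 R) (TwistAmple.homOfSec (G n 1 R) a)

theorem gl_zero : gl n R 0 = ⊥ := by
  rw [gl, homOfSec_zero]
  exact SecOps.genLocus_zero (isInvertible_G n 1 R)

theorem gl_σ' {i l : ℕ} (h : i < n + 1) (h' : l < 1 + 1) :
    gl n R (σ' n R i l) = (pa n 1 R) ⁻¹ᵁ Da n R ⟨i, h⟩ ⊓ (pb n 1 R) ⁻¹ᵁ Db 1 R ⟨l, h'⟩ := by
  rw [gl, σ'_of_lt n R h h', genLocus_σ]

theorem gl_σ'_le_b (i : ℕ) {l : ℕ} (h' : l < 1 + 1) :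
    gl n R (σ' n R i l) ≤ (pb n 1 R) ⁻¹ᵁ Db 1 R ⟨l, h'⟩ := by
  by_cases h : i < n + 1
  · rw [gl_σ' n R h h']; exact inf_le_right
  · rw [σ'_of_ge n R l (by omega), gl_zero]; exact bot_le

theorem isAffineOpen_gl_σ' (i l : ℕ) : IsAffineOpen (gl n R (σ' n R i l)) := by
  by_cases h : i < n + 1
  · by_cases h' : l < 1 + 1
    · rw [gl_σ' n R h h']
      exact isAffineOpen_chart _ _ _
        (Proj.isAffineOpen_basicOpen _ _ (ProjUP8.htX n R ⟨i, h⟩) one_pos) _
        (Proj.isAffineOpen_basicOpen _ _ (ProjUP8.htX 1 R ⟨l, h'⟩) one_pos)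
    · rw [σ', dif_pos h, dif_neg h', gl_zero]
      exact isAffineOpen_bot _
  · rw [σ'_of_ge n R l (by omega), gl_zero]
    exact isAffineOpen_bot _

theorem isAffineOpen_gl_β (k : ℕ) : IsAffineOpen (gl n R (β n R k)) := by
  rw [β]
  split_ifs
  · rw [gl_zero]; exact isAffineOpen_bot _
  · exact isAffineOpen_gl_σ' n R _ _

theorem isAffineOpen_gl_sN (k : ℕ) : IsAffineOpen (gl n R (sN n R k)) := by
  rw [gl, sN, homOfSec_add]
  exact SecOps.isAffineOpen_genLocus_add (isInvertible_G n 1 R) _ _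
    (isAffineOpen_gl_σ' n R k 0) (isAffineOpen_gl_β n R k)

theorem mem_gl_add_left (a b : Γ(G n 1 R, ⊤)) (x : X₀ n 1 R) (h1 : x ∈ gl n R a)
    (h2 : x ∉ gl n R b) : x ∈ gl n R (a + b) := by
  rw [gl, homOfSec_add]
  exact SecOps.mem_genLocus_add (isInvertible_G n 1 R) _ _ x h1 h2

theorem mem_gl_add_right (a b : Γ(G n 1 R, ⊤)) (x : X₀ n 1 R) (h1 : x ∉ gl n R a)
    (h2 : x ∈ gl n R b) : x ∈ gl n R (a + b) := by
  rw [add_comm]
  exact mem_gl_add_left n R b a x h2 h1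

/-- the coefficient sections have no common zero -/
theorem hcov_s (x : X₀ n 1 R) : ∃ k : Fin (n + 1 + 1), x ∈ gl n R (s n R k) := by
  classical
  have hA : ∃ i : ℕ, ∃ h : i < n + 1, x ∈ (pa n 1 R) ⁻¹ᵁ Da n R ⟨i, h⟩ := by
    obtain ⟨k, hk⟩ := ProjUP8.hcov n R (pa n 1 R x)
    exact ⟨k.val, k.isLt, hk⟩
  by_cases hb0 : x ∈ (pb n 1 R) ⁻¹ᵁ Db 1 R ⟨0, by omega⟩
  · -- the lowest nonvanishing coefficient of the form
    let i := Nat.find hA
    obtain ⟨hi, hxi⟩ := Nat.find_spec hA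
    refine ⟨⟨i, by omega⟩, ?_⟩
    change x ∈ gl n R (sN n R i)
    rw [sN]
    apply mem_gl_add_left
    · rw [gl_σ' n R hi (by omega)]
      exact ⟨hxi, hb0⟩
    · rw [β]
      split_ifs with h0
      · rw [gl_zero]; exact fun h => h
      · intro hx
        have hlt : i - 1 < n + 1 := by omega
        rw [gl_σ' n R hlt (by omega)] at hx
        exact Nat.find_min hA (show i - 1 < i by omega) ⟨hlt, hx.1⟩
  · have hb1 : x ∈ (pb n 1 R) ⁻¹ᵁ Db 1 R ⟨1, by omega⟩ := by
      obtain ⟨l, hl⟩ := ProjUP8.hcov 1 R (pb n 1 R x)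
      have : l = ⟨0, by omega⟩ ∨ l = ⟨1, by omega⟩ := by
        rcases l with ⟨l, hl'⟩
        have : l = 0 ∨ l = 1 := by omega
        rcases this with rfl | rfl
        · exact Or.inl rfl
        · exact Or.inr rfl
      rcases this with rfl | rfl
      · exact absurd hl hb0
      · exact hl
    obtain ⟨i, hi, hxi⟩ := hA
    refine ⟨⟨i + 1, by omega⟩, ?_⟩
    change x ∈ gl n R (sN n R (i + 1))
    rw [sN]
    apply mem_gl_add_right
    · intro hx
      exact hb0 (gl_σ'_le_b n R (i + 1) (by omega) hx)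
    · rw [β, if_neg (Nat.succ_ne_zero i), Nat.add_sub_cancel, gl_σ' n R hi (by omega)]
      exact ⟨hxi, hb1⟩

theorem generatedBy_s : ProjUP.GeneratedBy (G n 1 R) (s n R) :=
  generatedBy_of_cover (s n R) (hcov_s n R)

/-- **the multiplication morphism** `P^n × P^1 ⟶ P^{n+1}` with its properties -/
theorem exists_mul :
    ∃ (r : X₀ n 1 R ⟶ CohB1.ProjSpace (n + 1) R)
      (_ : r ≫ CohB1.ProjSpace.toSpec (n + 1) R = q₀ n 1 R)
      (τ : (Scheme.Modules.pullback r).obj (O1 (CohB1.polyGrading (n + 1) R)) ≅ G n 1 R),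
      (∀ k, τ.hom.app ⊤ (pt (CohB1.polyGrading (n + 1) R) (ProjUP8.tX (n + 1) R)
        (ProjUP8.htX (n + 1) R) r k) = s n R k) ∧ IsFinite r := by
  obtain ⟨r, hr, τ, hτ⟩ := Groth.Agent.S3572.result (R := R) (n + 1) (q₀ n 1 R) (G n 1 R)
    (isInvertible_G n 1 R) (s n R) (generatedBy_s n R)
  have hτ' : ∀ k, τ.hom.app ⊤ (pt (CohB1.polyGrading (n + 1) R) (ProjUP8.tX (n + 1) R)
      (ProjUP8.htX (n + 1) R) r k) = s n R k := hτ
  refine ⟨r, hr, τ, hτ', ?_⟩
  have hpre : ∀ k, r ⁻¹ᵁ D (CohB1.polyGrading (n + 1) R) (ProjUP8.tX (n + 1) R) k =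
      gl n R (s n R k) :=
    preimage_D (CohB1.polyGrading (n + 1) R) (ProjUP8.tX (n + 1) R) (ProjUP8.htX (n + 1) R)
      (ProjUP8.hcov (n + 1) R) r τ (s n R) hτ'
  have haff : IsAffineHom r := by
    apply isAffineHom_of_forall_exists_isAffineOpen
    intro y
    obtain ⟨k, hk⟩ := ProjUP8.hcov (n + 1) R y
    refine ⟨_, hk, Proj.isAffineOpen_basicOpen _ _ (ProjUP8.htX (n + 1) R k) one_pos, ?_⟩
    rw [hpre]
    exact isAffineOpen_gl_sN n R k.val
  haveI : IsProper (CohB1.ProjSpace.toSpec n R) := VA5.isProper_toSpec n R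
  haveI : IsProper (CohB1.ProjSpace.toSpec 1 R) := VA5.isProper_toSpec 1 R
  haveI : IsSeparated (CohB1.ProjSpace.toSpec (n + 1) R) := VA5.isSeparated_toSpec (n + 1) R
  haveI : IsProper (q₀ n 1 R) := by
    unfold q₀ pa
    infer_instance
  haveI : IsProper (r ≫ CohB1.ProjSpace.toSpec (n + 1) R) := by rw [hr]; infer_instance
  haveI : IsProper r := IsProper.of_comp r (CohB1.ProjSpace.toSpec (n + 1) R)
  exact IsFinite.iff_isProper_and_isAffineHom.mpr ⟨inferInstance, haff⟩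

end Groth.Agent.Lead.SymB
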