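import Mathlib
import Groth.Agent.Lib.Helper1.Segre

set_option backward.isDefEq.respectTransparency.types false
set_option autoImplicit false
set_option synthInstance.maxHeartbeats 400000
set_option maxHeartbeats 1000000
set_option linter.style.haveILetI false
set_option linter.unusedSectionVars false
set_option linter.unusedVariables false

universe u

open CategoryTheory CategoryTheory.Limits AlgebraicGeometry TopologicalSpace Opposite
  HomogeneousLocalization

namespace Groth.Agent.Lead.SymC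

open Groth.Agent.Helper1

section AwayPoint

variable {A S : Type u} [CommRing A] [CommRing S] [Algebra A S] (𝒮 : ℕ → Submodule A S)
  [GradedAlgebra 𝒮] {C : Type u} [CommRing C]

/-- the `C`-point of `Proj` attached to a ring map out of a chart ring -/
noncomputable def ptMap {f : S} {d : ℕ} (hf : f ∈ 𝒮 d) (hd : 0 < d) (α : Away 𝒮 f →+* C) :
    Spec (CommRingCat.of C) ⟶ Proj 𝒮 :=
  Spec.map (CommRingCat.ofHom α) ≫ Proj.awayι 𝒮 f hf hd

theorem ptMap_toSpecZero {f : S} {d : ℕ} (hf : f ∈ 𝒮 d) (hd : 0 < d) (α : Away 𝒮 f →+* C) :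
    ptMap 𝒮 hf hd α ≫ Proj.toSpecZero 𝒮 =
      Spec.map (CommRingCat.ofHom (α.comp (fromZeroRingHom 𝒮 _))) := by
  unfold ptMap
  rw [Category.assoc, Proj.awayι_toSpecZero, ← Spec.map_comp]
  rfl

theorem ptMap_appLE {f : S} {d : ℕ} (hf : f ∈ 𝒮 d) (hd : 0 < d) (α : Away 𝒮 f →+* C) :
    ∃ hle : (⊤ : (Spec (CommRingCat.of C)).Opens) ≤ (ptMap 𝒮 hf hd α) ⁻¹ᵁ Proj.basicOpen 𝒮 f,
      ∀ z : Away 𝒮 f, ((ptMap 𝒮 hf hd α).appLE (Proj.basicOpen 𝒮 f) ⊤ hle).hom
        ((Proj.awayToSection 𝒮 f).hom z) =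
          (Scheme.ΓSpecIso (CommRingCat.of C)).inv.hom (α z) := by
  have hr : (⊤ : (Spec (CommRingCat.of C)).Opens).ι ≫ ptMap 𝒮 hf hd α =
      ProjUP2.locMap 𝒮 ⊤ hf hd ((Scheme.ΓSpecIso (CommRingCat.of C)).inv.hom.comp α) := by
    unfold ProjUP2.locMap ptMap
    rw [Scheme.Opens.toSpecΓ_top, Category.assoc]
    congr 1
    have e : CommRingCat.ofHom ((Scheme.ΓSpecIso (CommRingCat.of C)).inv.hom.comp α) =
        CommRingCat.ofHom α ≫ (Scheme.ΓSpecIso (CommRingCat.of C)).inv := rfl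
    rw [e, Spec.map_comp, Category.assoc, toSpecΓ_SpecMap_ΓSpecIso_inv_assoc]
  obtain ⟨hle, h⟩ := ProjUP2.awayToSection_appLE 𝒮 ⊤ hf hd _ (ptMap 𝒮 hf hd α) hr
  refine ⟨hle, fun z => ?_⟩
  exact congrArg (fun φ => φ.hom z) h

end AwayPoint

section RingLevel

/-- an injective integral ring map is surjective on spectra -/
theorem surjective_SpecMap_of_injective_isIntegral {A C : Type u} [CommRing A] [CommRing C]
    (φ : A →+* C) (hinj : Function.Injective φ) (hint : φ.IsIntegral) :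
    Surjective (Spec.map (CommRingCat.ofHom φ)) := by
  constructor
  intro p
  algebraize [φ]
  haveI : Algebra.IsIntegral A C := ⟨hint⟩
  have hker : (⊥ : Ideal C).comap (algebraMap A C) ≤ p.asIdeal := by
    intro x hx
    have : algebraMap A C x = 0 := hx
    have hx0 : x = 0 := hinj (this.trans (map_zero φ).symm)
    rw [hx0]; exact zero_mem _
  obtain ⟨Q, -, hQ, hQp⟩ := Ideal.exists_ideal_over_prime_of_isIntegral p.asIdeal ⊥ hker
  refine ⟨⟨Q, hQ⟩, ?_⟩
  apply PrimeSpectrum.ext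
  exact hQp

end RingLevel

section Range

/-- a morphism from an affine scheme whose comorphism on an affine open is surjective on spectra
covers that open -/
theorem subset_range_of_surjective {T Y : Scheme.{u}} [IsAffine T] (g : T ⟶ Y) (V : Y.Opens)
    (hV : IsAffineOpen V) (hle : (⊤ : T.Opens) ≤ g ⁻¹ᵁ V)
    (hs : Surjective (Spec.map (g.appLE V ⊤ hle))) : (V : Set Y) ⊆ Set.range g := by
  intro y hy
  have h1 := hV.SpecMap_appLE_fromSpec g (isAffineOpen_top T) hle
  have hy' : y ∈ Set.range hV.fromSpec := by rw [hV.range_fromSpec]; exact hy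
  obtain ⟨y', rfl⟩ := hy'
  obtain ⟨z, rfl⟩ := hs.surj y'
  refine ⟨(isAffineOpen_top T).fromSpec z, ?_⟩
  rw [← Scheme.Hom.comp_apply, ← h1, Scheme.Hom.comp_apply]

end Range

section Dense

variable {A S : Type u} [CommRing A] [CommRing S] [Algebra A S] (𝒮 : ℕ → Submodule A S)
  [GradedAlgebra 𝒮] [IsDomain S]

/-- in `Proj` of a graded domain, a nonempty basic open is dense -/
theorem closure_basicOpen_eq_univ {f : S} {d : ℕ} (hf : f ∈ 𝒮 d) (hd : 0 < d) (hf0 : f ≠ 0) :
    closure ((Proj.basicOpen 𝒮 f : (Proj 𝒮).Opens) : Set (Proj 𝒮)) = Set.univ := by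
  let η₀ : ProjectiveSpectrum 𝒮 :=
    { asHomogeneousIdeal := ⊥
      isPrime := by
        rw [HomogeneousIdeal.toIdeal_bot]
        exact Ideal.isPrime_bot
      not_irrelevant_le := by
        intro hle
        have h1 : f ∈ HomogeneousIdeal.irrelevant 𝒮 :=
          HomogeneousIdeal.mem_irrelevant_of_mem 𝒮 hd hf
        have h2 : f ∈ (⊥ : HomogeneousIdeal 𝒮) := hle h1
        have h3 : f ∈ (⊥ : Ideal S) := h2
        exact hf0 h3 }
  let η : Proj 𝒮 := η₀
  have hη : η ∈ Proj.basicOpen 𝒮 f := by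
    rw [Proj.mem_basicOpen]
    intro h
    have h3 : f ∈ (⊥ : Ideal S) := h
    exact hf0 h3
  rw [Set.eq_univ_iff_forall]
  intro y
  let y₀ : ProjectiveSpectrum 𝒮 := y
  have hle : η₀ ≤ y₀ := (bot_le : (⊥ : HomogeneousIdeal 𝒮) ≤ y₀.asHomogeneousIdeal)
  have h1 : y ∈ closure ({η} : Set (Proj 𝒮)) :=
    (ProjectiveSpectrum.le_iff_mem_closure (𝒜 := 𝒮) η₀ y₀).1 hle
  exact closure_mono (Set.singleton_subset_iff.2 hη) h1

end Dense

end Groth.Agent.Lead.SymC
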