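import Mathlib
import Groth.Agent.Lib.Lead.SymA
import Groth.Agent.Lib.Lead.SymB
import Groth.Agent.Lib.Lead.SymC1

set_option backward.isDefEq.respectTransparency.types false
set_option autoImplicit false
set_option synthInstance.maxHeartbeats 400000
set_option maxHeartbeats 1000000
set_option linter.style.haveILetI false
set_option linter.unusedSectionVars false
set_option linter.unusedVariables false

universe u

open CategoryTheory CategoryTheory.Limits AlgebraicGeometry TopologicalSpace Opposite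
  HomogeneousLocalization

namespace Groth.Agent.Lead.SymC

open Groth.Agent.Helper1.QcCech Groth.Agent.Helper1.SubSh Groth.Agent.Helper1.LGen
open Groth.Agent.Helper1 Groth.Agent.Helper1.AmpleLib
open Groth.Agent.Helper1.ProjUP5 Groth.Agent.Helper1.PullSec Groth.Agent.Helper1.PullGen
open Groth.Agent.Helper1.ProjUP7 Groth.Agent.Helper1.VA1 Groth.Agent.Helper1.TwForm
open Groth.Agent.Helper1.TmulLib Groth.Agent.Helper1.TensGen
open Groth.Agent.Helper1.Segre Groth.Agent.Lead.SymB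

section Point

variable (m : ℕ) (R : Type u) [CommRing R] {C : Type u} [CommRing C] [Algebra R C]
  (w : Fin (m + 1) → C) (hw0 : w 0 = 1)

/-- evaluation of polynomials at the coordinates `w` -/
noncomputable def FF : MvPolynomial (Fin (m + 1)) R →+* C :=
  MvPolynomial.eval₂Hom (algebraMap R C) w

theorem FF_X (k : Fin (m + 1)) : FF m R w (ProjUP8.tX m R k) = w k := by
  unfold FF ProjUP8.tX
  exact MvPolynomial.eval₂Hom_X' _ _ _

include hw0 in
theorem isUnit_FF : IsUnit (FF m R w (ProjUP8.tX m R 0)) := by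
  rw [FF_X, hw0]; exact isUnit_one

/-- the ring map out of the chart ring of `P^m` with `T_k / T_0 ↦ w k` -/
noncomputable def αα : Away (CohB1.polyGrading m R) (ProjUP8.tX m R 0) →+* C :=
  ProjUP1.awayLift (CohB1.polyGrading m R) (FF m R w) (ProjUP8.tX m R 0) (isUnit_FF m R w hw0)

theorem αα_ratio (k : Fin (m + 1)) :
    αα m R w hw0 (Away.mk (CohB1.polyGrading m R) (ProjUP8.htX m R 0) 1 (ProjUP8.tX m R k)
      (h11 (CohB1.polyGrading m R) (ProjUP8.tX m R) (ProjUP8.htX m R) k)) = w k := by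
  unfold αα
  rw [ProjUP1.awayLift_mk, FF_X]
  have hu : (((isUnit_FF m R w hw0).unit⁻¹ : Cˣ) : C) = 1 := by
    have h1 : FF m R w (ProjUP8.tX m R 0) * (((isUnit_FF m R w hw0).unit⁻¹ : Cˣ) : C) = 1 :=
      IsUnit.mul_val_inv _
    have h2 : FF m R w (ProjUP8.tX m R 0) = 1 := by rw [FF_X, hw0]
    have aux : ∀ a b : C, a = 1 → a * b = 1 → b = 1 := by
      intro a b ha hab
      rw [ha, one_mul] at hab
      exact hab
    exact aux _ _ h2 h1
  rw [hu, one_pow, mul_one]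

theorem αα_base (x : R) :
    αα m R w hw0 (fromZeroRingHom (CohB1.polyGrading m R) _
      (algebraMap R (CohB1.polyGrading m R 0) x)) = algebraMap R C x := by
  unfold αα
  rw [ProjUP1.awayLift_fromZero]
  change FF m R w (MvPolynomial.C x) = _
  unfold FF
  exact MvPolynomial.eval₂Hom_C _ _ _

/-- the `C`-point of `P^m` with coordinates `(1 : w 1 : ⋯ : w m)` -/
noncomputable def hh : Spec (CommRingCat.of C) ⟶ CohB1.ProjSpace m R :=
  ptMap (CohB1.polyGrading m R) (ProjUP8.htX m R 0) one_pos (αα m R w hw0)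

theorem hh_toSpec : hh m R w hw0 ≫ CohB1.ProjSpace.toSpec m R =
    Spec.map (CommRingCat.ofHom (algebraMap R C)) := by
  have h := ptMap_toSpecZero (CohB1.polyGrading m R) (ProjUP8.htX m R 0) one_pos (αα m R w hw0)
  change ptMap (CohB1.polyGrading m R) (ProjUP8.htX m R 0) one_pos (αα m R w hw0) ≫
    (Proj.toSpecZero (CohB1.polyGrading m R) ≫
      Spec.map (CommRingCat.ofHom (algebraMap R (CohB1.polyGrading m R 0)))) = _
  rw [← Category.assoc, h, ← Spec.map_comp]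
  congr 1
  ext x
  exact αα_base m R w hw0 x

theorem hh_appLE :
    ∃ hle : (⊤ : (Spec (CommRingCat.of C)).Opens) ≤ (hh m R w hw0) ⁻¹ᵁ
        D (CohB1.polyGrading m R) (ProjUP8.tX m R) 0,
      ∀ k : Fin (m + 1), ((hh m R w hw0).appLE (D (CohB1.polyGrading m R) (ProjUP8.tX m R) 0)
        ⊤ hle).hom (c (CohB1.polyGrading m R) (ProjUP8.tX m R) (ProjUP8.htX m R) 0 k) =
          (Scheme.ΓSpecIso (CommRingCat.of C)).inv.hom (w k) := by
  obtain ⟨hle, h⟩ := ptMap_appLE (CohB1.polyGrading m R) (ProjUP8.htX m R 0) one_pos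
    (αα m R w hw0)
  refine ⟨hle, fun k => ?_⟩
  have := h (Away.mk (CohB1.polyGrading m R) (ProjUP8.htX m R 0) 1 (ProjUP8.tX m R k)
      (h11 (CohB1.polyGrading m R) (ProjUP8.tX m R) (ProjUP8.htX m R) k))
  rw [αα_ratio] at this
  exact this

end Point

section Main

variable (n : ℕ) (R : Type u) [CommRing R] {C : Type u} [CommRing C] [Algebra R C]
  (v : ℕ → C) (t : C)

local notation "DD" => fun (m : ℕ) => D (CohB1.polyGrading m R) (ProjUP8.tX m R)
local notation "cR" => fun (m : ℕ) =>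
  c (CohB1.polyGrading m R) (ProjUP8.tX m R) (ProjUP8.htX m R)

/-- coordinates of the `P^n`-point -/
noncomputable def wP : Fin (n + 1) → C := fun k => v k.val

/-- coordinates of the `P^1`-point -/
noncomputable def wQ : Fin (1 + 1) → C := fun l => if l.val = 0 then 1 else t

theorem wP_zero (hv0 : v 0 = 1) : wP n v 0 = 1 := hv0

theorem wQ_zero : wQ t 0 = 1 := if_pos rfl

theorem wQ_one : wQ t 1 = t := if_neg (by decide)

/-- the `C`-point of `P^n × P^1` -/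
noncomputable def hX (hv0 : v 0 = 1) : Spec (CommRingCat.of C) ⟶ X₀ n 1 R :=
  pullback.lift (hh n R (wP n v) (wP_zero n v hv0)) (hh 1 R (wQ t) (wQ_zero t))
    (by rw [hh_toSpec, hh_toSpec])

theorem hX_pa (hv0 : v 0 = 1) : hX n R v t hv0 ≫ pa n 1 R = hh n R (wP n v) (wP_zero n v hv0) :=
  pullback.lift_fst _ _ _

theorem hX_pb (hv0 : v 0 = 1) : hX n R v t hv0 ≫ pb n 1 R = hh 1 R (wQ t) (wQ_zero t) :=
  pullback.lift_snd _ _ _

theorem top_le_hX (hv0 : v 0 = 1) (U : (X₀ n 1 R).Opens)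
    (hU : U = (pa n 1 R) ⁻¹ᵁ Da n R 0 ⊓ (pb n 1 R) ⁻¹ᵁ Db 1 R 0) :
    (⊤ : (Spec (CommRingCat.of C)).Opens) ≤ (hX n R v t hv0) ⁻¹ᵁ U := by
  obtain ⟨h1, -⟩ := hh_appLE n R (wP n v) (wP_zero n v hv0)
  obtain ⟨h2, -⟩ := hh_appLE 1 R (wQ t) (wQ_zero t)
  rw [hU]
  intro x _
  refine ⟨?_, ?_⟩
  · have := h1 (show x ∈ (⊤ : (Spec (CommRingCat.of C)).Opens) from trivial)
    rw [← hX_pa n R v t hv0] at this
    exact this
  · have := h2 (show x ∈ (⊤ : (Spec (CommRingCat.of C)).Opens) from trivial)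
    rw [← hX_pb n R v t hv0] at this
    exact this

theorem hX_appLE_pa (hv0 : v 0 = 1) (U : (X₀ n 1 R).Opens) (hUa : U ≤ (pa n 1 R) ⁻¹ᵁ Da n R 0)
    (hle : (⊤ : (Spec (CommRingCat.of C)).Opens) ≤ (hX n R v t hv0) ⁻¹ᵁ U) (k : Fin (n + 1)) :
    ((hX n R v t hv0).appLE U ⊤ hle).hom
      (((pa n 1 R).appLE (Da n R 0) U hUa).hom
        (c (CohB1.polyGrading n R) (ProjUP8.tX n R) (ProjUP8.htX n R) 0 k)) =
      (Scheme.ΓSpecIso (CommRingCat.of C)).inv.hom (v k.val) := by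
  obtain ⟨h1, h1'⟩ := hh_appLE n R (wP n v) (wP_zero n v hv0)
  have e1 := Scheme.Hom.appLE_comp_appLE (hX n R v t hv0) (pa n 1 R) (Da n R 0) U ⊤ hUa hle
  have e2 := PBaff.appLE_congr_hom (hX_pa n R v t hv0) (Da n R 0) ⊤
    (by rw [hX_pa]; exact h1)
  have e3 := congrArg (fun φ => φ.hom
    (c (CohB1.polyGrading n R) (ProjUP8.tX n R) (ProjUP8.htX n R) 0 k)) (e1.trans e2)
  exact e3.trans (h1' k)

theorem hX_appLE_pb (hv0 : v 0 = 1) (U : (X₀ n 1 R).Opens) (hUb : U ≤ (pb n 1 R) ⁻¹ᵁ Db 1 R 0)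
    (hle : (⊤ : (Spec (CommRingCat.of C)).Opens) ≤ (hX n R v t hv0) ⁻¹ᵁ U) (l : Fin (1 + 1)) :
    ((hX n R v t hv0).appLE U ⊤ hle).hom
      (((pb n 1 R).appLE (Db 1 R 0) U hUb).hom
        (c (CohB1.polyGrading 1 R) (ProjUP8.tX 1 R) (ProjUP8.htX 1 R) 0 l)) =
      (Scheme.ΓSpecIso (CommRingCat.of C)).inv.hom (wQ t l) := by
  obtain ⟨h1, h1'⟩ := hh_appLE 1 R (wQ t) (wQ_zero t)
  have e1 := Scheme.Hom.appLE_comp_appLE (hX n R v t hv0) (pb n 1 R) (Db 1 R 0) U ⊤ hUb hle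
  have e2 := PBaff.appLE_congr_hom (hX_pb n R v t hv0) (Db 1 R 0) ⊤
    (by rw [hX_pb]; exact h1)
  have e3 := congrArg (fun φ => φ.hom
    (c (CohB1.polyGrading 1 R) (ProjUP8.tX 1 R) (ProjUP8.htX 1 R) 0 l)) (e1.trans e2)
  exact e3.trans (h1' l)

end Main

section Chart

variable (n : ℕ) (R : Type u) [CommRing R]
  (r : X₀ n 1 R ⟶ CohB1.ProjSpace (n + 1) R)
  (τ : (Scheme.Modules.pullback r).obj (O1 (CohB1.polyGrading (n + 1) R)) ≅ G n 1 R)
  (hτ : ∀ k, τ.hom.app ⊤ (pt (CohB1.polyGrading (n + 1) R) (ProjUP8.tX (n + 1) R)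
        (ProjUP8.htX (n + 1) R) r k) = s n R k)

/-- the basic section on the main chart -/
noncomputable abbrev σ00 : Γ(G n 1 R, ⊤) := σ n 1 R 0 0

theorem s_zero : s n R 0 = σ00 n R := by
  change sN n R 0 = _
  rw [sN, β, if_pos rfl, add_zero, σ'_of_lt n R (Nat.succ_pos n) (by omega)]
  rfl

theorem s_succ (k' : ℕ) (hk' : k' + 1 < n + 1 + 1) :
    s n R ⟨k' + 1, hk'⟩ = σ' n R (k' + 1) 0 + σ' n R k' 1 := by
  change sN n R (k' + 1) = _
  rw [sN, β, if_neg (Nat.succ_ne_zero k'), Nat.add_sub_cancel]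

variable (U : (X₀ n 1 R).Opens) (hUa : U ≤ (pa n 1 R) ⁻¹ᵁ Da n R 0)
  (hUb : U ≤ (pb n 1 R) ⁻¹ᵁ Db 1 R 0)

/-- the coefficient functions on the chart -/
noncomputable def AA (i : ℕ) : Γ(X₀ n 1 R, U) :=
  if h : i < n + 1 then ((pa n 1 R).appLE (Da n R 0) U hUa).hom
    (c (CohB1.polyGrading n R) (ProjUP8.tX n R) (ProjUP8.htX n R) 0 ⟨i, h⟩) else 0

noncomputable def Bt : Γ(X₀ n 1 R, U) :=
  ((pb n 1 R).appLE (Db 1 R 0) U hUb).hom
    (c (CohB1.polyGrading 1 R) (ProjUP8.tX 1 R) (ProjUP8.htX 1 R) 0 1)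

theorem res_σ'_zero (i : ℕ) : res (G n 1 R) (le_top : U ≤ ⊤) (σ' n R i 0) =
    AA n R U hUa i • res (G n 1 R) (le_top : U ≤ ⊤) (σ00 n R) := by
  by_cases h : i < n + 1
  · rw [σ'_of_lt n R h (by omega : 0 < 1 + 1), AA, dif_pos h]
    exact res_σ_left n 1 R 0 ⟨i, h⟩ ⟨0, by omega⟩ U hUa
  · rw [σ'_of_ge n R 0 (by omega), AA, dif_neg h, map_zero, zero_smul]

theorem res_σ'_one (i : ℕ) : res (G n 1 R) (le_top : U ≤ ⊤) (σ' n R i 1) =
    (AA n R U hUa i * Bt n R U hUb) • res (G n 1 R) (le_top : U ≤ ⊤) (σ00 n R) := by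
  by_cases h : i < n + 1
  · rw [σ'_of_lt n R h (by omega : 1 < 1 + 1), AA, dif_pos h, mul_smul]
    rw [res_σ_left n 1 R 0 ⟨i, h⟩ ⟨1, by omega⟩ U hUa]
    congr 1
    exact res_σ_right n 1 R 0 0 ⟨1, by omega⟩ U hUb
  · rw [σ'_of_ge n R 1 (by omega), AA, dif_neg h, map_zero, zero_mul, zero_smul]

include hτ in
theorem key1 (hUV : U ≤ r ⁻¹ᵁ D (CohB1.polyGrading (n + 1) R) (ProjUP8.tX (n + 1) R) 0)
    (k' : ℕ) (hk' : k' + 1 < n + 1 + 1) :
    (r.appLE (D (CohB1.polyGrading (n + 1) R) (ProjUP8.tX (n + 1) R) 0) U hUV).hom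
      (c (CohB1.polyGrading (n + 1) R) (ProjUP8.tX (n + 1) R) (ProjUP8.htX (n + 1) R) 0
        ⟨k' + 1, hk'⟩) = AA n R U hUa (k' + 1) + AA n R U hUa k' * Bt n R U hUb := by
  symm
  apply coeff_eq (CohB1.polyGrading (n + 1) R) (ProjUP8.tX (n + 1) R) (ProjUP8.htX (n + 1) R)
    r τ (s n R) hτ 0 ⟨k' + 1, hk'⟩ U hUV
  rw [s_zero, s_succ, map_add, res_σ'_zero n R U hUa, res_σ'_one n R U hUa hUb, add_smul]

end Chart

section Final

variable (n : ℕ) (R : Type u) [CommRing R]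

local notation "𝒮Y" => CohB1.polyGrading (n + 1) R
local notation "tY" => ProjUP8.tX (n + 1) R
local notation "htY" => ProjUP8.htX (n + 1) R

/-- the dehomogenisation map -/
noncomputable def εε : SymA.B R n →+* Away 𝒮Y (tY 0) :=
  MvPolynomial.eval₂Hom ((fromZeroRingHom 𝒮Y _).comp (algebraMap R (𝒮Y 0)))
    (fun j : Fin (n + 1) => Away.mk 𝒮Y (htY 0) 1 (tY j.succ) (h11 𝒮Y tY htY j.succ))

theorem εε_C (x : R) : εε n R (MvPolynomial.C x) =
    fromZeroRingHom 𝒮Y _ (algebraMap R (𝒮Y 0) x) :=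
  MvPolynomial.eval₂Hom_C _ _ _

theorem εε_X (j : Fin (n + 1)) : εε n R (MvPolynomial.X j) =
    Away.mk 𝒮Y (htY 0) 1 (tY j.succ) (h11 𝒮Y tY htY j.succ) :=
  MvPolynomial.eval₂Hom_X' _ _ _

theorem εε_surjective : Function.Surjective (εε n R) := by
  have hT : (εε n R).range = ⊤ := by
    apply ProjVA1.away_subring_eq_top 𝒮Y 1 (Set.range tY) (MvPolynomial.adjoin_range_X) (htY 0)
    · intro x
      exact ⟨MvPolynomial.C x, εε_C n R x⟩
    · rintro b ⟨k, rfl⟩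
      have hb' : tY k * tY 0 ^ (1 - 1) ∈ 𝒮Y (1 • 1) := by simpa using htY k
      refine ⟨1, le_rfl, htY k, hb', ?_⟩
      rw [mk_mul_pow_zero (n + 1) R hb']
      refine Fin.cases ?_ (fun j => ?_) k
      · refine ⟨1, ?_⟩
        rw [map_one]
        symm
        apply HomogeneousLocalization.val_injective
        rw [Away.val_mk, HomogeneousLocalization.val_one]
        simp
      · exact ⟨MvPolynomial.X j, εε_X n R j⟩
  intro z
  have : z ∈ (εε n R).range := hT ▸ Subring.mem_top z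
  exact this

/-- ring-level core: a ring map out of the chart ring with the prescribed values on the ratios
and on the base is surjective on spectra -/
theorem surjective_SpecMap_of_values [IsDomain R] {K : CommRingCat.{u}}
    (a : CommRingCat.of (Away 𝒮Y (tY 0)) ⟶ K) (ha : IsIso a)
    (ψ : K ⟶ CommRingCat.of (SymA.CC R n))
    (hA : ∀ j : Fin (n + 1),
      ψ.hom (a.hom (Away.mk 𝒮Y (htY 0) 1 (tY j.succ) (h11 𝒮Y tY htY j.succ))) =
        SymA.Ψ R n (MvPolynomial.X j))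
    (hB : ∀ x : R, ψ.hom (a.hom (fromZeroRingHom 𝒮Y _ (algebraMap R (𝒮Y 0) x))) =
      algebraMap R (SymA.CC R n) x) :
    Surjective (Spec.map ψ) := by
  let φ' : Away 𝒮Y (tY 0) →+* SymA.CC R n := (a ≫ ψ).hom
  have hcomp : φ'.comp (εε n R) = SymA.Ψ R n := by
    apply MvPolynomial.ringHom_ext
    · intro x
      rw [RingHom.comp_apply, εε_C]
      exact hB x
    · intro j
      rw [RingHom.comp_apply, εε_X]
      exact hA j
  have hinj : Function.Injective φ' := by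
    rw [injective_iff_map_eq_zero]
    intro z hz
    obtain ⟨b, rfl⟩ := εε_surjective n R z
    have h1 : SymA.Ψ R n b = 0 := by rw [← hcomp]; exact hz
    have hb : b = 0 := SymA.Ψ_injective R n (h1.trans (map_zero _).symm)
    rw [hb, map_zero]
  have hint : φ'.IsIntegral :=
    RingHom.IsIntegral.tower_top (εε n R) φ' (by rw [hcomp]; exact SymA.Ψ_isIntegral R n)
  have hs1 : Surjective (Spec.map (CommRingCat.ofHom φ')) :=
    surjective_SpecMap_of_injective_isIntegral φ' hinj hint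
  have hdec : CommRingCat.ofHom φ' = a ≫ ψ := rfl
  rw [hdec, Spec.map_comp] at hs1
  haveI := hs1
  have e : Spec.map ψ = (Spec.map ψ ≫ Spec.map a) ≫ inv (Spec.map a) := by
    rw [Category.assoc, IsIso.hom_inv_id, Category.comp_id]
  rw [e]
  infer_instance

end Final

section Geom

variable (n : ℕ) (R : Type u) [CommRing R]
  (r : X₀ n 1 R ⟶ CohB1.ProjSpace (n + 1) R)
  (hr : r ≫ CohB1.ProjSpace.toSpec (n + 1) R = q₀ n 1 R)
  (τ : (Scheme.Modules.pullback r).obj (O1 (CohB1.polyGrading (n + 1) R)) ≅ G n 1 R)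
  (hτ : ∀ k, τ.hom.app ⊤ (pt (CohB1.polyGrading (n + 1) R) (ProjUP8.tX (n + 1) R)
        (ProjUP8.htX (n + 1) R) r k) = s n R k)
  {C : Type u} [CommRing C] [Algebra R C] (v : ℕ → C) (t : C) (hv0 : v 0 = 1)

local notation "𝒮Y" => CohB1.polyGrading (n + 1) R
local notation "tY" => ProjUP8.tX (n + 1) R
local notation "htY" => ProjUP8.htX (n + 1) R

/-- the main chart of `P^{n+1}` -/
noncomputable abbrev VV : (CohB1.ProjSpace (n + 1) R).Opens := D 𝒮Y tY 0

/-- the main chart of `P^n × P^1` -/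
noncomputable abbrev UU : (X₀ n 1 R).Opens :=
  (pa n 1 R) ⁻¹ᵁ Da n R 0 ⊓ (pb n 1 R) ⁻¹ᵁ Db 1 R 0

include hτ in
theorem hpre : r ⁻¹ᵁ VV n R = UU n R := by
  have hp : r ⁻¹ᵁ VV n R =
      CohB1.genLocus (G n 1 R) (TwistAmple.homOfSec (G n 1 R) (s n R 0)) :=
    preimage_D 𝒮Y tY htY (ProjUP8.hcov (n + 1) R) r τ (s n R) hτ 0
  rw [hp, s_zero]
  exact genLocus_σ n 1 R 0 0

include hτ in
theorem hleg : (⊤ : (Spec (CommRingCat.of C)).Opens) ≤ (hX n R v t hv0 ≫ r) ⁻¹ᵁ VV n R := by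
  have hle := top_le_hX n R v t hv0 (UU n R) rfl
  have hUV : UU n R ≤ r ⁻¹ᵁ VV n R := (hpre n R r τ hτ).ge
  exact fun x hx => hUV (hle hx)

theorem hι (x : C) : (Scheme.ΓSpecIso (CommRingCat.of C)).hom.hom
    ((Scheme.ΓSpecIso (CommRingCat.of C)).inv.hom x) = x := by
  rw [← CommRingCat.comp_apply, Iso.inv_hom_id]; rfl

include hτ in
theorem valA (j : Fin (n + 1)) :
    (Scheme.ΓSpecIso (CommRingCat.of C)).hom.hom
      (((hX n R v t hv0 ≫ r).appLE (VV n R) ⊤ (hleg n R r τ hτ v t hv0)).hom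
        (c 𝒮Y tY htY 0 j.succ)) =
      (if j.val + 1 < n + 1 then v (j.val + 1) else 0) + v j.val * t := by
  have hle := top_le_hX n R v t hv0 (UU n R) rfl
  have hUV : UU n R ≤ r ⁻¹ᵁ VV n R := (hpre n R r τ hτ).ge
  have hUa : UU n R ≤ (pa n 1 R) ⁻¹ᵁ Da n R 0 := inf_le_left
  have hUb : UU n R ≤ (pb n 1 R) ⁻¹ᵁ Db 1 R 0 := inf_le_right
  have ecomp := Scheme.Hom.appLE_comp_appLE (hX n R v t hv0) r (VV n R) (UU n R) ⊤ hUV hle
  have hj : j.val + 1 < n + 1 + 1 := by omega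
  have e1 : ((hX n R v t hv0 ≫ r).appLE (VV n R) ⊤ (hleg n R r τ hτ v t hv0)).hom
      (c 𝒮Y tY htY 0 ⟨j.val + 1, hj⟩) =
      ((hX n R v t hv0).appLE (UU n R) ⊤ hle).hom ((r.appLE (VV n R) (UU n R) hUV).hom
        (c 𝒮Y tY htY 0 ⟨j.val + 1, hj⟩)) :=
    (congrArg (fun φ => φ.hom (c 𝒮Y tY htY 0 ⟨j.val + 1, hj⟩)) ecomp).symm
  change (Scheme.ΓSpecIso (CommRingCat.of C)).hom.hom
    (((hX n R v t hv0 ≫ r).appLE (VV n R) ⊤ (hleg n R r τ hτ v t hv0)).hom
      (c 𝒮Y tY htY 0 ⟨j.val + 1, hj⟩)) = _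
  rw [e1, key1 n R r τ hτ (UU n R) hUa hUb hUV j.val hj, map_add, map_mul]
  have hAj : ((hX n R v t hv0).appLE (UU n R) ⊤ hle).hom (AA n R (UU n R) hUa j.val) =
      (Scheme.ΓSpecIso (CommRingCat.of C)).inv.hom (v j.val) := by
    rw [AA, dif_pos j.isLt]
    exact hX_appLE_pa n R v t hv0 (UU n R) hUa hle ⟨j.val, j.isLt⟩
  have hBt : ((hX n R v t hv0).appLE (UU n R) ⊤ hle).hom (Bt n R (UU n R) hUb) =
      (Scheme.ΓSpecIso (CommRingCat.of C)).inv.hom t := by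
    have := hX_appLE_pb n R v t hv0 (UU n R) hUb hle 1
    rw [wQ_one] at this
    exact this
  rw [hAj, hBt]
  by_cases hjn : j.val + 1 < n + 1
  · have hAj1 : ((hX n R v t hv0).appLE (UU n R) ⊤ hle).hom
        (AA n R (UU n R) hUa (j.val + 1)) =
        (Scheme.ΓSpecIso (CommRingCat.of C)).inv.hom (v (j.val + 1)) := by
      rw [AA, dif_pos hjn]
      exact hX_appLE_pa n R v t hv0 (UU n R) hUa hle ⟨j.val + 1, hjn⟩
    rw [hAj1, ← map_mul, ← map_add, hι, if_pos hjn]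
  · have hAj1 : ((hX n R v t hv0).appLE (UU n R) ⊤ hle).hom
        (AA n R (UU n R) hUa (j.val + 1)) = 0 := by
      rw [AA, dif_neg hjn, map_zero]
    rw [hAj1, zero_add, ← map_mul, hι, if_neg hjn, zero_add]

theorem appLE_top_top (f : Spec (CommRingCat.of C) ⟶ Spec (CommRingCat.of R))
    (e : (⊤ : (Spec (CommRingCat.of C)).Opens) ≤ f ⁻¹ᵁ ⊤) : f.appLE ⊤ ⊤ e = f.appTop := by
  simp [Scheme.Hom.appLE]

theorem SpecMap_appTop_inv (x : R) :
    (Scheme.ΓSpecIso (CommRingCat.of C)).hom.hom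
      ((Spec.map (CommRingCat.ofHom (algebraMap R C))).appTop.hom
        ((Scheme.ΓSpecIso (CommRingCat.of R)).inv.hom x)) = algebraMap R C x := by
  have e7 := Scheme.ΓSpecIso_inv_naturality (CommRingCat.ofHom (algebraMap R C))
  have e8 := congrArg (fun φ => φ.hom x) e7
  refine (congrArg _ e8.symm).trans ?_
  exact hι _

include hr in
theorem hgq : (hX n R v t hv0 ≫ r) ≫ ProjVA2.q 𝒮Y =
    Spec.map (CommRingCat.ofHom (algebraMap R C)) := by
  change (hX n R v t hv0 ≫ r) ≫ CohB1.ProjSpace.toSpec (n + 1) R = _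
  rw [Category.assoc, hr]
  change hX n R v t hv0 ≫ pa n 1 R ≫ CohB1.ProjSpace.toSpec n R = _
  rw [← Category.assoc, hX_pa, hh_toSpec]

theorem q_appLE' (x : R) :
    ((ProjVA2.q 𝒮Y).appLE ⊤ (VV n R) le_top).hom
        ((Scheme.ΓSpecIso (CommRingCat.of R)).inv.hom x) =
      (Proj.awayToSection 𝒮Y (tY 0)).hom (fromZeroRingHom 𝒮Y _ (algebraMap R (𝒮Y 0) x)) := by
  have q1 := ProjVA2.q_appLE 𝒮Y (htY 0) one_pos le_top
    ((Scheme.ΓSpecIso (CommRingCat.of R)).inv.hom x)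
  have q2 : (Scheme.ΓSpecIso (CommRingCat.of R)).hom.hom
      ((Scheme.ΓSpecIso (CommRingCat.of R)).inv.hom x) = x := by
    rw [← CommRingCat.comp_apply, Iso.inv_hom_id]; rfl
  rw [q2] at q1
  exact q1

include hr hτ in
theorem valB (x : R) :
    (Scheme.ΓSpecIso (CommRingCat.of C)).hom.hom
      (((hX n R v t hv0 ≫ r).appLE (VV n R) ⊤ (hleg n R r τ hτ v t hv0)).hom
        ((Proj.awayToSection 𝒮Y (tY 0)).hom
          (fromZeroRingHom 𝒮Y _ (algebraMap R (𝒮Y 0) x)))) = algebraMap R C x := by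
  rw [← q_appLE' n R x]
  have e2 := Scheme.Hom.appLE_comp_appLE (hX n R v t hv0 ≫ r) (ProjVA2.q 𝒮Y) ⊤ (VV n R) ⊤ le_top
    (hleg n R r τ hτ v t hv0)
  have e3 := congrArg (fun φ => φ.hom ((Scheme.ΓSpecIso (CommRingCat.of R)).inv.hom x)) e2
  refine (congrArg _ e3).trans ?_
  have e4 := PBaff.appLE_congr_hom (hgq n R r hr v t hv0) ⊤ ⊤ le_top
  have e6 := congrArg (fun φ => φ.hom ((Scheme.ΓSpecIso (CommRingCat.of R)).inv.hom x))
    (e4.trans (appLE_top_top R _ _))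
  refine (congrArg _ e6).trans ?_
  exact SpecMap_appTop_inv R x

end Geom

section Conclude

variable (n : ℕ) (R : Type u) [CommRing R]

local notation "𝒮Y" => CohB1.polyGrading (n + 1) R
local notation "tY" => ProjUP8.tX (n + 1) R
local notation "htY" => ProjUP8.htX (n + 1) R

theorem relA (j : Fin (n + 1)) :
    (if j.val + 1 < n + 1 then SymA.v R n (j.val + 1) else 0) + SymA.v R n j.val * SymA.t R n =
      SymA.Ψ R n (MvPolynomial.X j) := by
  by_cases hjn : j.val + 1 < n + 1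
  · rw [if_pos hjn, mul_comm]
    exact SymA.rel_lt R n j.isLt
  · have hjn' : j = ⟨n, Nat.lt_succ_self n⟩ := Fin.ext (show j.val = n by omega)
    rw [if_neg hjn, zero_add, mul_comm, hjn']
    exact SymA.rel_last R n

variable [IsDomain R]
  (r : X₀ n 1 R ⟶ CohB1.ProjSpace (n + 1) R)
  (hr : r ≫ CohB1.ProjSpace.toSpec (n + 1) R = q₀ n 1 R)
  (τ : (Scheme.Modules.pullback r).obj (O1 (CohB1.polyGrading (n + 1) R)) ≅ G n 1 R)
  (hτ : ∀ k, τ.hom.app ⊤ (pt (CohB1.polyGrading (n + 1) R) (ProjUP8.tX (n + 1) R)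
        (ProjUP8.htX (n + 1) R) r k) = s n R k)

include hr hτ in
theorem surj_appLE :
    Surjective (Spec.map ((hX n R (SymA.v R n) (SymA.t R n) (SymA.v_zero R n) ≫ r).appLE
      (VV n R) ⊤ (hleg n R r τ hτ (SymA.v R n) (SymA.t R n) (SymA.v_zero R n)))) := by
  have hs := surjective_SpecMap_of_values n R (K := Γ(CohB1.ProjSpace (n + 1) R, VV n R))
    (Proj.awayToSection 𝒮Y (tY 0))
    ((Proj.basicOpenIsoAway 𝒮Y (tY 0) (htY 0) one_pos).isIso_hom)
    (((hX n R (SymA.v R n) (SymA.t R n) (SymA.v_zero R n) ≫ r).appLE (VV n R) ⊤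
      (hleg n R r τ hτ (SymA.v R n) (SymA.t R n) (SymA.v_zero R n))) ≫
      (Scheme.ΓSpecIso (CommRingCat.of (SymA.CC R n))).hom)
    (fun j => (valA n R r τ hτ (SymA.v R n) (SymA.t R n) (SymA.v_zero R n) j).trans
      (relA n R j))
    (fun x => valB n R r hr τ hτ (SymA.v R n) (SymA.t R n) (SymA.v_zero R n) x)
  rw [Spec.map_comp] at hs
  haveI := hs
  exact Surjective.of_comp (Spec.map (Scheme.ΓSpecIso (CommRingCat.of (SymA.CC R n))).hom) _

include hr hτ in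
/-- **the multiplication morphism is surjective** -/
theorem surjective_mul [IsFinite r] : Surjective r := by
  have hs2 := surj_appLE n R r hr τ hτ
  have h4 := subset_range_of_surjective
    (hX n R (SymA.v R n) (SymA.t R n) (SymA.v_zero R n) ≫ r) (VV n R)
    (Proj.isAffineOpen_basicOpen 𝒮Y (tY 0) (htY 0) one_pos)
    (hleg n R r τ hτ (SymA.v R n) (SymA.t R n) (SymA.v_zero R n)) hs2
  have hVr : (VV n R : Set (CohB1.ProjSpace (n + 1) R)) ⊆ Set.range r := by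
    intro y hy
    obtain ⟨z, hz⟩ := h4 hy
    exact ⟨hX n R (SymA.v R n) (SymA.t R n) (SymA.v_zero R n) z, hz⟩
  constructor
  intro y
  have hcl : IsClosed (Set.range r) := r.isClosedMap.isClosed_range
  have hdense := closure_basicOpen_eq_univ 𝒮Y (htY 0) one_pos
    (MvPolynomial.X_ne_zero (0 : Fin (n + 1 + 1)))
  have hy : y ∈ closure (VV n R : Set (CohB1.ProjSpace (n + 1) R)) :=
    Set.eq_univ_iff_forall.1 hdense y
  exact (hcl.closure_subset_iff.2 hVr) hy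

end Conclude

end Groth.Agent.Lead.SymC
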