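import Mathlib
import Groth.Prelude.Def_CohB1

set_option backward.isDefEq.respectTransparency.types false
set_option autoImplicit false
set_option synthInstance.maxHeartbeats 400000
set_option maxHeartbeats 1000000
set_option linter.style.haveILetI false
set_option linter.unusedSectionVars false
set_option linter.unusedVariables false

universe u
open CategoryTheory CategoryTheory.Limits AlgebraicGeometry Opposite

namespace Groth.Agent.Lead.SymD

variable (S : Scheme.{u})

/-- the structure morphism of `P^n_S` -/
noncomputable abbrev tb (n : ℕ) : CohB1.ProjSpaceOver n S ⟶ S := CohB1.ProjSpaceOver.toBase n S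

/-- the `n`-fold fibre power of `P^1_S` -/
noncomputable abbrev W (n : ℕ) : Scheme.{u} :=
  widePullback S (fun _ : Fin n => CohB1.ProjSpaceOver 1 S) (fun _ => tb S 1)

noncomputable abbrev bs (n : ℕ) : W S n ⟶ S :=
  WidePullback.base (fun _ : Fin n => tb S 1)

noncomputable abbrev pr (n : ℕ) (i : Fin n) : W S n ⟶ CohB1.ProjSpaceOver 1 S :=
  WidePullback.π (fun _ : Fin n => tb S 1) i

/-- splitting off the last factor -/
noncomputable def split (n : ℕ) : W S (n + 1) ⟶ pullback (bs S n) (tb S 1) :=
  pullback.lift
    (WidePullback.lift (bs S (n + 1)) (fun i => pr S (n + 1) (Fin.castSucc i))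
      (fun i => WidePullback.π_arrow _ _))
    (pr S (n + 1) (Fin.last n))
    (by rw [WidePullback.lift_base]; exact (WidePullback.π_arrow _ _).symm)

noncomputable def unsplit (n : ℕ) : pullback (bs S n) (tb S 1) ⟶ W S (n + 1) :=
  WidePullback.lift (pullback.fst _ _ ≫ bs S n)
    (fun j => Fin.lastCases (pullback.snd (bs S n) (tb S 1))
      (fun i => pullback.fst (bs S n) (tb S 1) ≫ pr S n i) j)
    (by
      intro j
      refine Fin.lastCases ?_ (fun i => ?_) j
      · rw [Fin.lastCases_last]; exact pullback.condition.symm
      · rw [Fin.lastCases_castSucc, Category.assoc]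
        congr 1
        exact WidePullback.π_arrow _ _)

theorem split_unsplit (n : ℕ) : split S n ≫ unsplit S n = 𝟙 _ := by
  apply WidePullback.hom_ext
  · intro j
    rw [Category.assoc, unsplit, WidePullback.lift_π, Category.id_comp]
    refine Fin.lastCases ?_ (fun i => ?_) j
    · rw [Fin.lastCases_last, split, pullback.lift_snd]
    · rw [Fin.lastCases_castSucc, split, pullback.lift_fst_assoc, WidePullback.lift_π]
  · rw [Category.assoc, unsplit, WidePullback.lift_base, Category.id_comp, split,
      pullback.lift_fst_assoc, WidePullback.lift_base]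

theorem unsplit_split (n : ℕ) : unsplit S n ≫ split S n = 𝟙 _ := by
  apply pullback.hom_ext
  · rw [Category.assoc, split, pullback.lift_fst, Category.id_comp]
    apply WidePullback.hom_ext
    · intro i
      rw [Category.assoc, WidePullback.lift_π, unsplit, WidePullback.lift_π,
        Fin.lastCases_castSucc]
    · rw [Category.assoc, WidePullback.lift_base, unsplit, WidePullback.lift_base]
  · rw [Category.assoc, split, pullback.lift_snd, Category.id_comp, unsplit,
      WidePullback.lift_π, Fin.lastCases_last]

instance (n : ℕ) : IsIso (split S n) :=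
  ⟨unsplit S n, split_unsplit S n, unsplit_split S n⟩

theorem split_fst_base (n : ℕ) :
    split S n ≫ pullback.fst _ _ ≫ bs S n = bs S (n + 1) := by
  rw [split, pullback.lift_fst_assoc, WidePullback.lift_base]

/-- the base of the empty fibre power is an isomorphism -/
instance isIso_bs_zero : IsIso (bs S 0) := by
  refine ⟨WidePullback.lift (𝟙 S) (fun i => i.elim0) (fun i => i.elim0), ?_, ?_⟩
  · apply WidePullback.hom_ext
    · intro i; exact i.elim0
    · rw [Category.assoc, WidePullback.lift_base, Category.id_comp, Category.comp_id]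
  · rw [WidePullback.lift_base]

/-- **assembly**: from multiplication maps to the symmetric-function morphisms -/
theorem main (h0 : IsIso (tb S 0))
    (hμ : ∀ n : ℕ, ∃ ν : pullback (tb S n) (tb S 1) ⟶ CohB1.ProjSpaceOver (n + 1) S,
      IsFinite ν ∧ Surjective ν ∧ ν ≫ tb S (n + 1) = pullback.fst _ _ ≫ tb S n) (n : ℕ) :
    ∃ φ : W S n ⟶ CohB1.ProjSpaceOver n S,
      IsFinite φ ∧ Surjective φ ∧ φ ≫ tb S n = bs S n := by
  induction n with
  | zero =>
    refine ⟨bs S 0 ≫ inv (tb S 0), inferInstance, inferInstance, ?_⟩
    rw [Category.assoc, IsIso.inv_hom_id, Category.comp_id]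
  | succ n ih =>
    obtain ⟨φ, hφ1, hφ2, hφ3⟩ := ih
    obtain ⟨ν, hν1, hν2, hν3⟩ := hμ n
    let m : pullback (bs S n) (tb S 1) ⟶ pullback (tb S n) (tb S 1) :=
      pullback.map (bs S n) (tb S 1) (tb S n) (tb S 1) φ (𝟙 _) (𝟙 _)
        ((Category.comp_id _).trans hφ3.symm) ((Category.comp_id _).trans (Category.id_comp _).symm)
    have hm1 : IsFinite m :=
      MorphismProperty.pullbackMap (P := @IsFinite) hφ1 (inferInstance : IsFinite (𝟙 _))
        hφ3.symm (Category.id_comp _).symm
    have hm2 : Surjective m :=
      MorphismProperty.pullbackMap (P := @Surjective) hφ2 (inferInstance : Surjective (𝟙 _))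
        hφ3.symm (Category.id_comp _).symm
    refine ⟨split S n ≫ m ≫ ν, inferInstance, inferInstance, ?_⟩
    rw [Category.assoc, Category.assoc, hν3]
    have : m ≫ pullback.fst _ _ = pullback.fst _ _ ≫ φ := pullback.lift_fst _ _ _
    rw [reassoc_of% this, hφ3]
    exact split_fst_base S n

end Groth.Agent.Lead.SymD
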