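import Mathlib
import Groth.Agent.Lib.Helper1.ProjUP11
import Groth.Agent.Lib.Lead.SymB
import Groth.Agent.Lib.Lead.SymC2
import Groth.Agent.Lib.Lead.SymD

set_option backward.isDefEq.respectTransparency.types false
set_option autoImplicit false
set_option synthInstance.maxHeartbeats 400000
set_option maxHeartbeats 1000000
set_option linter.style.haveILetI false
set_option linter.unusedSectionVars false
set_option linter.unusedVariables false

universe u

open CategoryTheory CategoryTheory.Limits AlgebraicGeometry TopologicalSpace Opposite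
  HomogeneousLocalization

namespace Groth.Agent.Lead.SymE

open Groth.Agent.Helper1.QcCech Groth.Agent.Helper1.SubSh Groth.Agent.Helper1.LGen
open Groth.Agent.Helper1 Groth.Agent.Helper1.AmpleLib
open Groth.Agent.Helper1.ProjUP5 Groth.Agent.Helper1.PullSec Groth.Agent.Helper1.PullGen
open Groth.Agent.Helper1.ProjUP7 Groth.Agent.Helper1.VA1 Groth.Agent.Helper1.TwForm
open Groth.Agent.Helper1.TmulLib Groth.Agent.Helper1.TensGen
open Groth.Agent.Helper1.Segre Groth.Agent.Lead.SymB Groth.Agent.Lead.SymC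

instance : IsDomain (ULift.{u} ℤ) := MulEquiv.isDomain ℤ (ULift.ringEquiv (R := ℤ)).toMulEquiv

section Zero

variable (R : Type u) [CommRing R]

theorem c_self (m : ℕ) (k : Fin (m + 1)) :
    c (CohB1.polyGrading m R) (ProjUP8.tX m R) (ProjUP8.htX m R) k k = 1 := by
  unfold c
  have : Away.mk (CohB1.polyGrading m R) (ProjUP8.htX m R k) 1 (ProjUP8.tX m R k)
      (h11 (CohB1.polyGrading m R) (ProjUP8.tX m R) (ProjUP8.htX m R) k) = 1 := by
    apply HomogeneousLocalization.val_injective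
    rw [Away.val_mk, HomogeneousLocalization.val_one]
    simp
  rw [this, map_one]

theorem D_zero_eq_top : D (CohB1.polyGrading 0 R) (ProjUP8.tX 0 R) 0 = ⊤ := by
  rw [eq_top_iff]
  intro x _
  obtain ⟨k, hk⟩ := ProjUP8.hcov 0 R x
  have : k = 0 := Subsingleton.elim _ _
  rw [this] at hk
  exact hk

instance mono_toSpec_zero : Mono (CohB1.ProjSpace.toSpec 0 R) := by
  constructor
  intro X f g hfg
  have hD : ∀ k : Fin (0 + 1),
      (D (CohB1.polyGrading 0 R) (ProjUP8.tX 0 R) k : (CohB1.ProjSpace 0 R).Opens) = ⊤ := by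
    intro k
    have hk : k = 0 := Subsingleton.elim _ _
    rw [hk]
    exact D_zero_eq_top R
  have hc1 : ∀ k l : Fin (0 + 1),
      c (CohB1.polyGrading 0 R) (ProjUP8.tX 0 R) (ProjUP8.htX 0 R) k l = 1 := by
    intro k l
    have : l = k := Subsingleton.elim _ _
    rw [this]
    exact c_self R 0 k
  have hA : ∀ k, f ⁻¹ᵁ D (CohB1.polyGrading 0 R) (ProjUP8.tX 0 R) k =
      g ⁻¹ᵁ D (CohB1.polyGrading 0 R) (ProjUP8.tX 0 R) k := by
    intro k
    exact (congrArg (fun W : (CohB1.ProjSpace 0 R).Opens => f ⁻¹ᵁ W) (hD k)).trans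
      ((congrArg (fun W : (CohB1.ProjSpace 0 R).Opens => g ⁻¹ᵁ W) (hD k)).symm)
  refine ProjUP11.hom_ext_projSpace 0 R f g hfg hA ?_
  intro k l
  rw [hc1 k l]
  exact (map_one _).trans (map_one _).symm

instance isSplitEpi_toSpec_zero : IsSplitEpi (CohB1.ProjSpace.toSpec 0 R) := by
  refine ⟨⟨⟨hh 0 R (C := R) (fun _ => 1) rfl, ?_⟩⟩⟩
  rw [hh_toSpec]
  have : CommRingCat.ofHom (algebraMap R R) = 𝟙 (CommRingCat.of R) := rfl
  rw [this, Spec.map_id]

instance isIso_toSpec_zero : IsIso (CohB1.ProjSpace.toSpec 0 R) :=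
  isIso_of_mono_of_isSplitEpi _

end Zero

section Mul

variable (S : Scheme.{u}) (n : ℕ)

/-- the projection `P^m_S ⟶ P^m_ℤ` -/
noncomputable abbrev fstP (m : ℕ) : CohB1.ProjSpaceOver m S ⟶ CohB1.ProjSpace m (ULift.{u} ℤ) :=
  pullback.fst (CohB1.ProjSpace.toSpec m (ULift.{u} ℤ)) (specULiftZIsTerminal.from S)

/-- `P^n_S ×_S P^1_S ⟶ P^n_ℤ × P^1_ℤ` -/
noncomputable def aMap : pullback (SymD.tb S n) (SymD.tb S 1) ⟶ X₀ n 1 (ULift.{u} ℤ) :=
  pullback.map (SymD.tb S n) (SymD.tb S 1) (CohB1.ProjSpace.toSpec n (ULift.{u} ℤ))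
    (CohB1.ProjSpace.toSpec 1 (ULift.{u} ℤ)) (fstP S n) (fstP S 1) (specULiftZIsTerminal.from S)
    pullback.condition.symm pullback.condition.symm

theorem exists_ν : ∃ ν : pullback (SymD.tb S n) (SymD.tb S 1) ⟶ CohB1.ProjSpaceOver (n + 1) S,
    IsFinite ν ∧ Surjective ν ∧ ν ≫ SymD.tb S (n + 1) = pullback.fst _ _ ≫ SymD.tb S n := by
  obtain ⟨r, hr, τ, hτ, hfin⟩ := SymB.exists_mul n (ULift.{u} ℤ)
  haveI := hfin
  have hsurj : Surjective r := SymC.surjective_mul n (ULift.{u} ℤ) r hr τ hτ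
  let a := aMap S n
  let ν : pullback (SymD.tb S n) (SymD.tb S 1) ⟶ CohB1.ProjSpaceOver (n + 1) S :=
    pullback.lift (a ≫ r) (pullback.fst _ _ ≫ SymD.tb S n) (specULiftZIsTerminal.hom_ext _ _)
  have hν1 : ν ≫ fstP S (n + 1) = a ≫ r := pullback.lift_fst _ _ _
  have hν2 : ν ≫ SymD.tb S (n + 1) = pullback.fst _ _ ≫ SymD.tb S n := pullback.lift_snd _ _ _
  have sqA : IsPullback (pullback.snd (SymD.tb S n) (SymD.tb S 1))
      (pullback.fst (SymD.tb S n) (SymD.tb S 1)) (SymD.tb S 1) (SymD.tb S n) :=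
    (IsPullback.of_hasPullback _ _).flip
  have sqB : IsPullback (fstP S 1) (SymD.tb S 1) (CohB1.ProjSpace.toSpec 1 (ULift.{u} ℤ))
      (specULiftZIsTerminal.from S) := IsPullback.of_hasPullback _ _
  have E1 := sqA.paste_horiz sqB
  have hcond : SymD.tb S n ≫ specULiftZIsTerminal.from S =
      fstP S n ≫ CohB1.ProjSpace.toSpec n (ULift.{u} ℤ) := pullback.condition.symm
  rw [hcond] at E1
  have ha2 : a ≫ pb n 1 (ULift.{u} ℤ) = pullback.snd _ _ ≫ fstP S 1 := pullback.lift_snd _ _ _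
  have ha1 : a ≫ pa n 1 (ULift.{u} ℤ) = pullback.fst _ _ ≫ fstP S n := pullback.lift_fst _ _ _
  rw [← ha2] at E1
  have sqC : IsPullback (pb n 1 (ULift.{u} ℤ)) (pa n 1 (ULift.{u} ℤ))
      (CohB1.ProjSpace.toSpec 1 (ULift.{u} ℤ)) (CohB1.ProjSpace.toSpec n (ULift.{u} ℤ)) :=
    (IsPullback.of_hasPullback _ _).flip
  have E2 : IsPullback a (pullback.fst _ _) (pa n 1 (ULift.{u} ℤ)) (fstP S n) :=
    IsPullback.of_right E1 ha1 sqC
  have sqD : IsPullback (fstP S n) (SymD.tb S n) (CohB1.ProjSpace.toSpec n (ULift.{u} ℤ))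
      (specULiftZIsTerminal.from S) := IsPullback.of_hasPullback _ _
  have E3 := E2.paste_vert sqD
  have E3' : IsPullback a (ν ≫ SymD.tb S (n + 1))
      (r ≫ CohB1.ProjSpace.toSpec (n + 1) (ULift.{u} ℤ)) (specULiftZIsTerminal.from S) := by
    rw [hν2, hr]
    exact E3
  have sqE : IsPullback (fstP S (n + 1)) (SymD.tb S (n + 1))
      (CohB1.ProjSpace.toSpec (n + 1) (ULift.{u} ℤ)) (specULiftZIsTerminal.from S) :=
    IsPullback.of_hasPullback _ _
  have E4 : IsPullback a ν r (fstP S (n + 1)) := IsPullback.of_bot E3' hν1.symm sqE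
  refine ⟨ν, ?_, ?_, hν2⟩
  · exact MorphismProperty.of_isPullback (P := @IsFinite) E4 hfin
  · exact MorphismProperty.of_isPullback (P := @Surjective) E4 hsurj

/-- **finite surjective morphism from the fibre power of the projective line to projective
space** -/
theorem main (S : Scheme.{u}) (n : ℕ) :
    ∃ φ : widePullback S (fun _ : Fin n => CohB1.ProjSpaceOver 1 S)
        (fun _ => CohB1.ProjSpaceOver.toBase 1 S) ⟶ CohB1.ProjSpaceOver n S,
      IsFinite φ ∧ Surjective φ ∧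
        φ ≫ CohB1.ProjSpaceOver.toBase n S =
          WidePullback.base (fun _ => CohB1.ProjSpaceOver.toBase 1 S) := by
  have h0 : IsIso (SymD.tb S 0) := by
    change IsIso (pullback.snd (CohB1.ProjSpace.toSpec 0 (ULift.{u} ℤ))
      (specULiftZIsTerminal.from S))
    infer_instance
  exact SymD.main S h0 (fun n => exists_ν S n) n

end Mul

end Groth.Agent.Lead.SymE
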