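import Mathlib

set_option autoImplicit false
set_option linter.style.haveILetI false
set_option linter.unusedSectionVars false

universe u v

namespace Groth.Agent.Lead.SymSmooth1

open SymmetricAlgebra

variable (R : Type u) [CommRing R] (M : Type v) [AddCommGroup M] [Module R M]

/-- functoriality of the symmetric algebra -/
noncomputable def symMap {N : Type*} [AddCommGroup N] [Module R N] (φ : M →ₗ[R] N) :
    SymmetricAlgebra R M →ₐ[R] SymmetricAlgebra R N :=
  SymmetricAlgebra.lift ((ι R N).comp φ)

theorem symMap_ι {N : Type*} [AddCommGroup N] [Module R N] (φ : M →ₗ[R] N) (m : M) :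
    symMap R M φ (ι R M m) = ι R N (φ m) := by
  simp [symMap]

theorem symMap_comp {N : Type*} [AddCommGroup N] [Module R N] (φ : M →ₗ[R] N) (ψ : N →ₗ[R] M)
    (h : ψ.comp φ = LinearMap.id) : (symMap R N ψ).comp (symMap R M φ) = AlgHom.id R _ := by
  apply SymmetricAlgebra.algHom_ext
  ext m
  change symMap R N ψ (symMap R M φ (ι R M m)) = ι R M m
  rw [symMap_ι, symMap_ι]
  have := congr($h m)
  rw [LinearMap.comp_apply, LinearMap.id_apply] at this
  rw [this]

/-- the symmetric algebra of a projective module is formally smooth -/
theorem formallySmooth_symmetricAlgebra [Module.Projective R M] :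
    Algebra.FormallySmooth R (SymmetricAlgebra R M) := by
  apply Algebra.FormallySmooth.of_comp_surjective
  intro B _ _ I _ g
  obtain ⟨h, hh⟩ := Module.projective_lifting_property (Ideal.Quotient.mkₐ R I).toLinearMap
    (g.toLinearMap.comp (ι R M)) Ideal.Quotient.mk_surjective
  refine ⟨SymmetricAlgebra.lift h, ?_⟩
  apply SymmetricAlgebra.algHom_ext
  ext m
  have := congr($hh m)
  simpa using this

/-- the symmetric algebra of a finite projective module is finitely presented -/
theorem finitePresentation_symmetricAlgebra [Module.Finite R M] [Module.Projective R M] :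
    Algebra.FinitePresentation R (SymmetricAlgebra R M) := by
  obtain ⟨n, p, i, -, -, hpi⟩ := Module.Finite.exists_comp_eq_id_of_projective R M
  let P := SymmetricAlgebra R (Fin n → R)
  let r : P →ₐ[R] SymmetricAlgebra R M := symMap R (Fin n → R) p
  let s : SymmetricAlgebra R M →ₐ[R] P := symMap R M i
  have hrs : r.comp s = AlgHom.id R _ := symMap_comp R M i p hpi
  haveI : Algebra.FinitePresentation R P :=
    .equiv (SymmetricAlgebra.equivMvPolynomial (Pi.basisFun R (Fin n))).symm
  have h1 : (algebraMap R P).FinitePresentation := RingHom.finitePresentation_algebraMap.mpr ‹_›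
  have hs : s.toRingHom.FiniteType := by
    apply RingHom.FiniteType.of_comp_finiteType (f := algebraMap R (SymmetricAlgebra R M))
    rw [AlgHom.toRingHom_eq_coe, s.comp_algebraMap]
    exact RingHom.finiteType_algebraMap.mpr inferInstance
  have hr : r.toRingHom.FinitePresentation := by
    apply RingHom.FinitePresentation.of_comp_finiteType s.toRingHom _ hs
    have : r.toRingHom.comp s.toRingHom = RingHom.id _ := by
      ext x
      exact congr($hrs x)
    rw [this]
    exact RingHom.FinitePresentation.id _
  have h2 := hr.comp h1
  rw [AlgHom.toRingHom_eq_coe, r.comp_algebraMap] at h2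
  exact RingHom.finitePresentation_algebraMap.mp h2

/-- **the symmetric algebra of a finite projective module is smooth** -/
theorem smooth_symmetricAlgebra [Module.Finite R M] [Module.Projective R M] :
    Algebra.Smooth R (SymmetricAlgebra R M) :=
  ⟨formallySmooth_symmetricAlgebra R M, finitePresentation_symmetricAlgebra R M⟩

end Groth.Agent.Lead.SymSmooth1
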