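import Mathlib
import Groth.Prelude
import Groth.Agent.Lib.Lead.SymSmooth1
import Groth.Agent.Lib.Helper1.SymCmp
import Groth.Agent.Lib.Lead.FLF4

set_option autoImplicit false
set_option backward.isDefEq.respectTransparency.types false
set_option synthInstance.maxHeartbeats 400000
set_option linter.style.haveILetI false
set_option linter.unusedSectionVars false

universe u

open CategoryTheory CategoryTheory.Limits AlgebraicGeometry TopologicalSpace Opposite

namespace Groth.Agent.Lead.SymSmooth2

open Groth.Agent.Helper1.SymAlg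

variable {S : Scheme.{u}}

theorem smooth_str (E : S.Modules) (hE : Coh.IsQCoh E) (hlf : FlatMod.IsFinLocFree E)
    {A : RelSpec.QCAlg S} {jA : E ⟶ A.toModule} (hA : RelSpec.IsSymAlg E A jA)
    (U : S.Opens) (hU : IsAffineOpen U) : (A.str.app (op U)).hom.Smooth := by
  haveI : E.IsQuasicoherent := hE
  obtain ⟨c, hc1, -⟩ := exists_ringEquiv E hA U hU
  obtain ⟨h1, h2⟩ := (Groth.Agent.Lead.FLF.isFinLocFree_iff_affineOpens E).1 hlf U hU
  haveI := h1
  haveI := h2
  haveI : Algebra.Smooth Γ(S, U) (SymSec E U) :=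
    Groth.Agent.Lead.SymSmooth1.smooth_symmetricAlgebra _ _
  have h3 : (algebraMap Γ(S, U) (SymSec E U)).Smooth := RingHom.smooth_algebraMap.2 inferInstance
  have h4 : (c : SymSec E U →+* A.presheaf.obj (op U)).Smooth :=
    RingHom.Smooth.of_bijective c.bijective
  have h5 := h3.comp h4
  have e : (c : SymSec E U →+* A.presheaf.obj (op U)).comp (algebraMap Γ(S, U) (SymSec E U)) =
      (A.str.app (op U)).hom := RingHom.ext hc1
  rwa [e] at h5

theorem smooth_π (E : S.Modules) (hE : Coh.IsQCoh E) (hlf : FlatMod.IsFinLocFree E)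
    {A : RelSpec.QCAlg S} {jA : E ⟶ A.toModule} (hA : RelSpec.IsSymAlg E A jA) : Smooth A.π := by
  refine (IsZariskiLocalAtSource.iff_of_openCover (P := @Smooth)
    (f := A.π) (show A.spec.OpenCover from A.glueData.cover)).2 ?_
  intro U
  change Smooth (A.ι U.1 U.2 ≫ A.π)
  rw [A.ι_π]
  have : Smooth (Spec.map (A.str.app (op U.1))) := by
    rw [HasRingHomProperty.Spec_iff (P := @Smooth)]
    exact smooth_str E hE hlf hA U.1 U.2
  infer_instance

end Groth.Agent.Lead.SymSmooth2
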