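import Mathlib
import Groth.Prelude
import Groth.Agent.Lib.Lead.SyntCI2
import Groth.Agent.Lib.Lead.LciCancel2
import Groth.Agent.Lib.Lead.KosH1
import Groth.Agent.Lib.Lead.RelReg13
import Groth.Agent.Lib.Lead.RelReg11
import Groth.Agent.Lib.Helper4.QReg1

/-!
# A closed subscheme of a smooth scheme which is a relative complete intersection is regularly
immersed (lead)
-/

set_option backward.isDefEq.respectTransparency.types false
set_option autoImplicit false
set_option synthInstance.maxHeartbeats 400000
set_option maxHeartbeats 1000000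
set_option linter.style.haveILetI false
set_option linter.unusedSectionVars false
set_option linter.unusedVariables false
universe u

namespace Groth.Agent.Lead.SyntCI

open CategoryTheory CategoryTheory.Limits AlgebraicGeometry
open Groth.Agent.Lead.LciLocal Groth.Agent.Lead.RelReg Groth.Agent.Lead.KosH1

theorem S1677_main {X Y S : Scheme.{u}} (p : X ⟶ S) [Smooth p] (i : Y ⟶ X)
    [IsClosedImmersion i] (hY : CInt.IsCIMorphism (i ≫ p)) : Mor2.IsRegularClosedImmersion i := by
  obtain ⟨hfl, hfp, -⟩ := id hY
  haveI := hfl
  haveI := hfp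
  have hK : ∀ y : Y, _root_.Synt.IsKoszulAt (i ≫ p) y := (S8660_main (i ≫ p)).mpr hY
  have hkos : RegImm.IsRegularImmersion .koszul i := S8656_main (i ≫ p) hK p i rfl
  have hh1 := isRegularImmersion_h1_of_koszul i hkos
  have hq : ∀ z : Y, RegImm.IsRegularImmersionAt .quasi i z := by
    intro z
    obtain ⟨U, hz, hcl, rs, hseq, hker⟩ := hh1.2 z
    exact ⟨U, hz, hcl, rs, Groth.Agent.Lib.Helper4.QReg1.S2103_main _ hseq, hker⟩
  refine isRegularClosedImmersion_of_transRegular p i (fun z => ?_)
  exact transRegAt_of_quasi p i z (Flat.stalkMap p (i z)) hfl (hq z)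

end Groth.Agent.Lead.SyntCI
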