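import Mathlib
import Groth.Prelude.Def_FlatCA
import Groth.Agent.Lib.Lead.SyntBC2
import Groth.Agent.Lib.Helper3.ColimFlat12

/-!
# Syntomic ring maps descend to a finite stage of a directed colimit of rings (lead)
-/

set_option backward.isDefEq.respectTransparency.types false
set_option autoImplicit false
set_option synthInstance.maxHeartbeats 400000
set_option maxHeartbeats 1000000
set_option linter.style.haveILetI false
set_option linter.unusedSectionVars false
set_option linter.unusedVariables false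
universe u

namespace Groth.Agent.Lead.SyntColim

open TensorProduct Groth.Agent.Helper2.Synt Groth.Agent.Lead.SyntBC2 Groth.Agent.Helper3.ColimFlat

section Fin

attribute [local instance] Algebra.TensorProduct.rightAlgebra

/-- finitely many good denominators generating the unit ideal after base change -/
theorem exists_finset_good (R₀ S₀ R : Type u) [CommRing R₀] [CommRing S₀] [CommRing R]
    [Algebra R₀ S₀] [Algebra R₀ R] [Algebra.FinitePresentation R₀ S₀] [Module.Flat R₀ S₀]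
    (h : _root_.Synt.IsSyntomic R (R ⊗[R₀] S₀)) :
    ∃ Gs : Finset S₀, (∀ g ∈ Gs, _root_.Synt.IsSyntomic R₀ (Localization.Away g)) ∧
      ∃ c : Gs → R ⊗[R₀] S₀, ∑ i : Gs, c i * ((1 : R) ⊗ₜ[R₀] (i : S₀)) = 1 := by
  classical
  have htop : Ideal.span ((fun g : S₀ => (1 : R) ⊗ₜ[R₀] g) ''
      {g : S₀ | _root_.Synt.IsSyntomic R₀ (Localization.Away g)}) = ⊤ := by
    by_contra hne
    obtain ⟨M, hM, hle⟩ := Ideal.exists_le_maximal _ hne
    haveI := hM.isPrime
    obtain ⟨g, hg, hgood⟩ := exists_away_isSyntomic_of_baseChange R₀ S₀ R h M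
    exact hg (hle (Ideal.subset_span ⟨g, hgood, rfl⟩))
  have h1 : (1 : R ⊗[R₀] S₀) ∈ Ideal.span ((fun g : S₀ => (1 : R) ⊗ₜ[R₀] g) ''
      {g : S₀ | _root_.Synt.IsSyntomic R₀ (Localization.Away g)}) := by rw [htop]; trivial
  obtain ⟨s, hs, h1s⟩ := Submodule.mem_span_finite_of_mem_span h1
  obtain ⟨G, hG, hGs⟩ := Finset.subset_set_image_iff.mp hs
  have h1G : (1 : R ⊗[R₀] S₀) ∈ Ideal.span (Set.range fun i : G => (1 : R) ⊗ₜ[R₀] (i : S₀)) := by
    have : (Set.range fun i : G => (1 : R) ⊗ₜ[R₀] (i : S₀)) = (s : Set (R ⊗[R₀] S₀)) := by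
      rw [← hGs, Finset.coe_image]
      ext z
      constructor
      · rintro ⟨i, rfl⟩
        exact ⟨i.1, i.2, rfl⟩
      · rintro ⟨g, hg, rfl⟩
        exact ⟨⟨g, hg⟩, rfl⟩
    rw [this]
    exact h1s
  obtain ⟨c, hc⟩ := Ideal.mem_span_range_iff_exists_fun.mp h1G
  exact ⟨G, fun g hg => hG hg, c, hc⟩

/-- conversely, such a partition of unity over any base change gives a syntomic algebra -/
theorem isSyntomic_of_finset_good (R₀ S₀ R' : Type u) [CommRing R₀] [CommRing S₀] [CommRing R']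
    [Algebra R₀ S₀] [Algebra R₀ R'] (Gs : Finset S₀)
    (hgood : ∀ g ∈ Gs, _root_.Synt.IsSyntomic R₀ (Localization.Away g))
    (c : Gs → R' ⊗[R₀] S₀) (hone : ∑ i : Gs, c i * ((1 : R') ⊗ₜ[R₀] (i : S₀)) = 1) :
    _root_.Synt.IsSyntomic R' (R' ⊗[R₀] S₀) := by
  classical
  have hspan : Ideal.span ((Finset.univ.image fun i : Gs => (1 : R') ⊗ₜ[R₀] (i : S₀) :
      Finset (R' ⊗[R₀] S₀)) : Set (R' ⊗[R₀] S₀)) = ⊤ := by
    rw [Finset.coe_image, Finset.coe_univ, Set.image_univ, Ideal.eq_top_iff_one]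
    exact Ideal.mem_span_range_iff_exists_fun.mpr ⟨c, hone⟩
  refine isSyntomic_of_span_eq_top R' (R' ⊗[R₀] S₀) _ hspan ?_
  intro z hz
  obtain ⟨i, -, rfl⟩ := Finset.mem_image.mp hz
  have hbc := isSyntomic_baseChange R₀ (Localization.Away (i : S₀)) R' (hgood i i.2)
  exact isSyntomic_of_algEquiv
    (IsLocalization.Away.tensorProductEquivTMulRight R₀ R' (i : S₀) (Localization.Away (i : S₀)))
    hbc

end Fin

/-- base change of "syntomic after tensoring with `C₀`" along a ring map of the base -/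
theorem isSyntomic_bc_abs (A₀ C₀ R' R'' : Type u) [CommRing A₀] [CommRing C₀] [CommRing R']
    [CommRing R''] [Algebra A₀ C₀] [Algebra A₀ R'] [Algebra A₀ R''] [Algebra R' R'']
    [IsScalarTower A₀ R' R'']
    (h : _root_.Synt.IsSyntomic R' (R' ⊗[A₀] C₀)) : _root_.Synt.IsSyntomic R'' (R'' ⊗[A₀] C₀) := by
  have h1 := isSyntomic_baseChange R' (R' ⊗[A₀] C₀) R'' h
  exact isSyntomic_of_algEquiv (Algebra.TensorProduct.cancelBaseChange A₀ R' R'' R'' C₀) h1

end Groth.Agent.Lead.SyntColim
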