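import Mathlib
import Groth.Prelude.Def_FlatCA
import Groth.Agent.Lib.Lead.SyntColim1

/-!
# Syntomic ring maps descend to a finite stage of a directed colimit of rings, II (lead)
-/

set_option backward.isDefEq.respectTransparency.types false
set_option autoImplicit false
set_option synthInstance.maxHeartbeats 400000
set_option maxHeartbeats 1000000
set_option linter.style.haveILetI false
set_option linter.unusedSectionVars false
set_option linter.unusedVariables false
universe u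

namespace Groth.Agent.Lead.SyntColim

open TensorProduct Groth.Agent.Helper2.Synt Groth.Agent.Lead.SyntBC2 Groth.Agent.Helper3.ColimFlat

section Desc

variable {A₀ : Type u} [CommRing A₀]
  {ι : Type u} [Preorder ι] (G : ι → Type u) [∀ i, CommRing (G i)] [∀ i, Algebra A₀ (G i)]
  (g : ∀ i j, i ≤ j → G i →ₐ[A₀] G j)
  (A : Type u) [CommRing A] [Algebra A₀ A] [∀ i, Algebra (G i) A] [∀ i, IsScalarTower A₀ (G i) A]
  (hcolim : FlatCA.IsDirectedColimitRing G (fun i j h => (g i j h).toRingHom) A)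
  (C₀ : Type u) [CommRing C₀] [Algebra A₀ C₀]

/-- the transition maps on `G i ⊗ C₀` -/
noncomputable abbrev tauG (i j : ι) (h : i ≤ j) : G i ⊗[A₀] C₀ →ₐ[A₀] G j ⊗[A₀] C₀ :=
  Algebra.TensorProduct.map (g i j h) (AlgHom.id A₀ C₀)

/-- the maps to the colimit on `G i ⊗ C₀` -/
noncomputable abbrev tau (i : ι) : G i ⊗[A₀] C₀ →ₐ[A₀] A ⊗[A₀] C₀ :=
  Algebra.TensorProduct.map (IsScalarTower.toAlgHom A₀ (G i) A) (AlgHom.id A₀ C₀)

include hcolim in
theorem tau_comp (i j : ι) (h : i ≤ j) (w : G i ⊗[A₀] C₀) :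
    tau G A C₀ j (tauG G g C₀ i j h w) = tau G A C₀ i w := by
  obtain ⟨hdir, hne, hid, hcomp, hcompat, hsurj, hker⟩ := hcolim
  induction w using TensorProduct.induction_on with
  | zero => simp
  | tmul x c =>
    have := congrArg (fun φ : G i →+* A => φ x) (hcompat i j h)
    simp only [Algebra.TensorProduct.map_tmul, IsScalarTower.coe_toAlgHom', AlgHom.coe_id, id_eq]
    congr 1
  | add x y hx hy => simp only [map_add, hx, hy]

include hcolim in
theorem tauG_comp (i j k : ι) (hij : i ≤ j) (hjk : j ≤ k) (w : G i ⊗[A₀] C₀) :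
    tauG G g C₀ j k hjk (tauG G g C₀ i j hij w) = tauG G g C₀ i k (hij.trans hjk) w := by
  obtain ⟨hdir, hne, hid, hcomp, hcompat, hsurj, hker⟩ := hcolim
  induction w using TensorProduct.induction_on with
  | zero => simp
  | tmul x c =>
    have := congrArg (fun φ : G i →+* G k => φ x) (hcomp i j k hij hjk)
    simp only [Algebra.TensorProduct.map_tmul, AlgHom.coe_id, id_eq]
    congr 1
  | add x y hx hy => simp only [map_add, hx, hy]

include hcolim in
theorem exists_tau_eq (w : A ⊗[A₀] C₀) :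
    ∃ (j : ι) (wj : G j ⊗[A₀] C₀), tau G A C₀ j wj = w := by
  have hcolim' := hcolim
  obtain ⟨hdir, hne, hid, hcomp, hcompat, hsurj, hker⟩ := hcolim
  haveI := hdir
  induction w using TensorProduct.induction_on with
  | zero =>
    obtain ⟨i⟩ := hne
    exact ⟨i, 0, map_zero _⟩
  | tmul a c =>
    obtain ⟨i, x, rfl⟩ := hsurj a
    exact ⟨i, x ⊗ₜ c, by simp⟩
  | add w₁ w₂ h₁ h₂ =>
    obtain ⟨i₁, x₁, rfl⟩ := h₁
    obtain ⟨i₂, x₂, rfl⟩ := h₂
    obtain ⟨k, hk₁, hk₂⟩ := exists_ge_ge i₁ i₂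
    refine ⟨k, tauG G g C₀ i₁ k hk₁ x₁ + tauG G g C₀ i₂ k hk₂ x₂, ?_⟩
    rw [map_add, tau_comp G g A hcolim' C₀, tau_comp G g A hcolim' C₀]

include hcolim in
theorem tau_ker (k : ι) (w : G k ⊗[A₀] C₀) (hw : tau G A C₀ k w = 0) :
    ∃ l, ∃ h : k ≤ l, tauG G g C₀ k l h w = 0 := by
  obtain ⟨hdir, hne, hid, hcomp, hcompat, hsurj, hker⟩ := hcolim
  haveI := hdir
  haveI := hne
  have hcomm1 : ∀ (w : G k ⊗[A₀] C₀),
      ((IsScalarTower.toAlgHom A₀ (G k) A).toLinearMap).rTensor C₀ w = tau G A C₀ k w := by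
    intro w
    induction w using TensorProduct.induction_on with
    | zero => simp
    | tmul b x => simp
    | add x y hx hy => simp only [map_add, hx, hy]
  have hcomm2 : ∀ (l : ι) (h : k ≤ l) (w : G k ⊗[A₀] C₀),
      ((g k l h).toLinearMap).rTensor C₀ w = tauG G g C₀ k l h w := by
    intro l h w
    induction w using TensorProduct.induction_on with
    | zero => simp
    | tmul b x => simp
    | add x y hx hy => simp only [map_add, hx, hy]
  have key := rTensor_vanish_of_colimit (R := A₀) (N := G)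
    (fun i j h => (g i j h).toLinearMap) ?_ ?_
    (fun i => (IsScalarTower.toAlgHom A₀ (G i) A).toLinearMap) ?_ ?_ ?_ C₀ k
    w (by rw [hcomm1, hw])
  · obtain ⟨l, h, hl⟩ := key
    exact ⟨l, h, by rw [← hcomm2]; exact hl⟩
  · intro i x
    have := congrArg (fun φ : G i →+* G i => φ x) (hid i)
    simpa using this
  · intro i j k hij hjk x
    have := congrArg (fun φ : G i →+* G k => φ x) (hcomp i j k hij hjk)
    simpa using this
  · intro i j h x
    have := congrArg (fun φ : G i →+* A => φ x) (hcompat i j h)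
    simpa using this
  · intro y
    obtain ⟨i, x, hx⟩ := hsurj y
    exact ⟨i, x, hx⟩
  · intro i x hx
    obtain ⟨j, h, hj⟩ := hker i x hx
    exact ⟨j, h, hj⟩

include hcolim in
/-- finitely many elements of the colimit lift to a common stage above a given one -/
theorem exists_common_lift {κ : Type u} [Finite κ] (i₀ : ι) (c : κ → A ⊗[A₀] C₀) :
    ∃ k, ∃ hk : i₀ ≤ k, ∃ c' : κ → G k ⊗[A₀] C₀, ∀ i, tau G A C₀ k (c' i) = c i := by
  have hcolim' := hcolim
  obtain ⟨hdir, hne, -⟩ := hcolim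
  haveI := hdir
  haveI := hne
  choose j w hw using fun i => exists_tau_eq G g A hcolim' C₀ (c i)
  obtain ⟨M, hM⟩ := Finite.exists_le j
  obtain ⟨k, hk₁, hk₂⟩ := exists_ge_ge M i₀
  refine ⟨k, hk₂, fun i => tauG G g C₀ (j i) k ((hM i).trans hk₁) (w i), fun i => ?_⟩
  rw [tau_comp G g A hcolim' C₀, hw]

include hcolim in
/-- a partition of unity in the colimit descends to a finite stage -/
theorem exists_stage_one (i₀ : ι) (Gs : Finset (G i₀ ⊗[A₀] C₀))
    (c : Gs → A ⊗[A₀] C₀) (hc : ∑ i : Gs, c i * tau G A C₀ i₀ (i : G i₀ ⊗[A₀] C₀) = 1) :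
    ∃ l, ∃ hl : i₀ ≤ l, ∃ c' : Gs → G l ⊗[A₀] C₀,
      ∑ i : Gs, c' i * tauG G g C₀ i₀ l hl (i : G i₀ ⊗[A₀] C₀) = 1 := by
  obtain ⟨k, hk, c₁, hc₁⟩ := exists_common_lift G g A hcolim C₀ i₀ c
  have hd : tau G A C₀ k
      (∑ i : Gs, c₁ i * tauG G g C₀ i₀ k hk (i : G i₀ ⊗[A₀] C₀) - 1) = 0 := by
    rw [map_sub, map_sum, map_one, sub_eq_zero, ← hc]
    apply Finset.sum_congr rfl
    intro i _
    rw [map_mul, hc₁, tau_comp G g A hcolim C₀]
  obtain ⟨l, hkl, hl⟩ := tau_ker G g A hcolim C₀ k _ hd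
  refine ⟨l, hk.trans hkl, fun i => tauG G g C₀ k l hkl (c₁ i), ?_⟩
  rw [map_sub, map_sum, map_one, sub_eq_zero] at hl
  rw [← hl]
  apply Finset.sum_congr rfl
  intro i _
  rw [map_mul, tauG_comp G g A hcolim C₀]

include hcolim in
/-- **Syntomic descends to a finite stage of a directed colimit of rings.** -/
theorem exists_stage_isSyntomic [Algebra.FinitePresentation A₀ C₀]
    (h : _root_.Synt.IsSyntomic A (A ⊗[A₀] C₀)) :
    ∃ i, _root_.Synt.IsSyntomic (G i) (G i ⊗[A₀] C₀) := by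
  classical
  haveI : Module.Flat A (A ⊗[A₀] C₀) := h.1
  obtain ⟨i₀, hfl⟩ := (S4848_main G g A hcolim (B₀ := C₀) C₀).mp inferInstance
  haveI : Module.Flat (G i₀) (G i₀ ⊗[A₀] C₀) := hfl
  have h' : _root_.Synt.IsSyntomic A (A ⊗[G i₀] (G i₀ ⊗[A₀] C₀)) :=
    isSyntomic_of_algEquiv (Algebra.TensorProduct.cancelBaseChange A₀ (G i₀) A A C₀).symm h
  obtain ⟨Gs, hgood, c, hc⟩ := exists_finset_good (G i₀) (G i₀ ⊗[A₀] C₀) A h'
  set e := Algebra.TensorProduct.cancelBaseChange A₀ (G i₀) A A C₀ with he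
  have he1 : ∀ s : G i₀ ⊗[A₀] C₀, e ((1 : A) ⊗ₜ[G i₀] s) = tau G A C₀ i₀ s := by
    intro s
    induction s using TensorProduct.induction_on with
    | zero => simp
    | tmul x c => simp [he, Algebra.smul_def]
    | add x y hx hy => rw [TensorProduct.tmul_add, map_add, map_add, hx, hy]
  have hc2 : ∑ i : Gs, e (c i) * tau G A C₀ i₀ (i : G i₀ ⊗[A₀] C₀) = 1 := by
    have := congrArg e hc
    rw [map_sum, map_one] at this
    rw [← this]
    apply Finset.sum_congr rfl
    intro i _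
    rw [map_mul, he1]
  obtain ⟨l, hl, c', hc'⟩ := exists_stage_one G g A hcolim C₀ i₀ Gs (fun i => e (c i)) hc2
  letI : Algebra (G i₀) (G l) := (g i₀ l hl).toAlgebra
  haveI : IsScalarTower A₀ (G i₀) (G l) :=
    IsScalarTower.of_algebraMap_eq (fun x => ((g i₀ l hl).commutes x).symm)
  set el := Algebra.TensorProduct.cancelBaseChange A₀ (G i₀) (G l) (G l) C₀ with hel
  have hel1 : ∀ s : G i₀ ⊗[A₀] C₀, el ((1 : G l) ⊗ₜ[G i₀] s) = tauG G g C₀ i₀ l hl s := by
    intro s
    induction s using TensorProduct.induction_on with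
    | zero => simp
    | tmul x c =>
      simp only [hel, Algebra.TensorProduct.cancelBaseChange_tmul, Algebra.smul_def, mul_one,
        Algebra.TensorProduct.map_tmul, AlgHom.coe_id, id_eq]
      rfl
    | add x y hx hy => rw [TensorProduct.tmul_add, map_add, map_add, hx, hy]
  have hc3 : ∑ i : Gs, el.symm (c' i) * ((1 : G l) ⊗ₜ[G i₀] (i : G i₀ ⊗[A₀] C₀)) = 1 := by
    apply el.injective
    rw [map_sum, map_one, ← hc']
    apply Finset.sum_congr rfl
    intro i _
    rw [map_mul, AlgEquiv.apply_symm_apply, hel1]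
  have h3 := isSyntomic_of_finset_good (G i₀) (G i₀ ⊗[A₀] C₀) (G l) Gs hgood _ hc3
  exact ⟨l, isSyntomic_of_algEquiv el h3⟩

end Desc

end Groth.Agent.Lead.SyntColim
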