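import Mathlib
import Groth.Prelude.Def_FlatCA
import Groth.Agent.Lib.Lead.SyntColim2
import Groth.Agent.Lib.Helper7.InjFib.Sys

/-!
# Syntomic ring maps descend to a finite stage of a weak directed colimit of rings (lead)
-/

set_option backward.isDefEq.respectTransparency.types false
set_option autoImplicit false
set_option synthInstance.maxHeartbeats 400000
set_option maxHeartbeats 1000000
set_option linter.style.haveILetI false
set_option linter.unusedSectionVars false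
set_option linter.unusedVariables false
universe u

namespace Groth.Agent.Lead.SyntColim

open TensorProduct Groth.Agent.Helper2.Synt Groth.Agent.Lead.SyntBC2 Groth.Agent.Helper3.ColimFlat
open Groth.Agent.Lead.FlatLoc

section QuotSys

variable {A₀ : Type u} [CommRing A₀] (P : Type u) [CommRing P] [Algebra A₀ P] (K : Ideal P)

/-- finitely generated ideals contained in `K` -/
abbrev FGSub : Type u := {K' : Ideal P // K'.FG ∧ K' ≤ K}

noncomputable instance quotAlg (a : FGSub P K) : Algebra (P ⧸ a.1) (P ⧸ K) :=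
  (Ideal.Quotient.factor a.2.2).toAlgebra

instance quotTower (a : FGSub P K) : IsScalarTower A₀ (P ⧸ a.1) (P ⧸ K) :=
  IsScalarTower.of_algebraMap_eq (fun x => rfl)

theorem quotSys_colim : FlatCA.IsDirectedColimitRing (fun a : FGSub P K => P ⧸ a.1)
    (fun a b h => (Ideal.Quotient.factorₐ A₀ (show a.1 ≤ b.1 from h)).toRingHom) (P ⧸ K) := by
  refine ⟨?_, ?_, ?_, ?_, ?_, ?_, ?_⟩
  · exact ⟨fun a b => ⟨⟨a.1 ⊔ b.1, Submodule.FG.sup a.2.1 b.2.1, sup_le a.2.2 b.2.2⟩,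
      show a.1 ≤ a.1 ⊔ b.1 from le_sup_left, show b.1 ≤ a.1 ⊔ b.1 from le_sup_right⟩⟩
  · exact ⟨⟨⊥, Submodule.fg_bot, bot_le⟩⟩
  · intro a
    refine RingHom.ext fun x => ?_
    obtain ⟨p, rfl⟩ := Ideal.Quotient.mk_surjective x
    rfl
  · intro a b c hab hbc
    refine RingHom.ext fun x => ?_
    obtain ⟨p, rfl⟩ := Ideal.Quotient.mk_surjective x
    rfl
  · intro a b h
    refine RingHom.ext fun x => ?_
    obtain ⟨p, rfl⟩ := Ideal.Quotient.mk_surjective x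
    rfl
  · intro y
    obtain ⟨p, rfl⟩ := Ideal.Quotient.mk_surjective y
    exact ⟨⟨⊥, Submodule.fg_bot, bot_le⟩, Ideal.Quotient.mk _ p, rfl⟩
  · intro a x hx
    obtain ⟨p, rfl⟩ := Ideal.Quotient.mk_surjective x
    have hp : p ∈ K := by
      have : Ideal.Quotient.mk K p = 0 := hx
      exact Ideal.Quotient.eq_zero_iff_mem.mp this
    refine ⟨⟨a.1 ⊔ Ideal.span {p}, Submodule.FG.sup a.2.1 (Submodule.fg_span_singleton p),
      sup_le a.2.2 ((Ideal.span_singleton_le_iff_mem _).mpr hp)⟩,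
      show a.1 ≤ a.1 ⊔ Ideal.span {p} from le_sup_left, ?_⟩
    show Ideal.Quotient.mk _ p = 0
    exact Ideal.Quotient.eq_zero_iff_mem.mpr
      (Ideal.mem_sup_right (Ideal.mem_span_singleton_self p))

end QuotSys

section Tens

variable {A₀ : Type u} [CommRing A₀]
  {ι : Type u} [Preorder ι] (G : ι → Type u) [∀ i, CommRing (G i)] [∀ i, Algebra A₀ (G i)]
  (g : ∀ i j, i ≤ j → G i →ₐ[A₀] G j)
  (A : Type u) [CommRing A] [Algebra A₀ A] [∀ i, Algebra (G i) A] [∀ i, IsScalarTower A₀ (G i) A]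
  (hcolim : FlatCA.IsDirectedColimitRing G (fun i j h => (g i j h).toRingHom) A)
  (B₀ : Type u) [CommRing B₀] [Algebra A₀ B₀]

/-- the `B₀`-algebra map `B₀ ⊗ G i → B₀ ⊗ A` -/
noncomputable abbrev tB (i : ι) : B₀ ⊗[A₀] G i →ₐ[B₀] B₀ ⊗[A₀] A :=
  Algebra.TensorProduct.map (AlgHom.id B₀ B₀) (IsScalarTower.toAlgHom A₀ (G i) A)

/-- the `B₀`-algebra map `B₀ ⊗ G i → B₀ ⊗ G j` -/
noncomputable abbrev tGB (i j : ι) (h : i ≤ j) : B₀ ⊗[A₀] G i →ₐ[B₀] B₀ ⊗[A₀] G j :=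
  Algebra.TensorProduct.map (AlgHom.id B₀ B₀) (g i j h)

theorem tB_eq (i : ι) (w : B₀ ⊗[A₀] G i) : tB G A B₀ i w = tmap G A B₀ i w := by
  induction w using TensorProduct.induction_on with
  | zero => simp
  | tmul b x => simp
  | add x y hx hy => simp only [map_add, hx, hy]

theorem tGB_eq (i j : ι) (h : i ≤ j) (w : B₀ ⊗[A₀] G i) :
    tGB G g B₀ i j h w = tmapG G g B₀ i j h w := by
  induction w using TensorProduct.induction_on with
  | zero => simp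
  | tmul b x => simp
  | add x y hx hy => simp only [map_add, hx, hy]

/-- the algebra structure of `B₀ ⊗ A` over `B₀ ⊗ G i` -/
noncomputable def tensAlg (i : ι) : Algebra (B₀ ⊗[A₀] G i) (B₀ ⊗[A₀] A) :=
  (tB G A B₀ i).toRingHom.toAlgebra

theorem tens_tower (i : ι) :
    @IsScalarTower B₀ (B₀ ⊗[A₀] G i) (B₀ ⊗[A₀] A) _ (tensAlg G A B₀ i).toSMul _ := by
  letI : Algebra (B₀ ⊗[A₀] G i) (B₀ ⊗[A₀] A) := tensAlg G A B₀ i
  exact IsScalarTower.of_algebraMap_eq (fun b => ((tB G A B₀ i).commutes b).symm)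

include hcolim in
theorem tens_colim :
    @FlatCA.IsDirectedColimitRing ι _ (fun i => B₀ ⊗[A₀] G i) (fun i => inferInstance)
      (fun i j h => (tGB G g B₀ i j h).toRingHom) (B₀ ⊗[A₀] A) inferInstance
      (fun i => tensAlg G A B₀ i) := by
  have hcolim' := hcolim
  obtain ⟨hdir, hne, hid, hcomp, hcompat, hsurj, hker⟩ := hcolim
  refine ⟨hdir, hne, ?_, ?_, ?_, ?_, ?_⟩
  · intro i
    refine RingHom.ext fun w => ?_
    show tGB G g B₀ i i le_rfl w = w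
    induction w using TensorProduct.induction_on with
    | zero => simp
    | tmul b x =>
      have := congrArg (fun φ : G i →+* G i => φ x) (hid i)
      simp only [Algebra.TensorProduct.map_tmul, AlgHom.coe_id, id_eq]
      congr 1
    | add x y hx hy => simp only [map_add, hx, hy]
  · intro i j k hij hjk
    refine RingHom.ext fun w => ?_
    show tGB G g B₀ j k hjk (tGB G g B₀ i j hij w) = tGB G g B₀ i k (hij.trans hjk) w
    rw [tGB_eq, tGB_eq, tGB_eq, tmapG_comp G g A hcolim' B₀]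
  · intro i j h
    refine RingHom.ext fun w => ?_
    show tB G A B₀ j (tGB G g B₀ i j h w) = tB G A B₀ i w
    rw [tB_eq, tGB_eq, tB_eq, tmap_comp G g A hcolim' B₀]
  · intro w
    obtain ⟨j, wj, hj⟩ := exists_tmap_eq G g A hcolim' B₀ w
    refine ⟨j, wj, ?_⟩
    show tB G A B₀ j wj = w
    rw [tB_eq, hj]
  · intro i w hw
    have hw' : tmap G A B₀ i w = 0 := by
      rw [← tB_eq]
      exact hw
    obtain ⟨l, h, hl⟩ := Groth.Agent.Helper7.InjFib.tmap_ker G g A hcolim' B₀ i w hw'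
    refine ⟨l, h, ?_⟩
    show tGB G g B₀ i l h w = 0
    rw [tGB_eq, hl]

end Tens

section KL

variable {ι : Type u} [Preorder ι] [IsDirected ι (· ≤ ·)] [Nonempty ι]
  (A₀ : Type u) [CommRing A₀] (G : ι → Type u) [∀ i, CommRing (G i)] [∀ i, Algebra A₀ (G i)]
  (f : ∀ i j, i ≤ j → (G i →ₐ[A₀] G j)) (A : Type u) [CommRing A] [Algebra A₀ A]
  (g : ∀ i, G i →ₐ[A₀] A) (hg : ∀ i j (h : i ≤ j), (g j).comp (f i j h) = g i)
  (hsurj : ∀ a : A, ∃ i, ∃ x : G i, g i x = a)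
  (hker : ∀ i (x : G i), g i x = 0 → ∃ j, ∃ h : i ≤ j, f i j h x = 0)

include hg hsurj in
theorem exists_lift_on (σ : Finset A) : ∃ i, ∃ b : A → G i, ∀ a ∈ σ, g i (b a) = a := by
  classical
  induction σ using Finset.induction_on with
  | empty =>
    obtain ⟨i⟩ := ‹Nonempty ι›
    exact ⟨i, fun _ => 0, by simp⟩
  | insert a₀ σ hnot ih =>
    obtain ⟨i, b, hb⟩ := ih
    obtain ⟨j, x, hx⟩ := hsurj a₀
    obtain ⟨k, hik, hjk⟩ := exists_ge_ge i j
    refine ⟨k, fun a => if a = a₀ then f j k hjk x else f i k hik (b a), ?_⟩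
    intro a ha
    dsimp only
    by_cases h : a = a₀
    · rw [if_pos h, ← AlgHom.comp_apply, hg, hx, h]
    · rw [if_neg h, ← AlgHom.comp_apply, hg]
      exact hb a ((Finset.mem_insert.mp ha).resolve_left h)

include hg hsurj hker in
theorem exists_aeval_kill (s : Finset (MvPolynomial A A₀))
    (hs : ∀ p ∈ s, MvPolynomial.aeval (id : A → A) p = 0) :
    ∃ i, ∃ b : A → G i, ∀ p ∈ s, MvPolynomial.aeval b p = 0 := by
  classical
  set σ : Finset A := s.biUnion (fun p => p.vars) with hσ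
  suffices H : ∀ s' : Finset (MvPolynomial A A₀), s' ⊆ s →
      ∃ i, ∃ b : A → G i, (∀ a ∈ σ, g i (b a) = a) ∧ ∀ p ∈ s', MvPolynomial.aeval b p = 0 by
    obtain ⟨i, b, -, hb⟩ := H s (Finset.Subset.refl s)
    exact ⟨i, b, hb⟩
  intro s'
  induction s' using Finset.induction_on with
  | empty =>
    intro _
    obtain ⟨i, b, hb⟩ := exists_lift_on A₀ G f A g hg hsurj σ
    exact ⟨i, b, hb, by simp⟩
  | insert p s' hnot ih =>
    intro hsub
    obtain ⟨i, b, hb, hkill⟩ := ih (fun q hq => hsub (Finset.mem_insert_of_mem hq))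
    have hp : p ∈ s := hsub (Finset.mem_insert_self p s')
    have h0 : g i (MvPolynomial.aeval b p) = 0 := by
      rw [MvPolynomial.comp_aeval_apply, ← hs p hp, MvPolynomial.aeval_eq_eval₂Hom,
        MvPolynomial.aeval_eq_eval₂Hom]
      refine MvPolynomial.eval₂Hom_congr' rfl ?_ rfl
      intro a ha _
      exact hb a (Finset.mem_biUnion.mpr ⟨p, hp, ha⟩)
    obtain ⟨j, hij, hj⟩ := hker i _ h0
    have hpush : ∀ q : MvPolynomial A A₀,
        MvPolynomial.aeval (fun a => f i j hij (b a)) q = f i j hij (MvPolynomial.aeval b q) := by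
      intro q
      rw [MvPolynomial.comp_aeval_apply]
    refine ⟨j, fun a => f i j hij (b a), ?_, ?_⟩
    · intro a ha
      rw [← AlgHom.comp_apply, hg]
      exact hb a ha
    · intro q hq
      rw [hpush]
      rcases Finset.mem_insert.mp hq with rfl | hq'
      · exact hj
      · rw [hkill q hq', map_zero]

end KL

/-- base change of the syntomic condition along a map of the variable algebra -/
theorem isSyntomic_tensor_bc {A₀ B₀ C₀ A' A'' : Type u} [CommRing A₀] [CommRing B₀] [CommRing C₀]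
    [CommRing A'] [CommRing A''] [Algebra A₀ B₀] [Algebra B₀ C₀] [Algebra A₀ A'] [Algebra A₀ A'']
    (φ : A' →ₐ[A₀] A'')
    (h : _root_.Synt.IsSyntomic (B₀ ⊗[A₀] A') ((B₀ ⊗[A₀] A') ⊗[B₀] C₀)) :
    _root_.Synt.IsSyntomic (B₀ ⊗[A₀] A'') ((B₀ ⊗[A₀] A'') ⊗[B₀] C₀) := by
  let Φ : B₀ ⊗[A₀] A' →ₐ[B₀] B₀ ⊗[A₀] A'' := Algebra.TensorProduct.map (AlgHom.id B₀ B₀) φ
  letI : Algebra (B₀ ⊗[A₀] A') (B₀ ⊗[A₀] A'') := Φ.toRingHom.toAlgebra
  haveI : IsScalarTower B₀ (B₀ ⊗[A₀] A') (B₀ ⊗[A₀] A'') :=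
    IsScalarTower.of_algebraMap_eq (fun b => (Φ.commutes b).symm)
  exact isSyntomic_bc_abs B₀ C₀ (B₀ ⊗[A₀] A') (B₀ ⊗[A₀] A'') h

theorem main_generic {ι : Type u} [Preorder ι]
    (A₀ : Type u) [CommRing A₀] (G : ι → Type u) [∀ i, CommRing (G i)] [∀ i, Algebra A₀ (G i)]
    (A : Type u) [CommRing A] [Algebra A₀ A]
    (P : Type u) [CommRing P] [Algebra A₀ P] (ev : P →ₐ[A₀] A) (hev : Function.Surjective ev)
    (hlift : ∀ s : Finset P, (∀ p ∈ s, ev p = 0) →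
      ∃ i, ∃ ψ : P →ₐ[A₀] G i, ∀ p ∈ s, ψ p = 0)
    (B₀ : Type u) [CommRing B₀] [Algebra A₀ B₀] (C₀ : Type u) [CommRing C₀]
    [Algebra B₀ C₀] [Algebra.FinitePresentation B₀ C₀]
    (h : _root_.Synt.IsSyntomic (B₀ ⊗[A₀] A) ((B₀ ⊗[A₀] A) ⊗[B₀] C₀)) :
    ∃ i, _root_.Synt.IsSyntomic (B₀ ⊗[A₀] G i) ((B₀ ⊗[A₀] G i) ⊗[B₀] C₀) := by
  classical
  set K : Ideal P := RingHom.ker ev with hK
  let eA : (P ⧸ K) ≃ₐ[A₀] A := Ideal.quotientKerAlgEquivOfSurjective hev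
  have hQ1 : _root_.Synt.IsSyntomic (B₀ ⊗[A₀] (P ⧸ K)) ((B₀ ⊗[A₀] (P ⧸ K)) ⊗[B₀] C₀) :=
    isSyntomic_tensor_bc (B₀ := B₀) (C₀ := C₀) eA.symm.toAlgHom h
  letI : ∀ a : FGSub P K, Algebra (B₀ ⊗[A₀] (P ⧸ a.1)) (B₀ ⊗[A₀] (P ⧸ K)) :=
    fun a => tensAlg (fun a : FGSub P K => P ⧸ a.1) (P ⧸ K) B₀ a
  haveI : ∀ a : FGSub P K, IsScalarTower B₀ (B₀ ⊗[A₀] (P ⧸ a.1)) (B₀ ⊗[A₀] (P ⧸ K)) :=
    fun a => tens_tower (fun a : FGSub P K => P ⧸ a.1) (P ⧸ K) B₀ a
  have hcol := tens_colim (fun a : FGSub P K => P ⧸ a.1)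
    (fun a b h => Ideal.Quotient.factorₐ A₀ (show a.1 ≤ b.1 from h)) (P ⧸ K)
    (quotSys_colim P K) B₀
  obtain ⟨a, ha⟩ := exists_stage_isSyntomic (A₀ := B₀)
    (fun a : FGSub P K => B₀ ⊗[A₀] (P ⧸ a.1))
    (fun a b h => tGB (fun a : FGSub P K => P ⧸ a.1)
      (fun a b h => Ideal.Quotient.factorₐ A₀ (show a.1 ≤ b.1 from h)) B₀ a b h)
    (B₀ ⊗[A₀] (P ⧸ K)) hcol C₀ hQ1
  obtain ⟨s, hs⟩ := a.2.1
  have hsK : ∀ p ∈ s, ev p = 0 := by
    intro p hp
    have hpK : p ∈ K := a.2.2 (hs ▸ Ideal.subset_span hp)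
    exact hpK
  obtain ⟨i, ψ, hb⟩ := hlift s hsK
  have hψ : ∀ p ∈ a.1, ψ p = 0 := by
    have hle : a.1 ≤ RingHom.ker ψ := by
      rw [← hs, Ideal.span_le]
      intro p hp
      exact hb p hp
    intro p hp
    exact hle hp
  let ψ' : P ⧸ a.1 →ₐ[A₀] G i := Ideal.Quotient.liftₐ a.1 ψ hψ
  exact ⟨i, isSyntomic_tensor_bc ψ' ha⟩

theorem S9423_main {ι : Type u} [Preorder ι] [IsDirected ι (· ≤ ·)] [Nonempty ι]
    (A₀ : Type u) [CommRing A₀] (G : ι → Type u) [∀ i, CommRing (G i)] [∀ i, Algebra A₀ (G i)]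
    (f : ∀ i j, i ≤ j → (G i →ₐ[A₀] G j)) (A : Type u) [CommRing A] [Algebra A₀ A]
    (g : ∀ i, G i →ₐ[A₀] A) (hg : ∀ i j (h : i ≤ j), (g j).comp (f i j h) = g i)
    (hsurj : ∀ a : A, ∃ i, ∃ x : G i, g i x = a)
    (hker : ∀ i (x : G i), g i x = 0 → ∃ j, ∃ h : i ≤ j, f i j h x = 0)
    (B₀ : Type u) [CommRing B₀] [Algebra A₀ B₀] (C₀ : Type u) [CommRing C₀] [Algebra A₀ C₀]
    [Algebra B₀ C₀] [IsScalarTower A₀ B₀ C₀] [Algebra.FinitePresentation B₀ C₀]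
    (h : _root_.Synt.IsSyntomic (B₀ ⊗[A₀] A) ((B₀ ⊗[A₀] A) ⊗[B₀] C₀)) :
    ∃ i, _root_.Synt.IsSyntomic (B₀ ⊗[A₀] G i) ((B₀ ⊗[A₀] G i) ⊗[B₀] C₀) := by
  classical
  refine main_generic A₀ G A (MvPolynomial A A₀) (MvPolynomial.aeval id) ?_ ?_ B₀ C₀ h
  · intro a
    exact ⟨MvPolynomial.X a, by rw [MvPolynomial.aeval_X]; rfl⟩
  · intro s hs
    obtain ⟨i, b, hb⟩ := exists_aeval_kill A₀ G f A g hg hsurj hker s hs
    exact ⟨i, MvPolynomial.aeval b, hb⟩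

end Groth.Agent.Lead.SyntColim
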