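import Mathlib
import Groth.Agent.Lib.Helper1.TwForm4
import Groth.Agent.Lib.Helper1.TensGen
import Groth.Agent.Lib.Helper1.TwistSec

set_option autoImplicit false
set_option backward.isDefEq.respectTransparency.types false
set_option synthInstance.maxHeartbeats 400000
set_option linter.style.haveILetI false
set_option linter.unusedSectionVars false
universe u
open CategoryTheory CategoryTheory.Limits AlgebraicGeometry TopologicalSpace Opposite

namespace Groth.Agent.Lead.TInv

open Groth.Agent.Helper1.QcCech Groth.Agent.Helper1.LGen Groth.Agent.Helper1.TmulLib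
  Groth.Agent.Helper1.TensGen Groth.Agent.Helper1

variable {X : Scheme.{u}} {L N : X.Modules} (ψ : CohB1.tensorMod L N ⟶ Coh.structureModule X)

/-- the value of `ψ` on a section of the tensor product, as a function -/
noncomputable def ev (U : X.Opens) (ξ : Γ(CohB1.tensorMod L N, U)) : Γ(X, U) := ψ.app U ξ

theorem ev_add (U : X.Opens) (ξ η : Γ(CohB1.tensorMod L N, U)) :
    ev ψ U (ξ + η) = ev ψ U ξ + ev ψ U η := map_add (ψ.app U).hom ξ η

theorem ev_smul (U : X.Opens) (r : Γ(X, U)) (ξ : Γ(CohB1.tensorMod L N, U)) :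
    ev ψ U (r • ξ) = r * ev ψ U ξ := Scheme.Modules.Hom.app_smul ψ r ξ

theorem ev_zero (U : X.Opens) : ev ψ U 0 = 0 := map_zero (ψ.app U).hom

theorem ev_res {U V : X.Opens} (h : V ≤ U) (ξ : Γ(CohB1.tensorMod L N, U)) :
    ev ψ V (res _ h ξ) = resR h (ev ψ U ξ) := QcExt.app_res ψ h ξ

/-- the contraction `a ⊗ b ↦ ψ(g ⊗ b) • a` on the sectionwise tensor product -/
noncomputable def rho (W : X.Opens) (g : Γ(L, W)) :
    (CohB1.tensorPre L N).obj (op W) ⟶ (CohB1.toPMod L).obj (op W) :=
  ModuleCat.MonoidalCategory.tensorLift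
    (fun (a : (CohB1.toPMod L).obj (op W)) (b : (CohB1.toPMod N).obj (op W)) =>
      (show (X.sheaf.obj ⋙ forget₂ CommRingCat RingCat.{u}).obj (op W) from
        ev ψ W (tm L N W g b)) • a)
    (fun a a' b => smul_add _ a a')
    (fun r a b => smul_comm _ r a)
    (fun a b b' => by
      have h2 : ev ψ W (tm L N W g (b + b')) =
          ev ψ W (tm L N W g b) + ev ψ W (tm L N W g b') := by
        have h1 : tm L N W g (b + b') = tm L N W g b + tm L N W g b' := tm_add_right L N W g b b'
        rw [h1, ev_add]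
      change (ev ψ W (tm L N W g (b + b'))) • a =
        ev ψ W (tm L N W g b) • a + ev ψ W (tm L N W g b') • a
      rw [h2, add_smul])
    (fun r a b => by
      have h2 : ev ψ W (tm L N W g (r • b)) = (show Γ(X, W) from r) * ev ψ W (tm L N W g b) := by
        have h1 : tm L N W g (r • b) = (show Γ(X, W) from r) • tm L N W g b :=
          tm_smul_right L N W r g b
        rw [h1, ev_smul]
      change (ev ψ W (tm L N W g (r • b))) • a =
        (show Γ(X, W) from r) • (ev ψ W (tm L N W g b) • a)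
      rw [h2, mul_smul])

theorem rho_pure (W : X.Opens) (g : Γ(L, W)) (a : Γ(L, W)) (b : Γ(N, W)) :
    (rho ψ W g).hom (pure L N W a b) = ev ψ W (tm L N W g b) • a := rfl

theorem resP_smul {U V : X.Opens} (h : V ≤ U) (r : Γ(X, U))
    (p : (CohB1.tensorPre L N).obj (op U)) :
    resP L N h ((show (X.sheaf.obj ⋙ forget₂ CommRingCat RingCat.{u}).obj (op U) from r) • p) =
      (show (X.sheaf.obj ⋙ forget₂ CommRingCat RingCat.{u}).obj (op V) from resR h r) •
        resP L N h p :=
  PresheafOfModules.map_smul (CohB1.tensorPre L N : X.PresheafOfModules) (homOfLE h).op r p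

theorem toT_smul (U : X.Opens) (r : Γ(X, U)) (p : (CohB1.tensorPre L N).obj (op U)) :
    toT L N U ((show (X.sheaf.obj ⋙ forget₂ CommRingCat RingCat.{u}).obj (op U) from r) • p) =
      r • toT L N U p :=
  ((SecTwist.toTensor L N).app (op U)).hom.map_smul r p

theorem rho_smul (W : X.Opens) (g : Γ(L, W)) (r : Γ(X, W))
    (p : (CohB1.tensorPre L N).obj (op W)) :
    (rho ψ W g).hom ((show (X.sheaf.obj ⋙ forget₂ CommRingCat RingCat.{u}).obj (op W) from r) • p) =
      r • ((rho ψ W g).hom p : Γ(L, W)) :=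
  (rho ψ W g).hom.map_smul _ p

theorem key (hinj : ∀ U : X.Opens, Function.Injective (ev ψ U)) (V : X.Opens)
    (g s : Γ(L, V)) (h : Γ(N, V)) :
    ev ψ V (tm L N V g h) • (ev ψ V (tm L N V g h) • s) =
      ev ψ V (tm L N V g h) • (ev ψ V (tm L N V s h) • g) := by
  let u : Γ(X, V) := ev ψ V (tm L N V g h)
  let c : Γ(X, V) := ev ψ V (tm L N V s h)
  let ξ : (CohB1.tensorPre L N).obj (op V) :=
    (show (X.sheaf.obj ⋙ forget₂ CommRingCat RingCat.{u}).obj (op V) from u) • pure L N V s h
  let η : (CohB1.tensorPre L N).obj (op V) :=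
    (show (X.sheaf.obj ⋙ forget₂ CommRingCat RingCat.{u}).obj (op V) from c) • pure L N V g h
  have hT : toT L N V ξ = toT L N V η := by
    apply hinj V
    rw [toT_smul, toT_smul, toT_pure, toT_pure, ev_smul, ev_smul]
    exact mul_comm _ _
  apply TwistSec.eq_of_locally L
  intro y hy
  obtain ⟨W, hW, hyW, hres⟩ := toT_locally_injective L N V ξ η hT y hy
  refine ⟨W, hW, hyW, ?_⟩
  have h1 := congrArg (rho ψ W (res L hW g)).hom hres
  rw [resP_smul, resP_smul, resP_pure, resP_pure, rho_smul, rho_smul, rho_pure, rho_pure,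
    ← res_tm, ev_res] at h1
  rw [res_smul, res_smul, res_smul, res_smul, smul_comm (resR hW (ev ψ V (tm L N V g h)))
    (resR hW (ev ψ V (tm L N V s h)))]
  exact h1

theorem isGen_of_isUnit (hinj : ∀ U : X.Opens, Function.Injective (ev ψ U)) (W : X.Opens)
    (g : Γ(L, W)) (h : Γ(N, W)) (hu : IsUnit (ev ψ W (tm L N W g h))) : IsGen L W g := by
  intro V hV
  have huV : IsUnit (ev ψ V (tm L N V (res L hV g) (res N hV h))) := by
    rw [← res_tm, ev_res]
    exact hu.map (resR hV)
  constructor
  · intro r r' hrr'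
    have h1 := congrArg (fun a => ev ψ V (tm L N V a (res N hV h))) hrr'
    simp only [] at h1
    rw [tm_smul_left, tm_smul_left, ev_smul, ev_smul] at h1
    exact huV.mul_left_injective h1
  · intro s
    have hk := key ψ hinj V (res L hV g) s (res N hV h)
    have hk2 := huV.smul_left_cancel.1 hk
    obtain ⟨v, hv⟩ := huV
    refine ⟨(↑v⁻¹ : Γ(X, V)) * ev ψ V (tm L N V s (res N hV h)), ?_⟩
    change ((↑v⁻¹ : Γ(X, V)) * ev ψ V (tm L N V s (res N hV h))) • res L hV g = s
    rw [mul_smul, ← hk2, ← hv, ← mul_smul, Units.inv_mul, one_smul]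

theorem toT_add (U : X.Opens) (p q : (CohB1.tensorPre L N).obj (op U)) :
    toT L N U (p + q) = toT L N U p + toT L N U q :=
  map_add ((SecTwist.toTensor L N).app (op U)).hom p q

theorem toT_zero (U : X.Opens) : toT L N U (0 : (CohB1.tensorPre L N).obj (op U)) = 0 :=
  map_zero ((SecTwist.toTensor L N).app (op U)).hom

theorem exists_pair_isUnit_germ (x : X) (V : X.Opens) (hx : x ∈ V)
    (p : (CohB1.tensorPre L N).obj (op V))
    (hp : IsUnit ((X.presheaf.germ V x hx).hom (ev ψ V (toT L N V p)))) :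
    ∃ (s : Γ(L, V)) (t : Γ(N, V)),
      IsUnit ((X.presheaf.germ V x hx).hom (ev ψ V (tm L N V s t))) := by
  induction p using TensorProduct.induction_on with
  | zero =>
    exfalso
    have hp' : IsUnit ((X.presheaf.germ V x hx).hom
      (ev ψ V (toT L N V (0 : (CohB1.tensorPre L N).obj (op V))))) := hp
    rw [toT_zero, ev_zero, map_zero] at hp'
    exact not_isUnit_zero hp'
  | tmul a b => exact ⟨a, b, hp⟩
  | add p q ihp ihq =>
    have hp' : IsUnit ((X.presheaf.germ V x hx).hom
      (ev ψ V (toT L N V ((show (CohB1.tensorPre L N).obj (op V) from p) +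
        (show (CohB1.tensorPre L N).obj (op V) from q))))) := hp
    rw [toT_add, ev_add, map_add] at hp'
    rcases IsLocalRing.isUnit_or_isUnit_of_isUnit_add hp' with h | h
    · exact ihp h
    · exact ihq h

theorem main (L N : X.Modules) (e : CohB1.tensorMod L N ≅ Coh.structureModule X) :
    PicF.IsInvertible L := by
  apply TwForm.isInvertible_of_locGen
  intro x
  have hbij : ∀ U : X.Opens, Function.Bijective (ev e.hom U) := by
    intro U
    have : IsIso (e.hom.app U) := inferInstance
    exact (ConcreteCategory.isIso_iff_bijective _).1 this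
  have hinj : ∀ U : X.Opens, Function.Injective (ev e.hom U) := fun U => (hbij U).1
  obtain ⟨one, hone⟩ := (hbij ⊤).2 (1 : Γ(X, ⊤))
  obtain ⟨V, hV, p, hxV, hp⟩ := toT_locally_surjective L N ⊤ one x trivial
  have hunit : IsUnit ((X.presheaf.germ V x hxV).hom (ev e.hom V (toT L N V p))) := by
    rw [hp, ev_res, hone, map_one, map_one]
    exact isUnit_one
  obtain ⟨s, t, hst⟩ := exists_pair_isUnit_germ e.hom x V hxV p hunit
  have hxW : x ∈ X.basicOpen (ev e.hom V (tm L N V s t)) := (X.mem_basicOpen _ x hxV).2 hst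
  have hW : X.basicOpen (ev e.hom V (tm L N V s t)) ≤ V := X.basicOpen_le _
  refine ⟨X.basicOpen (ev e.hom V (tm L N V s t)), res L hW s, hxW,
    isGen_of_isUnit e.hom hinj _ (res L hW s) (res N hW t) ?_⟩
  rw [← res_tm, ev_res]
  exact (GenLoc.isUnit_res_iff _ _ hW).2 le_rfl

end Groth.Agent.Lead.TInv
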