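import Mathlib
import Groth.Prelude.Def_ModSite
import Groth.Prelude.Def_CohB1
import Groth.Agent.Lib.Helper5.Misc.TensorSheaf
import Groth.Agent.Lib.Lead.TilT4

/-!
# Tensor products of modules on schemes and finite direct sums (lead)
-/

set_option backward.isDefEq.respectTransparency.types false
set_option autoImplicit false
universe u
open CategoryTheory CategoryTheory.Limits AlgebraicGeometry

namespace Groth.Agent.Lead.TenSum

variable {X : Scheme.{u}}

/-- `- ⊗ N` as a functor. -/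
noncomputable abbrev tR (N : X.Modules) : X.Modules ⥤ X.Modules :=
  (ModSite.tensorBi X.sheaf).flip.obj N

/-- `M ⊗ -` as a functor. -/
noncomputable abbrev tL (M : X.Modules) : X.Modules ⥤ X.Modules :=
  (ModSite.tensorBi X.sheaf).obj M

theorem tR_obj (M N : X.Modules) : (tR N).obj M = CohB1.tensorMod M N := rfl

theorem tL_obj (M N : X.Modules) : (tL M).obj N = CohB1.tensorMod M N := rfl

/-- `(⊕_r A) ⊗ N ≅ ⊕_r (A ⊗ N)` -/
noncomputable def sigmaLeftIso (r : ℕ) (A N : X.Modules) :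
    CohB1.tensorMod (∐ fun _ : Fin r => A) N ≅ ∐ fun _ : Fin r => CohB1.tensorMod A N :=
  haveI h0 : PreservesColimitsOfSize.{u, u} (tR N) :=
    Groth.Agent.Lib.Helper5.TensorSheaf.tensorBi_flip_obj_preservesColimits X.sheaf N
  haveI : PreservesColimitsOfSize.{0, 0} (tR N) :=
    @preservesSmallestColimits_of_preservesColimits _ _ _ _ (tR N) h0
  PreservesCoproduct.iso (tR N) (fun _ : Fin r => A)

/-- `M ⊗ (⊕_s B) ≅ ⊕_s (M ⊗ B)` -/
noncomputable def sigmaRightIso (s : ℕ) (M B : X.Modules) :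
    CohB1.tensorMod M (∐ fun _ : Fin s => B) ≅ ∐ fun _ : Fin s => CohB1.tensorMod M B :=
  haveI h0 : PreservesColimitsOfSize.{u, u} (tL M) :=
    Groth.Agent.Lib.Helper5.TensorSheaf.tensorBi_obj_preservesColimits X.sheaf M
  haveI : PreservesColimitsOfSize.{0, 0} (tL M) :=
    @preservesSmallestColimits_of_preservesColimits _ _ _ _ (tL M) h0
  PreservesCoproduct.iso (tL M) (fun _ : Fin s => B)

/-- `(⊕_r A) ⊗ (⊕_s B) ≅ ⊕_{rs} (A ⊗ B)` -/
theorem nonempty_tensor_pow_pow (A B : X.Modules) (r s : ℕ) :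
    Nonempty (CohB1.tensorMod (∐ fun _ : Fin r => A) (∐ fun _ : Fin s => B) ≅
      ∐ fun _ : Fin (r * s) => CohB1.tensorMod A B) := by
  let e1 := sigmaLeftIso r A (∐ fun _ : Fin s => B)
  let e2 : (∐ fun _ : Fin r => CohB1.tensorMod A (∐ fun _ : Fin s => B)) ≅
      ∐ fun _ : Fin r => ∐ fun _ : Fin s => CohB1.tensorMod A B :=
    Sigma.mapIso (fun _ => sigmaRightIso s A B)
  let e3 := sigmaSigmaIso (fun _ : Fin r => Fin s) (fun _ _ => CohB1.tensorMod A B)
  let e4 : (∐ fun _ : (Σ _ : Fin r, Fin s) => CohB1.tensorMod A B) ≅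
      ∐ fun _ : Fin (r * s) => CohB1.tensorMod A B :=
    Sigma.whiskerEquiv (f := fun _ : (Σ _ : Fin r, Fin s) => CohB1.tensorMod A B)
      (g := fun _ : Fin (r * s) => CohB1.tensorMod A B)
      ((Equiv.sigmaEquivProd (Fin r) (Fin s)).trans finProdFinEquiv)
      (fun _ => Iso.refl _)
  exact ⟨e1 ≪≫ e2 ≪≫ e3 ≪≫ e4⟩

end Groth.Agent.Lead.TenSum
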