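import Mathlib
import Groth.Prelude.Def_ThetaGrp
import Groth.Agent.Lib.Lead.PicCalcGrp

/-!
# Points of the theta group over translations and the subgroup K(L) (lead)
-/

set_option autoImplicit false
set_option linter.style.haveILetI false
universe u

open CategoryTheory CategoryTheory.Limits MonoidalCategory CartesianMonoidalCategory MonObj AlgebraicGeometry
open Pseudofunctor Bicategory Opposite

namespace Groth.Agent.Lead.ThetaPts

open Groth.Agent.Lead.PicCalc Groth.Agent.Lead.PicCalcGrp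

section Aux

theorem isIso_of_comp_aux {C D : Type*} [Category C] [Category D] (G : D ⥤ C) {a a₁ a₂ : C} {b' b'' : D}
    (f : a ⟶ G.obj b') (g : b' ⟶ b'') (c₁ : G.obj b'' ⟶ a₁) (J₁ : a ⟶ a₂) (J₂ : a₂ ⟶ a₁)
    (h : f ≫ G.map g ≫ c₁ = J₁ ≫ J₂) (hc : IsIso c₁) (h₁ : IsIso J₁) (h₂ : IsIso J₂)
    (r : b'' ⟶ b') (hr : g ≫ r = 𝟙 _) : IsIso f := by
  have hu : f ≫ G.map g = (J₁ ≫ J₂) ≫ inv c₁ := by
    rw [← h, Category.assoc, Category.assoc, IsIso.hom_inv_id, Category.comp_id]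
  haveI : IsIso (f ≫ G.map g) := by rw [hu]; infer_instance
  haveI : IsSplitMono g := ⟨⟨⟨r, hr⟩⟩⟩
  haveI : Epi (G.map g) := epi_of_epi f (G.map g)
  haveI : IsIso (G.map g) := isIso_of_epi_of_isSplitMono _
  exact IsIso.of_isIso_comp_right f (G.map g)

theorem isIso_eqToHom' {C : Type*} [Category C] {a b : C} (p : a = b) : IsIso (eqToHom p) :=
  inferInstance

theorem splitMono_aux {C : Type*} [Category C] {a b c c' : C} (g : a ⟶ b) (W : b ⟶ c)
    (J₁ : a ⟶ c') (J₂ : c' ⟶ c) (h : g ≫ W = J₁ ≫ J₂) (h₁ : IsIso J₁) (h₂ : IsIso J₂) :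
    ∃ r, g ≫ r = 𝟙 a :=
  ⟨W ≫ inv J₂ ≫ inv J₁, by rw [← Category.assoc, h]; simp⟩

end Aux

section General

universe v₂ u₂ v₁ u₁
variable {𝒮 : Type u₁} [Category.{v₁} 𝒮] {F : LocallyDiscrete 𝒮ᵒᵖ ⥤ᵖ Cat.{v₂, u₂}}

open CoGrothendieck

theorem isIso_fiber {X Y : ∫ᶜ F} (φ : X ⟶ Y) [IsIso φ] : IsIso φ.fiber := by
  have h1 := Hom.congr (IsIso.hom_inv_id φ)
  have h2 := Hom.congr (IsIso.inv_hom_id φ)
  rw [categoryStruct_comp_fiber, categoryStruct_id_fiber] at h1 h2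
  have hY : IsIso ((F.mapId ⟨op Y.base⟩).inv.toNatTrans.app Y.fiber) := inferInstance
  have hX : IsIso ((F.mapId ⟨op X.base⟩).inv.toNatTrans.app X.fiber) := inferInstance
  have hC : IsIso ((F.mapComp (inv φ).base.op.toLoc φ.base.op.toLoc).inv.toNatTrans.app X.fiber) :=
    inferInstance
  obtain ⟨r, hr⟩ := splitMono_aux _ _ _ _ h2 hY (isIso_eqToHom' _)
  exact isIso_of_comp_aux _ _ _ _ _ _ h1 hC hX (isIso_eqToHom' _) r hr

theorem nonempty_iso_of_aut {X : ∫ᶜ F} (α : Aut X) (g : X.base ⟶ X.base) (hg : α.hom.base = g) :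
    Nonempty (X.fiber ≅ (F.map g.op.toLoc).toFunctor.obj X.fiber) := by
  subst hg
  haveI : IsIso α.hom := Iso.isIso_hom α
  exact ⟨@asIso _ _ _ _ α.hom.fiber (isIso_fiber α.hom)⟩

theorem exists_aut (X : ∫ᶜ F) (f : X.base ⟶ X.base) [IsIso f]
    (h : X.fiber ≅ (F.map f.op.toLoc).toFunctor.obj X.fiber) : ∃ α : Aut X, α.hom.base = f := by
  obtain ⟨B, a⟩ := X
  change B ⟶ B at f
  haveI : IsIso (cartesianLift a f) := by
    haveI := isStronglyCartesian_homCartesianLift (F := F) a f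
    exact Functor.IsStronglyCartesian.isIso_of_base_isIso (forget F) f (cartesianLift a f)
  let e1 : (⟨B, a⟩ : ∫ᶜ F) ≅ domainCartesianLift a f := (CoGrothendieck.ι F B).mapIso h
  let e2 : domainCartesianLift a f ≅ (⟨B, a⟩ : ∫ᶜ F) := asIso (cartesianLift a f)
  refine ⟨e1 ≪≫ e2, ?_⟩
  change 𝟙 B ≫ f = f
  exact Category.id_comp f

end General

section Theta

variable {S : Scheme.{u}} (A : Over S) [GrpObj A] (L : A.left.Modules)

theorem isIso_transl {T : Over S} (x : T ⟶ A) : IsIso (ThetaGrp.transl A x) :=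
  ⟨ThetaGrp.transl A x⁻¹,
    by rw [← ThetaGrp.transl_mul, mul_inv_cancel, ThetaGrp.transl_one],
    by rw [← ThetaGrp.transl_mul, inv_mul_cancel, ThetaGrp.transl_one]⟩

theorem isIso_transl_left {T : Over S} (x : T ⟶ A) : IsIso (ThetaGrp.transl A x).left := by
  haveI := isIso_transl A x
  exact inferInstanceAs (IsIso ((Over.forget S).map (ThetaGrp.transl A x)))

theorem overPt_iff (T : Over S) (x : T ⟶ A) :
    (∃ β : ThetaGrp.thetaPts A L T, ThetaGrp.IsOverPt β x) ↔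
      pl (fst A T) (PicF.cl L) = pl (fst A T * (snd A T ≫ x)) (PicF.cl L) := by
  rw [← ThetaGrp.transl_fst, pl_comp]
  constructor
  · rintro ⟨β, hβ⟩
    obtain ⟨e⟩ := nonempty_iso_of_aut β.1 _ hβ
    exact cl_eq_of_iso e
  · intro h
    obtain ⟨e⟩ := nonempty_iso_of_cl_eq h
    haveI := isIso_transl_left A x
    obtain ⟨α, hα⟩ := exists_aut (ThetaGrp.thetaObj A L T) (ThetaGrp.transl A x).left e
    exact ⟨⟨α, ⟨x, hα⟩⟩, hα⟩

end Theta

section Main

theorem glue_of_mono {X Y Z : Scheme.{u}} (i : Y ⟶ Z) [Mono i] (x : X ⟶ Z) {s : Type u}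
    (U : s → X.Opens) (hU : TopologicalSpace.IsOpenCover U) (y : ∀ t, (U t : Scheme.{u}) ⟶ Y)
    (hy : ∀ t, y t ≫ i = (U t).ι ≫ x) : ∃ g : X ⟶ Y, g ≫ i = x := by
  have hcompat : ∀ a b : s,
      pullback.fst (U a).ι (U b).ι ≫ y a = pullback.snd (U a).ι (U b).ι ≫ y b := by
    intro a b
    rw [← cancel_mono i, Category.assoc, Category.assoc, hy, hy]
    exact pullback.condition_assoc _
  refine ⟨(X.openCoverOfIsOpenCover U hU).glueMorphisms y hcompat, ?_⟩
  apply (X.openCoverOfIsOpenCover U hU).hom_ext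
  intro t
  have h1 := (X.openCoverOfIsOpenCover U hU).ι_glueMorphisms y hcompat t
  exact ((Category.assoc _ _ _).symm.trans ((congrArg (· ≫ i) h1).trans (hy t)))

theorem pl_restrict_eq_one {S : Scheme.{u}} {T A : Over S} (x : T ⟶ A) (L : A.left.Modules)
    (U : T.left.Opens)
    (e : ((Scheme.Modules.pullback x.left).obj L).restrict U.ι ≅ Coh.structureModule (↑U)) :
    pl ((Over.homMk U.ι rfl : Over.mk (U.ι ≫ T.hom) ⟶ T) ≫ x) (PicF.cl L) = 1 := by
  rw [pl_comp, pl_cl]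
  change PicF.pullCl U.ι (PicF.cl ((Scheme.Modules.pullback x.left).obj L)) = 1
  rw [cl_restrict]
  exact cl_eq_of_iso e

theorem s19945 (k : Type u) [Field k]
    (A : Over (Spec (CommRingCat.of k))) [GrpObj A] [IsCommMonObj A]
    (L : A.left.Modules) (hL : PicF.IsInvertible L)
    (K : Over (Spec (CommRingCat.of k))) (iK : K ⟶ A) (hK : ThetaGrp.IsKL A L iK)
    (T : Over (Spec (CommRingCat.of k))) (x : T ⟶ A) :
    (∃ y : T ⟶ K, y ≫ iK = x) ↔
      ∀ t : ↥T.left, ∃ U : T.left.Opens, t ∈ U ∧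
        ∃ β : ThetaGrp.thetaPts A L (Over.mk (U.ι ≫ T.hom)),
          ThetaGrp.IsOverPt β ((Over.homMk U.ι rfl : Over.mk (U.ι ≫ T.hom) ⟶ T) ≫ x) := by
  have hP : PicF.IsInvertibleCl (PicF.cl L) := isInvertibleCl_cl hL
  constructor
  · rintro ⟨y, hy⟩ t
    have hMT : ThetaGrp.IsMumfordTriv A L x := (hK.univ T x).mpr ⟨y, hy⟩
    obtain ⟨c, hc, hrel⟩ := (isMumfordTriv_iff A L x).mp hMT
    have hc1 : c = 1 := Rel.eq_one (unit_trivial k) hP hrel
    subst hc1
    have hxL : PicF.IsInvertible ((Scheme.Modules.pullback x.left).obj L) :=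
      Groth.Agent.Helper1.PullGen.isInvertible_pullback x.left hL
    obtain ⟨U, htU, ⟨e⟩⟩ := hxL t
    refine ⟨U, htU, ?_⟩
    rw [overPt_iff]
    have h := hrel (A ⊗ Over.mk (U.ι ≫ T.hom)) (fst A (Over.mk (U.ι ≫ T.hom)))
      (snd A (Over.mk (U.ι ≫ T.hom)) ≫ (Over.homMk U.ι rfl : Over.mk (U.ι ≫ T.hom) ⟶ T))
    rw [pl_one, _root_.one_mul, Category.assoc,
      pl_comp (snd A (Over.mk (U.ι ≫ T.hom))) ((Over.homMk U.ι rfl : Over.mk (U.ι ≫ T.hom) ⟶ T) ≫ x),
      pl_restrict_eq_one x L U e, pl_one, _root_.mul_one] at h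
    exact h
  · intro hloc
    choose U htU β hβ using hloc
    have hfac : ∀ t : ↥T.left, ∃ y : Over.mk ((U t).ι ≫ T.hom) ⟶ K,
        y ≫ iK = (Over.homMk (U t).ι rfl : Over.mk ((U t).ι ≫ T.hom) ⟶ T) ≫ x := by
      intro t
      apply (hK.univ _ _).mp
      rw [isMumfordTriv_iff]
      have h0 := (overPt_iff A L _ _).mp ⟨β t, hβ t⟩
      obtain ⟨c, hc, hcinv⟩ := exists_inv_of_isInvertibleCl
        (isInvertibleCl_pl ((Over.homMk (U t).ι rfl : Over.mk ((U t).ι ≫ T.hom) ⟶ T) ≫ x) hP)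
      refine ⟨c, hc, (rel_iff A _ _ _).mp ?_⟩
      rw [whiskerLeft_comp_mul, ← h0, pl_comp (snd A (Over.mk ((U t).ι ≫ T.hom)))
        ((Over.homMk (U t).ι rfl : Over.mk ((U t).ι ≫ T.hom) ⟶ T) ≫ x)]
      calc _ = pl (snd A (Over.mk ((U t).ι ≫ T.hom)))
              (c * pl ((Over.homMk (U t).ι rfl : Over.mk ((U t).ι ≫ T.hom) ⟶ T) ≫ x) (PicF.cl L)) *
              pl (fst A (Over.mk ((U t).ι ≫ T.hom))) (PicF.cl L) := by
            rw [pl_mul]
            simp only [_root_.mul_assoc, _root_.mul_comm, _root_.mul_left_comm]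
        _ = _ := by
            rw [hcinv, pl_one, _root_.one_mul]
    choose y hy using hfac
    haveI : IsClosedImmersion iK.left := hK.closed
    have hcov : TopologicalSpace.IsOpenCover U :=
      TopologicalSpace.IsOpenCover.mk (eq_top_iff.mpr fun t _ => TopologicalSpace.Opens.mem_iSup.mpr ⟨t, htU t⟩)
    have hyl : ∀ t, (y t).left ≫ iK.left = (U t).ι ≫ x.left := by
      intro t
      have := congrArg (fun f => f.left) (hy t)
      exact this
    obtain ⟨g, hgi⟩ := glue_of_mono iK.left x.left U hcov (fun t => (y t).left) hyl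
    refine ⟨Over.homMk g ?_, ?_⟩
    · rw [← Over.w iK, ← Category.assoc, hgi, Over.w x]
    · ext
      exact hgi

end Main

end Groth.Agent.Lead.ThetaPts
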