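import Mathlib
import Groth.Agent.Lib.Lead.NOS1

/-!
# Sections of finite morphisms over an integrally closed domain, and finiteness of field points (lead)
-/

set_option backward.isDefEq.respectTransparency.types false
set_option autoImplicit false
set_option synthInstance.maxHeartbeats 400000
set_option maxHeartbeats 1000000
set_option linter.style.haveILetI false
set_option linter.unusedSectionVars false
set_option linter.unusedSimpArgs false

universe u

open CategoryTheory CategoryTheory.Limits AlgebraicGeometry

namespace Groth.Agent.Lead.TorsReg

/-- ring-level extension: an integral `R`-algebra `B` mapping to the fraction field of an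
integrally closed domain `R` maps to `R`. -/
theorem exists_lift_of_integral (R K B : Type*) [CommRing R] [IsDomain R] [Field K] [Algebra R K]
    [IsFractionRing R K] [IsIntegrallyClosed R] [CommRing B] (ψ : R →+* B) (hψ : ψ.IsIntegral)
    (φ : B →+* K) (h : φ.comp ψ = algebraMap R K) :
    ∃ χ : B →+* R, (algebraMap R K).comp χ = φ ∧ χ.comp ψ = RingHom.id R := by
  have hinj : Function.Injective (algebraMap R K) := IsFractionRing.injective R K
  have key : ∀ b : B, ∃ r : R, algebraMap R K r = φ b := by
    intro b
    have h1 : (algebraMap R K).IsIntegralElem (φ b) := by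
      have h2 := hψ b
      have h3 : (φ.comp ψ).IsIntegralElem (φ b) := by
        obtain ⟨p, hp, hpb⟩ := h2
        refine ⟨p, hp, ?_⟩
        rw [← Polynomial.hom_eval₂, hpb, map_zero]
      rwa [h] at h3
    exact IsIntegrallyClosed.algebraMap_eq_of_integral h1
  choose c hc using key
  let χ : B →+* R :=
    { toFun := c
      map_one' := hinj (by rw [hc, map_one, map_one])
      map_mul' := fun a b => hinj (by rw [hc, map_mul, map_mul, hc, hc])
      map_zero' := hinj (by rw [hc, map_zero, map_zero])
      map_add' := fun a b => hinj (by rw [hc, map_add, map_add, hc, hc]) }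
  refine ⟨χ, RingHom.ext fun b => hc b, RingHom.ext fun r => hinj ?_⟩
  show algebraMap R K (c (ψ r)) = algebraMap R K r
  rw [hc]
  exact congrFun (congrArg DFunLike.coe h) r

/-- finiteness of the set of ring homs over a fixed one out of a finite algebra into a field -/
theorem finite_ringHom_over (R B κ : Type*) [CommRing R] [CommRing B] [Field κ] (ψ : R →+* B)
    (hψ : ψ.Finite) (ρ : R →+* κ) : Finite {φ : B →+* κ // φ.comp ψ = ρ} := by
  letI := ψ.toAlgebra
  letI := ρ.toAlgebra
  haveI : Module.Finite R B := hψ
  let F : {φ : B →+* κ // φ.comp ψ = ρ} → (B →ₐ[R] κ) := fun φ =>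
    { φ.1 with
      commutes' := fun r => congrFun (congrArg DFunLike.coe φ.2) r }
  refine Finite.of_injective F ?_
  intro φ₁ φ₂ h
  apply Subtype.ext
  apply RingHom.ext
  intro b
  exact congrFun (congrArg DFunLike.coe h) b

end Groth.Agent.Lead.TorsReg
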