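import Mathlib
import Groth.Agent.Lib.Lead.TorsReg1

/-!
# Sections of integral morphisms over an integrally closed domain; finiteness of field points of a
finite scheme (lead)
-/

set_option backward.isDefEq.respectTransparency.types false
set_option autoImplicit false
set_option synthInstance.maxHeartbeats 400000
set_option maxHeartbeats 1000000
set_option linter.style.haveILetI false
set_option linter.unusedSectionVars false
set_option linter.unusedSimpArgs false

universe u

open CategoryTheory CategoryTheory.Limits AlgebraicGeometry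

namespace Groth.Agent.Lead.TorsReg

theorem exists_section_of_integral (R : Type u) [CommRing R] [IsDomain R] [IsIntegrallyClosed R]
    (K : Type u) [Field K] [Algebra R K] [IsFractionRing R K]
    {Z : Scheme.{u}} (sT : Z ⟶ Spec (CommRingCat.of R)) [IsIntegralHom sT]
    (x : Spec (CommRingCat.of K) ⟶ Z)
    (hx : x ≫ sT = Spec.map (CommRingCat.ofHom (algebraMap R K))) :
    ∃ s : Spec (CommRingCat.of R) ⟶ Z, s ≫ sT = 𝟙 _ ∧
      Spec.map (CommRingCat.ofHom (algebraMap R K)) ≫ s = x := by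
  haveI : IsAffine Z := isAffine_of_isAffineHom sT
  let e := Z.isoSpec
  obtain ⟨ψ, hψ⟩ : ∃ ψ : CommRingCat.of R ⟶ Γ(Z, ⊤), Spec.map ψ = e.inv ≫ sT :=
    ⟨Spec.preimage _, Spec.map_preimage _⟩
  obtain ⟨φ, hφ⟩ : ∃ φ : Γ(Z, ⊤) ⟶ CommRingCat.of K, Spec.map φ = x ≫ e.hom :=
    ⟨Spec.preimage _, Spec.map_preimage _⟩
  have hint : ψ.hom.IsIntegral := by
    rw [← IsIntegralHom.SpecMap_iff, hψ]; infer_instance
  have hcomp : ψ ≫ φ = CommRingCat.ofHom (algebraMap R K) := by
    apply Spec.map_injective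
    rw [Spec.map_comp, hφ, hψ, Category.assoc, Iso.hom_inv_id_assoc, hx]
  obtain ⟨χ, h1, h2⟩ := exists_lift_of_integral R K Γ(Z, ⊤) ψ.hom hint φ.hom (by
    have := congrArg CommRingCat.Hom.hom hcomp
    simpa using this)
  refine ⟨Spec.map (CommRingCat.ofHom χ) ≫ e.inv, ?_, ?_⟩
  · rw [Category.assoc, ← hψ, ← Spec.map_comp]
    have : ψ ≫ CommRingCat.ofHom χ = 𝟙 _ := by
      ext r
      exact congrFun (congrArg DFunLike.coe h2) r
    rw [this, Spec.map_id]
  · rw [← Category.assoc, ← Spec.map_comp]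
    have : CommRingCat.ofHom χ ≫ CommRingCat.ofHom (algebraMap R K) = φ := by
      ext b
      exact congrFun (congrArg DFunLike.coe h1) b
    rw [this, hφ, Category.assoc, Iso.hom_inv_id, Category.comp_id]

theorem finite_points_of_finite (R κ : Type u) [CommRing R] [Field κ]
    {Z : Scheme.{u}} (sT : Z ⟶ Spec (CommRingCat.of R)) [IsFinite sT]
    (ρ : Spec (CommRingCat.of κ) ⟶ Spec (CommRingCat.of R)) :
    Finite {y : Spec (CommRingCat.of κ) ⟶ Z // y ≫ sT = ρ} := by
  haveI : IsAffine Z := isAffine_of_isAffineHom sT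
  let e := Z.isoSpec
  obtain ⟨ψ, hψ⟩ : ∃ ψ : CommRingCat.of R ⟶ Γ(Z, ⊤), Spec.map ψ = e.inv ≫ sT :=
    ⟨Spec.preimage _, Spec.map_preimage _⟩
  obtain ⟨ρ', hρ'⟩ : ∃ ρ' : CommRingCat.of R ⟶ CommRingCat.of κ, Spec.map ρ' = ρ :=
    ⟨Spec.preimage _, Spec.map_preimage _⟩
  have hfin : ψ.hom.Finite := by
    rw [← IsFinite.SpecMap_iff, hψ]; infer_instance
  haveI := finite_ringHom_over R Γ(Z, ⊤) κ ψ.hom hfin ρ'.hom
  let F : {y : Spec (CommRingCat.of κ) ⟶ Z // y ≫ sT = ρ} →
      {φ : Γ(Z, ⊤) →+* κ // φ.comp ψ.hom = ρ'.hom} := fun y =>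
    ⟨(Spec.preimage (y.1 ≫ e.hom)).hom, by
      have h1 : ψ ≫ Spec.preimage (y.1 ≫ e.hom) = ρ' := by
        apply Spec.map_injective
        rw [Spec.map_comp, Spec.map_preimage, hψ, Category.assoc, Iso.hom_inv_id_assoc, y.2, hρ']
      have := congrArg CommRingCat.Hom.hom h1
      simpa using this⟩
  refine Finite.of_injective F ?_
  intro y₁ y₂ h
  apply Subtype.ext
  have h1 : Spec.preimage (y₁.1 ≫ e.hom) = Spec.preimage (y₂.1 ≫ e.hom) := by
    apply CommRingCat.hom_ext
    exact congrArg Subtype.val h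
  have h2 : y₁.1 ≫ e.hom = y₂.1 ≫ e.hom := by
    rw [← Spec.map_preimage (y₁.1 ≫ e.hom), h1, Spec.map_preimage]
  exact (cancel_mono e.hom).mp h2

end Groth.Agent.Lead.TorsReg
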