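import Mathlib
import Groth.Prelude.Def_Red
import Groth.Prelude.Def_AgPol
import Groth.Prelude.Def_AbDual
import Groth.Agent.Lib.Lead.NOS1
import Groth.Agent.Lib.Lead.TorsReg2
import Groth.Agent.Lib.Helper4.AbSchMulEtale1
import Groth.Agent.Lib.Helper4.GrpKer2
import Groth.Agent.Lib.Helper8.Serre3

/-!
# Torsion of an abelian scheme over a regular local ring containing the rationals: points with
values in the fraction field inject into points with values in the residue field (lead)
-/

set_option backward.isDefEq.respectTransparency.types false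
set_option autoImplicit false
set_option synthInstance.maxHeartbeats 400000
set_option maxHeartbeats 1000000
set_option linter.style.haveILetI false
set_option linter.unusedSectionVars false
set_option linter.unusedSimpArgs false

universe u

open CategoryTheory CategoryTheory.Limits AlgebraicGeometry
open MonoidalCategory CartesianMonoidalCategory MonObj GrpObj

namespace Groth.Agent.Lead.TorsReg

section Equiv
variable {S : Scheme.{u}} (A : Over S) [GrpObj A] [IsCommMonObj A]

theorem pow_eq_one_iff (m : ℕ) (T : Over S) (x : T ⟶ A) :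
    x ^ m = 1 ↔ x.left ≫ ((𝟙 A : A ⟶ A) ^ m).left = T.hom ≫ η[A].left := by
  have h1 : x ^ m = x ≫ (𝟙 A) ^ m := by
    rw [MonObj.comp_pow, Category.comp_id]
  rw [h1, Hom.one_def]
  constructor
  · intro h
    have h2 := congrArg (fun t => t.left) h
    simp only [Over.comp_left] at h2
    rw [Groth.Agent.Lib.Helper4.GrpKer2.toUnit_left] at h2
    exact h2
  · intro h
    ext1
    rw [Over.comp_left, Over.comp_left, Groth.Agent.Lib.Helper4.GrpKer2.toUnit_left]
    exact h

/-- torsion points with values in `T` are the `T`-points of the kernel scheme. -/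
noncomputable def torsEquiv (m : ℕ) (T : Over S) :
    AbDual.torsPts A m T ≃
      {y : T.left ⟶ pullback ((𝟙 A : A ⟶ A) ^ m).left η[A].left //
        y ≫ pullback.snd _ _ = T.hom} where
  toFun x := ⟨pullback.lift x.1.left T.hom ((pow_eq_one_iff A m T x.1).mp x.2),
    pullback.lift_snd _ _ _⟩
  invFun y := ⟨Over.homMk (y.1 ≫ pullback.fst _ _) (by
      have h1 : ((𝟙 A : A ⟶ A) ^ m).left ≫ A.hom = A.hom := Over.w _
      have h2 : η[A].left ≫ A.hom = 𝟙 _ := Over.w η[A]
      calc (y.1 ≫ pullback.fst _ _) ≫ A.hom
          = y.1 ≫ pullback.fst _ _ ≫ ((𝟙 A : A ⟶ A) ^ m).left ≫ A.hom := by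
            rw [h1, Category.assoc]
        _ = y.1 ≫ pullback.snd _ _ ≫ η[A].left ≫ A.hom := by
            rw [← Category.assoc (pullback.fst _ _), pullback.condition, Category.assoc]
        _ = T.hom := by rw [h2, Category.comp_id, y.2]), by
    rw [AbDual.mem_torsPts, pow_eq_one_iff]
    show (y.1 ≫ pullback.fst _ _) ≫ _ = _
    rw [Category.assoc, pullback.condition, ← Category.assoc, y.2]⟩
  left_inv x := by
    apply Subtype.ext
    ext1
    exact pullback.lift_fst _ _ _
  right_inv y := by
    apply Subtype.ext
    apply pullback.hom_ext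
    · exact pullback.lift_fst _ _ _
    · exact (pullback.lift_snd _ _ _).trans y.2.symm

end Equiv

open Groth.Agent.Lib.Helper4.AbSchMulEtale1 in
theorem main15509 (R : Type u) [CommRing R] [IsDomain R] [IsRegularLocalRing R] [Algebra ℚ R]
    (A : Over (Spec (CommRingCat.of R))) [GrpObj A] [IsCommMonObj A] (g : ℕ)
    (hA : AgPol.IsAbSch A g) (m : ℕ) (hm : 1 ≤ m) :
    Nat.card (AbDual.torsPts A m
        (Over.mk (Spec.map (CommRingCat.ofHom (algebraMap R (FractionRing R)))))) ≤
      Nat.card (AbDual.torsPts A m
        (Over.mk (Spec.map (CommRingCat.ofHom (IsLocalRing.residue R))))) := by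
  haveI := hA.smooth
  haveI := hA.proper
  haveI := hA.geomConnected
  haveI : GeometricallyReduced A.hom := NOS.geometricallyReduced_of_smooth A.hom
  haveI : IsIntegrallyClosed R :=
    Groth.Agent.Helper8.Serre.isIntegrallyClosed_of_isRegularLocalRing R
  have hunit : IsUnit (m : R) := by
    have h1 : IsUnit ((m : ℚ)) := by
      apply IsUnit.mk0
      exact_mod_cast (by omega : m ≠ 0)
    have h2 := h1.map (algebraMap ℚ R)
    rwa [map_natCast] at h2
  have hmΓ : IsUnit (((m : ℕ) : ℤ) : Γ(Spec (CommRingCat.of R), ⊤)) := by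
    have h1 := hunit.map (Scheme.ΓSpecIso (CommRingCat.of R)).inv.hom
    rw [map_natCast] at h1
    simpa using h1
  obtain ⟨hfin, het⟩ := main A ((m : ℕ) : ℤ) hmΓ
  rw [zpow_natCast] at hfin het
  let fB : A.left ⟶ A.left := ((𝟙 A : A ⟶ A) ^ m).left
  haveI : IsFinite fB := hfin
  haveI : Etale fB := het
  let sT : pullback fB η[A].left ⟶ Spec (CommRingCat.of R) := pullback.snd fB η[A].left
  haveI : IsFinite sT := MorphismProperty.pullback_snd _ _ hfin
  haveI : Etale sT := MorphismProperty.pullback_snd _ _ het
  let gK : Spec (CommRingCat.of (FractionRing R)) ⟶ Spec (CommRingCat.of R) :=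
    Spec.map (CommRingCat.ofHom (algebraMap R (FractionRing R)))
  let gk : Spec (CommRingCat.of (IsLocalRing.ResidueField R)) ⟶ Spec (CommRingCat.of R) :=
    Spec.map (CommRingCat.ofHom (IsLocalRing.residue R))
  refine (Nat.card_congr (torsEquiv A m (Over.mk gK))).le.trans
    (le_trans ?_ (Nat.card_congr (torsEquiv A m (Over.mk gk))).ge)
  haveI : Finite {y : Spec (CommRingCat.of (IsLocalRing.ResidueField R)) ⟶
      pullback fB η[A].left // y ≫ sT = gk} :=
    finite_points_of_finite R (IsLocalRing.ResidueField R) sT gk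
  have hext : ∀ x : {y : Spec (CommRingCat.of (FractionRing R)) ⟶
      pullback fB η[A].left // y ≫ sT = gK},
      ∃ s : Spec (CommRingCat.of R) ⟶ pullback fB η[A].left, s ≫ sT = 𝟙 _ ∧ gK ≫ s = x.1 :=
    fun x => exists_section_of_integral R (FractionRing R) sT x.1 x.2
  choose s hs1 hs2 using hext
  refine Nat.card_le_card_of_injective
    (β := {y : Spec (CommRingCat.of (IsLocalRing.ResidueField R)) ⟶
      pullback fB η[A].left // y ≫ sT = gk})
    (fun x => ⟨gk ≫ s x, by rw [Category.assoc, hs1, Category.comp_id]⟩) ?_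
  intro x y hxy
  have h1 : gk ≫ s x = gk ≫ s y := congrArg Subtype.val hxy
  have h2 : s x = s y := by
    refine NOS.eq_of_unramified_of_specializes sT (s x) (s y) (by rw [hs1, hs1]) gk h1 ?_
    intro z
    refine ⟨IsLocalRing.closedPoint (IsLocalRing.ResidueField R), ?_⟩
    have hq : gk (IsLocalRing.closedPoint (IsLocalRing.ResidueField R)) =
        IsLocalRing.closedPoint R := by
      haveI : IsLocalHom (IsLocalRing.residue R) := by
        show IsLocalHom (IsLocalRing.residue R); infer_instance
      exact AlgebraicGeometry.Spec_closedPoint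
        (f := CommRingCat.ofHom (IsLocalRing.residue R))
    rw [hq]
    exact IsLocalRing.specializes_closedPoint z
  apply Subtype.ext
  rw [← hs2 x, ← hs2 y, h2]

end Groth.Agent.Lead.TorsReg
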