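import Mathlib

set_option autoImplicit false

universe u v w

namespace Groth.Agent.Lead

open LinearMap in
theorem sum_single_comp_proj_eq_id {R : Type u} [CommRing R] {ι : Type v} [Fintype ι] [DecidableEq ι]
    (M : ι → Type w) [∀ i, AddCommGroup (M i)] [∀ i, Module R (M i)] :
    (∑ i, LinearMap.single R M i ∘ₗ LinearMap.proj i) =
      (LinearMap.id : (Π k, M k) →ₗ[R] (Π k, M k)) := by
  apply LinearMap.ext
  intro x
  funext j
  simp only [LinearMap.coe_sum, Finset.sum_apply, LinearMap.coe_comp, Function.comp_apply,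
    LinearMap.coe_proj, Function.eval, LinearMap.coe_single, LinearMap.id_coe, id_eq]
  rw [Finset.sum_eq_single j]
  · simp
  · intro b _ hb
    simp [hb.symm]
  · intro h
    exact absurd (Finset.mem_univ j) h

theorem trace_pi_eq_sum {R : Type u} [CommRing R] {ι : Type v} [Fintype ι] [DecidableEq ι]
    (M : ι → Type w) [∀ i, AddCommGroup (M i)] [∀ i, Module R (M i)]
    [∀ i, Module.Free R (M i)] [∀ i, Module.Finite R (M i)]
    (f : (Π k, M k) →ₗ[R] (Π k, M k)) :
    LinearMap.trace R (Π k, M k) f =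
      ∑ i, LinearMap.trace R (M i) (LinearMap.proj i ∘ₗ f ∘ₗ LinearMap.single R M i) := by
  have h1 : f = ∑ i, (f ∘ₗ LinearMap.single R M i) ∘ₗ LinearMap.proj i := by
    apply LinearMap.ext
    intro x
    simp only [LinearMap.coe_sum, Finset.sum_apply, LinearMap.coe_comp, Function.comp_apply,
      LinearMap.coe_proj, Function.eval, LinearMap.coe_single]
    rw [← map_sum, Finset.univ_sum_single]
  conv_lhs => rw [h1, map_sum]
  refine Finset.sum_congr rfl ?_
  intro i _
  exact LinearMap.trace_comp_comm' (LinearMap.proj i) (f ∘ₗ LinearMap.single R M i)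

end Groth.Agent.Lead

namespace Groth.Agent.Lead

theorem proj_comp_eps {R : Type u} [CommRing R] {ι : Type v} [Fintype ι] [DecidableEq ι]
    (M : ι → Type w) [∀ i, AddCommGroup (M i)] [∀ i, Module R (M i)] (c : ι → R) (i : ι) :
    (LinearMap.proj i : (Π k, M k) →ₗ[R] M i) ∘ₗ
      (∑ j : ι, (LinearMap.single R M j) ∘ₗ (c j • (LinearMap.proj j : (Π k, M k) →ₗ[R] M j))) =
      c i • (LinearMap.proj i : (Π k, M k) →ₗ[R] M i) := by
  apply LinearMap.ext
  intro x
  simp only [LinearMap.coe_comp, LinearMap.coe_sum, Function.comp_apply, Finset.sum_apply,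
    LinearMap.coe_proj, Function.eval, LinearMap.coe_single, LinearMap.smul_apply]
  rw [Finset.sum_eq_single i]
  · simp
  · intro b _ hb
    simp [hb.symm]
  · intro h
    exact absurd (Finset.mem_univ i) h

/-- supertrace formula -/
theorem trace_eps_comp {R : Type u} [CommRing R] {ι : Type v} [Fintype ι] [DecidableEq ι]
    (M : ι → Type w) [∀ i, AddCommGroup (M i)] [∀ i, Module R (M i)]
    [∀ i, Module.Free R (M i)] [∀ i, Module.Finite R (M i)] (c : ι → R)
    (f : (Π k, M k) →ₗ[R] (Π k, M k)) :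
    LinearMap.trace R (Π k, M k)
      ((∑ j : ι, (LinearMap.single R M j) ∘ₗ (c j • (LinearMap.proj j : (Π k, M k) →ₗ[R] M j))) ∘ₗ f) =
      ∑ i, c i * LinearMap.trace R (M i) (LinearMap.proj i ∘ₗ f ∘ₗ LinearMap.single R M i) := by
  rw [trace_pi_eq_sum]
  refine Finset.sum_congr rfl ?_
  intro i _
  rw [← LinearMap.comp_assoc, ← LinearMap.comp_assoc, proj_comp_eps, LinearMap.smul_comp,
    LinearMap.smul_comp, map_smul, smul_eq_mul, LinearMap.comp_assoc]

end Groth.Agent.Lead

namespace Groth.Agent.Lead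

theorem proj_comp_comp_single {R : Type u} [CommRing R] {ι : Type v} [Fintype ι] [DecidableEq ι]
    (M : ι → Type w) [∀ i, AddCommGroup (M i)] [∀ i, Module R (M i)]
    (φ ψ : (Π k, M k) →ₗ[R] (Π k, M k)) (i k : ι) :
    LinearMap.proj k ∘ₗ (φ ∘ₗ ψ) ∘ₗ LinearMap.single R M i =
      ∑ j, (LinearMap.proj k ∘ₗ φ ∘ₗ LinearMap.single R M j) ∘ₗ
        (LinearMap.proj j ∘ₗ ψ ∘ₗ LinearMap.single R M i) := by
  apply LinearMap.ext
  intro x
  simp only [LinearMap.coe_comp, LinearMap.coe_sum, Function.comp_apply, Finset.sum_apply,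
    LinearMap.coe_proj, Function.eval, LinearMap.coe_single]
  conv_lhs => rw [← Finset.univ_sum_single (ψ (Pi.single i x)), map_sum]
  rw [Finset.sum_apply]

theorem neg_one_pow_natAbs_add {R : Type u} [CommRing R] (x y : ℤ) :
    (-1 : R) ^ (x + y).natAbs = (-1 : R) ^ x.natAbs * (-1 : R) ^ y.natAbs := by
  rw [← pow_add, neg_one_pow_eq_pow_mod_two, neg_one_pow_eq_pow_mod_two (n := x.natAbs + y.natAbs)]
  congr 1
  omega

theorem neg_one_pow_natAbs_mul_neg_self {R : Type u} [CommRing R] (a : ℤ) :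
    (-1 : R) ^ (a * (-a)).natAbs = (-1 : R) ^ a.natAbs := by
  rw [Int.natAbs_mul, Int.natAbs_neg]
  rcases Nat.even_or_odd a.natAbs with h | h
  · rw [h.neg_one_pow, (h.mul_right _).neg_one_pow]
  · rw [h.neg_one_pow, (h.mul h).neg_one_pow]

end Groth.Agent.Lead
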