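import Mathlib
import Groth.Prelude.Def_StCoarse
import Groth.Agent.Lib.Helper2.Stk.OfPsh
import Groth.Agent.Lib.Helper2.Stk.OfPshFun
import Groth.Agent.Lib.Helper2.Stk.OfPshFp
import Groth.Agent.Lib.Helper2.FibProd
import Groth.Agent.Lib.Helper2.AlgSp.FormalUnr
import Groth.Agent.Lib.Helper2.AlgSp.FormalLift

/-!
# Categorical moduli spaces in terms of compatible families of sections (lead)
-/

set_option backward.isDefEq.respectTransparency.types false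
set_option autoImplicit false
set_option synthInstance.maxHeartbeats 400000
set_option maxHeartbeats 1000000
set_option linter.style.haveILetI false
set_option linter.unusedSectionVars false
set_option linter.unusedSimpArgs false

open CategoryTheory CategoryTheory.Limits AlgebraicGeometry Opposite AlgSp AlgSt
open Groth.Agent.Helper2.StkLib

namespace Groth.Agent.Lead.UCM
universe w v u
variable {S : Scheme.{u}}

section Gen
variable {𝒜 : BasedCategory.{v, w} (Over S)} {M N : AlgSp.Sp S}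

theorem tr_app {P Q : (Over S)ᵒᵖ ⥤ Type (u + 1)} (α : P ⟶ Q) {X Y : Over S} (h : X = Y)
    (x : P.obj (op Y)) :
    α.app (op X) (PshSec.tr h x) = PshSec.tr h (α.app (op Y) x) := by
  subst h; simp

theorem ofFunctor_comp_ofSpMap (π : 𝒜 ⥤ᵇ ofSp M) (h : M ⟶ N) (a : 𝒜.obj) :
    (PshSec.ofFunctor (BasedFunctor.comp π (ofSpMap h))).val a =
      h.hom.app _ ((PshSec.ofFunctor π).val a) :=
  (tr_app h.hom _ _).symm

theorem nonempty_iso_iff (π : 𝒜 ⥤ᵇ ofSp M) (h : M ⟶ N) (φ : 𝒜 ⥤ᵇ ofSp N) :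
    Nonempty (BasedFunctor.comp π (ofSpMap h) ≅ φ) ↔
      ∀ a, h.hom.app _ ((PshSec.ofFunctor π).val a) = (PshSec.ofFunctor φ).val a := by
  constructor
  · rintro ⟨e⟩ a
    rw [← ofFunctor_comp_ofSpMap, PshSec.ofFunctor_eq_of_hom e.hom]
  · intro H
    apply iso_of_ofFunctor_eq
    ext a
    rw [ofFunctor_comp_ofSpMap]; exact H a

/-- Section form of the universal property of a categorical moduli space. -/
def IsCMsec (π : 𝒜 ⥤ᵇ ofSp M) : Prop :=
  ∀ N : AlgSp.Sp S, AlgSp.IsAlgSpace N → ∀ σ : PshSec N.obj 𝒜,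
    ∃! h : M ⟶ N, ∀ a, h.hom.app _ ((PshSec.ofFunctor π).val a) = σ.val a

theorem isCatModuli_iff (π : 𝒜 ⥤ᵇ ofSp M) :
    AlgSt.IsCatModuli π ↔ AlgSp.IsAlgSpace M ∧ IsCMsec π := by
  unfold IsCatModuli IsCatModuliIn
  constructor
  · rintro ⟨hM, H⟩
    refine ⟨hM, fun N hN σ => ?_⟩
    obtain ⟨h, hh, huniq⟩ := H N hN (PshSec.toFunctor σ)
    refine ⟨h, ?_, ?_⟩
    · intro a
      have := (nonempty_iso_iff π h _).1 hh a
      rwa [PshSec.ofFunctor_toFunctor] at this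
    · intro h' hh'
      apply huniq
      rw [nonempty_iso_iff]
      intro a
      rw [PshSec.ofFunctor_toFunctor]
      exact hh' a
  · rintro ⟨hM, H⟩
    refine ⟨hM, fun N hN φ => ?_⟩
    obtain ⟨h, hh, huniq⟩ := H N hN (PshSec.ofFunctor φ)
    exact ⟨h, (nonempty_iso_iff π h φ).2 hh,
      fun h' hh' => huniq h' ((nonempty_iso_iff π h' φ).1 hh')⟩

end Gen

section Fp
variable {𝒳 : BasedCategory.{v, w} (Over S)} {Y : AlgSp.Sp S} (f : 𝒳 ⥤ᵇ ofSp Y)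

theorem ofFunctor_fpFst_val {B : AlgSp.Sp S} (g : B ⟶ Y)
    (z : (FibCat.fp (ofSpMap g) f).obj) :
    (PshSec.ofFunctor (FibCat.fpFst (ofSpMap g) f)).val z = z.obj.fst.sec :=
  PshSec.tr_rfl _

theorem chartIso {A B : AlgSp.Sp S} (p : A ⟶ B) (g : B ⟶ Y) (g' : A ⟶ Y) (hg : p ≫ g = g') :
    Nonempty (BasedFunctor.comp (BasedFunctor.comp (FibCat.fpFst (ofSpMap g') f) (ofSpMap p))
        (ofSpMap g) ≅ BasedFunctor.comp (FibCat.fpSnd (ofSpMap g') f) f) := by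
  subst hg
  apply iso_of_ofFunctor_eq
  rw [← PshSec.ofFunctor_eq_of_hom (FibCat.fpIso (ofSpMap (p ≫ g)) f).hom]
  ext z
  rfl

/-- The functor between 2-fibre products induced by a map of the first factors. -/
noncomputable def chartFun {A B : AlgSp.Sp S} (p : A ⟶ B) (g : B ⟶ Y) (g' : A ⟶ Y)
    (hg : p ≫ g = g') : FibCat.fp (ofSpMap g') f ⥤ᵇ FibCat.fp (ofSpMap g) f :=
  FibCat.fpLift (BasedFunctor.comp (FibCat.fpFst (ofSpMap g') f) (ofSpMap p))
    (FibCat.fpSnd (ofSpMap g') f) (Classical.choice (chartIso f p g g' hg))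

theorem val_eq_of_parts {B N : AlgSp.Sp S} (g : B ⟶ Y)
    (σ : PshSec N.obj (FibCat.fp (ofSpMap g) f))
    (T : Over S) (m₁ m₂ : B.obj.obj (op T)) (hm : m₁ = m₂) (x : 𝒳.obj)
    (i₁ : (ofSpMap g).obj ⟨T, m₁⟩ ≅ f.obj x) (i₂ : (ofSpMap g).obj ⟨T, m₂⟩ ≅ f.obj x)
    (h₁ : FibCat.fpProp (ofSpMap g) f ⟨⟨T, m₁⟩, x, i₁⟩)
    (h₂ : FibCat.fpProp (ofSpMap g) f ⟨⟨T, m₂⟩, x, i₂⟩) :
    (σ.val ⟨⟨⟨T, m₁⟩, x, i₁⟩, h₁⟩ : N.obj.obj (op T)) = σ.val ⟨⟨⟨T, m₂⟩, x, i₂⟩, h₂⟩ := by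
  subst hm
  have : i₁ = i₂ := by
    apply Iso.ext
    exact PshSec.hom_eq_of_isHomLift_id _ _ h₁ h₂
  subst this
  rfl

theorem pullback_chartFun_val {A B N : AlgSp.Sp S} (p : A ⟶ B) (g : B ⟶ Y) (g' : A ⟶ Y)
    (hg : p ≫ g = g') (σ : PshSec N.obj (FibCat.fp (ofSpMap g) f))
    (z' : (FibCat.fp (ofSpMap g') f).obj) :
    (PshSec.pullback (chartFun f p g g' hg) σ).val z' = σ.val ((chartFun f p g g' hg).obj z') :=
  PshSec.tr_rfl _

/-- `h` computes the family `σ` on the 2-fibre product over `g`. -/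
def Sat {B N : AlgSp.Sp S} (g : B ⟶ Y) (σ : PshSec N.obj (FibCat.fp (ofSpMap g) f))
    (h : B ⟶ N) : Prop :=
  ∀ z : (FibCat.fp (ofSpMap g) f).obj, h.hom.app _ z.obj.fst.sec = σ.val z

theorem isCMsec_fpFst_iff {B : AlgSp.Sp S} (g : B ⟶ Y) :
    IsCMsec (FibCat.fpFst (ofSpMap g) f) ↔
      ∀ N : AlgSp.Sp S, AlgSp.IsAlgSpace N → ∀ σ : PshSec N.obj (FibCat.fp (ofSpMap g) f),
        ∃! h : B ⟶ N, Sat f g σ h := by
  unfold IsCMsec Sat
  simp only [ofFunctor_fpFst_val]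
  exact Iff.rfl

theorem sat_chartFun {A B N : AlgSp.Sp S} (p : A ⟶ B) (g : B ⟶ Y) (g' : A ⟶ Y)
    (hg : p ≫ g = g') (σ : PshSec N.obj (FibCat.fp (ofSpMap g) f)) (h : B ⟶ N)
    (H : Sat f g σ h) : Sat f g' (PshSec.pullback (chartFun f p g g' hg) σ) (p ≫ h) := by
  intro z'
  rw [pullback_chartFun_val]
  exact H ((chartFun f p g g' hg).obj z')

theorem pullback_chartFun_comp {A' A B N : AlgSp.Sp S} (q : A' ⟶ A) (p : A ⟶ B) (g : B ⟶ Y)
    (g' : A ⟶ Y) (g'' : A' ⟶ Y) (h1 : p ≫ g = g') (h2 : q ≫ g' = g'') (h3 : (q ≫ p) ≫ g = g'')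
    (σ : PshSec N.obj (FibCat.fp (ofSpMap g) f)) :
    PshSec.pullback (chartFun f q g' g'' h2) (PshSec.pullback (chartFun f p g g' h1) σ) =
      PshSec.pullback (chartFun f (q ≫ p) g g'' h3) σ := by
  ext z''
  rw [pullback_chartFun_val, pullback_chartFun_val, pullback_chartFun_val]
  exact val_eq_of_parts f g σ _ _ _ rfl _ _ _ _ _

/-- An object of the 2-fibre product over `g` whose section lifts along `p` comes from the
2-fibre product over `p ≫ g`. -/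
noncomputable def liftObj {A B : AlgSp.Sp S} (p : A ⟶ B) (g : B ⟶ Y) (g' : A ⟶ Y)
    (hg : p ≫ g = g') (z : (FibCat.fp (ofSpMap g) f).obj) (s : A.obj.obj (op z.obj.fst.base))
    (hs : p.hom.app _ s = z.obj.fst.sec) : (FibCat.fp (ofSpMap g') f).obj :=
  ⟨{ fst := ⟨z.obj.fst.base, s⟩
     snd := z.obj.snd
     iso := eltIsoOfEq (R := Y.obj) (T := z.obj.fst.base)
        (x := g'.hom.app _ s) (y := g.hom.app _ z.obj.fst.sec)
        (by rw [← hs, ← hg]; rfl) ≪≫ z.obj.iso }, by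
    have h1 : (ofSp Y).p.IsHomLift (𝟙 z.obj.fst.base)
        (eltIsoOfEq (R := Y.obj) (T := z.obj.fst.base)
          (x := g'.hom.app _ s) (y := g.hom.app _ z.obj.fst.sec)
          (by rw [← hs, ← hg]; rfl)).hom :=
      isHomLift_of_hom_eq_id _ rfl rfl
    have h2 : (ofSp Y).p.IsHomLift (𝟙 z.obj.fst.base) z.obj.iso.hom := z.property
    exact @IsHomLift.comp_of_lift_id _ _ _ _ (ofSp Y).p z.obj.fst.base _ _ _ _ _ h1 h2⟩

theorem val_chartFun_liftObj {A B N : AlgSp.Sp S} (p : A ⟶ B) (g : B ⟶ Y) (g' : A ⟶ Y)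
    (hg : p ≫ g = g') (σ : PshSec N.obj (FibCat.fp (ofSpMap g) f))
    (z : (FibCat.fp (ofSpMap g) f).obj) (s : A.obj.obj (op z.obj.fst.base))
    (hs : p.hom.app _ s = z.obj.fst.sec) :
    σ.val ((chartFun f p g g' hg).obj (liftObj f p g g' hg z s hs)) = σ.val z :=
  val_eq_of_parts f g σ _ _ _ hs _ _ _ _ _

end Fp

section Sep

/-- Two compatible families of sections of a sheaf agree at `z` as soon as they agree at all
pullbacks of `z` along the members of a covering family. -/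
theorem sep {𝒵 : BasedCategory.{v, w} (Over S)} (h𝒵 : FibCat.IsFibGrpd 𝒵.p) (N : AlgSp.Sp S)
    (σ τ : PshSec N.obj 𝒵) (z : 𝒵.obj) {κ : Type*} (W : κ → Over S)
    (p : ∀ k, W k ⟶ 𝒵.p.obj z)
    (hp : ∀ k, (@Flat ⊓ @LocallyOfFinitePresentation : MorphismProperty Scheme.{u}) (p k).left)
    (hs : ∀ x : (𝒵.p.obj z).left, ∃ k, x ∈ Set.range (p k).left)
    (H : ∀ k (z' : 𝒵.obj) (ψ : z' ⟶ z), 𝒵.p.IsHomLift (p k) ψ → σ.val z' = τ.val z') :
    σ.val z = τ.val z := by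
  have hsh : Presieve.IsSheaf (J S) N.obj := (isSheaf_iff_isSheaf_of_type _ _).1 N.property
  refine (hsh _ (Groth.Agent.Helper2.AlgSpFormal.ofArrows_mem_J W p hp hs)).isSeparatedFor.ext ?_
  rintro Y' t ⟨Y'', u, v, ⟨k⟩, rfl⟩
  have key : N.obj.map (p k).op (σ.val z) = N.obj.map (p k).op (τ.val z) := by
    obtain ⟨z', ψ, hψ⟩ := h𝒵.exists_lift (p k)
    have e₁ : 𝒵.p.obj z' = W k := IsHomLift.domain_eq 𝒵.p (p k) ψ
    have fac := IsHomLift.fac' 𝒵.p (p k) ψ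
    have fac' : 𝒵.p.map ψ = eqToHom e₁ ≫ p k := by rw [fac]; simp
    have c1 := σ.compat ψ
    have c2 := τ.compat ψ
    have c3 := H k z' ψ hψ
    rw [← c1, ← c2, fac', op_comp, Functor.map_comp] at c3
    exact PshSec.tr_injective e₁ c3
  rw [op_comp, Functor.map_comp]
  exact congrArg (N.obj.map u.op) key

end Sep

end Groth.Agent.Lead.UCM
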