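import Mathlib
import Groth.Agent.Lib.Lead.UCMa
import Groth.Agent.Lib.Helper2.AlgSp.GlueFamily
import Groth.Agent.Lib.Helper2.AlgSp.LciFpqc2
import Groth.Agent.Lib.Helper2.AlgSp.LocP
import Groth.Agent.Lib.Helper2.AlgSp.Diag
import Groth.Agent.Lib.Helper2.AlgSp.Basic
import Groth.Agent.Lib.Helper2.AlgSp.Coprod

/-!
# Descent of the universal property of a categorical moduli space along affine etale charts (lead)
-/

set_option backward.isDefEq.respectTransparency.types false
set_option autoImplicit false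
set_option synthInstance.maxHeartbeats 400000
set_option maxHeartbeats 1000000
set_option linter.style.haveILetI false
set_option linter.unusedSectionVars false
set_option linter.unusedSimpArgs false

open CategoryTheory CategoryTheory.Limits AlgebraicGeometry Opposite AlgSp AlgSt
open Groth.Agent.Helper2.StkLib Groth.Agent.Helper2.AlgSpBasic

namespace Groth.Agent.Lead.UCM
universe w v u
variable {S : Scheme.{u}}

/-- An affine scheme etale over the sheaf `M'`. -/
structure Chart (M' : AlgSp.Sp S) where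
  V : Over S
  p : (yon S).obj V ⟶ M'
  aff : IsAffine V.left
  et : RepWith @Etale p

section Main
variable {𝒳 : BasedCategory.{v, w} (Over S)} {Y : AlgSp.Sp S} (f : 𝒳 ⥤ᵇ ofSp Y)
  (hY : IsAlgSpace Y)
  (hf : ∀ (V : Over S), IsAffine V.left → ∀ g₀ : (yon S).obj V ⟶ Y, LocP @Flat g₀ →
    IsCMsec (FibCat.fpFst (ofSpMap g₀) f))
  {M' N : AlgSp.Sp S} (hM' : IsAlgSpace M') (hN : IsAlgSpace N) (g : M' ⟶ Y)
  (hg : LocP @Flat g) (σ : PshSec N.obj (FibCat.fp (ofSpMap g) f))

include hY hM' hg in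
theorem flat_chart (i : Chart M') : LocP @Flat (i.p ≫ g) :=
  locP_comp @Flat (IsAlgSpace.yon_obj i.V) hM' hY i.p g
    (Groth.Agent.Helper2.LciSp.locP_flat_of_repWith_etale (IsAlgSpace.yon_obj i.V) i.p i.et) hg

/-- The family of sections on the 2-fibre product over a chart. -/
noncomputable def chartSec (i : Chart M') : PshSec N.obj (FibCat.fp (ofSpMap (i.p ≫ g)) f) :=
  PshSec.pullback (chartFun f i.p g (i.p ≫ g) rfl) σ

include hY hf hM' hN hg in
theorem chartHom (i : Chart M') :
    ∃! h : (yon S).obj i.V ⟶ N, Sat f (i.p ≫ g) (chartSec f g σ i) h :=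
  (isCMsec_fpFst_iff f (i.p ≫ g)).1 (hf i.V i.aff (i.p ≫ g) (flat_chart hY hM' g hg i)) N hN _

theorem pullback_chartFun_congr {A B : AlgSp.Sp S} (p p' : A ⟶ B) (hp : p = p') (g : B ⟶ Y)
    (g' : A ⟶ Y) (h : p ≫ g = g') (h' : p' ≫ g = g')
    (σ : PshSec N.obj (FibCat.fp (ofSpMap g) f)) :
    PshSec.pullback (chartFun f p g g' h) σ = PshSec.pullback (chartFun f p' g g' h') σ := by
  subst hp; rfl

theorem sat_chart_map (i i' : Chart M') (q : i'.V ⟶ i.V) (hq : (yon S).map q ≫ i.p = i'.p)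
    (h : (yon S).obj i.V ⟶ N) (H : Sat f (i.p ≫ g) (chartSec f g σ i) h) :
    Sat f (i'.p ≫ g) (chartSec f g σ i') ((yon S).map q ≫ h) := by
  have hgq : (yon S).map q ≫ (i.p ≫ g) = i'.p ≫ g := by rw [← Category.assoc, hq]
  have h3 : ((yon S).map q ≫ i.p) ≫ g = i'.p ≫ g := by rw [hq]
  have H1 := sat_chartFun f ((yon S).map q) (i.p ≫ g) (i'.p ≫ g) hgq (chartSec f g σ i) h H
  unfold chartSec at H1 ⊢
  rw [pullback_chartFun_comp f ((yon S).map q) i.p g (i.p ≫ g) (i'.p ≫ g) rfl hgq h3 σ,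
    pullback_chartFun_congr f _ _ hq g (i'.p ≫ g) h3 rfl σ] at H1
  exact H1

/-- The map on a chart. -/
noncomputable def chartMap (i : Chart M') : (yon S).obj i.V ⟶ N :=
  Classical.choose (chartHom f hY hf hM' hN g hg σ i).exists

theorem chartMap_spec (i : Chart M') :
    Sat f (i.p ≫ g) (chartSec f g σ i) (chartMap f hY hf hM' hN g hg σ i) :=
  Classical.choose_spec (chartHom f hY hf hM' hN g hg σ i).exists

theorem chartMap_unique (i : Chart M') (h : (yon S).obj i.V ⟶ N)
    (H : Sat f (i.p ≫ g) (chartSec f g σ i) h) : h = chartMap f hY hf hM' hN g hg σ i :=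
  (chartHom f hY hf hM' hN g hg σ i).unique H (chartMap_spec f hY hf hM' hN g hg σ i)

theorem chartMap_map (i i' : Chart M') (q : i'.V ⟶ i.V) (hq : (yon S).map q ≫ i.p = i'.p) :
    (yon S).map q ≫ chartMap f hY hf hM' hN g hg σ i = chartMap f hY hf hM' hN g hg σ i' :=
  chartMap_unique f hY hf hM' hN g hg σ i' _
    (sat_chart_map f g σ i i' q hq _ (chartMap_spec f hY hf hM' hN g hg σ i))

/-- The affine open cover of a scheme over `S`, as a family in `Over S`. -/
noncomputable abbrev affW (R : Over S) (k : R.left.affineCover.I₀) : Over S :=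
  Over.mk (R.left.affineCover.f k ≫ R.hom)

noncomputable abbrev affι (R : Over S) (k : R.left.affineCover.I₀) : affW R k ⟶ R :=
  Over.homMk (R.left.affineCover.f k) rfl

theorem hom_ext_affine {F : AlgSp.Sp S} (R : Over S) (l l' : (yon S).obj R ⟶ F)
    (h : ∀ k, (yon S).map (affι R k) ≫ l = (yon S).map (affι R k) ≫ l') : l = l' :=
  Groth.Agent.Helper2.AlgSpFormal.hom_ext_of_family (affW R) (affι R)
    (fun k => ⟨(inferInstance : Flat (R.left.affineCover.f k)),
      (inferInstance : LocallyOfFinitePresentation (R.left.affineCover.f k))⟩)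
    (fun x => ⟨R.left.affineCover.idx x, R.left.affineCover.covers x⟩) l l' h

/-- The restriction of an etale map from a scheme to a member of its affine cover. -/
noncomputable def subChart {R : Over S} (a : (yon S).obj R ⟶ M') (ha : RepWith @Etale a)
    (k : R.left.affineCover.I₀) : Chart M' where
  V := affW R k
  p := (yon S).map (affι R k) ≫ a
  aff := by
    show IsAffine (R.left.affineCover.X k)
    infer_instance
  et := (RepWith @Etale).comp_mem _ _
    ((repWith_yon_map_iff @Etale _).2 (by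
      show Etale (R.left.affineCover.f k)
      infer_instance)) ha

include hM' in
theorem epi_charts : Epi (Sigma.desc (fun i : Chart M' => i.p)) := by
  constructor
  intro X a b hab
  have hi : ∀ i : Chart M', i.p ≫ a = i.p ≫ b := fun i => by
    have := congrArg (fun m => Sigma.ι (fun i : Chart M' => (yon S).obj i.V) i ≫ m) hab
    simpa using this
  obtain ⟨U, a₀, hae, has⟩ := hM'.atlas
  haveI : Sheaf.IsLocallySurjective a₀ := isLocallySurjective_of_etale_surjective a₀ hae has
  haveI : Epi a₀ := (Sheaf.isLocallySurjective_iff_epi a₀).mp inferInstance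
  rw [← cancel_epi a₀]
  apply hom_ext_affine
  intro k
  have := hi (subChart a₀ hae k)
  simpa [subChart] using this

theorem chartMap_compat (i i' : Chart M') :
    pullback.fst i.p i'.p ≫ chartMap f hY hf hM' hN g hg σ i =
      pullback.snd i.p i'.p ≫ chartMap f hY hf hM' hN g hg σ i' := by
  obtain ⟨R, π₁, π₂, sqR⟩ := exists_isPullback_yon hM'.diag i.p i'.p
  have hπ₁ : Etale π₁.left :=
    ((repWith_iff @Etale i'.p).1 i'.et).2 i.p ((yon S).map π₂) π₁ sqR.flip
  have ha : RepWith @Etale ((yon S).map π₁ ≫ i.p) :=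
    (RepWith @Etale).comp_mem _ _ ((repWith_yon_map_iff @Etale _).2 hπ₁) i.et
  have key : (yon S).map π₁ ≫ chartMap f hY hf hM' hN g hg σ i =
      (yon S).map π₂ ≫ chartMap f hY hf hM' hN g hg σ i' := by
    apply hom_ext_affine
    intro k
    have e1 := chartMap_map f hY hf hM' hN g hg σ i (subChart ((yon S).map π₁ ≫ i.p) ha k)
      (affι R k ≫ π₁) (by simp [subChart])
    have e2 := chartMap_map f hY hf hM' hN g hg σ i' (subChart ((yon S).map π₁ ≫ i.p) ha k)
      (affι R k ≫ π₂) (by simp [subChart, sqR.w])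
    have e1' : (yon S).map (affι R k) ≫ (yon S).map π₁ ≫ chartMap f hY hf hM' hN g hg σ i =
        chartMap f hY hf hM' hN g hg σ (subChart ((yon S).map π₁ ≫ i.p) ha k) := by
      rw [← Category.assoc, ← Functor.map_comp]; exact e1
    have e2' : (yon S).map (affι R k) ≫ (yon S).map π₂ ≫ chartMap f hY hf hM' hN g hg σ i' =
        chartMap f hY hf hM' hN g hg σ (subChart ((yon S).map π₁ ≫ i.p) ha k) := by
      rw [← Category.assoc, ← Functor.map_comp]; exact e2
    exact e1'.trans e2'.symm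
  apply hom_ext_yon
  intro T s
  have hw : (s ≫ pullback.fst i.p i'.p) ≫ i.p = (s ≫ pullback.snd i.p i'.p) ≫ i'.p := by
    rw [Category.assoc, Category.assoc, pullback.condition]
  have h1 : sqR.lift _ _ hw ≫ (yon S).map π₁ = s ≫ pullback.fst i.p i'.p := sqR.lift_fst _ _ hw
  have h2 : sqR.lift _ _ hw ≫ (yon S).map π₂ = s ≫ pullback.snd i.p i'.p := sqR.lift_snd _ _ hw
  rw [← Category.assoc, ← h1, Category.assoc, key, ← Category.assoc, h2, Category.assoc]

theorem exists_glued :
    ∃ h : M' ⟶ N, ∀ i : Chart M', i.p ≫ h = chartMap f hY hf hM' hN g hg σ i := by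
  haveI := epi_charts hM'
  exact Groth.Agent.Helper2.GlueFamily.exists_desc_of_family
    (fun i : Chart M' => (yon S).obj i.V) (fun i => i.p)
    (fun i => chartMap f hY hf hM' hN g hg σ i) (chartMap_compat f hY hf hM' hN g hg σ)

include hM' in
theorem exists_local_chart (T : Over S) (m : M'.obj.obj (op T)) :
    ∃ (κ : Type u) (W : κ → Over S) (p : ∀ k, W k ⟶ T),
      (∀ k, (@Flat ⊓ @LocallyOfFinitePresentation : MorphismProperty Scheme.{u}) (p k).left) ∧
      (∀ x : T.left, ∃ k, x ∈ Set.range (p k).left) ∧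
      ∀ k, ∃ (i : Chart M') (s : ((yon S).obj i.V).obj.obj (op (W k))),
        i.p.hom.app _ s = M'.obj.map (p k).op m := by
  obtain ⟨U, a₀, hae, has⟩ := hM'.atlas
  haveI : Sheaf.IsLocallySurjective a₀ := isLocallySurjective_of_etale_surjective a₀ hae has
  have hmem : Presheaf.imageSieve a₀.hom m ∈ J S T := Presheaf.imageSieve_mem (J S) a₀.hom m
  obtain ⟨κ, W, p, hp, hs, hR⟩ := Groth.Agent.Helper2.Coprod.exists_family_of_mem_J _ hmem
  choose t ht using hR
  let c := U.left.affineCover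
  let u : ∀ k, W k ⟶ U := fun k => (t k).down
  let W' : (Σ _ : κ, c.I₀) → Over S := fun kj =>
    Over.mk (pullback.fst (u kj.1).left (c.f kj.2) ≫ (W kj.1).hom)
  let o : ∀ kj : (Σ _ : κ, c.I₀), W' kj ⟶ W kj.1 := fun kj =>
    Over.homMk (pullback.fst (u kj.1).left (c.f kj.2)) rfl
  refine ⟨(Σ _ : κ, c.I₀), W', fun kj => o kj ≫ p kj.1, ?_, ?_, ?_⟩
  · intro kj
    haveI : Flat (p kj.1).left := (hp kj.1).1
    haveI : LocallyOfFinitePresentation (p kj.1).left := (hp kj.1).2
    exact ⟨(inferInstance : Flat (pullback.fst (u kj.1).left (c.f kj.2) ≫ (p kj.1).left)),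
      (inferInstance : LocallyOfFinitePresentation
        (pullback.fst (u kj.1).left (c.f kj.2) ≫ (p kj.1).left))⟩
  · intro x
    obtain ⟨k, y, hy⟩ := hs x
    obtain ⟨y', hy'⟩ := c.covers ((u k).left y)
    obtain ⟨z, hz1, hz2⟩ := Scheme.Pullback.exists_preimage_pullback
      (f := (u k).left) (g := c.f (c.idx ((u k).left y))) y y' hy'.symm
    refine ⟨⟨k, c.idx ((u k).left y)⟩, z, ?_⟩
    show ((pullback.fst (u k).left (c.f (c.idx ((u k).left y)))) ≫ (p k).left) z = x
    rw [Scheme.Hom.comp_apply, hz1, hy]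
  · intro kj
    have hw : pullback.snd (u kj.1).left (c.f kj.2) ≫ (affW U kj.2).hom = (W' kj).hom := by
      show pullback.snd (u kj.1).left (c.f kj.2) ≫ c.f kj.2 ≫ U.hom =
        pullback.fst (u kj.1).left (c.f kj.2) ≫ (W kj.1).hom
      rw [← Category.assoc, ← pullback.condition, Category.assoc, Over.w]
    refine ⟨subChart a₀ hae kj.2, ⟨Over.homMk (pullback.snd (u kj.1).left (c.f kj.2)) hw⟩, ?_⟩
    have e1 : M'.obj.map (o kj ≫ p kj.1).op m =
        a₀.hom.app _ (((yon S).obj U).obj.map (o kj).op (t kj.1)) := by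
      rw [op_comp, Functor.map_comp]
      show M'.obj.map (o kj).op (M'.obj.map (p kj.1).op m) = _
      rw [← ht kj.1, NatTrans.naturality_apply]
    rw [e1]
    show a₀.hom.app _ _ = _
    congr 1
    apply ULift.ext
    apply Over.OverMorphism.ext
    exact pullback.condition.symm

theorem sat_glued (h𝒳 : FibCat.IsFibGrpd 𝒳.p) (h : M' ⟶ N)
    (hh : ∀ i : Chart M', i.p ≫ h = chartMap f hY hf hM' hN g hg σ i) : Sat f g σ h := by
  intro z
  let τ : PshSec N.obj (FibCat.fp (ofSpMap g) f) :=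
    PshSec.ofFunctor (BasedFunctor.comp (FibCat.fpFst (ofSpMap g) f) (ofSpMap h))
  have hτ : ∀ z : (FibCat.fp (ofSpMap g) f).obj, τ.val z = h.hom.app _ z.obj.fst.sec := by
    intro z
    show (PshSec.ofFunctor (BasedFunctor.comp (FibCat.fpFst (ofSpMap g) f) (ofSpMap h))).val z = _
    rw [ofFunctor_comp_ofSpMap, ofFunctor_fpFst_val]
    rfl
  rw [← hτ z]
  obtain ⟨κ, W, p, hp, hs, hloc⟩ := exists_local_chart hM' z.obj.fst.base z.obj.fst.sec
  have h𝒵 : FibCat.IsFibGrpd (FibCat.fp (ofSpMap g) f).p :=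
    Groth.Agent.Helper2.isFibGrpd_fp (ofSpMap g) f (Stk.isFibGrpd_ofPsh M'.obj) h𝒳
      (Stk.isFibGrpd_ofPsh Y.obj)
  apply sep h𝒵 N τ σ z W p hp hs
  intro k z' ψ hψ
  haveI := hψ
  obtain ⟨i, s, hs'⟩ := hloc k
  have e₁ : z'.obj.fst.base = W k := @IsHomLift.domain_eq _ _ _ _ _ _ _ _ _ _ _ hψ
  have hs'' : i.p.hom.app _ (PshSec.tr e₁ s) = z'.obj.fst.sec := by
    rw [tr_app, hs']
    have ms := ψ.hom.fst.map_sec
    have fac := @IsHomLift.fac' _ _ _ _ _ _ _ _ _ _ _ hψ
    have fac' : ψ.hom.fst.hom = eqToHom e₁ ≫ p k := by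
      change (FibCat.fp (ofSpMap g) f).p.map ψ = _
      rw [fac]; simp
      rfl
    rw [← ms, fac', op_comp, Functor.map_comp]
    rfl
  rw [hτ z', ← val_chartFun_liftObj f i.p g (i.p ≫ g) rfl σ z' (PshSec.tr e₁ s) hs'']
  have spec := chartMap_spec f hY hf hM' hN g hg σ i
    (liftObj f i.p g (i.p ≫ g) rfl z' (PshSec.tr e₁ s) hs'')
  rw [chartSec, pullback_chartFun_val] at spec
  rw [← spec, ← hh i, ← hs'']
  rfl

include hY hf hM' hg in
theorem isCMsec_of_affine (h𝒳 : FibCat.IsFibGrpd 𝒳.p) :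
    IsCMsec (FibCat.fpFst (ofSpMap g) f) := by
  rw [isCMsec_fpFst_iff]
  intro N hN σ
  obtain ⟨h, hh⟩ := exists_glued f hY hf hM' hN g hg σ
  refine ⟨h, sat_glued f hY hf hM' hN g hg σ h𝒳 h hh, ?_⟩
  intro h' H'
  haveI := epi_charts hM'
  rw [← cancel_epi (Sigma.desc (fun i : Chart M' => i.p))]
  apply Sigma.hom_ext
  intro i
  rw [Sigma.ι_desc_assoc, Sigma.ι_desc_assoc, hh i]
  exact chartMap_unique f hY hf hM' hN g hg σ i _
    (sat_chartFun f i.p g (i.p ≫ g) rfl σ h' H')

end Main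

end Groth.Agent.Lead.UCM
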