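import Mathlib
import Groth.Agent.Lib.Lead.UCMb

/-!
# The base change of a categorical moduli space along the identity (lead)
-/

set_option backward.isDefEq.respectTransparency.types false
set_option autoImplicit false
set_option synthInstance.maxHeartbeats 400000
set_option maxHeartbeats 1000000
set_option linter.style.haveILetI false
set_option linter.unusedSectionVars false
set_option linter.unusedSimpArgs false

open CategoryTheory CategoryTheory.Limits AlgebraicGeometry Opposite AlgSp AlgSt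
open Groth.Agent.Helper2.StkLib Groth.Agent.Helper2.AlgSpBasic

namespace Groth.Agent.Lead.UCM
universe w v u
variable {S : Scheme.{u}}

section Id
variable {𝒳 : BasedCategory.{v, w} (Over S)} {Y : AlgSp.Sp S} (f : 𝒳 ⥤ᵇ ofSp Y)

theorem idIso : Nonempty (BasedFunctor.comp f (ofSpMap (𝟙 Y)) ≅
    BasedFunctor.comp (BasedFunctor.id 𝒳) f) := by
  apply iso_of_ofFunctor_eq
  ext a
  rfl

/-- The section of the second projection of the base change along the identity. -/
noncomputable def idSec : 𝒳 ⥤ᵇ FibCat.fp (ofSpMap (𝟙 Y)) f :=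
  FibCat.fpLift f (BasedFunctor.id 𝒳) (Classical.choice (idIso f))

theorem fst_sec_eq (z : (FibCat.fp (ofSpMap (𝟙 Y)) f).obj) :
    z.obj.fst.sec = PshSec.tr ((FibCat.fpSnd (ofSpMap (𝟙 Y)) f).w_obj z).symm
      ((PshSec.ofFunctor f).val z.obj.snd) := by
  have h1 := PshSec.ofFunctor_eq_of_hom (FibCat.fpIso (ofSpMap (𝟙 Y)) f).hom
  have h2 := congrArg (fun s => s.val z) h1
  rw [PshSec.ofFunctor_comp (FibCat.fpSnd (ofSpMap (𝟙 Y)) f) f] at h2
  simp only at h2
  rw [ofFunctor_comp_ofSpMap, ofFunctor_fpFst_val] at h2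
  exact h2

theorem isCMsec_of_id (H : IsCMsec (FibCat.fpFst (ofSpMap (𝟙 Y)) f)) : IsCMsec f := by
  rw [isCMsec_fpFst_iff] at H
  intro N hN σ
  have key : ∀ h : Y ⟶ N, Sat f (𝟙 Y) (PshSec.pullback (FibCat.fpSnd (ofSpMap (𝟙 Y)) f) σ) h ↔
      ∀ a, h.hom.app _ ((PshSec.ofFunctor f).val a) = σ.val a := by
    intro h
    constructor
    · intro hs a
      have e : (FibCat.fp (ofSpMap (𝟙 Y)) f).p.obj ((idSec f).obj a) = 𝒳.p.obj a :=
        ((FibCat.fpSnd (ofSpMap (𝟙 Y)) f).w_obj ((idSec f).obj a)).symm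
      have k : ((idSec f).obj a).obj.fst.sec = PshSec.tr e ((PshSec.ofFunctor f).val a) :=
        fst_sec_eq f ((idSec f).obj a)
      have h1 : h.hom.app _ ((idSec f).obj a).obj.fst.sec = PshSec.tr e (σ.val a) :=
        hs ((idSec f).obj a)
      have h2 : PshSec.tr e (h.hom.app _ ((PshSec.ofFunctor f).val a)) =
          PshSec.tr e (σ.val a) := by
        rw [← tr_app h.hom e, ← k]; exact h1
      exact PshSec.tr_injective e h2
    · intro ha z
      have e : (FibCat.fp (ofSpMap (𝟙 Y)) f).p.obj z = 𝒳.p.obj z.obj.snd :=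
        ((FibCat.fpSnd (ofSpMap (𝟙 Y)) f).w_obj z).symm
      have k : z.obj.fst.sec = PshSec.tr e ((PshSec.ofFunctor f).val z.obj.snd) :=
        fst_sec_eq f z
      show h.hom.app (op ((FibCat.fp (ofSpMap (𝟙 Y)) f).p.obj z)) z.obj.fst.sec =
        PshSec.tr e (σ.val z.obj.snd)
      calc h.hom.app (op ((FibCat.fp (ofSpMap (𝟙 Y)) f).p.obj z)) z.obj.fst.sec
          = h.hom.app (op ((FibCat.fp (ofSpMap (𝟙 Y)) f).p.obj z))
              (PshSec.tr e ((PshSec.ofFunctor f).val z.obj.snd)) := congrArg _ k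
        _ = PshSec.tr e (h.hom.app _ ((PshSec.ofFunctor f).val z.obj.snd)) := tr_app h.hom e _
        _ = PshSec.tr e (σ.val z.obj.snd) := congrArg _ (ha z.obj.snd)
  obtain ⟨h, hh, huniq⟩ := H N hN (PshSec.pullback (FibCat.fpSnd (ofSpMap (𝟙 Y)) f) σ)
  exact ⟨h, (key h).1 hh, fun h' hh' => huniq h' ((key h').2 hh')⟩

end Id

end Groth.Agent.Lead.UCM
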