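import Mathlib
import Groth.Agent.Lib.Helper6.Thick

set_option backward.isDefEq.respectTransparency.types false
set_option autoImplicit false
set_option synthInstance.maxHeartbeats 400000
set_option maxHeartbeats 1000000
set_option linter.style.haveILetI false
set_option linter.unusedSectionVars false
set_option linter.unusedSimpArgs false

universe u v
open CategoryTheory CategoryTheory.Limits AlgebraicGeometry TopologicalSpace Opposite
open MonoidalCategory CartesianMonoidalCategory MonObj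

namespace Groth.Agent.Lead.UOGrp

section Cat
variable {C : Type u} [Category.{v} C] [CartesianMonoidalCategory C] {G H : C} [GrpObj G] [GrpObj H]

/-- left translation by a global point -/
def tr (g : 𝟙_ C ⟶ G) : G ⟶ G := (toUnit G ≫ g) * 𝟙 G

theorem comp_tr {T : C} (x : T ⟶ G) (g : 𝟙_ C ⟶ G) : x ≫ tr g = (toUnit T ≫ g) * x := by
  unfold tr
  rw [MonObj.comp_mul, Category.comp_id, ← Category.assoc, toUnit_unique (x ≫ toUnit G) (toUnit T)]

theorem tr_mul (g h : 𝟙_ C ⟶ G) : tr (g * h) = tr h ≫ tr g := by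
  rw [comp_tr]
  unfold tr
  rw [← _root_.mul_assoc, MonObj.comp_mul]

theorem tr_one : tr (1 : 𝟙_ C ⟶ G) = 𝟙 G := by
  unfold tr
  rw [MonObj.comp_one, _root_.one_mul]

theorem tr_inv_tr (g : 𝟙_ C ⟶ G) : tr g⁻¹ ≫ tr g = 𝟙 G := by
  rw [← tr_mul, mul_inv_cancel, tr_one]

theorem tr_tr_inv (g : 𝟙_ C ⟶ G) : tr g ≫ tr g⁻¹ = 𝟙 G := by
  rw [← tr_mul, inv_mul_cancel, tr_one]

instance (g : 𝟙_ C ⟶ G) : IsIso (tr g) := ⟨⟨tr g⁻¹, tr_tr_inv g, tr_inv_tr g⟩⟩

theorem tr_comp_hom (u : G ⟶ H) [IsMonHom u] (g : 𝟙_ C ⟶ G) : tr g ≫ u = u ≫ tr (g ≫ u) := by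
  rw [comp_tr]
  unfold tr
  rw [MonObj.mul_comp, Category.id_comp, Category.assoc]

theorem point_tr (x g : 𝟙_ C ⟶ G) : x ≫ tr g = g * x := by
  rw [comp_tr, toUnit_unique (toUnit (𝟙_ C)) (𝟙 _), Category.id_comp]

end Cat

end Groth.Agent.Lead.UOGrp
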