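import Mathlib
import Groth.Agent.Lib.Lead.UOGrp1
import Groth.Agent.Lib.Helper2.Sch.GrpHomField

set_option backward.isDefEq.respectTransparency.types false
set_option autoImplicit false
set_option synthInstance.maxHeartbeats 400000
set_option maxHeartbeats 1000000
set_option linter.style.haveILetI false
set_option linter.unusedSectionVars false
set_option linter.unusedSimpArgs false

universe u
open CategoryTheory CategoryTheory.Limits AlgebraicGeometry TopologicalSpace Opposite
open Groth.Agent.Helper2.FlatPt Groth.Agent.Helper2.GrpHom Groth.Agent.Helper6.Thick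

namespace Groth.Agent.Lead.UOGrp

theorem isReduced_vanishingIdeal_subscheme {X : Scheme.{u}} (Z : TopologicalSpace.Closeds X) :
    IsReduced (Scheme.IdealSheafData.vanishingIdeal Z).subscheme := by
  haveI : ∀ i, IsReduced ((Scheme.IdealSheafData.vanishingIdeal Z).subschemeCover.openCover.X i) := by
    intro U
    change IsReduced (Spec (.of (Γ(X, U.1) ⧸ (Scheme.IdealSheafData.vanishingIdeal Z).ideal U)))
    haveI : _root_.IsReduced (Γ(X, U.1) ⧸ (Scheme.IdealSheafData.vanishingIdeal Z).ideal U) := by
      rw [← Ideal.isRadical_iff_quotient_reduced, Scheme.IdealSheafData.vanishingIdeal_ideal]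
      exact PrimeSpectrum.isRadical_vanishingIdeal _
    infer_instance
  exact IsReduced.of_openCover _ (Scheme.IdealSheafData.vanishingIdeal Z).subschemeCover.openCover

/-- every point of a reduced scheme is a specialisation of a point whose local ring is a field -/
theorem exists_isField_stalk_specializes (X : Scheme.{u}) [IsReduced X] (x : X) :
    ∃ ξ : X, ξ ⤳ x ∧ IsField (X.presheaf.stalk ξ) := by
  have hZ := irreducibleComponent_mem_irreducibleComponents x
  have hcl : IsClosed (irreducibleComponent x) := isClosed_irreducibleComponent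
  obtain ⟨ξ, hξ⟩ : ∃ ξ, ξ = hZ.1.genericPoint := ⟨_, rfl⟩
  have hgen : IsGenericPoint ξ (irreducibleComponent x) :=
    hξ ▸ hZ.1.isGenericPoint_genericPoint hcl
  refine ⟨ξ, ?_, isField_stalk_of_isMax ξ ?_⟩
  · rw [specializes_iff_mem_closure, hgen.def]
    exact mem_irreducibleComponent
  · intro b hbξ
    have hsub : irreducibleComponent x ⊆ closure ({b} : Set X) := by
      rw [← hgen.def]
      exact closure_minimal (Set.singleton_subset_iff.mpr hbξ.mem_closure) isClosed_closure
    have hle : closure ({b} : Set X) ⊆ irreducibleComponent x :=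
      hZ.2 isIrreducible_singleton.closure hsub
    have hbZ : b ∈ closure ({ξ} : Set X) := by
      rw [hgen.def]; exact hle (subset_closure rfl)
    exact specializes_iff_mem_closure.mpr hbZ

/-- a morphism of schemes locally of finite type over a field with open image is universally open
on some nonempty open of the source -/
theorem exists_open_uo (k : Type u) [Field k] {G H : Scheme.{u}}
    (a : G ⟶ Spec (CommRingCat.of k)) (b : H ⟶ Spec (CommRingCat.of k))
    [LocallyOfFiniteType a] [LocallyOfFiniteType b] (u : G ⟶ H) (w : u ≫ b = a)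
    (hU : IsOpen (Set.range u)) [Nonempty G] :
    ∃ W₀ : G.Opens, (W₀ : Set G).Nonempty ∧ UniversallyOpen (W₀.ι ≫ u) := by
  let I : H.IdealSheafData := Scheme.IdealSheafData.vanishingIdeal ⟨Set.univ, isClosed_univ⟩
  haveI : IsReduced I.subscheme := isReduced_vanishingIdeal_subscheme _
  let iH : I.subscheme ⟶ H := I.subschemeι
  haveI : Surjective iH := ⟨by
    rw [← Set.range_eq_univ, Scheme.IdealSheafData.range_subschemeι,
      Scheme.IdealSheafData.coe_support_vanishingIdeal]
    rfl⟩
  let p : pullback u iH ⟶ G := pullback.fst u iH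
  let u' : pullback u iH ⟶ I.subscheme := pullback.snd u iH
  haveI : IsClosedImmersion p := inferInstance
  haveI : Surjective p := inferInstance
  haveI : LocallyOfFiniteType (iH ≫ b) := inferInstance
  haveI : LocallyOfFiniteType (u' ≫ iH ≫ b) := by
    have e : u' ≫ iH ≫ b = p ≫ a := by
      rw [← Category.assoc, ← pullback.condition, Category.assoc, w]
    rw [e]; infer_instance
  haveI : LocallyOfFinitePresentation (u' ≫ iH ≫ b) :=
    LocallyOfFinitePresentation.iff_locallyOfFiniteType.2 inferInstance
  haveI : Flat (iH ≫ b) := inferInstance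
  have hopen := isOpen_flatAt u' (iH ≫ b)
  -- a flat point
  obtain ⟨g₀⟩ := (inferInstance : Nonempty G)
  obtain ⟨z₀, hz₀⟩ := iH.surjective (u g₀)
  obtain ⟨ξ, hξs, hξ⟩ := exists_isField_stalk_specializes I.subscheme z₀
  have hξU : iH ξ ∈ Set.range u := by
    have h1 : iH ξ ⤳ iH z₀ := hξs.map iH.continuous
    rw [hz₀] at h1
    exact h1.mem_open hU ⟨g₀, rfl⟩
  obtain ⟨g₁, hg₁⟩ := hξU
  obtain ⟨x', hx'1, hx'2⟩ := Scheme.Pullback.exists_preimage_pullback (f := u) (g := iH) g₁ ξ hg₁
  have hfl : FlatAt u' x' := by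
    unfold FlatAt
    apply RingHom.Flat.of_isField
    rw [show u' x' = ξ from hx'2]; exact hξ
  let F : (pullback u iH).Opens := ⟨{x | FlatAt u' x}, hopen⟩
  have hpo : IsOpenMap p :=
    (p.isClosedEmbedding.isEmbedding.toHomeomorphOfSurjective p.surjective).isOpenMap
  let W₀ : G.Opens := ⟨p '' (F : Set _), hpo _ F.2⟩
  have hF' : ∀ v : ↥(p ⁻¹ᵁ W₀), FlatAt u' v.1 := by
    intro v
    obtain ⟨y, hy, hyv⟩ := v.2
    have : y = v.1 := p.isClosedEmbedding.injective hyv
    rw [← this]; exact hy
  haveI : LocallyOfFiniteType u' := locallyOfFiniteType_of_comp u' (iH ≫ b)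
  haveI : IsLocallyNoetherian I.subscheme := LocallyOfFiniteType.isLocallyNoetherian (iH ≫ b)
  haveI : LocallyOfFinitePresentation u' :=
    LocallyOfFinitePresentation.iff_locallyOfFiniteType.2 inferInstance
  haveI : Flat ((p ⁻¹ᵁ W₀).ι ≫ u') := by
    rw [flat_iff_forall_flatAt]
    intro v
    rw [flatAt_comp_openImmersion_iff]
    exact hF' v
  have hUO : UniversallyOpen ((p ⁻¹ᵁ W₀).ι ≫ u') := inferInstance
  refine ⟨W₀, ⟨p x', x', hfl, rfl⟩, ?_⟩
  haveI : Surjective (p ∣_ W₀) :=
    MorphismProperty.of_isPullback (P := @Surjective) (isPullback_morphismRestrict p W₀).flip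
      inferInstance
  have hw : (p ∣_ W₀) ≫ (W₀.ι ≫ u) = ((p ⁻¹ᵁ W₀).ι ≫ u') ≫ iH := by
    rw [← Category.assoc, morphismRestrict_ι, Category.assoc, Category.assoc]
    congr 1
    exact pullback.condition
  exact (square_iff @UniversallyOpen
    (fun i h1 h2 => universallyOpen_of_thick i h1 h2)
    (fun i g _ h2 h => universallyOpen_of_comp_surjective i g h h2)
    (p ∣_ W₀) iH ((p ⁻¹ᵁ W₀).ι ≫ u') (W₀.ι ≫ u) inferInstance inferInstance inferInstance
    inferInstance hw).mp hUO

end Groth.Agent.Lead.UOGrp
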