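import Mathlib
import Groth.Prelude.Def_Red
import Groth.Agent.Lib.Lead.UOGrp2
import Groth.Agent.Lib.Lead.GrpMonoCl3
import Groth.Agent.Lib.Helper6.UOpen.Point

set_option backward.isDefEq.respectTransparency.types false
set_option autoImplicit false
set_option synthInstance.maxHeartbeats 400000
set_option maxHeartbeats 1000000
set_option linter.style.haveILetI false
set_option linter.unusedSectionVars false
set_option linter.unusedSimpArgs false

universe u
open CategoryTheory CategoryTheory.Limits AlgebraicGeometry TopologicalSpace Opposite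
open MonoidalCategory CartesianMonoidalCategory MonObj
open Groth.Agent.Helper6.Thick

namespace Groth.Agent.Lead.UOGrp

/-- a homomorphism with open image between group schemes locally of finite type over an
algebraically closed field is universally open -/
theorem universallyOpen_of_isOpen_range_algClosed (k : Type u) [Field k] [IsAlgClosed k]
    (G H : Over (Spec (CommRingCat.of k))) [GrpObj G] [GrpObj H]
    [LocallyOfFiniteType G.hom] [LocallyOfFiniteType H.hom]
    (u : G ⟶ H) [IsMonHom u] (hU : IsOpen (Set.range u.left)) : UniversallyOpen u.left := by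
  let pt : ↥(Spec (CommRingCat.of k)) := IsLocalRing.closedPoint k
  haveI : Nonempty G.left := ⟨(η[G]).left pt⟩
  obtain ⟨W₀, hW₀ne, hW₀⟩ := exists_open_uo k G.hom H.hom u.left (Over.w u) hU
  haveI : JacobsonSpace G.left := LocallyOfFiniteType.jacobsonSpace G.hom
  -- a closed point in `W₀`
  have hdense : Dense (closedPoints G.left) := by
    rw [dense_iff_closure_eq]; exact closure_closedPoints
  obtain ⟨v, hvW, hvc⟩ := (dense_iff_inter_open.mp hdense) _ W₀.2 hW₀ne
  let vt : 𝟙_ (Over (Spec (CommRingCat.of k))) ⟶ G :=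
    Over.homMk (pointOfClosedPoint G.hom v hvc) (pointOfClosedPoint_comp G.hom v hvc)
  have key : ∀ x : G.left, IsClosed ({x} : Set G.left) →
      ∃ W : G.left.Opens, x ∈ W ∧ UniversallyOpen (W.ι ≫ u.left) := by
    intro x hx
    let xt : 𝟙_ (Over (Spec (CommRingCat.of k))) ⟶ G :=
      Over.homMk (pointOfClosedPoint G.hom x hx) (pointOfClosedPoint_comp G.hom x hx)
    let g : 𝟙_ (Over (Spec (CommRingCat.of k))) ⟶ G := xt * vt⁻¹
    let β : G ⟶ G := tr g⁻¹
    have hβ : xt ≫ β = vt := by
      show xt ≫ tr g⁻¹ = vt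
      rw [point_tr]
      show (xt * vt⁻¹)⁻¹ * xt = vt
      rw [_root_.mul_inv_rev, inv_inv, _root_.mul_assoc, inv_mul_cancel, _root_.mul_one]
    have hβx : β.left x = v := by
      have h1 := congrArg (fun φ => φ.left pt) hβ
      simp only [Over.comp_left, Scheme.Hom.comp_apply] at h1
      have h2 : xt.left pt = x := pointOfClosedPoint_apply G.hom x hx pt
      have h3 : vt.left pt = v := pointOfClosedPoint_apply G.hom v hvc pt
      rw [h2, h3] at h1
      exact h1
    haveI : IsIso β := inferInstanceAs (IsIso (tr g⁻¹))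
    haveI : IsIso β.left := inferInstanceAs (IsIso ((Over.forget _).map β))
    haveI : IsIso (tr (g ≫ u)).left := inferInstanceAs (IsIso ((Over.forget _).map (tr (g ≫ u))))
    refine ⟨β.left ⁻¹ᵁ W₀, ?_, ?_⟩
    · show β.left x ∈ W₀
      rw [hβx]; exact hvW
    · have e1 : β ≫ tr g = 𝟙 G := tr_inv_tr g
      have e2 : tr g ≫ u = u ≫ tr (g ≫ u) := tr_comp_hom u g
      have e3 : (β.left ⁻¹ᵁ W₀).ι ≫ u.left =
          (β.left ∣_ W₀) ≫ (W₀.ι ≫ u.left) ≫ (tr (g ≫ u)).left := by
        calc (β.left ⁻¹ᵁ W₀).ι ≫ u.left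
            = (β.left ⁻¹ᵁ W₀).ι ≫ (β ≫ tr g ≫ u).left := by
              rw [← Category.assoc β, e1, Category.id_comp]
          _ = (β.left ⁻¹ᵁ W₀).ι ≫ β.left ≫ (u ≫ tr (g ≫ u)).left := by
              rw [e2, Over.comp_left]
          _ = ((β.left ∣_ W₀) ≫ W₀.ι) ≫ (u ≫ tr (g ≫ u)).left := by
              rw [morphismRestrict_ι, Category.assoc]
          _ = (β.left ∣_ W₀) ≫ (W₀.ι ≫ u.left) ≫ (tr (g ≫ u)).left := by
              rw [Over.comp_left, Category.assoc, Category.assoc]
      rw [e3]
      haveI := hW₀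
      infer_instance
  -- conclude
  let ι' := {W : G.left.Opens // UniversallyOpen (W.ι ≫ u.left)}
  have htop : (⨆ W : ι', W.1) = ⊤ := by
    by_contra hne
    have hcl : IsClosed ((((⨆ W : ι', W.1 : G.left.Opens)) : Set G.left)ᶜ) :=
      (⨆ W : ι', W.1 : G.left.Opens).2.isClosed_compl
    have hne' : ((((⨆ W : ι', W.1 : G.left.Opens)) : Set G.left)ᶜ).Nonempty := by
      rw [Set.nonempty_compl]
      intro h
      exact hne (Opens.ext h)
    have hJ := closure_inter_closedPoints (X := G.left) hcl
    have hne2 : ((((⨆ W : ι', W.1 : G.left.Opens)) : Set G.left)ᶜ ∩ closedPoints G.left).Nonempty := by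
      by_contra hemp
      rw [Set.not_nonempty_iff_eq_empty] at hemp
      rw [hemp, closure_empty] at hJ
      rw [← hJ] at hne'
      exact Set.not_nonempty_empty hne'
    obtain ⟨x, hxn, hxc⟩ := hne2
    obtain ⟨W, hxW, hWu⟩ := key x hxc
    exact hxn (Opens.mem_iSup.mpr ⟨⟨W, hWu⟩, hxW⟩)
  exact (IsZariskiLocalAtSource.iff_of_iSup_eq_top (P := @UniversallyOpen) (fun W : ι' => W.1)
    htop).mpr fun W => W.2

end Groth.Agent.Lead.UOGrp
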