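import Mathlib
import Groth.Prelude.Def_Red
import Groth.Agent.Lib.Lead.UOGrp3

set_option backward.isDefEq.respectTransparency.types false
set_option autoImplicit false
set_option synthInstance.maxHeartbeats 400000
set_option maxHeartbeats 1000000
set_option linter.style.haveILetI false
set_option linter.unusedSectionVars false
set_option linter.unusedSimpArgs false

universe u
open CategoryTheory CategoryTheory.Limits AlgebraicGeometry TopologicalSpace Opposite
open MonoidalCategory CartesianMonoidalCategory MonObj
open Groth.Agent.Helper6.Thick Groth.Agent.Lead.GrpMonoCl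

namespace Groth.Agent.Lead.UOGrp

theorem main3038 (A : Type u) [CommRing A] [IsArtinianRing A] [IsLocalRing A]
    (G H : Over (Spec (CommRingCat.of A))) [GrpObj G] [GrpObj H]
    [LocallyOfFiniteType G.hom] [LocallyOfFiniteType H.hom]
    (u : G ⟶ H) [IsMonHom u] (hu : IsOpenMap u.left.base) : UniversallyOpen u.left := by
  let K : Type u := AlgebraicClosure (IsLocalRing.ResidueField A)
  let q : Spec (CommRingCat.of K) ⟶ Spec (CommRingCat.of A) :=
    Spec.map (CommRingCat.ofHom (algebraMap A K))
  haveI : Subsingleton ↥(Spec (CommRingCat.of A)) :=
    inferInstanceAs (Subsingleton (PrimeSpectrum A))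
  haveI : Nonempty ↥(Spec (CommRingCat.of K)) := inferInstance
  haveI : Surjective q := ⟨fun x => by
    obtain ⟨pt⟩ := (inferInstance : Nonempty ↥(Spec (CommRingCat.of K)))
    exact ⟨pt, Subsingleton.elim _ _⟩⟩
  haveI : UniversallyOpen q := Groth.Agent.Lib.Helper6.UOpen.Point.universallyOpen_of_subsingleton q
  have sq := isPullback_map_left q u
  let uk : Red.bc q G ⟶ Red.bc q H := (Over.pullback q).map u
  haveI : IsMonHom uk := inferInstance
  haveI : LocallyOfFiniteType (Red.bc q G).hom := MorphismProperty.pullback_snd _ _ inferInstance
  haveI : LocallyOfFiniteType (Red.bc q H).hom := MorphismProperty.pullback_snd _ _ inferInstance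
  have hrange : IsOpen (Set.range uk.left) := by
    have h1 := Scheme.image_preimage_eq_of_isPullback sq Set.univ
    rw [Set.preimage_univ, Set.image_univ, Set.image_univ] at h1
    rw [show Set.range uk.left = Set.range uk.left.base from rfl, h1]
    exact hu.isOpen_range.preimage (Scheme.Hom.continuous _)
  haveI : UniversallyOpen uk.left := universallyOpen_of_isOpen_range_algClosed K _ _ uk hrange
  haveI : UniversallyOpen (pullback.fst H.hom q) := inferInstance
  haveI : Surjective (pullback.fst G.hom q) := inferInstance
  have hcomp : UniversallyOpen (pullback.fst G.hom q ≫ u.left) := by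
    rw [sq.w]; infer_instance
  exact universallyOpen_of_comp_surjective (pullback.fst G.hom q) u.left hcomp inferInstance

end Groth.Agent.Lead.UOGrp
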