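import Mathlib

set_option autoImplicit false
universe u
open TensorProduct

namespace Groth.Agent.Lead.UT

section Sq

variable {B' B : Type u} [CommRing B'] [CommRing B] [Algebra B' B]
  {P Q M N : Type u} [AddCommGroup P] [Module B' P] [AddCommGroup Q] [Module B' Q]
  [AddCommGroup M] [Module B' M] [Module B M] [IsScalarTower B' B M]
  [AddCommGroup N] [Module B' N] [Module B N] [IsScalarTower B' B N]
  (f₁ : P →ₗ[B'] M) (hf₁ : IsBaseChange B f₁) (f₂ : Q →ₗ[B'] N) (hf₂ : IsBaseChange B f₂)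
  (m : P →ₗ[B'] Q) (c : M →ₗ[B] N) (hsq : ∀ p, c (f₁ p) = f₂ (m p))

include hf₁ hf₂ hsq in
/-- a map between base changes which is compatible with a map of the original modules is the base
change of that map. -/
theorem bijective_of_bc_square (hm : Function.Bijective (m.baseChange B)) :
    Function.Bijective c := by
  have key : c.comp hf₁.equiv.toLinearMap = hf₂.equiv.toLinearMap.comp (m.baseChange B) := by
    apply TensorProduct.AlgebraTensorModule.curry_injective
    ext p
    change c (hf₁.equiv (1 ⊗ₜ p)) = hf₂.equiv ((m.baseChange B) (1 ⊗ₜ p))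
    rw [hf₁.equiv_tmul, one_smul, LinearMap.baseChange_tmul, hf₂.equiv_tmul, one_smul, hsq]
  have h2 : Function.Bijective (c.comp hf₁.equiv.toLinearMap) := by
    rw [key]
    exact hf₂.equiv.bijective.comp hm
  have h3 : (c : M → N) = (c.comp hf₁.equiv.toLinearMap) ∘ hf₁.equiv.symm := by
    funext x
    simp
  rw [h3]
  exact h2.comp hf₁.equiv.symm.bijective

end Sq

section Kae

variable (R A B' B : Type u) [CommRing R] [CommRing A] [CommRing B'] [CommRing B]
  [Algebra R A] [Algebra A B'] [Algebra R B'] [IsScalarTower R A B'] [Algebra B' B]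
  (hbij : Function.Bijective ((KaehlerDifferential.mapBaseChange R A B').baseChange B))
  {MA : Type u} [AddCommGroup MA] [Module A MA] (kA : Ω[A⁄R] ≃ₗ[A] MA)
  {M' N' : Type u} [AddCommGroup M'] [Module B' M'] [Module A M'] [IsScalarTower A B' M']
  [AddCommGroup N'] [Module B' N']
  (l₁ : MA →ₗ[A] M') (hl₁ : IsBaseChange B' l₁)
  (kB' : Ω[B'⁄R] ≃ₗ[B'] N')
  (c' : M' →ₗ[B'] N')
  (hc' : ∀ a, c' (l₁ (kA (KaehlerDifferential.D R A a))) =
    kB' (KaehlerDifferential.D R B' (algebraMap A B' a)))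
  {M'' N'' : Type u} [AddCommGroup M''] [Module B' M''] [Module B M''] [IsScalarTower B' B M'']
  [AddCommGroup N''] [Module B' N''] [Module B N''] [IsScalarTower B' B N'']
  (l₂ : M' →ₗ[B'] M'') (hl₂ : IsBaseChange B l₂) (l₃ : N' →ₗ[B'] N'') (hl₃ : IsBaseChange B l₃)
  (c'' : M'' →ₗ[B] N'') (hc'' : ∀ x, c'' (l₂ x) = l₃ (c' x))

include hbij hl₁ hc' hl₂ hl₃ hc'' in
theorem bijective_of_chart : Function.Bijective c'' := by
  have hl₁' : IsBaseChange B' (l₁.comp kA.toLinearMap) := IsBaseChange.comp_equiv kA l₁ hl₁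
  let θ₁ : B' ⊗[A] Ω[A⁄R] ≃ₗ[B'] M' := hl₁'.equiv
  have hf₁ : IsBaseChange B (l₂.comp θ₁.toLinearMap) := IsBaseChange.comp_equiv θ₁ l₂ hl₂
  have hf₂ : IsBaseChange B (l₃.comp kB'.toLinearMap) := IsBaseChange.comp_equiv kB' l₃ hl₃
  refine bijective_of_bc_square _ hf₁ _ hf₂ (KaehlerDifferential.mapBaseChange R A B') c'' ?_ hbij
  intro p
  change c'' (l₂ (θ₁ p)) = l₃ (kB' (KaehlerDifferential.mapBaseChange R A B' p))
  rw [hc'']
  congr 1
  induction p using TensorProduct.induction_on with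
  | zero => simp
  | add x y hx hy => rw [map_add, map_add, map_add, map_add, hx, hy]
  | tmul b ω =>
    have hω : ω ∈ Submodule.span A (Set.range (KaehlerDifferential.D R A)) := by
      rw [KaehlerDifferential.span_range_derivation]; trivial
    induction hω using Submodule.span_induction generalizing b with
    | mem y hy =>
      obtain ⟨a, rfl⟩ := hy
      change c' (hl₁'.equiv (b ⊗ₜ _)) = _
      rw [hl₁'.equiv_tmul, map_smul]
      change b • c' (l₁ (kA _)) = _
      rw [hc', KaehlerDifferential.mapBaseChange_tmul, map_smul, KaehlerDifferential.map_D]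
    | zero => simp
    | add y z _ _ hy hz =>
      rw [TensorProduct.tmul_add, map_add, map_add, map_add, map_add, hy, hz]
    | smul a y _ hy =>
      rw [← TensorProduct.smul_tmul, hy]

end Kae

section Kae'

variable (R A B' B : Type u) [CommRing R] [CommRing A] [CommRing B'] [CommRing B]
  [Algebra R A] [Algebra A B'] [Algebra R B'] [IsScalarTower R A B'] [Algebra B' B]
  (hbij : Function.Bijective ((KaehlerDifferential.mapBaseChange R A B').baseChange B))
  {MA : Type u} [AddCommGroup MA] [Module A MA] (eA : MA ≃ₗ[A] Ω[A⁄R])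
  (dA : A → MA) (hdA : ∀ a, eA (dA a) = KaehlerDifferential.D R A a)
  {M' N' : Type u} [AddCommGroup M'] [Module B' M'] [Module A M'] [IsScalarTower A B' M']
  [AddCommGroup N'] [Module B' N']
  (l₁ : MA →ₗ[A] M') (hl₁ : IsBaseChange B' l₁)
  (eB' : N' ≃ₗ[B'] Ω[B'⁄R])
  (dB' : B' → N') (hdB' : ∀ b, eB' (dB' b) = KaehlerDifferential.D R B' b)
  (c' : M' →ₗ[B'] N')
  (hc' : ∀ a, c' (l₁ (dA a)) = dB' (algebraMap A B' a))
  {M'' N'' : Type u} [AddCommGroup M''] [Module B' M''] [Module B M''] [IsScalarTower B' B M'']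
  [AddCommGroup N''] [Module B' N''] [Module B N''] [IsScalarTower B' B N'']
  (l₂ : M' →ₗ[B'] M'') (hl₂ : IsBaseChange B l₂) (l₃ : N' →ₗ[B'] N'') (hl₃ : IsBaseChange B l₃)
  (c'' : M'' →ₗ[B] N'') (hc'' : ∀ x, c'' (l₂ x) = l₃ (c' x))

include hbij hdA hl₁ hdB' hc' hl₂ hl₃ hc'' in
theorem bijective_of_chart' : Function.Bijective c'' := by
  refine bijective_of_chart R A B' B hbij eA.symm l₁ hl₁ eB'.symm c' ?_ l₂ hl₂ l₃ hl₃ c'' hc''
  intro a
  have h1 : eA.symm (KaehlerDifferential.D R A a) = dA a := by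
    rw [LinearEquiv.symm_apply_eq, hdA]
  have h2 : eB'.symm (KaehlerDifferential.D R B' (algebraMap A B' a)) = dB' (algebraMap A B' a) := by
    rw [LinearEquiv.symm_apply_eq, hdB']
  rw [h1, h2, hc']

end Kae'

end Groth.Agent.Lead.UT
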