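import Mathlib
import Groth.Prelude.Def_Omega4
import Groth.Prelude.Def_MoreMor
import Groth.Agent.Lib.Lead.UT5
import Groth.Agent.Lib.Lead.ConComp
import Groth.Agent.Lib.Lead.ConPb
import Groth.Agent.Lib.Lead.ConSeq4

set_option autoImplicit false
universe u
open CategoryTheory CategoryTheory.Limits AlgebraicGeometry TopologicalSpace Opposite

set_option backward.isDefEq.respectTransparency.types false

namespace Groth.Agent.Lead.UT6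

open OmegaSh Groth.Agent.Lead.DerU Groth.Agent.Lead.IdM Groth.Agent.Lead.OmU
  Groth.Agent.Lead.BCU Groth.Agent.Lead.ConMap Groth.Agent.Lead.ConChart
  Groth.Agent.Lead.UT5 Groth.Agent.Lead.ConComp

section Split

variable {Z X Y Z' Z'' : Scheme.{u}} (i : Z ⟶ X) (p : X ⟶ Y)
    (hp : MoreMor.IsFormallySmoothHom p)
    (i' : Z ⟶ Z') (a : Z' ⟶ X) (hZ' : IsUnivThickening i i' a)
    (b : Z'' ⟶ Y) (k : Z' ⟶ Z'') (hZ'' : IsUnivThickening (i ≫ p) (i' ≫ k) b)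
    (hk₂ : k ≫ b = a ≫ p)
    (ψ : (Scheme.Modules.pullback (𝟙 Z)).obj (Omega.conormal (i' ≫ k)) ⟶ Omega.conormal i')
    (hψ : IsConormalMap i' (i' ≫ k) k (𝟙 Z) ψ)

include hZ' hZ'' hψ in
omit hp in
theorem exists_pullback_retraction_of_section (V : Z''.Opens)
    (s : (V : Scheme.{u}) ⟶ Z') (hs1 : ((i' ≫ k) ∣_ V) ≫ s = ((i' ≫ k) ⁻¹ᵁ V).ι ≫ i')
    (hs2 : s ≫ k = V.ι) :
    ∃ r' : (Scheme.Modules.pullback ((i' ≫ k) ⁻¹ᵁ V).ι).obj (Omega.conormal i') ⟶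
        (Scheme.Modules.pullback ((i' ≫ k) ⁻¹ᵁ V).ι).obj
          ((Scheme.Modules.pullback (𝟙 Z)).obj (Omega.conormal (i' ≫ k))),
      (Scheme.Modules.pullback ((i' ≫ k) ⁻¹ᵁ V).ι).map ψ ≫ r' = 𝟙 _ := by
  have ht := isFirstOrderThickening_restrict i p (i' ≫ k) b hZ'' V
  haveI : IsClosedImmersion ((i' ≫ k) ∣_ V) := ht.1.1
  haveI : IsClosedImmersion i' := hZ'.1.1.1
  haveI : IsClosedImmersion (i' ≫ k) := hZ''.1.1.1
  obtain ⟨β, hβ, -⟩ := existsUnique_conormalMap ((i' ≫ k) ∣_ V) i' s ((i' ≫ k) ⁻¹ᵁ V).ι hs1.symm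
  have hγ := isConormalMap_comp ((i' ≫ k) ∣_ V) i' s ((i' ≫ k) ⁻¹ᵁ V).ι k β hβ ψ hψ
  have Hpb : IsPullback ((i' ≫ k) ∣_ V) ((i' ≫ k) ⁻¹ᵁ V).ι (s ≫ k) (i' ≫ k) := by
    rw [hs2]
    exact isPullback_morphismRestrict (i' ≫ k) V
  haveI : Flat (s ≫ k) := by
    rw [hs2]
    infer_instance
  haveI hiso := Groth.Agent.Lead.ConPb.isIso_of_isPullback_of_flat ((i' ≫ k) ∣_ V) (i' ≫ k) (s ≫ k)
    ((i' ≫ k) ⁻¹ᵁ V).ι Hpb _ hγ
  have e1 : (Scheme.Modules.pullback ((i' ≫ k) ⁻¹ᵁ V).ι).map ψ =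
      (Scheme.Modules.pullback ((i' ≫ k) ⁻¹ᵁ V).ι).map
        ((Scheme.Modules.pullbackId Z).hom.app (Omega.conormal (i' ≫ k))) ≫
      (Scheme.Modules.pullback ((i' ≫ k) ⁻¹ᵁ V).ι).map
        ((Scheme.Modules.pullbackId Z).inv.app (Omega.conormal (i' ≫ k)) ≫ ψ) := by
    rw [← Functor.map_comp, ← Category.assoc, Iso.hom_inv_id_app, Category.id_comp]
  generalize (Scheme.Modules.pullback ((i' ≫ k) ⁻¹ᵁ V).ι).map
        ((Scheme.Modules.pullbackId Z).inv.app (Omega.conormal (i' ≫ k)) ≫ ψ) = ψ₀ at e1 hiso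
  refine ⟨β ≫ inv (ψ₀ ≫ β) ≫
      (Scheme.Modules.pullback ((i' ≫ k) ⁻¹ᵁ V).ι).map
        ((Scheme.Modules.pullbackId Z).inv.app (Omega.conormal (i' ≫ k))), ?_⟩
  rw [e1, Category.assoc, ← Category.assoc ψ₀ β, IsIso.hom_inv_id_assoc, ← Functor.map_comp,
    Iso.hom_inv_id_app]
  exact CategoryTheory.Functor.map_id _ _

include hp hZ' hZ'' hk₂ hψ in
theorem exists_pullback_retraction (V : Z''.Opens) (hV : IsAffineOpen V) :
    ∃ r' : (Scheme.Modules.pullback ((i' ≫ k) ⁻¹ᵁ V).ι).obj (Omega.conormal i') ⟶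
        (Scheme.Modules.pullback ((i' ≫ k) ⁻¹ᵁ V).ι).obj
          ((Scheme.Modules.pullback (𝟙 Z)).obj (Omega.conormal (i' ≫ k))),
      (Scheme.Modules.pullback ((i' ≫ k) ⁻¹ᵁ V).ι).map ψ ≫ r' = 𝟙 _ := by
  obtain ⟨s, hs1, hs2⟩ := exists_local_section i p hp i' a hZ' (i' ≫ k) b hZ'' k rfl hk₂ V hV
  exact exists_pullback_retraction_of_section i p i' a hZ' b k hZ'' ψ hψ V s hs1 hs2

include hp hZ' hZ'' hk₂ hψ in
theorem exists_restrict_retraction (V : Z''.Opens) (hV : IsAffineOpen V) :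
    ∃ r : (Scheme.Modules.restrictFunctor ((i' ≫ k) ⁻¹ᵁ V).ι).obj (Omega.conormal i') ⟶
        (Scheme.Modules.restrictFunctor ((i' ≫ k) ⁻¹ᵁ V).ι).obj
          ((Scheme.Modules.pullback (𝟙 Z)).obj (Omega.conormal (i' ≫ k))),
      (Scheme.Modules.restrictFunctor ((i' ≫ k) ⁻¹ᵁ V).ι).map ψ ≫ r = 𝟙 _ := by
  obtain ⟨r', hr'⟩ := exists_pullback_retraction i p hp i' a hZ' b k hZ'' hk₂ ψ hψ V hV
  refine ⟨(Scheme.Modules.restrictFunctorIsoPullback ((i' ≫ k) ⁻¹ᵁ V).ι).hom.app _ ≫ r' ≫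
    (Scheme.Modules.restrictFunctorIsoPullback ((i' ≫ k) ⁻¹ᵁ V).ι).inv.app _, ?_⟩
  rw [← Category.assoc, (Scheme.Modules.restrictFunctorIsoPullback ((i' ≫ k) ⁻¹ᵁ V).ι).hom.naturality,
    Category.assoc, ← Category.assoc _ r', hr', Category.id_comp, Iso.hom_inv_id_app]

include hp hZ' hZ'' hk₂ hψ in
/-- the local splittings of `C_{Z/Z''} → C_{Z/Z'}`. -/
theorem locally_split (z : Z) :
    ∃ (U : Z.Opens) (r : (Scheme.Modules.restrictFunctor U.ι).obj (Omega.conormal i') ⟶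
        (Scheme.Modules.restrictFunctor U.ι).obj
          ((Scheme.Modules.pullback (𝟙 Z)).obj (Omega.conormal (i' ≫ k)))),
      z ∈ U ∧ (Scheme.Modules.restrictFunctor U.ι).map ψ ≫ r = 𝟙 _ := by
  obtain ⟨_, ⟨V, hV, rfl⟩, hzV, -⟩ := Z''.isBasis_affineOpens.exists_subset_of_mem_open
    (Set.mem_univ ((i' ≫ k) z)) isOpen_univ
  obtain ⟨r, hr⟩ := exists_restrict_retraction i p hp i' a hZ' b k hZ'' hk₂ ψ hψ V hV
  exact ⟨(i' ≫ k) ⁻¹ᵁ V, r, hzV, hr⟩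

include hZ' hZ'' hk₂ hψ in
omit hp in
/-- the local splittings, from the local lifting property of `p`. -/
theorem locally_split' (hl : LocLift i p) (z : Z) :
    ∃ (U : Z.Opens) (r : (Scheme.Modules.restrictFunctor U.ι).obj (Omega.conormal i') ⟶
        (Scheme.Modules.restrictFunctor U.ι).obj
          ((Scheme.Modules.pullback (𝟙 Z)).obj (Omega.conormal (i' ≫ k)))),
      z ∈ U ∧ (Scheme.Modules.restrictFunctor U.ι).map ψ ≫ r = 𝟙 _ := by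
  obtain ⟨V, hzV, hlift⟩ := hl Z'' (i' ≫ k) b hZ''.1 hZ''.2.1 z
  obtain ⟨s, hs1, hs2⟩ := exists_local_section' i p i' a hZ' (i' ≫ k) b hZ'' k rfl hk₂ V hlift
  obtain ⟨r', hr'⟩ := exists_pullback_retraction_of_section i p i' a hZ' b k hZ'' ψ hψ V s hs1 hs2
  refine ⟨(i' ≫ k) ⁻¹ᵁ V,
    (Scheme.Modules.restrictFunctorIsoPullback ((i' ≫ k) ⁻¹ᵁ V).ι).hom.app _ ≫ r' ≫
    (Scheme.Modules.restrictFunctorIsoPullback ((i' ≫ k) ⁻¹ᵁ V).ι).inv.app _, hzV, ?_⟩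
  rw [← Category.assoc, (Scheme.Modules.restrictFunctorIsoPullback ((i' ≫ k) ⁻¹ᵁ V).ι).hom.naturality,
    Category.assoc, ← Category.assoc _ r', hr', Category.id_comp, Iso.hom_inv_id_app]

end Split

section MonoLoc

variable {Z : Scheme.{u}} {M N : Z.Modules} (ψ : M ⟶ N)

theorem mono_of_local_retractions
    (h : ∀ z : Z, ∃ (U : Z.Opens) (r : (Scheme.Modules.restrictFunctor U.ι).obj N ⟶
        (Scheme.Modules.restrictFunctor U.ι).obj M),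
      z ∈ U ∧ (Scheme.Modules.restrictFunctor U.ι).map ψ ≫ r = 𝟙 _) : Mono ψ := by
  apply mono_of_locally_injective
  intro z O hz
  obtain ⟨U, r, hzU, hr⟩ := h z
  refine ⟨U.ι ''ᵁ (U.ι ⁻¹ᵁ O), ?_, ?_, ?_⟩
  · exact ⟨⟨z, hzU⟩, hz, rfl⟩
  · rintro _ ⟨y, hy, rfl⟩
    exact hy
  · have h1 := congrArg (fun f => Scheme.Modules.Hom.app f (U.ι ⁻¹ᵁ O)) hr
    apply Function.LeftInverse.injective (g := r.app (U.ι ⁻¹ᵁ O))
    intro x
    exact congrArg (fun f => f x) h1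

end MonoLoc

set_option maxHeartbeats 400000 in
theorem main9786 {Z X Y Z' Z'' : Scheme.{u}} (i : Z ⟶ X) (p : X ⟶ Y)
    (hp : MoreMor.IsFormallySmoothHom p)
    (i' : Z ⟶ Z') (a : Z' ⟶ X) (hZ' : OmegaSh.IsUnivThickening i i' a)
    (i'' : Z ⟶ Z'') (b : Z'' ⟶ Y) (hZ'' : OmegaSh.IsUnivThickening (i ≫ p) i'' b)
    (k : Z' ⟶ Z'') (hk₁ : i' ≫ k = i'') (hk₂ : k ≫ b = a ≫ p)
    (Ω : Z'.Modules) (d : OmegaSh.Der k Ω) (hd : OmegaSh.IsUniversal d)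
    (ψ : (Scheme.Modules.pullback (𝟙 Z)).obj (Omega.conormal i'') ⟶ Omega.conormal i')
    (hψ : OmegaSh.IsConormalMap i' i'' k (𝟙 Z) ψ)
    (φ : Omega.conormal i' ⟶ (Scheme.Modules.pullback i').obj Ω)
    (hφ : OmegaSh.IsConormalDiff i' d φ) :
    ∃ w : ψ ≫ φ = 0, (ShortComplex.mk ψ φ w).ShortExact ∧
      ∀ z : Z, ∃ (U : Z.Opens)
        (r : (Scheme.Modules.restrictFunctor U.ι).obj (Omega.conormal i') ⟶
          (Scheme.Modules.restrictFunctor U.ι).obj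
            ((Scheme.Modules.pullback (𝟙 Z)).obj (Omega.conormal i''))),
        z ∈ U ∧ (Scheme.Modules.restrictFunctor U.ι).map ψ ≫ r = 𝟙 _ := by
  subst hk₁
  haveI : IsClosedImmersion i' := hZ'.1.1.1
  haveI : IsClosedImmersion (i' ≫ k) := hZ''.1.1.1
  obtain ⟨w, hex, hepi⟩ := Groth.Agent.Lead.ConSeq.conormal_seq k i' d hd ψ hψ φ hφ
  have hsplit := locally_split i p hp i' a hZ' b k hZ'' hk₂ ψ hψ
  haveI hmono : Mono ψ := mono_of_local_retractions ψ hsplit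
  exact ⟨w, ShortComplex.ShortExact.mk' hex hmono hepi, hsplit⟩

end Groth.Agent.Lead.UT6
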