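import Mathlib
import Groth.Prelude.Def_Omega4
import Groth.Prelude.Def_MoreMor
import Groth.Agent.Lib.Helper7.UnivThick

set_option autoImplicit false
universe u
open CategoryTheory CategoryTheory.Limits AlgebraicGeometry TopologicalSpace Opposite

set_option backward.isDefEq.respectTransparency.types false

namespace Groth.Agent.Lead.UT7

open OmegaSh Groth.Agent.Helper7.UnivThick

/-- restriction of a universal thickening to an open of the thickening. -/
theorem isUnivThickening_restrict {Z Z' X : Scheme.{u}} (h : Z ⟶ X) (i : Z ⟶ Z') (h' : Z' ⟶ X)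
    (hu : IsUnivThickening h i h') (V' : Z'.Opens) :
    IsUnivThickening ((i ⁻¹ᵁ V').ι ≫ h) (i ∣_ V') (V'.ι ≫ h') := by
  obtain ⟨hi, rfl, huniv⟩ := hu
  refine ⟨isFirstOrderThickening_left hi (isPullback_morphismRestrict i V'), ?_, ?_⟩
  · rw [← Category.assoc, morphismRestrict_ι, Category.assoc]
  · intro T T' t b a ht hw
    have hts : Surjective t := ht.1.2
    have hw' : t ≫ b = (a ≫ (i ⁻¹ᵁ V').ι) ≫ (i ≫ h') := by
      rw [hw, Category.assoc]
    obtain ⟨a₀, ⟨ha1, ha2⟩, hau⟩ := huniv T T' t b (a ≫ (i ⁻¹ᵁ V').ι) ht hw'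
    have hrange : Set.range a₀.base ⊆ Set.range V'.ι.base := by
      rw [Scheme.Opens.range_ι]
      rintro _ ⟨y, rfl⟩
      obtain ⟨x, rfl⟩ := hts.surj y
      have h1 : a₀.base (t.base x) = i.base ((i ⁻¹ᵁ V').ι.base (a.base x)) := by
        have := congrArg (fun g => g.base x) ha1
        exact this
      rw [h1]
      have h2 : (i ⁻¹ᵁ V').ι.base (a.base x) ∈ i ⁻¹ᵁ V' := by
        have : (i ⁻¹ᵁ V').ι.base (a.base x) ∈ Set.range (i ⁻¹ᵁ V').ι.base := ⟨_, rfl⟩
        rw [Scheme.Opens.range_ι] at this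
        exact this
      exact h2
    refine ⟨IsOpenImmersion.lift V'.ι a₀ hrange, ⟨?_, ?_⟩, ?_⟩
    · rw [← cancel_mono V'.ι, Category.assoc, IsOpenImmersion.lift_fac, Category.assoc,
        morphismRestrict_ι, ha1, Category.assoc]
    · rw [← Category.assoc, IsOpenImmersion.lift_fac, ha2]
    · rintro a'' ⟨h1, h2⟩
      rw [← cancel_mono V'.ι, IsOpenImmersion.lift_fac]
      apply hau
      constructor
      · rw [← Category.assoc, h1, Category.assoc, morphismRestrict_ι, Category.assoc]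
      · rw [Category.assoc, h2]

/-- transport of a universal thickening along an isomorphism of the source. -/
theorem isUnivThickening_of_iso_source {Z₀ Z Z' X : Scheme.{u}} (h : Z ⟶ X) (i : Z ⟶ Z')
    (h' : Z' ⟶ X) (hu : IsUnivThickening h i h') (e : Z₀ ≅ Z) :
    IsUnivThickening (e.hom ≫ h) (e.hom ≫ i) h' := by
  obtain ⟨⟨⟨hcl, hsurj⟩, hk⟩, rfl, huniv⟩ := hu
  haveI := hcl
  haveI := hsurj
  refine ⟨⟨⟨inferInstance, inferInstance⟩, ?_⟩, by rw [Category.assoc], ?_⟩
  · rw [Scheme.Hom.ker_comp_of_isIso]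
    exact hk
  · intro T T' t b a ht hw
    have hw' : t ≫ b = (a ≫ e.hom) ≫ (i ≫ h') := by
      rw [hw, Category.assoc]
    obtain ⟨a₀, ⟨ha1, ha2⟩, hau⟩ := huniv T T' t b (a ≫ e.hom) ht hw'
    refine ⟨a₀, ⟨?_, ha2⟩, ?_⟩
    · rw [ha1, Category.assoc]
    · rintro a'' ⟨h1, h2⟩
      apply hau
      exact ⟨by rw [h1, Category.assoc], h2⟩

end Groth.Agent.Lead.UT7
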