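import Mathlib
import Groth.Prelude.Def_Omega4
import Groth.Prelude.Def_MoreMor
import Groth.Prelude.Def_FlatMod2
import Groth.Agent.Lib.Lead.UT6
import Groth.Agent.Lib.Lead.UT7
import Groth.Agent.Lib.Lead.ConNbhd
import Groth.Agent.Lib.Lead.FLF6
import Groth.Agent.Lib.Helper7.UnivThick3

set_option autoImplicit false
universe u
open CategoryTheory CategoryTheory.Limits AlgebraicGeometry TopologicalSpace Opposite

set_option backward.isDefEq.respectTransparency.types false

namespace Groth.Agent.Lead.UT8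

open OmegaSh Groth.Agent.Lead.ConMap Groth.Agent.Lead.FLF Groth.Agent.Lead.UT7

theorem isFinLocFree_pullbackId {Z : Scheme.{u}} (M : Z.Modules) (h : FlatMod.IsFinLocFree M) :
    FlatMod.IsFinLocFree ((Scheme.Modules.pullback (𝟙 Z)).obj M) :=
  isFinLocFree_of_iso ((Scheme.Modules.pullbackId Z).app M).symm h

theorem isFinLocFree_of_pullbackId {Z : Scheme.{u}} (M : Z.Modules)
    (h : FlatMod.IsFinLocFree ((Scheme.Modules.pullback (𝟙 Z)).obj M)) :
    FlatMod.IsFinLocFree M :=
  isFinLocFree_of_iso ((Scheme.Modules.pullbackId Z).app M) h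

/-- the first order neighbourhood of a quasi-compact immersion is a universal thickening, and its
conormal sheaf is finite locally free when that of the immersion is. -/
theorem exists_univThickening_of_immersion {Z P : Scheme.{u}} (j : Z ⟶ P) [IsImmersion j]
    [QuasiCompact j] :
    ∃ (P₁ : Scheme.{u}) (j' : Z ⟶ P₁) (a : P₁ ⟶ P), IsUnivThickening j j' a ∧
      (FlatMod.IsFinLocFree (Omega.conormal j) → FlatMod.IsFinLocFree (Omega.conormal j')) := by
  have hI : j.liftCoborder.ker ^ 2 ≤ j.liftCoborder.ker := by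
    intro U
    rw [Scheme.IdealSheafData.ideal_pow]
    exact Ideal.pow_le_self two_ne_zero
  have hS := Groth.Agent.Helper7.UnivThick.S12456_main j.coborderRange j.liftCoborder.ker hI
  have hC := isUnivThickening_of_iso_source _ _ _ hS (asIso j.liftCoborder.toImage)
  have hc0 : (asIso j.liftCoborder.toImage).hom ≫ j.liftCoborder.ker.subschemeι =
      j.liftCoborder := j.liftCoborder.toImage_imageι
  have hj : (asIso j.liftCoborder.toImage).hom ≫ j.liftCoborder.ker.subschemeι ≫
      j.coborderRange.ι = j := by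
    rw [← Category.assoc, hc0, Scheme.Hom.liftCoborder_ι]
  rw [hj] at hC
  refine ⟨_, _, _, hC, ?_⟩
  intro hflf
  haveI hcl : IsClosedImmersion ((asIso j.liftCoborder.toImage).hom ≫
      Scheme.IdealSheafData.inclusion hI) := hC.1.1.1
  have hc : ((asIso j.liftCoborder.toImage).hom ≫ Scheme.IdealSheafData.inclusion hI) ≫
      (j.liftCoborder.ker ^ 2).subschemeι = j.liftCoborder := by
    rw [Category.assoc, Scheme.IdealSheafData.inclusion_subschemeι, hc0]
  -- step 1
  have h1 : FlatMod.IsFinLocFree (Omega.conormal (j.liftCoborder ≫ j.coborderRange.ι)) := by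
    rw [Scheme.Hom.liftCoborder_ι]; exact hflf
  -- step 2
  haveI : QuasiCompact j.liftCoborder := inferInstance
  haveI : IsImmersion (j.liftCoborder ≫ j.coborderRange.ι) := by
    rw [Scheme.Hom.liftCoborder_ι]; infer_instance
  haveI : QuasiCompact (j.liftCoborder ≫ j.coborderRange.ι) := by
    rw [Scheme.Hom.liftCoborder_ι]; infer_instance
  obtain ⟨χ₂, hχ₂, -⟩ := existsUnique_conormalMap j.liftCoborder
    (j.liftCoborder ≫ j.coborderRange.ι) j.coborderRange.ι (𝟙 Z) (Category.id_comp _)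
  have H : IsPullback j.liftCoborder (𝟙 Z) j.coborderRange.ι
      (j.liftCoborder ≫ j.coborderRange.ι) :=
    IsPullback.of_vert_isIso_mono ⟨(Category.id_comp _).symm⟩
  haveI := Groth.Agent.Lead.ConPb.isIso_of_isPullback_of_flat j.liftCoborder
    (j.liftCoborder ≫ j.coborderRange.ι) j.coborderRange.ι (𝟙 Z) H χ₂ hχ₂
  have h2 : FlatMod.IsFinLocFree (Omega.conormal j.liftCoborder) :=
    isFinLocFree_of_iso (asIso χ₂) (isFinLocFree_pullbackId _ h1)
  -- step 3
  rw [← hc] at h2
  obtain ⟨χ₁, hχ₁, -⟩ := existsUnique_conormalMap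
    ((asIso j.liftCoborder.toImage).hom ≫ Scheme.IdealSheafData.inclusion hI)
    (((asIso j.liftCoborder.toImage).hom ≫ Scheme.IdealSheafData.inclusion hI) ≫
      (j.liftCoborder.ker ^ 2).subschemeι) (j.liftCoborder.ker ^ 2).subschemeι (𝟙 Z)
    (Category.id_comp _)
  have hker : (j.liftCoborder.ker ^ 2).subschemeι.ker ≤
      (((asIso j.liftCoborder.toImage).hom ≫ Scheme.IdealSheafData.inclusion hI) ≫
        (j.liftCoborder.ker ^ 2).subschemeι).ker ^ 2 := by
    rw [hc, Scheme.IdealSheafData.ker_subschemeι]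
  haveI := Groth.Agent.Lead.ConNbhd.isIso_of_ker_le (j.liftCoborder.ker ^ 2).subschemeι
    ((asIso j.liftCoborder.toImage).hom ≫ Scheme.IdealSheafData.inclusion hI) χ₁ hχ₁ hker
  exact isFinLocFree_of_iso (asIso χ₁) (isFinLocFree_pullbackId _ h2)

/-- `C_{X/Y}` is finite locally free when `X → Y` factors as an immersion with finite locally
free conormal sheaf followed by a formally smooth morphism. -/
theorem core {X Y X' P : Scheme.{u}} (f : X ⟶ Y) (i : X ⟶ X') (h' : X' ⟶ Y)
    (hu : IsUnivThickening f i h')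
    (j : X ⟶ P) [IsImmersion j] [QuasiCompact j] (π : P ⟶ Y)
    (hπ : MoreMor.IsFormallySmoothHom π)
    (hjπ : j ≫ π = f) (hflf : FlatMod.IsFinLocFree (Omega.conormal j)) :
    FlatMod.IsFinLocFree (Omega.conormal i) := by
  obtain ⟨P₁, j', a, hC, hF⟩ := exists_univThickening_of_immersion j
  have hj' := hF hflf
  have w : j' ≫ (a ≫ π) = 𝟙 X ≫ f := by
    rw [← Category.assoc, hC.2.1, hjπ, Category.id_comp]
  obtain ⟨k, ⟨hk1, hk2⟩, -⟩ := hu.2.2 X P₁ j' (a ≫ π) (𝟙 X) hC.1 w
  have hk1' : j' ≫ k = i := by rw [hk1, Category.id_comp]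
  have hZ'' : IsUnivThickening (j ≫ π) (j' ≫ k) h' := by
    rw [hjπ, hk1']; exact hu
  haveI : IsClosedImmersion j' := hC.1.1.1
  haveI : IsClosedImmersion (j' ≫ k) := by
    rw [hk1']; exact hu.1.1.1
  obtain ⟨ψ, hψ, -⟩ := existsUnique_conormalMap j' (j' ≫ k) k (𝟙 X) (Category.id_comp _)
  have hsplit := Groth.Agent.Lead.UT6.locally_split j π hπ j' a hC h' k hZ'' hk2 ψ hψ
  have h3 : FlatMod.IsFinLocFree
      ((Scheme.Modules.pullback (𝟙 X)).obj (Omega.conormal (j' ≫ k))) := by
    apply isFinLocFree_of_charts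
    intro z
    obtain ⟨O, r, hzO, hr⟩ := hsplit z
    refine ⟨O, O.ι, inferInstance, by simpa using hzO, ?_⟩
    exact isFinLocFree_of_retract_of_isFinLocFree _ r hr (isFinLocFree_restrict O.ι _ hj')
  have h4 := isFinLocFree_of_pullbackId _ h3
  rw [hk1'] at h4
  exact h4

/-- the same, with the local lifting property in place of formal smoothness. -/
theorem core' {X Y X' P : Scheme.{u}} (f : X ⟶ Y) (i : X ⟶ X') (h' : X' ⟶ Y)
    (hu : IsUnivThickening f i h')
    (j : X ⟶ P) [IsImmersion j] [QuasiCompact j] (π : P ⟶ Y)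
    (hπ : Groth.Agent.Lead.UT5.LocLift j π)
    (hjπ : j ≫ π = f) (hflf : FlatMod.IsFinLocFree (Omega.conormal j)) :
    FlatMod.IsFinLocFree (Omega.conormal i) := by
  obtain ⟨P₁, j', a, hC, hF⟩ := exists_univThickening_of_immersion j
  have hj' := hF hflf
  have w : j' ≫ (a ≫ π) = 𝟙 X ≫ f := by
    rw [← Category.assoc, hC.2.1, hjπ, Category.id_comp]
  obtain ⟨k, ⟨hk1, hk2⟩, -⟩ := hu.2.2 X P₁ j' (a ≫ π) (𝟙 X) hC.1 w
  have hk1' : j' ≫ k = i := by rw [hk1, Category.id_comp]
  have hZ'' : IsUnivThickening (j ≫ π) (j' ≫ k) h' := by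
    rw [hjπ, hk1']; exact hu
  haveI : IsClosedImmersion j' := hC.1.1.1
  haveI : IsClosedImmersion (j' ≫ k) := by
    rw [hk1']; exact hu.1.1.1
  obtain ⟨ψ, hψ, -⟩ := existsUnique_conormalMap j' (j' ≫ k) k (𝟙 X) (Category.id_comp _)
  have hsplit := Groth.Agent.Lead.UT6.locally_split' j π j' a hC h' k hZ'' hk2 ψ hψ hπ
  have h3 : FlatMod.IsFinLocFree
      ((Scheme.Modules.pullback (𝟙 X)).obj (Omega.conormal (j' ≫ k))) := by
    apply isFinLocFree_of_charts
    intro z
    obtain ⟨O, r, hzO, hr⟩ := hsplit z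
    refine ⟨O, O.ι, inferInstance, by simpa using hzO, ?_⟩
    exact isFinLocFree_of_retract_of_isFinLocFree _ r hr (isFinLocFree_restrict O.ι _ hj')
  have h4 := isFinLocFree_of_pullbackId _ h3
  rw [hk1'] at h4
  exact h4

end Groth.Agent.Lead.UT8
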