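import Mathlib
import Groth.Prelude.Def_Omega4
import Groth.Prelude.Def_MoreMor
import Groth.Prelude.Def_FlatMod2
import Groth.Agent.Lib.Lead.UT8
import Groth.Agent.Lib.Lead.ConComp2

set_option autoImplicit false
universe u
open CategoryTheory CategoryTheory.Limits AlgebraicGeometry TopologicalSpace Opposite

set_option backward.isDefEq.respectTransparency.types false

namespace Groth.Agent.Lead.UT10

open OmegaSh Groth.Agent.Lead.ConMap Groth.Agent.Lead.FLF Groth.Agent.Lead.UT7
  Groth.Agent.Lead.ConComp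

section Transport

variable {Z X Z' X' : Scheme.{u}} (i : Z ⟶ X) (i' : Z' ⟶ X') [QuasiCompact i]

/-- conormal maps of equal squares are simultaneously monomorphisms. -/
theorem mono_of_eq_sq (g g₂ : X ⟶ X') (gZ gZ₂ : Z ⟶ Z') (hg : g = g₂) (hgZ : gZ = gZ₂)
    (φ : (Scheme.Modules.pullback gZ).obj (Omega.conormal i') ⟶ Omega.conormal i)
    (hφ : IsConormalMap i i' g gZ φ) (hm : Mono φ)
    (φ₂ : (Scheme.Modules.pullback gZ₂).obj (Omega.conormal i') ⟶ Omega.conormal i)
    (hφ₂ : IsConormalMap i i' g₂ gZ₂ φ₂) : Mono φ₂ := by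
  subst hg hgZ
  obtain ⟨φ₀, -, huniq⟩ := existsUnique_conormalMap i i' g gZ hφ.1
  rw [huniq φ₂ hφ₂, ← huniq φ hφ]
  exact hm

end Transport

section Nbhd

/-- the first order neighbourhood of a quasi-compact immersion is a universal thickening, and the
canonical map of conormal sheaves is an isomorphism. -/
theorem exists_univThickening_of_immersion' {Z P : Scheme.{u}} (j : Z ⟶ P) [IsImmersion j]
    [QuasiCompact j] :
    ∃ (P₁ : Scheme.{u}) (j' : Z ⟶ P₁) (a : P₁ ⟶ P), IsUnivThickening j j' a ∧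
      ∀ χ : (Scheme.Modules.pullback (𝟙 Z)).obj (Omega.conormal j) ⟶ Omega.conormal j',
        IsConormalMap j' j a (𝟙 Z) χ → IsIso χ := by
  have hI : j.liftCoborder.ker ^ 2 ≤ j.liftCoborder.ker := by
    intro U
    rw [Scheme.IdealSheafData.ideal_pow]
    exact Ideal.pow_le_self two_ne_zero
  have hS := Groth.Agent.Helper7.UnivThick.S12456_main j.coborderRange j.liftCoborder.ker hI
  have hC := isUnivThickening_of_iso_source _ _ _ hS (asIso j.liftCoborder.toImage)
  have hc0 : (asIso j.liftCoborder.toImage).hom ≫ j.liftCoborder.ker.subschemeι =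
      j.liftCoborder := j.liftCoborder.toImage_imageι
  have hj : (asIso j.liftCoborder.toImage).hom ≫ j.liftCoborder.ker.subschemeι ≫
      j.coborderRange.ι = j := by
    rw [← Category.assoc, hc0, Scheme.Hom.liftCoborder_ι]
  rw [hj] at hC
  refine ⟨_, _, _, hC, ?_⟩
  haveI hcl : IsClosedImmersion ((asIso j.liftCoborder.toImage).hom ≫
      Scheme.IdealSheafData.inclusion hI) := hC.1.1.1
  have hc : ((asIso j.liftCoborder.toImage).hom ≫ Scheme.IdealSheafData.inclusion hI) ≫
      (j.liftCoborder.ker ^ 2).subschemeι = j.liftCoborder := by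
    rw [Category.assoc, Scheme.IdealSheafData.inclusion_subschemeι, hc0]
  generalize (asIso j.liftCoborder.toImage).hom ≫ Scheme.IdealSheafData.inclusion hI = t at hcl hc
  haveI : QuasiCompact j.liftCoborder := inferInstance
  -- first step: the neighbourhood inside the coborder
  have key1 : ∀ (ℓ : Z ⟶ j.coborderRange) (_ : t ≫ (j.liftCoborder.ker ^ 2).subschemeι = ℓ)
      (_ : (j.liftCoborder.ker ^ 2).subschemeι.ker ≤ ℓ.ker ^ 2)
      (β : (Scheme.Modules.pullback (𝟙 Z)).obj (Omega.conormal ℓ) ⟶ Omega.conormal t),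
      IsConormalMap t ℓ (j.liftCoborder.ker ^ 2).subschemeι (𝟙 Z) β → IsIso β := by
    intro ℓ hℓ hker β hβ
    subst hℓ
    exact Groth.Agent.Lead.ConNbhd.isIso_of_ker_le (j.liftCoborder.ker ^ 2).subschemeι t β hβ hker
  have hker : (j.liftCoborder.ker ^ 2).subschemeι.ker ≤ j.liftCoborder.ker ^ 2 := by
    rw [Scheme.IdealSheafData.ker_subschemeι]
  obtain ⟨β, hβ, -⟩ := existsUnique_conormalMap t j.liftCoborder
    (j.liftCoborder.ker ^ 2).subschemeι (𝟙 Z) ((Category.id_comp _).trans hc.symm)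
  haveI hβiso := key1 _ hc hker β hβ
  -- second step: the open immersion
  haveI : IsImmersion (j.liftCoborder ≫ j.coborderRange.ι) := by
    rw [Scheme.Hom.liftCoborder_ι]; infer_instance
  haveI : QuasiCompact (j.liftCoborder ≫ j.coborderRange.ι) := by
    rw [Scheme.Hom.liftCoborder_ι]; infer_instance
  obtain ⟨χ₂, hχ₂, -⟩ := existsUnique_conormalMap j.liftCoborder
    (j.liftCoborder ≫ j.coborderRange.ι) j.coborderRange.ι (𝟙 Z) (Category.id_comp _)
  have H : IsPullback j.liftCoborder (𝟙 Z) j.coborderRange.ι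
      (j.liftCoborder ≫ j.coborderRange.ι) :=
    IsPullback.of_vert_isIso_mono ⟨(Category.id_comp _).symm⟩
  haveI := Groth.Agent.Lead.ConPb.isIso_of_isPullback_of_flat j.liftCoborder
    (j.liftCoborder ≫ j.coborderRange.ι) j.coborderRange.ι (𝟙 Z) H χ₂ hχ₂
  have hcomp := isConormalMap_comp t j.liftCoborder (j.liftCoborder.ker ^ 2).subschemeι (𝟙 Z)
    j.coborderRange.ι β hβ χ₂ hχ₂
  have key2 : ∀ (j₀ : Z ⟶ P) (_ : j.liftCoborder ≫ j.coborderRange.ι = j₀)
      (χ : (Scheme.Modules.pullback (𝟙 Z)).obj (Omega.conormal j₀) ⟶ Omega.conormal t),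
      IsConormalMap t j₀ ((j.liftCoborder.ker ^ 2).subschemeι ≫ j.coborderRange.ι) (𝟙 Z) χ →
        IsIso χ := by
    intro j₀ hj₀ χ hχ
    subst hj₀
    obtain ⟨χ₀, -, huniq⟩ := existsUnique_conormalMap t (j.liftCoborder ≫ j.coborderRange.ι)
      ((j.liftCoborder.ker ^ 2).subschemeι ≫ j.coborderRange.ι) (𝟙 Z) hχ.1
    rw [huniq χ hχ, ← huniq _ hcomp]
    haveI h1 : IsIso ((Scheme.Modules.pullbackId Z).inv.app
        (Omega.conormal (j.liftCoborder ≫ j.coborderRange.ι)) ≫ χ₂) := IsIso.comp_isIso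
    haveI h2 : IsIso ((Scheme.Modules.pullback (𝟙 Z)).map
        ((Scheme.Modules.pullbackId Z).inv.app
          (Omega.conormal (j.liftCoborder ≫ j.coborderRange.ι)) ≫ χ₂)) :=
      Functor.map_isIso _ _
    exact IsIso.comp_isIso
  exact key2 j (Scheme.Hom.liftCoborder_ι j)

end Nbhd

end Groth.Agent.Lead.UT10
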