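import Mathlib
import Groth.Prelude.Def_Omega4
import Groth.Prelude.Def_MoreMor
import Groth.Agent.Lib.Lead.ConPb
import Groth.Agent.Lib.Lead.PP6
import Groth.Agent.Lib.Helper7.UnivThick

set_option autoImplicit false
universe u
open CategoryTheory CategoryTheory.Limits AlgebraicGeometry TopologicalSpace Opposite

set_option backward.isDefEq.respectTransparency.types false

namespace Groth.Agent.Lead.UT

open OmegaSh Groth.Agent.Lead.DerU Groth.Agent.Lead.IdM Groth.Agent.Lead.OmU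
  Groth.Agent.Lead.BCU Groth.Agent.Lead.ConMap Groth.Agent.Lead.ConChart Groth.Agent.Lead.PbI
  Groth.Agent.Lead.ConPb

section Uniq

theorem univThickening_unique {Z X Z₁ Z₂ : Scheme.{u}} (h : Z ⟶ X) (i₁ : Z ⟶ Z₁) (h₁ : Z₁ ⟶ X)
    (i₂ : Z ⟶ Z₂) (h₂ : Z₂ ⟶ X) (hu₁ : IsUnivThickening h i₁ h₁)
    (hu₂ : IsUnivThickening h i₂ h₂) :
    ∃ θ : Z₁ ≅ Z₂, i₁ ≫ θ.hom = i₂ ∧ θ.hom ≫ h₂ = h₁ := by
  obtain ⟨ht₁, hc₁, hU₁⟩ := hu₁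
  obtain ⟨ht₂, hc₂, hU₂⟩ := hu₂
  obtain ⟨α, ⟨hα1, hα2⟩, -⟩ := hU₂ Z Z₁ i₁ h₁ (𝟙 Z) ht₁ (by rw [hc₁, Category.id_comp])
  obtain ⟨β, ⟨hβ1, hβ2⟩, -⟩ := hU₁ Z Z₂ i₂ h₂ (𝟙 Z) ht₂ (by rw [hc₂, Category.id_comp])
  rw [Category.id_comp] at hα1 hβ1
  obtain ⟨γ₁, -, hγ₁⟩ := hU₁ Z Z₁ i₁ h₁ (𝟙 Z) ht₁ (by rw [hc₁, Category.id_comp])
  obtain ⟨γ₂, -, hγ₂⟩ := hU₂ Z Z₂ i₂ h₂ (𝟙 Z) ht₂ (by rw [hc₂, Category.id_comp])
  have e1 : α ≫ β = 𝟙 Z₁ := by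
    rw [hγ₁ (α ≫ β) ⟨by rw [← Category.assoc, hα1, hβ1, Category.id_comp],
      by rw [Category.assoc, hβ2, hα2]⟩,
      hγ₁ (𝟙 Z₁) ⟨by rw [Category.comp_id, Category.id_comp], Category.id_comp _⟩]
  have e2 : β ≫ α = 𝟙 Z₂ := by
    rw [hγ₂ (β ≫ α) ⟨by rw [← Category.assoc, hβ1, hα1, Category.id_comp],
      by rw [Category.assoc, hα2, hβ2]⟩,
      hγ₂ (𝟙 Z₂) ⟨by rw [Category.comp_id, Category.id_comp], Category.id_comp _⟩]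
  exact ⟨⟨α, β, e1, e2⟩, hα1, hα2⟩

end Uniq

section Pb

variable {Z Y X Z' Y' Z'' : Scheme.{u}} (i : Z ⟶ Y) (b : Y ⟶ X)
    (i' : Z ⟶ Z') (c : Z' ⟶ X) (hZ' : OmegaSh.IsUnivThickening (i ≫ b) i' c)
    (j : Y ⟶ Y') (d : Y' ⟶ X) (hY' : OmegaSh.IsUnivThickening b j d)
    (m : Z' ⟶ Y') (hm₁ : i' ≫ m = i ≫ j) (hm₂ : m ≫ d = c)
    (i'' : Z ⟶ Z'') (e : Z'' ⟶ Y) (hZ'' : OmegaSh.IsUnivThickening i i'' e)
    (n : Z'' ⟶ Z') (hn₁ : i'' ≫ n = i') (hn₂ : n ≫ c = e ≫ b)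

include hZ' hY' hm₁ hm₂ hZ'' hn₁ hn₂ in
theorem isPullback_of_univ : IsPullback e n j m := by
  obtain ⟨m', hm', hm'd, hP⟩ := Groth.Agent.Helper7.UnivThick.S9741_main i b i' c hZ' j d hY'
  obtain ⟨μ, -, hμ⟩ := hY'.2.2 Z Z' i' c i hZ'.1 hZ'.2.1
  have hmm : m' = m := (hμ m' ⟨hm', hm'd⟩).trans (hμ m ⟨hm₁, hm₂⟩).symm
  subst hmm
  obtain ⟨θ, hθ1, hθ2⟩ := univThickening_unique i i'' e _ _ hZ'' hP
  have hcond : i'' ≫ (e ≫ b) = 𝟙 Z ≫ (i ≫ b) := by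
    rw [← Category.assoc, hZ''.2.1, Category.id_comp]
  obtain ⟨ν, -, hν⟩ := hZ'.2.2 Z Z'' i'' (e ≫ b) (𝟙 Z) hZ''.1 hcond
  have hn : n = θ.hom ≫ pullback.snd j m' := by
    refine (hν n ⟨by rw [hn₁, Category.id_comp], hn₂⟩).trans (hν _ ⟨?_, ?_⟩).symm
    · rw [← Category.assoc, hθ1, pullback.lift_snd, Category.id_comp]
    · rw [Category.assoc, ← hm'd, ← Category.assoc (pullback.snd j m'), ← pullback.condition,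
        Category.assoc, hY'.2.1, ← Category.assoc, hθ2]
  have hw : e ≫ j = n ≫ m' := by
    rw [hn, Category.assoc, ← pullback.condition, ← Category.assoc, hθ2]
  exact IsPullback.of_iso_pullback ⟨hw⟩ θ hθ2 hn.symm

end Pb

section Ex

variable {Z Y Z' Y' Z'' : Scheme.{u}} (i : Z ⟶ Y) (j : Y ⟶ Y') (m : Z' ⟶ Y')
  (i'' : Z ⟶ Z'') (n : Z'' ⟶ Z') (e : Z'' ⟶ Y)
  [IsClosedImmersion j] [IsClosedImmersion i''] [IsClosedImmersion n]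
  (H : IsPullback e n j m) (hsq : i ≫ j = (i'' ≫ n) ≫ m)
  (ψ₁ : (Scheme.Modules.pullback i).obj (Omega.conormal j) ⟶ Omega.conormal (i'' ≫ n))
  (hψ₁ : IsConormalMap (i'' ≫ n) j m i ψ₁)
  (ψ₂ : (Scheme.Modules.pullback (𝟙 Z)).obj (Omega.conormal (i'' ≫ n)) ⟶ Omega.conormal i'')
  (hψ₂ : IsConormalMap i'' (i'' ≫ n) n (𝟙 Z) ψ₂)

include H hsq hψ₁ hψ₂ in
theorem comp_zero' : ψ₁ ≫ θ n i'' ψ₂ = 0 := by
  apply hom_ext_adjadj j i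
  intro U' σ
  have hs := liftI_spec (i'' ≫ n) j m i hsq U' σ
  have h1 := conormalMap_app hψ₁ U' σ (liftI (i'' ≫ n) j m i hsq U' σ) hs
  change (θ n i'' ψ₂).app (i ⁻¹ᵁ (j ⁻¹ᵁ U')) (ψ₁.app (i ⁻¹ᵁ (j ⁻¹ᵁ U'))
    (pullSect i (Omega.conormal j) (j ⁻¹ᵁ U') (conormalSect j U' σ))) = 0
  rw [h1]
  change (θ n i'' ψ₂).app (i ⁻¹ᵁ (j ⁻¹ᵁ U')) (res (Omega.conormal (i'' ≫ n)) _ _) = 0
  rw [app_res]
  have hk : (n.app (m ⁻¹ᵁ U')).hom ((m.app U').hom (idealSect j.ker U' σ)) = 0 :=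
    kill n j m e H.w U' σ
  have h2 := θ_cls n i'' ψ₂ hψ₂ (m ⁻¹ᵁ U') (liftI (i'' ≫ n) j m i hsq U' σ) 0 (by
    rw [map_zero, hs]
    exact hk.symm)
  rw [h2, map_zero]
  exact res_zero _ _

include H hsq hψ₁ hψ₂ in
theorem exact' :
    (ShortComplex.mk ψ₁ (θ n i'' ψ₂) (comp_zero' i j m i'' n e H hsq ψ₁ hψ₁ ψ₂ hψ₂)).Exact := by
  apply exact_of_locally
  intro U t ht z hz
  obtain ⟨W', V', hW', hV', hW'c, hV'c, eV, hzV, hVU⟩ :=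
    exists_chart_pb (i'' ≫ n) j m i hsq z U hz
  refine ⟨(i'' ≫ n) ⁻¹ᵁ V', hVU, hzV, ?_⟩
  have hVn : IsAffineOpen (n ⁻¹ᵁ V') := hV'.preimage n
  have hO : IsAffineOpen (i'' ⁻¹ᵁ (n ⁻¹ᵁ V')) := hVn.preimage i''
  have hsn : Function.Surjective (n.appLE V' (n ⁻¹ᵁ V') le_rfl).hom := by
    rw [Scheme.Hom.appLE_eq_app]
    exact n.app_surjective V' hV'
  have hsi : Function.Surjective (i''.appLE (n ⁻¹ᵁ V') (i'' ⁻¹ᵁ (n ⁻¹ᵁ V')) le_rfl).hom := by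
    rw [Scheme.Hom.appLE_eq_app]
    exact i''.app_surjective _ hVn
  obtain ⟨s, hs⟩ := cls_surjective (i'' ≫ n) hV' hV'c (res (Omega.conormal (i'' ≫ n)) hVU t)
  have h0 : (θ n i'' ψ₂).app ((i'' ≫ n) ⁻¹ᵁ V') (conormalSect (i'' ≫ n) V' s) = 0 := by
    rw [hs, app_res]
    change res _ hVU ((θ n i'' ψ₂).app U t) = 0
    have ht' : (θ n i'' ψ₂).app U t = 0 := ht
    rw [ht', res_zero]
  have hk : (i''.app (n ⁻¹ᵁ V')).hom ((n.app V').hom (idealSect (i'' ≫ n).ker V' s)) = 0 :=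
    app_idealSect (i'' ≫ n) V' s
  obtain ⟨s₂, hs₂⟩ := exists_idealSect i'' (n ⁻¹ᵁ V') _ hk
  rw [θ_cls n i'' ψ₂ hψ₂ V' s s₂ hs₂] at h0
  have h1 := (cls_eq_zero_iff' i'' hVn hO hsi s₂).mp h0
  rw [hs₂] at h1
  have h1' : (n.appLE V' (n ⁻¹ᵁ V') le_rfl).hom (idealSect (i'' ≫ n).ker V' s) ∈
      RingHom.ker (i''.appLE (n ⁻¹ᵁ V') (i'' ⁻¹ᵁ (n ⁻¹ᵁ V')) le_rfl).hom ^ 2 := by
    have e1 : n.appLE V' (n ⁻¹ᵁ V') le_rfl = n.app V' := Scheme.Hom.appLE_eq_app _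
    rw [e1]
    exact h1
  obtain ⟨q, hq, hfq⟩ := exists_sq_lift (n.appLE V' (n ⁻¹ᵁ V') le_rfl).hom hsn
    (i''.appLE (n ⁻¹ᵁ V') (i'' ⁻¹ᵁ (n ⁻¹ᵁ V')) le_rfl).hom _ h1'
  have hcomp : (i''.appLE (n ⁻¹ᵁ V') (i'' ⁻¹ᵁ (n ⁻¹ᵁ V')) le_rfl).hom.comp
      (n.appLE V' (n ⁻¹ᵁ V') le_rfl).hom =
      ((i'' ≫ n).appLE V' ((i'' ≫ n) ⁻¹ᵁ V') le_rfl).hom := by
    rw [← CommRingCat.hom_comp, Scheme.Hom.appLE_comp_appLE]
    rfl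
  rw [hcomp] at hq
  have hq1 : ((i'' ≫ n).app V').hom q = 0 := by
    have h2 : q ∈ RingHom.ker ((i'' ≫ n).appLE V' ((i'' ≫ n) ⁻¹ᵁ V') le_rfl).hom :=
      Ideal.pow_le_self two_ne_zero hq
    rw [Scheme.Hom.appLE_eq_app] at h2
    exact h2
  obtain ⟨sq, hsq'⟩ := exists_idealSect (i'' ≫ n) V' q hq1
  have hclsq : conormalSect (i'' ≫ n) V' sq = 0 := by
    rw [cls_eq_zero_iff (i'' ≫ n) hV' hV'c, hsq']
    exact hq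
  have hT : IsAffineOpen (j ⁻¹ᵁ W') := hW'.preimage j
  have hsj : Function.Surjective (j.appLE W' (j ⁻¹ᵁ W') le_rfl).hom := by
    rw [Scheme.Hom.appLE_eq_app]
    exact j.app_surjective W' hW'
  have hker := ker_appLE_eq_map n j m e H.flip hW' hV' hT eV hsj
  have hmem : idealSect (i'' ≫ n).ker V' s - q ∈
      Ideal.map (m.appLE W' V' eV).hom (RingHom.ker (j.app W').hom) := by
    have h3 : idealSect (i'' ≫ n).ker V' s - q ∈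
        RingHom.ker (n.appLE V' (n ⁻¹ᵁ V') le_rfl).hom := by
      rw [RingHom.mem_ker, map_sub, hfq, sub_self]
    rw [hker, Scheme.Hom.appLE_eq_app] at h3
    exact h3
  obtain ⟨m₀, hm₀⟩ := exists_of_mem_map (i'' ≫ n) j m i hsq ψ₁ hψ₁ eV _ hmem (s - sq)
    (by rw [map_sub, hsq'])
  refine ⟨m₀, hm₀.trans ?_⟩
  rw [map_sub, hclsq, sub_zero, hs]

end Ex

theorem main9784 {Z Y X Z' Y' Z'' : Scheme.{u}} (i : Z ⟶ Y) (b : Y ⟶ X)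
    (i' : Z ⟶ Z') (c : Z' ⟶ X) (hZ' : OmegaSh.IsUnivThickening (i ≫ b) i' c)
    (j : Y ⟶ Y') (d : Y' ⟶ X) (hY' : OmegaSh.IsUnivThickening b j d)
    (m : Z' ⟶ Y') (hm₁ : i' ≫ m = i ≫ j) (hm₂ : m ≫ d = c)
    (i'' : Z ⟶ Z'') (e : Z'' ⟶ Y) (hZ'' : OmegaSh.IsUnivThickening i i'' e)
    (n : Z'' ⟶ Z') (hn₁ : i'' ≫ n = i') (hn₂ : n ≫ c = e ≫ b)
    (ψ₁ : (Scheme.Modules.pullback i).obj (Omega.conormal j) ⟶ Omega.conormal i')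
    (hψ₁ : OmegaSh.IsConormalMap i' j m i ψ₁)
    (ψ₂ : (Scheme.Modules.pullback (𝟙 Z)).obj (Omega.conormal i') ⟶ Omega.conormal i'')
    (hψ₂ : OmegaSh.IsConormalMap i'' i' n (𝟙 Z) ψ₂) :
    ∃ w : (Scheme.Modules.pullback (𝟙 Z)).map ψ₁ ≫ ψ₂ = 0,
      (ShortComplex.mk _ _ w).Exact ∧ Epi ψ₂ := by
  have H := isPullback_of_univ i b i' c hZ' j d hY' m hm₁ hm₂ i'' e hZ'' n hn₁ hn₂
  subst hn₁
  haveI hj : IsClosedImmersion j := hY'.1.1.1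
  haveI hi'' : IsClosedImmersion i'' := hZ''.1.1.1
  haveI hn : IsClosedImmersion n := MorphismProperty.of_isPullback (P := @IsClosedImmersion) H hj
  have hsq : i ≫ j = (i'' ≫ n) ≫ m := hm₁.symm
  have w0 := comp_zero' i j m i'' n e H hsq ψ₁ hψ₁ ψ₂ hψ₂
  have hex := exact' i j m i'' n e H hsq ψ₁ hψ₁ ψ₂ hψ₂
  have hnat : (Scheme.Modules.pullback (𝟙 Z)).map ψ₁ ≫
      (Scheme.Modules.pullbackId Z).hom.app (Omega.conormal (i'' ≫ n)) =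
      (Scheme.Modules.pullbackId Z).hom.app _ ≫ ψ₁ :=
    (Scheme.Modules.pullbackId Z).hom.naturality ψ₁
  have w : (Scheme.Modules.pullback (𝟙 Z)).map ψ₁ ≫ ψ₂ = 0 := by
    have h1 : (Scheme.Modules.pullback (𝟙 Z)).map ψ₁ ≫ ψ₂ =
        ((Scheme.Modules.pullback (𝟙 Z)).map ψ₁ ≫
          (Scheme.Modules.pullbackId Z).hom.app (Omega.conormal (i'' ≫ n))) ≫ θ n i'' ψ₂ := by
      rw [Category.assoc]
      congr 1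
      change ψ₂ = (Scheme.Modules.pullbackId Z).hom.app _ ≫
        ((Scheme.Modules.pullbackId Z).inv.app _ ≫ ψ₂)
      rw [← Category.assoc, Iso.hom_inv_id_app, Category.id_comp]
    rw [h1, hnat, Category.assoc, w0, Limits.comp_zero]
  have eiso : ShortComplex.mk ((Scheme.Modules.pullback (𝟙 Z)).map ψ₁) ψ₂ w ≅
      ShortComplex.mk ψ₁ (θ n i'' ψ₂) w0 :=
    ShortComplex.isoMk ((Scheme.Modules.pullbackId Z).app _) ((Scheme.Modules.pullbackId Z).app _)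
      (Iso.refl _) hnat.symm (by
        change (Scheme.Modules.pullbackId Z).hom.app _ ≫
          ((Scheme.Modules.pullbackId Z).inv.app _ ≫ ψ₂) = ψ₂ ≫ 𝟙 _
        rw [Category.comp_id, ← Category.assoc, Iso.hom_inv_id_app, Category.id_comp])
  exact ⟨w, (ShortComplex.exact_iff_of_iso eiso).2 hex, epi_φ₂ n i'' ψ₂ hψ₂⟩

end Groth.Agent.Lead.UT
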