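import Mathlib
import Groth.Prelude.Def_Omega4
import Groth.Prelude.Def_MoreMor
import Groth.Prelude.Def_FlatMod2
import Groth.Prelude.Def_RegImm
import Groth.Agent.Lib.Lead.UT8
import Groth.Agent.Lib.Lead.KosH1
import Groth.Agent.Lib.Lead.ConH1
import Groth.Agent.Lib.Helper4.RegFlatBC1
import Groth.Agent.Lib.Lead.FSm2

set_option autoImplicit false
universe u
open CategoryTheory CategoryTheory.Limits AlgebraicGeometry TopologicalSpace Opposite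

set_option backward.isDefEq.respectTransparency.types false

namespace Groth.Agent.Lead.UT9

open OmegaSh Groth.Agent.Lead.ConMap Groth.Agent.Lead.FLF Groth.Agent.Lead.UT7
  Groth.Agent.Lead.UT8

/-- a thickening is a homeomorphism, so opens of the source come from opens of the target. -/
theorem exists_open_preimage_eq {Z Z' : Scheme.{u}} (i : Z ⟶ Z') (hi : MoreMor.IsThickening i)
    (U : Z.Opens) : ∃ V' : Z'.Opens, i ⁻¹ᵁ V' = U := by
  obtain ⟨hcl, hsurj⟩ := hi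
  haveI := hcl
  have hhomeo : IsHomeomorph i.base :=
    isHomeomorph_iff_isEmbedding_surjective.mpr ⟨i.isEmbedding, hsurj.surj⟩
  refine ⟨⟨i.base '' U, hhomeo.isOpenMap _ U.2⟩, ?_⟩
  ext z
  change i.base z ∈ i.base '' U ↔ z ∈ U
  exact hhomeo.injective.mem_set_image

theorem isUnivThickening_resLE {Z Z' X : Scheme.{u}} (h : Z ⟶ X) (i : Z ⟶ Z') (h' : Z' ⟶ X)
    (hu : IsUnivThickening h i h') (U : Z.Opens) (V' : Z'.Opens) (hV' : i ⁻¹ᵁ V' = U) :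
    IsUnivThickening (U.ι ≫ h) (i.resLE V' U hV'.ge) (V'.ι ≫ h') := by
  subst hV'
  rw [Scheme.Hom.resLE_eq_morphismRestrict]
  exact isUnivThickening_restrict h i h' hu V'

theorem conormal_resLE_iso {Z Z' : Scheme.{u}} (i : Z ⟶ Z') [IsClosedImmersion i]
    (U : Z.Opens) (V' : Z'.Opens) (hV' : i ⁻¹ᵁ V' = U) :
    Nonempty ((Omega.conormal i).restrict U.ι ≅ Omega.conormal (i.resLE V' U hV'.ge)) := by
  subst hV'
  rw [Scheme.Hom.resLE_eq_morphismRestrict]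
  obtain ⟨φ, hφ, -⟩ := existsUnique_conormalMap (i ∣_ V') i V'.ι (i ⁻¹ᵁ V').ι
    (morphismRestrict_ι i V').symm
  haveI := Groth.Agent.Lead.ConPb.isIso_of_isPullback_of_flat (i ∣_ V') i V'.ι (i ⁻¹ᵁ V').ι
    (isPullback_morphismRestrict i V') φ hφ
  exact ⟨(Scheme.Modules.restrictFunctorIsoPullback (i ⁻¹ᵁ V').ι).app (Omega.conormal i) ≪≫
    asIso φ⟩

set_option maxHeartbeats 800000 in
theorem main9772 {X Y X' : Scheme.{u}} (f : X ⟶ Y)
    (hf : ∀ x : X, Synt.IsKoszulAt f x) (i : X ⟶ X') (h' : X' ⟶ Y)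
    (hu : IsUnivThickening f i h') : FlatMod.IsFinLocFree (Omega.conormal i) := by
  haveI : IsClosedImmersion i := hu.1.1.1
  apply isFinLocFree_of_charts
  intro x
  obtain ⟨U, P, j, π, hxU, -, hreg, hsm, hjπ⟩ := hf x
  haveI := hsm
  haveI : IsImmersion j := hreg.1
  have hreg1 := Groth.Agent.Lead.KosH1.isRegularImmersion_h1_of_koszul j hreg
  obtain ⟨V', hV'⟩ := exists_open_preimage_eq i hu.1.1 U
  have hB := isUnivThickening_resLE f i h' hu U V' hV'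
  -- a chart for `j`
  obtain ⟨_, ⟨P₀, hP₀, rfl⟩, hxP₀, -⟩ := P.isBasis_affineOpens.exists_subset_of_mem_open
    (Set.mem_univ (j ⟨x, hxU⟩)) isOpen_univ
  obtain ⟨_, ⟨U₀, hU₀, rfl⟩, hxU₀, hU₀le⟩ :=
    (U : Scheme.{u}).isBasis_affineOpens.exists_subset_of_mem_open
      (show (⟨x, hxU⟩ : (U : Scheme.{u})) ∈ ((j ⁻¹ᵁ P₀ : (U : Scheme.{u}).Opens) :
        Set (U : Scheme.{u})) from hxP₀) (j ⁻¹ᵁ P₀).2
  obtain ⟨O', hO', hOO'⟩ := j.isEmbedding.isInducing.isOpen_iff.mp U₀.2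
  obtain ⟨P'', hP''le, hP''⟩ : ∃ P'' : P.Opens, P'' ≤ P₀ ∧ j ⁻¹ᵁ P'' = U₀ := by
    refine ⟨(⟨O', hO'⟩ : P.Opens) ⊓ P₀, inf_le_right, ?_⟩
    ext y
    constructor
    · rintro ⟨h1, -⟩
      have : y ∈ j.base ⁻¹' O' := h1
      rw [hOO'] at this
      exact this
    · intro hy
      refine ⟨?_, hU₀le hy⟩
      have : y ∈ j.base ⁻¹' O' := by rw [hOO']; exact hy
      exact this
  have hxP'' : (⟨x, hxU⟩ : (U : Scheme.{u})) ∈ j ⁻¹ᵁ P'' := by rw [hP'']; exact hxU₀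
  have hc : CompactSpace ↥(j ⁻¹ᵁ P'') := isCompact_iff_compactSpace.mp (by
    rw [hP'']
    exact hU₀.isCompact)
  haveI : CompactSpace ((j ⁻¹ᵁ P'').toScheme) := hc
  have hq : QuasiSeparatedSpace ↥P'' :=
    (isQuasiSeparated_iff_quasiSeparatedSpace _ P''.2).mp
      (hP₀.isQuasiSeparated.of_subset hP''le)
  haveI : QuasiSeparatedSpace (P''.toScheme) := hq
  haveI : QuasiCompact (j ∣_ P'') := quasiCompact_of_compactSpace _
  -- the thickening side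
  haveI : IsClosedImmersion (i.resLE V' U hV'.ge) := hB.1.1.1
  obtain ⟨V'', hV''⟩ := exists_open_preimage_eq (i.resLE V' U hV'.ge) hB.1.1 (j ⁻¹ᵁ P'')
  have hB₂ := isUnivThickening_resLE (U.ι ≫ f) (i.resLE V' U hV'.ge) (V'.ι ≫ h') hB
    (j ⁻¹ᵁ P'') V'' hV''
  -- regularity of the restricted immersion
  have hreg₂ : ∀ y, RegImm.IsRegularImmersionAt .h1 (j ∣_ P'') y := fun y =>
    Groth.Agent.Lib.Helper4.RegFlatBC1.isRegularImmersionAt_of_isPullback .h1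
      (Groth.Agent.Lib.Helper4.RegFlatBC1.kind_seq_of_flat .h1) j P''.ι (j ∣_ P'') (j ⁻¹ᵁ P'').ι
      (isPullback_morphismRestrict j P'').flip y (hreg1.2 _)
  have hflf₂ := Groth.Agent.Lead.ConH1.isFinLocFree_conormal (j ∣_ P'') hreg₂
  have hjπ₂ : (j ∣_ P'') ≫ (P''.ι ≫ π) = (j ⁻¹ᵁ P'').ι ≫ (U.ι ≫ f) := by
    rw [← Category.assoc, morphismRestrict_ι, Category.assoc, hjπ]
  have hcore := core' _ _ _ hB₂ (j ∣_ P'') (P''.ι ≫ π)
    (Groth.Agent.Lead.FSm.locLift_of_smooth (j ∣_ P'') (P''.ι ≫ π)) hjπ₂ hflf₂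
  obtain ⟨e₁⟩ := conormal_resLE_iso i U V' hV'
  obtain ⟨e₂⟩ := conormal_resLE_iso (i.resLE V' U hV'.ge) (j ⁻¹ᵁ P'') V'' hV''
  refine ⟨_, (j ⁻¹ᵁ P'').ι ≫ U.ι, inferInstance, ?_, ?_⟩
  · exact ⟨⟨⟨x, hxU⟩, hxP''⟩, rfl⟩
  · exact isFinLocFree_of_iso
      ((Scheme.Modules.restrictFunctorComp (j ⁻¹ᵁ P'').ι U.ι).app (Omega.conormal i) ≪≫
        (Scheme.Modules.restrictFunctor (j ⁻¹ᵁ P'').ι).mapIso e₁ ≪≫ e₂).symm hcore

end Groth.Agent.Lead.UT9
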