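import Mathlib
import Groth.Prelude.Def_Omega4
import Groth.Prelude.Def_MoreMor
import Groth.Prelude.Def_FlatMod2
import Groth.Prelude.Def_RegImm
import Groth.Agent.Lib.Lead.UT10
import Groth.Agent.Lib.Lead.UT9
import Groth.Agent.Lib.Lead.UT4
import Groth.Agent.Lib.Lead.SmLift2

set_option autoImplicit false
universe u
open CategoryTheory CategoryTheory.Limits AlgebraicGeometry TopologicalSpace Opposite

set_option backward.isDefEq.respectTransparency.types false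

namespace Groth.Agent.Lead.UT11

open OmegaSh Groth.Agent.Lead.ConMap Groth.Agent.Lead.FLF Groth.Agent.Lead.UT7
  Groth.Agent.Lead.ConComp Groth.Agent.Lead.UT10 Groth.Agent.Lead.OmU

section LocalMono

variable {Z : Scheme.{u}} {M N : Z.Modules} (ψ : M ⟶ N)

theorem mono_of_forall_mono_pullback
    (h : ∀ z : Z, ∃ (U : Scheme.{u}) (v : U ⟶ Z) (_ : IsOpenImmersion v),
      z ∈ Set.range v.base ∧ Mono ((Scheme.Modules.pullback v).map ψ)) : Mono ψ := by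
  apply mono_of_locally_injective
  intro z O hz
  obtain ⟨U, v, hv, ⟨y, rfl⟩, hmono⟩ := h z
  haveI := hv
  haveI := hmono
  haveI hm2 : Mono ((Scheme.Modules.restrictFunctor v).map ψ) := by
    have e : (Scheme.Modules.restrictFunctor v).map ψ =
        (Scheme.Modules.restrictFunctorIsoPullback v).hom.app M ≫
          (Scheme.Modules.pullback v).map ψ ≫
          (Scheme.Modules.restrictFunctorIsoPullback v).inv.app N := by
      rw [← Category.assoc, ← (Scheme.Modules.restrictFunctorIsoPullback v).hom.naturality,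
        Category.assoc, Iso.hom_inv_id_app, Category.comp_id]
    rw [e]
    infer_instance
  refine ⟨v ''ᵁ (v ⁻¹ᵁ O), ⟨y, hz, rfl⟩, ?_, ?_⟩
  · rintro _ ⟨y', hy', rfl⟩
    exact hy'
  · exact Groth.Agent.Helper1.FtLocal.app_injective_of_mono
      ((Scheme.Modules.restrictFunctor v).map ψ) (v ⁻¹ᵁ O)

theorem mono_pullbackId_map [Mono ψ] : Mono ((Scheme.Modules.pullback (𝟙 Z)).map ψ) := by
  have e : (Scheme.Modules.pullback (𝟙 Z)).map ψ =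
      (Scheme.Modules.pullbackId Z).hom.app M ≫ ψ ≫ (Scheme.Modules.pullbackId Z).inv.app N := by
    have h1 : (Scheme.Modules.pullback (𝟙 Z)).map ψ ≫ (Scheme.Modules.pullbackId Z).hom.app N =
        (Scheme.Modules.pullbackId Z).hom.app M ≫ ψ := (Scheme.Modules.pullbackId Z).hom.naturality ψ
    rw [← Category.assoc, ← h1, Category.assoc, Iso.hom_inv_id_app, Category.comp_id]
  rw [e]
  infer_instance

end LocalMono


section Main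

set_option maxHeartbeats 1600000 in
theorem mono_ψ₁ {Z Y X Z' Y' : Scheme.{u}} (i : Z ⟶ Y) (b : Y ⟶ X)
    (i' : Z ⟶ Z') (c : Z' ⟶ X) (hZ' : IsUnivThickening (i ≫ b) i' c)
    (j : Y ⟶ Y') (d : Y' ⟶ X) (hY' : IsUnivThickening b j d)
    (m : Z' ⟶ Y') (hm₁ : i' ≫ m = i ≫ j) (hm₂ : m ≫ d = c)
    (ψ₁ : (Scheme.Modules.pullback i).obj (Omega.conormal j) ⟶ Omega.conormal i')
    (hψ₁ : IsConormalMap i' j m i ψ₁)
    (hlci : ∀ z : Z, Synt.IsKoszulAt i z) : Mono ψ₁ := by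
  haveI : IsClosedImmersion i' := hZ'.1.1.1
  haveI : IsClosedImmersion j := hY'.1.1.1
  apply mono_of_forall_mono_pullback
  intro z
  obtain ⟨U, P, g₀, π, hzU, -, hreg, hsm, hg₀π⟩ := hlci z
  haveI := hsm
  haveI : IsImmersion g₀ := hreg.1
  have hreg1 := Groth.Agent.Lead.KosH1.isRegularImmersion_h1_of_koszul g₀ hreg
  have hx : g₀ ⟨z, hzU⟩ ∈ g₀.coborderRange := subset_coborder ⟨_, rfl⟩
  obtain ⟨W, P', tP, π', hxW, hWO, hWaff, hP'aff, hcl_t, hflat, hpb⟩ :=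
    Groth.Agent.Lead.SmLift.exists_flat_lift_scheme j hY'.1 π (g₀ ⟨z, hzU⟩) g₀.coborderRange hx
  haveI := hcl_t
  haveI := hflat
  haveI hgcl : IsClosedImmersion (g₀ ∣_ W) :=
    Groth.Agent.Lead.IdM.isClosedImmersion_morphismRestrict g₀ W hWO
  have hreg₂ : ∀ y, RegImm.IsRegularImmersionAt .h1 (g₀ ∣_ W) y := fun y =>
    Groth.Agent.Lib.Helper4.RegFlatBC1.isRegularImmersionAt_of_isPullback .h1
      (Groth.Agent.Lib.Helper4.RegFlatBC1.kind_seq_of_flat .h1) g₀ W.ι (g₀ ∣_ W) (g₀ ⁻¹ᵁ W).ι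
      (isPullback_morphismRestrict g₀ W).flip y (hreg1.2 _)
  refine ⟨(g₀ ⁻¹ᵁ W).toScheme, (g₀ ⁻¹ᵁ W).ι ≫ U.ι, inferInstance,
    ⟨⟨⟨z, hzU⟩, hxW⟩, rfl⟩, ?_⟩
  -- notation
  generalize hg : g₀ ∣_ W = g at hgcl hreg₂
  generalize hu : (g₀ ⁻¹ᵁ W).ι ≫ U.ι = v
  have hgW : g ≫ W.ι ≫ π = v ≫ i := by
    rw [← hg, ← hu, ← Category.assoc, morphismRestrict_ι, Category.assoc, hg₀π, Category.assoc]
  have hpbw : tP ≫ π' = (W.ι ≫ π) ≫ j := hpb.w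
  -- the first order neighbourhood
  obtain ⟨T, t, a, hT, hχ⟩ := exists_univThickening_of_immersion' (g ≫ tP)
  haveI : IsClosedImmersion t := hT.1.1.1
  have hta : t ≫ a = g ≫ tP := hT.2.1
  have hκ : (g ≫ tP) ≫ π' = v ≫ i ≫ j := by
    rw [Category.assoc, hpbw, ← Category.assoc, ← Category.assoc, Category.assoc g, hgW,
      Category.assoc]
  have w : t ≫ (a ≫ π' ≫ d) = v ≫ (i ≫ b) := by
    rw [← Category.assoc, hta, ← Category.assoc, hκ, Category.assoc, Category.assoc, hY'.2.1]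
  obtain ⟨q', ⟨hq1, hq2⟩, -⟩ := hZ'.2.2 _ T t (a ≫ π' ≫ d) v hT.1 w
  have w' : t ≫ (a ≫ π' ≫ d) = (v ≫ i) ≫ b := by rw [w, Category.assoc]
  have hqm : q' ≫ m = a ≫ π' := by
    apply (hY'.2.2 _ T t (a ≫ π' ≫ d) (v ≫ i) hT.1 w').unique
    · refine ⟨?_, ?_⟩
      · rw [← Category.assoc, hq1, Category.assoc, hm₁, Category.assoc]
      · rw [Category.assoc, hm₂, hq2]
    · refine ⟨?_, ?_⟩
      · rw [← Category.assoc, hta, hκ, Category.assoc]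
      · rw [Category.assoc]
  -- the conormal maps
  obtain ⟨β, hβ, -⟩ := existsUnique_conormalMap t i' q' v hq1.symm
  have hA := isConormalMap_comp_gen t i' j q' v m i β hβ ψ₁ hψ₁
  obtain ⟨χ, hχ', -⟩ := existsUnique_conormalMap t (g ≫ tP) a (𝟙 _)
    ((Category.id_comp _).trans hta.symm)
  haveI := hχ χ hχ'
  obtain ⟨φ₁, hφ₁, -⟩ := existsUnique_conormalMap (g ≫ tP) tP (𝟙 P') g
    (Category.comp_id _).symm
  haveI hφ₁mono := Groth.Agent.Lead.ConH1.mono_φ₁ tP g φ₁ hφ₁ hreg₂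
  obtain ⟨ν, hν, -⟩ := existsUnique_conormalMap tP j π' (W.ι ≫ π) hpbw.symm
  haveI := Groth.Agent.Lead.ConPb.isIso_of_isPullback_of_flat tP j π' (W.ι ≫ π) hpb ν hν
  have hB₁ := isConormalMap_comp_gen t (g ≫ tP) tP a (𝟙 _) (𝟙 P') g χ hχ' φ₁ hφ₁
  have hB₂ := isConormalMap_comp_gen t tP j (a ≫ 𝟙 P') (𝟙 _ ≫ g) π' (W.ι ≫ π) _ hB₁ ν hν
  haveI hm1 : Mono ((Scheme.Modules.pullback (𝟙 (g₀ ⁻¹ᵁ W).toScheme)).map φ₁) :=
    mono_pullbackId_map φ₁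
  haveI hm2 : Mono ((Scheme.Modules.pullback (𝟙 (g₀ ⁻¹ᵁ W).toScheme)).map φ₁ ≫ χ) := mono_comp _ _
  haveI hm3 : Mono ((Scheme.Modules.pullbackComp (𝟙 (g₀ ⁻¹ᵁ W).toScheme) g).inv.app
      (Omega.conormal tP) ≫ (Scheme.Modules.pullback (𝟙 (g₀ ⁻¹ᵁ W).toScheme)).map φ₁ ≫ χ) :=
    mono_comp _ _
  have hmB₂ := mono_comp ((Scheme.Modules.pullback (𝟙 (g₀ ⁻¹ᵁ W).toScheme ≫ g)).map ν)
    ((Scheme.Modules.pullbackComp (𝟙 (g₀ ⁻¹ᵁ W).toScheme) g).inv.app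
      (Omega.conormal tP) ≫ (Scheme.Modules.pullback (𝟙 (g₀ ⁻¹ᵁ W).toScheme)).map φ₁ ≫ χ)
  haveI := hmB₂
  have hmB₂' := mono_comp ((Scheme.Modules.pullbackComp (𝟙 (g₀ ⁻¹ᵁ W).toScheme ≫ g)
      (W.ι ≫ π)).inv.app (Omega.conormal j))
    ((Scheme.Modules.pullback (𝟙 (g₀ ⁻¹ᵁ W).toScheme ≫ g)).map ν ≫
      (Scheme.Modules.pullbackComp (𝟙 (g₀ ⁻¹ᵁ W).toScheme) g).inv.app
      (Omega.conormal tP) ≫ (Scheme.Modules.pullback (𝟙 (g₀ ⁻¹ᵁ W).toScheme)).map φ₁ ≫ χ)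
  have e1 : (a ≫ 𝟙 P') ≫ π' = q' ≫ m := by rw [Category.comp_id, hqm]
  have e2 : (𝟙 _ ≫ g) ≫ (W.ι ≫ π) = v ≫ i := by rw [Category.id_comp, hgW]
  have hmA := mono_of_eq_sq t j _ _ _ _ e1 e2 _ hB₂ hmB₂' _ hA
  haveI := hmA
  haveI hm5 : Mono ((Scheme.Modules.pullback v).map ψ₁ ≫ β) := by
    have e : (Scheme.Modules.pullback v).map ψ₁ ≫ β =
        (Scheme.Modules.pullbackComp v i).hom.app (Omega.conormal j) ≫
          ((Scheme.Modules.pullbackComp v i).inv.app (Omega.conormal j) ≫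
            (Scheme.Modules.pullback v).map ψ₁ ≫ β) := by
      rw [← Category.assoc, Iso.hom_inv_id_app, Category.id_comp]
    rw [e]
    exact mono_comp _ _
  exact mono_of_mono _ β

end Main


theorem main9785 {Z Y X Z' Y' Z'' : Scheme.{u}} (i : Z ⟶ Y) (b : Y ⟶ X)
    (i' : Z ⟶ Z') (c : Z' ⟶ X) (hZ' : OmegaSh.IsUnivThickening (i ≫ b) i' c)
    (j : Y ⟶ Y') (d : Y' ⟶ X) (hY' : OmegaSh.IsUnivThickening b j d)
    (m : Z' ⟶ Y') (hm₁ : i' ≫ m = i ≫ j) (hm₂ : m ≫ d = c)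
    (i'' : Z ⟶ Z'') (e : Z'' ⟶ Y) (hZ'' : OmegaSh.IsUnivThickening i i'' e)
    (n : Z'' ⟶ Z') (hn₁ : i'' ≫ n = i') (hn₂ : n ≫ c = e ≫ b)
    (ψ₁ : (Scheme.Modules.pullback i).obj (Omega.conormal j) ⟶ Omega.conormal i')
    (hψ₁ : OmegaSh.IsConormalMap i' j m i ψ₁)
    (ψ₂ : (Scheme.Modules.pullback (𝟙 Z)).obj (Omega.conormal i') ⟶ Omega.conormal i'')
    (hψ₂ : OmegaSh.IsConormalMap i'' i' n (𝟙 Z) ψ₂)
    (hlci : ∀ z : Z, Synt.IsKoszulAt i z) :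
    ∃ w : (Scheme.Modules.pullback (𝟙 Z)).map ψ₁ ≫ ψ₂ = 0,
      (ShortComplex.mk _ _ w).ShortExact := by
  obtain ⟨w, hex, hepi⟩ := Groth.Agent.Lead.UT.main9784 i b i' c hZ' j d hY' m hm₁ hm₂ i'' e hZ''
    n hn₁ hn₂ ψ₁ hψ₁ ψ₂ hψ₂
  haveI := mono_ψ₁ i b i' c hZ' j d hY' m hm₁ hm₂ ψ₁ hψ₁ hlci
  haveI hmono : Mono ((Scheme.Modules.pullback (𝟙 Z)).map ψ₁) := mono_pullbackId_map ψ₁
  exact ⟨w, ShortComplex.ShortExact.mk' hex hmono hepi⟩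

end Groth.Agent.Lead.UT11
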