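import Mathlib
import Groth.Prelude.Def_Omega3
import Groth.Prelude.Def_MoreMor
import Groth.Agent.Lib.Lead.ConChart4
import Groth.Agent.Lib.Lead.PP6
import Groth.Agent.Lib.Helper2.Formal.EtaleHom
import Groth.Agent.S5980

set_option autoImplicit false
universe u
open CategoryTheory CategoryTheory.Limits AlgebraicGeometry TopologicalSpace Opposite

set_option backward.isDefEq.respectTransparency.types false

namespace Groth.Agent.Lead.UnivTh

open OmegaSh Groth.Agent.Lead.IdM Groth.Agent.Lead.OmU Groth.Agent.Lead.ConChart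
  Groth.Agent.Lead.ConMap Groth.Agent.Helper2.FormalLib

theorem isFirstOrderThickening_id (X : Scheme.{u}) : MoreMor.IsFirstOrderThickening (𝟙 X) := by
  refine ⟨⟨inferInstance, inferInstance⟩, ?_⟩
  rw [Scheme.Hom.ker_eq_bot_of_isIso]
  exact Scheme.IdealSheafData.mul_bot _

theorem isFirstOrderThickening_spec_quot {A : Type u} [CommRing A] (I : Ideal A) (hI : I ^ 2 = ⊥) :
    MoreMor.IsFirstOrderThickening (Spec.map (CommRingCat.ofHom (Ideal.Quotient.mk I))) :=
  ⟨⟨IsClosedImmersion.spec_of_surjective _ Ideal.Quotient.mk_surjective,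
    surjective_spec_quot I hI⟩, ker_spec_quot_sq I hI⟩

theorem sect_eq_zero_of_isZero {X : Scheme.{u}} {M : X.Modules} (hz : IsZero M) (U : X.Opens)
    (s : Γ(M, U)) : s = 0 := by
  have h := hz.eq_of_src (𝟙 M) 0
  have h2 := congrArg (fun φ => (Scheme.Modules.Hom.app φ U) s) h
  simpa using h2

theorem ker_eq_bot_of_isZero_conormal {Z X : Scheme.{u}} (i : Z ⟶ X) [IsClosedImmersion i]
    (hsq : i.ker * i.ker = ⊥) (hz : IsZero (Omega.conormal i)) : i.ker = ⊥ := by
  apply Scheme.IdealSheafData.ext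
  funext W
  rw [Scheme.IdealSheafData.ideal_bot, Pi.bot_apply, eq_bot_iff]
  intro r hr
  rw [← range_ιL] at hr
  obtain ⟨s, rfl⟩ := hr
  have hWc : W.1 ≤ i.coborderRange := by
    rw [Groth.Agent.Lead.PPA.coborderRange_eq_top]; exact le_top
  have h0 : conormalSect i W.1 s = 0 := sect_eq_zero_of_isZero hz _ _
  rw [cls_eq_zero_iff i W.2 hWc] at h0
  rw [ker_appLE_eq i W.2, pow_two] at h0
  have h1 : (i.ker * i.ker).ideal W = i.ker.ideal W * i.ker.ideal W := by
    rw [Scheme.IdealSheafData.ideal_mul]; rfl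
  rw [hsq, Scheme.IdealSheafData.ideal_bot, Pi.bot_apply] at h1
  rw [← h1] at h0
  exact h0

theorem main {X S : Scheme.{u}} (f : X ⟶ S) :
    (MoreMor.IsFormallyEtaleHom f ↔ FormallyUnramified f ∧ OmegaSh.IsUnivThickening f (𝟙 X) f) ∧
    (∀ {X' : Scheme.{u}} (i : X ⟶ X') (h' : X' ⟶ S) [QuasiCompact i], FormallyUnramified f →
      OmegaSh.IsUnivThickening f i h' → (MoreMor.IsFormallyEtaleHom f ↔ IsZero (Omega.conormal i))) := by
  have hfu : MoreMor.IsFormallyEtaleHom f → FormallyUnramified f := fun hf =>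
    formallyUnramified_of_uu (fun A _ I hI =>
      (ul_of_isFormallyEtaleHom hf _ (isFirstOrderThickening_spec_quot I hI)).uu)
  have huniv : MoreMor.IsFormallyEtaleHom f → OmegaSh.IsUnivThickening f (𝟙 X) f := fun hf => by
    refine ⟨isFirstOrderThickening_id X, Category.id_comp f, ?_⟩
    intro T T' j b a hj hjb
    obtain ⟨l, ⟨h1, h2⟩, h3⟩ := ul_of_isFormallyEtaleHom hf j hj a b hjb
    refine ⟨l, ⟨by rw [h1, Category.comp_id], h2⟩, ?_⟩
    rintro l' ⟨h1', h2'⟩
    exact h3 l' ⟨by rw [h1', Category.comp_id], h2'⟩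
  refine ⟨⟨fun hf => ⟨hfu hf, huniv hf⟩, ?_⟩, ?_⟩
  · rintro ⟨-, -, -, hU⟩
    intro A _ I hI a b hab
    obtain ⟨l, ⟨h1, h2⟩, h3⟩ := hU _ _ _ b a (isFirstOrderThickening_spec_quot I hI) hab
    refine ⟨l, ⟨by rw [h1, Category.comp_id], h2⟩, ?_⟩
    rintro l' ⟨h1', h2'⟩
    exact h3 l' ⟨by rw [h1', Category.comp_id], h2'⟩
  · intro X' i h' _ _ ⟨hi, hih, hU⟩
    constructor
    · intro hf
      obtain ⟨r, ⟨hr1, hr2⟩, -⟩ :=
        ul_of_isFormallyEtaleHom hf i hi (𝟙 X) h' (by rw [hih, Category.id_comp])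
      obtain ⟨m, -, hm⟩ := hU X X' i h' (𝟙 X) hi (by rw [hih, Category.id_comp])
      have e1 : r ≫ i = m :=
        hm _ ⟨by rw [← Category.assoc, hr1], by rw [Category.assoc, hih, hr2]⟩
      have e2 : 𝟙 X' = m := hm _ ⟨by rw [Category.comp_id, Category.id_comp], Category.id_comp _⟩
      haveI : IsIso i := ⟨r, hr1, e1.trans e2.symm⟩
      exact Groth.Agent.S5980.isZero_conormal_of_isIso i
    · intro hz
      obtain ⟨⟨hci, hsurj⟩, hsq⟩ := hi
      haveI := hci
      have hk := ker_eq_bot_of_isZero_conormal i hsq hz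
      haveI : IsIso i := IsClosedImmersion.isIso_iff_ker_eq_bot.mpr hk
      intro A _ I hI a b hab
      obtain ⟨l, ⟨h1, h2⟩, h3⟩ := hU _ _ _ b a (isFirstOrderThickening_spec_quot I hI) hab
      refine ⟨l ≫ inv i, ⟨?_, ?_⟩, ?_⟩
      · rw [← Category.assoc, h1, Category.assoc, IsIso.hom_inv_id, Category.comp_id]
      · rw [Category.assoc, ← hih, IsIso.inv_hom_id_assoc, h2]
      · rintro l' ⟨h1', h2'⟩
        have := h3 (l' ≫ i) ⟨by rw [← Category.assoc, h1'], by rw [Category.assoc, hih, h2']⟩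
        rw [← this, Category.assoc, IsIso.hom_inv_id, Category.comp_id]

end Groth.Agent.Lead.UnivTh
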