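import Mathlib
import Groth.Prelude.Def_Omega3
import Groth.Prelude.Def_MoreMor
import Groth.Agent.Lib.Lead.UnivTh1

set_option autoImplicit false
universe u
open CategoryTheory CategoryTheory.Limits AlgebraicGeometry TopologicalSpace Opposite

set_option backward.isDefEq.respectTransparency.types false

namespace Groth.Agent.Lead.UT

open OmegaSh Groth.Agent.Lead.UnivTh Groth.Agent.Lead.OmU

section Chart

variable {Z Z' X : Scheme.{u}} (h : Z ⟶ X) (i : Z ⟶ Z') (h' : Z' ⟶ X)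
  (hu : OmegaSh.IsUnivThickening h i h')
  {U : X.Opens} {W' : Z'.Opens} (hU : IsAffineOpen U) (hW' : IsAffineOpen W')
  (e' : W' ≤ h' ⁻¹ᵁ U)
  [Algebra Γ(X, U) Γ(Z', W')] [Algebra Γ(Z', W') Γ(Z, i ⁻¹ᵁ W')] [Algebra Γ(X, U) Γ(Z, i ⁻¹ᵁ W')]
  [IsScalarTower Γ(X, U) Γ(Z', W') Γ(Z, i ⁻¹ᵁ W')]
  (h1 : algebraMap Γ(X, U) Γ(Z', W') = (h'.appLE U W' e').hom)
  (h2 : algebraMap Γ(Z', W') Γ(Z, i ⁻¹ᵁ W') = (i.appLE W' (i ⁻¹ᵁ W') le_rfl).hom)

include hu hU hW' h1 h2 in
theorem isUnivThickeningRing_chart :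
    OmegaSh.IsUnivThickeningRing Γ(X, U) Γ(Z, i ⁻¹ᵁ W') Γ(Z', W')
      (IsScalarTower.toAlgHom Γ(X, U) Γ(Z', W') Γ(Z, i ⁻¹ᵁ W')) := by
  obtain ⟨⟨⟨hcl, hsurj⟩, hsq⟩, hih, huniv⟩ := hu
  haveI := hcl
  have hW : IsAffineOpen (i ⁻¹ᵁ W') := hW'.preimage i
  have hπ : ∀ x, (IsScalarTower.toAlgHom Γ(X, U) Γ(Z', W') Γ(Z, i ⁻¹ᵁ W')) x =
      (i.appLE W' (i ⁻¹ᵁ W') le_rfl).hom x := fun x => by
    change algebraMap Γ(Z', W') Γ(Z, i ⁻¹ᵁ W') x = _
    rw [h2]
  refine ⟨?_, ?_, ?_⟩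
  · intro y
    have hs : Function.Surjective (i.appLE W' (i ⁻¹ᵁ W') le_rfl).hom := by
      rw [Scheme.Hom.appLE_eq_app]
      exact i.app_surjective W' hW'
    obtain ⟨x, rfl⟩ := hs y
    exact ⟨x, hπ x⟩
  · have hk : RingHom.ker (IsScalarTower.toAlgHom Γ(X, U) Γ(Z', W') Γ(Z, i ⁻¹ᵁ W')).toRingHom =
        RingHom.ker (i.appLE W' (i ⁻¹ᵁ W') le_rfl).hom := by
      ext x
      rw [RingHom.mem_ker, RingHom.mem_ker]
      change (IsScalarTower.toAlgHom Γ(X, U) Γ(Z', W') Γ(Z, i ⁻¹ᵁ W')) x = 0 ↔ _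
      rw [hπ]
    rw [hk, ker_appLE_eq i hW', pow_two]
    have h3 : (i.ker * i.ker).ideal ⟨W', hW'⟩ = i.ker.ideal ⟨W', hW'⟩ * i.ker.ideal ⟨W', hW'⟩ := by
      rw [Scheme.IdealSheafData.ideal_mul]; rfl
    rw [← h3, hsq, Scheme.IdealSheafData.ideal_bot, Pi.bot_apply]
  · intro C _ _ K hK a
    subst hih
    have hj := isFirstOrderThickening_spec_quot K hK
    let bC : Γ(X, U) ⟶ CommRingCat.of C := CommRingCat.ofHom (algebraMap Γ(X, U) C)
    let aC : Γ(Z, i ⁻¹ᵁ W') ⟶ CommRingCat.of (C ⧸ K) := CommRingCat.ofHom a.toRingHom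
    let mkC : CommRingCat.of C ⟶ CommRingCat.of (C ⧸ K) :=
      CommRingCat.ofHom (Ideal.Quotient.mk K)
    have eW : i ⁻¹ᵁ W' ≤ (i ≫ h') ⁻¹ᵁ U := fun x hx => e' hx
    have hring : ∀ r : Γ(X, U), a (((i ≫ h').appLE U (i ⁻¹ᵁ W') eW).hom r) =
        Ideal.Quotient.mk K (algebraMap Γ(X, U) C r) := by
      intro r
      have e1 : ((i ≫ h').appLE U (i ⁻¹ᵁ W') eW).hom r =
          algebraMap Γ(X, U) Γ(Z, i ⁻¹ᵁ W') r := by
        rw [IsScalarTower.algebraMap_apply Γ(X, U) Γ(Z', W') Γ(Z, i ⁻¹ᵁ W'), h1, h2,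
          ← Scheme.Hom.appLE_comp_appLE i h' U W' (i ⁻¹ᵁ W') e' le_rfl]
        rfl
      rw [e1, a.commutes, ← Ideal.Quotient.mk_algebraMap]
    have hjb : Spec.map mkC ≫ (Spec.map bC ≫ hU.fromSpec) =
        (Spec.map aC ≫ hW.fromSpec) ≫ (i ≫ h') := by
      rw [Category.assoc, ← hU.SpecMap_appLE_fromSpec (i ≫ h') hW eW, ← Category.assoc,
        ← Category.assoc, ← Spec.map_comp, ← Spec.map_comp]
      congr 2
      ext r
      exact (hring r).symm
    obtain ⟨a', ⟨ha1, ha2⟩, hauniq⟩ := huniv _ _ (Spec.map mkC) (Spec.map bC ≫ hU.fromSpec)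
      (Spec.map aC ≫ hW.fromSpec) hj hjb
    have hrange : Set.range a'.base ⊆ Set.range hW'.fromSpec.base := by
      have hr := hW'.range_fromSpec
      rintro _ ⟨t, rfl⟩
      obtain ⟨s, rfl⟩ := hj.1.2.surj t
      have h5 : a'.base ((Spec.map mkC).base s) = i.base ((Spec.map aC ≫ hW.fromSpec).base s) := by
        have := congrArg (fun g => g.base s) ha1
        exact this
      have h6 : (Spec.map aC ≫ hW.fromSpec).base s ∈ i ⁻¹ᵁ W' := by
        have : (Spec.map aC ≫ hW.fromSpec).base s ∈ Set.range hW.fromSpec.base :=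
          ⟨(Spec.map aC).base s, rfl⟩
        have hr2 := hW.range_fromSpec
        have h8 : (Spec.map aC ≫ hW.fromSpec).base s ∈ ((i ⁻¹ᵁ W' : Z.Opens) : Set Z) := by
          rw [← hr2]; exact this
        exact h8
      have h7 : a'.base ((Spec.map mkC).base s) ∈ (W' : Set Z') := by
        rw [h5]; exact h6
      exact hr.symm ▸ h7
    let l : Spec (CommRingCat.of C) ⟶ Spec Γ(Z', W') :=
      IsOpenImmersion.lift hW'.fromSpec a' hrange
    have hl : l ≫ hW'.fromSpec = a' := IsOpenImmersion.lift_fac _ _ _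
    let φc : Γ(Z', W') ⟶ CommRingCat.of C := Spec.preimage l
    have hφc : Spec.map φc = l := Spec.map_preimage l
    have hφA : h'.appLE U W' e' ≫ φc = bC := by
      apply Spec.map_injective
      rw [← cancel_mono hU.fromSpec, Spec.map_comp, Category.assoc,
        hU.SpecMap_appLE_fromSpec h' hW' e', ← Category.assoc, hφc, hl]
      exact ha2
    have hφK : φc ≫ mkC = i.appLE W' (i ⁻¹ᵁ W') le_rfl ≫ aC := by
      apply Spec.map_injective
      rw [← cancel_mono hW'.fromSpec, Spec.map_comp, Category.assoc, hφc, hl, Spec.map_comp,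
        Category.assoc, hW'.SpecMap_appLE_fromSpec i hW le_rfl]
      rw [← Category.assoc]
      exact ha1
    let φ : Γ(Z', W') →ₐ[Γ(X, U)] C :=
      { φc.hom with
        commutes' := fun r => by
          have := congrArg (fun f => f.hom r) hφA
          rw [h1]
          exact this }
    refine ⟨φ, ?_, ?_⟩
    · refine AlgHom.ext fun x => ?_
      have := congrArg (fun f => f.hom x) hφK
      change Ideal.Quotient.mk K (φc.hom x) =
        a ((IsScalarTower.toAlgHom Γ(X, U) Γ(Z', W') Γ(Z, i ⁻¹ᵁ W')) x)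
      rw [hπ]
      exact this
    · intro φ₂ hφ₂
      let φ₂c : Γ(Z', W') ⟶ CommRingCat.of C := CommRingCat.ofHom φ₂.toRingHom
      have k1 : Spec.map mkC ≫ (Spec.map φ₂c ≫ hW'.fromSpec) =
          (Spec.map aC ≫ hW.fromSpec) ≫ i := by
        rw [Category.assoc, ← hW'.SpecMap_appLE_fromSpec i hW le_rfl, ← Category.assoc,
          ← Category.assoc, ← Spec.map_comp, ← Spec.map_comp]
        congr 2
        ext x
        have := congrArg (fun f => f x) hφ₂
        change Ideal.Quotient.mk K (φ₂ x) =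
          a ((IsScalarTower.toAlgHom Γ(X, U) Γ(Z', W') Γ(Z, i ⁻¹ᵁ W')) x) at this
        rw [hπ] at this
        exact this
      have k2 : (Spec.map φ₂c ≫ hW'.fromSpec) ≫ h' = Spec.map bC ≫ hU.fromSpec := by
        rw [Category.assoc, ← hU.SpecMap_appLE_fromSpec h' hW' e', ← Category.assoc,
          ← Spec.map_comp]
        congr 2
        ext r
        have := φ₂.commutes r
        rw [h1] at this
        exact this
      have k3 := hauniq _ ⟨k1, k2⟩
      rw [← hl, ← hφc, cancel_mono] at k3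
      have k4 := Spec.map_injective k3
      refine AlgHom.ext fun x => ?_
      exact congrArg (fun f => f.hom x) k4

end Chart

end Groth.Agent.Lead.UT
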