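import Mathlib
import Groth.Prelude.Def_Omega4
import Groth.Agent.Lib.Lead.UT1
import Groth.Agent.Lib.Lead.UT2
import Groth.Agent.Lib.Lead.OmU9b
import Groth.Agent.Lib.Lead.LimZ3
import Groth.Agent.Lib.Lead.QcIso
import Groth.Agent.Lib.Helper7.Deriv.UnivThick2

set_option autoImplicit false
universe u
open CategoryTheory CategoryTheory.Limits AlgebraicGeometry TopologicalSpace Opposite TensorProduct

set_option backward.isDefEq.respectTransparency.types false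

namespace Groth.Agent.Lead.UT

open OmegaSh Groth.Agent.Lead.DerU Groth.Agent.Lead.BCU Groth.Agent.Lead.OmU Groth.Agent.Lead.LimZ

section Chart

attribute [local instance] SMulCommClass.of_commMonoid

variable {Z X S Z' : Scheme.{u}} (h : Z ⟶ X) (q : X ⟶ S) (i : Z ⟶ Z') (h' : Z' ⟶ X)
  (hu : OmegaSh.IsUnivThickening h i h')
  {ΩX : X.Modules} (dX : Der q ΩX) (hdX : IsUniversal dX)
  {ΩZ' : Z'.Modules} (dZ' : Der (h' ≫ q) ΩZ') (hdZ' : IsUniversal dZ')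
  (c : (Scheme.Modules.pullback h').obj ΩX ⟶ ΩZ') (hc : IsDiffCompat h' dX dZ' c)
  {T : S.Opens} {U : X.Opens} {W' : Z'.Opens} (hT : IsAffineOpen T) (hU : IsAffineOpen U)
  (hW' : IsAffineOpen W') (eU : U ≤ q ⁻¹ᵁ T) (e' : W' ≤ h' ⁻¹ᵁ U)

include hu hdX hdZ' hc hT hU hW' eU e' in
theorem chart_bijective :
    Function.Bijective (((Scheme.Modules.pullback i).map c).app (i ⁻¹ᵁ W')) := by
  have eT : W' ≤ (h' ≫ q) ⁻¹ᵁ T := fun x hx => eU (e' hx)
  haveI hcl : IsClosedImmersion i := hu.1.1.1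
  have hW : IsAffineOpen (i ⁻¹ᵁ W') := hW'.preimage i
  letI algRA := (q.appLE T U eU).hom.toAlgebra
  letI algAB' := (h'.appLE U W' e').hom.toAlgebra
  letI algRB' := ((h' ≫ q).appLE T W' eT).hom.toAlgebra
  letI algB'B := (i.appLE W' (i ⁻¹ᵁ W') le_rfl).hom.toAlgebra
  letI algAB : Algebra Γ(X, U) Γ(Z, i ⁻¹ᵁ W') :=
    ((i.appLE W' (i ⁻¹ᵁ W') le_rfl).hom.comp (h'.appLE U W' e').hom).toAlgebra
  haveI t1 : IsScalarTower Γ(S, T) Γ(X, U) Γ(Z', W') := IsScalarTower.of_algebraMap_eq' (by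
    change ((h' ≫ q).appLE T W' eT).hom = (h'.appLE U W' e').hom.comp (q.appLE T U eU).hom
    rw [← CommRingCat.hom_comp, Scheme.Hom.appLE_comp_appLE])
  haveI t2 : IsScalarTower Γ(X, U) Γ(Z', W') Γ(Z, i ⁻¹ᵁ W') :=
    IsScalarTower.of_algebraMap_eq' rfl
  have hring := isUnivThickeningRing_chart h i h' hu hU hW' e' rfl rfl
  have hbij := Groth.Agent.Helper7.Deriv.baseChange_bijective_of_univThick Γ(S, T) hring
  haveI := isQuasicoherent_of_universal dX hdX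
  haveI := isQuasicoherent_of_universal dZ' hdZ'
  haveI : ((Scheme.Modules.pullback h').obj ΩX).IsQuasicoherent :=
    Groth.Agent.Lead.PB.isQuasicoherent_pullback _ _
  letI mAM' : Module Γ(X, U) Γ((Scheme.Modules.pullback h').obj ΩX, W') :=
    Module.compHom _ (h'.appLE U W' e').hom
  haveI : IsScalarTower Γ(X, U) Γ(Z', W') Γ((Scheme.Modules.pullback h').obj ΩX, W') :=
    ⟨fun a a' n => by
      change ((h'.appLE U W' e').hom a * a') • n = (h'.appLE U W' e').hom a • a' • n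
      exact mul_smul _ _ _⟩
  obtain ⟨l₁, hl₁, hb₁⟩ := isBC_unitRes h' ΩX hU hW' e'
  letI mB'M'' : Module Γ(Z', W')
      Γ((Scheme.Modules.pullback i).obj ((Scheme.Modules.pullback h').obj ΩX), i ⁻¹ᵁ W') :=
    Module.compHom _ (i.appLE W' (i ⁻¹ᵁ W') le_rfl).hom
  haveI : IsScalarTower Γ(Z', W') Γ(Z, i ⁻¹ᵁ W')
      Γ((Scheme.Modules.pullback i).obj ((Scheme.Modules.pullback h').obj ΩX), i ⁻¹ᵁ W') :=
    ⟨fun a a' n => by
      change ((i.appLE W' (i ⁻¹ᵁ W') le_rfl).hom a * a') • n =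
        (i.appLE W' (i ⁻¹ᵁ W') le_rfl).hom a • a' • n
      exact mul_smul _ _ _⟩
  obtain ⟨l₂, hl₂, hb₂⟩ := isBC_unitRes i ((Scheme.Modules.pullback h').obj ΩX) hW' hW le_rfl
  letI mB'N'' : Module Γ(Z', W') Γ((Scheme.Modules.pullback i).obj ΩZ', i ⁻¹ᵁ W') :=
    Module.compHom _ (i.appLE W' (i ⁻¹ᵁ W') le_rfl).hom
  haveI : IsScalarTower Γ(Z', W') Γ(Z, i ⁻¹ᵁ W')
      Γ((Scheme.Modules.pullback i).obj ΩZ', i ⁻¹ᵁ W') :=
    ⟨fun a a' n => by
      change ((i.appLE W' (i ⁻¹ᵁ W') le_rfl).hom a * a') • n =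
        (i.appLE W' (i ⁻¹ᵁ W') le_rfl).hom a • a' • n
      exact mul_smul _ _ _⟩
  obtain ⟨l₃, hl₃, hb₃⟩ := isBC_unitRes i ΩZ' hW' hW le_rfl
  let c' : Γ((Scheme.Modules.pullback h').obj ΩX, W') →ₗ[Γ(Z', W')] Γ(ΩZ', W') :=
    { toFun := fun t => c.app W' t
      map_add' := fun x y => map_add _ x y
      map_smul' := fun r x => by
        rw [Scheme.Modules.Hom.app_smul]
        rfl }
  let c'' : Γ((Scheme.Modules.pullback i).obj ((Scheme.Modules.pullback h').obj ΩX), i ⁻¹ᵁ W')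
      →ₗ[Γ(Z, i ⁻¹ᵁ W')] Γ((Scheme.Modules.pullback i).obj ΩZ', i ⁻¹ᵁ W') :=
    { toFun := fun t => ((Scheme.Modules.pullback i).map c).app (i ⁻¹ᵁ W') t
      map_add' := fun x y => map_add _ x y
      map_smul' := fun r x => by
        rw [Scheme.Modules.Hom.app_smul]
        rfl }
  have hcc : ∀ a, c' (l₁ (dX.app U a)) = dZ'.app W' (algebraMap Γ(X, U) Γ(Z', W') a) := by
    intro a
    rw [hl₁]
    exact sq_c_unitRes (f₁ := q) (f₂ := h' ≫ q) h' dX dZ' c hc e' a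
  have hc'' : ∀ x, c'' (l₂ x) = l₃ (c' x) := by
    intro x
    rw [hl₂, hl₃]
    exact unitRes_naturality i c le_rfl x
  exact bijective_of_chart' Γ(S, T) Γ(X, U) Γ(Z', W') Γ(Z, i ⁻¹ᵁ W') hbij
    (sectionsKaehler q dX hdX hU hT eU) (fun a => dX.app U a)
    (fun a => sectionsKaehler_d q dX hdX hU hT eU a) l₁ hb₁
    (sectionsKaehler (h' ≫ q) dZ' hdZ' hW' hT eT) (fun b => dZ'.app W' b)
    (fun b => sectionsKaehler_d (h' ≫ q) dZ' hdZ' hW' hT eT b) c' hcc l₂ hb₂ l₃ hb₃ c'' hc''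

end Chart

theorem exists_affine_le {X : Scheme.{u}} (x : X) (O : X.Opens) (hx : x ∈ O) :
    ∃ U : X.Opens, IsAffineOpen U ∧ x ∈ U ∧ U ≤ O := by
  obtain ⟨_, ⟨U, hU, rfl⟩, hxU, hUO⟩ :=
    X.isBasis_affineOpens.exists_subset_of_mem_open (show x ∈ (O : Set X) from hx) O.2
  exact ⟨U, hU, hxU, hUO⟩

theorem isIso_pullback_diffCompat {Z X S Z' : Scheme.{u}} (h : Z ⟶ X) (q : X ⟶ S)
    (i : Z ⟶ Z') (h' : Z' ⟶ X) (hu : OmegaSh.IsUnivThickening h i h')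
    (ΩX : X.Modules) (dX : OmegaSh.Der q ΩX) (hdX : OmegaSh.IsUniversal dX)
    (ΩZ' : Z'.Modules) (dZ' : OmegaSh.Der (h' ≫ q) ΩZ') (hdZ' : OmegaSh.IsUniversal dZ')
    (c : (Scheme.Modules.pullback h').obj ΩX ⟶ ΩZ') (hc : OmegaSh.IsDiffCompat h' dX dZ' c) :
    IsIso ((Scheme.Modules.pullback i).map c) := by
  haveI := isQuasicoherent_of_universal dX hdX
  haveI := isQuasicoherent_of_universal dZ' hdZ'
  haveI : ((Scheme.Modules.pullback h').obj ΩX).IsQuasicoherent :=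
    Groth.Agent.Lead.PB.isQuasicoherent_pullback _ _
  haveI : ((Scheme.Modules.pullback i).obj ((Scheme.Modules.pullback h').obj ΩX)).IsQuasicoherent :=
    Groth.Agent.Lead.PB.isQuasicoherent_pullback _ _
  haveI : ((Scheme.Modules.pullback i).obj ΩZ').IsQuasicoherent :=
    Groth.Agent.Lead.PB.isQuasicoherent_pullback _ _
  apply Groth.Agent.Lead.QcIso.isIso_of_bijective_affine
  intro z
  obtain ⟨T, hT, hzT, -⟩ := exists_affine_le (q.base (h'.base (i.base z))) ⊤ trivial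
  obtain ⟨U, hU, hzU, hUT⟩ := exists_affine_le (h'.base (i.base z)) (q ⁻¹ᵁ T) hzT
  obtain ⟨W', hW', hzW', hW'U⟩ := exists_affine_le (i.base z) (h' ⁻¹ᵁ U) hzU
  haveI hcl : IsClosedImmersion i := hu.1.1.1
  exact ⟨i ⁻¹ᵁ W', hW'.preimage i, hzW',
    chart_bijective h q i h' hu dX hdX dZ' hdZ' c hc hT hU hW' hUT hW'U⟩

end Groth.Agent.Lead.UT
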