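import Mathlib
import Groth.Prelude.Def_Omega4
import Groth.Prelude.Def_MoreMor

set_option autoImplicit false
universe u
open CategoryTheory CategoryTheory.Limits AlgebraicGeometry TopologicalSpace Opposite

set_option backward.isDefEq.respectTransparency.types false

namespace Groth.Agent.Lead.UTG

open OmegaSh

section Glue

variable {T T' Z' X : Scheme.{u}} (j : T ⟶ T') (α : T ⟶ Z') (b : T' ⟶ X) (h' : Z' ⟶ X)
  (ℬ : Set T'.Opens) (hℬ : ∀ (x : T') (N : T'.Opens), x ∈ N → ∃ W ∈ ℬ, x ∈ W ∧ W ≤ N)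

/-- The open cover of `T'` by the members of a basis. -/
noncomputable def basisCover : T'.OpenCover where
  I₀ := {W : T'.Opens // W ∈ ℬ}
  X W := W.1
  f W := W.1.ι
  mem₀ := by
    rw [Scheme.presieve₀_mem_precoverage_iff]
    refine ⟨fun x => ?_, inferInstance⟩
    obtain ⟨W, hW, hxW, -⟩ := hℬ x ⊤ trivial
    exact ⟨⟨W, hW⟩, by simpa using hxW⟩

noncomputable instance basisCoverPreorder : Preorder (basisCover ℬ hℬ).I₀ :=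
  inferInstanceAs <| Preorder {W : T'.Opens // W ∈ ℬ}

noncomputable instance basisCoverLocallyDirected :
    Scheme.Cover.LocallyDirected (basisCover ℬ hℬ) :=
  .ofIsBasisOpensRange (by intros; simp [basisCover]; rfl) (by
    rw [TopologicalSpace.Opens.isBasis_iff_nbhd]
    intro N x hx
    obtain ⟨W, hW, hxW, hWN⟩ := hℬ x N hx
    exact ⟨W, ⟨⟨W, hW⟩, by simp [basisCover]⟩, hxW, hWN⟩)

include hℬ in
/-- unique local solutions of a lifting problem glue. -/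
theorem existsUnique_of_local
    (hloc : ∀ W ∈ ℬ, ∃! g : W.toScheme ⟶ Z',
      (j ∣_ W) ≫ g = (j ⁻¹ᵁ W).ι ≫ α ∧ g ≫ h' = W.ι ≫ b) :
    ∃! a' : T' ⟶ Z', j ≫ a' = α ∧ a' ≫ h' = b := by
  have hex : ∀ W : {W : T'.Opens // W ∈ ℬ}, ∃! g : W.1.toScheme ⟶ Z',
      (j ∣_ W.1) ≫ g = (j ⁻¹ᵁ W.1).ι ≫ α ∧ g ≫ h' = W.1.ι ≫ b := fun W => hloc W.1 W.2
  let g : ∀ W : {W : T'.Opens // W ∈ ℬ}, W.1.toScheme ⟶ Z' := fun W => (hex W).choose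
  have hg1 : ∀ W : {W : T'.Opens // W ∈ ℬ}, (j ∣_ W.1) ≫ g W = (j ⁻¹ᵁ W.1).ι ≫ α :=
    fun W => (hex W).choose_spec.1.1
  have hg2 : ∀ W : {W : T'.Opens // W ∈ ℬ}, g W ≫ h' = W.1.ι ≫ b :=
    fun W => (hex W).choose_spec.1.2
  have hgu : ∀ (W : {W : T'.Opens // W ∈ ℬ}) (k : W.1.toScheme ⟶ Z'),
      (j ∣_ W.1) ≫ k = (j ⁻¹ᵁ W.1).ι ≫ α → k ≫ h' = W.1.ι ≫ b → k = g W :=
    fun W k h1 h2 => (hex W).choose_spec.2 k ⟨h1, h2⟩
  have compat : ∀ (i₁ i₂ : {W : T'.Opens // W ∈ ℬ}) (hle : i₁.1 ≤ i₂.1),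
      T'.homOfLE hle ≫ g i₂ = g i₁ := by
    intro i₁ i₂ hle
    have hpre : j ⁻¹ᵁ i₁.1 ≤ j ⁻¹ᵁ i₂.1 := fun z hz => hle hz
    have e0 : (j ∣_ i₁.1) ≫ T'.homOfLE hle = T.homOfLE hpre ≫ (j ∣_ i₂.1) := by
      rw [← cancel_mono i₂.1.ι]
      simp only [Category.assoc, Scheme.homOfLE_ι, morphismRestrict_ι, Scheme.homOfLE_ι_assoc]
    apply hgu
    · rw [reassoc_of% e0, hg1, Scheme.homOfLE_ι_assoc]
    · rw [Category.assoc, hg2, Scheme.homOfLE_ι_assoc]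
  let l : T' ⟶ Z' := (basisCover ℬ hℬ).glueMorphismsOfLocallyDirected (fun W => g W)
    (fun {i₁ i₂} hij => compat i₁ i₂ (leOfHom hij))
  have hl : ∀ W : {W : T'.Opens // W ∈ ℬ}, W.1.ι ≫ l = g W := fun W =>
    (basisCover ℬ hℬ).map_glueMorphismsOfLocallyDirected (fun W => g W)
      (fun {i₁ i₂} hij => compat i₁ i₂ (leOfHom hij)) W
  have hl1 : j ≫ l = α := by
    apply Scheme.hom_ext_of_forall
    intro z
    obtain ⟨W, hW, hxW, -⟩ := hℬ (j z) ⊤ trivial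
    refine ⟨j ⁻¹ᵁ W, hxW, ?_⟩
    rw [← morphismRestrict_ι_assoc, hl ⟨W, hW⟩, hg1 ⟨W, hW⟩]
  have hl2 : l ≫ h' = b := by
    apply Scheme.hom_ext_of_forall
    intro x
    obtain ⟨W, hW, hxW, -⟩ := hℬ x ⊤ trivial
    refine ⟨W, hxW, ?_⟩
    rw [reassoc_of% hl ⟨W, hW⟩, hg2 ⟨W, hW⟩]
  refine ⟨l, ⟨hl1, hl2⟩, ?_⟩
  rintro m ⟨hm1, hm2⟩
  apply Scheme.hom_ext_of_forall
  intro x
  obtain ⟨W, hW, hxW, -⟩ := hℬ x ⊤ trivial
  refine ⟨W, hxW, ?_⟩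
  rw [hl ⟨W, hW⟩]
  apply hgu ⟨W, hW⟩
  · rw [morphismRestrict_ι_assoc, hm1]
  · rw [Category.assoc, hm2]

end Glue

end Groth.Agent.Lead.UTG
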