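import Mathlib
import Groth.Prelude.Def_Omega4
import Groth.Prelude.Def_MoreMor
import Groth.Agent.Lib.Lead.UTG1
import Groth.Agent.Lib.Lead.UT7
import Groth.Agent.Lib.Helper7.Deriv.UnivThick
import Groth.Agent.Lib.Helper2.Formal.EtaleHom

set_option autoImplicit false
universe u
open CategoryTheory CategoryTheory.Limits AlgebraicGeometry TopologicalSpace Opposite

set_option backward.isDefEq.respectTransparency.types false

namespace Groth.Agent.Lead.UTG

open OmegaSh Groth.Agent.Helper2.FormalLib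

/-- the universal property of `(i, h')` over `h` against one test thickening `j`. -/
def UP {Z Z' X T T' : Scheme.{u}} (h : Z ⟶ X) (i : Z ⟶ Z') (h' : Z' ⟶ X) (j : T ⟶ T') : Prop :=
  ∀ (b : T' ⟶ X) (a : T ⟶ Z), j ≫ b = a ≫ h →
    ∃! a' : T' ⟶ Z', j ≫ a' = a ≫ i ∧ a' ≫ h' = b

section Transport

variable {Z Z' X T T' T₁ T₁' : Scheme.{u}} {h : Z ⟶ X} {i : Z ⟶ Z'} {h' : Z' ⟶ X} {j : T ⟶ T'}

theorem UP.of_iso_left (hUP : UP h i h' j) (e : T₁ ≅ T) (e' : T' ≅ T₁') :
    UP h i h' (e.hom ≫ j ≫ e'.hom) := by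
  intro b₁ a₁ w
  have w' : j ≫ (e'.hom ≫ b₁) = (e.inv ≫ a₁) ≫ h := by
    rw [Category.assoc, ← w]
    simp
  obtain ⟨a₀, ⟨h1, h2⟩, hu⟩ := hUP (e'.hom ≫ b₁) (e.inv ≫ a₁) w'
  refine ⟨e'.inv ≫ a₀, ⟨?_, ?_⟩, ?_⟩
  · simp only [Category.assoc, Iso.hom_inv_id_assoc]
    rw [h1]
    simp
  · rw [Category.assoc, h2]
    simp
  · rintro m ⟨hm1, hm2⟩
    have := hu (e'.hom ≫ m) ⟨?_, ?_⟩
    · rw [← this]
      simp
    · have h3 : e.hom ≫ j ≫ e'.hom ≫ m = a₁ ≫ i := by simpa using hm1
      rw [Category.assoc, ← h3]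
      simp
    · rw [Category.assoc, hm2]

end Transport

section SpecCase

variable (R S S' : Type u) [CommRing R] [CommRing S] [CommRing S'] [Algebra R S] [Algebra R S']
  (π : S' →ₐ[R] S) (hπ : IsUnivThickeningRing R S S' π)

include hπ in
theorem up_spec (A : Type u) [CommRing A] (I : Ideal A) (hI : I ^ 2 = ⊥) :
    UP (Spec.map (CommRingCat.ofHom (algebraMap R S))) (Spec.map (CommRingCat.ofHom π.toRingHom))
      (Spec.map (CommRingCat.ofHom (algebraMap R S')))
      (Spec.map (CommRingCat.ofHom (Ideal.Quotient.mk I))) := by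
  intro b a w
  obtain ⟨α, rfl⟩ := Spec.map_surjective a
  obtain ⟨β, rfl⟩ := Spec.map_surjective b
  have w' : β ≫ CommRingCat.ofHom (Ideal.Quotient.mk I) =
      CommRingCat.ofHom (algebraMap R S) ≫ α :=
    Spec.map_injective (by simpa [Spec.map_comp] using w)
  letI : Algebra R A := β.hom.toAlgebra
  let α' : S →ₐ[R] A ⧸ I :=
    { α.hom with
      commutes' := fun r => by
        have := congr($(w').hom r)
        exact this.symm }
  obtain ⟨l, hl, huniq⟩ := hπ.2.2 A I hI α'
  refine ⟨Spec.map (CommRingCat.ofHom l.toRingHom), ⟨?_, ?_⟩, ?_⟩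
  · rw [← Spec.map_comp, ← Spec.map_comp]
    congr 1
    ext x
    exact congr($hl x)
  · rw [← Spec.map_comp]
    congr 1
    ext r
    exact l.commutes r
  · rintro m ⟨hm1, hm2⟩
    obtain ⟨μ, rfl⟩ := Spec.map_surjective m
    have e1 : μ ≫ CommRingCat.ofHom (Ideal.Quotient.mk I) =
        CommRingCat.ofHom π.toRingHom ≫ α :=
      Spec.map_injective (by simpa [Spec.map_comp] using hm1)
    have e2 : CommRingCat.ofHom (algebraMap R S') ≫ μ = β :=
      Spec.map_injective (by simpa [Spec.map_comp] using hm2)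
    let μ' : S' →ₐ[R] A :=
      { μ.hom with
        commutes' := fun r => by
          have := congr($(e2).hom r)
          exact this }
    have : μ' = l := huniq μ' (by
      ext x
      exact congr($(e1).hom x))
    congr 1
    ext x
    exact congr($this x)

include hπ in
theorem up_of_isAffine {T T' : Scheme.{u}} [IsAffine T] [IsAffine T'] (t : T ⟶ T')
    (surj : Function.Surjective t.appTop.hom)
    (sq : ∀ x y, t.appTop.hom x = 0 → t.appTop.hom y = 0 → x * y = 0) :
    UP (Spec.map (CommRingCat.ofHom (algebraMap R S))) (Spec.map (CommRingCat.ofHom π.toRingHom))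
      (Spec.map (CommRingCat.ofHom (algebraMap R S'))) t := by
  obtain ⟨e, he⟩ := exists_iso_spec_quot t surj
  have hI : RingHom.ker t.appTop.hom ^ 2 = ⊥ := by
    rw [pow_two, ← le_bot_iff, Ideal.mul_le]
    intro x hx y hy
    exact sq x y hx hy
  have h0 := up_spec R S S' π hπ _ _ hI
  rw [he]
  exact h0.of_iso_left e T'.isoSpec.symm

end SpecCase


section SpecThick

set_option backward.isDefEq.respectTransparency false in
/-- `Spec S → Spec S'` is a first order thickening for a surjection with square zero kernel. -/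
theorem isFirstOrderThickening_SpecMap {S S' : CommRingCat.{u}} (π : S' ⟶ S)
    (hsurj : Function.Surjective π.hom) (hL : RingHom.ker π.hom ^ 2 = ⊥) :
    MoreMor.IsFirstOrderThickening (Spec.map π) := by
  haveI hcl : IsClosedImmersion (Spec.map π) := IsClosedImmersion.spec_of_surjective _ hsurj
  have hker : (Spec.map π).ker * (Spec.map π).ker = ⊥ := by
    apply Scheme.IdealSheafData.ext_of_isAffine
    simp only [Scheme.IdealSheafData.ideal_mul, Scheme.IdealSheafData.ideal_bot, Pi.bot_apply,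
      Pi.mul_apply]
    rw [eq_bot_iff, Ideal.mul_le]
    intro x hx y hy
    rw [Scheme.Hom.ker_apply, RingHom.mem_ker] at hx hy
    have nat := Scheme.ΓSpecIso_naturality π
    have hx' : (Scheme.ΓSpecIso S').hom.hom x ∈ RingHom.ker π.hom := by
      have := congrArg (fun φ => φ.hom x) nat
      simp only [CommRingCat.hom_comp, RingHom.comp_apply] at this
      rw [RingHom.mem_ker, ← this]
      have hx0 : (Spec.map π).appTop.hom x = 0 := hx
      rw [hx0, map_zero]
    have hy' : (Scheme.ΓSpecIso S').hom.hom y ∈ RingHom.ker π.hom := by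
      have := congrArg (fun φ => φ.hom y) nat
      simp only [CommRingCat.hom_comp, RingHom.comp_apply] at this
      rw [RingHom.mem_ker, ← this]
      have hy0 : (Spec.map π).appTop.hom y = 0 := hy
      rw [hy0, map_zero]
    have hxy : (Scheme.ΓSpecIso S').hom.hom (x * y) ∈ RingHom.ker π.hom ^ 2 := by
      rw [map_mul, pow_two]
      exact Ideal.mul_mem_mul hx' hy'
    rw [hL, Ideal.mem_bot] at hxy
    rw [Ideal.mem_bot]
    have hinj : Function.Injective (Scheme.ΓSpecIso S').hom.hom :=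
      (ConcreteCategory.bijective_of_isIso (Scheme.ΓSpecIso S').hom).1
    exact hinj (by rw [hxy, map_zero])
  refine ⟨⟨hcl, ?_⟩, hker⟩
  haveI : IsDominant (Spec.map π) := by
    rw [isDominant_iff, denseRange_iff_closure_range, ← Scheme.Hom.support_ker,
      ← Scheme.IdealSheafData.support_pow _ 2 (by simp), pow_two, hker]
    simp
  constructor
  intro y
  have hr : Set.range (Spec.map π).base = Set.univ := by
    have h1 := (Spec.map π).isClosedEmbedding.isClosed_range
    have h2 := (Spec.map π).denseRange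
    rw [← h1.closure_eq]
    exact h2.closure_range
  have : y ∈ Set.range (Spec.map π).base := by
    rw [hr]; trivial
  exact this

end SpecThick

section SpecUniv

variable (R S S' : Type u) [CommRing R] [CommRing S] [CommRing S'] [Algebra R S] [Algebra R S']
  (π : S' →ₐ[R] S) (hπ : IsUnivThickeningRing R S S' π)

include hπ in
/-- the scheme level universal thickening of an affine scheme over an affine scheme. -/
theorem isUnivThickening_spec :
    IsUnivThickening (Spec.map (CommRingCat.ofHom (algebraMap R S)))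
      (Spec.map (CommRingCat.ofHom π.toRingHom))
      (Spec.map (CommRingCat.ofHom (algebraMap R S'))) := by
  refine ⟨isFirstOrderThickening_SpecMap (CommRingCat.ofHom π.toRingHom) hπ.1 hπ.2.1, ?_, ?_⟩
  · rw [← Spec.map_comp]
    congr 1
    ext r
    exact π.commutes r
  · intro T T' j b a hj w
    haveI : IsClosedImmersion j := hj.1.1
    have hloc : ∀ W ∈ {W : T'.Opens | IsAffineOpen W}, ∃! g : W.toScheme ⟶ Spec (.of S'),
        (j ∣_ W) ≫ g = (j ⁻¹ᵁ W).ι ≫ (a ≫ Spec.map (CommRingCat.ofHom π.toRingHom)) ∧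
          g ≫ Spec.map (CommRingCat.ofHom (algebraMap R S')) = W.ι ≫ b := by
      intro W hW
      haveI : IsAffine W.toScheme := hW
      haveI : IsAffine (j ⁻¹ᵁ W).toScheme := hW.preimage j
      obtain ⟨h1, h2⟩ := sqZero_restrict j hj.2 W hW
      have hup := up_of_isAffine R S S' π hπ (j ∣_ W) h1 h2
      have w' : (j ∣_ W) ≫ (W.ι ≫ b) = ((j ⁻¹ᵁ W).ι ≫ a) ≫
          Spec.map (CommRingCat.ofHom (algebraMap R S)) := by
        rw [← Category.assoc, morphismRestrict_ι, Category.assoc, w, Category.assoc]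
      obtain ⟨g, ⟨hg1, hg2⟩, hgu⟩ := hup (W.ι ≫ b) ((j ⁻¹ᵁ W).ι ≫ a) w'
      refine ⟨g, ⟨by rw [hg1, Category.assoc], hg2⟩, ?_⟩
      rintro m ⟨hm1, hm2⟩
      exact hgu m ⟨by rw [hm1, Category.assoc], hm2⟩
    exact existsUnique_of_local j (a ≫ Spec.map (CommRingCat.ofHom π.toRingHom)) b
      (Spec.map (CommRingCat.ofHom (algebraMap R S'))) {W : T'.Opens | IsAffineOpen W}
      (fun x N hx => by
        obtain ⟨_, ⟨W, hW, rfl⟩, hxW, hWN⟩ :=
          T'.isBasis_affineOpens.exists_subset_of_mem_open hx N.2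
        exact ⟨W, hW, hxW, hWN⟩) hloc

end SpecUniv

section OpenTarget

/-- a universal thickening over an open subscheme is a universal thickening over the whole. -/
theorem isUnivThickening_comp_openImmersion {Z Z' U₀ X : Scheme.{u}} (h₀ : Z ⟶ U₀) (i : Z ⟶ Z')
    (h₀' : Z' ⟶ U₀) (hu : IsUnivThickening h₀ i h₀') (ι : U₀ ⟶ X) [IsOpenImmersion ι] :
    IsUnivThickening (h₀ ≫ ι) i (h₀' ≫ ι) := by
  obtain ⟨hfo, hc, huniv⟩ := hu
  refine ⟨hfo, by rw [← Category.assoc, hc], ?_⟩
  intro T T' j b a hj w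
  haveI : IsClosedImmersion j := hj.1.1
  have hr : Set.range b.base ⊆ Set.range ι.base := by
    rintro _ ⟨x, rfl⟩
    obtain ⟨y, rfl⟩ := hj.1.2.surj x
    have h1 := congrArg (fun χ => χ.base y) w
    change b.base (j.base y) = ι.base (h₀.base (a.base y)) at h1
    rw [h1]
    exact ⟨_, rfl⟩
  have w₀ : j ≫ IsOpenImmersion.lift ι b hr = a ≫ h₀ := by
    rw [← cancel_mono ι, Category.assoc, IsOpenImmersion.lift_fac, w, Category.assoc]
  obtain ⟨a', ⟨ha1, ha2⟩, hau⟩ := huniv T T' j (IsOpenImmersion.lift ι b hr) a hj w₀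
  refine ⟨a', ⟨ha1, by rw [← Category.assoc, ha2, IsOpenImmersion.lift_fac]⟩, ?_⟩
  rintro m ⟨hm1, hm2⟩
  apply hau
  refine ⟨hm1, ?_⟩
  rw [← cancel_mono ι, Category.assoc, hm2, IsOpenImmersion.lift_fac]

end OpenTarget

section AffineOpen

variable {Z X : Scheme.{u}} (h : Z ⟶ X)

/-- existence of the universal thickening of an affine open of the source lying over an affine
open of the target. -/
theorem exists_univThickening_of_affine {V : Z.Opens} (hV : IsAffineOpen V) {U : X.Opens}
    (hU : IsAffineOpen U) (hVU : V ≤ h ⁻¹ᵁ U) (hfu : (h.appLE U V hVU).hom.FormallyUnramified) :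
    ∃ (V' : Scheme.{u}) (iV : (V : Scheme.{u}) ⟶ V') (hV' : V' ⟶ X),
      IsUnivThickening (V.ι ≫ h) iV hV' := by
  letI : Algebra Γ(X, U) Γ(Z, V) := (h.appLE U V hVU).hom.toAlgebra
  haveI : Algebra.FormallyUnramified Γ(X, U) Γ(Z, V) := hfu
  have hπ := Groth.Agent.Helper7.Deriv.isUnivThickeningRing_thick Γ(X, U) Γ(Z, V)
  have h0 := isUnivThickening_spec _ _ _ _ hπ
  have h1 := Groth.Agent.Lead.UT7.isUnivThickening_of_iso_source _ _ _ h0 hV.isoSpec
  have h2 := isUnivThickening_comp_openImmersion _ _ _ h1 hU.fromSpec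
  have e : (hV.isoSpec.hom ≫ Spec.map (CommRingCat.ofHom (algebraMap Γ(X, U) Γ(Z, V)))) ≫
      hU.fromSpec = V.ι ≫ h := by
    have : CommRingCat.ofHom (algebraMap Γ(X, U) Γ(Z, V)) = h.appLE U V hVU := rfl
    rw [this, Category.assoc, IsAffineOpen.SpecMap_appLE_fromSpec h hU hV hVU, ← Category.assoc,
      hV.isoSpec_hom_fromSpec]
  rw [e] at h2
  exact ⟨_, _, _, h2⟩

end AffineOpen

end Groth.Agent.Lead.UTG
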