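import Mathlib
import Groth.Prelude.Def_Omega4
import Groth.Prelude.Def_MoreMor
import Groth.Agent.Lib.Lead.UTG2
import Groth.Agent.Lib.Lead.UT9
import Groth.Agent.Lib.Lead.UT4
import Groth.Agent.Lib.Helper7.UnivThick

set_option autoImplicit false
universe u
open CategoryTheory CategoryTheory.Limits AlgebraicGeometry TopologicalSpace Opposite

set_option backward.isDefEq.respectTransparency.types false

namespace Groth.Agent.Lead.UTG

open OmegaSh Groth.Agent.Helper2.FormalLib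

section LocalZ

variable {Z Z' X : Scheme.{u}} (h : Z ⟶ X) (i : Z ⟶ Z') (h' : Z' ⟶ X)

theorem isFirstOrderThickening_morphismRestrict {T T' : Scheme.{u}} (j : T ⟶ T')
    (hj : MoreMor.IsFirstOrderThickening j) (W : T'.Opens) :
    MoreMor.IsFirstOrderThickening (j ∣_ W) :=
  Groth.Agent.Helper7.UnivThick.isFirstOrderThickening_left hj (isPullback_morphismRestrict j W)

/-- being a universal thickening is local on the thickening. -/
theorem isUnivThickening_of_local (hi : MoreMor.IsFirstOrderThickening i) (hc : i ≫ h' = h)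
    (hloc : ∀ z : Z, ∃ (V : Z.Opens) (V' : Scheme.{u}) (iV : (V : Scheme.{u}) ⟶ V')
      (ιV : V' ⟶ Z') (_ : IsOpenImmersion ιV),
      z ∈ V ∧ iV ≫ ιV = V.ι ≫ i ∧ IsUnivThickening (V.ι ≫ h) iV (ιV ≫ h')) :
    IsUnivThickening h i h' := by
  refine ⟨hi, hc, ?_⟩
  intro T T' j b a hj w
  haveI : IsClosedImmersion j := hj.1.1
  haveI : Surjective j := hj.1.2
  let ℬ : Set T'.Opens := {W | ∃ (V : Z.Opens) (V' : Scheme.{u}) (iV : (V : Scheme.{u}) ⟶ V')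
      (ιV : V' ⟶ Z') (_ : IsOpenImmersion ιV),
      iV ≫ ιV = V.ι ≫ i ∧ IsUnivThickening (V.ι ≫ h) iV (ιV ≫ h') ∧ j ⁻¹ᵁ W ≤ a ⁻¹ᵁ V}
  have hℬ : ∀ (x : T') (N : T'.Opens), x ∈ N → ∃ W ∈ ℬ, x ∈ W ∧ W ≤ N := by
    intro x N hxN
    obtain ⟨y, rfl⟩ := j.surjective x
    obtain ⟨V, V', iV, ιV, hιV, hzV, hsq, hu⟩ := hloc (a y)
    have hopen : IsOpenMap j :=
      (j.isClosedEmbedding.isEmbedding.toHomeomorphOfSurjective j.surjective).isOpenMap
    let O : T'.Opens := ⟨j '' (a ⁻¹ᵁ V : Set T), hopen _ (a ⁻¹ᵁ V).2⟩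
    have hxO : j y ∈ O := ⟨y, hzV, rfl⟩
    refine ⟨N ⊓ O, ⟨V, V', iV, ιV, hιV, hsq, hu, ?_⟩, ⟨hxN, hxO⟩, inf_le_left⟩
    intro z' hz'
    obtain ⟨z'', hz'', e⟩ := hz'.2
    rw [← j.isClosedEmbedding.injective e]
    exact hz''
  have hloc' : ∀ W ∈ ℬ, ∃! g : W.toScheme ⟶ Z',
      (j ∣_ W) ≫ g = (j ⁻¹ᵁ W).ι ≫ (a ≫ i) ∧ g ≫ h' = W.ι ≫ b := by
    rintro W ⟨V, V', iV, ιV, hιV, hsq, hu, hWV⟩
    haveI := hιV
    have hjW := isFirstOrderThickening_morphismRestrict j hj W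
    have hra : Set.range ((j ⁻¹ᵁ W).ι ≫ a).base ⊆ Set.range V.ι.base := by
      rintro _ ⟨z, rfl⟩
      rw [Scheme.Opens.range_ι]
      exact hWV z.2
    have w' : (j ∣_ W) ≫ (W.ι ≫ b) = IsOpenImmersion.lift V.ι ((j ⁻¹ᵁ W).ι ≫ a) hra ≫
        (V.ι ≫ h) := by
      rw [← Category.assoc, morphismRestrict_ι, Category.assoc, w,
        IsOpenImmersion.lift_fac_assoc, Category.assoc]
    obtain ⟨g', ⟨hg1, hg2⟩, hgu⟩ := hu.2.2 _ _ (j ∣_ W) (W.ι ≫ b)
      (IsOpenImmersion.lift V.ι ((j ⁻¹ᵁ W).ι ≫ a) hra) hjW w'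
    refine ⟨g' ≫ ιV, ⟨?_, ?_⟩, ?_⟩
    · rw [← Category.assoc, hg1, Category.assoc, hsq, IsOpenImmersion.lift_fac_assoc,
        Category.assoc]
    · rw [Category.assoc, hg2]
    · rintro m ⟨hm1, hm2⟩
      have hrm : Set.range m.base ⊆ Set.range ιV.base := by
        rintro _ ⟨x, rfl⟩
        haveI : Surjective (j ∣_ W) := hjW.1.2
        obtain ⟨y, rfl⟩ := (j ∣_ W).surjective x
        have h1 := congrArg (fun χ => χ.base y) hm1
        change m.base ((j ∣_ W).base y) = i.base (a.base ((j ⁻¹ᵁ W).ι.base y)) at h1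
        rw [h1]
        have h2 := congrArg (fun χ => χ.base ⟨a.base ((j ⁻¹ᵁ W).ι.base y), hWV y.2⟩) hsq
        change ιV.base (iV.base _) = i.base (a.base ((j ⁻¹ᵁ W).ι.base y)) at h2
        rw [← h2]
        exact ⟨_, rfl⟩
      have e1 : (j ∣_ W) ≫ IsOpenImmersion.lift ιV m hrm =
          IsOpenImmersion.lift V.ι ((j ⁻¹ᵁ W).ι ≫ a) hra ≫ iV := by
        rw [← cancel_mono ιV, Category.assoc, IsOpenImmersion.lift_fac, hm1, Category.assoc, hsq,
          IsOpenImmersion.lift_fac_assoc, Category.assoc]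
      have e2 : IsOpenImmersion.lift ιV m hrm ≫ ιV ≫ h' = W.ι ≫ b := by
        rw [← Category.assoc, IsOpenImmersion.lift_fac, hm2]
      have := hgu _ ⟨e1, e2⟩
      rw [← this, IsOpenImmersion.lift_fac]
  exact existsUnique_of_local j (a ≫ i) b h' ℬ hℬ hloc'

end LocalZ

end Groth.Agent.Lead.UTG
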