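import Mathlib
import Groth.Prelude.Def_Omega4
import Groth.Prelude.Def_MoreMor
import Groth.Agent.Lib.Lead.UTG3
import Groth.Agent.Lib.Lead.UT9
import Groth.Agent.Lib.Lead.UT4

set_option autoImplicit false
universe u
open CategoryTheory CategoryTheory.Limits AlgebraicGeometry TopologicalSpace Opposite

set_option backward.isDefEq.respectTransparency.types false

namespace Groth.Agent.Lead.UTG

open OmegaSh Groth.Agent.Helper2.FormalLib

section Functor

variable {Z X : Scheme.{u}} (h : Z ⟶ X)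

/-- the affine opens of `Z` lying over an affine open of `X`. -/
def idxSet : Set Z.Opens := {V | IsAffineOpen V ∧ ∃ U : X.Opens, IsAffineOpen U ∧ V ≤ h ⁻¹ᵁ U}

theorem idxSet_basis (z : Z) (N : Z.Opens) (hz : z ∈ N) : ∃ V ∈ idxSet h, z ∈ V ∧ V ≤ N := by
  obtain ⟨_, ⟨U, hU, rfl⟩, hzU, -⟩ := X.isBasis_affineOpens.exists_subset_of_mem_open
    (Set.mem_univ (h z)) isOpen_univ
  obtain ⟨_, ⟨V, hV, rfl⟩, hzV, hVN⟩ := Z.isBasis_affineOpens.exists_subset_of_mem_open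
    (show z ∈ N ⊓ h ⁻¹ᵁ U from ⟨hz, hzU⟩) (N ⊓ h ⁻¹ᵁ U).2
  exact ⟨V, ⟨hV, U, hU, fun _ hx => (hVN hx).2⟩, hzV, fun _ hx => (hVN hx).1⟩

/-- the index category. -/
abbrev Idx : Type u := {V : Z.Opens // V ∈ idxSet h}

variable [FormallyUnramified h]

theorem exists_thick (V : Idx h) : ∃ (V' : Scheme.{u}) (iV : (V.1 : Scheme.{u}) ⟶ V')
    (hV' : V' ⟶ X), IsUnivThickening (V.1.ι ≫ h) iV hV' := by
  obtain ⟨hV, U, hU, hVU⟩ := V.2
  exact exists_univThickening_of_affine h hV hU hVU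
    (locFUnr_of_formallyUnramified h V.1 U hV hU hVU)

/-- the chosen universal thickening of a member of the index. -/
noncomputable def thick (V : Idx h) : Scheme.{u} := (exists_thick h V).choose

/-- its closed immersion. -/
noncomputable def thI (V : Idx h) : (V.1 : Scheme.{u}) ⟶ thick h V :=
  (exists_thick h V).choose_spec.choose

/-- its structure morphism. -/
noncomputable def thH (V : Idx h) : thick h V ⟶ X :=
  (exists_thick h V).choose_spec.choose_spec.choose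

theorem th_spec (V : Idx h) : IsUnivThickening (V.1.ι ≫ h) (thI h V) (thH h V) :=
  (exists_thick h V).choose_spec.choose_spec.choose_spec

theorem thMap_exists {V₁ V₂ : Idx h} (hle : V₁.1 ≤ V₂.1) :
    ∃! f : thick h V₁ ⟶ thick h V₂,
      thI h V₁ ≫ f = Z.homOfLE hle ≫ thI h V₂ ∧ f ≫ thH h V₂ = thH h V₁ := by
  have w : thI h V₁ ≫ thH h V₁ = Z.homOfLE hle ≫ (V₂.1.ι ≫ h) := by
    rw [(th_spec h V₁).2.1, Scheme.homOfLE_ι_assoc]
  exact (th_spec h V₂).2.2 _ _ (thI h V₁) (thH h V₁) (Z.homOfLE hle) (th_spec h V₁).1 w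

/-- the transition maps. -/
noncomputable def thMap {V₁ V₂ : Idx h} (hle : V₁.1 ≤ V₂.1) : thick h V₁ ⟶ thick h V₂ :=
  (thMap_exists h hle).choose

theorem thMap_spec₁ {V₁ V₂ : Idx h} (hle : V₁.1 ≤ V₂.1) :
    thI h V₁ ≫ thMap h hle = Z.homOfLE hle ≫ thI h V₂ :=
  (thMap_exists h hle).choose_spec.1.1

theorem thMap_spec₂ {V₁ V₂ : Idx h} (hle : V₁.1 ≤ V₂.1) :
    thMap h hle ≫ thH h V₂ = thH h V₁ :=
  (thMap_exists h hle).choose_spec.1.2

theorem thMap_unique {V₁ V₂ : Idx h} (hle : V₁.1 ≤ V₂.1) (f : thick h V₁ ⟶ thick h V₂)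
    (h1 : thI h V₁ ≫ f = Z.homOfLE hle ≫ thI h V₂) (h2 : f ≫ thH h V₂ = thH h V₁) :
    f = thMap h hle :=
  (thMap_exists h hle).choose_spec.2 f ⟨h1, h2⟩

/-- the diagram of local universal thickenings. -/
noncomputable def F : Idx h ⥤ Scheme.{u} where
  obj := thick h
  map f := thMap h (leOfHom f)
  map_id V := by
    symm
    apply thMap_unique
    · rw [Category.comp_id]
      have : Z.homOfLE (le_refl V.1) = 𝟙 _ := Scheme.homOfLE_rfl _ _
      rw [this, Category.id_comp]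
    · rw [Category.id_comp]
  map_comp {V₁ V₂ V₃} f g := by
    symm
    apply thMap_unique
    · rw [← Category.assoc, thMap_spec₁, Category.assoc, thMap_spec₁, ← Category.assoc,
        Scheme.homOfLE_homOfLE]
    · rw [Category.assoc, thMap_spec₂, thMap_spec₂]

end Functor


section OpenImm

variable {Z X : Scheme.{u}} (h : Z ⟶ X) [FormallyUnramified h]

theorem isOpenImmersion_thMap {V₁ V₂ : Idx h} (hle : V₁.1 ≤ V₂.1) :
    IsOpenImmersion (thMap h hle) := by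
  obtain ⟨O', hO'⟩ := Groth.Agent.Lead.UT9.exists_open_preimage_eq (thI h V₂) (th_spec h V₂).1.1
    (V₂.1.ι ⁻¹ᵁ V₁.1)
  have hres := Groth.Agent.Lead.UT9.isUnivThickening_resLE (V₂.1.ι ≫ h) (thI h V₂) (thH h V₂)
    (th_spec h V₂) (V₂.1.ι ⁻¹ᵁ V₁.1) O' hO'
  have hrange : Set.range V₁.1.ι.base = Set.range ((V₂.1.ι ⁻¹ᵁ V₁.1).ι ≫ V₂.1.ι).base := by
    rw [Scheme.Hom.comp_base, TopCat.coe_comp, Set.range_comp, Scheme.Opens.range_ι,
      Scheme.Opens.range_ι]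
    change (V₁.1 : Set Z) = V₂.1.ι.base '' (V₂.1.ι.base ⁻¹' (V₁.1 : Set Z))
    rw [Set.image_preimage_eq_inter_range, Scheme.Opens.range_ι]
    exact (Set.inter_eq_left.mpr hle).symm
  have he : (IsOpenImmersion.isoOfRangeEq V₁.1.ι ((V₂.1.ι ⁻¹ᵁ V₁.1).ι ≫ V₂.1.ι) hrange).hom ≫
      (V₂.1.ι ⁻¹ᵁ V₁.1).ι ≫ V₂.1.ι = V₁.1.ι := IsOpenImmersion.isoOfRangeEq_hom_fac _ _ _
  generalize IsOpenImmersion.isoOfRangeEq V₁.1.ι ((V₂.1.ι ⁻¹ᵁ V₁.1).ι ≫ V₂.1.ι) hrange = e at he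
  have h1 := Groth.Agent.Lead.UT7.isUnivThickening_of_iso_source _ _ _ hres e
  have e2 : e.hom ≫ (V₂.1.ι ⁻¹ᵁ V₁.1).ι ≫ V₂.1.ι ≫ h = V₁.1.ι ≫ h := by
    rw [← he, Category.assoc, Category.assoc]
  rw [e2] at h1
  obtain ⟨θ, hθ1, hθ2⟩ := Groth.Agent.Lead.UT.univThickening_unique (V₁.1.ι ≫ h) (thI h V₁)
    (thH h V₁) _ _ (th_spec h V₁) h1
  have key : thMap h hle = θ.hom ≫ O'.ι := by
    symm
    apply thMap_unique
    · rw [← Category.assoc, hθ1, Category.assoc, Scheme.Hom.resLE_comp_ι, ← Category.assoc]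
      congr 1
      rw [← cancel_mono V₂.1.ι, Category.assoc, he, Scheme.homOfLE_ι]
    · rw [Category.assoc, hθ2]
  rw [key]
  infer_instance

instance {V₁ V₂ : Idx h} (f : V₁ ⟶ V₂) : IsOpenImmersion ((F h).map f) :=
  isOpenImmersion_thMap h (leOfHom f)

theorem thI_surjective (V : Idx h) : Function.Surjective (thI h V).base :=
  (th_spec h V).1.1.2.surj

theorem thI_injective (V : Idx h) : Function.Injective (thI h V).base := by
  haveI : IsClosedImmersion (thI h V) := (th_spec h V).1.1.1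
  exact (thI h V).isClosedEmbedding.injective

theorem thMap_thI {V₁ V₂ : Idx h} (hle : V₁.1 ≤ V₂.1) (z : V₁.1) :
    (thMap h hle).base ((thI h V₁).base z) = (thI h V₂).base ((Z.homOfLE hle).base z) :=
  congrArg (fun χ => χ.base z) (thMap_spec₁ h hle)

instance : (F h ⋙ Scheme.forget).IsLocallyDirected := by
  constructor
  intro Vi Vj Vk fi fj xi xj hx
  obtain ⟨zi, rfl⟩ := thI_surjective h Vi xi
  obtain ⟨zj, rfl⟩ := thI_surjective h Vj xj
  have hx' : (thMap h (leOfHom fi)).base ((thI h Vi).base zi) =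
      (thMap h (leOfHom fj)).base ((thI h Vj).base zj) := hx
  rw [thMap_thI, thMap_thI] at hx'
  have h1 := thI_injective h Vk hx'
  have h2 : zi.1 = zj.1 := by
    have := congrArg Subtype.val h1
    rwa [Scheme.homOfLE_apply, Scheme.homOfLE_apply] at this
  obtain ⟨Vl, hVl, hzl, hle⟩ := idxSet_basis h zi.1 (Vi.1 ⊓ Vj.1)
    ⟨zi.2, by rw [h2]; exact zj.2⟩
  refine ⟨⟨Vl, hVl⟩, homOfLE (hle.trans inf_le_left), homOfLE (hle.trans inf_le_right),
    (thI h ⟨Vl, hVl⟩).base ⟨zi.1, hzl⟩, ?_, ?_⟩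
  · change (thMap h _).base ((thI h ⟨Vl, hVl⟩).base ⟨zi.1, hzl⟩) = _
    rw [thMap_thI]
    congr 1
    exact Subtype.ext (Scheme.homOfLE_apply _ _)
  · change (thMap h _).base ((thI h ⟨Vl, hVl⟩).base ⟨zi.1, hzl⟩) = _
    rw [thMap_thI]
    congr 1
    exact Subtype.ext ((Scheme.homOfLE_apply _ _).trans h2)

end OpenImm

end Groth.Agent.Lead.UTG
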