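import Mathlib
import Groth.Prelude.Def_Omega4
import Groth.Prelude.Def_MoreMor
import Groth.Agent.Lib.Lead.UTG4
import Groth.Agent.Lib.Helper7.UnivThick3

set_option autoImplicit false
universe u
open CategoryTheory CategoryTheory.Limits AlgebraicGeometry TopologicalSpace Opposite

set_option backward.isDefEq.respectTransparency.types false

namespace Groth.Agent.Lead.UTG

open OmegaSh Groth.Agent.Helper2.FormalLib

section Glued

variable {Z X : Scheme.{u}} (h : Z ⟶ X) [FormallyUnramified h]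

/-- the glued universal thickening. -/
noncomputable def glued : Scheme.{u} := colimit (F h)

/-- the inclusions of the local pieces. -/
noncomputable def gι (V : Idx h) : thick h V ⟶ glued h := colimit.ι (F h) V

instance (V : Idx h) : IsOpenImmersion (gι h V) :=
  inferInstanceAs (IsOpenImmersion (colimit.ι (F h) V))

theorem gι_w {V₁ V₂ : Idx h} (hle : V₁.1 ≤ V₂.1) : thMap h hle ≫ gι h V₂ = gι h V₁ :=
  colimit.w (F h) (homOfLE hle)

/-- the structure morphism of the glued thickening. -/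
noncomputable def gH : glued h ⟶ X :=
  colimit.desc (F h) ⟨X, { app := fun V => thH h V
                           naturality := fun V₁ V₂ f => by
                             change thMap h (leOfHom f) ≫ thH h V₂ = thH h V₁ ≫ 𝟙 X
                             rw [thMap_spec₂, Category.comp_id] }⟩

theorem gι_gH (V : Idx h) : gι h V ≫ gH h = thH h V :=
  colimit.ι_desc _ _

theorem gI_compat (V₁ V₂ : Idx h) (hle : V₁.1 ≤ V₂.1) :
    Z.homOfLE hle ≫ (thI h V₂ ≫ gι h V₂) = thI h V₁ ≫ gι h V₁ := by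
  rw [← Category.assoc, ← thMap_spec₁, Category.assoc, gι_w]

/-- the closed immersion into the glued thickening. -/
noncomputable def gI : Z ⟶ glued h :=
  (basisCover (idxSet h) (idxSet_basis h)).glueMorphismsOfLocallyDirected
    (fun V => thI h V ≫ gι h V) (fun {V₁ V₂} hij => gI_compat h V₁ V₂ (leOfHom hij))

theorem ι_gI (V : Idx h) : V.1.ι ≫ gI h = thI h V ≫ gι h V :=
  (basisCover (idxSet h) (idxSet_basis h)).map_glueMorphismsOfLocallyDirected
    (fun V => thI h V ≫ gι h V) (fun {V₁ V₂} hij => gI_compat h V₁ V₂ (leOfHom hij)) V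

theorem gI_gH : gI h ≫ gH h = h := by
  apply (basisCover (idxSet h) (idxSet_basis h)).hom_ext
  intro V
  change V.1.ι ≫ gI h ≫ gH h = V.1.ι ≫ h
  rw [← Category.assoc, ι_gI, Category.assoc, gι_gH, (th_spec h V).2.1]

end Glued


section Thick

variable {Z X : Scheme.{u}} (h : Z ⟶ X) [FormallyUnramified h]

theorem gI_apply_of_mem (V : Idx h) (z : Z) (hz : z ∈ V.1) :
    (gI h).base z = (gι h V).base ((thI h V).base ⟨z, hz⟩) :=
  congrArg (fun χ => χ.base ⟨z, hz⟩) (ι_gI h V)

theorem gI_mem_range_iff (V : Idx h) (z : Z) :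
    (gI h).base z ∈ Set.range (gι h V).base ↔ z ∈ V.1 := by
  constructor
  · rintro ⟨y, hy⟩
    obtain ⟨V₂, hV₂, hzV₂, -⟩ := idxSet_basis h z ⊤ trivial
    rw [gI_apply_of_mem h ⟨V₂, hV₂⟩ z hzV₂] at hy
    obtain ⟨k, fi, fj, x, hx1, hx2⟩ := (Scheme.IsLocallyDirected.ι_eq_ι_iff (F h)).mp hy
    obtain ⟨z₃, rfl⟩ := thI_surjective h k x
    have hx2' : (thMap h (leOfHom fj)).base ((thI h k).base z₃) =
        (thI h ⟨V₂, hV₂⟩).base ⟨z, hzV₂⟩ := hx2
    rw [thMap_thI] at hx2'
    have h1 := congrArg Subtype.val (thI_injective h _ hx2')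
    rw [Scheme.homOfLE_apply] at h1
    have h2 : z₃.1 ∈ V.1 := leOfHom fi z₃.2
    rw [h1] at h2
    exact h2
  · intro hz
    exact ⟨_, (gI_apply_of_mem h V z hz).symm⟩

theorem isPullback_gI (V : Idx h) : IsPullback (thI h V) V.1.ι (gι h V) (gI h) := by
  apply IsOpenImmersion.isPullback
  · exact ι_gI h V
  · ext z
    rw [Scheme.Opens.opensRange_ι]
    exact gI_mem_range_iff h V z

instance isClosedImmersion_gI : IsClosedImmersion (gI h) := by
  apply IsZariskiLocalAtTarget.of_openCover (P := @IsClosedImmersion)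
    (Scheme.IsLocallyDirected.openCover (F h))
  intro V
  have hpb := (isPullback_gI h V).flip
  have e : pullback.snd (gI h) (gι h V) = hpb.isoPullback.inv ≫ thI h V := by
    rw [Iso.eq_inv_comp]
    exact hpb.isoPullback_hom_snd
  change IsClosedImmersion (pullback.snd (gI h) (gι h V))
  rw [e]
  haveI : IsClosedImmersion (thI h V) := (th_spec h V).1.1.1
  infer_instance

theorem surjective_gI : Surjective (gI h) := by
  constructor
  intro p
  obtain ⟨V, x, rfl⟩ := Scheme.IsLocallyDirected.ι_jointly_surjective (F h) p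
  obtain ⟨z, rfl⟩ := thI_surjective h V x
  exact ⟨z.1, gI_apply_of_mem h V z.1 z.2⟩

end Thick


section KerSq

variable {Z X : Scheme.{u}} (h : Z ⟶ X) [FormallyUnramified h]

theorem app_comp_eq_zero (V : Idx h) (W : (glued h).Opens) (c : Γ(glued h, W))
    (hc : ((gI h).app W).hom c = 0) :
    ((thI h V).app (gι h V ⁻¹ᵁ W)).hom (((gι h V).app W).hom c) = 0 := by
  have e := Scheme.Hom.congr_app (ι_gI h V) W
  have e' := congrArg (fun φ => φ.hom c) e
  have l : ((V.1.ι ≫ gI h).app W).hom c = 0 := by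
    change (V.1.ι.app (gI h ⁻¹ᵁ W)).hom (((gI h).app W).hom c) = 0
    rw [hc, map_zero]
  have e'' : (0 : Γ((V.1 : Scheme.{u}), (V.1.ι ≫ gI h) ⁻¹ᵁ W)) = _ := l.symm.trans e'
  generalize_proofs pf at e''
  have hinj : Function.Injective ((V.1 : Scheme.{u}).presheaf.map (eqToHom pf).op).hom :=
    (ConcreteCategory.bijective_of_isIso _).1
  apply hinj
  exact e''.symm.trans (map_zero _).symm

end KerSq


section Final

variable {Z X : Scheme.{u}} (h : Z ⟶ X) [FormallyUnramified h]

theorem ker_gI_sq : (gI h).ker * (gI h).ker = ⊥ := by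
  refine Scheme.IdealSheafData.ext_of_iSup_eq_top
    (ι := Σ V : Idx h, (thick h V).affineOpens)
    (fun W => ⟨gι h W.1 ''ᵁ W.2.1, W.2.2.image_of_isOpenImmersion (gι h W.1)⟩) ?_ ?_
  · rw [eq_top_iff]
    intro p _
    obtain ⟨V, x, rfl⟩ := Scheme.IsLocallyDirected.ι_jointly_surjective (F h) p
    obtain ⟨_, ⟨W₀, hW₀, rfl⟩, hxW₀, -⟩ :=
      (thick h V).isBasis_affineOpens.exists_subset_of_mem_open (Set.mem_univ x) isOpen_univ
    exact TopologicalSpace.Opens.mem_iSup.mpr ⟨⟨V, ⟨W₀, hW₀⟩⟩, ⟨x, hxW₀, rfl⟩⟩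
  · rintro ⟨V, W₀, hW₀⟩
    simp only [Scheme.IdealSheafData.ideal_mul, Scheme.IdealSheafData.ideal_bot, Pi.bot_apply,
      Pi.mul_apply]
    rw [eq_bot_iff, Ideal.mul_le]
    intro x hx y hy
    rw [Scheme.Hom.ker_apply, RingHom.mem_ker] at hx hy
    haveI : IsClosedImmersion (thI h V) := (th_spec h V).1.1.1
    have hx' := app_comp_eq_zero h V _ x hx
    have hy' := app_comp_eq_zero h V _ y hy
    have hxy := Groth.Agent.Helper7.UnivThick.mul_eq_zero_of_app_eq_zero (thI h V)
      (th_spec h V).1.2 _ _ _ hx' hy'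
    rw [← map_mul] at hxy
    haveI : IsIso ((gι h V).app (gι h V ''ᵁ W₀)) :=
      (gι h V).isIso_app _ (Scheme.Hom.image_le_opensRange _ _)
    have hinj : Function.Injective ((gι h V).app (gι h V ''ᵁ W₀)).hom :=
      (ConcreteCategory.bijective_of_isIso _).1
    rw [Ideal.mem_bot]
    apply hinj
    rw [map_zero]
    exact hxy

theorem isFirstOrderThickening_gI : MoreMor.IsFirstOrderThickening (gI h) :=
  ⟨⟨isClosedImmersion_gI h, surjective_gI h⟩, ker_gI_sq h⟩

theorem isUnivThickening_glued : IsUnivThickening h (gI h) (gH h) := by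
  apply isUnivThickening_of_local h (gI h) (gH h) (isFirstOrderThickening_gI h) (gI_gH h)
  intro z
  obtain ⟨V, hV, hzV, -⟩ := idxSet_basis h z ⊤ trivial
  refine ⟨V, thick h ⟨V, hV⟩, thI h ⟨V, hV⟩, gι h ⟨V, hV⟩, inferInstance, hzV,
    (ι_gI h ⟨V, hV⟩).symm, ?_⟩
  rw [gι_gH]
  exact th_spec h ⟨V, hV⟩

/-- existence of the universal first order thickening of a formally unramified morphism. -/
theorem main9731 : ∃ (Z' : Scheme.{u}) (i : Z ⟶ Z') (h' : Z' ⟶ X), IsUnivThickening h i h' :=
  ⟨glued h, gI h, gH h, isUnivThickening_glued h⟩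

end Final

end Groth.Agent.Lead.UTG
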