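import Mathlib

/-!
# Prime-adic valuations on the fraction ring of a factorial domain (lead)
-/

set_option autoImplicit false
universe u v

namespace Groth.Agent.Lead.UfdVal

open UniqueFactorizationMonoid

section Basic
variable {R : Type u} [CommRing R] [IsDomain R] [UniqueFactorizationMonoid R]

/-- if every prime factor of `y` divides `f`, then `y` divides a power of `f` -/
theorem exists_dvd_pow (f : R) (y : R) (hy : y ≠ 0) (h : ∀ p, Prime p → p ∣ y → p ∣ f) :
    ∃ N : ℕ, y ∣ f ^ N := by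
  induction y using UniqueFactorizationMonoid.induction_on_prime with
  | h₁ => exact absurd rfl hy
  | h₂ x hx => exact ⟨0, hx.dvd⟩
  | h₃ a p ha hp ih =>
    obtain ⟨N, hN⟩ := ih ha (fun q hq hqa => h q hq (hqa.mul_left p))
    exact ⟨N + 1, by rw [pow_succ']; exact mul_dvd_mul (h p hp (dvd_mul_right p a)) hN⟩

/-- multiplicity as an integer -/
noncomputable def m (p a : R) : ℤ := (multiplicity p a : ℤ)

theorem m_mul {p : R} (hp : Prime p) {a b : R} (ha : a ≠ 0) (hb : b ≠ 0) :
    m p (a * b) = m p a + m p b := by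
  unfold m
  rw [multiplicity_mul hp (FiniteMultiplicity.of_not_isUnit hp.not_isUnit (mul_ne_zero ha hb))]
  push_cast
  rfl

theorem m_eq_zero {p a : R} (h : ¬ p ∣ a) : m p a = 0 := by
  unfold m
  rw [multiplicity_eq_zero.2 h]
  rfl

theorem m_pos {p a : R} (h : p ∣ a) : 0 < m p a := by
  unfold m
  exact_mod_cast dvd_iff_multiplicity_pos.2 h

theorem m_nonneg (p a : R) : 0 ≤ m p a := by
  unfold m
  positivity

theorem m_one {p : R} (hp : Prime p) : m p 1 = 0 :=
  m_eq_zero (fun h => hp.not_isUnit (isUnit_of_dvd_one h))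

theorem m_pow {p : R} (hp : Prime p) {a : R} (ha : a ≠ 0) (n : ℕ) : m p (a ^ n) = n * m p a := by
  induction n with
  | zero => rw [pow_zero, m_one hp]; simp
  | succ k ih =>
    rw [pow_succ, m_mul hp (pow_ne_zero _ ha) ha, ih]
    push_cast
    ring

theorem m_assoc {p q : R} (h : Associated p q) (a : R) : m p a = m q a := by
  unfold m
  rw [multiplicity_eq_of_associated_left h]

theorem m_self {p : R} (hp : Prime p) : m p p = 1 := by
  unfold m
  rw [multiplicity_self]
  rfl

theorem m_prime_of_not_associated {p q : R} (hp : Prime p) (hq : Prime q)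
    (h : ¬ Associated q p) : m q p = 0 := by
  apply m_eq_zero
  intro hd
  exact h (hq.associated_of_dvd hp hd)

end Basic


section Val
variable {R : Type u} [CommRing R] [IsDomain R] [UniqueFactorizationMonoid R]
variable {K : Type v} [CommRing K] [Algebra R K] [IsFractionRing R K]

/-- `x` is represented by the fraction `a / b` -/
def Rep (x : K) (a b : R) : Prop := b ≠ 0 ∧ x * algebraMap R K b = algebraMap R K a

theorem exists_rep (x : K) : ∃ a b : R, Rep x a b := by
  obtain ⟨⟨a, s⟩, h⟩ := IsLocalization.surj (nonZeroDivisors R) x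
  exact ⟨a, s.1, nonZeroDivisors.ne_zero s.2, h⟩

theorem algebraMap_injective : Function.Injective (algebraMap R K) := IsFractionRing.injective R K

theorem Rep.ne_zero {x : Kˣ} {a b : R} (h : Rep (x : K) a b) : a ≠ 0 := by
  rintro rfl
  have h2 := h.2
  rw [map_zero] at h2
  have h3 : algebraMap R K b = 0 := (Units.mul_right_eq_zero x).1 h2
  exact h.1 (algebraMap_injective (K := K) (by rw [h3, map_zero]))

theorem Rep.cross {x : K} {a b a' b' : R} (h : Rep x a b) (h' : Rep x a' b') :
    a * b' = a' * b := by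
  apply algebraMap_injective (K := K)
  rw [map_mul, map_mul, ← h.2, ← h'.2]
  ring

theorem Rep.mul {x y : K} {a b c d : R} (h : Rep x a b) (h' : Rep y c d) :
    Rep (x * y) (a * c) (b * d) := by
  refine ⟨mul_ne_zero h.1 h'.1, ?_⟩
  rw [map_mul, map_mul, ← h.2, ← h'.2]
  ring

theorem Rep.inv {x : Kˣ} {a b : R} (h : Rep (x : K) a b) :
    Rep ((x⁻¹ : Kˣ) : K) b a := by
  refine ⟨h.ne_zero, ?_⟩
  rw [← h.2, ← mul_assoc, Units.inv_mul, one_mul]

theorem rep_one : Rep (1 : K) (1 : R) 1 := ⟨one_ne_zero, by simp⟩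

/-- the `p`-adic valuation of a unit of the fraction ring -/
noncomputable def v (p : R) (x : Kˣ) : ℤ :=
  m p (exists_rep (R := R) (x : K)).choose - m p (exists_rep (R := R) (x : K)).choose_spec.choose

theorem v_eq {p : R} (hp : Prime p) (x : Kˣ) {a b : R} (h : Rep (x : K) a b) :
    v p x = m p a - m p b := by
  have h0 := (exists_rep (R := R) (x : K)).choose_spec.choose_spec
  have hc := Rep.cross h0 h
  have h1 := congrArg (m p) hc
  rw [m_mul hp h0.ne_zero h.1, m_mul hp h.ne_zero h0.1] at h1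
  unfold v
  linarith

theorem v_mul {p : R} (hp : Prime p) (x y : Kˣ) : v p (x * y) = v p x + v p y := by
  obtain ⟨a, b, h⟩ := exists_rep (R := R) (x : K)
  obtain ⟨c, d, h'⟩ := exists_rep (R := R) (y : K)
  have h2 : Rep ((x * y : Kˣ) : K) (a * c) (b * d) := by
    rw [Units.val_mul]; exact h.mul h'
  rw [v_eq hp _ h2, v_eq hp _ h, v_eq hp _ h', m_mul hp h.ne_zero h'.ne_zero, m_mul hp h.1 h'.1]
  ring

theorem v_one {p : R} (hp : Prime p) : v p (1 : Kˣ) = 0 := by
  have : Rep ((1 : Kˣ) : K) (1 : R) 1 := by rw [Units.val_one]; exact rep_one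
  rw [v_eq hp _ this, sub_self]

theorem v_inv {p : R} (hp : Prime p) (x : Kˣ) : v p x⁻¹ = - v p x := by
  obtain ⟨a, b, h⟩ := exists_rep (R := R) (x : K)
  rw [v_eq hp _ h.inv, v_eq hp _ h]
  ring

/-- the valuation as a group homomorphism -/
noncomputable def vHom {p : R} (hp : Prime p) : Kˣ →* Multiplicative ℤ where
  toFun x := Multiplicative.ofAdd (v p x)
  map_one' := by rw [v_one hp]; rfl
  map_mul' x y := by rw [v_mul hp]; rfl

theorem v_div {p : R} (hp : Prime p) (x y : Kˣ) : v p (x / y) = v p x - v p y := by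
  rw [div_eq_mul_inv, v_mul hp, v_inv hp]
  ring

theorem v_assoc {p q : R} (hp : Prime p) (hq : Prime q) (h : Associated p q) (x : Kˣ) :
    v p x = v q x := by
  obtain ⟨a, b, hr⟩ := exists_rep (R := R) (x : K)
  rw [v_eq hp _ hr, v_eq hq _ hr, m_assoc h, m_assoc h]

theorem v_of_algebraMap {p : R} (hp : Prime p) (x : Kˣ) (a : R) (h : (x : K) = algebraMap R K a) :
    v p x = m p a := by
  have hr : Rep (x : K) a 1 := ⟨one_ne_zero, by rw [map_one, mul_one, h]⟩
  rw [v_eq hp _ hr, m_one hp, sub_zero]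

end Val


section FUnit
variable {R : Type u} [CommRing R] [IsDomain R] [UniqueFactorizationMonoid R]
variable {K : Type v} [CommRing K] [Algebra R K] [IsFractionRing R K]

/-- `x` is (the image of) a unit of the localization `R_f` -/
def IsFUnit (f : R) (x : K) : Prop :=
  ∃ (a b : R) (n N : ℕ), x * algebraMap R K f ^ n = algebraMap R K a ∧ a * b = f ^ N

theorem v_eq_zero_of_isFUnit {f : R} {x : Kˣ} (h : IsFUnit f (x : K)) {p : R} (hp : Prime p)
    (hpf : ¬ p ∣ f) : v p x = 0 := by
  obtain ⟨a, b, n, N, h1, h2⟩ := h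
  have hf : f ≠ 0 := by
    rintro rfl
    exact hpf (dvd_zero p)
  have hr : Rep (x : K) a (f ^ n) := ⟨pow_ne_zero _ hf, by rw [map_pow]; exact h1⟩
  have hpa : ¬ p ∣ a := fun hd =>
    hpf (hp.dvd_of_dvd_pow (h2 ▸ hd.mul_right b))
  have hpf' : ¬ p ∣ f ^ n := fun hd => hpf (hp.dvd_of_dvd_pow hd)
  rw [v_eq hp _ hr, m_eq_zero hpa, m_eq_zero hpf', sub_self]

theorem isFUnit_of_v_eq_zero {f : R} (hf : f ≠ 0) {x : Kˣ}
    (h : ∀ p : R, Prime p → ¬ p ∣ f → v p x = 0) : IsFUnit f (x : K) := by
  obtain ⟨a, b, hr⟩ := exists_rep (R := R) (x : K)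
  obtain ⟨a', b', c', hrel, ha, hb⟩ := exists_reduced_factors' a b hr.1
  have hc' : c' ≠ 0 := by
    rintro rfl
    rw [zero_mul] at hb
    exact hr.1 hb.symm
  have hb' : b' ≠ 0 := by
    rintro rfl
    rw [mul_zero] at hb
    exact hr.1 hb.symm
  have hr' : Rep (x : K) a' b' := by
    refine ⟨hb', ?_⟩
    have h1 := hr.2
    rw [← ha, ← hb, map_mul, map_mul] at h1
    have h2 : algebraMap R K c' ≠ 0 := fun h0 =>
      hc' (algebraMap_injective (K := K) (by rw [h0, map_zero]))
    have h3 : algebraMap R K c' * ((x : K) * algebraMap R K b') =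
        algebraMap R K c' * algebraMap R K a' := by
      rw [← h1]; ring
    haveI : IsDomain K := IsFractionRing.isDomain R
    exact mul_left_cancel₀ h2 h3
  have ha' : a' ≠ 0 := hr'.ne_zero
  have key : ∀ p : R, Prime p → ¬ p ∣ f → ¬ p ∣ a' ∧ ¬ p ∣ b' := by
    intro p hp hpf
    have h0 := h p hp hpf
    rw [v_eq hp _ hr'] at h0
    by_cases hpa : p ∣ a'
    · have hpb : ¬ p ∣ b' := fun hpb => hp.not_isUnit (hrel hpa hpb)
      have := m_pos hpa
      rw [m_eq_zero hpb] at h0
      omega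
    · refine ⟨hpa, fun hpb => ?_⟩
      have := m_pos hpb
      rw [m_eq_zero hpa] at h0
      omega
  obtain ⟨N₁, a'', hN₁⟩ := exists_dvd_pow f a' ha' (fun p hp hpa => by
    by_contra hpf
    exact (key p hp hpf).1 hpa)
  obtain ⟨N₂, b'', hN₂⟩ := exists_dvd_pow f b' hb' (fun p hp hpb => by
    by_contra hpf
    exact (key p hp hpf).2 hpb)
  refine ⟨a' * b'', a'' * b', N₂, N₁ + N₂, ?_, ?_⟩
  · rw [← map_pow, hN₂, map_mul, ← mul_assoc, hr'.2, map_mul]
  · rw [pow_add, hN₁, hN₂]; ring

end FUnit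


section Common
variable {R : Type u} [CommRing R] [IsDomain R] [UniqueFactorizationMonoid R]
variable {K : Type v} [CommRing K] [Algebra R K] [IsFractionRing R K]

theorem v_zpow {q : R} (hq : Prime q) (x : Kˣ) (k : ℤ) : v q (x ^ k) = k * v q x := by
  have h := map_zpow (vHom (K := K) hq) x k
  have h2 := congrArg Multiplicative.toAdd h
  rw [toAdd_zpow] at h2
  simpa [vHom, smul_eq_mul] using h2

theorem v_prod_zpow {q : R} (hq : Prime q) (S : Finset R) (w : R → Kˣ) (n : R → ℤ) :
    v q (∏ p ∈ S, w p ^ n p) = ∑ p ∈ S, n p * v q (w p) := by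
  classical
  induction S using Finset.induction_on with
  | empty => simp [v_one hq]
  | insert a S ha ih =>
    rw [Finset.prod_insert ha, Finset.sum_insert ha, v_mul hq, v_zpow hq, ih]

open Classical in
/-- the unit of `K` attached to an element of `R` (junk value for zero) -/
noncomputable def unitOf (a : R) : Kˣ :=
  if h : a ≠ 0 then
    (IsLocalization.map_units K (⟨a, mem_nonZeroDivisors_of_ne_zero h⟩ : nonZeroDivisors R)).unit
  else 1

theorem unitOf_val {a : R} (ha : a ≠ 0) : ((unitOf a : Kˣ) : K) = algebraMap R K a := by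
  unfold unitOf
  rw [dif_pos ha]
  rfl

theorem v_unitOf {q : R} (hq : Prime q) {a : R} (ha : a ≠ 0) :
    v q (unitOf a : Kˣ) = m q a :=
  v_of_algebraMap hq _ a (unitOf_val ha)

/-- **a cocycle of units of the localizations `R_{f_i f_j}` of a factorial domain is a coboundary
of units of the `R_{f_i}`** (in the form: pointed at an index `i₀`) -/
theorem exists_common {ι : Type*} (f : ι → R) (hf : ∀ i, f i ≠ 0) (g : ι → Kˣ) (i₀ : ι)
    (hg0 : g i₀ = 1) (H : ∀ i j, IsFUnit (f i * f j) ((g i / g j : Kˣ) : K)) :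
    ∃ a : Kˣ, ∀ i, IsFUnit (f i) ((g i / a : Kˣ) : K) := by
  classical
  letI : StrongNormalizationMonoid R := UniqueFactorizationMonoid.strongNormalizationMonoid
  let S : Finset R := (normalizedFactors (f i₀)).toFinset
  have hSmem : ∀ p ∈ S, p ∈ normalizedFactors (f i₀) := fun p hp => Multiset.mem_toFinset.1 hp
  have hSprime : ∀ p ∈ S, Prime p := fun p hp => prime_of_normalized_factor p (hSmem p hp)
  have hSdvd : ∀ p ∈ S, p ∣ f i₀ := fun p hp => dvd_of_mem_normalizedFactors (hSmem p hp)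
  let n : R → ℤ := fun p => if h : ∃ i, ¬ p ∣ f i then v p (g h.choose) else 0
  let a : Kˣ := ∏ p ∈ S, (unitOf p : Kˣ) ^ n p
  refine ⟨a, fun i => isFUnit_of_v_eq_zero (hf i) (fun q hq hqi => ?_)⟩
  rw [v_div hq, v_prod_zpow hq]
  by_cases hq0 : q ∣ f i₀
  · obtain ⟨p₀, hp₀, hqp₀⟩ := exists_mem_normalizedFactors_of_dvd (hf i₀) hq.irreducible hq0
    have hp₀S : p₀ ∈ S := Multiset.mem_toFinset.2 hp₀
    have hp₀prime := hSprime p₀ hp₀S
    rw [Finset.sum_eq_single p₀]
    · rw [v_unitOf hq hp₀prime.ne_zero, m_assoc hqp₀, m_self hp₀prime, mul_one]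
      have hex : ∃ i, ¬ p₀ ∣ f i := ⟨i, fun hd => hqi (hqp₀.dvd.trans hd)⟩
      have hn : n p₀ = v p₀ (g hex.choose) := dif_pos hex
      rw [hn, ← v_assoc hq hp₀prime hqp₀, ← v_div hq]
      apply v_eq_zero_of_isFUnit (H i hex.choose) hq
      intro hd
      rcases hq.dvd_or_dvd hd with h1 | h1
      · exact hqi h1
      · exact hex.choose_spec (hqp₀.symm.dvd.trans h1)
    · intro p hpS hne
      have hpprime := hSprime p hpS
      rw [v_unitOf hq hpprime.ne_zero, m_prime_of_not_associated hpprime hq, mul_zero]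
      intro hass
      apply hne
      exact (hass.symm.trans hqp₀).eq_of_normalized
        (normalize_normalized_factor p (hSmem p hpS)) (normalize_normalized_factor p₀ hp₀)
    · intro h; exact absurd hp₀S h
  · rw [Finset.sum_eq_zero]
    · rw [sub_zero]
      have h1 := v_eq_zero_of_isFUnit (H i i₀) hq (fun hd => by
        rcases hq.dvd_or_dvd hd with h1 | h1
        · exact hqi h1
        · exact hq0 h1)
      rwa [hg0, div_one] at h1
    · intro p hpS
      have hpprime := hSprime p hpS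
      rw [v_unitOf hq hpprime.ne_zero, m_prime_of_not_associated hpprime hq, mul_zero]
      intro hass
      exact hq0 (hass.dvd.trans (hSdvd p hpS))

end Common

end Groth.Agent.Lead.UfdVal
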