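import Mathlib
import Groth.Agent.Lib.Lead.UfdVal

/-!
# Evaluation at the generic point of `Spec R`, `R` a domain (lead)
-/

set_option autoImplicit false
universe u
open CategoryTheory AlgebraicGeometry TopologicalSpace Opposite

namespace Groth.Agent.Lead.UfdEv

open Groth.Agent.Lead.UfdVal

variable (R : Type u) [CommRing R] [IsDomain R]

instance instDom : IsDomain (CommRingCat.of R) := inferInstanceAs (IsDomain R)

/-- the affine scheme -/
noncomputable abbrev X : Scheme.{u} := Spec (CommRingCat.of R)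

/-- the function field -/
abbrev K : Type u := (X R).functionField

noncomputable instance instAlg : Algebra R (K R) :=
  instAlgebraCarrierFunctionFieldSpec (CommRingCat.of R)

instance instFrac : IsFractionRing R (K R) :=
  functionField_isFractionRing_of_affine (CommRingCat.of R)

/-- the generic point -/
noncomputable abbrev ξ : X R := genericPoint (X R)

/-- the basic open as an open of the scheme -/
abbrev D (f : R) : (X R).Opens := PrimeSpectrum.basicOpen f

theorem xi_mem_D {f : R} (hf : f ≠ 0) : ξ R ∈ D R f := by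
  have h := genericPoint_eq_bot_of_affine (CommRingCat.of R)
  change genericPoint (X R) ∈ D R f
  rw [h]
  change f ∉ (⊥ : Ideal R)
  simpa using hf

omit [IsDomain R] in
theorem ne_zero_of_mem_D {f : R} (x : X R) (hx : x ∈ D R f) : f ≠ 0 := by
  rintro rfl
  exact hx (Ideal.zero_mem _)

/-- evaluation at the generic point -/
noncomputable def ev (V : (X R).Opens) (hV : ξ R ∈ V) : Γ(X R, V) →+* K R :=
  ((X R).presheaf.germ V (ξ R) hV).hom

theorem ev_res {V V' : (X R).Opens} (h : V' ≤ V) (hV' : ξ R ∈ V') (s : Γ(X R, V)) :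
    ev R V' hV' ((X R).presheaf.map (homOfLE h).op s) = ev R V (h hV') s :=
  (X R).presheaf.germ_res_apply (homOfLE h) (ξ R) hV' s

theorem ev_injective (V : (X R).Opens) (hV : ξ R ∈ V) : Function.Injective (ev R V hV) :=
  germ_injective_of_isIntegral (X R) (ξ R) hV

/-- sections over an open as an `R`-algebra (the structure sheaf algebra) -/
noncomputable def alg (V : (X R).Opens) : R →+* Γ(X R, V) :=
  algebraMap R ((structureSheafInType R R).obj.obj (op (show Opens (PrimeSpectrum.Top R) from V)))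

theorem ev_alg (V : (X R).Opens) (hV : ξ R ∈ V) (r : R) :
    ev R V hV (alg R V r) = algebraMap R (K R) r :=
  StructureSheaf.algebraMap_germ_apply (R := R) V (ξ R) hV r

theorem exists_alg_rep (f : R) (s : Γ(X R, D R f)) :
    ∃ (n : ℕ) (a : R), s * alg R (D R f) f ^ n = alg R (D R f) a := by
  have hloc := StructureSheaf.IsLocalization.to_basicOpen R f
  obtain ⟨⟨a, ⟨_, n, rfl⟩⟩, h⟩ := @IsLocalization.surj _ _ (Submonoid.powers f) _ _
    (StructureSheaf.openAlgebra R (op (PrimeSpectrum.basicOpen f))) hloc s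
  refine ⟨n, a, ?_⟩
  rw [← map_pow]
  exact h

theorem isUnit_alg (f : R) : IsUnit (alg R (D R f) f) := by
  have hloc := StructureSheaf.IsLocalization.to_basicOpen R f
  exact @IsLocalization.map_units _ _ (Submonoid.powers f) _ _
    (StructureSheaf.openAlgebra R (op (PrimeSpectrum.basicOpen f))) hloc ⟨f, Submonoid.mem_powers f⟩

theorem exists_rep (f : R) (V : (X R).Opens) (hVf : V = D R f) (hV : ξ R ∈ V) (s : Γ(X R, V)) :
    ∃ (n : ℕ) (a : R), ev R V hV s * algebraMap R (K R) f ^ n = algebraMap R (K R) a := by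
  subst hVf
  obtain ⟨n, a, h⟩ := exists_alg_rep R f s
  refine ⟨n, a, ?_⟩
  have h2 := congrArg (ev R _ hV) h
  rw [map_mul, map_pow, ev_alg, ev_alg] at h2
  exact h2

theorem algebraMap_injective : Function.Injective (algebraMap R (K R)) :=
  IsFractionRing.injective R (K R)

theorem isUnit_algebraMap {f : R} (hf : f ≠ 0) : IsUnit (algebraMap R (K R) f) :=
  IsLocalization.map_units (K R) (⟨f, mem_nonZeroDivisors_of_ne_zero hf⟩ : nonZeroDivisors R)

/-- a unit of `Γ(D(f))` evaluates to a unit of `R_f` -/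
theorem isFUnit_ev (f : R) (V : (X R).Opens) (hVf : V = D R f) (hV : ξ R ∈ V)
    (u : (Γ(X R, V))ˣ) : IsFUnit f (ev R V hV (u : Γ(X R, V))) := by
  obtain ⟨n, a, h1⟩ := exists_rep R f V hVf hV (u : Γ(X R, V))
  obtain ⟨m, b, h2⟩ := exists_rep R f V hVf hV ((u⁻¹ : (Γ(X R, V))ˣ) : Γ(X R, V))
  refine ⟨a, b, n, n + m, h1, ?_⟩
  apply algebraMap_injective R
  rw [map_mul, ← h1, ← h2, map_pow, pow_add]
  have h3 : ev R V hV (u : Γ(X R, V)) * ev R V hV ((u⁻¹ : (Γ(X R, V))ˣ) : Γ(X R, V)) = 1 := by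
    rw [← map_mul, Units.mul_inv, map_one]
  calc ev R V hV (u : Γ(X R, V)) * algebraMap R (K R) f ^ n *
        (ev R V hV ((u⁻¹ : (Γ(X R, V))ˣ) : Γ(X R, V)) * algebraMap R (K R) f ^ m)
      = (ev R V hV (u : Γ(X R, V)) * ev R V hV ((u⁻¹ : (Γ(X R, V))ˣ) : Γ(X R, V))) *
          (algebraMap R (K R) f ^ n * algebraMap R (K R) f ^ m) := by ring
    _ = algebraMap R (K R) f ^ n * algebraMap R (K R) f ^ m := by rw [h3, one_mul]

/-- a unit of `R_f` is the value of a unit of `Γ(D(f))` -/
theorem exists_unit_of_isFUnit {f : R} (hf : f ≠ 0) (V : (X R).Opens) (hVf : V = D R f)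
    (hV : ξ R ∈ V) (x : K R) (hx : IsFUnit f x) :
    ∃ w : (Γ(X R, V))ˣ, ev R V hV (w : Γ(X R, V)) = x := by
  subst hVf
  obtain ⟨a, b, n, N, h1, h2⟩ := hx
  have hfu := isUnit_alg R f
  have hau : IsUnit (alg R (D R f) a) := by
    apply isUnit_of_mul_isUnit_left (y := alg R (D R f) b)
    rw [← map_mul, h2, map_pow]
    exact hfu.pow N
  let uf : (Γ(X R, D R f))ˣ := hfu.unit
  let ua : (Γ(X R, D R f))ˣ := hau.unit
  refine ⟨ua * uf⁻¹ ^ n, ?_⟩
  have hK := isUnit_algebraMap R hf
  apply (hK.pow n).mul_left_injective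
  change ev R _ hV ((ua * uf⁻¹ ^ n : (Γ(X R, D R f))ˣ) : Γ(X R, D R f)) * algebraMap R (K R) f ^ n =
    x * algebraMap R (K R) f ^ n
  rw [h1, ← ev_alg R (D R f) hV f, ← ev_alg R (D R f) hV a, ← map_pow, ← map_mul]
  congr 1
  have h3 : ((uf⁻¹ ^ n : (Γ(X R, D R f))ˣ) : Γ(X R, D R f)) * alg R (D R f) f ^ n = 1 := by
    have : alg R (D R f) f = (uf : Γ(X R, D R f)) := rfl
    rw [this, ← Units.val_pow_eq_pow_val, ← Units.val_mul, ← mul_pow, inv_mul_cancel, one_pow,
      Units.val_one]
  rw [Units.val_mul, mul_assoc, h3, mul_one]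
  rfl

end Groth.Agent.Lead.UfdEv
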