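import Mathlib
import Groth.Agent.Lib.Lead.UfdEv
import Groth.Agent.Lib.Helper1.CocycleIso
import Groth.Agent.Lib.Helper1.TwForm3

/-!
# Invertible modules on an open subscheme of `Spec R`, `R` factorial, are trivial (lead)
-/

set_option autoImplicit false
set_option linter.unusedSectionVars false
universe u
open CategoryTheory AlgebraicGeometry TopologicalSpace Opposite

namespace Groth.Agent.Lead.UfdOpen

open Groth.Agent.Lead.UfdVal Groth.Agent.Lead.UfdEv
open Groth.Agent.Helper1 Groth.Agent.Helper1.LGen Groth.Agent.Helper1.QcCech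
  Groth.Agent.Helper1.CocycleIso Groth.Agent.Helper1.TwForm

variable {R : Type u} [CommRing R] [IsDomain R]
variable (U : (X R).Opens)

theorem img_eq {V : (X R).Opens} (hV : V ≤ U) : U.ι ''ᵁ (U.ι ⁻¹ᵁ V) = V := by
  rw [Scheme.Hom.image_preimage_eq_opensRange_inf, Scheme.Opens.opensRange_ι, inf_eq_right.2 hV]

/-- evaluation of functions on opens of `U` at the generic point -/
noncomputable def evU (W : (U : Scheme.{u}).Opens) (hW : ξ R ∈ U.ι ''ᵁ W) :
    Γ((U : Scheme.{u}), W) →+* K R :=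
  ev R (U.ι ''ᵁ W) hW

theorem evU_res {W W' : (U : Scheme.{u}).Opens} (h : W' ≤ W) (hW' : ξ R ∈ U.ι ''ᵁ W')
    (s : Γ((U : Scheme.{u}), W)) :
    evU U W' hW' (resR h s) = evU U W (U.ι.image_mono h hW') s :=
  ev_res R (U.ι.image_mono h) hW' s

theorem evU_injective (W : (U : Scheme.{u}).Opens) (hW : ξ R ∈ U.ι ''ᵁ W) :
    Function.Injective (evU U W hW) :=
  ev_injective R _ hW

theorem isGen_one' {Y : Scheme.{u}} (W : Y.Opens) : IsGen (Coh.structureModule Y) W (one' W) := by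
  intro V hV
  have : (fun r : Γ(Y, V) => r • QcCech.res (Coh.structureModule Y) hV (one' W)) =
      (fun r : Γ(Y, V) => (show Γ(Coh.structureModule Y, V) from r)) := by
    funext r
    rw [res_one', smul_one']
  rw [this]
  exact Function.bijective_id

variable (L : (U : Scheme.{u}).Modules)

/-- index data: a basic open inside `U` with a generator of `L` over it -/
structure Idx where
  f : R
  hf : f ≠ 0
  hU : D R f ≤ U
  a : Γ(L, U.ι ⁻¹ᵁ D R f)
  ha : IsGen L (U.ι ⁻¹ᵁ D R f) a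

variable {U L}

/-- the open of an index -/
noncomputable abbrev Idx.W (i : Idx U L) : (U : Scheme.{u}).Opens := U.ι ⁻¹ᵁ D R i.f

theorem cov (hL : PicF.IsInvertible L) (x : (U : Scheme.{u})) : ∃ i : Idx U L, x ∈ i.W := by
  obtain ⟨W₀, a₀, hx, hgen⟩ := exists_isGen hL x
  have hx' : U.ι x ∈ U.ι ''ᵁ W₀ := ⟨x, hx, rfl⟩
  obtain ⟨_, ⟨f, rfl⟩, hxf, hfW⟩ :=
    Opens.isBasis_iff_nbhd.1 (PrimeSpectrum.isBasis_basic_opens (R := R)) hx'
  have hfU : D R f ≤ U := hfW.trans (U.ι_image_le W₀)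
  have hle : U.ι ⁻¹ᵁ D R f ≤ W₀ := by
    have := U.ι.preimage_mono hfW
    rwa [U.ι.preimage_image_eq] at this
  exact ⟨⟨f, ne_zero_of_mem_D R _ hxf, hfU, res L hle a₀, hgen.res hle⟩, hxf⟩

theorem img_W (i : Idx U L) : U.ι ''ᵁ i.W = D R i.f := img_eq U i.hU

theorem img_W2 (i j : Idx U L) : U.ι ''ᵁ (i.W ⊓ j.W) = D R (i.f * j.f) := by
  have h : i.W ⊓ j.W = U.ι ⁻¹ᵁ (D R (i.f * j.f)) := by
    change _ = U.ι ⁻¹ᵁ (PrimeSpectrum.basicOpen (i.f * j.f))
    rw [PrimeSpectrum.basicOpen_mul]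
    rfl
  rw [h]
  apply img_eq
  exact (PrimeSpectrum.basicOpen_mul_le_left i.f j.f).trans i.hU

theorem img_W3 (i j k : Idx U L) : U.ι ''ᵁ (i.W ⊓ j.W ⊓ k.W) = D R (i.f * j.f * k.f) := by
  have h : i.W ⊓ j.W ⊓ k.W = U.ι ⁻¹ᵁ (D R (i.f * j.f * k.f)) := by
    change _ = U.ι ⁻¹ᵁ (PrimeSpectrum.basicOpen (i.f * j.f * k.f))
    rw [PrimeSpectrum.basicOpen_mul, PrimeSpectrum.basicOpen_mul]
    rfl
  rw [h]
  apply img_eq
  exact (PrimeSpectrum.basicOpen_mul_le_right _ k.f).trans k.hU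

theorem mem1 (i : Idx U L) : ξ R ∈ U.ι ''ᵁ i.W := by
  rw [img_W]; exact xi_mem_D R i.hf

theorem mem2 (i j : Idx U L) : ξ R ∈ U.ι ''ᵁ (i.W ⊓ j.W) := by
  rw [img_W2]; exact xi_mem_D R (mul_ne_zero i.hf j.hf)

theorem mem3 (i j k : Idx U L) : ξ R ∈ U.ι ''ᵁ (i.W ⊓ j.W ⊓ k.W) := by
  rw [img_W3]; exact xi_mem_D R (mul_ne_zero (mul_ne_zero i.hf j.hf) k.hf)

theorem exists_u (i j : Idx U L) : ∃ u : (Γ((U : Scheme.{u}), i.W ⊓ j.W))ˣ,
    res L inf_le_left i.a = (u : Γ((U : Scheme.{u}), i.W ⊓ j.W)) • res L inf_le_right j.a :=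
  IsGen.exists_unit (j.ha.res inf_le_right) (i.ha.res inf_le_left)

/-- the transition unit -/
noncomputable def tu (i j : Idx U L) : (Γ((U : Scheme.{u}), i.W ⊓ j.W))ˣ := (exists_u i j).choose

theorem tu_spec (i j : Idx U L) :
    res L inf_le_left i.a = (tu i j : Γ((U : Scheme.{u}), i.W ⊓ j.W)) • res L inf_le_right j.a :=
  (exists_u i j).choose_spec

/-- the transition function in the function field -/
noncomputable def c (i j : Idx U L) : (K R)ˣ :=
  Units.map (evU U (i.W ⊓ j.W) (mem2 i j)).toMonoidHom (tu i j)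

theorem c_val (i j : Idx U L) :
    ((c i j : (K R)ˣ) : K R) = evU U (i.W ⊓ j.W) (mem2 i j) (tu i j : Γ((U : Scheme.{u}), i.W ⊓ j.W)) :=
  rfl

theorem ev_eq_c {i j : Idx U L} {T : (U : Scheme.{u}).Opens} (hTi : T ≤ i.W) (hTj : T ≤ j.W)
    (hT : ξ R ∈ U.ι ''ᵁ T) (v : Γ((U : Scheme.{u}), T))
    (hv : res L hTi i.a = v • res L hTj j.a) : evU U T hT v = ((c i j : (K R)ˣ) : K R) := by
  have hle : T ≤ i.W ⊓ j.W := le_inf hTi hTj
  have h1 := congrArg (res L hle) (tu_spec i j)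
  rw [res_smul, res_res, res_res] at h1
  have h2 : v = resR hle (tu i j : Γ((U : Scheme.{u}), i.W ⊓ j.W)) := by
    apply (j.ha T hTj).1
    change v • res L hTj j.a = resR hle (tu i j : Γ((U : Scheme.{u}), i.W ⊓ j.W)) • res L hTj j.a
    rw [← hv, h1]
  rw [h2, evU_res, c_val]

theorem cocycle (i j k : Idx U L) : c i j * c j k = c i k := by
  apply Units.ext
  rw [Units.val_mul]
  have hij : i.W ⊓ j.W ⊓ k.W ≤ i.W ⊓ j.W := inf_le_left
  have hjk : i.W ⊓ j.W ⊓ k.W ≤ j.W ⊓ k.W := le_inf (inf_le_left.trans inf_le_right) inf_le_right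
  have hi : i.W ⊓ j.W ⊓ k.W ≤ i.W := inf_le_left.trans inf_le_left
  have hj : i.W ⊓ j.W ⊓ k.W ≤ j.W := inf_le_left.trans inf_le_right
  have hk : i.W ⊓ j.W ⊓ k.W ≤ k.W := inf_le_right
  have h1 := congrArg (res L hij) (tu_spec i j)
  rw [res_smul, res_res, res_res] at h1
  have h2 := congrArg (res L hjk) (tu_spec j k)
  rw [res_smul, res_res, res_res] at h2
  have h3 : res L hi i.a = (resR hij (tu i j : Γ((U : Scheme.{u}), i.W ⊓ j.W)) *
      resR hjk (tu j k : Γ((U : Scheme.{u}), j.W ⊓ k.W))) • res L hk k.a := by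
    rw [mul_smul, ← h2, ← h1]
  have h4 := ev_eq_c hi hk (mem3 i j k) _ h3
  rw [map_mul, evU_res, evU_res] at h4
  rw [← h4, c_val, c_val]

theorem c_self (i : Idx U L) : c i i = 1 := by
  have h := cocycle i i i
  exact mul_eq_left.1 h |> fun h' => by simpa using h'

theorem c_eq_div (i j k : Idx U L) : c i j = c i k / c j k := by
  rw [eq_div_iff_mul_eq']
  exact cocycle i j k

/-- the cocycle of a factorial domain splits -/
theorem exists_w [UniqueFactorizationMonoid R] :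
    ∃ w : ∀ i : Idx U L, (Γ((U : Scheme.{u}), i.W))ˣ, ∀ i j : Idx U L,
      evU U i.W (mem1 i) (w i : Γ((U : Scheme.{u}), i.W)) =
        ((c i j : (K R)ˣ) : K R) * evU U j.W (mem1 j) (w j : Γ((U : Scheme.{u}), j.W)) := by
  by_cases hne : Nonempty (Idx U L)
  · obtain ⟨i₀⟩ := hne
    have H : ∀ i j : Idx U L, IsFUnit (i.f * j.f) (((c i i₀ / c j i₀ : (K R)ˣ)) : K R) := by
      intro i j
      rw [← c_eq_div i j i₀, c_val]
      exact isFUnit_ev R (i.f * j.f) _ (img_W2 i j) (mem2 i j) (tu i j)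
    obtain ⟨a, ha⟩ := exists_common (K := K R) (fun i : Idx U L => i.f) (fun i => i.hf)
      (fun i => c i i₀) i₀ (c_self i₀) H
    have hw : ∀ i : Idx U L, ∃ w : (Γ((U : Scheme.{u}), i.W))ˣ,
        evU U i.W (mem1 i) (w : Γ((U : Scheme.{u}), i.W)) = ((c i i₀ / a : (K R)ˣ) : K R) :=
      fun i => exists_unit_of_isFUnit R i.hf _ (img_W i) (mem1 i) _ (ha i)
    choose w hw using hw
    refine ⟨w, fun i j => ?_⟩
    rw [hw i, hw j, c_eq_div i j i₀, ← Units.val_mul]
    congr 1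
    rw [div_mul_div_cancel]
  · exact ⟨fun i => 1, fun i => (hne ⟨i⟩).elim⟩

/-- **invertible modules on an open subscheme of the spectrum of a factorial domain are trivial** -/
theorem main [UniqueFactorizationMonoid R] (hL : PicF.IsInvertible L) :
    Nonempty (L ≅ Coh.structureModule (U : Scheme.{u})) := by
  obtain ⟨w, hw⟩ := exists_w (U := U) (L := L)
  let F : GenFam L (Coh.structureModule (U : Scheme.{u})) :=
    { ι := Idx U L
      W := fun i => i.W
      a := fun i => i.a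
      b := fun i => (w i : Γ((U : Scheme.{u}), i.W)) • one' i.W
      ha := fun i => i.ha
      hb := fun i => IsGen.smul_unit (isGen_one' i.W) (w i)
      cov := cov hL
      compat := by
        intro i j v hv
        have h1 := ev_eq_c inf_le_left inf_le_right (mem2 i j) v hv
        have h2 : resR inf_le_left (w i : Γ((U : Scheme.{u}), i.W)) =
            v * resR inf_le_right (w j : Γ((U : Scheme.{u}), j.W)) := by
          apply evU_injective U _ (mem2 i j)
          rw [map_mul, evU_res, evU_res, h1]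
          exact hw i j
        rw [res_smul, res_smul, res_one', res_one', ← mul_smul, h2] }
  exact ⟨F.iso⟩

end Groth.Agent.Lead.UfdOpen
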