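import Mathlib
import Groth.Prelude
import Groth.Agent.Lib.Lead.GUnib13
import Groth.Agent.Lib.Lead.GBr7

/-!
# Sections of separated unramified morphisms: basic facts
-/

set_option autoImplicit false
set_option backward.isDefEq.respectTransparency.types false
set_option synthInstance.maxHeartbeats 400000
set_option linter.style.haveILetI false
set_option linter.unusedSectionVars false

universe u

open AlgebraicGeometry CategoryTheory Limits

namespace Groth.Agent.Lead.UnSec

variable {X Y : Scheme.{u}}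

/-- If `u ≫ f` is an open immersion and `f` is unramified then `u` is an open immersion. -/
theorem isOpenImmersion_of_comp_unramified {T : Scheme.{u}} (u : T ⟶ X) (f : X ⟶ Y)
    [LocallyOfFiniteType f] [FormallyUnramified f] [IsOpenImmersion (u ≫ f)] :
    IsOpenImmersion u := by
  let gr : T ⟶ pullback (u ≫ f) f := pullback.lift (𝟙 T) u (by simp)
  have h1 : u = gr ≫ pullback.snd _ _ := (pullback.lift_snd _ _ _).symm
  haveI h2 : IsOpenImmersion gr :=
    MorphismProperty.of_isPullback (P := @IsOpenImmersion)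
      (pullback_lift_diagonal_isPullback u f) inferInstance
  rw [h1]
  infer_instance

/-- The range of a section of a separated morphism is closed in the preimage of its domain. -/
theorem mem_range_of_mem_closure (f : X ⟶ Y) [IsSeparated f] (U : Y.Opens)
    (u : (U : Scheme.{u}) ⟶ X) (hu : u ≫ f = U.ι) (x : X) (hx : x ∈ closure (Set.range u))
    (hfx : f x ∈ U) : x ∈ Set.range u := by
  have hsub : Set.range u ⊆ Set.range (f ⁻¹ᵁ U).ι := by
    rintro _ ⟨t, rfl⟩
    rw [Scheme.Opens.range_ι]
    show f (u t) ∈ U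
    rw [← Scheme.Hom.comp_apply, hu]
    exact t.2
  let u' : (U : Scheme.{u}) ⟶ (f ⁻¹ᵁ U : Scheme.{u}) := IsOpenImmersion.lift (f ⁻¹ᵁ U).ι u hsub
  have hu' : u' ≫ (f ⁻¹ᵁ U).ι = u := IsOpenImmersion.lift_fac _ _ _
  have hsec : u' ≫ (f ∣_ U) = 𝟙 _ := by
    rw [← cancel_mono U.ι, Category.assoc, morphismRestrict_ι, ← Category.assoc, hu', hu,
      Category.id_comp]
  haveI : IsClosedImmersion u' := by
    have h1 : IsClosedImmersion (u' ≫ (f ∣_ U)) := by rw [hsec]; infer_instance
    exact IsClosedImmersion.of_comp u' (f ∣_ U)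
  have hcl : IsClosed (Set.range u') := u'.isClosedEmbedding.isClosed_range
  have hx1 : (⟨x, hfx⟩ : (f ⁻¹ᵁ U : Scheme.{u})) ∈ closure (Set.range u') := by
    rw [(f ⁻¹ᵁ U).ι.isOpenEmbedding.isInducing.closure_eq_preimage_closure_image]
    show (f ⁻¹ᵁ U).ι ⟨x, hfx⟩ ∈ closure ((f ⁻¹ᵁ U).ι '' Set.range u')
    have h2 : (f ⁻¹ᵁ U).ι '' Set.range u' = Set.range u := by
      rw [← Set.range_comp, ← hu']
      rfl
    rw [h2]
    exact hx
  rw [hcl.closure_eq] at hx1
  obtain ⟨t, ht⟩ := hx1
  refine ⟨t, ?_⟩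
  rw [← hu', Scheme.Hom.comp_apply, ht]
  rfl

end Groth.Agent.Lead.UnSec
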