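import Mathlib
import Groth.Prelude
import Groth.Agent.Lib.Lead.UnSec1

/-!
# Sections of separated unramified morphisms: extension over an étale irreducible open
-/

set_option autoImplicit false
set_option backward.isDefEq.respectTransparency.types false
set_option synthInstance.maxHeartbeats 400000
set_option linter.style.haveILetI false
set_option linter.unusedSectionVars false

universe u

open AlgebraicGeometry CategoryTheory Limits

namespace Groth.Agent.Lead.UnSec

variable {X Y : Scheme.{u}}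

/-- Inside an irreducible open `N`, the part over `U` lies in the range of the section. -/
theorem subset_range_of_irreducible (f : X ⟶ Y) [IsSeparated f] [LocallyOfFiniteType f]
    [FormallyUnramified f] (U : Y.Opens) (u : (U : Scheme.{u}) ⟶ X) (hu : u ≫ f = U.ι)
    (N : X.Opens) (hN : IsIrreducible (N : Set X))
    (hNu : ((N : Set X) ∩ Set.range u).Nonempty) :
    ∀ x : X, x ∈ N → f x ∈ U → x ∈ Set.range u := by
  haveI : IsOpenImmersion (u ≫ f) := by rw [hu]; infer_instance
  haveI hopen : IsOpenImmersion u := isOpenImmersion_of_comp_unramified u f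
  have hro : IsOpen (Set.range u) := u.isOpenEmbedding.isOpen_range
  intro x hxN hfx
  by_contra hx
  have hx' : x ∉ closure (Set.range u) := fun h => hx (mem_range_of_mem_closure f U u hu x h hfx)
  obtain ⟨x₁, hx₁N, hx₁⟩ := hNu
  obtain ⟨w, hwN, hw1, hw2⟩ := hN.2 (Set.range u) (closure (Set.range u))ᶜ hro
    isClosed_closure.isOpen_compl ⟨x₁, hx₁N, hx₁⟩ ⟨x, hxN, hx'⟩
  exact hw2 (subset_closure hw1)

/-- Key step: the restriction of `f` to an irreducible étale open meeting the range of a section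
over a dense open is a monomorphism. -/
theorem mono_of_irreducible_etale (f : X ⟶ Y) [IsSeparated f] [LocallyOfFiniteType f]
    [FormallyUnramified f] (U : Y.Opens) (hU : Dense (U : Set Y))
    (u : (U : Scheme.{u}) ⟶ X) (hu : u ≫ f = U.ι)
    (N : X.Opens) (hN : IsIrreducible (N : Set X)) [Etale (N.ι ≫ f)]
    (hNu : ((N : Set X) ∩ Set.range u).Nonempty) : Mono (N.ι ≫ f) := by
  haveI : IsOpenImmersion (u ≫ f) := by rw [hu]; infer_instance
  haveI hopen : IsOpenImmersion u := isOpenImmersion_of_comp_unramified u f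
  have hsub := subset_range_of_irreducible f U u hu N hN hNu
  set g : (N : Scheme.{u}) ⟶ Y := N.ι ≫ f with hg
  rw [← pullback.isIso_diagonal_iff]
  haveI : IsOpenImmersion (pullback.diagonal g) := inferInstance
  haveI : IsClosedImmersion (pullback.diagonal g) := inferInstance
  apply isIso_of_isOpenImmersion_of_opensRange_eq_top
  rw [eq_top_iff]
  intro r _
  by_contra hr
  -- the complement of the diagonal is open; its image in `Y` is open hence meets `U`
  let π : pullback g g ⟶ Y := pullback.fst g g ≫ g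
  have hπ : IsOpenMap π := π.isOpenMap
  have hRopen : IsOpen ((Set.range (pullback.diagonal g))ᶜ) :=
    (pullback.diagonal g).isClosedEmbedding.isClosed_range.isOpen_compl
  have hne : (π '' (Set.range (pullback.diagonal g))ᶜ ∩ (U : Set Y)).Nonempty :=
    Dense.inter_open_nonempty hU _ (hπ _ hRopen) ⟨π r, r, hr, rfl⟩
  obtain ⟨_, ⟨r', hr', rfl⟩, hπU⟩ := hne
  -- the two projections of `r'` lie over `U`
  let N'' : (N : Scheme.{u}).Opens := g ⁻¹ᵁ U
  let j : (N'' : Scheme.{u}) ⟶ (N : Scheme.{u}) := N''.ι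
  have hjsub : Set.range (j ≫ N.ι) ⊆ Set.range u := by
    rintro _ ⟨c, rfl⟩
    apply hsub
    · exact (j c).2
    · exact c.2
  let w : (N'' : Scheme.{u}) ⟶ (U : Scheme.{u}) := IsOpenImmersion.lift u (j ≫ N.ι) hjsub
  have hw : w ≫ u = j ≫ N.ι := IsOpenImmersion.lift_fac _ _ _
  haveI : Mono w := mono_of_mono_fac hw
  have hg'' : j ≫ g = w ≫ U.ι := by
    rw [hg, ← Category.assoc, ← hw, Category.assoc, hu]
  haveI : Mono (j ≫ g) := by rw [hg'']; infer_instance
  let m : pullback (j ≫ g) (j ≫ g) ⟶ pullback g g :=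
    pullback.map (j ≫ g) (j ≫ g) g g j j (𝟙 Y) (by simp) (by simp)
  have hrange : Set.range m = pullback.fst g g ⁻¹' Set.range j ∩ pullback.snd g g ⁻¹' Set.range j :=
    Scheme.Pullback.range_map _ _ _ _ _ _ _ _ _
  have hr'm : r' ∈ Set.range m := by
    rw [hrange]
    constructor
    · show pullback.fst g g r' ∈ Set.range j
      rw [Scheme.Opens.range_ι]
      exact hπU
    · show pullback.snd g g r' ∈ Set.range j
      rw [Scheme.Opens.range_ι]
      show g (pullback.snd g g r') ∈ U
      rw [← Scheme.Hom.comp_apply, ← pullback.condition]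
      exact hπU
  obtain ⟨r'', rfl⟩ := hr'm
  haveI : IsIso (pullback.diagonal (j ≫ g)) := inferInstance
  obtain ⟨c, rfl⟩ := (pullback.diagonal (j ≫ g)).surjective r''
  have hnat : pullback.diagonal (j ≫ g) ≫ m = j ≫ pullback.diagonal g := by
    apply pullback.hom_ext
    · simp only [m, Category.assoc, pullback.lift_fst, pullback.diagonal_fst]
      rw [pullback.diagonal_fst_assoc, Category.comp_id]
    · simp only [m, Category.assoc, pullback.lift_snd, pullback.diagonal_snd]
      rw [pullback.diagonal_snd_assoc, Category.comp_id]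
  apply hr'
  refine ⟨j c, ?_⟩
  rw [← Scheme.Hom.comp_apply, ← hnat, Scheme.Hom.comp_apply]

/-- Extension of the section over the image of an irreducible étale open. -/
theorem exists_section_of_irreducible_etale (f : X ⟶ Y) [IsSeparated f] [LocallyOfFiniteType f]
    [FormallyUnramified f] (U : Y.Opens) (hU : Dense (U : Set Y))
    (u : (U : Scheme.{u}) ⟶ X) (hu : u ≫ f = U.ι)
    (N : X.Opens) (hN : IsIrreducible (N : Set X)) [Etale (N.ι ≫ f)]
    (hNu : ((N : Set X) ∩ Set.range u).Nonempty) :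
    ∃ (V : Y.Opens) (v : (V : Scheme.{u}) ⟶ X), (V : Set Y) = f '' (N : Set X) ∧ v ≫ f = V.ι ∧
      Y.homOfLE (inf_le_left : U ⊓ V ≤ U) ≫ u = Y.homOfLE (inf_le_right : U ⊓ V ≤ V) ≫ v := by
  haveI : IsOpenImmersion (u ≫ f) := by rw [hu]; infer_instance
  haveI hopen : IsOpenImmersion u := isOpenImmersion_of_comp_unramified u f
  have hsub := subset_range_of_irreducible f U u hu N hN hNu
  haveI hmono : Mono (N.ι ≫ f) := mono_of_irreducible_etale f U hU u hu N hN hNu
  set g : (N : Scheme.{u}) ⟶ Y := N.ι ≫ f with hg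
  haveI : IsOpenImmersion g := IsOpenImmersion.of_flat_of_mono g
  let V : Y.Opens := g.opensRange
  have hVsub : Set.range V.ι ⊆ Set.range g := by
    rw [Scheme.Opens.range_ι]
    exact subset_rfl
  let l : (V : Scheme.{u}) ⟶ (N : Scheme.{u}) := IsOpenImmersion.lift g V.ι hVsub
  have hl : l ≫ g = V.ι := IsOpenImmersion.lift_fac _ _ _
  refine ⟨V, l ≫ N.ι, ?_, ?_, ?_⟩
  · show Set.range g = f '' (N : Set X)
    rw [hg, Scheme.Hom.comp_base, TopCat.coe_comp, Set.range_comp, Scheme.Opens.range_ι]
  · rw [Category.assoc]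
    exact hl
  · set a₂ : ((U ⊓ V : Y.Opens) : Scheme.{u}) ⟶ X :=
      Y.homOfLE (inf_le_right : U ⊓ V ≤ V) ≫ l ≫ N.ι with ha₂
    have ha₂f : a₂ ≫ f = (U ⊓ V).ι := by
      rw [ha₂, Category.assoc, Category.assoc, ← hg, hl, Scheme.homOfLE_ι]
    have hrange : Set.range a₂ ⊆ Set.range u := by
      rintro _ ⟨t, rfl⟩
      apply hsub
      · rw [ha₂, ← Category.assoc, Scheme.Hom.comp_apply]
        exact ((Y.homOfLE (inf_le_right : U ⊓ V ≤ V) ≫ l) t).2
      · rw [← Scheme.Hom.comp_apply, ha₂f]
        exact t.2.1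
    let w₂ : ((U ⊓ V : Y.Opens) : Scheme.{u}) ⟶ (U : Scheme.{u}) :=
      IsOpenImmersion.lift u a₂ hrange
    have hw₂ : w₂ ≫ u = a₂ := IsOpenImmersion.lift_fac _ _ _
    have hw₂' : w₂ = Y.homOfLE (inf_le_left : U ⊓ V ≤ U) := by
      rw [← cancel_mono U.ι, Scheme.homOfLE_ι, ← hu, ← Category.assoc, hw₂, ha₂f]
    rw [← hw₂', hw₂]

end Groth.Agent.Lead.UnSec
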