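import Mathlib
import Groth.Prelude
import Groth.Agent.Lib.Lead.UnSec2
import Groth.Agent.Lib.Lead.GUnib7
import Groth.Agent.Lib.Lead.GUnib5
import Groth.Agent.Lib.Lead.GBr6

/-!
# Sections of separated unramified morphisms over a geometrically unibranch point
-/

set_option autoImplicit false
set_option backward.isDefEq.respectTransparency.types false
set_option synthInstance.maxHeartbeats 400000
set_option linter.style.haveILetI false
set_option linter.unusedSectionVars false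

universe u

open AlgebraicGeometry CategoryTheory Limits

namespace Groth.Agent.Lead.UnSec

open Groth.Agent.Lead.GUnib Groth.Agent.Lead.GBr

variable {X Y : Scheme.{u}}

/-- An integral open neighbourhood of a geometrically unibranch point of a reduced scheme whose
irreducible components are locally finite. -/
theorem exists_integral_nhd [IsReduced Y]
    (hcomp : LocallyFinite (fun Z : ↥(irreducibleComponents ↥Y) => (Z : Set ↥Y)))
    (y : Y) (hy : CAlg2.IsGeomUnibranch (Y.presheaf.stalk y)) :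
    ∃ Y₀ : Y.Opens, y ∈ Y₀ ∧ IsIntegral (Y₀ : Scheme.{u}) := by
  haveI : IsDomain (Y.presheaf.stalk y) := isDomain_of_isReduced_of_isGeomUnibranch _ hy
  have h1 := encard_components_eq Y y
  rw [IsDomain.minimalPrimes_eq_singleton_bot, Set.encard_singleton, Set.encard_eq_one] at h1
  obtain ⟨Z₀, hZ₀⟩ := h1
  have hZ₀mem : Z₀ ∈ irreducibleComponents Y ∧ y ∈ Z₀ := by
    have : Z₀ ∈ ({Z₀} : Set (Set Y)) := rfl
    rw [← hZ₀] at this
    exact this
  let F : {Z : ↥(irreducibleComponents ↥Y) // (Z : Set Y) ≠ Z₀} → Set Y := fun Z => (Z.1 : Set Y)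
  have hF : LocallyFinite F := hcomp.comp_injective Subtype.val_injective
  have hclosed : IsClosed (⋃ i, F i) :=
    hF.isClosed_iUnion fun Z => isClosed_of_mem_irreducibleComponents _ Z.1.2
  let Y₀ : Y.Opens := ⟨(⋃ i, F i)ᶜ, hclosed.isOpen_compl⟩
  have hyY₀ : y ∈ Y₀ := by
    show y ∉ ⋃ i, F i
    rw [Set.mem_iUnion]
    rintro ⟨Z, hyZ⟩
    have : (Z.1 : Set Y) ∈ {Z : Set Y | Z ∈ irreducibleComponents Y ∧ y ∈ Z} := ⟨Z.1.2, hyZ⟩
    rw [hZ₀] at this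
    exact Z.2 this
  have hsub : (Y₀ : Set Y) ⊆ Z₀ := by
    intro p hp
    have hp' : p ∈ ⋃₀ irreducibleComponents Y := by
      rw [sUnion_irreducibleComponents]; trivial
    obtain ⟨Z, hZ, hpZ⟩ := hp'
    by_cases hZZ : Z = Z₀
    · rw [← hZZ]; exact hpZ
    · exfalso
      apply hp
      exact Set.mem_iUnion.mpr ⟨⟨⟨Z, hZ⟩, hZZ⟩, hpZ⟩
  have hirr : IsIrreducible (Y₀ : Set Y) :=
    ⟨⟨y, hyY₀⟩, hZ₀mem.1.1.2.open_subset Y₀.2 hsub⟩
  refine ⟨Y₀, hyY₀, ?_⟩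
  haveI : IrreducibleSpace ↥(Y₀ : Scheme.{u}) := Subtype.irreducibleSpace hirr
  exact isIntegral_of_irreducibleSpace_of_isReduced _

/-- Over an integral open of the base containing a geometrically unibranch point `f z`, an
unramified morphism is étale on an irreducible open neighbourhood of `z`, provided `z` has a
generization above the generic point. -/
theorem exists_irreducible_etale_nhd (f : X ⟶ Y) [LocallyOfFiniteType f] [FormallyUnramified f]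
    (Y₀ : Y.Opens) [IsIntegral (Y₀ : Scheme.{u})] (z : X) (hz : f z ∈ Y₀)
    (hy : CAlg2.IsGeomUnibranch (Y.presheaf.stalk (f z)))
    (x' : X) (hx'z : x' ⤳ z) (hx' : f x' = Y₀.ι (genericPoint (Y₀ : Scheme.{u}))) :
    ∃ N : X.Opens, z ∈ N ∧ IsIrreducible (N : Set X) ∧ Etale (N.ι ≫ f) := by
  let X₀ : X.Opens := f ⁻¹ᵁ Y₀
  let f₀ : (X₀ : Scheme.{u}) ⟶ (Y₀ : Scheme.{u}) := f ∣_ Y₀
  have hf₀ : f₀ ≫ Y₀.ι = X₀.ι ≫ f := morphismRestrict_ι f Y₀
  let z₀ : (X₀ : Scheme.{u}) := ⟨z, hz⟩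
  have hf₀z₀ : Y₀.ι (f₀ z₀) = f z := by
    rw [← Scheme.Hom.comp_apply, hf₀, Scheme.Hom.comp_apply]
    rfl
  have hY₀ : CAlg2.IsGeomUnibranch ((Y₀ : Scheme.{u}).presheaf.stalk (f₀ z₀)) := by
    have h1 : CAlg2.IsGeomUnibranch (Y.presheaf.stalk (Y₀.ι (f₀ z₀))) := by
      rw [hf₀z₀]; exact hy
    exact isGeomUnibranch_of_ringEquiv
      (asIso (Y₀.ι.stalkMap (f₀ z₀))).symm.commRingCatIsoToRingEquiv h1
  have hx'X₀ : x' ∈ X₀ := by
    show f x' ∈ Y₀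
    rw [hx']
    exact (genericPoint (Y₀ : Scheme.{u})).2
  have hsp₀ : ∃ x'' : (X₀ : Scheme.{u}), x'' ⤳ z₀ ∧ f₀ x'' = genericPoint (Y₀ : Scheme.{u}) := by
    refine ⟨⟨x', hx'X₀⟩, ?_, ?_⟩
    · exact (X₀.ι.isOpenEmbedding.isInducing.specializes_iff
        (x := (⟨x', hx'X₀⟩ : (X₀ : Scheme.{u}))) (y := z₀)).mp hx'z
    · apply Y₀.ι.injective
      rw [← hx', ← Scheme.Hom.comp_apply, hf₀, Scheme.Hom.comp_apply]
      rfl
  haveI : FormallyUnramified f₀ := IsZariskiLocalAtTarget.restrict (P := @FormallyUnramified) ‹_› Y₀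
  haveI : LocallyOfFiniteType f₀ := IsZariskiLocalAtTarget.restrict (P := @LocallyOfFiniteType) ‹_› Y₀
  obtain ⟨W₀, hzW₀, hW₀⟩ := S1451_main f₀ z₀ hY₀ hsp₀ ⟨⊤, trivial,
    HasRingHomProperty.comp_of_isOpenImmersion @FormallyUnramified
      (⊤ : (X₀ : Scheme.{u}).Opens).ι f₀ inferInstance⟩
  obtain ⟨⟨N₀, hzN₀, hN₀⟩, -⟩ := exists_irreducible_nhd f₀ z₀ hY₀ ⟨W₀, hzW₀, hW₀⟩
  let N₁ : (X₀ : Scheme.{u}).Opens := N₀ ⊓ W₀
  have hN₁ : IsIrreducible (N₁ : Set (X₀ : Scheme.{u})) :=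
    ⟨⟨z₀, hzN₀, hzW₀⟩, hN₀.2.open_subset N₁.2 Set.inter_subset_left⟩
  have hN₁et : Etale (N₁.ι ≫ f₀) := etale_ι_of_le f₀ inf_le_right hW₀
  refine ⟨X₀.ι ''ᵁ N₁, ⟨z₀, ⟨hzN₀, hzW₀⟩, rfl⟩, ?_, ?_⟩
  · exact hN₁.image _ X₀.ι.continuous.continuousOn
  · apply etale_image_ι f X₀ N₁
    have h2 : N₁.ι ≫ X₀.ι ≫ f = (N₁.ι ≫ f₀) ≫ Y₀.ι := by
      rw [Category.assoc, hf₀]
    rw [h2]
    infer_instance

end Groth.Agent.Lead.UnSec
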