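import Mathlib
import Groth.Prelude
import Groth.Agent.Lib.Lead.UnSec3

/-!
# Sections of separated unramified morphisms over geometrically unibranch points: main results
-/

set_option autoImplicit false
set_option backward.isDefEq.respectTransparency.types false
set_option synthInstance.maxHeartbeats 400000
set_option linter.style.haveILetI false
set_option linter.unusedSectionVars false

universe u

open AlgebraicGeometry CategoryTheory Limits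

namespace Groth.Agent.Lead.UnSec

variable {X Y : Scheme.{u}}

/-- The image under the section of the generic point of an integral open `Y₀` of the base. -/
theorem exists_generic_lift (f : X ⟶ Y) (U : Y.Opens) (hU : Dense (U : Set Y))
    (u : (U : Scheme.{u}) ⟶ X) (hu : u ≫ f = U.ι)
    (Y₀ : Y.Opens) [IsIntegral (Y₀ : Scheme.{u})] :
    ∃ x' : X, x' ∈ Set.range u ∧ f x' = Y₀.ι (genericPoint (Y₀ : Scheme.{u})) ∧
      ∀ t : (U : Scheme.{u}), t.1 ∈ Y₀ → x' ⤳ u t := by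
  let η₀ : (Y₀ : Scheme.{u}) := genericPoint (Y₀ : Scheme.{u})
  have hne : ((Y₀ : Set Y) ∩ (U : Set Y)).Nonempty :=
    hU.inter_open_nonempty _ Y₀.2 ⟨Y₀.ι η₀, η₀.2⟩
  have hηU : Y₀.ι η₀ ∈ U := by
    have h1 : η₀ ∈ (Y₀.ι ⁻¹ᵁ U : (Y₀ : Scheme.{u}).Opens) := by
      apply ((genericPoint_spec (Y₀ : Scheme.{u})).mem_open_set_iff (Y₀.ι ⁻¹ᵁ U).2).mpr
      obtain ⟨p, hp1, hp2⟩ := hne
      exact ⟨⟨p, hp1⟩, trivial, hp2⟩
    exact h1
  let t₀ : (U : Scheme.{u}) := ⟨Y₀.ι η₀, hηU⟩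
  refine ⟨u t₀, ⟨t₀, rfl⟩, ?_, ?_⟩
  · rw [← Scheme.Hom.comp_apply, hu]
    rfl
  · intro t ht
    have h1 : η₀ ⤳ (⟨t.1, ht⟩ : (Y₀ : Scheme.{u})) := genericPoint_specializes _
    have h2 : Y₀.ι η₀ ⤳ Y₀.ι (⟨t.1, ht⟩ : (Y₀ : Scheme.{u})) := h1.map Y₀.ι.continuous
    have h3 : t₀ ⤳ t :=
      (U.ι.isOpenEmbedding.isInducing.specializes_iff (x := t₀) (y := t)).mp h2
    exact h3.map u.continuous

theorem S5994_main [IsReduced Y]
    (hcomp : LocallyFinite (fun Z : ↥(irreducibleComponents ↥Y) => (Z : Set ↥Y)))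
    (f : X ⟶ Y) [IsSeparated f] [LocallyOfFiniteType f] [FormallyUnramified f]
    (U : Y.Opens) (hU : Dense (U : Set ↥Y)) (u : (U : Scheme.{u}) ⟶ X) (hu : u ≫ f = U.ι)
    (y : Y) (hy : CAlg2.IsGeomUnibranch (Y.presheaf.stalk y))
    (hZ : (closure (Set.range u) ∩ f ⁻¹' {y}).Nonempty) :
    ∃ (V : Y.Opens) (v : (V : Scheme.{u}) ⟶ X), y ∈ V ∧ v ≫ f = V.ι ∧
      Y.homOfLE (inf_le_left : U ⊓ V ≤ U) ≫ u = Y.homOfLE (inf_le_right : U ⊓ V ≤ V) ≫ v := by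
  obtain ⟨z, hzcl, hzy⟩ := hZ
  have hzy' : f z = y := hzy
  subst hzy'
  obtain ⟨Y₀, hyY₀, hint⟩ := exists_integral_nhd hcomp (f z) hy
  haveI := hint
  obtain ⟨x', -, hx', hspec⟩ := exists_generic_lift f U hU u hu Y₀
  have hx'z : x' ⤳ z := by
    rw [specializes_iff_mem_closure, mem_closure_iff]
    intro O hO hzO
    obtain ⟨_, ⟨hpO, hpX₀⟩, ⟨t, rfl⟩⟩ := mem_closure_iff.mp hzcl (O ∩ (f ⁻¹ᵁ Y₀ : X.Opens))
      (hO.inter (f ⁻¹ᵁ Y₀).2) ⟨hzO, hyY₀⟩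
    have htY₀ : t.1 ∈ Y₀ := by
      have h1 : f (u t) ∈ Y₀ := hpX₀
      rw [← Scheme.Hom.comp_apply, hu] at h1
      exact h1
    exact ⟨x', (hspec t htY₀).mem_open hO hpO, rfl⟩
  obtain ⟨N, hzN, hNirr, hNet⟩ := exists_irreducible_etale_nhd f Y₀ z hyY₀ hy x' hx'z hx'
  haveI := hNet
  have hNu : ((N : Set X) ∩ Set.range u).Nonempty := mem_closure_iff.mp hzcl N N.2 hzN
  obtain ⟨V, v, hV, hvf, hagree⟩ := exists_section_of_irreducible_etale f U hU u hu N hNirr hNu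
  refine ⟨V, v, ?_, hvf, hagree⟩
  rw [← SetLike.mem_coe, hV]
  exact ⟨z, hzN, rfl⟩

theorem S5996_main [IsReduced Y]
    (hcomp : LocallyFinite (fun Z : ↥(irreducibleComponents ↥Y) => (Z : Set ↥Y)))
    (f : X ⟶ Y) [IsSeparated f] [LocallyOfFiniteType f] [FormallyUnramified f]
    (U : Y.Opens) (hU : Dense (U : Set ↥Y)) (u : (U : Scheme.{u}) ⟶ X) (hu : u ≫ f = U.ι)
    (hcl : ∀ T : Set ↥X, IsClosed T → IsIrreducible T → IsClosed (f '' T))
    (y : Y) (hy : CAlg2.IsGeomUnibranch (Y.presheaf.stalk y)) :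
    ∃ (V : Y.Opens) (v : (V : Scheme.{u}) ⟶ X), y ∈ V ∧ v ≫ f = V.ι ∧
      Y.homOfLE (inf_le_left : U ⊓ V ≤ U) ≫ u = Y.homOfLE (inf_le_right : U ⊓ V ≤ V) ≫ v := by
  apply S5994_main hcomp f U hU u hu y hy
  obtain ⟨Y₀, hyY₀, hint⟩ := exists_integral_nhd hcomp y hy
  haveI := hint
  obtain ⟨x', hx'r, hx', -⟩ := exists_generic_lift f U hU u hu Y₀
  have hT : IsClosed (f '' closure {x'}) :=
    hcl _ isClosed_closure isIrreducible_singleton.closure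
  have h1 : Y₀.ι (genericPoint (Y₀ : Scheme.{u})) ⤳ y := by
    have h2 : genericPoint (Y₀ : Scheme.{u}) ⤳ (⟨y, hyY₀⟩ : (Y₀ : Scheme.{u})) :=
      genericPoint_specializes _
    exact h2.map Y₀.ι.continuous
  have h3 : y ∈ f '' closure {x'} := by
    apply h1.mem_closed hT
    exact ⟨x', subset_closure rfl, hx'⟩
  obtain ⟨z, hz, hzy⟩ := h3
  refine ⟨z, ?_, hzy⟩
  exact closure_mono (Set.singleton_subset_iff.mpr hx'r) hz

theorem S5995_main [IsReduced Y]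
    (hcomp : LocallyFinite (fun Z : ↥(irreducibleComponents ↥Y) => (Z : Set ↥Y)))
    (f : X ⟶ Y) [IsSeparated f] [LocallyOfFiniteType f] [FormallyUnramified f]
    (U : Y.Opens) (hU : Dense (U : Set ↥Y)) (u : (U : Scheme.{u}) ⟶ X) (hu : u ≫ f = U.ι)
    (hY : ∀ y : Y, CAlg2.IsGeomUnibranch (Y.presheaf.stalk y))
    (hmax : ∀ (V : Y.Opens) (v : (V : Scheme.{u}) ⟶ X), v ≫ f = V.ι →
      Y.homOfLE (inf_le_left : U ⊓ V ≤ U) ≫ u = Y.homOfLE (inf_le_right : U ⊓ V ≤ V) ≫ v → V ≤ U) :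
    IsOpen (Set.range u) ∧ IsClosed (Set.range u) := by
  haveI : IsOpenImmersion (u ≫ f) := by rw [hu]; infer_instance
  haveI hopen : IsOpenImmersion u := isOpenImmersion_of_comp_unramified u f
  refine ⟨u.isOpenEmbedding.isOpen_range, ?_⟩
  rw [← closure_subset_iff_isClosed]
  intro z hz
  obtain ⟨V, v, hyV, hvf, hagree⟩ := S5994_main hcomp f U hU u hu (f z) (hY _) ⟨z, hz, rfl⟩
  exact mem_range_of_mem_closure f U u hu z hz (hmax V v hvf hagree hyV)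

end Groth.Agent.Lead.UnSec
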