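import Mathlib
import Groth.Agent.Lib.Lead.CanonDesc
import Groth.Agent.Lib.Lead.BasisIso
import Groth.Agent.Lib.Helper1.PullGen2
import Groth.Agent.Lib.Helper4.FibFunc1
import Groth.Agent.Lib.Helper4.Seesaw1
import Groth.Agent.Lib.Lead.SeesawCor

set_option backward.isDefEq.respectTransparency.types false
set_option synthInstance.maxHeartbeats 400000
set_option autoImplicit false
set_option linter.style.haveILetI false
universe u
open CategoryTheory CategoryTheory.Limits AlgebraicGeometry TopologicalSpace Opposite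

namespace Groth.Agent.Lead.UnitInv

open Groth.Agent.Helper1 Groth.Agent.Helper1.LGen Groth.Agent.Helper1.PullSec
  Groth.Agent.Helper1.PullGen Groth.Agent.Helper1.QcCech

variable {X Y : Scheme.{u}} (f : X ⟶ Y)

/-- the unit `M ⟶ f_* f^* M` is an isomorphism for invertible `M` when `𝒪_Y ≅ f_* 𝒪_X` locally -/
theorem isIso_unit_of_isInvertible
    (hf : ∀ y : Y, ∃ U : Y.Opens, y ∈ U ∧ ∀ V : Y.Opens, V ≤ U → Function.Bijective (f.app V))
    (M : Y.Modules) (hM : PicF.IsInvertible M) :
    IsIso ((Scheme.Modules.pullbackPushforwardAdjunction f).unit.app M) := by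
  let B : Set Y.Opens := {V | (∃ b : Γ(M, V), IsGen M V b) ∧ Function.Bijective (f.app V)}
  have hB : Opens.IsBasis B := by
    rw [Opens.isBasis_iff_nbhd]
    intro V' y hy
    obtain ⟨W, a, hyW, ha⟩ := exists_isGen hM y
    obtain ⟨U, hyU, hU⟩ := hf y
    refine ⟨V' ⊓ W ⊓ U, ⟨⟨res M (inf_le_left.trans inf_le_right) a, ha.res _⟩,
      hU _ inf_le_right⟩, ⟨⟨hy, hyW⟩, hyU⟩, inf_le_left.trans inf_le_left⟩
  apply Groth.Agent.Lead.BasisIso.isIso_of_bijective_basis _ hB
  rintro V ⟨⟨b, hb⟩, hV⟩
  have h1 : IsGen ((Scheme.Modules.pullback f).obj M) (f ⁻¹ᵁ V) (σ f M V b) := isGen_σ f hb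
  have h2 := h1 (f ⁻¹ᵁ V) le_rfl
  have h3 := hb V le_rfl
  have key : ∀ r : Γ(Y, V), ((Scheme.Modules.pullbackPushforwardAdjunction f).unit.app M).app V
      (r • res M (le_refl V) b) =
      (f.app V).hom r • res ((Scheme.Modules.pullback f).obj M) (le_refl (f ⁻¹ᵁ V)) (σ f M V b) := by
    intro r
    have e1 : res M (le_refl V) b = b := res_self M (le_refl V) b
    have e2 : res ((Scheme.Modules.pullback f).obj M) (le_refl (f ⁻¹ᵁ V)) (σ f M V b) =
      σ f M V b := res_self _ (le_refl _) _
    rw [e1, e2]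
    exact σ_smul f M V r b
  constructor
  · intro m m' hmm
    obtain ⟨r, rfl⟩ := h3.2 m
    obtain ⟨r', rfl⟩ := h3.2 m'
    have : (f.app V).hom r = (f.app V).hom r' := by
      apply h2.1
      show (f.app V).hom r • _ = (f.app V).hom r' • _
      rw [← key, ← key]
      exact hmm
    rw [hV.1 this]
  · intro t
    obtain ⟨r', hr'⟩ := h2.2 t
    obtain ⟨r, rfl⟩ := hV.2 r'
    refine ⟨r • res M (le_refl V) b, ?_⟩
    rw [key]
    exact hr'


/-- `𝒪_Y ≅ f_* 𝒪_X` locally, for proper flat `f` with geometrically connected and reduced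
fibres -/
theorem exists_nhd_app_bijective [IsProper f] [Flat f] [IsLocallyNoetherian Y]
    [GeometricallyConnected f] [GeometricallyReduced f] (y : Y) :
    ∃ U : Y.Opens, y ∈ U ∧ ∀ V : Y.Opens, V ≤ U → Function.Bijective (f.app V) := by
  obtain ⟨U, hyU, hU⟩ := Groth.Agent.Lib.Helper4.FibFunc1.s2393 f y
    (Groth.Agent.Lib.Helper4.Seesaw1.bijective_algebraMap_of_finrank f y
      (Groth.Agent.Lead.SeesawCor.finrank_fiber_eq_one f y))
  refine ⟨U, hyU, fun V hV => ?_⟩
  have := hU V hV
  exact (ConcreteCategory.isIso_iff_bijective _).1 this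

theorem s15938 {X S : Scheme.{u}} [IsLocallyNoetherian S] (f : X ⟶ S)
    (hproj : RedSub.IsLocallyProjective (Over.mk f))
    (n : ℕ) [SmoothOfRelativeDimension n f] [GeometricallyConnected f]
    (ω : X.Modules) (hω : Canon.IsTopDiff f n ω) (m : ℕ)
    (hev : IsIso ((Scheme.Modules.pullbackPushforwardAdjunction f).counit.app (CohB1.tensorPow ω m)))
    {S' : Scheme.{u}} [IsLocallyNoetherian S'] (g : S' ⟶ S) :
    IsIso (((Scheme.Modules.pullbackPushforwardAdjunction (pullback.snd f g)).homEquiv _ _)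
      ((Scheme.Modules.pullbackComp (pullback.snd f g) g).hom.app _ ≫
        (Scheme.Modules.pullbackCongr (pullback.condition (f := f) (g := g))).inv.app _ ≫
        (Scheme.Modules.pullbackComp (pullback.fst f g) f).inv.app _ ≫
        (Scheme.Modules.pullback (pullback.fst f g)).map
          ((Scheme.Modules.pullbackPushforwardAdjunction f).counit.app (CohB1.tensorPow ω m)))) := by
  haveI : Smooth f := SmoothOfRelativeDimension.smooth n f
  haveI : IsProper f := Groth.Agent.Lead.CanonSeesaw.isProper_of_isLocallyProjective f hproj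
  have hNinv := Groth.Agent.Lead.CanonDesc.s15936 f hproj n ω hω m hev
  have hMinv := Groth.Agent.Helper1.PullGen.isInvertible_pullback g hNinv
  haveI : GeometricallyReduced (pullback.snd f g) :=
    Groth.Agent.Lib.Helper4.SecNbhd5.geometricallyReduced_of_smooth _
  haveI := Groth.Agent.Lead.UnitInv.isIso_unit_of_isInvertible (pullback.snd f g)
    (exists_nhd_app_bijective (pullback.snd f g)) _ hMinv
  haveI := hev
  rw [Adjunction.homEquiv_unit]
  infer_instance

end Groth.Agent.Lead.UnitInv
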