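import Mathlib
import Groth.Prelude.Def_UnitsSh
import Groth.Prelude.Def_Coh
import Groth.Agent.Lib.Lead.AbShExact
import Groth.Agent.Lib.Helper1.IdealModL

/-!
# The units exact sequence of a square-zero thickening (lead)
-/

set_option autoImplicit false
set_option linter.style.haveILetI false
universe u
open CategoryTheory CategoryTheory.Limits AlgebraicGeometry TopologicalSpace Opposite

namespace Groth.Agent.Lead.UnitsSq

open Groth.Agent.Helper1 Groth.Agent.Helper1.IdealModL

variable {X : Scheme.{u}} (J : X.IdealSheafData)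

/-- the function underlying a section of the ideal -/
noncomputable def val (U : X.Opens) (f : Γ(ClSub.idealMod J, U)) : Γ(X, U) :=
  (ClSub.idealModι J).app U f

theorem val_add (U : X.Opens) (f g : Γ(ClSub.idealMod J, U)) :
    val J U (f + g) = val J U f + val J U g := map_add _ _ _

theorem val_zero (U : X.Opens) : val J U 0 = 0 := map_zero _

theorem val_injective (U : X.Opens) : Function.Injective (val J U) := ι_injective J U

theorem app_val (U : X.Opens) (f : Γ(ClSub.idealMod J, U)) :
    (J.subschemeι.app U).hom (val J U f) = 0 := toSubscheme_ι J U f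

theorem exists_val (U : X.Opens) (r : Γ(X, U)) (hr : (J.subschemeι.app U).hom r = 0) :
    ∃ y : Γ(ClSub.idealMod J, U), val J U y = r := exists_of_app_eq_zero J U r hr

/-- products of functions in the kernel vanish on affine opens -/
theorem mul_eq_zero_affine (hJ : J * J = ⊥) (V : X.affineOpens) (a b : Γ(X, V.1))
    (ha : (J.subschemeι.app V.1).hom a = 0) (hb : (J.subschemeι.app V.1).hom b = 0) :
    a * b = 0 := by
  have ha' : a ∈ J.ideal V := by
    rw [← J.ker_subschemeι_app V]
    exact ha
  have hb' : b ∈ J.ideal V := by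
    rw [← J.ker_subschemeι_app V]
    exact hb
  have h1 : a * b ∈ (J * J).ideal V := by
    rw [Scheme.IdealSheafData.ideal_mul]
    exact Ideal.mul_mem_mul ha' hb'
  rw [hJ] at h1
  exact h1

theorem app_res {U V : X.Opens} (hVU : V ≤ U) (a : Γ(X, U))
    (ha : (J.subschemeι.app U).hom a = 0) :
    (J.subschemeι.app V).hom (X.presheaf.map (homOfLE hVU).op a) = 0 := by
  have h1 := congr($(J.subschemeι.naturality (homOfLE hVU).op) a)
  refine h1.trans ?_
  change (J.subscheme.presheaf.map _).hom ((J.subschemeι.app U).hom a) = 0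
  rw [ha, map_zero]

/-- products of functions in the kernel vanish -/
theorem mul_eq_zero_of_app (hJ : J * J = ⊥) (U : X.Opens) (a b : Γ(X, U))
    (ha : (J.subschemeι.app U).hom a = 0) (hb : (J.subschemeι.app U).hom b = 0) :
    a * b = 0 := by
  apply TopCat.Presheaf.section_ext X.sheaf U
  intro x hx
  obtain ⟨_, ⟨V, hV, rfl⟩, hxV, hVU⟩ := X.isBasis_affineOpens.exists_subset_of_mem_open
    hx U.isOpen
  have hVU' : V ≤ U := hVU
  have h1 := mul_eq_zero_affine J hJ ⟨V, hV⟩ _ _ (app_res J hVU' a ha) (app_res J hVU' b hb)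
  rw [← map_mul] at h1
  have h2 := TopCat.Presheaf.germ_res_apply X.presheaf (homOfLE hVU') x hxV (a * b)
  change (X.presheaf.germ U x hx).hom (a * b) = (X.presheaf.germ U x hx).hom 0
  rw [map_zero]
  refine h2.symm.trans ?_
  change (X.presheaf.germ V x hxV).hom (X.presheaf.map (homOfLE hVU').op (a * b)) = 0
  rw [h1, map_zero]

theorem val_mul_val (hJ : J * J = ⊥) (U : X.Opens) (f g : Γ(ClSub.idealMod J, U)) :
    val J U f * val J U g = 0 :=
  mul_eq_zero_of_app J hJ U _ _ (app_val J U f) (app_val J U g)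

/-- the unit `1 + f` -/
noncomputable def expUnit (hJ : J * J = ⊥) (U : X.Opens) (f : Γ(ClSub.idealMod J, U)) :
    (Γ(X, U))ˣ where
  val := 1 + val J U f
  inv := 1 - val J U f
  val_inv := by
    have h := val_mul_val J hJ U f f
    linear_combination (-1 : Γ(X, U)) * h
  inv_val := by
    have h := val_mul_val J hJ U f f
    linear_combination (-1 : Γ(X, U)) * h

theorem expUnit_add (hJ : J * J = ⊥) (U : X.Opens) (f g : Γ(ClSub.idealMod J, U)) :
    expUnit J hJ U (f + g) = expUnit J hJ U f * expUnit J hJ U g := by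
  apply Units.ext
  change 1 + val J U (f + g) = (1 + val J U f) * (1 + val J U g)
  rw [val_add]
  have h := val_mul_val J hJ U f g
  linear_combination (-1 : Γ(X, U)) * h

theorem expUnit_zero (hJ : J * J = ⊥) (U : X.Opens) : expUnit J hJ U 0 = 1 := by
  apply Units.ext
  change 1 + val J U 0 = 1
  rw [val_zero, add_zero]

theorem val_map {U V : (Opens X)ᵒᵖ} (i : U ⟶ V) (f : Γ(ClSub.idealMod J, U.unop)) :
    val J V.unop (((ClSub.idealMod J).presheaf.map i).hom f) =
      (X.presheaf.map i).hom (val J U.unop f) :=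
  ConcreteCategory.congr_hom ((ClSub.idealModι J).mapPresheaf.naturality i) f

/-- `f ↦ 1 + f` on sections -/
noncomputable def expHom (hJ : J * J = ⊥) (U : X.Opens) :
    Γ(ClSub.idealMod J, U) →+ Additive (Γ(X, U))ˣ where
  toFun f := Additive.ofMul (expUnit J hJ U f)
  map_zero' := by rw [expUnit_zero]; rfl
  map_add' f g := by rw [expUnit_add]; rfl

/-- the morphism of abelian sheaves `J ⟶ O_X^×`, `f ↦ 1 + f` -/
noncomputable def expSh (hJ : J * J = ⊥) : Coh.toAb (ClSub.idealMod J) ⟶ UnitsSh.unitsAb X :=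
  ⟨{ app := fun U => AddCommGrpCat.ofHom (expHom J hJ U.unop)
     naturality := by
       intro U V i
       ext f
       apply Units.ext
       have h1 := val_map J i f
       change 1 + val J V.unop (((ClSub.idealMod J).presheaf.map i).hom f) =
         (X.presheaf.map i).hom (1 + val J U.unop f)
       rw [map_add, map_one]
       exact congrArg (fun z => 1 + z) h1 }⟩

theorem expSh_app (hJ : J * J = ⊥) (U : X.Opens) (f : (ClSub.idealMod J).val.obj (op U)) :
    (UnitsSh.unitOfSect ((expSh J hJ).hom.app (op U) f)).val =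
      1 + (show X.sheaf.obj.obj (op U) from (ClSub.idealModι J).val.app (op U) f) := rfl

theorem map_expUnit (hJ : J * J = ⊥) (U : X.Opens) (f : Γ(ClSub.idealMod J, U)) :
    Units.map (J.subschemeι.app U).hom.toMonoidHom (expUnit J hJ U f) = 1 := by
  apply Units.ext
  change (J.subschemeι.app U).hom (1 + val J U f) = 1
  rw [map_add, map_one, app_val, add_zero]

theorem expSh_comap (hJ : J * J = ⊥) : expSh J hJ ≫ UnitsSh.comap J.subschemeι = 0 := by
  apply Sheaf.hom_ext
  ext U f
  have h1 := map_expUnit J hJ U.unop f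
  change Additive.ofMul (Units.map (J.subschemeι.app U.unop).hom.toMonoidHom
    (expUnit J hJ U.unop f)) = 0
  exact congrArg Additive.ofMul h1

theorem exists_unit_lift {A B : Type*} [CommRing A] [CommRing B] (φ : A →+* B)
    (hφ : Function.Surjective φ) (hk : ∀ a b : A, φ a = 0 → φ b = 0 → a * b = 0) (v : Bˣ) :
    ∃ u : Aˣ, Units.map φ.toMonoidHom u = v := by
  obtain ⟨r, hr⟩ := hφ v.val
  obtain ⟨r', hr'⟩ := hφ v.inv
  have hn : φ (r * r' - 1) = 0 := by
    rw [map_sub, map_mul, map_one, hr, hr', v.val_inv, sub_self]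
  have hnn := hk _ _ hn hn
  refine ⟨⟨r, r' * (1 - (r * r' - 1)), ?_, ?_⟩, ?_⟩
  · linear_combination (-1 : A) * hnn
  · linear_combination (-1 : A) * hnn
  · apply Units.ext
    exact hr

theorem expHom_injective (hJ : J * J = ⊥) (U : X.Opens) :
    Function.Injective (expHom J hJ U) := by
  intro f g h
  have h1 : expUnit J hJ U f = expUnit J hJ U g := h
  have h2 : (1 : Γ(X, U)) + val J U f = 1 + val J U g := congrArg Units.val h1
  exact val_injective J U (add_left_cancel h2)

theorem exists_expUnit_eq (hJ : J * J = ⊥) (U : X.Opens) (u : (Γ(X, U))ˣ)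
    (hu : Units.map (J.subschemeι.app U).hom.toMonoidHom u = 1) :
    ∃ y : Γ(ClSub.idealMod J, U), expUnit J hJ U y = u := by
  have h1 : (J.subschemeι.app U).hom u.val = 1 := congrArg Units.val hu
  have h2 : (J.subschemeι.app U).hom (u.val - 1) = 0 := by
    rw [map_sub, map_one, h1, sub_self]
  obtain ⟨y, hy⟩ := exists_val J U _ h2
  refine ⟨y, ?_⟩
  apply Units.ext
  change 1 + val J U y = u.val
  rw [hy]
  ring

theorem exists_unit_lift_affine (hJ : J * J = ⊥) (V : X.affineOpens)
    (v : (Γ(J.subscheme, J.subschemeι ⁻¹ᵁ V.1))ˣ) :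
    ∃ u : (Γ(X, V.1))ˣ, Units.map (J.subschemeι.app V.1).hom.toMonoidHom u = v :=
  exists_unit_lift (J.subschemeι.app V.1).hom (J.subschemeι_app_surjective V)
    (fun a b ha hb => mul_eq_zero_of_app J hJ V.1 a b ha hb) v

theorem shortExact (hJ : J * J = ⊥) :
    (ShortComplex.mk (expSh J hJ) (UnitsSh.comap J.subschemeι) (expSh_comap J hJ)).ShortExact := by
  apply Groth.Agent.Lead.AbShExact.shortExact_of_sections
  · intro U
    exact expHom_injective J hJ U
  · intro U x hx
    have hx' : Units.map (J.subschemeι.app U).hom.toMonoidHom (UnitsSh.unitOfSect x) = 1 :=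
      congrArg Additive.toMul hx
    obtain ⟨y, hy⟩ := exists_expUnit_eq J hJ U (UnitsSh.unitOfSect x) hx'
    exact ⟨y, congrArg Additive.ofMul hy⟩
  · intro U t x hxU
    obtain ⟨_, ⟨V, hV, rfl⟩, hxV, hVU⟩ := X.isBasis_affineOpens.exists_subset_of_mem_open
      hxU U.isOpen
    have hVU' : V ≤ U := hVU
    refine ⟨V, hVU', hxV, ?_⟩
    obtain ⟨u, hu⟩ := exists_unit_lift_affine J hJ ⟨V, hV⟩
      (UnitsSh.unitOfSect
        (((CohTop.push J.subschemeι.base).obj (UnitsSh.unitsAb J.subscheme)).obj.map
          (homOfLE hVU').op t))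
    exact ⟨UnitsSh.sectOfUnit u, congrArg Additive.ofMul hu⟩

end Groth.Agent.Lead.UnitsSq
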