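import Mathlib
import Groth.Prelude
import Groth.Agent.Lib.Helper2.Formal.EtaleHom
import Groth.Agent.Lib.Helper2.AlgSp.FormalEtaleChar

set_option autoImplicit false
set_option backward.isDefEq.respectTransparency.types false
set_option synthInstance.maxHeartbeats 400000
set_option linter.style.haveILetI false
set_option linter.unusedSectionVars false

universe u

open CategoryTheory CategoryTheory.Limits AlgebraicGeometry TopologicalSpace IsLocalRing Opposite

namespace Groth.Agent.Lead.UnrFlat1

/-- A flat quotient map is formally etale. -/
theorem formallyEtale_of_surjective_of_flat {A B : Type u} [CommRing A] [CommRing B] [Algebra A B]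
    (h : Function.Surjective (algebraMap A B)) [Module.Flat A B] : Algebra.FormallyEtale A B := by
  rw [Algebra.FormallyEtale.iff_of_surjective h]
  have e : (A ⧸ RingHom.ker (algebraMap A B)) ≃ₗ[A] B :=
    (Ideal.quotientKerAlgEquivOfSurjective (f := Algebra.ofId A B) h).toLinearEquiv
  haveI : (RingHom.ker (algebraMap A B)).Pure := Module.Flat.of_linearEquiv e
  exact Ideal.isIdempotentElem_of_pure _

/-- A flat, formally unramified algebra of finite type is formally etale. -/
theorem formallyEtale_of_flat_of_unramified {R S : Type u} [CommRing R] [CommRing S] [Algebra R S]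
    [Algebra.FiniteType R S] [Algebra.FormallyUnramified R S] [Module.Flat R S] :
    Algebra.FormallyEtale R S := by
  rw [← Algebra.etaleLocus_eq_univ_iff, Set.eq_univ_iff_forall]
  intro Q
  obtain ⟨f, hf, P, φ, hφ⟩ :=
    Algebra.IsUnramifiedAt.exists_hasStandardEtaleSurjectionOn (R := R) Q.asIdeal
  suffices h : Algebra.FormallyEtale R (Localization.Away f) from
    (Algebra.basicOpen_subset_etaleLocus_iff.mpr h) hf
  letI : Algebra P.Ring (Localization.Away f) := φ.toRingHom.toAlgebra
  haveI : IsScalarTower R P.Ring (Localization.Away f) :=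
    .of_algebraMap_eq' φ.comp_algebraMap.symm
  haveI : Module.Flat R (Localization.Away f) := Module.Flat.trans R S _
  haveI : Module.Flat P.Ring (Localization.Away f) :=
    Algebra.FormallyUnramified.flat_of_restrictScalars R P.Ring _
  haveI : Algebra.FormallyEtale P.Ring (Localization.Away f) :=
    formallyEtale_of_surjective_of_flat hφ
  exact Algebra.FormallyEtale.comp R P.Ring _

/-- A flat morphism locally of finite type which is formally unramified is formally etale
(in the sense of unique infinitesimal lifting). -/
theorem isFormallyEtaleHom_of_flat_of_unramified {X Y : Scheme.{u}} (f : X ⟶ Y)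
    [LocallyOfFiniteType f] [FormallyUnramified f] [Flat f] : MoreMor.IsFormallyEtaleHom f := by
  apply Groth.Agent.Helper2.FormalLib.isFormallyEtaleHom_of_locFEt
  intro U V hU hV hUV
  have h1 : (f.appLE V U hUV).hom.FiniteType := f.finiteType_appLE hV hU hUV
  have h2 : (f.appLE V U hUV).hom.FormallyUnramified := f.formallyUnramified_appLE hV hU hUV
  have h3 : (f.appLE V U hUV).hom.Flat := f.flat_appLE hV hU hUV
  algebraize [(f.appLE V U hUV).hom]
  exact formallyEtale_of_flat_of_unramified

open AlgSp in
theorem S10626_main {S : Scheme.{u}} {X Y : AlgSp.Space S} (f : X ⟶ Y)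
    (h1 : AlgSp.LocP (@LocallyOfFiniteType ⊓ @FormallyUnramified) f.hom)
    (h2 : AlgSp.LocP @Flat f.hom) :
    AlgSp.IsFormallyEtaleMor f.hom := by
  rw [Groth.Agent.Helper2.AlgSpFormal.isFormallyEtaleMor_iff_locP X.property Y.property f.hom]
  intro U V a b h ha hb comm
  haveI : LocallyOfFiniteType h.left := (h1 a b h ha hb comm).1
  haveI : FormallyUnramified h.left := (h1 a b h ha hb comm).2
  haveI : Flat h.left := h2 a b h ha hb comm
  exact isFormallyEtaleHom_of_flat_of_unramified h.left

end Groth.Agent.Lead.UnrFlat1
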