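import Mathlib
import Groth.Agent.Lib.Lead.UnrSec1
import Groth.Agent.Lib.Lead.UnrSec2
import Groth.Agent.Lib.Lead.UnrSec3
import Groth.Agent.Lib.Lead.UnrSec4
import Groth.Prelude.Def_Pi1

set_option autoImplicit false
set_option backward.isDefEq.respectTransparency.types false
set_option synthInstance.maxHeartbeats 400000
set_option linter.style.haveILetI false
set_option linter.unusedSectionVars false

universe u

open CategoryTheory AlgebraicGeometry Limits TopologicalSpace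

namespace Groth.Agent.Lead.UnrSec

theorem isReduced_of_normal {S : Scheme.{u}} (hS : Pi1.IsNormalScheme S) : IsReduced S := by
  haveI : ∀ x : S, _root_.IsReduced (S.presheaf.stalk x) := fun x => by
    haveI := (hS x).1
    infer_instance
  exact isReduced_of_isReduced_stalk S

/-- Local extension of a rational section near a point. -/
theorem exists_local_section {Z S : Scheme.{u}} (f : Z ⟶ S)
    [IsLocallyNoetherian S] (hS : Pi1.IsNormalScheme S) [IsSeparated f] [FormallyUnramified f]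
    [LocallyOfFiniteType f]
    (hfp : ValuativeCriterion.Existence f) (U : S.Opens) (hU : Dense (U : Set S)) (v : ↑U ⟶ Z)
    (hv : v ≫ f = U.ι) (s : S) :
    ∃ (W : S.Opens) (w : ↑W ⟶ Z), s ∈ W ∧ w ≫ f = W.ι ∧
      S.homOfLE (inf_le_right : U ⊓ W ≤ W) ≫ w = S.homOfLE (inf_le_left : U ⊓ W ≤ U) ≫ v := by
  classical
  haveI := (hS s).1
  haveI := (hS s).2
  haveI := isReduced_of_normal hS
  obtain ⟨S', hs, hS', hinj⟩ := S.exists_germ_injective s
  let OK : S.presheaf.stalk s ⟶ CommRingCat.of (FractionRing (S.presheaf.stalk s)) :=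
    CommRingCat.ofHom (algebraMap (S.presheaf.stalk s) (FractionRing (S.presheaf.stalk s)))
  obtain ⟨ιK, hιK⟩ : ∃ ιK : Spec (CommRingCat.of (FractionRing (S.presheaf.stalk s))) ⟶ S,
    ιK = Spec.map OK ≫ S.fromSpecStalk s := ⟨_, rfl⟩
  have hcl : ∀ x, (S' : Set S) ⊆ closure {ιK x} := fun x => by
    rw [hιK]; exact subset_closure_generic s hS' hs hinj x
  have hmem : ∀ (U' : S.Opens), ((U' : Set S) ∩ S').Nonempty → ∀ x, ιK x ∈ U' := fun U' hne x =>
    mem_of_subset_closure (hcl x) U'.2 hne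
  have hneU : ((U : Set S) ∩ S').Nonempty := by
    have := hU.inter_open_nonempty S' S'.2 ⟨s, hs⟩
    rwa [Set.inter_comm] at this
  have hrU : Set.range ιK ⊆ Set.range U.ι := by
    rw [Scheme.Opens.range_ι]
    rintro _ ⟨x, rfl⟩
    exact hmem U hneU x
  have hφK : (IsOpenImmersion.lift U.ι ιK hrU ≫ v) ≫ f = Spec.map OK ≫ S.fromSpecStalk s := by
    rw [Category.assoc, hv, IsOpenImmersion.lift_fac, hιK]
  obtain ⟨φ, hφ1, hφ2⟩ := exists_stalk_section f s hfp _ hφK
  obtain ⟨W, hsW, w, hφw, hwf⟩ := spread_out_of_isGermInjective' (𝟙 S) f φ (by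
    rw [hφ1, Category.comp_id])
  rw [Category.comp_id] at hwf
  refine ⟨W ⊓ S', S.homOfLE inf_le_left ≫ w, ⟨hsW, hs⟩, ?_, ?_⟩
  · rw [Category.assoc, hwf, Scheme.homOfLE_ι]
  -- agreement
  have hneW : (((W ⊓ S' : S.Opens) : Set S) ∩ S').Nonempty := ⟨s, ⟨hsW, hs⟩, hs⟩
  have hrT : Set.range ιK ⊆ Set.range (U ⊓ (W ⊓ S')).ι := by
    rw [Scheme.Opens.range_ι]
    rintro _ ⟨x, rfl⟩
    exact ⟨hmem U hneU x, hmem (W ⊓ S') hneW x⟩
  haveI : IsReduced ↑(U ⊓ (W ⊓ S')) := isReduced_of_isOpenImmersion (U ⊓ (W ⊓ S')).ι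
  haveI : IsDominant (IsOpenImmersion.lift (U ⊓ (W ⊓ S')).ι ιK hrT) := by
    refine ⟨fun t => ?_⟩
    obtain ⟨x0⟩ : Nonempty ↥(Spec (CommRingCat.of (FractionRing (S.presheaf.stalk s)))) :=
      inferInstance
    have hsub : ({IsOpenImmersion.lift (U ⊓ (W ⊓ S')).ι ιK hrT x0} :
        Set ↥((U ⊓ (W ⊓ S') : S.Opens) : Scheme.{u})) ⊆
        Set.range (IsOpenImmersion.lift (U ⊓ (W ⊓ S')).ι ιK hrT) := by
      rintro _ rfl
      exact ⟨x0, rfl⟩
    refine closure_mono hsub ?_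
    rw [← specializes_iff_mem_closure]
    rw [← (U ⊓ (W ⊓ S')).ι.isOpenEmbedding.isInducing.specializes_iff, ← Scheme.Hom.comp_apply,
      IsOpenImmersion.lift_fac, specializes_iff_mem_closure]
    exact hcl x0 t.2.2.2
  refine ext_of_isDominant_of_isSeparated f ?_ (IsOpenImmersion.lift (U ⊓ (W ⊓ S')).ι ιK hrT) ?_
  · simp only [Category.assoc]
    rw [hwf, hv, Scheme.homOfLE_ι, Scheme.homOfLE_ι, Scheme.homOfLE_ι]
  · have h1 : IsOpenImmersion.lift (U ⊓ (W ⊓ S')).ι ιK hrT ≫ S.homOfLE inf_le_right ≫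
        S.homOfLE inf_le_left = Spec.map OK ≫ W.fromSpecStalkOfMem s hsW := by
      rw [← cancel_mono W.ι, Category.assoc, Category.assoc, Scheme.homOfLE_ι, Scheme.homOfLE_ι,
        IsOpenImmersion.lift_fac, Category.assoc, Scheme.Opens.fromSpecStalkOfMem_ι, hιK]
    have h2 : IsOpenImmersion.lift (U ⊓ (W ⊓ S')).ι ιK hrT ≫ S.homOfLE inf_le_left =
        IsOpenImmersion.lift U.ι ιK hrU := by
      rw [← cancel_mono U.ι, Category.assoc, Scheme.homOfLE_ι, IsOpenImmersion.lift_fac,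
        IsOpenImmersion.lift_fac]
    rw [← Category.assoc, ← Category.assoc, Category.assoc _ _ (S.homOfLE _), h1, ← Category.assoc, h2,
      Category.assoc, ← hφw]
    exact hφ2

end Groth.Agent.Lead.UnrSec
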