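import Mathlib
import Groth.Agent.Lib.Lead.UnrSec5
import Groth.Prelude.Def_Pi1

set_option autoImplicit false
set_option backward.isDefEq.respectTransparency.types false
set_option synthInstance.maxHeartbeats 400000
set_option linter.style.haveILetI false
set_option linter.unusedSectionVars false

universe u

open CategoryTheory AlgebraicGeometry Limits TopologicalSpace

namespace Groth.Agent.Lead.UnrSec

/-- agreement on `U ⊓ W` in the general form -/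
theorem agree_general {Z S : Scheme.{u}} {U W : S.Opens} (v : ↑U ⟶ Z) (w : ↑W ⟶ Z)
    (h : S.homOfLE (inf_le_right : U ⊓ W ≤ W) ≫ w = S.homOfLE (inf_le_left : U ⊓ W ≤ U) ≫ v)
    {T : Scheme.{u}} (p : T ⟶ ↑U) (q : T ⟶ ↑W) (hpq : p ≫ U.ι = q ≫ W.ι) : q ≫ w = p ≫ v := by
  have hr : Set.range (p ≫ U.ι) ⊆ Set.range (U ⊓ W).ι := by
    rw [Scheme.Opens.range_ι]
    rintro _ ⟨t, rfl⟩
    refine ⟨?_, ?_⟩
    · rw [Scheme.Hom.comp_apply]; exact (p t).2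
    · rw [hpq, Scheme.Hom.comp_apply]; exact (q t).2
  have hp : p = IsOpenImmersion.lift (U ⊓ W).ι (p ≫ U.ι) hr ≫ S.homOfLE inf_le_left := by
    rw [← cancel_mono U.ι, Category.assoc, Scheme.homOfLE_ι, IsOpenImmersion.lift_fac]
  have hq : q = IsOpenImmersion.lift (U ⊓ W).ι (p ≫ U.ι) hr ≫ S.homOfLE inf_le_right := by
    rw [← cancel_mono W.ι, Category.assoc, Scheme.homOfLE_ι, IsOpenImmersion.lift_fac, hpq]
  rw [hp, hq, Category.assoc, Category.assoc, h]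

/-- two sections agreeing with `v` on the dense open `U` agree on the overlap -/
theorem overlap_eq {Z S : Scheme.{u}} (f : Z ⟶ S) [IsReduced S] [IsSeparated f]
    (U : S.Opens) (hU : Dense (U : Set S)) (v : ↑U ⟶ Z)
    {W₁ W₂ : S.Opens} (w₁ : ↑W₁ ⟶ Z) (w₂ : ↑W₂ ⟶ Z)
    (hf₁ : w₁ ≫ f = W₁.ι) (hf₂ : w₂ ≫ f = W₂.ι)
    (h₁ : S.homOfLE (inf_le_right : U ⊓ W₁ ≤ W₁) ≫ w₁ = S.homOfLE (inf_le_left : U ⊓ W₁ ≤ U) ≫ v)
    (h₂ : S.homOfLE (inf_le_right : U ⊓ W₂ ≤ W₂) ≫ w₂ = S.homOfLE (inf_le_left : U ⊓ W₂ ≤ U) ≫ v) :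
    pullback.fst W₁.ι W₂.ι ≫ w₁ = pullback.snd W₁.ι W₂.ι ≫ w₂ := by
  haveI : IsReduced (pullback W₁.ι W₂.ι) :=
    isReduced_of_isOpenImmersion (pullback.fst W₁.ι W₂.ι ≫ W₁.ι)
  let T' : (pullback W₁.ι W₂.ι).Opens := (pullback.fst W₁.ι W₂.ι ≫ W₁.ι) ⁻¹ᵁ U
  haveI : IsDominant T'.ι := by
    refine ⟨?_⟩
    rw [DenseRange, Scheme.Opens.range_ι]
    exact hU.preimage (pullback.fst W₁.ι W₂.ι ≫ W₁.ι).isOpenEmbedding.isOpenMap
  refine ext_of_isDominant_of_isSeparated f ?_ T'.ι ?_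
  · rw [Category.assoc, Category.assoc, hf₁, hf₂, pullback.condition]
  · have hr : Set.range (T'.ι ≫ pullback.fst W₁.ι W₂.ι ≫ W₁.ι) ⊆ Set.range U.ι := by
      rw [Scheme.Opens.range_ι]
      rintro _ ⟨t, rfl⟩
      exact t.2
    have e1 := agree_general v w₁ h₁ (IsOpenImmersion.lift U.ι _ hr) (T'.ι ≫ pullback.fst W₁.ι W₂.ι)
      (by rw [IsOpenImmersion.lift_fac, Category.assoc])
    have e2 := agree_general v w₂ h₂ (IsOpenImmersion.lift U.ι _ hr) (T'.ι ≫ pullback.snd W₁.ι W₂.ι)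
      (by rw [IsOpenImmersion.lift_fac, Category.assoc, pullback.condition])
    exact ((Category.assoc _ _ _).symm.trans e1).trans (e2.symm.trans (Category.assoc _ _ _))

end Groth.Agent.Lead.UnrSec
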