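import Mathlib
import Groth.Agent.Lib.Lead.UnrSec6
import Groth.Prelude.Def_Pi1

set_option autoImplicit false
set_option backward.isDefEq.respectTransparency.types false
set_option synthInstance.maxHeartbeats 400000
set_option linter.style.haveILetI false
set_option linter.unusedSectionVars false

universe u

open CategoryTheory AlgebraicGeometry Limits TopologicalSpace

namespace Groth.Agent.Lead.UnrSec

/-- Rational sections of a separated, unramified, formally proper morphism over a normal
locally Noetherian base extend. -/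
theorem exists_section_extending {Z S : Scheme.{u}} (f : Z ⟶ S)
    [IsLocallyNoetherian S] (hS : Pi1.IsNormalScheme S) [IsSeparated f] [FormallyUnramified f]
    [LocallyOfFiniteType f]
    (hfp : ValuativeCriterion.Existence f) (U : S.Opens) (hU : Dense (U : Set S)) (v : ↑U ⟶ Z)
    (hv : v ≫ f = U.ι) :
    ∃ w : S ⟶ Z, w ≫ f = 𝟙 S ∧ U.ι ≫ w = v := by
  classical
  haveI := isReduced_of_normal hS
  choose W w hsW hwf hwv using exists_local_section f hS hfp U hU v hv
  have hcov : IsOpenCover W := by
    refine IsOpenCover.mk (top_le_iff.1 fun s _ => ?_)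
    exact Opens.mem_iSup.2 ⟨s, hsW s⟩
  let 𝒰 : S.OpenCover := S.openCoverOfIsOpenCover W hcov
  have hglue : ∀ x y : 𝒰.I₀,
      pullback.fst (𝒰.f x) (𝒰.f y) ≫ w x = pullback.snd (𝒰.f x) (𝒰.f y) ≫ w y :=
    fun x y => overlap_eq f U hU v (w x) (w y) (hwf x) (hwf y) (hwv x) (hwv y)
  refine ⟨𝒰.glueMorphisms w hglue, ?_, ?_⟩
  · refine 𝒰.hom_ext _ _ fun x => ?_
    rw [Scheme.Cover.ι_glueMorphisms_assoc, Category.comp_id]
    exact hwf x
  · refine Scheme.Cover.hom_ext (𝒰.pullback₁ U.ι) _ _ fun x => ?_
    show pullback.fst U.ι (𝒰.f x) ≫ U.ι ≫ _ = pullback.fst U.ι (𝒰.f x) ≫ v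
    rw [pullback.condition_assoc, Scheme.Cover.ι_glueMorphisms]
    exact agree_general v (w x) (hwv x) _ _ pullback.condition

end Groth.Agent.Lead.UnrSec
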