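import Mathlib
import Groth.Prelude.Def_Coh
import Groth.Prelude.Def_FlatMod2
import Groth.Agent.Lib.Lead.VanId1
import Groth.Agent.Lib.Lead.BCU3
import Groth.Agent.Lib.Lead.LimZ3
import Groth.Agent.Lib.Lead.PBQc
import Groth.Agent.Lib.Lead.FLF4
import Groth.Agent.Lib.Lead.SD2

/-!
# The vanishing scheme of a morphism into a finite locally free module (lead)
-/

set_option backward.isDefEq.respectTransparency.types false
set_option synthInstance.maxHeartbeats 400000
set_option autoImplicit false
set_option linter.unusedSectionVars false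
set_option linter.style.haveILetI false

universe u
open CategoryTheory AlgebraicGeometry TopologicalSpace TensorProduct

namespace Groth.Agent.Lead.VanId

open Scheme.Modules

attribute [local instance] Groth.Agent.Lead.SD.basicOpenModule

variable {S : Scheme.{u}} {E F : S.Modules}

/-- the action of a morphism of modules on sections as a linear map -/
noncomputable def appLin (v : E ⟶ F) (U : S.Opens) : Γ(E, U) →ₗ[Γ(S, U)] Γ(F, U) where
  toFun x := v.app U x
  map_add' := map_add _
  map_smul' r x := v.app_smul r x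

theorem appLin_apply (v : E ⟶ F) (U : S.Opens) (x : Γ(E, U)) : appLin v U x = v.app U x := rfl

/-- the content ideals are compatible with restriction to basic opens -/
theorem content_basicOpen [E.IsQuasicoherent] [F.IsQuasicoherent] (v : E ⟶ F) {U : S.Opens}
    (hU : IsAffineOpen U) (hproj : Module.Projective Γ(S, U) Γ(F, U)) (g : Γ(S, U)) :
    (content (appLin v U)).map (S.presheaf.map (homOfLE (S.basicOpen_le g)).op).hom =
      content (appLin v (S.basicOpen g)) := by
  have hE := Groth.Agent.Lead.SD.isBaseChange_res E hU g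
  have hF := Groth.Agent.Lead.SD.isBaseChange_res F hU g
  refine (content_map (Groth.Agent.Lead.SD.resₗ E g) (Groth.Agent.Lead.SD.resₗ F g) hE hF
    (appLin v U) (appLin v (S.basicOpen g)) ?_).symm
  intro m
  exact Groth.Agent.Lead.CIU.hom_naturality_apply v (S.basicOpen_le g) m

/-- projectivity of the sections of a finite locally free module over affine opens -/
theorem projective_sections [F.IsQuasicoherent] (hF : FlatMod.IsFinLocFree F) {U : S.Opens}
    (hU : IsAffineOpen U) : Module.Projective Γ(S, U) Γ(F, U) :=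
  ((Groth.Agent.Lead.FLF.isFinLocFree_iff_affineOpens F).1 hF U hU).2

/-- the ideal sheaf of vanishing of `v` -/
noncomputable def vanIdeal [E.IsQuasicoherent] [F.IsQuasicoherent] (hF : FlatMod.IsFinLocFree F)
    (v : E ⟶ F) : S.IdealSheafData where
  ideal U := content (appLin v U.1)
  map_ideal_basicOpen U g := content_basicOpen v U.2 (projective_sections hF U.2) g

theorem vanIdeal_ideal [E.IsQuasicoherent] [F.IsQuasicoherent] (hF : FlatMod.IsFinLocFree F)
    (v : E ⟶ F) (U : S.affineOpens) : (vanIdeal hF v).ideal U = content (appLin v U.1) := rfl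

/-- the local criterion: over affine charts the pullback of `v` vanishes iff the content ideal
dies -/
theorem pullback_zero_iff_local [E.IsQuasicoherent] [F.IsQuasicoherent] (v : E ⟶ F)
    {T : Scheme.{u}} (f : T ⟶ S) {U : S.Opens} (hU : IsAffineOpen U)
    (hproj : Module.Projective Γ(S, U) Γ(F, U)) {W : T.Opens} (hW : IsAffineOpen W)
    (e : W ≤ f ⁻¹ᵁ U) :
    (∀ m : Γ((Scheme.Modules.pullback f).obj E, W),
        ((Scheme.Modules.pullback f).map v).app W m = 0) ↔
      content (appLin v U) ≤ RingHom.ker (f.appLE U W e).hom := by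
  letI := (f.appLE U W e).hom.toAlgebra
  letI : Module Γ(S, U) Γ((Scheme.Modules.pullback f).obj E, W) :=
    Module.compHom _ (f.appLE U W e).hom
  letI : Module Γ(S, U) Γ((Scheme.Modules.pullback f).obj F, W) :=
    Module.compHom _ (f.appLE U W e).hom
  haveI : IsScalarTower Γ(S, U) Γ(T, W) Γ((Scheme.Modules.pullback f).obj E, W) :=
    ⟨fun a a' n => by
      change ((f.appLE U W e).hom a * a') • n = (f.appLE U W e).hom a • a' • n
      exact mul_smul _ _ _⟩
  haveI : IsScalarTower Γ(S, U) Γ(T, W) Γ((Scheme.Modules.pullback f).obj F, W) :=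
    ⟨fun a a' n => by
      change ((f.appLE U W e).hom a * a') • n = (f.appLE U W e).hom a • a' • n
      exact mul_smul _ _ _⟩
  obtain ⟨lE, hlE, hbE⟩ : ∃ l' : Γ(E, U) →ₗ[Γ(S, U)] Γ((Scheme.Modules.pullback f).obj E, W),
      (∀ m, l' m = Groth.Agent.Lead.BCU.unitRes f E e m) ∧ IsBaseChange Γ(T, W) l' :=
    Groth.Agent.Lead.BCU.isBC_unitRes f E hU hW e
  obtain ⟨lF, hlF, hbF⟩ : ∃ l' : Γ(F, U) →ₗ[Γ(S, U)] Γ((Scheme.Modules.pullback f).obj F, W),
      (∀ m, l' m = Groth.Agent.Lead.BCU.unitRes f F e m) ∧ IsBaseChange Γ(T, W) l' :=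
    Groth.Agent.Lead.BCU.isBC_unitRes f F hU hW e
  have hc : ∀ m, appLin ((Scheme.Modules.pullback f).map v) W (lE m) = lF (appLin v U m) := by
    intro m
    rw [hlE, hlF]
    exact Groth.Agent.Lead.LimZ.unitRes_naturality f v e m
  have key := zero_iff lE lF hbE hbF (appLin v U) (appLin ((Scheme.Modules.pullback f).map v) W) hc
  constructor
  · intro h0
    refine key.1 ?_
    ext m
    exact h0 m
  · intro hle m
    have h1 := key.2 hle
    have h2 := LinearMap.congr_fun h1 m
    exact h2

/-- **the vanishing scheme represents the vanishing of the pullbacks of `v`** -/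
theorem factors_iff [E.IsQuasicoherent] [F.IsQuasicoherent] (hF : FlatMod.IsFinLocFree F)
    (v : E ⟶ F) {T : Scheme.{u}} (f : T ⟶ S) :
    (∃ g : T ⟶ (vanIdeal hF v).subscheme, g ≫ (vanIdeal hF v).subschemeι = f) ↔
      (Scheme.Modules.pullback f).map v = 0 := by
  have h1 : (∃ g : T ⟶ (vanIdeal hF v).subscheme, g ≫ (vanIdeal hF v).subschemeι = f) ↔
      vanIdeal hF v ≤ f.ker := by
    constructor
    · rintro ⟨g, rfl⟩
      calc vanIdeal hF v = (vanIdeal hF v).subschemeι.ker :=
            (Scheme.IdealSheafData.ker_subschemeι _).symm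
        _ ≤ (g ≫ (vanIdeal hF v).subschemeι).ker := Scheme.Hom.le_ker_comp g _
    · intro hle
      exact ⟨f.toImage ≫ Scheme.IdealSheafData.inclusion hle, by
        rw [Category.assoc, Scheme.IdealSheafData.inclusion_subschemeι, Scheme.Hom.toImage_imageι]⟩
  rw [h1]
  constructor
  · intro hle
    haveI := Groth.Agent.Lead.PB.isQuasicoherent_pullback f E
    apply Groth.Agent.Lead.LimZ.hom_eq_zero_of_affine_cover
    intro y
    obtain ⟨_, ⟨U, hU, rfl⟩, hyU, -⟩ := S.isBasis_affineOpens.exists_subset_of_mem_open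
      (Set.mem_univ (f y)) isOpen_univ
    obtain ⟨_, ⟨W, hW, rfl⟩, hyW, hWU⟩ := T.isBasis_affineOpens.exists_subset_of_mem_open
      (show y ∈ ((f ⁻¹ᵁ U : T.Opens) : Set T) from hyU) (f ⁻¹ᵁ U).2
    refine ⟨W, hW, hyW, ?_⟩
    rw [pullback_zero_iff_local v f hU (projective_sections hF hU) hW hWU]
    have h2 : (vanIdeal hF v).ideal ⟨U, hU⟩ ≤ RingHom.ker (f.app U).hom :=
      (hle ⟨U, hU⟩).trans (f.ideal_ker_le ⟨U, hU⟩)
    intro a ha
    have h3 := h2 ha
    rw [RingHom.mem_ker] at h3 ⊢
    rw [Scheme.Hom.appLE, CommRingCat.hom_comp, RingHom.comp_apply, h3, map_zero]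
  · intro h0
    rw [Scheme.Hom.ker, Scheme.IdealSheafData.le_ofIdeals_iff]
    intro U
    rw [vanIdeal_ideal]
    intro a ha
    rw [RingHom.mem_ker]
    refine T.IsSheaf.section_ext (U := Opposite.op (f ⁻¹ᵁ U.1)) fun y hy => ?_
    obtain ⟨_, ⟨W, hW, rfl⟩, hyW, hWU⟩ := T.isBasis_affineOpens.exists_subset_of_mem_open
      hy (f ⁻¹ᵁ U.1).2
    refine ⟨W, hWU, hyW, ?_⟩
    have h4 := (pullback_zero_iff_local v f U.2 (projective_sections hF U.2) hW hWU).1
      (fun m => by rw [h0]; rfl)
    have h5 := h4 ha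
    rw [RingHom.mem_ker] at h5
    rw [map_zero]
    exact h5

end Groth.Agent.Lead.VanId
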