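import Mathlib
import Groth.Agent.Lib.Lead.WD1
import Groth.Agent.Lib.Lead.WDivA3

/-!
# Points of an affine open and primes of its ring of sections; pullback of rational functions (lead)
-/

set_option autoImplicit false
set_option backward.isDefEq.respectTransparency.types false
set_option synthInstance.maxHeartbeats 400000
set_option linter.style.haveILetI false
set_option linter.unusedSectionVars false
universe u

open CategoryTheory CategoryTheory.Limits AlgebraicGeometry TopologicalSpace Opposite

namespace Groth.Agent.Lead.WDivG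

open Groth.Agent.Lead.WD Groth.Agent.Lead.SecOrd Groth.Agent.Lead.SD

section Points

variable {Z : Scheme.{u}} [IsIntegral Z] [IsLocallyNoetherian Z] {V : Z.Opens}
  (hV : IsAffineOpen V)

theorem height_primeIdealOf (z : V) :
    (hV.primeIdealOf z).asIdeal.height = Order.coheight z.1 := by
  haveI := hV.isLocalization_stalk z
  have h1 := IsLocalization.AtPrime.ringKrullDim_eq_height (hV.primeIdealOf z).asIdeal
    (Z.presheaf.stalk z.1)
  rw [ringKrullDim_stalk_eq_coheight] at h1
  exact (WithBot.coe_injective h1).symm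

theorem exists_point_of_prime (P : Ideal Γ(Z, V)) [hP : P.IsPrime] :
    ∃ z : V, (hV.primeIdealOf z).asIdeal = P := by
  have hmem : hV.fromSpec ⟨P, hP⟩ ∈ V := by
    have h1 : hV.fromSpec ⟨P, hP⟩ ∈ Set.range hV.fromSpec := ⟨_, rfl⟩
    rw [hV.range_fromSpec] at h1
    exact h1
  refine ⟨⟨hV.fromSpec ⟨P, hP⟩, hmem⟩, ?_⟩
  have h2 := hV.fromSpec_primeIdealOf ⟨hV.fromSpec ⟨P, hP⟩, hmem⟩
  have h3 := hV.fromSpec.isOpenEmbedding.injective h2
  rw [h3]

theorem primeIdealOf_eq_bot_iff (z : V) :
    (hV.primeIdealOf z).asIdeal = ⊥ ↔ z.1 = genericPoint Z := by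
  haveI : Nonempty V := ⟨z⟩
  haveI : IsDomain Γ(Z, V) := inferInstance
  rw [← Ideal.height_eq_zero_iff_eq_bot, height_primeIdealOf, Order.coheight_eq_zero]
  constructor
  · intro h
    have h1 : z.1 ≤ genericPoint Z := genericPoint_specializes z.1
    have h2 : genericPoint Z ≤ z.1 := h h1
    have h3 : z.1 ⤳ genericPoint Z := h2
    exact (h3.antisymm (genericPoint_specializes z.1)).eq
  · intro h
    rw [h, ← Order.coheight_eq_zero]
    exact coheight_genericPoint

end Points

section Morphism

variable {X Y : Scheme.{u}} (f : Y ⟶ X) {U : X.Opens} (hU : IsAffineOpen U)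
  (hW : IsAffineOpen (f ⁻¹ᵁ U))

/-- the prime of the image point is the preimage of the prime of the point -/
theorem comap_primeIdealOf (y : Y) (hy : y ∈ f ⁻¹ᵁ U) :
    (hW.primeIdealOf ⟨y, hy⟩).asIdeal.comap (f.app U).hom =
      (hU.primeIdealOf ⟨f y, hy⟩).asIdeal := by
  ext a
  rw [Ideal.mem_comap]
  have h1 := isUnit_germ_iff hW ⟨y, hy⟩ ((f.app U).hom a)
  have h2 := isUnit_germ_iff hU ⟨f y, hy⟩ a
  have h3 : Y.presheaf.germ (f ⁻¹ᵁ U) y hy ((f.app U).hom a) =
      (f.stalkMap y).hom (X.presheaf.germ U (f y) hy a) :=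
    (Scheme.Hom.germ_stalkMap_apply f U y hy a).symm
  have h4 : IsUnit ((f.stalkMap y).hom (X.presheaf.germ U (f y) hy a)) ↔
      IsUnit (X.presheaf.germ U (f y) hy a) := isUnit_map_iff _ _
  simp only [Ideal.primeCompl, Submonoid.mem_mk, Subsemigroup.mem_mk, Set.mem_compl_iff,
    SetLike.mem_coe] at h1 h2
  rw [← not_iff_not, ← h1, ← h2]
  change IsUnit (Y.presheaf.germ (f ⁻¹ᵁ U) y hy ((f.app U).hom a)) ↔ _
  rw [h3, h4]

end Morphism

section Pullback

variable {X Y : Scheme.{u}} [IsIntegral X] [IsIntegral Y] (f : Y ⟶ X)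
  (hf : f (genericPoint Y) = genericPoint X)

/-- the pullback of rational functions along a dominant morphism -/
noncomputable def pb : X.functionField →+* Y.functionField :=
  (X.presheaf.stalkSpecializes (specializes_of_eq hf) ≫ f.stalkMap (genericPoint Y)).hom

theorem pb_germ (U : X.Opens) (hη : genericPoint X ∈ U) (a : Γ(X, U)) :
    pb f hf (X.presheaf.germ U (genericPoint X) hη a) =
      Y.presheaf.germ (f ⁻¹ᵁ U) (genericPoint Y) (by change f (genericPoint Y) ∈ U; rw [hf]; exact hη)
        ((f.app U).hom a) := by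
  have hη' : f (genericPoint Y) ∈ U := by rw [hf]; exact hη
  have h1 := TopCat.Presheaf.germ_stalkSpecializes X.presheaf hη (specializes_of_eq hf)
  have h2 := congrArg (fun φ => φ.hom a) h1
  simp only [CommRingCat.hom_comp, RingHom.coe_comp, Function.comp_apply] at h2
  change (f.stalkMap (genericPoint Y)).hom ((X.presheaf.stalkSpecializes (specializes_of_eq hf)).hom
    (X.presheaf.germ U (genericPoint X) hη a)) = _
  rw [h2]
  exact Scheme.Hom.germ_stalkMap_apply f U (genericPoint Y) hη' a

theorem pb_injective : Function.Injective (pb f hf) := (pb f hf).injective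

end Pullback

end Groth.Agent.Lead.WDivG
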