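import Mathlib
import Groth.Agent.Lib.Lead.WDivG1

/-!
# Orders of vanishing at the points of an affine chart, in terms of the ring of the chart (lead)
-/

set_option autoImplicit false
set_option backward.isDefEq.respectTransparency.types false
set_option synthInstance.maxHeartbeats 400000
set_option linter.style.haveILetI false
set_option linter.unusedSectionVars false
universe u

open CategoryTheory CategoryTheory.Limits AlgebraicGeometry TopologicalSpace Opposite

namespace Groth.Agent.Lead.WDivA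

theorem maximalIdeal_eq_span' {R : Type*} [CommRing R] (Q : Ideal R) [Q.IsPrime]
    (O : Type*) [CommRing O] [Algebra R O] [IsLocalization.AtPrime O Q]
    [IsLocalRing O] {c : R} (hcQ : c ∈ Q)
    (hc : ∀ a ∈ Q, ∃ b d : R, d ∉ Q ∧ a * d = c * b) :
    IsLocalRing.maximalIdeal O = Ideal.span {algebraMap R O c} := by
  rw [← IsLocalization.AtPrime.map_eq_maximalIdeal Q O]
  apply le_antisymm
  · rw [Ideal.map_le_iff_le_comap]
    intro a ha
    obtain ⟨b, d, hd, e⟩ := hc a ha
    have hu : IsUnit (algebraMap R O d) :=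
      IsLocalization.map_units O (⟨d, hd⟩ : Q.primeCompl)
    rw [Ideal.mem_comap, Ideal.mem_span_singleton]
    have e' := congrArg (algebraMap R O) e
    rw [map_mul, map_mul] at e'
    obtain ⟨v, hv⟩ := hu
    refine ⟨algebraMap R O b * ((v⁻¹ : Oˣ) : O), ?_⟩
    calc algebraMap R O a
        = algebraMap R O a * ((v : O) * ((v⁻¹ : Oˣ) : O)) := by
          rw [Units.mul_inv, mul_one]
      _ = (algebraMap R O a * algebraMap R O d) * ((v⁻¹ : Oˣ) : O) := by rw [hv]; ring
      _ = _ := by rw [e']; ring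
  · rw [Ideal.span_singleton_le_iff_mem]
    exact Ideal.mem_map_of_mem _ hcQ

open MvPolynomial in
theorem vertical_ord' {A : Type*} [CommRing A] [IsDomain A] {σ : Type*} (p : Ideal A) [p.IsPrime]
    (P : Ideal (MvPolynomial σ A)) [P.IsPrime] (hP : P = p.map (C : A →+* MvPolynomial σ A))
    (OA : Type*) [CommRing OA] [Algebra A OA] [IsLocalization.AtPrime OA p] [IsDomain OA]
    [IsDiscreteValuationRing OA]
    {K : Type*} [Field K] [Algebra A K] [IsFractionRing A K] [Algebra OA K] [IsScalarTower A OA K]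
    [IsFractionRing OA K]
    (OR : Type*) [CommRing OR] [Algebra (MvPolynomial σ A) OR]
    [IsLocalization.AtPrime OR P]
    [IsDomain OR] [IsNoetherianRing OR] [Ring.KrullDimLE 1 OR] [IsLocalRing OR]
    {L : Type*} [Field L] [Algebra (MvPolynomial σ A) L] [IsFractionRing (MvPolynomial σ A) L]
    [Algebra OR L] [IsScalarTower (MvPolynomial σ A) OR L] [IsFractionRing OR L]
    (ι : K →+* L) (hι : ∀ a, ι (algebraMap A K a) = algebraMap (MvPolynomial σ A) L (C a))
    (f : K) (hf : f ≠ 0) :
    Ring.ordFrac OR (ι f) = Ring.ordFrac OA f := by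
  subst hP
  exact vertical_ord p OA OR ι hι f hf

end Groth.Agent.Lead.WDivA

namespace Groth.Agent.Lead.WDivG

open Groth.Agent.Lead.WD Groth.Agent.Lead.SecOrd Groth.Agent.Lead.SD Groth.Agent.Lead.WDivA

section Dictionary

variable {Y : Scheme.{u}} [IsIntegral Y] [IsLocallyNoetherian Y] {W : Y.Opens}
  (hW : IsAffineOpen W) {R : Type u} [CommRing R] [IsDomain R] (e : R ≃+* Γ(Y, W))

/-- the prime of `R` corresponding to a point of the chart -/
noncomputable def primeAt (y : W) : Ideal R := (hW.primeIdealOf y).asIdeal.comap (e : R →+* Γ(Y, W))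

instance (y : W) : (primeAt hW e y).IsPrime := Ideal.comap_isPrime _ _

theorem mem_primeAt (y : W) (r : R) :
    r ∈ primeAt hW e y ↔ e r ∈ (hW.primeIdealOf y).asIdeal := Iff.rfl

theorem height_primeAt (y : W) : (primeAt hW e y).height = Order.coheight y.1 := by
  rw [← height_primeIdealOf hW y]
  exact RingEquiv.height_comap e _

theorem primeAt_injective : Function.Injective (primeAt hW e) := by
  intro y y' h
  apply primeIdealOf_injective hW
  apply PrimeSpectrum.ext
  ext b
  have h1 := mem_primeAt hW e y (e.symm b)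
  have h2 := mem_primeAt hW e y' (e.symm b)
  rw [e.apply_symm_apply] at h1 h2
  rw [← h1, ← h2, h]

theorem exists_point_of_prime' (Q : Ideal R) [Q.IsPrime] : ∃ y : W, primeAt hW e y = Q := by
  haveI : (Q.comap (e.symm : Γ(Y, W) →+* R)).IsPrime := Ideal.comap_isPrime _ _
  obtain ⟨y, hy⟩ := exists_point_of_prime hW (Q.comap (e.symm : Γ(Y, W) →+* R))
  refine ⟨y, ?_⟩
  ext r
  rw [mem_primeAt, hy, Ideal.mem_comap]
  change e.symm (e r) ∈ Q ↔ _
  rw [e.symm_apply_apply]

variable (hη : genericPoint Y ∈ W)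

/-- the structure map from the ring of the chart to the function field -/
noncomputable def κ : R →+* Y.functionField := (toK W hη).comp (e : R →+* Γ(Y, W))

theorem κ_apply (r : R) : κ e hη r = toK W hη (e r) := rfl

theorem κ_injective : Function.Injective (κ e hη) := (toK_injective W hη).comp e.injective

theorem dictionary (y : W) (hy : Order.coheight y.1 = 1) :
    (∀ g : Y.functionField, (∃ c d : R, c ∉ primeAt hW e y ∧ d ∉ primeAt hW e y ∧
        g * κ e hη d = κ e hη c) → Y.ordHom y.1 hy g = 1) ∧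
    (IsDiscreteValuationRing (Y.presheaf.stalk y.1) → ∀ g : Y.functionField,
      Y.ordHom y.1 hy g = 1 → ∃ c d : R, c ∉ primeAt hW e y ∧ d ∉ primeAt hW e y ∧
        g * κ e hη d = κ e hη c) ∧
    (∀ c : R, c ≠ 0 → c ∈ primeAt hW e y →
      (∀ a ∈ primeAt hW e y, ∃ b d : R, d ∉ primeAt hW e y ∧ a * d = c * b) →
        IsDiscreteValuationRing (Y.presheaf.stalk y.1) ∧
          Y.ordHom y.1 hy (κ e hη c) = WithZero.exp 1) := by
  haveI : Nonempty W := ⟨y⟩
  haveI := hW.isLocalization_stalk y
  haveI : IsFractionRing Γ(Y, W) Y.functionField :=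
    functionField_isFractionRing_of_isAffineOpen Y W hW
  haveI : Ring.KrullDimLE 1 (Y.presheaf.stalk y.1) := krullDimLE_of_coheight_le hy.le
  letI algRO : Algebra R (Y.presheaf.stalk y.1) :=
    ((algebraMap Γ(Y, W) (Y.presheaf.stalk y.1)).comp (e : R →+* Γ(Y, W))).toAlgebra
  letI algRL : Algebra R Y.functionField :=
    ((algebraMap Γ(Y, W) Y.functionField).comp (e : R →+* Γ(Y, W))).toAlgebra
  haveI : IsScalarTower R (Y.presheaf.stalk y.1) Y.functionField :=
    IsScalarTower.of_algebraMap_eq (fun r =>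
      IsScalarTower.algebraMap_apply Γ(Y, W) (Y.presheaf.stalk y.1) Y.functionField (e r))
  haveI : IsLocalization.AtPrime (Y.presheaf.stalk y.1) (primeAt hW e y) :=
    isLocalization_of_ringEquiv e _ (hW.primeIdealOf y).asIdeal.primeCompl (fun r => Iff.rfl) _
      (fun r => rfl)
  haveI : IsFractionRing R Y.functionField :=
    isLocalization_of_ringEquiv e (nonZeroDivisors R) (nonZeroDivisors Γ(Y, W)) (fun r => by
      rw [mem_nonZeroDivisors_iff_ne_zero, mem_nonZeroDivisors_iff_ne_zero, ne_eq, ne_eq,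
        map_eq_zero_iff e e.injective]) _ (fun r => rfl)
  refine ⟨?_, ?_, ?_⟩
  · intro g h
    exact ordFrac_of_unitAt (primeAt hW e y) (Y.presheaf.stalk y.1) h
  · intro hdvr g h
    haveI := hdvr
    exact unitAt_of_ordFrac (primeAt hW e y) (Y.presheaf.stalk y.1) h
  · intro c hc0 hcQ hc
    have hmax : IsLocalRing.maximalIdeal (Y.presheaf.stalk y.1) =
        Ideal.span {algebraMap R (Y.presheaf.stalk y.1) c} :=
      maximalIdeal_eq_span' (primeAt hW e y) (Y.presheaf.stalk y.1) hcQ hc
    have hc0' : algebraMap R (Y.presheaf.stalk y.1) c ≠ 0 := by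
      intro h0
      have h1 : algebraMap R Y.functionField c = 0 := by
        rw [IsScalarTower.algebraMap_apply R (Y.presheaf.stalk y.1) Y.functionField, h0, map_zero]
      exact hc0 (IsFractionRing.injective R Y.functionField (h1.trans (map_zero _).symm))
    refine ⟨isDVR_of_generator _ _ hc0' hmax, ?_⟩
    have h2 := ordFrac_generator (L := Y.functionField) (Y.presheaf.stalk y.1) _ hc0' hmax
    rw [← IsScalarTower.algebraMap_apply R (Y.presheaf.stalk y.1) Y.functionField] at h2
    exact h2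

end Dictionary

section Vertical

open MvPolynomial

variable {X Y : Scheme.{u}} [IsIntegral X] [IsLocallyNoetherian X] [IsIntegral Y]
  [IsLocallyNoetherian Y] (f : Y ⟶ X) (hf : f (genericPoint Y) = genericPoint X)
  {U : X.Opens} (hU : IsAffineOpen U) (hW : IsAffineOpen (f ⁻¹ᵁ U)) {σ : Type u}
  (e : MvPolynomial σ Γ(X, U) ≃+* Γ(Y, f ⁻¹ᵁ U)) (he : ∀ a, e (C a) = (f.app U).hom a)

include he in
theorem ordHom_pb_vertical (x : U) (y : (f ⁻¹ᵁ U : Y.Opens)) (hy : Order.coheight y.1 = 1)
    (hx : Order.coheight x.1 = 1)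
    [IsDiscreteValuationRing (X.presheaf.stalk x.1)]
    (hQ : primeAt hW e y = (hU.primeIdealOf x).asIdeal.map C)
    (g : X.functionField) (hg : g ≠ 0) :
    Y.ordHom y.1 hy (pb f hf g) = X.ordHom x.1 hx g := by
  haveI : Nonempty U := ⟨x⟩
  haveI : Nonempty (f ⁻¹ᵁ U : Y.Opens) := ⟨y⟩
  have hηU : genericPoint X ∈ U :=
    (genericPoint_specializes x.1).mem_open U.2 x.2
  have hηW : genericPoint Y ∈ f ⁻¹ᵁ U :=
    (genericPoint_specializes y.1).mem_open (f ⁻¹ᵁ U).2 y.2
  haveI := hW.isLocalization_stalk y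
  haveI := hU.isLocalization_stalk x
  haveI : IsFractionRing Γ(Y, f ⁻¹ᵁ U) Y.functionField :=
    functionField_isFractionRing_of_isAffineOpen Y _ hW
  haveI : IsFractionRing Γ(X, U) X.functionField :=
    functionField_isFractionRing_of_isAffineOpen X _ hU
  haveI : Ring.KrullDimLE 1 (Y.presheaf.stalk y.1) := krullDimLE_of_coheight_le hy.le
  haveI : Ring.KrullDimLE 1 (X.presheaf.stalk x.1) := krullDimLE_of_coheight_le hx.le
  letI algRO : Algebra (MvPolynomial σ Γ(X, U)) (Y.presheaf.stalk y.1) :=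
    ((algebraMap Γ(Y, f ⁻¹ᵁ U) (Y.presheaf.stalk y.1)).comp
      (e : MvPolynomial σ Γ(X, U) →+* Γ(Y, f ⁻¹ᵁ U))).toAlgebra
  letI algRL : Algebra (MvPolynomial σ Γ(X, U)) Y.functionField :=
    ((algebraMap Γ(Y, f ⁻¹ᵁ U) Y.functionField).comp
      (e : MvPolynomial σ Γ(X, U) →+* Γ(Y, f ⁻¹ᵁ U))).toAlgebra
  haveI : IsScalarTower (MvPolynomial σ Γ(X, U)) (Y.presheaf.stalk y.1) Y.functionField :=
    IsScalarTower.of_algebraMap_eq (fun r =>
      IsScalarTower.algebraMap_apply Γ(Y, f ⁻¹ᵁ U)
        (Y.presheaf.stalk y.1) Y.functionField (e r))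
  haveI : IsLocalization.AtPrime (Y.presheaf.stalk y.1) (primeAt hW e y) :=
    isLocalization_of_ringEquiv e _ (hW.primeIdealOf y).asIdeal.primeCompl
      (fun r => Iff.rfl) _ (fun r => rfl)
  haveI : IsFractionRing (MvPolynomial σ Γ(X, U)) Y.functionField :=
    isLocalization_of_ringEquiv e (nonZeroDivisors (MvPolynomial σ Γ(X, U)))
      (nonZeroDivisors Γ(Y, f ⁻¹ᵁ U)) (fun r => by
      rw [mem_nonZeroDivisors_iff_ne_zero, mem_nonZeroDivisors_iff_ne_zero, ne_eq, ne_eq,
        map_eq_zero_iff e e.injective]) _ (fun r => rfl)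
  have hι : ∀ a : Γ(X, U), pb f hf (algebraMap Γ(X, U) X.functionField a) =
      algebraMap (MvPolynomial σ Γ(X, U)) Y.functionField (C a) := by
    intro a
    change pb f hf (X.presheaf.germ U (genericPoint X) hηU a) =
      Y.presheaf.germ (f ⁻¹ᵁ U) (genericPoint Y) hηW (e (C a))
    rw [pb_germ f hf U hηU a, he]
  exact vertical_ord' (hU.primeIdealOf x).asIdeal (primeAt hW e y) hQ
    (X.presheaf.stalk x.1) (Y.presheaf.stalk y.1) (pb f hf) hι g hg

end Vertical

end Groth.Agent.Lead.WDivG
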