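import Mathlib

/-!
# The affine space over an affine open is a polynomial ring (lead)
-/

set_option autoImplicit false
set_option backward.isDefEq.respectTransparency.types false
set_option synthInstance.maxHeartbeats 400000
set_option linter.style.haveILetI false
set_option linter.unusedSectionVars false
universe u

open CategoryTheory CategoryTheory.Limits AlgebraicGeometry TopologicalSpace Opposite

namespace Groth.Agent.Lead.WDivG

theorem appLE_congr_hom {X Y : Scheme.{u}} {f g : X ⟶ Y} (h : f = g) (U : Y.Opens) (V : X.Opens)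
    (e : V ≤ f ⁻¹ᵁ U) : f.appLE U V e = g.appLE U V (h ▸ e) := by
  subst h
  rfl

theorem isIso_appLE_top {V Y : Scheme.{u}} (j : V ⟶ Y) [IsOpenImmersion j] (W : Y.Opens)
    (h : j ''ᵁ ⊤ = W) (e : (⊤ : V.Opens) ≤ j ⁻¹ᵁ W) : IsIso (j.appLE W ⊤ e) := by
  subst h
  have h1 : j.appLE (j ''ᵁ ⊤) ⊤ e = (j.appIso ⊤).hom := (j.appIso_hom' ⊤).symm
  rw [h1]
  infer_instance

theorem range_of_isPullback {P X Y Z : Scheme.{u}} {fst : P ⟶ X} {snd : P ⟶ Y} {f : X ⟶ Z}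
    {g : Y ⟶ Z} (sq : IsPullback fst snd f g) : Set.range fst = f ⁻¹' Set.range g := by
  have h1 : sq.isoPullback.hom ≫ pullback.fst f g = fst := sq.isoPullback_hom_fst
  rw [← Scheme.Pullback.range_fst, ← h1]
  ext x
  constructor
  · rintro ⟨p, rfl⟩
    exact ⟨sq.isoPullback.hom p, by rw [Scheme.Hom.comp_apply]⟩
  · rintro ⟨p, rfl⟩
    refine ⟨sq.isoPullback.inv p, ?_⟩
    rw [Scheme.Hom.comp_apply, ← Scheme.Hom.comp_apply sq.isoPullback.inv, Iso.inv_hom_id]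
    rfl

open MvPolynomial in
theorem exists_chart (n : Type u) (X : Scheme.{u}) (U : X.Opens) (hU : IsAffineOpen U) :
    ∃ e : MvPolynomial n Γ(X, U) ≃+* Γ(𝔸(n; X), (𝔸(n; X) ↘ X) ⁻¹ᵁ U),
      ∀ a, e (C a) = ((𝔸(n; X) ↘ X).app U).hom a := by
  haveI : IsAffine (U : Scheme.{u}) := hU
  have hpb : IsPullback (AffineSpace.map n U.ι) (𝔸(n; (U : Scheme.{u})) ↘ (U : Scheme.{u}))
      (𝔸(n; X) ↘ X) U.ι := AffineSpace.isPullback_map U.ι
  haveI : IsOpenImmersion (AffineSpace.map n U.ι) :=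
    MorphismProperty.of_isPullback (P := @IsOpenImmersion) hpb.flip inferInstance
  have hrange : (AffineSpace.map n U.ι) ''ᵁ ⊤ = (𝔸(n; X) ↘ X) ⁻¹ᵁ U := by
    rw [Scheme.Hom.image_top_eq_opensRange]
    apply Opens.ext
    rw [Scheme.Hom.coe_opensRange, range_of_isPullback hpb, Scheme.Opens.range_ι]
    rfl
  -- the three isomorphisms
  have eγ : (⊤ : (𝔸(n; (U : Scheme.{u}))).Opens) ≤
      (AffineSpace.map n U.ι) ⁻¹ᵁ ((𝔸(n; X) ↘ X) ⁻¹ᵁ U) := by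
    rw [← hrange]
    exact (Scheme.Hom.preimage_image_eq _ _).ge
  haveI hγ : IsIso ((AffineSpace.map n U.ι).appLE ((𝔸(n; X) ↘ X) ⁻¹ᵁ U) ⊤ eγ) :=
    isIso_appLE_top _ _ hrange eγ
  have eα : (⊤ : (U : Scheme.{u}).Opens) ≤ U.ι ⁻¹ᵁ U := by
    intro x _
    exact x.2
  haveI hα : IsIso (U.ι.appLE U ⊤ eα) := isIso_appLE_top _ _ U.ι_image_top eα
  have hβ : IsIso (CommRingCat.ofHom (eval₂Hom
      ((𝔸(n; (U : Scheme.{u})) ↘ (U : Scheme.{u})).appTop).hom (AffineSpace.coord (U : Scheme.{u})))) := by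
    have h1 := AffineSpace.isoOfIsAffine_hom_appTop (n := n) (S := (U : Scheme.{u}))
    have h2 : CommRingCat.ofHom (eval₂Hom
        ((𝔸(n; (U : Scheme.{u})) ↘ (U : Scheme.{u})).appTop).hom (AffineSpace.coord (U : Scheme.{u}))) =
        (Scheme.ΓSpecIso _).inv ≫ (AffineSpace.isoOfIsAffine n (U : Scheme.{u})).hom.appTop := by
      rw [h1, Iso.inv_hom_id_assoc]
    haveI : IsIso ((AffineSpace.isoOfIsAffine n (U : Scheme.{u})).hom.appTop) := by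
      change IsIso ((AffineSpace.isoOfIsAffine n (U : Scheme.{u})).hom.app ⊤)
      infer_instance
    rw [h2]
    infer_instance
  -- ring equivalences
  let α : Γ(X, U) ≃+* Γ((U : Scheme.{u}), ⊤) := (asIso (U.ι.appLE U ⊤ eα)).commRingCatIsoToRingEquiv
  let β : MvPolynomial n Γ((U : Scheme.{u}), ⊤) ≃+* Γ(𝔸(n; (U : Scheme.{u})), ⊤) :=
    (@asIso _ _ _ _ _ hβ).commRingCatIsoToRingEquiv
  let γ : Γ(𝔸(n; X), (𝔸(n; X) ↘ X) ⁻¹ᵁ U) ≃+* Γ(𝔸(n; (U : Scheme.{u})), ⊤) :=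
    (asIso ((AffineSpace.map n U.ι).appLE ((𝔸(n; X) ↘ X) ⁻¹ᵁ U) ⊤ eγ)).commRingCatIsoToRingEquiv
  refine ⟨((MvPolynomial.mapEquiv n α).trans β).trans γ.symm, ?_⟩
  intro a
  change γ.symm (β (MvPolynomial.map (α : Γ(X, U) →+* Γ((U : Scheme.{u}), ⊤)) (C a))) = _
  rw [RingEquiv.symm_apply_eq, map_C]
  change (eval₂Hom ((𝔸(n; (U : Scheme.{u})) ↘ (U : Scheme.{u})).appTop).hom
    (AffineSpace.coord (U : Scheme.{u}))) (C ((U.ι.appLE U ⊤ eα).hom a)) =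
    ((AffineSpace.map n U.ι).appLE ((𝔸(n; X) ↘ X) ⁻¹ᵁ U) ⊤ eγ).hom (((𝔸(n; X) ↘ X).app U).hom a)
  rw [coe_eval₂Hom, eval₂_C]
  have h1 : (𝔸(n; X) ↘ X).app U ≫ (AffineSpace.map n U.ι).appLE ((𝔸(n; X) ↘ X) ⁻¹ᵁ U) ⊤ eγ =
      U.ι.appLE U ⊤ eα ≫ (𝔸(n; (U : Scheme.{u})) ↘ (U : Scheme.{u})).appTop := by
    rw [← Scheme.Hom.comp_appLE]
    have h2 : (𝔸(n; (U : Scheme.{u})) ↘ (U : Scheme.{u})).appTop =
        (𝔸(n; (U : Scheme.{u})) ↘ (U : Scheme.{u})).appLE ⊤ ⊤ le_rfl :=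
      Scheme.Hom.app_eq_appLE _
    rw [h2, Scheme.Hom.appLE_comp_appLE]
    exact appLE_congr_hom (AffineSpace.map_over U.ι) _ _ _
  have h3 := congrArg (fun φ => φ.hom a) h1
  simp only [CommRingCat.hom_comp, RingHom.coe_comp, Function.comp_apply] at h3
  exact h3.symm

end Groth.Agent.Lead.WDivG
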