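import Mathlib
import Groth.Agent.Lib.Lead.WDivG2
import Groth.Agent.Lib.Lead.WDivG3

/-!
# Prime divisors of the affine space over an integral locally Noetherian scheme (lead)
-/

set_option autoImplicit false
set_option backward.isDefEq.respectTransparency.types false
set_option synthInstance.maxHeartbeats 400000
set_option linter.style.haveILetI false
set_option linter.unusedSectionVars false
universe u

open CategoryTheory CategoryTheory.Limits AlgebraicGeometry TopologicalSpace Opposite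

namespace Groth.Agent.Lead.WDivG

open MvPolynomial Groth.Agent.Lead.WD Groth.Agent.Lead.SecOrd Groth.Agent.Lead.WDivA

section Conv

variable {Z : Scheme.{u}} [IsIntegral Z] [IsLocallyNoetherian Z]

theorem ord_eq_zero_iff' {z : Z} (hz : Order.coheight z = 1) {g : Z.functionField} (hg : g ≠ 0) :
    Scheme.ord g z = 0 ↔ Z.ordHom z hz g = 1 := by
  rw [Scheme.ord_eq_iff hz hg]
  have h1 : ((Multiplicative.ofAdd (0 : ℤ) : Multiplicative ℤ) : WithZero (Multiplicative ℤ)) = 1 := by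
    rw [ofAdd_zero]
    rfl
  rw [h1]

theorem ord_eq_one_iff' {z : Z} (hz : Order.coheight z = 1) {g : Z.functionField} (hg : g ≠ 0) :
    Scheme.ord g z = 1 ↔ Z.ordHom z hz g = WithZero.exp 1 := by
  rw [Scheme.ord_eq_iff hz hg]
  rfl

end Conv

section AffineSpace

variable (n : Type u) [Finite n] (X : Scheme.{u}) [IsIntegral X] [IsLocallyNoetherian X]
  [IsLocallyNoetherian 𝔸(n; X)]

theorem over_genericPoint : (𝔸(n; X) ↘ X) (genericPoint 𝔸(n; X)) = genericPoint X := by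
  have h1 : IsGenericPoint (genericPoint 𝔸(n; X)) (⊤ : Set 𝔸(n; X)) := genericPoint_spec _
  have h2 := h1.image (𝔸(n; X) ↘ X).continuous
  have h3 : closure ((𝔸(n; X) ↘ X) '' (⊤ : Set 𝔸(n; X))) = (⊤ : Set X) := by
    rw [Set.top_eq_univ, Set.image_univ,
      (Surjective.surj : Function.Surjective (𝔸(n; X) ↘ X)).range_eq, closure_univ]
    rfl
  rw [h3] at h2
  exact h2.eq (genericPoint_spec X)

/-- the pullback of rational functions to the affine space -/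
noncomputable def pbA : X.functionField →+* (𝔸(n; X)).functionField :=
  pb (𝔸(n; X) ↘ X) (over_genericPoint n X)

variable {n X}

theorem comap_C_primeAt {U : X.Opens} [Nonempty U] (hU : IsAffineOpen U)
    (hW : IsAffineOpen ((𝔸(n; X) ↘ X) ⁻¹ᵁ U))
    (e : MvPolynomial n Γ(X, U) ≃+* Γ(𝔸(n; X), (𝔸(n; X) ↘ X) ⁻¹ᵁ U))
    (he : ∀ a, e (C a) = ((𝔸(n; X) ↘ X).app U).hom a)
    (y : ((𝔸(n; X) ↘ X) ⁻¹ᵁ U : (𝔸(n; X)).Opens)) :
    (primeAt hW e y).comap (C : Γ(X, U) →+* MvPolynomial n Γ(X, U)) =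
      (hU.primeIdealOf ⟨(𝔸(n; X) ↘ X) y.1, y.2⟩).asIdeal := by
  rw [← comap_primeIdealOf (𝔸(n; X) ↘ X) hU hW y.1 y.2]
  ext a
  rw [Ideal.mem_comap, mem_primeAt, he, Ideal.mem_comap]

variable (n X)

/-- a prime divisor of the affine space is horizontal, or the unique one over a prime divisor -/
theorem vertical_or_horizontal (y : 𝔸(n; X)) (hy : Order.coheight y = 1) :
    (𝔸(n; X) ↘ X) y = genericPoint X ∨
      (Order.coheight ((𝔸(n; X) ↘ X) y) = 1 ∧
        ∀ y' : 𝔸(n; X), Order.coheight y' = 1 →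
          (𝔸(n; X) ↘ X) y' = (𝔸(n; X) ↘ X) y → y' = y) := by
  obtain ⟨_, ⟨U, hU, rfl⟩, hxU, -⟩ := X.isBasis_affineOpens.exists_subset_of_mem_open
    (Set.mem_univ ((𝔸(n; X) ↘ X) y)) isOpen_univ
  have hU' : IsAffineOpen U := hU
  haveI : Nonempty U := ⟨⟨_, hxU⟩⟩
  have hW : IsAffineOpen ((𝔸(n; X) ↘ X) ⁻¹ᵁ U) := hU'.preimage _
  obtain ⟨e, he⟩ := exists_chart n X U hU'
  let yW : ((𝔸(n; X) ↘ X) ⁻¹ᵁ U : (𝔸(n; X)).Opens) := ⟨y, hxU⟩
  let x : U := ⟨(𝔸(n; X) ↘ X) y, hxU⟩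
  have hht : (primeAt hW e yW).height = 1 := by
    rw [height_primeAt]
    exact hy
  rcases height_one_mv (primeAt hW e yW) hht with h0 | ⟨h1, h2⟩
  · left
    rw [comap_C_primeAt hU' hW e he yW] at h0
    exact (primeIdealOf_eq_bot_iff hU' x).1 h0
  · right
    rw [comap_C_primeAt hU' hW e he yW] at h1 h2
    refine ⟨?_, ?_⟩
    · rw [← height_primeIdealOf hU' x]
      exact h1
    · intro y' hy' hyy'
      have hy'W : y' ∈ (𝔸(n; X) ↘ X) ⁻¹ᵁ U := by
        change (𝔸(n; X) ↘ X) y' ∈ U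
        rw [hyy']
        exact hxU
      let y'W : ((𝔸(n; X) ↘ X) ⁻¹ᵁ U : (𝔸(n; X)).Opens) := ⟨y', hy'W⟩
      have hht' : (primeAt hW e y'W).height = 1 := by
        rw [height_primeAt]
        exact hy'
      have hpx : hU'.primeIdealOf ⟨(𝔸(n; X) ↘ X) y', hy'W⟩ = hU'.primeIdealOf x := by
        congr 1
        exact Subtype.ext hyy'
      rcases height_one_mv (primeAt hW e y'W) hht' with h0' | ⟨h1', h2'⟩
      · exfalso
        rw [comap_C_primeAt hU' hW e he y'W, hpx] at h0'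
        rw [h0', Ideal.height_bot] at h1
        exact zero_ne_one h1
      · rw [comap_C_primeAt hU' hW e he y'W, hpx] at h2'
        have h3 : primeAt hW e y'W = primeAt hW e yW := h2'.trans h2.symm
        have h4 := primeAt_injective hW e h3
        exact congrArg Subtype.val h4

/-- over a prime divisor with discrete valuation ring there is a prime divisor, along which the
order of a constant function is its order on the base -/
theorem exists_vertical (x : X) (hx : Order.coheight x = 1)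
    [IsDiscreteValuationRing (X.presheaf.stalk x)] :
    ∃ y : 𝔸(n; X), Order.coheight y = 1 ∧ (𝔸(n; X) ↘ X) y = x ∧
      ∀ g : X.functionField, g ≠ 0 → Scheme.ord (pbA n X g) y = Scheme.ord g x := by
  obtain ⟨_, ⟨U, hU, rfl⟩, hxU, -⟩ := X.isBasis_affineOpens.exists_subset_of_mem_open
    (Set.mem_univ x) isOpen_univ
  have hU' : IsAffineOpen U := hU
  haveI : Nonempty U := ⟨⟨_, hxU⟩⟩
  haveI : IsNoetherianRing Γ(X, U) := IsLocallyNoetherian.component_noetherian ⟨U, hU'⟩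
  have hW : IsAffineOpen ((𝔸(n; X) ↘ X) ⁻¹ᵁ U) := hU'.preimage _
  obtain ⟨e, he⟩ := exists_chart n X U hU'
  let xU : U := ⟨x, hxU⟩
  have hp1 : (hU'.primeIdealOf xU).asIdeal.height = 1 := by
    rw [height_primeIdealOf hU' xU]
    exact hx
  haveI hQprime : ((hU'.primeIdealOf xU).asIdeal.map
      (C : Γ(X, U) →+* MvPolynomial n Γ(X, U))).IsPrime := isPrime_map_C _
  have hQ1 := height_map_C (σ := n) (hU'.primeIdealOf xU).asIdeal hp1
  obtain ⟨yW, hyW⟩ := exists_point_of_prime' hW e ((hU'.primeIdealOf xU).asIdeal.map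
      (C : Γ(X, U) →+* MvPolynomial n Γ(X, U)))
  have hy1 : Order.coheight yW.1 = 1 := by
    rw [← height_primeAt hW e yW, hyW]
    exact hQ1
  have hπ : (𝔸(n; X) ↘ X) yW.1 = x := by
    have h1 := comap_C_primeAt hU' hW e he yW
    rw [hyW, comap_map_C] at h1
    have h2 : hU'.primeIdealOf xU = hU'.primeIdealOf ⟨(𝔸(n; X) ↘ X) yW.1, yW.2⟩ :=
      PrimeSpectrum.ext h1
    have h3 := primeIdealOf_injective hU' h2
    exact (congrArg Subtype.val h3).symm
  refine ⟨yW.1, hy1, hπ, ?_⟩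
  intro g hg
  have hpg : pbA n X g ≠ 0 :=
    (map_ne_zero_iff _ (pb_injective (𝔸(n; X) ↘ X) (over_genericPoint n X))).2 hg
  rw [Scheme.ord_eq_iff hy1 hpg]
  have h2 := (Scheme.ord_eq_iff hx hg (n := Scheme.ord g x)).1 rfl
  rw [← h2]
  haveI : IsDiscreteValuationRing (X.presheaf.stalk xU.1) := ‹_›
  exact ordHom_pb_vertical (𝔸(n; X) ↘ X) (over_genericPoint n X) hU' hW e he xU yW hy1 hx hyW g hg

/-- a rational function on the affine space without zeros and poles along the horizontal prime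
divisors is constant -/
theorem const_of_ord_horizontal (g : (𝔸(n; X)).functionField) (hg : g ≠ 0)
    (h : ∀ y : 𝔸(n; X), Order.coheight y = 1 → (𝔸(n; X) ↘ X) y = genericPoint X →
      Scheme.ord g y = 0) :
    ∃ f : X.functionField, f ≠ 0 ∧ pbA n X f = g := by
  obtain ⟨_, ⟨U, hU, rfl⟩, hηU, -⟩ := X.isBasis_affineOpens.exists_subset_of_mem_open
    (Set.mem_univ (genericPoint X)) isOpen_univ
  have hU' : IsAffineOpen U := hU
  haveI : Nonempty U := ⟨⟨_, hηU⟩⟩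
  have hW : IsAffineOpen ((𝔸(n; X) ↘ X) ⁻¹ᵁ U) := hU'.preimage _
  have hηW : genericPoint 𝔸(n; X) ∈ (𝔸(n; X) ↘ X) ⁻¹ᵁ U := by
    change (𝔸(n; X) ↘ X) (genericPoint 𝔸(n; X)) ∈ U
    rw [over_genericPoint]
    exact hηU
  haveI : Nonempty ((𝔸(n; X) ↘ X) ⁻¹ᵁ U : (𝔸(n; X)).Opens) := ⟨⟨_, hηW⟩⟩
  obtain ⟨e, he⟩ := exists_chart n X U hU'
  haveI : IsFractionRing Γ(𝔸(n; X), (𝔸(n; X) ↘ X) ⁻¹ᵁ U) (𝔸(n; X)).functionField :=
    functionField_isFractionRing_of_isAffineOpen _ _ hW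
  obtain ⟨p, q, hq, hpq⟩ := IsFractionRing.div_surjective
    (A := Γ(𝔸(n; X), (𝔸(n; X) ↘ X) ⁻¹ᵁ U)) g
  have hκp : κ e hηW (e.symm p) =
      algebraMap Γ(𝔸(n; X), (𝔸(n; X) ↘ X) ⁻¹ᵁ U) (𝔸(n; X)).functionField p := by
    rw [κ_apply, e.apply_symm_apply]
    rfl
  have hκq : κ e hηW (e.symm q) =
      algebraMap Γ(𝔸(n; X), (𝔸(n; X) ↘ X) ⁻¹ᵁ U) (𝔸(n; X)).functionField q := by
    rw [κ_apply, e.apply_symm_apply]
    rfl
  have hq0 : κ e hηW (e.symm q) ≠ 0 := by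
    rw [hκq]
    exact (map_ne_zero_iff _ (IsFractionRing.injective _ _)).2 (nonZeroDivisors.ne_zero hq)
  have hgab : g * κ e hηW (e.symm q) = κ e hηW (e.symm p) := by
    rw [hκp, hκq, ← hpq, div_mul_cancel₀]
    rw [← hκq]
    exact hq0
  have hb0 : e.symm q ≠ 0 := by
    intro h0
    rw [h0, map_zero] at hq0
    exact hq0 rfl
  have ha0 : e.symm p ≠ 0 := by
    intro h0
    rw [h0, map_zero] at hgab
    exact (mul_ne_zero hg hq0) hgab
  obtain ⟨u, v, hu, hv, huv⟩ := const_of_unitAt (e.symm p) (e.symm q) ha0 hb0 (by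
    intro Q hQprime hQ1 hQh
    obtain ⟨yW, hyW⟩ := exists_point_of_prime' hW e Q
    have hy1 : Order.coheight yW.1 = 1 := by
      rw [← height_primeAt hW e yW, hyW]
      exact hQ1
    have hπ : (𝔸(n; X) ↘ X) yW.1 = genericPoint X := by
      have h1 := comap_C_primeAt hU' hW e he yW
      rw [hyW, hQh] at h1
      exact (primeIdealOf_eq_bot_iff hU' ⟨(𝔸(n; X) ↘ X) yW.1, yW.2⟩).1 h1.symm
    have hord := (ord_eq_zero_iff' hy1 hg).1 (h yW.1 hy1 hπ)
    obtain ⟨c₀, hc₀Q, hc₀0, hc₀⟩ := exists_generator Q hQ1 hQh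
    have hdvr := ((dictionary hW e hηW yW hy1).2.2 c₀ hc₀0 (by rw [hyW]; exact hc₀Q) (by
      intro a ha
      rw [hyW] at ha
      obtain ⟨b, s, hs, hab⟩ := hc₀ a ha
      refine ⟨b, C s, ?_, hab⟩
      rw [hyW]
      exact C_not_mem hQh hs)).1
    obtain ⟨c, d, hc, hd, hcd⟩ := (dictionary hW e hηW yW hy1).2.1 hdvr g hord
    rw [hyW] at hc hd
    refine ⟨c, d, hc, hd, ?_⟩
    apply κ_injective e hηW
    rw [map_mul, map_mul, ← hgab, ← hcd]
    ring)
  have hκC : ∀ a : Γ(X, U), κ e hηW (C a) = pbA n X (toK U hηU a) := by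
    intro a
    rw [κ_apply, he]
    exact (pb_germ (𝔸(n; X) ↘ X) (over_genericPoint n X) U hηU a).symm
  have hu0 : toK U hηU u ≠ 0 := fun h0 => hu (toK_injective U hηU (h0.trans (map_zero _).symm))
  have hv0 : toK U hηU v ≠ 0 := fun h0 => hv (toK_injective U hηU (h0.trans (map_zero _).symm))
  refine ⟨toK U hηU u / toK U hηU v, div_ne_zero hu0 hv0, ?_⟩
  have hpv0 : pbA n X (toK U hηU v) ≠ 0 :=
    (map_ne_zero_iff _ (pb_injective (𝔸(n; X) ↘ X) (over_genericPoint n X))).2 hv0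
  rw [map_div₀, div_eq_iff hpv0, ← hκC, ← hκC]
  have h5 := congrArg (κ e hηW) huv
  rw [map_mul, map_mul, ← hgab] at h5
  have h6 : g * κ e hηW (C v) * κ e hηW (e.symm q) = κ e hηW (C u) * κ e hηW (e.symm q) := by
    rw [mul_right_comm, h5, mul_comm]
  exact (mul_right_cancel₀ hq0 h6).symm

/-- a rational function with a simple zero along a given horizontal prime divisor and no other
zeros or poles along horizontal prime divisors -/
theorem exists_uniformizer_horizontal (y₀ : 𝔸(n; X)) (hy₀ : Order.coheight y₀ = 1)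
    (hπ₀ : (𝔸(n; X) ↘ X) y₀ = genericPoint X) :
    ∃ g : (𝔸(n; X)).functionField, g ≠ 0 ∧ Scheme.ord g y₀ = 1 ∧
      ∀ y : 𝔸(n; X), Order.coheight y = 1 → (𝔸(n; X) ↘ X) y = genericPoint X → y ≠ y₀ →
        Scheme.ord g y = 0 := by
  obtain ⟨_, ⟨U, hU, rfl⟩, hηU, -⟩ := X.isBasis_affineOpens.exists_subset_of_mem_open
    (Set.mem_univ (genericPoint X)) isOpen_univ
  have hU' : IsAffineOpen U := hU
  haveI : Nonempty U := ⟨⟨_, hηU⟩⟩
  have hW : IsAffineOpen ((𝔸(n; X) ↘ X) ⁻¹ᵁ U) := hU'.preimage _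
  have hηW : genericPoint 𝔸(n; X) ∈ (𝔸(n; X) ↘ X) ⁻¹ᵁ U := by
    change (𝔸(n; X) ↘ X) (genericPoint 𝔸(n; X)) ∈ U
    rw [over_genericPoint]
    exact hηU
  obtain ⟨e, he⟩ := exists_chart n X U hU'
  have hmemW : ∀ y : 𝔸(n; X), (𝔸(n; X) ↘ X) y = genericPoint X →
      y ∈ (𝔸(n; X) ↘ X) ⁻¹ᵁ U := by
    intro y hy
    change (𝔸(n; X) ↘ X) y ∈ U
    rw [hy]
    exact hηU
  have hhor : ∀ (y : 𝔸(n; X)) (hy : (𝔸(n; X) ↘ X) y = genericPoint X),
      (primeAt hW e ⟨y, hmemW y hy⟩).comap (C : Γ(X, U) →+* MvPolynomial n Γ(X, U)) = ⊥ := by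
    intro y hy
    rw [comap_C_primeAt hU' hW e he ⟨y, hmemW y hy⟩]
    exact (primeIdealOf_eq_bot_iff hU' ⟨(𝔸(n; X) ↘ X) y, hmemW y hy⟩).2 hy
  have hht : ∀ (y : 𝔸(n; X)) (hy : (𝔸(n; X) ↘ X) y = genericPoint X),
      Order.coheight y = 1 → (primeAt hW e ⟨y, hmemW y hy⟩).height = 1 := by
    intro y hy h1
    rw [height_primeAt]
    exact h1
  obtain ⟨c, hcQ, hc0, hc⟩ := exists_generator (primeAt hW e ⟨y₀, hmemW y₀ hπ₀⟩)
    (hht y₀ hπ₀ hy₀) (hhor y₀ hπ₀)
  have hg0 : κ e hηW c ≠ 0 := fun h0 => hc0 (κ_injective e hηW (h0.trans (map_zero _).symm))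
  refine ⟨κ e hηW c, hg0, ?_, ?_⟩
  · rw [ord_eq_one_iff' hy₀ hg0]
    exact ((dictionary hW e hηW ⟨y₀, hmemW y₀ hπ₀⟩ hy₀).2.2 c hc0 hcQ (by
      intro a ha
      obtain ⟨b, s, hs, hab⟩ := hc a ha
      exact ⟨b, C s, C_not_mem (hhor y₀ hπ₀) hs, hab⟩)).2
  · intro y hy1 hπ hne
    rw [ord_eq_zero_iff' hy1 hg0]
    have hne' : primeAt hW e ⟨y₀, hmemW y₀ hπ₀⟩ ≠ primeAt hW e ⟨y, hmemW y hπ⟩ := by
      intro h3
      have h4 := primeAt_injective hW e h3
      exact hne (congrArg Subtype.val h4).symm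
    have hcn : c ∉ primeAt hW e ⟨y, hmemW y hπ⟩ :=
      generator_not_mem (hht y hπ hy1) (hhor y hπ) hne'
        (ne_bot_of_height_one (hht y₀ hπ₀ hy₀)) hc
    apply (dictionary hW e hηW ⟨y, hmemW y hπ⟩ hy1).1
    refine ⟨c, 1, hcn, ?_, ?_⟩
    · exact (Ideal.ne_top_iff_one _).1 (Ideal.IsPrime.ne_top inferInstance)
    · rw [map_one, mul_one]

end AffineSpace

end Groth.Agent.Lead.WDivG
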