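import Mathlib
import Groth.Agent.Lib.Lead.WDivG4
import Groth.Agent.Lib.Lead.LocSymFin1

/-!
# The divisor class group of the affine space over a scheme regular in codimension one (lead)
-/

set_option autoImplicit false
set_option backward.isDefEq.respectTransparency.types false
set_option synthInstance.maxHeartbeats 400000
set_option linter.style.haveILetI false
set_option linter.unusedSectionVars false
universe u

open CategoryTheory CategoryTheory.Limits AlgebraicGeometry TopologicalSpace Opposite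

namespace Groth.Agent.Lead.WDivG

open Groth.Agent.Lead.WD Groth.Agent.Lead.SecOrd

theorem ord_prod {Z : Scheme.{u}} [IsIntegral Z] [IsLocallyNoetherian Z] {ι : Type*}
    (s : Finset ι) (F : ι → Z.functionField) (hF : ∀ i ∈ s, F i ≠ 0) (z : Z) :
    Scheme.ord (∏ i ∈ s, F i) z = ∑ i ∈ s, Scheme.ord (F i) z := by
  classical
  induction s using Finset.induction_on with
  | empty => simp [SecOrd.ord_one]
  | insert a s ha ih =>
    rw [Finset.prod_insert ha, Finset.sum_insert ha,
      Scheme.ord_mul (hF a (Finset.mem_insert_self a s))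
        (Finset.prod_ne_zero_iff.2 (fun i hi => hF i (Finset.mem_insert_of_mem hi))),
      ih (fun i hi => hF i (Finset.mem_insert_of_mem hi))]

variable (n : Type u) [Finite n] (X : Scheme.{u}) [IsIntegral X] [IsLocallyNoetherian X]
  [IsLocallyNoetherian 𝔸(n; X)]

theorem main_S10900
    (hR1 : ∀ x : X, Order.coheight x = 1 → IsDiscreteValuationRing (X.presheaf.stalk x))
    (D : X → ℤ) (hD : ∀ x, Order.coheight x ≠ 1 → D x = 0)
    (g : (𝔸(n; X)).functionField) (hg : g ≠ 0)
    (h : ∀ y : 𝔸(n; X), Order.coheight y = 1 → Scheme.ord g y = D ((𝔸(n; X) ↘ X) y)) :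
    ∃ f : X.functionField, f ≠ 0 ∧ ∀ x : X, Order.coheight x = 1 → Scheme.ord f x = D x := by
  have hhor : ∀ y : 𝔸(n; X), Order.coheight y = 1 → (𝔸(n; X) ↘ X) y = genericPoint X →
      Scheme.ord g y = 0 := by
    intro y hy hπ
    rw [h y hy, hπ]
    apply hD
    rw [coheight_genericPoint]
    exact zero_ne_one
  obtain ⟨f, hf0, hfg⟩ := const_of_ord_horizontal n X g hg hhor
  refine ⟨f, hf0, ?_⟩
  intro x hx
  haveI := hR1 x hx
  obtain ⟨y, hy, hπy, hord⟩ := exists_vertical n X x hx
  rw [← hord f hf0, hfg, h y hy, hπy]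

theorem main_S10901 [CompactSpace X]
    (hR1 : ∀ x : X, Order.coheight x = 1 → IsDiscreteValuationRing (X.presheaf.stalk x))
    (D' : 𝔸(n; X) → ℤ) (hD' : ∀ y, Order.coheight y ≠ 1 → D' y = 0)
    (hfin : {y | D' y ≠ 0}.Finite) :
    ∃ (D : X → ℤ) (g : (𝔸(n; X)).functionField), (∀ x, Order.coheight x ≠ 1 → D x = 0) ∧
      {x | D x ≠ 0}.Finite ∧ g ≠ 0 ∧
        ∀ y : 𝔸(n; X), Order.coheight y = 1 →
          D' y = D ((𝔸(n; X) ↘ X) y) + Scheme.ord g y := by
  classical
  haveI : CompactSpace 𝔸(n; X) := QuasiCompact.compactSpace_of_compactSpace (𝔸(n; X) ↘ X)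
  let T : Set 𝔸(n; X) := {y | D' y ≠ 0 ∧ (𝔸(n; X) ↘ X) y = genericPoint X}
  have hT : T.Finite := hfin.subset (fun y hy => hy.1)
  have hT1 : ∀ y ∈ T, Order.coheight y = 1 := by
    intro y hy
    by_contra hne
    exact hy.1 (hD' y hne)
  have hex : ∀ y : 𝔸(n; X), y ∈ T → ∃ g : (𝔸(n; X)).functionField, g ≠ 0 ∧ Scheme.ord g y = 1 ∧
      ∀ z : 𝔸(n; X), Order.coheight z = 1 → (𝔸(n; X) ↘ X) z = genericPoint X → z ≠ y →
        Scheme.ord g z = 0 :=
    fun y hy => exists_uniformizer_horizontal n X y (hT1 y hy) hy.2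
  choose! u hu0 hu1 hu2 using hex
  let g : (𝔸(n; X)).functionField := ∏ y ∈ hT.toFinset, u y ^ D' y
  have hF0 : ∀ y ∈ hT.toFinset, u y ^ D' y ≠ 0 := fun y hy =>
    zpow_ne_zero _ (hu0 y (hT.mem_toFinset.1 hy))
  have hg0 : g ≠ 0 := Finset.prod_ne_zero_iff.2 hF0
  have hordg : ∀ z : 𝔸(n; X), Order.coheight z = 1 → (𝔸(n; X) ↘ X) z = genericPoint X →
      Scheme.ord g z = D' z := by
    intro z hz hπ
    change Scheme.ord (∏ y ∈ hT.toFinset, u y ^ D' y) z = D' z
    rw [ord_prod _ _ hF0]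
    have h1 : ∀ y ∈ hT.toFinset, Scheme.ord (u y ^ D' y) z = if y = z then D' y else 0 := by
      intro y hy
      have hyT := hT.mem_toFinset.1 hy
      rw [WD.ord_zpow z (hu0 y hyT)]
      split_ifs with hyz
      · subst hyz
        rw [hu1 y hyT, mul_one]
      · rw [hu2 y hyT z hz hπ (fun h => hyz h.symm), mul_zero]
    rw [Finset.sum_congr rfl h1, Finset.sum_ite_eq']
    split_ifs with hzT
    · rfl
    · by_contra hne
      exact hzT (hT.mem_toFinset.2 ⟨fun h0 => hne h0.symm, hπ⟩)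
  have hv : ∀ x : X, Order.coheight x = 1 →
      ∃ y : 𝔸(n; X), Order.coheight y = 1 ∧ (𝔸(n; X) ↘ X) y = x := by
    intro x hx
    haveI := hR1 x hx
    obtain ⟨y, hy, hπ, -⟩ := exists_vertical n X x hx
    exact ⟨y, hy, hπ⟩
  choose! s hs1 hs2 using hv
  let D : X → ℤ := fun x => if Order.coheight x = 1 then D' (s x) - Scheme.ord g (s x) else 0
  refine ⟨D, g, ?_, ?_, hg0, ?_⟩
  · intro x hx
    simp only [D]
    rw [if_neg hx]
  · have hfin2 := LocSymFin.finite_ord_ne_zero_global g hg0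
    refine ((hfin.union hfin2).image (𝔸(n; X) ↘ X)).subset ?_
    intro x hx
    have hx' : D x ≠ 0 := hx
    simp only [D] at hx'
    by_cases hc : Order.coheight x = 1
    · rw [if_pos hc] at hx'
      refine ⟨s x, ?_, hs2 x hc⟩
      by_cases hd : D' (s x) = 0
      · right
        refine ⟨hs1 x hc, ?_⟩
        intro h0
        apply hx'
        rw [hd, h0, sub_zero]
      · left
        exact hd
    · rw [if_neg hc] at hx'
      exact absurd rfl hx'
  · intro y hy
    rcases vertical_or_horizontal n X y hy with hπ | ⟨hx, huniq⟩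
    · have hD0 : D ((𝔸(n; X) ↘ X) y) = 0 := by
        simp only [D]
        rw [if_neg]
        rw [hπ, coheight_genericPoint]
        exact zero_ne_one
      rw [hD0, zero_add, hordg y hy hπ]
    · have hsy : s ((𝔸(n; X) ↘ X) y) = y := huniq _ (hs1 _ hx) (hs2 _ hx)
      simp only [D]
      rw [if_pos hx, hsy]
      ring

end Groth.Agent.Lead.WDivG
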