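import Mathlib
import Groth.Agent.Lib.Lead.WDivG5

/-!
# Prime divisors of a scheme which is locally an affine space over its base (lead)

The results of `WDivG4`, `WDivG5` for a morphism `f : Y ⟶ X` such that `X` is covered by affine
opens `U` with `f ⁻¹ᵁ U` affine and `Γ(Y, f ⁻¹ᵁ U)` a polynomial ring over `Γ(X, U)`.
-/

set_option autoImplicit false
set_option backward.isDefEq.respectTransparency.types false
set_option synthInstance.maxHeartbeats 400000
set_option linter.style.haveILetI false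
set_option linter.unusedSectionVars false
universe u

open CategoryTheory CategoryTheory.Limits AlgebraicGeometry TopologicalSpace Opposite

namespace Groth.Agent.Lead.WDivH

open MvPolynomial Groth.Agent.Lead.WD Groth.Agent.Lead.SecOrd Groth.Agent.Lead.WDivA
  Groth.Agent.Lead.WDivG

section Vertical

open MvPolynomial

variable {X Y : Scheme.{u}} [IsIntegral X] [IsLocallyNoetherian X] [IsIntegral Y]
  [IsLocallyNoetherian Y] (f : Y ⟶ X) (hf : f (genericPoint Y) = genericPoint X)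
  {U : X.Opens} (hU : IsAffineOpen U) (hW : IsAffineOpen (f ⁻¹ᵁ U)) {σ : Type}
  (e : MvPolynomial σ Γ(X, U) ≃+* Γ(Y, f ⁻¹ᵁ U)) (he : ∀ a, e (C a) = (f.app U).hom a)

include he in
theorem ordHom_pb_vertical0 (x : U) (y : (f ⁻¹ᵁ U : Y.Opens)) (hy : Order.coheight y.1 = 1)
    (hx : Order.coheight x.1 = 1)
    [IsDiscreteValuationRing (X.presheaf.stalk x.1)]
    (hQ : primeAt hW e y = (hU.primeIdealOf x).asIdeal.map C)
    (g : X.functionField) (hg : g ≠ 0) :
    Y.ordHom y.1 hy (pb f hf g) = X.ordHom x.1 hx g := by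
  haveI : Nonempty U := ⟨x⟩
  haveI : Nonempty (f ⁻¹ᵁ U : Y.Opens) := ⟨y⟩
  have hηU : genericPoint X ∈ U :=
    (genericPoint_specializes x.1).mem_open U.2 x.2
  have hηW : genericPoint Y ∈ f ⁻¹ᵁ U :=
    (genericPoint_specializes y.1).mem_open (f ⁻¹ᵁ U).2 y.2
  haveI := hW.isLocalization_stalk y
  haveI := hU.isLocalization_stalk x
  haveI : IsFractionRing Γ(Y, f ⁻¹ᵁ U) Y.functionField :=
    functionField_isFractionRing_of_isAffineOpen Y _ hW
  haveI : IsFractionRing Γ(X, U) X.functionField :=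
    functionField_isFractionRing_of_isAffineOpen X _ hU
  haveI : Ring.KrullDimLE 1 (Y.presheaf.stalk y.1) := krullDimLE_of_coheight_le hy.le
  haveI : Ring.KrullDimLE 1 (X.presheaf.stalk x.1) := krullDimLE_of_coheight_le hx.le
  letI algRO : Algebra (MvPolynomial σ Γ(X, U)) (Y.presheaf.stalk y.1) :=
    ((algebraMap Γ(Y, f ⁻¹ᵁ U) (Y.presheaf.stalk y.1)).comp
      (e : MvPolynomial σ Γ(X, U) →+* Γ(Y, f ⁻¹ᵁ U))).toAlgebra
  letI algRL : Algebra (MvPolynomial σ Γ(X, U)) Y.functionField :=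
    ((algebraMap Γ(Y, f ⁻¹ᵁ U) Y.functionField).comp
      (e : MvPolynomial σ Γ(X, U) →+* Γ(Y, f ⁻¹ᵁ U))).toAlgebra
  haveI : IsScalarTower (MvPolynomial σ Γ(X, U)) (Y.presheaf.stalk y.1) Y.functionField :=
    IsScalarTower.of_algebraMap_eq (fun r =>
      IsScalarTower.algebraMap_apply Γ(Y, f ⁻¹ᵁ U)
        (Y.presheaf.stalk y.1) Y.functionField (e r))
  haveI : IsLocalization.AtPrime (Y.presheaf.stalk y.1) (primeAt hW e y) :=
    isLocalization_of_ringEquiv e _ (hW.primeIdealOf y).asIdeal.primeCompl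
      (fun r => Iff.rfl) _ (fun r => rfl)
  haveI : IsFractionRing (MvPolynomial σ Γ(X, U)) Y.functionField :=
    isLocalization_of_ringEquiv e (nonZeroDivisors (MvPolynomial σ Γ(X, U)))
      (nonZeroDivisors Γ(Y, f ⁻¹ᵁ U)) (fun r => by
      rw [mem_nonZeroDivisors_iff_ne_zero, mem_nonZeroDivisors_iff_ne_zero, ne_eq, ne_eq,
        map_eq_zero_iff e e.injective]) _ (fun r => rfl)
  have hι : ∀ a : Γ(X, U), pb f hf (algebraMap Γ(X, U) X.functionField a) =
      algebraMap (MvPolynomial σ Γ(X, U)) Y.functionField (C a) := by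
    intro a
    change pb f hf (X.presheaf.germ U (genericPoint X) hηU a) =
      Y.presheaf.germ (f ⁻¹ᵁ U) (genericPoint Y) hηW (e (C a))
    rw [pb_germ f hf U hηU a, he]
  exact vertical_ord' (hU.primeIdealOf x).asIdeal (primeAt hW e y) hQ
    (X.presheaf.stalk x.1) (Y.presheaf.stalk y.1) (pb f hf) hι g hg

end Vertical

variable {X Y : Scheme.{u}} [IsIntegral X] [IsLocallyNoetherian X] [IsIntegral Y]
  [IsLocallyNoetherian Y] (f : Y ⟶ X) (σ : Type) [Finite σ]

/-- the base is covered by affine opens over which `Y` is an affine space -/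
def HasCharts : Prop :=
  ∀ x : X, ∃ (U : X.Opens) (hU : IsAffineOpen U) (hW : IsAffineOpen (f ⁻¹ᵁ U))
    (e : MvPolynomial σ Γ(X, U) ≃+* Γ(Y, f ⁻¹ᵁ U)), x ∈ U ∧ ∀ a, e (C a) = (f.app U).hom a

variable {f σ} in
theorem map_genericPoint' (hch : HasCharts f σ) : f (genericPoint Y) = genericPoint X := by
  obtain ⟨U, hU, hW, e, hxU, he⟩ := hch (f (genericPoint Y))
  haveI : Nonempty U := ⟨⟨_, hxU⟩⟩
  have h1 := comap_primeIdealOf f hU hW (genericPoint Y) hxU
  have h2 : (hW.primeIdealOf ⟨genericPoint Y, hxU⟩).asIdeal = ⊥ :=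
    (primeIdealOf_eq_bot_iff hW ⟨genericPoint Y, hxU⟩).2 rfl
  rw [h2] at h1
  have h3 : (hU.primeIdealOf ⟨f (genericPoint Y), hxU⟩).asIdeal = ⊥ := by
    rw [← h1, eq_bot_iff]
    intro a ha
    rw [Ideal.mem_comap, Ideal.mem_bot, ← he] at ha
    have h4 := e.injective (ha.trans (map_zero e).symm)
    exact (Ideal.mem_bot).2 (C_injective σ _ (h4.trans C_0.symm))
  exact (primeIdealOf_eq_bot_iff hU ⟨f (genericPoint Y), hxU⟩).1 h3

theorem map_genericPoint (hch : HasCharts f σ) : f (genericPoint Y) = genericPoint X :=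
  map_genericPoint' hch

variable {f σ} in
theorem comap_C_primeAt {U : X.Opens} [Nonempty U] (hU : IsAffineOpen U)
    (hW : IsAffineOpen (f ⁻¹ᵁ U))
    (e : MvPolynomial σ Γ(X, U) ≃+* Γ(Y, f ⁻¹ᵁ U))
    (he : ∀ a, e (C a) = (f.app U).hom a)
    (y : (f ⁻¹ᵁ U : Y.Opens)) :
    (primeAt hW e y).comap (C : Γ(X, U) →+* MvPolynomial σ Γ(X, U)) =
      (hU.primeIdealOf ⟨f y.1, y.2⟩).asIdeal := by
  rw [← comap_primeIdealOf f hU hW y.1 y.2]
  ext a
  rw [Ideal.mem_comap, mem_primeAt, he, Ideal.mem_comap]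

variable (hch : HasCharts f σ)
include hch

/-- a prime divisor of the affine space is horizontal, or the unique one over a prime divisor -/
theorem vertical_or_horizontal (y : Y) (hy : Order.coheight y = 1) :
    f y = genericPoint X ∨
      (Order.coheight (f y) = 1 ∧
        ∀ y' : Y, Order.coheight y' = 1 →
          f y' = f y → y' = y) := by
  obtain ⟨U, hU', hW, e, hxU, he⟩ := hch (f y)
  haveI : Nonempty U := ⟨⟨_, hxU⟩⟩
  let yW : (f ⁻¹ᵁ U : Y.Opens) := ⟨y, hxU⟩
  let x : U := ⟨f y, hxU⟩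
  have hht : (primeAt hW e yW).height = 1 := by
    rw [height_primeAt]
    exact hy
  rcases height_one_mv (primeAt hW e yW) hht with h0 | ⟨h1, h2⟩
  · left
    rw [comap_C_primeAt hU' hW e he yW] at h0
    exact (primeIdealOf_eq_bot_iff hU' x).1 h0
  · right
    rw [comap_C_primeAt hU' hW e he yW] at h1 h2
    refine ⟨?_, ?_⟩
    · rw [← height_primeIdealOf hU' x]
      exact h1
    · intro y' hy' hyy'
      have hy'W : y' ∈ f ⁻¹ᵁ U := by
        change f y' ∈ U
        rw [hyy']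
        exact hxU
      let y'W : (f ⁻¹ᵁ U : Y.Opens) := ⟨y', hy'W⟩
      have hht' : (primeAt hW e y'W).height = 1 := by
        rw [height_primeAt]
        exact hy'
      have hpx : hU'.primeIdealOf ⟨f y', hy'W⟩ = hU'.primeIdealOf x := by
        congr 1
        exact Subtype.ext hyy'
      rcases height_one_mv (primeAt hW e y'W) hht' with h0' | ⟨h1', h2'⟩
      · exfalso
        rw [comap_C_primeAt hU' hW e he y'W, hpx] at h0'
        rw [h0', Ideal.height_bot] at h1
        exact zero_ne_one h1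
      · rw [comap_C_primeAt hU' hW e he y'W, hpx] at h2'
        have h3 : primeAt hW e y'W = primeAt hW e yW := h2'.trans h2.symm
        have h4 := primeAt_injective hW e h3
        exact congrArg Subtype.val h4

/-- over a prime divisor with discrete valuation ring there is a prime divisor, along which the
order of a constant function is its order on the base -/
theorem exists_vertical (x : X) (hx : Order.coheight x = 1)
    [IsDiscreteValuationRing (X.presheaf.stalk x)] :
    ∃ y : Y, Order.coheight y = 1 ∧ f y = x ∧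
      ∀ g : X.functionField, g ≠ 0 → Scheme.ord (pb f (map_genericPoint f σ hch) g) y = Scheme.ord g x := by
  obtain ⟨U, hU', hW, e, hxU, he⟩ := hch x
  haveI : Nonempty U := ⟨⟨_, hxU⟩⟩
  haveI : IsNoetherianRing Γ(X, U) := IsLocallyNoetherian.component_noetherian ⟨U, hU'⟩
  let xU : U := ⟨x, hxU⟩
  have hp1 : (hU'.primeIdealOf xU).asIdeal.height = 1 := by
    rw [height_primeIdealOf hU' xU]
    exact hx
  haveI hQprime : ((hU'.primeIdealOf xU).asIdeal.map
      (C : Γ(X, U) →+* MvPolynomial σ Γ(X, U))).IsPrime := isPrime_map_C _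
  have hQ1 := height_map_C (σ := σ) (hU'.primeIdealOf xU).asIdeal hp1
  obtain ⟨yW, hyW⟩ := exists_point_of_prime' hW e ((hU'.primeIdealOf xU).asIdeal.map
      (C : Γ(X, U) →+* MvPolynomial σ Γ(X, U)))
  have hy1 : Order.coheight yW.1 = 1 := by
    rw [← height_primeAt hW e yW, hyW]
    exact hQ1
  have hπ : f yW.1 = x := by
    have h1 := comap_C_primeAt hU' hW e he yW
    rw [hyW, comap_map_C] at h1
    have h2 : hU'.primeIdealOf xU = hU'.primeIdealOf ⟨f yW.1, yW.2⟩ :=
      PrimeSpectrum.ext h1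
    have h3 := primeIdealOf_injective hU' h2
    exact (congrArg Subtype.val h3).symm
  refine ⟨yW.1, hy1, hπ, ?_⟩
  intro g hg
  have hpg : pb f (map_genericPoint f σ hch) g ≠ 0 :=
    (map_ne_zero_iff _ (pb_injective f (map_genericPoint f σ hch))).2 hg
  rw [Scheme.ord_eq_iff hy1 hpg]
  have h2 := (Scheme.ord_eq_iff hx hg (n := Scheme.ord g x)).1 rfl
  rw [← h2]
  haveI : IsDiscreteValuationRing (X.presheaf.stalk xU.1) := ‹_›
  exact ordHom_pb_vertical0 f (map_genericPoint f σ hch) hU' hW e he xU yW hy1 hx hyW g hg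

/-- a rational function on the affine space without zeros and poles along the horizontal prime
divisors is constant -/
theorem const_of_ord_horizontal (g : Y.functionField) (hg : g ≠ 0)
    (h : ∀ y : Y, Order.coheight y = 1 → f y = genericPoint X →
      Scheme.ord g y = 0) :
    ∃ f₀ : X.functionField, f₀ ≠ 0 ∧ pb f (map_genericPoint f σ hch) f₀ = g := by
  obtain ⟨U, hU', hW, e, hηU, he⟩ := hch (genericPoint X)
  haveI : Nonempty U := ⟨⟨_, hηU⟩⟩
  have hηW : genericPoint Y ∈ f ⁻¹ᵁ U := by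
    change f (genericPoint Y) ∈ U
    rw [map_genericPoint f σ hch]
    exact hηU
  haveI : Nonempty (f ⁻¹ᵁ U : Y.Opens) := ⟨⟨_, hηW⟩⟩
  haveI : IsFractionRing Γ(Y, f ⁻¹ᵁ U) Y.functionField :=
    functionField_isFractionRing_of_isAffineOpen _ _ hW
  obtain ⟨p, q, hq, hpq⟩ := IsFractionRing.div_surjective
    (A := Γ(Y, f ⁻¹ᵁ U)) g
  have hκp : κ e hηW (e.symm p) =
      algebraMap Γ(Y, f ⁻¹ᵁ U) Y.functionField p := by
    rw [κ_apply, e.apply_symm_apply]
    rfl
  have hκq : κ e hηW (e.symm q) =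
      algebraMap Γ(Y, f ⁻¹ᵁ U) Y.functionField q := by
    rw [κ_apply, e.apply_symm_apply]
    rfl
  have hq0 : κ e hηW (e.symm q) ≠ 0 := by
    rw [hκq]
    exact (map_ne_zero_iff _ (IsFractionRing.injective _ _)).2 (nonZeroDivisors.ne_zero hq)
  have hgab : g * κ e hηW (e.symm q) = κ e hηW (e.symm p) := by
    rw [hκp, hκq, ← hpq, div_mul_cancel₀]
    rw [← hκq]
    exact hq0
  have hb0 : e.symm q ≠ 0 := by
    intro h0
    rw [h0, map_zero] at hq0
    exact hq0 rfl
  have ha0 : e.symm p ≠ 0 := by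
    intro h0
    rw [h0, map_zero] at hgab
    exact (mul_ne_zero hg hq0) hgab
  obtain ⟨u, v, hu, hv, huv⟩ := const_of_unitAt (e.symm p) (e.symm q) ha0 hb0 (by
    intro Q hQprime hQ1 hQh
    obtain ⟨yW, hyW⟩ := exists_point_of_prime' hW e Q
    have hy1 : Order.coheight yW.1 = 1 := by
      rw [← height_primeAt hW e yW, hyW]
      exact hQ1
    have hπ : f yW.1 = genericPoint X := by
      have h1 := comap_C_primeAt hU' hW e he yW
      rw [hyW, hQh] at h1
      exact (primeIdealOf_eq_bot_iff hU' ⟨f yW.1, yW.2⟩).1 h1.symm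
    have hord := (ord_eq_zero_iff' hy1 hg).1 (h yW.1 hy1 hπ)
    obtain ⟨c₀, hc₀Q, hc₀0, hc₀⟩ := exists_generator Q hQ1 hQh
    have hdvr := ((dictionary hW e hηW yW hy1).2.2 c₀ hc₀0 (by rw [hyW]; exact hc₀Q) (by
      intro a ha
      rw [hyW] at ha
      obtain ⟨b, s, hs, hab⟩ := hc₀ a ha
      refine ⟨b, C s, ?_, hab⟩
      rw [hyW]
      exact C_not_mem hQh hs)).1
    obtain ⟨c, d, hc, hd, hcd⟩ := (dictionary hW e hηW yW hy1).2.1 hdvr g hord
    rw [hyW] at hc hd
    refine ⟨c, d, hc, hd, ?_⟩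
    apply κ_injective e hηW
    rw [map_mul, map_mul, ← hgab, ← hcd]
    ring)
  have hκC : ∀ a : Γ(X, U), κ e hηW (C a) = pb f (map_genericPoint f σ hch) (toK U hηU a) := by
    intro a
    rw [κ_apply, he]
    exact (pb_germ f (map_genericPoint f σ hch) U hηU a).symm
  have hu0 : toK U hηU u ≠ 0 := fun h0 => hu (toK_injective U hηU (h0.trans (map_zero _).symm))
  have hv0 : toK U hηU v ≠ 0 := fun h0 => hv (toK_injective U hηU (h0.trans (map_zero _).symm))
  refine ⟨toK U hηU u / toK U hηU v, div_ne_zero hu0 hv0, ?_⟩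
  have hpv0 : pb f (map_genericPoint f σ hch) (toK U hηU v) ≠ 0 :=
    (map_ne_zero_iff _ (pb_injective f (map_genericPoint f σ hch))).2 hv0
  rw [map_div₀, div_eq_iff hpv0, ← hκC, ← hκC]
  have h5 := congrArg (κ e hηW) huv
  rw [map_mul, map_mul, ← hgab] at h5
  have h6 : g * κ e hηW (C v) * κ e hηW (e.symm q) = κ e hηW (C u) * κ e hηW (e.symm q) := by
    rw [mul_right_comm, h5, mul_comm]
  exact (mul_right_cancel₀ hq0 h6).symm

/-- a rational function with a simple zero along a given horizontal prime divisor and no other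
zeros or poles along horizontal prime divisors -/
theorem exists_uniformizer_horizontal (y₀ : Y) (hy₀ : Order.coheight y₀ = 1)
    (hπ₀ : f y₀ = genericPoint X) :
    ∃ g : Y.functionField, g ≠ 0 ∧ Scheme.ord g y₀ = 1 ∧
      ∀ y : Y, Order.coheight y = 1 → f y = genericPoint X → y ≠ y₀ →
        Scheme.ord g y = 0 := by
  obtain ⟨U, hU', hW, e, hηU, he⟩ := hch (genericPoint X)
  haveI : Nonempty U := ⟨⟨_, hηU⟩⟩
  have hηW : genericPoint Y ∈ f ⁻¹ᵁ U := by
    change f (genericPoint Y) ∈ U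
    rw [map_genericPoint f σ hch]
    exact hηU
  have hmemW : ∀ y : Y, f y = genericPoint X →
      y ∈ f ⁻¹ᵁ U := by
    intro y hy
    change f y ∈ U
    rw [hy]
    exact hηU
  have hhor : ∀ (y : Y) (hy : f y = genericPoint X),
      (primeAt hW e ⟨y, hmemW y hy⟩).comap (C : Γ(X, U) →+* MvPolynomial σ Γ(X, U)) = ⊥ := by
    intro y hy
    rw [comap_C_primeAt hU' hW e he ⟨y, hmemW y hy⟩]
    exact (primeIdealOf_eq_bot_iff hU' ⟨f y, hmemW y hy⟩).2 hy
  have hht : ∀ (y : Y) (hy : f y = genericPoint X),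
      Order.coheight y = 1 → (primeAt hW e ⟨y, hmemW y hy⟩).height = 1 := by
    intro y hy h1
    rw [height_primeAt]
    exact h1
  obtain ⟨c, hcQ, hc0, hc⟩ := exists_generator (primeAt hW e ⟨y₀, hmemW y₀ hπ₀⟩)
    (hht y₀ hπ₀ hy₀) (hhor y₀ hπ₀)
  have hg0 : κ e hηW c ≠ 0 := fun h0 => hc0 (κ_injective e hηW (h0.trans (map_zero _).symm))
  refine ⟨κ e hηW c, hg0, ?_, ?_⟩
  · rw [ord_eq_one_iff' hy₀ hg0]
    exact ((dictionary hW e hηW ⟨y₀, hmemW y₀ hπ₀⟩ hy₀).2.2 c hc0 hcQ (by
      intro a ha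
      obtain ⟨b, s, hs, hab⟩ := hc a ha
      exact ⟨b, C s, C_not_mem (hhor y₀ hπ₀) hs, hab⟩)).2
  · intro y hy1 hπ hne
    rw [ord_eq_zero_iff' hy1 hg0]
    have hne' : primeAt hW e ⟨y₀, hmemW y₀ hπ₀⟩ ≠ primeAt hW e ⟨y, hmemW y hπ⟩ := by
      intro h3
      have h4 := primeAt_injective hW e h3
      exact hne (congrArg Subtype.val h4).symm
    have hcn : c ∉ primeAt hW e ⟨y, hmemW y hπ⟩ :=
      generator_not_mem (hht y hπ hy1) (hhor y hπ) hne'
        (ne_bot_of_height_one (hht y₀ hπ₀ hy₀)) hc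
    apply (dictionary hW e hηW ⟨y, hmemW y hπ⟩ hy1).1
    refine ⟨c, 1, hcn, ?_, ?_⟩
    · exact (Ideal.ne_top_iff_one _).1 (Ideal.IsPrime.ne_top inferInstance)
    · rw [map_one, mul_one]


theorem main_S10900'
    (hR1 : ∀ x : X, Order.coheight x = 1 → IsDiscreteValuationRing (X.presheaf.stalk x))
    (D : X → ℤ) (hD : ∀ x, Order.coheight x ≠ 1 → D x = 0)
    (g : Y.functionField) (hg : g ≠ 0)
    (h : ∀ y : Y, Order.coheight y = 1 → Scheme.ord g y = D (f y)) :
    ∃ f₀ : X.functionField, f₀ ≠ 0 ∧ ∀ x : X, Order.coheight x = 1 → Scheme.ord f₀ x = D x := by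
  have hhor : ∀ y : Y, Order.coheight y = 1 → f y = genericPoint X →
      Scheme.ord g y = 0 := by
    intro y hy hπ
    rw [h y hy, hπ]
    apply hD
    rw [coheight_genericPoint]
    exact zero_ne_one
  obtain ⟨f₀, hf0, hfg⟩ := const_of_ord_horizontal f σ hch g hg hhor
  refine ⟨f₀, hf0, ?_⟩
  intro x hx
  haveI := hR1 x hx
  obtain ⟨y, hy, hπy, hord⟩ := exists_vertical f σ hch x hx
  rw [← hord f₀ hf0, hfg, h y hy, hπy]

theorem main_S10901' [CompactSpace Y]
    (hR1 : ∀ x : X, Order.coheight x = 1 → IsDiscreteValuationRing (X.presheaf.stalk x))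
    (D' : Y → ℤ) (hD' : ∀ y, Order.coheight y ≠ 1 → D' y = 0)
    (hfin : {y | D' y ≠ 0}.Finite) :
    ∃ (D : X → ℤ) (g : Y.functionField), (∀ x, Order.coheight x ≠ 1 → D x = 0) ∧
      {x | D x ≠ 0}.Finite ∧ g ≠ 0 ∧
        ∀ y : Y, Order.coheight y = 1 →
          D' y = D (f y) + Scheme.ord g y := by
  classical
  let T : Set Y := {y | D' y ≠ 0 ∧ f y = genericPoint X}
  have hT : T.Finite := hfin.subset (fun y hy => hy.1)
  have hT1 : ∀ y ∈ T, Order.coheight y = 1 := by
    intro y hy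
    by_contra hne
    exact hy.1 (hD' y hne)
  have hex : ∀ y : Y, y ∈ T → ∃ g : Y.functionField, g ≠ 0 ∧ Scheme.ord g y = 1 ∧
      ∀ z : Y, Order.coheight z = 1 → f z = genericPoint X → z ≠ y →
        Scheme.ord g z = 0 :=
    fun y hy => exists_uniformizer_horizontal f σ hch y (hT1 y hy) hy.2
  choose! u hu0 hu1 hu2 using hex
  let g : Y.functionField := ∏ y ∈ hT.toFinset, u y ^ D' y
  have hF0 : ∀ y ∈ hT.toFinset, u y ^ D' y ≠ 0 := fun y hy =>
    zpow_ne_zero _ (hu0 y (hT.mem_toFinset.1 hy))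
  have hg0 : g ≠ 0 := Finset.prod_ne_zero_iff.2 hF0
  have hordg : ∀ z : Y, Order.coheight z = 1 → f z = genericPoint X →
      Scheme.ord g z = D' z := by
    intro z hz hπ
    change Scheme.ord (∏ y ∈ hT.toFinset, u y ^ D' y) z = D' z
    rw [ord_prod _ _ hF0]
    have h1 : ∀ y ∈ hT.toFinset, Scheme.ord (u y ^ D' y) z = if y = z then D' y else 0 := by
      intro y hy
      have hyT := hT.mem_toFinset.1 hy
      rw [WD.ord_zpow z (hu0 y hyT)]
      split_ifs with hyz
      · subst hyz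
        rw [hu1 y hyT, mul_one]
      · rw [hu2 y hyT z hz hπ (fun h => hyz h.symm), mul_zero]
    rw [Finset.sum_congr rfl h1, Finset.sum_ite_eq']
    split_ifs with hzT
    · rfl
    · by_contra hne
      exact hzT (hT.mem_toFinset.2 ⟨fun h0 => hne h0.symm, hπ⟩)
  have hv : ∀ x : X, Order.coheight x = 1 →
      ∃ y : Y, Order.coheight y = 1 ∧ f y = x := by
    intro x hx
    haveI := hR1 x hx
    obtain ⟨y, hy, hπ, -⟩ := exists_vertical f σ hch x hx
    exact ⟨y, hy, hπ⟩
  choose! s hs1 hs2 using hv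
  let D : X → ℤ := fun x => if Order.coheight x = 1 then D' (s x) - Scheme.ord g (s x) else 0
  refine ⟨D, g, ?_, ?_, hg0, ?_⟩
  · intro x hx
    simp only [D]
    rw [if_neg hx]
  · have hfin2 := LocSymFin.finite_ord_ne_zero_global g hg0
    refine ((hfin.union hfin2).image f).subset ?_
    intro x hx
    have hx' : D x ≠ 0 := hx
    simp only [D] at hx'
    by_cases hc : Order.coheight x = 1
    · rw [if_pos hc] at hx'
      refine ⟨s x, ?_, hs2 x hc⟩
      by_cases hd : D' (s x) = 0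
      · right
        refine ⟨hs1 x hc, ?_⟩
        intro h0
        apply hx'
        rw [hd, h0, sub_zero]
      · left
        exact hd
    · rw [if_neg hc] at hx'
      exact absurd rfl hx'
  · intro y hy
    rcases vertical_or_horizontal f σ hch y hy with hπ | ⟨hx, huniq⟩
    · have hD0 : D (f y) = 0 := by
        simp only [D]
        rw [if_neg]
        rw [hπ, coheight_genericPoint]
        exact zero_ne_one
      rw [hD0, zero_add, hordg y hy hπ]
    · have hsy : s (f y) = y := huniq _ (hs1 _ hx) (hs2 _ hx)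
      simp only [D]
      rw [if_pos hx, hsy]
      ring


end Groth.Agent.Lead.WDivH
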