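import Mathlib
import Groth.Agent.Lib.Lead.WDivH1
import Groth.Agent.Lib.Lead.OpT1

/-!
# Pullback of rational functions: functoriality, open subschemes, orders along points over the
generic point (lead)
-/

set_option autoImplicit false
set_option backward.isDefEq.respectTransparency.types false
set_option synthInstance.maxHeartbeats 400000
set_option linter.style.haveILetI false
set_option linter.unusedSectionVars false
universe u

open CategoryTheory CategoryTheory.Limits AlgebraicGeometry TopologicalSpace Opposite

namespace Groth.Agent.Lead.WDivH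

open Groth.Agent.Lead.WD Groth.Agent.Lead.SecOrd Groth.Agent.Lead.WDivG

section Comp

variable {X Y Z : Scheme.{u}} [IsIntegral X] [IsIntegral Y] [IsIntegral Z]

theorem pb_comp (g : Z ⟶ Y) (f : Y ⟶ X) (hg : g (genericPoint Z) = genericPoint Y)
    (hf : f (genericPoint Y) = genericPoint X)
    (hgf : (g ≫ f) (genericPoint Z) = genericPoint X) (a : X.functionField) :
    pb (g ≫ f) hgf a = pb g hg (pb f hf a) := by
  obtain ⟨U, hηU, s, rfl⟩ := TopCat.Presheaf.exists_germ_eq X.presheaf a
  rw [pb_germ (g ≫ f) hgf U hηU s, pb_germ f hf U hηU s, pb_germ g hg (f ⁻¹ᵁ U) _ _]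
  rfl

end Comp

section Open

variable {X : Scheme.{u}} [IsIntegral X] (U : X.Opens) [Nonempty U]

theorem kEquiv_symm_apply (a : X.functionField) :
    (OpT.kEquiv U).symm a = pb U.ι (OpT.ι_genericPoint U) a := by
  change (OpT.kIso U).inv.hom a = _
  have e4 : (OpT.kIso U).inv = X.presheaf.stalkSpecializes
      (specializes_of_eq (OpT.ι_genericPoint U)) ≫
        U.ι.stalkMap (genericPoint (U : Scheme.{u})) := by
    unfold OpT.kIso
    rw [Iso.trans_inv, Scheme.Opens.stalkIso_inv]
    rfl
  rw [e4]
  rfl

theorem kEquiv_pb (a : X.functionField) :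
    OpT.kEquiv U (pb U.ι (OpT.ι_genericPoint U) a) = a := by
  rw [← kEquiv_symm_apply, RingEquiv.apply_symm_apply]

end Open

section Generic

variable {X Y : Scheme.{u}} [IsIntegral X] [IsIntegral Y] [IsLocallyNoetherian Y] (f : Y ⟶ X)
  (hf : f (genericPoint Y) = genericPoint X)

/-- the pullback of a nonzero rational function has neither zero nor pole along a prime divisor
dominating the base -/
theorem ord_pb_of_map_generic (y : Y) (hyη : f y = genericPoint X) (a : X.functionField)
    (ha : a ≠ 0) : Scheme.ord (pb f hf a) y = 0 := by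
  by_cases hy : Order.coheight y = 1
  swap
  · exact Scheme.ord_eq_zero_of_coheight_neq_one hy _
  have hne : pb f hf a ≠ 0 := (map_ne_zero_iff _ (pb f hf).injective).2 ha
  rw [ord_eq_zero_iff' hy hne]
  haveI : Ring.KrullDimLE 1 (Y.presheaf.stalk y) := krullDimLE_of_coheight_le hy.le
  have hsp : f y ⤳ genericPoint X := specializes_of_eq hyη
  have hu : IsUnit ((X.presheaf.stalkSpecializes hsp).hom a) := (IsUnit.mk0 a ha).map _
  have key : pb f hf a = algebraMap (Y.presheaf.stalk y) Y.functionField
      ((f.stalkMap y).hom ((X.presheaf.stalkSpecializes hsp).hom a)) := by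
    have h1 := Scheme.Hom.stalkSpecializes_stalkMap_apply f (genericPoint Y) y
      (genericPoint_specializes y) ((X.presheaf.stalkSpecializes hsp).hom a)
    change (f.stalkMap (genericPoint Y)).hom
      ((X.presheaf.stalkSpecializes (specializes_of_eq hf)).hom a) =
      (Y.presheaf.stalkSpecializes (genericPoint_specializes y)).hom
        ((f.stalkMap y).hom ((X.presheaf.stalkSpecializes hsp).hom a))
    refine Eq.trans ?_ h1
    congr 1
    exact (TopCat.Presheaf.stalkSpecializes_comp_apply X.presheaf _ _ a).symm
  change Ring.ordFrac (Y.presheaf.stalk y) (pb f hf a) = 1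
  rw [key]
  exact Ring.ordFrac_of_isUnit (hu.map _)

end Generic

end Groth.Agent.Lead.WDivH
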