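import Mathlib
import Groth.Prelude.Def_CohB1
import Groth.Agent.Lib.Helper6.ProjChart
import Groth.Agent.Lib.Lead.WDivH2

/-!
# The standard charts of projective space over a ring as affine spaces over the base (lead)
-/

set_option autoImplicit false
set_option backward.isDefEq.respectTransparency.types false
set_option synthInstance.maxHeartbeats 400000
set_option linter.style.haveILetI false
set_option linter.unusedSectionVars false
universe u

open CategoryTheory CategoryTheory.Limits AlgebraicGeometry TopologicalSpace Opposite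
  HomogeneousLocalization

namespace Groth.Agent.Lead.WDivH

open Groth.Agent.Lead.WD Groth.Agent.Lead.SecOrd Groth.Agent.Lead.WDivG
  Groth.Agent.Lib.Helper6.ProjChart

variable (n : ℕ) (A : Type u) [CommRing A] (i : Fin (n + 1))

theorem X_mem_deg : (MvPolynomial.X i : MvPolynomial (Fin (n + 1)) A) ∈ CohB1.polyGrading n A 1 :=
  MvPolynomial.isHomogeneous_X A i

/-- the standard open `D₊(X i)` -/
noncomputable abbrev Wi : (Proj (CohB1.polyGrading n A)).Opens :=
  Proj.basicOpen (CohB1.polyGrading n A) (MvPolynomial.X i)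

theorem isAffineOpen_Wi : IsAffineOpen (Wi n A i) :=
  Proj.isAffineOpen_basicOpen (CohB1.polyGrading n A) (MvPolynomial.X i) (X_mem_deg n A i) one_pos

/-- the structure map of the chart -/
noncomputable def fi : ((Wi n A i : (Proj (CohB1.polyGrading n A)).Opens) : Scheme.{u}) ⟶
    Spec (CommRingCat.of A) :=
  (Wi n A i).ι ≫ Proj.toSpecZero (CohB1.polyGrading n A) ≫
    Spec.map (CommRingCat.ofHom (algebraMap A (CohB1.polyGrading n A 0)))

theorem fi_def : fi n A i = (Wi n A i).ι ≫ CohB1.ProjSpace.toSpec n A := rfl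

/-- the ring map from the base to the ring of the chart -/
noncomputable def θ : A →+* Away (CohB1.polyGrading n A) (MvPolynomial.X i) :=
  (HomogeneousLocalization.fromZeroRingHom (CohB1.polyGrading n A)
    (Submonoid.powers (MvPolynomial.X i))).comp (algebraMap A (CohB1.polyGrading n A 0))

theorem phi_C (a : A) : phi (R := A) i (MvPolynomial.C a) = θ n A i a := by
  unfold phi
  rw [MvPolynomial.coe_eval₂Hom, MvPolynomial.eval₂_C]
  rfl

theorem fi_eq : fi n A i = Proj.basicOpenToSpec (CohB1.polyGrading n A) (MvPolynomial.X i) ≫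
    Spec.map (CommRingCat.ofHom (θ n A i)) := by
  have h1 := Proj.awayι_toSpecZero (CohB1.polyGrading n A) (MvPolynomial.X i) (X_mem_deg n A i)
    one_pos
  have h2 : (Wi n A i).ι = (Proj.basicOpenIsoSpec (CohB1.polyGrading n A) (MvPolynomial.X i)
      (X_mem_deg n A i) one_pos).hom ≫
      Proj.awayι (CohB1.polyGrading n A) (MvPolynomial.X i) (X_mem_deg n A i) one_pos := by
    rw [← Proj.basicOpenIsoSpec_inv_ι, Iso.hom_inv_id_assoc]
  unfold fi
  rw [h2, Category.assoc, reassoc_of% h1, ← Spec.map_comp, Proj.basicOpenIsoSpec_hom]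
  rfl

theorem fi_appTop : (fi n A i).appTop =
    (Scheme.ΓSpecIso (CommRingCat.of A)).hom ≫ CommRingCat.ofHom (θ n A i) ≫
      Proj.awayToSection (CohB1.polyGrading n A) (MvPolynomial.X i) ≫ (Wi n A i).topIso.inv := by
  rw [fi_eq, Scheme.Hom.comp_appTop]
  have h1 := Proj.basicOpenToSpec_app_top (CohB1.polyGrading n A) (MvPolynomial.X i)
  have h2 : (Proj.basicOpenToSpec (CohB1.polyGrading n A) (MvPolynomial.X i)).appTop =
      (Scheme.ΓSpecIso _).hom ≫ Proj.awayToSection (CohB1.polyGrading n A) (MvPolynomial.X i) ≫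
      (Wi n A i).topIso.inv := h1
  rw [h2, Scheme.ΓSpecIso_naturality_assoc]

open WDivH in
theorem hasCharts_fi [IsDomain A] :
    HasCharts (fi n A i) {j : Fin (n + 1) // j ≠ i} := by
  intro x
  haveI : IsAffine ((Wi n A i : (Proj (CohB1.polyGrading n A)).Opens) : Scheme.{u}) :=
    isAffineOpen_Wi n A i
  let α : Γ(Spec (CommRingCat.of A), ⊤) ≃+* A :=
    (Scheme.ΓSpecIso (CommRingCat.of A)).commRingCatIsoToRingEquiv
  let φ : MvPolynomial {j : Fin (n + 1) // j ≠ i} A ≃+*
      Away (CohB1.polyGrading n A) (MvPolynomial.X i) :=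
    RingEquiv.ofBijective (phi (R := A) i) (phi_bijective i)
  let β : Away (CohB1.polyGrading n A) (MvPolynomial.X i) ≃+*
      Γ(Proj (CohB1.polyGrading n A), Wi n A i) :=
    (Proj.basicOpenIsoAway (CohB1.polyGrading n A) (MvPolynomial.X i) (X_mem_deg n A i)
      one_pos).commRingCatIsoToRingEquiv
  let γ : Γ(Proj (CohB1.polyGrading n A), Wi n A i) ≃+*
      Γ(((Wi n A i : (Proj (CohB1.polyGrading n A)).Opens) : Scheme.{u}), ⊤) :=
    (Wi n A i).topIso.symm.commRingCatIsoToRingEquiv
  refine ⟨⊤, isAffineOpen_top _, isAffineOpen_top _,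
    ((MvPolynomial.mapEquiv _ α).trans φ).trans (β.trans γ), trivial, ?_⟩
  intro a
  change ((Wi n A i).topIso.inv).hom ((Proj.awayToSection (CohB1.polyGrading n A)
    (MvPolynomial.X i)).hom (phi (R := A) i (MvPolynomial.map (α : _ →+* A) (MvPolynomial.C a)))) =
    ((fi n A i).appTop).hom a
  rw [MvPolynomial.map_C, phi_C, fi_appTop]
  rfl

end Groth.Agent.Lead.WDivH
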