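import Mathlib
import Groth.Prelude.Def_CohB1
import Groth.Agent.Lib.Helper4.PnFlat1
import Groth.Agent.Lib.Lead.WDivH3

/-!
# The hyperplane at infinity of projective space over a domain (lead)
-/

set_option autoImplicit false
set_option backward.isDefEq.respectTransparency.types false
set_option synthInstance.maxHeartbeats 400000
set_option linter.style.haveILetI false
set_option linter.unusedSectionVars false
universe u

open CategoryTheory CategoryTheory.Limits AlgebraicGeometry TopologicalSpace Opposite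
  HomogeneousLocalization

namespace Groth.Agent.Lead.WDivH

open Groth.Agent.Lead.WD Groth.Agent.Lead.SecOrd Groth.Agent.Lead.WDivG

variable (n : ℕ) (A : Type u) [CommRing A]

section Points

variable {n A}
variable (H : Proj (CohB1.polyGrading n A))
  (hH : H.asHomogeneousIdeal.toIdeal =
    Ideal.span {(MvPolynomial.X 0 : MvPolynomial (Fin (n + 1)) A)})

include hH

theorem H_not_mem : H ∉ Wi n A 0 := by
  intro h
  rw [Proj.mem_basicOpen] at h
  apply h
  rw [← HomogeneousIdeal.mem_iff, hH]
  exact Ideal.mem_span_singleton_self _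

theorem mem_Wi_of_ne [IsIntegral (Proj (CohB1.polyGrading n A))]
    (hηW : genericPoint (Proj (CohB1.polyGrading n A)) ∈ Wi n A 0)
    (y : Proj (CohB1.polyGrading n A)) (hy : Order.coheight y = 1) (hne : y ≠ H) :
    y ∈ Wi n A 0 := by
  by_contra hyW
  have h1 : (MvPolynomial.X 0 : MvPolynomial (Fin (n + 1)) A) ∈ y.asHomogeneousIdeal := by
    rw [Proj.mem_basicOpen, not_not] at hyW
    exact hyW
  have h2 : @LE.le (ProjectiveSpectrum (CohB1.polyGrading n A)) _ H y := by
    change H.asHomogeneousIdeal ≤ y.asHomogeneousIdeal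
    intro z hz
    rw [← HomogeneousIdeal.mem_iff, hH, Ideal.mem_span_singleton] at hz
    obtain ⟨q, rfl⟩ := hz
    rw [← HomogeneousIdeal.mem_iff]
    exact Ideal.mul_mem_right _ _ ((HomogeneousIdeal.mem_iff).2 h1)
  have h3 : y ∈ closure ({H} : Set (ProjectiveSpectrum (CohB1.polyGrading n A))) :=
    (ProjectiveSpectrum.le_iff_mem_closure (CohB1.polyGrading n A) H y).1 h2
  have h4 : (H : Proj (CohB1.polyGrading n A)) ⤳ y := specializes_iff_mem_closure.2 h3
  have hle : @LE.le (Proj (CohB1.polyGrading n A)) _ y H := h4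
  have hlt : @LT.lt (Proj (CohB1.polyGrading n A)) _ y H := by
    refine lt_iff_le_not_ge.2 ⟨hle, fun hHy => hne ?_⟩
    have h' : (y : Proj (CohB1.polyGrading n A)) ⤳ H := hHy
    exact (h'.antisymm h4).eq
  have h5 := Order.coheight_add_one_le hlt
  rw [hy] at h5
  have h6 : Order.coheight (α := Proj (CohB1.polyGrading n A)) H = 0 := by
    by_contra hne0
    have h7 : (1 : ℕ∞) ≤ Order.coheight (α := Proj (CohB1.polyGrading n A)) H :=
      Order.one_le_iff_pos.2 (pos_iff_ne_zero.2 hne0)
    have h8 : (1 : ℕ∞) + 1 ≤ 1 := le_trans (add_le_add_left h7 1) h5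
    exact absurd h8 (by norm_num)
  rw [Order.coheight_eq_zero] at h6
  have h9 : @LE.le (Proj (CohB1.polyGrading n A)) _ H
      (genericPoint (Proj (CohB1.polyGrading n A))) := genericPoint_specializes _
  have h10 : genericPoint (Proj (CohB1.polyGrading n A)) ⤳ H := genericPoint_specializes _
  have h11 : (H : Proj (CohB1.polyGrading n A)) ⤳ genericPoint (Proj (CohB1.polyGrading n A)) :=
    h6 h9
  have h12 : H = genericPoint (Proj (CohB1.polyGrading n A)) := (h11.antisymm h10).eq
  exact H_not_mem H hH (h12 ▸ hηW)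

end Points


section ToSpec

open Groth.Agent.Lib.Helper4.PnFlat1

variable {n A} [IsDomain A]

theorem gmem (a : A) (k : Fin (n + 1)) :
    (MvPolynomial.C a * MvPolynomial.X k : MvPolynomial (Fin (n + 1)) A) ∈
      CohB1.polyGrading n A 1 :=
  (MvPolynomial.isHomogeneous_X A k).C_mul a

theorem isUnit_gAway (a : A) (k : Fin (n + 1)) :
    IsUnit (gAway n A (MvPolynomial.C a * MvPolynomial.X k) a) := by
  let z : Away (CohB1.polyGrading n A) (MvPolynomial.C a * MvPolynomial.X k) :=
    HomogeneousLocalization.mk ⟨1, ⟨MvPolynomial.X k, MvPolynomial.isHomogeneous_X A k⟩,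
      ⟨MvPolynomial.C a * MvPolynomial.X k, gmem a k⟩, ⟨1, pow_one _⟩⟩
  refine IsUnit.of_mul_eq_one z ?_
  apply HomogeneousLocalization.val_injective
  rw [HomogeneousLocalization.val_mul, val_gAway, HomogeneousLocalization.val_mk,
    HomogeneousLocalization.val_one]
  rw [IsScalarTower.algebraMap_apply A (MvPolynomial (Fin (n + 1)) A) (Localization.Away _),
    MvPolynomial.algebraMap_eq, ← Localization.mk_one_eq_algebraMap, Localization.mk_mul, one_mul]
  exact Localization.mk_self ⟨_, _⟩

theorem toSpec_H (hn : 1 ≤ n) (H : Proj (CohB1.polyGrading n A))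
    (hH : H.asHomogeneousIdeal.toIdeal =
      Ideal.span {(MvPolynomial.X 0 : MvPolynomial (Fin (n + 1)) A)}) :
    (CohB1.ProjSpace.toSpec n A) H = genericPoint (Spec (CommRingCat.of A)) := by
  rw [genericPoint_eq_bot_of_affine]
  apply PrimeSpectrum.ext
  change ((CohB1.ProjSpace.toSpec n A) H).asIdeal = ⊥
  rw [eq_bot_iff]
  intro a ha
  rw [Ideal.mem_bot]
  by_contra ha0
  have h01 : (0 : Fin (n + 1)) ≠ (⟨1, Nat.succ_lt_succ hn⟩ : Fin (n + 1)) := by
    intro h
    have h' := congrArg Fin.val h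
    simp at h'
  have hHg : H ∈ Proj.basicOpen (CohB1.polyGrading n A)
      (MvPolynomial.C a * MvPolynomial.X (⟨1, Nat.succ_lt_succ hn⟩ : Fin (n + 1))) := by
    rw [Proj.mem_basicOpen, ← HomogeneousIdeal.mem_iff, hH]
    intro hmem
    have hprime : (Ideal.span {(MvPolynomial.X 0 : MvPolynomial (Fin (n + 1)) A)}).IsPrime :=
      hH ▸ (inferInstance : H.asHomogeneousIdeal.toIdeal.IsPrime)
    rcases hprime.mem_or_mem hmem with h | h
    · rw [Ideal.mem_span_singleton] at h
      obtain ⟨q, hq⟩ := h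
      have h3 := congrArg MvPolynomial.constantCoeff hq
      rw [MvPolynomial.constantCoeff_C, map_mul, MvPolynomial.constantCoeff_X, zero_mul] at h3
      exact ha0 h3
    · rw [Ideal.mem_span_singleton, MvPolynomial.X_dvd_X] at h
      exact h01 h
  rw [← Proj.opensRange_awayι _ _ (gmem a _) one_pos] at hHg
  obtain ⟨z, hz⟩ := hHg
  have h1 := Proj.awayι_toSpecZero (CohB1.polyGrading n A)
    (MvPolynomial.C a * MvPolynomial.X (⟨1, Nat.succ_lt_succ hn⟩ : Fin (n + 1))) (gmem a _) one_pos
  have h2 : (CohB1.ProjSpace.toSpec n A) H = Spec.map (CommRingCat.ofHom (gAway n A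
      (MvPolynomial.C a * MvPolynomial.X (⟨1, Nat.succ_lt_succ hn⟩ : Fin (n + 1))))) z := by
    rw [← hz]
    change (Proj.awayι _ _ (gmem a _) one_pos ≫ Proj.toSpecZero (CohB1.polyGrading n A) ≫
      Spec.map (CommRingCat.ofHom (algebraMap A (CohB1.polyGrading n A 0)))) z = _
    rw [reassoc_of% h1, ← Spec.map_comp]
    rfl
  rw [h2, Spec.map_apply] at ha
  have ha' : gAway n A (MvPolynomial.C a * MvPolynomial.X (⟨1, Nat.succ_lt_succ hn⟩ :
      Fin (n + 1))) a ∈ z.asIdeal := ha
  exact z.isPrime.ne_top (Ideal.eq_top_of_isUnit_mem _ ha' (isUnit_gAway a _))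

end ToSpec

end Groth.Agent.Lead.WDivH
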