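import Mathlib
import Groth.Prelude.Def_CohB1
import Groth.Agent.Lib.Lead.WDivH4

/-!
# The divisor class group of projective space over a Noetherian domain regular in codimension one
(lead)
-/

set_option autoImplicit false
set_option backward.isDefEq.respectTransparency.types false
set_option synthInstance.maxHeartbeats 400000
set_option linter.style.haveILetI false
set_option linter.unusedSectionVars false
set_option maxHeartbeats 800000
universe u

open CategoryTheory CategoryTheory.Limits AlgebraicGeometry TopologicalSpace Opposite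
  HomogeneousLocalization

namespace Groth.Agent.Lead.WDivH

open Groth.Agent.Lead.WD Groth.Agent.Lead.SecOrd Groth.Agent.Lead.WDivG
  Groth.Agent.Lib.Helper6.ProjChart

variable (n : ℕ) (A : Type u) [CommRing A] [IsDomain A]

theorem nonempty_Wi (i : Fin (n + 1)) : Nonempty (Wi n A i) := by
  haveI : Nontrivial (Away (CohB1.polyGrading n A) (MvPolynomial.X i)) :=
    (phi_injective (R := A) i).nontrivial
  obtain ⟨z⟩ : Nonempty (Spec (CommRingCat.of (Away (CohB1.polyGrading n A)
    (MvPolynomial.X i)))) := (inferInstance : Nonempty (PrimeSpectrum _))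
  have h1 : Proj.awayι (CohB1.polyGrading n A) (MvPolynomial.X i) (X_mem_deg n A i) one_pos z ∈
      (Proj.awayι (CohB1.polyGrading n A) (MvPolynomial.X i) (X_mem_deg n A i)
        one_pos).opensRange := ⟨z, rfl⟩
  rw [Proj.opensRange_awayι] at h1
  exact ⟨⟨_, h1⟩⟩

/-- the structure morphism, with its source written as a `Proj` -/
noncomputable def tS : Proj (CohB1.polyGrading n A) ⟶ Spec (CommRingCat.of A) :=
  CohB1.ProjSpace.toSpec n A

theorem fi_eq_comp (i : Fin (n + 1)) : fi n A i = (Wi n A i).ι ≫ tS n A := rfl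

variable [IsNoetherianRing A]
  [IsIntegral (Proj (CohB1.polyGrading n A))] [IsLocallyNoetherian (Proj (CohB1.polyGrading n A))]
  [IsIntegral (Spec (CommRingCat.of A))]

theorem main_S10917 (hn : 1 ≤ n)
    (hR1 : ∀ x : Spec (CommRingCat.of A), Order.coheight x = 1 →
      IsDiscreteValuationRing ((Spec (CommRingCat.of A)).presheaf.stalk x))
    (H : Proj (CohB1.polyGrading n A))
    (hH : H.asHomogeneousIdeal.toIdeal =
      Ideal.span {(MvPolynomial.X 0 : MvPolynomial (Fin (n + 1)) A)})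
    (d : ℤ) (D : Spec (CommRingCat.of A) → ℤ) (hD : ∀ x, Order.coheight x ≠ 1 → D x = 0)
    (g : (Proj (CohB1.polyGrading n A)).functionField) (hg : g ≠ 0)
    (hH' : Scheme.ord g H = d + D (tS n A H))
    (h : ∀ y : Proj (CohB1.polyGrading n A), y ≠ H → Order.coheight y = 1 →
      Scheme.ord g y = D (tS n A y)) :
    d = 0 ∧ ∃ f : (Spec (CommRingCat.of A)).functionField, f ≠ 0 ∧
      ∀ x : Spec (CommRingCat.of A), Order.coheight x = 1 → Scheme.ord f x = D x := by
  haveI : Nonempty (Wi n A 0) := nonempty_Wi n A 0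
  have hch := hasCharts_fi n A (0 : Fin (n + 1))
  have hf₀ : fi n A 0 (genericPoint ((Wi n A 0 : (Proj (CohB1.polyGrading n A)).Opens) :
      Scheme.{u})) = genericPoint (Spec (CommRingCat.of A)) :=
    WDivH.map_genericPoint (fi n A 0) _ hch
  have hι := OpT.ι_genericPoint (Wi n A 0)
  have htS : (tS n A) (genericPoint (Proj (CohB1.polyGrading n A))) =
      genericPoint (Spec (CommRingCat.of A)) := by
    rw [← hι]
    exact hf₀
  have hkg : OpT.kEquiv (Wi n A 0) (pb (Wi n A 0).ι hι g) = g := kEquiv_pb (Wi n A 0) g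
  have hg₀ : pb (Wi n A 0).ι hι g ≠ 0 :=
    (map_ne_zero_iff _ (pb (Wi n A 0).ι hι).injective).2 hg
  have hord₀ : ∀ u : ((Wi n A 0 : (Proj (CohB1.polyGrading n A)).Opens) : Scheme.{u}),
      Order.coheight u = 1 → Scheme.ord (pb (Wi n A 0).ι hι g) u = D (fi n A 0 u) := by
    intro u hu
    have h1 := OpT.ord_eq (Wi n A 0) (pb (Wi n A 0).ι hι g) u
    rw [hkg] at h1
    have hu1 : Order.coheight u.1 = 1 := by
      rw [← OpT.coheight_eq (Wi n A 0) u]
      exact hu
    have hne : u.1 ≠ H := fun he => H_not_mem H hH (he ▸ u.2)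
    rw [h1, h u.1 hne hu1]
    rfl
  have hη0 : D (genericPoint (Spec (CommRingCat.of A))) = 0 := by
    apply hD
    rw [coheight_genericPoint]
    exact zero_ne_one
  have hhor : ∀ u : ((Wi n A 0 : (Proj (CohB1.polyGrading n A)).Opens) : Scheme.{u}),
      Order.coheight u = 1 → fi n A 0 u = genericPoint (Spec (CommRingCat.of A)) →
        Scheme.ord (pb (Wi n A 0).ι hι g) u = 0 := by
    intro u hu hπ
    rw [hord₀ u hu, hπ]
    exact hη0
  obtain ⟨f', hf'0, hf'g⟩ := WDivH.const_of_ord_horizontal (fi n A 0) _ hch _ hg₀ hhor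
  have hgP : g = pb (tS n A) htS f' := by
    have hcomp : ((Wi n A 0).ι ≫ tS n A) (genericPoint ((Wi n A 0 :
        (Proj (CohB1.polyGrading n A)).Opens) : Scheme.{u})) =
        genericPoint (Spec (CommRingCat.of A)) := hf₀
    have h1 := pb_comp (Wi n A 0).ι (tS n A) hι htS hcomp f'
    have h2 : pb (fi n A 0) (WDivH.map_genericPoint (fi n A 0) _ hch) f' =
        pb (Wi n A 0).ι hι (pb (tS n A) htS f') := h1
    calc g = OpT.kEquiv (Wi n A 0) (pb (Wi n A 0).ι hι g) := hkg.symm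
      _ = OpT.kEquiv (Wi n A 0) (pb (Wi n A 0).ι hι (pb (tS n A) htS f')) := by
          rw [← hf'g, h2]
      _ = pb (tS n A) htS f' := kEquiv_pb (Wi n A 0) _
  constructor
  · have h0 : Scheme.ord g H = 0 := by
      rw [hgP]
      exact ord_pb_of_map_generic (tS n A) htS H (toSpec_H hn H hH) f' hf'0
    have hDH : D (tS n A H) = 0 := by
      have hts : tS n A H = genericPoint (Spec (CommRingCat.of A)) := toSpec_H hn H hH
      rw [hts]
      exact hη0
    rw [h0, hDH, add_zero] at hH'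
    exact hH'.symm
  · refine ⟨f', hf'0, ?_⟩
    intro x hx
    haveI := hR1 x hx
    obtain ⟨u, hu, hπu, hordu⟩ := WDivH.exists_vertical (fi n A 0) _ hch x hx
    rw [← hordu f' hf'0, hf'g, hord₀ u hu, hπu]

theorem main_S10916 (hn : 1 ≤ n)
    (hR1 : ∀ x : Spec (CommRingCat.of A), Order.coheight x = 1 →
      IsDiscreteValuationRing ((Spec (CommRingCat.of A)).presheaf.stalk x))
    (H : Proj (CohB1.polyGrading n A))
    (hH : H.asHomogeneousIdeal.toIdeal =
      Ideal.span {(MvPolynomial.X 0 : MvPolynomial (Fin (n + 1)) A)})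
    (D' : Proj (CohB1.polyGrading n A) → ℤ) (hD' : ∀ y, Order.coheight y ≠ 1 → D' y = 0)
    (hfin : {y | D' y ≠ 0}.Finite) :
    ∃! d : ℤ, ∃ (D : Spec (CommRingCat.of A) → ℤ)
      (g : (Proj (CohB1.polyGrading n A)).functionField),
      (∀ x, Order.coheight x ≠ 1 → D x = 0) ∧ {x | D x ≠ 0}.Finite ∧ g ≠ 0 ∧
      D' H = d + D (tS n A H) + Scheme.ord g H ∧
      ∀ y, y ≠ H → Order.coheight y = 1 →
        D' y = D (tS n A y) + Scheme.ord g y := by
  haveI : Nonempty (Wi n A 0) := nonempty_Wi n A 0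
  have hηW : genericPoint (Proj (CohB1.polyGrading n A)) ∈ Wi n A 0 :=
    genericPoint_mem (Wi n A 0) _ (Classical.arbitrary (Wi n A 0)).2
  have hch := hasCharts_fi n A (0 : Fin (n + 1))
  haveI : IsAffine ((Wi n A 0 : (Proj (CohB1.polyGrading n A)).Opens) : Scheme.{u}) :=
    isAffineOpen_Wi n A 0
  have h1 : ∀ u : ((Wi n A 0 : (Proj (CohB1.polyGrading n A)).Opens) : Scheme.{u}),
      Order.coheight u ≠ 1 → D' u.1 = 0 := by
    intro u hu
    apply hD'
    rwa [← OpT.coheight_eq (Wi n A 0) u]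
  have h2 : {u : ((Wi n A 0 : (Proj (CohB1.polyGrading n A)).Opens) : Scheme.{u}) |
      D' u.1 ≠ 0}.Finite :=
    hfin.preimage (Subtype.val_injective.injOn)
  obtain ⟨D, g₀, hD0, hDfin, hg₀, hrel⟩ := WDivH.main_S10901' (fi n A 0) _ hch hR1
    (fun u => D' u.1) h1 h2
  have hg : OpT.kEquiv (Wi n A 0) g₀ ≠ 0 :=
    (map_ne_zero_iff _ (OpT.kEquiv (Wi n A 0)).injective).2 hg₀
  have hrelP : ∀ y : Proj (CohB1.polyGrading n A), y ≠ H → Order.coheight y = 1 →
      D' y = D (tS n A y) + Scheme.ord (OpT.kEquiv (Wi n A 0) g₀) y := by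
    intro y hne hy
    have hyW := mem_Wi_of_ne H hH hηW y hy hne
    have h3 := hrel ⟨y, hyW⟩ (by rw [OpT.coheight_eq (Wi n A 0) ⟨y, hyW⟩]; exact hy)
    rw [OpT.ord_eq (Wi n A 0) g₀ ⟨y, hyW⟩] at h3
    exact h3
  refine ⟨D' H - D (tS n A H) - Scheme.ord (OpT.kEquiv (Wi n A 0) g₀) H,
    ⟨D, OpT.kEquiv (Wi n A 0) g₀, hD0, hDfin, hg, by ring, hrelP⟩, ?_⟩
  rintro d₂ ⟨D₂, g₂, hD₂0, hD₂fin, hg₂, hH₂, hrel₂⟩
  have key := main_S10917 n A hn hR1 H hH
    (d₂ - (D' H - D (tS n A H) - Scheme.ord (OpT.kEquiv (Wi n A 0) g₀) H))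
    (fun x => D₂ x - D x) (by
      intro x hx
      show D₂ x - D x = 0
      rw [hD₂0 x hx, hD0 x hx, sub_zero])
    (OpT.kEquiv (Wi n A 0) g₀ / g₂) (div_ne_zero hg hg₂) (by
      rw [WD.ord_div H hg hg₂]
      linarith) (by
      intro y hne hy
      rw [WD.ord_div y hg hg₂]
      have e1 := hrelP y hne hy
      have e2 := hrel₂ y hne hy
      show _ = D₂ (tS n A y) - D (tS n A y)
      linarith)
  linarith [key.1]

end Groth.Agent.Lead.WDivH
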