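import Mathlib
import Groth.Prelude
import Groth.Agent.Lib.Helper7.SHens.Abstract
import Groth.Agent.Lib.Helper4.LocNoethFib1

set_option autoImplicit false
set_option backward.isDefEq.respectTransparency.types false
set_option synthInstance.maxHeartbeats 400000
set_option linter.style.haveILetI false
set_option linter.unusedSectionVars false

universe u

open AlgebraicGeometry CategoryTheory CategoryTheory.Limits TensorProduct

namespace Groth.Agent.Lead.WEt

/-- a surjective ring map whose kernel is "locally generated by idempotents" is flat -/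
theorem flat_of_surjective_of_forall_exists {B C : Type u} [CommRing B] [CommRing C]
    (φ : B →+* C) (hφ : Function.Surjective φ)
    (h : ∀ x : B, φ x = 0 → ∃ y : B, φ y = 0 ∧ x * y = x) : φ.Flat := by
  letI : Algebra B C := φ.toAlgebra
  let T : Submonoid B :=
    { carrier := {b | φ b = 1}
      one_mem' := map_one φ
      mul_mem' := fun {a b} ha hb => by
        show φ (a * b) = 1
        rw [map_mul, ha, hb, one_mul] }
  haveI : IsLocalization T C := by
    refine ⟨?_, ?_, ?_⟩
    · rintro ⟨t, ht⟩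
      show IsUnit (φ t)
      rw [show φ t = 1 from ht]
      exact isUnit_one
    · intro c
      obtain ⟨b, rfl⟩ := hφ c
      refine ⟨(b, 1), ?_⟩
      show φ b * φ 1 = φ b
      rw [map_one, mul_one]
    · intro a b hab
      have h0 : φ (a - b) = 0 := by
        rw [map_sub]
        exact sub_eq_zero.mpr hab
      obtain ⟨y, hy0, hy⟩ := h (a - b) h0
      refine ⟨⟨1 - y, ?_⟩, ?_⟩
      · show φ (1 - y) = 1
        rw [map_sub, map_one, hy0, sub_zero]
      · show (1 - y) * a = (1 - y) * b
        have : (1 - y) * (a - b) = 0 := by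
          rw [sub_mul, one_mul, mul_comm y, hy, sub_self]
        rw [mul_sub] at this
        exact sub_eq_zero.mp this
  show Module.Flat B C
  exact IsLocalization.flat C T

end Groth.Agent.Lead.WEt

namespace Groth.Agent.Lead.WEt

open Groth.Agent.Helper7.SHens

section GModel

variable (A : Type u) [CommRing A] (Ω : Type u) [CommRing Ω] [Algebra A Ω]

theorem ιAlg_comp_hom {X Z : Nbhd A Ω} (f : X ⟶ Z) :
    (ιAlg Z).comp (f : Nbhd.Hom X Z).toAlgHom = ιAlg X := by
  ext x
  exact ι_hom f x

theorem exists_rep_tensor (x : G A Ω ⊗[A] G A Ω) :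
    ∃ (X : Nbhd A Ω) (xX : X.Ring ⊗[A] X.Ring),
      Algebra.TensorProduct.map (ιAlg X) (ιAlg X) xX = x := by
  induction x using TensorProduct.induction_on with
  | zero => exact ⟨Nbhd.base A Ω, 0, map_zero _⟩
  | tmul a b =>
    obtain ⟨X, a', b', ha, hb⟩ := exists_rep₂ a b
    refine ⟨X, a' ⊗ₜ b', ?_⟩
    rw [Algebra.TensorProduct.map_tmul, ιAlg_apply, ιAlg_apply, ha, hb]
  | add x y hx hy =>
    obtain ⟨X, xX, rfl⟩ := hx
    obtain ⟨Y, yY, rfl⟩ := hy
    obtain ⟨Z, f, g, -⟩ := Nbhd.exists_cocone_objs X Y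
    refine ⟨Z, Algebra.TensorProduct.map (f : Nbhd.Hom X Z).toAlgHom (f : Nbhd.Hom X Z).toAlgHom xX +
      Algebra.TensorProduct.map (g : Nbhd.Hom Y Z).toAlgHom (g : Nbhd.Hom Y Z).toAlgHom yY, ?_⟩
    rw [map_add]
    congr 1
    · rw [← AlgHom.comp_apply, ← Algebra.TensorProduct.map_comp, ιAlg_comp_hom]
    · rw [← AlgHom.comp_apply, ← Algebra.TensorProduct.map_comp, ιAlg_comp_hom]

theorem lmul'_map {S T : Type u} [CommRing S] [CommRing T] [Algebra A S] [Algebra A T]
    (f : S →ₐ[A] T) (x : S ⊗[A] S) :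
    Algebra.TensorProduct.lmul' A (Algebra.TensorProduct.map f f x) =
      f (Algebra.TensorProduct.lmul' A x) := by
  induction x using TensorProduct.induction_on with
  | zero => simp
  | tmul a b => simp
  | add x y hx hy => rw [map_add, map_add, hx, hy, map_add, map_add]

theorem exists_mul_eq_of_lmul'_eq_zero (x : G A Ω ⊗[A] G A Ω)
    (hx : Algebra.TensorProduct.lmul' A x = 0) :
    ∃ y : G A Ω ⊗[A] G A Ω, Algebra.TensorProduct.lmul' A y = 0 ∧ x * y = x := by
  obtain ⟨X, xX, rfl⟩ := exists_rep_tensor A Ω x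
  rw [lmul'_map, ιAlg_apply] at hx
  have h1 : ι X (Algebra.TensorProduct.lmul' A xX) = ι X 0 := by rw [hx, map_zero]
  obtain ⟨Z, f, hf⟩ := exists_hom_eq_of_ι_eq _ _ h1
  rw [map_zero] at hf
  let xZ : Z.Ring ⊗[A] Z.Ring :=
    Algebra.TensorProduct.map (f : Nbhd.Hom X Z).toAlgHom (f : Nbhd.Hom X Z).toAlgHom xX
  have hxZ : Algebra.TensorProduct.lmul' A xZ = 0 := by
    rw [lmul'_map, hf]
  have hxeq : Algebra.TensorProduct.map (ιAlg X) (ιAlg X) xX =
      Algebra.TensorProduct.map (ιAlg Z) (ιAlg Z) xZ := by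
    show _ = Algebra.TensorProduct.map (ιAlg Z) (ιAlg Z) (Algebra.TensorProduct.map _ _ xX)
    rw [← AlgHom.comp_apply, ← Algebra.TensorProduct.map_comp, ιAlg_comp_hom]
  haveI : Algebra.FormallyUnramified A Z.Ring := inferInstance
  haveI : Algebra.EssFiniteType A Z.Ring := inferInstance
  obtain ⟨t, ht1, ht2⟩ := (Algebra.FormallyUnramified.iff_exists_tensorProduct (R := A)
    (S := Z.Ring)).mp inferInstance
  have hmem : xZ ∈ KaehlerDifferential.ideal A Z.Ring := hxZ
  rw [← KaehlerDifferential.span_range_eq_ideal] at hmem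
  have hkill : xZ * t = 0 := by
    refine Submodule.span_induction ?_ ?_ ?_ ?_ hmem
    · rintro _ ⟨s, rfl⟩
      exact ht1 s
    · exact zero_mul t
    · intro a b _ _ ha hb
      rw [add_mul, ha, hb, add_zero]
    · intro a b _ hb
      rw [smul_eq_mul, mul_assoc, hb, mul_zero]
  refine ⟨Algebra.TensorProduct.map (ιAlg Z) (ιAlg Z) (1 - t), ?_, ?_⟩
  · rw [lmul'_map, map_sub, map_one, ht2, sub_self, map_zero]
  · rw [hxeq, ← map_mul, mul_sub, mul_one, hkill, sub_zero]

theorem weaklyEtale_G : Algebra.WeaklyEtale A (G A Ω) where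
  flat := Groth.Agent.Helper7.SHens.flat
  flat_lmul' := by
    apply flat_of_surjective_of_forall_exists
    · intro s
      exact ⟨s ⊗ₜ 1, by simp⟩
    · intro x hx
      exact exists_mul_eq_of_lmul'_eq_zero A Ω x hx

end GModel

end Groth.Agent.Lead.WEt

namespace Groth.Agent.Lead.WEt

theorem weaklyEtale_SpecMap (A S : Type u) [CommRing A] [CommRing S] [Algebra A S]
    [Algebra.WeaklyEtale A S] :
    WeaklyEtale (Spec.map (CommRingCat.ofHom (algebraMap A S))) where
  flat := (HasRingHomProperty.Spec_iff (P := @Flat)).mpr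
    (RingHom.flat_algebraMap_iff.mpr inferInstance)
  flat_diagonal := by
    rw [diagonal_SpecMap]
    haveI : Flat (Spec.map (CommRingCat.ofHom
        (Algebra.TensorProduct.lmul' A : S ⊗[A] S →ₐ[A] S).toRingHom)) :=
      (HasRingHomProperty.Spec_iff (P := @Flat)).mpr (Algebra.WeaklyEtale.flat_lmul' A S)
    infer_instance

theorem weaklyEtale_fromSpecStalk (X : Scheme.{u}) (x : X) : WeaklyEtale (X.fromSpecStalk x) where
  flat := Groth.Agent.Lib.Helper4.LocNoethFib1.flat_fromSpecStalk X x
  flat_diagonal := by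
    haveI : Mono (X.fromSpecStalk x) := inferInstance
    haveI : IsIso (pullback.diagonal (X.fromSpecStalk x)) := inferInstance
    infer_instance

theorem S0754_main (X : Scheme.{u}) (x : ↥X) (R : Type u) [CommRing R]
    [IsLocalRing R] [Algebra (X.presheaf.stalk x) R] [IsLocalHom (algebraMap (X.presheaf.stalk x) R)]
    [Hensel.IsStrictHenselization (X.presheaf.stalk x) R] :
    WeaklyEtale (Hens2.specOf X x R) := by
  let A := X.presheaf.stalk x
  obtain ⟨e, -⟩ := Groth.Agent.Helper7.SHens.exists_algEquiv_Model A R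
  haveI : Algebra.WeaklyEtale A (Groth.Agent.Helper7.SHens.Model A R) := weaklyEtale_G A _
  haveI := weaklyEtale_SpecMap A (Groth.Agent.Helper7.SHens.Model A R)
  haveI := weaklyEtale_fromSpecStalk X x
  have h1 : CommRingCat.ofHom (algebraMap A R) =
      CommRingCat.ofHom (algebraMap A (Groth.Agent.Helper7.SHens.Model A R)) ≫
        CommRingCat.ofHom (e.symm : _ →+* R) := by
    ext a
    show algebraMap A R a = e.symm (algebraMap A _ a)
    rw [AlgEquiv.commutes]
  haveI : IsIso (CommRingCat.ofHom (e.symm : Groth.Agent.Helper7.SHens.Model A R →+* R)) :=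
    (e.symm.toRingEquiv.toCommRingCatIso).isIso_hom
  show WeaklyEtale (Spec.map (CommRingCat.ofHom (algebraMap A R)) ≫ X.fromSpecStalk x)
  rw [h1, Spec.map_comp]
  infer_instance

end Groth.Agent.Lead.WEt
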