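import Mathlib
import Groth.Prelude.Def_W4stkstmodspWNA
import Groth.Agent.Lib.Helper2.AlgSt.WNA
import Groth.Agent.Lib.Helper2.AlgSt.AffRep
import Groth.Agent.Lib.Helper2.AlgSp.FinLocFreeQuot2

/-!
# A well-nigh affine algebraic stack representable by an algebraic space is an affine scheme (lead)
-/

set_option backward.isDefEq.respectTransparency.types false
set_option autoImplicit false
set_option synthInstance.maxHeartbeats 400000
set_option maxHeartbeats 1000000
set_option linter.style.haveILetI false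
set_option linter.unusedSectionVars false
set_option linter.unusedSimpArgs false

open CategoryTheory CategoryTheory.Functor CategoryTheory.Limits AlgebraicGeometry Opposite

universe u

namespace Groth.Agent.Lead.WNAa

open Groth.Agent.Helper2 Groth.Agent.Helper2.FibCatLib Groth.Agent.Helper2.StkLib
open Groth.Agent.Helper2.AlgSpBasic Groth.Agent.Helper2.EtaleLocal Groth.Agent.Helper2.AlgStLib
open AlgSp

variable {S : Scheme.{u}} {𝒳 : BasedCategory.{u, u + 1} (Over S)}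

theorem stableBC_inf {P Q : MorphismProperty (AlgSp.Sp S)} (hP : StableBC P) (hQ : StableBC Q) :
    StableBC (P ⊓ Q) := by
  intro X₁ Y₁ X₂ Y₂ h1 h2 h3 h4 a b a' b' sq ha
  exact ⟨hP h1 h2 h3 h4 a b a' b' sq ha.1, hQ h1 h2 h3 h4 a b a' b' sq ha.2⟩

theorem ofSchemeBC_inf {P Q : MorphismProperty (AlgSp.Sp S)} (hP : OfSchemeBC P)
    (hQ : OfSchemeBC Q) : OfSchemeBC (P ⊓ Q) := by
  intro F G a hF hG h
  exact ⟨hP a hF hG (fun U ξ F' fst snd sq => ⟨(h ξ fst snd sq).1, (h ξ fst snd sq).2.1⟩),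
    hQ a hF hG (fun U ξ F' fst snd sq => ⟨(h ξ fst snd sq).1, (h ξ fst snd sq).2.2⟩)⟩

/-- A chart `x : (Sch/U) ⟶ 𝒳` with property `P` of a category equivalent to an algebraic space `F`
gives a map of sheaves `h_U ⟶ F` with `P`. -/
theorem exists_map_of_chart (P : MorphismProperty (AlgSp.Sp S)) (hPb : StableBC P)
    (hP : OfSchemeBC P) (F : AlgSp.Space S) (e₀ : AlgSt.ofSp F.obj ⥤ᵇ 𝒳)
    (he₀ : FibCat.IsEquivOver e₀) (U : Over S) (x : FibCat.overCat U ⥤ᵇ 𝒳)
    (hx : AlgSt.RepByAlgSpWith P x) :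
    ∃ a : (AlgSp.yon S).obj U ⟶ F.obj, P a := by
  obtain ⟨e', he', ⟨η⟩, ⟨ε⟩⟩ := isEquivOver_inverse he₀
  let y : FibCat.overCat U ⥤ᵇ AlgSt.ofSp F.obj := BasedFunctor.comp x e'
  have hy : AlgSt.RepByAlgSpWith P y := (repByAlgSpWith_comp_equiv P x e' he').2 hx
  obtain ⟨θ⟩ := secMap_iso y
  have hξ : AlgSt.RepByAlgSpWith P (Stk.ofPshMap (secMap y)) :=
    (repByAlgSpWith_of_square P y (Stk.ofPshMap (secMap y)) (AlgSt.toOverCat U)
      (BasedFunctor.id _) (toOverCat_isEquivOver U) ReprInv.isEquivOver_id θ).1 hy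
  have hW1 : AlgSt.RepByAlgSp1 (Stk.ofPshMap (secMap y)) := fun U y => by
    obtain ⟨F, e, he, -⟩ := hξ U y
    exact ⟨F, e, he⟩
  have hrep := (repBySp_iff_repByAlgSp1_ofPshMap _).2 hW1
  have hwith := (repBySpWith_iff_repByAlgSpWith_ofPshMap' P (respectsIsoSp_of_stableBC hPb) _
    hrep).2 hξ
  let a₀ : (AlgSp.yon S).obj U ⟶ F.obj := ObjectProperty.homMk (secMap y)
  have hwith' := (AlgSp.repBySpWith_hom_iff P a₀).1 hwith
  exact ⟨a₀, hP a₀ (AlgSp.IsAlgSpace.yon_obj U) F.property hwith'⟩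

theorem stableBC_wna : StableBC (S := S) (AlgSp.IsSurjectiveMor ⊓ AlgSp.LocP @Flat ⊓
    AlgSp.IsFiniteMor ⊓ AlgSp.LocP @LocallyOfFinitePresentation) :=
  stableBC_inf (stableBC_inf (stableBC_inf stableBC_isSurjectiveMor (stableBC_locP _))
    (stableBC_affRep @IsFinite)) (stableBC_locP _)

theorem ofSchemeBC_wna : OfSchemeBC (S := S) (AlgSp.IsSurjectiveMor ⊓ AlgSp.LocP @Flat ⊓
    AlgSp.IsFiniteMor ⊓ AlgSp.LocP @LocallyOfFinitePresentation) :=
  ofSchemeBC_inf (ofSchemeBC_inf (ofSchemeBC_inf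
    (ofSchemeBC_of_isLocalOnBase isLocalOnBase_fppf_isSurjectiveMor)
    (ofSchemeBC_of_isLocalOnBase (isLocalOnBase_fppf_of_fpqc (isLocalOnBase_fpqc_locP @Flat))))
    (ofSchemeBC_affRep @IsFinite))
    (ofSchemeBC_of_isLocalOnBase (isLocalOnBase_fppf_of_fpqc
      (isLocalOnBase_fpqc_locP @LocallyOfFinitePresentation)))

/-- A well-nigh affine category over `(Sch/S)` that is representable by an algebraic space is
equivalent to the category of an affine scheme. -/
theorem main (hw : AlgSt.IsWellNighAffine 𝒳) (hsp : AlgSt.RepByAlgSp 𝒳) :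
    ∃ (U : Over S) (e : AlgSt.ofSch U ⥤ᵇ 𝒳), IsAffine U.left ∧ FibCat.IsEquivOver e := by
  obtain ⟨U, x, hU, hx⟩ := hw
  obtain ⟨F, e₀, he₀⟩ := hsp
  obtain ⟨a, ha⟩ := exists_map_of_chart _ stableBC_wna ofSchemeBC_wna F e₀ he₀ U x hx
  obtain ⟨⟨⟨hsurj, hflat⟩, hfin⟩, hlfp⟩ := ha
  have hrepfin : RepWith @IsFinite a :=
    Groth.Agent.Helper2.FinLocFree.repWith_of_isAffQMor @IsFinite hfin
  have hrep := hrepfin.rep
  have hXalg : IsAlgSpace ((AlgSp.yon S).obj U) := AlgSp.IsAlgSpace.yon_obj U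
  have hflat' : RepWith @Flat a := repWith_of_locP @Flat hXalg F.property a hrep hflat
  have hlfp' : RepWith @LocallyOfFinitePresentation a :=
    repWith_of_locP @LocallyOfFinitePresentation hXalg F.property a hrep hlfp
  have hs' : RepWith @Surjective a :=
    Groth.Agent.Helper2.AlgSpBasic.repWith_surjective_of_isSurjectiveMor a hrep hsurj
  have hflf : RepWith finLocFree a :=
    ⟨hrep, fun T W g fst snd sq => ⟨hrepfin.property g fst snd sq,
      hflat'.property g fst snd sq, hlfp'.property g fst snd sq⟩⟩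
  haveI := hU
  obtain ⟨M, q, e, hM, -⟩ :=
    Groth.Agent.Helper2.FinLocFreeQuot.exists_iso_yon_of_finLocFree_affine a hflf hs'
  haveI : IsIso e.hom.hom :=
    inferInstanceAs (IsIso ((sheafToPresheaf (AlgSp.J S) (Type (u + 1))).map e.hom))
  exact ⟨M, BasedFunctor.comp (AlgSt.ofSpMap e.hom) e₀, hM,
    ReprInv.isEquivOver_comp (isEquivOver_ofPshMap_of_isIso e.hom.hom) he₀⟩

end Groth.Agent.Lead.WNAa
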