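import Mathlib
import Groth.Prelude.Def_WeilCoh
import Groth.Prelude.Def_ChowOps
import Groth.Agent.Lib.Helper5.Misc.WeilGen

set_option autoImplicit false
universe u v w
open CategoryTheory AlgebraicGeometry
open WeilCoh

namespace Groth.Agent.Lead.WeilDeg

open Groth.Agent.Lib.Helper5.Misc.WeilGen Groth.Agent.Lib.Helper5.Misc.WeilPt

variable {k : Type u} [Field k]

theorem isClosed_of_isAlgebraic [IsAlgClosed k] {X : Scheme.{u}} (p : X ⟶ Spec (CommRingCat.of k))
    [LocallyOfFiniteType p] (x : X)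
    (h : @Algebra.IsAlgebraic ((Spec (CommRingCat.of k)).residueField (p x)) (X.residueField x) _ _
      (p.residueFieldMap x).hom.toAlgebra) :
    IsClosed ({x} : Set X) := by
  letI alg := (p.residueFieldMap x).hom.toAlgebra
  haveI : Subsingleton ↥(Spec (CommRingCat.of k)) := inferInstanceAs (Subsingleton (PrimeSpectrum k))
  have hycl : IsClosed ({p x} : Set ↥(Spec (CommRingCat.of k))) := by
    have : ({p x} : Set ↥(Spec (CommRingCat.of k))) = Set.univ :=
      Set.eq_univ_of_forall fun z => Subsingleton.elim _ _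
    rw [this]
    exact isClosed_univ
  haveI : IsAlgClosed ((Spec (CommRingCat.of k)).residueField (p x)) :=
    IsAlgClosed.of_ringEquiv (k := k) _
      (residueFieldIsoBase (𝟙 (Spec (CommRingCat.of k))) (p x) hycl).symm.commRingCatIsoToRingEquiv
  haveI : Algebra.IsIntegral ((Spec (CommRingCat.of k)).residueField (p x)) (X.residueField x) :=
    Algebra.isAlgebraic_iff_isIntegral.mp h
  have hbij : Function.Bijective
      (algebraMap ((Spec (CommRingCat.of k)).residueField (p x)) (X.residueField x)) :=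
    IsAlgClosed.algebraMap_bijective_of_isIntegral
  haveI : IsIso (p.residueFieldMap x) := by
    rw [ConcreteCategory.isIso_iff_bijective]
    exact hbij
  haveI : IsClosedImmersion ((Spec (CommRingCat.of k)).fromSpecResidueField (p x)) :=
    isClosed_singleton_iff_isClosedImmersion.mp hycl
  haveI : LocallyOfFiniteType (X.fromSpecResidueField x ≫ p) := by
    rw [← Scheme.Hom.SpecMap_residueFieldMap_fromSpecResidueField]
    infer_instance
  haveI : LocallyOfFiniteType (X.fromSpecResidueField x) := locallyOfFiniteType_of_comp _ p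
  haveI : JacobsonSpace X := LocallyOfFiniteType.jacobsonSpace p
  exact isClosed_singleton_iff_locallyOfFiniteType.mpr inferInstance

theorem isClosed_of_ne_zero [IsAlgClosed k] (X : WeilCoh.Var k)
    (δ : ↥X.obj.left → ℤ) (hδ : Cyc.DeltaCompat X.obj.hom δ (fun _ => 0))
    (α : AlgebraicCycle X.obj.left ℤ) (hα : α ∈ Cyc.Zk X.obj.left δ 0) (x : X.obj.left)
    (hx : α x ≠ 0) : IsClosed ({x} : Set X.obj.left) ∧ δ x = 0 := by
  have hδ0 : δ x = 0 := by
    by_contra h
    exact hx (hα x h)
  obtain ⟨n, hn, hδn⟩ := hδ x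
  have hn0 : n = 0 := by
    have h2 : δ x = (0 : ℤ) + n := hδn
    omega
  subst hn0
  letI alg := (X.obj.hom.residueFieldMap x).hom.toAlgebra
  have h0 : Algebra.trdeg ((Spec (CommRingCat.of k)).residueField (X.obj.hom x))
      (X.obj.left.residueField x) = 0 := by
    simpa using hn
  exact ⟨isClosed_of_isAlgebraic X.obj.hom x (trdeg_eq_zero_iff.mp h0), hδ0⟩

theorem deg_eq_finsum [IsAlgClosed k] (X : WeilCoh.Var k) [QuasiCompact X.obj.hom]
    (δ : ↥X.obj.left → ℤ) (hδ : Cyc.DeltaCompat X.obj.hom δ (fun _ => 0))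
    (α : AlgebraicCycle X.obj.left ℤ) (hα : α ∈ Cyc.Zk X.obj.left δ 0) :
    ChowOps.deg X.obj.hom δ α = ∑ᶠ x : X.obj.left, α x := by
  have h1 : ChowOps.deg X.obj.hom δ α =
      ∑ᶠ x ∈ (X.obj.hom : X.obj.left → Spec (CommRingCat.of k)) ⁻¹' {IsLocalRing.closedPoint k},
        α x * ((AlgebraicCycle.mapCoeff X.obj.hom δ (fun _ => (0 : ℤ)) x : ℕ) : ℤ) := rfl
  rw [h1]
  haveI : Subsingleton ↥(Spec (CommRingCat.of k)) := inferInstanceAs (Subsingleton (PrimeSpectrum k))
  have huniv : ((X.obj.hom : X.obj.left → Spec (CommRingCat.of k)) ⁻¹' {IsLocalRing.closedPoint k})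
      = Set.univ := Set.eq_univ_of_forall fun z => Subsingleton.elim _ _
  rw [huniv, finsum_mem_univ]
  refine finsum_congr fun x => ?_
  by_cases hx : α x = 0
  · simp [hx]
  · obtain ⟨hcl, hδ0⟩ := isClosed_of_ne_zero X δ hδ α hα x hx
    have hdeg : X.obj.hom.residueDegree x = 1 := residueDegree_of_isClosed (toPt k X) x hcl
    simp [AlgebraicCycle.mapCoeff, hδ0, hdeg]

section
variable [IsAlgClosed k] {K : Type v} [Field K] [CharZero K]
    (T : WeilCoh.Theory k K) (X : WeilCoh.Var k) [QuasiCompact X.obj.hom]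
    (δ : ↥X.obj.left → ℤ) (hδ : Cyc.DeltaCompat X.obj.hom δ (fun _ => 0))
    (α : AlgebraicCycle X.obj.left ℤ) (hα : α ∈ Cyc.Zk X.obj.left δ 0)

include hδ hα

theorem finite_support : (Function.support (fun x : X.obj.left => α x)).Finite := by
  haveI : CompactSpace ↥X.obj.left := QuasiCompact.compactSpace_of_compactSpace X.obj.hom
  have := (Function.locallyFinsupp.locallyFiniteSupport α).finite_inter_support_of_isCompact
    isCompact_univ
  simpa using this

theorem tr_clCyc_eq : T.tr X (T.clCyc X α) = ((∑ᶠ x : X.obj.left, α x : ℤ) : K) := by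
  have hfin := finite_support X δ hδ α hα
  have hs1 : Function.support (fun ξ : X.obj.left => ((α ξ : ℤ) : K) • T.cl X ξ) ⊆
      ↑hfin.toFinset := by
    intro ξ hξ
    rw [Set.Finite.coe_toFinset]
    intro h0
    exact hξ (by simp [show α ξ = 0 from h0])
  have hs2 : Function.support (fun x : X.obj.left => α x) ⊆ ↑hfin.toFinset := by
    rw [Set.Finite.coe_toFinset]
  unfold TheoryOn.clCyc
  rw [finsum_eq_sum_of_support_subset _ hs1, finsum_eq_sum_of_support_subset _ hs2, map_sum,
    Int.cast_sum]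
  refine Finset.sum_congr rfl fun ξ hξ => ?_
  have hne : α ξ ≠ 0 := by
    have := (hfin.mem_toFinset).mp hξ
    simpa using this
  obtain ⟨hcl, -⟩ := isClosed_of_ne_zero X δ hδ α hα ξ hne
  rw [map_smul, tr_cl_closedPoint T X ξ hcl, smul_eq_mul, mul_one]

theorem clCyc_mem_top : T.clCyc X α ∈ T.gr X (2 * (dim X.obj.left : ℤ)) := by
  have hfin := finite_support X δ hδ α hα
  have hs1 : Function.support (fun ξ : X.obj.left => ((α ξ : ℤ) : K) • T.cl X ξ) ⊆
      ↑hfin.toFinset := by
    intro ξ hξ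
    rw [Set.Finite.coe_toFinset]
    intro h0
    exact hξ (by simp [show α ξ = 0 from h0])
  unfold TheoryOn.clCyc
  rw [finsum_eq_sum_of_support_subset _ hs1]
  refine Submodule.sum_mem _ fun ξ hξ => Submodule.smul_mem _ _ ?_
  have hne : α ξ ≠ 0 := by
    have := (hfin.mem_toFinset).mp hξ
    simpa using this
  obtain ⟨hcl, -⟩ := isClosed_of_ne_zero X δ hδ α hα ξ hne
  have h := T.cl_mem X ξ
  have hc : codim X.obj.left ξ = dim X.obj.left := by
    unfold codim
    rw [pdim_of_isClosed hcl]
    simp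
  rwa [hc] at h

theorem deg_eq_tr_clCyc : (ChowOps.deg X.obj.hom δ α : K) = T.tr X (T.clCyc X α) := by
  rw [tr_clCyc_eq T X δ hδ α hα, deg_eq_finsum X δ hδ α hα]

theorem isHomEquivZero_iff : T.IsHomEquivZero X α ↔ ChowOps.deg X.obj.hom δ α = 0 := by
  unfold TheoryOn.IsHomEquivZero
  have h1 := deg_eq_tr_clCyc T X δ hδ α hα
  constructor
  · intro h
    rw [h, map_zero] at h1
    exact_mod_cast h1
  · intro h
    rw [h, Int.cast_zero] at h1
    have hmem := clCyc_mem_top T X δ hδ α hα
    have hinj := (T.tr_bijective X).1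
    have h2 : (⟨T.clCyc X α, hmem⟩ : T.gr X (2 * (dim X.obj.left : ℤ))) = 0 := by
      apply hinj
      rw [map_zero]
      exact h1.symm
    exact congrArg Subtype.val h2

end

end Groth.Agent.Lead.WeilDeg
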