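import Mathlib

set_option autoImplicit false
set_option backward.isDefEq.respectTransparency.types false
set_option synthInstance.maxHeartbeats 400000
set_option linter.style.haveILetI false
set_option linter.unusedSectionVars false
universe u
open CategoryTheory CategoryTheory.Limits AlgebraicGeometry TopologicalSpace Opposite

namespace Groth.Agent.Lead.WeilFE

open Polynomial Matrix

section Mat

variable {K : Type*} [CommRing K] {n : Type*} [Fintype n] [DecidableEq n]

theorem matrix_fe (A G : Matrix n n K) (c : K) (hGA : G * A = c • (1 : Matrix n n K)) :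
    A.det • G.charpoly.reverse = (-1 : K[X]) ^ Fintype.card n * A.charpoly.comp (C c * X) := by
  rw [Matrix.reverse_charpoly, Matrix.charpolyRev]
  have h1 : A.det • det (1 - (X : K[X]) • G.map C) =
      det ((1 - (X : K[X]) • G.map C) * A.map C) := by
    rw [det_mul, Algebra.smul_def, mul_comm]
    congr 1
    exact (RingHom.map_det (C : K →+* K[X]) A)
  rw [h1]
  have h2 : (1 - (X : K[X]) • G.map C) * A.map C = -(Matrix.scalar n (C c * X) - A.map C) := by
    rw [sub_mul, one_mul, smul_mul_assoc, ← Matrix.map_mul, hGA, neg_sub]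
    congr 1
    refine Matrix.ext (fun i j => ?_)
    by_cases hij : i = j
    · subst hij
      simp only [Matrix.smul_apply, Matrix.map_apply, Matrix.one_apply_eq, smul_eq_mul, mul_one,
        Matrix.scalar_apply, Matrix.diagonal_apply_eq]
      exact mul_comm _ _
    · simp only [Matrix.smul_apply, Matrix.map_apply, Matrix.one_apply_ne hij, smul_eq_mul,
        mul_zero, map_zero, Matrix.scalar_apply, Matrix.diagonal_apply_ne _ hij]
  rw [h2, det_neg]
  congr 1
  rw [Matrix.charpoly, ← Polynomial.coe_compRingHom_apply, RingHom.map_det]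
  congr 1
  refine Matrix.ext (fun i j => ?_)
  by_cases hij : i = j
  · subst hij
    simp [charmatrix_apply]
  · simp [charmatrix_apply, hij]

end Mat

section Lin

variable {K : Type*} [Field K] {V W : Type*} [AddCommGroup V] [Module K V] [FiniteDimensional K V]
  [AddCommGroup W] [Module K W] [FiniteDimensional K W]

theorem linear_fe (f g : V →ₗ[K] V) (c : K) (h : g ∘ₗ f = c • LinearMap.id) :
    LinearMap.det f • g.charpoly.reverse =
      (-1 : K[X]) ^ Module.finrank K V * f.charpoly.comp (C c * X) := by
  classical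
  let b := Module.finBasis K V
  have h1 : LinearMap.toMatrix b b g * LinearMap.toMatrix b b f =
      c • (1 : Matrix (Fin (Module.finrank K V)) (Fin (Module.finrank K V)) K) := by
    rw [← LinearMap.toMatrix_comp, h, map_smul, LinearMap.toMatrix_id]
  have h2 := matrix_fe _ _ c h1
  rw [LinearMap.charpoly_toMatrix, LinearMap.charpoly_toMatrix, LinearMap.det_toMatrix,
    Fintype.card_fin] at h2
  exact h2

theorem charpoly_dualMap (h : W →ₗ[K] W) : h.dualMap.charpoly = h.charpoly := by
  classical
  let b := Module.finBasis K W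
  rw [← LinearMap.charpoly_toMatrix h b, ← LinearMap.charpoly_toMatrix h.dualMap b.dualBasis,
    LinearMap.dualMap_def, LinearMap.toMatrix_transpose, Matrix.charpoly_transpose]

theorem exists_adjoint (P : V →ₗ[K] W →ₗ[K] K) [P.IsPerfPair] (f : V →ₗ[K] V) (h : W →ₗ[K] W)
    (c : K) (hP : ∀ a b, P (f a) (h b) = c * P a b) :
    ∃ g : V →ₗ[K] V, g.charpoly = h.charpoly ∧ LinearMap.det g = LinearMap.det h ∧
      g ∘ₗ f = c • LinearMap.id := by
  let Φ : V ≃ₗ[K] Module.Dual K W := P.toPerfPair
  refine ⟨Φ.symm.conj h.dualMap, ?_, ?_, ?_⟩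
  · rw [LinearEquiv.charpoly_conj, charpoly_dualMap]
  · have := LinearMap.det_conj h.dualMap Φ.symm
    rw [LinearMap.det_dualMap] at this
    rw [← this]
    rfl
  · ext a
    simp only [LinearMap.comp_apply, LinearMap.smul_apply, LinearMap.id_apply,
      LinearEquiv.conj_apply, LinearEquiv.symm_symm, LinearEquiv.coe_coe]
    rw [LinearEquiv.symm_apply_eq]
    ext b
    simp only [LinearMap.dualMap_apply, map_smul, LinearMap.smul_apply, smul_eq_mul]
    exact hP a b

theorem det_mul_det_of_pairing (P : V →ₗ[K] W →ₗ[K] K) [P.IsPerfPair] (f : V →ₗ[K] V)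
    (h : W →ₗ[K] W) (c : K) (hP : ∀ a b, P (f a) (h b) = c * P a b) :
    LinearMap.det h * LinearMap.det f = c ^ Module.finrank K V := by
  obtain ⟨g, -, hg2, hg3⟩ := exists_adjoint P f h c hP
  rw [← hg2, ← LinearMap.det_comp, hg3, LinearMap.det_smul, LinearMap.det_id, mul_one]

theorem charpoly_fe_of_pairing (P : V →ₗ[K] W →ₗ[K] K) [P.IsPerfPair] (f : V →ₗ[K] V)
    (h : W →ₗ[K] W) (c : K) (hP : ∀ a b, P (f a) (h b) = c * P a b) :
    LinearMap.det f • h.charpoly.reverse =
      (-1 : K[X]) ^ Module.finrank K V * f.charpoly.comp (C c * X) := by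
  obtain ⟨g, hg1, -, hg3⟩ := exists_adjoint P f h c hP
  rw [← hg1]
  exact linear_fe f g c hg3

end Lin

end Groth.Agent.Lead.WeilFE
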