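import Mathlib
import Groth.Agent.Lib.Lead.WeilFE1
import Groth.Agent.Lib.Lead.FrobDeg6
import Groth.Agent.Lib.Helper5.Misc.WeilLib

set_option autoImplicit false
set_option backward.isDefEq.respectTransparency.types false
set_option synthInstance.maxHeartbeats 400000
set_option linter.style.haveILetI false
set_option linter.unusedSectionVars false
universe u v w
open CategoryTheory CategoryTheory.Limits AlgebraicGeometry TopologicalSpace Opposite

namespace Groth.Agent.Lead.WeilFE

open Polynomial WeilCoh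
open Groth.Agent.Lib.Helper5.Misc.WeilGen Groth.Agent.Lib.Helper5.Misc.WeilLib

section Pairing

variable {k : Type u} [Field k] {K : Type v} [Field K]
  (T : TheoryOn.{u, v, w} k (IsVar k) K) {Xb : Var k} (F : Xb ⟶ Xb)
  (hdom : sm F (genericPoint ↥Xb.obj.left) = genericPoint ↥Xb.obj.left) (c : ℕ)
  (hdeg : (sm F).residueDegree (genericPoint ↥Xb.obj.left) = c)

include hdom hdeg in
theorem pairing_pull (i j : ℤ) (hij : i + j = 2 * (dim Xb.obj.left : ℤ)) (a : T.gr Xb i)
    (b : T.gr Xb j) :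
    pairing K (T.gr Xb i) (T.gr Xb j) (T.tr Xb) (T.pullDeg F i a) (T.pullDeg F j b) =
      (c : K) * pairing K (T.gr Xb i) (T.gr Xb j) (T.tr Xb) a b := by
  rw [pairing_apply, pairing_apply]
  have h1 : ((T.pullDeg F i a : T.gr Xb i) : T.H Xb) * ((T.pullDeg F j b : T.gr Xb j) : T.H Xb) =
      T.pull F ((a : T.H Xb) * (b : T.H Xb)) := by
    rw [map_mul]
    rfl
  rw [h1]
  have hmem : (a : T.H Xb) * (b : T.H Xb) ∈ T.gr Xb (2 * (dim Xb.obj.left : ℤ)) :=
    mem_of_eq T hij (SetLike.mul_mem_graded a.2 b.2)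
  rw [tr_pull_of_dominant T F hdom rfl _ hmem, hdeg]

include hdom hdeg in
theorem det_mul_det (i : ℤ) :
    LinearMap.det (T.pullDeg F (2 * (dim Xb.obj.left : ℤ) - i)) * LinearMap.det (T.pullDeg F i) =
      (c : K) ^ Module.finrank K ↥(T.gr Xb i) := by
  haveI := T.duality Xb i (2 * (dim Xb.obj.left : ℤ) - i) (by ring)
  exact det_mul_det_of_pairing
    (pairing K (T.gr Xb i) (T.gr Xb (2 * (dim Xb.obj.left : ℤ) - i)) (T.tr Xb))
    (T.pullDeg F i) (T.pullDeg F (2 * (dim Xb.obj.left : ℤ) - i)) (c : K)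
    (fun a b => pairing_pull T F hdom c hdeg i _ (by ring) a b)

include hdom hdeg in
theorem charpoly_fe (i : ℤ) :
    LinearMap.det (T.pullDeg F i) •
        (LinearMap.charpoly (T.pullDeg F (2 * (dim Xb.obj.left : ℤ) - i))).reverse =
      (-1 : K[X]) ^ Module.finrank K ↥(T.gr Xb i) *
        (LinearMap.charpoly (T.pullDeg F i)).comp (C (c : K) * X) := by
  haveI := T.duality Xb i (2 * (dim Xb.obj.left : ℤ) - i) (by ring)
  exact charpoly_fe_of_pairing
    (pairing K (T.gr Xb i) (T.gr Xb (2 * (dim Xb.obj.left : ℤ) - i)) (T.tr Xb))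
    (T.pullDeg F i) (T.pullDeg F (2 * (dim Xb.obj.left : ℤ) - i)) (c : K)
    (fun a b => pairing_pull T F hdom c hdeg i _ (by ring) a b)

end Pairing

end Groth.Agent.Lead.WeilFE
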