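import Mathlib
import Groth.Agent.Lib.Lead.WeilFE2

set_option autoImplicit false
set_option backward.isDefEq.respectTransparency.types false
set_option synthInstance.maxHeartbeats 400000
set_option linter.style.haveILetI false
set_option linter.unusedSectionVars false
universe u v w
open CategoryTheory CategoryTheory.Limits AlgebraicGeometry TopologicalSpace Opposite

namespace Groth.Agent.Lead.WeilFE

open Polynomial

section Skew

variable {K : Type*} [Field K] {V : Type*} [AddCommGroup V] [Module K V] [FiniteDimensional K V]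

theorem even_finrank_of_skew (h2 : (2 : K) ≠ 0) (P : V →ₗ[K] V →ₗ[K] K) [P.IsPerfPair]
    (hP : ∀ a b, P a b = - P b a) : Even (Module.finrank K V) := by
  classical
  let b := Module.finBasis K V
  let Φ : V ≃ₗ[K] Module.Dual K V := P.toPerfPair
  let M := LinearMap.toMatrix b b.dualBasis (Φ : V →ₗ[K] Module.Dual K V)
  have hM : ∀ i j, M i j = P (b j) (b i) := by
    intro i j
    simp only [M, LinearMap.toMatrix_apply, Module.Basis.dualBasis_repr, LinearEquiv.coe_coe]
    rfl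
  have hMT : M.transpose = -M := by
    refine Matrix.ext (fun i j => ?_)
    rw [Matrix.transpose_apply, Matrix.neg_apply, hM, hM, hP]
  have hdet : IsUnit M.det := LinearEquiv.isUnit_det Φ b b.dualBasis
  have h1 : M.det = (-1) ^ Module.finrank K V * M.det := by
    conv_lhs => rw [← Matrix.det_transpose, hMT, Matrix.det_neg, Fintype.card_fin]
  have h3 : ((-1 : K)) ^ Module.finrank K V = 1 := by
    have := hdet.ne_zero
    field_simp at h1
    exact h1.symm
  have hne : (-1 : K) ≠ 1 := by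
    intro h
    apply h2
    have : (1 : K) + 1 = 0 := by
      nth_rewrite 1 [← h]
      ring
    rw [← this]
    norm_num
  exact (neg_one_pow_eq_one_iff_even hne).mp h3

end Skew

section Alt

variable {L : Type*} [Field L]

/-- the alternating product `∏_{j odd} φ j / ∏_{j even} φ j` over `0 ≤ j ≤ 2d` -/
noncomputable def alt (d : ℕ) (φ : ℕ → L) : L :=
  (∏ i ∈ Finset.range d, φ (2 * i + 1)) / (∏ i ∈ Finset.range (d + 1), φ (2 * i))

/-- the alternating sum `Σ_{j ≤ 2d} (-1)^j e j` -/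
def altsum (d : ℕ) (e : ℕ → ℤ) : ℤ := ∑ j ∈ Finset.range (2 * d + 1), (-1 : ℤ) ^ j * e j

theorem alt_congr (d : ℕ) (φ ψ : ℕ → L) (h : ∀ j, j ≤ 2 * d → φ j = ψ j) :
    alt d φ = alt d ψ := by
  unfold alt
  congr 1
  · refine Finset.prod_congr rfl (fun i hi => h _ ?_)
    have := Finset.mem_range.mp hi
    omega
  · refine Finset.prod_congr rfl (fun i hi => h _ ?_)
    have := Finset.mem_range.mp hi
    omega

theorem alt_mul (d : ℕ) (φ ψ : ℕ → L) : alt d (fun j => φ j * ψ j) = alt d φ * alt d ψ := by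
  unfold alt
  rw [Finset.prod_mul_distrib, Finset.prod_mul_distrib, mul_div_mul_comm]

theorem alt_reflect (d : ℕ) (φ : ℕ → L) : alt d (fun j => φ (2 * d - j)) = alt d φ := by
  unfold alt
  congr 1
  · refine Eq.trans ?_ (Finset.prod_range_reflect (fun i => φ (2 * i + 1)) d)
    refine Finset.prod_congr rfl (fun i hi => ?_)
    have := Finset.mem_range.mp hi
    show φ (2 * d - (2 * i + 1)) = φ (2 * (d - 1 - i) + 1)
    congr 1
    omega
  · refine Eq.trans ?_ (Finset.prod_range_reflect (fun i => φ (2 * i)) (d + 1))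
    refine Finset.prod_congr rfl (fun i hi => ?_)
    have := Finset.mem_range.mp hi
    show φ (2 * d - 2 * i) = φ (2 * (d + 1 - 1 - i))
    congr 1
    omega

theorem alt_map {K : Type*} [Field K] (C : K →+* L) (d : ℕ) (g : ℕ → K) :
    alt d (fun j => C (g j)) = C (alt d g) := by
  unfold alt
  rw [map_div₀, map_prod, map_prod]

theorem prod_zpow_eq (y : L) (hy : y ≠ 0) (e : ℕ → ℤ) (n : ℕ) :
    ∏ i ∈ Finset.range n, y ^ (e i) = y ^ (∑ i ∈ Finset.range n, e i) := by
  induction n with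
  | zero => simp
  | succ n ih => rw [Finset.prod_range_succ, Finset.sum_range_succ, ih, zpow_add₀ hy]

theorem altsum_eq (d : ℕ) (e : ℕ → ℤ) :
    altsum d e = ∑ i ∈ Finset.range (d + 1), e (2 * i) - ∑ i ∈ Finset.range d, e (2 * i + 1) := by
  unfold altsum
  induction d with
  | zero => simp
  | succ d ih =>
    rw [show 2 * (d + 1) + 1 = (2 * d + 1) + 1 + 1 by ring, Finset.sum_range_succ,
      Finset.sum_range_succ, ih, Finset.sum_range_succ (fun i => e (2 * i)) (d + 1),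
      Finset.sum_range_succ (fun i => e (2 * i + 1)) d]
    have h1 : (-1 : ℤ) ^ (2 * d + 1) = -1 := by
      rw [pow_succ, pow_mul]; simp
    have h2 : (-1 : ℤ) ^ (2 * d + 1 + 1) = 1 := by
      rw [pow_succ, h1]; simp
    rw [h1, h2, show 2 * (d + 1) = 2 * d + 1 + 1 by ring]
    ring

theorem alt_zpow (d : ℕ) (y : L) (hy : y ≠ 0) (e : ℕ → ℤ) :
    alt d (fun j => y ^ (e j)) = y ^ (- altsum d e) := by
  unfold alt
  rw [prod_zpow_eq y hy (fun i => e (2 * i + 1)), prod_zpow_eq y hy (fun i => e (2 * i)),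
    ← zpow_sub₀ hy, altsum_eq]
  congr 1
  ring

theorem altsum_symm (d : ℕ) (t : ℕ → ℤ) (ht : ∀ j, j ≤ 2 * d → t (2 * d - j) = t j) :
    ∑ j ∈ Finset.range (2 * d + 1), t j = 2 * ∑ j ∈ Finset.range d, t j + t d := by
  rw [show 2 * d + 1 = d + (d + 1) by ring, Finset.sum_range_add, Finset.sum_range_succ']
  have h1 : ∑ j ∈ Finset.range d, t (d + (j + 1)) = ∑ j ∈ Finset.range d, t j := by
    rw [← Finset.sum_range_reflect]
    refine Finset.sum_congr rfl (fun j hj => ?_)
    have := Finset.mem_range.mp hj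
    rw [← ht (d + (d - 1 - j + 1)) (by omega)]
    congr 1
    omega
  rw [h1, add_zero]
  ring

end Alt

section Rat

variable {K : Type*} [Field K]

theorem aeval_reverse_eq (Q P' : K[X]) (n : ℕ) (hn : Q.natDegree = n) (δ c : K) (hc : c ≠ 0)
    (h : δ • P' = (-1 : K[X]) ^ n * Q.comp (C c * X)) :
    aeval ((RatFunc.X : RatFunc K)⁻¹ * RatFunc.C c⁻¹) Q.reverse =
      RatFunc.C ((-1) ^ n * δ) * (RatFunc.C c * RatFunc.X) ^ (-(n : ℤ)) *
        algebraMap K[X] (RatFunc K) P' := by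
  set x : RatFunc K := RatFunc.C c * RatFunc.X with hx
  have hx0 : x ≠ 0 := by
    rw [hx]
    exact mul_ne_zero (by simpa using hc) RatFunc.X_ne_zero
  have hu : (RatFunc.X : RatFunc K)⁻¹ * RatFunc.C c⁻¹ = x⁻¹ := by
    rw [hx, mul_inv_rev, map_inv₀]
  rw [hu]
  letI : Invertible x := invertibleOfNonzero hx0
  have h1 := eval₂_reverse_mul_pow (algebraMap K (RatFunc K)) x Q
  rw [invOf_eq_inv, hn] at h1
  have h2 : eval₂ (algebraMap K (RatFunc K)) x Q =
      algebraMap K[X] (RatFunc K) (Q.comp (C c * X)) := by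
    have hx' : x = algebraMap K[X] (RatFunc K) (C c * X) := by
      rw [hx, map_mul, RatFunc.algebraMap_C, RatFunc.algebraMap_X]
    rw [hx', ← aeval_def, aeval_algebraMap_apply, comp_eq_aeval]
  have h3 : Q.comp (C c * X) = (-1 : K[X]) ^ n * (δ • P') := by
    rw [h, ← mul_assoc, ← mul_pow]
    simp
  have h4 : algebraMap K[X] (RatFunc K) ((-1 : K[X]) ^ n * (δ • P')) =
      RatFunc.C ((-1) ^ n * δ) * algebraMap K[X] (RatFunc K) P' := by
    rw [Algebra.smul_def, ← mul_assoc, map_mul, map_mul (RatFunc.C)]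
    congr 1
    rw [map_mul, ← RatFunc.algebraMap_C, ← RatFunc.algebraMap_C]
    simp
  rw [h2, h3, h4] at h1
  rw [aeval_def, zpow_neg, zpow_natCast, mul_assoc, mul_comm (x ^ n)⁻¹, ← mul_assoc, ← h1]
  field_simp

theorem neg_one_pow_reflect (d j : ℕ) (hj : j ≤ 2 * d) : (-1 : ℤ) ^ (2 * d - j) = (-1) ^ j := by
  have h1 : (-1 : ℤ) ^ (2 * d - j) * (-1) ^ j = 1 := by
    rw [← pow_add, Nat.sub_add_cancel hj, pow_mul]
    simp
  have h2 : (-1 : ℤ) ^ j * (-1) ^ j = 1 := by
    rw [← mul_pow]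
    simp
  calc (-1 : ℤ) ^ (2 * d - j) = (-1 : ℤ) ^ (2 * d - j) * ((-1 : ℤ) ^ j * (-1) ^ j) := by
        rw [h2, mul_one]
    _ = ((-1 : ℤ) ^ (2 * d - j) * (-1 : ℤ) ^ j) * (-1) ^ j := by ring
    _ = (-1) ^ j := by rw [h1, one_mul]

theorem even_altsum (d : ℕ) (b : ℕ → ℕ) (H4 : ∀ j, j ≤ 2 * d → b (2 * d - j) = b j)
    (H5 : Odd d → Even (b d)) : Even ((d : ℤ) * altsum d (fun j => (b j : ℤ))) := by
  rcases Nat.even_or_odd d with hd | hd
  · exact Even.mul_right (by exact_mod_cast hd) _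
  · apply Even.mul_left
    obtain ⟨m, hm⟩ := H5 hd
    unfold altsum
    rw [altsum_symm d (fun j => (-1 : ℤ) ^ j * (b j : ℤ))]
    · refine Even.add (even_two_mul _) ?_
      rw [hm]
      push_cast
      exact Even.mul_left ⟨(m : ℤ), rfl⟩ _
    · intro j hj
      show (-1 : ℤ) ^ (2 * d - j) * (b (2 * d - j) : ℤ) = (-1 : ℤ) ^ j * (b j : ℤ)
      rw [neg_one_pow_reflect d j hj, H4 j hj]

theorem abstract_fe (d : ℕ) (b : ℕ → ℕ) (Q : ℕ → K[X]) (δ : ℕ → K) (q : K) (hq : q ≠ 0)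
    (H1 : ∀ j, j ≤ 2 * d → (Q j).natDegree = b j)
    (H2 : ∀ j, j ≤ 2 * d → δ j • (Q (2 * d - j)).reverse =
      (-1 : K[X]) ^ (b j) * (Q j).comp (C (q ^ d) * X))
    (H3 : ∀ j, j ≤ 2 * d → δ (2 * d - j) * δ j = (q ^ d) ^ (b j))
    (H4 : ∀ j, j ≤ 2 * d → b (2 * d - j) = b j)
    (H5 : Odd d → Even (b d)) :
    ∃ ε : K, (ε = 1 ∨ ε = -1) ∧
      alt d (fun j => aeval ((RatFunc.X : RatFunc K)⁻¹ * RatFunc.C (q ^ d)⁻¹) (Q j).reverse) =
        RatFunc.C ε * RatFunc.C q ^ ((d : ℤ) * altsum d (fun j => (b j : ℤ)) / 2) *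
          (RatFunc.X : RatFunc K) ^ (altsum d (fun j => (b j : ℤ))) *
          alt d (fun j => algebraMap K[X] (RatFunc K) (Q j).reverse) := by
  set χ := altsum d (fun j => (b j : ℤ)) with hχ
  set c := q ^ d with hc
  have hc0 : c ≠ 0 := pow_ne_zero _ hq
  let g : ℕ → K := fun j => (-1) ^ (b j) * δ j
  set x : RatFunc K := RatFunc.C c * RatFunc.X with hx
  have hx0 : x ≠ 0 := by
    rw [hx]
    exact mul_ne_zero (by simpa using hc0) RatFunc.X_ne_zero
  have hE : ∀ j, j ≤ 2 * d →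
      aeval ((RatFunc.X : RatFunc K)⁻¹ * RatFunc.C c⁻¹) (Q j).reverse =
        (RatFunc.C (g j) * x ^ (-(b j : ℤ))) *
          algebraMap K[X] (RatFunc K) (Q (2 * d - j)).reverse :=
    fun j hj => aeval_reverse_eq (Q j) _ (b j) (H1 j hj) (δ j) c hc0 (H2 j hj)
  have h1 : alt d (fun j => aeval ((RatFunc.X : RatFunc K)⁻¹ * RatFunc.C c⁻¹) (Q j).reverse) =
      RatFunc.C (alt d g) * x ^ χ * alt d (fun j => algebraMap K[X] (RatFunc K) (Q j).reverse) := by
    rw [alt_congr d _ _ hE,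
      alt_mul d (fun j => RatFunc.C (g j) * x ^ (-(b j : ℤ)))
        (fun j => algebraMap K[X] (RatFunc K) (Q (2 * d - j)).reverse),
      alt_mul d (fun j => RatFunc.C (g j)) (fun j => x ^ (-(b j : ℤ))),
      alt_reflect d (fun j => algebraMap K[X] (RatFunc K) (Q j).reverse),
      alt_map, alt_zpow d x hx0]
    congr 3
    rw [hχ]
    unfold altsum
    rw [← Finset.sum_neg_distrib]
    refine Finset.sum_congr rfl (fun j _ => ?_)
    ring
  set G := alt d g with hG
  have hGG : G * G = q ^ (-((d : ℤ) * χ)) := by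
    have hrefl : G = alt d (fun j => g (2 * d - j)) := (alt_reflect d g).symm
    nth_rewrite 2 [hrefl]
    rw [hG, ← alt_mul, alt_congr d _ (fun j => c ^ ((b j : ℕ) : ℤ)), alt_zpow d c hc0, ← hχ, hc,
      ← zpow_natCast q d, ← zpow_mul]
    · congr 1
      ring
    · intro j hj
      simp only [g]
      rw [H4 j hj, zpow_natCast, ← H3 j hj]
      have : ((-1 : K) ^ (b j)) * ((-1 : K) ^ (b j)) = 1 := by
        rw [← mul_pow]
        simp
      linear_combination (δ j * δ (2 * d - j)) * this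
  obtain ⟨z, hz⟩ := even_altsum d b H4 H5
  rw [← hχ] at hz
  have hdiv : (d : ℤ) * χ / 2 = z := by omega
  let ε := G * q ^ z
  have hε : ε * ε = 1 := by
    simp only [ε]
    calc G * q ^ z * (G * q ^ z) = (G * G) * (q ^ z * q ^ z) := by ring
      _ = q ^ (-((d : ℤ) * χ)) * q ^ (z + z) := by rw [hGG, zpow_add₀ hq]
      _ = 1 := by
        rw [← hz, ← zpow_add₀ hq]
        simp
  refine ⟨ε, mul_self_eq_one_iff.mp hε, ?_⟩
  rw [h1, hdiv]
  have hCq : (RatFunc.C q : RatFunc K) ≠ 0 := by simpa using hq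
  have h2 : RatFunc.C G * x ^ χ = RatFunc.C ε * RatFunc.C q ^ z * RatFunc.X ^ χ := by
    rw [hx, mul_zpow, hc, map_pow, ← zpow_natCast (RatFunc.C q) d, ← zpow_mul, hz]
    simp only [ε]
    rw [map_mul, map_zpow₀, zpow_add₀ hCq]
    ring
  rw [h2]

end Rat

end Groth.Agent.Lead.WeilFE
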