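import Mathlib
import Groth.Agent.Lib.Lead.WeilFE3

set_option autoImplicit false
set_option backward.isDefEq.respectTransparency.types false
set_option synthInstance.maxHeartbeats 400000
set_option linter.style.haveILetI false
set_option linter.unusedSectionVars false
universe u v w
open CategoryTheory CategoryTheory.Limits AlgebraicGeometry TopologicalSpace Opposite

namespace Groth.Agent.Lead.WeilFE

open Polynomial WeilCoh
open Groth.Agent.Lib.Helper5.Misc.WeilGen Groth.Agent.Lib.Helper5.Misc.WeilLib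

section FE

variable {k : Type u} [Field k] {K : Type v} [Field K] [CharZero K]
  (T : TheoryOn.{u, v, w} k (IsVar k) K) {Xb : Var k} (F : Xb ⟶ Xb)

theorem charpoly_congr_deg (m n : ℤ) (h : m = n) :
    LinearMap.charpoly (T.pullDeg F m) = LinearMap.charpoly (T.pullDeg F n) := by
  subst h
  rfl

theorem det_congr_deg (m n : ℤ) (h : m = n) :
    LinearMap.det (T.pullDeg F m) = LinearMap.det (T.pullDeg F n) := by
  subst h
  rfl

theorem finrank_congr_deg (m n : ℤ) (h : m = n) :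
    Module.finrank K ↥(T.gr Xb m) = Module.finrank K ↥(T.gr Xb n) := by
  subst h
  rfl

theorem finrank_dual (i j : ℤ) (hij : i + j = 2 * (dim Xb.obj.left : ℤ)) :
    Module.finrank K ↥(T.gr Xb i) = Module.finrank K ↥(T.gr Xb j) := by
  haveI := T.duality Xb i j hij
  exact Module.finrank_of_isPerfPair (pairing K (T.gr Xb i) (T.gr Xb j) (T.tr Xb))

theorem even_finrank_middle (hd : Odd (dim Xb.obj.left)) :
    Even (Module.finrank K ↥(T.gr Xb ((dim Xb.obj.left : ℕ) : ℤ))) := by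
  haveI := T.duality Xb (dim Xb.obj.left : ℤ) (dim Xb.obj.left : ℤ) (by ring)
  refine even_finrank_of_skew (two_ne_zero)
    (pairing K (T.gr Xb (dim Xb.obj.left : ℤ)) (T.gr Xb (dim Xb.obj.left : ℤ)) (T.tr Xb)) ?_
  intro a b
  rw [pairing_apply, pairing_apply, T.gradedComm Xb _ _ _ _ a.2 b.2, Int.natAbs_natCast,
    (Odd.mul hd hd).neg_one_pow, neg_smul, one_smul, map_neg]

variable (hdom : sm F (genericPoint ↥Xb.obj.left) = genericPoint ↥Xb.obj.left) (q₀ : ℕ)
  (hq₀ : q₀ ≠ 0)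
  (hdeg : (sm F).residueDegree (genericPoint ↥Xb.obj.left) = q₀ ^ (dim Xb.obj.left))

include hdom hq₀ hdeg in
theorem fe_of_degree :
    ∃ ε : K, (ε = 1 ∨ ε = -1) ∧
      Polynomial.aeval ((RatFunc.X : RatFunc K)⁻¹ * RatFunc.C ((q₀ : K) ^ dim Xb.obj.left)⁻¹)
          (∏ i ∈ Finset.range (dim Xb.obj.left),
            (LinearMap.charpoly (T.pullDeg F ((2 * i + 1 : ℕ) : ℤ))).reverse) /
        Polynomial.aeval ((RatFunc.X : RatFunc K)⁻¹ * RatFunc.C ((q₀ : K) ^ dim Xb.obj.left)⁻¹)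
          (∏ i ∈ Finset.range (dim Xb.obj.left + 1),
            (LinearMap.charpoly (T.pullDeg F ((2 * i : ℕ) : ℤ))).reverse) =
      RatFunc.C ε * RatFunc.C (q₀ : K) ^ ((dim Xb.obj.left : ℤ) * (∑ i ∈ Finset.range (2 * dim Xb.obj.left + 1), (-1 : ℤ) ^ i * (Module.finrank K ↥(T.gr Xb (i : ℤ)) : ℤ)) / 2) *
        (RatFunc.X : RatFunc K) ^ (∑ i ∈ Finset.range (2 * dim Xb.obj.left + 1), (-1 : ℤ) ^ i * (Module.finrank K ↥(T.gr Xb (i : ℤ)) : ℤ)) *
        (algebraMap (Polynomial K) (RatFunc K)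
          (∏ i ∈ Finset.range (dim Xb.obj.left),
            (LinearMap.charpoly (T.pullDeg F ((2 * i + 1 : ℕ) : ℤ))).reverse) /
         algebraMap (Polynomial K) (RatFunc K)
          (∏ i ∈ Finset.range (dim Xb.obj.left + 1),
            (LinearMap.charpoly (T.pullDeg F ((2 * i : ℕ) : ℤ))).reverse)) := by
  set d := dim Xb.obj.left with hd
  have hq : (q₀ : K) ≠ 0 := by exact_mod_cast hq₀
  have hcast : ∀ j : ℕ, j ≤ 2 * d → 2 * (d : ℤ) - (j : ℤ) = ((2 * d - j : ℕ) : ℤ) := by
    intro j hj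
    omega
  have hdeg' : (sm F).residueDegree (genericPoint ↥Xb.obj.left) = q₀ ^ d := hdeg
  obtain ⟨ε, hε, h⟩ := abstract_fe d (fun j => Module.finrank K ↥(T.gr Xb (j : ℤ)))
    (fun j => LinearMap.charpoly (T.pullDeg F (j : ℤ)))
    (fun j => LinearMap.det (T.pullDeg F (j : ℤ))) (q₀ : K) hq
    (fun j _ => LinearMap.charpoly_natDegree _)
    (fun j hj => by
      have h1 := charpoly_fe T F hdom _ hdeg' (j : ℤ)
      rw [charpoly_congr_deg T F _ _ (hcast j hj), Nat.cast_pow] at h1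
      exact h1)
    (fun j hj => by
      have h1 := det_mul_det T F hdom _ hdeg' (j : ℤ)
      rw [det_congr_deg T F _ _ (hcast j hj), Nat.cast_pow] at h1
      exact h1)
    (fun j hj => by
      rw [← finrank_congr_deg T _ _ (hcast j hj)]
      exact (finrank_dual T (j : ℤ) _ (by ring)).symm)
    (fun hodd => even_finrank_middle T hodd)
  refine ⟨ε, hε, ?_⟩
  simp only [alt, altsum] at h
  rw [map_prod, map_prod, map_prod, map_prod]
  exact h

end FE

end Groth.Agent.Lead.WeilFE
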