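import Mathlib
import Groth.Prelude.Def_WeilCoh
import Groth.Prelude.Def_Cyc
import Groth.Agent.Lib.Helper5.Misc.WeilGeo
import Groth.Agent.Lib.Helper5.Misc.WeilLib
import Groth.Agent.Lib.Helper5.Misc.WeilKun
import Groth.Agent.Lib.Helper4.PropDim1

set_option autoImplicit false
universe u v w
open CategoryTheory AlgebraicGeometry
open WeilCoh

namespace Groth.Agent.Lead.WeilPush

open Groth.Agent.Lib.Helper5.Misc.WeilGeo Groth.Agent.Lib.Helper5.Misc.WeilLib
  Groth.Agent.Lib.Helper5.Misc.WeilKun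
open Groth.Agent.Lib.Helper4.FibDim1 Groth.Agent.Lib.Helper4.PropDim1

variable {k : Type u} [Field k]

instance loft_hom (X : Var k) : LocallyOfFiniteType X.obj.hom := by
  haveI : Smooth X.obj.hom := X.property.1
  infer_instance

instance loft_sm {X Y : Var k} (f : X ⟶ Y) : LocallyOfFiniteType (sm f) := by
  haveI : LocallyOfFiniteType (sm f ≫ Y.obj.hom) := by
    have : sm f ≫ Y.obj.hom = X.obj.hom := Over.w f.hom
    rw [this]; infer_instance
  exact locallyOfFiniteType_of_comp (sm f) Y.obj.hom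

theorem tr_congr {X S : Scheme.{u}} (g g' : X ⟶ S) [LocallyOfFiniteType g]
    [LocallyOfFiniteType g'] (h : g = g') (x : X) : tr g x = tr g' x := by
  subst h; rfl

theorem pdim_eq_tr (X : Var k) (ξ : X.obj.left) : pdim X.obj.left ξ = tr X.obj.hom ξ := by
  unfold pdim natDim
  rw [dim_closure_of_field k X.obj.hom ξ]
  simp

theorem tr_hom_eq {X Y : Var k} (f : X ⟶ Y) (ξ : X.obj.left) :
    tr X.obj.hom ξ = tr Y.obj.hom (sm f ξ) + tr (sm f) ξ := by
  rw [← tr_comp (sm f) Y.obj.hom ξ]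
  exact tr_congr _ _ (Over.w f.hom).symm ξ

theorem tr_eq_zero_of_residueDegree_ne_zero {X Y : Scheme.{u}} (f : X ⟶ Y)
    [LocallyOfFiniteType f] (x : X) (h : f.residueDegree x ≠ 0) : tr f x = 0 := by
  letI alg := (f.residueFieldMap x).hom.toAlgebra
  have hpos : 0 < Module.finrank (Y.residueField (f x)) (X.residueField x) :=
    Nat.pos_of_ne_zero h
  haveI : Module.Finite (Y.residueField (f x)) (X.residueField x) :=
    Module.finite_of_finrank_pos hpos
  haveI : Algebra.IsAlgebraic (Y.residueField (f x)) (X.residueField x) :=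
    Algebra.IsAlgebraic.of_finite _ _
  apply tr_eq_of_trdeg_eq
  rw [Nat.cast_zero]
  exact trdeg_eq_zero_iff.mpr inferInstance

theorem pdim_eq_of_residueDegree_ne_zero {X Y : Var k} (f : X ⟶ Y) (ξ : X.obj.left)
    (h : (sm f).residueDegree ξ ≠ 0) : pdim X.obj.left ξ = pdim Y.obj.left (sm f ξ) := by
  rw [pdim_eq_tr, pdim_eq_tr, tr_hom_eq f ξ, tr_eq_zero_of_residueDegree_ne_zero _ _ h, add_zero]

theorem codim_cast' (X : Var k) (ξ : X.obj.left) :
    (codim X.obj.left ξ : ℤ) = (dim X.obj.left : ℤ) - (pdim X.obj.left ξ : ℤ) := by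
  unfold codim
  exact Nat.cast_sub (pdim_le_dim X ξ)

section Theory

variable {K : Type v} [Field K] (T : TheoryOn.{u, v, w} k (IsVar k) K)

theorem tr_cl_mul_pull {X Y : Var k} (f : X ⟶ Y) (ξ : X.obj.left) (b : T.H Y) :
    T.tr X (T.cl X ξ * T.pull f b) =
      ((sm f).residueDegree ξ : K) * T.tr Y (T.cl Y (sm f ξ) * b) := by
  let φ : T.H Y →ₗ[K] K :=
    (T.tr X) ∘ₗ (LinearMap.mulLeft K (T.cl X ξ)) ∘ₗ (T.pull f).toLinearMap
      - ((sm f).residueDegree ξ : K) • ((T.tr Y) ∘ₗ (LinearMap.mulLeft K (T.cl Y (sm f ξ))))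
  have hφ : φ = 0 := by
    apply linearMap_eq_zero_of_gr T
    intro i a ha
    show T.tr X (T.cl X ξ * T.pull f a) -
      ((sm f).residueDegree ξ : K) • T.tr Y (T.cl Y (sm f ξ) * a) = 0
    rw [smul_eq_mul]
    by_cases hi : i = 2 * (pdim X.obj.left ξ : ℤ)
    · subst hi
      rw [T.cl_push f ξ a ha, sub_self]
    · have h1 : T.tr X (T.cl X ξ * T.pull f a) = 0 := by
        refine tr_mul_eq_zero_of_ne T (m := 2 * (codim X.obj.left ξ : ℤ)) (n := i) ?_
          (T.cl_mem X ξ) (T.pull_mem f i a ha)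
        show 2 * (codim X.obj.left ξ : ℤ) + i ≠ 2 * (dim X.obj.left : ℤ)
        rw [codim_cast']
        intro h
        apply hi
        linarith
      rw [h1, zero_sub, neg_eq_zero]
      by_cases hd : (sm f).residueDegree ξ = 0
      · rw [hd, Nat.cast_zero, zero_mul]
      · have hp := pdim_eq_of_residueDegree_ne_zero f ξ hd
        have h2 : T.tr Y (T.cl Y (sm f ξ) * a) = 0 := by
          refine tr_mul_eq_zero_of_ne T (m := 2 * (codim Y.obj.left (sm f ξ) : ℤ)) (n := i) ?_
            (T.cl_mem Y _) ha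
          show 2 * (codim Y.obj.left (sm f ξ) : ℤ) + i ≠ 2 * (dim Y.obj.left : ℤ)
          rw [codim_cast', ← hp]
          intro h
          apply hi
          linarith
        rw [h2, mul_zero]
  have h3 := congrArg (fun ψ => ψ b) hφ
  have h4 : T.tr X (T.cl X ξ * T.pull f b) -
      ((sm f).residueDegree ξ : K) • T.tr Y (T.cl Y (sm f ξ) * b) = 0 := h3
  rw [smul_eq_mul] at h4
  exact sub_eq_zero.mp h4

theorem push_cl {X Y : Var k} (f : X ⟶ Y) (ξ : X.obj.left) :
    (T.push f (2 * (codim X.obj.left ξ : ℤ)) ⟨T.cl X ξ, T.cl_mem X ξ⟩ : T.H Y) =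
      ((sm f).residueDegree ξ : K) • T.cl Y (sm f ξ) := by
  by_cases hd : (sm f).residueDegree ξ = 0
  · rw [hd, Nat.cast_zero, zero_smul]
    refine push_eq_of_tr T f _ _ (m := _) rfl (Submodule.zero_mem _) ?_
    intro b hb
    rw [zero_mul, map_zero]
    show (0 : K) = T.tr X (T.cl X ξ * T.pull f b)
    rw [tr_cl_mul_pull T f ξ b, hd, Nat.cast_zero, zero_mul]
  · have hp := pdim_eq_of_residueDegree_ne_zero f ξ hd
    refine push_eq_of_tr T f _ _ (m := 2 * (codim Y.obj.left (sm f ξ) : ℤ)) ?_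
      (Submodule.smul_mem _ _ (T.cl_mem Y _)) ?_
    · show 2 * (codim Y.obj.left (sm f ξ) : ℤ) = 2 * (codim X.obj.left ξ : ℤ) +
        2 * (dim Y.obj.left : ℤ) - 2 * (dim X.obj.left : ℤ)
      rw [codim_cast', codim_cast', hp]
      ring
    · intro b hb
      rw [smul_mul_assoc, map_smul, smul_eq_mul]
      exact (tr_cl_mul_pull T f ξ b).symm


theorem delta_eq_tr (X : Var k) (δ : X.obj.left → ℤ)
    (hδ : Cyc.DeltaCompat X.obj.hom δ (fun _ => 0)) (x : X.obj.left) :
    δ x = (tr X.obj.hom x : ℤ) := by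
  obtain ⟨n, hn, h⟩ := hδ x
  have h1 : tr X.obj.hom x = n := tr_eq_of_trdeg_eq X.obj.hom x n hn
  rw [h1, h]
  simp

theorem mapCoeff_eq {X Y : Var k} (f : X ⟶ Y)
    (δX : X.obj.left → ℤ) (hδX : Cyc.DeltaCompat X.obj.hom δX (fun _ => 0))
    (δY : Y.obj.left → ℤ) (hδY : Cyc.DeltaCompat Y.obj.hom δY (fun _ => 0)) (x : X.obj.left) :
    AlgebraicCycle.mapCoeff (sm f) δX δY x = (sm f).residueDegree x := by
  unfold AlgebraicCycle.mapCoeff
  split_ifs with h
  · rfl
  · by_contra hne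
    apply h
    have hd : (sm f).residueDegree x ≠ 0 := fun h0 => hne h0.symm
    have h0 := tr_eq_zero_of_residueDegree_ne_zero (sm f) x hd
    have h1 := tr_hom_eq f x
    rw [h0, add_zero] at h1
    rw [delta_eq_tr X δX hδX x, h1]
    exact (delta_eq_tr Y δY hδY _).symm

theorem tr_clCyc_map {X Y : Var k} (f : X ⟶ Y) [QuasiCompact (sm f)]
    (δX : X.obj.left → ℤ) (hδX : Cyc.DeltaCompat X.obj.hom δX (fun _ => 0))
    (δY : Y.obj.left → ℤ) (hδY : Cyc.DeltaCompat Y.obj.hom δY (fun _ => 0))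
    (α : AlgebraicCycle X.obj.left ℤ) (b : T.H Y) :
    T.tr Y (T.clCyc Y (AlgebraicCycle.map (sm f) δX δY α) * b) =
      T.tr X (T.clCyc X α * T.pull f b) := by
  classical
  have hfin : (Function.support (fun x : X.obj.left => α x)).Finite := by
    have := (Function.locallyFinsupp.locallyFiniteSupport α).finite_inter_support_of_isCompact
      isCompact_univ
    simpa using this
  have hs_mem : ∀ x, x ∈ hfin.toFinset ↔ α x ≠ 0 := by
    intro x
    rw [Set.Finite.mem_toFinset]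
    rfl
  have hβy : ∀ y, (AlgebraicCycle.map (sm f) δX δY α) y =
      ∑ x ∈ hfin.toFinset.filter (fun x => sm f x = y),
        α x * ((sm f).residueDegree x : ℤ) := by
    intro y
    have h1 : (AlgebraicCycle.map (sm f) δX δY α) y =
        ∑ᶠ x ∈ (sm f) ⁻¹' {y},
          α x * ((AlgebraicCycle.mapCoeff (sm f) δX δY x : ℕ) : ℤ) := rfl
    rw [h1]
    simp_rw [mapCoeff_eq f δX hδX δY hδY]
    apply finsum_mem_eq_sum_of_inter_support_eq
    ext x
    simp only [Set.mem_inter_iff, Set.mem_preimage, Set.mem_singleton_iff, Function.mem_support,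
      Finset.coe_filter, Set.mem_setOf_eq, hs_mem]
    constructor
    · rintro ⟨h1, h2⟩
      exact ⟨⟨fun h0 => h2 (by rw [h0, zero_mul]), h1⟩, h2⟩
    · rintro ⟨⟨_, h1⟩, h2⟩
      exact ⟨h1, h2⟩
  have hsX : Function.support (fun ξ : X.obj.left => ((α ξ : ℤ) : K) • T.cl X ξ) ⊆
      ↑hfin.toFinset := by
    intro ξ hξ
    rw [Finset.mem_coe, hs_mem]
    intro h0
    exact hξ (by simp [h0])
  have hsY : Function.support (fun y : Y.obj.left =>
      (((AlgebraicCycle.map (sm f) δX δY α) y : ℤ) : K) • T.cl Y y) ⊆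
      ↑(hfin.toFinset.image (fun x => sm f x)) := by
    intro y hy
    rw [Finset.mem_coe, Finset.mem_image]
    by_contra hne
    apply hy
    have : hfin.toFinset.filter (fun x => sm f x = y) = ∅ := by
      rw [Finset.filter_eq_empty_iff]
      intro x hx hxy
      exact hne ⟨x, hx, hxy⟩
    show (((AlgebraicCycle.map (sm f) δX δY α) y : ℤ) : K) • T.cl Y y = 0
    rw [hβy y, this, Finset.sum_empty, Int.cast_zero, zero_smul]
  unfold TheoryOn.clCyc
  rw [finsum_eq_sum_of_support_subset _ hsX, finsum_eq_sum_of_support_subset _ hsY,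
    Finset.sum_mul, Finset.sum_mul, map_sum, map_sum]
  rw [← Finset.sum_fiberwise_of_maps_to (s := hfin.toFinset)
    (t := hfin.toFinset.image (fun x => sm f x)) (g := fun x => sm f x)
    (fun x hx => Finset.mem_image_of_mem _ hx)]
  refine Finset.sum_congr rfl fun y hy => ?_
  rw [hβy y, smul_mul_assoc, map_smul, smul_eq_mul, Int.cast_sum, Finset.sum_mul]
  refine Finset.sum_congr rfl fun x hx => ?_
  have hxy : sm f x = y := (Finset.mem_filter.mp hx).2
  rw [smul_mul_assoc, map_smul, smul_eq_mul, tr_cl_mul_pull T f x b, hxy]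
  push_cast
  ring

end Theory

end Groth.Agent.Lead.WeilPush
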