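import Mathlib
import Groth.Agent.Lib.Lead.Wt10
import Groth.Agent.Lib.Lead.CritFib18
import Groth.Agent.Lib.Helper7.ProConsLib6

set_option autoImplicit false
set_option backward.isDefEq.respectTransparency.types false
set_option synthInstance.maxHeartbeats 400000
set_option linter.style.haveILetI false
set_option linter.unusedSectionVars false

universe u

open AlgebraicGeometry CategoryTheory Limits Topology

namespace Groth.Agent.Lead.Wt

open Groth.Agent.Helper7.ProConsLib

section IndCons

theorem isOpen_cons_of_isOpen {T : Type*} [TopologicalSpace T] [PrespectralSpace T] {s : Set T}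
    (hs : IsOpen s) : IsOpen[constructibleTopology T] s := by
  have hb := PrespectralSpace.isTopologicalBasis (X := T)
  rw [hb.open_eq_sUnion' hs]
  refine @isOpen_sUnion _ (constructibleTopology T) _ ?_
  rintro t ⟨⟨hto, htc⟩, -⟩
  exact htc.isOpen_constructibleTopology_of_isOpen hto

variable (X : Scheme.{u})

theorem isIndConstructible_iUnion {κ : Type*} (E : κ → Set X)
    (h : ∀ j, ProCons.IsIndConstructible (E j)) : ProCons.IsIndConstructible (⋃ j, E j) := by
  apply isIndConstructible_of_forall_exists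
  intro x
  obtain ⟨U, hxU⟩ := exists_affineOpen_mem X x
  have hs := spectralSpace_affineOpen X U
  refine ⟨_, (U : X.Opens).2, hs, hxU, ?_⟩
  rw [Set.preimage_iUnion]
  exact @isOpen_iUnion _ _ (constructibleTopology _) _ fun j =>
    isOpen_cons_of_isIndConstructible (isIndConstructible_preimage_val (h j) (U : X.Opens).2)

theorem isIndConstructible_inter {E F : Set X} (hE : ProCons.IsIndConstructible E)
    (hF : ProCons.IsIndConstructible F) : ProCons.IsIndConstructible (E ∩ F) := by
  apply isIndConstructible_of_forall_exists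
  intro x
  obtain ⟨U, hxU⟩ := exists_affineOpen_mem X x
  have hs := spectralSpace_affineOpen X U
  refine ⟨_, (U : X.Opens).2, hs, hxU, ?_⟩
  rw [Set.preimage_inter]
  exact @IsOpen.inter _ (constructibleTopology _) _ _
    (isOpen_cons_of_isIndConstructible (isIndConstructible_preimage_val hE (U : X.Opens).2))
    (isOpen_cons_of_isIndConstructible (isIndConstructible_preimage_val hF (U : X.Opens).2))

theorem isIndConstructible_of_isOpen {E : Set X} (hE : IsOpen E) :
    ProCons.IsIndConstructible E := by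
  apply isIndConstructible_of_forall_exists
  intro x
  obtain ⟨U, hxU⟩ := exists_affineOpen_mem X x
  have hs := spectralSpace_affineOpen X U
  refine ⟨_, (U : X.Opens).2, hs, hxU, ?_⟩
  exact isOpen_cons_of_isOpen (T := ((U : X.Opens) : Set X)) (hE.preimage continuous_subtype_val)

end IndCons


section Uniq

variable {Q V : Scheme.{u}}

/-- The locus of points which are the only geometric point of their fibre. -/
def uniqLocus (π : Q ⟶ V) : Set Q :=
  {o | ∀ d : ↑(pullback π π), pullback.fst π π d = o → d ∈ Set.range (pullback.diagonal π)}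

theorem uniqLocus_eq (π : Q ⟶ V) :
    uniqLocus π = (pullback.fst π π '' (Set.range (pullback.diagonal π))ᶜ)ᶜ := by
  ext o
  constructor
  · rintro ho ⟨d, hd, hdo⟩
    exact hd (ho d hdo)
  · intro ho d hdo
    by_contra hd
    exact ho ⟨d, hd, hdo⟩

theorem isIndConstructible_uniqLocus (π : Q ⟶ V) [IsFinite π] :
    ProCons.IsIndConstructible (uniqLocus π) := by
  haveI h1 : LocallyOfFinitePresentation (pullback.diagonal π ≫ pullback.fst π π) := by
    rw [pullback.diagonal_fst]; infer_instance
  haveI : LocallyOfFiniteType (pullback.fst π π) := inferInstance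
  haveI : LocallyOfFinitePresentation (pullback.diagonal π) :=
    Groth.Agent.Lead.CritFib.locallyOfFinitePresentation_of_comp (pullback.diagonal π)
      (pullback.fst π π)
  haveI : QuasiCompact (pullback.fst π π) := inferInstance
  rw [uniqLocus_eq]
  refine isIndConstructible_compl (isProConstructible_image _ (isProConstructible_compl ?_))
  rw [← Set.image_univ]
  exact isIndConstructible_image _ (isIndConstructible_of_isOpen _ isOpen_univ)

theorem diag_fst_apply (π : Q ⟶ V) (o : Q) : pullback.fst π π (pullback.diagonal π o) = o := by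
  rw [← Scheme.Hom.comp_apply, pullback.diagonal_fst]; rfl

theorem sdeg_id (o : Q) : sdeg (𝟙 Q) o = 1 := by
  apply sdeg_eq_one_of_bijective
  exact ConcreteCategory.bijective_of_isIso ((𝟙 Q : Q ⟶ Q).residueFieldMap o)

theorem sdeg_fst_diag (π : Q ⟶ V) [IsFinite π] (o : Q) :
    sdeg (pullback.fst π π) (pullback.diagonal π o) = 1 := by
  have h1 : sdeg (pullback.diagonal π ≫ pullback.fst π π) o = 1 := by
    rw [sdeg_congr_hom (pullback.diagonal_fst π) o]; exact sdeg_id o
  haveI : LocallyQuasiFinite (pullback.diagonal π) := inferInstance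
  have halg : ((pullback.diagonal π).residueFieldMap o).hom.IsIntegral :=
    RingHom.IsIntegral.of_finite
      (Groth.Agent.Lib.Helper6.EtLoc.finite_residueFieldMap_of_quasiFiniteAt _ o
        ((pullback.diagonal π).quasiFiniteAt o))
  rw [sdeg_comp _ _ _ halg] at h1
  exact Nat.eq_one_of_mul_eq_one_right h1

set_option maxHeartbeats 1000000 in
theorem count_eq (π : Q ⟶ V) [IsFinite π] (o : Q) :
    ((pullback.fst π π) ⁻¹' {o}).Finite ∧
      sInt (pullback.fst π π) Set.univ (fun _ => 1) o = sInt π Set.univ (fun _ => 1) (π o) := by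
  have hpb : IsPullback (pullback.snd π π) (pullback.fst π π) π π :=
    (IsPullback.of_hasPullback π π).flip
  have := sInt_baseChange hpb Set.univ (fun _ => (1 : ℤ)) o
    ((π.finite_preimage_singleton (π o)).subset Set.inter_subset_right)
  rw [Set.preimage_univ, Set.univ_inter] at this
  exact this

set_option maxHeartbeats 1000000 in
theorem fibre_of_mem_uniqLocus (π : Q ⟶ V) [IsFinite π] (o : Q) (ho : o ∈ uniqLocus π) :
    π ⁻¹' {π o} = {o} ∧ sdeg π o = 1 := by
  classical
  obtain ⟨hfin, hcount⟩ := count_eq π o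
  have hfib : Set.univ ∩ (pullback.fst π π) ⁻¹' {o} = {pullback.diagonal π o} := by
    ext d
    constructor
    · rintro ⟨-, hd⟩
      obtain ⟨z, rfl⟩ := ho d hd
      have : z = o := by rw [← diag_fst_apply π z]; exact hd
      rw [this]; rfl
    · rintro rfl
      exact ⟨trivial, diag_fst_apply π o⟩
  have h1 : sInt (pullback.fst π π) Set.univ (fun _ => (1 : ℤ)) o = 1 := by
    rw [sInt_eq_single _ _ _ _ _ hfib, sdeg_fst_diag π o]; simp
  rw [h1] at hcount
  have hπfin : (Set.univ ∩ π ⁻¹' {π o}).Finite :=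
    (π.finite_preimage_singleton (π o)).subset Set.inter_subset_right
  have hsub : π ⁻¹' {π o} = {o} := by
    apply Set.eq_singleton_iff_unique_mem.mpr
    refine ⟨rfl, fun o' ho' => ?_⟩
    by_contra hne
    have hlt := sInt_lt_of_pos π (S := {o}) (S' := Set.univ) (fun _ => (1 : ℤ))
      (fun _ => one_pos) (π o) hπfin (fun t ht => ⟨trivial, ht.2⟩) o' ⟨trivial, ho'⟩ hne
    have h2 : sInt π {o} (fun _ => (1 : ℤ)) (π o) = (sdeg π o : ℤ) := by
      rw [sInt_eq_single π {o} _ (π o) o (by
        ext t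
        constructor
        · rintro ⟨ht, -⟩; exact ht
        · rintro rfl; exact ⟨rfl, rfl⟩)]
      simp
    rw [h2, ← hcount] at hlt
    have := sdeg_pos' π o
    omega
  refine ⟨hsub, ?_⟩
  have h3 : sInt π Set.univ (fun _ => (1 : ℤ)) (π o) = (sdeg π o : ℤ) := by
    rw [sInt_eq_single π Set.univ _ (π o) o (by rw [Set.univ_inter, hsub])]
    simp
  rw [h3] at hcount
  exact_mod_cast hcount.symm

set_option maxHeartbeats 1000000 in
theorem mem_uniqLocus_of_fibre (π : Q ⟶ V) [IsFinite π] (o : Q) (hfib : π ⁻¹' {π o} = {o})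
    (hsd : sdeg π o = 1) : o ∈ uniqLocus π := by
  classical
  obtain ⟨hfin, hcount⟩ := count_eq π o
  have h3 : sInt π Set.univ (fun _ => (1 : ℤ)) (π o) = 1 := by
    rw [sInt_eq_single π Set.univ _ (π o) o (by rw [Set.univ_inter, hfib]), hsd]
    simp
  rw [h3] at hcount
  intro d hd
  by_contra hdr
  have hne : d ≠ pullback.diagonal π o := fun h => hdr ⟨o, h.symm⟩
  haveI : LocallyQuasiFinite (pullback.fst π π) := inferInstance
  have hlt := sInt_lt_of_pos (pullback.fst π π) (S := {pullback.diagonal π o}) (S' := Set.univ)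
    (fun _ => (1 : ℤ)) (fun _ => one_pos) o (hfin.subset Set.inter_subset_right)
    (fun t ht => ⟨trivial, ht.2⟩) d ⟨trivial, hd⟩ hne
  have h2 : sInt (pullback.fst π π) {pullback.diagonal π o} (fun _ => (1 : ℤ)) o = 1 := by
    rw [sInt_eq_single (pullback.fst π π) {pullback.diagonal π o} _ o (pullback.diagonal π o) (by
      ext t
      constructor
      · rintro ⟨ht, -⟩; exact ht
      · rintro rfl; exact ⟨rfl, diag_fst_apply π o⟩), sdeg_fst_diag π o]
    simp
  rw [h2, hcount] at hlt
  exact lt_irrefl _ hlt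

end Uniq


section Level

variable {X Y : Scheme.{u}}

theorem sInt_opens_eq {P V : Scheme.{u}} (ρ : P ⟶ V) (O : P.Opens) (W : P → ℤ) (v : V) :
    sInt (O.ι ≫ ρ) Set.univ (W ∘ O.ι) v = sInt ρ (O : Set P) W v := by
  have h := sInt_comp_of_isOpenImmersion O.ι ρ Set.univ W v
  rw [Set.preimage_univ, Set.univ_inter, Scheme.Opens.range_ι] at h
  exact h

set_option maxHeartbeats 2000000 in
theorem exists_indConstructible_nhd (f : X ⟶ Y) [LocallyQuasiFinite f] [LocallyOfFiniteType f]
    (w : X → ℤ) (hw : MoreMor.IsWeighting f w) (x : X) :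
    ∃ N : Set X, ProCons.IsIndConstructible N ∧ x ∈ N ∧ ∀ x' ∈ N, w x' = w x := by
  classical
  obtain ⟨V, g, v, hg, hgv, hpieces⟩ :=
    exists_pieces f (f x) {x} (Set.finite_singleton x) (by simp)
  obtain ⟨t, ht1, ht2⟩ := Scheme.Pullback.exists_preimage_pullback (f := f) (g := g) x v hgv.symm
  obtain ⟨O, hOfin, hOt, hsd⟩ := hpieces t ht2 (by rw [ht1]; rfl)
  have hpb : IsPullback (pullback.fst f g) (pullback.snd f g) f g := IsPullback.of_hasPullback f g
  have hlc := IsWeighting.sInt_locallyConstant hw hpb O hOfin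
  set Φ : ↑V → ℤ := sInt (pullback.snd f g) (O : Set ↑(pullback f g))
    (fun t => w (pullback.fst f g t)) with hΦ
  have hN₀ : IsOpen (Φ ⁻¹' {Φ v}) := hlc.isOpen_fiber _
  have hΦv : Φ v = w x := by
    rw [hΦ, sInt_eq_single _ _ _ v t hOt, hsd, ht1]; simp
  haveI : IsFinite (O.ι ≫ pullback.snd f g) := hOfin
  have htO : t ∈ (O : Set ↑(pullback f g)) := by
    have : t ∈ (O : Set ↑(pullback f g)) ∩ (pullback.snd f g) ⁻¹' {v} := by rw [hOt]; rfl
    exact this.1
  have hπt : (O.ι ≫ pullback.snd f g) ⟨t, htO⟩ = v := by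
    rw [Scheme.Hom.comp_apply]; exact ht2
  have hfibt : (O.ι ≫ pullback.snd f g) ⁻¹' {(O.ι ≫ pullback.snd f g) ⟨t, htO⟩} = {⟨t, htO⟩} := by
    rw [hπt]
    ext o
    constructor
    · intro ho
      have ho' : pullback.snd f g (O.ι o) = v := by
        rw [← Scheme.Hom.comp_apply]; exact ho
      have : O.ι o ∈ (O : Set ↑(pullback f g)) ∩ (pullback.snd f g) ⁻¹' {v} := ⟨o.2, ho'⟩
      rw [hOt] at this
      exact Subtype.ext this
    · rintro rfl
      exact hπt
  have hsdt : sdeg (O.ι ≫ pullback.snd f g) ⟨t, htO⟩ = 1 := by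
    rw [sdeg_comp_of_isOpenImmersion]; exact hsd
  have htU := mem_uniqLocus_of_fibre (O.ι ≫ pullback.snd f g) ⟨t, htO⟩ hfibt hsdt
  haveI : LocallyOfFinitePresentation (O.ι ≫ pullback.fst f g) := inferInstance
  refine ⟨(O.ι ≫ pullback.fst f g) '' (uniqLocus (O.ι ≫ pullback.snd f g) ∩
      (O.ι ≫ pullback.snd f g) ⁻¹' (Φ ⁻¹' {Φ v})), ?_, ?_, ?_⟩
  · exact isIndConstructible_image _ (isIndConstructible_inter _
      (isIndConstructible_uniqLocus _) (isIndConstructible_of_isOpen _
        (hN₀.preimage (O.ι ≫ pullback.snd f g).continuous)))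
  · refine ⟨⟨t, htO⟩, ⟨htU, ?_⟩, ?_⟩
    · show Φ ((O.ι ≫ pullback.snd f g) ⟨t, htO⟩) = Φ v
      rw [hπt]
    · rw [Scheme.Hom.comp_apply]; exact ht1
  · rintro _ ⟨o, ⟨hoU, hoN⟩, rfl⟩
    obtain ⟨hfib, hsdo⟩ := fibre_of_mem_uniqLocus (O.ι ≫ pullback.snd f g) o hoU
    have h1 : Φ ((O.ι ≫ pullback.snd f g) o) = Φ v := hoN
    rw [hΦv, hΦ] at h1
    rw [← sInt_opens_eq, sInt_eq_single _ Set.univ _ _ o (by rw [Set.univ_inter, hfib]),
      hsdo] at h1
    simpa [Scheme.Hom.comp_apply] using h1

theorem isIndConstructible_level (f : X ⟶ Y) [LocallyQuasiFinite f] [LocallyOfFiniteType f]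
    (w : X → ℤ) (hw : MoreMor.IsWeighting f w) (S : Set ℤ) :
    ProCons.IsIndConstructible {x : X | w x ∈ S} := by
  choose N hN1 hN2 hN3 using exists_indConstructible_nhd f w hw
  have : {x : X | w x ∈ S} = ⋃ x : {x : X // w x ∈ S}, N x.1 := by
    ext x
    constructor
    · intro hx
      exact Set.mem_iUnion.mpr ⟨⟨x, hx⟩, hN2 x⟩
    · intro hx
      obtain ⟨⟨x₀, hx₀⟩, hx'⟩ := Set.mem_iUnion.mp hx
      show w x ∈ S
      rw [hN3 x₀ x hx']; exact hx₀
  rw [this]
  exact isIndConstructible_iUnion _ _ fun x => hN1 x.1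

theorem S1423_main (f : X ⟶ Y) [LocallyQuasiFinite f] [LocallyOfFiniteType f]
    (w : X → ℤ) (hw : MoreMor.IsWeighting f w) (n : ℤ) :
    Topology.IsLocallyConstructible {x : X | w x = n} := by
  refine isLocallyConstructible_of_ind_of_pro X (isIndConstructible_level f w hw {n}) ?_
  have h := isProConstructible_compl (isIndConstructible_level f w hw {n}ᶜ)
  convert h using 1
  ext x
  simp

end Level

end Groth.Agent.Lead.Wt
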