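import Mathlib
import Groth.Agent.Lib.Lead.Wt14

set_option autoImplicit false
set_option backward.isDefEq.respectTransparency.types false
set_option synthInstance.maxHeartbeats 400000
set_option linter.style.haveILetI false
set_option linter.unusedSectionVars false

universe u

open AlgebraicGeometry CategoryTheory Limits Topology

namespace Groth.Agent.Lead.Wt

open Groth.Agent.Helper7.ProConsLib

section ProCons

variable (X : Scheme.{u})

theorem isProConstructible_of_isClosed {E : Set X} (hE : IsClosed E) :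
    ProCons.IsProConstructible E := by
  have := isProConstructible_compl (isIndConstructible_of_isOpen X hE.isOpen_compl)
  rwa [compl_compl] at this

theorem isProConstructible_univ : ProCons.IsProConstructible (Set.univ : Set X) :=
  isProConstructible_of_isClosed X isClosed_univ

theorem isProConstructible_iUnion_finite {κ : Type*} [Finite κ] (E : κ → Set X)
    (h : ∀ j, ProCons.IsProConstructible (E j)) : ProCons.IsProConstructible (⋃ j, E j) := by
  apply isProConstructible_of_forall_exists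
  intro x
  obtain ⟨U, hxU⟩ := exists_affineOpen_mem X x
  have hs := spectralSpace_affineOpen X U
  refine ⟨_, (U : X.Opens).2, hs, hxU, ?_⟩
  rw [Set.preimage_iUnion]
  exact @isClosed_iUnion_of_finite _ _ (constructibleTopology _) _ _ fun j =>
    isClosed_cons_of_isProConstructible (isProConstructible_preimage_val (h j) (U : X.Opens).2)

theorem isProConstructible_union {E F : Set X} (hE : ProCons.IsProConstructible E)
    (hF : ProCons.IsProConstructible F) : ProCons.IsProConstructible (E ∪ F) := by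
  have := isProConstructible_iUnion_finite X (fun b : Bool => if b then E else F)
    (fun b => by cases b <;> simpa)
  convert this using 1
  ext x
  simp only [Set.mem_union, Set.mem_iUnion, Bool.exists_bool]
  tauto

end ProCons

section Inter

variable {P V : Scheme.{u}}

theorem isCompact_inter_preimage (ρ : P ⟶ V) (O : P.Opens) [IsAffineHom (O.ι ≫ ρ)]
    (W : V.Opens) (hW : IsAffineOpen W) : IsCompact ((O : Set P) ∩ ρ ⁻¹' (W : Set V)) := by
  have h1 : IsAffineOpen ((O.ι ≫ ρ) ⁻¹ᵁ W) := hW.preimage (O.ι ≫ ρ)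
  have h2 := h1.isCompact.image O.ι.continuous
  convert h2 using 1
  ext t
  constructor
  · rintro ⟨htO, htW⟩
    exact ⟨⟨t, htO⟩, htW, rfl⟩
  · rintro ⟨s, hs, rfl⟩
    exact ⟨s.2, hs⟩

theorem quasiCompact_inter (ρ : P ⟶ V) [QuasiSeparated ρ] (O O' : P.Opens)
    [IsAffineHom (O.ι ≫ ρ)] [IsAffineHom (O'.ι ≫ ρ)] : QuasiCompact ((O ⊓ O').ι ≫ ρ) := by
  rw [quasiCompact_iff_forall_isAffineOpen]
  intro W hW
  have hqs : IsQuasiSeparated ((ρ ⁻¹ᵁ W : P.Opens) : Set P) :=
    ρ.isQuasiSeparated_preimage hW.isQuasiSeparated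
  have hK := isCompact_inter_preimage ρ O W hW
  have hK' := isCompact_inter_preimage ρ O' W hW
  have hc := hqs _ _ Set.inter_subset_right (O.2.inter (ρ ⁻¹ᵁ W).2) hK Set.inter_subset_right
    (O'.2.inter (ρ ⁻¹ᵁ W).2) hK'
  have hind : Topology.IsInducing (O ⊓ O').ι := (O ⊓ O').ι.isOpenEmbedding.isInducing
  have hsub : ((O : Set P) ∩ ρ ⁻¹' (W : Set V)) ∩ ((O' : Set P) ∩ ρ ⁻¹' (W : Set V)) ⊆
      Set.range (O ⊓ O').ι := by
    rw [Scheme.Opens.range_ι]
    rintro t ⟨⟨h1, -⟩, h2, -⟩
    exact ⟨h1, h2⟩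
  have := (hind.isCompact_preimage_iff hsub).mpr hc
  convert this using 1
  ext s
  constructor
  · intro hs
    have hs' : ρ ((O ⊓ O').ι s) ∈ W := hs
    exact ⟨⟨s.2.1, hs'⟩, s.2.2, hs'⟩
  · rintro ⟨⟨-, hs⟩, -⟩
    exact hs

theorem isProConstructible_image_inter (ρ : P ⟶ V) [QuasiSeparated ρ] (O O' : P.Opens)
    [IsAffineHom (O.ι ≫ ρ)] [IsAffineHom (O'.ι ≫ ρ)] :
    ProCons.IsProConstructible (ρ '' ((O : Set P) ∩ (O' : Set P))) := by
  haveI := quasiCompact_inter ρ O O'
  have h := isProConstructible_image ((O ⊓ O').ι ≫ ρ) (isProConstructible_univ _)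
  convert h using 1
  ext v
  constructor
  · rintro ⟨t, ht, rfl⟩
    exact ⟨⟨t, ht⟩, trivial, rfl⟩
  · rintro ⟨s, -, rfl⟩
    exact ⟨s.1, s.2, rfl⟩

end Inter


section Base

variable {X Y : Scheme.{u}}

set_option maxHeartbeats 4000000 in
theorem exists_indConstructible_nhd_base (f : X ⟶ Y) [LocallyQuasiFinite f]
    [LocallyOfFiniteType f] [QuasiCompact f] [QuasiSeparated f]
    (w : X → ℤ) (hw : MoreMor.IsWeighting f w) (y : Y) :
    ∃ N : Set Y, ProCons.IsIndConstructible N ∧ y ∈ N ∧
      ∀ y' ∈ N, sInt f Set.univ w y' = sInt f Set.univ w y := by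
  classical
  have hfin : ∀ y : Y, (f ⁻¹' {y}).Finite := fun y => Scheme.Hom.finite_preimage_singleton f y
  obtain ⟨V, g, v, hg, hgv, hpieces⟩ :=
    exists_pieces f y (f ⁻¹' {y}) (hfin y) (fun x hx => hx)
  have hpb : IsPullback (pullback.fst f g) (pullback.snd f g) f g := IsPullback.of_hasPullback f g
  have hbc : ∀ v' : V, ((pullback.snd f g) ⁻¹' {v'}).Finite ∧
      sInt (pullback.snd f g) Set.univ (fun t => w (pullback.fst f g t)) v' =
        sInt f Set.univ w (g v') := by
    intro v'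
    have := sInt_baseChange hpb Set.univ w v' ((hfin (g v')).subset Set.inter_subset_right)
    rw [Set.preimage_univ, Set.univ_inter] at this
    exact this
  have hTfin : Finite {t : ↑(pullback f g) // pullback.snd f g t = v} := (hbc v).1.to_subtype
  have hfy : ∀ t : {t : ↑(pullback f g) // pullback.snd f g t = v},
      f (pullback.fst f g t.1) = y := fun t => by
    rw [← Scheme.Hom.comp_apply, pullback.condition, Scheme.Hom.comp_apply, t.2, hgv]
  have hch : ∀ t : {t : ↑(pullback f g) // pullback.snd f g t = v},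
      ∃ O : (pullback f g).Opens, IsFinite (O.ι ≫ pullback.snd f g) ∧
        (O : Set ↑(pullback f g)) ∩ (pullback.snd f g) ⁻¹' {v} = {t.1} ∧
        sdeg (pullback.snd f g) t.1 = 1 := fun t => hpieces t.1 t.2 (hfy t)
  choose O hOfin hOv hsd using hch
  have hmemO : ∀ t, t.1 ∈ (O t : Set ↑(pullback f g)) := fun t => by
    have : t.1 ∈ (O t : Set ↑(pullback f g)) ∩ (pullback.snd f g) ⁻¹' {v} := by rw [hOv]; rfl
    exact this.1
  haveI hOaff : ∀ t, IsAffineHom ((O t).ι ≫ pullback.snd f g) := fun t => by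
    haveI := hOfin t; infer_instance
  haveI : QuasiCompact (pullback.snd f g) := inferInstance
  haveI : QuasiSeparated (pullback.snd f g) := inferInstance
  -- local constancy of the pieces
  have hlc := fun t => IsWeighting.sInt_locallyConstant hw hpb (O t) (hOfin t)
  set Φ : {t : ↑(pullback f g) // pullback.snd f g t = v} → ↑V → ℤ := fun t =>
    sInt (pullback.snd f g) (O t : Set ↑(pullback f g)) (fun s => w (pullback.fst f g s)) with hΦ
  have hN₀ : IsOpen (⋂ t, (Φ t) ⁻¹' {Φ t v}) :=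
    isOpen_iInter_of_finite fun t => (hlc t).isOpen_fiber _
  -- the bad loci
  have hA : ProCons.IsProConstructible
      (pullback.snd f g '' (⋃ t, (O t : Set ↑(pullback f g)))ᶜ) :=
    isProConstructible_image _ (isProConstructible_of_isClosed _
      (isOpen_iUnion fun t => (O t).2).isClosed_compl)
  have hB : ∀ p : {p : {t : ↑(pullback f g) // pullback.snd f g t = v} ×
      {t : ↑(pullback f g) // pullback.snd f g t = v} // p.1 ≠ p.2},
      ProCons.IsProConstructible (pullback.snd f g ''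
        ((O p.1.1 : Set ↑(pullback f g)) ∩ (O p.1.2 : Set ↑(pullback f g)))) := fun p =>
    isProConstructible_image_inter _ _ _
  have hBad := isProConstructible_union _ hA (isProConstructible_iUnion_finite _ _ hB)
  have hgood := isIndConstructible_inter _ (isIndConstructible_of_isOpen _ hN₀)
    (isIndConstructible_compl hBad)
  haveI : Etale g := hg
  haveI : LocallyOfFinitePresentation g := inferInstance
  refine ⟨g '' _, isIndConstructible_image g hgood, ⟨v, ⟨?_, ?_⟩, hgv⟩, ?_⟩
  · exact Set.mem_iInter.mpr fun t => rfl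
  · rintro (⟨s, hs, hsv⟩ | hmem)
    · exact hs (Set.mem_iUnion.mpr ⟨⟨s, hsv⟩, hmemO ⟨s, hsv⟩⟩)
    · obtain ⟨⟨⟨t, t'⟩, htt'⟩, s, ⟨hs1, hs2⟩, hsv⟩ := Set.mem_iUnion.mp hmem
      have e1 : s ∈ (O t : Set ↑(pullback f g)) ∩ (pullback.snd f g) ⁻¹' {v} := ⟨hs1, hsv⟩
      have e2 : s ∈ (O t' : Set ↑(pullback f g)) ∩ (pullback.snd f g) ⁻¹' {v} := ⟨hs2, hsv⟩
      rw [hOv] at e1 e2
      exact htt' (Subtype.ext (e1.symm.trans e2))
  · -- constancy
    have hdecomp : ∀ v' : V, v' ∉ (pullback.snd f g '' (⋃ t, (O t : Set ↑(pullback f g)))ᶜ ∪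
        ⋃ p : {p : {t : ↑(pullback f g) // pullback.snd f g t = v} ×
          {t : ↑(pullback f g) // pullback.snd f g t = v} // p.1 ≠ p.2},
          pullback.snd f g '' ((O p.1.1 : Set ↑(pullback f g)) ∩
            (O p.1.2 : Set ↑(pullback f g)))) →
        sInt (pullback.snd f g) Set.univ (fun t => w (pullback.fst f g t)) v' =
          ∑ᶠ t, Φ t v' := by
      intro v' hv'
      have h1 : sInt (pullback.snd f g) Set.univ (fun t => w (pullback.fst f g t)) v' =
          sInt (pullback.snd f g) (⋃ t, (O t : Set ↑(pullback f g)))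
            (fun t => w (pullback.fst f g t)) v' := by
        apply sInt_congr_set
        ext s
        constructor
        · rintro ⟨-, hs⟩
          refine ⟨?_, hs⟩
          by_contra hsO
          exact hv' (Or.inl ⟨s, hsO, hs⟩)
        · rintro ⟨-, hs⟩
          exact ⟨trivial, hs⟩
      rw [h1, sInt_iUnion _ _ _ _ ?_ (fun t => finite_fibre_of_isFinite _ (O t) (hOfin t) v')]
      intro t t' htt'
      rw [Set.disjoint_left]
      rintro s ⟨hs1, hs2⟩ ⟨hs3, -⟩
      exact hv' (Or.inr (Set.mem_iUnion.mpr ⟨⟨⟨t, t'⟩, htt'⟩, s, ⟨hs1, hs3⟩, hs2⟩))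
    have hvgood : v ∉ (pullback.snd f g '' (⋃ t, (O t : Set ↑(pullback f g)))ᶜ ∪
        ⋃ p : {p : {t : ↑(pullback f g) // pullback.snd f g t = v} ×
          {t : ↑(pullback f g) // pullback.snd f g t = v} // p.1 ≠ p.2},
          pullback.snd f g '' ((O p.1.1 : Set ↑(pullback f g)) ∩
            (O p.1.2 : Set ↑(pullback f g)))) := by
      rintro (⟨s, hs, hsv⟩ | hmem)
      · exact hs (Set.mem_iUnion.mpr ⟨⟨s, hsv⟩, hmemO ⟨s, hsv⟩⟩)
      · obtain ⟨⟨⟨t, t'⟩, htt'⟩, s, ⟨hs1, hs2⟩, hsv⟩ := Set.mem_iUnion.mp hmem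
        have e1 : s ∈ (O t : Set ↑(pullback f g)) ∩ (pullback.snd f g) ⁻¹' {v} := ⟨hs1, hsv⟩
        have e2 : s ∈ (O t' : Set ↑(pullback f g)) ∩ (pullback.snd f g) ⁻¹' {v} := ⟨hs2, hsv⟩
        rw [hOv] at e1 e2
        exact htt' (Subtype.ext (e1.symm.trans e2))
    rintro _ ⟨v', ⟨hv'N, hv'B⟩, rfl⟩
    rw [← (hbc v').2, ← hgv, ← (hbc v).2, hdecomp v' hv'B, hdecomp v hvgood]
    refine finsum_congr fun t => ?_
    exact Set.mem_iInter.mp hv'N t

theorem isIndConstructible_level_base (f : X ⟶ Y) [LocallyQuasiFinite f]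
    [LocallyOfFiniteType f] [QuasiCompact f] [QuasiSeparated f]
    (w : X → ℤ) (hw : MoreMor.IsWeighting f w) (S : Set ℤ) :
    ProCons.IsIndConstructible {y : Y | sInt f Set.univ w y ∈ S} := by
  choose N hN1 hN2 hN3 using exists_indConstructible_nhd_base f w hw
  have : {y : Y | sInt f Set.univ w y ∈ S} =
      ⋃ y : {y : Y // sInt f Set.univ w y ∈ S}, N y.1 := by
    ext y
    constructor
    · intro hy
      exact Set.mem_iUnion.mpr ⟨⟨y, hy⟩, hN2 y⟩
    · intro hy
      obtain ⟨⟨y₀, hy₀⟩, hy'⟩ := Set.mem_iUnion.mp hy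
      show sInt f Set.univ w y ∈ S
      rw [hN3 y₀ y hy']; exact hy₀
  rw [this]
  exact isIndConstructible_iUnion _ _ fun y => hN1 y.1

theorem S1424_main (f : X ⟶ Y) [LocallyQuasiFinite f]
    [LocallyOfFiniteType f] [QuasiCompact f] [QuasiSeparated f]
    (w : X → ℤ) (hw : MoreMor.IsWeighting f w) (n : ℤ) :
    Topology.IsLocallyConstructible {y : Y | MoreMor.fibreIntegral f w y = n} := by
  have e : {y : Y | MoreMor.fibreIntegral f w y = n} = {y : Y | sInt f Set.univ w y ∈ ({n} : Set ℤ)} := by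
    ext y
    show MoreMor.fibreIntegral f w y = n ↔ sInt f Set.univ w y = n
    rw [fibreIntegral_eq_sInt]
  rw [e]
  refine isLocallyConstructible_of_ind_of_pro Y (isIndConstructible_level_base f w hw {n}) ?_
  have h := isProConstructible_compl (isIndConstructible_level_base f w hw {n}ᶜ)
  convert h using 1
  ext y
  simp

end Base

end Groth.Agent.Lead.Wt
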