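import Mathlib
import Groth.Agent.Lib.Lead.Wt15

set_option autoImplicit false
set_option backward.isDefEq.respectTransparency.types false
set_option synthInstance.maxHeartbeats 400000
set_option linter.style.haveILetI false
set_option linter.unusedSectionVars false

universe u

open AlgebraicGeometry CategoryTheory Limits Topology

namespace Groth.Agent.Lead.Wt

section Dedekind

variable {A B Ω : Type*} [CommRing A] [CommRing B] [Field Ω] [Algebra A B] [Algebra A Ω]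

/-- A finite algebra generated by `m` elements has at most `m` algebra maps to a field. -/
theorem card_algHom_le (m : ℕ) (b : Fin m → B) (hb : Submodule.span A (Set.range b) = ⊤) :
    Finite (B →ₐ[A] Ω) ∧ Nat.card (B →ₐ[A] Ω) ≤ m := by
  classical
  have hli := linearIndependent_toLinearMap A B Ω
  let ev : (B →ₗ[A] Ω) →ₗ[Ω] (Fin m → Ω) :=
    { toFun := fun φ i => φ (b i)
      map_add' := fun φ φ' => by funext i; rfl
      map_smul' := fun c φ => by funext i; rfl }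
  have hker : LinearMap.ker ev = ⊥ := by
    rw [LinearMap.ker_eq_bot']
    intro φ hφ
    apply LinearMap.ext_on_range hb
    intro i
    exact congrFun hφ i
  have hli' := hli.map' ev hker
  haveI : Finite (B →ₐ[A] Ω) := hli'.finite_of_isNoetherian
  haveI := Fintype.ofFinite (B →ₐ[A] Ω)
  refine ⟨inferInstance, ?_⟩
  have := hli'.fintype_card_le_finrank
  rw [Module.finrank_fin_fun] at this
  rwa [Nat.card_eq_fintype_card]

end Dedekind


section QF

variable {A B : Type u} [CommRing A] [CommRing B] [Algebra A B]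

/-- The elements of `B` around which `B` looks like a finite `A`-algebra. -/
def GoodElt (A B : Type u) [CommRing A] [CommRing B] [Algebra A B] (x : B) : Prop :=
  ∃ (S' : Subalgebra A B) (_ : S'.toSubmodule.FG) (r : S'), r.1 = x ∧
    Function.Bijective (Localization.awayMap S'.val.toRingHom r)

theorem goodElt_span_eq_top [Algebra.FiniteType A B] [Algebra.QuasiFinite A B] :
    Ideal.span {x : B | GoodElt A B x} = ⊤ := by
  by_contra hne
  obtain ⟨q, hq, hle⟩ := Ideal.exists_le_maximal _ hne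
  haveI : q.IsPrime := hq.isPrime
  haveI : Algebra.QuasiFiniteAt A q := inferInstance
  obtain ⟨S', hfg, r, hrq, hbij⟩ :=
    Algebra.QuasiFiniteAt.exists_fg_and_exists_notMem_and_awayMap_bijective (R := A) q
  exact hrq (hle (Ideal.subset_span ⟨S', hfg, r, rfl, hbij⟩))

theorem exists_of_awayMap_bijective (S' : Subalgebra A B) (r : S')
    (hbij : Function.Bijective (Localization.awayMap S'.val.toRingHom r)) (b : B) :
    ∃ (c : S') (n k : ℕ), r.1 ^ k * c.1 = r.1 ^ k * (b * r.1 ^ n) := by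
  obtain ⟨y, hy⟩ := hbij.2 (algebraMap B (Localization.Away (S'.val.toRingHom r)) b)
  obtain ⟨c, ⟨_, n, rfl⟩, rfl⟩ := IsLocalization.exists_mk'_eq (Submonoid.powers r) y
  rw [Localization.awayMap, IsLocalization.Away.map, IsLocalization.map_mk',
    IsLocalization.mk'_eq_iff_eq_mul, ← map_mul,
    IsLocalization.eq_iff_exists (Submonoid.powers (S'.val.toRingHom r))] at hy
  obtain ⟨⟨_, k, rfl⟩, hk⟩ := hy
  refine ⟨c, n, k, ?_⟩
  simpa using hk

theorem algHom_ext_of_good {Ω : Type*} [Field Ω] [Algebra A Ω] (S' : Subalgebra A B) (r : S')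
    (hbij : Function.Bijective (Localization.awayMap S'.val.toRingHom r))
    (ψ ψ' : B →ₐ[A] Ω) (hr : ψ r.1 ≠ 0) (h : ψ.comp S'.val = ψ'.comp S'.val) : ψ = ψ' := by
  have hS : ∀ c : S', ψ c.1 = ψ' c.1 := fun c => DFunLike.congr_fun h c
  have hr' : ψ' r.1 ≠ 0 := by rw [← hS r]; exact hr
  ext b
  obtain ⟨c, n, k, hck⟩ := exists_of_awayMap_bijective S' r hbij b
  have h1 := congrArg ψ hck
  have h2 := congrArg ψ' hck
  simp only [map_mul, map_pow] at h1 h2
  have e1 : ψ c.1 = ψ b * ψ r.1 ^ n := mul_left_cancel₀ (pow_ne_zero k hr) h1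
  have e2 : ψ' c.1 = ψ' b * ψ' r.1 ^ n := mul_left_cancel₀ (pow_ne_zero k hr') h2
  rw [hS c, hS r] at e1
  exact mul_right_cancel₀ (pow_ne_zero n hr') (e1.symm.trans e2)

set_option maxHeartbeats 1000000 in
/-- Uniform bound for the number of geometric points of the fibres of a quasi-finite algebra of
finite type. -/
theorem exists_bound_algHom (A B : Type u) [CommRing A] [CommRing B] [Algebra A B]
    [Algebra.FiniteType A B] [Algebra.QuasiFinite A B] :
    ∃ M : ℕ, ∀ (Ω : Type u) [Field Ω] [Algebra A Ω],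
      Finite (B →ₐ[A] Ω) ∧ Nat.card (B →ₐ[A] Ω) ≤ M := by
  classical
  obtain ⟨s', hs'sub, hs'top⟩ :=
    (Ideal.span_eq_top_iff_finite _).mp (goodElt_span_eq_top (A := A) (B := B))
  choose S' hfg r hrx hbij using fun x : s' => hs'sub x.2
  have hgen : ∀ x : s', ∃ (m : ℕ) (b : Fin m → S' x), Submodule.span A (Set.range b) = ⊤ := by
    intro x
    haveI : Module.Finite A (S' x) := Module.Finite.iff_fg.mpr (hfg x)
    exact Module.Finite.exists_fin (R := A) (M := S' x)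
  choose m b hb using hgen
  refine ⟨∑ x : s', m x, ?_⟩
  intro Ω _ _
  have hfin : ∀ x : s', Finite (S' x →ₐ[A] Ω) ∧ Nat.card (S' x →ₐ[A] Ω) ≤ m x := fun x =>
    card_algHom_le (m x) (b x) (hb x)
  haveI : ∀ x : s', Finite (S' x →ₐ[A] Ω) := fun x => (hfin x).1
  have hex : ∀ ψ : B →ₐ[A] Ω, ∃ x : s', ψ (r x).1 ≠ 0 := by
    intro ψ
    by_contra hcon
    simp only [not_exists, not_not] at hcon
    have hle : Ideal.span (s' : Set B) ≤ RingHom.ker ψ.toRingHom := by
      refine Ideal.span_le.mpr ?_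
      intro x hx
      have := hcon ⟨x, hx⟩
      rw [hrx ⟨x, hx⟩] at this
      exact this
    rw [hs'top] at hle
    have : (1 : B) ∈ RingHom.ker ψ.toRingHom := hle Submodule.mem_top
    rw [RingHom.mem_ker] at this
    simp at this
  choose xψ hxψ using hex
  let Φ : (B →ₐ[A] Ω) → Σ x : s', (S' x →ₐ[A] Ω) := fun ψ => ⟨xψ ψ, ψ.comp (S' (xψ ψ)).val⟩
  have hΦ : Function.Injective Φ := by
    intro ψ ψ' h
    have h1 : xψ ψ = xψ ψ' := congrArg Sigma.fst h
    have h2 : ψ.comp (S' (xψ ψ)).val = ψ'.comp (S' (xψ ψ)).val := by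
      have := Sigma.mk.inj_iff.mp h
      obtain ⟨h3, h4⟩ := this
      have : ∀ (y : s') (hy : xψ ψ' = y) , HEq (ψ'.comp (S' (xψ ψ')).val) (ψ'.comp (S' y).val) := by
        intro y hy; subst hy; rfl
      exact eq_of_heq (h4.trans (this _ h1.symm))
    exact algHom_ext_of_good (S' (xψ ψ)) (r (xψ ψ)) (hbij (xψ ψ)) ψ ψ' (hxψ ψ) h2
  haveI : Finite (Σ x : s', (S' x →ₐ[A] Ω)) := inferInstance
  refine ⟨Finite.of_injective Φ hΦ, ?_⟩
  calc Nat.card (B →ₐ[A] Ω) ≤ Nat.card (Σ x : s', (S' x →ₐ[A] Ω)) :=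
        Nat.card_le_card_of_injective Φ hΦ
    _ = ∑ x : s', Nat.card (S' x →ₐ[A] Ω) := Nat.card_sigma
    _ ≤ ∑ x : s', m x := Finset.sum_le_sum fun x _ => (hfin x).2

end QF


section GeomCount

variable {X Y : Scheme.{u}}

set_option maxHeartbeats 1000000 in
/-- Affine case of the bound on the number of geometric points of fibres. -/
theorem exists_bound_affine {U V : Scheme.{u}} [IsAffine U] [IsAffine V] (h : U ⟶ V)
    [LocallyQuasiFinite h] [LocallyOfFiniteType h] :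
    ∃ M : ℕ, ∀ (Ω : Type u) [Field Ω] (vb : Spec (CommRingCat.of Ω) ⟶ V),
      Finite {ab : Spec (CommRingCat.of Ω) ⟶ U // ab ≫ h = vb} ∧
        Nat.card {ab : Spec (CommRingCat.of Ω) ⟶ U // ab ≫ h = vb} ≤ M := by
  letI : Algebra Γ(V, ⊤) Γ(U, ⊤) := h.appTop.hom.toAlgebra
  haveI : Algebra.FiniteType Γ(V, ⊤) Γ(U, ⊤) :=
    (HasRingHomProperty.iff_of_isAffine (P := @LocallyOfFiniteType)).mp inferInstance
  haveI : Algebra.QuasiFinite Γ(V, ⊤) Γ(U, ⊤) :=
    (HasRingHomProperty.iff_of_isAffine (P := @LocallyQuasiFinite)).mp inferInstance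
  obtain ⟨M, hM⟩ := exists_bound_algHom Γ(V, ⊤) Γ(U, ⊤)
  refine ⟨M, ?_⟩
  intro Ω _ vb
  letI : Algebra Γ(V, ⊤) Ω :=
    (vb.appTop ≫ (Scheme.ΓSpecIso (CommRingCat.of Ω)).hom).hom.toAlgebra
  obtain ⟨hfin, hcard⟩ := hM Ω
  let Φ : {ab : Spec (CommRingCat.of Ω) ⟶ U // ab ≫ h = vb} → (Γ(U, ⊤) →ₐ[Γ(V, ⊤)] Ω) :=
    fun ab =>
      { (ab.1.appTop ≫ (Scheme.ΓSpecIso (CommRingCat.of Ω)).hom).hom with
        commutes' := by
          intro a
          have h1 : h.appTop ≫ ab.1.appTop = vb.appTop := by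
            rw [← Scheme.Hom.comp_appTop, ab.2]
          show (Scheme.ΓSpecIso (CommRingCat.of Ω)).hom.hom (ab.1.appTop.hom (h.appTop.hom a)) =
            (Scheme.ΓSpecIso (CommRingCat.of Ω)).hom.hom (vb.appTop.hom a)
          rw [← h1]
          rfl }
  have hΦ : Function.Injective Φ := by
    intro ab ab' hab
    apply Subtype.ext
    apply ext_of_isAffine
    rw [← cancel_mono (Scheme.ΓSpecIso (CommRingCat.of Ω)).hom]
    ext a
    exact DFunLike.congr_fun hab a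
  exact ⟨Finite.of_injective Φ hΦ, (Nat.card_le_card_of_injective Φ hΦ).trans hcard⟩

set_option maxHeartbeats 1000000 in
theorem exists_bound_opens (f : X ⟶ Y) [LocallyQuasiFinite f] [LocallyOfFiniteType f]
    (U : X.Opens) (V : Y.Opens) (hU : IsAffineOpen U) (hV : IsAffineOpen V) (e : U ≤ f ⁻¹ᵁ V) :
    ∃ M : ℕ, ∀ (Ω : Type u) [Field Ω] (vb : Spec (CommRingCat.of Ω) ⟶ Y),
      Finite {ab : Spec (CommRingCat.of Ω) ⟶ (U : Scheme.{u}) // ab ≫ U.ι ≫ f = vb} ∧
        Nat.card {ab : Spec (CommRingCat.of Ω) ⟶ (U : Scheme.{u}) // ab ≫ U.ι ≫ f = vb} ≤ M := by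
  haveI : IsAffine (U : Scheme.{u}) := hU
  haveI : IsAffine (V : Scheme.{u}) := hV
  haveI : LocallyQuasiFinite (f.resLE V U e) := by
    delta Scheme.Hom.resLE; infer_instance
  haveI : LocallyOfFiniteType (f.resLE V U e) := by
    delta Scheme.Hom.resLE; infer_instance
  obtain ⟨M, hM⟩ := exists_bound_affine (f.resLE V U e)
  refine ⟨M, ?_⟩
  intro Ω _ vb
  by_cases hne : Nonempty {ab : Spec (CommRingCat.of Ω) ⟶ (U : Scheme.{u}) // ab ≫ U.ι ≫ f = vb}
  · obtain ⟨ab₀⟩ := hne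
    obtain ⟨hfin, hcard⟩ := hM Ω (ab₀.1 ≫ f.resLE V U e)
    let Φ : {ab : Spec (CommRingCat.of Ω) ⟶ (U : Scheme.{u}) // ab ≫ U.ι ≫ f = vb} →
        {ab : Spec (CommRingCat.of Ω) ⟶ (U : Scheme.{u}) //
          ab ≫ f.resLE V U e = ab₀.1 ≫ f.resLE V U e} := fun ab => ⟨ab.1, by
      rw [← cancel_mono V.ι, Category.assoc, Category.assoc, Scheme.Hom.resLE_comp_ι, ab.2,
        ab₀.2]⟩
    have hΦ : Function.Injective Φ := fun ab ab' hab =>
      Subtype.ext (show (Φ ab).1 = (Φ ab').1 from congrArg Subtype.val hab)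
    exact ⟨Finite.of_injective Φ hΦ, (Nat.card_le_card_of_injective Φ hΦ).trans hcard⟩
  · haveI : IsEmpty {ab : Spec (CommRingCat.of Ω) ⟶ (U : Scheme.{u}) // ab ≫ U.ι ≫ f = vb} :=
      not_nonempty_iff.mp hne
    exact ⟨inferInstance, by simp⟩

set_option maxHeartbeats 2000000 in
/-- Global bound on the number of geometric points of the fibres, for a quasi-compact source. -/
theorem exists_bound_GP (f : X ⟶ Y) [LocallyQuasiFinite f] [LocallyOfFiniteType f]
    [CompactSpace X] :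
    ∃ M : ℕ, ∀ (Ω : Type u) [Field Ω] (vb : Spec (CommRingCat.of Ω) ⟶ Y),
      Finite (GP Ω f Set.univ vb) ∧ Nat.card (GP Ω f Set.univ vb) ≤ M := by
  classical
  -- a finite cover by affine opens mapping into affine opens
  have hloc : ∀ x : X, ∃ (U : X.Opens) (V : Y.Opens), IsAffineOpen U ∧ IsAffineOpen V ∧
      U ≤ f ⁻¹ᵁ V ∧ x ∈ U := by
    intro x
    obtain ⟨_, ⟨V, hV, rfl⟩, hxV, -⟩ :=
      Y.isBasis_affineOpens.exists_subset_of_mem_open (Set.mem_univ (f x)) isOpen_univ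
    obtain ⟨_, ⟨U, hU, rfl⟩, hxU, hUV⟩ :=
      X.isBasis_affineOpens.exists_subset_of_mem_open (show x ∈ (f ⁻¹ᵁ V : X.Opens) from hxV)
        (f ⁻¹ᵁ V).2
    exact ⟨U, V, hU, hV, hUV, hxU⟩
  choose U V hU hV hUV hxU using hloc
  obtain ⟨t, ht⟩ := isCompact_univ.elim_finite_subcover (fun x => ((U x : X.Opens) : Set X))
    (fun x => (U x).2) (fun x _ => Set.mem_iUnion.mpr ⟨x, hxU x⟩)
  have hbd := fun x : t => exists_bound_opens f (U x.1) (V x.1) (hU x.1) (hV x.1) (hUV x.1)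
  choose M hM using hbd
  refine ⟨∑ x : t, M x, ?_⟩
  intro Ω _ vb
  have hcov : ∀ ab : GP Ω f Set.univ vb, ∃ x : t,
      ab.1 (IsLocalRing.closedPoint Ω) ∈ U x.1 := by
    intro ab
    have := ht (Set.mem_univ (ab.1 (IsLocalRing.closedPoint Ω)))
    obtain ⟨x, hx⟩ := Set.mem_iUnion.mp this
    obtain ⟨hxt, hx'⟩ := Set.mem_iUnion.mp hx
    exact ⟨⟨x, hxt⟩, hx'⟩
  choose xab hxab using hcov
  have hrange : ∀ ab : GP Ω f Set.univ vb, Set.range ab.1 ⊆ Set.range (U (xab ab).1).ι := by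
    intro ab
    rw [Scheme.Opens.range_ι]
    rintro _ ⟨z, rfl⟩
    have : z = IsLocalRing.closedPoint Ω := Subsingleton.elim _ _
    rw [this]
    exact hxab ab
  let Φ : GP Ω f Set.univ vb → Σ x : t, {ab : Spec (CommRingCat.of Ω) ⟶ (U x.1 : Scheme.{u}) //
      ab ≫ (U x.1).ι ≫ f = vb} := fun ab =>
    ⟨xab ab, IsOpenImmersion.lift (U (xab ab).1).ι ab.1 (hrange ab), by
      rw [IsOpenImmersion.lift_fac_assoc]; exact ab.2.1⟩
  have hΦ : Function.Injective Φ := by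
    intro ab ab' hab
    apply Subtype.ext
    have h1 : xab ab = xab ab' := congrArg Sigma.fst hab
    have h2 := (Sigma.mk.inj_iff.mp hab).2
    have key : ∀ (x x' : t) (hx : x = x')
        (a : {ab : Spec (CommRingCat.of Ω) ⟶ (U x.1 : Scheme.{u}) // ab ≫ (U x.1).ι ≫ f = vb})
        (a' : {ab : Spec (CommRingCat.of Ω) ⟶ (U x'.1 : Scheme.{u}) //
          ab ≫ (U x'.1).ι ≫ f = vb}), HEq a a' → a.1 ≫ (U x.1).ι = a'.1 ≫ (U x'.1).ι := by
      intro x x' hx a a' haa'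
      subst hx
      rw [eq_of_heq haa']
    have := key _ _ h1 _ _ h2
    simpa [Φ, IsOpenImmersion.lift_fac] using this
  haveI : ∀ x : t, Finite {ab : Spec (CommRingCat.of Ω) ⟶ (U x.1 : Scheme.{u}) //
      ab ≫ (U x.1).ι ≫ f = vb} := fun x => (hM x Ω vb).1
  refine ⟨Finite.of_injective Φ hΦ, ?_⟩
  calc Nat.card (GP Ω f Set.univ vb) ≤ Nat.card (Σ x : t,
        {ab : Spec (CommRingCat.of Ω) ⟶ (U x.1 : Scheme.{u}) // ab ≫ (U x.1).ι ≫ f = vb}) :=
        Nat.card_le_card_of_injective Φ hΦ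
    _ = ∑ x : t, Nat.card {ab : Spec (CommRingCat.of Ω) ⟶ (U x.1 : Scheme.{u}) //
          ab ≫ (U x.1).ι ≫ f = vb} := Nat.card_sigma
    _ ≤ ∑ x : t, M x := Finset.sum_le_sum fun x _ => (hM x Ω vb).2

open Groth.Agent.Helper7.ProConsLib in
theorem exists_bound_weight (f : X ⟶ Y) [LocallyQuasiFinite f] [LocallyOfFiniteType f]
    [CompactSpace X] (w : X → ℤ) (hw : MoreMor.IsWeighting f w) :
    ∃ Mw : ℤ, 0 ≤ Mw ∧ ∀ x, w x ≤ Mw := by
  classical
  choose N hN1 hN2 hN3 using exists_indConstructible_nhd f w hw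
  obtain ⟨t, ht⟩ := exists_finite_affine_cover X
  obtain ⟨J, hJ⟩ := exists_finset_subset_iUnion
    (fun U : t => (((U : X.affineOpens) : X.Opens) : Set X))
    (fun U => ((U : X.affineOpens) : X.Opens).2)
    (fun U => spectralSpace_affineOpen X U)
    (fun x => by
      obtain ⟨U, hUt, hxU⟩ := ht x
      exact ⟨⟨U, hUt⟩, hxU⟩)
    (isProConstructible_univ X) N hN1 (fun x _ => Set.mem_iUnion.mpr ⟨x, hN2 x⟩)
  refine ⟨∑ x ∈ J, |w x|, Finset.sum_nonneg fun x _ => abs_nonneg _, ?_⟩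
  intro x'
  have := hJ (Set.mem_univ x')
  simp only [Set.mem_iUnion, exists_prop] at this
  obtain ⟨x, hxJ, hx'⟩ := this
  rw [hN3 x x' hx']
  exact (le_abs_self _).trans (Finset.single_le_sum (f := fun x => |w x|)
    (fun x _ => abs_nonneg _) hxJ)

set_option maxHeartbeats 2000000 in
theorem exists_bound_sInt (f : X ⟶ Y) [LocallyQuasiFinite f] [LocallyOfFiniteType f]
    [CompactSpace X] (w : X → ℤ) (hw : MoreMor.IsWeighting f w) :
    ∃ K : ℤ, ∀ y : Y, sInt f Set.univ w y ≤ K := by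
  classical
  obtain ⟨Mw, hMw0, hMw⟩ := exists_bound_weight f w hw
  obtain ⟨M, hM⟩ := exists_bound_GP f
  refine ⟨M * Mw, ?_⟩
  intro y
  let Ω : Type u := AlgebraicClosure (Y.residueField y)
  let j₁ : Y.residueField y ⟶ CommRingCat.of Ω :=
    CommRingCat.ofHom (algebraMap (Y.residueField y) Ω)
  let vb : Spec (CommRingCat.of Ω) ⟶ Y := Spec.map j₁ ≫ Y.fromSpecResidueField y
  have hv : vb (IsLocalRing.closedPoint Ω) = y := comp_fromSpecResidueField_pt Ω y j₁
  obtain ⟨hGPfin, hGPcard⟩ := hM Ω vb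
  have hS : Finite {t : X // t ∈ (Set.univ : Set X) ∧ f t = vb (IsLocalRing.closedPoint Ω)} :=
    finite_fibre_of_finite_GP Ω f Set.univ vb hGPfin
  have h1 := sInt_eq_sum_GP Ω f Set.univ w vb hS (fun t _ _ =>
    Groth.Agent.Lib.Helper6.EtLoc.finite_residueFieldMap_of_quasiFiniteAt f t (f.quasiFiniteAt t))
  rw [hv] at h1
  rw [h1]
  haveI := Fintype.ofFinite (GP Ω f Set.univ vb)
  rw [finsum_eq_sum_of_fintype]
  calc ∑ ab : GP Ω f Set.univ vb, w (ab.1 (IsLocalRing.closedPoint Ω))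
      ≤ ∑ _ab : GP Ω f Set.univ vb, Mw := Finset.sum_le_sum fun ab _ => hMw _
    _ = (Fintype.card (GP Ω f Set.univ vb) : ℤ) * Mw := by
        rw [Finset.sum_const, Finset.card_univ, nsmul_eq_mul]
    _ ≤ M * Mw := by
        apply mul_le_mul_of_nonneg_right _ hMw0
        rw [← Nat.card_eq_fintype_card]
        exact_mod_cast hGPcard

theorem S1427_main (f : X ⟶ Y) [LocallyQuasiFinite f] [LocallyOfFiniteType f]
    [CompactSpace X] (w : X → ℤ) (hw : MoreMor.IsWeighting f w) [Nonempty Y] :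
    ∃ y₀ : Y, ∀ y : Y, MoreMor.fibreIntegral f w y ≤ MoreMor.fibreIntegral f w y₀ := by
  obtain ⟨K, hK⟩ := exists_bound_sInt f w hw
  obtain ⟨ub, ⟨y₀, hy₀⟩, hub⟩ := Int.exists_greatest_of_bdd
    (P := fun z => ∃ y : Y, sInt f Set.univ w y = z)
    ⟨K, fun z ⟨y, hy⟩ => hy ▸ hK y⟩ ⟨_, Classical.arbitrary Y, rfl⟩
  refine ⟨y₀, fun y => ?_⟩
  rw [fibreIntegral_eq_sInt, fibreIntegral_eq_sInt, hy₀]
  exact hub _ ⟨y, rfl⟩

end GeomCount

end Groth.Agent.Lead.Wt
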