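import Mathlib
import Groth.Agent.Lib.Helper6.FFPts.AffineLine

/-!
# Points and zeta function of an affine space over a finite field (lead)
-/

set_option autoImplicit false
set_option linter.unusedSectionVars false
set_option linter.style.haveILetI false
universe u

open CategoryTheory AlgebraicGeometry

namespace Groth.Agent.Lead.ZetaPn

open Groth.Agent.Lib.Helper6.FFPts

variable (k : Type u) [Field k] (B : Type u) [CommRing B] [Algebra k B]
variable (K : Type u) [Field K] [Algebra k K]

/-- the structure morphism of the spectrum of a `k`-algebra -/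
noncomputable abbrev specStr : Spec (CommRingCat.of B) ⟶ Spec (CommRingCat.of k) :=
  Spec.map (CommRingCat.ofHom (algebraMap k B))

/-- `K`-points of `Spec B` are `k`-algebra maps `B → K` -/
noncomputable def ptsSpecEquiv : Pts (specStr k B) K ≃ (B →ₐ[k] K) where
  toFun g :=
    { toRingHom := (Spec.preimage g.1).hom
      commutes' := by
        intro r
        have h := g.2
        rw [← Spec.map_preimage g.1, ← Spec.map_comp] at h
        have h2 := Spec.map_injective h
        have h3 := congrArg (fun φ => φ.hom r) h2
        exact h3 }
  invFun φ := ⟨Spec.map (CommRingCat.ofHom φ.toRingHom), by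
    rw [← Spec.map_comp]
    congr 1
    ext r
    exact φ.commutes r⟩
  left_inv g := by
    apply Subtype.ext
    change Spec.map (CommRingCat.ofHom (Spec.preimage g.1).hom) = g.1
    exact Spec.map_preimage g.1
  right_inv φ := by
    apply AlgHom.ext
    intro b
    change (Spec.preimage (Spec.map (CommRingCat.ofHom φ.toRingHom))).hom b = φ b
    rw [Spec.preimage_map]
    rfl

variable (σ : Type) [Fintype σ]

/-- algebra maps out of a polynomial ring are tuples -/
noncomputable def algHomEquiv : (MvPolynomial σ k →ₐ[k] K) ≃ (σ → K) where
  toFun φ := fun j => φ (MvPolynomial.X j)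
  invFun v := MvPolynomial.aeval v
  left_inv φ := by
    apply MvPolynomial.algHom_ext
    intro j
    exact MvPolynomial.aeval_X _ j
  right_inv v := by
    funext j
    exact MvPolynomial.aeval_X v j

theorem card_pts_affine :
    Nat.card (Pts (specStr k (MvPolynomial σ k)) K) = Nat.card K ^ Fintype.card σ := by
  rw [Nat.card_congr ((ptsSpecEquiv k (MvPolynomial σ k) K).trans (algHomEquiv k K σ)),
    Nat.card_fun, Nat.card_eq_fintype_card (α := σ)]

instance : LocallyOfFiniteType (specStr k (MvPolynomial σ k)) := by
  rw [HasRingHomProperty.Spec_iff (P := @LocallyOfFiniteType)]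
  change (algebraMap k (MvPolynomial σ k)).FiniteType
  rw [RingHom.finiteType_algebraMap]
  infer_instance

theorem nPts_affine [Finite k] (m : ℕ) (hm : 0 < m) :
    Zeta.nPts (specStr k (MvPolynomial σ k)) m = (Nat.card k ^ Fintype.card σ) ^ m := by
  have h1 := pointCount_eq_nPts (specStr k (MvPolynomial σ k)) (ExtU k m hm)
  rw [finrank_extU] at h1
  rw [← h1, pointCount_eq, card_pts_affine,
    Module.natCard_eq_pow_finrank (K := k) (V := ExtU k m hm), finrank_extU, ← pow_mul, ← pow_mul,
    mul_comm]

end Groth.Agent.Lead.ZetaPn
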