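import Mathlib
import Groth.Agent.Lib.Helper6.ProjChart
import Groth.Agent.Lib.Lead.ZetaPn1

/-!
# The affine cells of projective space (lead)
-/

set_option autoImplicit false
set_option linter.unusedSectionVars false
set_option linter.style.haveILetI false
set_option maxHeartbeats 400000
universe u

open CategoryTheory AlgebraicGeometry HomogeneousLocalization

namespace Groth.Agent.Lead.ZetaPn

open Groth.Agent.Lib.Helper6.ProjChart

variable {n : ℕ} (k : Type u) [Field k] (i : Fin (n + 1))

/-- the index type of the chart `i` -/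
abbrev Jx (i : Fin (n + 1)) : Type := {j : Fin (n + 1) // j ≠ i}

/-- kill the variables beyond `i` -/
noncomputable def kill : MvPolynomial (Jx i) k →ₐ[k] MvPolynomial (Fin i.val) k :=
  MvPolynomial.aeval (fun j : Jx i =>
    if h : j.1.val < i.val then (MvPolynomial.X ⟨j.1.val, h⟩ : MvPolynomial (Fin i.val) k) else 0)

theorem kill_X_lt (j : Jx i) (h : j.1.val < i.val) :
    kill k i (MvPolynomial.X j) = MvPolynomial.X ⟨j.1.val, h⟩ := by
  unfold kill
  rw [MvPolynomial.aeval_X, dif_pos h]

theorem kill_X_gt (j : Jx i) (h : i.val < j.1.val) : kill k i (MvPolynomial.X j) = 0 := by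
  unfold kill
  rw [MvPolynomial.aeval_X, dif_neg (by omega)]

/-- the index of chart `i` attached to `l < i` -/
def idx (l : Fin i.val) : Jx i :=
  ⟨⟨l.val, by have := l.2; have := i.2; omega⟩, by
    intro h
    have h2 := congrArg Fin.val h
    have := l.2
    simp only at h2
    omega⟩

/-- the section of `kill` -/
noncomputable def sec : MvPolynomial (Fin i.val) k →ₐ[k] MvPolynomial (Jx i) k :=
  MvPolynomial.aeval (fun l : Fin i.val => (MvPolynomial.X (idx i l) : MvPolynomial (Jx i) k))

theorem kill_sec (p : MvPolynomial (Fin i.val) k) : kill k i (sec k i p) = p := by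
  have h : (kill k i).comp (sec k i) = AlgHom.id k _ := by
    apply MvPolynomial.algHom_ext
    intro l
    rw [AlgHom.comp_apply, AlgHom.id_apply]
    unfold sec
    rw [MvPolynomial.aeval_X, kill_X_lt k i (idx i l) l.2]
    rfl
  exact DFunLike.congr_fun h p

theorem kill_surjective : Function.Surjective (kill k i) := fun p => ⟨sec k i p, kill_sec k i p⟩

/-- the ideal of the variables beyond `i` -/
noncomputable def Jid : Ideal (MvPolynomial (Jx i) k) :=
  Ideal.span {p | ∃ j : Jx i, i.val < j.1.val ∧ p = MvPolynomial.X j}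

theorem sub_sec_kill_mem (p : MvPolynomial (Jx i) k) : p - sec k i (kill k i p) ∈ Jid k i := by
  induction p using MvPolynomial.induction_on with
  | C a =>
    have h : kill k i (MvPolynomial.C a) = MvPolynomial.C a := (kill k i).commutes a
    have h2 : sec k i (MvPolynomial.C a) = MvPolynomial.C a := (sec k i).commutes a
    rw [h, h2, sub_self]
    exact (Jid k i).zero_mem
  | add p q hp hq =>
    have : p + q - sec k i (kill k i (p + q)) =
        (p - sec k i (kill k i p)) + (q - sec k i (kill k i q)) := by
      rw [map_add, map_add]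
      ring
    rw [this]
    exact (Jid k i).add_mem hp hq
  | mul_X p j hp =>
    have hX : MvPolynomial.X j - sec k i (kill k i (MvPolynomial.X j)) ∈ Jid k i := by
      rcases lt_or_gt_of_ne (show j.1.val ≠ i.val from fun h => j.2 (Fin.ext h)) with h | h
      · rw [kill_X_lt k i j h]
        unfold sec
        rw [MvPolynomial.aeval_X]
        have : idx i ⟨j.1.val, h⟩ = j := Subtype.ext (Fin.ext rfl)
        rw [this, sub_self]
        exact (Jid k i).zero_mem
      · rw [kill_X_gt k i j h, map_zero, sub_zero]
        exact Ideal.subset_span ⟨j, h, rfl⟩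
    have : p * MvPolynomial.X j - sec k i (kill k i (p * MvPolynomial.X j)) =
        (p - sec k i (kill k i p)) * MvPolynomial.X j +
          sec k i (kill k i p) * (MvPolynomial.X j - sec k i (kill k i (MvPolynomial.X j))) := by
      rw [map_mul, map_mul]
      ring
    rw [this]
    exact (Jid k i).add_mem ((Jid k i).mul_mem_right _ hp) ((Jid k i).mul_mem_left _ hX)

theorem mem_Jid_of_kill_eq_zero (p : MvPolynomial (Jx i) k) (h : kill k i p = 0) : p ∈ Jid k i := by
  have := sub_sec_kill_mem k i p
  rwa [h, map_zero, sub_zero] at this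

/-- the chart as a ring isomorphism -/
noncomputable def phiEquiv :
    MvPolynomial (Jx i) k ≃+* Away (CohB1.polyGrading n k) (MvPolynomial.X i) :=
  RingEquiv.ofBijective (phi (R := k) i) (phi_bijective i)

/-- the ring map of the cell `i` -/
noncomputable def rho : Away (CohB1.polyGrading n k) (MvPolynomial.X i) →+*
    MvPolynomial (Fin i.val) k :=
  (kill k i).toRingHom.comp (phiEquiv k i).symm.toRingHom

theorem rho_phi (p : MvPolynomial (Jx i) k) : rho k i (phi (R := k) i p) = kill k i p := by
  unfold rho
  rw [RingHom.comp_apply]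
  have : (phiEquiv k i).symm.toRingHom (phi (R := k) i p) = p :=
    (phiEquiv k i).symm_apply_apply p
  rw [this]
  rfl

theorem rho_surjective : Function.Surjective (rho k i) := by
  intro p
  obtain ⟨q, rfl⟩ := kill_surjective k i p
  exact ⟨phi (R := k) i q, rho_phi k i q⟩

theorem mem_span_of_rho_eq_zero (a : Away (CohB1.polyGrading n k) (MvPolynomial.X i))
    (h : rho k i a = 0) :
    a ∈ Ideal.span {b | ∃ j : Jx i, i.val < j.1.val ∧ b = phi (R := k) i (MvPolynomial.X j)} := by
  obtain ⟨p, rfl⟩ := (phi_bijective (R := k) i).2 a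
  rw [rho_phi] at h
  have hp := mem_Jid_of_kill_eq_zero k i p h
  have hmap : Ideal.map (phi (R := k) i) (Jid k i) ≤
      Ideal.span {b | ∃ j : Jx i, i.val < j.1.val ∧ b = phi (R := k) i (MvPolynomial.X j)} := by
    unfold Jid
    rw [Ideal.map_span, Ideal.span_le]
    rintro _ ⟨p, ⟨j, hj, rfl⟩, rfl⟩
    exact Ideal.subset_span ⟨j, hj, rfl⟩
  exact hmap (Ideal.mem_map_of_mem _ hp)

end Groth.Agent.Lead.ZetaPn
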