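import Mathlib
import Groth.Agent.Lib.Lead.ZetaPn2

/-!
# The affine cells of projective space: the immersions and the partition (lead)
-/

set_option autoImplicit false
set_option linter.unusedSectionVars false
set_option linter.style.haveILetI false
set_option maxHeartbeats 400000
universe u

open CategoryTheory AlgebraicGeometry HomogeneousLocalization

namespace Groth.Agent.Lead.ZetaPn

open Groth.Agent.Lib.Helper6.ProjChart

variable {n : ℕ} (k : Type u) [Field k] (i : Fin (n + 1))

theorem Xdeg (j : Fin (n + 1)) :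
    (MvPolynomial.X j : MvPolynomial (Fin (n + 1)) k) ∈ CohB1.polyGrading n k 1 :=
  (MvPolynomial.mem_homogeneousSubmodule _ _).2 (MvPolynomial.isHomogeneous_X k j)

/-- the chart -/
noncomputable abbrev chart :
    Spec (CommRingCat.of (Away (CohB1.polyGrading n k) (MvPolynomial.X i))) ⟶
      Proj (CohB1.polyGrading n k) :=
  Proj.awayι (CohB1.polyGrading n k) (MvPolynomial.X i) (Xdeg k i) one_pos

/-- the immersion of the cell `i` -/
noncomputable def cellMap :
    Spec (CommRingCat.of (MvPolynomial (Fin i.val) k)) ⟶ Proj (CohB1.polyGrading n k) :=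
  Spec.map (CommRingCat.ofHom (rho k i)) ≫ chart k i

/-- the structure morphism of projective space, on `Proj` -/
noncomputable abbrev toSpec' : Proj (CohB1.polyGrading n k) ⟶ Spec (CommRingCat.of k) :=
  Proj.toSpecZero (CohB1.polyGrading n k) ≫
    Spec.map (CommRingCat.ofHom (algebraMap k (CohB1.polyGrading n k 0)))

theorem toSpec_eq : CohB1.ProjSpace.toSpec n k = toSpec' k := rfl

instance : IsImmersion (cellMap k i) := by
  haveI : IsClosedImmersion (Spec.map (CommRingCat.ofHom (rho k i))) :=
    IsClosedImmersion.spec_of_surjective _ (rho_surjective k i)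
  unfold cellMap
  infer_instance

theorem phi_C (r : k) : phi (R := k) i (MvPolynomial.C r) =
    fromZeroRingHom (CohB1.polyGrading n k) (Submonoid.powers (MvPolynomial.X i))
      (algebraMap k (CohB1.polyGrading n k 0) r) := by
  unfold phi
  rw [MvPolynomial.eval₂Hom_C]
  rfl

theorem cellMap_toSpec :
    cellMap k i ≫ toSpec' k = specStr k (MvPolynomial (Fin i.val) k) := by
  unfold cellMap toSpec' specStr
  rw [Category.assoc, Proj.awayι_toSpecZero_assoc, ← Spec.map_comp, ← Spec.map_comp]
  congr 1
  apply CommRingCat.hom_ext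
  apply RingHom.ext
  intro r
  change rho k i (fromZeroRingHom (CohB1.polyGrading n k) (Submonoid.powers (MvPolynomial.X i))
      (algebraMap k (CohB1.polyGrading n k 0) r)) = algebraMap k (MvPolynomial (Fin i.val) k) r
  rw [← phi_C, rho_phi]
  exact (kill k i).commutes r

end Groth.Agent.Lead.ZetaPn

namespace Groth.Agent.Lead.ZetaPn

open Groth.Agent.Lib.Helper6.ProjChart

variable {n : ℕ} (k : Type u) [Field k] (i : Fin (n + 1))

theorem elem_eq (j : Jx i) :
    Away.isLocalizationElem (Xdeg k i) (Xdeg k j.1) = phi (R := k) i (MvPolynomial.X j) := by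
  apply HomogeneousLocalization.val_injective
  unfold phi
  rw [MvPolynomial.eval₂Hom_X', Away.val_mk, val_mk]
  simp only [pow_one]

end Groth.Agent.Lead.ZetaPn

namespace Groth.Agent.Lead.ZetaPn

open Groth.Agent.Lib.Helper6.ProjChart

variable {n : ℕ} (k : Type u) [Field k] (i : Fin (n + 1))

theorem chart_mem_basicOpen_iff
    (y : Spec (CommRingCat.of (Away (CohB1.polyGrading n k) (MvPolynomial.X i)))) (j : Jx i) :
    (chart k i).base y ∈ Proj.basicOpen (CohB1.polyGrading n k) (MvPolynomial.X j.1) ↔
      phi (R := k) i (MvPolynomial.X j) ∉ y.asIdeal := by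
  have h := Proj.awayι_preimage_basicOpen (CohB1.polyGrading n k) (Xdeg k i) one_pos
    (Xdeg k j.1) one_pos
  have h2 : y ∈ (chart k i) ⁻¹ᵁ Proj.basicOpen (CohB1.polyGrading n k) (MvPolynomial.X j.1) ↔
      y ∈ PrimeSpectrum.basicOpen (Away.isLocalizationElem (Xdeg k i) (Xdeg k j.1)) := by
    rw [h]
    exact Iff.rfl
  rw [← elem_eq]
  exact h2

theorem chart_mem_basicOpen_self
    (y : Spec (CommRingCat.of (Away (CohB1.polyGrading n k) (MvPolynomial.X i)))) :
    (chart k i).base y ∈ Proj.basicOpen (CohB1.polyGrading n k) (MvPolynomial.X i) := by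
  have h := Proj.opensRange_awayι (CohB1.polyGrading n k) (MvPolynomial.X i) (Xdeg k i) one_pos
  have h2 : (chart k i).base y ∈ (chart k i).opensRange := ⟨y, rfl⟩
  rw [h] at h2
  exact h2

theorem cellMap_apply (z : Spec (CommRingCat.of (MvPolynomial (Fin i.val) k))) :
    (cellMap k i).base z =
      (chart k i).base ((Spec.map (CommRingCat.ofHom (rho k i))).base z) := rfl

theorem mem_specMap_iff (z : Spec (CommRingCat.of (MvPolynomial (Fin i.val) k)))
    (a : Away (CohB1.polyGrading n k) (MvPolynomial.X i)) :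
    a ∈ ((Spec.map (CommRingCat.ofHom (rho k i))).base z).asIdeal ↔ rho k i a ∈ z.asIdeal :=
  Iff.rfl

theorem exists_comap_eq (y : PrimeSpectrum (Away (CohB1.polyGrading n k) (MvPolynomial.X i)))
    (h : ∀ j : Jx i, i.val < j.1.val → phi (R := k) i (MvPolynomial.X j) ∈ y.asIdeal) :
    ∃ z : PrimeSpectrum (MvPolynomial (Fin i.val) k), PrimeSpectrum.comap (rho k i) z = y := by
  have hy : y ∈ Set.range (PrimeSpectrum.comap (rho k i)) := by
    rw [range_comap_of_surjective _ _ (rho_surjective k i), PrimeSpectrum.mem_zeroLocus]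
    intro a ha
    have ha' : rho k i a = 0 := ha
    have hs := mem_span_of_rho_eq_zero k i a ha'
    refine (Ideal.span_le.2 ?_) hs
    rintro _ ⟨j, hj', rfl⟩
    exact h j hj'
  exact hy

theorem mem_range_cellMap_iff (x : Proj (CohB1.polyGrading n k)) :
    x ∈ Set.range (cellMap k i).base ↔
      x ∈ Proj.basicOpen (CohB1.polyGrading n k) (MvPolynomial.X i) ∧
        ∀ j : Jx i, i.val < j.1.val →
          x ∉ Proj.basicOpen (CohB1.polyGrading n k) (MvPolynomial.X j.1) := by
  constructor
  · rintro ⟨z, rfl⟩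
    rw [cellMap_apply]
    refine ⟨chart_mem_basicOpen_self k i _, fun j hj => ?_⟩
    intro hc
    have h1 := (chart_mem_basicOpen_iff k i _ j).1 hc
    apply h1
    rw [mem_specMap_iff, rho_phi, kill_X_gt k i j hj]
    exact z.asIdeal.zero_mem
  · rintro ⟨hx, hj⟩
    have h := Proj.opensRange_awayι (CohB1.polyGrading n k) (MvPolynomial.X i) (Xdeg k i) one_pos
    rw [← h] at hx
    obtain ⟨y, rfl⟩ := hx
    obtain ⟨z, hz⟩ := exists_comap_eq k i y (fun j hj' => by
      by_contra hc
      exact hj j hj' ((chart_mem_basicOpen_iff k i y j).2 hc))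
    exact ⟨z, congrArg (chart k i).base hz⟩


end Groth.Agent.Lead.ZetaPn
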