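import Mathlib
import Groth.Agent.Lib.Lead.ZetaPn3
import Groth.Agent.Lib.Helper6.ZetaFormal
import Groth.Agent.Lib.Helper1.VA5

/-!
# The zeta function of projective space over a finite field (lead)
-/

set_option autoImplicit false
set_option linter.unusedSectionVars false
set_option linter.style.haveILetI false
set_option maxHeartbeats 400000
universe u

open CategoryTheory AlgebraicGeometry HomogeneousLocalization

namespace Groth.Agent.Lead.ZetaPn

open Groth.Agent.Lib.Helper6.ProjChart Groth.Agent.Lib.Helper6.FFPts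

variable {n : ℕ} (k : Type u) [Field k]

theorem existsUnique_cell (x : Proj (CohB1.polyGrading n k)) :
    ∃! i : Fin (n + 1), x ∈ Set.range (cellMap k i).base := by
  classical
  let T : Finset (Fin (n + 1)) := Finset.univ.filter fun j =>
    x ∈ Proj.basicOpen (CohB1.polyGrading n k) (MvPolynomial.X j)
  have hT : T.Nonempty := by
    have hx : x ∈ (⨆ j : Fin (n + 1), Proj.basicOpen (CohB1.polyGrading n k)
        (MvPolynomial.X j)) := by
      rw [cover n k]
      trivial
    obtain ⟨j, hj⟩ := TopologicalSpace.Opens.mem_iSup.1 hx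
    exact ⟨j, Finset.mem_filter.2 ⟨Finset.mem_univ _, hj⟩⟩
  refine ⟨T.max' hT, ?_, ?_⟩
  · change x ∈ Set.range (cellMap k (T.max' hT)).base
    rw [mem_range_cellMap_iff]
    refine ⟨(Finset.mem_filter.1 (T.max'_mem hT)).2, fun j hj hc => ?_⟩
    have hjT : j.1 ∈ T := Finset.mem_filter.2 ⟨Finset.mem_univ _, hc⟩
    have := T.le_max' j.1 hjT
    exact absurd (Fin.le_def.1 this) (by omega)
  · intro i hi
    rw [mem_range_cellMap_iff] at hi
    have hiT : i ∈ T := Finset.mem_filter.2 ⟨Finset.mem_univ _, hi.1⟩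
    have h1 := T.le_max' i hiT
    rcases eq_or_lt_of_le h1 with h | h
    · exact h
    · exfalso
      have hne : T.max' hT ≠ i := fun e => by rw [e] at h; exact lt_irrefl _ h
      exact hi.2 ⟨T.max' hT, hne⟩ (Fin.lt_def.1 h) (Finset.mem_filter.1 (T.max'_mem hT)).2

end Groth.Agent.Lead.ZetaPn

namespace Groth.Agent.Lead.ZetaPn

open Groth.Agent.Lib.Helper6.ProjChart Groth.Agent.Lib.Helper6.FFPts
open PowerSeries Groth.Agent.Lib.Helper6.PSLogDeriv Groth.Agent.Lib.Helper6.ZetaFormal

variable {n : ℕ} (k : Type u) [Field k]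

instance : LocallyOfFiniteType (toSpec' (n := n) k) :=
  Groth.Agent.Helper1.VA5.locallyOfFiniteType_toSpec n k

instance : QuasiCompact (toSpec' (n := n) k) := by
  haveI : IsProper (toSpec' (n := n) k) := Groth.Agent.Helper1.VA5.isProper_toSpec n k
  infer_instance

theorem nPts_projSpace [Finite k] (m : ℕ) (hm : 0 < m) :
    Zeta.nPts (toSpec' (n := n) k) m = ∑ i ∈ Finset.range (n + 1), (Nat.card k ^ i) ^ m := by
  have hpart : ∀ x : Proj (CohB1.polyGrading n k), IsClosed ({x} : Set _) →
      ∃! i : ULift.{u} (Fin (n + 1)), x ∈ Set.range (cellMap k i.down).base := by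
    intro x _
    obtain ⟨i, hi, hu⟩ := existsUnique_cell k x
    exact ⟨ULift.up i, hi, fun j hj => ULift.ext _ _ (hu j.down hj)⟩
  rw [nPts_partition (toSpec' (n := n) k)
    (fun i : ULift.{u} (Fin (n + 1)) => Spec (CommRingCat.of (MvPolynomial (Fin i.down.val) k)))
    (fun i => cellMap k i.down) hpart m]
  have h1 : ∀ i : ULift.{u} (Fin (n + 1)),
      Zeta.nPts (cellMap k i.down ≫ toSpec' (n := n) k) m = (Nat.card k ^ i.down.val) ^ m := by
    intro i
    rw [cellMap_toSpec, nPts_affine k (Fin i.down.val) m hm, Fintype.card_fin]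
  rw [Finset.sum_congr rfl fun i _ => h1 i]
  rw [← Equiv.ulift.symm.sum_comp (fun i : ULift.{u} (Fin (n + 1)) => (Nat.card k ^ i.down.val) ^ m)]
  exact Fin.sum_univ_eq_sum_range (fun i => (Nat.card k ^ i) ^ m) (n + 1)

end Groth.Agent.Lead.ZetaPn
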