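import Mathlib
import Groth.Agent.Lib.Lead.ZetaPn4

set_option backward.isDefEq.respectTransparency.types false
set_option synthInstance.maxHeartbeats 400000
set_option linter.style.haveILetI false
set_option linter.unusedSectionVars false

universe u

open CategoryTheory AlgebraicGeometry

namespace Groth.Agent.Lead.ZetaPn

open PowerSeries Groth.Agent.Lib.Helper6.PSLogDeriv Groth.Agent.Lib.Helper6.ZetaFormal

variable {n : ℕ} (k : Type u) [Field k]

theorem zeta_projSpace [Finite k] :
    Zeta.zetaFun (toSpec' (n := n) k) *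
        ∏ i ∈ Finset.range (n + 1), (1 - PowerSeries.C ((Nat.card k : ℚ) ^ i) * PowerSeries.X) = 1 := by
  have h1 : IsLD (Zeta.zetaFun (toSpec' (n := n) k)) (d⁄dX ℚ (Zeta.logZeta (toSpec' (n := n) k))) :=
    isLD_zetaFun _
  have h2 : IsLD (∏ i ∈ Finset.range (n + 1),
      (1 - PowerSeries.C ((Nat.card k : ℚ) ^ i) * PowerSeries.X))
      (∑ i ∈ Finset.range (n + 1), geomLD ((Nat.card k : ℚ) ^ i) 1) := by
    refine IsLD.prod _ _ _ fun i _ => ?_
    have := IsLD.one_sub ((Nat.card k : ℚ) ^ i) 1 le_rfl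
    rwa [pow_one] at this
  have h3 := h1.mul h2
  have h4 : d⁄dX ℚ (Zeta.logZeta (toSpec' (n := n) k)) +
      ∑ i ∈ Finset.range (n + 1), geomLD ((Nat.card k : ℚ) ^ i) 1 = 0 := by
    ext m
    rw [map_add, coeff_deriv_logZeta, nPts_projSpace k (m + 1) (Nat.succ_pos m), map_sum,
      map_zero]
    push_cast
    rw [← Finset.sum_add_distrib]
    refine Finset.sum_eq_zero fun i _ => ?_
    rw [coeff_geomLD, if_pos (one_dvd _), Nat.div_one]
    push_cast
    ring
  rw [h4] at h3
  refine h3.ext IsLD.one ?_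
  rw [map_mul, constantCoeff_zetaFun, map_prod, map_one, one_mul]
  refine Finset.prod_eq_one fun i _ => ?_
  simp

end Groth.Agent.Lead.ZetaPn
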